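import Mathlib

set_option autoImplicit false

/-!
Basic subgroup / conjugation / cardinality lemmas used throughout.
-/

namespace Cfsg.Agent.Helper1

open scoped Pointwise

variable {G : Type*} [Group G]

theorem mem_conj_smul {H : Subgroup G} {g x : G} :
    x ∈ MulAut.conj g • H ↔ g⁻¹ * x * g ∈ H := by
  rw [Subgroup.mem_pointwise_smul_iff_inv_smul_mem]
  simp [MulAut.smul_def, MulAut.conj_apply, ← map_inv]

theorem conj_mem_conj_smul {H : Subgroup G} {g x : G} (hx : x ∈ H) :
    g * x * g⁻¹ ∈ MulAut.conj g • H := by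
  rw [mem_conj_smul]
  simpa [mul_assoc] using hx

theorem conj_smul_eq_map (g : G) (H : Subgroup G) :
    MulAut.conj g • H = H.map (MulAut.conj g).toMonoidHom := rfl

theorem map_conj_smul {G' : Type*} [Group G'] (f : G →* G') (g : G) (H : Subgroup G) :
    (MulAut.conj g • H).map f = MulAut.conj (f g) • H.map f := by
  rw [conj_smul_eq_map, conj_smul_eq_map, Subgroup.map_map, Subgroup.map_map]
  congr 1
  ext x
  simp [MulAut.conj_apply]

theorem card_conj_smul (g : G) (H : Subgroup G) :
    Nat.card (MulAut.conj g • H : Subgroup G) = Nat.card H :=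
  (Nat.card_congr (Subgroup.equivSMul (MulAut.conj g) H).toEquiv).symm

theorem card_subgroupOf_of_le {H L : Subgroup G} (h : H ≤ L) :
    Nat.card (H.subgroupOf L) = Nat.card H :=
  Nat.card_congr (Subgroup.subgroupOfEquivOfLe h).toEquiv

theorem card_subgroupOf (H L : Subgroup G) :
    Nat.card (H.subgroupOf L) = Nat.card (H ⊓ L : Subgroup G) := by
  rw [← Subgroup.inf_subgroupOf_right, card_subgroupOf_of_le inf_le_right]

/-- If `conj l • (H.subgroupOf L) = K.subgroupOf L` in `L`, with `H, K ≤ L`, then `conj l • H = K`. -/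
theorem conj_smul_eq_of_subgroupOf {L H K : Subgroup G} (hH : H ≤ L) (hK : K ≤ L) (l : L)
    (h : MulAut.conj l • H.subgroupOf L = K.subgroupOf L) : MulAut.conj (l : G) • H = K := by
  have h1 := congrArg (Subgroup.map L.subtype) h
  rw [map_conj_smul, Subgroup.subgroupOf_map_subtype, Subgroup.subgroupOf_map_subtype,
    inf_eq_left.2 hH, inf_eq_left.2 hK] at h1
  exact h1

theorem card_map_of_disjoint_ker {G' : Type*} [Group G'] (f : G →* G') (H : Subgroup G)
    (h : H ⊓ f.ker = ⊥) : Nat.card (H.map f) = Nat.card H := by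
  rw [← Subgroup.relIndex_ker, ← Subgroup.inf_relIndex_right, inf_comm, h, Subgroup.relIndex_bot_left]

theorem card_map_mk'_of_disjoint (N H : Subgroup G) [N.Normal] (h : H ⊓ N = ⊥) :
    Nat.card (H.map (QuotientGroup.mk' N)) = Nat.card H :=
  card_map_of_disjoint_ker _ _ (by rwa [QuotientGroup.ker_mk'])

theorem relIndex_mul_card_of_le {H L : Subgroup G} (h : H ≤ L) :
    H.relIndex L * Nat.card H = Nat.card L := by
  rw [Subgroup.relIndex, ← card_subgroupOf_of_le h]
  exact Subgroup.index_mul_card _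

theorem card_sup_of_disjoint_normal (H N : Subgroup G) [N.Normal] (h : H ⊓ N = ⊥) :
    Nat.card (H ⊔ N : Subgroup G) = Nat.card H * Nat.card N := by
  rw [← relIndex_mul_card_of_le (le_sup_right : N ≤ H ⊔ N), Subgroup.relIndex_sup_right,
    ← Subgroup.inf_relIndex_right, inf_comm, h, Subgroup.relIndex_bot_left]

theorem inf_eq_bot_of_coprime_card {H K : Subgroup G}
    (h : (Nat.card H).Coprime (Nat.card K)) : H ⊓ K = ⊥ :=
  (Subgroup.disjoint_of_coprime_natCard h).eq_bot

/-- From conjugacy of images in a quotient to equality of joins. -/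
theorem exists_conj_sup_eq_of_map_mk' {N : Subgroup G} [N.Normal] {H K : Subgroup G}
    (q : G ⧸ N)
    (h : MulAut.conj q • H.map (QuotientGroup.mk' N) = K.map (QuotientGroup.mk' N)) :
    ∃ g : G, (MulAut.conj g • H) ⊔ N = K ⊔ N := by
  obtain ⟨g, rfl⟩ := QuotientGroup.mk_surjective q
  refine ⟨g, ?_⟩
  have h1 : (MulAut.conj g • H).map (QuotientGroup.mk' N) = K.map (QuotientGroup.mk' N) := by
    rw [map_conj_smul]; exact h
  have h2 := congrArg (Subgroup.comap (QuotientGroup.mk' N)) h1
  rwa [Subgroup.comap_map_eq, Subgroup.comap_map_eq, QuotientGroup.ker_mk'] at h2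

theorem card_lt_card_of_lt [Finite G] {H K : Subgroup G} (h : H < K) : Nat.card H < Nat.card K := by
  have h1 : Nat.card H ≤ Nat.card K := Subgroup.card_le_of_le h.le
  rcases h1.lt_or_eq with h2 | h2
  · exact h2
  · exact absurd (Subgroup.eq_of_le_of_card_ge h.le h2.ge) h.ne

theorem le_normalizer_inf_normal (H M : Subgroup G) [hM : M.Normal] :
    H ≤ Subgroup.normalizer ((H ⊓ M : Subgroup G) : Set G) := by
  intro h hh
  rw [Subgroup.mem_normalizer_iff]
  intro x
  constructor
  · rintro ⟨hx1, hx2⟩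
    exact ⟨H.mul_mem (H.mul_mem hh hx1) (H.inv_mem hh), hM.conj_mem x hx2 h⟩
  · rintro ⟨hx1, hx2⟩
    refine ⟨?_, ?_⟩
    · have := H.mul_mem (H.mul_mem (H.inv_mem hh) hx1) hh
      simpa [mul_assoc] using this
    · have := hM.conj_mem _ hx2 h⁻¹
      simpa [mul_assoc] using this

end Cfsg.Agent.Helper1
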