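import Mathlib
import Cfsg.Agent.Helper1.Basic

set_option autoImplicit false

/-!
Schur–Zassenhaus: conjugacy of complements.
-/

namespace Cfsg.Agent.Helper1

open scoped Pointwise
open MulOpposite

universe u

section Abelian

variable {G : Type*} [Group G]

/-- For a normal Hall subgroup, complements are exactly the subgroups of order equal to the index. -/
theorem isComplement'_iff_card_eq_index [Finite G] {N H : Subgroup G}
    (hN : (Nat.card N).Coprime N.index) : N.IsComplement' H ↔ Nat.card H = N.index := by
  constructor
  · intro h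
    have h1 := h.card_mul_card
    have h2 := N.card_mul_index
    have hpos : 0 < Nat.card N := Nat.card_pos
    exact Nat.eq_of_mul_eq_mul_left hpos (h1.trans h2.symm)
  · intro h
    apply Subgroup.isComplement'_of_coprime
    · rw [h]; exact N.card_mul_index
    · rw [h]; exact hN

/-- The class of a complement (viewed as a transversal) in `QuotientDiff`. -/
noncomputable def complClass (A : Subgroup G) [A.Normal] [IsMulCommutative A] [A.FiniteIndex]
    (L : Subgroup G) (hL : A.IsComplement' L) : A.QuotientDiff :=
  Quotient.mk'' (⟨L, hL.symm⟩ : A.LeftTransversal)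

theorem stabilizer_complClass [Finite G] (A : Subgroup G) [A.Normal] [IsMulCommutative A]
    (hA : (Nat.card A).Coprime A.index) (L : Subgroup G) (hL : A.IsComplement' L) :
    MulAction.stabilizer G (complClass A L hL) = L := by
  have hle : L ≤ MulAction.stabilizer G (complClass A L hL) := by
    intro l hl
    rw [MulAction.mem_stabilizer_iff]
    change Quotient.mk'' (op l⁻¹ • (⟨L, hL.symm⟩ : A.LeftTransversal)) = _
    unfold complClass
    congr 1
    apply Subtype.ext
    change op l⁻¹ • (L : Set G) = L
    exact op_smul_coe_set (L.inv_mem hl)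
  have hcomp : A.IsComplement' (MulAction.stabilizer G (complClass A L hL)) :=
    Subgroup.isComplement'_stabilizer_of_coprime hA
  have h1 := (isComplement'_iff_card_eq_index hA).1 hcomp
  have h2 := (isComplement'_iff_card_eq_index hA).1 hL
  exact (Subgroup.eq_of_le_of_card_ge hle (by rw [h1, h2])).symm

/-- Abelian case of the conjugacy part of Schur–Zassenhaus, conjugating element in `A`. -/
theorem sz_conj_abelian [Finite G] (A : Subgroup G) [A.Normal] [IsMulCommutative A]
    (hA : (Nat.card A).Coprime A.index) (H K : Subgroup G)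
    (hH : A.IsComplement' H) (hK : A.IsComplement' K) :
    ∃ a ∈ A, MulAut.conj a • H = K := by
  obtain ⟨a, ha⟩ := Subgroup.exists_smul_eq hA (complClass A H hH) (complClass A K hK)
  refine ⟨a, a.2, ?_⟩
  have h1 := MulAction.stabilizer_smul_eq_stabilizer_map_conj (a : G) (complClass A H hH)
  have h2 : (a : G) • (complClass A H hH) = complClass A K hK := ha
  rw [h2, stabilizer_complClass A hA K hK, stabilizer_complClass A hA H hH] at h1
  exact h1.symm

end Abelian

section General

/-- Conjugacy in Schur–Zassenhaus when the normal Hall subgroup is solvable (cardinality form). -/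
theorem sz_conj_of_solvable_normal_aux : ∀ (n : ℕ) (G : Type u) [Group G] [Finite G],
    Nat.card G = n → ∀ (N : Subgroup G) [N.Normal], (Nat.card N).Coprime N.index →
    Group.IsSolvable N → ∀ H K : Subgroup G, Nat.card H = N.index → Nat.card K = N.index →
    ∃ g : G, MulAut.conj g • H = K := by
  intro n
  induction n using Nat.strong_induction_on with
  | _ n ih =>
    intro G _ _ hG N _ hcop hsolv H K hH hK
    by_cases hN : N = ⊥
    · have hidx : N.index = Nat.card G := by rw [hN, Subgroup.index_bot]
      have hHtop : H = ⊤ := (Subgroup.card_eq_iff_eq_top H).1 (hH.trans hidx)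
      have hKtop : K = ⊤ := (Subgroup.card_eq_iff_eq_top K).1 (hK.trans hidx)
      refine ⟨1, ?_⟩
      rw [hHtop, hKtop, map_one, one_smul]
    · -- derived subgroup of N
      set N' : Subgroup G := ⁅N, N⁆ with hN'
      have hN'n : N'.Normal := inferInstance
      have hN'le : N' ≤ N := Subgroup.commutator_le_self N
      have hNnt : Nontrivial N := (Subgroup.nontrivial_iff_ne_bot N).2 hN
      have hN'ne : N' ≠ N := by
        intro h
        have h1 : (commutator N).map N.subtype = (⊤ : Subgroup N).map N.subtype := by
          rw [Subgroup.map_subtype_commutator, ← hN', h, ← MonoidHom.range_eq_map,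
            Subgroup.range_subtype]
        have h2 : commutator N = ⊤ := Subgroup.map_injective N.subtype_injective h1
        exact (Group.IsSolvable.commutator_lt_top_of_nontrivial N).ne h2
      have hN'lt : N' < N := lt_of_le_of_ne hN'le hN'ne
      set π := QuotientGroup.mk' N' with hπ
      have hπs : Function.Surjective π := QuotientGroup.mk'_surjective N'
      set Nb : Subgroup (G ⧸ N') := N.map π with hNb
      have hNbn : Nb.Normal := Subgroup.Normal.map inferInstance π hπs
      have hNbc : IsMulCommutative Nb := by
        have h1 : ⁅Nb, Nb⁆ = ⊥ := by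
          rw [hNb, ← Subgroup.map_commutator, ← hN']
          exact QuotientGroup.map_mk'_self N'
        rw [Subgroup.commutator_eq_bot_iff_le_centralizer] at h1
        exact Subgroup.le_centralizer_iff_isMulCommutative.1 h1
      have hNbidx : Nb.index = N.index :=
        Subgroup.index_map_eq _ hπs (by rw [QuotientGroup.ker_mk']; exact hN'le)
      have hNbcop : (Nat.card Nb).Coprime Nb.index := by
        rw [hNbidx]
        exact hcop.coprime_dvd_left (Subgroup.card_map_dvd _ _)
      have hcopN' : ∀ X : Subgroup G, Nat.card X = N.index → X ⊓ N' = ⊥ := by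
        intro X hX
        apply inf_eq_bot_of_coprime_card
        rw [hX]
        exact (hcop.coprime_dvd_left (Subgroup.card_dvd_of_le hN'le)).symm
      have hHb : Nat.card (H.map π) = Nb.index := by
        rw [card_map_mk'_of_disjoint N' H (hcopN' H hH), hNbidx, hH]
      have hKb : Nat.card (K.map π) = Nb.index := by
        rw [card_map_mk'_of_disjoint N' K (hcopN' K hK), hNbidx, hK]
      obtain ⟨q, -, hq⟩ := sz_conj_abelian Nb hNbcop (H.map π) (K.map π)
        ((isComplement'_iff_card_eq_index hNbcop).2 hHb)
        ((isComplement'_iff_card_eq_index hNbcop).2 hKb)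
      obtain ⟨g, hg⟩ := exists_conj_sup_eq_of_map_mk' q hq
      set H₁ := MulAut.conj g • H with hH₁
      have hH₁card : Nat.card H₁ = N.index := by rw [hH₁, card_conj_smul, hH]
      set L := K ⊔ N' with hL
      have hH₁L : H₁ ≤ L := le_sup_left.trans hg.le
      have hKL : K ≤ L := le_sup_left
      have hN'L : N' ≤ L := le_sup_right
      have hLcard : Nat.card L = Nat.card K * Nat.card N' :=
        card_sup_of_disjoint_normal K N' (hcopN' K hK)
      have hLlt : Nat.card L < n := by
        rw [hLcard, ← hG, ← N.card_mul_index, hK, mul_comm]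
        have hpos : 0 < N.index := Nat.pos_of_ne_zero Subgroup.index_ne_zero_of_finite
        exact Nat.mul_lt_mul_of_pos_right (card_lt_card_of_lt hN'lt) hpos
      -- apply the induction hypothesis inside L
      have hN'Ln : (N'.subgroupOf L).Normal := Subgroup.normal_subgroupOf
      have hN'Lcard : Nat.card (N'.subgroupOf L) = Nat.card N' := card_subgroupOf_of_le hN'L
      have hN'Lidx : (N'.subgroupOf L).index = N.index := by
        have h1 := (N'.subgroupOf L).card_mul_index
        rw [hN'Lcard, hLcard, mul_comm, hK] at h1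
        have hpos : 0 < Nat.card N' := Nat.card_pos
        exact Nat.eq_of_mul_eq_mul_right hpos h1
      have hcopL : (Nat.card (N'.subgroupOf L)).Coprime (N'.subgroupOf L).index := by
        rw [hN'Lcard, hN'Lidx]
        exact hcop.coprime_dvd_left (Subgroup.card_dvd_of_le hN'le)
      have hsolvL : Group.IsSolvable (N'.subgroupOf L) := by
        have e : N'.subgroupOf L ≃* N' := Subgroup.subgroupOfEquivOfLe hN'L
        have hsolvN' : Group.IsSolvable N' :=
          Group.isSolvable_of_isSolvable_injective (Subgroup.inclusion_injective hN'le)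
        exact Group.isSolvable_of_isSolvable_injective (f := e.toMonoidHom) e.injective
      obtain ⟨l, hl⟩ := ih (Nat.card L) hLlt L rfl (N'.subgroupOf L) hcopL hsolvL
        (H₁.subgroupOf L) (K.subgroupOf L)
        (by rw [card_subgroupOf_of_le hH₁L, hH₁card, hN'Lidx])
        (by rw [card_subgroupOf_of_le hKL, hK, hN'Lidx])
      have hfin := conj_smul_eq_of_subgroupOf hH₁L hKL l hl
      refine ⟨(l : G) * g, ?_⟩
      rw [map_mul, mul_smul]
      exact hfin

/-- A nontrivial finite solvable group has a nontrivial normal `p`-subgroup for some prime `p`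
(indeed an elementary abelian one). -/
theorem exists_normal_pgroup_of_solvable (Q : Type*) [Group Q] [Finite Q] [hQ : Group.IsSolvable Q]
    [Nontrivial Q] :
    ∃ (p : ℕ) (_ : Fact p.Prime) (M : Subgroup Q), M.Normal ∧ M ≠ ⊥ ∧ IsPGroup p M ∧
      IsMulCommutative M ∧ ∀ x ∈ M, x ^ p = 1 := by
  classical
  have hex : ∃ n, derivedSeries Q n = ⊥ := (Group.isSolvable_def Q).1 hQ
  have hk0 : Nat.find hex ≠ 0 := by
    intro h0
    have := Nat.find_spec hex
    rw [h0, derivedSeries_zero] at this
    exact top_ne_bot this
  obtain ⟨j, hj⟩ := Nat.exists_eq_succ_of_ne_zero hk0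
  have hj1 : derivedSeries Q (j + 1) = ⊥ := by
    have := Nat.find_spec hex
    rwa [hj] at this
  have hj2 : derivedSeries Q j ≠ ⊥ := Nat.find_min hex (by omega)
  set A := derivedSeries Q j with hA
  have hAn : A.Normal := inferInstance
  have hcomm_bot : ⁅A, A⁆ = ⊥ := by rw [hA, ← derivedSeries_succ]; exact hj1
  have hab : IsMulCommutative A := by
    rw [Subgroup.commutator_eq_bot_iff_le_centralizer] at hcomm_bot
    exact Subgroup.le_centralizer_iff_isMulCommutative.1 hcomm_bot
  have hcard : Nat.card A ≠ 1 := fun h => hj2 (Subgroup.card_eq_one.1 h)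
  obtain ⟨p, hp, hpd⟩ := Nat.exists_prime_and_dvd hcard
  have hpf : Fact p.Prime := ⟨hp⟩
  have hmul : ∀ a ∈ A, ∀ b ∈ A, a * b = b * a := fun a ha b hb => by
    have := hab.is_comm.comm (⟨a, ha⟩ : A) ⟨b, hb⟩
    exact congrArg Subtype.val this
  let Ω : Subgroup Q :=
    { carrier := {x | x ∈ A ∧ x ^ p = 1}
      mul_mem' := by
        rintro a b ⟨ha, ha'⟩ ⟨hb, hb'⟩
        refine ⟨A.mul_mem ha hb, ?_⟩
        rw [(Commute.mul_pow (hmul a ha b hb) p), ha', hb', one_mul]
      one_mem' := ⟨A.one_mem, one_pow _⟩
      inv_mem' := by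
        rintro a ⟨ha, ha'⟩
        exact ⟨A.inv_mem ha, by rw [inv_pow, ha', inv_one]⟩ }
  have hΩn : Ω.Normal := by
    refine ⟨fun x hx g => ?_⟩
    obtain ⟨hx1, hx2⟩ := hx
    refine ⟨hAn.conj_mem x hx1 g, ?_⟩
    rw [conj_pow, hx2, mul_one, mul_inv_cancel]
  obtain ⟨y, hy⟩ := exists_prime_orderOf_dvd_card' p hpd
  have hΩne : Ω ≠ ⊥ := by
    intro h
    have hy1 : (y : Q) ∈ Ω := ⟨y.2, by
      have : y ^ p = 1 := by rw [← hy]; exact pow_orderOf_eq_one y
      exact_mod_cast congrArg Subtype.val this⟩
    rw [h, Subgroup.mem_bot] at hy1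
    have : y = 1 := Subtype.ext hy1
    rw [this, orderOf_one] at hy
    exact hp.one_lt.ne hy
  have hΩp : IsPGroup p Ω := by
    intro x
    refine ⟨1, ?_⟩
    apply Subtype.ext
    rw [pow_one]
    exact x.2.2
  have hΩc : IsMulCommutative Ω :=
    ⟨⟨fun a b => Subtype.ext (hmul a a.2.1 b b.2.1)⟩⟩
  exact ⟨p, hpf, Ω, hΩn, hΩne, hΩp, hΩc, fun x hx => hx.2⟩

/-- Conjugacy in Schur–Zassenhaus when the quotient by the normal Hall subgroup is solvable
(cardinality form). -/
theorem sz_conj_of_solvable_quotient_aux : ∀ (n : ℕ) (G : Type u) [Group G] [Finite G],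
    Nat.card G = n → ∀ (N : Subgroup G) [N.Normal], (Nat.card N).Coprime N.index →
    Group.IsSolvable (G ⧸ N) → ∀ H K : Subgroup G, Nat.card H = N.index → Nat.card K = N.index →
    ∃ g : G, MulAut.conj g • H = K := by
  intro n
  induction n using Nat.strong_induction_on with
  | _ n ih =>
    intro G _ _ hG N _ hcop hsolv H K hH hK
    by_cases hN : N = ⊤
    · have hidx : N.index = 1 := by rw [hN, Subgroup.index_top]
      have hHbot : H = ⊥ := Subgroup.card_eq_one.1 (hH.trans hidx)
      have hKbot : K = ⊥ := Subgroup.card_eq_one.1 (hK.trans hidx)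
      exact ⟨1, by rw [hHbot, hKbot, map_one, one_smul]⟩
    · set π := QuotientGroup.mk' N with hπ
      have hπs : Function.Surjective π := QuotientGroup.mk'_surjective N
      have hπker : π.ker = N := QuotientGroup.ker_mk' N
      have hQcard : Nat.card (G ⧸ N) = N.index := rfl
      have hQnt : Nontrivial (G ⧸ N) := by
        rw [← Finite.one_lt_card_iff_nontrivial, hQcard]
        exact Subgroup.one_lt_index_of_ne_top hN
      obtain ⟨p, hp, Mb, hMbn, hMbne, hMbp, -, -⟩ := exists_normal_pgroup_of_solvable (G ⧸ N)
      set M := Mb.comap π with hM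
      have hMn : M.Normal := hMbn.comap π
      have hNM : N ≤ M := by
        rw [← hπker]; exact MonoidHom.ker_le_comap π Mb
      have hMmap : M.map π = Mb := Subgroup.map_comap_eq_self_of_surjective hπs Mb
      have hdisj : ∀ X : Subgroup G, Nat.card X = N.index → X ⊓ N = ⊥ := by
        intro X hX
        apply inf_eq_bot_of_coprime_card
        rw [hX]; exact hcop.symm
      have htop : ∀ X : Subgroup G, Nat.card X = N.index → X.map π = ⊤ := by
        intro X hX
        apply (Subgroup.card_eq_iff_eq_top _).1
        rw [card_map_mk'_of_disjoint N X (hdisj X hX), hX, hQcard]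
      have hXM : ∀ X : Subgroup G, Nat.card X = N.index → (X ⊓ M).map π = Mb := by
        intro X hX
        apply le_antisymm
        · rw [← hMmap]; exact Subgroup.map_mono inf_le_right
        · intro y hy
          have hy' : y ∈ X.map π := by rw [htop X hX]; trivial
          obtain ⟨x, hx, rfl⟩ := hy'
          exact ⟨x, ⟨hx, hy⟩, rfl⟩
      have hXMcard : ∀ X : Subgroup G, Nat.card X = N.index →
          Nat.card (X ⊓ M : Subgroup G) = Nat.card Mb := by
        intro X hX
        rw [← hXM X hX, card_map_mk'_of_disjoint N (X ⊓ M)]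
        exact le_bot_iff.1 ((inf_le_inf_right N inf_le_left).trans (hdisj X hX).le)
      obtain ⟨k, hk⟩ := IsPGroup.iff_card.1 hMbp
      have hk0 : k ≠ 0 := by
        rintro rfl
        rw [pow_zero] at hk
        exact hMbne (Subgroup.card_eq_one.1 hk)
      have hpN : ¬ p ∣ Nat.card N := by
        intro h
        have h1 : p ∣ Nat.card Mb := by rw [hk]; exact dvd_pow_self p hk0
        have h2 : p ∣ N.index := by
          rw [← hQcard]; exact h1.trans (Subgroup.card_subgroup_dvd_card Mb)
        exact hp.1.one_lt.ne' (Nat.eq_one_of_dvd_coprimes hcop h h2)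
      have hMcard : Nat.card M = Nat.card Mb * Nat.card N := by
        rw [← relIndex_mul_card_of_le hNM, ← hMmap, ← Subgroup.relIndex_ker, hπker]
      -- Sylow subgroups of M
      have hsyl : ∀ X : Subgroup G, Nat.card X = N.index →
          IsPGroup p ((X ⊓ M).subgroupOf M) ∧ ¬ p ∣ ((X ⊓ M).subgroupOf M).index := by
        intro X hX
        have hc : Nat.card ((X ⊓ M).subgroupOf M) = p ^ k := by
          rw [card_subgroupOf_of_le inf_le_right, hXMcard X hX, hk]
        refine ⟨IsPGroup.of_card hc, ?_⟩
        have h1 := ((X ⊓ M).subgroupOf M).index_mul_card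
        rw [hc, hMcard, hk, mul_comm] at h1
        have h2 : ((X ⊓ M).subgroupOf M).index = Nat.card N :=
          Nat.eq_of_mul_eq_mul_left (pow_pos hp.1.pos k) h1
        rw [h2]; exact hpN
      let PH : Sylow p M := (hsyl H hH).1.toSylow (hsyl H hH).2
      let PK : Sylow p M := (hsyl K hK).1.toSylow (hsyl K hK).2
      obtain ⟨m, hm⟩ := MulAction.exists_smul_eq M PH PK
      have hm' : MulAut.conj m • ((H ⊓ M).subgroupOf M) = (K ⊓ M).subgroupOf M := by
        have := congrArg (fun Q : Sylow p M => (Q : Subgroup M)) hm
        simp only [Sylow.coe_subgroup_smul] at this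
        exact this
      have hm'' : MulAut.conj (m : G) • (H ⊓ M) = K ⊓ M :=
        conj_smul_eq_of_subgroupOf inf_le_right inf_le_right m hm'
      set H₁ := MulAut.conj (m : G) • H with hH₁
      have hH₁card : Nat.card H₁ = N.index := by rw [hH₁, card_conj_smul, hH]
      have hH₁M : H₁ ⊓ M = K ⊓ M := by
        rw [← hm'', Subgroup.smul_inf, Subgroup.Normal.conj_smul_eq_self (m : G) M]
      set P := K ⊓ M with hP
      have hPcard : Nat.card P = p ^ k := by rw [hP, hXMcard K hK, hk]
      have hPne : P ≠ ⊥ := by
        intro h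
        rw [h, Subgroup.card_bot] at hPcard
        exact (Nat.one_lt_pow hk0 hp.1.one_lt).ne hPcard
      have hH₁P : H₁ ≤ Subgroup.normalizer (P : Set G) := by
        have := le_normalizer_inf_normal H₁ M
        rwa [hH₁M] at this
      have hKP : K ≤ Subgroup.normalizer (P : Set G) := le_normalizer_inf_normal K M
      have hPH₁ : P ≤ H₁ := by rw [← hH₁M]; exact inf_le_left
      have hPK : P ≤ K := inf_le_left
      set G₁ := Subgroup.normalizer (P : Set G) with hG₁def
      by_cases hG₁ : G₁ = ⊤
      · -- P is normal in G: pass to the quotient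
        have hPn : P.Normal := Subgroup.normalizer_eq_top_iff.1 hG₁
        set ρ := QuotientGroup.mk' P with hρ
        have hρs : Function.Surjective ρ := QuotientGroup.mk'_surjective P
        have hρker : ρ.ker = P := QuotientGroup.ker_mk' P
        have hcardQ : Nat.card (G ⧸ P) * Nat.card P = Nat.card G :=
          (Subgroup.card_eq_card_quotient_mul_card_subgroup P).symm
        have hPone : 1 < Nat.card P := by
          rw [hPcard]; exact Nat.one_lt_pow hk0 hp.1.one_lt
        have hlt : Nat.card (G ⧸ P) < n := by
          rw [← hG, ← hcardQ]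
          exact lt_mul_of_one_lt_right Nat.card_pos hPone
        set Nb := N.map ρ with hNb
        have hNbn : Nb.Normal := Subgroup.Normal.map inferInstance ρ hρs
        have hNP : N ⊓ P = ⊥ := by
          apply le_bot_iff.1
          calc N ⊓ P ≤ N ⊓ K := inf_le_inf_left N hPK
            _ = K ⊓ N := inf_comm _ _
            _ = ⊥ := hdisj K hK
        have hNbcard : Nat.card Nb = Nat.card N := card_map_mk'_of_disjoint P N hNP
        have hNbidx_dvd : Nb.index ∣ N.index := Subgroup.index_map_dvd N hρs
        have hcopb : (Nat.card Nb).Coprime Nb.index := by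
          rw [hNbcard]; exact hcop.coprime_dvd_right hNbidx_dvd
        have hsolvb : Group.IsSolvable ((G ⧸ P) ⧸ Nb) := by
          let f : G ⧸ N →* (G ⧸ P) ⧸ Nb := QuotientGroup.map N Nb ρ (Subgroup.le_comap_map ρ N)
          have hf : Function.Surjective f := by
            intro x
            obtain ⟨y, rfl⟩ := QuotientGroup.mk_surjective x
            obtain ⟨z, rfl⟩ := hρs y
            exact ⟨(z : G ⧸ N), rfl⟩
          exact Group.isSolvable_of_surjective hf
        have hXb : ∀ X : Subgroup G, Nat.card X = N.index → P ≤ X →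
            Nat.card (X.map ρ) = Nb.index := by
          intro X hX hPX
          have h1 : Nat.card (X.map ρ) * Nat.card P = Nat.card X := by
            rw [← Subgroup.relIndex_ker, hρker]; exact relIndex_mul_card_of_le hPX
          have h2 := Nb.index_mul_card
          have h3 : Nb.index * Nat.card P * Nat.card N = Nat.card X * Nat.card N := by
            calc Nb.index * Nat.card P * Nat.card N
                = (Nb.index * Nat.card Nb) * Nat.card P := by rw [hNbcard]; ring
              _ = Nat.card G := by rw [h2, hcardQ]
              _ = Nat.card X * Nat.card N := by rw [hX, mul_comm, N.card_mul_index]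
          have h4 : Nb.index * Nat.card P = Nat.card X :=
            Nat.eq_of_mul_eq_mul_right Nat.card_pos h3
          exact Nat.eq_of_mul_eq_mul_right (Nat.card_pos (α := P)) (h1.trans h4.symm)
        obtain ⟨q, hq⟩ := ih (Nat.card (G ⧸ P)) hlt (G ⧸ P) rfl Nb hcopb hsolvb
          (H₁.map ρ) (K.map ρ) (hXb H₁ hH₁card hPH₁) (hXb K hK hPK)
        obtain ⟨g, hg⟩ := exists_conj_sup_eq_of_map_mk' q hq
        have h1 : K ⊔ P = K := sup_eq_left.2 hPK
        have h2 : (MulAut.conj g • H₁) ⊔ P = MulAut.conj g • H₁ := by
          apply sup_eq_left.2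
          calc P = MulAut.conj g • P := (Subgroup.Normal.conj_smul_eq_self g P).symm
            _ ≤ MulAut.conj g • H₁ := Subgroup.pointwise_smul_le_pointwise_smul_iff.2 hPH₁
        rw [h1, h2] at hg
        refine ⟨g * (m : G), ?_⟩
        rw [map_mul, mul_smul]
        exact hg
      · -- induction inside the normalizer of P
        have hG₁lt : Nat.card G₁ < n := by
          rw [← hG, ← Subgroup.card_top (G := G)]
          exact card_lt_card_of_lt (lt_top_iff_ne_top.2 hG₁)
        set N₁ := N.subgroupOf G₁ with hN₁
        have hN₁n : N₁.Normal := Subgroup.normal_subgroupOf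
        have hN₁card : Nat.card N₁ ∣ Nat.card N := by
          rw [hN₁, card_subgroupOf]; exact Subgroup.card_dvd_of_le inf_le_left
        have hN₁idx : N₁.index = N.index := by
          change N.relIndex G₁ = _
          have h1 : G₁.map π = ⊤ := top_le_iff.1 (htop K hK ▸ Subgroup.map_mono hKP)
          have h2 := Subgroup.relIndex_ker π (K := G₁)
          rw [hπker, h1, Subgroup.card_top] at h2
          exact h2
        have hcop₁ : (Nat.card N₁).Coprime N₁.index := by
          rw [hN₁idx]; exact hcop.coprime_dvd_left hN₁card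
        have hsolv₁ : Group.IsSolvable (G₁ ⧸ N₁) := by
          let f : G₁ ⧸ N₁ →* G ⧸ N := QuotientGroup.map N₁ N G₁.subtype le_rfl
          have hf : Function.Injective f := by
            rw [injective_iff_map_eq_one]
            intro x hx
            obtain ⟨y, rfl⟩ := QuotientGroup.mk_surjective x
            have h1 : ((y : G) : G ⧸ N) = 1 := hx
            rw [QuotientGroup.eq_one_iff] at h1 ⊢
            exact h1
          exact Group.isSolvable_of_isSolvable_injective hf
        obtain ⟨l, hl⟩ := ih (Nat.card G₁) hG₁lt G₁ rfl N₁ hcop₁ hsolv₁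
          (H₁.subgroupOf G₁) (K.subgroupOf G₁)
          (by rw [card_subgroupOf_of_le hH₁P, hH₁card, hN₁idx])
          (by rw [card_subgroupOf_of_le hKP, hK, hN₁idx])
        have hfin := conj_smul_eq_of_subgroupOf hH₁P hKP l hl
        refine ⟨(l : G) * (m : G), ?_⟩
        rw [map_mul, mul_smul]
        exact hfin

/-- **Schur–Zassenhaus, conjugacy part** (under a solvability assumption). -/
theorem sz_conj {G : Type u} [Group G] [Finite G] (N : Subgroup G) [N.Normal]
    (hN : (Nat.card N).Coprime N.index)
    (hsolv : Group.IsSolvable N ∨ Group.IsSolvable (G ⧸ N))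
    (H K : Subgroup G) (hH : N.IsComplement' H) (hK : N.IsComplement' K) :
    ∃ g : G, MulAut.conj g • H = K := by
  have hH' := (isComplement'_iff_card_eq_index hN).1 hH
  have hK' := (isComplement'_iff_card_eq_index hN).1 hK
  rcases hsolv with h | h
  · exact sz_conj_of_solvable_normal_aux _ G rfl N hN h H K hH' hK'
  · exact sz_conj_of_solvable_quotient_aux _ G rfl N hN h H K hH' hK'

end General

end Cfsg.Agent.Helper1
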