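import Mathlib
import Cfsg.Agent.Helper1.Basic
import Cfsg.Agent.Helper1.SZ

set_option autoImplicit false

/-!
Coprime action, inside an ambient finite group: `A` normalizes `K`, `(|A|, |K|) = 1`,
`A` or `K` solvable.
-/

namespace Cfsg.Agent.Helper1

open scoped Pointwise commutatorElement

universe u

variable {G : Type u} [Group G]

/-- Cardinality form of Schur–Zassenhaus conjugacy. -/
theorem sz_conj_card [Finite G] (N : Subgroup G) [N.Normal]
    (hN : (Nat.card N).Coprime N.index)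
    (hsolv : Group.IsSolvable N ∨ Group.IsSolvable (G ⧸ N))
    (H K : Subgroup G) (hH : Nat.card H = N.index) (hK : Nat.card K = N.index) :
    ∃ g : G, MulAut.conj g • H = K := by
  rcases hsolv with h | h
  · exact sz_conj_of_solvable_normal_aux _ G rfl N hN h H K hH hK
  · exact sz_conj_of_solvable_quotient_aux _ G rfl N hN h H K hH hK

theorem sup_le_normalizer_of_le_normalizer {N A : Subgroup G}
    (hA : A ≤ Subgroup.normalizer (N : Set G)) : N ⊔ A ≤ Subgroup.normalizer (N : Set G) :=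
  sup_le Subgroup.le_normalizer hA

/-- every element of `N ⊔ A` is a product `n * a` when `A` normalizes `N`. -/
theorem mem_sup_of_le_normalizer {N A : Subgroup G}
    (hA : A ≤ Subgroup.normalizer (N : Set G)) {x : G} (hx : x ∈ N ⊔ A) :
    ∃ n ∈ N, ∃ a ∈ A, x = n * a := by
  have h : x ∈ ((N ⊔ A : Subgroup G) : Set G) := hx
  rw [Subgroup.coe_mul_of_right_le_normalizer_left N A hA] at h
  obtain ⟨n, hn, a, ha, rfl⟩ := h
  exact ⟨n, hn, a, ha, rfl⟩

/-- the order of `N ⊔ A` when `A` normalizes `N` and they meet trivially. -/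
theorem card_sup_of_le_normalizer [Finite G] {N A : Subgroup G}
    (hA : A ≤ Subgroup.normalizer (N : Set G)) (hdisj : A ⊓ N = ⊥) :
    Nat.card (N ⊔ A : Subgroup G) = Nat.card A * Nat.card N := by
  set L := N ⊔ A with hL
  have hNL : N ≤ L := le_sup_left
  have hAL : A ≤ L := le_sup_right
  have hNLn : (N.subgroupOf L).Normal :=
    (Subgroup.normal_subgroupOf_iff_le_normalizer hNL).2 (sup_le_normalizer_of_le_normalizer hA)
  have h1 : A.subgroupOf L ⊓ N.subgroupOf L = ⊥ := by
    have : (A ⊓ N).subgroupOf L = A.subgroupOf L ⊓ N.subgroupOf L := Subgroup.comap_inf A N L.subtype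
    rw [← this, hdisj]
    exact Subgroup.bot_subgroupOf L
  have h2 : A.subgroupOf L ⊔ N.subgroupOf L = ⊤ := by
    rw [← Subgroup.subgroupOf_sup hAL hNL, sup_comm, Subgroup.subgroupOf_self]
  have h3 := card_sup_of_disjoint_normal (A.subgroupOf L) (N.subgroupOf L) h1
  rw [h2, Subgroup.card_top, card_subgroupOf_of_le hAL, card_subgroupOf_of_le hNL] at h3
  exact h3

/-- **Schur–Zassenhaus conjugacy, internal form**: if `A` normalizes `N`, `(|N|, |A|) = 1`,
`N` or `A` is solvable and `B ≤ NA` has the same order as `A`, then `B = n A n⁻¹` with `n ∈ N`. -/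
theorem sz_conj_internal [Finite G] (N A B : Subgroup G)
    (hA : A ≤ Subgroup.normalizer (N : Set G)) (hB : B ≤ N ⊔ A)
    (hcard : Nat.card B = Nat.card A) (hcop : (Nat.card N).Coprime (Nat.card A))
    (hsolv : Group.IsSolvable N ∨ Group.IsSolvable A) :
    ∃ n ∈ N, MulAut.conj n • A = B := by
  set L := N ⊔ A with hL
  have hNL : N ≤ L := le_sup_left
  have hAL : A ≤ L := le_sup_right
  have hdisj : A ⊓ N = ⊥ := inf_eq_bot_of_coprime_card hcop.symm
  have hNLn : (N.subgroupOf L).Normal :=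
    (Subgroup.normal_subgroupOf_iff_le_normalizer hNL).2 (sup_le_normalizer_of_le_normalizer hA)
  have hLcard : Nat.card L = Nat.card A * Nat.card N := card_sup_of_le_normalizer hA hdisj
  have hNLcard : Nat.card (N.subgroupOf L) = Nat.card N := card_subgroupOf_of_le hNL
  have hNLidx : (N.subgroupOf L).index = Nat.card A := by
    have h1 := (N.subgroupOf L).card_mul_index
    rw [hNLcard, hLcard, mul_comm] at h1
    exact Nat.eq_of_mul_eq_mul_right Nat.card_pos h1
  have hcopL : (Nat.card (N.subgroupOf L)).Coprime (N.subgroupOf L).index := by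
    rw [hNLcard, hNLidx]; exact hcop
  have hsolvL : Group.IsSolvable (N.subgroupOf L) ∨ Group.IsSolvable (L ⧸ N.subgroupOf L) := by
    rcases hsolv with h | h
    · left
      exact Group.isSolvable_of_isSolvable_injective
        (f := (Subgroup.subgroupOfEquivOfLe hNL).toMonoidHom) (Subgroup.subgroupOfEquivOfLe hNL).injective
    · right
      let f : A →* L ⧸ N.subgroupOf L := (QuotientGroup.mk' (N.subgroupOf L)).comp (Subgroup.inclusion hAL)
      have hf : Function.Surjective f := by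
        intro y
        obtain ⟨x, rfl⟩ := QuotientGroup.mk_surjective y
        obtain ⟨n, hn, a, ha, hx⟩ := mem_sup_of_le_normalizer hA x.2
        refine ⟨⟨a, ha⟩, ?_⟩
        change ((Subgroup.inclusion hAL ⟨a, ha⟩ : L) : L ⧸ N.subgroupOf L) = (x : L ⧸ N.subgroupOf L)
        rw [QuotientGroup.eq]
        rw [Subgroup.mem_subgroupOf]
        have : ((Subgroup.inclusion hAL ⟨a, ha⟩ : L)⁻¹ * x : L).1 = a⁻¹ * (n * a) := by
          simp [hx]
        rw [this]
        have hn' := (Subgroup.mem_normalizer_iff.1 (hA (A.inv_mem ha)) n).1 hn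
        simpa [mul_assoc] using hn'
      exact Group.isSolvable_of_surjective hf
  obtain ⟨l, hl⟩ := sz_conj_card (N.subgroupOf L) hcopL hsolvL (A.subgroupOf L) (B.subgroupOf L)
    (by rw [card_subgroupOf_of_le hAL, hNLidx])
    (by rw [card_subgroupOf_of_le hB, hcard, hNLidx])
  have hfin := conj_smul_eq_of_subgroupOf hAL hB l hl
  obtain ⟨n, hn, a, ha, hx⟩ := mem_sup_of_le_normalizer hA l.2
  refine ⟨n, hn, ?_⟩
  rw [← hfin, hx, map_mul, mul_smul, Subgroup.conj_smul_eq_self_of_mem ha]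

theorem mem_normalizer_of_conj_smul_eq {H : Subgroup G} {g : G} (h : MulAut.conj g • H = H) :
    g ∈ Subgroup.normalizer (H : Set G) := by
  rw [Subgroup.mem_normalizer_iff]
  intro x
  constructor
  · intro hx
    rw [← h]; exact conj_mem_conj_smul hx
  · intro hx
    rw [← h, mem_conj_smul] at hx
    simpa [mul_assoc] using hx

theorem conj_smul_eq_of_mem_normalizer {H : Subgroup G} {g : G}
    (h : g ∈ Subgroup.normalizer (H : Set G)) : MulAut.conj g • H = H := by
  ext x
  rw [mem_conj_smul]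
  have h1 := Subgroup.mem_normalizer_iff.1 (Subgroup.inv_mem _ h) x
  rw [inv_inv] at h1
  exact h1.symm

theorem le_normalizer_inf {A X Y : Subgroup G} (hX : A ≤ Subgroup.normalizer (X : Set G))
    (hY : A ≤ Subgroup.normalizer (Y : Set G)) :
    A ≤ Subgroup.normalizer ((X ⊓ Y : Subgroup G) : Set G) := by
  intro a ha
  rw [Subgroup.mem_normalizer_iff]
  intro x
  rw [Subgroup.mem_inf, Subgroup.mem_inf, ← Subgroup.mem_normalizer_iff.1 (hX ha) x,
    ← Subgroup.mem_normalizer_iff.1 (hY ha) x]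

/-- If `A` normalizes `K` and `K ∩ A = 1` then `N_K(A) = C_K(A)`. -/
theorem inf_normalizer_le_centralizer {A K : Subgroup G}
    (hAK : A ≤ Subgroup.normalizer (K : Set G)) (hdisj : K ⊓ A = ⊥) :
    K ⊓ Subgroup.normalizer (A : Set G) ≤ Subgroup.centralizer (A : Set G) := by
  rintro k ⟨hkK, hkN⟩
  rw [Subgroup.mem_centralizer_iff]
  intro a ha
  -- k a k⁻¹ a⁻¹ ∈ K ⊓ A
  have h1 : k * a * k⁻¹ ∈ A := (Subgroup.mem_normalizer_iff.1 hkN a).1 ha
  have h2 : a * k⁻¹ * a⁻¹ ∈ K := (Subgroup.mem_normalizer_iff.1 (hAK ha) k⁻¹).1 (K.inv_mem hkK)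
  have h3 : k * a * k⁻¹ * a⁻¹ ∈ K ⊓ A := by
    refine ⟨?_, A.mul_mem h1 (A.inv_mem ha)⟩
    have := K.mul_mem hkK h2
    simpa [mul_assoc] using this
  rw [hdisj, Subgroup.mem_bot] at h3
  have : k * a = a * k := by
    have := congrArg (· * (a * k)) h3
    simpa [mul_assoc] using this
  exact this.symm

/-- **Coset lemma** for coprime action. -/
theorem exists_mem_centralizer_of_coset_fixed [Finite G] (A K D : Subgroup G)
    (hAK : A ≤ Subgroup.normalizer (K : Set G)) (hcop : (Nat.card A).Coprime (Nat.card K))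
    (hDK : D ≤ K) (hAD : A ≤ Subgroup.normalizer (D : Set G))
    (hsolv : Group.IsSolvable D ∨ Group.IsSolvable A) (k : G) (hk : k ∈ K)
    (hfix : ∀ a ∈ A, a * k * a⁻¹ * k⁻¹ ∈ D) :
    ∃ n ∈ D, n⁻¹ * k ∈ K ⊓ Subgroup.centralizer (A : Set G) := by
  have hdisj : K ⊓ A = ⊥ := inf_eq_bot_of_coprime_card hcop.symm
  have hcopD : (Nat.card D).Coprime (Nat.card A) :=
    (hcop.coprime_dvd_right (Subgroup.card_dvd_of_le hDK)).symm
  have hB : MulAut.conj k • A ≤ D ⊔ A := by
    intro b hb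
    rw [mem_conj_smul] at hb
    -- b = k a k⁻¹ with a = k⁻¹ b k ∈ A
    set a := k⁻¹ * b * k with ha
    have h1 := hfix a⁻¹ (A.inv_mem hb)
    have h2 : b = a * (a⁻¹ * k * a⁻¹⁻¹ * k⁻¹) := by
      rw [ha]; group
    rw [h2]
    exact Subgroup.mul_mem _ (Subgroup.mem_sup_right hb) (Subgroup.mem_sup_left h1)
  obtain ⟨n, hn, hnA⟩ := sz_conj_internal D A (MulAut.conj k • A) hAD hB (card_conj_smul k A)
    hcopD hsolv
  refine ⟨n, hn, ?_⟩
  have hnK : n⁻¹ * k ∈ K := K.mul_mem (K.inv_mem (hDK hn)) hk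
  have hnorm : n⁻¹ * k ∈ Subgroup.normalizer (A : Set G) := by
    apply mem_normalizer_of_conj_smul_eq
    rw [map_mul, mul_smul, ← hnA, ← mul_smul, ← map_mul, inv_mul_cancel, map_one, one_smul]
  exact ⟨hnK, inf_normalizer_le_centralizer hAK hdisj ⟨hnK, hnorm⟩⟩

theorem isSolvable_of_le {H K : Subgroup G} (h : H ≤ K) (hK : Group.IsSolvable K) :
    Group.IsSolvable H :=
  Group.isSolvable_of_isSolvable_injective (Subgroup.inclusion_injective h)

/-- Fixed points of a coprime action pass to quotients (cosets). -/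
theorem coprime_fixed_coset [Finite G] (A K : Subgroup G)
    (hAK : A ≤ Subgroup.normalizer (K : Set G)) (hcop : (Nat.card A).Coprime (Nat.card K))
    (hsolv : Group.IsSolvable A ∨ Group.IsSolvable K) (N : Subgroup G) (hNK : N ≤ K)
    (hNnormal : K ≤ Subgroup.normalizer (N : Set G)) (hNA : A ≤ Subgroup.normalizer (N : Set G))
    (k : G) (hk : k ∈ K) (hfix : ∀ a ∈ A, a * k * a⁻¹ * k⁻¹ ∈ N) :
    ∃ c ∈ K ⊓ Subgroup.centralizer (A : Set G), k⁻¹ * c ∈ N := by
  have hsolv' : Group.IsSolvable N ∨ Group.IsSolvable A := by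
    rcases hsolv with h | h
    · exact Or.inr h
    · exact Or.inl (isSolvable_of_le hNK h)
  obtain ⟨n, hn, hc⟩ := exists_mem_centralizer_of_coset_fixed A K N hAK hcop hNK hNA hsolv' k hk hfix
  refine ⟨n⁻¹ * k, hc, ?_⟩
  have h1 := (Subgroup.mem_normalizer_iff.1 (hNnormal (K.inv_mem hk)) n⁻¹).1 (N.inv_mem hn)
  simpa [mul_assoc] using h1

/-- `K = [K, A] C_K(A)` for a coprime action. -/
theorem coprime_commutator_sup_centralizer [Finite G] (A K : Subgroup G)
    (hAK : A ≤ Subgroup.normalizer (K : Set G)) (hcop : (Nat.card A).Coprime (Nat.card K))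
    (hsolv : Group.IsSolvable A ∨ Group.IsSolvable K) :
    ⁅K, A⁆ ⊔ (K ⊓ Subgroup.centralizer (A : Set G)) = K := by
  have hDK : ⁅K, A⁆ ≤ K := Subgroup.le_normalizer_iff_commutator_le_left.1 hAK
  apply le_antisymm (sup_le hDK inf_le_left)
  intro k hk
  have hsolv' : Group.IsSolvable (⁅K, A⁆ : Subgroup G) ∨ Group.IsSolvable A := by
    rcases hsolv with h | h
    · exact Or.inr h
    · exact Or.inl (isSolvable_of_le hDK h)
  obtain ⟨n, hn, hc⟩ := exists_mem_centralizer_of_coset_fixed A K ⁅K, A⁆ hAK hcop hDK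
    (Subgroup.normalizer_commutator_ge_right K A) hsolv' k hk (by
      intro a ha
      have h1 : ⁅k, a⁆ ∈ ⁅K, A⁆ := Subgroup.commutator_mem_commutator hk ha
      have h2 := Subgroup.inv_mem _ h1
      rwa [commutatorElement_inv, commutatorElement_def] at h2)
  have : k = n * (n⁻¹ * k) := by group
  rw [this]
  exact Subgroup.mul_mem _ (Subgroup.mem_sup_left hn) (Subgroup.mem_sup_right hc)

/-- `[K, A, A] = [K, A]` for a coprime action. -/
theorem coprime_commutator_commutator [Finite G] (A K : Subgroup G)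
    (hAK : A ≤ Subgroup.normalizer (K : Set G)) (hcop : (Nat.card A).Coprime (Nat.card K))
    (hsolv : Group.IsSolvable A ∨ Group.IsSolvable K) :
    ⁅⁅K, A⁆, A⁆ = ⁅K, A⁆ := by
  apply le_antisymm
  · exact Subgroup.le_normalizer_iff_commutator_le_left.1 (Subgroup.normalizer_commutator_ge_right K A)
  · rw [Subgroup.commutator_le]
    intro k hk a ha
    have hk' : k ∈ ⁅K, A⁆ ⊔ (K ⊓ Subgroup.centralizer (A : Set G)) := by
      rw [coprime_commutator_sup_centralizer A K hAK hcop hsolv]; exact hk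
    -- ⁅K, A⁆ is normalized by K ⊓ C(A), so the join is a product
    have hnorm : K ⊓ Subgroup.centralizer (A : Set G) ≤ Subgroup.normalizer ((⁅K, A⁆ : Subgroup G) : Set G) :=
      inf_le_left.trans (Subgroup.normalizer_commutator_ge_left K A)
    obtain ⟨n, hn, c, hc, rfl⟩ := mem_sup_of_le_normalizer hnorm hk'
    rw [commutatorElement_mul_left_eq_conj_mul]
    have hca : ⁅c, a⁆ = 1 := by
      rw [commutatorElement_eq_one_iff_mul_comm]
      exact (Subgroup.mem_centralizer_iff.1 hc.2 a ha).symm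
    rw [hca, mul_one, mul_inv_cancel, one_mul]
    exact Subgroup.commutator_mem_commutator hn ha

/-- Fixed points of a product of two invariant subgroups factor. -/
theorem coprime_fixed_points_mul [Finite G] (A K : Subgroup G)
    (hAK : A ≤ Subgroup.normalizer (K : Set G)) (hcop : (Nat.card A).Coprime (Nat.card K))
    (hsolv : Group.IsSolvable A ∨ Group.IsSolvable K)
    (X Y : Subgroup G) (hX : X ≤ K) (_hY : Y ≤ K) (hXA : A ≤ Subgroup.normalizer (X : Set G))
    (hYA : A ≤ Subgroup.normalizer (Y : Set G))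
    (k x y : G) (hx : x ∈ X) (hy : y ∈ Y) (hkxy : k = x * y)
    (hk : k ∈ Subgroup.centralizer (A : Set G)) :
    ∃ x' ∈ X ⊓ Subgroup.centralizer (A : Set G), ∃ y' ∈ Y ⊓ Subgroup.centralizer (A : Set G),
      k = x' * y' := by
  set D := X ⊓ Y with hD
  have hDK : D ≤ K := inf_le_left.trans hX
  have hAD : A ≤ Subgroup.normalizer (D : Set G) := le_normalizer_inf hXA hYA
  have hsolv' : Group.IsSolvable D ∨ Group.IsSolvable A := by
    rcases hsolv with h | h
    · exact Or.inr h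
    · exact Or.inl (isSolvable_of_le hDK h)
  -- u a := x⁻¹ a x a⁻¹ ∈ D
  have hu : ∀ a ∈ A, x⁻¹ * a * x * a⁻¹ ∈ D := by
    intro a ha
    have hka : a * k = k * a := (Subgroup.mem_centralizer_iff.1 hk a ha)
    refine ⟨?_, ?_⟩
    · have h1 : a * x * a⁻¹ ∈ X := (Subgroup.mem_normalizer_iff.1 (hXA ha) x).1 hx
      have := X.mul_mem (X.inv_mem hx) h1
      simpa [mul_assoc] using this
    · have h1 : a * y⁻¹ * a⁻¹ ∈ Y := (Subgroup.mem_normalizer_iff.1 (hYA ha) y⁻¹).1 (Y.inv_mem hy)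
      have h2 : x⁻¹ * a * x * a⁻¹ = y * (a * y⁻¹ * a⁻¹) := by
        have h3 : a * x = x * y * a * y⁻¹ := by
          have : a * (x * y) = x * y * a := by rw [← hkxy]; exact hka
          calc a * x = a * (x * y) * y⁻¹ := by group
            _ = x * y * a * y⁻¹ := by rw [this]
        calc x⁻¹ * a * x * a⁻¹ = x⁻¹ * (a * x) * a⁻¹ := by group
          _ = x⁻¹ * (x * y * a * y⁻¹) * a⁻¹ := by rw [h3]
          _ = y * (a * y⁻¹ * a⁻¹) := by group
      rw [h2]; exact Y.mul_mem hy h1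
  have hfix : ∀ a ∈ A, a * x⁻¹ * a⁻¹ * (x⁻¹)⁻¹ ∈ D := by
    intro a ha
    have h1 := hu a⁻¹ (A.inv_mem ha)
    have h2 := (Subgroup.mem_normalizer_iff.1 (hAD ha) _).1 h1
    have h3 : a * (x⁻¹ * a⁻¹ * x * a⁻¹⁻¹) * a⁻¹ = a * x⁻¹ * a⁻¹ * (x⁻¹)⁻¹ := by group
    rwa [h3] at h2
  obtain ⟨n, hn, hc⟩ := exists_mem_centralizer_of_coset_fixed A K D hAK hcop hDK hAD hsolv'
    x⁻¹ (K.inv_mem (hX hx)) hfix
  have hxn : x * n ∈ X ⊓ Subgroup.centralizer (A : Set G) := by
    refine ⟨X.mul_mem hx hn.1, ?_⟩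
    have := Subgroup.inv_mem _ hc.2
    simpa [mul_assoc] using this
  refine ⟨x * n, hxn, n⁻¹ * y, ⟨Y.mul_mem (Y.inv_mem hn.2) hy, ?_⟩, by rw [hkxy]; group⟩
  have h1 : n⁻¹ * y = (x * n)⁻¹ * k := by rw [hkxy]; group
  rw [h1]
  exact Subgroup.mul_mem _ (Subgroup.inv_mem _ hxn.2) hk

end Cfsg.Agent.Helper1
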