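import Mathlib
import Cfsg.Agent.Helper1.Basic
import Cfsg.Agent.Helper1.Coprime

set_option autoImplicit false

/-!
The product formula `|NA| |N ∩ A| = |N| |A|`.
-/

namespace Cfsg.Agent.Helper1

open scoped Pointwise

universe u

variable {G : Type u} [Group G]

theorem card_sup_mul_card_inf [Finite G] {N A : Subgroup G}
    (hA : A ≤ Subgroup.normalizer (N : Set G)) :
    Nat.card (N ⊔ A : Subgroup G) * Nat.card (N ⊓ A : Subgroup G) = Nat.card N * Nat.card A := by
  set L := N ⊔ A with hL
  have hNL : N ≤ L := le_sup_left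
  have hAL : A ≤ L := le_sup_right
  have hNLn : (N.subgroupOf L).Normal :=
    (Subgroup.normal_subgroupOf_iff_le_normalizer hNL).2 (sup_le_normalizer_of_le_normalizer hA)
  have h2 : N.subgroupOf L ⊔ A.subgroupOf L = ⊤ := by
    rw [← Subgroup.subgroupOf_sup hNL hAL, Subgroup.subgroupOf_self]
  have h3 : (N.subgroupOf L).relIndex (N.subgroupOf L ⊔ A.subgroupOf L) =
      (N.subgroupOf L).relIndex (A.subgroupOf L) := Subgroup.relIndex_sup_left _ _
  rw [h2, Subgroup.relIndex_top_right, ← Subgroup.inf_relIndex_right] at h3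
  have h4 : (N.subgroupOf L).index * Nat.card N = Nat.card L := by
    have := (N.subgroupOf L).index_mul_card
    rwa [card_subgroupOf_of_le hNL] at this
  have hinfle : N.subgroupOf L ⊓ A.subgroupOf L ≤ A.subgroupOf L := inf_le_right
  have h5 := relIndex_mul_card_of_le hinfle
  have h6 : Nat.card (N.subgroupOf L ⊓ A.subgroupOf L : Subgroup L) = Nat.card (N ⊓ A : Subgroup G) := by
    have : (N ⊓ A).subgroupOf L = N.subgroupOf L ⊓ A.subgroupOf L := Subgroup.comap_inf N A L.subtype
    rw [← this, card_subgroupOf_of_le (inf_le_left.trans hNL)]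
  rw [h6, card_subgroupOf_of_le hAL, ← h3] at h5
  calc Nat.card L * Nat.card (N ⊓ A : Subgroup G)
      = (N.subgroupOf L).index * Nat.card N * Nat.card (N ⊓ A : Subgroup G) := by rw [h4]
    _ = Nat.card N * ((N.subgroupOf L).index * Nat.card (N ⊓ A : Subgroup G)) := by ring
    _ = Nat.card N * Nat.card A := by rw [h5]

theorem relIndex_sup_of_le_normalizer [Finite G] {N A : Subgroup G}
    (hA : A ≤ Subgroup.normalizer (N : Set G)) : N.relIndex (N ⊔ A) = N.relIndex A := by
  have h1 := card_sup_mul_card_inf hA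
  have h2 : N.relIndex (N ⊔ A) * Nat.card N = Nat.card (N ⊔ A : Subgroup G) :=
    relIndex_mul_card_of_le le_sup_left
  have h3 : (N ⊓ A).relIndex A * Nat.card (N ⊓ A : Subgroup G) = Nat.card A :=
    relIndex_mul_card_of_le inf_le_right
  rw [Subgroup.inf_relIndex_right] at h3
  rw [← h2, ← h3] at h1
  have hpos : 0 < Nat.card N * Nat.card (N ⊓ A : Subgroup G) :=
    Nat.mul_pos Nat.card_pos Nat.card_pos
  apply Nat.eq_of_mul_eq_mul_right hpos
  calc N.relIndex (N ⊔ A) * (Nat.card N * Nat.card (N ⊓ A : Subgroup G))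
      = N.relIndex (N ⊔ A) * Nat.card N * Nat.card (N ⊓ A : Subgroup G) := by ring
    _ = Nat.card N * (N.relIndex A * Nat.card (N ⊓ A : Subgroup G)) := h1
    _ = N.relIndex A * (Nat.card N * Nat.card (N ⊓ A : Subgroup G)) := by ring

/-- If `A` normalizes `N` then `|A : A ∩ N|` divides `|G : N|`. -/
theorem relIndex_dvd_index_of_le_normalizer [Finite G] {N A : Subgroup G}
    (hA : A ≤ Subgroup.normalizer (N : Set G)) : N.relIndex A ∣ N.index := by
  rw [← relIndex_sup_of_le_normalizer hA]
  exact Dvd.intro _ (Subgroup.relIndex_mul_index (le_sup_left : N ≤ N ⊔ A))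

theorem relIndex_sup_of_le_normalizer' [Finite G] {N A : Subgroup G}
    (hA : A ≤ Subgroup.normalizer (N : Set G)) : A.relIndex (N ⊔ A) = A.relIndex N := by
  have h1 := card_sup_mul_card_inf hA
  have h2 : A.relIndex (N ⊔ A) * Nat.card A = Nat.card (N ⊔ A : Subgroup G) :=
    relIndex_mul_card_of_le le_sup_right
  have h3 : (N ⊓ A).relIndex N * Nat.card (N ⊓ A : Subgroup G) = Nat.card N :=
    relIndex_mul_card_of_le inf_le_left
  rw [inf_comm, Subgroup.inf_relIndex_right, inf_comm] at h3
  rw [← h2, ← h3] at h1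
  have hpos : 0 < Nat.card A * Nat.card (N ⊓ A : Subgroup G) :=
    Nat.mul_pos Nat.card_pos Nat.card_pos
  apply Nat.eq_of_mul_eq_mul_right hpos
  calc A.relIndex (N ⊔ A) * (Nat.card A * Nat.card (N ⊓ A : Subgroup G))
      = A.relIndex (N ⊔ A) * Nat.card A * Nat.card (N ⊓ A : Subgroup G) := by ring
    _ = A.relIndex N * Nat.card (N ⊓ A : Subgroup G) * Nat.card A := h1
    _ = A.relIndex N * (Nat.card A * Nat.card (N ⊓ A : Subgroup G)) := by ring

/-- If `A` normalizes `N` then `|N : A ∩ N|` divides `|G : A|`. -/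
theorem relIndex_dvd_index_of_normalizes [Finite G] {N A : Subgroup G}
    (hA : A ≤ Subgroup.normalizer (N : Set G)) : A.relIndex N ∣ A.index := by
  rw [← relIndex_sup_of_le_normalizer' hA]
  exact Dvd.intro _ (Subgroup.relIndex_mul_index (le_sup_right : A ≤ N ⊔ A))

end Cfsg.Agent.Helper1
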