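import Mathlib
import Cfsg.Agent.Helper1.Basic

set_option autoImplicit false

/-!
Nilpotent groups: normal subgroups meet the centre (relative version).
-/

namespace Cfsg.Agent.Helper1

open scoped Pointwise commutatorElement

universe u

variable {G : Type u} [Group G]

/-- iterated commutators with the whole group. -/
def commSer (C : Subgroup G) : ℕ → Subgroup G
  | 0 => C
  | n + 1 => ⁅commSer C n, (⊤ : Subgroup G)⁆

theorem commSer_le_lowerCentralSeries (C : Subgroup G) (n : ℕ) :
    commSer C n ≤ (⊤ : Subgroup G).lowerCentralSeries n := by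
  induction n with
  | zero => exact le_top
  | succ n ih => exact Subgroup.commutator_mono ih le_rfl

theorem commSer_le (C : Subgroup G) [C.Normal] (n : ℕ) : commSer C n ≤ C := by
  induction n with
  | zero => exact le_rfl
  | succ n ih =>
    exact (Subgroup.commutator_mono ih le_rfl).trans (Subgroup.commutator_le_left C ⊤)

/-- In a nilpotent group, if a normal subgroup `C` is not inside `N`, some element of `C`
outside `N` is central modulo `N`. -/
theorem exists_mem_commutator_mem_of_not_le [Group.IsNilpotent G] {C N : Subgroup G} [C.Normal]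
    (h : ¬ C ≤ N) : ∃ x ∈ C, x ∉ N ∧ ∀ g : G, ⁅x, g⁆ ∈ N := by
  classical
  obtain ⟨n, hn⟩ := Subgroup.nilpotent_iff_lowerCentralSeries.1 (inferInstance : Group.IsNilpotent G)
  have hex : ∃ k, commSer C k ≤ N := ⟨n, by
    have := commSer_le_lowerCentralSeries C n
    rw [hn] at this
    exact this.trans bot_le⟩
  have hk := Nat.find_spec hex
  have hmin := fun m => Nat.find_min hex (m := m)
  rcases hkk : Nat.find hex with _ | m
  · rw [hkk] at hk
    exact absurd hk h
  · have hm : ¬ commSer C m ≤ N := hmin m (by omega)
    rw [hkk] at hk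
    obtain ⟨x, hx, hxN⟩ := SetLike.not_le_iff_exists.1 hm
    refine ⟨x, commSer_le C m hx, hxN, fun g => hk ?_⟩
    exact Subgroup.commutator_mem_commutator hx (Subgroup.mem_top g)

/-- In a finite (or any) nilpotent group a maximal abelian normal subgroup is self-centralizing. -/
theorem centralizer_eq_of_maximal_abelian_normal [Group.IsNilpotent G]
    (N : Subgroup G) [hNn : N.Normal] [hNc : IsMulCommutative N]
    (hmax : ∀ M : Subgroup G, M.Normal → IsMulCommutative M → N ≤ M → M = N) :
    Subgroup.centralizer (N : Set G) = N := by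
  have hNC : N ≤ Subgroup.centralizer (N : Set G) :=
    Subgroup.le_centralizer_iff_isMulCommutative.2 hNc
  apply le_antisymm _ hNC
  by_contra hCN
  obtain ⟨x, hxC, hxN, hx⟩ := exists_mem_commutator_mem_of_not_le hCN
  set S : Set G := (N : Set G) ∪ {x} with hS
  set M := Subgroup.closure S with hM
  have hNM : N ≤ M := fun n hn => Subgroup.subset_closure (Or.inl hn)
  have hxM : x ∈ M := Subgroup.subset_closure (Or.inr rfl)
  have hMc : IsMulCommutative M := by
    apply Subgroup.isMulCommutative_closure
    rintro a (ha | ha) b (hb | hb)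
    · exact congrArg Subtype.val (mul_comm' (⟨a, ha⟩ : N) ⟨b, hb⟩)
    · rw [Set.mem_singleton_iff] at hb; subst hb
      exact (Subgroup.mem_centralizer_iff.1 hxC a ha)
    · rw [Set.mem_singleton_iff] at ha; subst ha
      exact (Subgroup.mem_centralizer_iff.1 hxC b hb).symm
    · rw [Set.mem_singleton_iff] at ha hb; subst ha; subst hb; rfl
  have hMn : M.Normal := by
    constructor
    intro m hm g
    induction hm using Subgroup.closure_induction with
    | mem s hs =>
      rcases hs with hs | hs
      · exact hNM (hNn.conj_mem s hs g)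
      · rw [Set.mem_singleton_iff] at hs; subst hs
        -- g x g⁻¹ = ⁅g, x⁆ x
        have h1 : ⁅s, g⁆ ∈ N := hx g
        have h2 : g * s * g⁻¹ = (⁅s, g⁆)⁻¹ * s := by
          simp [commutatorElement_def, mul_assoc]
        rw [h2]
        exact M.mul_mem (M.inv_mem (hNM h1)) hxM
    | one => simp
    | mul a b _ _ iha ihb =>
      have : g * (a * b) * g⁻¹ = (g * a * g⁻¹) * (g * b * g⁻¹) := by group
      rw [this]; exact M.mul_mem iha ihb
    | inv a _ iha =>
      have : g * a⁻¹ * g⁻¹ = (g * a * g⁻¹)⁻¹ := by group
      rw [this]; exact M.inv_mem iha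
  have := hmax M hMn hMc hNM
  exact hxN (this ▸ hxM)

end Cfsg.Agent.Helper1
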