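import Mathlib

set_option autoImplicit false

/-!
The focal subgroup theorem for subgroups `H` with `[G:H]` prime to `|H/H'|`.
-/

namespace Cfsg.Agent.Helper1

open scoped commutatorElement

universe u

variable {G : Type u} [Group G]

theorem focal_of_coprime_index [Finite G] (H : Subgroup G)
    (h : Nat.Coprime H.index (⁅H, H⁆.relIndex H)) :
    Subgroup.focalSubgroup H = commutator G ⊓ H ∧
      ∃ N : Subgroup G, N.Normal ∧ N ⊓ H = commutator G ⊓ H ∧ N ⊔ H = ⊤ := by
  -- the order of `H / H*` divides `|H / H'|`
  have hcomm : ⁅H, H⁆.subgroupOf H = commutator H := by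
    rw [← Subgroup.map_subtype_commutator]
    exact Subgroup.comap_map_eq_self_of_injective H.subtype_injective _
  have hcard : Nat.card (↥H ⧸ H.focalSubgroupOf) ∣ ⁅H, H⁆.relIndex H := by
    rw [← Subgroup.index_eq_card, Subgroup.relIndex, hcomm]
    exact Subgroup.index_dvd_of_le H.commutator_le_focalSubgroupOf
  have hcop : (Nat.card (↥H ⧸ H.focalSubgroupOf)).Coprime H.index :=
    (Nat.Coprime.coprime_dvd_right hcard h).symm
  -- the power map
  set e := powCoprime hcop with he
  have hker : H.transferFocal.ker ⊓ H = H.focalSubgroup := by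
    ext x
    constructor
    · rintro ⟨hxk, hxH⟩
      have h1 : H.transferFocal ((⟨x, hxH⟩ : H) : G) = 1 := hxk
      rw [Subgroup.transferFocal_eq_pow] at h1
      have h2 : e ((⟨x, hxH⟩ : H) : ↥H ⧸ H.focalSubgroupOf) = e 1 := by
        simp only [he, powCoprime_apply, one_pow]
        exact h1
      have h3 := e.injective h2
      rw [QuotientGroup.eq_one_iff] at h3
      exact h3
    · intro hx
      have hxH : x ∈ H := H.focalSubgroup_le hx
      refine ⟨?_, hxH⟩
      show H.transferFocal ((⟨x, hxH⟩ : H) : G) = 1
      rw [Subgroup.transferFocal_eq_pow]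
      have : ((⟨x, hxH⟩ : H) : ↥H ⧸ H.focalSubgroupOf) = 1 := by
        rw [QuotientGroup.eq_one_iff]
        exact hx
      rw [this, one_pow]
  have hfoc : Subgroup.focalSubgroup H = commutator G ⊓ H := by
    apply le_antisymm
    · exact le_inf H.focalSubgroup_le_commutator H.focalSubgroup_le
    · rw [← hker]
      refine inf_le_inf_right _ ?_
      open scoped IsMulCommutative in
      exact Abelianization.commutator_subset_ker H.transferFocal
  refine ⟨hfoc, H.transferFocal.ker, inferInstance, ?_, ?_⟩
  · rw [hker, hfoc]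
  · rw [eq_top_iff]
    intro g _
    obtain ⟨y, hy⟩ := e.surjective (H.transferFocal g)
    obtain ⟨k, rfl⟩ := QuotientGroup.mk_surjective y
    have h1 : H.transferFocal (k : G) = H.transferFocal g := by
      rw [Subgroup.transferFocal_eq_pow, ← hy]
      simp only [he, powCoprime_apply]
    have h2 : g * (k : G)⁻¹ ∈ H.transferFocal.ker := by
      rw [MonoidHom.mem_ker, map_mul, map_inv, h1, mul_inv_cancel]
    have : g = (g * (k : G)⁻¹) * k := by group
    rw [this]
    exact Subgroup.mul_mem _ (Subgroup.mem_sup_left h2) (Subgroup.mem_sup_right k.2)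

end Cfsg.Agent.Helper1
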