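import Mathlib
import Cfsg.Agent.Helper1.FocalHall
import Cfsg.Agent.Helper1.Card

set_option autoImplicit false

/-!
Iterated focal subgroups reaching the trivial subgroup give a normal complement.
-/

namespace Cfsg.Agent.Helper1

open scoped commutatorElement Pointwise

universe u

theorem le_of_coprime_card_index {G : Type u} [Group G] [Finite G] {M L : Subgroup G} [M.Normal]
    (h : (Nat.card L).Coprime M.index) : L ≤ M := by
  intro x hx
  have h0 : orderOf ((x : G) : G ⧸ M) ∣ orderOf x :=
    orderOf_dvd_of_pow_eq_one (by rw [← QuotientGroup.mk_pow, pow_orderOf_eq_one]; rfl)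
  have h1 : orderOf ((x : G) : G ⧸ M) ∣ Nat.card L := by
    refine h0.trans ?_
    have : orderOf (⟨x, hx⟩ : L) = orderOf x := Subgroup.orderOf_mk x hx
    rw [← this]
    exact orderOf_dvd_natCard _
  have h2 : orderOf ((x : G) : G ⧸ M) ∣ M.index := by
    rw [Subgroup.index_eq_card]; exact orderOf_dvd_natCard _
  have h3 := Nat.eq_one_of_dvd_coprimes h h1 h2
  rw [orderOf_eq_one_iff, QuotientGroup.eq_one_iff] at h3
  exact h3

theorem focalSubgroup_mono {G : Type u} [Group G] {K L : Subgroup G} (h : K ≤ L) :
    K.focalSubgroup ≤ L.focalSubgroup := by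
  rw [Subgroup.focalSubgroup_def, Subgroup.focalSubgroup_def]
  apply Subgroup.closure_mono
  rintro g ⟨hg, x, hx, u, rfl⟩
  exact ⟨h hg, x, h hx, u, rfl⟩

theorem map_focalSubgroup_le {G : Type u} [Group G] (N : Subgroup G) (K : Subgroup N) :
    K.focalSubgroup.map N.subtype ≤ (K.map N.subtype).focalSubgroup := by
  rw [Subgroup.focalSubgroup_def, MonoidHom.map_closure, Subgroup.closure_le]
  rintro _ ⟨g, ⟨hg, x, hx, u, rfl⟩, rfl⟩
  apply Subgroup.subset_closure
  refine ⟨Subgroup.mem_map_of_mem _ hg, x, Subgroup.mem_map_of_mem _ hx, u, ?_⟩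
  simp [commutatorElement_def]

theorem map_iterate_focalSubgroup_le {G : Type u} [Group G] (N : Subgroup G) :
    ∀ (n : ℕ) (K : Subgroup N) (L : Subgroup G), K.map N.subtype ≤ L →
      ((fun K : Subgroup N => K.focalSubgroup)^[n] K).map N.subtype ≤
        (fun K : Subgroup G => K.focalSubgroup)^[n] L := by
  intro n
  induction n with
  | zero => intro K L h; simpa using h
  | succ n ih =>
    intro K L h
    rw [Function.iterate_succ_apply, Function.iterate_succ_apply]
    apply ih
    exact (map_focalSubgroup_le N K).trans (focalSubgroup_mono h)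

theorem exists_normal_complement_of_iterate_focal : ∀ (n : ℕ) (G : Type u) [Group G] [Finite G]
    (H : Subgroup G), (Nat.card H).Coprime H.index →
    (fun K : Subgroup G => K.focalSubgroup)^[n] H = ⊥ →
    ∃ N : Subgroup G, N.Normal ∧ Subgroup.IsComplement' N H := by
  intro n
  induction n with
  | zero =>
    intro G _ _ H _ hH
    simp only [Function.iterate_zero, id_eq] at hH
    subst hH
    exact ⟨⊤, inferInstance, Subgroup.isComplement'_top_bot⟩
  | succ n ih =>
    intro G _ _ H hHall hH
    rw [Function.iterate_succ_apply] at hH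
    have hcop : Nat.Coprime H.index (⁅H, H⁆.relIndex H) :=
      (Nat.Coprime.coprime_dvd_left (Subgroup.relIndex_dvd_card _ _) hHall).symm
    obtain ⟨hfoc, N, hNn, hNH, hsup⟩ := focal_of_coprime_index H hcop
    rw [← hfoc] at hNH
    -- the Hall subgroup `F = foc H` of `N`
    have hFN : H.focalSubgroup ≤ N := by rw [← hNH]; exact inf_le_left
    obtain ⟨K, hK⟩ : ∃ K : Subgroup N, K = H.focalSubgroup.subgroupOf N := ⟨_, rfl⟩
    have hKmap : K.map N.subtype = H.focalSubgroup := by
      rw [hK]; exact Subgroup.map_subgroupOf_eq_of_le hFN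
    have hKcard : Nat.card K = Nat.card H.focalSubgroup := by
      rw [hK]; exact card_subgroupOf_of_le hFN
    have hHnorm : H ≤ Subgroup.normalizer (N : Set G) := by
      rw [Subgroup.normalizer_eq_top]; exact le_top
    have hKindex : K.index = H.index := by
      have h1 : K.index = H.focalSubgroup.relIndex N := by rw [hK]; rfl
      rw [h1, ← hNH, inf_comm, Subgroup.inf_relIndex_right]
      have h2 := relIndex_sup_of_le_normalizer' hHnorm
      rw [hsup, Subgroup.relIndex_top_right] at h2
      exact h2.symm
    have hKHall : (Nat.card K).Coprime K.index := by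
      rw [hKindex, hKcard]
      exact Nat.Coprime.coprime_dvd_left (Subgroup.card_dvd_of_le H.focalSubgroup_le) hHall
    have hKiter : (fun K : Subgroup N => K.focalSubgroup)^[n] K = ⊥ := by
      have := map_iterate_focalSubgroup_le N n K H.focalSubgroup hKmap.le
      rw [hH, le_bot_iff] at this
      exact (Subgroup.map_eq_bot_iff_of_injective _ N.subtype_injective).1 this
    obtain ⟨M, hMn, hMK⟩ := ih N K hKHall hKiter
    -- `M` is normal in `G`
    have hMcard : Nat.card M = H.index := by
      have h1 := hMK.card_mul_card
      have h2 := K.index_mul_card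
      rw [← h2, hKindex] at h1
      exact Nat.eq_of_mul_eq_mul_right Nat.card_pos h1
    have hMindex : M.index = Nat.card K := by
      have h1 := hMK.card_mul_card
      have h2 := M.index_mul_card
      rw [← h2, mul_comm] at h1
      exact (Nat.eq_of_mul_eq_mul_right Nat.card_pos h1).symm
    refine ⟨M.map N.subtype, ?_, ?_⟩
    · constructor
      intro x hx g
      obtain ⟨y, hy, rfl⟩ := hx
      have hconjN : g * (y : G) * g⁻¹ ∈ N := hNn.conj_mem _ y.2 g
      -- the conjugate of `M` by `g`, as a subgroup of `N`
      have hle : ((MulAut.conj g • (M.map N.subtype)).subgroupOf N) ≤ M := by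
        apply le_of_coprime_card_index
        rw [hMindex]
        have hc : Nat.card ((MulAut.conj g • (M.map N.subtype)).subgroupOf N) = Nat.card M := by
          rw [card_subgroupOf_of_le, card_conj_smul]
          · exact Subgroup.card_map_of_injective N.subtype_injective
          · rintro _ ⟨z, ⟨w, hw, rfl⟩, rfl⟩
            exact hNn.conj_mem _ w.2 g
        rw [hc, hMcard, hKcard]
        exact (Nat.Coprime.coprime_dvd_left (Subgroup.card_dvd_of_le H.focalSubgroup_le) hHall).symm
      have : (⟨g * (y : G) * g⁻¹, hconjN⟩ : N) ∈ M := by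
        apply hle
        rw [Subgroup.mem_subgroupOf]
        exact conj_mem_conj_smul (Subgroup.mem_map_of_mem _ hy)
      exact ⟨_, this, rfl⟩
    · apply Subgroup.isComplement'_of_coprime
      · rw [Subgroup.card_map_of_injective N.subtype_injective, hMcard]
        exact H.index_mul_card
      · rw [Subgroup.card_map_of_injective N.subtype_injective, hMcard]
        exact hHall.symm

end Cfsg.Agent.Helper1
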