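import Mathlib
import Cfsg.Prelude.Def_Solvable
import Cfsg.Agent.Helper1.Basic
import Cfsg.Agent.Helper1.Cores

set_option autoImplicit false

/-!
The Fitting subgroup of a finite group.
-/

namespace Cfsg.Agent.Helper1

open scoped Pointwise

universe u

variable {G : Type u} [Group G]

instance pCore_normal (p : ℕ) : (Cfsg.pCore p G).Normal :=
  Subgroup.sSup_normal _ (fun _ h => h.1)

instance pPrimeCore_normal (p : ℕ) : (Cfsg.pPrimeCore p G).Normal :=
  Subgroup.sSup_normal _ (fun _ h => h.1)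

instance fittingSubgroup_normal : (Cfsg.fittingSubgroup G).Normal :=
  Subgroup.sSup_normal _ (fun _ h => h.1)

theorem card_sup_dvd [Finite G] (H K : Subgroup G) [K.Normal] :
    Nat.card (H ⊔ K : Subgroup G) ∣ Nat.card H * Nat.card K := by
  rw [← relIndex_mul_card_of_le (le_sup_right : K ≤ H ⊔ K), Subgroup.relIndex_sup_right]
  exact Nat.mul_dvd_mul_right (Subgroup.relIndex_dvd_card K H) _

/-- normal subgroups of order prime to `p` are closed under joins. -/
theorem supClosed_normal_coprime [Finite G] (p : ℕ) :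
    SupClosed {N : Subgroup G | N.Normal ∧ (Nat.card N).Coprime p} := by
  rintro A ⟨hA, hAp⟩ B ⟨hB, hBp⟩
  refine ⟨Subgroup.sup_normal A B, ?_⟩
  exact Nat.Coprime.coprime_dvd_left (card_sup_dvd A B) (Nat.Coprime.mul_left hAp hBp)

theorem sSup_normal_coprime [Finite G] (p : ℕ) (t : Set (Subgroup G))
    (ht : ∀ N ∈ t, N.Normal ∧ (Nat.card N).Coprime p) : (Nat.card (sSup t : Subgroup G)).Coprime p :=
  ((supClosed_normal_coprime p).sSup_mem (Set.toFinite t)
    ⟨inferInstance, by rw [Subgroup.card_bot]; exact Nat.coprime_one_left p⟩ ht).2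

theorem card_pPrimeCore_coprime [Finite G] (p : ℕ) :
    (Nat.card (Cfsg.pPrimeCore p G)).Coprime p :=
  sSup_normal_coprime p _ (fun _ h => h)

theorem le_pPrimeCore {p : ℕ} {N : Subgroup G} (hN : N.Normal) (hp : (Nat.card N).Coprime p) :
    N ≤ Cfsg.pPrimeCore p G :=
  le_sSup ⟨hN, hp⟩

/-- the join of the `p`-cores. -/
def fitJoin (G : Type u) [Group G] : Subgroup G := ⨆ p : Nat.Primes, Cfsg.pCore (p : ℕ) G

theorem pCore_le_fitJoin (p : ℕ) [hp : Fact p.Prime] : Cfsg.pCore p G ≤ fitJoin G :=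
  le_iSup (fun q : Nat.Primes => Cfsg.pCore (q : ℕ) G) ⟨p, hp.out⟩

/-- the join of the `q`-cores for `q ≠ p` has order prime to `p`. -/
theorem card_iSup_pCore_ne_coprime [Finite G] (p : Nat.Primes) :
    (Nat.card (⨆ (q : Nat.Primes) (_ : q ≠ p), Cfsg.pCore (q : ℕ) G : Subgroup G)).Coprime p := by
  rw [iSup]
  apply sSup_normal_coprime
  rintro N ⟨q, rfl⟩
  by_cases hq : q ≠ p
  · simp only [hq, iSup_pos, ne_eq, not_false_eq_true]
    refine ⟨inferInstance, ?_⟩
    have : Fact (q : ℕ).Prime := ⟨q.2⟩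
    obtain ⟨n, hn⟩ := IsPGroup.iff_card.1 (pCore_isPGroup (G := G) (q : ℕ))
    rw [hn]
    apply Nat.Coprime.pow_left
    rw [Nat.coprime_primes q.2 p.2]
    exact fun h => hq (Subtype.ext h)
  · simp only [hq, iSup_false]
    exact ⟨inferInstance, by rw [Subgroup.card_bot]; exact Nat.coprime_one_left _⟩

/-- the join of the `p`-cores is nilpotent. -/
theorem fitJoin_isNilpotent [Finite G] : Group.IsNilpotent (fitJoin G) := by
  have q := (Group.isNilpotent_of_finite_tfae (G := fitJoin G)).out 0 3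
  rw [q]; clear q
  intro p hp P
  let pp : Nat.Primes := ⟨p, hp.out⟩
  have hOpn : ((Cfsg.pCore p G).subgroupOf (fitJoin G)).Normal := inferInstance
  have hOple : Cfsg.pCore p G ≤ fitJoin G := pCore_le_fitJoin p
  have hOpp : IsPGroup p ((Cfsg.pCore p G).subgroupOf (fitJoin G)) :=
    (pCore_isPGroup p).comap_subtype
  set R := (⨆ (q : Nat.Primes) (_ : q ≠ pp), Cfsg.pCore (q : ℕ) G : Subgroup G) with hR
  have hRn : R.Normal := by
    rw [hR]
    infer_instance
  have hsplit : fitJoin G = Cfsg.pCore p G ⊔ R := by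
    rw [fitJoin, iSup_split_single _ pp]
  have hRcop : (Nat.card R).Coprime p := card_iSup_pCore_ne_coprime pp
  have hdvd : Nat.card (fitJoin G) ∣ Nat.card (Cfsg.pCore p G) * Nat.card R := by
    rw [hsplit]; exact card_sup_dvd _ _
  have hidx : ¬ p ∣ ((Cfsg.pCore p G).subgroupOf (fitJoin G)).index := by
    have h1 : ((Cfsg.pCore p G).subgroupOf (fitJoin G)).index * Nat.card (Cfsg.pCore p G) =
        Nat.card (fitJoin G) := relIndex_mul_card_of_le hOple
    have h2 : ((Cfsg.pCore p G).subgroupOf (fitJoin G)).index ∣ Nat.card R := by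
      rw [← h1, mul_comm] at hdvd
      exact Nat.dvd_of_mul_dvd_mul_left Nat.card_pos hdvd
    intro h3
    have h4 : p ∣ Nat.card R := h3.trans h2
    have h5 := Nat.Coprime.eq_one_of_dvd hRcop.symm h4
    exact hp.out.ne_one h5
  have hle : (Cfsg.pCore p G).subgroupOf (fitJoin G) ≤ P := hOpp.le_sylow_of_normal P
  have heq : (P : Subgroup (fitJoin G)) = (Cfsg.pCore p G).subgroupOf (fitJoin G) :=
    (hOpp.toSylow hidx).is_maximal' P.isPGroup' hle
  rw [heq]
  exact hOpn

/-- a normal nilpotent subgroup lies in the join of the `p`-cores. -/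
theorem le_fitJoin_of_normal_nilpotent [Finite G] (N : Subgroup G) [hN : N.Normal]
    (hnil : Group.IsNilpotent N) : N ≤ fitJoin G := by
  -- the join of the Sylow subgroups of `N`
  have hex : ∀ p : Nat.Primes, ∃ Q : Subgroup G, Q ≤ N ∧ Q ≤ fitJoin G ∧
      Nat.card Q = (p : ℕ) ^ (Nat.card N).factorization p := by
    intro p
    have : Fact (p : ℕ).Prime := ⟨p.2⟩
    obtain ⟨P⟩ : Nonempty (Sylow (p : ℕ) N) := inferInstance
    have hPn : (P : Subgroup N).Normal := inferInstance
    have hPc : (P : Subgroup N).Characteristic := Sylow.characteristic_of_normal P hPn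
    have hnorm : ((P : Subgroup N).map N.subtype).Normal := inferInstance
    have hpg : IsPGroup (p : ℕ) ((P : Subgroup N).map N.subtype) := P.isPGroup'.map _
    refine ⟨(P : Subgroup N).map N.subtype, Subgroup.map_subtype_le _,
      (le_pCore hnorm hpg).trans (pCore_le_fitJoin (p : ℕ)), ?_⟩
    rw [Subgroup.card_map_of_injective N.subtype_injective]
    exact P.card_eq_multiplicity
  choose Q hQN hQF hQcard using hex
  set J := ⨆ p : Nat.Primes, Q p with hJ
  have hJN : J ≤ N := iSup_le hQN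
  have hJF : J ≤ fitJoin G := iSup_le hQF
  have hdvd : Nat.card N ∣ Nat.card J := by
    rw [← Nat.factorization_prime_le_iff_dvd Nat.card_pos.ne' Nat.card_pos.ne']
    intro p hp
    rw [← hp.pow_dvd_iff_le_factorization Nat.card_pos.ne', ← hQcard ⟨p, hp⟩]
    exact Subgroup.card_dvd_of_le (le_iSup Q ⟨p, hp⟩)
  have hJeq : J = N :=
    Subgroup.eq_of_le_of_card_ge hJN (Nat.le_of_dvd Nat.card_pos hdvd)
  rw [← hJeq]
  exact hJF

theorem fittingSubgroup_eq_fitJoin [Finite G] : Cfsg.fittingSubgroup G = fitJoin G := by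
  apply le_antisymm
  · apply sSup_le
    rintro N ⟨hN, hnil⟩
    exact le_fitJoin_of_normal_nilpotent N hnil
  · apply iSup_le
    intro p
    have : Fact (p : ℕ).Prime := ⟨p.2⟩
    apply le_sSup
    exact ⟨inferInstance, (pCore_isPGroup (p : ℕ)).isNilpotent⟩

theorem fittingSubgroup_isNilpotent [Finite G] : Group.IsNilpotent (Cfsg.fittingSubgroup G) := by
  rw [fittingSubgroup_eq_fitJoin]
  exact fitJoin_isNilpotent

theorem le_fittingSubgroup {N : Subgroup G} (hN : N.Normal) (hnil : Group.IsNilpotent N) :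
    N ≤ Cfsg.fittingSubgroup G :=
  le_sSup ⟨hN, hnil⟩

end Cfsg.Agent.Helper1
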