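import Mathlib
import Cfsg.Agent.Helper1.Basic

set_option autoImplicit false

/-!
Elementary transfer / fusion lemmas.
-/

namespace Cfsg.Agent.Helper1

open scoped Pointwise commutatorElement

universe u

variable {G : Type u} [Group G]

/-- A normal complement to a Sylow p-subgroup is the set of p'-elements. -/
theorem mem_normal_complement_sylow_iff [Finite G] {p : ℕ} [hp : Fact p.Prime] (P : Sylow p G)
    (N : Subgroup G) [N.Normal] (hN : N.IsComplement' (P : Subgroup G)) (x : G) :
    x ∈ N ↔ Nat.Coprime (orderOf x) p := by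
  have hcardN : Nat.card N = (P : Subgroup G).index := hN.index_eq_card.symm
  have hindexN : N.index = Nat.card (P : Subgroup G) := hN.symm.index_eq_card
  constructor
  · intro hx
    have h1 : orderOf x ∣ Nat.card N := by
      have := orderOf_dvd_natCard (⟨x, hx⟩ : N)
      rwa [Subgroup.orderOf_mk] at this
    have h2 : ¬ p ∣ Nat.card N := hcardN ▸ P.not_dvd_index
    exact Nat.Coprime.coprime_dvd_left h1 ((Nat.Prime.coprime_iff_not_dvd hp.out).2 h2).symm
  · intro hx
    obtain ⟨k, hk⟩ := (IsPGroup.iff_card.1 P.2)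
    have h1 : orderOf (QuotientGroup.mk' N x) ∣ orderOf x := orderOf_map_dvd _ x
    have h2 : orderOf (QuotientGroup.mk' N x) ∣ p ^ k := by
      have := orderOf_dvd_natCard (QuotientGroup.mk' N x)
      rwa [← Subgroup.index_eq_card, hindexN, hk] at this
    have h3 : Nat.Coprime (orderOf x) (p ^ k) := Nat.Coprime.pow_right k hx
    have h4 : orderOf (QuotientGroup.mk' N x) = 1 :=
      Nat.eq_one_of_dvd_coprimes h3 h1 h2
    rw [orderOf_eq_one_iff] at h4
    exact (QuotientGroup.eq_one_iff x).1 h4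

/-- TI Sylow subgroups: the normalizer controls fusion. -/
theorem ti_sylow_controls_fusion [Finite G] {p : ℕ} [Fact p.Prime] (P : Sylow p G)
    (hTI : ∀ g : G, (P : Subgroup G).map (MulAut.conj g).toMonoidHom ≠ (P : Subgroup G) →
      (P : Subgroup G) ⊓ (P : Subgroup G).map (MulAut.conj g).toMonoidHom = ⊥)
    (x y : G) (hx : x ∈ P) (hy : y ∈ P) (hc : ∃ g : G, g * x * g⁻¹ = y) :
    ∃ n ∈ Subgroup.normalizer (P : Set G), n * x * n⁻¹ = y := by
  obtain ⟨g, hg⟩ := hc
  by_cases hy1 : y = 1
  · refine ⟨1, Subgroup.one_mem _, ?_⟩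
    have : x = 1 := by
      have h : g * x * g⁻¹ = 1 := hg.trans hy1
      have : x = g⁻¹ * (g * x * g⁻¹) * g := by group
      rw [this, h]; group
    rw [this, hy1]; group
  · have hmap : (P : Subgroup G).map (MulAut.conj g).toMonoidHom = (P : Subgroup G) := by
      by_contra hne
      have h0 := hTI g hne
      have : y ∈ (P : Subgroup G) ⊓ (P : Subgroup G).map (MulAut.conj g).toMonoidHom :=
        Subgroup.mem_inf.2 ⟨hy, ⟨x, hx, by simpa using hg⟩⟩
      rw [h0, Subgroup.mem_bot] at this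
      exact hy1 this
    refine ⟨g, ?_, hg⟩
    show g ∈ Subgroup.normalizer ((P : Subgroup G) : Set G)
    rw [Subgroup.mem_normalizer_iff]
    intro h
    constructor
    · intro hh
      have : g * h * g⁻¹ ∈ (P : Subgroup G).map (MulAut.conj g).toMonoidHom :=
        ⟨h, hh, by simp⟩
      rw [hmap] at this
      exact this
    · intro hh
      have : g * h * g⁻¹ ∈ (P : Subgroup G).map (MulAut.conj g).toMonoidHom := by
        rw [hmap]; exact hh
      obtain ⟨h', hh', he⟩ := this
      have he' : g * h' * g⁻¹ = g * h * g⁻¹ := by simpa using he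
      have : h' = h := by
        have := congrArg (fun t => g⁻¹ * t * g) he'
        simpa [mul_assoc] using this
      exact this ▸ hh'

open scoped IsMulCommutative in
/-- An abelian Hall subgroup meets `G' ∩ Z(G)` trivially. -/
theorem abelian_hall_inf_commutator_inf_center [Finite G] (H : Subgroup G)
    [hc : IsMulCommutative H] (hHall : Nat.Coprime (Nat.card H) H.index) :
    H ⊓ commutator G ⊓ Subgroup.center G = ⊥ := by
  rw [eq_bot_iff]
  intro z hz
  obtain ⟨hz12, hzZ⟩ := Subgroup.mem_inf.1 hz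
  obtain ⟨hzH, hzG'⟩ := Subgroup.mem_inf.1 hz12
  rw [Subgroup.mem_bot]
  have key : ∀ (k : ℕ) (g₀ : G), g₀⁻¹ * z ^ k * g₀ ∈ H → g₀⁻¹ * z ^ k * g₀ = z ^ k := by
    intro k g₀ _
    have hzk : z ^ k ∈ Subgroup.center G := Subgroup.pow_mem _ hzZ k
    rw [Subgroup.mem_center_iff] at hzk
    rw [mul_assoc, ← hzk g₀, ← mul_assoc, inv_mul_cancel, one_mul]
  have h1 : MonoidHom.transfer (MonoidHom.id H) z = 1 :=
    Abelianization.commutator_subset_ker (MonoidHom.transfer (MonoidHom.id H)) hzG'
  rw [MonoidHom.transfer_eq_pow (MonoidHom.id H) z key] at h1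
  have h2 : z ^ H.index = 1 := by
    have := congrArg Subtype.val h1
    simpa using this
  have h3 : z ^ Nat.card H = 1 := by
    have h30 : (⟨z, hzH⟩ : H) ^ Nat.card H = 1 := pow_card_eq_one'
    have h31 := congrArg Subtype.val h30
    rw [Subgroup.coe_pow] at h31
    exact h31
  have h4 : orderOf z ∣ Nat.gcd (Nat.card H) H.index :=
    Nat.dvd_gcd (orderOf_dvd_of_pow_eq_one h3) (orderOf_dvd_of_pow_eq_one h2)
  rw [hHall.gcd_eq_one, Nat.dvd_one, orderOf_eq_one_iff] at h4
  exact h4

/-- When all Sylow subgroups are abelian, `G' ∩ Z(G) = 1`. -/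
theorem commutator_inf_center_of_abelian_sylow [Finite G]
    (h : ∀ p : ℕ, p.Prime → ∀ P : Sylow p G, IsMulCommutative P) :
    commutator G ⊓ Subgroup.center G = ⊥ := by
  rw [eq_bot_iff]
  intro x hx
  rw [Subgroup.mem_bot]
  by_contra hx1
  have hord : orderOf x ≠ 1 := fun h1 => hx1 (orderOf_eq_one_iff.1 h1)
  obtain ⟨p, hp, hpx⟩ := Nat.exists_prime_and_dvd hord
  have : Fact p.Prime := ⟨hp⟩
  obtain ⟨m, hm⟩ := hpx
  set y := x ^ m with hy
  have hxpos : 0 < orderOf x := orderOf_pos x
  have hypow : y ^ p = 1 := by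
    rw [hy, ← pow_mul, mul_comm, ← hm, pow_orderOf_eq_one]
  have hy1 : y ≠ 1 := by
    intro h1
    have : orderOf x ∣ m := orderOf_dvd_of_pow_eq_one h1
    have hmpos : 0 < m := by
      rcases Nat.eq_zero_or_pos m with h0 | h0
      · rw [h0, mul_zero] at hm; omega
      · exact h0
    have := Nat.le_of_dvd hmpos this
    rw [hm] at this
    have : p * m ≤ 1 * m := by simpa using this
    have := Nat.le_of_mul_le_mul_right this hmpos
    exact absurd hp.two_le (by omega)
  have hyG : y ∈ commutator G ⊓ Subgroup.center G := Subgroup.pow_mem _ hx m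
  have hPg : IsPGroup p (Subgroup.zpowers y) := by
    rw [IsPGroup.iff_card]  
    refine ⟨1, ?_⟩
    rw [Nat.card_zpowers, pow_one]
    exact orderOf_eq_prime hypow hy1
  obtain ⟨P, hP⟩ := hPg.exists_le_sylow
  have hyP : y ∈ (P : Subgroup G) := hP (Subgroup.mem_zpowers y)
  have := h p hp P
  have hHall : Nat.Coprime (Nat.card (P : Subgroup G)) (P : Subgroup G).index := by
    obtain ⟨k, hk⟩ := IsPGroup.iff_card.1 P.2
    rw [hk]
    exact Nat.Coprime.pow_left k ((Nat.Prime.coprime_iff_not_dvd hp).2 P.not_dvd_index)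
  have := abelian_hall_inf_commutator_inf_center (P : Subgroup G) hHall
  have hmem : y ∈ (P : Subgroup G) ⊓ commutator G ⊓ Subgroup.center G :=
    Subgroup.mem_inf.2 ⟨Subgroup.mem_inf.2 ⟨hyP, (Subgroup.mem_inf.1 hyG).1⟩,
      (Subgroup.mem_inf.1 hyG).2⟩
  rw [this, Subgroup.mem_bot] at hmem
  exact hy1 hmem

/-- If a nontrivial Sylow p-subgroup controls its own fusion, it is not inside `G'`. -/
theorem sylow_not_le_commutator_of_controls_fusion [Finite G] {p : ℕ} [Fact p.Prime]
    (P : Sylow p G) (hp : p ∣ Nat.card G)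
    (h : ∀ x ∈ P, ∀ y ∈ P, (∃ g : G, g * x * g⁻¹ = y) → ∃ z ∈ P, z * x * z⁻¹ = y) :
    ¬ (P : Subgroup G) ≤ commutator G := by
  intro hle
  have hfoc : (P : Subgroup G).focalSubgroup ≤ ⁅(P : Subgroup G), (P : Subgroup G)⁆ := by
    rw [Subgroup.focalSubgroup_def, Subgroup.closure_le]
    rintro g ⟨hgP, x, hxP, u, rfl⟩
    -- u x⁻¹ u⁻¹ ∈ P
    have h1 : u * x⁻¹ * u⁻¹ ∈ (P : Subgroup G) := by
      have : u * x⁻¹ * u⁻¹ = x⁻¹ * ⁅x, u⁆ := by
        simp [commutatorElement_def, mul_assoc]
      rw [this]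
      exact Subgroup.mul_mem _ (Subgroup.inv_mem _ hxP) hgP
    obtain ⟨z, hzP, hz⟩ := h x⁻¹ (Subgroup.inv_mem _ hxP) _ h1 ⟨u, rfl⟩
    have : ⁅x, u⁆ = ⁅x, z⁆ := by
      simp only [commutatorElement_def]
      have e1 : x * u * x⁻¹ * u⁻¹ = x * (u * x⁻¹ * u⁻¹) := by group
      have e2 : x * z * x⁻¹ * z⁻¹ = x * (z * x⁻¹ * z⁻¹) := by group
      rw [e1, e2, hz]
    rw [this]
    exact Subgroup.commutator_mem_commutator hxP hzP
  have heq : commutator G ⊓ (P : Subgroup G) = (P : Subgroup G) := inf_eq_right.2 hle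
  have h2 : (P : Subgroup G) ≤ ⁅(P : Subgroup G), (P : Subgroup G)⁆ := by
    calc (P : Subgroup G) = commutator G ⊓ (P : Subgroup G) := heq.symm
      _ = (P : Subgroup G).focalSubgroup := Subgroup.commutator_inf_eq_focalSubgroup P
      _ ≤ _ := hfoc
  have hne : (P : Subgroup G) ≠ ⊥ := by
    intro hb
    have hcard : Nat.card (P : Subgroup G) = 1 := by rw [hb]; exact Subgroup.card_bot
    have := P.card_eq_multiplicity
    rw [hcard] at this
    have hfac : (Nat.card G).factorization p = 0 := by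
      by_contra h0
      have : 1 < p ^ (Nat.card G).factorization p :=
        Nat.one_lt_pow h0 (Fact.out : p.Prime).one_lt
      omega
    have hpos : 0 < (Nat.card G).factorization p :=
      (Fact.out : p.Prime).factorization_pos_of_dvd Nat.card_pos.ne' hp
    omega
  have hnil : Group.IsNilpotent (P : Subgroup G) := P.2.isNilpotent
  have hnt : Nontrivial (P : Subgroup G) := (Subgroup.nontrivial_iff_ne_bot _).2 hne
  have hlt := Group.IsSolvable.commutator_lt_top_of_nontrivial (P : Subgroup G)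
  have hlt' : ⁅(P : Subgroup G), (P : Subgroup G)⁆ < (P : Subgroup G) := by
    rw [← Subgroup.map_subtype_commutator]
    calc (commutator (P : Subgroup G)).map (P : Subgroup G).subtype
        < (⊤ : Subgroup (P : Subgroup G)).map (P : Subgroup G).subtype :=
          (Subgroup.map_subtype_lt_map_subtype).2 hlt
      _ = (P : Subgroup G) := by rw [← MonoidHom.range_eq_map, Subgroup.range_subtype]
  exact absurd h2 (not_le_of_gt hlt')

end Cfsg.Agent.Helper1
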