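import Mathlib
import Cfsg.Prelude.Def_Transfer
import Cfsg.Agent.Helper1.Basic
import Cfsg.Agent.Helper1.Coprime
import Cfsg.Agent.Helper1.Transfer1

set_option autoImplicit false

/-!
Normal `p`-complements: basic API and Burnside's criterion for abelian Sylow subgroups.
-/

namespace Cfsg.Agent.Helper1

open scoped Pointwise commutatorElement

universe u

variable {G : Type u} [Group G]

/-- A normal complement of one Sylow `p`-subgroup complements all of them. -/
theorem isComplement'_sylow_of_isComplement'_sylow [Finite G] {p : ℕ} [Fact p.Prime]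
    (P' P : Sylow p G) (N : Subgroup G) (hN : N.IsComplement' (P' : Subgroup G)) :
    N.IsComplement' (P : Subgroup G) := by
  have hcard : Nat.card (P : Subgroup G) = Nat.card (P' : Subgroup G) := by
    rw [P.card_eq_multiplicity, P'.card_eq_multiplicity]
  apply Subgroup.isComplement'_of_coprime
  · rw [hcard]; exact hN.card_mul_card
  · rw [hcard, ← hN.index_eq_card]
    exact P'.card_coprime_index.symm

theorem hasNormalPComplement_iff [Finite G] {p : ℕ} [Fact p.Prime] (P : Sylow p G) :
    Cfsg.HasNormalPComplement p G ↔ ∃ N : Subgroup G, N.Normal ∧ N.IsComplement' (P : Subgroup G) := by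
  constructor
  · rintro ⟨P', N, hNn, hN⟩
    exact ⟨N, hNn, isComplement'_sylow_of_isComplement'_sylow P' P N hN⟩
  · rintro ⟨N, hNn, hN⟩
    exact ⟨P, N, hNn, hN⟩

/-- Burnside: if `N(P) ≤ C(P)` there is a normal `p`-complement. -/
theorem hasNormalPComplement_of_normalizer_le_centralizer [Finite G] {p : ℕ} [Fact p.Prime]
    (P : Sylow p G)
    (h : Subgroup.normalizer ((P : Subgroup G) : Set G) ≤
      Subgroup.centralizer ((P : Subgroup G) : Set G)) :
    Cfsg.HasNormalPComplement p G :=
  ⟨P, _, inferInstance, MonoidHom.ker_transferSylow_isComplement' P h⟩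

theorem normalPComplement_iff_normalizer_split [Finite G] {p : ℕ} [Fact p.Prime] (P : Sylow p G)
    (hP : IsMulCommutative P) :
    Cfsg.HasNormalPComplement p G ↔
      ∃ Q : Subgroup G, Q ≤ Subgroup.centralizer (P : Set G) ∧ Q ⊓ (P : Subgroup G) = ⊥ ∧
        Q ⊔ (P : Subgroup G) = Subgroup.normalizer (P : Set G) := by
  constructor
  · intro h
    obtain ⟨N, hNn, hN⟩ := (hasNormalPComplement_iff P).1 h
    have hinf : N ⊓ (P : Subgroup G) = ⊥ := hN.disjoint.eq_bot
    refine ⟨Subgroup.normalizer ((P : Subgroup G) : Set G) ⊓ N, ?_, ?_, ?_⟩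
    · intro x hx
      show x ∈ Subgroup.centralizer ((P : Subgroup G) : Set G)
      rw [Subgroup.mem_centralizer_iff]
      intro y hy
      have h1 : x * y * x⁻¹ * y⁻¹ ∈ N ⊓ (P : Subgroup G) := by
        constructor
        · have : x * y * x⁻¹ * y⁻¹ = x * (y * x⁻¹ * y⁻¹) := by group
          rw [this]
          exact N.mul_mem hx.2 (hNn.conj_mem _ (N.inv_mem hx.2) y)
        · exact Subgroup.mul_mem _ ((Subgroup.mem_normalizer_iff.1 hx.1 y).1 hy)
            (Subgroup.inv_mem _ hy)
      rw [hinf, Subgroup.mem_bot] at h1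
      have h2 : ⁅x, y⁆ = 1 := h1
      exact (commutatorElement_eq_one_iff_mul_comm.1 h2).symm
    · rw [eq_bot_iff, ← hinf]
      exact inf_le_inf_right _ inf_le_right
    · apply le_antisymm
      · exact sup_le inf_le_left Subgroup.le_normalizer
      · intro g hg
        have hg' : g ∈ N ⊔ (P : Subgroup G) := by rw [hN.sup_eq_top]; exact Subgroup.mem_top g
        obtain ⟨n, hn, y, hy, rfl⟩ := mem_sup_of_le_normalizer
          (N := N) (A := (P : Subgroup G))
          (by rw [Subgroup.normalizer_eq_top_iff.2 hNn]; exact le_top) hg'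
        have hnN : n ∈ Subgroup.normalizer ((P : Subgroup G) : Set G) := by
          have : n = (n * y) * y⁻¹ := by group
          rw [this]
          exact Subgroup.mul_mem _ hg (Subgroup.inv_mem _ (Subgroup.le_normalizer hy))
        exact Subgroup.mul_mem _ (Subgroup.mem_sup_left ⟨hnN, hn⟩) (Subgroup.mem_sup_right hy)
  · rintro ⟨Q, hQC, -, hsup⟩
    apply hasNormalPComplement_of_normalizer_le_centralizer P
    have hPC : (P : Subgroup G) ≤ Subgroup.centralizer ((P : Subgroup G) : Set G) := by
      intro a ha
      rw [Subgroup.mem_centralizer_iff]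
      intro b hb
      have := mul_comm' (⟨b, hb⟩ : (P : Subgroup G)) ⟨a, ha⟩
      exact congrArg Subtype.val this
    have : Subgroup.normalizer ((P : Subgroup G) : Set G) = Q ⊔ (P : Subgroup G) := hsup.symm
    rw [this]
    exact sup_le hQC hPC

end Cfsg.Agent.Helper1
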