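import Mathlib
import Cfsg.Prelude.Def_Solvable
import Cfsg.Agent.Helper1.Basic

set_option autoImplicit false

/-!
Counting in Frobenius groups.
-/

namespace Cfsg.Agent.Helper1

open scoped Pointwise

universe u

variable {G : Type u} [Group G]

/-- A free action of a finite group on a finite set: the group order divides the set size. -/
theorem card_dvd_of_free (A : Type*) (X : Type*) [Group A] [MulAction A X] [Finite A] [Finite X]
    (h : ∀ x : X, MulAction.stabilizer A x = ⊥) : Nat.card A ∣ Nat.card X := by
  classical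
  have := Fintype.ofFinite (Quotient (MulAction.orbitRel A X))
  rw [Nat.card_congr (MulAction.selfEquivSigmaOrbitsQuotientStabilizer A X), Nat.card_sigma]
  apply Finset.dvd_sum
  intro ω _
  rw [h, ← Subgroup.index_eq_card, Subgroup.index_bot]

theorem card_ne_one_subtype (H : Type*) [Group H] [Finite H] :
    Nat.card {h : H // h ≠ 1} = Nat.card H - 1 := by
  classical
  have := Fintype.ofFinite H
  rw [Nat.card_eq_fintype_card, Nat.card_eq_fintype_card,
    Fintype.card_subtype_compl (fun h : H => h = 1)]
  simp

/-- In a Frobenius group, `C_G(h) ≤ H`-type property: if `x ≠ 1` lies in `H ∩ gHg⁻¹` then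
`g ∈ H`. -/
theorem mem_of_frobenius {H : Subgroup G} (hH : Cfsg.IsFrobeniusComplement H) {g x : G}
    (hx1 : x ≠ 1) (hxH : x ∈ H) (hxg : x ∈ MulAut.conj g • H) : g ∈ H := by
  by_contra hg
  have := hH.2.2 g hg
  have hx : x ∈ H ⊓ MulAut.conj g • H := Subgroup.mem_inf.2 ⟨hxH, hxg⟩
  rw [this, Subgroup.mem_bot] at hx
  exact hx1 hx

theorem frobenius_count [Finite G] (H : Subgroup G) (hH : Cfsg.IsFrobeniusComplement H) :
    Nat.card (Cfsg.frobeniusKernel H) = H.index ∧
      H.index % Nat.card H = 1 % Nat.card H := by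
  classical
  constructor
  · set f : (G ⧸ H) × {h : H // h ≠ 1} → G :=
      fun x => x.1.out * ((x.2 : H) : G) * x.1.out⁻¹ with hf
    have hinj : Function.Injective f := by
      rintro ⟨c, h, hh1⟩ ⟨c', h', hh'1⟩ hcc
      simp only [hf] at hcc
      have hcoset : c.out⁻¹ * c'.out ∈ H := by
        apply mem_of_frobenius hH (x := (h : G))
        · intro h1; exact hh1 (Subtype.ext h1)
        · exact h.2
        · rw [mem_conj_smul]
          have : (c.out⁻¹ * c'.out)⁻¹ * (h : G) * (c.out⁻¹ * c'.out) =
              c'.out⁻¹ * (c.out * (h : G) * c.out⁻¹) * c'.out := by group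
          rw [this, hcc]
          have : c'.out⁻¹ * (c'.out * (h' : G) * c'.out⁻¹) * c'.out = (h' : G) := by group
          rw [this]; exact h'.2
      have hceq : c = c' := by
        rw [← QuotientGroup.out_eq' c, ← QuotientGroup.out_eq' c']
        exact QuotientGroup.eq.2 hcoset
      subst hceq
      have : (h : G) = (h' : G) := by
        have := congrArg (fun t => c.out⁻¹ * t * c.out) hcc
        simpa [mul_assoc] using this
      have hh : h = h' := Subtype.ext this
      subst hh
      rfl
    have hrange : Set.range f = (Cfsg.frobeniusKernel H)ᶜ := by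
      ext x
      simp only [Set.mem_range, Set.mem_compl_iff, Cfsg.frobeniusKernel, Set.mem_ofPred_eq,
        not_or, not_forall, not_not]
      constructor
      · rintro ⟨⟨c, h, hh1⟩, rfl⟩
        simp only [hf]
        constructor
        · intro h1
          apply hh1
          apply Subtype.ext
          have : (h : G) = c.out⁻¹ * (c.out * (h : G) * c.out⁻¹) * c.out := by group
          rw [this, h1]; simp
        · exact ⟨c.out, conj_mem_conj_smul h.2⟩
      · rintro ⟨hx1, g, hxg⟩
        rw [mem_conj_smul] at hxg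
        obtain ⟨h₀, hh₀⟩ := QuotientGroup.mk_out_eq_mul H g
        refine ⟨⟨(g : G ⧸ H), ⟨⟨(h₀ : G)⁻¹ * (g⁻¹ * x * g) * h₀, ?_⟩, ?_⟩⟩, ?_⟩
        · exact H.mul_mem (H.mul_mem (H.inv_mem h₀.2) hxg) h₀.2
        · intro h1
          apply hx1
          have h2 : (h₀ : G)⁻¹ * (g⁻¹ * x * g) * h₀ = 1 := congrArg Subtype.val h1
          have : x = g * h₀ * ((h₀ : G)⁻¹ * (g⁻¹ * x * g) * h₀) * (g * h₀)⁻¹ := by group
          rw [this, h2]; group
        · simp only [hf, hh₀]
          group
    have h1 : Nat.card G = Nat.card (Cfsg.frobeniusKernel H) +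
        Nat.card ((Cfsg.frobeniusKernel H)ᶜ : Set G) := by
      rw [← Nat.card_sum]
      exact (Nat.card_congr (Equiv.Set.sumCompl (Cfsg.frobeniusKernel H))).symm
    have h2 : Nat.card ((Cfsg.frobeniusKernel H)ᶜ : Set G) = H.index * (Nat.card H - 1) := by
      rw [← hrange, ← Nat.card_congr (Equiv.ofInjective f hinj), Nat.card_prod,
        card_ne_one_subtype, Subgroup.index_eq_card]
    have h3 : H.index * Nat.card H = Nat.card G := H.index_mul_card
    have hpos : 1 ≤ Nat.card H := Nat.card_pos
    rw [h2] at h1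
    have h4 : H.index * Nat.card H = H.index * (Nat.card H - 1) + H.index := by
      obtain ⟨m, hm⟩ : ∃ m, Nat.card H = m + 1 := ⟨Nat.card H - 1, by omega⟩
      rw [hm]; simp; ring
    omega
  · -- H acts freely on the nontrivial cosets
    let Y : SubMulAction H (G ⧸ H) :=
      { carrier := {c | c ≠ ((1 : G) : G ⧸ H)}
        smul_mem' := by
          intro h c hc hcon
          apply hc
          obtain ⟨g, rfl⟩ := QuotientGroup.mk_surjective c
          have h1 : (h • (g : G ⧸ H)) = (((h : G) * g : G) : G ⧸ H) := rfl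
          rw [h1] at hcon
          have h2 := QuotientGroup.eq.1 hcon
          apply QuotientGroup.eq.2
          have : g⁻¹ * 1 = ((h : G) * g)⁻¹ * 1 * (h : G) := by group
          rw [this]
          exact H.mul_mem h2 h.2 }
    have hfree : ∀ y : Y, MulAction.stabilizer H y = ⊥ := by
      intro y
      rw [SubMulAction.stabilizer_of_subMul, eq_bot_iff]
      intro h hh
      rw [Subgroup.mem_bot]
      by_contra h1
      obtain ⟨c, hc⟩ := y
      obtain ⟨g, rfl⟩ := QuotientGroup.mk_surjective c
      rw [MulAction.mem_stabilizer_iff] at hh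
      have h2 : (h • (g : G ⧸ H)) = (((h : G) * g : G) : G ⧸ H) := rfl
      have hh' : (((h : G) * g : G) : G ⧸ H) = (g : G ⧸ H) := h2 ▸ hh
      have h3 := QuotientGroup.eq.1 hh'
      have hgH : g ∈ H := by
        apply mem_of_frobenius hH (x := (h : G)⁻¹)
        · intro h4; apply h1; apply Subtype.ext
          simpa using h4
        · exact H.inv_mem h.2
        · rw [mem_conj_smul]
          have : g⁻¹ * (h : G)⁻¹ * g = ((h : G) * g)⁻¹ * g := by group
          rw [this]; exact h3
      apply hc
      apply QuotientGroup.eq.2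
      simpa using hgH
    have hdvd := card_dvd_of_free H Y hfree
    have hYcard : Nat.card Y + 1 = H.index := by
      have h1 : Nat.card (G ⧸ H) = Nat.card ({c | c = ((1 : G) : G ⧸ H)} : Set (G ⧸ H)) +
          Nat.card (({c | c = ((1 : G) : G ⧸ H)} : Set (G ⧸ H))ᶜ : Set (G ⧸ H)) := by
        rw [← Nat.card_sum]
        exact (Nat.card_congr (Equiv.Set.sumCompl _)).symm
      have h2 : Nat.card ({c | c = ((1 : G) : G ⧸ H)} : Set (G ⧸ H)) = 1 := by
        rw [Set.ofPred_eq_eq_singleton]
        simp
      rw [h2] at h1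
      rw [Subgroup.index_eq_card, h1, add_comm]
      rfl
    obtain ⟨t, ht⟩ := hdvd
    rw [← hYcard, ht, add_comm, Nat.add_mul_mod_self_left]

end Cfsg.Agent.Helper1
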