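import Mathlib
import Cfsg.Prelude.Def_Solvable
import Cfsg.Agent.Helper1.Basic
import Cfsg.Agent.Helper1.Coprime
import Cfsg.Agent.Helper1.Frobenius
import Cfsg.Agent.S0007

set_option autoImplicit false

/-!
Groups of order `p^m q` are solvable.
-/

namespace Cfsg.Agent.Helper1

open scoped Pointwise

universe u

/-- normalizers grow in `p`-subgroups. -/
theorem exists_mem_normalizer_not_mem {G : Type u} [Group G] [Finite G] {p : ℕ} [Fact p.Prime]
    {P D : Subgroup G} (hP : IsPGroup p P) (hDP : D < P) :
    ∃ x ∈ P, x ∈ Subgroup.normalizer (D : Set G) ∧ x ∉ D := by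
  have hnil : Group.IsNilpotent P := hP.isNilpotent
  have hlt : D.subgroupOf P < ⊤ := by
    rw [lt_top_iff_ne_top, Ne, Subgroup.subgroupOf_eq_top]
    exact hDP.not_ge
  have h1 := Group.normalizerCondition_of_isNilpotent (G := P) _ hlt
  obtain ⟨x, hxN, hxD⟩ := SetLike.exists_of_lt h1
  rw [← Subgroup.subgroupOf_normalizer_eq hDP.le, Subgroup.mem_subgroupOf] at hxN
  rw [Subgroup.mem_subgroupOf] at hxD
  exact ⟨x, x.2, hxN, hxD⟩

theorem isSolvable_of_card_prime_pow {G : Type u} [Group G] [Finite G] {p n : ℕ} (hp : p.Prime)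
    (h : Nat.card G = p ^ n) : Group.IsSolvable G := by
  have : Fact p.Prime := ⟨hp⟩
  have hnil : Group.IsNilpotent G := (IsPGroup.of_card h).isNilpotent
  infer_instance

/-- A group of order `p^m q` (`m ≥ 1`, `p ≠ q`) has a proper nontrivial normal subgroup. -/
theorem exists_normal_of_card_ppow_mul_prime {G : Type u} [Group G] [Finite G] {p q m : ℕ}
    (hp : p.Prime) (hq : q.Prime) (hpq : p ≠ q) (hm : m ≠ 0) (hG : Nat.card G = p ^ m * q) :
    ∃ N : Subgroup G, N.Normal ∧ N ≠ ⊥ ∧ N ≠ ⊤ := by
  classical
  have hpF : Fact p.Prime := ⟨hp⟩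
  have hqF : Fact q.Prime := ⟨hq⟩
  have hcop : Nat.Coprime p q := (Nat.coprime_primes hp hq).2 hpq
  have hfacp : (Nat.card G).factorization p = m := by
    rw [hG, Nat.factorization_mul (pow_ne_zero _ hp.ne_zero) hq.ne_zero, Finsupp.add_apply,
      hp.factorization_pow, Finsupp.single_eq_same,
      Nat.factorization_eq_zero_of_not_dvd
        (fun hd => hpq ((Nat.prime_dvd_prime_iff_eq hp hq).1 hd)), add_zero]
  have hfacq : (Nat.card G).factorization q = 1 := by
    rw [hG, Nat.factorization_mul (pow_ne_zero _ hp.ne_zero) hq.ne_zero, Finsupp.add_apply,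
      hq.factorization_self, Nat.factorization_eq_zero_of_not_dvd
        (fun hd => hpq ((Nat.prime_dvd_prime_iff_eq hq hp).1
          (hq.dvd_of_dvd_pow hd)).symm), zero_add]
  have hcardP : ∀ P : Sylow p G, Nat.card (P : Subgroup G) = p ^ m := fun P => by
    rw [P.card_eq_multiplicity, hfacp]
  have hidxP : ∀ P : Sylow p G, (P : Subgroup G).index = q := fun P => by
    have h1 := (P : Subgroup G).card_mul_index
    rw [hcardP, hG] at h1
    exact Nat.eq_of_mul_eq_mul_left (pow_pos hp.pos m) h1
  have hPbot : ∀ P : Sylow p G, (P : Subgroup G) ≠ ⊥ := fun P h => by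
    have h1 := hcardP P
    rw [h, Subgroup.card_bot] at h1
    exact (Nat.one_lt_pow hm hp.one_lt).ne h1
  have hPtop : ∀ P : Sylow p G, (P : Subgroup G) ≠ ⊤ := fun P h => by
    have h1 := hidxP P
    rw [h, Subgroup.index_top] at h1
    exact hq.one_lt.ne h1
  obtain ⟨P⟩ : Nonempty (Sylow p G) := inferInstance
  have hnp : Nat.card (Sylow p G) ∣ q := hidxP P ▸ P.card_dvd_index
  rcases (Nat.dvd_prime hq).1 hnp with h1 | hnq
  · -- P normal
    refine ⟨P, ?_, hPbot P, hPtop P⟩
    have h2 := P.card_eq_index_normalizer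
    rw [h1] at h2
    exact Subgroup.normalizer_eq_top_iff.1 (Subgroup.index_eq_one.1 h2.symm)
  · -- self-normalizing Sylows
    have hnorm : ∀ P : Sylow p G, Subgroup.normalizer ((P : Subgroup G) : Set G) = P := by
      intro P
      have h2 : Nat.card (Sylow p G) =
          (Subgroup.normalizer ((P : Subgroup G) : Set G)).index := P.card_eq_index_normalizer
      rw [hnq] at h2
      symm
      apply Subgroup.eq_of_le_of_card_ge Subgroup.le_normalizer
      have h3 := (Subgroup.normalizer ((P : Subgroup G) : Set G)).card_mul_index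
      have h4 := (P : Subgroup G).card_mul_index
      rw [← h2] at h3
      rw [hidxP P] at h4
      have : Nat.card (Subgroup.normalizer ((P : Subgroup G) : Set G)) =
          Nat.card (P : Subgroup G) :=
        Nat.eq_of_mul_eq_mul_right hq.pos (h3.trans h4.symm)
      exact this.le
    by_cases hTI : ∀ P₁ P₂ : Sylow p G, P₁ ≠ P₂ → (P₁ : Subgroup G) ⊓ (P₂ : Subgroup G) = ⊥
    · -- Frobenius case
      have hF : Cfsg.IsFrobeniusComplement (P : Subgroup G) := by
        refine ⟨hPbot P, hPtop P, fun g hg => ?_⟩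
        have hne : P ≠ g • P := by
          intro h
          apply hg
          have : g ∈ Subgroup.normalizer ((P : Subgroup G) : Set G) :=
            Sylow.smul_eq_iff_mem_normalizer.1 h.symm
          rw [hnorm P] at this
          exact this
        have := hTI P (g • P) hne
        rwa [Sylow.coe_subgroup_smul] at this
      have hKcard := (frobenius_count (P : Subgroup G) hF).1
      rw [hidxP P] at hKcard
      obtain ⟨Q⟩ : Nonempty (Sylow q G) := inferInstance
      have hcardQ : ∀ Q : Sylow q G, Nat.card (Q : Subgroup G) = q := fun Q => by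
        rw [Q.card_eq_multiplicity, hfacq, pow_one]
      have hQK : ∀ Q : Sylow q G, ((Q : Subgroup G) : Set G) = Cfsg.frobeniusKernel (P : Subgroup G) := by
        intro Q
        have hsub : ((Q : Subgroup G) : Set G) ⊆ Cfsg.frobeniusKernel (P : Subgroup G) := by
          intro x hx
          by_cases hx1 : x = 1
          · exact Or.inl hx1
          · right
            intro g hxg
            have ho1 : orderOf x ∣ q := by
              have := orderOf_dvd_natCard (⟨x, hx⟩ : (Q : Subgroup G))
              rwa [hcardQ Q, Subgroup.orderOf_mk] at this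
            have ho2 : orderOf x ∣ p ^ m := by
              have := orderOf_dvd_natCard (⟨x, hxg⟩ : (MulAut.conj g • (P : Subgroup G) : Subgroup G))
              rwa [card_conj_smul, hcardP P, Subgroup.orderOf_mk] at this
            have ho3 : orderOf x = 1 :=
              Nat.eq_one_of_dvd_coprimes (Nat.Coprime.pow_left m hcop).symm ho1 ho2
            exact hx1 (orderOf_eq_one_iff.1 ho3)
        apply Set.eq_of_subset_of_ncard_le hsub _ (Set.toFinite _)
        rw [← Nat.card_coe_set_eq, ← Nat.card_coe_set_eq, hKcard]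
        exact (hcardQ Q).ge
      refine ⟨Q, ?_, ?_, ?_⟩
      · constructor
        intro n hn g
        have h1 : g * n * g⁻¹ ∈ ((g • Q : Sylow q G) : Subgroup G) := by
          rw [Sylow.coe_subgroup_smul]; exact conj_mem_conj_smul hn
        have h2 : (((g • Q : Sylow q G) : Subgroup G) : Set G) = ((Q : Subgroup G) : Set G) := by
          rw [hQK, hQK]
        exact (Set.ext_iff.1 h2 _).1 h1
      · intro h
        have h1 := hcardQ Q
        rw [h, Subgroup.card_bot] at h1
        exact hq.one_lt.ne h1
      · intro h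
        have h1 := hcardQ Q
        rw [h, Subgroup.card_top, hG] at h1
        have : 1 < p ^ m := Nat.one_lt_pow hm hp.one_lt
        nlinarith [hq.pos]
    · -- a maximal intersection
      push Not at hTI
      let S : Set (Sylow p G × Sylow p G) :=
        {x | x.1 ≠ x.2 ∧ (x.1 : Subgroup G) ⊓ (x.2 : Subgroup G) ≠ ⊥}
      have hSne : S.Nonempty := by
        obtain ⟨P₁, P₂, h1, h2⟩ := hTI
        exact ⟨(P₁, P₂), h1, h2⟩
      obtain ⟨⟨P₁, P₂⟩, ⟨hne, hDne⟩, hmax⟩ := Set.exists_max_image S
        (fun x => Nat.card ((x.1 : Subgroup G) ⊓ (x.2 : Subgroup G) : Subgroup G))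
        (Set.toFinite S) hSne
      simp only at hne hDne hmax
      set D := (P₁ : Subgroup G) ⊓ (P₂ : Subgroup G) with hD
      have hlt : ∀ P P' : Sylow p G, P ≠ P' → (P : Subgroup G) ⊓ (P' : Subgroup G) < P := by
        intro P P' hPP'
        apply lt_of_le_of_ne inf_le_left
        intro h
        apply hPP'
        have h1 : (P : Subgroup G) ≤ P' := inf_eq_left.1 h
        have h2 : (P : Subgroup G) = P' :=
          Subgroup.eq_of_le_of_card_ge h1 (by rw [hcardP, hcardP])
        exact Sylow.ext h2
      obtain ⟨x₁, hx₁P, hx₁N, hx₁D⟩ := exists_mem_normalizer_not_mem P₁.2 (hlt P₁ P₂ hne)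
      obtain ⟨x₂, hx₂P, hx₂N, hx₂D⟩ := exists_mem_normalizer_not_mem
        (D := (P₂ : Subgroup G) ⊓ (P₁ : Subgroup G)) P₂.2 (hlt P₂ P₁ hne.symm)
      have hcomm : (P₂ : Subgroup G) ⊓ (P₁ : Subgroup G) = D := inf_comm _ _
      rw [hcomm] at hx₂N hx₂D
      set H := Subgroup.normalizer (D : Set G) with hH
      have hnotp : ¬ IsPGroup p H := by
        intro hHp
        obtain ⟨P₃, hP₃⟩ := hHp.exists_le_sylow
        have hDP₃ : D ≤ P₃ := Subgroup.le_normalizer.trans hP₃
        have key : ∀ (P' : Sylow p G) (x : G), D ≤ P' → x ∈ (P' : Subgroup G) → x ∈ H → x ∉ D →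
            P₃ = P' := by
          intro P' x hDP' hxP' hxH hxD
          by_contra hne'
          have h1 : D ≤ (P₃ : Subgroup G) ⊓ (P' : Subgroup G) := le_inf hDP₃ hDP'
          have h2 : (P₃ : Subgroup G) ⊓ (P' : Subgroup G) ≠ ⊥ := by
            intro h; rw [h, le_bot_iff] at h1; exact hDne h1
          have h3 := hmax (P₃, P') ⟨hne', h2⟩
          simp only at h3
          have h4 : D = (P₃ : Subgroup G) ⊓ (P' : Subgroup G) :=
            Subgroup.eq_of_le_of_card_ge h1 h3
          apply hxD
          rw [h4]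
          exact Subgroup.mem_inf.2 ⟨hP₃ hxH, hxP'⟩
        have e1 := key P₁ x₁ inf_le_left hx₁P hx₁N hx₁D
        have e2 := key P₂ x₂ inf_le_right hx₂P hx₂N hx₂D
        exact hne (e1.symm.trans e2)
      have hqH : q ∣ Nat.card H := by
        by_contra hqH
        apply hnotp
        have h1 : Nat.card H ∣ p ^ m * q := hG ▸ Subgroup.card_subgroup_dvd_card H
        have h2 : Nat.card H ∣ p ^ m :=
          (Nat.Coprime.symm ((Nat.Prime.coprime_iff_not_dvd hq).2 hqH)).dvd_of_dvd_mul_right h1
        obtain ⟨j, -, hj⟩ := (Nat.dvd_prime_pow hp).1 h2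
        exact IsPGroup.of_card hj
      obtain ⟨y, hy⟩ := exists_prime_orderOf_dvd_card' q hqH
      have hy' : orderOf (y : G) = q := by rw [Subgroup.orderOf_coe]; exact hy
      have hcardY : Nat.card (Subgroup.zpowers (y : G)) = q := by rw [Nat.card_zpowers, hy']
      have hidxY : (Subgroup.zpowers (y : G)).index = p ^ m := by
        have h1 := (Subgroup.zpowers (y : G)).card_mul_index
        rw [hcardY, hG, mul_comm] at h1
        exact Nat.eq_of_mul_eq_mul_right hq.pos h1
      have hfact := (Cfsg.Agent.S0007.result (P₁ : Subgroup G) (Subgroup.zpowers (y : G))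
        (by rw [hidxP, hidxY]; exact (Nat.Coprime.pow_left m hcop).symm)).2
      have hYH : Subgroup.zpowers (y : G) ≤ H := by
        rw [Subgroup.zpowers_le]; exact y.2
      have hNle : Subgroup.normalClosure (D : Set G) ≤ P₁ := by
        rw [Subgroup.normalClosure, Subgroup.closure_le]
        intro z hz
        obtain ⟨d, hd, hconj⟩ := Group.mem_conjugatesOfSet_iff.1 hz
        obtain ⟨c, rfl⟩ := isConj_iff.1 hconj
        obtain ⟨a, ha, b, hb, rfl⟩ := hfact c
        have h1 : b * d * b⁻¹ ∈ D := (Subgroup.mem_normalizer_iff.1 (hYH hb) d).1 hd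
        have h2 : a * b * d * (a * b)⁻¹ = a * (b * d * b⁻¹) * a⁻¹ := by group
        rw [SetLike.mem_coe, h2]
        exact Subgroup.mul_mem _ (Subgroup.mul_mem _ ha (inf_le_left (a := (P₁ : Subgroup G)) h1))
          (Subgroup.inv_mem _ ha)
      refine ⟨Subgroup.normalClosure (D : Set G), Subgroup.normalClosure_normal, ?_, ?_⟩
      · intro h
        apply hDne
        rw [eq_bot_iff, ← h]
        exact Subgroup.le_normalClosure
      · intro h
        apply hPtop P₁
        rw [eq_top_iff, ← h]
        exact hNle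

theorem dvd_ppow_mul_prime_form {p q d m b : ℕ} (hp : p.Prime) (hq : q.Prime) (hb : b ≤ 1)
    (h : d ∣ p ^ m * q ^ b) : ∃ a c, c ≤ 1 ∧ d = p ^ a * q ^ c := by
  obtain ⟨k₁, k₂, h1, h2, rfl⟩ := (Nat.dvd_mul).1 h
  obtain ⟨a, -, rfl⟩ := (Nat.dvd_prime_pow hp).1 h1
  obtain ⟨c, hc, rfl⟩ := (Nat.dvd_prime_pow hq).1 h2
  exact ⟨a, c, hc.trans hb, rfl⟩

theorem isSolvable_of_card_ppow_mul_prime (p q : ℕ) (hp : p.Prime) (hq : q.Prime) :
    ∀ (k : ℕ) (G : Type u) [Group G] [Finite G], Nat.card G = k →
    (∃ m b, b ≤ 1 ∧ k = p ^ m * q ^ b) → Group.IsSolvable G := by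
  intro k
  induction k using Nat.strong_induction_on with
  | _ k ih =>
  intro G _ _ hk ⟨m, b, hb, hkm⟩
  rcases Nat.le_one_iff_eq_zero_or_eq_one.1 hb with rfl | rfl
  · rw [pow_zero, mul_one] at hkm
    exact isSolvable_of_card_prime_pow hp (hk.trans hkm)
  · rw [pow_one] at hkm
    by_cases hpq : p = q
    · subst hpq
      exact isSolvable_of_card_prime_pow hp (n := m + 1) (by rw [hk, hkm, pow_succ])
    · by_cases hm : m = 0
      · subst hm
        rw [pow_zero, one_mul] at hkm
        exact isSolvable_of_card_prime_pow hq (n := 1) (by rw [hk, hkm, pow_one])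
      · obtain ⟨N, hNn, hNbot, hNtop⟩ :=
          exists_normal_of_card_ppow_mul_prime hp hq hpq hm (hk.trans hkm)
        have hcardN : Nat.card N ∣ k := hk ▸ Subgroup.card_subgroup_dvd_card N
        have hidxN : N.index ∣ k := hk ▸ Subgroup.index_dvd_card N
        have hkpos : 0 < k := hk ▸ Nat.card_pos
        have hNlt : Nat.card N < k := by
          apply lt_of_le_of_ne (Nat.le_of_dvd hkpos hcardN)
          intro h
          apply hNtop
          exact (Subgroup.card_eq_iff_eq_top N).1 (h.trans hk.symm)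
        have hQlt : Nat.card (G ⧸ N) < k := by
          rw [← Subgroup.index_eq_card]
          apply lt_of_le_of_ne (Nat.le_of_dvd hkpos hidxN)
          intro h
          apply hNbot
          have h1 := N.card_mul_index
          rw [h, hk] at h1
          have h2 : Nat.card N = 1 := by
            have : Nat.card N * k = 1 * k := by rw [h1, one_mul]
            exact Nat.eq_of_mul_eq_mul_right hkpos this
          exact Subgroup.card_eq_one.1 h2
        have hform : ∀ d, d ∣ k → ∃ a c, c ≤ 1 ∧ d = p ^ a * q ^ c := by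
          intro d hd
          rw [hkm] at hd
          exact dvd_ppow_mul_prime_form hp hq (m := m) (b := 1) le_rfl (by rwa [pow_one])
        have hNs : Group.IsSolvable N := ih _ hNlt N rfl (hform _ hcardN)
        have hQs : Group.IsSolvable (G ⧸ N) :=
          ih _ hQlt (G ⧸ N) rfl (hform _ (by rw [← Subgroup.index_eq_card]; exact hidxN))
        exact Group.isSolvable_of_ker_le_range N.subtype (QuotientGroup.mk' N)
          (by rw [QuotientGroup.ker_mk', Subgroup.range_subtype])

end Cfsg.Agent.Helper1
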