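import Mathlib
import Cfsg.Agent.Helper1.Basic
import Cfsg.Agent.Helper1.SZ
import Cfsg.Agent.Helper1.Coprime

set_option autoImplicit false

/-!
Glauberman's lemma in internal form, and consequences for invariant Sylow subgroups.
-/

namespace Cfsg.Agent.Helper1

open scoped Pointwise commutatorElement

universe u v

variable {G : Type u} [Group G]

/-- If `A` normalizes `K`, `A ∩ K = 1`, `S ≤ KA` and `KS = KA` then `|S : S ∩ K| = |A|`. -/
theorem relIndex_eq_card_of_sup_eq [Finite G] {K A S : Subgroup G}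
    (hA : A ≤ Subgroup.normalizer (K : Set G)) (hdisj : A ⊓ K = ⊥)
    (hS : S ≤ K ⊔ A) (hKS : K ⊔ S = K ⊔ A) : K.relIndex S = Nat.card A := by
  set L := K ⊔ A with hL
  have hKL : K ≤ L := le_sup_left
  have hKLn : (K.subgroupOf L).Normal :=
    (Subgroup.normal_subgroupOf_iff_le_normalizer hKL).2 (sup_le_normalizer_of_le_normalizer hA)
  have hLcard : Nat.card L = Nat.card A * Nat.card K := card_sup_of_le_normalizer hA hdisj
  have hKLcard : Nat.card (K.subgroupOf L) = Nat.card K := card_subgroupOf_of_le hKL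
  have hKLidx : (K.subgroupOf L).index = Nat.card A := by
    have h1 := (K.subgroupOf L).card_mul_index
    rw [hKLcard, hLcard, mul_comm] at h1
    exact Nat.eq_of_mul_eq_mul_right Nat.card_pos h1
  have h1 : (K.subgroupOf L).relIndex (S.subgroupOf L ⊔ K.subgroupOf L) =
      (K.subgroupOf L).relIndex (S.subgroupOf L) := Subgroup.relIndex_sup_right _ _
  have h2 : S.subgroupOf L ⊔ K.subgroupOf L = ⊤ := by
    rw [← Subgroup.subgroupOf_sup hS hKL, sup_comm, hKS, Subgroup.subgroupOf_self]
  rw [h2, Subgroup.relIndex_top_right, hKLidx, Subgroup.relIndex_subgroupOf hS] at h1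
  exact h1.symm

/-- Schur–Zassenhaus existence, internal form. -/
theorem exists_complement_internal [Finite G] (S N : Subgroup G) (hNS : N ≤ S)
    (hS : S ≤ Subgroup.normalizer (N : Set G)) (hcop : (Nat.card N).Coprime (N.relIndex S)) :
    ∃ B : Subgroup G, B ≤ S ∧ Nat.card B = N.relIndex S := by
  have hn : (N.subgroupOf S).Normal := (Subgroup.normal_subgroupOf_iff_le_normalizer hNS).2 hS
  have hcop' : (Nat.card (N.subgroupOf S)).Coprime (N.subgroupOf S).index := by
    rw [card_subgroupOf_of_le hNS]; exact hcop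
  obtain ⟨B', hB'⟩ := Subgroup.exists_right_complement'_of_coprime hcop'
  refine ⟨B'.map S.subtype, Subgroup.map_subtype_le B', ?_⟩
  rw [Subgroup.card_map_of_injective S.subtype_injective]
  have := hB'.symm.index_eq_card
  exact this.symm

/-- **Glauberman's lemma, existence**: if `A` acts coprimely on `K`, both acting on a set, and
`A` preserves the `K`-orbit of `x₀`, then `A` fixes a point of this orbit. -/
theorem glauberman_exists [Finite G] {X : Type v} [MulAction G X] (A K : Subgroup G)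
    (hAK : A ≤ Subgroup.normalizer (K : Set G)) (hcop : (Nat.card A).Coprime (Nat.card K))
    (hsolv : Group.IsSolvable A ∨ Group.IsSolvable K) (x₀ : X)
    (horb : ∀ a ∈ A, ∃ k ∈ K, a • x₀ = k • x₀) :
    ∃ k ∈ K, ∀ a ∈ A, a • k • x₀ = k • x₀ := by
  have hdisj : A ⊓ K = ⊥ := inf_eq_bot_of_coprime_card hcop
  set L := K ⊔ A with hL
  set St := MulAction.stabilizer G x₀ with hSt
  set S := St ⊓ L with hSdef
  set N := K ⊓ S with hN
  have hSL : S ≤ L := inf_le_right
  have hNS : N ≤ S := inf_le_right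
  have hLK : L ≤ Subgroup.normalizer (K : Set G) := sup_le_normalizer_of_le_normalizer hAK
  have hSnorm : S ≤ Subgroup.normalizer (N : Set G) :=
    le_normalizer_inf (hSL.trans hLK) Subgroup.le_normalizer
  have hKS : K ⊔ S = L := by
    apply le_antisymm (sup_le le_sup_left hSL)
    intro t ht
    obtain ⟨k, hk, a, ha, rfl⟩ := mem_sup_of_le_normalizer hAK ht
    obtain ⟨k', hk', hak'⟩ := horb a ha
    have h1 : k'⁻¹ * a ∈ S := by
      refine Subgroup.mem_inf.2 ⟨?_,
        Subgroup.mul_mem _ (Subgroup.mem_sup_left (K.inv_mem hk')) (Subgroup.mem_sup_right ha)⟩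
      rw [hSt, MulAction.mem_stabilizer_iff, mul_smul, hak', inv_smul_smul]
    have h2 : k * a = (k * k') * (k'⁻¹ * a) := by group
    rw [h2]
    exact Subgroup.mul_mem _ (Subgroup.mem_sup_left (K.mul_mem hk hk')) (Subgroup.mem_sup_right h1)
  have hidx : N.relIndex S = Nat.card A := by
    rw [hN, Subgroup.inf_relIndex_right]
    exact relIndex_eq_card_of_sup_eq hAK hdisj hSL hKS
  have hcopN : (Nat.card N).Coprime (N.relIndex S) := by
    rw [hidx]
    exact (hcop.coprime_dvd_right (Subgroup.card_dvd_of_le inf_le_left)).symm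
  obtain ⟨B, hBS, hBcard⟩ := exists_complement_internal S N hNS hSnorm hcopN
  rw [hidx] at hBcard
  obtain ⟨n, hn, hnB⟩ := sz_conj_internal K A B hAK (hBS.trans hSL) hBcard hcop.symm hsolv.symm
  refine ⟨n⁻¹, K.inv_mem hn, fun a ha => ?_⟩
  have h1 : n * a * n⁻¹ ∈ St := (Subgroup.mem_inf.1 (hBS (hnB ▸ conj_mem_conj_smul ha))).1
  rw [hSt, MulAction.mem_stabilizer_iff] at h1
  calc a • n⁻¹ • x₀ = n⁻¹ • ((n * a * n⁻¹) • x₀) := by simp [mul_smul]
    _ = n⁻¹ • x₀ := by rw [h1]

/-- **Glauberman's lemma, conjugacy**: two `A`-fixed points in the same `K`-orbit are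
interchanged by an element of `C_K(A)`. -/
theorem glauberman_conj [Finite G] {X : Type v} [MulAction G X] (A K : Subgroup G)
    (hAK : A ≤ Subgroup.normalizer (K : Set G)) (hcop : (Nat.card A).Coprime (Nat.card K))
    (hsolv : Group.IsSolvable A ∨ Group.IsSolvable K) (x y : X)
    (hx : ∀ a ∈ A, a • x = x) (hy : ∀ a ∈ A, a • y = y) (k : G) (hk : k ∈ K) (hkxy : k • x = y) :
    ∃ c ∈ K ⊓ Subgroup.centralizer (A : Set G), c • x = y := by
  have hdisj : K ⊓ A = ⊥ := inf_eq_bot_of_coprime_card hcop.symm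
  set St := MulAction.stabilizer G x with hSt
  set N := K ⊓ St with hN
  have hASt : A ≤ St := fun a ha => by rw [hSt, MulAction.mem_stabilizer_iff]; exact hx a ha
  have hAN : A ≤ Subgroup.normalizer (N : Set G) :=
    le_normalizer_inf hAK (hASt.trans Subgroup.le_normalizer)
  have hBSt : MulAut.conj k⁻¹ • A ≤ St := by
    intro b hb
    rw [mem_conj_smul, inv_inv] at hb
    have h1 := hy _ hb
    rw [hSt, MulAction.mem_stabilizer_iff]
    have h2 : b • x = k⁻¹ • ((k * b * k⁻¹) • y) := by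
      rw [← hkxy]; simp [mul_smul]
    rw [h2, h1, ← hkxy, inv_smul_smul]
  have hB : MulAut.conj k⁻¹ • A ≤ N ⊔ A := by
    intro b hb
    have hbSt := hBSt hb
    rw [mem_conj_smul, inv_inv] at hb
    set a := k * b * k⁻¹ with ha
    have hb' : b = (k⁻¹ * (a * k * a⁻¹)) * a := by rw [ha]; group
    have h1 : a * k * a⁻¹ ∈ K := (Subgroup.mem_normalizer_iff.1 (hAK hb) k).1 hk
    have h2 : k⁻¹ * (a * k * a⁻¹) ∈ K := K.mul_mem (K.inv_mem hk) h1
    have h3 : k⁻¹ * (a * k * a⁻¹) ∈ St := by
      have : k⁻¹ * (a * k * a⁻¹) = b * a⁻¹ := by rw [ha]; group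
      rw [this]
      exact St.mul_mem hbSt (St.inv_mem (hASt hb))
    rw [hb']
    exact Subgroup.mul_mem _ (Subgroup.mem_sup_left (Subgroup.mem_inf.2 ⟨h2, h3⟩)) (Subgroup.mem_sup_right hb)
  have hcopN : (Nat.card N).Coprime (Nat.card A) :=
    (hcop.coprime_dvd_right (Subgroup.card_dvd_of_le inf_le_left)).symm
  have hsolv' : Group.IsSolvable N ∨ Group.IsSolvable A := by
    rcases hsolv with h | h
    · exact Or.inr h
    · exact Or.inl (isSolvable_of_le inf_le_left h)
  obtain ⟨n, hn, hnA⟩ := sz_conj_internal N A (MulAut.conj k⁻¹ • A) hAN hB (card_conj_smul _ A)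
    hcopN hsolv'
  have hknK : k * n ∈ K := K.mul_mem hk (Subgroup.mem_inf.1 hn).1
  have hnorm : k * n ∈ Subgroup.normalizer (A : Set G) := by
    apply mem_normalizer_of_conj_smul_eq
    rw [map_mul, mul_smul, hnA, ← mul_smul, ← map_mul, mul_inv_cancel, map_one, one_smul]
  refine ⟨k * n, ⟨hknK, inf_normalizer_le_centralizer hAK hdisj ⟨hknK, hnorm⟩⟩, ?_⟩
  have h4 : n • x = x := by
    have := (Subgroup.mem_inf.1 hn).2
    rwa [hSt, MulAction.mem_stabilizer_iff] at this
  rw [mul_smul, h4, hkxy]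

end Cfsg.Agent.Helper1
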