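import Mathlib
import Cfsg.Agent.Helper1.Basic
import Cfsg.Agent.Helper1.SZ
import Cfsg.Agent.Helper1.Coprime
import Cfsg.Agent.Helper1.Glauberman

set_option autoImplicit false

/-!
Sylow subgroups of a subgroup `K ≤ G`, viewed inside `G`; invariant Sylow subgroups under
coprime action.
-/

namespace Cfsg.Agent.Helper1

open scoped Pointwise commutatorElement

universe u v

variable {G : Type u} [Group G] {p : ℕ} [Fact p.Prime]

omit [Fact p.Prime] in
theorem sylow_smul_map (K : Subgroup G) (P : Sylow p K) (k : K) :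
    ((k • P : Sylow p K) : Subgroup K).map K.subtype =
      MulAut.conj (k : G) • (P : Subgroup K).map K.subtype := by
  rw [Sylow.coe_subgroup_smul, map_conj_smul]; rfl

theorem card_map_subtype (K : Subgroup G) (M : Subgroup K) :
    Nat.card (M.map K.subtype) = Nat.card M :=
  Subgroup.card_map_of_injective K.subtype_injective

theorem exists_sylow_map_eq [Finite G] (K Q : Subgroup G) (hQK : Q ≤ K) (P : Sylow p K)
    (hcard : Nat.card Q = Nat.card P) :
    ∃ P' : Sylow p K, (P' : Subgroup K).map K.subtype = Q := by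
  refine ⟨Sylow.ofCard (Q.subgroupOf K) ?_, ?_⟩
  · rw [card_subgroupOf_of_le hQK, hcard, P.card_eq_multiplicity]
  · rw [Sylow.coe_ofCard, Subgroup.map_subgroupOf_eq_of_le hQK]

theorem conj_smul_le_of_mem_normalizer {K M : Subgroup G} (hM : M ≤ K) {g : G}
    (hg : g ∈ Subgroup.normalizer (K : Set G)) : MulAut.conj g • M ≤ K := by
  intro x hx
  rw [mem_conj_smul] at hx
  have h1 := (Subgroup.mem_normalizer_iff.1 hg _).1 (hM hx)
  simpa [mul_assoc] using h1

theorem exists_sylow_map_eq_conj [Finite G] (K : Subgroup G) (P : Sylow p K) (g : G)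
    (hg : g ∈ Subgroup.normalizer (K : Set G)) :
    ∃ P' : Sylow p K, (P' : Subgroup K).map K.subtype =
      MulAut.conj g • (P : Subgroup K).map K.subtype :=
  exists_sylow_map_eq K _ (conj_smul_le_of_mem_normalizer (Subgroup.map_subtype_le _) hg) P
    (by rw [card_conj_smul, card_map_subtype])

theorem exists_conj_sylow_map [Finite G] (K : Subgroup G) (P Q : Sylow p K) :
    ∃ k ∈ K, MulAut.conj k • (P : Subgroup K).map K.subtype = (Q : Subgroup K).map K.subtype := by
  obtain ⟨k, hk⟩ := MulAction.exists_smul_eq K P Q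
  exact ⟨k, k.2, by rw [← hk, sylow_smul_map]⟩

/-- Glauberman's lemma for the conjugation action on subgroups, existence. -/
theorem glauberman_exists_subgroup [Finite G] (A K : Subgroup G)
    (hAK : A ≤ Subgroup.normalizer (K : Set G)) (hcop : (Nat.card A).Coprime (Nat.card K))
    (hsolv : Group.IsSolvable A ∨ Group.IsSolvable K) (P₀ : Subgroup G)
    (horb : ∀ a ∈ A, ∃ k ∈ K, MulAut.conj a • P₀ = MulAut.conj k • P₀) :
    ∃ k ∈ K, ∀ a ∈ A, MulAut.conj a • MulAut.conj k • P₀ = MulAut.conj k • P₀ := by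
  let _ : MulAction G (Subgroup G) := MulAction.compHom (Subgroup G) (MulAut.conj (G := G))
  exact glauberman_exists A K hAK hcop hsolv P₀ horb

/-- Glauberman's lemma for the conjugation action on subgroups, conjugacy. -/
theorem glauberman_conj_subgroup [Finite G] (A K : Subgroup G)
    (hAK : A ≤ Subgroup.normalizer (K : Set G)) (hcop : (Nat.card A).Coprime (Nat.card K))
    (hsolv : Group.IsSolvable A ∨ Group.IsSolvable K) (x y : Subgroup G)
    (hx : ∀ a ∈ A, MulAut.conj a • x = x) (hy : ∀ a ∈ A, MulAut.conj a • y = y) (k : G)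
    (hk : k ∈ K) (hkxy : MulAut.conj k • x = y) :
    ∃ c ∈ K ⊓ Subgroup.centralizer (A : Set G), MulAut.conj c • x = y := by
  let _ : MulAction G (Subgroup G) := MulAction.compHom (Subgroup G) (MulAut.conj (G := G))
  exact glauberman_conj A K hAK hcop hsolv x y hx hy k hk hkxy

/-- Under coprime action there is an invariant Sylow subgroup. -/
theorem exists_invariant_sylow [Finite G] (A K : Subgroup G)
    (hAK : A ≤ Subgroup.normalizer (K : Set G)) (hcop : (Nat.card A).Coprime (Nat.card K))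
    (hsolv : Group.IsSolvable A ∨ Group.IsSolvable K) :
    ∃ P : Sylow p K, A ≤ Subgroup.normalizer ((P : Subgroup K).map K.subtype : Set G) := by
  obtain ⟨P₀⟩ : Nonempty (Sylow p K) := inferInstance
  obtain ⟨k, hk, hfix⟩ := glauberman_exists_subgroup A K hAK hcop hsolv
    ((P₀ : Subgroup K).map K.subtype) (by
      intro a ha
      obtain ⟨P', hP'⟩ := exists_sylow_map_eq_conj K P₀ a (hAK ha)
      obtain ⟨k, hk, hk'⟩ := exists_conj_sylow_map K P₀ P'
      exact ⟨k, hk, by rw [hk', hP']⟩)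
  refine ⟨(⟨k, hk⟩ : K) • P₀, ?_⟩
  rw [sylow_smul_map]
  intro a ha
  exact mem_normalizer_of_conj_smul_eq (hfix a ha)

/-- Invariant Sylow subgroups are conjugate under the fixed points. -/
theorem invariant_sylow_conj [Finite G] (A K : Subgroup G)
    (hAK : A ≤ Subgroup.normalizer (K : Set G)) (hcop : (Nat.card A).Coprime (Nat.card K))
    (hsolv : Group.IsSolvable A ∨ Group.IsSolvable K) (P Q : Sylow p K)
    (hP : A ≤ Subgroup.normalizer ((P : Subgroup K).map K.subtype : Set G))
    (hQ : A ≤ Subgroup.normalizer ((Q : Subgroup K).map K.subtype : Set G)) :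
    ∃ c : K, (c : G) ∈ Subgroup.centralizer (A : Set G) ∧ MulAut.conj c • P = Q := by
  obtain ⟨k, hk, hk'⟩ := exists_conj_sylow_map K P Q
  obtain ⟨c, hc, hc'⟩ := glauberman_conj_subgroup A K hAK hcop hsolv _ _
    (fun a ha => conj_smul_eq_of_mem_normalizer (hP ha))
    (fun a ha => conj_smul_eq_of_mem_normalizer (hQ ha)) k hk hk'
  refine ⟨⟨c, hc.1⟩, hc.2, ?_⟩
  apply Sylow.ext
  apply Subgroup.map_injective K.subtype_injective
  rw [← hc']
  exact sylow_smul_map K P ⟨c, hc.1⟩

/-- An invariant `p`-subgroup lies in an invariant Sylow `p`-subgroup. -/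
theorem exists_invariant_sylow_ge [Finite G] (A K : Subgroup G)
    (hAK : A ≤ Subgroup.normalizer (K : Set G)) (hcop : (Nat.card A).Coprime (Nat.card K))
    (hsolv : Group.IsSolvable A ∨ Group.IsSolvable K) (U : Subgroup G) (hUK : U ≤ K)
    (hU : IsPGroup p U) (hUA : A ≤ Subgroup.normalizer (U : Set G)) :
    ∃ P : Sylow p K, U ≤ (P : Subgroup K).map K.subtype ∧
      A ≤ Subgroup.normalizer ((P : Subgroup K).map K.subtype : Set G) := by
  have hp : p.Prime := Fact.out
  let 𝒮 : Set (Subgroup G) :=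
    {V | U ≤ V ∧ V ≤ K ∧ IsPGroup p V ∧ A ≤ Subgroup.normalizer (V : Set G)}
  have hU𝒮 : U ∈ 𝒮 := ⟨le_rfl, hUK, hU, hUA⟩
  obtain ⟨V, hUV, hVmax⟩ := (Set.toFinite 𝒮).exists_le_maximal hU𝒮
  obtain ⟨-, hVK, hVp, hVA⟩ : V ∈ 𝒮 := hVmax.prop
  set M := K ⊓ Subgroup.normalizer (V : Set G) with hM
  have hMK : M ≤ K := inf_le_left
  have hVM : V ≤ M := le_inf hVK Subgroup.le_normalizer
  have hAM : A ≤ Subgroup.normalizer (M : Set G) :=
    le_normalizer_inf hAK (hVA.trans Subgroup.le_normalizer)
  have hcopM : (Nat.card A).Coprime (Nat.card M) :=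
    hcop.coprime_dvd_right (Subgroup.card_dvd_of_le hMK)
  have hsolvM : Group.IsSolvable A ∨ Group.IsSolvable M := by
    rcases hsolv with h | h
    · exact Or.inl h
    · exact Or.inr (isSolvable_of_le hMK h)
  obtain ⟨S, hS⟩ := exists_invariant_sylow (p := p) A M hAM hcopM hsolvM
  -- `V ≤ S` since `V` is a normal `p`-subgroup of `M`
  have hVn : (V.subgroupOf M).Normal :=
    (Subgroup.normal_subgroupOf_iff_le_normalizer hVM).2 inf_le_right
  have hVS : V.subgroupOf M ≤ S :=
    IsPGroup.le_sylow_of_normal (N := V.subgroupOf M) (hVp.comap_subtype) S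
  have hVS' : V ≤ (S : Subgroup M).map M.subtype := by
    rw [← Subgroup.map_subgroupOf_eq_of_le hVM]
    exact Subgroup.map_mono hVS
  have hS𝒮 : (S : Subgroup M).map M.subtype ∈ 𝒮 :=
    ⟨hUV.trans hVS', (Subgroup.map_subtype_le _).trans hMK, S.isPGroup'.map _, hS⟩
  have hSV : (S : Subgroup M).map M.subtype = V := le_antisymm (hVmax.2 hS𝒮 hVS') hVS'
  -- cardinalities
  obtain ⟨n, hn⟩ := IsPGroup.iff_card.1 hVp
  have hScard : Nat.card S = p ^ n := by rw [← card_map_subtype M (S : Subgroup M), hSV, hn]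
  have hfM : (Nat.card M).factorization p = n := by
    have h1 := S.card_eq_multiplicity
    rw [hScard] at h1
    exact (Nat.pow_right_injective hp.two_le h1).symm
  have hnotdvd : ¬ p ^ (n + 1) ∣ Nat.card K := by
    intro hdvd
    have h1 : Nat.card (V.subgroupOf K) = p ^ n := by rw [card_subgroupOf_of_le hVK, hn]
    have h2 := Sylow.prime_pow_dvd_card_normalizer hdvd h1
    rw [← Subgroup.subgroupOf_normalizer_eq hVK, card_subgroupOf, inf_comm, ← hM] at h2
    rw [hp.pow_dvd_iff_le_factorization Nat.card_pos.ne', hfM] at h2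
    omega
  have hdvdK : p ^ n ∣ Nat.card K := hn ▸ Subgroup.card_dvd_of_le hVK
  have hfK : (Nat.card K).factorization p = n := by
    rw [hp.pow_dvd_iff_le_factorization Nat.card_pos.ne'] at hdvdK hnotdvd
    omega
  refine ⟨Sylow.ofCard (V.subgroupOf K) (by rw [card_subgroupOf_of_le hVK, hn, hfK]), ?_, ?_⟩
  · rw [Sylow.coe_ofCard, Subgroup.map_subgroupOf_eq_of_le hVK]; exact hUV
  · rw [Sylow.coe_ofCard, Subgroup.map_subgroupOf_eq_of_le hVK]; exact hVA

end Cfsg.Agent.Helper1
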