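import Mathlib
import Cfsg.Prelude.Def_Transfer
import Cfsg.Agent.Helper1.Basic
import Cfsg.Agent.Helper1.Coprime
import Cfsg.Agent.Helper1.SylowInt
import Cfsg.Agent.Helper1.PaQ
import Cfsg.Agent.Helper1.Transfer1
import Cfsg.Agent.Helper1.NormalPCompl
import Cfsg.Agent.Helper5.PResidual

set_option autoImplicit false

/-!
Frobenius' normal `p`-complement theorem.
-/

namespace Cfsg.Agent.Helper1

open scoped Pointwise commutatorElement

universe u

variable {G : Type u} [Group G]

/-- Frobenius' condition: `p'`-elements normalizing a `p`-subgroup centralize it. -/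
def PLocalCentral (p : ℕ) (G : Type u) [Group G] : Prop :=
  ∀ Q : Subgroup G, IsPGroup p Q → ∀ g ∈ Subgroup.normalizer (Q : Set G),
    Nat.Coprime (orderOf g) p → g ∈ Subgroup.centralizer (Q : Set G)

theorem PLocalCentral.subgroup {p : ℕ} (h : PLocalCentral p G) (H : Subgroup G) :
    PLocalCentral p H := by
  intro Q hQ g hg hcop
  have hQ' : IsPGroup p (Q.map H.subtype) := hQ.map _
  have hg' : (g : G) ∈ Subgroup.normalizer ((Q.map H.subtype : Subgroup G) : Set G) := by
    rw [Subgroup.mem_normalizer_iff]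
    intro x
    constructor
    · rintro ⟨y, hy, rfl⟩
      exact ⟨g * y * g⁻¹, (Subgroup.mem_normalizer_iff.1 hg y).1 hy, rfl⟩
    · rintro ⟨y, hy, hyx⟩
      have hxH : x ∈ H := by
        have : x = (g : G)⁻¹ * (y : G) * g := by
          have : (y : G) = g * x * (g : G)⁻¹ := hyx
          rw [this]; group
        rw [this]
        exact H.mul_mem (H.mul_mem (H.inv_mem g.2) y.2) g.2
      have h1 : g * ⟨x, hxH⟩ * g⁻¹ = y := Subtype.ext hyx.symm
      have h2 : (⟨x, hxH⟩ : H) ∈ Q := by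
        rw [Subgroup.mem_normalizer_iff.1 hg ⟨x, hxH⟩, h1]
        exact hy
      exact ⟨⟨x, hxH⟩, h2, rfl⟩
  have hord : Nat.Coprime (orderOf (g : G)) p := by rwa [Subgroup.orderOf_coe]
  have h3 := h _ hQ' _ hg' hord
  rw [Subgroup.mem_centralizer_iff] at h3 ⊢
  intro y hy
  apply Subtype.ext
  exact h3 y ⟨y, hy, rfl⟩

/-- Under Frobenius' condition, `N(D) = C(D) S` for a Sylow `p`-subgroup `S` of `N(D)`. -/
theorem PLocalCentral.normalizer_eq [Finite G] {p : ℕ} [Fact p.Prime] (h : PLocalCentral p G)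
    (D : Subgroup G) (hD : IsPGroup p D) (N : Subgroup G)
    (hN : N = Subgroup.normalizer (D : Set G)) (S : Sylow p N)
    (n : G) (hn : n ∈ N) :
    ∃ c ∈ Subgroup.centralizer (D : Set G),
      ∃ s ∈ (S : Subgroup N).map N.subtype, n = c * s := by
  set C' : Subgroup N := (Subgroup.centralizer (D : Set G)).subgroupOf N with hC'
  have hCn : C'.Normal := by
    rw [hC']
    subst hN
    exact Subgroup.normal_subgroupOf_centralizer_normalizer (D : Set G)
  have hres : Cfsg.pResidual p N ≤ C' := by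
    unfold Cfsg.pResidual
    rw [Subgroup.closure_le]
    intro g hg
    have hg' : Nat.Coprime (orderOf g) p := hg
    rw [SetLike.mem_coe, hC', Subgroup.mem_subgroupOf]
    apply h D hD _ (hN ▸ g.2)
    rwa [Subgroup.orderOf_coe]
  have hsup : C' ⊔ (S : Subgroup N) = ⊤ := by
    rw [eq_top_iff, ← Cfsg.Agent.Helper5.pResidual_sup_sylow S]
    exact sup_le_sup_right hres _
  have hn' : (⟨n, hn⟩ : N) ∈ C' ⊔ (S : Subgroup N) := hsup ▸ Subgroup.mem_top _
  obtain ⟨c, hc, s, hs, hcs⟩ := mem_sup_of_le_normalizer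
    (N := C') (A := (S : Subgroup N))
    (by rw [Subgroup.normalizer_eq_top_iff.2 hCn]; exact le_top) hn'
  refine ⟨c, hc, s, ⟨s, hs, rfl⟩, ?_⟩
  have := congrArg Subtype.val hcs
  simpa using this

theorem sylow_eq_of_le [Finite G] {p : ℕ} [Fact p.Prime] (P Q : Sylow p G)
    (h : (P : Subgroup G) ≤ Q) : (P : Subgroup G) = Q :=
  Subgroup.eq_of_le_of_card_ge h (by rw [P.card_eq_multiplicity, Q.card_eq_multiplicity])

/-- Under Frobenius' condition, any Sylow `Q` is conjugate to `P` by an element centralizing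
`P ∩ Q`. -/
theorem PLocalCentral.exists_centralizing_conj [Finite G] {p : ℕ} [Fact p.Prime]
    (h : PLocalCentral p G) (P : Sylow p G) :
    ∀ (m : ℕ) (Q : Sylow p G),
      Nat.card (P : Subgroup G) - Nat.card ((P : Subgroup G) ⊓ Q : Subgroup G) = m →
      ∃ c ∈ Subgroup.centralizer (((P : Subgroup G) ⊓ Q : Subgroup G) : Set G),
        MulAut.conj c • (Q : Subgroup G) = P := by
  intro m
  induction m using Nat.strong_induction_on with
  | _ m ih =>
  intro Q hm
  by_cases hDP : (P : Subgroup G) ⊓ Q = P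
  · have hPQ : (P : Subgroup G) ≤ Q := by rw [← hDP]; exact inf_le_right
    have := sylow_eq_of_le P Q hPQ
    exact ⟨1, Subgroup.one_mem _, by rw [map_one, one_smul, this]⟩
  · obtain ⟨D, hD⟩ : ∃ D : Subgroup G, D = (P : Subgroup G) ⊓ Q := ⟨_, rfl⟩
    rw [← hD] at hDP hm ⊢
    have hDleP : D ≤ P := hD ▸ inf_le_left
    have hDleQ : D ≤ Q := hD ▸ inf_le_right
    have hDltP : D < P := lt_of_le_of_ne hDleP hDP
    have hDQ : D ≠ Q := by
      intro hDQ
      have hQP : (Q : Subgroup G) ≤ P := by rw [← hDQ]; exact hDleP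
      have h1 := sylow_eq_of_le Q P hQP
      apply hDP
      rw [← hDQ] at h1
      exact h1
    have hDltQ : D < Q := lt_of_le_of_ne hDleQ hDQ
    obtain ⟨x, hxP, hxN, hxD⟩ := exists_mem_normalizer_not_mem P.2 hDltP
    obtain ⟨y, hyQ, hyN, hyD⟩ := exists_mem_normalizer_not_mem Q.2 hDltQ
    obtain ⟨N, hN⟩ : ∃ N : Subgroup G, N = Subgroup.normalizer (D : Set G) := ⟨_, rfl⟩
    rw [← hN] at hxN hyN
    have hDN : D ≤ N := hN ▸ Subgroup.le_normalizer
    have hDp : IsPGroup p D := P.2.to_le hDleP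
    have hAP : IsPGroup p (((P : Subgroup G) ⊓ N).subgroupOf N) :=
      (P.2.to_le inf_le_left).comap_of_injective N.subtype N.subtype_injective
    have hAQ : IsPGroup p (((Q : Subgroup G) ⊓ N).subgroupOf N) :=
      (Q.2.to_le inf_le_left).comap_of_injective N.subtype N.subtype_injective
    obtain ⟨S, hS⟩ := hAP.exists_le_sylow
    obtain ⟨T, hT⟩ := hAQ.exists_le_sylow
    obtain ⟨k, hk, hk'⟩ := exists_conj_sylow_map N T S
    obtain ⟨c, hc, s, hs, hcs⟩ := h.normalizer_eq D hDp N hN S k⁻¹ (Subgroup.inv_mem _ hk)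
    have hk_eq : k = s⁻¹ * c⁻¹ := by
      have : k = (k⁻¹)⁻¹ := (inv_inv k).symm
      rw [this, hcs]; group
    have hc0 : c⁻¹ ∈ Subgroup.centralizer (D : Set G) := Subgroup.inv_mem _ hc
    have hc0T : MulAut.conj c⁻¹ • (T : Subgroup N).map N.subtype = (S : Subgroup N).map N.subtype := by
      have h1 : MulAut.conj s⁻¹ • MulAut.conj c⁻¹ • (T : Subgroup N).map N.subtype =
          (S : Subgroup N).map N.subtype := by
        rw [← mul_smul, ← map_mul, ← hk_eq]; exact hk'
      have h2 : MulAut.conj s • (S : Subgroup N).map N.subtype = (S : Subgroup N).map N.subtype :=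
        conj_smul_eq_of_mem_normalizer (Subgroup.le_normalizer hs)
      calc MulAut.conj c⁻¹ • (T : Subgroup N).map N.subtype
          = MulAut.conj s • MulAut.conj s⁻¹ • MulAut.conj c⁻¹ • (T : Subgroup N).map N.subtype := by
            rw [← mul_smul (MulAut.conj s), ← map_mul, mul_inv_cancel, map_one, one_smul]
        _ = (S : Subgroup N).map N.subtype := by rw [h1, h2]
    have hSp : IsPGroup p ((S : Subgroup N).map N.subtype) := S.2.map _
    obtain ⟨P1, hP1⟩ := hSp.exists_le_sylow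
    have hxS : x ∈ (S : Subgroup N).map N.subtype :=
      ⟨⟨x, hxN⟩, hS (show (⟨x, hxN⟩ : N) ∈ ((P : Subgroup G) ⊓ N).subgroupOf N from ⟨hxP, hxN⟩), rfl⟩
    have hyT : y ∈ (T : Subgroup N).map N.subtype :=
      ⟨⟨y, hyN⟩, hT (show (⟨y, hyN⟩ : N) ∈ ((Q : Subgroup G) ⊓ N).subgroupOf N from ⟨hyQ, hyN⟩), rfl⟩
    have hDS : D ≤ (S : Subgroup N).map N.subtype := by
      intro d hd
      exact ⟨⟨d, hDN hd⟩, hS (show (⟨d, hDN hd⟩ : N) ∈ ((P : Subgroup G) ⊓ N).subgroupOf N from
        ⟨hDleP hd, hDN hd⟩), rfl⟩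
    have hlt1 : D < (P : Subgroup G) ⊓ P1 := by
      refine lt_of_le_of_ne (le_inf hDleP (hDS.trans hP1)) ?_
      intro heq
      apply hxD
      rw [heq]
      exact ⟨hxP, hP1 hxS⟩
    have hm1 : Nat.card (P : Subgroup G) - Nat.card ((P : Subgroup G) ⊓ P1 : Subgroup G) < m := by
      rw [← hm]
      have h1 := card_lt_card_of_lt hlt1
      have h2 : Nat.card ((P : Subgroup G) ⊓ P1 : Subgroup G) ≤ Nat.card (P : Subgroup G) :=
        Subgroup.card_le_of_le inf_le_left
      omega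
    obtain ⟨c1, hc1, hc1'⟩ := ih _ hm1 P1 rfl
    have hc1D : c1 ∈ Subgroup.centralizer (D : Set G) :=
      Subgroup.centralizer_le (SetLike.coe_subset_coe.2 hlt1.le) hc1
    obtain ⟨g, hg⟩ : ∃ g : G, g = c1 * c⁻¹ := ⟨_, rfl⟩
    have hgD : g ∈ Subgroup.centralizer (D : Set G) := hg ▸ Subgroup.mul_mem _ hc1D hc0
    have hQ2 : ((g • Q : Sylow p G) : Subgroup G) = MulAut.conj g • (Q : Subgroup G) :=
      Sylow.coe_subgroup_smul
    have hy'P : g * y * g⁻¹ ∈ (P : Subgroup G) := by
      have h1 : c⁻¹ * y * (c⁻¹)⁻¹ ∈ (S : Subgroup N).map N.subtype := by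
        rw [← hc0T]; exact conj_mem_conj_smul hyT
      have h2 : c1 * (c⁻¹ * y * (c⁻¹)⁻¹) * c1⁻¹ ∈ MulAut.conj c1 • (P1 : Subgroup G) :=
        conj_mem_conj_smul (hP1 h1)
      rw [hc1'] at h2
      have : g * y * g⁻¹ = c1 * (c⁻¹ * y * (c⁻¹)⁻¹) * c1⁻¹ := by rw [hg]; group
      rw [this]; exact h2
    have hy'Q2 : g * y * g⁻¹ ∈ ((g • Q : Sylow p G) : Subgroup G) := by
      rw [hQ2]; exact conj_mem_conj_smul hyQ
    have hDQ2 : D ≤ (P : Subgroup G) ⊓ ((g • Q : Sylow p G) : Subgroup G) := by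
      intro d hd
      refine ⟨hDleP hd, ?_⟩
      rw [hQ2]
      show d ∈ MulAut.conj g • (Q : Subgroup G)
      rw [mem_conj_smul]
      have h1 := Subgroup.mem_centralizer_iff.1 hgD d hd
      have : g⁻¹ * d * g = d := by
        rw [mul_assoc, h1, ← mul_assoc, inv_mul_cancel, one_mul]
      rw [this]; exact hDleQ hd
    have hy'D : g * y * g⁻¹ ∉ D := by
      intro hmem
      apply hyD
      have hcomm := Subgroup.mem_centralizer_iff.1 hgD _ hmem
      have h3 : y = g * y * g⁻¹ := by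
        have h4 : g * y = g * (g * y * g⁻¹) := by
          rw [← hcomm]; group
        exact mul_left_cancel h4
      rw [h3]; exact hmem
    have hlt2 : D < (P : Subgroup G) ⊓ ((g • Q : Sylow p G) : Subgroup G) := by
      refine lt_of_le_of_ne hDQ2 ?_
      intro heq
      apply hy'D
      rw [heq]
      exact ⟨hy'P, hy'Q2⟩
    have hm2 : Nat.card (P : Subgroup G) -
        Nat.card ((P : Subgroup G) ⊓ ((g • Q : Sylow p G) : Subgroup G) : Subgroup G) < m := by
      rw [← hm]
      have h1 := card_lt_card_of_lt hlt2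
      have h2 : Nat.card ((P : Subgroup G) ⊓ ((g • Q : Sylow p G) : Subgroup G) : Subgroup G) ≤
          Nat.card (P : Subgroup G) := Subgroup.card_le_of_le inf_le_left
      omega
    obtain ⟨c2, hc2, hc2'⟩ := ih _ hm2 (g • Q) rfl
    have hc2D : c2 ∈ Subgroup.centralizer (D : Set G) :=
      Subgroup.centralizer_le (SetLike.coe_subset_coe.2 hlt2.le) hc2
    refine ⟨c2 * g, Subgroup.mul_mem _ hc2D hgD, ?_⟩
    rw [map_mul, mul_smul, ← hQ2, hc2']

/-- Under Frobenius' condition a Sylow `p`-subgroup controls its own fusion. -/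
theorem PLocalCentral.controls_fusion [Finite G] {p : ℕ} [Fact p.Prime] (h : PLocalCentral p G)
    (P : Sylow p G) (x : G) (hx : x ∈ P) (g : G) (hgx : g * x * g⁻¹ ∈ P) :
    ∃ u ∈ P, u * x * u⁻¹ = g * x * g⁻¹ := by
  have hQ : ((g⁻¹ • P : Sylow p G) : Subgroup G) = MulAut.conj g⁻¹ • (P : Subgroup G) :=
    Sylow.coe_subgroup_smul
  have hxQ : x ∈ ((g⁻¹ • P : Sylow p G) : Subgroup G) := by
    rw [hQ]
    show x ∈ MulAut.conj g⁻¹ • (P : Subgroup G)
    rw [mem_conj_smul, inv_inv]
    exact hgx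
  obtain ⟨c, hc, hc'⟩ := h.exists_centralizing_conj P _ (g⁻¹ • P) rfl
  rw [hQ, ← mul_smul, ← map_mul] at hc'
  have hn : c * g⁻¹ ∈ Subgroup.normalizer ((P : Subgroup G) : Set G) :=
    mem_normalizer_of_conj_smul_eq hc'
  obtain ⟨z, hz, s, hs, hzs⟩ := h.normalizer_eq (P : Subgroup G) P.2 _ rfl
    (P.subtype Subgroup.le_normalizer) (c * g⁻¹) hn
  have hsP : s ∈ (P : Subgroup G) := by
    rw [Sylow.coe_subtype, Subgroup.map_subgroupOf_eq_of_le Subgroup.le_normalizer] at hs
    exact hs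
  refine ⟨s⁻¹, Subgroup.inv_mem _ hsP, ?_⟩
  have hcx : x * c = c * x := Subgroup.mem_centralizer_iff.1 hc x ⟨hx, hxQ⟩
  have hzx : x * z = z * x := Subgroup.mem_centralizer_iff.1 hz x hx
  have hg : g = s⁻¹ * z⁻¹ * c := by
    calc g = (c * g⁻¹)⁻¹ * c := by group
      _ = (z * s)⁻¹ * c := by rw [hzs]
      _ = s⁻¹ * z⁻¹ * c := by group
  have h1 : c * x * c⁻¹ = x := by rw [← hcx, mul_inv_cancel_right]
  have h2 : z⁻¹ * x * z = x := by rw [mul_assoc, hzx, ← mul_assoc, inv_mul_cancel, one_mul]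
  calc s⁻¹ * x * s⁻¹⁻¹ = s⁻¹ * (z⁻¹ * (c * x * c⁻¹) * z) * s := by rw [h1, h2, inv_inv]
    _ = g * x * g⁻¹ := by rw [hg]; group

/-- If `P` controls its own fusion and `p ∣ |G|`, there is a proper normal subgroup of
`p`-power index. -/
theorem exists_normal_ppow_index_of_controls_fusion [Finite G] {p : ℕ} [Fact p.Prime]
    (P : Sylow p G) (hp : p ∣ Nat.card G)
    (h : ∀ x ∈ P, ∀ y ∈ P, (∃ g : G, g * x * g⁻¹ = y) → ∃ z ∈ P, z * x * z⁻¹ = y) :
    ∃ M : Subgroup G, M.Normal ∧ M ≠ ⊤ ∧ ∃ k : ℕ, M.index = p ^ k := by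
  refine ⟨(P : Subgroup G).transferFocal.ker, inferInstance, ?_, ?_⟩
  · intro htop
    apply sylow_not_le_commutator_of_controls_fusion P hp h
    have h1 := Subgroup.ker_transferFocal_inf_eq_focalSubgroup P
    rw [htop, top_inf_eq, ← Subgroup.commutator_inf_eq_focalSubgroup] at h1
    exact inf_eq_right.1 h1.symm
  · rw [Subgroup.index_ker,
      MonoidHom.range_eq_top.2 (Subgroup.transferFocal_surjective P), Subgroup.card_top]
    exact IsPGroup.iff_card.1 (P.2.to_quotient _)

/-- A normal `p`-complement of a normal subgroup of `p`-power index is one for the group. -/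
theorem hasNormalPComplement_of_normal_ppow_index [Finite G] {p : ℕ} [hp : Fact p.Prime]
    (M : Subgroup G) [hM : M.Normal] {k : ℕ} (hidx : M.index = p ^ k)
    (hMc : Cfsg.HasNormalPComplement p M) : Cfsg.HasNormalPComplement p G := by
  obtain ⟨PM, K', hK'n, hK'⟩ := hMc
  obtain ⟨P⟩ : Nonempty (Sylow p G) := inferInstance
  refine ⟨P, K'.map M.subtype, ?_, ?_⟩
  · constructor
    intro x hx g
    obtain ⟨y, hy, rfl⟩ := hx
    have hmem : g * (y : G) * g⁻¹ ∈ M := hM.conj_mem _ y.2 g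
    refine ⟨⟨_, hmem⟩, ?_, rfl⟩
    have hy' : y ∈ K' := hy
    show (⟨g * (y : G) * g⁻¹, hmem⟩ : M) ∈ K'
    rw [mem_normal_complement_sylow_iff PM K' hK' ] at hy' ⊢
    rw [Subgroup.orderOf_mk]
    have : orderOf (g * (y : G) * g⁻¹) = orderOf (y : G) := by
      have hsc : SemiconjBy g (y : G) (g * (y : G) * g⁻¹) := by
        unfold SemiconjBy; group
      exact (SemiconjBy.orderOf_eq g hsc).symm
    rw [this, Subgroup.orderOf_coe]
    exact hy'
  · have hcardK : Nat.card (K'.map M.subtype) = Nat.card K' :=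
      Subgroup.card_map_of_injective M.subtype_injective
    have h1 : Nat.card K' * Nat.card (PM : Subgroup M) = Nat.card M := hK'.card_mul_card
    have h2 : Nat.card M * p ^ k = Nat.card G := by rw [← hidx]; exact M.card_mul_index
    obtain ⟨a, ha⟩ := IsPGroup.iff_card.1 PM.2
    have hcopK : Nat.Coprime (Nat.card K') p := by
      have : Nat.card K' = (PM : Subgroup M).index := hK'.index_eq_card.symm
      rw [this]
      exact ((Nat.Prime.coprime_iff_not_dvd hp.out).2 PM.not_dvd_index).symm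
    have hG : Nat.card G = Nat.card K' * p ^ (a + k) := by
      rw [← h2, ← h1, ha, pow_add]; ring
    have hfac : (Nat.card G).factorization p = a + k := by
      rw [hG, Nat.factorization_mul Nat.card_pos.ne' (pow_ne_zero _ hp.out.ne_zero),
        Finsupp.add_apply, hp.out.factorization_pow,
        Nat.factorization_eq_zero_of_not_dvd ((Nat.Prime.coprime_iff_not_dvd hp.out).1 hcopK.symm)]
      simp
    have hP : Nat.card (P : Subgroup G) = p ^ (a + k) := by
      rw [P.card_eq_multiplicity, hfac]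
    apply Subgroup.isComplement'_of_coprime
    · rw [hcardK, hP, hG]
    · rw [hcardK, hP]
      exact Nat.Coprime.pow_right _ hcopK

theorem frobenius_pcomplement_aux {p : ℕ} [hp : Fact p.Prime] :
    ∀ (n : ℕ) (G : Type u) [Group G] [Finite G], Nat.card G = n → PLocalCentral p G →
      Cfsg.HasNormalPComplement p G := by
  intro n
  induction n using Nat.strong_induction_on with
  | _ n ih =>
  intro G _ _ hn hB
  obtain ⟨P⟩ : Nonempty (Sylow p G) := inferInstance
  by_cases hpd : p ∣ Nat.card G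
  · have hfus : ∀ x ∈ P, ∀ y ∈ P, (∃ g : G, g * x * g⁻¹ = y) → ∃ z ∈ P, z * x * z⁻¹ = y := by
      rintro x hx y hy ⟨g, rfl⟩
      exact hB.controls_fusion P x hx g hy
    obtain ⟨M, hMn, hMtop, k, hk⟩ := exists_normal_ppow_index_of_controls_fusion P hpd hfus
    have hlt : Nat.card M < n := by
      rw [← hn]
      rcases lt_or_eq_of_le (Subgroup.card_le_card_group M) with h1 | h1
      · exact h1
      · exact absurd ((Subgroup.card_eq_iff_eq_top M).1 h1) hMtop
    have hMc := ih _ hlt M rfl (hB.subgroup M)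
    exact hasNormalPComplement_of_normal_ppow_index M hk hMc
  · -- trivial Sylow
    refine ⟨P, ⊤, inferInstance, ?_⟩
    have hPbot : (P : Subgroup G) = ⊥ := by
      rw [← Subgroup.card_eq_one, P.card_eq_multiplicity,
        Nat.factorization_eq_zero_of_not_dvd hpd, pow_zero]
    rw [hPbot]
    exact Subgroup.isComplement'_top_bot

theorem frobenius_pcomplement [Finite G] {p : ℕ} [Fact p.Prime] (h : PLocalCentral p G) :
    Cfsg.HasNormalPComplement p G :=
  frobenius_pcomplement_aux _ G rfl h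

end Cfsg.Agent.Helper1
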