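import Mathlib
import Cfsg.Prelude.Def_Transfer
import Cfsg.Agent.Helper1.Basic
import Cfsg.Agent.Helper1.Coprime
import Cfsg.Agent.Helper1.Transfer1
import Cfsg.Agent.Helper1.NormalPCompl
import Cfsg.Agent.Helper1.FrobPCompl

set_option autoImplicit false

/-!
Consequences of Frobenius' normal `p`-complement theorem.
-/

namespace Cfsg.Agent.Helper1

open scoped Pointwise commutatorElement

universe u

variable {G : Type u} [Group G]

/-- A subgroup of order prime to `p` and `p`-power index complements every Sylow `p`-subgroup. -/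
theorem isComplement'_sylow_of_coprime_of_index_ppow [Finite G] {p : ℕ} [hp : Fact p.Prime]
    (K : Subgroup G) (P : Sylow p G) (hcop : Nat.Coprime (Nat.card K) p) {k : ℕ}
    (hidx : K.index = p ^ k) : K.IsComplement' (P : Subgroup G) := by
  have hG : Nat.card G = Nat.card K * p ^ k := by rw [← hidx]; exact K.card_mul_index.symm
  have hfac : (Nat.card G).factorization p = k := by
    rw [hG, Nat.factorization_mul Nat.card_pos.ne' (pow_ne_zero _ hp.out.ne_zero),
      Finsupp.add_apply, hp.out.factorization_pow,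
      Nat.factorization_eq_zero_of_not_dvd ((Nat.Prime.coprime_iff_not_dvd hp.out).1 hcop.symm)]
    simp
  have hP : Nat.card (P : Subgroup G) = p ^ k := by rw [P.card_eq_multiplicity, hfac]
  apply Subgroup.isComplement'_of_coprime
  · rw [hP, hG]
  · rw [hP]; exact Nat.Coprime.pow_right _ hcop

theorem hasNormalPComplement_subgroup [Finite G] {p : ℕ} [hp : Fact p.Prime]
    (h : Cfsg.HasNormalPComplement p G) (H : Subgroup G) : Cfsg.HasNormalPComplement p H := by
  obtain ⟨P, K, hKn, hK⟩ := h
  obtain ⟨PH⟩ : Nonempty (Sylow p H) := inferInstance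
  refine ⟨PH, K.subgroupOf H, inferInstance, ?_⟩
  have hcopK : Nat.Coprime (Nat.card K) p := by
    rw [← hK.index_eq_card]
    exact ((Nat.Prime.coprime_iff_not_dvd hp.out).2 P.not_dvd_index).symm
  obtain ⟨a, ha⟩ := IsPGroup.iff_card.1 P.2
  have hidxK : K.index = p ^ a := by rw [hK.symm.index_eq_card, ha]
  have h1 : (K.subgroupOf H).index ∣ p ^ a := by
    rw [← hidxK]; exact Subgroup.relIndex_dvd_index_of_normal K H
  obtain ⟨b, -, hb⟩ := (Nat.dvd_prime_pow hp.out).1 h1
  apply isComplement'_sylow_of_coprime_of_index_ppow _ PH _ hb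
  rw [card_subgroupOf]
  exact Nat.Coprime.coprime_dvd_left (Subgroup.card_dvd_of_le inf_le_left) hcopK

theorem plocalCentral_of_hasNormalPComplement [Finite G] {p : ℕ} [hp : Fact p.Prime]
    (h : Cfsg.HasNormalPComplement p G) : PLocalCentral p G := by
  obtain ⟨P, K, hKn, hK⟩ := h
  intro Q hQ g hg hcop
  have hgK : g ∈ K := (mem_normal_complement_sylow_iff P K hK g).2 hcop
  rw [Subgroup.mem_centralizer_iff]
  intro x hx
  have h1 : g * x * g⁻¹ * x⁻¹ ∈ K := by
    have : g * x * g⁻¹ * x⁻¹ = g * (x * g⁻¹ * x⁻¹) := by group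
    rw [this]
    exact K.mul_mem hgK (hKn.conj_mem _ (K.inv_mem hgK) x)
  have h2 : g * x * g⁻¹ * x⁻¹ ∈ Q :=
    Q.mul_mem ((Subgroup.mem_normalizer_iff.1 hg x).1 hx) (Q.inv_mem hx)
  -- an element of `K ∩ Q` is trivial
  have h3 : Nat.Coprime (orderOf (g * x * g⁻¹ * x⁻¹)) p :=
    (mem_normal_complement_sylow_iff P K hK _).1 h1
  obtain ⟨j, hj⟩ := hQ ⟨_, h2⟩
  have h4 : orderOf (g * x * g⁻¹ * x⁻¹) ∣ p ^ j := by
    apply orderOf_dvd_of_pow_eq_one
    have := congrArg Subtype.val hj
    simpa using this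
  have h5 : orderOf (g * x * g⁻¹ * x⁻¹) = 1 :=
    Nat.eq_one_of_dvd_coprimes (Nat.Coprime.pow_right j h3) dvd_rfl h4
  have h6 : ⁅g, x⁆ = 1 := orderOf_eq_one_iff.1 h5
  exact (commutatorElement_eq_one_iff_mul_comm.1 h6).symm

/-- Frobenius' normal `p`-complement theorem. -/
theorem frobenius_normal_pcomplement_iff [Finite G] {p : ℕ} [Fact p.Prime] (P : Sylow p G) :
    (∃ N : Subgroup G, N.Normal ∧ N.IsComplement' (P : Subgroup G)) ↔
      ∀ Q : Subgroup G, Q ≤ (P : Subgroup G) → ∀ g ∈ Subgroup.normalizer (Q : Set G),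
        Nat.Coprime (orderOf g) p → g ∈ Subgroup.centralizer (Q : Set G) := by
  rw [← hasNormalPComplement_iff P]
  constructor
  · intro h Q hQP g hg hcop
    exact plocalCentral_of_hasNormalPComplement h Q (P.2.to_le hQP) g hg hcop
  · intro h
    apply frobenius_pcomplement
    intro Q hQ g hg hcop
    obtain ⟨R, hR⟩ := hQ.exists_le_sylow
    obtain ⟨a, ha⟩ := MulAction.exists_smul_eq G R P
    -- conjugate into `P`
    have hRP : MulAut.conj a • (R : Subgroup G) = P := by rw [← ha, Sylow.coe_subgroup_smul]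
    have hQ'P : MulAut.conj a • Q ≤ (P : Subgroup G) := by
      rw [← hRP]
      intro y hy
      rw [mem_conj_smul] at hy ⊢
      exact hR hy
    have hg' : a * g * a⁻¹ ∈ Subgroup.normalizer ((MulAut.conj a • Q : Subgroup G) : Set G) := by
      rw [Subgroup.mem_normalizer_iff]
      intro y
      rw [mem_conj_smul, mem_conj_smul]
      have h1 := Subgroup.mem_normalizer_iff.1 hg (a⁻¹ * y * a)
      have e : a⁻¹ * (a * g * a⁻¹ * y * (a * g * a⁻¹)⁻¹) * a = g * (a⁻¹ * y * a) * g⁻¹ := by group
      rw [e]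
      exact h1
    have hord : Nat.Coprime (orderOf (a * g * a⁻¹)) p := by
      have hsc : SemiconjBy a g (a * g * a⁻¹) := by unfold SemiconjBy; group
      rw [← SemiconjBy.orderOf_eq a hsc]
      exact hcop
    have h2 := h _ hQ'P _ hg' hord
    rw [Subgroup.mem_centralizer_iff] at h2 ⊢
    intro y hy
    have h3 := h2 (a * y * a⁻¹) (conj_mem_conj_smul hy)
    -- `a y a⁻¹ * (a g a⁻¹) = (a g a⁻¹) * a y a⁻¹`
    have e1 : a * y * a⁻¹ * (a * g * a⁻¹) = a * (y * g) * a⁻¹ := by group
    have e2 : a * g * a⁻¹ * (a * y * a⁻¹) = a * (g * y) * a⁻¹ := by group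
    rw [e1, e2] at h3
    exact mul_left_cancel (mul_right_cancel h3)

/-- `G` has a normal `p`-complement iff every `p`-local subgroup has. -/
theorem hasNormalPComplement_iff_plocal [Finite G] (p : ℕ) [Fact p.Prime] :
    Cfsg.HasNormalPComplement p G ↔
      ∀ Q : Subgroup G, IsPGroup p Q → Q ≠ ⊥ →
        Cfsg.HasNormalPComplement p (Subgroup.normalizer (Q : Set G)) := by
  constructor
  · intro h Q _ _
    exact hasNormalPComplement_subgroup h _
  · intro h
    apply frobenius_pcomplement
    intro Q hQ g hg hcop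
    by_cases hQb : Q = ⊥
    · rw [hQb, Subgroup.mem_centralizer_iff]
      intro y hy
      rw [SetLike.mem_coe, Subgroup.mem_bot] at hy
      rw [hy, one_mul, mul_one]
    · have hN := plocalCentral_of_hasNormalPComplement (h Q hQ hQb)
      have hQN : Q ≤ Subgroup.normalizer (Q : Set G) := Subgroup.le_normalizer
      have hQ' : IsPGroup p (Q.subgroupOf (Subgroup.normalizer (Q : Set G))) :=
        hQ.comap_of_injective _ (Subgroup.subtype_injective _)
      have hg' : (⟨g, hg⟩ : Subgroup.normalizer (Q : Set G)) ∈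
          Subgroup.normalizer ((Q.subgroupOf (Subgroup.normalizer (Q : Set G)) :
            Subgroup (Subgroup.normalizer (Q : Set G))) : Set (Subgroup.normalizer (Q : Set G))) := by
        rw [Subgroup.mem_normalizer_iff]
        intro y
        rw [Subgroup.mem_subgroupOf, Subgroup.mem_subgroupOf]
        exact Subgroup.mem_normalizer_iff.1 hg y
      have hord : Nat.Coprime (orderOf (⟨g, hg⟩ : Subgroup.normalizer (Q : Set G))) p := by
        rw [Subgroup.orderOf_mk]; exact hcop
      have h1 := hN _ hQ' _ hg' hord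
      rw [Subgroup.mem_centralizer_iff] at h1 ⊢
      intro y hy
      have := h1 ⟨y, hQN hy⟩ (by
        show (⟨y, hQN hy⟩ : Subgroup.normalizer (Q : Set G)) ∈
          Q.subgroupOf (Subgroup.normalizer (Q : Set G))
        rw [Subgroup.mem_subgroupOf]; exact hy)
      exact congrArg Subtype.val this

end Cfsg.Agent.Helper1
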