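import Mathlib
import Cfsg.Prelude.Def_Transfer
import Cfsg.Prelude.Def_Solvable
import Cfsg.Agent.Helper1.Basic
import Cfsg.Agent.Helper1.Coprime
import Cfsg.Agent.Helper1.Fitting
import Cfsg.Agent.Helper1.Transfer1
import Cfsg.Agent.Helper1.NormalPCompl
import Cfsg.Agent.Helper1.FrobPCompl
import Cfsg.Agent.Helper1.FrobPCompl2

set_option autoImplicit false

/-!
Minimal non-`p`-nilpotent groups (Itô).
-/

namespace Cfsg.Agent.Helper1

open scoped Pointwise commutatorElement

universe u

variable {G : Type u} [Group G]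

/-- Nilpotent groups have normal `p`-complements. -/
theorem hasNormalPComplement_of_isNilpotent [Finite G] (hnil : Group.IsNilpotent G) (p : ℕ)
    [hp : Fact p.Prime] : Cfsg.HasNormalPComplement p G := by
  obtain ⟨P⟩ : Nonempty (Sylow p G) := inferInstance
  refine ⟨P, Cfsg.pPrimeCore p G, inferInstance, ?_⟩
  have hall := ((Group.isNilpotent_of_finite_tfae (G := G)).out 0 3).1 hnil
  have hidx : (Cfsg.pPrimeCore p G).index =
      p ^ (Cfsg.pPrimeCore p G).index.primeFactorsList.length := by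
    apply Nat.eq_prime_pow_of_unique_prime_dvd Subgroup.index_ne_zero_of_finite
    intro q hq hqd
    by_contra hqp
    have hqF : Fact q.Prime := ⟨hq⟩
    obtain ⟨Q⟩ : Nonempty (Sylow q G) := inferInstance
    have hQn : (Q : Subgroup G).Normal := hall q hqF Q
    obtain ⟨k, hk⟩ := IsPGroup.iff_card.1 Q.2
    have hQle : (Q : Subgroup G) ≤ Cfsg.pPrimeCore p G := by
      apply le_pPrimeCore hQn
      rw [hk]
      exact Nat.Coprime.pow_left _ ((Nat.coprime_primes hq hp.out).2 hqp)
    exact Q.not_dvd_index (hqd.trans (Subgroup.index_dvd_of_le hQle))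
  exact isComplement'_sylow_of_coprime_of_index_ppow _ P (card_pPrimeCore_coprime p) hidx

theorem mem_centralizer_of_plocalCentral_subgroup {p : ℕ} (H : Subgroup G)
    (hH : PLocalCentral p H) (Q : Subgroup G) (hQ : IsPGroup p Q) (hQH : Q ≤ H) (g : G)
    (hgH : g ∈ H) (hg : g ∈ Subgroup.normalizer (Q : Set G)) (hcop : Nat.Coprime (orderOf g) p) :
    g ∈ Subgroup.centralizer (Q : Set G) := by
  have hQ' : IsPGroup p (Q.subgroupOf H) := hQ.comap_of_injective _ (Subgroup.subtype_injective _)
  have hg' : (⟨g, hgH⟩ : H) ∈ Subgroup.normalizer ((Q.subgroupOf H : Subgroup H) : Set H) := by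
    rw [Subgroup.mem_normalizer_iff]
    intro y
    rw [Subgroup.mem_subgroupOf, Subgroup.mem_subgroupOf]
    exact Subgroup.mem_normalizer_iff.1 hg y
  have hord : Nat.Coprime (orderOf (⟨g, hgH⟩ : H)) p := by
    rw [Subgroup.orderOf_mk]; exact hcop
  have h1 := hH _ hQ' _ hg' hord
  rw [Subgroup.mem_centralizer_iff] at h1 ⊢
  intro y hy
  have := h1 ⟨y, hQH hy⟩ (by
    show (⟨y, hQH hy⟩ : H) ∈ Q.subgroupOf H
    rw [Subgroup.mem_subgroupOf]; exact hy)
  exact congrArg Subtype.val this

theorem min_non_pnilpotent [Finite G] {p : ℕ} [hp : Fact p.Prime]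
    (h1 : ¬ Cfsg.HasNormalPComplement p G)
    (h2 : ∀ H : Subgroup G, H ≠ ⊤ → Cfsg.HasNormalPComplement p H) :
    (∀ H : Subgroup G, H ≠ ⊤ → Group.IsNilpotent H) ∧ ¬ Group.IsNilpotent G ∧
      ∀ P : Sylow p G, (P : Subgroup G).Normal := by
  classical
  have hnB : ¬ PLocalCentral p G := fun hB => h1 (frobenius_pcomplement hB)
  unfold PLocalCentral at hnB
  push Not at hnB
  obtain ⟨Q, hQ, g, hg, hcop, hgC⟩ := hnB
  have hQg : Q ⊔ Subgroup.zpowers g = ⊤ := by
    by_contra hne
    apply hgC
    exact mem_centralizer_of_plocalCentral_subgroup _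
      (plocalCentral_of_hasNormalPComplement (h2 _ hne)) Q hQ le_sup_left g
      (Subgroup.mem_sup_right (Subgroup.mem_zpowers g)) hg hcop
  have hzN : Subgroup.zpowers g ≤ Subgroup.normalizer (Q : Set G) := by
    rw [Subgroup.zpowers_le]; exact hg
  have hQn : Q.Normal := by
    rw [← Subgroup.normalizer_eq_top_iff, eq_top_iff, ← hQg]
    exact sup_le Subgroup.le_normalizer hzN
  -- `G ⧸ Q` is cyclic, generated by `g`
  have hsurj : Function.Surjective
      ((QuotientGroup.mk' Q).comp (Subgroup.zpowers g).subtype) := by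
    intro x
    obtain ⟨a, rfl⟩ := QuotientGroup.mk_surjective x
    have ha : a ∈ Q ⊔ Subgroup.zpowers g := hQg ▸ Subgroup.mem_top a
    obtain ⟨n, hn, z, hz, rfl⟩ := mem_sup_of_le_normalizer hzN ha
    refine ⟨⟨z, hz⟩, ?_⟩
    show ((z : G) : G ⧸ Q) = ((n * z : G) : G ⧸ Q)
    rw [QuotientGroup.mk_mul, (QuotientGroup.eq_one_iff n).2 hn, one_mul]
  have hcyc : IsCyclic (G ⧸ Q) := isCyclic_of_surjective _ hsurj
  have hidx : Nat.Coprime Q.index p := by
    rw [Subgroup.index_eq_card]
    have h3 := Subgroup.card_dvd_of_surjective _ hsurj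
    rw [Nat.card_zpowers] at h3
    exact Nat.Coprime.coprime_dvd_left h3 hcop
  have hcomm : commutator G ≤ Q := by
    rw [← Subgroup.Normal.quotient_commutative_iff_commutator_le]
    exact ⟨⟨fun a b => IsCyclic.commGroup.mul_comm a b⟩⟩
  -- `Q` is the unique Sylow `p`-subgroup
  have hsyl : ∀ P : Sylow p G, (P : Subgroup G) = Q := by
    intro P
    have hle : Q ≤ (P : Subgroup G) := hQ.le_sylow_of_normal P
    symm
    apply Subgroup.eq_of_le_of_card_ge hle
    have h3 : Nat.card (P : Subgroup G) ∣ Nat.card Q := by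
      have h4 : Nat.card (P : Subgroup G) ∣ Nat.card Q * Q.index := by
        rw [Q.card_mul_index]; exact Subgroup.card_subgroup_dvd_card _
      obtain ⟨a, ha⟩ := IsPGroup.iff_card.1 P.2
      rw [ha] at h4 ⊢
      exact (Nat.Coprime.pow_left a hidx.symm).dvd_of_dvd_mul_right h4
    exact Nat.le_of_dvd Nat.card_pos h3
  refine ⟨?_, fun hnil => h1 (hasNormalPComplement_of_isNilpotent hnil p), ?_⟩
  · intro H hH
    obtain ⟨PH, K, hKn, hK⟩ := h2 H hH
    -- `PH` is `Q ∩ H`
    have hPH : (PH : Subgroup H) = Q.subgroupOf H := by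
      apply le_antisymm
      · intro x hx
        rw [Subgroup.mem_subgroupOf]
        have hp' : IsPGroup p ((PH : Subgroup H).map H.subtype) := PH.2.map _
        obtain ⟨R, hR⟩ := hp'.exists_le_sylow
        rw [← hsyl R]
        exact hR ⟨x, hx, rfl⟩
      · have hQHn : (Q.subgroupOf H).Normal := inferInstance
        have hQHp : IsPGroup p (Q.subgroupOf H) :=
          hQ.comap_of_injective _ (Subgroup.subtype_injective _)
        exact hQHp.le_sylow_of_normal PH
    have hPHn : (PH : Subgroup H).Normal := by rw [hPH]; infer_instance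
    -- `K` is abelian
    have hKc : ∀ a ∈ K, ∀ b ∈ K, a * b = b * a := by
      intro a ha b hb
      have h3 : ⁅a, b⁆ ∈ K := K.mul_mem (K.mul_mem (K.mul_mem ha hb) (K.inv_mem ha)) (K.inv_mem hb)
      have h4 : ⁅a, b⁆ ∈ (PH : Subgroup H) := by
        rw [hPH, Subgroup.mem_subgroupOf]
        apply hcomm
        rw [commutator_def]
        have : ((⁅a, b⁆ : H) : G) = ⁅(a : G), (b : G)⁆ := by
          simp [commutatorElement_def]
        rw [this]
        exact Subgroup.commutator_mem_commutator (Subgroup.mem_top _) (Subgroup.mem_top _)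
      have h5 : ⁅a, b⁆ ∈ K ⊓ (PH : Subgroup H) := ⟨h3, h4⟩
      rw [hK.disjoint.eq_bot, Subgroup.mem_bot] at h5
      exact commutatorElement_eq_one_iff_mul_comm.1 h5
    have hKnil : Group.IsNilpotent K := by
      have : IsMulCommutative K := ⟨⟨fun a b => Subtype.ext (hKc a a.2 b b.2)⟩⟩
      open scoped IsMulCommutative in
      exact CommGroup.isNilpotent
    have hPnil : Group.IsNilpotent (PH : Subgroup H) := PH.2.isNilpotent
    have hF : Cfsg.fittingSubgroup H = ⊤ := by
      rw [eq_top_iff, ← hK.sup_eq_top]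
      exact sup_le (le_fittingSubgroup hKn hKnil) (le_fittingSubgroup hPHn hPnil)
    have hFnil : Group.IsNilpotent (Cfsg.fittingSubgroup H) := fittingSubgroup_isNilpotent
    rw [hF] at hFnil
    exact Group.nilpotent_of_surjective (⊤ : Subgroup H).subtype
      (fun x => ⟨⟨x, Subgroup.mem_top x⟩, rfl⟩)
  · intro P
    rw [hsyl P]; exact hQn

end Cfsg.Agent.Helper1
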