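import Mathlib
import Cfsg.Agent.Helper1.Basic
import Cfsg.Agent.Helper1.IterFocal
import Cfsg.Agent.Helper1.MinNonPNilp

set_option autoImplicit false

namespace Cfsg.Agent.Helper1

open scoped commutatorElement Pointwise

universe u

variable {G : Type u} [Group G]

/-- Prime power induction: an element all of whose prime-power-order powers lie in `S` lies in `S`. -/
theorem mem_of_forall_primePow_mem [Finite G] (S : Subgroup G) :
    ∀ (c : G), (∀ y ∈ Subgroup.zpowers c, IsPrimePow (orderOf y) → y ∈ S) → c ∈ S := by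
  intro c
  induction' hn : orderOf c using Nat.strong_induction_on with n ih generalizing c
  intro h
  by_cases h1 : n = 1
  · rw [h1, orderOf_eq_one_iff] at hn
    rw [hn]; exact S.one_mem
  have hn0 : n ≠ 0 := by rw [← hn]; exact (orderOf_pos c).ne'
  obtain ⟨r, hr, hrn⟩ := Nat.exists_prime_and_dvd h1
  obtain ⟨k, m, hrm, hnkm⟩ := Nat.exists_eq_pow_mul_and_not_dvd hn0 r hr.one_lt.ne'
  have hk0 : k ≠ 0 := by
    rintro rfl
    rw [pow_zero, one_mul] at hnkm
    rw [hnkm] at hrn
    exact hrm hrn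
  have hm0 : m ≠ 0 := by
    rintro rfl
    rw [mul_zero] at hnkm
    exact hn0 hnkm
  have hrk0 : r ^ k ≠ 0 := pow_ne_zero _ hr.pos.ne'
  have hcop : Nat.Coprime m (r ^ k) :=
    Nat.Coprime.pow_right _ ((Nat.Prime.coprime_iff_not_dvd hr).2 hrm).symm
  -- the `r`-part
  have ho1 : orderOf (c ^ m) = r ^ k := by
    rw [orderOf_pow_of_dvd hm0 (by rw [hn, hnkm]; exact dvd_mul_left _ _), hn, hnkm,
      Nat.mul_div_cancel _ (Nat.pos_of_ne_zero hm0)]
  have ho2 : orderOf (c ^ (r ^ k)) = m := by
    rw [orderOf_pow_of_dvd hrk0 (by rw [hn, hnkm]; exact dvd_mul_right _ _), hn, hnkm,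
      Nat.mul_div_cancel_left _ (Nat.pos_of_ne_zero hrk0)]
  have hc1 : c ^ m ∈ S := by
    apply h _ (Subgroup.pow_mem _ (Subgroup.mem_zpowers c) m)
    rw [ho1]
    exact hr.isPrimePow.pow hk0
  have hmn : m < n := by
    rw [hnkm]
    have : 2 ≤ r ^ k := by
      calc 2 ≤ r := hr.two_le
        _ = r ^ 1 := (pow_one r).symm
        _ ≤ r ^ k := Nat.pow_le_pow_right hr.pos (Nat.one_le_iff_ne_zero.2 hk0)
    nlinarith [Nat.pos_of_ne_zero hm0]
  have hc2 : c ^ (r ^ k) ∈ S := by
    apply ih m hmn _ ho2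
    intro y hy hyp
    apply h y _ hyp
    exact (Subgroup.zpowers_le.2 (Subgroup.pow_mem _ (Subgroup.mem_zpowers c) _)) hy
  have hgcd : (1 : ℤ) = m * Nat.gcdA m (r ^ k) + (r ^ k : ℕ) * Nat.gcdB m (r ^ k) := by
    have := Nat.gcd_eq_gcd_ab m (r ^ k)
    rw [hcop.gcd_eq_one] at this
    exact_mod_cast this
  have hc : c = (c ^ m) ^ (Nat.gcdA m (r ^ k)) * (c ^ (r ^ k)) ^ (Nat.gcdB m (r ^ k)) := by
    rw [← zpow_natCast, ← zpow_natCast, ← zpow_mul, ← zpow_mul, ← zpow_add, ← hgcd, zpow_one]
  rw [hc]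
  exact S.mul_mem (S.zpow_mem hc1 _) (S.zpow_mem hc2 _)

/-- In a finite nilpotent group, an element of `p`-power order lies in every Sylow `p`-subgroup. -/
theorem mem_sylow_of_isNilpotent [Finite G] [hnil : Group.IsNilpotent G] {p : ℕ} [Fact p.Prime]
    (P : Sylow p G) (x : G) (k : ℕ) (hx : orderOf x = p ^ k) : x ∈ P := by
  have hall := ((Group.isNilpotent_of_finite_tfae (G := G)).out 0 3).1 hnil
  have hPn : (P : Subgroup G).Normal := hall p inferInstance P
  have hZ : IsPGroup p (Subgroup.zpowers x) := by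
    apply IsPGroup.of_card (n := k)
    rw [Nat.card_zpowers, hx]
  obtain ⟨Q, hQ⟩ := hZ.exists_le_sylow
  obtain ⟨g, hg⟩ := MulAction.exists_smul_eq G P Q
  rw [Sylow.smul_eq_of_normal] at hg
  rw [hg]
  exact hQ (Subgroup.mem_zpowers x)

/-- In a finite nilpotent group a `p`-element commutes with a `p'`-element. -/
theorem commute_of_pElement_of_coprime [Finite G] [hnil : Group.IsNilpotent G] {p : ℕ}
    [hp : Fact p.Prime] (a b : G) (k : ℕ) (ha : orderOf a = p ^ k) (hb : (orderOf b).Coprime p) :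
    a * b = b * a := by
  obtain ⟨P, N, hNn, hc⟩ := hasNormalPComplement_of_isNilpotent hnil p
  have hall := ((Group.isNilpotent_of_finite_tfae (G := G)).out 0 3).1 hnil
  have hPn : (P : Subgroup G).Normal := hall p inferInstance P
  have haP : a ∈ (P : Subgroup G) := mem_sylow_of_isNilpotent P a k ha
  have hidx : N.index = Nat.card (P : Subgroup G) := by
    have h1 := hc.card_mul_card
    have h2 := N.card_mul_index
    exact (Nat.eq_of_mul_eq_mul_left Nat.card_pos (h1.trans h2.symm)).symm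
  have hbN : b ∈ N := by
    have : Subgroup.zpowers b ≤ N := by
      apply le_of_coprime_card_index
      rw [Nat.card_zpowers, hidx]
      obtain ⟨j, hj⟩ := IsPGroup.iff_card.1 P.2
      rw [hj]
      exact Nat.Coprime.pow_right _ hb
    exact this (Subgroup.mem_zpowers b)
  have hcomm : ⁅a, b⁆ ∈ (P : Subgroup G) ⊓ N :=
    Subgroup.commutator_le_inf _ _ (Subgroup.commutator_mem_commutator haP hbN)
  have hdisj : (P : Subgroup G) ⊓ N = ⊥ := by
    rw [inf_comm]; exact disjoint_iff.1 hc.disjoint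
  rw [hdisj, Subgroup.mem_bot, commutatorElement_eq_one_iff_mul_comm] at hcomm
  exact hcomm

/-- In a finite nilpotent group, elements of coprime orders commute. -/
theorem commute_of_coprime_orderOf [Finite G] [hnil : Group.IsNilpotent G] (a b : G)
    (h : (orderOf a).Coprime (orderOf b)) : a * b = b * a := by
  have : a ∈ Subgroup.centralizer ({b} : Set G) := by
    apply mem_of_forall_primePow_mem
    intro y hy hyp
    rw [isPrimePow_nat_iff] at hyp
    obtain ⟨p, k, hp, hk, hpk⟩ := hyp
    have := Fact.mk hp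
    rw [Subgroup.mem_centralizer_iff]
    intro g hg
    rw [Set.mem_singleton_iff] at hg
    subst hg
    have hdvd : orderOf y ∣ orderOf a := orderOf_dvd_of_mem_zpowers hy
    have hcop : (orderOf g).Coprime p := by
      have h1 : p ∣ orderOf a := by
        refine Dvd.dvd.trans ?_ hdvd
        rw [← hpk]; exact dvd_pow_self p hk.ne'
      exact (Nat.Coprime.coprime_dvd_left h1 h).symm
    exact (commute_of_pElement_of_coprime y g k hpk.symm hcop).symm
  exact (Subgroup.mem_centralizer_iff.1 this b rfl).symm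

end Cfsg.Agent.Helper1
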