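import Mathlib
import Cfsg.Prelude.Def_LieExceptional
import Cfsg.Agent.Helper1.NilpCoprime
import Cfsg.Agent.Helper1.Nilp
import Cfsg.Agent.Helper1.Card

set_option autoImplicit false

namespace Cfsg.Agent.Helper1

open Cfsg
open scoped commutatorElement Pointwise

universe u

variable {G : Type u} [Group G]

theorem commute_of_coprime_orderOf_of_mem [Finite G] {K : Subgroup G}
    (hK : Group.IsNilpotent K) {a b : G} (ha : a ∈ K) (hb : b ∈ K)
    (h : (orderOf a).Coprime (orderOf b)) : a * b = b * a := by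
  have := commute_of_coprime_orderOf (⟨a, ha⟩ : K) ⟨b, hb⟩
    (by rw [Subgroup.orderOf_mk, Subgroup.orderOf_mk]; exact h)
  exact congrArg Subtype.val this

theorem mem_sylow_map_of_mem [Finite G] {K : Subgroup G} (hK : Group.IsNilpotent K) {p : ℕ}
    [Fact p.Prime] (P : Sylow p K) {x : G} (hx : x ∈ K) (k : ℕ) (ho : orderOf x = p ^ k) :
    x ∈ (P : Subgroup K).map K.subtype := by
  have := mem_sylow_of_isNilpotent P (⟨x, hx⟩ : K) k (by rw [Subgroup.orderOf_mk]; exact ho)
  exact ⟨⟨x, hx⟩, this, rfl⟩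

theorem exists_orderOf_eq_pow_of_mem_isPGroup {p : ℕ} [hp : Fact p.Prime] {K : Subgroup G}
    (hK : IsPGroup p K) {x : G} (hx : x ∈ K) : ∃ k, orderOf x = p ^ k := by
  obtain ⟨k, hk⟩ := hK ⟨x, hx⟩
  have hk' : x ^ (p ^ k) = 1 := by
    have := congrArg Subtype.val hk
    simpa using this
  have hd : orderOf x ∣ p ^ k := orderOf_dvd_of_pow_eq_one hk'
  obtain ⟨j, -, hj⟩ := (Nat.dvd_prime_pow hp.out).1 hd
  exact ⟨j, hj⟩

theorem le_centralizer_of_commute_pElements [Finite G] {K : Subgroup G}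
    (hK : Group.IsNilpotent K) {q : ℕ} [hq : Fact q.Prime] {z : G} (hzK : z ∈ K) (kz : ℕ)
    (hz : orderOf z = q ^ kz)
    (hcomm : ∀ y ∈ K, ∀ k, orderOf y = q ^ k → y * z = z * y) :
    K ≤ Subgroup.centralizer ({z} : Set G) := by
  intro h hh
  apply mem_of_forall_primePow_mem
  intro y hy hyp
  have hyK : y ∈ K := (Subgroup.zpowers_le.2 hh) hy
  rw [isPrimePow_nat_iff] at hyp
  obtain ⟨r, k, hr, hk, hrk⟩ := hyp
  rw [Subgroup.mem_centralizer_iff]
  intro g hg
  rw [Set.mem_singleton_iff] at hg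
  subst hg
  by_cases hrq : r = q
  · subst hrq
    exact (hcomm y hyK k hrk.symm).symm
  · apply commute_of_coprime_orderOf_of_mem hK hzK hyK
    rw [hz, ← hrk]
    exact Nat.Coprime.pow _ _ ((Nat.coprime_primes hq.out hr).2 (Ne.symm hrq))

/-- A maximal nilpotent subgroup of a CN-group is a Hall subgroup. -/
theorem cn_max_nilpotent_coprime [Finite G] (hCN : Cfsg.IsCNGroup G) (H : Subgroup G)
    (hH : Group.IsNilpotent H)
    (hmax : ∀ L : Subgroup G, Group.IsNilpotent L → H ≤ L → L = H) :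
    (Nat.card H).Coprime H.index := by
  apply Nat.coprime_of_dvd
  intro p hp hpH hpI
  have hpF := Fact.mk hp
  obtain ⟨P⟩ : Nonempty (Sylow p H) := inferInstance
  set P' := (P : Subgroup H).map H.subtype with hP'
  have hP'p : IsPGroup p P' := P.2.map _
  have hP'H : P' ≤ H := Subgroup.map_subtype_le _
  obtain ⟨S, hP'S⟩ := hP'p.exists_le_sylow
  have hne : P' ≠ S := by
    intro h
    have h1 : ¬ p ∣ P'.index := by rw [h]; exact S.not_dvd_index
    apply h1
    rw [← Subgroup.relIndex_mul_index hP'H]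
    exact Dvd.dvd.mul_left hpI _
  have hlt : P' < S := lt_of_le_of_ne hP'S hne
  have hnilS : Group.IsNilpotent (S : Subgroup G) := S.2.isNilpotent
  have hnc := Group.normalizerCondition_of_isNilpotent (G := (S : Subgroup G))
  have hKlt : P'.subgroupOf S < ⊤ := by
    rw [lt_top_iff_ne_top, Ne, Subgroup.subgroupOf_eq_top]; exact not_le_of_gt hlt
  obtain ⟨s, hsN, hsK⟩ := SetLike.exists_of_lt (hnc _ hKlt)
  set g := (s : G) with hg
  have hgS : g ∈ (S : Subgroup G) := s.2
  have hgP' : g ∉ P' := fun h => hsK (Subgroup.mem_subgroupOf.2 h)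
  have hgN : g ∈ Subgroup.normalizer (P' : Set G) := by
    rw [← Subgroup.subgroupOf_normalizer_eq hP'S] at hsN
    exact Subgroup.mem_subgroupOf.1 hsN
  set P₁ := P' ⊔ Subgroup.zpowers g with hP₁
  have hP₁S : P₁ ≤ S := sup_le hP'S (Subgroup.zpowers_le.2 hgS)
  have hP₁N : P₁ ≤ Subgroup.normalizer (P' : Set G) :=
    sup_le Subgroup.le_normalizer (Subgroup.zpowers_le.2 hgN)
  have hP'P₁ : P' ≤ P₁ := le_sup_left
  have hCn : (P'.subgroupOf P₁).Normal :=
    (Subgroup.normal_subgroupOf_iff_le_normalizer hP'P₁).2 hP₁N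
  have hP'ne : P' ≠ ⊥ := by
    intro h
    have hP1 : (P : Subgroup H) ≠ ⊥ := P.ne_bot_of_dvd_card hpH
    apply hP1
    rw [eq_bot_iff]
    intro x hx
    have : (x : G) ∈ P' := Subgroup.mem_map_of_mem _ hx
    rw [h, Subgroup.mem_bot] at this
    rw [Subgroup.mem_bot]
    exact Subtype.ext this
  have hCne : ¬ P'.subgroupOf P₁ ≤ ⊥ := by
    intro h
    apply hP'ne
    rw [eq_bot_iff]
    intro x hx
    have : (⟨x, hP'P₁ hx⟩ : P₁) ∈ P'.subgroupOf P₁ := Subgroup.mem_subgroupOf.2 hx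
    have := h this
    rw [Subgroup.mem_bot] at this ⊢
    exact congrArg Subtype.val this
  have hnilP₁ : Group.IsNilpotent P₁ := (S.2.to_le hP₁S).isNilpotent
  obtain ⟨x, hxC, hxbot, hx⟩ := exists_mem_commutator_mem_of_not_le hCne
  set z := (x : G) with hz
  have hzP' : z ∈ P' := Subgroup.mem_subgroupOf.1 hxC
  have hz1 : z ≠ 1 := by
    intro h
    apply hxbot
    rw [Subgroup.mem_bot]
    exact Subtype.ext h
  have hzcomm : ∀ y ∈ P₁, z * y = y * z := by
    intro y hy
    have := hx ⟨y, hy⟩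
    rw [Subgroup.mem_bot, commutatorElement_eq_one_iff_mul_comm] at this
    exact congrArg Subtype.val this
  obtain ⟨kz, hkz⟩ := exists_orderOf_eq_pow_of_mem_isPGroup hP'p hzP'
  have hHz : H ≤ Subgroup.centralizer ({z} : Set G) := by
    apply le_centralizer_of_commute_pElements hH (hP'H hzP') kz hkz
    intro y hy k hk
    have : y ∈ P' := mem_sylow_map_of_mem hH P hy k hk
    exact (hzcomm y (hP'P₁ this)).symm
  have hCz : Subgroup.centralizer ({z} : Set G) = H := hmax _ (hCN z hz1) hHz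
  have hgH : g ∈ H := by
    rw [← hCz, Subgroup.mem_centralizer_iff]
    intro y hy
    rw [Set.mem_singleton_iff] at hy
    subst hy
    exact hzcomm g ((le_sup_right : _ ≤ P₁) (Subgroup.mem_zpowers g))
  obtain ⟨kg, hkg⟩ := exists_orderOf_eq_pow_of_mem_isPGroup S.2 hgS
  exact hgP' (mem_sylow_map_of_mem hH P hgH kg hkg)

end Cfsg.Agent.Helper1
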