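import Mathlib
import Cfsg.Agent.Helper1.CNGroup

set_option autoImplicit false

namespace Cfsg.Agent.Helper1

open Cfsg
open scoped commutatorElement Pointwise

universe u

variable {G : Type u} [Group G]

/-- A nontrivial nilpotent subgroup has a nonidentity central element. -/
theorem exists_central_ne_one {K : Subgroup G} (hK : Group.IsNilpotent K) (hne : K ≠ ⊥) :
    ∃ z ∈ K, z ≠ 1 ∧ ∀ y ∈ K, z * y = y * z := by
  have hnt : Nontrivial K := (Subgroup.nontrivial_iff_ne_bot _).2 hne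
  have h := Group.IsNilpotent.center_ne_bot K
  obtain ⟨z, hz1⟩ := (Subgroup.ne_bot_iff_exists_ne_one).1 h
  refine ⟨((z : K) : G), (z : K).2, ?_, ?_⟩
  · intro h1
    apply hz1
    apply Subtype.ext
    apply Subtype.ext
    exact h1
  · intro y hy
    have := Subgroup.mem_center_iff.1 z.2 ⟨y, hy⟩
    exact (congrArg Subtype.val this).symm

theorem cn_max_nilpotent_centralizer_le [Finite G] (hCN : Cfsg.IsCNGroup G) (H : Subgroup G)
    (hH : Group.IsNilpotent H)
    (hmax : ∀ L : Subgroup G, Group.IsNilpotent L → H ≤ L → L = H)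
    (hTI : ∀ g : G, H.map (MulAut.conj g).toMonoidHom ≠ H →
      H ⊓ H.map (MulAut.conj g).toMonoidHom = ⊥) :
    ∀ x ∈ H, x ≠ 1 → Subgroup.centralizer ({x} : Set G) ≤ H := by
  intro x hxH hx1
  have hHne : H ≠ ⊥ := by
    intro h
    rw [h, Subgroup.mem_bot] at hxH
    exact hx1 hxH
  obtain ⟨z, hzH, hz1, hzc⟩ := exists_central_ne_one hH hHne
  have hHz : H ≤ Subgroup.centralizer ({z} : Set G) := by
    intro h hh
    rw [Subgroup.mem_centralizer_iff]
    intro g hg
    rw [Set.mem_singleton_iff] at hg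
    subst hg
    exact hzc h hh
  have hCz : Subgroup.centralizer ({z} : Set G) = H := hmax _ (hCN z hz1) hHz
  have hcop := cn_max_nilpotent_coprime hCN H hH hmax
  have hCx : Group.IsNilpotent (Subgroup.centralizer ({x} : Set G)) := hCN x hx1
  have hzCx : z ∈ Subgroup.centralizer ({x} : Set G) := by
    rw [Subgroup.mem_centralizer_iff]
    intro g hg
    rw [Set.mem_singleton_iff] at hg
    subst hg
    exact (hzc g hxH).symm
  intro c hc
  apply mem_of_forall_primePow_mem
  intro y hy hyp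
  have hyC : y ∈ Subgroup.centralizer ({x} : Set G) := (Subgroup.zpowers_le.2 hc) hy
  rw [isPrimePow_nat_iff] at hyp
  obtain ⟨r, k, hr, hk, hrk⟩ := hyp
  by_cases hrH : r ∣ Nat.card H
  · -- `y` normalizes `H`
    have hyx : y * x * y⁻¹ = x := by
      have := Subgroup.mem_centralizer_iff.1 hyC x rfl
      rw [← this]; group
    have hyN : y ∈ Subgroup.normalizer (H : Set G) := by
      apply mem_normalizer_of_conj_smul_eq
      by_contra hne
      have h1 := hTI y (by rw [← conj_smul_eq_map]; exact hne)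
      have h2 : x ∈ H ⊓ H.map (MulAut.conj y).toMonoidHom := by
        refine Subgroup.mem_inf.2 ⟨hxH, ?_⟩
        rw [← conj_smul_eq_map, ← hyx]
        exact conj_mem_conj_smul hxH
      rw [h1, Subgroup.mem_bot] at h2
      exact hx1 h2
    set Y := Subgroup.zpowers y with hY
    have hYN : Y ≤ Subgroup.normalizer (H : Set G) := Subgroup.zpowers_le.2 hyN
    have h1 := card_sup_mul_card_inf hYN
    have h2 : H.relIndex (H ⊔ Y) * Nat.card H = Nat.card (H ⊔ Y : Subgroup G) :=
      relIndex_mul_card_of_le le_sup_left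
    have h3 : H.relIndex (H ⊔ Y) * Nat.card (H ⊓ Y : Subgroup G) = Nat.card Y := by
      have hpos : 0 < Nat.card H := Nat.card_pos
      apply Nat.eq_of_mul_eq_mul_left hpos
      calc Nat.card H * (H.relIndex (H ⊔ Y) * Nat.card (H ⊓ Y : Subgroup G))
          = (H.relIndex (H ⊔ Y) * Nat.card H) * Nat.card (H ⊓ Y : Subgroup G) := by ring
        _ = Nat.card H * Nat.card Y := by rw [h2, h1]
    have h4 : H.relIndex (H ⊔ Y) ∣ r ^ k := by
      rw [hrk, ← Nat.card_zpowers y, ← h3]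
      exact dvd_mul_right _ _
    have h5 : H.relIndex (H ⊔ Y) ∣ H.index :=
      Dvd.intro _ (Subgroup.relIndex_mul_index (le_sup_left : H ≤ H ⊔ Y))
    have h6 : (r ^ k).Coprime H.index := by
      apply Nat.Coprime.pow_left
      rw [Nat.Prime.coprime_iff_not_dvd hr]
      intro hri
      exact hr.one_lt.ne' (Nat.eq_one_of_dvd_coprimes hcop hrH hri)
    have h7 : H.relIndex (H ⊔ Y) = 1 := Nat.eq_one_of_dvd_coprimes h6 h4 h5
    rw [Subgroup.relIndex_eq_one] at h7
    exact h7 ((le_sup_right : Y ≤ H ⊔ Y) (Subgroup.mem_zpowers y))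
  · have hzo : orderOf z ∣ Nat.card H := by
      have := orderOf_dvd_natCard (⟨z, hzH⟩ : H)
      rwa [Subgroup.orderOf_mk] at this
    have hco : (orderOf y).Coprime (orderOf z) := by
      rw [← hrk]
      apply Nat.Coprime.pow_left
      apply Nat.Coprime.coprime_dvd_right hzo
      exact (Nat.Prime.coprime_iff_not_dvd hr).2 hrH
    have hyz := commute_of_coprime_orderOf_of_mem hCx hyC hzCx hco
    rw [← hCz, Subgroup.mem_centralizer_iff]
    intro g hg
    rw [Set.mem_singleton_iff] at hg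
    subst hg
    exact hyz.symm

/-- Key step: identify `C_G(w)` with a maximal nilpotent subgroup. -/
theorem cn_centralizer_eq_of_key [Finite G] (hCN : Cfsg.IsCNGroup G) (K : Subgroup G)
    (hK : Group.IsNilpotent K)
    (hmax : ∀ L : Subgroup G, Group.IsNilpotent L → K ≤ L → L = K)
    {p q : ℕ} [hp : Fact p.Prime] [hq : Fact q.Prime] (hpq : q ≠ p) (x₁ : G) (hx₁K : x₁ ∈ K)
    (hx₁ : orderOf x₁ = p) (hqK : q ∣ Nat.card K) (R' : Subgroup G)
    (hR' : ∀ y, y ∈ Subgroup.centralizer ({x₁} : Set G) → ∀ k, orderOf y = q ^ k → y ∈ R')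
    (hR'q : IsPGroup q R')
    (w : G) (hwR : w ∈ R') (hw1 : w ≠ 1) (hwc : ∀ y ∈ R', w * y = y * w) :
    Subgroup.centralizer ({w} : Set G) = K := by
  obtain ⟨Q⟩ : Nonempty (Sylow q K) := inferInstance
  set Q' := (Q : Subgroup K).map K.subtype with hQ'
  have hQ'q : IsPGroup q Q' := Q.2.map _
  have hQ'K : Q' ≤ K := Subgroup.map_subtype_le _
  have hQ'ne : Q' ≠ ⊥ := by
    intro h
    have hQ1 : (Q : Subgroup K) ≠ ⊥ := Q.ne_bot_of_dvd_card hqK
    apply hQ1
    rw [eq_bot_iff]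
    intro x hx
    have : (x : G) ∈ Q' := Subgroup.mem_map_of_mem _ hx
    rw [h, Subgroup.mem_bot] at this
    rw [Subgroup.mem_bot]
    exact Subtype.ext this
  have hQ'R : Q' ≤ R' := by
    intro y hy
    obtain ⟨k, hk⟩ := exists_orderOf_eq_pow_of_mem_isPGroup hQ'q hy
    apply hR' y _ k hk
    rw [Subgroup.mem_centralizer_iff]
    intro g hg
    rw [Set.mem_singleton_iff] at hg
    subst hg
    apply commute_of_coprime_orderOf_of_mem hK hx₁K (hQ'K hy)
    rw [hx₁, hk]
    exact Nat.Coprime.pow_right _ ((Nat.coprime_primes hp.out hq.out).2 (Ne.symm hpq))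
  obtain ⟨y₀, hy₀Q, hy₀1, hy₀c⟩ := exists_central_ne_one hQ'q.isNilpotent hQ'ne
  obtain ⟨k₀, hk₀⟩ := exists_orderOf_eq_pow_of_mem_isPGroup hQ'q hy₀Q
  have hKy₀ : K ≤ Subgroup.centralizer ({y₀} : Set G) := by
    apply le_centralizer_of_commute_pElements hK (hQ'K hy₀Q) k₀ hk₀
    intro y hy k hk
    exact (hy₀c y (mem_sylow_map_of_mem hK Q hy k hk)).symm
  have hCy₀ : Subgroup.centralizer ({y₀} : Set G) = K := hmax _ (hCN y₀ hy₀1) hKy₀
  have hwK : w ∈ K := by
    rw [← hCy₀, Subgroup.mem_centralizer_iff]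
    intro g hg
    rw [Set.mem_singleton_iff] at hg
    subst hg
    exact (hwc g (hQ'R hy₀Q)).symm
  obtain ⟨kw, hkw⟩ := exists_orderOf_eq_pow_of_mem_isPGroup hR'q hwR
  have hKw : K ≤ Subgroup.centralizer ({w} : Set G) := by
    apply le_centralizer_of_commute_pElements hK hwK kw hkw
    intro y hy k hk
    exact (hwc y (hQ'R (mem_sylow_map_of_mem hK Q hy k hk))).symm
  exact hmax _ (hCN w hw1) hKw

theorem cn_max_nilpotent_TI [Finite G] (hCN : Cfsg.IsCNGroup G) (H : Subgroup G)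
    (hH : Group.IsNilpotent H)
    (hmax : ∀ L : Subgroup G, Group.IsNilpotent L → H ≤ L → L = H)
    (hnpp : ¬ IsPrimePow (Nat.card H)) (h1 : Nat.card H ≠ 1) :
    ∀ g : G, H.map (MulAut.conj g).toMonoidHom ≠ H →
      H ⊓ H.map (MulAut.conj g).toMonoidHom = ⊥ := by
  intro g hg
  by_contra hne
  set H' := H.map (MulAut.conj g).toMonoidHom with hH'
  have hH'eq : H' = MulAut.conj g • H := rfl
  obtain ⟨x, hx1⟩ := (Subgroup.ne_bot_iff_exists_ne_one).1 hne
  have hx1' : (x : G) ≠ 1 := fun h => hx1 (Subtype.ext h)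
  have hxo : orderOf (x : G) ≠ 1 := by rwa [Ne, orderOf_eq_one_iff]
  obtain ⟨p, hp, hpx⟩ := Nat.exists_prime_and_dvd hxo
  have hpF := Fact.mk hp
  set x₁ := (x : G) ^ (orderOf (x : G) / p) with hx₁def
  have hx₁ : orderOf x₁ = p := orderOf_pow_orderOf_div (orderOf_pos _).ne' hpx
  have hx₁mem : x₁ ∈ H ⊓ H' := Subgroup.pow_mem _ x.2 _
  obtain ⟨hx₁H, hx₁H'⟩ := Subgroup.mem_inf.1 hx₁mem
  have hx₁1 : x₁ ≠ 1 := by
    intro h
    rw [h, orderOf_one] at hx₁
    exact hp.one_lt.ne hx₁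
  -- a second prime
  have hq : ∃ q : ℕ, q.Prime ∧ q ∣ Nat.card H ∧ q ≠ p := by
    by_contra hcon
    push Not at hcon
    have := Nat.eq_prime_pow_of_unique_prime_dvd (n := Nat.card H) (p := p) Nat.card_pos.ne'
      (fun {d} hd hdn => hcon d hd hdn)
    apply hnpp
    rw [this]
    apply hp.isPrimePow.pow
    intro h0
    rw [h0, pow_zero] at this
    exact h1 this
  obtain ⟨q, hqp, hqH, hqne⟩ := hq
  have hqF := Fact.mk hqp
  -- `H'` is also maximal nilpotent
  have hH'nil : Group.IsNilpotent H' :=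
    Group.nilpotent_of_mulEquiv (H.equivMapOfInjective _ (MulAut.conj g).injective)
  have hH'max : ∀ L : Subgroup G, Group.IsNilpotent L → H' ≤ L → L = H' := by
    intro L hL hle
    set L' := MulAut.conj g⁻¹ • L with hL'
    have hL'nil : Group.IsNilpotent L' :=
      Group.nilpotent_of_mulEquiv (Subgroup.equivSMul (MulAut.conj g⁻¹) L)
    have hHL' : H ≤ L' := by
      intro h hh
      rw [hL', mem_conj_smul]
      apply hle
      rw [hH'eq, mem_conj_smul]
      simpa [mul_assoc] using hh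
    have := hmax L' hL'nil hHL'
    rw [hH'eq, ← this, hL', ← mul_smul, ← map_mul, mul_inv_cancel, map_one, one_smul]
  have hH'card : Nat.card H' = Nat.card H := by rw [hH'eq, card_conj_smul]
  -- the centralizer of `x₁`
  set C := Subgroup.centralizer ({x₁} : Set G) with hC
  have hCnil : Group.IsNilpotent C := hCN x₁ hx₁1
  obtain ⟨R⟩ : Nonempty (Sylow q C) := inferInstance
  set R' := (R : Subgroup C).map C.subtype with hR'
  have hR'q : IsPGroup q R' := R.2.map _
  have hR'all : ∀ y, y ∈ C → ∀ k, orderOf y = q ^ k → y ∈ R' :=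
    fun y hy k hk => mem_sylow_map_of_mem hCnil R hy k hk
  have hR'ne : R' ≠ ⊥ := by
    obtain ⟨y, hy⟩ := exists_prime_orderOf_dvd_card' q hqH
    have hyo : orderOf (y : G) = q := by rw [Subgroup.orderOf_coe]; exact hy
    have hyC : (y : G) ∈ C := by
      rw [hC, Subgroup.mem_centralizer_iff]
      intro g' hg'
      rw [Set.mem_singleton_iff] at hg'
      subst hg'
      apply commute_of_coprime_orderOf_of_mem hH hx₁H y.2
      rw [hx₁, hyo]
      exact (Nat.coprime_primes hp hqp).2 (Ne.symm hqne)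
    have hyR := hR'all y hyC 1 (by rw [pow_one]; exact hyo)
    intro hbot
    rw [hbot, Subgroup.mem_bot] at hyR
    rw [hyR, orderOf_one] at hyo
    exact hqp.one_lt.ne hyo
  obtain ⟨w, hwR, hw1, hwc⟩ := exists_central_ne_one hR'q.isNilpotent hR'ne
  have e1 := cn_centralizer_eq_of_key hCN H hH hmax hqne x₁ hx₁H hx₁ hqH R' hR'all hR'q w hwR hw1 hwc
  have e2 := cn_centralizer_eq_of_key hCN H' hH'nil hH'max hqne x₁ hx₁H' hx₁ (hH'card ▸ hqH) R'
    hR'all hR'q w hwR hw1 hwc
  exact hg (e2.symm.trans e1)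

theorem cn_max_nilpotent_facts [Finite G] (hCN : Cfsg.IsCNGroup G) (H : Subgroup G) (hH : Group.IsNilpotent H)
    (hmax : ∀ L : Subgroup G, Group.IsNilpotent L → H ≤ L → L = H) :
    (Nat.card H).Coprime H.index ∧
      (¬ IsPrimePow (Nat.card H) → Nat.card H ≠ 1 → ∀ g : G, H.map (MulAut.conj g).toMonoidHom ≠ H → H ⊓ H.map (MulAut.conj g).toMonoidHom = ⊥) ∧
      ((∀ g : G, H.map (MulAut.conj g).toMonoidHom ≠ H → H ⊓ H.map (MulAut.conj g).toMonoidHom = ⊥) → ∀ x ∈ H, x ≠ 1 → Subgroup.centralizer ({x} : Set G) ≤ H) :=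
  ⟨cn_max_nilpotent_coprime hCN H hH hmax, cn_max_nilpotent_TI hCN H hH hmax,
    cn_max_nilpotent_centralizer_le hCN H hH hmax⟩

end Cfsg.Agent.Helper1
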