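import Mathlib
import Cfsg.Agent.Helper1.Basic
import Cfsg.Agent.Helper1.SZ
import Cfsg.Agent.Helper1.Coprime

set_option autoImplicit false

/-!
Coprime action on an abelian subgroup: `V = C_V(A) × [V, A]`.
-/

namespace Cfsg.Agent.Helper1

open scoped Pointwise commutatorElement IsMulCommutative

universe u

variable {G : Type u} [Group G]

/-- conjugation by `a ∈ A` on `V`, for `A ≤ N(V)`. -/
def conjOn (A V : Subgroup G) (hAV : A ≤ Subgroup.normalizer (V : Set G)) (a : A) : V →* V where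
  toFun v := ⟨a * v * (a : G)⁻¹, (Subgroup.mem_normalizer_iff.1 (hAV a.2) v).1 v.2⟩
  map_one' := by ext; simp
  map_mul' x y := by ext; simp [mul_assoc]

@[simp]
theorem conjOn_coe (A V : Subgroup G) (hAV : A ≤ Subgroup.normalizer (V : Set G)) (a : A) (v : V) :
    ((conjOn A V hAV a v : V) : G) = a * v * (a : G)⁻¹ := rfl

theorem conjOn_mul (A V : Subgroup G) (hAV : A ≤ Subgroup.normalizer (V : Set G)) (a b : A)
    (v : V) : conjOn A V hAV (a * b) v = conjOn A V hAV a (conjOn A V hAV b v) := by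
  ext; simp [mul_assoc]

/-- the averaging (norm) map on an abelian `V`. -/
noncomputable def avgHom (A V : Subgroup G) [IsMulCommutative V]
    (hAV : A ≤ Subgroup.normalizer (V : Set G)) [Fintype A] : V →* V :=
  ∏ a : A, conjOn A V hAV a

theorem avgHom_apply (A V : Subgroup G) [IsMulCommutative V]
    (hAV : A ≤ Subgroup.normalizer (V : Set G)) [Fintype A] (v : V) :
    avgHom A V hAV v = ∏ a : A, conjOn A V hAV a v := by
  rw [avgHom, MonoidHom.finsetProd_apply]

theorem avgHom_conjOn (A V : Subgroup G) [IsMulCommutative V]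
    (hAV : A ≤ Subgroup.normalizer (V : Set G)) [Fintype A] (b : A) (v : V) :
    avgHom A V hAV (conjOn A V hAV b v) = avgHom A V hAV v := by
  rw [avgHom_apply, avgHom_apply]
  refine Fintype.prod_equiv (Equiv.mulRight b) _ _ (fun a => ?_)
  rw [Equiv.coe_mulRight, conjOn_mul]

theorem avgHom_of_fixed (A V : Subgroup G) [IsMulCommutative V]
    (hAV : A ≤ Subgroup.normalizer (V : Set G)) [Fintype A] (v : V)
    (hv : (v : G) ∈ Subgroup.centralizer (A : Set G)) :
    avgHom A V hAV v = v ^ Nat.card A := by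
  rw [avgHom_apply]
  have h : ∀ a : A, conjOn A V hAV a v = v := by
    intro a
    ext
    rw [conjOn_coe]
    have := Subgroup.mem_centralizer_iff.1 hv a a.2
    rw [this, mul_inv_cancel_right]
  simp only [h, Finset.prod_const, Finset.card_univ, Nat.card_eq_fintype_card]

theorem commutator_le_ker_avgHom (A V : Subgroup G) [IsMulCommutative V]
    (hAV : A ≤ Subgroup.normalizer (V : Set G)) [Fintype A] :
    ⁅V, A⁆ ≤ (avgHom A V hAV).ker.map V.subtype := by
  rw [Subgroup.commutator_le]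
  intro v hv a ha
  refine ⟨(⟨v, hv⟩ : V) * (conjOn A V hAV ⟨a, ha⟩ ⟨v, hv⟩)⁻¹, ?_, ?_⟩
  · rw [SetLike.mem_coe, MonoidHom.mem_ker, map_mul, map_inv, avgHom_conjOn, mul_inv_cancel]
  · simp [commutatorElement_def, mul_assoc]

/-- `C_V(A) ∩ [V, A] = 1` for coprime action on abelian `V`. -/
theorem centralizer_inf_commutator_eq_bot [Finite G] (A V : Subgroup G) [IsMulCommutative V]
    (hAV : A ≤ Subgroup.normalizer (V : Set G)) (hcop : (Nat.card A).Coprime (Nat.card V)) :
    (V ⊓ Subgroup.centralizer (A : Set G)) ⊓ ⁅V, A⁆ = ⊥ := by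
  have : Fintype A := Fintype.ofFinite A
  rw [eq_bot_iff]
  rintro g ⟨⟨hgV, hgC⟩, hg⟩
  rw [Subgroup.mem_bot]
  obtain ⟨w, hw, rfl⟩ := commutator_le_ker_avgHom A V hAV hg
  rw [SetLike.mem_coe, MonoidHom.mem_ker, avgHom_of_fixed A V hAV w hgC] at hw
  have h1 : orderOf w ∣ Nat.card A := orderOf_dvd_of_pow_eq_one hw
  have h2 : orderOf w ∣ Nat.card V := orderOf_dvd_natCard w
  have h3 : orderOf w = 1 := Nat.eq_one_of_dvd_coprimes hcop h1 h2
  rw [orderOf_eq_one_iff] at h3
  rw [h3]; rfl

theorem isSolvable_of_isMulCommutative (V : Subgroup G) [IsMulCommutative V] :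
    Group.IsSolvable V := Group.isSolvable_of_comm (fun a b => mul_comm' a b)

/-- `V = C_V(A) × [V, A]` for coprime action on abelian `V`. -/
theorem abelian_coprime_decomp [Finite G] (A V : Subgroup G) [IsMulCommutative V]
    (hAV : A ≤ Subgroup.normalizer (V : Set G)) (hcop : (Nat.card A).Coprime (Nat.card V)) :
    (V ⊓ Subgroup.centralizer (A : Set G)) ⊓ ⁅V, A⁆ = ⊥ ∧
      (V ⊓ Subgroup.centralizer (A : Set G)) ⊔ ⁅V, A⁆ = V := by
  refine ⟨centralizer_inf_commutator_eq_bot A V hAV hcop, ?_⟩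
  rw [sup_comm]
  exact coprime_commutator_sup_centralizer A V hAV hcop (Or.inr (isSolvable_of_isMulCommutative V))

end Cfsg.Agent.Helper1
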