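import Mathlib

set_option autoImplicit false

/-!
Fixed-point-free actions on abelian groups: norm arguments.
-/

namespace Cfsg.Agent.Helper1

universe u v

section general

variable {A : Type u} [Group A] {V : Type v} [Group V]

/-- Fixed-point-free: no nonidentity element of `A` fixes a nonidentity element of `V`. -/
def IsFPF (φ : A →* MulAut V) : Prop := ∀ a : A, a ≠ 1 → ∀ w : V, φ a w = w → w = 1

/-- If `A` acts fixed-point-freely on a finite group `V` and `a` has prime order `q`, then
`q ∤ |V|`. -/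
theorem IsFPF.coprime_card [Finite V] {φ : A →* MulAut V} (hf : IsFPF φ) {q : ℕ}
    [hq : Fact q.Prime] (a : A) (ha : orderOf a = q) : (Nat.card V).Coprime q := by
  let ψ : Subgroup.zpowers a →* MulAut V := φ.comp (Subgroup.zpowers a).subtype
  let _ : MulAction (Subgroup.zpowers a) V := MulAction.compHom V ψ
  have hZ : IsPGroup q (Subgroup.zpowers a) := by
    apply IsPGroup.of_card (n := 1)
    rw [Nat.card_zpowers, ha, pow_one]
  have hmod := hZ.card_modEq_card_fixedPoints V
  have ha1 : a ≠ 1 := by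
    intro h
    rw [h, orderOf_one] at ha
    exact hq.out.one_lt.ne ha
  have hfix : MulAction.fixedPoints (Subgroup.zpowers a) V = {1} := by
    ext w
    constructor
    · intro hw
      have := hw ⟨a, Subgroup.mem_zpowers a⟩
      exact hf a ha1 w this
    · rintro rfl
      intro g
      show φ (g : A) 1 = 1
      exact map_one _
  rw [hfix] at hmod
  have h1 : Nat.card ({1} : Set V) = 1 := by simp
  rw [h1] at hmod
  rw [Nat.coprime_comm, Nat.Prime.coprime_iff_not_dvd hq.out]
  intro hdvd
  have : Nat.card V % q = 0 := Nat.mod_eq_zero_of_dvd hdvd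
  rw [Nat.ModEq, this, Nat.mod_eq_of_lt hq.out.one_lt] at hmod
  exact zero_ne_one hmod

theorem IsFPF.eq_one_of_pow_eq_one [Finite V] {φ : A →* MulAut V} (hf : IsFPF φ) {q : ℕ}
    [hq : Fact q.Prime] (a : A) (ha : orderOf a = q) (w : V) (hw : w ^ q = 1) : w = 1 := by
  have h1 : orderOf w ∣ q := orderOf_dvd_of_pow_eq_one hw
  have h2 : orderOf w ∣ Nat.card V := orderOf_dvd_natCard w
  have h3 := Nat.eq_one_of_dvd_coprimes (hf.coprime_card a ha) h2 h1
  rwa [orderOf_eq_one_iff] at h3

end general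

section comm

variable {A : Type u} [Group A] {V : Type v} [CommGroup V]

/-- the norm along `1, c, …, c^(q-1)`. -/
def cycNorm (φ : A →* MulAut V) (c : A) (q : ℕ) (w : V) : V :=
  ∏ j ∈ Finset.range q, φ (c ^ j) w

theorem cycNorm_fixed (φ : A →* MulAut V) (c : A) (q : ℕ) (hc : c ^ q = 1) (w : V) :
    φ c (cycNorm φ c q w) = cycNorm φ c q w := by
  unfold cycNorm
  rw [map_prod]
  have h1 : ∀ j, φ c (φ (c ^ j) w) = φ (c ^ (j + 1)) w := by
    intro j
    rw [pow_succ', map_mul]; rfl
  simp only [h1]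
  have h2 := Finset.prod_range_succ (fun j => φ (c ^ j) w) q
  have h3 := Finset.prod_range_succ' (fun j => φ (c ^ j) w) q
  rw [h2] at h3
  simp only [hc, pow_zero, map_one] at h3
  exact (mul_right_cancel h3).symm

theorem IsFPF.cycNorm_eq_one {φ : A →* MulAut V} (hf : IsFPF φ) (c : A) (q : ℕ) (hc : c ^ q = 1)
    (hc1 : c ≠ 1) (w : V) : cycNorm φ c q w = 1 :=
  hf c hc1 _ (cycNorm_fixed φ c q hc w)

/-- the norm over a finite subgroup. -/
noncomputable def subNorm (φ : A →* MulAut V) (Q : Subgroup A) [Fintype Q] (w : V) : V :=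
  ∏ x : Q, φ (x : A) w

theorem subNorm_fixed (φ : A →* MulAut V) (Q : Subgroup A) [Fintype Q] (b : Q) (w : V) :
    φ (b : A) (subNorm φ Q w) = subNorm φ Q w := by
  unfold subNorm
  rw [map_prod]
  refine Fintype.prod_equiv (Equiv.mulLeft b) _ _ (fun x => ?_)
  rw [Equiv.coe_mulLeft, Subgroup.coe_mul, map_mul]; rfl

theorem IsFPF.subNorm_eq_one {φ : A →* MulAut V} (hf : IsFPF φ) (Q : Subgroup A) [Fintype Q]
    (hQ : Q ≠ ⊥) (w : V) : subNorm φ Q w = 1 := by
  obtain ⟨b, hb⟩ := (Subgroup.ne_bot_iff_exists_ne_one).1 hQ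
  have hb' : (b : A) ≠ 1 := fun h => hb (Subtype.ext h)
  exact hf b hb' _ (subNorm_fixed φ Q b w)

/-- reindexing a product over `range q` by multiplication with `j`, `0 < j < q`, `q` prime. -/
theorem prod_range_mul_mod {q : ℕ} (hq : q.Prime) (j : ℕ) (hj0 : 0 < j) (hjq : j < q)
    (F : ℕ → V) :
    ∏ i ∈ Finset.range q, F ((i * j) % q) = ∏ i ∈ Finset.range q, F i := by
  have hinj : Set.InjOn (fun i => (i * j) % q) (Finset.range q : Set ℕ) := by
    intro a ha b hb hab
    simp only [Finset.coe_range, Set.mem_Iio] at ha hb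
    have h1 : a * j ≡ b * j [MOD q] := hab
    have hcop : Nat.Coprime q j := by
      rw [Nat.Prime.coprime_iff_not_dvd hq]
      intro h
      exact absurd (Nat.le_of_dvd hj0 h) (not_le.2 hjq)
    have h2 : a ≡ b [MOD q] := Nat.ModEq.cancel_right_of_coprime hcop h1
    rw [Nat.ModEq, Nat.mod_eq_of_lt ha, Nat.mod_eq_of_lt hb] at h2
    exact h2
  have himg : (Finset.range q).image (fun i => (i * j) % q) = Finset.range q := by
    apply Finset.eq_of_subset_of_card_le
    · intro x hx
      obtain ⟨i, -, rfl⟩ := Finset.mem_image.1 hx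
      exact Finset.mem_range.2 (Nat.mod_lt _ hq.pos)
    · rw [Finset.card_image_of_injOn hinj]
  calc ∏ i ∈ Finset.range q, F ((i * j) % q)
      = ∏ x ∈ (Finset.range q).image (fun i => (i * j) % q), F x := by
        rw [Finset.prod_image hinj]
    _ = ∏ i ∈ Finset.range q, F i := by rw [himg]

end comm

end Cfsg.Agent.Helper1
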