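import Mathlib
import Cfsg.Agent.Helper1.FPF

set_option autoImplicit false

namespace Cfsg.Agent.Helper1

universe u v

variable {A : Type u} [Group A] {V : Type v} [CommGroup V]

/-- A group containing `ℤ/q × ℤ/q` cannot act fixed-point-freely: all `q`-th powers vanish. -/
theorem IsFPF.pow_eq_one_of_rank_two {φ : A →* MulAut V} (hf : IsFPF φ) {q : ℕ} (hq : q.Prime)
    (a b : A) (hab : Commute a b) (ha : a ^ q = 1) (hb : b ^ q = 1) (ha1 : a ≠ 1)
    (hne : ∀ i, i < q → a ^ i * b ≠ 1) (w : V) : w ^ q = 1 := by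
  have hP : ∏ i ∈ Finset.range q, cycNorm φ (a ^ i * b) q w = 1 := by
    apply Finset.prod_eq_one
    intro i hi
    apply hf.cycNorm_eq_one
    · rw [(hab.pow_left i).mul_pow, ← pow_mul, mul_comm, pow_mul, ha, one_pow, hb, one_mul]
    · exact hne i (Finset.mem_range.1 hi)
  have hexp : ∀ i j, φ ((a ^ i * b) ^ j) w = φ (a ^ ((i * j) % q)) (φ (b ^ j) w) := by
    intro i j
    rw [(hab.pow_left i).mul_pow, ← pow_mul, map_mul, pow_eq_pow_mod (i * j) ha]
    rfl
  unfold cycNorm at hP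
  simp only [hexp] at hP
  rw [Finset.prod_comm] at hP
  rw [Finset.prod_eq_single 0] at hP
  · simpa using hP
  · intro j hj hj0
    have hjq : j < q := Finset.mem_range.1 hj
    have := prod_range_mul_mod (V := V) hq j (Nat.pos_of_ne_zero hj0) hjq
      (fun n => φ (a ^ n) (φ (b ^ j) w))
    rw [this]
    exact hf.cycNorm_eq_one a q ha ha1 _
  · intro h
    exact absurd (Finset.mem_range.2 hq.pos) h

/-- A Frobenius-type group `Q ⋊ ⟨y⟩` cannot act fixed-point-freely. -/
theorem IsFPF.pow_card_eq_one_of_frobenius {φ : A →* MulAut V} (hf : IsFPF φ) (Q : Subgroup A)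
    [Fintype Q] (hQ : Q ≠ ⊥) (y : A) (r : ℕ) (hr : 0 < r) (hy : y ^ r = 1) (hy1 : y ≠ 1)
    (hnorm : ∀ x ∈ Q, y * x * y⁻¹ ∈ Q)
    (hcent : ∀ j, 0 < j → j < r → ∀ x ∈ Q, y ^ j * x = x * y ^ j → x = 1) (w : V) :
    w ^ (Fintype.card Q) = 1 := by
  have hnormj : ∀ j : ℕ, ∀ x ∈ Q, y ^ j * x * (y ^ j)⁻¹ ∈ Q := by
    intro j
    induction j with
    | zero => intro x hx; simpa using hx
    | succ j ih =>
      intro x hx
      have := hnorm _ (ih x hx)
      have e : y ^ (j + 1) * x * (y ^ (j + 1))⁻¹ = y * (y ^ j * x * (y ^ j)⁻¹) * y⁻¹ := by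
        rw [pow_succ']; group
      rw [e]; exact this
  have hP : ∏ x : Q, cycNorm φ ((x : A) * y * (x : A)⁻¹) r w = 1 := by
    apply Finset.prod_eq_one
    intro x _
    apply hf.cycNorm_eq_one
    · rw [conj_pow, hy, mul_one, mul_inv_cancel]
    · intro h
      apply hy1
      have : y = (x : A)⁻¹ * ((x : A) * y * (x : A)⁻¹) * x := by group
      rw [this, h]; group
  unfold cycNorm at hP
  rw [Finset.prod_comm] at hP
  rw [Finset.prod_eq_single 0] at hP
  · simpa using hP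
  · intro j hj hj0
    have hjr : j < r := Finset.mem_range.1 hj
    let θ : Q → Q := fun x => ⟨(x : A) * (y ^ j * (x : A)⁻¹ * (y ^ j)⁻¹),
      Q.mul_mem x.2 (hnormj j _ (Q.inv_mem x.2))⟩
    have hθinj : Function.Injective θ := by
      intro x x' hxx
      have h1 : (x : A) * (y ^ j * (x : A)⁻¹ * (y ^ j)⁻¹) =
          (x' : A) * (y ^ j * (x' : A)⁻¹ * (y ^ j)⁻¹) := congrArg Subtype.val hxx
      have e1 : (x : A) * y ^ j * (x : A)⁻¹ = (x' : A) * y ^ j * (x' : A)⁻¹ := by
        have := congrArg (fun t => t * y ^ j) h1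
        simpa [mul_assoc] using this
      have h2 : y ^ j * ((x' : A)⁻¹ * x) = ((x' : A)⁻¹ * x) * y ^ j := by
        calc y ^ j * ((x' : A)⁻¹ * x)
            = (x' : A)⁻¹ * ((x' : A) * y ^ j * (x' : A)⁻¹) * x := by group
          _ = (x' : A)⁻¹ * ((x : A) * y ^ j * (x : A)⁻¹) * x := by rw [e1]
          _ = ((x' : A)⁻¹ * x) * y ^ j := by group
      have h3 := hcent j (Nat.pos_of_ne_zero hj0) hjr _ (Q.mul_mem (Q.inv_mem x'.2) x.2) h2
      apply Subtype.ext
      have : (x : A) = x' * ((x' : A)⁻¹ * x) := by group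
      rw [this, h3, mul_one]
    have hθbij : Function.Bijective θ := Finite.injective_iff_bijective.1 hθinj
    have hrew : ∀ x : Q, φ (((x : A) * y * (x : A)⁻¹) ^ j) w = φ ((θ x : Q) : A) (φ (y ^ j) w) := by
      intro x
      rw [conj_pow]
      have : (x : A) * y ^ j * (x : A)⁻¹ = ((θ x : Q) : A) * y ^ j := by
        show (x : A) * y ^ j * (x : A)⁻¹ = (x : A) * (y ^ j * (x : A)⁻¹ * (y ^ j)⁻¹) * y ^ j
        group
      rw [this, map_mul]; rfl
    simp only [hrew]
    rw [hθbij.prod_comp (fun x' : Q => φ (x' : A) (φ (y ^ j) w))]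
    exact hf.subNorm_eq_one Q hQ _
  · intro h
    exact absurd (Finset.mem_range.2 hr) h

end Cfsg.Agent.Helper1
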