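import Mathlib
import Cfsg.Agent.Helper1.FPF2
import Cfsg.Agent.S0016

set_option autoImplicit false

namespace Cfsg.Agent.Helper1

open scoped IsMulCommutative

universe u

variable {G : Type u} [Group G]

/-- conjugation of `A ≤ N(V)` on `V` as a homomorphism into `MulAut V`. -/
def conjHom (A V : Subgroup G) (hAV : A ≤ Subgroup.normalizer (V : Set G)) : A →* MulAut V :=
  V.normalizerMonoidHom.comp (Subgroup.inclusion hAV)

theorem conjHom_coe (A V : Subgroup G) (hAV : A ≤ Subgroup.normalizer (V : Set G)) (a : A) (w : V) :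
    ((conjHom A V hAV a w : V) : G) = a * w * (a : G)⁻¹ := rfl

theorem conjHom_isFPF (A V : Subgroup G) (hAV : A ≤ Subgroup.normalizer (V : Set G))
    (hfpf : ∀ a ∈ A, a ≠ 1 → V ⊓ Subgroup.centralizer {a} = ⊥) : IsFPF (conjHom A V hAV) := by
  intro a ha w hw
  have ha' : (a : G) ≠ 1 := fun h => ha (Subtype.ext h)
  have h1 : (a : G) * w * (a : G)⁻¹ = w := by
    rw [← conjHom_coe A V hAV a w, hw]
  have h2 : (w : G) ∈ V ⊓ Subgroup.centralizer {(a : G)} := by
    refine Subgroup.mem_inf.2 ⟨w.2, ?_⟩
    rw [Subgroup.mem_centralizer_iff]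
    intro g hg
    rw [Set.mem_singleton_iff] at hg
    subst hg
    exact (mul_inv_eq_iff_eq_mul.1 h1)
  rw [hfpf a a.2 ha', Subgroup.mem_bot] at h2
  exact Subtype.ext h2

/-- if all elements of `V` are trivial then `V = ⊥`. -/
theorem eq_bot_of_forall_eq_one {V : Subgroup G} (h : ∀ w : V, w = 1) : V = ⊥ := by
  rw [eq_bot_iff]
  intro x hx
  have := h ⟨x, hx⟩
  rw [Subgroup.mem_bot]
  exact congrArg Subtype.val this

/-- No `ℤ/p × ℤ/p` in a group acting fixed-point-freely on a nontrivial abelian group. -/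
theorem fpf_no_rank_two [Finite G] (A V : Subgroup G) [IsMulCommutative V] (hV : V ≠ ⊥)
    (hAV : A ≤ Subgroup.normalizer (V : Set G))
    (hfpf : ∀ a ∈ A, a ≠ 1 → V ⊓ Subgroup.centralizer {a} = ⊥) {p : ℕ} [hp : Fact p.Prime]
    (a b : G) (ha : a ∈ A) (hb : b ∈ A) (hab : a * b = b * a) (hap : a ^ p = 1) (hbp : b ^ p = 1)
    (ha1 : a ≠ 1) (hba : b ∉ Subgroup.zpowers a) : False := by
  apply hV
  apply eq_bot_of_forall_eq_one
  intro w
  have hf := conjHom_isFPF A V hAV hfpf
  have hord : orderOf (⟨a, ha⟩ : A) = p := by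
    rw [Subgroup.orderOf_mk]
    exact orderOf_eq_prime hap ha1
  apply hf.eq_one_of_pow_eq_one (⟨a, ha⟩ : A) hord
  apply hf.pow_eq_one_of_rank_two hp.out (⟨a, ha⟩ : A) ⟨b, hb⟩
  · exact Subtype.ext hab
  · exact Subtype.ext (by simpa using hap)
  · exact Subtype.ext (by simpa using hbp)
  · intro h; exact ha1 (congrArg Subtype.val h)
  · intro i _ h
    have h' : a ^ i * b = 1 := by
      have := congrArg Subtype.val h
      simpa using this
    apply hba
    have : b = (a ^ i)⁻¹ := eq_inv_of_mul_eq_one_right h'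
    rw [this]
    exact Subgroup.inv_mem _ (Subgroup.pow_mem _ (Subgroup.mem_zpowers a) i)

/-- An abelian group acting fixed-point-freely on a nontrivial abelian group is cyclic. -/
theorem isCyclic_of_fpf_of_comm [Finite G] (A V : Subgroup G) [IsMulCommutative V] (hV : V ≠ ⊥)
    (hAV : A ≤ Subgroup.normalizer (V : Set G))
    (hfpf : ∀ a ∈ A, a ≠ 1 → V ⊓ Subgroup.centralizer {a} = ⊥) (hA : IsMulCommutative A) :
    IsCyclic A := by
  have hZ : IsZGroup A := by
    constructor
    intro p hp' P
    have hp : Fact p.Prime := ⟨hp'⟩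
    have hPc : IsMulCommutative (P : Subgroup A) := inferInstance
    apply Cfsg.Agent.S0016.comm_cyclic p (Nat.card P) (↥(P : Subgroup A)) rfl P.2
    intro K hK
    by_contra hlt
    push Not at hlt
    have hK1 : K ≠ ⊥ := by
      rintro rfl
      rw [Subgroup.card_bot] at hlt
      exact absurd hlt (not_lt.2 hp.out.one_lt.le)
    obtain ⟨a, ha1⟩ := (Subgroup.ne_bot_iff_exists_ne_one).1 hK1
    have hao : orderOf (a : (P : Subgroup A)) = p := by
      apply orderOf_eq_prime (hK a a.2)
      intro h; exact ha1 (Subtype.ext h)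
    have hex : ∃ b ∈ K, b ∉ Subgroup.zpowers (a : (P : Subgroup A)) := by
      by_contra hcon
      push Not at hcon
      have hle : K ≤ Subgroup.zpowers (a : (P : Subgroup A)) := hcon
      have := Subgroup.card_le_of_le hle
      rw [Nat.card_zpowers, hao] at this
      exact absurd hlt (not_lt.2 this)
    obtain ⟨b, hbK, hbz⟩ := hex
    -- move to `G`
    set a' : G := (((a : (P : Subgroup A)) : A) : G) with ha'
    set b' : G := ((b : A) : G) with hb'
    refine fpf_no_rank_two A V hV hAV hfpf (p := p) a' b' ((a : (P : Subgroup A)) : A).2 (b : A).2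
      ?_ ?_ ?_ ?_ ?_
    · have := mul_comm' ((a : (P : Subgroup A)) : A) (b : A)
      exact congrArg Subtype.val this
    · have := hK a a.2
      have h2 := congrArg (fun t : (P : Subgroup A) => ((t : A) : G)) this
      simpa using h2
    · have := hK b hbK
      have h2 := congrArg (fun t : (P : Subgroup A) => ((t : A) : G)) this
      simpa using h2
    · intro h
      apply ha1
      apply Subtype.ext
      apply Subtype.ext
      apply Subtype.ext
      exact h
    · intro hmem
      apply hbz
      obtain ⟨k, hk⟩ := Subgroup.mem_zpowers_iff.1 hmem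
      rw [Subgroup.mem_zpowers_iff]
      refine ⟨k, ?_⟩
      apply Subtype.ext
      apply Subtype.ext
      simpa using hk
  have hnil : Group.IsNilpotent A := inferInstance
  infer_instance

end Cfsg.Agent.Helper1
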