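import Mathlib
import Cfsg.Agent.Helper1.FPFSub

set_option autoImplicit false

namespace Cfsg.Agent.Helper1

open scoped IsMulCommutative

universe u

variable {G : Type u} [Group G]

theorem minFac_mul_of_lt {p q : ℕ} (hp : p.Prime) (hq : q.Prime) (hpq : p < q) :
    (p * q).minFac = p := by
  have hne : p * q ≠ 1 := by
    have := hp.two_le; have := hq.two_le; nlinarith
  have h1 : (p * q).minFac ∣ p * q := Nat.minFac_dvd _
  have h2 : (p * q).minFac.Prime := Nat.minFac_prime hne
  have h3 : (p * q).minFac ≤ p := Nat.minFac_le_of_dvd hp.two_le (dvd_mul_right p q)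
  rcases (Nat.Prime.dvd_mul h2).1 h1 with h | h
  · exact (Nat.prime_dvd_prime_iff_eq h2 hp).1 h
  · have := (Nat.prime_dvd_prime_iff_eq h2 hq).1 h
    omega

theorem isCyclic_of_fpf_of_card_eq_mul_lt [Finite G] (A V : Subgroup G) [IsMulCommutative V]
    (hV : V ≠ ⊥) (hAV : A ≤ Subgroup.normalizer (V : Set G))
    (hfpf : ∀ a ∈ A, a ≠ 1 → V ⊓ Subgroup.centralizer {a} = ⊥) {p q : ℕ} (hp : p.Prime)
    (hq : q.Prime) (hpq : p < q) (hcard : Nat.card A = p * q) : IsCyclic A := by
  have hpF := Fact.mk hp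
  have hqF := Fact.mk hq
  have hf := conjHom_isFPF A V hAV hfpf
  obtain ⟨Q⟩ : Nonempty (Sylow q A) := inferInstance
  have hQcard : Nat.card (Q : Subgroup A) = q := by
    rw [Sylow.card_eq_multiplicity, hcard, Nat.factorization_mul hp.ne_zero hq.ne_zero,
      hp.factorization, hq.factorization]
    simp [hpq.ne]
  have hQidx : (Q : Subgroup A).index = p := by
    have h1 := (Q : Subgroup A).card_mul_index
    rw [hQcard, hcard, mul_comm p q] at h1
    exact Nat.eq_of_mul_eq_mul_left hq.pos h1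
  have hQn : (Q : Subgroup A).Normal := by
    apply Subgroup.normal_of_index_eq_minFac_card
    rw [hQidx, hcard, minFac_mul_of_lt hp hq hpq]
  have hQne : (Q : Subgroup A) ≠ ⊥ := by
    intro h
    rw [h, Subgroup.card_bot] at hQcard
    exact hq.one_lt.ne hQcard
  obtain ⟨x₀, hx₀⟩ := exists_prime_orderOf_dvd_card' (G := (Q : Subgroup A)) q (by rw [hQcard])
  have hx₀' : orderOf (x₀ : A) = q := by rw [Subgroup.orderOf_coe]; exact hx₀
  obtain ⟨y, hy⟩ := exists_prime_orderOf_dvd_card' (G := A) p (by rw [hcard]; exact dvd_mul_right p q)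
  by_cases hc : ∀ x ∈ (Q : Subgroup A), y * x = x * y
  · have hcomm : Commute (x₀ : A) y := (hc x₀ x₀.2).symm
    have hord : orderOf ((x₀ : A) * y) = q * p := by
      rw [hcomm.orderOf_mul_eq_mul_orderOf_of_coprime, hx₀', hy]
      rw [hx₀', hy]
      exact (Nat.coprime_primes hq hp).2 hpq.ne'
    apply isCyclic_of_orderOf_eq_card ((x₀ : A) * y)
    rw [hord, hcard, mul_comm]
  · exfalso
    push Not at hc
    obtain ⟨x₁, hx₁Q, hx₁⟩ := hc
    have hy1 : y ≠ 1 := by
      intro h
      rw [h, orderOf_one] at hy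
      exact hp.one_lt.ne hy
    have hyp : y ^ p = 1 := by rw [← hy]; exact pow_orderOf_eq_one y
    have hcent : ∀ j, 0 < j → j < p → ∀ x ∈ (Q : Subgroup A), y ^ j * x = x * y ^ j → x = 1 := by
      intro j hj0 hjp x hxQ hcomm
      by_contra hx1
      have hQz : (Q : Subgroup A) ≤ Subgroup.zpowers x := by
        have hle : Subgroup.zpowers x ≤ (Q : Subgroup A) := Subgroup.zpowers_le.2 hxQ
        have hcz : Nat.card (Subgroup.zpowers x) = q := by
          have h1 : Nat.card (Subgroup.zpowers x) ∣ q := by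
            rw [← hQcard]; exact Subgroup.card_dvd_of_le hle
          rcases (Nat.dvd_prime hq).1 h1 with h | h
          · exfalso
            rw [Nat.card_zpowers, orderOf_eq_one_iff] at h
            exact hx1 h
          · exact h
        exact (Subgroup.eq_of_le_of_card_ge hle (by rw [hcz, hQcard])).ge
      have hcop : Nat.Coprime j (orderOf y) := by
        rw [hy, Nat.coprime_comm, Nat.Prime.coprime_iff_not_dvd hp]
        intro h
        exact absurd (Nat.le_of_dvd hj0 h) (not_le.2 hjp)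
      obtain ⟨m, hm⟩ := exists_pow_eq_self_of_coprime hcop
      apply hx₁
      obtain ⟨k, hk⟩ := Subgroup.mem_zpowers_iff.1 (hQz hx₁Q)
      rw [← hk, ← hm]
      have h1 : Commute (y ^ j) x := hcomm
      exact ((h1.pow_left m).zpow_right k).eq
    have hnorm : ∀ x ∈ (Q : Subgroup A), y * x * y⁻¹ ∈ (Q : Subgroup A) :=
      fun x hx => hQn.conj_mem x hx y
    have : Fintype (Q : Subgroup A) := Fintype.ofFinite _
    apply hV
    apply eq_bot_of_forall_eq_one
    intro w
    apply hf.eq_one_of_pow_eq_one (x₀ : A) hx₀'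
    have := hf.pow_card_eq_one_of_frobenius (Q : Subgroup A) hQne y p hp.pos hyp hy1 hnorm hcent w
    rwa [← Nat.card_eq_fintype_card, hQcard] at this

theorem isCyclic_of_fpf [Finite G] (A V : Subgroup G) [IsMulCommutative V]
    (hV : V ≠ ⊥) (hAV : A ≤ Subgroup.normalizer (V : Set G)) (hfpf : ∀ a ∈ A, a ≠ 1 → V ⊓ Subgroup.centralizer {a} = ⊥)
    (hA : IsMulCommutative A ∨ ∃ p q : ℕ, p.Prime ∧ q.Prime ∧ Nat.card A = p * q) : IsCyclic A := by
  rcases hA with hA | ⟨p, q, hp, hq, hcard⟩
  · exact isCyclic_of_fpf_of_comm A V hV hAV hfpf hA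
  · rcases lt_trichotomy p q with h | h | h
    · exact isCyclic_of_fpf_of_card_eq_mul_lt A V hV hAV hfpf hp hq h hcard
    · subst h
      have := Fact.mk hp
      have hcomm := IsPGroup.isMulCommutative_of_card_eq_prime_sq (G := A) (p := p) (by rw [hcard, sq])
      exact isCyclic_of_fpf_of_comm A V hV hAV hfpf hcomm
    · exact isCyclic_of_fpf_of_card_eq_mul_lt A V hV hAV hfpf hq hp h (by rw [hcard, mul_comm])

end Cfsg.Agent.Helper1
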