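import Mathlib
import Cfsg.Agent.Helper1.Basic
import Cfsg.Agent.Helper1.Coprime

set_option autoImplicit false

/-!
Subnormality via iterated commutators.
-/

namespace Cfsg.Agent.Helper1

open scoped Pointwise commutatorElement

universe u

variable {G : Type u} [Group G]

theorem le_normalizer_of_forall_conj_mem {A S : Subgroup G}
    (h : ∀ a ∈ A, ∀ x ∈ S, a * x * a⁻¹ ∈ S) : A ≤ Subgroup.normalizer (S : Set G) := by
  intro a ha
  rw [Subgroup.mem_normalizer_iff]
  intro x
  refine ⟨h a ha x, fun hx => ?_⟩
  have := h a⁻¹ (A.inv_mem ha) _ hx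
  simpa [mul_assoc] using this

/-- `A` normalizes `[A, B]`. -/
theorem le_normalizer_commutator_left (A B : Subgroup G) :
    A ≤ Subgroup.normalizer ((⁅A, B⁆ : Subgroup G) : Set G) := by
  apply le_normalizer_of_forall_conj_mem
  intro a ha x hx
  rw [Subgroup.commutator_def] at hx
  induction hx using Subgroup.closure_induction with
  | mem z hz =>
    obtain ⟨a', ha', b, hb, rfl⟩ := hz
    have e : a * ⁅a', b⁆ * a⁻¹ = ⁅a * a', b⁆ * ⁅a, b⁆⁻¹ := by
      simp only [commutatorElement_def]; group
    rw [e]
    exact Subgroup.mul_mem _ (Subgroup.commutator_mem_commutator (A.mul_mem ha ha') hb)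
      (Subgroup.inv_mem _ (Subgroup.commutator_mem_commutator ha hb))
  | one => simp
  | mul x y _ _ hx hy =>
    have e : a * (x * y) * a⁻¹ = (a * x * a⁻¹) * (a * y * a⁻¹) := by group
    rw [e]; exact Subgroup.mul_mem _ hx hy
  | inv x _ hx =>
    have e : a * x⁻¹ * a⁻¹ = (a * x * a⁻¹)⁻¹ := by group
    rw [e]; exact Subgroup.inv_mem _ hx

/-- If `h` normalizes `A` and `B`, it normalizes `[A, B]`. -/
theorem mem_normalizer_commutator {A B : Subgroup G} {h : G}
    (hA : h ∈ Subgroup.normalizer (A : Set G)) (hB : h ∈ Subgroup.normalizer (B : Set G)) :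
    h ∈ Subgroup.normalizer ((⁅A, B⁆ : Subgroup G) : Set G) := by
  apply mem_normalizer_of_conj_smul_eq
  rw [conj_smul_eq_map, Subgroup.map_commutator, ← conj_smul_eq_map, ← conj_smul_eq_map,
    conj_smul_eq_of_mem_normalizer hA, conj_smul_eq_of_mem_normalizer hB]

theorem mem_normalizer_sup {A B : Subgroup G} {h : G}
    (hA : h ∈ Subgroup.normalizer (A : Set G)) (hB : h ∈ Subgroup.normalizer (B : Set G)) :
    h ∈ Subgroup.normalizer ((A ⊔ B : Subgroup G) : Set G) := by
  apply mem_normalizer_of_conj_smul_eq
  rw [conj_smul_eq_map, Subgroup.map_sup, ← conj_smul_eq_map, ← conj_smul_eq_map,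
    conj_smul_eq_of_mem_normalizer hA, conj_smul_eq_of_mem_normalizer hB]

theorem isSubnormal_iff_iterated_commutator (H : Subgroup G) :
    H.IsSubnormal ↔ ∃ m : ℕ, (fun K : Subgroup G => ⁅K, H⁆)^[m] ⊤ ≤ H := by
  constructor
  · intro h
    induction h with
    | top => exact ⟨0, le_rfl⟩
    | step H K h_le _ hN ih =>
      obtain ⟨m, hm⟩ := ih
      refine ⟨m + 1, ?_⟩
      have hmono : ∀ i : ℕ, (fun L : Subgroup G => ⁅L, H⁆)^[i] ⊤ ≤
          (fun L : Subgroup G => ⁅L, K⁆)^[i] ⊤ := by
        intro i
        induction i with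
        | zero => exact le_rfl
        | succ i ihi =>
          rw [Function.iterate_succ_apply', Function.iterate_succ_apply']
          exact Subgroup.commutator_mono ihi h_le
      rw [Function.iterate_succ_apply']
      refine le_trans (Subgroup.commutator_mono ((hmono m).trans hm) le_rfl) ?_
      rw [Subgroup.commutator_le]
      intro k hk h hh
      have := (Subgroup.normal_subgroupOf_iff h_le).1 hN h k hh hk
      exact H.mul_mem this (H.inv_mem hh)
  · rintro ⟨m, hm⟩
    set K : ℕ → Subgroup G := fun i => (fun L : Subgroup G => ⁅L, H⁆)^[i] ⊤ with hK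
    have hKsucc : ∀ i, K (i + 1) = ⁅K i, H⁆ := fun i => Function.iterate_succ_apply' _ _ _
    have hK0 : K 0 = ⊤ := rfl
    -- `H` normalizes each `K i`
    have hHK : ∀ i, H ≤ Subgroup.normalizer ((K i : Subgroup G) : Set G) := by
      intro i
      induction i with
      | zero => rw [hK0, Subgroup.normalizer_eq_top_iff.2 inferInstance]; exact le_top
      | succ i ih =>
        intro h hh
        rw [hKsucc]
        exact mem_normalizer_commutator (ih hh) (Subgroup.le_normalizer hh)
    have hanti : ∀ i, K (i + 1) ≤ K i := by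
      intro i
      induction i with
      | zero => rw [hK0]; exact le_top
      | succ i ih =>
        calc K (i + 1 + 1) = ⁅K (i + 1), H⁆ := hKsucc _
          _ ≤ ⁅K i, H⁆ := Subgroup.commutator_mono ih le_rfl
          _ = K (i + 1) := (hKsucc i).symm
    have hsub : ∀ i, (H ⊔ K i).IsSubnormal := by
      intro i
      induction i with
      | zero => rw [hK0, sup_top_eq]; exact Subgroup.IsSubnormal.top
      | succ i ih =>
        have hle : H ⊔ K (i + 1) ≤ H ⊔ K i := sup_le_sup_left (hanti i) H
        refine Subgroup.IsSubnormal.step _ _ hle ih ?_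
        rw [Subgroup.normal_subgroupOf_iff_le_normalizer hle]
        apply sup_le
        · intro h hh
          exact mem_normalizer_sup (Subgroup.le_normalizer hh) (hHK (i + 1) hh)
        · apply le_normalizer_of_forall_conj_mem
          intro k hk x hx
          have hkN : k ∈ Subgroup.normalizer ((K (i + 1) : Subgroup G) : Set G) := by
            rw [hKsucc]; exact le_normalizer_commutator_left _ _ hk
          have h1 : MulAut.conj k • (H ⊔ K (i + 1)) ≤ H ⊔ K (i + 1) := by
            rw [conj_smul_eq_map, Subgroup.map_sup, ← conj_smul_eq_map, ← conj_smul_eq_map,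
              conj_smul_eq_of_mem_normalizer hkN]
            apply sup_le _ le_sup_right
            intro y hy
            rw [mem_conj_smul] at hy
            -- `y = k (k⁻¹ y k) k⁻¹ = [k, z] z` with `z = k⁻¹ y k ∈ H`
            have e : y = ⁅k, k⁻¹ * y * k⁆ * (k⁻¹ * y * k) := by
              simp only [commutatorElement_def]; group
            rw [e]
            refine Subgroup.mul_mem _ (Subgroup.mem_sup_right ?_) (Subgroup.mem_sup_left hy)
            rw [hKsucc]
            exact Subgroup.commutator_mem_commutator hk hy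
          exact h1 (conj_mem_conj_smul hx)
    have := hsub m
    rwa [sup_eq_left.2 hm] at this

end Cfsg.Agent.Helper1
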