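import Mathlib
import Cfsg.Agent.Helper1.FPFSub2
import Cfsg.Agent.Helper1.SylowInt
import Cfsg.Agent.Helper1.SubnormalComm
import Cfsg.Agent.Helper1.CNGroup2

set_option autoImplicit false

namespace Cfsg.Agent.Helper1

open scoped IsMulCommutative

universe u

variable {G : Type u} [Group G]

theorem le_normalizer_centralizer_of_le_normalizer {D R : Subgroup G}
    (h : D ≤ Subgroup.normalizer (R : Set G)) :
    D ≤ Subgroup.normalizer ((Subgroup.centralizer (R : Set G) : Subgroup G) : Set G) := by
  apply le_normalizer_of_forall_conj_mem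
  intro d hd c hc
  rw [Subgroup.mem_centralizer_iff] at hc ⊢
  intro r hr
  have hr' : d⁻¹ * r * d⁻¹⁻¹ ∈ R := (Subgroup.mem_normalizer_iff.1 (h (D.inv_mem hd)) r).1 hr
  have := hc _ hr'
  calc r * (d * c * d⁻¹) = d * ((d⁻¹ * r * d⁻¹⁻¹) * c) * d⁻¹ := by group
    _ = d * (c * (d⁻¹ * r * d⁻¹⁻¹)) * d⁻¹ := by rw [this]
    _ = d * c * d⁻¹ * r := by group

/-- The basic obstruction: a Frobenius complement contains no `ℤ/p × ℤ/p`. -/
theorem frobenius_complement_no_rank_two [Finite G] (K H : Subgroup G) [hKn : K.Normal]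
    (hK : K ≠ ⊥) (hfpf : ∀ h ∈ H, h ≠ 1 → K ⊓ Subgroup.centralizer {h} = ⊥) {p : ℕ}
    [hp : Fact p.Prime] (a b : G) (ha : a ∈ H) (hb : b ∈ H) (hab : a * b = b * a)
    (hap : a ^ p = 1) (hbp : b ^ p = 1) (ha1 : a ≠ 1) (hba : b ∉ Subgroup.zpowers a) : False := by
  have hHK : H ≤ Subgroup.normalizer (K : Set G) := by
    rw [Subgroup.normalizer_eq_top]; exact le_top
  have hf := conjHom_isFPF H K hHK hfpf
  have hord : orderOf (⟨a, ha⟩ : H) = p := by
    rw [Subgroup.orderOf_mk]; exact orderOf_eq_prime hap ha1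
  have hKp : (Nat.card K).Coprime p := hf.coprime_card (⟨a, ha⟩ : H) hord
  set D := Subgroup.closure ({a, b} : Set G) with hD
  have haD : a ∈ D := Subgroup.subset_closure (by simp)
  have hbD : b ∈ D := Subgroup.subset_closure (by simp)
  have hDH : D ≤ H := by
    rw [hD, Subgroup.closure_le]
    rintro x (rfl | rfl)
    · exact ha
    · exact hb
  -- `D` is a `p`-group
  have hDc : IsMulCommutative D := by
    apply Subgroup.isMulCommutative_closure
    rintro x (rfl | rfl) y (rfl | rfl)
    · rfl
    · exact hab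
    · exact hab.symm
    · rfl
  have hpow : ∀ x ∈ Subgroup.closure ({a, b} : Set G), x ^ p = 1 := by
    intro x hx
    induction hx using Subgroup.closure_induction with
    | mem x hx =>
      rcases hx with rfl | rfl
      · exact hap
      · exact hbp
    | one => exact one_pow p
    | mul x y hx hy hxp hyp =>
      have hc : Commute x y := by
        have := mul_comm' (⟨x, hx⟩ : D) ⟨y, hy⟩
        exact congrArg Subtype.val this
      rw [hc.mul_pow, hxp, hyp, one_mul]
    | inv x _ hxp => rw [inv_pow, hxp, inv_one]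
  have hDp : IsPGroup p D := by
    intro d
    refine ⟨1, ?_⟩
    rw [pow_one]
    apply Subtype.ext
    rw [Subgroup.coe_pow, Subgroup.coe_one]
    exact hpow d.1 d.2
  obtain ⟨k, hk⟩ := IsPGroup.iff_card.1 hDp
  have hcop : (Nat.card D).Coprime (Nat.card K) := by
    rw [hk]; exact Nat.Coprime.pow_left _ hKp.symm
  have hDK : D ≤ Subgroup.normalizer (K : Set G) := hDH.trans hHK
  have hDsolv : Group.IsSolvable D := Group.isSolvable_of_comm (fun x y => mul_comm' x y)
  -- a prime dividing `|K|`
  have hK1 : Nat.card K ≠ 1 := fun h => hK (Subgroup.card_eq_one.1 h)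
  obtain ⟨r, hr, hrK⟩ := Nat.exists_prime_and_dvd hK1
  have hrF := Fact.mk hr
  obtain ⟨R, hR⟩ := exists_invariant_sylow (p := r) D K hDK hcop (Or.inl hDsolv)
  set R' := (R : Subgroup K).map K.subtype with hR'
  have hR'K : R' ≤ K := Subgroup.map_subtype_le _
  have hR'p : IsPGroup r R' := R.2.map _
  have hR'ne : R' ≠ ⊥ := by
    intro h
    have h1 : (R : Subgroup K) ≠ ⊥ := R.ne_bot_of_dvd_card hrK
    apply h1
    rw [eq_bot_iff]
    intro x hx
    have : (x : G) ∈ R' := Subgroup.mem_map_of_mem _ hx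
    rw [h, Subgroup.mem_bot] at this
    rw [Subgroup.mem_bot]
    exact Subtype.ext this
  set Z := R' ⊓ Subgroup.centralizer (R' : Set G) with hZ
  have hZc : IsMulCommutative Z := by
    constructor; constructor
    rintro ⟨x, hx⟩ ⟨y, hy⟩
    apply Subtype.ext
    exact (Subgroup.mem_centralizer_iff.1 (Subgroup.mem_inf.1 hy).2 x (Subgroup.mem_inf.1 hx).1)
  obtain ⟨z, hzR, hz1, hzc⟩ := exists_central_ne_one hR'p.isNilpotent hR'ne
  have hZne : Z ≠ ⊥ := by
    intro h
    have : z ∈ Z := by
      refine Subgroup.mem_inf.2 ⟨hzR, ?_⟩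
      rw [Subgroup.mem_centralizer_iff]
      intro y hy
      exact (hzc y hy).symm
    rw [h, Subgroup.mem_bot] at this
    exact hz1 this
  have hDZ : D ≤ Subgroup.normalizer (Z : Set G) :=
    le_normalizer_inf hR (le_normalizer_centralizer_of_le_normalizer hR)
  have hfpfZ : ∀ d ∈ D, d ≠ 1 → Z ⊓ Subgroup.centralizer {d} = ⊥ := by
    intro d hd hd1
    rw [eq_bot_iff, ← hfpf d (hDH hd) hd1]
    exact inf_le_inf_right _ (inf_le_left.trans hR'K)
  exact fpf_no_rank_two D Z hZne hDZ hfpfZ a b haD hbD hab hap hbp ha1 hba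

/-- Sylow subgroups of a Frobenius complement are cyclic or generalized quaternion. -/
theorem frobenius_complement_sylow [Finite G] (K H : Subgroup G) [K.Normal]
    (hK : K ≠ ⊥) (hfpf : ∀ h ∈ H, h ≠ 1 → K ⊓ Subgroup.centralizer {h} = ⊥)
    (p : ℕ) [hp : Fact p.Prime] (P : Sylow p H) :
    IsCyclic P ∨ ∃ n : ℕ, Nonempty (P ≃* QuaternionGroup (2 ^ n)) := by
  have key : ∀ (z a : ↥(P : Subgroup H)), z ∈ Subgroup.center ↥(P : Subgroup H) → orderOf z = p →
      a ^ p = 1 → a ∈ Subgroup.zpowers z := by
    intro z a hz hzo hap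
    by_contra hna
    refine frobenius_complement_no_rank_two K H hK hfpf (p := p) ((z : H) : G) ((a : H) : G)
      (z : H).2 (a : H).2 ?_ ?_ ?_ ?_ ?_
    · have h1 : z * a = a * z := (Subgroup.mem_center_iff.1 hz a).symm
      have h2 := congrArg (fun t : ↥(P : Subgroup H) => ((t : H) : G)) h1
      simpa using h2
    · have h1 : z ^ p = 1 := by
        have := pow_orderOf_eq_one z
        rwa [hzo] at this
      have h2 := congrArg (fun t : ↥(P : Subgroup H) => ((t : H) : G)) h1
      simpa using h2
    · have h2 := congrArg (fun t : ↥(P : Subgroup H) => ((t : H) : G)) hap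
      simpa using h2
    · intro h
      have hz1 : z = 1 := by
        apply Subtype.ext
        apply Subtype.ext
        exact h
      rw [hz1, orderOf_one] at hzo
      exact hp.out.one_lt.ne hzo
    · intro hmem
      apply hna
      obtain ⟨k, hk⟩ := Subgroup.mem_zpowers_iff.1 hmem
      rw [Subgroup.mem_zpowers_iff]
      refine ⟨k, ?_⟩
      apply Subtype.ext
      apply Subtype.ext
      simpa using hk
  have huniq : ∀ A B : Subgroup ↥(P : Subgroup H), Nat.card A = p → Nat.card B = p → A = B := by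
    intro A B hA hB
    have hnt : Nontrivial ↥(P : Subgroup H) := by
      by_contra hnt
      rw [not_nontrivial_iff_subsingleton] at hnt
      have : Nat.card A = 1 := Nat.card_unique
      rw [hA] at this
      exact hp.out.one_lt.ne' this
    have hcn : Nontrivial (Subgroup.center ↥(P : Subgroup H)) := P.2.center_nontrivial
    have hcp : IsPGroup p (Subgroup.center ↥(P : Subgroup H)) := P.2.to_subgroup _
    obtain ⟨k, hk⟩ := IsPGroup.iff_card.1 hcp
    have hk0 : k ≠ 0 := by
      rintro rfl
      rw [pow_zero] at hk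
      have := (Finite.one_lt_card_iff_nontrivial (α := Subgroup.center ↥(P : Subgroup H))).2 hcn
      omega
    have hdvd : p ∣ Nat.card (Subgroup.center ↥(P : Subgroup H)) := by
      rw [hk]; exact dvd_pow_self p hk0
    obtain ⟨z, hz⟩ := exists_prime_orderOf_dvd_card' p hdvd
    have hzo : orderOf (z : ↥(P : Subgroup H)) = p := by
      rw [Subgroup.orderOf_coe]; exact hz
    have hall : ∀ C : Subgroup ↥(P : Subgroup H), Nat.card C = p →
        C = Subgroup.zpowers (z : ↥(P : Subgroup H)) := by
      intro C hC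
      apply Subgroup.eq_of_le_of_card_ge
      · intro c hc
        apply key _ c z.2 hzo
        have h1 : (⟨c, hc⟩ : C) ^ p = 1 := by
          have := pow_card_eq_one' (G := C) (x := ⟨c, hc⟩)
          rwa [hC] at this
        have h2 := congrArg Subtype.val h1
        rw [Subgroup.coe_pow, Subgroup.coe_one] at h2
        exact h2
      · rw [Nat.card_zpowers, hzo, hC]
    rw [hall A hA, hall B hB]
  rcases Cfsg.Agent.S0016.result p P.2 huniq with h | ⟨_, h⟩
  · exact Or.inl h
  · exact Or.inr h

end Cfsg.Agent.Helper1
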