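import Mathlib

set_option autoImplicit false

/-!
Frobenius complements of even order: the involution inverts the kernel.
-/

namespace Cfsg.Agent.Helper1

universe u

variable {G : Type u} [Group G]

theorem involution_inverts_of_fpf [Finite G] (K : Subgroup G) [hKn : K.Normal] (s : G)
    (hs2 : orderOf s = 2) (hfpf : K ⊓ Subgroup.centralizer {s} = ⊥) :
    ∀ k ∈ K, s * k * s⁻¹ = k⁻¹ := by
  have hss : s * s = 1 := by
    have := pow_orderOf_eq_one s
    rwa [hs2, sq] at this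
  have hsinv : s⁻¹ = s := inv_eq_of_mul_eq_one_left hss
  let φ : K → K := fun k => ⟨(k : G)⁻¹ * (s * k * s⁻¹),
    K.mul_mem (K.inv_mem k.2) (hKn.conj_mem _ k.2 s)⟩
  have hinj : Function.Injective φ := by
    intro a b hab
    have h1 : (a : G)⁻¹ * (s * a * s⁻¹) = (b : G)⁻¹ * (s * b * s⁻¹) := congrArg Subtype.val hab
    have h2 : (b : G) * (a : G)⁻¹ ∈ K ⊓ Subgroup.centralizer {s} := by
      refine Subgroup.mem_inf.2 ⟨K.mul_mem b.2 (K.inv_mem a.2), ?_⟩
      rw [Subgroup.mem_centralizer_singleton_iff]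
      have h3 : s * a * s⁻¹ = (a : G) * (b : G)⁻¹ * (s * b * s⁻¹) := by
        rw [mul_assoc (a : G), ← h1]; group
      have h4 : s * ((b : G) * (a : G)⁻¹) * s⁻¹ = (b : G) * (a : G)⁻¹ := by
        have : s * ((b : G) * (a : G)⁻¹) * s⁻¹ = (s * b * s⁻¹) * (s * a * s⁻¹)⁻¹ := by group
        rw [this, h3]; group
      calc (b : G) * (a : G)⁻¹ * s = (s * ((b : G) * (a : G)⁻¹) * s⁻¹) * s := by rw [h4]
        _ = s * ((b : G) * (a : G)⁻¹) := by group
    rw [hfpf, Subgroup.mem_bot] at h2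
    apply Subtype.ext
    have : (b : G) = (b : G) * (a : G)⁻¹ * a := by group
    rw [this, h2, one_mul]
  have hsurj : Function.Surjective φ := Finite.surjective_of_injective hinj
  intro k hk
  obtain ⟨k0, hk0⟩ := hsurj ⟨k, hk⟩
  have h1 : (k0 : G)⁻¹ * (s * k0 * s⁻¹) = k := congrArg Subtype.val hk0
  rw [← h1]
  have e1 : s * ((k0 : G)⁻¹ * (s * k0 * s⁻¹)) * s⁻¹ = s * (k0 : G)⁻¹ * s * k0 * (s * s)⁻¹ := by
    group
  have e2 : ((k0 : G)⁻¹ * (s * k0 * s⁻¹))⁻¹ = s * (k0 : G)⁻¹ * s⁻¹ * k0 := by group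
  rw [e1, e2, hss, inv_one, mul_one, hsinv]

theorem frobenius_even_complement [Finite G] (K H : Subgroup G) [hKn : K.Normal]
    (hK : K ≠ ⊥) (hfpf : ∀ h ∈ H, h ≠ 1 → K ⊓ Subgroup.centralizer {h} = ⊥)
    (heven : 2 ∣ Nat.card H) :
    (∃ s ∈ H, orderOf s = 2 ∧ (∀ t ∈ H, orderOf t = 2 → t = s) ∧
      ∀ k ∈ K, s * k * s⁻¹ = k⁻¹) ∧ IsMulCommutative K := by
  have := Fact.mk Nat.prime_two
  obtain ⟨s0, hs0⟩ := exists_prime_orderOf_dvd_card' 2 heven
  have hs2 : orderOf (s0 : G) = 2 := by rw [Subgroup.orderOf_coe]; exact hs0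
  have hne1 : ∀ t : G, orderOf t = 2 → t ≠ 1 := by
    rintro t ht rfl
    rw [orderOf_one] at ht
    omega
  have hinv : ∀ t ∈ H, orderOf t = 2 → ∀ k ∈ K, t * k * t⁻¹ = k⁻¹ := fun t htH ht =>
    involution_inverts_of_fpf K t ht (hfpf t htH (hne1 t ht))
  have hsinv := hinv s0 s0.2 hs2
  refine ⟨⟨s0, s0.2, hs2, ?_, hsinv⟩, ?_⟩
  · intro t htH ht
    have htinv := hinv t htH ht
    by_contra hts
    have h1 : (s0 : G) * t⁻¹ ≠ 1 := by
      intro h
      apply hts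
      have : t = ((s0 : G) * t⁻¹)⁻¹ * s0 := by group
      rw [this, h]; group
    have h2 := hfpf _ (H.mul_mem s0.2 (H.inv_mem htH)) h1
    apply hK
    rw [eq_bot_iff, ← h2]
    refine le_inf le_rfl ?_
    intro k hk
    rw [Subgroup.mem_centralizer_singleton_iff]
    have h3 : t⁻¹ * k * t = k⁻¹ := by
      have := htinv k⁻¹ (K.inv_mem hk)
      rw [inv_inv] at this
      have e : t⁻¹ * k * t = t⁻¹ * (t * k⁻¹ * t⁻¹) * t := by rw [this]
      rw [e]; group
    have h4 : (s0 : G) * k⁻¹ * (s0 : G)⁻¹ = k := by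
      have := hsinv k⁻¹ (K.inv_mem hk)
      rwa [inv_inv] at this
    calc k * ((s0 : G) * t⁻¹) = k * ((s0 : G) * t⁻¹) := rfl
      _ = ((s0 : G) * k⁻¹ * (s0 : G)⁻¹) * ((s0 : G) * t⁻¹) := by rw [h4]
      _ = (s0 : G) * (t⁻¹ * k * t) * t⁻¹ := by rw [h3]; group
      _ = (s0 : G) * t⁻¹ * k := by group
  · constructor
    constructor
    intro a b
    apply Subtype.ext
    have ha := hsinv a a.2
    have hb := hsinv b b.2
    have hab := hsinv (a * b) (K.mul_mem a.2 b.2)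
    have e : (s0 : G) * ((a : G) * b) * (s0 : G)⁻¹ =
        ((s0 : G) * a * (s0 : G)⁻¹) * ((s0 : G) * b * (s0 : G)⁻¹) := by group
    rw [e, ha, hb] at hab
    have h5 := congrArg Inv.inv hab
    rw [mul_inv_rev, inv_inv, inv_inv, inv_inv] at h5
    exact h5.symm

end Cfsg.Agent.Helper1
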