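import Mathlib
import Cfsg.Agent.Helper1.FrobComplSylow
import Cfsg.Agent.Helper1.FrobEven
import Cfsg.Agent.Helper1.AbelianAct
import Cfsg.Agent.Helper6.BurnsidePQ
import Cfsg.Agent.Helper6.FaithfulIrr

set_option autoImplicit false

/-!
A Frobenius complement has nontrivial centre.
-/

namespace Cfsg.Agent.Helper1

open scoped IsMulCommutative commutatorElement

universe u

variable {G : Type u} [Group G]

/-- a solvable group acting coprimely on a nontrivial normal subgroup `K` normalizes a nontrivial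
abelian subgroup of `K`. -/
theorem exists_abelian_invariant [Finite G] (K : Subgroup G) [hKn : K.Normal] (hK : K ≠ ⊥)
    (D : Subgroup G) (hDsolv : Group.IsSolvable D) (hcop : (Nat.card D).Coprime (Nat.card K)) :
    ∃ Z : Subgroup G, Z ≤ K ∧ IsMulCommutative Z ∧ Z ≠ ⊥ ∧
      D ≤ Subgroup.normalizer (Z : Set G) := by
  have hDK : D ≤ Subgroup.normalizer (K : Set G) := by
    rw [Subgroup.normalizer_eq_top]; exact le_top
  have hK1 : Nat.card K ≠ 1 := fun h => hK (Subgroup.card_eq_one.1 h)
  obtain ⟨r, hr, hrK⟩ := Nat.exists_prime_and_dvd hK1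
  have hrF := Fact.mk hr
  obtain ⟨R, hR⟩ := exists_invariant_sylow (p := r) D K hDK hcop (Or.inl hDsolv)
  set R' := (R : Subgroup K).map K.subtype with hR'
  have hR'K : R' ≤ K := Subgroup.map_subtype_le _
  have hR'p : IsPGroup r R' := R.2.map _
  have hR'ne : R' ≠ ⊥ := by
    intro h
    have h1 : (R : Subgroup K) ≠ ⊥ := R.ne_bot_of_dvd_card hrK
    apply h1
    rw [eq_bot_iff]
    intro x hx
    have : (x : G) ∈ R' := Subgroup.mem_map_of_mem _ hx
    rw [h, Subgroup.mem_bot] at this
    rw [Subgroup.mem_bot]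
    exact Subtype.ext this
  set Z := R' ⊓ Subgroup.centralizer (R' : Set G) with hZ
  have hZc : IsMulCommutative Z := by
    constructor; constructor
    rintro ⟨x, hx⟩ ⟨y, hy⟩
    apply Subtype.ext
    exact (Subgroup.mem_centralizer_iff.1 (Subgroup.mem_inf.1 hy).2 x (Subgroup.mem_inf.1 hx).1)
  obtain ⟨z, hzR, hz1, hzc⟩ := exists_central_ne_one hR'p.isNilpotent hR'ne
  have hZne : Z ≠ ⊥ := by
    intro h
    have : z ∈ Z := by
      refine Subgroup.mem_inf.2 ⟨hzR, ?_⟩
      rw [Subgroup.mem_centralizer_iff]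
      intro y hy
      exact (hzc y hy).symm
    rw [h, Subgroup.mem_bot] at this
    exact hz1 this
  have hDZ : D ≤ Subgroup.normalizer (Z : Set G) :=
    le_normalizer_inf hR (le_normalizer_centralizer_of_le_normalizer hR)
  exact ⟨Z, inf_le_left.trans hR'K, hZc, hZne, hDZ⟩

/-- subgroups of order `qr` of a Frobenius complement are cyclic. -/
theorem frobenius_complement_isCyclic_of_card [Finite G] (K H : Subgroup G) [hKn : K.Normal]
    (hK : K ≠ ⊥) (hfpf : ∀ h ∈ H, h ≠ 1 → K ⊓ Subgroup.centralizer {h} = ⊥)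
    (A : Subgroup G) (hAH : A ≤ H) {q r : ℕ} (hq : q.Prime) (hr : r.Prime)
    (hcard : Nat.card A = q * r) : IsCyclic A := by
  have hHK : H ≤ Subgroup.normalizer (K : Set G) := by
    rw [Subgroup.normalizer_eq_top]; exact le_top
  have hf := conjHom_isFPF H K hHK hfpf
  have hqF := Fact.mk hq
  have hrF := Fact.mk hr
  have hcopq : (Nat.card K).Coprime q := by
    obtain ⟨a, ha⟩ := exists_prime_orderOf_dvd_card' (G := A) q (by rw [hcard]; exact dvd_mul_right q r)
    have hord : orderOf (⟨(a : G), hAH a.2⟩ : H) = q := by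
      rw [Subgroup.orderOf_mk, Subgroup.orderOf_coe]; exact ha
    exact hf.coprime_card _ hord
  have hcopr : (Nat.card K).Coprime r := by
    obtain ⟨a, ha⟩ := exists_prime_orderOf_dvd_card' (G := A) r (by rw [hcard]; exact dvd_mul_left r q)
    have hord : orderOf (⟨(a : G), hAH a.2⟩ : H) = r := by
      rw [Subgroup.orderOf_mk, Subgroup.orderOf_coe]; exact ha
    exact hf.coprime_card _ hord
  have hcop : (Nat.card A).Coprime (Nat.card K) := by
    rw [hcard]
    exact Nat.Coprime.mul_left hcopq.symm hcopr.symm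
  have hAsolv : Group.IsSolvable A :=
    Cfsg.Agent.Helper6.burnside_pq q r 1 1 hq hr (by rw [hcard, pow_one, pow_one])
  obtain ⟨Z, hZK, hZc, hZne, hAZ⟩ := exists_abelian_invariant K hK A hAsolv hcop
  have hfpfZ : ∀ d ∈ A, d ≠ 1 → Z ⊓ Subgroup.centralizer {d} = ⊥ := by
    intro d hd hd1
    rw [eq_bot_iff, ← hfpf d (hAH hd) hd1]
    exact inf_le_inf_right _ hZK
  exact isCyclic_of_fpf A Z hZne hAZ hfpfZ (Or.inr ⟨q, r, hq, hr, hcard⟩)

/-- In a Frobenius complement, an element of prime order normalizing a subgroup of prime order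
centralizes it. -/
theorem frobenius_complement_commute_of_normalizes [Finite G] (K H : Subgroup G) [hKn : K.Normal]
    (hK : K ≠ ⊥) (hfpf : ∀ h ∈ H, h ≠ 1 → K ⊓ Subgroup.centralizer {h} = ⊥)
    (x b : G) (hx : x ∈ H) (hb : b ∈ H) (hxo : (orderOf x).Prime) (hbo : (orderOf b).Prime)
    (hn : b * x * b⁻¹ ∈ Subgroup.zpowers x) : x * b = b * x := by
  by_cases hbx : b ∈ Subgroup.zpowers x
  · obtain ⟨k, rfl⟩ := Subgroup.mem_zpowers_iff.1 hbx
    exact ((Commute.refl x).zpow_right k).eq
  set X := Subgroup.zpowers x with hX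
  set B := Subgroup.zpowers b with hB
  have hBX : B ≤ Subgroup.normalizer (X : Set G) := by
    rw [hB, Subgroup.zpowers_le]
    rw [Subgroup.mem_normalizer_iff]
    -- conjugation by `b` maps `X` into itself, hence onto itself by finiteness
    have hle : ∀ y ∈ X, b * y * b⁻¹ ∈ X := by
      intro y hy
      obtain ⟨k, rfl⟩ := Subgroup.mem_zpowers_iff.1 hy
      have : b * x ^ k * b⁻¹ = (b * x * b⁻¹) ^ k := by rw [conj_zpow]
      rw [this]
      exact X.zpow_mem hn k
    have hpow : ∀ n : ℕ, ∀ y ∈ X, b ^ n * y * (b ^ n)⁻¹ ∈ X := by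
      intro n
      induction n with
      | zero => intro y hy; simpa using hy
      | succ n ih =>
        intro y hy
        have h1 := hle _ (ih y hy)
        have h2 : b ^ (n + 1) * y * (b ^ (n + 1))⁻¹ = b * (b ^ n * y * (b ^ n)⁻¹) * b⁻¹ := by
          rw [pow_succ']; group
        rw [h2]; exact h1
    intro h
    constructor
    · exact hle h
    · intro hh
      have hinv : b ^ (orderOf b - 1) = b⁻¹ := by
        apply eq_inv_of_mul_eq_one_left
        rw [← pow_succ, Nat.sub_add_cancel hbo.pos]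
        exact pow_orderOf_eq_one b
      have h1 := hpow (orderOf b - 1) _ hh
      rw [hinv, inv_inv] at h1
      have h2 : b⁻¹ * (b * h * b⁻¹) * b = h := by group
      rw [h2] at h1
      exact h1
  have hdisj : B ⊓ X = ⊥ := by
    have hBp : (Nat.card B).Prime := by rw [hB, Nat.card_zpowers]; exact hbo
    have hdvd : Nat.card (B ⊓ X : Subgroup G) ∣ Nat.card B := Subgroup.card_dvd_of_le inf_le_left
    rcases (Nat.dvd_prime hBp).1 hdvd with h1 | h1
    · exact Subgroup.card_eq_one.1 h1
    · exfalso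
      apply hbx
      have : B ⊓ X = B := Subgroup.eq_of_le_of_card_ge inf_le_left h1.ge
      have hbB : b ∈ B := Subgroup.mem_zpowers b
      rw [← this] at hbB
      exact hbB.2
  have hcard : Nat.card (X ⊔ B : Subgroup G) = orderOf b * orderOf x := by
    rw [card_sup_of_le_normalizer hBX hdisj, hB, hX, Nat.card_zpowers, Nat.card_zpowers]
  have hAH : X ⊔ B ≤ H := by
    apply sup_le
    · rw [hX, Subgroup.zpowers_le]; exact hx
    · rw [hB, Subgroup.zpowers_le]; exact hb
  have hcyc := frobenius_complement_isCyclic_of_card K H hK hfpf (X ⊔ B) hAH hbo hxo hcard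
  have hxA : x ∈ X ⊔ B := (le_sup_left : X ≤ X ⊔ B) (Subgroup.mem_zpowers x)
  have hbA : b ∈ X ⊔ B := (le_sup_right : B ≤ X ⊔ B) (Subgroup.mem_zpowers b)
  have hcomm := hcyc.commGroup.mul_comm (⟨x, hxA⟩ : (X ⊔ B : Subgroup G)) ⟨b, hbA⟩
  exact congrArg Subtype.val hcomm

/-- A nontrivial finite `Z`-group in which elements of prime order normalizing a subgroup of prime
order centralize it has nontrivial centre. -/
theorem center_ne_bot_of_isZGroup {Hh : Type u} [Group Hh] [Finite Hh] [Nontrivial Hh]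
    [IsZGroup Hh]
    (hyp : ∀ x b : Hh, (orderOf x).Prime → (orderOf b).Prime →
      b * x * b⁻¹ ∈ Subgroup.zpowers x → x * b = b * x) :
    Subgroup.center Hh ≠ ⊥ := by
  set D := commutator Hh with hD
  have hDn : D.Normal := inferInstance
  have hDcyc : IsCyclic D := IsZGroup.isCyclic_commutator Hh
  have hcop : (Nat.card D).Coprime D.index := IsZGroup.coprime_commutator_index Hh
  obtain ⟨B, hB⟩ := Subgroup.exists_right_complement'_of_coprime hcop
  have hBcard : Nat.card B = D.index := hB.symm.index_eq_card.symm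
  have hBne : B ≠ ⊥ := by
    intro h
    have : D = ⊤ := by
      have := hB.sup_eq_top; rwa [h, sup_bot_eq] at this
    exact (IsZGroup.commutator_lt (G := Hh)).ne this
  have hBcomm : ∀ x ∈ B, ∀ y ∈ B, x * y = y * x := by
    intro x hx y hy
    have h1 : ⁅x, y⁆ ∈ D := by
      rw [hD, commutator_def]
      exact Subgroup.commutator_mem_commutator (Subgroup.mem_top x) (Subgroup.mem_top y)
    have h2 : ⁅x, y⁆ ∈ B := B.mul_mem (B.mul_mem (B.mul_mem hx hy) (B.inv_mem hx)) (B.inv_mem hy)
    have h3 : ⁅x, y⁆ ∈ D ⊓ B := ⟨h1, h2⟩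
    rw [hB.disjoint.eq_bot, Subgroup.mem_bot] at h3
    exact commutatorElement_eq_one_iff_mul_comm.1 h3
  have hB1 : Nat.card B ≠ 1 := fun h => hBne (Subgroup.card_eq_one.1 h)
  obtain ⟨r, hr, hrB⟩ := Nat.exists_prime_and_dvd hB1
  have hrF := Fact.mk hr
  obtain ⟨b, hb⟩ := exists_prime_orderOf_dvd_card' r hrB
  have hbo : orderOf (b : Hh) = r := by rw [Subgroup.orderOf_coe]; exact hb
  set A := Subgroup.zpowers (b : Hh) with hA
  have hAD : A ≤ Subgroup.normalizer (D : Set Hh) := by
    rw [Subgroup.normalizer_eq_top]; exact le_top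
  have hDc : IsMulCommutative D := by
    constructor; constructor
    intro x y
    exact hDcyc.commGroup.mul_comm x y
  have hcopAD : (Nat.card A).Coprime (Nat.card D) := by
    rw [hA, Nat.card_zpowers, hbo]
    exact Nat.Coprime.coprime_dvd_left (hBcard ▸ hrB) hcop.symm
  have hcomm0 : ⁅D, A⁆ = ⊥ := by
    by_contra hne
    have hne1 : Nat.card (⁅D, A⁆ : Subgroup Hh) ≠ 1 := fun h => hne (Subgroup.card_eq_one.1 h)
    obtain ⟨q, hq, hqd⟩ := Nat.exists_prime_and_dvd hne1
    have hqF := Fact.mk hq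
    obtain ⟨x, hx⟩ := exists_prime_orderOf_dvd_card' q hqd
    have hxo : orderOf (x : Hh) = q := by rw [Subgroup.orderOf_coe]; exact hx
    have hxD : (x : Hh) ∈ D := Subgroup.commutator_le_left D A x.2
    have hconj : (b : Hh) * x * (b : Hh)⁻¹ ∈ Subgroup.zpowers (x : Hh) := by
      have hcD : (b : Hh) * x * (b : Hh)⁻¹ ∈ D := hDn.conj_mem _ hxD _
      let Z : Subgroup D := (Subgroup.zpowers (x : Hh)).subgroupOf D
      have hZcard : Nat.card Z = q := by
        rw [card_subgroupOf_of_le (by rw [Subgroup.zpowers_le]; exact hxD), Nat.card_zpowers, hxo]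
      have hmem := Cfsg.Agent.Helper6.mem_of_pow_eq_one_of_card_eq Z q hq.pos hZcard ⟨_, hcD⟩ (by
        apply Subtype.ext
        rw [Subgroup.coe_pow, Subgroup.coe_one]
        show ((b : Hh) * x * (b : Hh)⁻¹) ^ q = 1
        rw [conj_pow, ← hxo, pow_orderOf_eq_one, mul_one, mul_inv_cancel])
      exact Subgroup.mem_subgroupOf.1 hmem
    have hxb := hyp x b (hxo ▸ hq) (hbo ▸ hr) hconj
    have hxC : (x : Hh) ∈ (D ⊓ Subgroup.centralizer (A : Set Hh)) ⊓ ⁅D, A⁆ := by
      refine ⟨⟨hxD, ?_⟩, x.2⟩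
      show (x : Hh) ∈ Subgroup.centralizer (A : Set Hh)
      rw [Subgroup.mem_centralizer_iff]
      intro a ha
      obtain ⟨k, rfl⟩ := Subgroup.mem_zpowers_iff.1 ha
      have hc : Commute (b : Hh) (x : Hh) := hxb.symm
      exact (hc.zpow_left k).eq
    rw [centralizer_inf_commutator_eq_bot A D hAD hcopAD, Subgroup.mem_bot] at hxC
    rw [hxC, orderOf_one] at hxo
    exact hq.one_lt.ne hxo
  have hbD : ∀ d ∈ D, d * (b : Hh) = (b : Hh) * d := by
    intro d hd
    have h1 : ⁅d, (b : Hh)⁆ ∈ ⁅D, A⁆ :=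
      Subgroup.commutator_mem_commutator hd (Subgroup.mem_zpowers _)
    rw [hcomm0, Subgroup.mem_bot] at h1
    exact commutatorElement_eq_one_iff_mul_comm.1 h1
  intro hbot
  have hbc : (b : Hh) ∈ Subgroup.center Hh := by
    rw [Subgroup.mem_center_iff]
    intro h
    have hh : h ∈ D ⊔ B := by rw [hB.sup_eq_top]; exact Subgroup.mem_top h
    obtain ⟨d, hd, b', hb', rfl⟩ := mem_sup_of_le_normalizer
      (show B ≤ Subgroup.normalizer (D : Set Hh) by rw [Subgroup.normalizer_eq_top]; exact le_top) hh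
    have h1 := hbD d hd
    have h2 := hBcomm b' hb' b b.2
    calc d * b' * (b : Hh) = d * ((b : Hh) * b') := by rw [mul_assoc, h2]
      _ = (d * (b : Hh)) * b' := by rw [mul_assoc]
      _ = (b : Hh) * (d * b') := by rw [h1, mul_assoc]
  rw [hbot, Subgroup.mem_bot] at hbc
  rw [hbc, orderOf_one] at hbo
  exact hr.one_lt.ne hbo

/-- A Frobenius complement has nontrivial centre. -/
theorem frobenius_complement_center_ne_bot [Finite G] (K H : Subgroup G) [K.Normal]
    (hK : K ≠ ⊥) (hH : H ≠ ⊥) (hfpf : ∀ h ∈ H, h ≠ 1 → K ⊓ Subgroup.centralizer {h} = ⊥) :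
    Subgroup.center H ≠ ⊥ := by
  by_cases heven : 2 ∣ Nat.card H
  · obtain ⟨⟨s, hsH, hs2, huniq, -⟩, -⟩ := frobenius_even_complement K H hK hfpf heven
    intro hbot
    have hsc : (⟨s, hsH⟩ : H) ∈ Subgroup.center H := by
      rw [Subgroup.mem_center_iff]
      intro g
      have h1 : orderOf ((g : G) * s * (g : G)⁻¹) = 2 := by
        have := (MulAut.conj (g : G)).orderOf_eq s
        rw [MulAut.conj_apply] at this
        rw [this, hs2]
      have h2 := huniq _ (H.mul_mem (H.mul_mem g.2 hsH) (H.inv_mem g.2)) h1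
      apply Subtype.ext
      show (g : G) * s = s * g
      exact mul_inv_eq_iff_eq_mul.1 h2
    rw [hbot, Subgroup.mem_bot] at hsc
    have : s = 1 := congrArg Subtype.val hsc
    rw [this, orderOf_one] at hs2
    norm_num at hs2
  · have hnt : Nontrivial H := (Subgroup.nontrivial_iff_ne_bot H).2 hH
    have hZ : IsZGroup H := by
      constructor
      intro p hp P
      have := Fact.mk hp
      rcases frobenius_complement_sylow K H hK hfpf p P with h | ⟨n, ⟨e⟩⟩
      · exact h
      · exfalso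
        apply heven
        have hne : NeZero (2 ^ n) := ⟨pow_ne_zero _ (by norm_num)⟩
        have h1 : Nat.card (P : Subgroup H) = 4 * 2 ^ n := by
          rw [Nat.card_congr e.toEquiv, Nat.card_eq_fintype_card, QuaternionGroup.card]
        have h2 : 2 ∣ Nat.card (P : Subgroup H) := by rw [h1]; exact ⟨2 * 2 ^ n, by ring⟩
        exact dvd_trans h2 (Subgroup.card_subgroup_dvd_card _)
    apply center_ne_bot_of_isZGroup
    intro x b hxo hbo hn
    apply Subtype.ext
    refine frobenius_complement_commute_of_normalizes K H hK hfpf (x : G) (b : G) x.2 b.2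
      (by rwa [Subgroup.orderOf_coe]) (by rwa [Subgroup.orderOf_coe]) ?_
    obtain ⟨k, hk⟩ := Subgroup.mem_zpowers_iff.1 hn
    rw [Subgroup.mem_zpowers_iff]
    refine ⟨k, ?_⟩
    have := congrArg Subtype.val hk
    simpa using this

end Cfsg.Agent.Helper1
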