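import Mathlib
import Cfsg.Prelude.Def_OddOrderLocal
import Cfsg.Agent.Helper1.Basic
import Cfsg.Agent.Helper1.Coprime
import Cfsg.Agent.Helper1.Fitting

set_option autoImplicit false

namespace Cfsg.Agent.Helper1

open Cfsg
open scoped commutatorElement

universe u

variable {G : Type u} [Group G]

theorem IsComplIn_card_mul [Finite G] {A B M : Subgroup G} (h : IsComplIn A B M) :
    Nat.card A * Nat.card B = Nat.card M := by
  obtain ⟨hA, hB, hdisj, hmul⟩ := h
  let f : A × B → M := fun x => ⟨x.1 * x.2, M.mul_mem (hA x.1.2) (hB x.2.2)⟩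
  have hinj : Function.Injective f := by
    rintro ⟨a, b⟩ ⟨a', b'⟩ hab
    have h1 : (a : G) * b = a' * b' := congrArg Subtype.val hab
    have h2 : (a' : G)⁻¹ * a = b' * (b : G)⁻¹ := by
      have : (a : G) = a' * b' * (b : G)⁻¹ := by rw [← h1]; group
      rw [this]; group
    have h3 : (a' : G)⁻¹ * a ∈ A ⊓ B := by
      refine Subgroup.mem_inf.2 ⟨A.mul_mem (A.inv_mem a'.2) a.2, ?_⟩
      rw [h2]; exact B.mul_mem b'.2 (B.inv_mem b.2)
    rw [hdisj, Subgroup.mem_bot] at h3
    have h4 : (a : G) = a' := by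
      have := congrArg (fun z => (a' : G) * z) h3
      simpa using this
    have h5 : (b : G) = b' := by
      rw [h4] at h1
      exact mul_left_cancel h1
    exact Prod.ext (Subtype.ext h4) (Subtype.ext h5)
  have hsurj : Function.Surjective f := by
    rintro ⟨m, hm⟩
    obtain ⟨a, ha, b, hb, rfl⟩ := hmul m hm
    exact ⟨(⟨a, ha⟩, ⟨b, hb⟩), rfl⟩
  rw [← Nat.card_prod]
  exact Nat.card_congr (Equiv.ofBijective f ⟨hinj, hsurj⟩)

theorem fittingHall_coprime (M : Type u) [Group M] [Finite M] :
    (Nat.card (fittingHall M)).Coprime (fittingHall M).index := by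
  apply Nat.Coprime.symm
  apply Nat.coprime_of_dvd
  intro p hp hpi hpc
  by_cases hex : ∃ N : Subgroup M, (N.Normal ∧ Group.IsNilpotent N ∧ (Nat.card N).Coprime N.index) ∧
      p ∣ Nat.card N
  · obtain ⟨N, hN, hpN⟩ := hex
    have hle : N ≤ fittingHall M := le_sSup hN
    have h1 : p ∣ N.index := hpi.trans (Subgroup.index_dvd_of_le hle)
    have := Nat.eq_one_of_dvd_coprimes hN.2.2 hpN h1
    exact hp.one_lt.ne' this
  · push Not at hex
    have hcop : (Nat.card (fittingHall M)).Coprime p := by
      apply sSup_normal_coprime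
      intro N hN
      refine ⟨hN.1, ?_⟩
      exact ((Nat.Prime.coprime_iff_not_dvd hp).2 (hex N hN)).symm
    exact hp.one_lt.ne' (Nat.eq_one_of_dvd_coprimes hcop hpc dvd_rfl)

theorem card_fittingHallOf (M : Subgroup G) :
    Nat.card (fittingHallOf M) = Nat.card (fittingHall M) :=
  Subgroup.card_map_of_injective M.subtype_injective

theorem fittingHallOf_le (M : Subgroup G) : fittingHallOf M ≤ M := Subgroup.map_subtype_le _

theorem relIndex_fittingHallOf (M : Subgroup G) :
    (fittingHallOf M).relIndex M = (fittingHall M).index := by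
  rw [Subgroup.relIndex, fittingHallOf]
  congr 1
  exact Subgroup.comap_map_eq_self_of_injective M.subtype_injective _

theorem commutator_self_le (M : Subgroup G) : ⁅M, M⁆ ≤ M := by
  rw [Subgroup.commutator_le]
  intro a ha b hb
  exact M.mul_mem (M.mul_mem (M.mul_mem ha hb) (M.inv_mem ha)) (M.inv_mem hb)

section typeP

variable [Finite G] {M W₁ U W₂ : Subgroup G}

theorem typeP_card (hP : IsTypePWith M W₁ U W₂) :
    Nat.card (fittingHallOf M) * Nat.card U * Nat.card W₁ = Nat.card M := by
  rw [IsComplIn_card_mul hP.U_compl, IsComplIn_card_mul hP.W₁_compl]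

theorem typeP_coprime_H_U (hP : IsTypePWith M W₁ U W₂) :
    (Nat.card (fittingHallOf M)).Coprime (Nat.card U) := by
  have h1 : (Nat.card (fittingHallOf M)).Coprime ((fittingHallOf M).relIndex M) := by
    rw [card_fittingHallOf, relIndex_fittingHallOf]
    exact fittingHall_coprime M
  have h2 := relIndex_mul_card_of_le (fittingHallOf_le M)
  have h3 := typeP_card hP
  have hpos : 0 < Nat.card (fittingHallOf M) := Nat.card_pos
  have h4 : (fittingHallOf M).relIndex M = Nat.card U * Nat.card W₁ := by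
    have : (fittingHallOf M).relIndex M * Nat.card (fittingHallOf M) =
        (Nat.card U * Nat.card W₁) * Nat.card (fittingHallOf M) := by
      rw [h2, ← h3]; ring
    exact Nat.eq_of_mul_eq_mul_right hpos this
  rw [h4] at h1
  exact Nat.Coprime.coprime_mul_right_right h1

theorem typeP_coprime_U_W₁ (hP : IsTypePWith M W₁ U W₂) :
    (Nat.card U).Coprime (Nat.card W₁) := by
  have h1 := hP.W₁_hall
  have h2 := relIndex_mul_card_of_le hP.W₁_compl.2.1
  have h3 := typeP_card hP
  have hpos : 0 < Nat.card W₁ := Nat.card_pos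
  have h4 : W₁.relIndex M = Nat.card (fittingHallOf M) * Nat.card U := by
    have : W₁.relIndex M * Nat.card W₁ =
        (Nat.card (fittingHallOf M) * Nat.card U) * Nat.card W₁ := by
      rw [h2, ← h3]
    exact Nat.eq_of_mul_eq_mul_right hpos this
  rw [h4] at h1
  exact (Nat.Coprime.coprime_mul_left_right h1).symm

theorem typeP_fitting_eq (hP : IsTypePWith M W₁ U W₂) :
    Cfsg.fittingOf M = Cfsg.fittingHallOf M ⊔ (U ⊓ Subgroup.centralizer (Cfsg.fittingHallOf M : Set G)) := by
  set H := fittingHallOf M with hH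
  have hM'M : ⁅M, M⁆ ≤ M := commutator_self_le M
  have hUM : U ≤ M := hP.U_compl.2.1.trans hM'M
  rw [← hP.fitting_eq]
  apply le_antisymm
  · apply sup_le le_sup_left
    intro c hc
    have hcC : c ∈ Subgroup.centralizer (H : Set G) := (Subgroup.mem_inf.1 hc).2
    have hcF : c ∈ ⁅M, M⁆ := hP.fitting_le (hP.fitting_eq ▸ (le_sup_right : _ ≤ H ⊔ _) hc)
    obtain ⟨h, hh, u, hu, hcu⟩ := hP.U_compl.2.2.2 c hcF
    have hch : h * c = c * h := Subgroup.mem_centralizer_iff.1 hcC h hh
    have hhu : Commute h u := by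
      have : u = h⁻¹ * c := by rw [hcu]; group
      rw [this]
      show h * (h⁻¹ * c) = h⁻¹ * c * h
      rw [mul_assoc, ← hch]; group
    have hpow : ∀ n : ℕ, c ^ n = h ^ n * u ^ n := fun n => by rw [hcu, hhu.mul_pow]
    set a := Nat.card H with ha
    set b := Nat.card U with hb
    have hcop : a.Coprime b := typeP_coprime_H_U hP
    have hca : c ^ a ∈ U ⊓ Subgroup.centralizer (H : Set G) := by
      refine Subgroup.mem_inf.2 ⟨?_, Subgroup.pow_mem _ hcC a⟩
      rw [hpow a]
      have : h ^ a = 1 := by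
        have h0 : (⟨h, hh⟩ : H) ^ Nat.card H = 1 := pow_card_eq_one'
        have h1 := congrArg Subtype.val h0
        rw [Subgroup.coe_pow, Subgroup.coe_one] at h1
        exact h1
      rw [this, one_mul]
      exact U.pow_mem hu a
    have hcb : c ^ b ∈ H := by
      rw [hpow b]
      have : u ^ b = 1 := by
        have h0 : (⟨u, hu⟩ : U) ^ Nat.card U = 1 := pow_card_eq_one'
        have h1 := congrArg Subtype.val h0
        rw [Subgroup.coe_pow, Subgroup.coe_one] at h1
        exact h1
      rw [this, mul_one]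
      exact H.pow_mem hh b
    have hgcd : (1 : ℤ) = a * Nat.gcdA a b + b * Nat.gcdB a b := by
      have := Nat.gcd_eq_gcd_ab a b
      rw [hcop.gcd_eq_one] at this
      exact_mod_cast this
    have hc1 : c = (c ^ b) ^ (Nat.gcdB a b) * (c ^ a) ^ (Nat.gcdA a b) := by
      rw [← zpow_natCast, ← zpow_natCast, ← zpow_mul, ← zpow_mul, ← zpow_add, add_comm, ← hgcd,
        zpow_one]
    rw [hc1]
    exact Subgroup.mul_mem _ ((le_sup_left : H ≤ _) (H.zpow_mem hcb _))
      ((le_sup_right : _ ≤ H ⊔ _) (Subgroup.zpow_mem _ hca _))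
  · exact sup_le_sup_left (inf_le_inf_right _ hUM) _

theorem typeP_derived_U (hP : IsTypePWith M W₁ U W₂) :
    ⁅U, U⁆ ≤ Subgroup.centralizer (Cfsg.fittingHallOf M : Set G) ∧ (U ≠ ⊥ → ¬ U ≤ Subgroup.centralizer (Cfsg.fittingHallOf M : Set G)) := by
  set H := fittingHallOf M with hH
  have hM'M : ⁅M, M⁆ ≤ M := commutator_self_le M
  have hUM' : U ≤ ⁅M, M⁆ := hP.U_compl.2.1
  have hUM : U ≤ M := hUM'.trans hM'M
  have hdisj : H ⊓ U = ⊥ := hP.U_compl.2.2.1
  constructor
  · intro x hx
    have hxU : x ∈ U := commutator_self_le U hx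
    have h1 : x ∈ H ⊔ (U ⊓ Subgroup.centralizer (H : Set G)) := by
      rw [← typeP_fitting_eq hP, ← hP.fitting_eq]
      exact hP.derived_two_le (Subgroup.commutator_mono hUM' hUM' hx)
    have hnorm : U ⊓ Subgroup.centralizer (H : Set G) ≤ Subgroup.normalizer (H : Set G) :=
      inf_le_right.trans (Subgroup.centralizer_le_normalizer _)
    obtain ⟨h, hh, y, hy, rfl⟩ := mem_sup_of_le_normalizer hnorm h1
    have hyU := (Subgroup.mem_inf.1 hy).1
    have hhU : h ∈ U := by
      have : h = (h * y) * y⁻¹ := by group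
      rw [this]; exact U.mul_mem hxU (U.inv_mem hyU)
    have h1' : h ∈ H ⊓ U := Subgroup.mem_inf.2 ⟨hh, hhU⟩
    rw [hdisj, Subgroup.mem_bot] at h1'
    rw [h1', one_mul]
    exact (Subgroup.mem_inf.1 hy).2
  · intro hne hUC
    apply hne
    have hHU : H ≤ Subgroup.centralizer (U : Set G) := by
      intro h hh
      rw [Subgroup.mem_centralizer_iff]
      intro u hu
      exact (Subgroup.mem_centralizer_iff.1 (hUC hu) h hh).symm
    have hnormU : M ≤ Subgroup.normalizer (U : Set G) := by
      intro m hm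
      obtain ⟨a, ha, w, hw, rfl⟩ := hP.W₁_compl.2.2.2 m hm
      obtain ⟨h, hh, u, hu, rfl⟩ := hP.U_compl.2.2.2 a ha
      refine Subgroup.mul_mem _ (Subgroup.mul_mem _ ?_ ?_) (hP.U_normal hw)
      · exact Subgroup.centralizer_le_normalizer _ (hHU hh)
      · exact Subgroup.le_normalizer hu
    set U' := U.subgroupOf M with hU'
    have hU'n : U'.Normal := (Subgroup.normal_subgroupOf_iff_le_normalizer hUM).2 hnormU
    have hU'nil : Group.IsNilpotent U' := by
      have := hP.U_nilpotent
      exact Group.nilpotent_of_mulEquiv (Subgroup.subgroupOfEquivOfLe hUM).symm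
    have hcard : Nat.card U' = Nat.card U := card_subgroupOf_of_le hUM
    have hidx : U'.index = Nat.card H * Nat.card W₁ := by
      have h2 := relIndex_mul_card_of_le hUM
      have h3 := typeP_card hP
      have hpos : 0 < Nat.card U := Nat.card_pos
      have : U.relIndex M * Nat.card U = (Nat.card H * Nat.card W₁) * Nat.card U := by
        rw [h2, ← h3]; ring
      exact Nat.eq_of_mul_eq_mul_right hpos this
    have hcop : (Nat.card U').Coprime U'.index := by
      rw [hcard, hidx]
      exact Nat.Coprime.mul_right (typeP_coprime_H_U hP).symm (typeP_coprime_U_W₁ hP)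
    have hle : U' ≤ fittingHall M := le_sSup ⟨hU'n, hU'nil, hcop⟩
    have hUH : U ≤ H := by
      intro u hu
      exact ⟨⟨u, hUM hu⟩, hle (Subgroup.mem_subgroupOf.2 hu), rfl⟩
    rw [← hdisj]
    exact le_antisymm (le_inf hUH le_rfl) inf_le_right

end typeP

end Cfsg.Agent.Helper1
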