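import Mathlib
import Cfsg.Prelude.Def_LieExceptional
import Cfsg.Prelude.Def_OddOrderLocal
import Cfsg.Agent.Helper1.CNGroup
import Cfsg.Agent.Helper1.CNGroup2
import Cfsg.Agent.Helper1.TypeP
import Cfsg.Agent.Helper1.Fitting
import Cfsg.Agent.Helper1.FrobComplCenter

set_option autoImplicit false

/-!
CN-groups with a nontrivial normal Sylow subgroup are Frobenius groups with kernel the largest
normal nilpotent Hall subgroup.
-/

namespace Cfsg.Agent.Helper1

namespace CNFrob

open Cfsg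
open scoped Pointwise

universe u

variable {G : Type u} [Group G]

theorem nilp_of_le {A B : Subgroup G} (hAB : A ≤ B) (hB : Group.IsNilpotent B) :
    Group.IsNilpotent A :=
  Group.nilpotent_of_mulEquiv (Subgroup.subgroupOfEquivOfLe hAB)

theorem fittingHall_isNilpotent [Finite G] : Group.IsNilpotent (fittingHall G) := by
  apply nilp_of_le (B := Cfsg.fittingSubgroup G) _ fittingSubgroup_isNilpotent
  apply sSup_le_sSup
  intro N hN
  exact ⟨hN.1, hN.2.1⟩

theorem sylow_le_fittingHall [Finite G] {p : ℕ} [Fact p.Prime] (P : Sylow p G)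
    (hP : (P : Subgroup G).Normal) : (P : Subgroup G) ≤ fittingHall G :=
  le_sSup ⟨hP, P.2.isNilpotent, P.card_coprime_index⟩

/-- A Sylow subgroup contained in a nilpotent normal subgroup is normal. -/
theorem sylow_normal_of_le_nilpotent_normal [Finite G] {s : ℕ} [Fact s.Prime] (S : Sylow s G)
    (C : Subgroup G) [C.Normal] (hC : Group.IsNilpotent C) (hSC : (S : Subgroup G) ≤ C) :
    (S : Subgroup G).Normal := by
  have hsylall := ((Group.isNilpotent_of_finite_tfae (G := C)).out 0 3).1 hC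
  have hsyl := hsylall s inferInstance (S.subtype hSC)
  haveI hchar : ((S.subtype hSC : Sylow s C) : Subgroup C).Characteristic :=
    Sylow.characteristic_of_normal _ hsyl
  have h4 : (((S.subtype hSC : Sylow s C) : Subgroup C).map C.subtype).Normal := inferInstance
  have h5 : ((S.subtype hSC : Sylow s C) : Subgroup C).map C.subtype = S := by
    rw [Sylow.coe_subtype, Subgroup.subgroupOf_map_subtype, inf_eq_left.2 hSC]
  rw [h5] at h4
  exact h4

theorem cn_frobenius [Finite G] (hCN : Cfsg.IsCNGroup G) (hnn : ¬ Group.IsNilpotent G) (p : ℕ)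
    [Fact p.Prime] (P : Sylow p G) (hP1 : (P : Subgroup G) ≠ ⊥) (hPn : (P : Subgroup G).Normal) :
    Cfsg.fittingHall G ≠ ⊥ ∧ Cfsg.fittingHall G ≠ ⊤ ∧
      (∃ E : Subgroup G, Subgroup.IsComplement' (Cfsg.fittingHall G) E ∧
        Cfsg.IsFrobeniusComplement E ∧
        ∀ e ∈ E, e ≠ 1 → Cfsg.fittingHall G ⊓ Subgroup.centralizer ({e} : Set G) = ⊥) ∧
      Group.IsNilpotent (G ⧸ Cfsg.fittingHall G) := by
  obtain ⟨H, hHdef⟩ : ∃ H, H = Cfsg.fittingHall G := ⟨_, rfl⟩
  have hHn : H.Normal := hHdef ▸ inferInstance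
  have hHnil : Group.IsNilpotent H := hHdef ▸ fittingHall_isNilpotent
  have hPH : (P : Subgroup G) ≤ H := hHdef ▸ sylow_le_fittingHall P hPn
  have hH1 : H ≠ ⊥ := fun h => hP1 (le_bot_iff.1 (h ▸ hPH))
  have hHtop : H ≠ ⊤ := by
    intro h
    apply hnn
    rw [h] at hHnil
    exact Group.nilpotent_of_mulEquiv (Subgroup.topEquiv : (⊤ : Subgroup G) ≃* G)
  have hHcop : (Nat.card H).Coprime H.index := hHdef ▸ fittingHall_coprime G
  obtain ⟨E, hE⟩ := Subgroup.exists_right_complement'_of_coprime hHcop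
  have hdisj : H ⊓ E = ⊥ := disjoint_iff.1 (Subgroup.IsComplement'.disjoint hE)
  have hsup : H ⊔ E = ⊤ := Subgroup.IsComplement'.sup_eq_top hE
  have hcardE : H.index = Nat.card E :=
    Subgroup.IsComplement'.index_eq_card (Subgroup.IsComplement'.symm hE)
  have hcopHE : (Nat.card H).Coprime (Nat.card E) := hcardE ▸ hHcop
  have hcop : ∀ y ∈ H, ∀ e ∈ E, (orderOf y).Coprime (orderOf e) := by
    intro y hy e he
    exact Nat.Coprime.coprime_dvd_left (Subgroup.orderOf_dvd_natCard H hy)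
      (Nat.Coprime.coprime_dvd_right (Subgroup.orderOf_dvd_natCard E he) hcopHE)
  have hmemC : ∀ {a b : G}, a * b = b * a → a ∈ Subgroup.centralizer ({b} : Set G) := by
    intro a b hab
    rw [Subgroup.mem_centralizer_iff]
    intro g hg
    rw [Set.mem_singleton_iff] at hg
    subst hg
    exact hab.symm
  -- the action is fixed-point-free
  have hfpf : ∀ e ∈ E, e ≠ 1 → H ⊓ Subgroup.centralizer ({e} : Set G) = ⊥ := by
    intro e he he1
    by_contra hne
    obtain ⟨x, hx1⟩ := (Subgroup.ne_bot_iff_exists_ne_one).1 hne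
    obtain ⟨x, hxmem⟩ := x
    have hx1' : x ≠ 1 := fun h => hx1 (Subtype.ext h)
    obtain ⟨hxH, hxe⟩ := Subgroup.mem_inf.1 hxmem
    have hxe' : e * x = x * e := Subgroup.mem_centralizer_iff.1 hxe e rfl
    -- (a) `e` centralizes `H`
    obtain ⟨z, hzH, hz1, hzc⟩ := exists_central_ne_one hHnil hH1
    have hze : z * e = e * z :=
      commute_of_coprime_orderOf_of_mem (hCN x hx1') (hmemC (hzc x hxH)) (hmemC hxe')
        (hcop z hzH e he)
    have heH : ∀ y ∈ H, y * e = e * y := by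
      intro y hy
      exact commute_of_coprime_orderOf_of_mem (hCN z hz1) (hmemC (hzc y hy).symm) (hmemC hze.symm)
        (hcop y hy e he)
    -- (a') an element of prime order
    have hoe : orderOf e ≠ 1 := fun h => he1 (orderOf_eq_one_iff.1 h)
    obtain ⟨s, hs, hse⟩ := Nat.exists_prime_and_dvd hoe
    haveI : Fact s.Prime := ⟨hs⟩
    obtain ⟨e', he'def⟩ : ∃ e', e' = e ^ (orderOf e / s) := ⟨_, rfl⟩
    have he'o : orderOf e' = s := by
      rw [he'def]
      exact orderOf_pow_orderOf_div (orderOf_pos e).ne' hse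
    have he'E : e' ∈ E := he'def ▸ E.pow_mem he _
    have he'1 : e' ≠ 1 := by
      intro h
      rw [h, orderOf_one] at he'o
      exact hs.one_lt.ne he'o
    have he'H : ∀ y ∈ H, y * e' = e' * y := by
      intro y hy
      rw [he'def]
      exact ((Commute.pow_right (heH y hy) _) : Commute y (e ^ (orderOf e / s))).eq
    -- `s` does not divide `|H|`
    have hsH : ∀ y ∈ H, ∀ t : G, ∀ k : ℕ, orderOf t = s ^ k → (orderOf y).Coprime (orderOf t) := by
      intro y hy t k hk
      rw [hk]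
      apply Nat.Coprime.pow_right
      have := hcop y hy e' he'E
      rwa [he'o] at this
    -- (b) a Sylow `s`-subgroup containing `e'`
    have hzp : IsPGroup s (Subgroup.zpowers e') := by
      apply IsPGroup.of_card (n := 1)
      rw [Nat.card_zpowers, he'o, pow_one]
    obtain ⟨S, hS⟩ := hzp.exists_le_sylow
    have he'S : e' ∈ (S : Subgroup G) := hS (Subgroup.mem_zpowers e')
    have hS1 : (S : Subgroup G) ≠ ⊥ := fun h => he'1 ((Subgroup.mem_bot).1 (h ▸ he'S))
    obtain ⟨z', hz'S, hz'1, hz'c⟩ := exists_central_ne_one S.2.isNilpotent hS1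
    have hordS : ∀ t ∈ (S : Subgroup G), ∃ k, orderOf t = s ^ k := fun t ht =>
      exists_orderOf_eq_pow_of_mem_isPGroup S.2 ht
    obtain ⟨k', hk'⟩ := hordS z' hz'S
    have hz'H : ∀ y ∈ H, y * z' = z' * y := by
      intro y hy
      exact commute_of_coprime_orderOf_of_mem (hCN e' he'1) (hmemC (he'H y hy))
        (hmemC (hz'c e' he'S)) (hsH y hy z' k' hk')
    have hSH : ∀ t ∈ (S : Subgroup G), ∀ y ∈ H, y * t = t * y := by
      intro t ht y hy
      obtain ⟨k, hk⟩ := hordS t ht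
      exact commute_of_coprime_orderOf_of_mem (hCN z' hz'1) (hmemC (hz'H y hy))
        (hmemC (hz'c t ht).symm) (hsH y hy t k hk)
    have hSC : (S : Subgroup G) ≤ Subgroup.centralizer (H : Set G) := by
      intro t ht
      rw [Subgroup.mem_centralizer_iff]
      intro y hy
      exact hSH t ht y hy
    haveI := hHn
    have hCnil : Group.IsNilpotent (Subgroup.centralizer (H : Set G)) := by
      apply nilp_of_le _ (hCN z hz1)
      apply Subgroup.centralizer_le
      intro w hw
      rw [Set.mem_singleton_iff] at hw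
      rw [hw]
      exact hzH
    have hSn := sylow_normal_of_le_nilpotent_normal S _ hCnil hSC
    have hSle : (S : Subgroup G) ≤ H := hHdef ▸ sylow_le_fittingHall S hSn
    have : e' ∈ H ⊓ E := ⟨hSle he'S, he'E⟩
    rw [hdisj, Subgroup.mem_bot] at this
    exact he'1 this
  have hE1 : E ≠ ⊥ := by
    intro h
    rw [h, sup_bot_eq] at hsup
    exact hHtop hsup
  have hEtop : E ≠ ⊤ := by
    intro h
    rw [h, inf_top_eq] at hdisj
    exact hH1 hdisj
  have hfrob : Cfsg.IsFrobeniusComplement E := by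
    refine ⟨hE1, hEtop, ?_⟩
    intro g hg
    rw [eq_bot_iff]
    intro y hy
    rw [Subgroup.mem_bot]
    by_contra hy1
    obtain ⟨hyE, hyg⟩ := Subgroup.mem_inf.1 hy
    rw [mem_conj_smul] at hyg
    have hgtop : g ∈ H ⊔ E := hsup ▸ Subgroup.mem_top g
    haveI := hHn
    rw [Subgroup.mem_sup_of_normal_left] at hgtop
    obtain ⟨h, hh, e₀, he₀, rfl⟩ := hgtop
    have hy' : h⁻¹ * y * h ∈ E := by
      have := E.mul_mem (E.mul_mem he₀ hyg) (E.inv_mem he₀)
      have e : e₀ * ((h * e₀)⁻¹ * y * (h * e₀)) * e₀⁻¹ = h⁻¹ * y * h := by group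
      rwa [e] at this
    have h1 : y⁻¹ * (h⁻¹ * y * h) ∈ H ⊓ E := by
      refine ⟨?_, E.mul_mem (E.inv_mem hyE) hy'⟩
      have h2 : y⁻¹ * h⁻¹ * y⁻¹⁻¹ ∈ H := hHn.conj_mem _ (H.inv_mem hh) y⁻¹
      have e : y⁻¹ * (h⁻¹ * y * h) = (y⁻¹ * h⁻¹ * y⁻¹⁻¹) * h := by group
      rw [e]
      exact H.mul_mem h2 hh
    rw [hdisj, Subgroup.mem_bot] at h1
    have h3 : y * h = h * y := by
      have : h⁻¹ * y * h = y := by
        calc h⁻¹ * y * h = y * (y⁻¹ * (h⁻¹ * y * h)) := by group
          _ = y := by rw [h1, mul_one]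
      calc y * h = h * (h⁻¹ * y * h) := by group
        _ = h * y := by rw [this]
    have h4 : h ∈ H ⊓ Subgroup.centralizer ({y} : Set G) := ⟨hh, hmemC h3.symm⟩
    rw [hfpf y hyE hy1, Subgroup.mem_bot] at h4
    apply hg
    rw [h4, one_mul]
    exact he₀
  -- `E` is nilpotent
  have hEnil : Group.IsNilpotent E := by
    haveI := hHn
    have hZ := frobenius_complement_center_ne_bot H E hH1 hE1 hfpf
    obtain ⟨z₀, hz₀1⟩ := (Subgroup.ne_bot_iff_exists_ne_one).1 hZ
    obtain ⟨z₀, hz₀c⟩ := z₀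
    have hz₀1' : (z₀ : G) ≠ 1 := fun h => hz₀1 (Subtype.ext (Subtype.ext h))
    apply nilp_of_le _ (hCN (z₀ : G) hz₀1')
    intro y hy
    apply hmemC
    have := Subgroup.mem_center_iff.1 hz₀c ⟨y, hy⟩
    exact congrArg Subtype.val this
  subst hHdef
  refine ⟨hH1, hHtop, ⟨E, hE, hfrob, hfpf⟩, ?_⟩
  haveI := hHn
  haveI := hEnil
  apply Group.nilpotent_of_surjective ((QuotientGroup.mk' (Cfsg.fittingHall G)).comp E.subtype)
  intro q
  obtain ⟨g, rfl⟩ := QuotientGroup.mk'_surjective (Cfsg.fittingHall G) q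
  have hgtop : g ∈ Cfsg.fittingHall G ⊔ E := hsup ▸ Subgroup.mem_top g
  rw [Subgroup.mem_sup_of_normal_left] at hgtop
  obtain ⟨h, hh, e₀, he₀, rfl⟩ := hgtop
  refine ⟨⟨e₀, he₀⟩, ?_⟩
  show QuotientGroup.mk' _ e₀ = QuotientGroup.mk' _ (h * e₀)
  rw [map_mul, QuotientGroup.mk'_apply, QuotientGroup.mk'_apply, (QuotientGroup.eq_one_iff h).2 hh, one_mul]

end CNFrob

end Cfsg.Agent.Helper1
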