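import Mathlib
import Cfsg.Agent.Helper1.Basic
import Cfsg.Agent.Helper1.SZ
import Cfsg.Agent.Helper1.Coprime
import Cfsg.Agent.Helper1.SylowInt

set_option autoImplicit false

/-!
Hall's theorems for finite solvable groups.
-/

namespace Cfsg.Agent.Helper1

open scoped Pointwise commutatorElement

universe u

section lemmas

variable {G : Type u} [Group G]

theorem card_map_mk'_mul_card (N A : Subgroup G) [N.Normal] (hNA : N ≤ A) :
    Nat.card (A.map (QuotientGroup.mk' N)) * Nat.card N = Nat.card A := by
  rw [← Subgroup.relIndex_ker, QuotientGroup.ker_mk']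
  exact relIndex_mul_card_of_le hNA

theorem card_comap_mk' (N : Subgroup G) [N.Normal] (H : Subgroup (G ⧸ N)) :
    Nat.card (H.comap (QuotientGroup.mk' N)) = Nat.card H * Nat.card N := by
  have h1 : N ≤ H.comap (QuotientGroup.mk' N) := by
    intro x hx
    rw [Subgroup.mem_comap, QuotientGroup.mk'_apply, (QuotientGroup.eq_one_iff x).2 hx]
    exact H.one_mem
  rw [← card_map_mk'_mul_card N _ h1,
    Subgroup.map_comap_eq_self_of_surjective (QuotientGroup.mk'_surjective N)]

theorem conj_smul_mono {H K : Subgroup G} (h : H ≤ K) (g : G) :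
    MulAut.conj g • H ≤ MulAut.conj g • K := by
  intro x hx
  rw [mem_conj_smul] at hx ⊢
  exact h hx

theorem conj_smul_normal (N : Subgroup G) [hN : N.Normal] (g : G) : MulAut.conj g • N = N :=
  conj_smul_eq_of_mem_normalizer (by rw [Subgroup.normalizer_eq_top]; exact Subgroup.mem_top g)

end lemmas

/-- Hall's conjugacy and dominance properties, for all coprime factorizations of `|G|`. -/
def HallProp (G : Type u) [Group G] : Prop :=
  ∀ m n : ℕ, Nat.card G = m * n → m.Coprime n →
    (∀ H K : Subgroup G, Nat.card H = m → Nat.card K = m → ∃ g : G, MulAut.conj g • H = K) ∧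
    (∀ K : Subgroup G, (Nat.card K).Coprime n → ∃ H : Subgroup G, Nat.card H = m ∧ K ≤ H)

/-- transfer of the Hall property of a subgroup (as a group) to internal statements. -/
theorem HallProp.internal {G : Type u} [Group G] {A : Subgroup G} (hA : HallProp A) (m n : ℕ)
    (hcard : Nat.card A = m * n) (hmn : m.Coprime n) :
    (∀ H K : Subgroup G, H ≤ A → K ≤ A → Nat.card H = m → Nat.card K = m →
      ∃ g ∈ A, MulAut.conj g • H = K) ∧
    (∀ K : Subgroup G, K ≤ A → (Nat.card K).Coprime n →
      ∃ H : Subgroup G, H ≤ A ∧ Nat.card H = m ∧ K ≤ H) := by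
  obtain ⟨hC, hD⟩ := hA m n hcard hmn
  constructor
  · intro H K hHA hKA hH hK
    obtain ⟨a, ha⟩ := hC (H.subgroupOf A) (K.subgroupOf A)
      (by rw [card_subgroupOf_of_le hHA, hH]) (by rw [card_subgroupOf_of_le hKA, hK])
    exact ⟨a, a.2, conj_smul_eq_of_subgroupOf hHA hKA a ha⟩
  · intro K hKA hK
    obtain ⟨H', hH', hKH'⟩ := hD (K.subgroupOf A) (by rw [card_subgroupOf_of_le hKA]; exact hK)
    refine ⟨H'.map A.subtype, Subgroup.map_subtype_le _, by rw [card_map_subtype, hH'], ?_⟩
    rw [← Subgroup.map_subgroupOf_eq_of_le hKA]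
    exact Subgroup.map_mono hKH'

theorem hallProp_of_solvable : ∀ (k : ℕ) (G : Type u) [Group G] [Finite G] [Group.IsSolvable G],
    Nat.card G = k → HallProp G := by
  intro k
  induction k using Nat.strong_induction_on with
  | _ k ih =>
  intro G _ _ _ hk m n hmn hcop
  rcases subsingleton_or_nontrivial G with hs | hnt
  · -- trivial group
    have h1 : Nat.card G = 1 := Nat.card_eq_one_iff_unique.2 ⟨hs, ⟨1⟩⟩
    have hm1 : m = 1 := by
      rw [h1] at hmn
      exact Nat.eq_one_of_mul_eq_one_right hmn.symm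
    constructor
    · intro H K _ _
      refine ⟨1, ?_⟩
      rw [Subgroup.eq_bot_of_subsingleton H, Subgroup.eq_bot_of_subsingleton K, map_one, one_smul]
    · intro K _
      refine ⟨K, ?_, le_rfl⟩
      rw [hm1, Subgroup.card_eq_one]
      exact Subgroup.eq_bot_of_subsingleton K
  obtain ⟨p, hp, N, hNn, hNne, hNp, -, -⟩ := exists_normal_pgroup_of_solvable G
  have hcardG : Nat.card G = Nat.card (G ⧸ N) * Nat.card N :=
    Subgroup.card_eq_card_quotient_mul_card_subgroup N
  have hN1 : 1 < Nat.card N := (Subgroup.one_lt_card_iff_ne_bot N).2 hNne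
  have hNpos : 0 < Nat.card N := Nat.card_pos
  have hQpos : 0 < Nat.card (G ⧸ N) := Nat.card_pos
  have hQlt : Nat.card (G ⧸ N) < k := by
    rw [← hk, hcardG]
    exact lt_mul_of_one_lt_right hQpos hN1
  have hQsolv : Group.IsSolvable (G ⧸ N) :=
    Group.isSolvable_of_surjective (QuotientGroup.mk'_surjective N)
  have hNsolv : Group.IsSolvable N := Group.isSolvable_of_isSolvable_injective N.subtype_injective
  obtain ⟨e, he⟩ := IsPGroup.iff_card.1 hNp
  have hdvd : Nat.card N ∣ m * n := hmn ▸ Subgroup.card_subgroup_dvd_card N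
  have hmpos : 0 < m := by
    rcases Nat.eq_zero_or_pos m with h | h
    · rw [h, zero_mul] at hmn
      exact absurd hmn Nat.card_pos.ne'
    · exact h
  have hnpos : 0 < n := by
    rcases Nat.eq_zero_or_pos n with h | h
    · rw [h, mul_zero] at hmn
      exact absurd hmn Nat.card_pos.ne'
    · exact h
  have hcases : Nat.card N ∣ m ∨ Nat.card N ∣ n := by
    rw [he] at hdvd ⊢
    by_cases hpm : p ∣ m
    · left
      have h1 : (p ^ e).Coprime n := Nat.Coprime.pow_left e (hcop.coprime_dvd_left hpm)
      exact h1.dvd_of_dvd_mul_right hdvd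
    · right
      have h1 : (p ^ e).Coprime m :=
        Nat.Coprime.pow_left e ((Nat.Prime.coprime_iff_not_dvd hp.out).2 hpm)
      exact h1.dvd_of_dvd_mul_left hdvd
  rcases hcases with hA | hB
  · -- Case A: |N| divides m
    obtain ⟨m', hm'⟩ := hA
    have hm'pos : 0 < m' := by
      rcases Nat.eq_zero_or_pos m' with h | h
      · rw [h, mul_zero] at hm'
        omega
      · exact h
    have hcardQ : Nat.card (G ⧸ N) = m' * n := by
      apply Nat.eq_of_mul_eq_mul_right hNpos
      rw [← hcardG, hmn, hm']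
      ring
    have hcop' : m'.Coprime n := hcop.coprime_dvd_left (Dvd.intro_left _ hm'.symm)
    obtain ⟨hCQ, hDQ⟩ := ih _ hQlt (G ⧸ N) rfl m' n hcardQ hcop'
    have hNle : ∀ H : Subgroup G, Nat.card H = m → N ≤ H := by
      intro H hH
      have hr1 : N.relIndex H ∣ m' * n := by
        rw [← hcardQ]
        exact Subgroup.relIndex_dvd_index_of_normal N H
      have hr2 : N.relIndex H ∣ m := hH ▸ Subgroup.relIndex_dvd_card N H
      have hr3 : N.relIndex H ∣ m' :=
        (Nat.Coprime.coprime_dvd_left hr2 hcop).dvd_of_dvd_mul_right hr1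
      have h4 : N.relIndex H * Nat.card (N ⊓ H : Subgroup G) = Nat.card H := by
        rw [← Subgroup.inf_relIndex_right]
        exact relIndex_mul_card_of_le inf_le_right
      have h5 : Nat.card N ≤ Nat.card (N ⊓ H : Subgroup G) := by
        have hr_le : N.relIndex H ≤ m' := Nat.le_of_dvd hm'pos hr3
        by_contra hlt
        rw [not_le] at hlt
        have h6 : N.relIndex H * Nat.card (N ⊓ H : Subgroup G) < m' * Nat.card N :=
          Nat.mul_lt_mul_of_le_of_lt hr_le hlt hm'pos
        rw [h4, hH, hm', mul_comm] at h6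
        exact lt_irrefl _ h6
      have h7 := Subgroup.eq_of_le_of_card_ge (inf_le_left : N ⊓ H ≤ N) h5
      exact inf_eq_left.1 h7
    have hbar : ∀ H : Subgroup G, Nat.card H = m →
        Nat.card (H.map (QuotientGroup.mk' N)) = m' := by
      intro H hH
      have h1 := card_map_mk'_mul_card N H (hNle H hH)
      rw [hH, hm', mul_comm] at h1
      exact Nat.eq_of_mul_eq_mul_left hNpos h1
    constructor
    · intro H K hH hK
      obtain ⟨q, hq⟩ := hCQ _ _ (hbar H hH) (hbar K hK)
      obtain ⟨g, hg⟩ := exists_conj_sup_eq_of_map_mk' q hq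
      refine ⟨g, ?_⟩
      have h1 : N ≤ MulAut.conj g • H := by
        rw [← conj_smul_normal N g]
        exact conj_smul_mono (hNle H hH) g
      rwa [sup_eq_left.2 h1, sup_eq_left.2 (hNle K hK)] at hg
    · intro K hK
      have h1 : (Nat.card (K.map (QuotientGroup.mk' N))).Coprime n :=
        hK.coprime_dvd_left (Subgroup.card_map_dvd K _)
      obtain ⟨Hb, hHb, hKHb⟩ := hDQ _ h1
      refine ⟨Hb.comap (QuotientGroup.mk' N), ?_, ?_⟩
      · rw [card_comap_mk', hHb, hm', mul_comm]
      · exact (Subgroup.le_comap_map _ K).trans (Subgroup.comap_mono hKHb)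
  · -- Case B: |N| divides n
    obtain ⟨n', hn'⟩ := hB
    have hn'pos : 0 < n' := by
      rcases Nat.eq_zero_or_pos n' with h | h
      · rw [h, mul_zero] at hn'
        omega
      · exact h
    have hcardQ : Nat.card (G ⧸ N) = m * n' := by
      apply Nat.eq_of_mul_eq_mul_right hNpos
      rw [← hcardG, hmn, hn']
      ring
    have hNn : Nat.card N ∣ n := Dvd.intro _ hn'.symm
    have hcop' : m.Coprime n' := hcop.coprime_dvd_right (Dvd.intro_left _ hn'.symm)
    have hcopN : m.Coprime (Nat.card N) := hcop.coprime_dvd_right hNn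
    obtain ⟨hCQ, hDQ⟩ := ih _ hQlt (G ⧸ N) rfl m n' hcardQ hcop'
    by_cases hn1 : n' = 1
    · -- N is a normal Hall subgroup
      have hNidx : N.index = m := by rw [Subgroup.index_eq_card, hcardQ, hn1, mul_one]
      have hNcop : (Nat.card N).Coprime N.index := by rw [hNidx]; exact hcopN.symm
      constructor
      · intro H K hH hK
        exact sz_conj_card N hNcop (Or.inl hNsolv) H K (hH.trans hNidx.symm) (hK.trans hNidx.symm)
      · intro K hK
        obtain ⟨H₀, hH₀⟩ := Subgroup.exists_right_complement'_of_coprime hNcop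
        have hH₀card : Nat.card H₀ = m := by rw [← hNidx]; exact hH₀.symm.index_eq_card.symm
        have hKN : K ⊓ N = ⊥ := inf_eq_bot_of_coprime_card (hK.coprime_dvd_right hNn)
        have hA₁N : (K ⊔ N) ⊓ H₀ ⊓ N = ⊥ := by
          rw [eq_bot_iff]
          have h1 : N ⊓ H₀ = ⊥ := hH₀.disjoint.eq_bot
          rw [← h1]
          exact le_inf inf_le_right (inf_le_left.trans inf_le_right)
        have hL1 : Nat.card (K ⊔ N : Subgroup G) = Nat.card K * Nat.card N :=
          card_sup_of_disjoint_normal K N hKN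
        have hNnorm : ∀ X : Subgroup G, X ≤ Subgroup.normalizer (N : Set G) := by
          intro X
          rw [Subgroup.normalizer_eq_top]
          exact le_top
        have hLeq : (K ⊔ N) ⊓ H₀ ⊔ N = K ⊔ N := by
          apply le_antisymm (sup_le inf_le_left le_sup_right)
          intro l hl
          have hl' : l ∈ N ⊔ H₀ := by rw [hH₀.sup_eq_top]; exact Subgroup.mem_top l
          obtain ⟨x, hx, h, hh, rfl⟩ := mem_sup_of_le_normalizer (hNnorm H₀) hl'
          have hxL : x ∈ K ⊔ N := Subgroup.mem_sup_right hx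
          have hhL : h ∈ K ⊔ N := by
            have := Subgroup.mul_mem _ (Subgroup.inv_mem _ hxL) hl
            simpa using this
          exact Subgroup.mul_mem _ (Subgroup.mem_sup_right hx)
            (Subgroup.mem_sup_left (Subgroup.mem_inf.2 ⟨hhL, hh⟩))
        have hL2 : Nat.card (K ⊔ N : Subgroup G) =
            Nat.card ((K ⊔ N) ⊓ H₀ : Subgroup G) * Nat.card N := by
          conv_lhs => rw [← hLeq]
          exact card_sup_of_disjoint_normal _ N hA₁N
        have hcardA₁ : Nat.card K = Nat.card ((K ⊔ N) ⊓ H₀ : Subgroup G) :=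
          Nat.eq_of_mul_eq_mul_right hNpos (hL1.symm.trans hL2)
        obtain ⟨x, -, hxA⟩ := sz_conj_internal N ((K ⊔ N) ⊓ H₀) K (hNnorm _)
          (by rw [sup_comm, hLeq]; exact le_sup_left) hcardA₁
          (by rw [← hcardA₁]; exact (hK.coprime_dvd_right hNn).symm) (Or.inl hNsolv)
        refine ⟨MulAut.conj x • H₀, by rw [card_conj_smul, hH₀card], ?_⟩
        rw [← hxA]
        exact conj_smul_mono inf_le_right x
    · -- n' ≠ 1
      have hn'1 : 1 < n' := by omega
      have hlt : m * Nat.card N < k := by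
        rw [← hk, hmn, hn']
        apply Nat.mul_lt_mul_of_pos_left _ hmpos
        exact lt_mul_of_one_lt_right hNpos hn'1
      constructor
      · intro H K hH hK
        have hHN : H ⊓ N = ⊥ := inf_eq_bot_of_coprime_card (by rw [hH]; exact hcopN)
        have hKN : K ⊓ N = ⊥ := inf_eq_bot_of_coprime_card (by rw [hK]; exact hcopN)
        have hHbar : Nat.card (H.map (QuotientGroup.mk' N)) = m := by
          rw [card_map_mk'_of_disjoint N H hHN, hH]
        have hKbar : Nat.card (K.map (QuotientGroup.mk' N)) = m := by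
          rw [card_map_mk'_of_disjoint N K hKN, hK]
        obtain ⟨q, hq⟩ := hCQ _ _ hHbar hKbar
        obtain ⟨g, hg⟩ := exists_conj_sup_eq_of_map_mk' q hq
        have hcardA : Nat.card (K ⊔ N : Subgroup G) = m * Nat.card N := by
          rw [card_sup_of_disjoint_normal K N hKN, hK]
        obtain ⟨hCA, -⟩ := (ih _ (hcardA ▸ hlt) (K ⊔ N : Subgroup G) rfl).internal m (Nat.card N)
          hcardA hcopN
        obtain ⟨a, -, ha⟩ := hCA (MulAut.conj g • H) K (hg ▸ le_sup_left) le_sup_left
          (by rw [card_conj_smul, hH]) hK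
        exact ⟨a * g, by rw [map_mul, mul_smul, ha]⟩
      · intro K hK
        have h1 : (Nat.card (K.map (QuotientGroup.mk' N))).Coprime n' :=
          (hK.coprime_dvd_left (Subgroup.card_map_dvd K _)).coprime_dvd_right
            (Dvd.intro_left _ hn'.symm)
        obtain ⟨Hb, hHb, hKHb⟩ := hDQ _ h1
        have hcardA : Nat.card (Hb.comap (QuotientGroup.mk' N)) = m * Nat.card N := by
          rw [card_comap_mk', hHb]
        have hKA : K ≤ Hb.comap (QuotientGroup.mk' N) :=
          (Subgroup.le_comap_map _ K).trans (Subgroup.comap_mono hKHb)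
        obtain ⟨-, hDA⟩ := (ih _ (hcardA ▸ hlt) (Hb.comap (QuotientGroup.mk' N)) rfl).internal m
          (Nat.card N) hcardA hcopN
        obtain ⟨H, -, hH, hKH⟩ := hDA K hKA (hK.coprime_dvd_right hNn)
        exact ⟨H, hH, hKH⟩

end Cfsg.Agent.Helper1
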