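import Mathlib

set_option autoImplicit false

/-!
A ring-theoretic lemma behind `p`-stability of groups with abelian `p'`-sections: in a ring of
characteristic `p` (odd), let `1 + n` be a "quadratic unipotent" (`n * n = 0`) and `Q` a commuting set of
elements of `p'`-exponent stable under conjugation by `1 + n`.  Then `1 + n` commutes with `Q`.
-/

namespace Cfsg.Agent.Helper1

namespace QuadRing

variable {E : Type*} [Ring E]

/-- Elements of the subring generated by a commuting set commute with each other. -/
theorem commute_of_mem_closure {Q : Set E} (hcomm : ∀ x ∈ Q, ∀ y ∈ Q, x * y = y * x)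
    {r s : E} (hr : r ∈ Subring.closure Q) (hs : s ∈ Subring.closure Q) : r * s = s * r := by
  have h1 : Subring.closure Q ≤ Subring.centralizer Q := by
    rw [Subring.closure_le]
    intro x hx
    rw [SetLike.mem_coe, Subring.mem_centralizer_iff]
    intro y hy
    exact hcomm y hy x hx
  have h2 : Subring.closure Q ≤ Subring.centralizer (Subring.closure Q : Set E) := by
    rw [Subring.closure_le]
    intro x hx
    rw [SetLike.mem_coe, Subring.mem_centralizer_iff]
    intro y hy
    have := Subring.mem_centralizer_iff.1 (h1 hy) x hx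
    exact this.symm
  exact (Subring.mem_centralizer_iff.1 (h2 hs) r hr)

/-- In characteristic `p`, the elements of the subring generated by commuting elements with `x ^ q = x`
(`q` a power of `p`, `q` odd) all satisfy `r ^ q = r`. -/
theorem pow_eq_self_of_mem_closure {p : ℕ} (hp : p.Prime) (hp2 : p ≠ 2) (hpE : (p : E) = 0)
    {Q : Set E} (hcomm : ∀ x ∈ Q, ∀ y ∈ Q, x * y = y * x) (k : ℕ)
    (hQ : ∀ x ∈ Q, x ^ (p ^ k) = x) {r : E} (hr : r ∈ Subring.closure Q) : r ^ (p ^ k) = r := by
  have hodd : Odd (p ^ k) := (hp.eq_two_or_odd'.resolve_left hp2).pow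
  have key : ∀ r, ∀ hr : r ∈ Subring.closure Q, r ^ (p ^ k) = r := by
    intro r hr
    induction hr using Subring.closure_induction with
    | mem x hx => exact hQ x hx
    | zero =>
      exact zero_pow (pow_pos hp.pos k).ne'
    | one => exact one_pow _
    | add x y hx hy ihx ihy =>
      have hc : Commute x y := commute_of_mem_closure hcomm hx hy
      obtain ⟨t, ht⟩ := hc.exists_add_pow_prime_pow_eq hp k
      rw [ht, hpE, ihx, ihy]
      simp
    | neg x hx ihx =>
      rw [hodd.neg_pow, ihx]
    | mul x y hx hy ihx ihy =>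
      have hc : Commute x y := commute_of_mem_closure hcomm hx hy
      rw [hc.mul_pow, ihx, ihy]
  exact key r hr

/-- The main lemma. -/
theorem quad_commute {p : ℕ} (hp : p.Prime) (hp2 : p ≠ 2) (hpE : (p : E) = 0) (n : E)
    (hn : n * n = 0) (Q : Set E) (hcomm : ∀ x ∈ Q, ∀ y ∈ Q, x * y = y * x) (e : ℕ)
    (he : e.Coprime p) (hQe : ∀ x ∈ Q, x ^ e = 1)
    (hconj : ∀ x ∈ Q, (1 - n) * x * (1 + n) ∈ Q) : ∀ x ∈ Q, x * (1 + n) = (1 + n) * x := by
  -- `q = p ^ φ(e)` is `1` modulo `e`
  have hepos : 0 < e := by
    rcases Nat.eq_zero_or_pos e with h | h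
    · subst h
      rw [Nat.coprime_zero_left] at he
      exact absurd he hp.one_lt.ne'
    · exact h
  set k := Nat.totient e with hk
  have hkpos : 0 < k := Nat.totient_pos.2 hepos
  have hmod : p ^ k ≡ 1 [MOD e] := Nat.ModEq.pow_totient he.symm
  have hq1 : 1 ≤ p ^ k := Nat.one_le_pow _ _ hp.pos
  obtain ⟨t, ht⟩ : ∃ t, p ^ k = 1 + e * t := by
    have := (Nat.modEq_iff_dvd' hq1).1 hmod.symm
    obtain ⟨t, ht⟩ := this
    exact ⟨t, by omega⟩
  have hQq : ∀ x ∈ Q, x ^ (p ^ k) = x := by
    intro x hx
    rw [ht, pow_add, pow_one, pow_mul, hQe x hx, one_pow, mul_one]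
  have hq2 : 2 ≤ p ^ k := by
    calc 2 ≤ p := hp.two_le
      _ = p ^ 1 := (pow_one p).symm
      _ ≤ p ^ k := Nat.pow_le_pow_right hp.pos hkpos
  -- reducedness of the closure
  have hred : ∀ r ∈ Subring.closure Q, r * r = 0 → r = 0 := by
    intro r hr hr2
    have h1 := pow_eq_self_of_mem_closure hp hp2 hpE hcomm k hQq hr
    obtain ⟨m, hm⟩ : ∃ m, p ^ k = 2 + m := ⟨p ^ k - 2, by omega⟩
    rw [← h1, hm, pow_add, pow_two, hr2, zero_mul]
  -- units
  have hinv1 : (1 - n) * (1 + n) = 1 := by
    have : (1 - n) * (1 + n) = 1 - n * n := by noncomm_ring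
    rw [this, hn, sub_zero]
  have hinv2 : (1 + n) * (1 - n) = 1 := by
    have : (1 + n) * (1 - n) = 1 - n * n := by noncomm_ring
    rw [this, hn, sub_zero]
  -- the closure is stable under conjugation
  have hstab : ∀ r ∈ Subring.closure Q, (1 - n) * r * (1 + n) ∈ Subring.closure Q := by
    intro r hr
    induction hr using Subring.closure_induction with
    | mem x hx => exact Subring.subset_closure (hconj x hx)
    | zero => simp
    | one =>
      rw [mul_one, hinv1]
      exact Subring.one_mem _
    | add x y hx hy ihx ihy =>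
      have : (1 - n) * (x + y) * (1 + n) = (1 - n) * x * (1 + n) + (1 - n) * y * (1 + n) := by
        noncomm_ring
      rw [this]
      exact Subring.add_mem _ ihx ihy
    | neg x hx ihx =>
      have : (1 - n) * (-x) * (1 + n) = -((1 - n) * x * (1 + n)) := by noncomm_ring
      rw [this]
      exact Subring.neg_mem _ ihx
    | mul x y hx hy ihx ihy =>
      have : (1 - n) * (x * y) * (1 + n) =
          ((1 - n) * x * (1 + n)) * ((1 - n) * y * (1 + n)) := by
        calc (1 - n) * (x * y) * (1 + n) = (1 - n) * x * 1 * y * (1 + n) := by noncomm_ring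
          _ = (1 - n) * x * ((1 + n) * (1 - n)) * y * (1 + n) := by rw [hinv2]
          _ = _ := by noncomm_ring
      rw [this]
      exact Subring.mul_mem _ ihx ihy
  -- expansion of conjugation
  have hexp : ∀ x : E, (1 - n) * x * (1 + n) = x + x * n - n * x - n * x * n := by
    intro x; noncomm_ring
  have hexp2 : ∀ r : E, (1 - n) * ((1 - n) * r * (1 + n)) * (1 + n) =
      r + 2 * (r * n - n * r) - 4 * (n * r * n) := by
    intro r
    have e1 : (1 - n) * ((1 - n) * r * (1 + n)) * (1 + n) =
        r + 2 * (r * n - n * r) - 4 * (n * r * n) + (r * (n * n) - 2 * (n * r * (n * n))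
          + (n * n) * r + 2 * ((n * n) * r * n) + (n * n) * r * (n * n)) := by
      noncomm_ring
    rw [e1, hn]
    simp
  -- `n r n ∈ closure` for `r ∈ closure`
  have hp1 : ((p + 1 : ℕ) : E) = 1 := by
    push_cast
    rw [hpE, zero_add]
  obtain ⟨c, hc⟩ : ∃ c, p + 1 = 2 * c := by
    obtain ⟨m, hm⟩ := hp.eq_two_or_odd'.resolve_left hp2
    exact ⟨m + 1, by omega⟩
  have hnrn_mem : ∀ r ∈ Subring.closure Q, n * r * n ∈ Subring.closure Q := by
    intro r hr
    have h1 := hstab r hr
    have h2 := hstab _ h1
    have e1 : 2 * (n * r * n) = -((1 - n) * ((1 - n) * r * (1 + n)) * (1 + n)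
        - 2 * ((1 - n) * r * (1 + n)) + r) := by
      rw [hexp2, hexp]
      noncomm_ring
    have h3 : 2 * (n * r * n) ∈ Subring.closure Q := by
      rw [e1]
      refine Subring.neg_mem _ (Subring.add_mem _ (Subring.sub_mem _ h2 ?_) hr)
      have : (2 : E) * ((1 - n) * r * (1 + n)) = (1 - n) * r * (1 + n) + (1 - n) * r * (1 + n) := by
        rw [two_mul]
      rw [this]
      exact Subring.add_mem _ h1 h1
    have e2 : n * r * n = (c : E) * (2 * (n * r * n)) := by
      have : (c : E) * (2 * (n * r * n)) = ((2 * c : ℕ) : E) * (n * r * n) := by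
        push_cast
        noncomm_ring
      rw [this, ← hc, hp1, one_mul]
    rw [e2]
    have hcmem : (c : E) ∈ Subring.closure Q := by
      exact natCast_mem _ c
    exact Subring.mul_mem _ hcmem h3
  have hnrn : ∀ r ∈ Subring.closure Q, n * r * n = 0 := by
    intro r hr
    apply hred _ (hnrn_mem r hr)
    have : n * r * n * (n * r * n) = n * r * (n * n) * r * n := by noncomm_ring
    rw [this, hn]
    simp
  intro x hx
  have hxR : x ∈ Subring.closure Q := Subring.subset_closure hx
  have hx' := hstab x hxR
  have hdiff : x * n - n * x ∈ Subring.closure Q := by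
    have : x * n - n * x = (1 - n) * x * (1 + n) - x + n * x * n := by
      rw [hexp]; noncomm_ring
    rw [this, hnrn x hxR, add_zero]
    exact Subring.sub_mem _ hx' hxR
  have hzero : x * n - n * x = 0 := by
    apply hred _ hdiff
    have : (x * n - n * x) * (x * n - n * x) =
        x * (n * x * n) - x * (n * n) * x - n * (x * x) * n + (n * x * n) * x := by
      noncomm_ring
    rw [this, hnrn x hxR, hnrn (x * x) (Subring.mul_mem _ hxR hxR), hn]
    simp
  have : x * (1 + n) - (1 + n) * x = x * n - n * x := by noncomm_ring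
  rw [← sub_eq_zero, this, hzero]

end QuadRing

end Cfsg.Agent.Helper1
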