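import Mathlib
import Cfsg.Prelude.Def_Transfer
import Cfsg.Agent.Helper1.QuadRing

set_option autoImplicit false

/-!
Quadratic action against an abelian `p'`-group: if `a` acts quadratically on the normal elementary abelian
`p`-subgroup `W` (`p` odd) and normalizes `K`, where `K` acts on `W` as an abelian group of exponent prime
to `p`, then `[K, a]` centralizes `W`.
-/

namespace Cfsg.Agent.Helper1

open scoped commutatorElement IsMulCommutative

universe u

variable {G : Type u} [Group G]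

namespace QuadAb

/-- Conjugation by `g` as an additive endomorphism of the normal commutative subgroup `W`. -/
noncomputable def conjAdd (W : Subgroup G) [hW : W.Normal] [IsMulCommutative W] (g : G) :
    AddMonoid.End (Additive W) where
  toFun w := Additive.ofMul (⟨g * (Additive.toMul w : W) * g⁻¹,
    hW.conj_mem _ (Additive.toMul w).2 g⟩ : W)
  map_zero' := by
    apply Subtype.ext
    show g * ((1 : W) : G) * g⁻¹ = 1
    simp
  map_add' x y := by
    apply Subtype.ext
    show g * ((Additive.toMul x * Additive.toMul y : W) : G) * g⁻¹ =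
      (g * (Additive.toMul x : W) * g⁻¹) * (g * (Additive.toMul y : W) * g⁻¹)
    rw [Subgroup.coe_mul]; group

theorem conjAdd_apply (W : Subgroup G) [W.Normal] [IsMulCommutative W] (g : G) (w : Additive W) :
    ((Additive.toMul (conjAdd W g w) : W) : G) = g * (Additive.toMul w : W) * g⁻¹ := rfl

theorem end_ext (W : Subgroup G) [IsMulCommutative W] (f h : AddMonoid.End (Additive W))
    (H : ∀ w, ((Additive.toMul (f w) : W) : G) = ((Additive.toMul (h w) : W) : G)) : f = h := by
  ext w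
  exact H w

theorem mul_apply' (W : Subgroup G) [IsMulCommutative W] (f h : AddMonoid.End (Additive W))
    (w : Additive W) : (f * h) w = f (h w) := rfl

/-- The conjugation representation on a normal commutative subgroup, in the endomorphism ring. -/
noncomputable def conjEnd (W : Subgroup G) [W.Normal] [IsMulCommutative W] :
    G →* AddMonoid.End (Additive W) where
  toFun g := conjAdd W g
  map_one' := by
    apply end_ext
    intro w
    rw [conjAdd_apply]
    simp
  map_mul' g h := by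
    apply end_ext
    intro w
    rw [mul_apply', conjAdd_apply, conjAdd_apply, conjAdd_apply]
    group

theorem conjEnd_apply (W : Subgroup G) [W.Normal] [IsMulCommutative W] (g : G) (w : Additive W) :
    ((Additive.toMul (conjEnd W g w) : W) : G) = g * (Additive.toMul w : W) * g⁻¹ := rfl

theorem conjEnd_eq_one_iff (W : Subgroup G) [W.Normal] [IsMulCommutative W] (g : G) :
    conjEnd W g = 1 ↔ g ∈ Subgroup.centralizer (W : Set G) := by
  constructor
  · intro h
    rw [Subgroup.mem_centralizer_iff]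
    intro w hw
    have h1 := conjEnd_apply W g (Additive.ofMul ⟨w, hw⟩)
    rw [h] at h1
    simp only [AddMonoid.End.coe_one, id_eq, toMul_ofMul] at h1
    calc w * g = g * w * g⁻¹ * g := by rw [← h1]
      _ = g * w := by group
  · intro h
    apply end_ext
    intro w
    rw [conjEnd_apply]
    rw [Subgroup.mem_centralizer_iff] at h
    have h2 := h _ (Additive.toMul w).2
    rw [AddMonoid.End.coe_one, id_eq, ← h2]; group

theorem sub_one_mul_sub_one {R : Type*} [Ring R] (x : R) :
    (x - 1) * (x - 1) = (x * x + 1) - (x + x) := by noncomm_ring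

theorem one_sub_mul_one_add {R : Type*} [Ring R] (n : R) :
    (1 - n) * (1 + n) = 1 - n * n := by noncomm_ring

theorem natCast_eq_zero (W : Subgroup G) [IsMulCommutative W] {p : ℕ}
    (hW : ∀ w ∈ W, w ^ p = 1) : ((p : ℕ) : AddMonoid.End (Additive W)) = 0 := by
  apply end_ext
  intro w
  have h1 : ((p : ℕ) : AddMonoid.End (Additive W)) w = p • w := AddMonoid.End.natCast_apply p w
  rw [h1]
  show ((Additive.toMul (p • w) : W) : G) = ((1 : W) : G)
  rw [toMul_nsmul, Subgroup.coe_pow, Subgroup.coe_one]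
  exact hW _ (Additive.toMul w).2

/-- Quadratic action in the endomorphism ring. -/
theorem quad_ring (W : Subgroup G) [W.Normal] [IsMulCommutative W] (a : G)
    (hquad : ∀ w ∈ W, ⁅⁅w, a⁆, a⁆ = 1) :
    (conjEnd W a - 1) * (conjEnd W a - 1) = 0 := by
  have hcommW : ∀ x ∈ W, ∀ y ∈ W, x * y = y * x := by
    intro x hx y hy
    have := mul_comm' (⟨x, hx⟩ : W) ⟨y, hy⟩
    exact congrArg Subtype.val this
  have key : conjEnd W a * conjEnd W a + 1 = conjEnd W a + conjEnd W a := by
    apply end_ext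
    intro w
    have e1 : (conjEnd W a * conjEnd W a + 1) w = (conjEnd W a) ((conjEnd W a) w) + w := rfl
    have e2 : (conjEnd W a + conjEnd W a) w = (conjEnd W a) w + (conjEnd W a) w := rfl
    rw [e1, e2, toMul_add, toMul_add, Subgroup.coe_mul, Subgroup.coe_mul, conjEnd_apply,
      conjEnd_apply]
    set v : G := ((Additive.toMul w : W) : G) with hv
    have hvW : v ∈ W := (Additive.toMul w).2
    have hq := hquad v hvW
    rw [commutatorElement_eq_one_iff_commute] at hq
    have hq' : ⁅v, a⁆ * a = a * ⁅v, a⁆ := hq.eq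
    rw [commutatorElement_def] at hq'
    have hN : ∀ x ∈ W, a * x * a⁻¹ ∈ W := fun x hx => Subgroup.Normal.conj_mem inferInstance x hx a
    have h1 : a * v * a⁻¹ ∈ W := hN v hvW
    have h2 : a * (a * v * a⁻¹) * a⁻¹ ∈ W := hN _ h1
    -- from hq': v a v⁻¹ = a v a v⁻¹ a⁻¹
    have h3 : (a * v * a⁻¹) * (a * (a * v * a⁻¹) * a⁻¹)⁻¹ = v * (a * v * a⁻¹)⁻¹ := by
      have : (a * v * a⁻¹) * (a * (a * v * a⁻¹) * a⁻¹)⁻¹ = a * (v * a * v⁻¹ * a⁻¹) * a⁻¹ := by
        group
      rw [this, ← hq']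
      group
    -- rearrange using commutativity in W
    have h4 : (a * v * a⁻¹) * (a * v * a⁻¹) = v * (a * (a * v * a⁻¹) * a⁻¹) := by
      have c1 := hcommW _ h1 _ h2
      have c2 := hcommW _ hvW _ h1
      have : (a * v * a⁻¹) = v * (a * v * a⁻¹)⁻¹ * (a * (a * v * a⁻¹) * a⁻¹) := by
        rw [← h3]; group
      calc (a * v * a⁻¹) * (a * v * a⁻¹)
          = (v * (a * v * a⁻¹)⁻¹ * (a * (a * v * a⁻¹) * a⁻¹)) * (a * v * a⁻¹) := by rw [← this]
        _ = v * (a * v * a⁻¹)⁻¹ * ((a * (a * v * a⁻¹) * a⁻¹) * (a * v * a⁻¹)) := by group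
        _ = v * (a * v * a⁻¹)⁻¹ * ((a * v * a⁻¹) * (a * (a * v * a⁻¹) * a⁻¹)) := by rw [c1]
        _ = v * (a * (a * v * a⁻¹) * a⁻¹) := by group
    rw [hcommW _ h2 _ hvW]
    exact h4.symm
  rw [sub_one_mul_sub_one, key, sub_self]

end QuadAb

open QuadAb in
/-- If `a` acts quadratically on the normal elementary abelian `p`-subgroup `W` (`p` odd) and normalizes
`K`, where `K` acts on `W` as an abelian group of exponent prime to `p`, then `[K, a]` centralizes `W`. -/
theorem quad_centralizes {p : ℕ} (hp : p.Prime) (hp2 : p ≠ 2) (W : Subgroup G) [W.Normal]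
    (hW : Cfsg.IsElementaryAbelian p W) (K : Subgroup G) (a : G)
    (haK : ∀ k ∈ K, a⁻¹ * k * a ∈ K)
    (hKK : ∀ k ∈ K, ∀ k' ∈ K, ⁅k, k'⁆ ∈ Subgroup.centralizer (W : Set G)) (e : ℕ)
    (he : e.Coprime p) (hKe : ∀ k ∈ K, k ^ e ∈ Subgroup.centralizer (W : Set G))
    (hquad : ∀ w ∈ W, ⁅⁅w, a⁆, a⁆ = 1) :
    ∀ k ∈ K, ⁅k, a⁆ ∈ Subgroup.centralizer (W : Set G) := by
  haveI : IsMulCommutative W := hW.1
  set ρ := conjEnd W with hρ
  set n := ρ a - 1 with hn
  have hn2 : n * n = 0 := quad_ring W a hquad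
  have hpE : ((p : ℕ) : AddMonoid.End (Additive W)) = 0 := natCast_eq_zero W hW.2
  have h1n : 1 + n = ρ a := by rw [hn]; abel
  have hinv : 1 - n = ρ a⁻¹ := by
    have e1 : (1 - n) * (1 + n) = 1 := by
      rw [one_sub_mul_one_add, hn2, sub_zero]
    have e2 : ρ a * ρ a⁻¹ = 1 := by rw [← map_mul, mul_inv_cancel, map_one]
    calc 1 - n = (1 - n) * (ρ a * ρ a⁻¹) := by rw [e2, mul_one]
      _ = ((1 - n) * (1 + n)) * ρ a⁻¹ := by rw [h1n, mul_assoc]
      _ = ρ a⁻¹ := by rw [e1, one_mul]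
  have hker : ∀ g, g ∈ Subgroup.centralizer (W : Set G) → ρ g = 1 :=
    fun g hg => (conjEnd_eq_one_iff W g).2 hg
  have main := QuadRing.quad_commute hp hp2 hpE n hn2 (ρ '' (K : Set G))
    (by
      rintro _ ⟨k, hk, rfl⟩ _ ⟨k', hk', rfl⟩
      have h1 := hker _ (hKK k hk k' hk')
      rw [commutatorElement_def, map_mul, map_mul, map_mul] at h1
      have e1 : ρ k * ρ k⁻¹ = 1 := by rw [← map_mul, mul_inv_cancel, map_one]
      have e2 : ρ k' * ρ k'⁻¹ = 1 := by rw [← map_mul, mul_inv_cancel, map_one]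
      have e3 : ρ k'⁻¹ * ρ k' = 1 := by rw [← map_mul, inv_mul_cancel, map_one]
      have e4 : ρ k⁻¹ * ρ k = 1 := by rw [← map_mul, inv_mul_cancel, map_one]
      calc ρ k * ρ k' = (ρ k * ρ k' * ρ k⁻¹ * ρ k'⁻¹) * (ρ k' * ρ k) := by
            rw [mul_assoc (ρ k * ρ k' * ρ k⁻¹), ← mul_assoc (ρ k'⁻¹), e3, one_mul,
              mul_assoc (ρ k * ρ k'), e4, mul_one]
        _ = ρ k' * ρ k := by rw [h1, one_mul])
    e he
    (by
      rintro _ ⟨k, hk, rfl⟩
      rw [← map_pow]
      exact hker _ (hKe k hk))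
    (by
      rintro _ ⟨k, hk, rfl⟩
      rw [hinv, h1n, ← map_mul, ← map_mul]
      exact ⟨_, haK k hk, rfl⟩)
  intro k hk
  have h1 := main _ ⟨k, hk, rfl⟩
  rw [h1n] at h1
  rw [← conjEnd_eq_one_iff, commutatorElement_def, map_mul, map_mul, map_mul]
  have e1 : ρ k * ρ k⁻¹ = 1 := by rw [← map_mul, mul_inv_cancel, map_one]
  have e2 : ρ a * ρ a⁻¹ = 1 := by rw [← map_mul, mul_inv_cancel, map_one]
  show ρ k * ρ a * ρ k⁻¹ * ρ a⁻¹ = 1
  rw [h1, mul_assoc (ρ a), e1, mul_one, e2]

end Cfsg.Agent.Helper1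

namespace Cfsg.Agent.Helper1

open scoped commutatorElement

universe u

variable {G : Type u} [Group G]

/-- Subgroup form of `quad_centralizes`. -/
theorem quad_commutator_le {p : ℕ} (hp : p.Prime) (hp2 : p ≠ 2) (W : Subgroup G) [W.Normal]
    (hW : Cfsg.IsElementaryAbelian p W) (K : Subgroup G) (a : G)
    (haK : a ∈ Subgroup.normalizer (K : Set G))
    (hKK : ⁅K, K⁆ ≤ Subgroup.centralizer (W : Set G)) (e : ℕ)
    (he : e.Coprime p) (hKe : ∀ k ∈ K, k ^ e ∈ Subgroup.centralizer (W : Set G))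
    (hquad : ⁅⁅W, Subgroup.zpowers a⁆, Subgroup.zpowers a⁆ = ⊥) :
    ⁅K, Subgroup.zpowers a⁆ ≤ Subgroup.centralizer (W : Set G) := by
  rw [Subgroup.commutator_le]
  intro k hk b hb
  have hbK : b ∈ Subgroup.normalizer (K : Set G) := by
    have : Subgroup.zpowers a ≤ Subgroup.normalizer (K : Set G) :=
      (Subgroup.zpowers_le).2 haK
    exact this hb
  refine quad_centralizes hp hp2 W hW K b ?_ ?_ e he hKe ?_ k hk
  · intro k hk
    have := (Subgroup.mem_normalizer_iff.1 (Subgroup.inv_mem _ hbK) k).1 hk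
    simpa using this
  · intro k hk k' hk'
    exact hKK (Subgroup.commutator_mem_commutator hk hk')
  · intro w hw
    have h1 : ⁅w, b⁆ ∈ ⁅W, Subgroup.zpowers a⁆ := Subgroup.commutator_mem_commutator hw hb
    have h2 : ⁅⁅w, b⁆, b⁆ ∈ ⁅⁅W, Subgroup.zpowers a⁆, Subgroup.zpowers a⁆ :=
      Subgroup.commutator_mem_commutator h1 hb
    rw [hquad, Subgroup.mem_bot] at h2
    exact h2

end Cfsg.Agent.Helper1
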