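import Mathlib
import Cfsg.Prelude.Def_Transfer

set_option autoImplicit false

/-!
Quadratic action on an elementary abelian `p`-group.
-/

namespace Cfsg.Agent.Helper1

open scoped commutatorElement

universe u

variable {G : Type u} [Group G]

/-- If `c = [a, v]` commutes with `a` and `v`, then `a^n v a^-n = c^n v`. -/
theorem conj_pow_of_commute {a v : G} (hca : Commute ⁅a, v⁆ a) (n : ℕ) :
    a ^ n * v * (a ^ n)⁻¹ = ⁅a, v⁆ ^ n * v := by
  induction n with
  | zero => simp
  | succ n ih =>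
    have h1 : a ^ (n + 1) * v * (a ^ (n + 1))⁻¹ = a * (a ^ n * v * (a ^ n)⁻¹) * a⁻¹ := by
      rw [pow_succ']; group
    rw [h1, ih]
    have h2 : a * (⁅a, v⁆ ^ n * v) * a⁻¹ = (a * ⁅a, v⁆ ^ n) * (v * a⁻¹) := by group
    rw [h2, ← (hca.pow_left n).eq]
    have h3 : ⁅a, v⁆ ^ n * a * (v * a⁻¹) = ⁅a, v⁆ ^ n * (a * v * a⁻¹ * v⁻¹) * v := by group
    rw [h3, ← commutatorElement_def, ← pow_succ]

theorem quadratic_action_elementary_abelian {p : ℕ} (V H : Subgroup G)
    (hV : Cfsg.IsElementaryAbelian p V) (hHV : H ≤ Subgroup.normalizer (V : Set G))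
    (hq : ⁅⁅V, H⁆, H⁆ = ⊥) :
    ⁅H, H⁆ ≤ Subgroup.centralizer (V : Set G) ∧
      ∀ a ∈ H, a ^ p ∈ Subgroup.centralizer (V : Set G) := by
  constructor
  · rw [← Subgroup.commutator_eq_bot_iff_le_centralizer]
    apply Subgroup.commutator_commutator_eq_bot_of_rotate
    · rw [Subgroup.commutator_comm H V]; exact hq
    · exact hq
  · intro a ha
    rw [Subgroup.mem_centralizer_iff]
    intro v hv
    have hcV : ⁅a, v⁆ ∈ V := by
      rw [commutatorElement_def]
      have h1 : a * v * a⁻¹ ∈ V := ((Subgroup.mem_normalizer_iff.1 (hHV ha)) v).1 hv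
      exact V.mul_mem h1 (V.inv_mem hv)
    have hcVH : ⁅a, v⁆ ∈ ⁅V, H⁆ := by
      rw [Subgroup.commutator_comm]
      exact Subgroup.commutator_mem_commutator ha hv
    have hca : Commute ⁅a, v⁆ a := by
      rw [Subgroup.commutator_eq_bot_iff_le_centralizer] at hq
      have := Subgroup.mem_centralizer_iff.1 (hq hcVH) a ha
      exact this.symm
    have h1 := conj_pow_of_commute hca p
    rw [hV.2 _ hcV, one_mul] at h1
    calc v * a ^ p = (a ^ p * v * (a ^ p)⁻¹) * a ^ p := by rw [h1]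
      _ = a ^ p * v := by group

end Cfsg.Agent.Helper1
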