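import Mathlib
import Cfsg.Agent.Helper1.Basic
import Cfsg.Agent.Helper1.SZ
import Cfsg.Agent.Helper1.Coprime

set_option autoImplicit false

/-!
Thompson's `P × Q` lemma.
-/

namespace Cfsg.Agent.Helper1

open scoped Pointwise commutatorElement

universe u

variable {G : Type u} [Group G]

/-- An element normalizing `H₁` and `H₂` normalizes `⁅H₁, H₂⁆`. -/
theorem le_normalizer_commutator {A H₁ H₂ : Subgroup G}
    (h₁ : A ≤ Subgroup.normalizer (H₁ : Set G)) (h₂ : A ≤ Subgroup.normalizer (H₂ : Set G)) :
    A ≤ Subgroup.normalizer ((⁅H₁, H₂⁆ : Subgroup G) : Set G) := by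
  intro a ha
  apply mem_normalizer_of_conj_smul_eq
  rw [conj_smul_eq_map, Subgroup.map_commutator, ← conj_smul_eq_map, ← conj_smul_eq_map,
    conj_smul_eq_of_mem_normalizer (h₁ ha), conj_smul_eq_of_mem_normalizer (h₂ ha)]

/-- If `P` and `U ≠ 1` are `p`-groups with `P` normalizing `U` then `[U, P] < U`. -/
theorem commutator_lt_of_isPGroup [Finite G] {p : ℕ} [Fact p.Prime] {U P : Subgroup G}
    (hU : IsPGroup p U) (hP : IsPGroup p P) (hPU : P ≤ Subgroup.normalizer (U : Set G))
    (hne : U ≠ ⊥) : ⁅U, P⁆ < U := by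
  have hle : ⁅U, P⁆ ≤ U := Subgroup.le_normalizer_iff_commutator_le_left.1 hPU
  refine lt_of_le_of_ne hle (fun heq => hne ?_)
  set T := P ⊔ U with hT
  have hTp : IsPGroup p T := IsPGroup.to_sup_of_normal_right' hP hU hPU
  have hTn : Group.IsNilpotent T := hTp.isNilpotent
  obtain ⟨n, hn⟩ := (Subgroup.isNilpotent_iff_lowerCentralSeries T).1 hTn
  have key : ∀ m, U ≤ T.lowerCentralSeries m := by
    intro m
    induction m with
    | zero => exact le_sup_right
    | succ m ih =>
      rw [Subgroup.lowerCentralSeries_succ, ← heq]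
      exact Subgroup.commutator_mono ih le_sup_left
  have := key n
  rwa [hn, le_bot_iff] at this

/-- **Thompson's `P × Q` lemma.** -/
theorem thompson_PxQ [Finite G] (p : ℕ) [Fact p.Prime] (P Q : Subgroup G) (hP : IsPGroup p P)
    (hQ : (Nat.card Q).Coprime p) (hPQ : P ≤ Subgroup.centralizer (Q : Set G)) :
    ∀ (n : ℕ) (U : Subgroup G), Nat.card U = n → IsPGroup p U →
      P ≤ Subgroup.normalizer (U : Set G) → Q ≤ Subgroup.normalizer (U : Set G) →
      U ⊓ Subgroup.centralizer (P : Set G) ≤ Subgroup.centralizer (Q : Set G) →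
      ⁅U, Q⁆ = ⊥ := by
  have hPnQ : P ≤ Subgroup.normalizer (Q : Set G) :=
    hPQ.trans (Subgroup.centralizer_le_normalizer (Q : Set G))
  have hQnP : Q ≤ Subgroup.normalizer (P : Set G) :=
    (Subgroup.le_centralizer_iff.1 hPQ).trans (Subgroup.centralizer_le_normalizer (P : Set G))
  intro n
  induction n using Nat.strong_induction_on with
  | _ n ih =>
    intro U hcard hU hPU hQU hC
    by_contra hne
    have hcop : (Nat.card Q).Coprime (Nat.card U) := by
      obtain ⟨m, hm⟩ := IsPGroup.iff_card.1 hU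
      rw [hm]; exact hQ.pow_right m
    have hsolv : Group.IsSolvable Q ∨ Group.IsSolvable U := by
      right
      have : Group.IsNilpotent U := hU.isNilpotent
      infer_instance
    set W := ⁅U, Q⁆ with hW
    have hWU : W ≤ U := Subgroup.le_normalizer_iff_commutator_le_left.1 hQU
    have hWW : ⁅W, Q⁆ = W := coprime_commutator_commutator Q U hQU hcop hsolv
    rcases hWU.lt_or_eq with hlt | heq
    · -- W < U : induction
      have h1 := ih (Nat.card W) (hcard ▸ card_lt_card_of_lt hlt) W rfl (hU.to_le hWU)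
        (le_normalizer_commutator hPU hPnQ) (Subgroup.normalizer_commutator_ge_right U Q)
        ((inf_le_inf_right _ hWU).trans hC)
      rw [hWW] at h1
      exact hne h1
    · -- W = U
      have hUne : U ≠ ⊥ := by rw [← heq]; exact hne
      set V := ⁅U, P⁆ with hV
      have hVU : V < U := commutator_lt_of_isPGroup hU hP hPU hUne
      have h1 := ih (Nat.card V) (hcard ▸ card_lt_card_of_lt hVU) V rfl (hU.to_le hVU.le)
        (Subgroup.normalizer_commutator_ge_right U P) (le_normalizer_commutator hQU hQnP)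
        ((inf_le_inf_right _ hVU.le).trans hC)
      -- three subgroups lemma
      have h2 : ⁅⁅P, U⁆, Q⁆ = ⊥ := by rw [Subgroup.commutator_comm P U]; exact h1
      have h3 : ⁅⁅Q, P⁆, U⁆ = ⊥ := by
        have : ⁅Q, P⁆ = ⊥ := by
          rw [Subgroup.commutator_eq_bot_iff_le_centralizer]
          exact Subgroup.le_centralizer_iff.1 hPQ
        rw [this, Subgroup.commutator_bot_left]
      have h4 : ⁅⁅U, Q⁆, P⁆ = ⊥ := Subgroup.commutator_commutator_eq_bot_of_rotate h3 h2
      rw [← hW, heq] at h4
      rw [Subgroup.commutator_eq_bot_iff_le_centralizer] at h4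
      have h5 : U ≤ Subgroup.centralizer (Q : Set G) := (le_inf le_rfl h4).trans hC
      rw [← Subgroup.commutator_eq_bot_iff_le_centralizer] at h5
      exact hne h5

end Cfsg.Agent.Helper1
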