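import Mathlib
import Cfsg.Prelude.Def_PLocal
import Cfsg.Agent.Helper1.QuadAbelian
import Cfsg.Agent.Helper1.Quadratic
import Cfsg.Agent.Helper1.Cores
import Cfsg.Agent.Helper1.Basic
import Cfsg.Agent.Helper1.Hall
import Cfsg.Agent.Lead.ZJ

set_option autoImplicit false

/-!
`p`-stability of groups `G` with a normal series `U ≤ K ≤ G` where `U` is a `p`-group, `K / U` is an
abelian `p'`-group and `G / K` is a `p`-group (`p` odd).
-/

namespace Cfsg.Agent.Helper1

namespace PStableStruct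

open scoped commutatorElement
open Cfsg.Agent.Lead.ZJ (stab)

universe u

variable {G : Type u} [Group G]

/-- `Ω₁` of an abelian subgroup, as a subgroup of the ambient group. -/
def omegaAb (Q : Subgroup G) (hQ : IsMulCommutative Q) (q : ℕ) : Subgroup G where
  carrier := {x | x ∈ Q ∧ x ^ q = 1}
  mul_mem' := by
    rintro a b ⟨ha, ha'⟩ ⟨hb, hb'⟩
    refine ⟨Q.mul_mem ha hb, ?_⟩
    have hc : Commute a b := by
      have := mul_comm' (⟨a, ha⟩ : Q) ⟨b, hb⟩
      exact congrArg Subtype.val this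
    show (a * b) ^ q = 1
    rw [hc.mul_pow, ha', hb', one_mul]
  one_mem' := ⟨Q.one_mem, one_pow q⟩
  inv_mem' := by
    rintro a ⟨ha, ha'⟩
    exact ⟨Q.inv_mem ha, by show a⁻¹ ^ q = 1; rw [inv_pow, ha', inv_one]⟩

theorem mem_omegaAb (Q : Subgroup G) (hQ : IsMulCommutative Q) (q : ℕ) (x : G) :
    x ∈ omegaAb Q hQ q ↔ x ∈ Q ∧ x ^ q = 1 := Iff.rfl

theorem omegaAb_le (Q : Subgroup G) (hQ : IsMulCommutative Q) (q : ℕ) :
    omegaAb Q hQ q ≤ Q := fun _ hx => hx.1

theorem omegaAb_normal (Q : Subgroup G) [hQn : Q.Normal] (hQ : IsMulCommutative Q) (q : ℕ) :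
    (omegaAb Q hQ q).Normal := by
  constructor
  intro x hx g
  refine ⟨hQn.conj_mem x hx.1 g, ?_⟩
  rw [conj_pow, hx.2, mul_one, mul_inv_cancel]

/-- A nontrivial normal `p`-subgroup meets the centralizer of every `p`-subgroup nontrivially. -/
theorem inf_centralizer_ne_bot [Finite G] {p : ℕ} [hp : Fact p.Prime] (U V : Subgroup G) [V.Normal]
    (hU : IsPGroup p U) (hV : IsPGroup p V) (hV1 : V ≠ ⊥) :
    V ⊓ Subgroup.centralizer (U : Set G) ≠ ⊥ := by
  intro hbot
  let ψ : G →* MulAut V := MulAut.conjNormal (H := V)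
  have hS : IsPGroup p (U.map ψ) := hU.map ψ
  have hpV : p ∣ Nat.card V := by
    obtain ⟨k, hk⟩ := IsPGroup.iff_card.1 hV
    have hk0 : k ≠ 0 := by
      rintro rfl
      rw [pow_zero] at hk
      exact hV1 (Subgroup.card_eq_one.1 hk)
    rw [hk]
    exact dvd_pow_self p hk0
  have h1fix : (1 : V) ∈ MulAction.fixedPoints (U.map ψ) V := by
    intro s
    show (s : MulAut V) • (1 : V) = 1
    exact smul_one _
  obtain ⟨b, hbfix, hb1⟩ :=
    hS.exists_fixed_point_of_prime_dvd_card_of_fixed_point V hpV h1fix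
  have hbR : (b : G) ∈ V ⊓ Subgroup.centralizer (U : Set G) := by
    refine ⟨b.2, Subgroup.mem_centralizer_iff.2 ?_⟩
    intro g hg
    have h2 := hbfix ⟨ψ g, Subgroup.mem_map_of_mem ψ hg⟩
    have h3 : (ψ g) b = b := h2
    have h4 := congrArg Subtype.val h3
    rw [MulAut.conjNormal_apply] at h4
    calc g * (b : G) = g * b * g⁻¹ * g := by group
      _ = b * g := by rw [h4]
  rw [hbot, Subgroup.mem_bot] at hbR
  exact hb1 (Subtype.ext hbR.symm)

/-- An element acting quadratically on a finite normal subgroup `V` has its `|V|`-th power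
centralizing `V`. -/
theorem pow_card_mem_centralizer_of_quadratic [Finite G] (V : Subgroup G) [hVn : V.Normal] (a : G)
    (hq : ⁅⁅V, Subgroup.zpowers a⁆, Subgroup.zpowers a⁆ = ⊥) :
    a ^ Nat.card V ∈ Subgroup.centralizer (V : Set G) := by
  rw [Subgroup.mem_centralizer_iff]
  intro v hv
  have hcV : ⁅a, v⁆ ∈ V := by
    rw [commutatorElement_def]
    exact V.mul_mem (hVn.conj_mem v hv a) (V.inv_mem hv)
  have hcVH : ⁅a, v⁆ ∈ ⁅V, Subgroup.zpowers a⁆ := by
    rw [Subgroup.commutator_comm]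
    exact Subgroup.commutator_mem_commutator (Subgroup.mem_zpowers a) hv
  have hca : Commute ⁅a, v⁆ a := by
    rw [Subgroup.commutator_eq_bot_iff_le_centralizer] at hq
    have := Subgroup.mem_centralizer_iff.1 (hq hcVH) a (Subgroup.mem_zpowers a)
    exact this.symm
  have h1 := conj_pow_of_commute hca (Nat.card V)
  have h2 : ⁅a, v⁆ ^ Nat.card V = 1 := by
    have := pow_card_eq_one' (G := V) (x := ⟨⁅a, v⁆, hcV⟩)
    exact congrArg Subtype.val this
  rw [h2, one_mul] at h1
  calc v * a ^ Nat.card V = (a ^ Nat.card V * v * (a ^ Nat.card V)⁻¹) * a ^ Nat.card V := by rw [h1]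
    _ = a ^ Nat.card V * v := by group

/-- If `K` is normal of `p`-power index with `K' ≤ O_p(G)`, every `p`-element centralizing
`K` modulo `O_p(G)` lies in `O_p(G)`. -/
theorem mem_pCore_of_commutator_mem [Finite G] {p : ℕ} [hp : Fact p.Prime] (K : Subgroup G)
    [hKn : K.Normal] (hidx : ∃ k : ℕ, K.index = p ^ k) (hKK : ⁅K, K⁆ ≤ Cfsg.pCore p G) (a : G)
    (ha : ∃ j : ℕ, a ^ (p ^ j) = 1) (hKa : ∀ k ∈ K, ⁅k, a⁆ ∈ Cfsg.pCore p G) :
    a ∈ Cfsg.pCore p G := by
  obtain ⟨O, hO⟩ : ∃ O, O = Cfsg.pCore p G := ⟨_, rfl⟩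
  rw [← hO] at hKK hKa ⊢
  haveI hOn : O.Normal := hO ▸ pCore_normal p
  have hOp : IsPGroup p O := hO ▸ pCore_isPGroup p
  haveI hKmn : (K.map (QuotientGroup.mk' O)).Normal :=
    hKn.map _ (QuotientGroup.mk'_surjective O)
  let T : Subgroup G :=
    (Subgroup.centralizer ((K.map (QuotientGroup.mk' O) : Subgroup (G ⧸ O)) : Set (G ⧸ O))).comap
      (QuotientGroup.mk' O)
  haveI hTn : T.Normal := Subgroup.Normal.comap inferInstance _
  have memT : ∀ g : G, g ∈ T ↔ ∀ k ∈ K, ⁅k, g⁆ ∈ O := by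
    intro g
    show (QuotientGroup.mk' O g) ∈ Subgroup.centralizer _ ↔ _
    rw [Subgroup.mem_centralizer_iff]
    constructor
    · intro h k hk
      have h1 := h _ (Subgroup.mem_map_of_mem (QuotientGroup.mk' O) hk)
      rw [← QuotientGroup.eq_one_iff, commutatorElement_def]
      change QuotientGroup.mk' O (k * g * k⁻¹ * g⁻¹) = 1
      rw [map_mul, map_mul, map_mul, h1, map_inv, map_inv]
      group
    · rintro h _ ⟨k, hk, rfl⟩
      have h1 := h k hk
      rw [← QuotientGroup.eq_one_iff, commutatorElement_def] at h1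
      change QuotientGroup.mk' O (k * g * k⁻¹ * g⁻¹) = 1 at h1
      rw [map_mul, map_mul, map_mul, map_inv, map_inv] at h1
      calc QuotientGroup.mk' O k * QuotientGroup.mk' O g
          = (QuotientGroup.mk' O k * QuotientGroup.mk' O g * (QuotientGroup.mk' O k)⁻¹ *
              (QuotientGroup.mk' O g)⁻¹) * (QuotientGroup.mk' O g * QuotientGroup.mk' O k) := by
            group
        _ = QuotientGroup.mk' O g * QuotientGroup.mk' O k := by rw [h1, one_mul]
  have hKT : K ≤ T := by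
    intro x hx
    rw [memT]
    intro k hk
    exact hKK (Subgroup.commutator_mem_commutator hk hx)
  have hOT : O ≤ T := by
    intro x hx
    rw [memT]
    intro k hk
    rw [commutatorElement_def]
    exact O.mul_mem (hOn.conj_mem x hx k) (O.inv_mem hx)
  obtain ⟨S⟩ : Nonempty (Sylow p T) := inferInstance
  obtain ⟨S', hS'⟩ : ∃ S' : Subgroup G, S' = (S : Subgroup T).map T.subtype := ⟨_, rfl⟩
  have hS'T : S' ≤ T := by
    rw [hS']
    exact Subgroup.map_subtype_le _
  have hS'p : IsPGroup p S' := by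
    rw [hS']
    exact S.2.map _
  have hOS : O ≤ S' := by
    intro x hx
    have h1 : O.subgroupOf T ≤ Cfsg.pCore p T :=
      le_pCore inferInstance (hOp.comap_subtype)
    have h2 := pCore_le_sylow S (h1 (show (⟨x, hOT hx⟩ : T) ∈ O.subgroupOf T from hx))
    rw [hS']
    exact ⟨⟨x, hOT hx⟩, h2, rfl⟩
  -- `K` normalizes `S'`
  have hconj : ∀ k ∈ K, ∀ s ∈ S', k * s * k⁻¹ ∈ S' := by
    intro k hk s hs
    have h1 : ⁅k, s⁆ ∈ O := (memT s).1 (hS'T hs) k hk
    have e : k * s * k⁻¹ = ⁅k, s⁆ * s := by rw [commutatorElement_def]; group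
    rw [e]
    exact S'.mul_mem (hOS h1) hs
  have hKN : K ≤ Subgroup.normalizer (S' : Set G) := by
    intro k hk
    rw [Subgroup.mem_normalizer_iff]
    intro s
    constructor
    · exact hconj k hk s
    · intro h
      have := hconj k⁻¹ (K.inv_mem hk) _ h
      have e : k⁻¹ * (k * s * k⁻¹) * k⁻¹⁻¹ = s := by group
      rwa [e] at this
  have hSN : S' ≤ Subgroup.normalizer (S' : Set G) := Subgroup.le_normalizer
  -- `T = K S'`
  have hTle : T ≤ K ⊔ S' := by
    rw [← Subgroup.relIndex_eq_one]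
    obtain ⟨k, hk⟩ := hidx
    have h1 : (K ⊔ S').relIndex T ∣ p ^ k := by
      rw [← hk]
      exact (Subgroup.relIndex_dvd_of_le_left T le_sup_left).trans
        (Subgroup.relIndex_dvd_index_of_normal K T)
    have h2 : (K ⊔ S').relIndex T ∣ (S : Subgroup T).index := by
      have h3 : S'.relIndex T = (S : Subgroup T).index := by
        unfold Subgroup.relIndex
        congr 1
        rw [hS']
        exact Subgroup.comap_map_eq_self_of_injective T.subtype_injective _
      rw [← h3]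
      exact Subgroup.relIndex_dvd_of_le_left T le_sup_right
    have h4 : ¬ p ∣ (S : Subgroup T).index := S.not_dvd_index
    obtain ⟨j, _, hj⟩ := (Nat.dvd_prime_pow hp.out).1 h1
    rcases Nat.eq_zero_or_pos j with rfl | hjpos
    · rw [hj, pow_zero]
    · exfalso
      apply h4
      refine dvd_trans ?_ h2
      rw [hj]
      exact dvd_pow_self p hjpos.ne'
  have hTN : T ≤ Subgroup.normalizer (S' : Set G) := hTle.trans (sup_le hKN hSN)
  haveI hSnorm : (S : Subgroup T).Normal := by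
    refine ⟨fun s hs g => ?_⟩
    have h1 := (Subgroup.mem_normalizer_iff.1 (hTN g.2) (s : G)).1
      (by rw [hS']; exact ⟨s, hs, rfl⟩)
    rw [hS'] at h1
    obtain ⟨s', hs', hs'eq⟩ := h1
    have : s' = g * s * g⁻¹ := Subtype.ext (by simpa using hs'eq)
    rw [← this]
    exact hs'
  haveI hSchar : (S : Subgroup T).Characteristic := Sylow.characteristic_of_normal S hSnorm
  have hS'n : S'.Normal := by
    rw [hS']
    infer_instance
  have hS'O : S' ≤ O := by
    rw [hO]
    exact le_pCore hS'n hS'p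
  -- `a ∈ S'`
  have haT : a ∈ T := (memT a).2 hKa
  obtain ⟨j, hj⟩ := ha
  have hza : IsPGroup p (Subgroup.zpowers (⟨a, haT⟩ : T)) := by
    rintro ⟨g, hg⟩
    obtain ⟨n, rfl⟩ := Subgroup.mem_zpowers_iff.1 hg
    refine ⟨j, Subtype.ext ?_⟩
    have h1 : ((⟨a, haT⟩ : T) ^ n) ^ (p ^ j) = ((⟨a, haT⟩ : T) ^ (p ^ j)) ^ n := by
      rw [← zpow_natCast, ← zpow_mul, mul_comm, zpow_mul, zpow_natCast]
    have h2 : (⟨a, haT⟩ : T) ^ (p ^ j) = 1 := Subtype.ext (by simpa using hj)
    show ((⟨a, haT⟩ : T) ^ n) ^ (p ^ j) = 1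
    rw [h1, h2, one_zpow]
  obtain ⟨Q, hQ⟩ := hza.exists_le_sylow
  obtain ⟨g, hg⟩ := MulAction.exists_smul_eq T S Q
  rw [Sylow.smul_eq_of_normal] at hg
  have haS : (⟨a, haT⟩ : T) ∈ (S : Subgroup T) := by
    rw [hg]
    exact hQ (Subgroup.mem_zpowers _)
  apply hS'O
  rw [hS']
  exact ⟨⟨a, haT⟩, haS, rfl⟩

/-- The key induction: `[K, a]` acts as a `p`-group on `V` when `a` is quadratic on `V`. -/
theorem commutator_le_stab {p : ℕ} [hp : Fact p.Prime] (hp2 : p ≠ 2) :
    ∀ n : ℕ, ∀ (G : Type u) [Group G] [Finite G] (U K V : Subgroup G) [U.Normal] [K.Normal]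
      [V.Normal], Nat.card V = n → IsPGroup p U → V ≤ U → ⁅K, K⁆ ≤ U →
      ∀ e : ℕ, e.Coprime p → (∀ k ∈ K, k ^ e ∈ U) →
      ∀ a : G, ⁅⁅V, Subgroup.zpowers a⁆, Subgroup.zpowers a⁆ = ⊥ →
      ⁅K, Subgroup.zpowers a⁆ ≤ stab p V := by
  intro n
  induction n using Nat.strong_induction_on with
  | _ n ih =>
  intro G _ _ U K V hUn hKn hVn hcard hU hVU hKK e he hKe a hq
  by_cases hV1 : V = ⊥
  · intro x _
    apply Cfsg.Agent.Lead.ZJ.centralizer_le_stab V
    rw [Subgroup.mem_centralizer_iff]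
    intro v hv
    have hv' : v ∈ V := hv
    rw [hV1, Subgroup.mem_bot] at hv'
    rw [hv', one_mul, mul_one]
  have hVp : IsPGroup p V := hU.to_le hVU
  obtain ⟨Z, hZ⟩ : ∃ Z, Z = V ⊓ Subgroup.centralizer (U : Set G) := ⟨_, rfl⟩
  have hZ1 : Z ≠ ⊥ := hZ ▸ inf_centralizer_ne_bot U V hU hVp hV1
  haveI hZn : Z.Normal := by rw [hZ]; infer_instance
  have hZV : Z ≤ V := hZ ▸ inf_le_left
  have hZU : Z ≤ Subgroup.centralizer (U : Set G) := hZ ▸ inf_le_right
  have hZc : IsMulCommutative Z := by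
    refine ⟨⟨fun x y => Subtype.ext ?_⟩⟩
    have := Subgroup.mem_centralizer_iff.1 (hZU x.2) y (hVU (hZV y.2))
    exact this.symm
  obtain ⟨W, hW⟩ : ∃ W, W = omegaAb Z hZc p := ⟨_, rfl⟩
  haveI hWn : W.Normal := hW ▸ omegaAb_normal Z hZc p
  have hWZ : W ≤ Z := hW ▸ omegaAb_le Z hZc p
  have hW1 : W ≠ ⊥ := by
    have hpZ : p ∣ Nat.card Z := by
      obtain ⟨k, hk⟩ := IsPGroup.iff_card.1 (hVp.to_le hZV)
      have hk0 : k ≠ 0 := by
        rintro rfl
        rw [pow_zero] at hk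
        exact hZ1 (Subgroup.card_eq_one.1 hk)
      rw [hk]
      exact dvd_pow_self p hk0
    obtain ⟨z, hz⟩ := exists_prime_orderOf_dvd_card' p hpZ
    intro hbot
    have hzW : (z : G) ∈ W := by
      rw [hW, mem_omegaAb]
      refine ⟨z.2, ?_⟩
      have : z ^ p = 1 := by rw [← hz]; exact pow_orderOf_eq_one z
      exact_mod_cast congrArg Subtype.val this
    rw [hbot, Subgroup.mem_bot] at hzW
    have hz1 : z = 1 := Subtype.ext hzW
    rw [hz1, orderOf_one] at hz
    exact hp.out.one_lt.ne hz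
  have hWea : Cfsg.IsElementaryAbelian p W := by
    refine ⟨⟨⟨fun x y => Subtype.ext ?_⟩⟩, fun w hw => ?_⟩
    · have := mul_comm' (⟨x, hWZ x.2⟩ : Z) ⟨y, hWZ y.2⟩
      have h := congrArg Subtype.val this
      show (x : G) * y = y * x
      exact h
    · rw [hW, mem_omegaAb] at hw
      exact hw.2
  have hUW : U ≤ Subgroup.centralizer (W : Set G) := by
    rw [Subgroup.le_centralizer_iff]
    exact hWZ.trans hZU
  have h1 : ⁅K, Subgroup.zpowers a⁆ ≤ Subgroup.centralizer (W : Set G) := by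
    refine quad_commutator_le hp.out hp2 W hWea K a ?_ (hKK.trans hUW) e he
      (fun k hk => hUW (hKe k hk)) ?_
    · rw [Subgroup.normalizer_eq_top]; exact Subgroup.mem_top a
    · rw [eq_bot_iff, ← hq]
      exact Subgroup.commutator_mono (Subgroup.commutator_mono (hWZ.trans hZV) le_rfl) le_rfl
  -- pass to `G / W`
  have hWV : W ≤ V := hWZ.trans hZV
  have hsurj := QuotientGroup.mk'_surjective W
  haveI hUbn : (U.map (QuotientGroup.mk' W)).Normal := hUn.map _ hsurj
  haveI hKbn : (K.map (QuotientGroup.mk' W)).Normal := hKn.map _ hsurj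
  haveI hVbn : (V.map (QuotientGroup.mk' W)).Normal := hVn.map _ hsurj
  have hcardlt : Nat.card (V.map (QuotientGroup.mk' W)) < n := by
    have h2 := card_map_mk'_mul_card W V hWV
    have h3 : 1 < Nat.card W := by
      rcases Nat.lt_or_ge 1 (Nat.card W) with h | h
      · exact h
      · exfalso
        have : Nat.card W = 1 := le_antisymm h Nat.card_pos
        exact hW1 (Subgroup.card_eq_one.1 this)
    have h4 : 0 < Nat.card (V.map (QuotientGroup.mk' W)) := Nat.card_pos
    rw [← hcard, ← h2]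
    nlinarith
  have hqb : ⁅⁅V.map (QuotientGroup.mk' W),
      Subgroup.zpowers (QuotientGroup.mk' W a)⁆, Subgroup.zpowers (QuotientGroup.mk' W a)⁆ = ⊥ := by
    rw [← MonoidHom.map_zpowers, ← Subgroup.map_commutator, ← Subgroup.map_commutator, hq,
      Subgroup.map_bot]
  have hIH := ih _ hcardlt (G ⧸ W) (U.map (QuotientGroup.mk' W)) (K.map (QuotientGroup.mk' W))
    (V.map (QuotientGroup.mk' W)) rfl (hU.map _) (Subgroup.map_mono hVU)
    (by rw [← Subgroup.map_commutator]; exact Subgroup.map_mono hKK) e he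
    (by
      rintro _ ⟨k, hk, rfl⟩
      rw [← map_pow]
      exact Subgroup.mem_map_of_mem _ (hKe k hk))
    (QuotientGroup.mk' W a) hqb
  -- the subgroup `E`
  obtain ⟨E, hE⟩ : ∃ E, E = (stab p (V.map (QuotientGroup.mk' W))).comap (QuotientGroup.mk' W) ⊓
      Subgroup.centralizer (W : Set G) := ⟨_, rfl⟩
  haveI hEn : E.Normal := by
    rw [hE]
    haveI : ((stab p (V.map (QuotientGroup.mk' W))).comap (QuotientGroup.mk' W)).Normal :=
      Subgroup.Normal.comap inferInstance _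
    infer_instance
  have hKE : ⁅K, Subgroup.zpowers a⁆ ≤ E := by
    rw [hE]
    refine le_inf ?_ h1
    rw [← Subgroup.map_le_iff_le_comap, Subgroup.map_commutator, MonoidHom.map_zpowers]
    exact hIH
  refine hKE.trans ?_
  -- `E ≤ stab p V`
  have hEp : IsPGroup p (E.map (QuotientGroup.mk' (Subgroup.centralizer (V : Set G)))) := by
    rintro ⟨_, x, hx, rfl⟩
    rw [hE] at hx
    obtain ⟨hx1, hx2⟩ := hx
    -- some `p`-power of `x` centralizes `V` modulo `W`
    have hx1' : QuotientGroup.mk' (Subgroup.centralizer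
        ((V.map (QuotientGroup.mk' W) : Subgroup (G ⧸ W)) : Set (G ⧸ W))) (QuotientGroup.mk' W x) ∈
        Cfsg.pCore p ((G ⧸ W) ⧸ Subgroup.centralizer ((V.map (QuotientGroup.mk' W) : Subgroup (G ⧸ W)) :
          Set (G ⧸ W))) := hx1
    obtain ⟨m, hm⟩ := (pCore_isPGroup p) ⟨_, hx1'⟩
    have hm' : (QuotientGroup.mk' (Subgroup.centralizer
        ((V.map (QuotientGroup.mk' W) : Subgroup (G ⧸ W)) : Set (G ⧸ W)))
        (QuotientGroup.mk' W x)) ^ (p ^ m) = 1 := by
      have h := congrArg Subtype.val hm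
      rw [Subgroup.coe_pow, Subgroup.coe_one] at h
      exact h
    rw [← map_pow, ← map_pow, QuotientGroup.mk'_apply, QuotientGroup.eq_one_iff] at hm'
    -- `y = x ^ (p ^ m)`
    have hyW : x ^ (p ^ m) ∈ Subgroup.centralizer (W : Set G) := Subgroup.pow_mem _ hx2 _
    have hy : ∀ v ∈ V, ⁅x ^ (p ^ m), v⁆ ∈ W := by
      intro v hv
      have h2 := Subgroup.mem_centralizer_iff.1 hm' _
        (Subgroup.mem_map_of_mem (QuotientGroup.mk' W) hv)
      rw [← QuotientGroup.eq_one_iff, commutatorElement_def]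
      change QuotientGroup.mk' W (x ^ (p ^ m) * v * (x ^ (p ^ m))⁻¹ * v⁻¹) = 1
      rw [map_mul, map_mul, map_mul, ← h2, map_inv, map_inv]
      group
    refine ⟨m + 1, Subtype.ext ?_⟩
    show (QuotientGroup.mk' _ x) ^ (p ^ (m + 1)) = 1
    rw [← map_pow, QuotientGroup.mk'_apply, QuotientGroup.eq_one_iff, Subgroup.mem_centralizer_iff]
    intro v hv
    have hc := hy v hv
    have hca : Commute ⁅x ^ (p ^ m), v⁆ (x ^ (p ^ m)) :=
      (Subgroup.mem_centralizer_iff.1 hyW _ hc)
    have h3 := conj_pow_of_commute hca p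
    rw [hWea.2 _ hc, one_mul, ← pow_mul, ← pow_succ] at h3
    calc v * x ^ (p ^ (m + 1)) = (x ^ (p ^ (m + 1)) * v * (x ^ (p ^ (m + 1)))⁻¹) *
          x ^ (p ^ (m + 1)) := by rw [h3]
      _ = x ^ (p ^ (m + 1)) * v := by group
  have hEmn : (E.map (QuotientGroup.mk' (Subgroup.centralizer (V : Set G)))).Normal :=
    hEn.map _ (QuotientGroup.mk'_surjective _)
  intro x hx
  exact le_pCore hEmn hEp (Subgroup.mem_map_of_mem _ hx)

/-- Groups with a normal series `U ≤ K ≤ G`, `U` a `p`-group, `K / U` an abelian `p'`-group,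
`G / K` a `p`-group, act `p`-stably on each of their normal `p`-subgroups inside `U` (`p` odd). -/
theorem isPStableOn_of_series [Finite G] {p : ℕ} [hp : Fact p.Prime] (hp2 : p ≠ 2)
    (U K V : Subgroup G) [hUn : U.Normal] [hKn : K.Normal] [hVn : V.Normal] (hU : IsPGroup p U)
    (hVU : V ≤ U) (hKK : ⁅K, K⁆ ≤ U) (e : ℕ) (he : e.Coprime p) (hKe : ∀ k ∈ K, k ^ e ∈ U)
    (hidx : ∃ k : ℕ, K.index = p ^ k) : Cfsg.IsPStableOn p V := by
  intro a hq
  have h1 := commutator_le_stab hp2 _ G U K V rfl hU hVU hKK e he hKe a hq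
  have hsurj := QuotientGroup.mk'_surjective (Subgroup.centralizer (V : Set G))
  haveI hKmn : (K.map (QuotientGroup.mk' (Subgroup.centralizer (V : Set G)))).Normal :=
    hKn.map _ hsurj
  have hUmn : (U.map (QuotientGroup.mk' (Subgroup.centralizer (V : Set G)))).Normal :=
    hUn.map _ hsurj
  show QuotientGroup.mk' (Subgroup.centralizer (V : Set G)) a ∈ _
  refine mem_pCore_of_commutator_mem (K.map (QuotientGroup.mk' (Subgroup.centralizer (V : Set G))))
    ?_ ?_ _ ?_ ?_
  · obtain ⟨k, hk⟩ := hidx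
    have h2 : (K.map (QuotientGroup.mk' (Subgroup.centralizer (V : Set G)))).index ∣ p ^ k := by
      rw [← hk]
      exact Subgroup.index_map_dvd K hsurj
    obtain ⟨j, _, hj⟩ := (Nat.dvd_prime_pow hp.out).1 h2
    exact ⟨j, hj⟩
  · rw [← Subgroup.map_commutator]
    exact (Subgroup.map_mono hKK).trans (le_pCore hUmn (hU.map _))
  · obtain ⟨j, hj⟩ := IsPGroup.iff_card.1 (hU.to_le hVU)
    refine ⟨j, ?_⟩
    rw [← map_pow, QuotientGroup.mk'_apply, QuotientGroup.eq_one_iff, ← hj]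
    exact pow_card_mem_centralizer_of_quadratic V a hq
  · rintro _ ⟨k, hk, rfl⟩
    rw [← map_commutatorElement]
    exact h1 (Subgroup.commutator_mem_commutator hk (Subgroup.mem_zpowers a))

end PStableStruct

end Cfsg.Agent.Helper1
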