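import Mathlib
import Cfsg.Prelude.Def_Transfer
import Cfsg.Agent.Helper1.FrobPCompl2

set_option autoImplicit false

/-!
Basic closure properties of "has a normal `p`-complement".
-/

namespace Cfsg.Agent.Helper1

universe u v

variable {G : Type u} [Group G]

/-- Characterization by a normal subgroup of order prime to `p` and `p`-power index. -/
theorem hasNormalPComplement_iff_exists [Finite G] {p : ℕ} [hp : Fact p.Prime] :
    Cfsg.HasNormalPComplement p G ↔
      ∃ M : Subgroup G, M.Normal ∧ (Nat.card M).Coprime p ∧ ∃ k : ℕ, M.index = p ^ k := by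
  constructor
  · rintro ⟨P, M, hMn, hM⟩
    refine ⟨M, hMn, ?_, ?_⟩
    · rw [← hM.index_eq_card]
      exact ((Nat.Prime.coprime_iff_not_dvd hp.out).2 P.not_dvd_index).symm
    · obtain ⟨a, ha⟩ := IsPGroup.iff_card.1 P.2
      exact ⟨a, by rw [hM.symm.index_eq_card, ha]⟩
  · rintro ⟨M, hMn, hcop, k, hk⟩
    obtain ⟨P⟩ : Nonempty (Sylow p G) := inferInstance
    exact ⟨P, M, hMn, isComplement'_sylow_of_coprime_of_index_ppow M P hcop hk⟩

/-- Images of groups with a normal `p`-complement have one. -/
theorem hasNormalPComplement_of_surjective [Finite G] {H : Type v} [Group H] [Finite H] {p : ℕ}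
    [hp : Fact p.Prime] (f : G →* H) (hf : Function.Surjective f)
    (h : Cfsg.HasNormalPComplement p G) : Cfsg.HasNormalPComplement p H := by
  obtain ⟨M, hMn, hcop, k, hk⟩ := hasNormalPComplement_iff_exists.1 h
  rw [hasNormalPComplement_iff_exists]
  refine ⟨M.map f, hMn.map f hf, ?_, ?_⟩
  · exact Nat.Coprime.coprime_dvd_left (Subgroup.card_map_dvd M f) hcop
  · have h1 : (M.map f).index ∣ M.index := Subgroup.index_map_dvd M hf
    rw [hk] at h1
    obtain ⟨b, -, hb⟩ := (Nat.dvd_prime_pow hp.out).1 h1
    exact ⟨b, hb⟩

theorem hasNormalPComplement_of_mulEquiv [Finite G] {H : Type v} [Group H] [Finite H] {p : ℕ}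
    [Fact p.Prime] (e : G ≃* H) (h : Cfsg.HasNormalPComplement p G) :
    Cfsg.HasNormalPComplement p H :=
  hasNormalPComplement_of_surjective e.toMonoidHom e.surjective h

/-- The image of a subgroup with a normal `p`-complement has one. -/
theorem hasNormalPComplement_map [Finite G] {H : Type v} [Group H] [Finite H] {p : ℕ}
    [Fact p.Prime] (f : G →* H) (L : Subgroup G) (h : Cfsg.HasNormalPComplement p L) :
    Cfsg.HasNormalPComplement p (L.map f) :=
  hasNormalPComplement_of_surjective (f.subgroupMap L) (f.subgroupMap_surjective L) h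

/-- Subgroups of a subgroup with a normal `p`-complement have one. -/
theorem hasNormalPComplement_of_le [Finite G] {p : ℕ} [Fact p.Prime] {L M : Subgroup G}
    (hLM : L ≤ M) (h : Cfsg.HasNormalPComplement p M) : Cfsg.HasNormalPComplement p L := by
  have h1 := hasNormalPComplement_subgroup h (L.subgroupOf M)
  exact hasNormalPComplement_of_mulEquiv (Subgroup.subgroupOfEquivOfLe hLM) h1

/-- Lifting through a kernel of order prime to `p`. -/
theorem hasNormalPComplement_of_ker_coprime [Finite G] {H : Type v} [Group H] [Finite H] {p : ℕ}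
    [hp : Fact p.Prime] (f : G →* H) (hf : Function.Surjective f)
    (hker : (Nat.card f.ker).Coprime p) (h : Cfsg.HasNormalPComplement p H) :
    Cfsg.HasNormalPComplement p G := by
  obtain ⟨M, hMn, hcop, k, hk⟩ := hasNormalPComplement_iff_exists.1 h
  rw [hasNormalPComplement_iff_exists]
  refine ⟨M.comap f, hMn.comap f, ?_, k, ?_⟩
  · have h1 : Nat.card (M.comap f) = Nat.card f.ker * Nat.card M := by
      have e1 : Nat.card G = Nat.card f.ker * Nat.card H := by
        rw [Subgroup.card_eq_card_quotient_mul_card_subgroup f.ker,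
          Nat.card_congr (QuotientGroup.quotientKerEquivOfSurjective f hf).toEquiv, mul_comm]
      have e2 : Nat.card G = Nat.card (M.comap f) * M.index := by
        rw [← Subgroup.index_comap_of_surjective M hf]
        exact ((M.comap f).card_mul_index).symm
      have e3 : Nat.card H = Nat.card M * M.index := (M.card_mul_index).symm
      have hidx : 0 < M.index := Nat.pos_of_ne_zero Subgroup.index_ne_zero_of_finite
      have : Nat.card (M.comap f) * M.index = (Nat.card f.ker * Nat.card M) * M.index := by
        rw [← e2, e1, e3, mul_assoc]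
      exact Nat.eq_of_mul_eq_mul_right hidx this
    rw [h1]
    exact Nat.Coprime.mul_left hker hcop
  · rw [Subgroup.index_comap_of_surjective M hf, hk]

/-- A `p`-group has a normal `p`-complement. -/
theorem hasNormalPComplement_of_isPGroup [Finite G] {p : ℕ} [hp : Fact p.Prime]
    (h : IsPGroup p G) : Cfsg.HasNormalPComplement p G := by
  rw [hasNormalPComplement_iff_exists]
  obtain ⟨k, hk⟩ := IsPGroup.iff_card.1 h
  refine ⟨⊥, inferInstance, by simp, k, ?_⟩
  rw [Subgroup.index_bot, hk]

end Cfsg.Agent.Helper1
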