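import Mathlib

set_option autoImplicit false

/-!
Frattini-subgroup tools.
-/

namespace Cfsg.Agent.Helper1

open scoped Pointwise

variable {G : Type*} [Group G]

/-- Frattini argument phrased with a Sylow subgroup `P` of `A ≤ G` and a normal subgroup `N` of `G`
with `P ≤ N ≤ A`. -/
theorem frattini_argument_of_le {p : ℕ} [Fact p.Prime] [Finite G] {A : Subgroup G} (P : Sylow p A)
    (N : Subgroup G) [N.Normal] (hPN : (P : Subgroup A).map A.subtype ≤ N) (hNA : N ≤ A) :
    Subgroup.normalizer (((P : Subgroup A).map A.subtype : Subgroup G) : Set G) ⊔ N = ⊤ := by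
  set P₀ := (P : Subgroup A).map A.subtype with hP₀
  have hP₀A : P₀ ≤ A := Subgroup.map_subtype_le _
  -- P₀.subgroupOf N is a Sylow subgroup of N
  have hpg : IsPGroup p (P₀.subgroupOf N) := by
    have h1 : IsPGroup p P₀ := P.2.map A.subtype
    exact h1.comap_of_injective N.subtype N.subtype_injective
  have hidx : ¬ p ∣ (P₀.subgroupOf N).index := by
    have h1 : P₀.relIndex N ∣ P₀.relIndex A :=
      Dvd.intro _ (Subgroup.relIndex_mul_relIndex P₀ N A hPN hNA)
    have h2 : P₀.relIndex A = (P : Subgroup A).index := by
      rw [Subgroup.relIndex, hP₀, Subgroup.subgroupOf,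
        Subgroup.comap_map_eq_self_of_injective A.subtype_injective]
    intro h3
    have : p ∣ (P : Subgroup A).index := h2 ▸ dvd_trans h3 h1
    exact P.not_dvd_index this
  let Q : Sylow p N := hpg.toSylow hidx
  have := Sylow.normalizer_sup_eq_top Q
  have hQ : Subgroup.map N.subtype (Q : Subgroup N) = P₀ := by
    change Subgroup.map N.subtype (P₀.subgroupOf N) = P₀
    rw [Subgroup.subgroupOf_map_subtype]
    exact inf_eq_left.2 hPN
  rwa [hQ] at this

/-- Gaschütz: if `B ≤ A` are normal subgroups of the finite group `G` with `B ≤ Φ(G)` and `A/B` nilpotent,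
then `A` is nilpotent.  The hypothesis on `A/B` is phrased via the image of `A` in `G ⧸ B`. -/
theorem isNilpotent_of_map_mk_frattini [Finite G] (A B : Subgroup G) [A.Normal] [B.Normal]
    (hBA : B ≤ A) (hB : B ≤ frattini G)
    (h : Group.IsNilpotent (A.map (QuotientGroup.mk' B))) : Group.IsNilpotent A := by
  have q := (Group.isNilpotent_of_finite_tfae (G := A)).out 0 3
  rw [q]; clear q
  intro p hp P
  set π := QuotientGroup.mk' B with hπ
  set Abar := A.map π with hAbar
  have : Abar.Normal := Subgroup.Normal.map inferInstance π (QuotientGroup.mk'_surjective B)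
  let f : A →* Abar := π.subgroupMap A
  have hf : Function.Surjective f := π.subgroupMap_surjective A
  let Q : Sylow p Abar := P.mapSurjective hf
  have : (Q : Subgroup Abar).Normal := inferInstance
  have : (Q : Subgroup Abar).Characteristic := Sylow.characteristic_of_normal Q inferInstance
  have hQn : ((Q : Subgroup Abar).map Abar.subtype).Normal := inferInstance
  set P₀ := (P : Subgroup A).map A.subtype with hP₀
  have hQP : (Q : Subgroup Abar).map Abar.subtype = P₀.map π := by
    change ((P : Subgroup A).map f).map Abar.subtype = ((P : Subgroup A).map A.subtype).map π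
    rw [Subgroup.map_map, Subgroup.map_map]
    rfl
  rw [hQP] at hQn
  set N := (P₀.map π).comap π with hN
  have : N.Normal := Subgroup.Normal.comap hQn π
  have hNeq : N = P₀ ⊔ B := by
    rw [hN, Subgroup.comap_map_eq, QuotientGroup.ker_mk']
  have hP₀A : P₀ ≤ A := Subgroup.map_subtype_le _
  have hPN : P₀ ≤ N := hNeq ▸ le_sup_left
  have hNA : N ≤ A := hNeq ▸ sup_le hP₀A hBA
  have key := frattini_argument_of_le P N hPN hNA
  have h2 : Subgroup.normalizer ((P₀ : Subgroup G) : Set G) ⊔ frattini G = ⊤ := by
    rw [eq_top_iff, ← key, hNeq]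
    apply sup_le le_sup_left
    exact sup_le (le_sup_of_le_left Subgroup.le_normalizer) (le_sup_of_le_right hB)
  have h3 := frattini_nongenerating h2
  have h4 : P₀.Normal := Subgroup.normalizer_eq_top_iff.mp h3
  exact h4.of_map_subtype

end Cfsg.Agent.Helper1
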