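import Mathlib
import Cfsg.Prelude.Def_Solvable
import Cfsg.Agent.Helper1.Basic
import Cfsg.Agent.Helper1.Cores
import Cfsg.Agent.Helper1.Frattini
import Cfsg.Agent.Helper1.Fitting
import Cfsg.Agent.Helper1.Hall

set_option autoImplicit false

/-!
More on the Fitting subgroup: `C_G(F(G)) ≤ F(G)` for solvable `G`, minimal normal subgroups,
Frattini quotient.
-/

namespace Cfsg.Agent.Helper1

open scoped Pointwise commutatorElement

universe u

variable {G : Type u} [Group G]

/-- if `M = [M, F]` with `M ≤ F` and `F` nilpotent then `M = 1`. -/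
theorem eq_bot_of_commutator_eq_of_isNilpotent {M F : Subgroup G} (hF : Group.IsNilpotent F)
    (hMF : M ≤ F) (h : ⁅M, F⁆ = M) : M = ⊥ := by
  obtain ⟨n, hn⟩ := (Subgroup.isNilpotent_iff_lowerCentralSeries F).1 hF
  have key : ∀ m, M ≤ F.lowerCentralSeries m := by
    intro m
    induction m with
    | zero => exact hMF
    | succ m ih =>
      rw [Subgroup.lowerCentralSeries_succ, ← h]
      exact Subgroup.commutator_mono ih le_rfl
  have := key n
  rwa [hn, le_bot_iff] at this

/-- In a finite solvable group, `C_G(F(G)) ≤ F(G)`. -/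
theorem centralizer_fittingSubgroup_le [Finite G] [Group.IsSolvable G] :
    Subgroup.centralizer (Cfsg.fittingSubgroup G : Set G) ≤ Cfsg.fittingSubgroup G := by
  set F := Cfsg.fittingSubgroup G with hF
  set C := Subgroup.centralizer (F : Set G) with hC
  have hCn : C.Normal := inferInstance
  by_contra hCF
  let 𝒟 : Set (Subgroup G) := {D | D.Normal ∧ D ≤ C ∧ ¬ D ≤ F}
  have hC𝒟 : C ∈ 𝒟 := ⟨hCn, le_rfl, hCF⟩
  obtain ⟨D, -, hDmin⟩ := (Set.toFinite 𝒟).exists_le_minimal hC𝒟
  obtain ⟨hDn, hDC, hDF⟩ : D ∈ 𝒟 := hDmin.prop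
  have hDne : D ≠ ⊥ := by
    rintro rfl
    exact hDF bot_le
  have hlt : ⁅D, D⁆ < D := Group.IsSolvable.commutator_lt_of_ne_bot hDne
  have hDDn : (⁅D, D⁆ : Subgroup G).Normal := Subgroup.commutator_normal D D
  have hDDF : ⁅D, D⁆ ≤ F := by
    by_contra hnot
    have hmem : ⁅D, D⁆ ∈ 𝒟 := ⟨hDDn, hlt.le.trans hDC, hnot⟩
    exact absurd (hDmin.2 hmem hlt.le) (not_le_of_gt hlt)
  -- D is nilpotent of class ≤ 2
  have hDnil : Group.IsNilpotent D := by
    rw [Subgroup.isNilpotent_iff_lowerCentralSeries]
    refine ⟨2, ?_⟩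
    rw [Subgroup.lowerCentralSeries_succ, Subgroup.lowerCentralSeries_succ,
      Subgroup.lowerCentralSeries_zero, Subgroup.commutator_eq_bot_iff_le_centralizer]
    exact hDDF.trans (Subgroup.le_centralizer_iff.1 hDC)
  exact hDF (le_fittingSubgroup hDn hDnil)

/-- The Fitting subgroup centralizes every minimal normal subgroup. -/
theorem fittingSubgroup_le_centralizer_of_minimal_normal [Finite G] (M : Subgroup G) [hMn : M.Normal]
    (hM : M ≠ ⊥) (hmin : ∀ K : Subgroup G, K.Normal → K ≤ M → K = ⊥ ∨ K = M) :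
    Cfsg.fittingSubgroup G ≤ Subgroup.centralizer (M : Set G) := by
  set F := Cfsg.fittingSubgroup G with hF
  have hFn : F.Normal := inferInstance
  have hMF : ⁅M, F⁆ ≤ M := Subgroup.commutator_le_left M F
  have hFF : ⁅M, F⁆ ≤ F := Subgroup.commutator_le_right M F
  rcases hmin ⁅M, F⁆ (Subgroup.commutator_normal M F) hMF with h | h
  · rw [Subgroup.commutator_eq_bot_iff_le_centralizer] at h
    exact Subgroup.le_centralizer_iff.1 h
  · exfalso
    have hMleF : M ≤ F := h ▸ hFF
    exact hM (eq_bot_of_commutator_eq_of_isNilpotent fittingSubgroup_isNilpotent hMleF h)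

/-- Hall–Higman Lemma 1.2.3. -/
theorem centralizer_pCore_le [Finite G] [Group.IsSolvable G] (p : ℕ) [hp : Fact p.Prime]
    (h : Cfsg.pPrimeCore p G = ⊥) :
    Subgroup.centralizer (Cfsg.pCore p G : Set G) ≤ Cfsg.pCore p G := by
  have hF : Cfsg.fittingSubgroup G = Cfsg.pCore p G := by
    rw [fittingSubgroup_eq_fitJoin]
    apply le_antisymm
    · apply iSup_le
      intro q
      by_cases hq : (q : ℕ) = p
      · rw [hq]
      · have : Fact (q : ℕ).Prime := ⟨q.2⟩
        have h1 : Cfsg.pCore (q : ℕ) G ≤ Cfsg.pPrimeCore p G := by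
          apply le_pPrimeCore inferInstance
          obtain ⟨n, hn⟩ := IsPGroup.iff_card.1 (pCore_isPGroup (G := G) (q : ℕ))
          rw [hn]
          apply Nat.Coprime.pow_left
          rw [Nat.coprime_primes q.2 hp.out]
          exact hq
        rw [h] at h1
        exact h1.trans bot_le
    · exact pCore_le_fitJoin p
  rw [← hF]
  exact centralizer_fittingSubgroup_le

/-- The Fitting subgroup and the Frattini quotient. -/
theorem fittingSubgroup_quotient_frattini [Finite G] :
    Cfsg.fittingSubgroup (G ⧸ frattini G) =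
      (Cfsg.fittingSubgroup G).map (QuotientGroup.mk' (frattini G)) := by
  set π := QuotientGroup.mk' (frattini G) with hπ
  have hπs : Function.Surjective π := QuotientGroup.mk'_surjective _
  apply le_antisymm
  · set H := (Cfsg.fittingSubgroup (G ⧸ frattini G)).comap π with hH
    have hHn : H.Normal := inferInstance
    have hΦH : frattini G ≤ H := by
      intro x hx
      rw [hH, Subgroup.mem_comap, hπ, QuotientGroup.mk'_apply, (QuotientGroup.eq_one_iff x).2 hx]
      exact Subgroup.one_mem _
    have hmap : H.map π = Cfsg.fittingSubgroup (G ⧸ frattini G) :=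
      Subgroup.map_comap_eq_self_of_surjective hπs _
    have hnil : Group.IsNilpotent H := by
      apply isNilpotent_of_map_mk_frattini H (frattini G) hΦH le_rfl
      rw [← hπ, hmap]
      exact fittingSubgroup_isNilpotent
    rw [← hmap]
    exact Subgroup.map_mono (le_fittingSubgroup hHn hnil)
  · apply le_fittingSubgroup
    · exact Subgroup.Normal.map inferInstance π hπs
    · have hnil : Group.IsNilpotent (Cfsg.fittingSubgroup G) := fittingSubgroup_isNilpotent
      exact Group.nilpotent_of_surjective (π.subgroupMap (Cfsg.fittingSubgroup G))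
        (π.subgroupMap_surjective _)

/-- `O_{p'}(G / O_{p'}(G)) = 1`. -/
theorem pPrimeCore_quotient_pPrimeCore [Finite G] (p : ℕ) :
    Cfsg.pPrimeCore p (G ⧸ Cfsg.pPrimeCore p G) = ⊥ := by
  set K := Cfsg.pPrimeCore p G with hK
  set π := QuotientGroup.mk' K with hπ
  have hπs : Function.Surjective π := QuotientGroup.mk'_surjective _
  set Nb := Cfsg.pPrimeCore p (G ⧸ K) with hNb
  have hN1 : (Nb.comap π).Normal := inferInstance
  have hN2 : (Nat.card (Nb.comap π)).Coprime p := by
    rw [card_comap_mk']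
    exact Nat.Coprime.mul_left (card_pPrimeCore_coprime p) (card_pPrimeCore_coprime p)
  have hle : Nb.comap π ≤ K := le_pPrimeCore hN1 hN2
  have h1 : Nb = (Nb.comap π).map π := (Subgroup.map_comap_eq_self_of_surjective hπs _).symm
  rw [h1, eq_bot_iff]
  refine (Subgroup.map_mono hle).trans ?_
  rw [hπ, QuotientGroup.map_mk'_self]

/-- A finite solvable group with abelian Sylow `p`-subgroups has `p`-length one. -/
theorem sup_pPrimeCore_normal_of_abelian_sylow [Finite G] [Group.IsSolvable G] (p : ℕ)
    [Fact p.Prime] (P : Sylow p G) (hP : IsMulCommutative P) :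
    ((P : Subgroup G) ⊔ Cfsg.pPrimeCore p G).Normal := by
  set K := Cfsg.pPrimeCore p G with hK
  set π := QuotientGroup.mk' K with hπ
  have hπs : Function.Surjective π := QuotientGroup.mk'_surjective _
  have hsolv : Group.IsSolvable (G ⧸ K) := Group.isSolvable_of_surjective hπs
  have h1 := centralizer_pCore_le (G := G ⧸ K) p (pPrimeCore_quotient_pPrimeCore p)
  set Pb : Sylow p (G ⧸ K) := P.mapSurjective hπs with hPb
  have hPbcoe : (Pb : Subgroup (G ⧸ K)) = (P : Subgroup G).map π := rfl
  have hcomm : IsMulCommutative ((P : Subgroup G).map π) := inferInstance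
  have hOle : Cfsg.pCore p (G ⧸ K) ≤ (P : Subgroup G).map π := by
    rw [← hPbcoe]; exact pCore_le_sylow Pb
  have hPble : (P : Subgroup G).map π ≤ Cfsg.pCore p (G ⧸ K) := by
    have h2 : (P : Subgroup G).map π ≤ Subgroup.centralizer (((P : Subgroup G).map π : Subgroup (G ⧸ K)) : Set (G ⧸ K)) :=
      Subgroup.le_centralizer_iff_isMulCommutative.2 hcomm
    exact h2.trans ((Subgroup.centralizer_le hOle).trans h1)
  have heq : (P : Subgroup G).map π = Cfsg.pCore p (G ⧸ K) := le_antisymm hPble hOle
  have hnorm : ((P : Subgroup G).map π).Normal := by rw [heq]; infer_instance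
  have h3 : ((P : Subgroup G).map π).comap π = (P : Subgroup G) ⊔ K := by
    rw [Subgroup.comap_map_eq, hπ, QuotientGroup.ker_mk']
  rw [← h3]
  exact hnorm.comap π

end Cfsg.Agent.Helper1
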