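import Mathlib
import Cfsg.Prelude.Def_Transfer
import Cfsg.Agent.Helper1.Basic

set_option autoImplicit false

/-!
Basic properties of the Thompson subgroup `J(G)` (generated by the elementary abelian
`p`-subgroups of maximal order).
-/

namespace Cfsg.Agent.Helper1

open scoped Pointwise

universe u v

variable {G : Type u} [Group G]

theorem isElementaryAbelian_bot (p : ℕ) : Cfsg.IsElementaryAbelian p (⊥ : Subgroup G) := by
  refine ⟨?_, ?_⟩
  · constructor; constructor
    intro a b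
    apply Subtype.ext
    have ha : (a : G) = 1 := Subgroup.mem_bot.1 a.2
    have hb : (b : G) = 1 := Subgroup.mem_bot.1 b.2
    simp [ha, hb]
  · intro a ha
    rw [Subgroup.mem_bot] at ha
    rw [ha, one_pow]

theorem IsElementaryAbelian_map {G' : Type v} [Group G'] {p : ℕ} {A : Subgroup G}
    (hA : Cfsg.IsElementaryAbelian p A) (f : G →* G') : Cfsg.IsElementaryAbelian p (A.map f) := by
  obtain ⟨hc, he⟩ := hA
  refine ⟨?_, ?_⟩
  · constructor; constructor
    rintro ⟨_, a, ha, rfl⟩ ⟨_, b, hb, rfl⟩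
    apply Subtype.ext
    have := congrArg Subtype.val (mul_comm' (⟨a, ha⟩ : A) ⟨b, hb⟩)
    simp only [Subgroup.coe_mul] at this ⊢
    rw [← map_mul, ← map_mul, this]
  · rintro _ ⟨a, ha, rfl⟩
    rw [← map_pow, he a ha, map_one]

theorem IsElementaryAbelian_comap_of_injective {G' : Type v} [Group G'] {p : ℕ} {A : Subgroup G'}
    (hA : Cfsg.IsElementaryAbelian p A) (f : G →* G') (hf : Function.Injective f) :
    Cfsg.IsElementaryAbelian p (A.comap f) := by
  obtain ⟨hc, he⟩ := hA
  refine ⟨?_, ?_⟩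
  · constructor; constructor
    rintro ⟨a, ha⟩ ⟨b, hb⟩
    apply Subtype.ext
    apply hf
    have := congrArg Subtype.val (mul_comm' (⟨f a, ha⟩ : A) ⟨f b, hb⟩)
    simp only [Subgroup.coe_mul] at this ⊢
    rw [map_mul, map_mul, this]
  · intro a ha
    apply hf
    rw [map_pow, he _ ha, map_one]

theorem IsElementaryAbelian_of_le {p : ℕ} {A B : Subgroup G} (hA : Cfsg.IsElementaryAbelian p A)
    (h : B ≤ A) : Cfsg.IsElementaryAbelian p B := by
  obtain ⟨hc, he⟩ := hA
  refine ⟨?_, fun b hb => he b (h hb)⟩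
  constructor; constructor
  rintro ⟨a, ha⟩ ⟨b, hb⟩
  apply Subtype.ext
  show a * b = b * a
  exact congrArg Subtype.val (mul_comm' (⟨a, h ha⟩ : A) ⟨b, h hb⟩)

theorem isElementaryAbelian_commute {p : ℕ} {A : Subgroup G} (hA : Cfsg.IsElementaryAbelian p A)
    {a b : G} (ha : a ∈ A) (hb : b ∈ A) : a * b = b * a :=
  congrArg Subtype.val (hA.1.is_comm.comm (⟨a, ha⟩ : A) ⟨b, hb⟩)

theorem isElementaryAbelian_isPGroup {p : ℕ} [Fact p.Prime] {A : Subgroup G}
    (hA : Cfsg.IsElementaryAbelian p A) : IsPGroup p A := by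
  intro a
  refine ⟨1, ?_⟩
  apply Subtype.ext
  rw [pow_one]
  simpa using hA.2 a a.2

/-- Adjoining commuting subgroups of exponent `p`. -/
theorem IsElementaryAbelian_sup {p : ℕ} {A B : Subgroup G} (hA : Cfsg.IsElementaryAbelian p A)
    (hB : Cfsg.IsElementaryAbelian p B) (hAB : B ≤ Subgroup.centralizer (A : Set G)) :
    Cfsg.IsElementaryAbelian p (A ⊔ B) := by
  have hcomm : ∀ x ∈ (A : Set G) ∪ B, ∀ y ∈ (A : Set G) ∪ B, x * y = y * x := by
    rintro x (hx | hx) y (hy | hy)
    · exact isElementaryAbelian_commute hA hx hy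
    · exact (Subgroup.mem_centralizer_iff.1 (hAB hy) x hx)
    · exact (Subgroup.mem_centralizer_iff.1 (hAB hx) y hy).symm
    · exact isElementaryAbelian_commute hB hx hy
  have hcl : A ⊔ B = Subgroup.closure ((A : Set G) ∪ B) := by
    rw [Subgroup.closure_union, Subgroup.closure_eq, Subgroup.closure_eq]
  have hc : IsMulCommutative (Subgroup.closure ((A : Set G) ∪ B)) :=
    Subgroup.isMulCommutative_closure hcomm
  rw [hcl]
  refine ⟨hc, ?_⟩
  intro g hg
  induction hg using Subgroup.closure_induction with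
  | mem x hx =>
    rcases hx with hx | hx
    · exact hA.2 x hx
    · exact hB.2 x hx
  | one => exact one_pow p
  | mul x y hx hy ihx ihy =>
    have hxy : Commute x y :=
      congrArg Subtype.val (hc.is_comm.comm (⟨x, hx⟩ : Subgroup.closure _) ⟨y, hy⟩)
    rw [hxy.mul_pow, ihx, ihy, one_mul]
  | inv x _ ihx => rw [inv_pow, ihx, inv_one]

theorem isElementaryAbelian_zpowers {p : ℕ} {x : G} (hx : x ^ p = 1) :
    Cfsg.IsElementaryAbelian p (Subgroup.zpowers x) := by
  refine ⟨inferInstance, ?_⟩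
  intro a ha
  obtain ⟨n, rfl⟩ := Subgroup.mem_zpowers_iff.1 ha
  rw [← zpow_natCast, ← zpow_mul, mul_comm, zpow_mul, zpow_natCast, hx, one_zpow]

theorem maxElementaryAbelianSubgroups_nonempty [Finite G] (p : ℕ) :
    (Cfsg.maxElementaryAbelianSubgroups p G).Nonempty := by
  have hne : Nonempty {A : Subgroup G // Cfsg.IsElementaryAbelian p A} :=
    ⟨⟨⊥, isElementaryAbelian_bot p⟩⟩
  obtain ⟨A, hA⟩ := Finite.exists_max
    (fun A : {A : Subgroup G // Cfsg.IsElementaryAbelian p A} => Nat.card A.1)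
  exact ⟨A.1, A.2, fun B hB => hA ⟨B, hB⟩⟩

theorem le_thompsonSubgroup {p : ℕ} {A : Subgroup G}
    (hA : A ∈ Cfsg.maxElementaryAbelianSubgroups p G) : A ≤ Cfsg.thompsonSubgroup p G :=
  le_sSup hA

theorem thompsonSubgroup_characteristic [Finite G] (p : ℕ) :
    (Cfsg.thompsonSubgroup p G).Characteristic := by
  rw [Subgroup.characteristic_iff_map_le]
  intro φ
  rw [Subgroup.map_le_iff_le_comap]
  apply sSup_le
  intro A hA
  rw [← Subgroup.map_le_iff_le_comap]
  apply le_thompsonSubgroup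
  refine ⟨IsElementaryAbelian_map hA.1 _, ?_⟩
  intro B hB
  rw [Subgroup.card_map_of_injective φ.injective]
  exact hA.2 B hB

theorem thompsonSubgroup_ne_bot [Finite G] {p : ℕ} [Fact p.Prime] (h : p ∣ Nat.card G) :
    Cfsg.thompsonSubgroup p G ≠ ⊥ := by
  obtain ⟨x, hx⟩ := exists_prime_orderOf_dvd_card' p h
  obtain ⟨A, hA⟩ := maxElementaryAbelianSubgroups_nonempty (G := G) p
  have h1 := hA.2 (Subgroup.zpowers x)
    (isElementaryAbelian_zpowers (by rw [← hx, pow_orderOf_eq_one]))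
  rw [Nat.card_zpowers, hx] at h1
  intro hJ
  have h2 : A ≤ ⊥ := hJ ▸ le_thompsonSubgroup hA
  rw [le_bot_iff] at h2
  rw [h2, Subgroup.card_bot] at h1
  have := (Fact.out : p.Prime).one_lt
  omega

/-- Elements of order dividing `p` centralizing `J(G)` lie in `J(G)`. -/
theorem mem_thompsonSubgroup_of_mem_centralizer [Finite G] {p : ℕ} (x : G)
    (hx : x ∈ Subgroup.centralizer (Cfsg.thompsonSubgroup p G : Set G)) (hxp : x ^ p = 1) :
    x ∈ Cfsg.thompsonSubgroup p G := by
  obtain ⟨A, hA⟩ := maxElementaryAbelianSubgroups_nonempty (G := G) p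
  have hAJ := le_thompsonSubgroup hA
  have hB : Cfsg.IsElementaryAbelian p (A ⊔ Subgroup.zpowers x) := by
    apply IsElementaryAbelian_sup hA.1 (isElementaryAbelian_zpowers hxp)
    rw [Subgroup.zpowers_le]
    exact Subgroup.centralizer_le (SetLike.coe_subset_coe.2 hAJ) hx
  have h1 := hA.2 _ hB
  have h2 : A = A ⊔ Subgroup.zpowers x := Subgroup.eq_of_le_of_card_ge le_sup_left h1
  apply hAJ
  rw [h2]
  exact (le_sup_right : Subgroup.zpowers x ≤ _) (Subgroup.mem_zpowers x)

end Cfsg.Agent.Helper1
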