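import Mathlib
import Cfsg.Prelude.Def_PLocal
import Cfsg.Agent.Helper1.ThompsonSub

set_option autoImplicit false

/-!
Basic properties of the stable normal closure `W(S)` of `Ω₁(Z(S))`.
-/

namespace Cfsg.Agent.Helper1

universe u v

section transport

variable {S : Type u} [Group S] {S' : Type v} [Group S']

theorem thompsonSubgroup_map_equiv_le {S : Type u} [Group S] {S' : Type u} [Group S']
    (p : ℕ) (η : S ≃* S') :
    (Cfsg.thompsonSubgroup p S).map η.toMonoidHom ≤ Cfsg.thompsonSubgroup p S' := by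
  rw [Subgroup.map_le_iff_le_comap]
  apply sSup_le
  intro A hA
  rw [← Subgroup.map_le_iff_le_comap]
  apply le_thompsonSubgroup
  refine ⟨IsElementaryAbelian_map hA.1 _, ?_⟩
  intro B hB
  have h0 : Nat.card (A.map η.toMonoidHom) = Nat.card A :=
    Subgroup.card_map_of_injective η.injective
  rw [h0]
  have h1 := hA.2 (B.map η.symm.toMonoidHom) (IsElementaryAbelian_map hB _)
  have h2 : Nat.card (B.map η.symm.toMonoidHom) = Nat.card B :=
    Subgroup.card_map_of_injective η.symm.injective
  rwa [h2] at h1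

theorem thompsonSubgroup_map_equiv {S : Type u} [Group S] {S' : Type u} [Group S']
    (p : ℕ) (η : S ≃* S') :
    (Cfsg.thompsonSubgroup p S).map η.toMonoidHom = Cfsg.thompsonSubgroup p S' := by
  apply le_antisymm (thompsonSubgroup_map_equiv_le p η)
  have h := thompsonSubgroup_map_equiv_le p η.symm
  intro x hx
  exact ⟨η.symm x, h ⟨x, hx, rfl⟩, by simp⟩

theorem omegaOne_map_of_injective (p : ℕ) (H : Subgroup S) (f : S →* S')
    (hf : Function.Injective f) :
    (Cfsg.omegaOne p H).map f = Cfsg.omegaOne p (H.map f) := by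
  unfold Cfsg.omegaOne
  rw [MonoidHom.map_closure]
  congr 1
  ext y
  constructor
  · rintro ⟨x, ⟨hxH, hxp⟩, rfl⟩
    exact ⟨⟨x, hxH, rfl⟩, by rw [← map_pow, hxp, map_one]⟩
  · rintro ⟨⟨x, hxH, rfl⟩, hyp⟩
    refine ⟨x, ⟨hxH, hf ?_⟩, rfl⟩
    rw [map_pow, hyp, map_one]

theorem centralizer_map_equiv (η : S ≃* S') (K : Subgroup S) :
    (Subgroup.centralizer (K : Set S)).map η.toMonoidHom =
      Subgroup.centralizer ((K.map η.toMonoidHom : Subgroup S') : Set S') := by
  ext y
  constructor
  · rintro ⟨x, hx, rfl⟩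
    rw [Subgroup.mem_centralizer_iff]
    rintro _ ⟨k, hk, rfl⟩
    have := Subgroup.mem_centralizer_iff.1 hx k hk
    show η k * η x = η x * η k
    rw [← map_mul, ← map_mul, this]
  · intro hy
    refine ⟨η.symm y, ?_, by simp⟩
    rw [SetLike.mem_coe, Subgroup.mem_centralizer_iff]
    intro k hk
    have := Subgroup.mem_centralizer_iff.1 hy (η k) ⟨k, hk, rfl⟩
    apply η.injective
    rw [map_mul, map_mul, MulEquiv.apply_symm_apply]
    exact this

theorem center_map_equiv (η : S ≃* S') :
    (Subgroup.center S).map η.toMonoidHom = Subgroup.center S' := by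
  ext y
  constructor
  · rintro ⟨x, hx, rfl⟩
    rw [Subgroup.mem_center_iff]
    intro z
    obtain ⟨w, rfl⟩ := η.surjective z
    have := Subgroup.mem_center_iff.1 hx w
    show η w * η x = η x * η w
    rw [← map_mul, ← map_mul, this]
  · intro hy
    refine ⟨η.symm y, ?_, by simp⟩
    rw [SetLike.mem_coe, Subgroup.mem_center_iff]
    intro k
    have := Subgroup.mem_center_iff.1 hy (η k)
    apply η.injective
    rw [map_mul, map_mul, MulEquiv.apply_symm_apply]
    exact this

theorem omegaCenterThompson_map_equiv {S : Type u} [Group S] {S' : Type u} [Group S']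
    (p : ℕ) (η : S ≃* S') :
    (Cfsg.omegaCenterThompson p S).map η.toMonoidHom = Cfsg.omegaCenterThompson p S' := by
  unfold Cfsg.omegaCenterThompson
  rw [omegaOne_map_of_injective p _ _ η.injective, Subgroup.map_inf _ _ _ η.injective,
    centralizer_map_equiv, thompsonSubgroup_map_equiv]

end transport

section stable

variable {S : Type u} [Group S] {S' : Type u} [Group S'] {H : Type u} [Group H]

theorem isStableEmbedding_comp_equiv (p : ℕ) (η : S ≃* S') (τ : S' →* H)
    (h : Cfsg.IsStableEmbedding p τ) : Cfsg.IsStableEmbedding p (τ.comp η.toMonoidHom) := by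
  obtain ⟨hinj, hfin, ⟨P, hP⟩, hcent, hJ, hstab⟩ := h
  refine ⟨hinj.comp η.injective, hfin, ⟨P, ?_⟩, hcent, ?_, ?_⟩
  · have h1 : η.toMonoidHom.range = ⊤ := MonoidHom.range_eq_top.2 η.surjective
    rw [hP, MonoidHom.range_comp, h1, ← MonoidHom.range_eq_map]
  · rw [← Subgroup.map_map, thompsonSubgroup_map_equiv]; exact hJ
  · intro V _ hV
    apply hstab V
    rwa [← Subgroup.map_map, omegaCenterThompson_map_equiv] at hV

theorem closure_normal_of_conj_mem {X : Type*} [Group X] (T : Set X)
    (hT : ∀ g : X, ∀ x ∈ T, g * x * g⁻¹ ∈ T) : (Subgroup.closure T).Normal := by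
  constructor
  intro n hn g
  induction hn using Subgroup.closure_induction with
  | mem x hx => exact Subgroup.subset_closure (hT g x hx)
  | one => simp
  | mul x y _ _ ihx ihy =>
    have : g * (x * y) * g⁻¹ = (g * x * g⁻¹) * (g * y * g⁻¹) := by group
    rw [this]; exact Subgroup.mul_mem _ ihx ihy
  | inv x _ ihx =>
    have : g * x⁻¹ * g⁻¹ = (g * x * g⁻¹)⁻¹ := by group
    rw [this]; exact Subgroup.inv_mem _ ihx

theorem omegaOne_normal {X : Type*} [Group X] (p : ℕ) (K : Subgroup X) [hK : K.Normal] :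
    (Cfsg.omegaOne p K).Normal := by
  apply closure_normal_of_conj_mem
  rintro g x ⟨hxK, hxp⟩
  refine ⟨hK.conj_mem x hxK g, ?_⟩
  have : (g * x * g⁻¹) ^ p = g * x ^ p * g⁻¹ := by
    rw [conj_pow]
  rw [this, hxp, mul_one, mul_inv_cancel]

theorem omegaOne_center_le_omegaCenterThompson [Finite S] (p : ℕ) :
    Cfsg.omegaOne p (Subgroup.center S) ≤ Cfsg.omegaCenterThompson p S := by
  unfold Cfsg.omegaCenterThompson Cfsg.omegaOne
  apply Subgroup.closure_mono
  rintro x ⟨hxZ, hxp⟩
  have hxC : x ∈ Subgroup.centralizer (Cfsg.thompsonSubgroup p S : Set S) :=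
    Subgroup.center_le_centralizer _ hxZ
  exact ⟨⟨mem_thompsonSubgroup_of_mem_centralizer x hxC hxp, hxC⟩, hxp⟩

theorem omegaCenterThompson_map_normal (p : ℕ) (τ : S →* H) (h : Cfsg.IsStableEmbedding p τ) :
    ((Cfsg.omegaCenterThompson p S).map τ).Normal := by
  obtain ⟨hinj, -, -, -, hJ, -⟩ := h
  haveI := hJ
  unfold Cfsg.omegaCenterThompson
  rw [omegaOne_map_of_injective p _ _ hinj]
  have hK : (Cfsg.thompsonSubgroup p S ⊓
      Subgroup.centralizer (Cfsg.thompsonSubgroup p S : Set S)).map τ =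
      (Cfsg.thompsonSubgroup p S).map τ ⊓
        Subgroup.centralizer (((Cfsg.thompsonSubgroup p S).map τ : Subgroup H) : Set H) := by
    ext y
    simp only [Subgroup.mem_map, Subgroup.mem_inf]
    constructor
    · rintro ⟨x, ⟨hxJ, hxC⟩, rfl⟩
      refine ⟨⟨x, hxJ, rfl⟩, ?_⟩
      rw [Subgroup.mem_centralizer_iff]
      rintro _ ⟨k, hk, rfl⟩
      have := Subgroup.mem_centralizer_iff.1 hxC k hk
      rw [← map_mul, ← map_mul, this]
    · rintro ⟨⟨x, hxJ, rfl⟩, hyC⟩
      refine ⟨x, ⟨hxJ, ?_⟩, rfl⟩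
      rw [Subgroup.mem_centralizer_iff]
      intro k hk
      have := Subgroup.mem_centralizer_iff.1 hyC (τ k) ⟨k, hk, rfl⟩
      apply hinj
      rw [map_mul, map_mul, this]
  rw [hK]
  exact omegaOne_normal p _

end stable

section main

variable {S : Type u} [Group S] {S' : Type u} [Group S']

theorem stableNormalClosure_map_le (p : ℕ) (η : S ≃* S') :
    (Cfsg.stableNormalClosure p S).map η.toMonoidHom ≤ Cfsg.stableNormalClosure p S' := by
  unfold Cfsg.stableNormalClosure
  apply le_sInf
  rintro W' ⟨hW1, hW2⟩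
  rw [Subgroup.map_le_iff_le_comap]
  apply sInf_le
  refine ⟨?_, ?_⟩
  · rw [← Subgroup.map_le_iff_le_comap, omegaOne_map_of_injective p _ _ η.injective,
      center_map_equiv]
    exact hW1
  · intro H _ τ hτ
    have h1 := hW2 H (τ.comp η.symm.toMonoidHom) (isStableEmbedding_comp_equiv p η.symm τ hτ)
    have h2 : (W'.comap η.toMonoidHom).map τ = W'.map (τ.comp η.symm.toMonoidHom) := by
      rw [← Subgroup.map_map]
      congr 1
      exact Subgroup.comap_equiv_eq_map_symm η W'
    rwa [h2]

theorem stableNormalClosure_map_equiv (p : ℕ) (η : S ≃* S') :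
    (Cfsg.stableNormalClosure p S).map η.toMonoidHom = Cfsg.stableNormalClosure p S' := by
  apply le_antisymm (stableNormalClosure_map_le p η)
  have h := stableNormalClosure_map_le p η.symm
  intro x hx
  exact ⟨η.symm x, h ⟨x, hx, rfl⟩, by simp⟩

theorem stableNormalClosure_characteristic (p : ℕ) :
    (Cfsg.stableNormalClosure p S).Characteristic := by
  rw [Subgroup.characteristic_iff_map_eq]
  intro φ
  exact stableNormalClosure_map_equiv p φ

theorem omegaOne_center_le_stableNormalClosure (p : ℕ) :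
    Cfsg.omegaOne p (Subgroup.center S) ≤ Cfsg.stableNormalClosure p S :=
  le_sInf (fun _ hW => hW.1)

theorem stableNormalClosure_le_omegaCenterThompson [Finite S] (p : ℕ) :
    Cfsg.stableNormalClosure p S ≤ Cfsg.omegaCenterThompson p S :=
  sInf_le ⟨omegaOne_center_le_omegaCenterThompson p,
    fun _ _ τ hτ => omegaCenterThompson_map_normal p τ hτ⟩

theorem stableNormalClosure_ne_bot [Finite S] {p : ℕ} [hp : Fact p.Prime] (hS : IsPGroup p S)
    [Nontrivial S] : Cfsg.stableNormalClosure p S ≠ ⊥ := by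
  haveI : Nontrivial (Subgroup.center S) := hS.center_nontrivial
  obtain ⟨n, hn, hcard⟩ := (hS.to_subgroup (Subgroup.center S)).nontrivial_iff_card.1 inferInstance
  have hdvd : p ∣ Nat.card (Subgroup.center S) := by
    rw [hcard]; exact dvd_pow_self p (by omega)
  obtain ⟨x, hx⟩ := exists_prime_orderOf_dvd_card' p hdvd
  have hx1 : (x : S) ∈ Cfsg.omegaOne p (Subgroup.center S) := by
    apply Subgroup.subset_closure
    refine ⟨x.2, ?_⟩
    rw [← hx, ← Subgroup.orderOf_coe, pow_orderOf_eq_one]
  intro hbot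
  have hx2 := omegaOne_center_le_stableNormalClosure p hx1
  rw [hbot, Subgroup.mem_bot] at hx2
  have hx3 : x = 1 := Subtype.ext hx2
  rw [hx3, orderOf_one] at hx
  exact hp.out.one_lt.ne hx

end main

end Cfsg.Agent.Helper1
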