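import Mathlib
import Cfsg.Prelude.Def_PLocal
import Cfsg.Agent.Helper1.Basic
import Cfsg.Agent.Helper1.Coprime
import Cfsg.Agent.Helper1.Fitting
import Cfsg.Agent.Helper1.Fitting2
import Cfsg.Agent.Helper1.StableNormalClosure

set_option autoImplicit false

/-!
Thompson factorizability and the quotient by the `p'`-core.
-/

namespace Cfsg.Agent.Helper1

open scoped Pointwise

universe u

variable {G : Type u} [Group G]

section lift

variable [Finite G] (K : Subgroup G) [hKn : K.Normal]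

/-- lifting normalizers of `p`-subgroups through a normal `p'`-subgroup -/
theorem normalizer_map_mk'_le {p : ℕ} [Fact p.Prime] (J : Subgroup G) (hJ : IsPGroup p J)
    (hK : (Nat.card K).Coprime p) :
    Subgroup.normalizer ((J.map (QuotientGroup.mk' K) : Subgroup (G ⧸ K)) : Set (G ⧸ K)) ≤
      (Subgroup.normalizer (J : Set G)).map (QuotientGroup.mk' K) := by
  intro y hy
  obtain ⟨g, rfl⟩ := QuotientGroup.mk_surjective y
  have hcop : (Nat.card K).Coprime (Nat.card J) := by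
    obtain ⟨k, hk⟩ := IsPGroup.iff_card.1 hJ
    rw [hk]; exact Nat.Coprime.pow_right k hK
  have hB : MulAut.conj g • J ≤ K ⊔ J := by
    intro x hx
    rw [mem_conj_smul] at hx
    have h1 : (QuotientGroup.mk' K) (g⁻¹ * x * g) ∈ J.map (QuotientGroup.mk' K) := ⟨_, hx, rfl⟩
    have h2 := (Subgroup.mem_normalizer_iff.1 hy _).1 h1
    have h3 : (QuotientGroup.mk' K) x ∈ J.map (QuotientGroup.mk' K) := by
      have h4 : (QuotientGroup.mk' K) x =
          (g : G ⧸ K) * (QuotientGroup.mk' K) (g⁻¹ * x * g) * (g : G ⧸ K)⁻¹ := by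
        show (QuotientGroup.mk' K) x = (QuotientGroup.mk' K) g * (QuotientGroup.mk' K) (g⁻¹ * x * g) *
          ((QuotientGroup.mk' K) g)⁻¹
        rw [← map_inv, ← map_mul, ← map_mul]
        congr 1; group
      rw [h4]; exact h2
    have h4 : x ∈ (J.map (QuotientGroup.mk' K)).comap (QuotientGroup.mk' K) := h3
    rw [Subgroup.comap_map_eq, QuotientGroup.ker_mk', sup_comm] at h4
    exact h4
  have hJn : J ≤ Subgroup.normalizer (K : Set G) := by
    rw [Subgroup.normalizer_eq_top K]; exact le_top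
  haveI : Group.IsNilpotent J := hJ.isNilpotent
  obtain ⟨k, hk, hkJ⟩ := sz_conj_internal K J (MulAut.conj g • J) hJn hB (card_conj_smul g J) hcop
    (Or.inr inferInstance)
  refine ⟨k⁻¹ * g, ?_, ?_⟩
  · apply mem_normalizer_of_conj_smul_eq
    rw [map_mul, mul_smul, ← hkJ, ← mul_smul, ← map_mul, inv_mul_cancel, map_one, one_smul]
  · show (QuotientGroup.mk' K) (k⁻¹ * g) = (QuotientGroup.mk' K) g
    rw [map_mul, map_inv]
    have : (QuotientGroup.mk' K) k = 1 := (QuotientGroup.eq_one_iff k).2 hk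
    rw [this, inv_one, one_mul]

/-- lifting centralizers of `p`-subgroups through a normal `p'`-subgroup -/
theorem centralizer_map_mk'_le {p : ℕ} [Fact p.Prime] (V : Subgroup G) (hV : IsPGroup p V)
    (hK : (Nat.card K).Coprime p) :
    Subgroup.centralizer ((V.map (QuotientGroup.mk' K) : Subgroup (G ⧸ K)) : Set (G ⧸ K)) ≤
      (Subgroup.centralizer (V : Set G)).map (QuotientGroup.mk' K) := by
  intro y hy
  have hyN : y ∈ Subgroup.normalizer ((V.map (QuotientGroup.mk' K) : Subgroup (G ⧸ K)) :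
      Set (G ⧸ K)) := Subgroup.centralizer_le_normalizer _ hy
  obtain ⟨h, hhN, rfl⟩ := normalizer_map_mk'_le K V hV hK hyN
  refine ⟨h, ?_, rfl⟩
  have hcop : (Nat.card V).Coprime (Nat.card K) := by
    obtain ⟨k, hk⟩ := IsPGroup.iff_card.1 hV
    rw [hk]; exact (Nat.Coprime.pow_right k hK).symm
  have hdisj : V ⊓ K = ⊥ := inf_eq_bot_of_coprime_card hcop
  rw [SetLike.mem_coe, Subgroup.mem_centralizer_iff]
  intro v hv
  have h1 : h * v * h⁻¹ ∈ V := (Subgroup.mem_normalizer_iff.1 hhN v).1 hv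
  have h2 : (QuotientGroup.mk' K) (h * v * h⁻¹ * v⁻¹) = 1 := by
    have h3 := Subgroup.mem_centralizer_iff.1 hy ((QuotientGroup.mk' K) v) ⟨v, hv, rfl⟩
    rw [map_mul, map_mul, map_mul, map_inv, map_inv, ← h3]
    group
  have h4 : h * v * h⁻¹ * v⁻¹ ∈ V ⊓ K :=
    ⟨V.mul_mem h1 (V.inv_mem hv), (QuotientGroup.eq_one_iff _).1 h2⟩
  rw [hdisj, Subgroup.mem_bot] at h4
  have h5 : h * v = v * h := by
    have := congrArg (· * (v * h)) h4
    simpa [mul_assoc] using this
  exact h5.symm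

end lift

section transport

variable (K : Subgroup G) [hKn : K.Normal]

/-- the quotient map restricted to a subgroup meeting `K` trivially is an isomorphism onto the
image -/
noncomputable def mapEquivOfDisjoint (P : Subgroup G) (h : P ⊓ K = ⊥) :
    P ≃* P.map (QuotientGroup.mk' K) :=
  MulEquiv.ofBijective ((QuotientGroup.mk' K).subgroupMap P)
    ⟨by
      rw [injective_iff_map_eq_one]
      intro x hx
      have h1 : (QuotientGroup.mk' K) (x : G) = 1 := congrArg Subtype.val hx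
      have h2 : (x : G) ∈ P ⊓ K := ⟨x.2, (QuotientGroup.eq_one_iff _).1 h1⟩
      rw [h, Subgroup.mem_bot] at h2
      exact Subtype.ext h2,
    (QuotientGroup.mk' K).subgroupMap_surjective P⟩

theorem thompsonSubgroupOf_map_mk' (p : ℕ) (P : Subgroup G) (h : P ⊓ K = ⊥) :
    Cfsg.thompsonSubgroupOf p (P.map (QuotientGroup.mk' K)) =
      (Cfsg.thompsonSubgroupOf p P).map (QuotientGroup.mk' K) := by
  unfold Cfsg.thompsonSubgroupOf
  rw [← thompsonSubgroup_map_equiv p (mapEquivOfDisjoint K P h), Subgroup.map_map, Subgroup.map_map]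
  congr 1

theorem omegaOne_map_of_disjoint {G' : Type*} [Group G'] (p : ℕ) (H : Subgroup G) (f : G →* G')
    (h : H ⊓ f.ker = ⊥) : (Cfsg.omegaOne p H).map f = Cfsg.omegaOne p (H.map f) := by
  unfold Cfsg.omegaOne
  rw [MonoidHom.map_closure]
  congr 1
  ext y
  constructor
  · rintro ⟨x, ⟨hxH, hxp⟩, rfl⟩
    exact ⟨⟨x, hxH, rfl⟩, by rw [← map_pow, hxp, map_one]⟩
  · rintro ⟨⟨x, hxH, rfl⟩, hyp⟩
    refine ⟨x, ⟨hxH, ?_⟩, rfl⟩
    have h0 : x ^ p ∈ f.ker := by rw [MonoidHom.mem_ker, map_pow]; exact hyp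
    have h1 : x ^ p ∈ H ⊓ f.ker := ⟨H.pow_mem hxH p, h0⟩
    rw [h, Subgroup.mem_bot] at h1
    exact h1

theorem center_map_mk' (P : Subgroup G) (h : P ⊓ K = ⊥) :
    P.map (QuotientGroup.mk' K) ⊓
        Subgroup.centralizer ((P.map (QuotientGroup.mk' K) : Subgroup (G ⧸ K)) : Set (G ⧸ K)) =
      (P ⊓ Subgroup.centralizer (P : Set G)).map (QuotientGroup.mk' K) := by
  ext y
  simp only [Subgroup.mem_map, Subgroup.mem_inf]
  constructor
  · rintro ⟨⟨x, hxP, rfl⟩, hyC⟩
    refine ⟨x, ⟨hxP, ?_⟩, rfl⟩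
    rw [Subgroup.mem_centralizer_iff]
    intro s hs
    have h3 := Subgroup.mem_centralizer_iff.1 hyC ((QuotientGroup.mk' K) s) ⟨s, hs, rfl⟩
    have h2 : (QuotientGroup.mk' K) (s * x * (x * s)⁻¹) = 1 := by
      rw [map_mul, map_mul, h3, ← map_mul, ← map_mul, mul_inv_cancel, map_one]
    have h4 : s * x * (x * s)⁻¹ ∈ P ⊓ K :=
      ⟨P.mul_mem (P.mul_mem hs hxP) (P.inv_mem (P.mul_mem hxP hs)),
        (QuotientGroup.eq_one_iff _).1 h2⟩
    rw [h, Subgroup.mem_bot] at h4
    exact mul_inv_eq_one.1 h4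
  · rintro ⟨x, ⟨hxP, hxC⟩, rfl⟩
    refine ⟨⟨x, hxP, rfl⟩, ?_⟩
    rw [Subgroup.mem_centralizer_iff]
    rintro _ ⟨s, hs, rfl⟩
    have := Subgroup.mem_centralizer_iff.1 hxC s hs
    rw [← map_mul, ← map_mul, this]

theorem omegaOne_center_map_mk' (p : ℕ) (P : Subgroup G) (h : P ⊓ K = ⊥) :
    Cfsg.omegaOne p (P.map (QuotientGroup.mk' K) ⊓
        Subgroup.centralizer ((P.map (QuotientGroup.mk' K) : Subgroup (G ⧸ K)) : Set (G ⧸ K))) =
      (Cfsg.omegaOne p (P ⊓ Subgroup.centralizer (P : Set G))).map (QuotientGroup.mk' K) := by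
  rw [center_map_mk' K P h, omegaOne_map_of_disjoint]
  rw [QuotientGroup.ker_mk', eq_bot_iff, ← h]
  exact inf_le_inf_right _ inf_le_left

end transport

section main

theorem omegaOne_le (p : ℕ) (H : Subgroup G) : Cfsg.omegaOne p H ≤ H := by
  unfold Cfsg.omegaOne
  rw [Subgroup.closure_le]
  exact fun x hx => hx.1

theorem thompsonFactorizable_iff_quotient [Finite G] {p : ℕ} [Fact p.Prime] :
    Cfsg.IsThompsonFactorizable p G ↔
      Cfsg.IsThompsonFactorizable p (G ⧸ Cfsg.pPrimeCore p G) := by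
  have hKcop : (Nat.card (Cfsg.pPrimeCore p G)).Coprime p := card_pPrimeCore_coprime p
  have hπs : Function.Surjective (QuotientGroup.mk' (Cfsg.pPrimeCore p G)) :=
    QuotientGroup.mk'_surjective _
  have hdisj : ∀ S : Sylow p G, (S : Subgroup G) ⊓ Cfsg.pPrimeCore p G = ⊥ := by
    intro S
    apply inf_eq_bot_of_coprime_card
    obtain ⟨k, hk⟩ := IsPGroup.iff_card.1 S.isPGroup'
    rw [hk]; exact (Nat.Coprime.pow_right k hKcop).symm
  constructor
  · intro hTF Sb gb
    obtain ⟨S, rfl⟩ := Sylow.mapSurjective_surjective hπs p Sb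
    obtain ⟨g, rfl⟩ := QuotientGroup.mk_surjective gb
    obtain ⟨x, hx, c, hc, n, hn, rfl⟩ := hTF S g
    refine ⟨1, Subgroup.one_mem _, (QuotientGroup.mk' _) c, ?_, (QuotientGroup.mk' _) n, ?_, ?_⟩
    · rw [Sylow.coe_mapSurjective, omegaOne_center_map_mk' (Cfsg.pPrimeCore p G) p S (hdisj S)]
      rw [Subgroup.mem_centralizer_iff]
      rintro _ ⟨v, hv, rfl⟩
      have := Subgroup.mem_centralizer_iff.1 hc v hv
      rw [← map_mul, ← map_mul, this]
    · rw [Sylow.coe_mapSurjective, thompsonSubgroupOf_map_mk' (Cfsg.pPrimeCore p G) p S (hdisj S)]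
      exact Subgroup.le_normalizer_map _ ⟨n, hn, rfl⟩
    · rw [one_mul]
      show (QuotientGroup.mk' _) (x * c * n) = _
      have hx1 : (QuotientGroup.mk' (Cfsg.pPrimeCore p G)) x = 1 := (QuotientGroup.eq_one_iff x).2 hx
      rw [map_mul, map_mul, hx1, one_mul]
  · intro hTF S g
    obtain ⟨xb, hxb, cb, hcb, nb, hnb, hg⟩ :=
      hTF (S.mapSurjective hπs) ((QuotientGroup.mk' _) g)
    rw [pPrimeCore_quotient_pPrimeCore, Subgroup.mem_bot] at hxb
    subst hxb
    rw [Sylow.coe_mapSurjective, omegaOne_center_map_mk' (Cfsg.pPrimeCore p G) p S (hdisj S)] at hcb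
    rw [Sylow.coe_mapSurjective, thompsonSubgroupOf_map_mk' (Cfsg.pPrimeCore p G) p S (hdisj S)] at hnb
    have hV : IsPGroup p (Cfsg.omegaOne p ((S : Subgroup G) ⊓
        Subgroup.centralizer ((S : Subgroup G) : Set G))) :=
      S.isPGroup'.to_le ((omegaOne_le p _).trans inf_le_left)
    have hJ : IsPGroup p (Cfsg.thompsonSubgroupOf p (S : Subgroup G)) :=
      S.isPGroup'.to_le (Subgroup.map_subtype_le _)
    obtain ⟨c, hc, rfl⟩ := centralizer_map_mk'_le (Cfsg.pPrimeCore p G) _ hV hKcop hcb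
    obtain ⟨n, hn, rfl⟩ := normalizer_map_mk'_le (Cfsg.pPrimeCore p G) _ hJ hKcop hnb
    refine ⟨g * (c * n)⁻¹, ?_, c, hc, n, hn, by group⟩
    rw [one_mul, ← map_mul] at hg
    have h1 : (QuotientGroup.mk' (Cfsg.pPrimeCore p G)) (g * (c * n)⁻¹) = 1 := by
      rw [map_mul, hg, ← map_mul, mul_inv_cancel, map_one]
    exact (QuotientGroup.eq_one_iff _).1 h1

end main

end Cfsg.Agent.Helper1
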