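import Mathlib
import Cfsg.Agent.Helper1.Basic
import Cfsg.Agent.Helper1.SZ
import Cfsg.Agent.Helper1.Coprime
import Cfsg.Agent.Helper1.SylowInt

set_option autoImplicit false

/-!
Characteristic subgroups of a subgroup are normalized by its normalizer; actions trivial
on the Frattini quotient.
-/

namespace Cfsg.Agent.Helper1

open scoped Pointwise commutatorElement

universe u

variable {G : Type u} [Group G]

/-- conjugation by an element of the normalizer, as an automorphism of `K`. -/
def conjNormalizer (K : Subgroup G) (g : G) (hg : g ∈ Subgroup.normalizer (K : Set G)) :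
    K ≃* K where
  toFun k := ⟨g * k * g⁻¹, (Subgroup.mem_normalizer_iff.1 hg k).1 k.2⟩
  invFun k := ⟨g⁻¹ * k * g, by
    have := (Subgroup.mem_normalizer_iff.1 (inv_mem hg) k).1 k.2
    simpa using this⟩
  left_inv k := by ext; simp [mul_assoc]
  right_inv k := by ext; simp [mul_assoc]
  map_mul' x y := by ext; simp [mul_assoc]

@[simp]
theorem conjNormalizer_coe (K : Subgroup G) (g : G) (hg : g ∈ Subgroup.normalizer (K : Set G))
    (k : K) : ((conjNormalizer K g hg k : K) : G) = g * k * g⁻¹ := rfl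

theorem le_normalizer_map_of_characteristic (K : Subgroup G) (C : Subgroup K)
    [hC : C.Characteristic] :
    Subgroup.normalizer (K : Set G) ≤
      Subgroup.normalizer ((C.map K.subtype : Subgroup G) : Set G) := by
  have key : ∀ g ∈ Subgroup.normalizer (K : Set G), ∀ x ∈ C.map K.subtype,
      g * x * g⁻¹ ∈ C.map K.subtype := by
    intro g hg x hx
    obtain ⟨c, hc, rfl⟩ := hx
    refine ⟨conjNormalizer K g hg c, ?_, rfl⟩
    have h1 := Subgroup.characteristic_iff_map_eq.1 hC (conjNormalizer K g hg)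
    rw [SetLike.mem_coe, ← h1]
    exact Subgroup.mem_map_of_mem _ hc
  intro g hg
  rw [Subgroup.mem_normalizer_iff]
  intro x
  refine ⟨key g hg x, fun h => ?_⟩
  have := key g⁻¹ (inv_mem hg) _ h
  simpa [mul_assoc] using this

/-- An action trivial on the Frattini quotient and coprime to the Frattini subgroup is trivial. -/
theorem frattini_coprime_trivial [Finite G] (A K : Subgroup G)
    (hAK : A ≤ Subgroup.normalizer (K : Set G))
    (hcop : (Nat.card A).Coprime (Nat.card (frattini K)))
    (htriv : ∀ a ∈ A, ∀ k ∈ K, a * k * a⁻¹ * k⁻¹ ∈ (frattini K).map K.subtype) :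
    A ≤ Subgroup.centralizer (K : Set G) := by
  set Φ := (frattini K).map K.subtype with hΦ
  have hΦK : Φ ≤ K := Subgroup.map_subtype_le _
  have hNΦ : Subgroup.normalizer (K : Set G) ≤ Subgroup.normalizer (Φ : Set G) :=
    le_normalizer_map_of_characteristic K (frattini K)
  have hKΦ : K ≤ Subgroup.normalizer (Φ : Set G) := Subgroup.le_normalizer.trans hNΦ
  have hcardΦ : Nat.card Φ = Nat.card (frattini K) := card_map_subtype K _
  -- the other commutator also lies in Φ
  have htriv' : ∀ a ∈ A, ∀ k ∈ K, k * a * k⁻¹ * a⁻¹ ∈ Φ := by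
    intro a ha k hk
    have h1 := htriv a ha k⁻¹ (K.inv_mem hk)
    have h2 := (Subgroup.mem_normalizer_iff.1 (hKΦ hk) _).1 h1
    have h3 : k * (a * k⁻¹ * a⁻¹ * k⁻¹⁻¹) * k⁻¹ = k * a * k⁻¹ * a⁻¹ := by group
    rwa [h3] at h2
  intro a ha
  set B := Subgroup.zpowers a with hB
  have hBA : B ≤ A := by rw [hB, Subgroup.zpowers_le]; exact ha
  have hBΦ : B ≤ Subgroup.normalizer (Φ : Set G) := hBA.trans (hAK.trans hNΦ)
  have hcopB : (Nat.card Φ).Coprime (Nat.card B) := by
    rw [hcardΦ]
    exact (hcop.coprime_dvd_left (Subgroup.card_dvd_of_le hBA)).symm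
  have hdisj : Φ ⊓ B = ⊥ := inf_eq_bot_of_coprime_card hcopB
  have haB : a ∈ B := Subgroup.mem_zpowers a
  have hsolvB : Group.IsSolvable B := Group.isSolvable_of_comm (fun x y => mul_comm' x y)
  have hclaim : ∀ k ∈ K, ∃ n ∈ Φ, (n⁻¹ * k) * a = a * (n⁻¹ * k) := by
    intro k hk
    have hsub : MulAut.conj k • B ≤ Φ ⊔ B := by
      intro x hx
      rw [mem_conj_smul] at hx
      set b := k⁻¹ * x * k with hb
      have hx' : x = (k * b * k⁻¹ * b⁻¹) * b := by rw [hb]; group
      rw [hx']
      exact Subgroup.mul_mem _ (Subgroup.mem_sup_left (htriv' b (hBA hx) k hk))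
        (Subgroup.mem_sup_right hx)
    obtain ⟨n, hn, hnB⟩ := sz_conj_internal Φ B (MulAut.conj k • B) hBΦ hsub (card_conj_smul k B)
      hcopB (Or.inr hsolvB)
    refine ⟨n, hn, ?_⟩
    set g := n⁻¹ * k with hg
    have hgK : g ∈ K := K.mul_mem (K.inv_mem (hΦK hn)) hk
    have hgB : MulAut.conj g • B = B := by
      rw [hg, map_mul, mul_smul, ← hnB, ← mul_smul, ← map_mul, inv_mul_cancel, map_one, one_smul]
    have h1 : g * a * g⁻¹ ∈ B := by
      have := conj_mem_conj_smul (g := g) haB
      rwa [hgB] at this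
    have h2 : g * a * g⁻¹ * a⁻¹ ∈ Φ ⊓ B :=
      ⟨htriv' a ha g hgK, B.mul_mem h1 (B.inv_mem haB)⟩
    rw [hdisj, Subgroup.mem_bot] at h2
    have h3 := congrArg (· * (a * g)) h2
    simpa [mul_assoc] using h3
  -- Frattini argument
  set H := (Subgroup.centralizer ({a} : Set G)).subgroupOf K with hH
  have hsup : H ⊔ frattini K = ⊤ := by
    rw [eq_top_iff]
    intro k _
    obtain ⟨n, hn, hcomm⟩ := hclaim k k.2
    obtain ⟨n', hn', rfl⟩ := hn
    have h1 : n'⁻¹ * k ∈ H := by
      rw [hH, Subgroup.mem_subgroupOf, Subgroup.mem_centralizer_singleton_iff]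
      exact hcomm
    have h2 : k = n' * (n'⁻¹ * k) := by group
    rw [h2]
    exact Subgroup.mul_mem _ (Subgroup.mem_sup_right hn') (Subgroup.mem_sup_left h1)
  have hHtop : H = ⊤ := frattini_nongenerating hsup
  rw [Subgroup.mem_centralizer_iff]
  intro k hk
  have h1 : (⟨k, hk⟩ : K) ∈ H := by rw [hHtop]; exact Subgroup.mem_top _
  rw [hH, Subgroup.mem_subgroupOf, Subgroup.mem_centralizer_singleton_iff] at h1
  exact h1

end Cfsg.Agent.Helper1
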