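import Mathlib
import Cfsg.Prelude.Def_Transfer
import Cfsg.Prelude.Def_Local
import Cfsg.Agent.Helper1.PNilpBasic
import Cfsg.Agent.Helper1.Cores
import Cfsg.Agent.Helper1.Fitting
import Cfsg.Agent.Helper1.ThompsonFactorQuot
import Cfsg.Agent.Helper1.SylowInt
import Cfsg.Agent.Helper4.HallHigman
import Cfsg.Agent.Helper1.PaQ
import Cfsg.Agent.Helper1.Hall

set_option autoImplicit false

/-!
The minimal-counterexample reduction in Thompson's normal `p`-complement theorem, for a pair of
characteristic `p`-functors `F₁`, `F₂`: if `N_G(F₁(P))` and `C_G(F₂(P))` have normal `p`-complements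
but `G` has none, and `G` is of least order, then `G` has a very restricted structure.
-/

namespace Cfsg.Agent.Helper1

namespace ThompsonRed

open scoped Pointwise commutatorElement

universe u

/-- A characteristic subgroup functor on groups of a fixed universe. -/
structure CharFunctor where
  W : ∀ (R : Type u) [Group R], Subgroup R
  map_equiv : ∀ {R R' : Type u} [Group R] [Group R'] (e : R ≃* R'),
    (W R).map e.toMonoidHom = W R'

namespace CharFunctor

variable (F : CharFunctor.{u})

/-- The functor applied to a subgroup, as a subgroup of the ambient group. -/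
def of {X : Type u} [Group X] (S : Subgroup X) : Subgroup X := (F.W S).map S.subtype

variable {X : Type u} [Group X]

theorem of_le (S : Subgroup X) : F.of S ≤ S := by
  rintro _ ⟨x, -, rfl⟩
  exact x.2

/-- Functoriality for homomorphisms injective on `S`. -/
theorem of_map {Y : Type u} [Group Y] (f : X →* Y) (S : Subgroup X) (h : S ⊓ f.ker = ⊥) :
    F.of (S.map f) = (F.of S).map f := by
  have hinj : Function.Injective (f.subgroupMap S) := by
    rw [injective_iff_map_eq_one]
    intro x hx
    have h1 : f (x : X) = 1 := congrArg Subtype.val hx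
    have h2 : (x : X) ∈ S ⊓ f.ker := ⟨x.2, h1⟩
    rw [h, Subgroup.mem_bot] at h2
    exact Subtype.ext h2
  let e : S ≃* S.map f := MulEquiv.ofBijective (f.subgroupMap S)
    ⟨hinj, f.subgroupMap_surjective S⟩
  unfold of
  rw [← F.map_equiv e, Subgroup.map_map, Subgroup.map_map]
  congr 1

theorem of_map_of_injective {Y : Type u} [Group Y] (f : X →* Y) (hf : Function.Injective f)
    (S : Subgroup X) : F.of (S.map f) = (F.of S).map f := by
  apply F.of_map
  rw [(MonoidHom.ker_eq_bot_iff f).2 hf, inf_bot_eq]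

theorem of_subgroupOf {S H : Subgroup X} (hSH : S ≤ H) :
    (F.of (S.subgroupOf H)).map H.subtype = F.of S := by
  rw [← F.of_map_of_injective H.subtype H.subtype_injective, Subgroup.subgroupOf_map_subtype,
    inf_eq_left.2 hSH]

theorem of_conj (g : X) (S : Subgroup X) :
    F.of (S.map (MulAut.conj g).toMonoidHom) = (F.of S).map (MulAut.conj g).toMonoidHom :=
  F.of_map_of_injective _ (MulAut.conj g).injective S

theorem normalizer_le (S : Subgroup X) :
    Subgroup.normalizer (S : Set X) ≤ Subgroup.normalizer (F.of S : Set X) := by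
  intro g hg
  have h1 : S.map (MulAut.conj g).toMonoidHom = S := by
    have := (Subgroup.mem_normalizer_iff_map_conj_eq (H := S)).1 hg
    exact this
  have h2 := F.of_conj g S
  rw [h1] at h2
  rw [Subgroup.mem_normalizer_iff_map_conj_eq]
  exact h2.symm

end CharFunctor

variable (p : ℕ) (F₁ F₂ : CharFunctor.{u})

/-- The hypothesis of Thompson-type theorems for the `p`-subgroup `P` of `G`. -/
def Hyp (G : Type u) [Group G] (P : Subgroup G) : Prop :=
  Cfsg.HasNormalPComplement p ↥(Subgroup.normalizer (F₁.of P : Set G)) ∧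
  Cfsg.HasNormalPComplement p ↥(Subgroup.centralizer (F₂.of P : Set G))

variable {p F₁ F₂} {G : Type u} [Group G]

theorem hyp_of_local [Finite G] [Fact p.Prime] (H : Subgroup G) (R : Subgroup H)
    (h1 : Cfsg.HasNormalPComplement p
      ↥(Subgroup.normalizer (F₁.of (R.map H.subtype) : Set G)))
    (h2 : Cfsg.HasNormalPComplement p
      ↥(Subgroup.centralizer (F₂.of (R.map H.subtype) : Set G))) :
    Hyp p F₁ F₂ H R := by
  constructor
  · have e1 : (Subgroup.normalizer (F₁.of R : Set H)).map H.subtype ≤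
        Subgroup.normalizer (F₁.of (R.map H.subtype) : Set G) := by
      rw [F₁.of_map_of_injective H.subtype H.subtype_injective]
      exact Subgroup.le_normalizer_map _
    have e2 := hasNormalPComplement_of_le e1 h1
    exact hasNormalPComplement_of_mulEquiv
      (Subgroup.equivMapOfInjective _ H.subtype H.subtype_injective).symm e2
  · have e1 : (Subgroup.centralizer (F₂.of R : Set H)).map H.subtype ≤
        Subgroup.centralizer (F₂.of (R.map H.subtype) : Set G) := by
      rw [F₂.of_map_of_injective H.subtype H.subtype_injective]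
      have := Subgroup.map_centralizer_le_centralizer_image (F₂.of R : Set H) H.subtype
      rwa [← Subgroup.coe_map] at this
    have e2 := hasNormalPComplement_of_le e1 h2
    exact hasNormalPComplement_of_mulEquiv
      (Subgroup.equivMapOfInjective _ H.subtype H.subtype_injective).symm e2

theorem hyp_sub [Finite G] [Fact p.Prime] {P H : Subgroup G} (hPH : P ≤ H)
    (h : Hyp p F₁ F₂ G P) : Hyp p F₁ F₂ H (P.subgroupOf H) := by
  have e : (P.subgroupOf H).map H.subtype = P := by
    rw [Subgroup.subgroupOf_map_subtype, inf_eq_left.2 hPH]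
  apply hyp_of_local
  · rw [e]; exact h.1
  · rw [e]; exact h.2

theorem hyp_conj [Finite G] [Fact p.Prime] {P : Subgroup G} (g : G)
    (h : Hyp p F₁ F₂ G P) : Hyp p F₁ F₂ G (P.map (MulAut.conj g).toMonoidHom) := by
  constructor
  · rw [F₁.of_conj, ← Subgroup.map_equiv_normalizer_eq]
    exact hasNormalPComplement_map _ _ h.1
  · rw [F₂.of_conj, ← centralizer_map_equiv]
    exact hasNormalPComplement_map _ _ h.2

theorem hyp_quot [Finite G] [Fact p.Prime] (K : Subgroup G) [K.Normal]
    (hK : (Nat.card K).Coprime p) {P : Subgroup G} (hP : IsPGroup p P)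
    (h : Hyp p F₁ F₂ G P) : Hyp p F₁ F₂ (G ⧸ K) (P.map (QuotientGroup.mk' K)) := by
  have hdisj : P ⊓ (QuotientGroup.mk' K).ker = ⊥ := by
    rw [QuotientGroup.ker_mk']
    apply inf_eq_bot_of_coprime_card
    obtain ⟨k, hk⟩ := IsPGroup.iff_card.1 hP
    rw [hk]
    exact (Nat.Coprime.pow_right k hK).symm
  constructor
  · rw [F₁.of_map _ _ hdisj]
    have h1 := normalizer_map_mk'_le K (F₁.of P) (hP.to_le (F₁.of_le P)) hK
    exact hasNormalPComplement_of_le h1 (hasNormalPComplement_map _ _ h.1)
  · rw [F₂.of_map _ _ hdisj]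
    have h1 := centralizer_map_mk'_le K (F₂.of P) (hP.to_le (F₂.of_le P)) hK
    exact hasNormalPComplement_of_le h1 (hasNormalPComplement_map _ _ h.2)

theorem of_ne_bot (F : CharFunctor.{u})
    (hne : ∀ (R : Type u) [Group R] [Finite R], IsPGroup p R → Nontrivial R → F.W R ≠ ⊥)
    [Finite G] {S : Subgroup G} (hS : IsPGroup p S) (hS1 : S ≠ ⊥) : F.of S ≠ ⊥ := by
  intro h
  unfold CharFunctor.of at h
  rw [(Subgroup.map_eq_bot_iff_of_injective _ S.subtype_injective)] at h
  exact hne S hS ((Subgroup.nontrivial_iff_ne_bot S).2 hS1) h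

/-- Passing the hypothesis to the quotient by a normal `p`-subgroup. -/
theorem hyp_quotU [Finite G] [Fact p.Prime]
    (hne1 : ∀ (R : Type u) [Group R] [Finite R], IsPGroup p R → Nontrivial R → F₁.W R ≠ ⊥)
    (hne2 : ∀ (R : Type u) [Group R] [Finite R], IsPGroup p R → Nontrivial R → F₂.W R ≠ ⊥)
    (U : Subgroup G) [U.Normal] (hU : IsPGroup p U) {P : Subgroup G} (hP : IsPGroup p P)
    (hPU : P.map (QuotientGroup.mk' U) ≠ ⊥)
    (hloc : ∀ T : Subgroup G, IsPGroup p T → U < T → P ≤ Subgroup.normalizer (T : Set G) →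
      Cfsg.HasNormalPComplement p ↥(Subgroup.normalizer (T : Set G))) :
    Hyp p F₁ F₂ (G ⧸ U) (P.map (QuotientGroup.mk' U)) := by
  have hsurj : Function.Surjective (QuotientGroup.mk' U) := QuotientGroup.mk'_surjective U
  have hPbar : IsPGroup p (P.map (QuotientGroup.mk' U)) := hP.map _
  have key : ∀ F : CharFunctor.{u},
      (∀ (R : Type u) [Group R] [Finite R], IsPGroup p R → Nontrivial R → F.W R ≠ ⊥) →
      Cfsg.HasNormalPComplement p
        ↥(Subgroup.normalizer (F.of (P.map (QuotientGroup.mk' U)) : Set (G ⧸ U))) := by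
    intro F hne
    set Tb := F.of (P.map (QuotientGroup.mk' U)) with hTb
    have hTb1 : Tb ≠ ⊥ := of_ne_bot F hne hPbar hPU
    have hTbP : Tb ≤ P.map (QuotientGroup.mk' U) := F.of_le _
    set T := Tb.comap (QuotientGroup.mk' U) with hT
    have hTp : IsPGroup p T := by
      apply IsPGroup.comap_of_ker_isPGroup (hPbar.to_le hTbP)
      rw [QuotientGroup.ker_mk']
      exact hU
    have hUT : U < T := by
      have h1 : U ≤ T := by
        intro x hx
        rw [hT, Subgroup.mem_comap]
        have : (QuotientGroup.mk' U) x = 1 := by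
          rw [QuotientGroup.mk'_apply, QuotientGroup.eq_one_iff]; exact hx
        rw [this]; exact Tb.one_mem
      refine lt_of_le_of_ne h1 ?_
      intro h2
      apply hTb1
      rw [eq_bot_iff]
      intro y hy
      obtain ⟨x, rfl⟩ := hsurj y
      have hxT : x ∈ T := hy
      rw [← h2] at hxT
      rw [Subgroup.mem_bot, QuotientGroup.mk'_apply, QuotientGroup.eq_one_iff]
      exact hxT
    have hnorm : Subgroup.normalizer (T : Set G) =
        (Subgroup.normalizer (Tb : Set (G ⧸ U))).comap (QuotientGroup.mk' U) :=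
      (Subgroup.comap_normalizer_eq_of_surjective Tb hsurj).symm
    have hPN : P ≤ Subgroup.normalizer (T : Set G) := by
      rw [hnorm]
      intro x hx
      rw [Subgroup.mem_comap]
      have h1 : (QuotientGroup.mk' U) x ∈ P.map (QuotientGroup.mk' U) := ⟨x, hx, rfl⟩
      exact F.normalizer_le _ (Subgroup.le_normalizer h1)
    have h3 := hloc T hTp hUT hPN
    have h4 : Subgroup.normalizer (Tb : Set (G ⧸ U)) =
        (Subgroup.normalizer (T : Set G)).map (QuotientGroup.mk' U) := by
      rw [hnorm, Subgroup.map_comap_eq_self_of_surjective hsurj]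
    rw [h4]
    exact hasNormalPComplement_map _ _ h3
  refine ⟨key F₁ hne1, ?_⟩
  exact hasNormalPComplement_of_le (Subgroup.centralizer_le_normalizer _) (key F₂ hne2)

/-- A group with a normal series `1 ≤ U ≤ K ≤ G` of type `p`, `p'`, `p` is `p`-soluble. -/
theorem isPSolvable_of_chain [Finite G] (U K : Subgroup G) [hUn : U.Normal] [hKn : K.Normal]
    (hUK : U ≤ K) (hU : ∃ a : ℕ, Nat.card U = p ^ a) (hK : (U.relIndex K).Coprime p)
    (hG : ∃ k : ℕ, K.index = p ^ k) : Cfsg.IsPSolvable p G := by
  refine ⟨3, ![⊥, U, K, ⊤], rfl, rfl, ?_, ?_, ?_⟩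
  · rw [Fin.monotone_iff_le_succ]
    intro i
    fin_cases i
    · show (⊥ : Subgroup G) ≤ U
      exact bot_le
    · show U ≤ K
      exact hUK
    · show K ≤ (⊤ : Subgroup G)
      exact le_top
  · intro i
    fin_cases i
    · exact (inferInstance : (⊥ : Subgroup G).Normal)
    · exact hUn
    · exact hKn
    · exact (inferInstance : (⊤ : Subgroup G).Normal)
  · intro i
    fin_cases i
    · left
      obtain ⟨a, ha⟩ := hU
      refine ⟨a, ?_⟩
      show (⊥ : Subgroup G).relIndex U = p ^ a
      rw [Subgroup.relIndex_bot_left, ha]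
    · right
      exact hK
    · left
      obtain ⟨k, hk⟩ := hG
      refine ⟨k, ?_⟩
      show K.relIndex ⊤ = p ^ k
      rw [Subgroup.relIndex_top_right, hk]

/-- If a `p`-subgroup `Pb` is maximal (or everything) and `Mb` is a normal `p'`-subgroup, then `Mb`
is abelian. -/
theorem commutator_eq_bot_of_maximal [Finite G] [hp : Fact p.Prime] (Pb Mb : Subgroup G)
    [hMbn : Mb.Normal] (hPb : IsPGroup p Pb) (hMb : (Nat.card Mb).Coprime p)
    (hmax : ∀ H : Subgroup G, Pb ≤ H → H = Pb ∨ H = ⊤) : ⁅Mb, Mb⁆ = ⊥ := by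
  by_cases hMb1 : Mb = ⊥
  · rw [hMb1]; exact Subgroup.commutator_bot_left ⊥
  obtain ⟨a, ha⟩ := IsPGroup.iff_card.1 hPb
  have hcop : (Nat.card Pb).Coprime (Nat.card Mb) := by
    rw [ha]; exact (Nat.Coprime.pow_right a hMb).symm
  have hdisj : Pb ⊓ Mb = ⊥ := inf_eq_bot_of_coprime_card hcop
  -- any normalized subgroup `X ≤ Mb` with `X ≠ ⊥` satisfies `X ⊔ Pb = ⊤`, hence `X = Mb`
  have key : ∀ X : Subgroup G, X ≤ Mb → Pb ≤ Subgroup.normalizer (X : Set G) → X ≠ ⊥ → X = Mb := by
    intro X hXM hPX hX1
    have hXdisj : Pb ⊓ X = ⊥ := by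
      rw [eq_bot_iff, ← hdisj]; exact inf_le_inf_left _ hXM
    have htop : X ⊔ Pb = ⊤ := by
      rcases hmax (X ⊔ Pb) le_sup_right with h | h
      · exfalso
        apply hX1
        have hXP : X ≤ Pb := by rw [← h]; exact le_sup_left
        rw [eq_bot_iff, ← hXdisj]
        exact le_inf hXP le_rfl
      · exact h
    have htopM : Mb ⊔ Pb = ⊤ := by
      rw [eq_top_iff, ← htop]; exact sup_le_sup_right hXM _
    have c1 := card_sup_of_le_normalizer hPX hXdisj
    have c2 := card_sup_of_le_normalizer (N := Mb) (A := Pb)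
      (by rw [Subgroup.normalizer_eq_top_iff.2 hMbn]; exact le_top) hdisj
    rw [htop] at c1
    rw [htopM] at c2
    have hpos : 0 < Nat.card Pb := Nat.card_pos
    have hcard : Nat.card X = Nat.card Mb := by
      have : Nat.card Pb * Nat.card X = Nat.card Pb * Nat.card Mb := by rw [← c1, ← c2]
      exact Nat.eq_of_mul_eq_mul_left hpos this
    exact Subgroup.eq_of_le_of_card_ge hXM hcard.ge
  -- a Sylow `q`-subgroup of `Mb` invariant under `Pb`
  have hcard1 : Nat.card Mb ≠ 1 := by
    intro h
    exact hMb1 ((Subgroup.card_eq_one).1 h)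
  obtain ⟨q, hq, hqdvd⟩ := Nat.exists_prime_and_dvd hcard1
  haveI : Fact q.Prime := ⟨hq⟩
  have hPbsolv : Group.IsSolvable Pb := by
    haveI := hPb.isNilpotent
    infer_instance
  obtain ⟨Qb, hQb⟩ := exists_invariant_sylow (p := q) Pb Mb
    (by rw [Subgroup.normalizer_eq_top_iff.2 hMbn]; exact le_top) hcop (Or.inl hPbsolv)
  have hQb1 : (Qb : Subgroup Mb).map Mb.subtype ≠ ⊥ := by
    rw [Ne, Subgroup.map_eq_bot_iff_of_injective _ Mb.subtype_injective]
    exact Qb.ne_bot_of_dvd_card hqdvd
  have hQbM : (Qb : Subgroup Mb).map Mb.subtype ≤ Mb := by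
    rintro _ ⟨x, -, rfl⟩
    exact x.2
  have hQeq := key _ hQbM hQb hQb1
  have hMq : IsPGroup q Mb := by
    have h1 : IsPGroup q ((Qb : Subgroup Mb).map Mb.subtype) := Qb.2.map _
    rw [hQeq] at h1
    exact h1
  -- the derived subgroup
  by_contra hD
  have hDn : (⁅Mb, Mb⁆ : Subgroup G).Normal := inferInstance
  have hDM : ⁅Mb, Mb⁆ ≤ Mb := Subgroup.commutator_le_left Mb Mb
  have hDeq := key ⁅Mb, Mb⁆ hDM
    (by rw [Subgroup.normalizer_eq_top_iff.2 hDn]; exact le_top) hD
  -- contradiction with solvability of `Mb`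
  haveI : Nontrivial Mb := (Subgroup.nontrivial_iff_ne_bot Mb).2 hMb1
  haveI : Group.IsSolvable Mb := by
    haveI := hMq.isNilpotent
    infer_instance
  have h1 := Group.IsSolvable.commutator_lt_top_of_nontrivial Mb
  have h2 : (commutator Mb).map Mb.subtype = ⁅Mb, Mb⁆ := by
    rw [commutator_def, Subgroup.map_commutator, ← MonoidHom.range_eq_map, Subgroup.range_subtype]
  rw [hDeq] at h2
  have h3 : commutator Mb = ⊤ := by
    apply Subgroup.map_injective Mb.subtype_injective
    rw [h2, ← MonoidHom.range_eq_map, Subgroup.range_subtype]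
  exact h1.ne h3

/-- The structure of a minimal counterexample. -/
structure Struct (p : ℕ) (G : Type u) [Group G] (P : Subgroup G) : Prop where
  pPrimeCore_eq : Cfsg.pPrimeCore p G = ⊥
  cent_le : Subgroup.centralizer (Cfsg.pCore p G : Set G) ≤ Cfsg.pCore p G
  maximal : ∀ H : Subgroup G, P ≤ H → H = P ∨ H = ⊤
  not_nilp : ¬ Cfsg.HasNormalPComplement p G
  exK : ∃ K : Subgroup G, K.Normal ∧ Cfsg.pCore p G ≤ K ∧ ⁅K, K⁆ ≤ Cfsg.pCore p G ∧
      ((Cfsg.pCore p G).relIndex K).Coprime p ∧ ∃ k : ℕ, K.index = p ^ k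

/-- the exponent of `p` in the order of a subgroup -/
noncomputable def nu (p : ℕ) (L : Subgroup G) : ℕ := (Nat.card L).factorization p

theorem nu_lt_of_lt [Finite G] [hp : Fact p.Prime] {N L D : Subgroup G} (R : Sylow p N)
    (hD : IsPGroup p D) (hRD : (R : Subgroup N).map N.subtype < D) (hDL : D ≤ L) :
    nu p N < nu p L := by
  have h1 : Nat.card ((R : Subgroup N).map N.subtype) = p ^ nu p N := by
    rw [Subgroup.card_map_of_injective N.subtype_injective, R.card_eq_multiplicity]
    rfl
  obtain ⟨m, hm⟩ := IsPGroup.iff_card.1 hD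
  have h2 : p ^ nu p N < p ^ m := by
    rw [← h1, ← hm]
    exact card_lt_card_of_lt hRD
  have h3 : nu p N < m := (Nat.pow_lt_pow_iff_right hp.out.one_lt).1 h2
  have h4 : p ^ m ∣ Nat.card L := by
    rw [← hm]; exact Subgroup.card_dvd_of_le hDL
  have h5 : m ≤ nu p L :=
    (hp.out.pow_dvd_iff_le_factorization Nat.card_pos.ne').1 h4
  omega

theorem reduction [hp : Fact p.Prime]
    (hne1 : ∀ (R : Type u) [Group R] [Finite R], IsPGroup p R → Nontrivial R → F₁.W R ≠ ⊥)
    (hne2 : ∀ (R : Type u) [Group R] [Finite R], IsPGroup p R → Nontrivial R → F₂.W R ≠ ⊥)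
    (final : ∀ (G : Type u) [Group G] [Finite G] (P : Sylow p G),
      Hyp p F₁ F₂ G P → Struct p G P → False) :
    ∀ (G : Type u) [Group G] [Finite G] (P : Sylow p G), Hyp p F₁ F₂ G P →
      Cfsg.HasNormalPComplement p G := by
  suffices H : ∀ n : ℕ, ∀ (G : Type u) [Group G] [Finite G] (P : Sylow p G),
      Nat.card G = n → Hyp p F₁ F₂ G P → Cfsg.HasNormalPComplement p G from
    fun G _ _ P h => H _ G P rfl h
  intro n
  induction n using Nat.strong_induction_on with
  | _ n ih =>
  intro G _ _ P hn hyp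
  -- the hypothesis holds for every Sylow subgroup
  have hypall : ∀ P' : Sylow p G, Hyp p F₁ F₂ G P' := by
    intro P'
    obtain ⟨g, rfl⟩ := MulAction.exists_smul_eq G P P'
    have := hyp_conj (F₁ := F₁) (F₂ := F₂) g hyp
    have e : ((g • P : Sylow p G) : Subgroup G) =
        (P : Subgroup G).map (MulAut.conj g).toMonoidHom := by
      rw [Sylow.coe_subgroup_smul]; rfl
    rw [e]; exact this
  -- Step (a): `O_{p'}(G) = 1`
  by_cases hK : Cfsg.pPrimeCore p G = ⊥
  swap
  · have hKcop : (Nat.card (Cfsg.pPrimeCore p G)).Coprime p := card_pPrimeCore_coprime p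
    have hsurj : Function.Surjective (QuotientGroup.mk' (Cfsg.pPrimeCore p G)) :=
      QuotientGroup.mk'_surjective _
    have hcard : Nat.card (G ⧸ Cfsg.pPrimeCore p G) < n := by
      rw [← hn, Subgroup.card_eq_card_quotient_mul_card_subgroup (Cfsg.pPrimeCore p G)]
      have h1 : 1 < Nat.card (Cfsg.pPrimeCore p G) := by
        rw [Subgroup.one_lt_card_iff_ne_bot]; exact hK
      have h2 : 0 < Nat.card (G ⧸ Cfsg.pPrimeCore p G) := Nat.card_pos
      nlinarith
    have h3 := hyp_quot (F₁ := F₁) (F₂ := F₂) (Cfsg.pPrimeCore p G) hKcop P.2 hyp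
    have h4 := ih _ hcard (G ⧸ Cfsg.pPrimeCore p G) (P.mapSurjective hsurj) rfl
      (by rw [Sylow.coe_mapSurjective]; exact h3)
    apply hasNormalPComplement_of_ker_coprime (QuotientGroup.mk' (Cfsg.pPrimeCore p G)) hsurj _ h4
    rw [QuotientGroup.ker_mk']
    exact hKcop
  by_contra hG
  -- Step (b): choose a `p`-local failing `p`-nilpotency, maximal
  have hex : ∃ Q : Subgroup G, IsPGroup p Q ∧ Q ≠ ⊥ ∧
      ¬ Cfsg.HasNormalPComplement p ↥(Subgroup.normalizer (Q : Set G)) := by
    by_contra hcon
    push_neg at hcon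
    exact hG ((hasNormalPComplement_iff_plocal p).2 hcon)
  let f : Subgroup G → ℕ := fun Q =>
    nu p (Subgroup.normalizer (Q : Set G)) * (Nat.card G + 1) + Nat.card Q
  obtain ⟨Q, hQ𝒬, hQmax⟩ := Set.exists_max_image {Q : Subgroup G | IsPGroup p Q ∧ Q ≠ ⊥ ∧
      ¬ Cfsg.HasNormalPComplement p ↥(Subgroup.normalizer (Q : Set G))} f (Set.toFinite _) hex
  obtain ⟨hQp, hQ1, hQnil⟩ := hQ𝒬
  have hmax1 : ∀ T : Subgroup G, IsPGroup p T → T ≠ ⊥ →
      nu p (Subgroup.normalizer (Q : Set G)) < nu p (Subgroup.normalizer (T : Set G)) →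
      Cfsg.HasNormalPComplement p ↥(Subgroup.normalizer (T : Set G)) := by
    intro T hT hT1 hlt
    by_contra hcon
    have h1 : f T ≤ f Q := hQmax T ⟨hT, hT1, hcon⟩
    have hcardQ : Nat.card Q ≤ Nat.card G := Subgroup.card_le_card_group Q
    simp only [f] at h1
    nlinarith
  have hmax2 : ∀ T : Subgroup G, IsPGroup p T → T ≠ ⊥ → Nat.card Q < Nat.card T →
      nu p (Subgroup.normalizer (Q : Set G)) ≤ nu p (Subgroup.normalizer (T : Set G)) →
      Cfsg.HasNormalPComplement p ↥(Subgroup.normalizer (T : Set G)) := by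
    intro T hT hT1 hlt hle
    by_contra hcon
    have h1 : f T ≤ f Q := hQmax T ⟨hT, hT1, hcon⟩
    simp only [f] at h1
    nlinarith
  -- (b1) `Q` is normal
  have hQtop : Subgroup.normalizer (Q : Set G) = ⊤ := by
    by_contra hNtop
    set N := Subgroup.normalizer (Q : Set G) with hN
    have hcardN : Nat.card N < n := by
      rw [← hn]
      have : N < ⊤ := lt_top_iff_ne_top.2 hNtop
      have := card_lt_card_of_lt this
      rwa [Subgroup.card_top] at this
    obtain ⟨R⟩ : Nonempty (Sylow p N) := inferInstance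
    set R' := (R : Subgroup N).map N.subtype with hR'
    have hR'p : IsPGroup p R' := R.2.map _
    obtain ⟨P', hRP'⟩ := hR'p.exists_le_sylow
    have hQR' : Q ≤ R' := by
      have h1 : IsPGroup p (Q.subgroupOf N) :=
        hQp.comap_of_injective _ (Subgroup.subtype_injective _)
      haveI : (Q.subgroupOf N).Normal := Subgroup.normal_in_normalizer
      have h2 : Q.subgroupOf N ≤ R := h1.le_sylow_of_normal R
      intro x hx
      have hxN : x ∈ N := Subgroup.le_normalizer hx
      exact ⟨⟨x, hxN⟩, h2 (by rw [Subgroup.mem_subgroupOf]; exact hx), rfl⟩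
    have hR'1 : R' ≠ ⊥ := by
      intro h
      apply hQ1
      rw [eq_bot_iff, ← h]
      exact hQR'
    have key : ∀ F : CharFunctor.{u},
        (∀ (R : Type u) [Group R] [Finite R], IsPGroup p R → Nontrivial R → F.W R ≠ ⊥) →
        R' ≠ P' →
        Cfsg.HasNormalPComplement p ↥(Subgroup.normalizer (F.of R' : Set G)) := by
      intro F hne hRP
      have hlt : R' < P' := lt_of_le_of_ne hRP' hRP
      obtain ⟨x, hxP, hxN, hxR⟩ := exists_mem_normalizer_not_mem P'.2 hlt
      set D := (P' : Subgroup G) ⊓ Subgroup.normalizer (R' : Set G) with hD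
      have hDp : IsPGroup p D := P'.2.to_le inf_le_left
      have hRD : R' < D := by
        refine lt_of_le_of_ne (le_inf hRP' Subgroup.le_normalizer) ?_
        intro h
        apply hxR
        rw [h]
        exact ⟨hxP, hxN⟩
      have hDN : D ≤ Subgroup.normalizer (F.of R' : Set G) :=
        inf_le_right.trans (F.normalizer_le R')
      have hnu := nu_lt_of_lt R hDp hRD hDN
      exact hmax1 _ (hR'p.to_le (F.of_le R')) (of_ne_bot F hne hR'p hR'1) hnu
    have hypN : Hyp p F₁ F₂ N R := by
      apply hyp_of_local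
      · show Cfsg.HasNormalPComplement p ↥(Subgroup.normalizer (F₁.of R' : Set G))
        by_cases hRP : R' = P'
        · rw [hRP]; exact (hypall P').1
        · exact key F₁ hne1 hRP
      · show Cfsg.HasNormalPComplement p ↥(Subgroup.centralizer (F₂.of R' : Set G))
        by_cases hRP : R' = P'
        · rw [hRP]; exact (hypall P').2
        · exact hasNormalPComplement_of_le (Subgroup.centralizer_le_normalizer _)
            (key F₂ hne2 hRP)
    have := ih _ hcardN N R rfl hypN
    exact hQnil this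
  -- (b2) `U = O_p(G)`
  set U := Cfsg.pCore p G with hU
  have hUp : IsPGroup p U := pCore_isPGroup p
  have hQn : Q.Normal := Subgroup.normalizer_eq_top_iff.1 hQtop
  have hQU : Q ≤ U := le_pCore hQn hQp
  have hU1 : U ≠ ⊥ := by
    intro h
    apply hQ1
    rw [eq_bot_iff, ← h]; exact hQU
  have hUP : U ≤ P := pCore_le_sylow P
  have hloc : ∀ T : Subgroup G, IsPGroup p T → U < T →
      (P : Subgroup G) ≤ Subgroup.normalizer (T : Set G) →
      Cfsg.HasNormalPComplement p ↥(Subgroup.normalizer (T : Set G)) := by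
    intro T hT hUT hPT
    have hT1 : T ≠ ⊥ := by
      intro h
      rw [h] at hUT
      exact not_lt_bot hUT
    apply hmax2 T hT hT1
    · exact lt_of_le_of_lt (Subgroup.card_le_of_le hQU) (card_lt_card_of_lt hUT)
    · rw [hQtop]
      unfold nu
      have h1 : p ^ (Nat.card (⊤ : Subgroup G)).factorization p ∣
          Nat.card (Subgroup.normalizer (T : Set G)) := by
        rw [Subgroup.card_top, ← P.card_eq_multiplicity]
        exact Subgroup.card_dvd_of_le hPT
      exact (hp.out.pow_dvd_iff_le_factorization Nat.card_pos.ne').1 h1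
  -- Step (d): `G/U` has a normal `p`-complement
  have hsurj : Function.Surjective (QuotientGroup.mk' U) := QuotientGroup.mk'_surjective U
  have hcardU : Nat.card (G ⧸ U) < n := by
    rw [← hn, Subgroup.card_eq_card_quotient_mul_card_subgroup U]
    have h1 : 1 < Nat.card U := by
      rw [Subgroup.one_lt_card_iff_ne_bot]; exact hU1
    have h2 : 0 < Nat.card (G ⧸ U) := Nat.card_pos
    nlinarith
  have hquot : Cfsg.HasNormalPComplement p (G ⧸ U) := by
    by_cases hPU : (P : Subgroup G).map (QuotientGroup.mk' U) = ⊥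
    · -- `P = U`, so `G/U` is a `p'`-group
      rw [hasNormalPComplement_iff_exists]
      refine ⟨⊤, inferInstance, ?_, 0, by simp⟩
      have hPleU : (P : Subgroup G) ≤ U := by
        rw [← QuotientGroup.ker_mk' U, ← Subgroup.map_eq_bot_iff]
        exact hPU
      have hPeq : (P : Subgroup G) = U := le_antisymm hPleU hUP
      rw [Subgroup.card_top, ← Subgroup.index_eq_card, ← hPeq]
      exact ((Nat.Prime.coprime_iff_not_dvd hp.out).2 P.not_dvd_index).symm
    · have h3 := hyp_quotU (F₁ := F₁) (F₂ := F₂) hne1 hne2 U hUp P.2 hPU hloc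
      exact ih _ hcardU (G ⧸ U) (P.mapSurjective hsurj) rfl
        (by rw [Sylow.coe_mapSurjective]; exact h3)
  obtain ⟨Mb, hMbn, hMbcop, k, hMbk⟩ := hasNormalPComplement_iff_exists.1 hquot
  set K := Mb.comap (QuotientGroup.mk' U) with hKdef
  have hKn : K.Normal := hMbn.comap _
  have hUK : U ≤ K := by
    intro x hx
    rw [hKdef, Subgroup.mem_comap, QuotientGroup.mk'_apply, (QuotientGroup.eq_one_iff x).2 hx]
    exact Mb.one_mem
  have hKidx : K.index = p ^ k := by
    rw [hKdef, Subgroup.index_comap_of_surjective Mb hsurj, hMbk]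
  have hKrel : (U.relIndex K).Coprime p := by
    have h1 : Nat.card K = Nat.card Mb * Nat.card U := card_comap_mk' U Mb
    have h2 : U.relIndex K * Nat.card U = Nat.card K := relIndex_mul_card_of_le hUK
    have h3 : U.relIndex K = Nat.card Mb := by
      have hpos : 0 < Nat.card U := Nat.card_pos
      rw [h1] at h2
      exact Nat.eq_of_mul_eq_mul_right hpos h2
    rw [h3]; exact hMbcop
  -- (e1) `C_G(U) ≤ U`
  have hcent : Subgroup.centralizer (U : Set G) ≤ U := by
    have hsol : Cfsg.IsPSolvable p G :=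
      isPSolvable_of_chain U K hUK (IsPGroup.iff_card.1 hUp) hKrel ⟨k, hKidx⟩
    exact Cfsg.Agent.Helper4.centralizer_pCore_le_of_isPSolvable hsol hK
  -- (e2) `P` is a maximal subgroup
  have hPmax : ∀ H : Subgroup G, (P : Subgroup G) ≤ H → H = P ∨ H = ⊤ := by
    intro H hPH
    by_cases hH : H = ⊤
    · right; exact hH
    left
    have hcardH : Nat.card H < n := by
      rw [← hn]
      have := card_lt_card_of_lt (lt_top_iff_ne_top.2 hH)
      rwa [Subgroup.card_top] at this
    have hypH := hyp_sub (F₁ := F₁) (F₂ := F₂) hPH hyp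
    have hH' := ih _ hcardH H (P.subtype hPH) rfl (by rw [Sylow.coe_subtype]; exact hypH)
    obtain ⟨M, hMn, hMcop, j, hMj⟩ := hasNormalPComplement_iff_exists.1 hH'
    set M' := M.map H.subtype with hM'
    have hM'card : Nat.card M' = Nat.card M := Subgroup.card_map_of_injective H.subtype_injective
    have hM'U : M' ⊓ U = ⊥ := by
      apply inf_eq_bot_of_coprime_card
      obtain ⟨a, ha⟩ := IsPGroup.iff_card.1 hUp
      rw [hM'card, ha]
      exact Nat.Coprime.pow_right a hMcop
    have hUH : U ≤ H := hUP.trans hPH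
    have hUM' : U ≤ Subgroup.normalizer (M' : Set G) := by
      have h1 := Subgroup.le_normalizer_map (H := M) H.subtype
      rw [Subgroup.normalizer_eq_top_iff.2 hMn, ← MonoidHom.range_eq_map, Subgroup.range_subtype]
        at h1
      exact hUH.trans h1
    have hcomm : ⁅M', U⁆ ≤ M' ⊓ U :=
      le_inf (Subgroup.le_normalizer_iff_commutator_le_left.1 hUM') (Subgroup.commutator_le_right _ _)
    rw [hM'U, le_bot_iff, Subgroup.commutator_eq_bot_iff_le_centralizer] at hcomm
    have hM'bot : M' = ⊥ := by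
      rw [eq_bot_iff, ← hM'U]
      exact le_inf le_rfl (hcomm.trans hcent)
    have hMbot : M = ⊥ := by
      rw [hM', Subgroup.map_eq_bot_iff_of_injective _ H.subtype_injective] at hM'bot
      exact hM'bot
    -- `H` is a `p`-group containing `P`
    have hHp : IsPGroup p H := by
      apply IsPGroup.of_card (n := j)
      rw [← hMj, hMbot, Subgroup.index_bot]
    exact (P.3 hHp hPH)
  -- (f) `K/U` is abelian
  have hKK : ⁅K, K⁆ ≤ U := by
    have hPbmax : ∀ H : Subgroup (G ⧸ U), (P : Subgroup G).map (QuotientGroup.mk' U) ≤ H →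
        H = (P : Subgroup G).map (QuotientGroup.mk' U) ∨ H = ⊤ := by
      intro H hH
      have hPH : (P : Subgroup G) ≤ H.comap (QuotientGroup.mk' U) := by
        intro x hx
        rw [Subgroup.mem_comap]
        exact hH ⟨x, hx, rfl⟩
      rcases hPmax _ hPH with h | h
      · left
        rw [← Subgroup.map_comap_eq_self_of_surjective hsurj H, h]
      · right
        rw [← Subgroup.map_comap_eq_self_of_surjective hsurj H, h, ← MonoidHom.range_eq_map,
          MonoidHom.range_eq_top.2 hsurj]
    have h1 := commutator_eq_bot_of_maximal ((P : Subgroup G).map (QuotientGroup.mk' U)) Mb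
      (P.2.map _) hMbcop hPbmax
    have h2 : (⁅K, K⁆).map (QuotientGroup.mk' U) = ⊥ := by
      rw [Subgroup.map_commutator, hKdef, Subgroup.map_comap_eq_self_of_surjective hsurj, h1]
    rw [Subgroup.map_eq_bot_iff, QuotientGroup.ker_mk'] at h2
    exact h2
  exact final G P hyp ⟨hK, hcent, hPmax, hG, K, hKn, hUK, hKK, hKrel, k, hKidx⟩

end ThompsonRed

end Cfsg.Agent.Helper1
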