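import Mathlib

set_option autoImplicit false

/-!
Basic p-group tools: maximal subgroups of finite p-groups are normal of index p.
-/

namespace Cfsg.Agent.Helper1

variable {G : Type*} [Group G]

/-- A subgroup of prime index is a coatom. -/
theorem isCoatom_of_index_prime {M : Subgroup G} (h : M.index.Prime) : IsCoatom M := by
  refine ⟨fun htop => ?_, fun K hK => ?_⟩
  · rw [htop, Subgroup.index_top] at h
    exact Nat.not_prime_one h
  · have h1 : M.relIndex K * K.index = M.index := Subgroup.relIndex_mul_index hK.le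
    have h2 : K.index ∣ M.index := Dvd.intro_left _ h1
    rcases (Nat.dvd_prime h).1 h2 with h3 | h3
    · exact Subgroup.index_eq_one.1 h3
    · exfalso
      rw [h3] at h1
      have hp : 0 < M.index := h.pos
      have h4 : M.relIndex K = 1 := by
        have : M.relIndex K * M.index = 1 * M.index := by rw [h1, one_mul]
        exact Nat.eq_of_mul_eq_mul_right hp this
      have h5 : K ≤ M := Subgroup.relIndex_eq_one.1 h4
      exact (lt_irrefl M) (lt_of_lt_of_le hK h5)

theorem IsPGroup.coatom_normal [Finite G] {p : ℕ} [Fact p.Prime] (hG : IsPGroup p G)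
    {M : Subgroup G} (hM : IsCoatom M) : M.Normal := by
  have hnil : Group.IsNilpotent G := hG.isNilpotent
  have q := (Group.isNilpotent_of_finite_tfae (G := G)).out 0 2
  exact (q.1 hnil) M hM

theorem IsPGroup.coatom_index [Finite G] {p : ℕ} [hp : Fact p.Prime] (hG : IsPGroup p G)
    {M : Subgroup G} (hM : IsCoatom M) : M.index = p := by
  have : M.Normal := IsPGroup.coatom_normal hG hM
  have hQ : IsPGroup p (G ⧸ M) := hG.to_quotient M
  obtain ⟨n, hn⟩ := IsPGroup.iff_card.1 hQ
  have hcard : Nat.card (G ⧸ M) = M.index := rfl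
  have hn0 : n ≠ 0 := by
    rintro rfl
    rw [pow_zero, hcard, Subgroup.index_eq_one] at hn
    exact hM.1 hn
  have hdvd : p ^ 1 ∣ Nat.card (G ⧸ M) := by
    rw [hn]; exact pow_dvd_pow p (Nat.one_le_iff_ne_zero.2 hn0)
  obtain ⟨K', hK'⟩ := Sylow.exists_subgroup_card_pow_prime p hdvd
  rw [pow_one] at hK'
  set K := K'.comap (QuotientGroup.mk' M) with hK
  have hMK : M ≤ K := by
    intro x hx
    rw [hK, Subgroup.mem_comap]
    have : (QuotientGroup.mk' M) x = 1 := (QuotientGroup.eq_one_iff x).2 hx
    rw [this]; exact K'.one_mem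
  have hmap : K.map (QuotientGroup.mk' M) = K' :=
    Subgroup.map_comap_eq_self_of_surjective (QuotientGroup.mk'_surjective M) K'
  have hne : K ≠ M := by
    intro h
    rw [h, QuotientGroup.map_mk'_self] at hmap
    rw [← hmap, Subgroup.card_bot] at hK'
    exact hp.1.one_lt.ne hK'
  have htop : K = ⊤ := hM.2 K (lt_of_le_of_ne hMK (Ne.symm hne))
  have hK'top : K' = ⊤ := by
    rw [← hmap, htop, ← MonoidHom.range_eq_map,
      MonoidHom.range_eq_top.2 (QuotientGroup.mk'_surjective M)]
  rw [← hcard, ← hK', hK'top, Subgroup.card_top]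

theorem le_frattini_iff {H : Subgroup G} : H ≤ frattini G ↔ ∀ M : Subgroup G, IsCoatom M → H ≤ M := by
  simp only [frattini, Order.radical, le_iInf_iff, Set.mem_ofPred_eq]

theorem mem_frattini_iff {x : G} : x ∈ frattini G ↔ ∀ M : Subgroup G, IsCoatom M → x ∈ M := by
  simp only [frattini, Order.radical, Subgroup.mem_iInf, Set.mem_ofPred_eq]

theorem IsPGroup.commutator_le_coatom [Finite G] {p : ℕ} [hp : Fact p.Prime] (hG : IsPGroup p G)
    {M : Subgroup G} (hM : IsCoatom M) : commutator G ≤ M := by
  have : M.Normal := IsPGroup.coatom_normal hG hM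
  have hidx := IsPGroup.coatom_index hG hM
  have hcard : Nat.card (G ⧸ M) = p := hidx
  have hcyc : IsCyclic (G ⧸ M) := isCyclic_of_prime_card hcard
  have hcomm : IsMulCommutative (G ⧸ M) := IsCyclic.isMulCommutative
  exact Subgroup.Normal.quotient_commutative_iff_commutator_le.1 hcomm

theorem IsPGroup.pow_mem_coatom [Finite G] {p : ℕ} [hp : Fact p.Prime] (hG : IsPGroup p G)
    {M : Subgroup G} (hM : IsCoatom M) (x : G) : x ^ p ∈ M := by
  have : M.Normal := IsPGroup.coatom_normal hG hM
  have hidx := IsPGroup.coatom_index hG hM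
  have hcard : Nat.card (G ⧸ M) = p := hidx
  have h1 : ((x : G ⧸ M)) ^ p = 1 := by
    rw [← hcard]; exact pow_card_eq_one'
  rw [← QuotientGroup.mk_pow] at h1
  exact (QuotientGroup.eq_one_iff _).1 h1

theorem IsPGroup.commutator_le_frattini [Finite G] {p : ℕ} [hp : Fact p.Prime] (hG : IsPGroup p G) :
    commutator G ≤ frattini G :=
  le_frattini_iff.2 fun _ hM => IsPGroup.commutator_le_coatom hG hM

theorem IsPGroup.pow_mem_frattini [Finite G] {p : ℕ} [hp : Fact p.Prime] (hG : IsPGroup p G) (x : G) :
    x ^ p ∈ frattini G :=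
  mem_frattini_iff.2 fun _ hM => IsPGroup.pow_mem_coatom hG hM x

end Cfsg.Agent.Helper1
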