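import Mathlib
import Cfsg.Prelude.Def_Solvable
import Cfsg.Agent.Helper1.Basic
import Cfsg.Agent.Helper1.PGroup
import Cfsg.Agent.Helper1.Coprime
import Cfsg.Agent.Helper1.Fitting
import Cfsg.Agent.Helper1.Fitting2

set_option autoImplicit false

/-!
Minimal normal subgroups, complements and the Frattini subgroup.
-/

namespace Cfsg.Agent.Helper1

open scoped Pointwise

universe u

variable {G : Type u} [Group G]

/-- a normal subgroup complemented via sup/inf. -/
theorem isComplement'_of_sup_inf [Finite G] (N H : Subgroup G) [N.Normal] (hsup : H ⊔ N = ⊤)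
    (hinf : H ⊓ N = ⊥) : Subgroup.IsComplement' N H := by
  apply Subgroup.isComplement'_of_card_mul_and_disjoint
  · rw [mul_comm, ← card_sup_of_disjoint_normal H N hinf, hsup, Subgroup.card_top]
  · rw [disjoint_iff, inf_comm]; exact hinf

theorem abelian_le_normalizer_of_le {N X : Subgroup G} (hN : IsMulCommutative N) (hX : X ≤ N) :
    N ≤ Subgroup.normalizer (X : Set G) :=
  (Subgroup.le_centralizer_iff_isMulCommutative.2 hN).trans
    ((Subgroup.centralizer_le hX).trans (Subgroup.centralizer_le_normalizer _))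

theorem normal_of_sup_le_normalizer {U N X : Subgroup G} (hsup : U ⊔ N = ⊤)
    (h1 : U ≤ Subgroup.normalizer (X : Set G)) (h2 : N ≤ Subgroup.normalizer (X : Set G)) :
    X.Normal := by
  apply Subgroup.normalizer_eq_top_iff.1
  rw [eq_top_iff, ← hsup]
  exact sup_le h1 h2

theorem le_normalizer_of_normal (X N : Subgroup G) [hN : N.Normal] :
    X ≤ Subgroup.normalizer (N : Set G) := by
  rw [Subgroup.normalizer_eq_top]; exact le_top

/-- centralizer of a normal subgroup against a core-free maximal subgroup. -/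
theorem centralizer_inf_corefree_max [Finite G] (U : Subgroup G) (hU : IsCoatom U)
    (hcore : U.normalCore = ⊥) (N : Subgroup G) [hNn : N.Normal] (hN : N ≠ ⊥) :
    Subgroup.centralizer (N : Set G) ⊓ U = ⊥ ∧
      (Subgroup.centralizer (N : Set G) = ⊥ ∨ (Subgroup.centralizer (N : Set G) ≠ ⊥ ∧
        ∀ K : Subgroup G, K.Normal → K ≤ Subgroup.centralizer (N : Set G) →
          K = ⊥ ∨ K = Subgroup.centralizer (N : Set G))) := by
  have hnotle : ∀ K : Subgroup G, K.Normal → K ≠ ⊥ → U ⊔ K = ⊤ := by
    intro K hKn hK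
    apply hU.2 _ (lt_of_le_of_ne le_sup_left _)
    intro h
    have h1 : K ≤ U := by rw [h]; exact le_sup_right
    have := Subgroup.normal_le_normalCore.2 h1
    rw [hcore, le_bot_iff] at this
    exact hK this
  set C := Subgroup.centralizer (N : Set G) with hC
  have hCn : C.Normal := inferInstance
  have hCU : C ⊓ U = ⊥ := by
    have hn : (C ⊓ U).Normal := by
      apply normal_of_sup_le_normalizer (hnotle N hNn hN)
      · exact le_normalizer_inf (le_normalizer_of_normal U C) Subgroup.le_normalizer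
      · exact (Subgroup.le_centralizer_iff.1 (inf_le_left : C ⊓ U ≤ C)).trans
          (Subgroup.centralizer_le_normalizer _)
    have := Subgroup.normal_le_normalCore.2 (inf_le_right : C ⊓ U ≤ U)
    rwa [hcore, le_bot_iff] at this
  refine ⟨hCU, ?_⟩
  by_cases hCb : C = ⊥
  · exact Or.inl hCb
  · refine Or.inr ⟨hCb, fun K hKn hKC => ?_⟩
    by_cases hKb : K = ⊥
    · exact Or.inl hKb
    · right
      apply le_antisymm hKC
      intro c hc
      have hc' : c ∈ K ⊔ U := by rw [sup_comm, hnotle K hKn hKb]; exact Subgroup.mem_top c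
      obtain ⟨k, hk, u, hu, rfl⟩ := mem_sup_of_le_normalizer (le_normalizer_of_normal U K) hc'
      have huC : u ∈ C := by
        have := C.mul_mem (C.inv_mem (hKC hk)) hc
        simpa using this
      have hu1 : u ∈ C ⊓ U := ⟨huC, hu⟩
      rw [hCU, Subgroup.mem_bot] at hu1
      rw [hu1, mul_one]; exact hk

/-- An abelian minimal normal subgroup is complemented iff it is not in the Frattini subgroup. -/
theorem minimal_normal_complemented_iff [Finite G] (N : Subgroup G) [hNn : N.Normal]
    [hNc : IsMulCommutative N] (hN : N ≠ ⊥)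
    (hmin : ∀ M : Subgroup G, M.Normal → M ≤ N → M = ⊥ ∨ M = N) :
    (∃ H : Subgroup G, Subgroup.IsComplement' N H) ↔ ¬ N ≤ frattini G := by
  constructor
  · rintro ⟨H, hH⟩ hle
    have h1 : H ⊔ frattini G = ⊤ := by
      rw [eq_top_iff, ← hH.sup_eq_top, sup_comm]
      exact sup_le_sup_left hle H
    have h2 : H = ⊤ := frattini_nongenerating h1
    have h3 := hH.disjoint.eq_bot
    rw [h2, inf_top_eq] at h3
    exact hN h3
  · intro hle
    rw [le_frattini_iff] at hle
    push Not at hle
    obtain ⟨M, hM, hNM⟩ := hle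
    have hsup : M ⊔ N = ⊤ := hM.2 _ (lt_of_le_of_ne le_sup_left
      (fun h => hNM (by rw [h]; exact le_sup_right)))
    have hn : (M ⊓ N).Normal := by
      apply normal_of_sup_le_normalizer hsup
      · exact le_normalizer_inf Subgroup.le_normalizer (le_normalizer_of_normal M N)
      · exact abelian_le_normalizer_of_le hNc inf_le_right
    have hinf : M ⊓ N = ⊥ := by
      rcases hmin _ hn inf_le_right with h | h
      · exact h
      · exact absurd (h ▸ inf_le_left : N ≤ M) hNM
    exact ⟨M, isComplement'_of_sup_inf N M hsup hinf⟩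

/-- If `Φ(G) = 1` then every abelian normal subgroup is complemented. -/
theorem abelian_normal_complemented_of_frattini_eq_bot [Finite G] (hΦ : frattini G = ⊥)
    (A : Subgroup G) [hAn : A.Normal] [hAc : IsMulCommutative A] :
    ∃ H : Subgroup G, Subgroup.IsComplement' A H := by
  let 𝒮 : Set (Subgroup G) := {H | H ⊔ A = ⊤}
  have htop : (⊤ : Subgroup G) ∈ 𝒮 := top_sup_eq A
  obtain ⟨H, -, hHmin⟩ := (Set.toFinite 𝒮).exists_le_minimal htop
  have hsup : H ⊔ A = ⊤ := hHmin.prop
  have hDn : (H ⊓ A).Normal := by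
    apply normal_of_sup_le_normalizer hsup
    · exact le_normalizer_inf Subgroup.le_normalizer (le_normalizer_of_normal H A)
    · exact abelian_le_normalizer_of_le hAc inf_le_right
  have hD : H ⊓ A ≤ frattini G := by
    rw [le_frattini_iff]
    intro M hM
    by_contra hDM
    have hMD : M ⊔ (H ⊓ A) = ⊤ := hM.2 _ (lt_of_le_of_ne le_sup_left
      (fun h => hDM (by rw [h]; exact le_sup_right)))
    have hmem : H ⊓ M ∈ 𝒮 := by
      change (H ⊓ M) ⊔ A = ⊤
      rw [eq_top_iff]
      intro g _
      have hg : g ∈ A ⊔ H := by rw [sup_comm, hsup]; exact Subgroup.mem_top g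
      obtain ⟨a, ha, h, hh, rfl⟩ := mem_sup_of_le_normalizer (le_normalizer_of_normal H A) hg
      have hh' : h ∈ (H ⊓ A) ⊔ M := by rw [sup_comm, hMD]; exact Subgroup.mem_top h
      obtain ⟨d, hd, m, hm, rfl⟩ := mem_sup_of_le_normalizer (le_normalizer_of_normal M (H ⊓ A)) hh'
      have hmH : m ∈ H := by
        have := H.mul_mem (H.inv_mem hd.1) hh
        simpa using this
      have : a * (d * m) = (a * d) * m := by group
      rw [this]
      exact Subgroup.mul_mem _ (Subgroup.mem_sup_right (A.mul_mem ha hd.2))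
        (Subgroup.mem_sup_left ⟨hmH, hm⟩)
    have hHM : H ≤ H ⊓ M := hHmin.2 hmem inf_le_left
    exact hDM (inf_le_left.trans (hHM.trans inf_le_right))
  rw [hΦ, le_bot_iff] at hD
  exact ⟨H, isComplement'_of_sup_inf A H hsup hD⟩

/-- If `Φ(G) = 1` then `F(G)` is the join of the abelian minimal normal subgroups. -/
theorem fittingSubgroup_eq_sSup_of_frattini_eq_bot [Finite G] (hΦ : frattini G = ⊥) :
    Cfsg.fittingSubgroup G = sSup {N : Subgroup G | N.Normal ∧ N ≠ ⊥ ∧ IsMulCommutative N ∧
      ∀ K : Subgroup G, K.Normal → K ≤ N → K = ⊥ ∨ K = N} := by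
  set 𝒩 := {N : Subgroup G | N.Normal ∧ N ≠ ⊥ ∧ IsMulCommutative N ∧
      ∀ K : Subgroup G, K.Normal → K ≤ N → K = ⊥ ∨ K = N} with h𝒩
  set F := Cfsg.fittingSubgroup G with hF
  set S := sSup 𝒩 with hS
  have hSF : S ≤ F := by
    apply sSup_le
    rintro N ⟨hNn, -, hNc, -⟩
    have : Group.IsNilpotent N := by
      let _ : CommGroup N := { (inferInstance : Group N) with mul_comm := fun a b => mul_comm' a b }
      exact CommGroup.isNilpotent
    exact le_fittingSubgroup hNn this
  have hFS : F ≤ Subgroup.centralizer (S : Set G) := by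
    rw [Subgroup.le_centralizer_iff]
    apply sSup_le
    rintro N ⟨hNn, hNne, -, hNmin⟩
    rw [← Subgroup.le_centralizer_iff]
    exact fittingSubgroup_le_centralizer_of_minimal_normal N hNne hNmin
  have hSn : S.Normal := Subgroup.sSup_normal _ (fun _ h => h.1)
  have hSc : IsMulCommutative S :=
    Subgroup.le_centralizer_iff_isMulCommutative.1 (hSF.trans hFS)
  obtain ⟨H, hH⟩ := abelian_normal_complemented_of_frattini_eq_bot hΦ S
  have hsup : H ⊔ S = ⊤ := by rw [sup_comm]; exact hH.sup_eq_top
  have hinf : S ⊓ H = ⊥ := hH.disjoint.eq_bot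
  -- D = F ⊓ H is normal
  have hDn : (F ⊓ H).Normal := by
    apply normal_of_sup_le_normalizer hsup
    · exact le_normalizer_inf (le_normalizer_of_normal H F) Subgroup.le_normalizer
    · exact (Subgroup.le_centralizer_iff.1 (inf_le_left.trans hFS)).trans
        (Subgroup.centralizer_le_normalizer _)
  have hDbot : F ⊓ H = ⊥ := by
    by_contra hne
    let 𝒦 : Set (Subgroup G) := {K | K.Normal ∧ K ≠ ⊥ ∧ K ≤ F ⊓ H}
    obtain ⟨N, -, hNmin⟩ := (Set.toFinite 𝒦).exists_le_minimal (show F ⊓ H ∈ 𝒦 from ⟨hDn, hne, le_rfl⟩)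
    obtain ⟨hNn, hNne, hND⟩ : N ∈ 𝒦 := hNmin.prop
    have hNminimal : ∀ K : Subgroup G, K.Normal → K ≤ N → K = ⊥ ∨ K = N := by
      intro K hK hKN
      by_cases hKb : K = ⊥
      · exact Or.inl hKb
      · exact Or.inr (le_antisymm hKN (hNmin.2 ⟨hK, hKb, hKN.trans hND⟩ hKN))
    have hNc : IsMulCommutative N := by
      have := hNn
      apply Subgroup.le_centralizer_iff_isMulCommutative.1
      exact (hND.trans inf_le_left).trans
        (fittingSubgroup_le_centralizer_of_minimal_normal N hNne hNminimal)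
    have hNS : N ≤ S := le_sSup ⟨hNn, hNne, hNc, hNminimal⟩
    have : N ≤ S ⊓ H := le_inf hNS (hND.trans inf_le_right)
    rw [hinf, le_bot_iff] at this
    exact hNne this
  apply le_antisymm _ hSF
  intro f hf
  have hf' : f ∈ S ⊔ H := by rw [sup_comm, hsup]; exact Subgroup.mem_top f
  obtain ⟨s, hs, h, hh, rfl⟩ := mem_sup_of_le_normalizer (le_normalizer_of_normal H S) hf'
  have hhF : h ∈ F := by
    have := F.mul_mem (F.inv_mem (hSF hs)) hf
    simpa using this
  have hh1 : h ∈ F ⊓ H := ⟨hhF, hh⟩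
  rw [hDbot, Subgroup.mem_bot] at hh1
  rw [hh1, mul_one]; exact hs

end Cfsg.Agent.Helper1
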