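import Mathlib
import Cfsg.Prelude.Def_Solvable
import Cfsg.Agent.Helper1.Basic
import Cfsg.Agent.Helper1.SZ
import Cfsg.Agent.Helper1.Coprime
import Cfsg.Agent.Helper1.Hall
import Cfsg.Agent.Helper1.Fitting
import Cfsg.Agent.Helper1.Fitting2

set_option autoImplicit false

/-!
Core-free maximal subgroups of finite solvable groups are conjugate.
-/

namespace Cfsg.Agent.Helper1

open scoped Pointwise

universe u

variable {G : Type u} [Group G]

theorem normalizer_conj_smul (g : G) (H : Subgroup G) :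
    Subgroup.normalizer ((MulAut.conj g • H : Subgroup G) : Set G) =
      MulAut.conj g • Subgroup.normalizer (H : Set G) :=
  (Subgroup.map_equiv_normalizer_eq H (MulAut.conj g)).symm

/-- existence of an abelian minimal normal subgroup in a nontrivial finite solvable group. -/
theorem exists_minimal_normal_abelian (G : Type u) [Group G] [Finite G] [Group.IsSolvable G]
    [Nontrivial G] :
    ∃ (p : ℕ) (_ : Fact p.Prime) (N : Subgroup G), N.Normal ∧ N ≠ ⊥ ∧ IsPGroup p N ∧
      IsMulCommutative N ∧ ∀ K : Subgroup G, K.Normal → K ≤ N → K = ⊥ ∨ K = N := by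
  obtain ⟨p, hp, M, hMn, hMne, hMp, hMc, -⟩ := exists_normal_pgroup_of_solvable G
  let 𝒮 : Set (Subgroup G) := {N | N.Normal ∧ N ≠ ⊥ ∧ N ≤ M}
  have hM𝒮 : M ∈ 𝒮 := ⟨hMn, hMne, le_rfl⟩
  obtain ⟨N, -, hNmin⟩ := (Set.toFinite 𝒮).exists_le_minimal hM𝒮
  obtain ⟨hNn, hNne, hNM⟩ : N ∈ 𝒮 := hNmin.prop
  refine ⟨p, hp, N, hNn, hNne, hMp.to_le hNM, ?_, ?_⟩
  · exact Subgroup.le_centralizer_iff_isMulCommutative.1
      (hNM.trans ((Subgroup.le_centralizer_iff_isMulCommutative.2 hMc).trans
        (Subgroup.centralizer_le hNM)))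
  · intro K hK hKN
    by_cases hKb : K = ⊥
    · exact Or.inl hKb
    · right
      exact le_antisymm hKN (hNmin.2 ⟨hK, hKb, hKN.trans hNM⟩ hKN)

/-- Structure of a core-free maximal subgroup relative to an abelian minimal normal subgroup. -/
theorem corefree_max_compl [Finite G] (N : Subgroup G) [hNn : N.Normal] (hNne : N ≠ ⊥)
    (hNc : IsMulCommutative N) (hmin : ∀ K : Subgroup G, K.Normal → K ≤ N → K = ⊥ ∨ K = N)
    (U : Subgroup G) (hU : IsCoatom U) (hUc : U.normalCore = ⊥) :
    U ⊔ N = ⊤ ∧ U ⊓ N = ⊥ ∧ Subgroup.centralizer (N : Set G) = N := by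
  have hNU : ¬ N ≤ U := by
    intro h
    have := Subgroup.normal_le_normalCore.2 h
    rw [hUc, le_bot_iff] at this
    exact hNne this
  have hsup : U ⊔ N = ⊤ := hU.2 _ (lt_of_le_of_ne le_sup_left
    (fun h => hNU (by rw [h]; exact le_sup_right)))
  have hNcent : N ≤ Subgroup.centralizer (N : Set G) :=
    Subgroup.le_centralizer_iff_isMulCommutative.2 hNc
  -- a subgroup normalized by `U` and `N` is normal
  have hnormal : ∀ X : Subgroup G, U ≤ Subgroup.normalizer (X : Set G) →
      N ≤ Subgroup.normalizer (X : Set G) → X.Normal := by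
    intro X h1 h2
    apply Subgroup.normalizer_eq_top_iff.1
    rw [eq_top_iff, ← hsup]
    exact sup_le h1 h2
  have hinf : U ⊓ N = ⊥ := by
    have hn : (U ⊓ N).Normal := by
      apply hnormal
      · exact le_normalizer_inf Subgroup.le_normalizer
          (by rw [Subgroup.normalizer_eq_top]; exact le_top)
      · refine hNcent.trans ((Subgroup.centralizer_le ?_).trans
          (Subgroup.centralizer_le_normalizer _))
        exact inf_le_right
    rcases hmin _ hn inf_le_right with h | h
    · exact h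
    · exact absurd (h ▸ inf_le_left : N ≤ U) hNU
  refine ⟨hsup, hinf, ?_⟩
  set C := Subgroup.centralizer (N : Set G) with hC
  have hCn : C.Normal := inferInstance
  have hCU : C ⊓ U = ⊥ := by
    have hn : (C ⊓ U).Normal := by
      apply hnormal
      · exact le_normalizer_inf (by rw [Subgroup.normalizer_eq_top]; exact le_top)
          Subgroup.le_normalizer
      · refine (Subgroup.le_centralizer_iff.1 (inf_le_left : C ⊓ U ≤ C)).trans
          (Subgroup.centralizer_le_normalizer _)
    have := Subgroup.normal_le_normalCore.2 (inf_le_right : C ⊓ U ≤ U)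
    rwa [hUc, le_bot_iff] at this
  apply le_antisymm _ hNcent
  intro c hc
  have hc' : c ∈ U ⊔ N := by rw [hsup]; exact Subgroup.mem_top c
  obtain ⟨n, hn, u, hu, rfl⟩ := mem_sup_of_le_normalizer
    (show U ≤ Subgroup.normalizer (N : Set G) by rw [Subgroup.normalizer_eq_top]; exact le_top)
    (sup_comm U N ▸ hc')
  have huC : u ∈ C := by
    have := C.mul_mem (C.inv_mem (hNcent hn)) hc
    simpa using this
  have hu1 : u ∈ C ⊓ U := ⟨huC, hu⟩
  rw [hCU, Subgroup.mem_bot] at hu1
  rw [hu1, mul_one]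
  exact hn

/-- In a finite solvable group all core-free maximal subgroups are conjugate. -/
theorem corefree_max_conj [Finite G] [Group.IsSolvable G] (U V : Subgroup G) (hU : IsCoatom U)
    (hV : IsCoatom V) (hUc : U.normalCore = ⊥) (hVc : V.normalCore = ⊥) :
    ∃ g : G, MulAut.conj g • U = V := by
  have hnt : Nontrivial G := by
    by_contra h
    rw [not_nontrivial_iff_subsingleton] at h
    exact hU.1 (Subsingleton.elim _ _)
  obtain ⟨p, hp, N, hNn, hNne, hNp, hNc, hmin⟩ := exists_minimal_normal_abelian G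
  obtain ⟨hUsup, hUinf, hCN⟩ := corefree_max_compl N hNne hNc hmin U hU hUc
  obtain ⟨hVsup, hVinf, -⟩ := corefree_max_compl N hNne hNc hmin V hV hVc
  have hQsolv : Group.IsSolvable (G ⧸ N) :=
    Group.isSolvable_of_surjective (QuotientGroup.mk'_surjective N)
  rcases subsingleton_or_nontrivial (G ⧸ N) with hs | hnt'
  · -- `N = ⊤`
    have hNtop : N = ⊤ := by
      rw [eq_top_iff]
      intro g _
      have : (QuotientGroup.mk' N g) = 1 := Subsingleton.elim _ _
      rwa [QuotientGroup.mk'_apply, QuotientGroup.eq_one_iff] at this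
    refine ⟨1, ?_⟩
    rw [map_one, one_smul]
    rw [hNtop, inf_top_eq] at hUinf hVinf
    rw [hUinf, hVinf]
  obtain ⟨q, hq, Mb, hMbn, hMbne, hMbq, -, -⟩ := exists_normal_pgroup_of_solvable (G ⧸ N)
  set M := Mb.comap (QuotientGroup.mk' N) with hM
  have hMn : M.Normal := inferInstance
  have hNM : N ≤ M := by
    intro x hx
    rw [hM, Subgroup.mem_comap, QuotientGroup.mk'_apply, (QuotientGroup.eq_one_iff x).2 hx]
    exact Mb.one_mem
  have hMcard : Nat.card M = Nat.card Mb * Nat.card N := card_comap_mk' N Mb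
  obtain ⟨a, ha⟩ := IsPGroup.iff_card.1 hNp
  obtain ⟨b, hb⟩ := IsPGroup.iff_card.1 hMbq
  have hMb1 : 1 < Nat.card Mb := (Subgroup.one_lt_card_iff_ne_bot Mb).2 hMbne
  have hqp : q ≠ p := by
    rintro rfl
    have hMp : IsPGroup q M := IsPGroup.of_card (n := b + a) (by rw [hMcard, ha, hb, pow_add])
    have hMF : M ≤ Cfsg.fittingSubgroup G := le_fittingSubgroup hMn hMp.isNilpotent
    have hle : M ≤ N := by
      rw [← hCN]
      exact hMF.trans (fittingSubgroup_le_centralizer_of_minimal_normal N hNne hmin)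
    have hMN : M = N := le_antisymm hle hNM
    rw [hMN] at hMcard
    have : Nat.card Mb = 1 := by
      have h1 : 1 * Nat.card N = Nat.card Mb * Nat.card N := by rw [one_mul]; exact hMcard
      exact (Nat.eq_of_mul_eq_mul_right Nat.card_pos h1).symm
    omega
  -- the intersections with `M`
  have hcardMX : ∀ X : Subgroup G, X ⊔ N = ⊤ → X ⊓ N = ⊥ → Nat.card (M ⊓ X : Subgroup G) = q ^ b := by
    intro X hXsup hXinf
    have h1 : (M ⊓ X) ⊔ N = M := by
      apply le_antisymm (sup_le inf_le_left hNM)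
      intro m hm
      have hm' : m ∈ N ⊔ X := by rw [sup_comm, hXsup]; exact Subgroup.mem_top m
      obtain ⟨n, hn, x, hx, rfl⟩ := mem_sup_of_le_normalizer
        (show X ≤ Subgroup.normalizer (N : Set G) by rw [Subgroup.normalizer_eq_top]; exact le_top)
        hm'
      have hxM : x ∈ M := by
        have := M.mul_mem (M.inv_mem (hNM hn)) hm
        simpa using this
      exact Subgroup.mul_mem _ (Subgroup.mem_sup_right hn) (Subgroup.mem_sup_left ⟨hxM, hx⟩)
    have h2 : (M ⊓ X) ⊓ N = ⊥ := by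
      rw [eq_bot_iff, ← hXinf]
      exact le_inf (inf_le_left.trans inf_le_right) inf_le_right
    have h3 := card_sup_of_disjoint_normal (M ⊓ X) N h2
    rw [h1, hMcard, hb] at h3
    exact (Nat.eq_of_mul_eq_mul_right Nat.card_pos h3).symm
  have hcardMU := hcardMX U hUsup hUinf
  have hcardMV := hcardMX V hVsup hVinf
  -- Hall conjugacy inside `M`
  have hcop : (q ^ b).Coprime (p ^ a) :=
    Nat.Coprime.pow _ _ ((Nat.coprime_primes hq.out hp.out).2 hqp)
  have hMsolv : Group.IsSolvable M := inferInstance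
  obtain ⟨hC, -⟩ := (hallProp_of_solvable _ M rfl).internal (q ^ b) (p ^ a)
    (by rw [hMcard, ha, hb]) hcop
  obtain ⟨m, -, hm⟩ := hC (M ⊓ U) (M ⊓ V) inf_le_left inf_le_left hcardMU hcardMV
  -- normalizers
  have hnorm : ∀ X : Subgroup G, IsCoatom X → X.normalCore = ⊥ →
      Nat.card (M ⊓ X : Subgroup G) = q ^ b →
      Subgroup.normalizer ((M ⊓ X : Subgroup G) : Set G) = X := by
    intro X hX hXc hXcard
    have h1 : X ≤ Subgroup.normalizer ((M ⊓ X : Subgroup G) : Set G) :=
      le_normalizer_inf (by rw [Subgroup.normalizer_eq_top]; exact le_top) Subgroup.le_normalizer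
    by_contra hne
    have h2 := hX.2 _ (lt_of_le_of_ne h1 (Ne.symm hne))
    have h3 : (M ⊓ X).Normal := Subgroup.normalizer_eq_top_iff.1 h2
    have h4 := Subgroup.normal_le_normalCore.2 (inf_le_right : M ⊓ X ≤ X)
    rw [hXc, le_bot_iff] at h4
    rw [h4, Subgroup.card_bot, ← hb] at hXcard
    omega
  refine ⟨m, ?_⟩
  rw [← hnorm U hU hUc hcardMU, ← hnorm V hV hVc hcardMV, ← hm, normalizer_conj_smul]

end Cfsg.Agent.Helper1
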