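import Mathlib
import Cfsg.Agent.Helper1.Basic
import Cfsg.Agent.Helper1.SZ
import Cfsg.Agent.Helper1.Hall

set_option autoImplicit false

/-!
Maximal subgroups of finite solvable groups.
-/

namespace Cfsg.Agent.Helper1

open scoped Pointwise

universe u

/-- the image of a maximal subgroup containing the kernel is maximal. -/
theorem isCoatom_map_mk' {G : Type u} [Group G] (N M : Subgroup G) [N.Normal] (hNM : N ≤ M)
    (hM : IsCoatom M) : IsCoatom (M.map (QuotientGroup.mk' N)) := by
  have hπ : Function.Surjective (QuotientGroup.mk' N) := QuotientGroup.mk'_surjective N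
  have hker : (QuotientGroup.mk' N).ker ≤ M := by rw [QuotientGroup.ker_mk']; exact hNM
  have hcm : (M.map (QuotientGroup.mk' N)).comap (QuotientGroup.mk' N) = M :=
    Subgroup.comap_map_eq_self hker
  constructor
  · intro h
    rw [h, Subgroup.comap_top] at hcm
    exact hM.1 hcm.symm
  · intro K hK
    have h1 : M ≤ K.comap (QuotientGroup.mk' N) := by
      rw [← hcm]; exact Subgroup.comap_mono hK.le
    have h2 : M ≠ K.comap (QuotientGroup.mk' N) := by
      intro h
      have := congrArg (Subgroup.map (QuotientGroup.mk' N)) h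
      rw [Subgroup.map_comap_eq_self_of_surjective hπ] at this
      exact hK.ne this
    have h3 := hM.2 _ (lt_of_le_of_ne h1 h2)
    have := congrArg (Subgroup.map (QuotientGroup.mk' N)) h3
    rwa [Subgroup.map_comap_eq_self_of_surjective hπ, Subgroup.map_top_of_surjective _ hπ] at this

theorem isPrimePow_index_of_isCoatom : ∀ (k : ℕ) (G : Type u) [Group G] [Finite G]
    [Group.IsSolvable G], Nat.card G = k → ∀ M : Subgroup G, IsCoatom M → IsPrimePow M.index := by
  intro k
  induction k using Nat.strong_induction_on with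
  | _ k ih =>
  intro G _ _ _ hk M hM
  have hnt : Nontrivial G := by
    by_contra h
    rw [not_nontrivial_iff_subsingleton] at h
    exact hM.1 (Subsingleton.elim _ _)
  obtain ⟨p, hp, N, hNn, hNne, hNp, -, -⟩ := exists_normal_pgroup_of_solvable G
  by_cases hNM : N ≤ M
  · -- pass to the quotient
    have hcardG : Nat.card G = Nat.card (G ⧸ N) * Nat.card N :=
      Subgroup.card_eq_card_quotient_mul_card_subgroup N
    have hN1 : 1 < Nat.card N := (Subgroup.one_lt_card_iff_ne_bot N).2 hNne
    have hQlt : Nat.card (G ⧸ N) < k := by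
      rw [← hk, hcardG]
      exact lt_mul_of_one_lt_right Nat.card_pos hN1
    have hQsolv : Group.IsSolvable (G ⧸ N) :=
      Group.isSolvable_of_surjective (QuotientGroup.mk'_surjective N)
    have h1 := ih _ hQlt (G ⧸ N) rfl _ (isCoatom_map_mk' N M hNM hM)
    have hker : (QuotientGroup.mk' N).ker ≤ M := by rw [QuotientGroup.ker_mk']; exact hNM
    rwa [Subgroup.index_map_eq M (QuotientGroup.mk'_surjective N) hker] at h1
  · -- `M N = G`
    have hsup : M ⊔ N = ⊤ := hM.2 _ (lt_of_le_of_ne le_sup_left
      (fun h => hNM (by rw [h]; exact le_sup_right)))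
    have h1 : Nat.card G = N.relIndex M * Nat.card N := by
      rw [← Subgroup.card_top (G := G), ← hsup,
        ← relIndex_mul_card_of_le (le_sup_right : N ≤ M ⊔ N), Subgroup.relIndex_sup_right]
    have h2 : N.relIndex M * Nat.card (N ⊓ M : Subgroup G) = Nat.card M := by
      rw [← Subgroup.inf_relIndex_right]
      exact relIndex_mul_card_of_le inf_le_right
    have h3 : M.index * Nat.card M = Nat.card G := M.index_mul_card
    have hrpos : 0 < N.relIndex M := by
      rcases Nat.eq_zero_or_pos (N.relIndex M) with h | h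
      · rw [h, zero_mul] at h2
        exact absurd h2.symm Nat.card_pos.ne'
      · exact h
    have h4 : M.index * Nat.card (N ⊓ M : Subgroup G) = Nat.card N := by
      apply Nat.eq_of_mul_eq_mul_left hrpos
      rw [← h1, ← h3, ← h2]
      ring
    obtain ⟨e, he⟩ := IsPGroup.iff_card.1 hNp
    have hdvd : M.index ∣ p ^ e := he ▸ Dvd.intro _ h4
    obtain ⟨m, -, hm⟩ := (Nat.dvd_prime_pow hp.out).1 hdvd
    have hm0 : m ≠ 0 := by
      rintro rfl
      rw [pow_zero, Subgroup.index_eq_one] at hm
      exact hM.1 hm
    exact ⟨p, m, hp.out.prime, Nat.pos_of_ne_zero hm0, hm.symm⟩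

end Cfsg.Agent.Helper1
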