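import Mathlib
import Cfsg.Agent.Helper1.Basic
import Cfsg.Agent.Helper1.SZ
import Cfsg.Agent.Helper1.Hall
import Cfsg.Agent.Helper1.PGroup
import Cfsg.Agent.Helper1.CoreFree
import Cfsg.Agent.Helper1.MaxSub
import Cfsg.Agent.Helper1.Card
import Cfsg.Agent.Helper1.MinNormal

set_option autoImplicit false

/-!
Solvable groups all of whose maximal subgroups are Hall subgroups.
-/

namespace Cfsg.Agent.Helper1

open scoped Pointwise

universe u

/-- the preimage of a maximal subgroup of a quotient is maximal. -/
theorem isCoatom_comap_mk' {G : Type u} [Group G] (N : Subgroup G) [N.Normal]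
    (M : Subgroup (G ⧸ N)) (hM : IsCoatom M) : IsCoatom (M.comap (QuotientGroup.mk' N)) := by
  have hπ : Function.Surjective (QuotientGroup.mk' N) := QuotientGroup.mk'_surjective N
  have hNle : N ≤ M.comap (QuotientGroup.mk' N) := by
    intro x hx
    rw [Subgroup.mem_comap, QuotientGroup.mk'_apply, (QuotientGroup.eq_one_iff x).2 hx]
    exact M.one_mem
  constructor
  · intro htop
    apply hM.1
    rw [← Subgroup.map_comap_eq_self_of_surjective hπ M, htop, ← MonoidHom.range_eq_map]
    exact (QuotientGroup.mk' N).range_eq_top_of_surjective hπ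
  · intro K hK
    have h1 : M ≤ K.map (QuotientGroup.mk' N) := by
      rw [← Subgroup.map_comap_eq_self_of_surjective hπ M]
      exact Subgroup.map_mono hK.le
    have h2 : M ≠ K.map (QuotientGroup.mk' N) := by
      intro h
      apply hK.not_ge
      rw [h]
      exact Subgroup.le_comap_map _ _
    have h3 : K.map (QuotientGroup.mk' N) = ⊤ := hM.2 _ (lt_of_le_of_ne h1 h2)
    have h4 := congrArg (Subgroup.comap (QuotientGroup.mk' N)) h3
    rw [Subgroup.comap_map_eq, QuotientGroup.ker_mk', Subgroup.comap_top,
      sup_of_le_left (hNle.trans hK.le)] at h4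
    exact h4

theorem exists_normal_sylow_of_hall_max : ∀ (k : ℕ) (G : Type u) [Group G] [Finite G]
    [Group.IsSolvable G] [Nontrivial G], Nat.card G = k →
    (∀ M : Subgroup G, IsCoatom M → (Nat.card M).Coprime M.index) →
    ∃ p : ℕ, p.Prime ∧ p ∣ Nat.card G ∧ ∀ P : Sylow p G, (P : Subgroup G).Normal := by
  intro k
  induction k using Nat.strong_induction_on with
  | _ k ih =>
  intro G _ _ _ _ hk h
  obtain ⟨r, hr, N, hNn, hNne, hNr, -, -⟩ := exists_minimal_normal_abelian G
  have hrdvd : r ∣ Nat.card N := by
    obtain ⟨n, hn⟩ := IsPGroup.iff_card.1 hNr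
    have hn0 : n ≠ 0 := by
      rintro rfl
      rw [pow_zero] at hn
      exact hNne (Subgroup.card_eq_one.1 hn)
    rw [hn]; exact dvd_pow_self r hn0
  have hrG : r ∣ Nat.card G := hrdvd.trans (Subgroup.card_subgroup_dvd_card N)
  by_cases hcase : ∀ M : Subgroup G, IsCoatom M → N ≤ M
  · -- N ≤ Φ(G)
    have hNΦ : N ≤ frattini G := le_frattini_iff.2 hcase
    rcases subsingleton_or_nontrivial (G ⧸ N) with hs | hnt
    · -- G = N
      have hNtop : N = ⊤ := by
        rw [eq_top_iff]
        intro x _
        exact (QuotientGroup.eq_one_iff x).1 (Subsingleton.elim _ _)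
      have hGr : IsPGroup r G := by
        intro g
        obtain ⟨n, hn⟩ := hNr ⟨g, hNtop ▸ Subgroup.mem_top g⟩
        exact ⟨n, by simpa using congrArg Subtype.val hn⟩
      refine ⟨r, hr.out, hrG, fun P => ?_⟩
      have : (P : Subgroup G) = ⊤ := by
        have h1 : IsPGroup r (⊤ : Subgroup G) := hGr.to_subgroup _
        exact (P.is_maximal' h1 le_top).symm
      rw [this]; infer_instance
    · have hlt : Nat.card (G ⧸ N) < k := by
        rw [← hk, ← Subgroup.index_eq_card, ← N.card_mul_index]
        have h1 : 1 < Nat.card N := by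
          rw [Nat.one_lt_iff_ne_zero_and_ne_one]
          exact ⟨Nat.card_pos.ne', fun h1 => hNne (Subgroup.card_eq_one.1 h1)⟩
        have h2 : 0 < N.index := Nat.pos_of_ne_zero Subgroup.index_ne_zero_of_finite
        nlinarith
      have hquot : ∀ M : Subgroup (G ⧸ N), IsCoatom M → (Nat.card M).Coprime M.index := by
        intro M hM
        have h1 := h _ (isCoatom_comap_mk' N M hM)
        rw [card_comap_mk', Subgroup.index_comap_of_surjective _ (QuotientGroup.mk'_surjective N)] at h1
        exact Nat.Coprime.coprime_mul_right h1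
      obtain ⟨q, hq, hqdvd, hqn⟩ := ih _ hlt (G ⧸ N) rfl hquot
      have : Fact q.Prime := ⟨hq⟩
      refine ⟨q, hq, ?_, fun Q => ?_⟩
      · rw [← Subgroup.index_eq_card] at hqdvd
        exact hqdvd.trans (Subgroup.index_dvd_card N)
      · have h1 := hqn (Q.mapSurjective (QuotientGroup.mk'_surjective N))
        rw [Sylow.coe_mapSurjective] at h1
        have h2 : (((Q : Subgroup G).map (QuotientGroup.mk' N)).comap (QuotientGroup.mk' N)).Normal :=
          h1.comap _
        rw [Subgroup.comap_map_eq, QuotientGroup.ker_mk'] at h2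
        have h3 := Sylow.normalizer_sup_eq_top' Q (le_sup_left : (Q : Subgroup G) ≤ (Q : Subgroup G) ⊔ N)
        have h4 : Subgroup.normalizer ((Q : Subgroup G) : Set G) ⊔ frattini G = ⊤ := by
          rw [eq_top_iff, ← h3]
          apply sup_le le_sup_left
          apply sup_le (Subgroup.le_normalizer.trans le_sup_left) (hNΦ.trans le_sup_right)
        have h5 := frattini_nongenerating h4
        exact Subgroup.normalizer_eq_top_iff.1 h5
  · -- some maximal subgroup avoids N
    push Not at hcase
    obtain ⟨M, hM, hNM⟩ := hcase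
    have hsup : M ⊔ N = ⊤ := by
      apply hM.2
      apply lt_of_le_of_ne le_sup_left
      intro heq
      apply hNM
      rw [heq]; exact le_sup_right
    have hcop := h M hM
    -- index of M is a power of r
    have hidx : M.index ∣ Nat.card N := by
      have h1 : M.relIndex N ∣ Nat.card N := Subgroup.relIndex_dvd_card M N
      have h2 : M.relIndex (N ⊔ M) = M.relIndex N :=
        relIndex_sup_of_le_normalizer' (le_normalizer_of_normal M N)
      rw [sup_comm, hsup, Subgroup.relIndex_top_right] at h2
      rw [h2]; exact h1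
    obtain ⟨n, hn⟩ := IsPGroup.iff_card.1 hNr
    refine ⟨r, hr.out, hrG, fun P => ?_⟩
    have hNP : N ≤ (P : Subgroup G) := hNr.le_sylow_of_normal P
    -- card P ∣ index M
    have hcardP : Nat.card (P : Subgroup G) ∣ M.index := by
      rw [P.card_eq_multiplicity]
      have h1 : r ^ (Nat.card G).factorization r ∣ Nat.card M * M.index := by
        rw [M.card_mul_index]; exact Nat.ordProj_dvd _ _
      have hMr : (Nat.card M).Coprime r := by
        -- r ∣ index M (index > 1), coprime with card M
        have hidx1 : M.index ≠ 1 := fun h1 => hM.1 (Subgroup.index_eq_one.1 h1)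
        obtain ⟨j, -, hj⟩ := (Nat.dvd_prime_pow hr.out).1 (hn ▸ hidx)
        have hj0 : j ≠ 0 := by
          rintro rfl
          exact hidx1 (by rw [hj, pow_zero])
        have : r ∣ M.index := by rw [hj]; exact dvd_pow_self r hj0
        exact Nat.Coprime.coprime_dvd_right this hcop
      exact (Nat.Coprime.pow_left _ hMr.symm).dvd_of_dvd_mul_left h1
    have hle : Nat.card (P : Subgroup G) ≤ Nat.card N :=
      Nat.le_of_dvd Nat.card_pos (hcardP.trans hidx)
    have hPN : (P : Subgroup G) = N := by
      symm
      apply Subgroup.eq_of_le_of_card_ge hNP hle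
    rw [hPN]; exact hNn

end Cfsg.Agent.Helper1
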