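import Mathlib
import Cfsg.Prelude.Def_Solvable
import Cfsg.Agent.Helper1.Basic
import Cfsg.Agent.Helper1.Coprime
import Cfsg.Agent.Helper1.Frobenius
import Cfsg.Agent.Helper1.HallMax

set_option autoImplicit false

/-!
Schmidt's theorem: if all maximal subgroups are nilpotent the group is solvable.
-/

namespace Cfsg.Agent.Helper1

open scoped Pointwise

universe u

/-- normalizers grow in nilpotent subgroups. -/
theorem exists_mem_normalizer_not_mem_of_isNilpotent {G : Type u} [Group G]
    {M D : Subgroup G} (hM : Group.IsNilpotent M) (hDM : D < M) :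
    ∃ x ∈ M, x ∈ Subgroup.normalizer (D : Set G) ∧ x ∉ D := by
  have hlt : D.subgroupOf M < ⊤ := by
    rw [lt_top_iff_ne_top, Ne, Subgroup.subgroupOf_eq_top]
    exact hDM.not_ge
  have h1 := Group.normalizerCondition_of_isNilpotent (G := M) _ hlt
  obtain ⟨x, hxN, hxD⟩ := SetLike.exists_of_lt h1
  rw [← Subgroup.subgroupOf_normalizer_eq hDM.le, Subgroup.mem_subgroupOf] at hxN
  rw [Subgroup.mem_subgroupOf] at hxD
  exact ⟨x, x.2, hxN, hxD⟩

theorem isCoatom_conj_smul {G : Type u} [Group G] {M : Subgroup G} (hM : IsCoatom M) (g : G) :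
    IsCoatom (MulAut.conj g • M) := by
  constructor
  · intro h
    apply hM.1
    have := congrArg (fun X : Subgroup G => MulAut.conj g⁻¹ • X) h
    simp only [← mul_smul, ← map_mul, inv_mul_cancel, map_one, one_smul] at this
    rw [this]
    exact Subgroup.conj_smul_eq_self_of_mem (Subgroup.mem_top _)
  · intro K hK
    have h1 : M < MulAut.conj g⁻¹ • K := by
      constructor
      · intro x hx
        rw [mem_conj_smul]
        apply hK.le
        simpa using conj_mem_conj_smul (g := g) hx
      · intro hle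
        apply hK.not_ge
        intro x hx
        have h2 : g⁻¹ * x * g⁻¹⁻¹ ∈ MulAut.conj g⁻¹ • K := conj_mem_conj_smul hx
        have h3 := hle h2
        rw [mem_conj_smul]
        simpa using h3
    have h2 := hM.2 _ h1
    have := congrArg (fun X : Subgroup G => MulAut.conj g • X) h2
    simp only [← mul_smul, ← map_mul, mul_inv_cancel, map_one, one_smul] at this
    rw [this]
    exact Subgroup.conj_smul_eq_self_of_mem (Subgroup.mem_top _)

/-- The core step: a finite group with no proper nontrivial normal subgroups, all of whose maximal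
subgroups are nilpotent, is solvable. -/
theorem schmidt_simple_case {G : Type u} [Group G] [Finite G]
    (hsimple : ∀ N : Subgroup G, N.Normal → N = ⊥ ∨ N = ⊤)
    (h : ∀ M : Subgroup G, IsCoatom M → Group.IsNilpotent M) : Group.IsSolvable G := by
  classical
  by_contra hns
  -- no coatom is normal
  have hnotnormal : ∀ M : Subgroup G, IsCoatom M → ¬ M.Normal := by
    intro M hM hMn
    rcases hsimple M hMn with hb | ht
    · -- ⊥ is a coatom: G is cyclic
      apply hns
      subst hb
      rcases subsingleton_or_nontrivial G with hs | hnt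
      · exact Group.isSolvable_of_comm (fun a b => Subsingleton.elim _ _)
      · obtain ⟨x, hx⟩ := exists_ne (1 : G)
        have hz : Subgroup.zpowers x = ⊤ := by
          apply hM.2
          rw [bot_lt_iff_ne_bot]
          intro hb
          apply hx
          have : x ∈ Subgroup.zpowers x := Subgroup.mem_zpowers x
          rw [hb, Subgroup.mem_bot] at this
          exact this
        apply Group.isSolvable_of_comm
        intro a b
        have ha : a ∈ Subgroup.zpowers x := hz ▸ Subgroup.mem_top a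
        have hb : b ∈ Subgroup.zpowers x := hz ▸ Subgroup.mem_top b
        obtain ⟨i, rfl⟩ := ha
        obtain ⟨j, rfl⟩ := hb
        exact (Commute.zpow_zpow (Commute.refl x) i j).eq
    · exact hM.1 ht
  have hselfnorm : ∀ M : Subgroup G, IsCoatom M → Subgroup.normalizer (M : Set G) = M := by
    intro M hM
    by_contra hne
    have h1 : M < Subgroup.normalizer (M : Set G) :=
      lt_of_le_of_ne Subgroup.le_normalizer (Ne.symm hne)
    exact hnotnormal M hM (Subgroup.normalizer_eq_top_iff.1 (hM.2 _ h1))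
  -- Step 1: distinct coatoms intersect trivially
  have hTI : ∀ M₁ M₂ : Subgroup G, IsCoatom M₁ → IsCoatom M₂ → M₁ ≠ M₂ → M₁ ⊓ M₂ = ⊥ := by
    by_contra hcon
    push Not at hcon
    let S : Set (Subgroup G × Subgroup G) :=
      {x | IsCoatom x.1 ∧ IsCoatom x.2 ∧ x.1 ≠ x.2 ∧ x.1 ⊓ x.2 ≠ ⊥}
    have hSne : S.Nonempty := by
      obtain ⟨M₁, M₂, h1, h2, h3, h4⟩ := hcon
      exact ⟨(M₁, M₂), h1, h2, h3, h4⟩
    obtain ⟨⟨M₁, M₂⟩, ⟨hM₁, hM₂, hne, hDne⟩, hmax⟩ := Set.exists_max_image S
      (fun x => Nat.card (x.1 ⊓ x.2 : Subgroup G)) (Set.toFinite S) hSne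
    simp only at hM₁ hM₂ hne hDne hmax
    set D := M₁ ⊓ M₂ with hD
    have hlt : ∀ M M' : Subgroup G, IsCoatom M → IsCoatom M' → M ≠ M' → M ⊓ M' < M := by
      intro M M' hM hM' hMM'
      apply lt_of_le_of_ne inf_le_left
      intro h
      apply hMM'
      have h1 : M ≤ M' := inf_eq_left.1 h
      by_contra hne'
      exact hM'.1 (hM.2 _ (lt_of_le_of_ne h1 hne'))
    obtain ⟨x₁, hx₁M, hx₁N, hx₁D⟩ :=
      exists_mem_normalizer_not_mem_of_isNilpotent (h M₁ hM₁) (hlt M₁ M₂ hM₁ hM₂ hne)
    obtain ⟨x₂, hx₂M, hx₂N, hx₂D⟩ :=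
      exists_mem_normalizer_not_mem_of_isNilpotent (D := M₂ ⊓ M₁) (h M₂ hM₂)
        (hlt M₂ M₁ hM₂ hM₁ hne.symm)
    have hcomm : M₂ ⊓ M₁ = D := inf_comm _ _
    rw [hcomm] at hx₂N hx₂D
    have hNtop : Subgroup.normalizer (D : Set G) ≠ ⊤ := by
      intro htop
      have hDn : D.Normal := Subgroup.normalizer_eq_top_iff.1 htop
      rcases hsimple D hDn with hb | ht
      · exact hDne hb
      · apply hM₁.1
        rw [eq_top_iff, ← ht]; exact inf_le_left
    obtain ⟨M₃, hM₃, hNM₃⟩ := (eq_top_or_exists_le_coatom _).resolve_left hNtop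
    have hDM₃ : D ≤ M₃ := Subgroup.le_normalizer.trans hNM₃
    have key : ∀ (M' : Subgroup G) (x : G), IsCoatom M' → D ≤ M' → x ∈ M' →
        x ∈ Subgroup.normalizer (D : Set G) → x ∉ D → M₃ = M' := by
      intro M' x hM' hDM' hxM' hxN hxD
      by_contra hne'
      have h1 : D ≤ M₃ ⊓ M' := le_inf hDM₃ hDM'
      have h2 : M₃ ⊓ M' ≠ ⊥ := by
        intro hb; rw [hb, le_bot_iff] at h1; exact hDne h1
      have h3 := hmax (M₃, M') ⟨hM₃, hM', hne', h2⟩
      simp only at h3
      have h4 : D = M₃ ⊓ M' := Subgroup.eq_of_le_of_card_ge h1 h3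
      apply hxD
      rw [h4]
      exact Subgroup.mem_inf.2 ⟨hNM₃ hxN, hxM'⟩
    have e1 := key M₁ x₁ hM₁ inf_le_left hx₁M hx₁N hx₁D
    have e2 := key M₂ x₂ hM₂ inf_le_right hx₂M hx₂N hx₂D
    exact hne (e1.symm.trans e2)
  -- Step 2: counting
  have hnt : Nontrivial G := by
    by_contra hnn
    rw [not_nontrivial_iff_subsingleton] at hnn
    exact hns (Group.isSolvable_of_comm (fun a b => Subsingleton.elim _ _))
  have hFrob : ∀ M : Subgroup G, IsCoatom M → Cfsg.IsFrobeniusComplement M := by
    intro M hM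
    refine ⟨?_, hM.1, ?_⟩
    · rintro rfl
      exact hnotnormal ⊥ hM inferInstance
    · intro g hg
      apply hTI M _ hM (isCoatom_conj_smul hM g)
      intro heq
      apply hg
      have : g ∈ Subgroup.normalizer (M : Set G) := mem_normalizer_of_conj_smul_eq heq.symm
      rwa [hselfnorm M hM] at this
  have hidx2 : ∀ M : Subgroup G, IsCoatom M → M.index * 2 ≤ Nat.card G := by
    intro M hM
    have hMne : M ≠ ⊥ := (hFrob M hM).1
    have h1 : 2 ≤ Nat.card M := by
      have : Nat.card M ≠ 1 := fun h1 => hMne (Subgroup.card_eq_one.1 h1)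
      have : 0 < Nat.card M := Nat.card_pos
      omega
    rw [← M.index_mul_card]
    exact Nat.mul_le_mul_left _ h1
  obtain ⟨M, hM⟩ : ∃ M : Subgroup G, IsCoatom M := by
    obtain h | ⟨M, hM, -⟩ := eq_top_or_exists_le_coatom (⊥ : Subgroup G)
    · exact absurd h bot_ne_top
    · exact ⟨M, hM⟩
  have hK := (frobenius_count M (hFrob M hM)).1
  have hidxM : 2 ≤ M.index := by
    have h0 : M.index ≠ 0 := Subgroup.index_ne_zero_of_finite
    have h1 : M.index ≠ 1 := fun h1 => hM.1 (Subgroup.index_eq_one.1 h1)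
    omega
  -- an element x ≠ 1 of the kernel
  have hex : ∃ x ∈ Cfsg.frobeniusKernel M, x ≠ 1 := by
    by_contra hcon
    push Not at hcon
    have hsub : Cfsg.frobeniusKernel M ⊆ {1} := fun x hx => hcon x hx
    have := Set.ncard_le_ncard hsub (Set.toFinite _)
    rw [Set.ncard_singleton, ← Nat.card_coe_set_eq, hK] at this
    omega
  obtain ⟨x, hxK, hx1⟩ := hex
  have hxnot : ∀ g : G, x ∉ MulAut.conj g • M := by
    rcases hxK with h1 | h1
    · exact absurd h1 hx1
    · exact h1
  have hzx : Subgroup.zpowers x ≠ ⊤ := by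
    intro htop
    apply hnotnormal M hM
    constructor
    intro n hn g
    have hg : g ∈ Subgroup.zpowers x := htop ▸ Subgroup.mem_top g
    have hn' : n ∈ Subgroup.zpowers x := htop ▸ Subgroup.mem_top n
    obtain ⟨i, rfl⟩ := hg
    obtain ⟨j, rfl⟩ := hn'
    have : x ^ i * x ^ j * (x ^ i)⁻¹ = x ^ j := by
      rw [(Commute.zpow_zpow (Commute.refl x) i j).eq, mul_assoc, mul_inv_cancel, mul_one]
    rw [this]; exact hn
  obtain ⟨M', hM', hxM'⟩ := (eq_top_or_exists_le_coatom _).resolve_left hzx
  have hxM'' : x ∈ M' := hxM' (Subgroup.mem_zpowers x)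
  have hK' := (frobenius_count M' (hFrob M' hM')).1
  -- complement of K_M is inside K_{M'} \ {1}
  have hsub : (Cfsg.frobeniusKernel M)ᶜ ⊆ Cfsg.frobeniusKernel M' \ {1} := by
    intro y hy
    simp only [Cfsg.frobeniusKernel, Set.mem_compl_iff, Set.mem_ofPred_eq, not_or, not_forall,
      not_not] at hy
    obtain ⟨hy1, g, hyg⟩ := hy
    refine ⟨Or.inr ?_, hy1⟩
    intro g' hyg'
    have hne : MulAut.conj g • M ≠ MulAut.conj g' • M' := by
      intro heq
      apply hxnot (g'⁻¹ * g)
      rw [map_mul, mul_smul, heq, ← mul_smul, ← map_mul, inv_mul_cancel, map_one, one_smul]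
      exact hxM''
    have := hTI _ _ (isCoatom_conj_smul hM g) (isCoatom_conj_smul hM' g') hne
    have hmem : y ∈ MulAut.conj g • M ⊓ MulAut.conj g' • M' := Subgroup.mem_inf.2 ⟨hyg, hyg'⟩
    rw [this, Subgroup.mem_bot] at hmem
    exact hy1 hmem
  have h1 := Set.ncard_le_ncard hsub (Set.toFinite _)
  have h2 : (Cfsg.frobeniusKernel M).ncard + (Cfsg.frobeniusKernel M)ᶜ.ncard = Nat.card G :=
    Set.ncard_add_ncard_compl _
  have h3 : (Cfsg.frobeniusKernel M' \ {1}).ncard = (Cfsg.frobeniusKernel M').ncard - 1 :=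
    Set.ncard_sdiff_singleton_of_mem (Or.inl rfl)
  rw [← Nat.card_coe_set_eq] at h2
  rw [h3, ← Nat.card_coe_set_eq (Cfsg.frobeniusKernel M'), hK'] at h1
  rw [hK] at h2
  have h4 := hidx2 M hM
  have h5 := hidx2 M' hM'
  have h6 : 1 ≤ M'.index := Nat.pos_of_ne_zero Subgroup.index_ne_zero_of_finite
  omega

theorem schmidt : ∀ (k : ℕ) (G : Type u) [Group G] [Finite G], Nat.card G = k →
    (∀ M : Subgroup G, IsCoatom M → Group.IsNilpotent M) → Group.IsSolvable G := by
  intro k
  induction k using Nat.strong_induction_on with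
  | _ k ih =>
  intro G _ _ hk h
  by_cases hsimple : ∀ N : Subgroup G, N.Normal → N = ⊥ ∨ N = ⊤
  · exact schmidt_simple_case hsimple h
  · push Not at hsimple
    obtain ⟨N, hNn, hNbot, hNtop⟩ := hsimple
    obtain ⟨M, hM, hNM⟩ := (eq_top_or_exists_le_coatom N).resolve_left hNtop
    have hMnil := h M hM
    have hMs : Group.IsSolvable M := inferInstance
    have hNs : Group.IsSolvable N := isSolvable_of_le hNM hMs
    have hkpos : 0 < k := hk ▸ Nat.card_pos
    have hQlt : Nat.card (G ⧸ N) < k := by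
      rw [← hk, ← Subgroup.index_eq_card, ← N.card_mul_index]
      have h1 : 1 < Nat.card N := by
        rw [Nat.one_lt_iff_ne_zero_and_ne_one]
        exact ⟨Nat.card_pos.ne', fun h1 => hNbot (Subgroup.card_eq_one.1 h1)⟩
      have h2 : 0 < N.index := Nat.pos_of_ne_zero Subgroup.index_ne_zero_of_finite
      nlinarith
    have hquot : ∀ M' : Subgroup (G ⧸ N), IsCoatom M' → Group.IsNilpotent M' := by
      intro M' hM'
      have h1 := h _ (isCoatom_comap_mk' N M' hM')
      exact Group.nilpotent_of_surjective ((QuotientGroup.mk' N).subgroupComap M')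
        ((QuotientGroup.mk' N).subgroupComap_surjective_of_surjective M'
          (QuotientGroup.mk'_surjective N))
    have hQs : Group.IsSolvable (G ⧸ N) := ih _ hQlt (G ⧸ N) rfl hquot
    exact Group.isSolvable_of_ker_le_range N.subtype (QuotientGroup.mk' N)
      (by rw [QuotientGroup.ker_mk', Subgroup.range_subtype])

end Cfsg.Agent.Helper1
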