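import Mathlib
import Cfsg.Prelude.Def_SolvableStructure
import Cfsg.Agent.Helper1.Basic
import Cfsg.Agent.Helper1.Coprime
import Cfsg.Agent.Helper1.Card
import Cfsg.Agent.Helper1.PGroup
import Cfsg.Agent.Helper1.MinNormal
import Cfsg.Agent.Helper1.Schmidt

set_option autoImplicit false

/-!
Minimal non-nilpotent groups.
-/

namespace Cfsg.Agent.Helper1

open scoped Pointwise commutatorElement

universe u

variable {G : Type u} [Group G]

/-- In a nilpotent join, a `p`-subgroup and a `q`-subgroup (`p ≠ q`) centralize each other. -/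
theorem le_centralizer_of_nilpotent_sup [Finite G] {p q : ℕ} [hp : Fact p.Prime]
    [hq : Fact q.Prime] (hpq : p ≠ q) (A B : Subgroup G) (hA : IsPGroup p A) (hB : IsPGroup q B)
    (hnil : Group.IsNilpotent ↥(A ⊔ B)) : A ≤ Subgroup.centralizer (B : Set G) := by
  set L := A ⊔ B with hL
  have hAL : A ≤ L := le_sup_left
  have hBL : B ≤ L := le_sup_right
  have hA' : IsPGroup p (A.subgroupOf L) := hA.comap_of_injective L.subtype L.subtype_injective
  have hB' : IsPGroup q (B.subgroupOf L) := hB.comap_of_injective L.subtype L.subtype_injective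
  obtain ⟨S, hS⟩ := hA'.exists_le_sylow
  obtain ⟨T, hT⟩ := hB'.exists_le_sylow
  have hSn : (S : Subgroup L).Normal := inferInstance
  have hTn : (T : Subgroup L).Normal := inferInstance
  have hcop : (Nat.card (S : Subgroup L)).Coprime (Nat.card (T : Subgroup L)) := by
    obtain ⟨a, ha⟩ := IsPGroup.iff_card.1 S.2
    obtain ⟨b, hb⟩ := IsPGroup.iff_card.1 T.2
    rw [ha, hb]
    exact Nat.Coprime.pow _ _ ((Nat.coprime_primes hp.out hq.out).2 hpq)
  have hinf : (S : Subgroup L) ⊓ (T : Subgroup L) = ⊥ := inf_eq_bot_of_coprime_card hcop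
  have hcomm : ⁅(S : Subgroup L), (T : Subgroup L)⁆ = ⊥ := by
    rw [eq_bot_iff, ← hinf]; exact Subgroup.commutator_le_inf _ _
  have hcent := Subgroup.commutator_eq_bot_iff_le_centralizer.1 hcomm
  intro a ha
  rw [Subgroup.mem_centralizer_iff]
  intro b hb
  have h1 : (⟨a, hAL ha⟩ : L) ∈ (S : Subgroup L) := hS (Subgroup.mem_subgroupOf.2 ha)
  have h2 : (⟨b, hBL hb⟩ : L) ∈ (T : Subgroup L) := hT (Subgroup.mem_subgroupOf.2 hb)
  have h3 := Subgroup.mem_centralizer_iff.1 (hcent h1) _ h2
  exact congrArg Subtype.val h3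

/-- A finite solvable nontrivial group has a normal subgroup of prime index. -/
theorem exists_normal_prime_index (G : Type u) [Group G] [Finite G] [Group.IsSolvable G]
    [Nontrivial G] : ∃ N : Subgroup G, N.Normal ∧ N.index.Prime := by
  classical
  obtain ⟨N, -, hmax⟩ :=
    (Set.toFinite {N : Subgroup G | N.Normal ∧ N ≠ ⊤}).exists_le_maximal
      (show (commutator G) ∈ {N : Subgroup G | N.Normal ∧ N ≠ ⊤} from
        ⟨inferInstance, (Group.IsSolvable.commutator_lt_top_of_nontrivial G).ne⟩)
  obtain ⟨hNn, hNtop⟩ : N ∈ {N : Subgroup G | N.Normal ∧ N ≠ ⊤} := hmax.prop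
  refine ⟨N, hNn, ?_⟩
  have hQnt : Nontrivial (G ⧸ N) := by
    rw [QuotientGroup.nontrivial_iff]; exact hNtop
  -- G/N has no proper nontrivial normal subgroups
  have hsimple : ∀ K : Subgroup (G ⧸ N), K.Normal → K = ⊥ ∨ K = ⊤ := by
    intro K hK
    by_cases hKt : K = ⊤
    · exact Or.inr hKt
    · left
      have h1 : (K.comap (QuotientGroup.mk' N)) ∈ {N : Subgroup G | N.Normal ∧ N ≠ ⊤} := by
        refine ⟨hK.comap _, ?_⟩
        intro h
        apply hKt
        rw [← Subgroup.map_comap_eq_self_of_surjective (QuotientGroup.mk'_surjective N) K, h,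
          ← MonoidHom.range_eq_map]
        exact (QuotientGroup.mk' N).range_eq_top_of_surjective (QuotientGroup.mk'_surjective N)
      have h2 : N ≤ K.comap (QuotientGroup.mk' N) := by
        intro x hx
        rw [Subgroup.mem_comap, QuotientGroup.mk'_apply, (QuotientGroup.eq_one_iff x).2 hx]
        exact K.one_mem
      have h3 := hmax.2 h1 h2
      rw [eq_bot_iff]
      intro y hy
      obtain ⟨x, rfl⟩ := QuotientGroup.mk'_surjective N y
      rw [Subgroup.mem_bot]
      exact (QuotientGroup.eq_one_iff x).2 (h3 (Subgroup.mem_comap.2 hy))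
  -- G/N is abelian
  have hcommQ : commutator (G ⧸ N) = ⊥ := by
    rcases hsimple (commutator (G ⧸ N)) inferInstance with h | h
    · exact h
    · exact absurd h (Group.IsSolvable.commutator_lt_top_of_nontrivial (G ⧸ N)).ne
  have hab : ∀ a b : G ⧸ N, a * b = b * a := by
    intro a b
    have : ⁅a, b⁆ ∈ commutator (G ⧸ N) :=
      Subgroup.commutator_mem_commutator (Subgroup.mem_top a) (Subgroup.mem_top b)
    rw [hcommQ, Subgroup.mem_bot, commutatorElement_eq_one_iff_mul_comm] at this
    exact this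
  -- an element of prime order generates
  have hcard : 1 < Nat.card (G ⧸ N) := Finite.one_lt_card
  obtain ⟨r, hr, hrd⟩ := Nat.exists_prime_and_dvd hcard.ne'
  have : Fact r.Prime := ⟨hr⟩
  obtain ⟨y, hy⟩ := exists_prime_orderOf_dvd_card' r hrd
  have hzn : (Subgroup.zpowers y).Normal := by
    constructor
    intro n hn g
    have : g * n * g⁻¹ = n := by rw [hab g n, mul_assoc, mul_inv_cancel, mul_one]
    rw [this]; exact hn
  rcases hsimple _ hzn with h | h
  · exfalso
    have : y ∈ Subgroup.zpowers y := Subgroup.mem_zpowers y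
    rw [h, Subgroup.mem_bot] at this
    rw [this, orderOf_one] at hy
    exact hr.one_lt.ne hy
  · have h1 : Nat.card (Subgroup.zpowers y) = r := by rw [Nat.card_zpowers, hy]
    rw [h, Subgroup.card_top] at h1
    rw [Subgroup.index_eq_card, h1]
    exact hr

theorem minNonNilp_structure [Finite G] (hG : Cfsg.IsMinimalNonNilpotent G) :
    ∃ p q : ℕ, p.Prime ∧ q.Prime ∧ p ≠ q ∧ ∃ (P : Sylow p G) (Q : Sylow q G),
      IsCyclic P ∧ (Q : Subgroup G).Normal ∧ (P : Subgroup G) ⊔ Q = ⊤ := by
  classical
  obtain ⟨hnn, hprop⟩ := hG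
  have hsolv : Group.IsSolvable G := schmidt _ G rfl (fun M hM => hprop M hM.1)
  have hnt : Nontrivial G := by
    by_contra h
    rw [not_nontrivial_iff_subsingleton] at h
    exact hnn inferInstance
  obtain ⟨N, hNn, hNp⟩ := exists_normal_prime_index G
  obtain ⟨p, hpdef⟩ : ∃ p, p = N.index := ⟨_, rfl⟩
  rw [← hpdef] at hNp
  have hpF : Fact p.Prime := ⟨hNp⟩
  have hNtop : N ≠ ⊤ := by
    intro h
    rw [h, Subgroup.index_top] at hpdef
    rw [hpdef] at hNp
    exact Nat.not_prime_one hNp
  have hNnil : Group.IsNilpotent N := hprop N hNtop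
  have hQnormal : ∀ (q : ℕ) [Fact q.Prime], q ≠ p → ∀ Q : Sylow q G,
      (Q : Subgroup G).Normal := by
    intro q hq hqp Q
    have hQN : (Q : Subgroup G) ≤ N := by
      have h1 : N.relIndex (Q : Subgroup G) ∣ p := hpdef ▸ Subgroup.relIndex_dvd_index_of_normal N _
      have h2 : N.relIndex (Q : Subgroup G) ∣ Nat.card (Q : Subgroup G) :=
        Subgroup.relIndex_dvd_card N _
      obtain ⟨k, hk⟩ := IsPGroup.iff_card.1 Q.2
      have h3 : Nat.Coprime p (q ^ k) :=
        Nat.Coprime.pow_right k ((Nat.coprime_primes hNp hq.out).2 hqp.symm)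
      exact Subgroup.relIndex_eq_one.1 (Nat.eq_one_of_dvd_coprimes h3 h1 (hk ▸ h2))
    have hQ'n : ((Q.subtype hQN : Sylow q N) : Subgroup N).Normal := inferInstance
    have hQ'c := (Q.subtype hQN).characteristic_of_normal hQ'n
    have hn : (((Q.subtype hQN : Sylow q N) : Subgroup N).map N.subtype).Normal := inferInstance
    rw [Sylow.coe_subtype, Subgroup.map_subgroupOf_eq_of_le hQN] at hn
    exact hn
  have hPnot : ∃ P : Sylow p G, ¬ (P : Subgroup G).Normal := by
    by_contra hcon
    push Not at hcon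
    apply hnn
    have t := (Group.isNilpotent_of_finite_tfae (G := G)).out 0 3
    rw [t]
    intro r hr R
    by_cases hrp : r = p
    · subst hrp; exact hcon R
    · exact hQnormal r hrp R
  obtain ⟨P, hPn⟩ := hPnot
  have hex : ∃ (q : ℕ) (_ : Fact q.Prime), q ≠ p ∧ ∃ Q : Sylow q G,
      (P : Subgroup G) ⊔ (Q : Subgroup G) = ⊤ := by
    by_contra hcon
    push Not at hcon
    apply hPn
    have hall : ∀ (r : ℕ) [Fact r.Prime] (R : Sylow r G), r ≠ p →
        (R : Subgroup G) ≤ Subgroup.normalizer ((P : Subgroup G) : Set G) := by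
      intro r hr R hrp
      have hne := hcon r hr hrp R
      have hnil := hprop _ hne
      have := le_centralizer_of_nilpotent_sup hrp (R : Subgroup G) (P : Subgroup G) R.2 P.2
        (by rwa [sup_comm])
      exact this.trans (Subgroup.centralizer_le_normalizer _)
    have hdvd : Nat.card G ∣ Nat.card (Subgroup.normalizer ((P : Subgroup G) : Set G)) := by
      rw [← Nat.factorization_le_iff_dvd Nat.card_pos.ne' Nat.card_pos.ne']
      intro r
      by_cases hr : r.Prime
      · have : Fact r.Prime := ⟨hr⟩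
        obtain ⟨R⟩ : Nonempty (Sylow r G) := inferInstance
        have key : r ^ (Nat.card G).factorization r ∣
            Nat.card (Subgroup.normalizer ((P : Subgroup G) : Set G)) := by
          by_cases hrp : r = p
          · subst hrp
            rw [← P.card_eq_multiplicity]
            exact Subgroup.card_dvd_of_le Subgroup.le_normalizer
          · rw [← R.card_eq_multiplicity]
            exact Subgroup.card_dvd_of_le (hall r R hrp)
        exact (hr.pow_dvd_iff_le_factorization Nat.card_pos.ne').1 key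
      · rw [Nat.factorization_eq_zero_of_not_prime _ hr]; exact Nat.zero_le _
    have htop : Subgroup.normalizer ((P : Subgroup G) : Set G) = ⊤ :=
      (Subgroup.card_eq_iff_eq_top _).1
        (le_antisymm (Subgroup.card_le_card_group _) (Nat.le_of_dvd Nat.card_pos hdvd))
    exact Subgroup.normalizer_eq_top_iff.1 htop
  obtain ⟨q, hq, hqp, Q, hPQ⟩ := hex
  have hQn := hQnormal q hqp Q
  refine ⟨p, q, hNp, hq.out, hqp.symm, P, Q, ?_, hQn, hPQ⟩
  have hcopPQ : (Nat.card (Q : Subgroup G)).Coprime (Nat.card (P : Subgroup G)) := by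
    obtain ⟨a, ha⟩ := IsPGroup.iff_card.1 P.2
    obtain ⟨b, hb⟩ := IsPGroup.iff_card.1 Q.2
    rw [ha, hb]
    exact Nat.Coprime.pow _ _ ((Nat.coprime_primes hq.out hNp).2 hqp)
  have hcoatom : ∀ P₁ : Subgroup (P : Subgroup G), IsCoatom P₁ →
      P₁.map (P : Subgroup G).subtype ≤ Subgroup.centralizer ((Q : Subgroup G) : Set G) := by
    intro P₁ hP₁
    have hA : IsPGroup p (P₁.map (P : Subgroup G).subtype) := (P.2.to_subgroup P₁).map _
    have hAlt : Nat.card (P₁.map (P : Subgroup G).subtype) < Nat.card (P : Subgroup G) := by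
      rw [Subgroup.card_map_of_injective (Subgroup.subtype_injective _)]
      have := card_lt_card_of_lt (lt_top_iff_ne_top.2 hP₁.1)
      rwa [Subgroup.card_top] at this
    have hne : P₁.map (P : Subgroup G).subtype ⊔ (Q : Subgroup G) ≠ ⊤ := by
      intro htop
      have h1 := card_sup_mul_card_inf (N := (Q : Subgroup G))
        (A := P₁.map (P : Subgroup G).subtype) (le_normalizer_of_normal _ (Q : Subgroup G))
      rw [sup_comm, htop, Subgroup.card_top] at h1
      have h2 : Nat.card G ≤ Nat.card (Q : Subgroup G) *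
          Nat.card (P₁.map (P : Subgroup G).subtype) := by
        rw [← h1]; exact Nat.le_mul_of_pos_right _ Nat.card_pos
      have h3 : Nat.card (Q : Subgroup G) * Nat.card (P : Subgroup G) ≤ Nat.card G := by
        apply Nat.le_of_dvd Nat.card_pos
        exact Nat.Coprime.mul_dvd_of_dvd_of_dvd hcopPQ (Subgroup.card_subgroup_dvd_card _)
          (Subgroup.card_subgroup_dvd_card _)
      have h4 : 0 < Nat.card (Q : Subgroup G) := Nat.card_pos
      nlinarith
    have hnil := hprop _ hne
    exact le_centralizer_of_nilpotent_sup hqp.symm _ _ hA Q.2 hnil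
  show IsCyclic ↥(P : Subgroup G)
  by_cases h2 : ∃ P₁ P₂ : Subgroup (P : Subgroup G), IsCoatom P₁ ∧ IsCoatom P₂ ∧ P₁ ≠ P₂
  · exfalso
    obtain ⟨P₁, P₂, h1, h2', hne⟩ := h2
    have hsup : P₁ ⊔ P₂ = ⊤ := by
      apply h1.2
      apply lt_of_le_of_ne le_sup_left
      intro h
      apply hne
      have h3 : P₂ ≤ P₁ := by rw [h]; exact le_sup_right
      by_contra hne'
      exact h1.1 (h2'.2 _ (lt_of_le_of_ne h3 (Ne.symm hne')))
    have hPc : (P : Subgroup G) ≤ Subgroup.centralizer ((Q : Subgroup G) : Set G) := by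
      have : (P : Subgroup G) = (P₁ ⊔ P₂).map (P : Subgroup G).subtype := by
        rw [hsup, ← MonoidHom.range_eq_map, Subgroup.range_subtype]
      rw [this, Subgroup.map_sup]
      exact sup_le (hcoatom P₁ h1) (hcoatom P₂ h2')
    apply hPn
    have hQle : (Q : Subgroup G) ≤ Subgroup.normalizer ((P : Subgroup G) : Set G) :=
      (Subgroup.le_centralizer_iff.1 hPc).trans (Subgroup.centralizer_le_normalizer _)
    have htop : Subgroup.normalizer ((P : Subgroup G) : Set G) = ⊤ := by
      rw [eq_top_iff, ← hPQ]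
      exact sup_le Subgroup.le_normalizer hQle
    exact Subgroup.normalizer_eq_top_iff.1 htop
  · push Not at h2
    have hPnt : (⊥ : Subgroup (P : Subgroup G)) ≠ ⊤ := by
      intro h
      apply hPn
      have : (P : Subgroup G) = ⊥ := by
        rw [eq_bot_iff]
        intro x hx
        have : (⟨x, hx⟩ : (P : Subgroup G)) ∈ (⊥ : Subgroup (P : Subgroup G)) :=
          h ▸ Subgroup.mem_top _
        rw [Subgroup.mem_bot] at this
        rw [Subgroup.mem_bot]
        exact congrArg Subtype.val this
      rw [this]; infer_instance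
    obtain ⟨P₁, hP₁, -⟩ := (eq_top_or_exists_le_coatom (⊥ : Subgroup (P : Subgroup G))).resolve_left hPnt
    obtain ⟨x, -, hx⟩ := SetLike.exists_of_lt (lt_top_iff_ne_top.2 hP₁.1)
    have hz : Subgroup.zpowers x = ⊤ := by
      rcases eq_top_or_exists_le_coatom (Subgroup.zpowers x) with h | ⟨M, hM, hxM⟩
      · exact h
      · have : M = P₁ := h2 M P₁ hM hP₁
        exact absurd (this ▸ hxM (Subgroup.mem_zpowers x)) hx
    exact isCyclic_iff_exists_zpowers_eq_top.2 ⟨x, hz⟩

end Cfsg.Agent.Helper1
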