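import Mathlib
import Cfsg.Prelude.Def_SolvableStructure
import Cfsg.Prelude.Def_Transfer
import Cfsg.Agent.Helper1.Basic
import Cfsg.Agent.Helper1.Coprime
import Cfsg.Agent.Helper1.AbelianAct
import Cfsg.Agent.Helper1.MinNonNilp

set_option autoImplicit false

/-!
Minimal non-abelian groups (Miller–Moreno).
-/

namespace Cfsg.Agent.Helper1

open scoped Pointwise commutatorElement

universe u

variable {G : Type u} [Group G]

/-- `Ω₁` of an abelian subgroup, as a subgroup of the ambient group. -/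
def omegaOneAb (Q : Subgroup G) (hQ : IsMulCommutative Q) (q : ℕ) : Subgroup G where
  carrier := {x | x ∈ Q ∧ x ^ q = 1}
  mul_mem' := by
    rintro a b ⟨ha, ha'⟩ ⟨hb, hb'⟩
    refine ⟨Q.mul_mem ha hb, ?_⟩
    have hc : Commute a b := by
      have := mul_comm' (⟨a, ha⟩ : Q) ⟨b, hb⟩
      exact congrArg Subtype.val this
    show (a * b) ^ q = 1
    rw [hc.mul_pow, ha', hb', one_mul]
  one_mem' := ⟨Q.one_mem, one_pow q⟩
  inv_mem' := by
    rintro a ⟨ha, ha'⟩
    exact ⟨Q.inv_mem ha, by show a⁻¹ ^ q = 1; rw [inv_pow, ha', inv_one]⟩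

theorem mem_omegaOneAb (Q : Subgroup G) (hQ : IsMulCommutative Q) (q : ℕ) (x : G) :
    x ∈ omegaOneAb Q hQ q ↔ x ∈ Q ∧ x ^ q = 1 := Iff.rfl

theorem omegaOneAb_le (Q : Subgroup G) (hQ : IsMulCommutative Q) (q : ℕ) :
    omegaOneAb Q hQ q ≤ Q := fun _ hx => hx.1

theorem omegaOneAb_normal_of_comm (Q : Subgroup G) [hQn : Q.Normal] (hQ : IsMulCommutative Q) (q : ℕ) :
    (omegaOneAb Q hQ q).Normal := by
  constructor
  intro x hx g
  refine ⟨hQn.conj_mem x hx.1 g, ?_⟩
  rw [conj_pow, hx.2, mul_one, mul_inv_cancel]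

/-- An abelian subgroup centralizes itself. -/
theorem le_centralizer_self_of_comm (A : Subgroup G) (hA : IsMulCommutative A) :
    A ≤ Subgroup.centralizer (A : Set G) := by
  intro a ha
  rw [Subgroup.mem_centralizer_iff]
  intro b hb
  have := mul_comm' (⟨b, hb⟩ : A) ⟨a, ha⟩
  exact congrArg Subtype.val this

/-- If both `A` and `B` are abelian and centralize each other, `A ⊔ B = ⊤` forces commutativity. -/
theorem isMulCommutative_of_sup_eq_top (A B : Subgroup G) (hA : IsMulCommutative A)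
    (hB : IsMulCommutative B) (hAB : A ≤ Subgroup.centralizer (B : Set G))
    (htop : A ⊔ B = ⊤) : IsMulCommutative G := by
  have hAc : A ≤ Subgroup.centralizer ((A ⊔ B : Subgroup G) : Set G) := by
    rw [Subgroup.le_centralizer_iff]
    exact sup_le (le_centralizer_self_of_comm A hA) (Subgroup.le_centralizer_iff.1 hAB)
  have hBc : B ≤ Subgroup.centralizer ((A ⊔ B : Subgroup G) : Set G) := by
    rw [Subgroup.le_centralizer_iff]
    exact sup_le hAB (le_centralizer_self_of_comm B hB)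
  have hall : (⊤ : Subgroup G) ≤ Subgroup.centralizer ((⊤ : Subgroup G) : Set G) := by
    calc (⊤ : Subgroup G) = A ⊔ B := htop.symm
      _ ≤ Subgroup.centralizer ((A ⊔ B : Subgroup G) : Set G) := sup_le hAc hBc
      _ = Subgroup.centralizer ((⊤ : Subgroup G) : Set G) := by rw [htop]
  refine ⟨⟨fun a b => ?_⟩⟩
  have h1 := hall (Subgroup.mem_top a)
  rw [Subgroup.mem_centralizer_iff] at h1
  exact (h1 b (Subgroup.mem_top b)).symm

theorem isPGroup_of_sylow_eq_top {p : ℕ} (P : Sylow p G) (htop : (P : Subgroup G) = ⊤) :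
    IsPGroup p G := by
  intro g
  obtain ⟨k, hk⟩ := P.2 ⟨g, htop ▸ Subgroup.mem_top g⟩
  exact ⟨k, by simpa using congrArg Subtype.val hk⟩

theorem miller_moreno [Finite G] (hna : ¬ IsMulCommutative G)
    (h : ∀ H : Subgroup G, H ≠ ⊤ → IsMulCommutative H) :
    (∃ p : ℕ, p.Prime ∧ IsPGroup p G) ∨ ∃ p q : ℕ, p.Prime ∧ q.Prime ∧ p ≠ q ∧
      ∃ (P : Sylow p G) (Q : Sylow q G), IsCyclic P ∧ (Q : Subgroup G).Normal ∧
        Cfsg.IsElementaryAbelian q (Q : Subgroup G) ∧ (P : Subgroup G) ⊔ Q = ⊤ := by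
  classical
  by_cases hnil : Group.IsNilpotent G
  · left
    have t := (Group.isNilpotent_of_finite_tfae (G := G)).out 0 4
    obtain ⟨e⟩ := t.1 hnil
    by_contra hcon
    push Not at hcon
    apply hna
    have hall : ∀ (p : (Nat.card G).primeFactors) (P : Sylow p G),
        IsMulCommutative (P : Subgroup G) := by
      intro p P
      apply h
      intro htop
      exact hcon p (Nat.prime_of_mem_primeFactors p.2) (isPGroup_of_sylow_eq_top P htop)
    refine ⟨⟨fun a b => ?_⟩⟩
    apply e.symm.injective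
    rw [map_mul, map_mul]
    funext p P
    have := hall p P
    exact mul_comm' _ _
  · right
    have hmin : Cfsg.IsMinimalNonNilpotent G := by
      refine ⟨hnil, fun H hH => ?_⟩
      have := h H hH
      open scoped IsMulCommutative in
      exact CommGroup.isNilpotent
    obtain ⟨p, q, hp, hq, hpq, P, Q, hPc, hQn, hsup⟩ := minNonNilp_structure hmin
    refine ⟨p, q, hp, hq, hpq, P, Q, hPc, hQn, ?_, hsup⟩
    have hpF : Fact p.Prime := ⟨hp⟩
    have hqF : Fact q.Prime := ⟨hq⟩
    have hQtop : (Q : Subgroup G) ≠ ⊤ := by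
      intro htop
      exact hnil (isPGroup_of_sylow_eq_top Q htop).isNilpotent
    have hQc : IsMulCommutative (Q : Subgroup G) := h _ hQtop
    refine ⟨hQc, ?_⟩
    by_contra hcon
    push Not at hcon
    obtain ⟨a, haQ, haq⟩ := hcon
    have hΩn : (omegaOneAb (Q : Subgroup G) hQc q).Normal := omegaOneAb_normal_of_comm _ hQc q
    have hcop : (Nat.card (P : Subgroup G)).Coprime (Nat.card (Q : Subgroup G)) := by
      obtain ⟨k, hk⟩ := IsPGroup.iff_card.1 P.2
      obtain ⟨l, hl⟩ := IsPGroup.iff_card.1 Q.2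
      rw [hk, hl]
      exact Nat.Coprime.pow _ _ ((Nat.coprime_primes hp hq).2 hpq)
    have hPQ : (P : Subgroup G) ⊓ Q = ⊥ := (Subgroup.disjoint_of_coprime_natCard hcop).eq_bot
    have hprop : omegaOneAb (Q : Subgroup G) hQc q ⊔ (P : Subgroup G) ≠ ⊤ := by
      intro htop
      apply haq
      have ha : a ∈ omegaOneAb (Q : Subgroup G) hQc q ⊔ (P : Subgroup G) := htop ▸ Subgroup.mem_top a
      obtain ⟨n, hn, y, hy, hxy⟩ := mem_sup_of_le_normalizer
        (Subgroup.normalizer_eq_top_iff.2 hΩn ▸ le_top) ha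
      have hyQ : y ∈ (Q : Subgroup G) := by
        have : y = n⁻¹ * a := by rw [hxy]; group
        rw [this]
        exact Subgroup.mul_mem _ (Subgroup.inv_mem _ hn.1) haQ
      have hy1 : y = 1 := by
        have : y ∈ (P : Subgroup G) ⊓ Q := ⟨hy, hyQ⟩
        rw [hPQ] at this
        exact Subgroup.mem_bot.1 this
      rw [hxy, hy1, mul_one]
      exact hn.2
    have hab := h _ hprop
    have hΩP : omegaOneAb (Q : Subgroup G) hQc q ≤
        Subgroup.centralizer ((P : Subgroup G) : Set G) := by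
      intro x hx
      rw [Subgroup.mem_centralizer_iff]
      intro y hy
      have hx' : x ∈ omegaOneAb (Q : Subgroup G) hQc q ⊔ (P : Subgroup G) :=
        (le_sup_left : _ ≤ omegaOneAb (Q : Subgroup G) hQc q ⊔ (P : Subgroup G)) hx
      have hy' : y ∈ omegaOneAb (Q : Subgroup G) hQc q ⊔ (P : Subgroup G) :=
        (le_sup_right : _ ≤ omegaOneAb (Q : Subgroup G) hQc q ⊔ (P : Subgroup G)) hy
      have := mul_comm' (⟨y, hy'⟩ : ↥(omegaOneAb (Q : Subgroup G) hQc q ⊔ (P : Subgroup G)))
        ⟨x, hx'⟩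
      exact congrArg Subtype.val this
    have hPnorm : (P : Subgroup G) ≤ Subgroup.normalizer (((Q : Subgroup G)) : Set G) := by
      rw [Subgroup.normalizer_eq_top_iff.2 hQn]; exact le_top
    obtain ⟨hinf, hsup'⟩ := abelian_coprime_decomp (P : Subgroup G) (Q : Subgroup G) hPnorm hcop
    have hDQ : ⁅(Q : Subgroup G), (P : Subgroup G)⁆ ≤ Q :=
      Subgroup.le_normalizer_iff_commutator_le_left.1 hPnorm
    have hcomm_bot : ⁅(Q : Subgroup G), (P : Subgroup G)⁆ = ⊥ := by
      by_contra hne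
      have hD : IsPGroup q (⁅(Q : Subgroup G), (P : Subgroup G)⁆ : Subgroup G) := Q.2.to_le hDQ
      have hnt : Nontrivial (⁅(Q : Subgroup G), (P : Subgroup G)⁆ : Subgroup G) :=
        (Subgroup.nontrivial_iff_ne_bot _).2 hne
      obtain ⟨k, hk0, hk⟩ := hD.nontrivial_iff_card.1 hnt
      have hdvd : q ∣ Nat.card (⁅(Q : Subgroup G), (P : Subgroup G)⁆ : Subgroup G) := by
        rw [hk]; exact dvd_pow_self q hk0.ne'
      obtain ⟨x, hx⟩ := exists_prime_orderOf_dvd_card' q hdvd
      have hx1 : (x : G) ^ q = 1 := by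
        have := pow_orderOf_eq_one x
        rw [hx] at this
        simpa using congrArg Subtype.val this
      have hxΩ : (x : G) ∈ omegaOneAb (Q : Subgroup G) hQc q := ⟨hDQ x.2, hx1⟩
      have hxbot : (x : G) ∈ ((Q : Subgroup G) ⊓ Subgroup.centralizer ((P : Subgroup G) : Set G)) ⊓
          ⁅(Q : Subgroup G), (P : Subgroup G)⁆ := ⟨⟨hDQ x.2, hΩP hxΩ⟩, x.2⟩
      rw [hinf, Subgroup.mem_bot] at hxbot
      have : x = 1 := Subtype.ext hxbot
      rw [this, orderOf_one] at hx
      exact hq.one_lt.ne hx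
    have hQP : (Q : Subgroup G) ≤ Subgroup.centralizer ((P : Subgroup G) : Set G) :=
      Subgroup.commutator_eq_bot_iff_le_centralizer.1 hcomm_bot
    apply hna
    have hPcomm : IsMulCommutative (P : Subgroup G) := by
      have := hPc
      exact ⟨⟨fun a b => IsCyclic.commGroup.mul_comm a b⟩⟩
    exact isMulCommutative_of_sup_eq_top (P : Subgroup G) (Q : Subgroup G) hPcomm hQc
      (Subgroup.le_centralizer_iff.1 hQP) hsup

end Cfsg.Agent.Helper1
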