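import Mathlib
import Cfsg.Prelude.Def_SolvableStructure
import Cfsg.Prelude.Def_Transfer
import Cfsg.Agent.Helper1.Basic
import Cfsg.Agent.Helper1.MillerMoreno

set_option autoImplicit false

/-!
Groups in which `N(A) = C(A)` for all abelian subgroups `A` are abelian.
-/

namespace Cfsg.Agent.Helper1

open scoped Pointwise commutatorElement

universe u

variable {G : Type u} [Group G]

/-- A maximal abelian subgroup is self-centralizing. -/
theorem centralizer_le_of_maximal_abelian {A : Subgroup G}
    (hA : Maximal (fun B : Subgroup G => IsMulCommutative B) A) :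
    Subgroup.centralizer (A : Set G) ≤ A := by
  intro x hx
  have hAc := hA.1
  have hcomm : IsMulCommutative (Subgroup.closure ((A : Set G) ∪ {x})) := by
    apply Subgroup.isMulCommutative_closure
    rintro a (ha | ha) b (hb | hb)
    · have := mul_comm' (⟨a, ha⟩ : A) ⟨b, hb⟩
      exact congrArg Subtype.val this
    · rw [Set.mem_singleton_iff] at hb; subst hb
      exact (Subgroup.mem_centralizer_iff.1 hx a ha)
    · rw [Set.mem_singleton_iff] at ha; subst ha
      exact (Subgroup.mem_centralizer_iff.1 hx b hb).symm
    · rw [Set.mem_singleton_iff] at ha hb; subst ha; subst hb; rfl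
  have hle : A ≤ Subgroup.closure ((A : Set G) ∪ {x}) := fun a ha =>
    Subgroup.subset_closure (Or.inl ha)
  have := hA.2 hcomm hle
  exact this (Subgroup.subset_closure (Or.inr rfl))

theorem isMulCommutative_of_nilpotent_of_normalizer_eq_centralizer [Finite G]
    [hnil : Group.IsNilpotent G]
    (h : ∀ A : Subgroup G, IsMulCommutative A →
      Subgroup.normalizer (A : Set G) = Subgroup.centralizer (A : Set G)) :
    IsMulCommutative G := by
  have hfin : {B : Subgroup G | IsMulCommutative B}.Finite := Set.toFinite _
  have hbot : (⊥ : Subgroup G) ∈ {B : Subgroup G | IsMulCommutative B} := by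
    show IsMulCommutative (⊥ : Subgroup G)
    infer_instance
  obtain ⟨A, -, hA⟩ := hfin.exists_le_maximal hbot
  have hAc : IsMulCommutative A := hA.1
  have hN : Subgroup.normalizer (A : Set G) = A := by
    apply le_antisymm _ Subgroup.le_normalizer
    rw [h A hAc]
    exact centralizer_le_of_maximal_abelian hA
  have htop : A = ⊤ :=
    normalizerCondition_iff_only_full_group_self_normalizing.1
      Group.normalizerCondition_of_isNilpotent A hN
  refine ⟨⟨fun a b => ?_⟩⟩
  have := mul_comm' (⟨a, htop ▸ Subgroup.mem_top a⟩ : A) ⟨b, htop ▸ Subgroup.mem_top b⟩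
  exact congrArg Subtype.val this

theorem abelian_of_normalizer_eq_centralizer_aux (n : ℕ) :
    ∀ (G : Type u) [Group G] [Finite G], Nat.card G = n →
      (∀ A : Subgroup G, IsMulCommutative A →
        Subgroup.normalizer (A : Set G) = Subgroup.centralizer (A : Set G)) →
      IsMulCommutative G := by
  induction n using Nat.strong_induction_on with
  | _ n ih =>
    intro G _ _ hcard h
    have hsub : ∀ H : Subgroup G, H ≠ ⊤ → IsMulCommutative H := by
      intro H hH
      have hlt : Nat.card H < n := by
        rw [← hcard]
        rcases lt_or_eq_of_le (Subgroup.card_le_card_group H) with h1 | h1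
        · exact h1
        · exact absurd ((Subgroup.card_eq_iff_eq_top H).1 h1) hH
      apply ih (Nat.card H) hlt H rfl
      intro A hA
      have hA' : IsMulCommutative (A.map H.subtype) := by
        refine ⟨⟨?_⟩⟩
        rintro ⟨_, ⟨a, ha, rfl⟩⟩ ⟨_, ⟨b, hb, rfl⟩⟩
        apply Subtype.ext
        have := mul_comm' (⟨a, ha⟩ : A) ⟨b, hb⟩
        have h2 : a * b = b * a := congrArg Subtype.val this
        show H.subtype a * H.subtype b = H.subtype b * H.subtype a
        rw [← map_mul, ← map_mul, h2]
      have hN := h _ hA'
      have hle : A.map H.subtype ≤ H := Subgroup.map_subtype_le _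
      have hAeq : (A.map H.subtype).subgroupOf H = A :=
        Subgroup.comap_map_eq_self_of_injective H.subtype_injective A
      have e1 := Subgroup.subgroupOf_normalizer_eq hle
      rw [hAeq] at e1
      rw [← e1, hN]
      ext x
      rw [Subgroup.mem_subgroupOf, Subgroup.mem_centralizer_iff, Subgroup.mem_centralizer_iff]
      constructor
      · intro hx a ha
        apply Subtype.ext
        exact hx a ⟨a, ha, rfl⟩
      · rintro hx _ ⟨a, ha, rfl⟩
        exact congrArg Subtype.val (hx a ha)
    by_contra hna
    rcases miller_moreno hna hsub with ⟨p, hp, hG⟩ | ⟨p, q, hp, hq, hpq, P, Q, hPc, hQn, hQe, hsup⟩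
    · have hpF : Fact p.Prime := ⟨hp⟩
      have : Group.IsNilpotent G := hG.isNilpotent
      exact hna (isMulCommutative_of_nilpotent_of_normalizer_eq_centralizer h)
    · apply hna
      have hQc : IsMulCommutative (Q : Subgroup G) := hQe.1
      have h1 := h _ hQc
      rw [Subgroup.normalizer_eq_top_iff.2 hQn] at h1
      have hPQ : (P : Subgroup G) ≤ Subgroup.centralizer ((Q : Subgroup G) : Set G) := by
        rw [← h1]; exact le_top
      have hPcomm : IsMulCommutative (P : Subgroup G) := by
        have := hPc
        exact ⟨⟨fun a b => IsCyclic.commGroup.mul_comm a b⟩⟩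
      exact isMulCommutative_of_sup_eq_top (P : Subgroup G) (Q : Subgroup G) hPcomm hQc hPQ hsup

theorem abelian_of_normalizer_eq_centralizer [Finite G]
    (h : ∀ A : Subgroup G, IsMulCommutative A →
      Subgroup.normalizer (A : Set G) = Subgroup.centralizer (A : Set G)) :
    IsMulCommutative G :=
  abelian_of_normalizer_eq_centralizer_aux _ G rfl h

end Cfsg.Agent.Helper1
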