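import Mathlib
import Cfsg.Agent.Helper1.NormCent

set_option autoImplicit false

/-!
Intersection of a family of maximal abelian subgroups.
-/

namespace Cfsg.Agent.Helper1

universe u

variable {S : Type u} [Group S]

theorem sInf_max_abelian_family (𝒜 : Set (Subgroup S)) (hne : 𝒜.Nonempty)
    (hab : ∀ A ∈ 𝒜, IsMulCommutative A)
    (hmax : ∀ A ∈ 𝒜, ∀ B : Subgroup S, IsMulCommutative B → A ≤ B → B = A) :
    sInf 𝒜 = sSup 𝒜 ⊓ Subgroup.centralizer ((sSup 𝒜 : Subgroup S) : Set S) ∧
      sInf 𝒜 = Subgroup.centralizer ((sSup 𝒜 : Subgroup S) : Set S) := by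
  have hcent : ∀ A ∈ 𝒜, Subgroup.centralizer (A : Set S) = A := by
    intro A hA
    apply le_antisymm
    · apply centralizer_le_of_maximal_abelian
      exact ⟨hab A hA, fun B hB hAB => (hmax A hA B hB hAB).le⟩
    · intro a ha
      rw [Subgroup.mem_centralizer_iff]
      intro b hb
      have := hab A hA
      exact congrArg Subtype.val (mul_comm' (⟨b, hb⟩ : A) ⟨a, ha⟩)
  have key : sInf 𝒜 = Subgroup.centralizer ((sSup 𝒜 : Subgroup S) : Set S) := by
    apply le_antisymm
    · intro x hx
      have h1 : sSup 𝒜 ≤ Subgroup.centralizer ((Subgroup.zpowers x : Subgroup S) : Set S) := by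
        apply sSup_le
        intro A hA
        rw [Subgroup.le_centralizer_iff, Subgroup.zpowers_le, hcent A hA]
        exact (Subgroup.mem_sInf.1 hx) A hA
      rw [Subgroup.le_centralizer_iff] at h1
      exact h1 (Subgroup.mem_zpowers x)
    · apply le_sInf
      intro A hA
      calc Subgroup.centralizer ((sSup 𝒜 : Subgroup S) : Set S)
          ≤ Subgroup.centralizer (A : Set S) :=
            Subgroup.centralizer_le (SetLike.coe_subset_coe.2 (le_sSup hA))
        _ = A := hcent A hA
  refine ⟨?_, key⟩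
  obtain ⟨A0, hA0⟩ := hne
  have hle : sInf 𝒜 ≤ sSup 𝒜 := (sInf_le hA0).trans (le_sSup hA0)
  rw [← key]
  exact (inf_eq_right.2 hle).symm

end Cfsg.Agent.Helper1
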