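import Mathlib
import Cfsg.Prelude.Def_Transfer
import Cfsg.Prelude.Def_PLocal
import Cfsg.Agent.Helper1.ThompsonSub

set_option autoImplicit false

/-!
The intersection of the elementary abelian subgroups of maximal order.
-/

namespace Cfsg.Agent.Helper1

universe u

variable {S : Type u} [Group S]

theorem mem_centralizer_sSup {𝒜 : Set (Subgroup S)} {x : S} :
    x ∈ Subgroup.centralizer ((sSup 𝒜 : Subgroup S) : Set S) ↔
      ∀ A ∈ 𝒜, x ∈ Subgroup.centralizer (A : Set S) := by
  constructor
  · intro hx A hA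
    exact Subgroup.centralizer_le (SetLike.coe_subset_coe.2 (le_sSup hA)) hx
  · intro hx
    have h1 : sSup 𝒜 ≤ Subgroup.centralizer ((Subgroup.zpowers x : Subgroup S) : Set S) := by
      apply sSup_le
      intro A hA
      rw [Subgroup.le_centralizer_iff, Subgroup.zpowers_le]
      exact hx A hA
    rw [Subgroup.le_centralizer_iff] at h1
    exact h1 (Subgroup.mem_zpowers x)

theorem omegaOne_mono (p : ℕ) {H K : Subgroup S} (h : H ≤ K) :
    Cfsg.omegaOne p H ≤ Cfsg.omegaOne p K := by
  apply Subgroup.closure_mono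
  rintro x ⟨hx, hxp⟩
  exact ⟨h hx, hxp⟩

theorem sInf_maxEA [Finite S] (p : ℕ) :
    sInf (Cfsg.maxElementaryAbelianSubgroups p S) = Cfsg.omegaCenterThompson p S ∧
      Cfsg.omegaCenterThompson p S =
        Cfsg.omegaOne p (Subgroup.centralizer (Cfsg.thompsonSubgroup p S : Set S)) := by
  constructor
  · apply le_antisymm
    · intro x hx
      obtain ⟨A0, hA0⟩ := maxElementaryAbelianSubgroups_nonempty (G := S) p
      have hxA : ∀ A ∈ Cfsg.maxElementaryAbelianSubgroups p S, x ∈ A := Subgroup.mem_sInf.1 hx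
      apply Subgroup.subset_closure
      have hxC : x ∈ Subgroup.centralizer (Cfsg.thompsonSubgroup p S : Set S) := by
        rw [Cfsg.thompsonSubgroup, mem_centralizer_sSup]
        intro A hA
        rw [Subgroup.mem_centralizer_iff]
        intro a ha
        exact isElementaryAbelian_commute hA.1 ha (hxA A hA)
      exact ⟨⟨le_thompsonSubgroup hA0 (hxA A0 hA0), hxC⟩, hA0.1.2 x (hxA A0 hA0)⟩
    · rw [Cfsg.omegaCenterThompson, Cfsg.omegaOne, Subgroup.closure_le]
      rintro x ⟨⟨hxJ, hxC⟩, hxp⟩
      rw [SetLike.mem_coe, Subgroup.mem_sInf]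
      intro A hA
      have hB : Cfsg.IsElementaryAbelian p (A ⊔ Subgroup.zpowers x) := by
        apply IsElementaryAbelian_sup hA.1 (isElementaryAbelian_zpowers hxp)
        rw [Subgroup.zpowers_le]
        exact Subgroup.centralizer_le (SetLike.coe_subset_coe.2 (le_thompsonSubgroup hA)) hxC
      have h1 := hA.2 _ hB
      have h2 : A = A ⊔ Subgroup.zpowers x := Subgroup.eq_of_le_of_card_ge le_sup_left h1
      rw [h2]
      exact (le_sup_right : Subgroup.zpowers x ≤ _) (Subgroup.mem_zpowers x)
  · apply le_antisymm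
    · exact omegaOne_mono p inf_le_right
    · rw [Cfsg.omegaOne, Subgroup.closure_le]
      rintro x ⟨hxC, hxp⟩
      apply Subgroup.subset_closure
      exact ⟨⟨mem_thompsonSubgroup_of_mem_centralizer x hxC hxp, hxC⟩, hxp⟩

end Cfsg.Agent.Helper1
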