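import Mathlib
import Cfsg.Prelude.Def_PLocal
import Cfsg.Agent.Helper1.ThompsonRed
import Cfsg.Agent.Helper1.PStableStruct
import Cfsg.Agent.Lead.ZJ2

set_option autoImplicit false

/-!
Glauberman's normal `p`-complement theorem for `Z(J(P))` (abelian version of `J`).
-/

namespace Cfsg.Agent.Helper1

namespace ThompsonRed

open scoped commutatorElement

universe u

/-- In a minimal counterexample every normal `p`-subgroup is acted on `p`-stably. -/
theorem Struct.isPStableOn {p : ℕ} [hp : Fact p.Prime] (hp2 : p ≠ 2) {G : Type u} [Group G]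
    [Finite G] {P : Subgroup G} (h : Struct p G P) (V : Subgroup G) [hVn : V.Normal]
    (hV : IsPGroup p V) : Cfsg.IsPStableOn p V := by
  obtain ⟨K, hKn, hUK, hKK, hcop, hidx⟩ := h.exK
  haveI := hKn
  refine PStableStruct.isPStableOn_of_series hp2 (Cfsg.pCore p G) K V (pCore_isPGroup p)
    (le_pCore hVn hV) hKK _ hcop ?_ hidx
  intro k hk
  haveI : ((Cfsg.pCore p G).subgroupOf K).Normal := Subgroup.Normal.subgroupOf inferInstance K
  have h1 := Subgroup.pow_index_mem ((Cfsg.pCore p G).subgroupOf K) (⟨k, hk⟩ : K)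
  exact h1

section functor

variable {S : Type u} [Group S] {S' : Type u} [Group S']

theorem isMulCommutative_map (η : S ≃* S') (A : Subgroup S) (hA : IsMulCommutative A) :
    IsMulCommutative (A.map η.toMonoidHom) := by
  refine ⟨⟨?_⟩⟩
  rintro ⟨_, x, hx, rfl⟩ ⟨_, y, hy, rfl⟩
  apply Subtype.ext
  have := congrArg Subtype.val (mul_comm' (⟨x, hx⟩ : A) ⟨y, hy⟩)
  show η x * η y = η y * η x
  rw [← map_mul, ← map_mul]
  exact congrArg η this

theorem thompsonSubgroupA_map_equiv_le (η : S ≃* S') :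
    (Cfsg.thompsonSubgroupA S).map η.toMonoidHom ≤ Cfsg.thompsonSubgroupA S' := by
  rw [Subgroup.map_le_iff_le_comap]
  apply sSup_le
  intro A hA
  rw [← Subgroup.map_le_iff_le_comap]
  apply le_sSup
  refine ⟨isMulCommutative_map η A hA.1, ?_⟩
  intro B hB
  have h0 : Nat.card (A.map η.toMonoidHom) = Nat.card A :=
    Subgroup.card_map_of_injective η.injective
  rw [h0]
  have h1 := hA.2 (B.map η.symm.toMonoidHom) (isMulCommutative_map η.symm B hB)
  have h2 : Nat.card (B.map η.symm.toMonoidHom) = Nat.card B :=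
    Subgroup.card_map_of_injective η.symm.injective
  rwa [h2] at h1

theorem thompsonSubgroupA_map_equiv (η : S ≃* S') :
    (Cfsg.thompsonSubgroupA S).map η.toMonoidHom = Cfsg.thompsonSubgroupA S' := by
  apply le_antisymm (thompsonSubgroupA_map_equiv_le η)
  have h := thompsonSubgroupA_map_equiv_le η.symm
  intro x hx
  exact ⟨η.symm x, h ⟨x, hx, rfl⟩, by simp⟩

theorem centralizer_map_equiv' (η : S ≃* S') (K : Subgroup S) :
    (Subgroup.centralizer (K : Set S)).map η.toMonoidHom =
      Subgroup.centralizer ((K.map η.toMonoidHom : Subgroup S') : Set S') := by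
  ext y
  constructor
  · rintro ⟨x, hx, rfl⟩
    rw [Subgroup.mem_centralizer_iff]
    rintro _ ⟨k, hk, rfl⟩
    have := Subgroup.mem_centralizer_iff.1 hx k hk
    show η k * η x = η x * η k
    rw [← map_mul, ← map_mul, this]
  · intro hy
    refine ⟨η.symm y, ?_, by simp⟩
    rw [SetLike.mem_coe, Subgroup.mem_centralizer_iff]
    intro k hk
    have := Subgroup.mem_centralizer_iff.1 hy (η k) ⟨k, hk, rfl⟩
    apply η.injective
    rw [map_mul, map_mul, MulEquiv.apply_symm_apply]
    exact this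

end functor

/-- The functor `R ↦ Z(J(R))` (abelian version). -/
def zjFunctor : CharFunctor.{u} where
  W := fun R _ => Cfsg.thompsonSubgroupA R ⊓
    Subgroup.centralizer (Cfsg.thompsonSubgroupA R : Set R)
  map_equiv := by
    intro R R' _ _ e
    rw [Subgroup.map_inf _ _ _ e.injective, centralizer_map_equiv', thompsonSubgroupA_map_equiv]

theorem zjFunctor_of {G : Type u} [Group G] (P : Subgroup G) :
    zjFunctor.of P = Cfsg.centerThompsonAOf P := by
  unfold CharFunctor.of zjFunctor Cfsg.centerThompsonAOf Cfsg.thompsonSubgroupAOf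
  exact Cfsg.Agent.Lead.ZJ.map_inf_centralizer P _

theorem zjFunctor_ne_bot {p : ℕ} [hp : Fact p.Prime] (R : Type u) [Group R] [Finite R]
    (hR : IsPGroup p R) (hnt : Nontrivial R) : zjFunctor.W R ≠ ⊥ := by
  show Cfsg.thompsonSubgroupA R ⊓ Subgroup.centralizer (Cfsg.thompsonSubgroupA R : Set R) ≠ ⊥
  haveI hchar : (Cfsg.thompsonSubgroupA R).Characteristic := by
    rw [Subgroup.characteristic_iff_map_eq]
    intro ϕ
    exact thompsonSubgroupA_map_equiv ϕ
  apply PStableStruct.inf_centralizer_ne_bot _ _ (hR.to_subgroup _) (hR.to_subgroup _)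
  -- `J(R) ≠ ⊥`
  obtain ⟨x, hx⟩ := exists_ne (1 : R)
  obtain ⟨A, hA⟩ := Cfsg.Agent.Lead.ZJ.maxAb_nonempty R
  have hzc : IsMulCommutative (Subgroup.zpowers x) := inferInstance
  have h1 := hA.2 (Subgroup.zpowers x) hzc
  intro hbot
  have hAJ : A ≤ Cfsg.thompsonSubgroupA R := le_sSup hA
  rw [hbot, le_bot_iff] at hAJ
  rw [hAJ, Subgroup.card_bot] at h1
  have h2 : Nat.card (Subgroup.zpowers x) = 1 := le_antisymm h1 Nat.card_pos
  rw [Subgroup.card_eq_one, Subgroup.zpowers_eq_bot] at h2
  exact hx h2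

/-- Glauberman's theorem. -/
theorem glauberman_npc {p : ℕ} [hp : Fact p.Prime] (hp2 : p ≠ 2) (G : Type u) [Group G] [Finite G]
    (P : Sylow p G)
    (hN : Cfsg.HasNormalPComplement p
      ↥(Subgroup.normalizer (Cfsg.centerThompsonAOf ((P : Subgroup G)) : Set G))) :
    Cfsg.HasNormalPComplement p G := by
  refine reduction (F₁ := zjFunctor) (F₂ := zjFunctor) (fun R _ _ => zjFunctor_ne_bot R)
    (fun R _ _ => zjFunctor_ne_bot R) ?_ G P ?_
  · intro G _ _ P hyp hS
    have hst : ∀ (V : Subgroup G) [V.Normal], IsPGroup p V → Cfsg.IsPStableOn p V :=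
      fun V _ hV => hS.isPStableOn hp2 V hV
    haveI hchar := Cfsg.Agent.Lead.ZJ.zj_abelian hp2 hS.cent_le hst P
    have hnorm : Subgroup.normalizer (Cfsg.centerThompsonAOf ((P : Subgroup G)) : Set G) = ⊤ :=
      Subgroup.normalizer_eq_top _
    apply hS.not_nilp
    have h1 := hyp.1
    rw [zjFunctor_of, hnorm] at h1
    exact hasNormalPComplement_of_mulEquiv Subgroup.topEquiv h1
  · rw [Hyp, zjFunctor_of]
    refine ⟨hN, ?_⟩
    have hle : Subgroup.centralizer (Cfsg.centerThompsonAOf ((P : Subgroup G)) : Set G) ≤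
        Subgroup.normalizer (Cfsg.centerThompsonAOf ((P : Subgroup G)) : Set G) :=
      Subgroup.centralizer_le_normalizer _
    exact hasNormalPComplement_of_le hle hN

end ThompsonRed

end Cfsg.Agent.Helper1
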