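import Mathlib
import Cfsg.Prelude.Def_Local
import Cfsg.Agent.Helper1.Basic
import Cfsg.Agent.Helper1.Coprime
import Cfsg.Agent.Helper1.Cores
import Cfsg.Agent.Helper1.Fitting
import Cfsg.Agent.Helper1.Fitting2
import Cfsg.Agent.Helper1.SubnormalComm
import Cfsg.Agent.Helper1.ThompsonFactorQuot
import Cfsg.Agent.Helper4.UpperPSeries2

set_option autoImplicit false

/-!
`p`-stability passes to and from the quotient by `O_{p'}(G)`.
-/

namespace Cfsg.Agent.Helper1

open scoped Pointwise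

universe u

variable {G : Type u} [Group G]

section iso

variable [Finite G] (K : Subgroup G) [hKn : K.Normal]

/-- the map `N_G(P) → N_Ḡ(P̄) / C_Ḡ(P̄)` -/
noncomputable def normModCentHom (P : Subgroup G) :
    ↥(Subgroup.normalizer (P : Set G)) →*
      ↥(Subgroup.normalizer ((P.map (QuotientGroup.mk' K) : Subgroup (G ⧸ K)) : Set (G ⧸ K))) ⧸
        (Subgroup.centralizer ((P.map (QuotientGroup.mk' K) : Subgroup (G ⧸ K)) :
          Set (G ⧸ K))).subgroupOf
          (Subgroup.normalizer ((P.map (QuotientGroup.mk' K) : Subgroup (G ⧸ K)) : Set (G ⧸ K))) :=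
  (QuotientGroup.mk' _).comp
    (((QuotientGroup.mk' K).comp (Subgroup.normalizer (P : Set G)).subtype).codRestrict
      (Subgroup.normalizer ((P.map (QuotientGroup.mk' K) : Subgroup (G ⧸ K)) : Set (G ⧸ K)))
      (fun n => Subgroup.le_normalizer_map _ ⟨n.1, n.2, rfl⟩))

theorem normModCentHom_surjective {p : ℕ} [Fact p.Prime] (P : Subgroup G) (hP : IsPGroup p P)
    (hK : (Nat.card K).Coprime p) : Function.Surjective (normModCentHom K P) := by
  intro y
  obtain ⟨⟨nb, hnb⟩, rfl⟩ := QuotientGroup.mk_surjective y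
  obtain ⟨n, hn, rfl⟩ := normalizer_map_mk'_le K P hP hK hnb
  exact ⟨⟨n, hn⟩, rfl⟩

theorem normModCentHom_ker {p : ℕ} [Fact p.Prime] (P : Subgroup G) (hP : IsPGroup p P)
    (hK : (Nat.card K).Coprime p) :
    (normModCentHom K P).ker =
      (Subgroup.centralizer (P : Set G)).subgroupOf (Subgroup.normalizer (P : Set G)) := by
  have hcop : (Nat.card P).Coprime (Nat.card K) := by
    obtain ⟨k, hk⟩ := IsPGroup.iff_card.1 hP
    rw [hk]; exact (Nat.Coprime.pow_right k hK).symm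
  have hdisj : P ⊓ K = ⊥ := inf_eq_bot_of_coprime_card hcop
  ext n
  rw [MonoidHom.mem_ker, Subgroup.mem_subgroupOf]
  unfold normModCentHom
  rw [MonoidHom.comp_apply, QuotientGroup.mk'_apply, QuotientGroup.eq_one_iff,
    Subgroup.mem_subgroupOf]
  show (QuotientGroup.mk' K) (n : G) ∈ Subgroup.centralizer _ ↔ _
  constructor
  · intro h
    rw [Subgroup.mem_centralizer_iff]
    intro x hx
    have h1 : (n : G) * x * (n : G)⁻¹ ∈ P := (Subgroup.mem_normalizer_iff.1 n.2 x).1 hx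
    have h3 := Subgroup.mem_centralizer_iff.1 h ((QuotientGroup.mk' K) x) ⟨x, hx, rfl⟩
    have h2 : (QuotientGroup.mk' K) ((n : G) * x * (n : G)⁻¹ * x⁻¹) = 1 := by
      rw [map_mul, map_mul, map_mul, map_inv, map_inv, ← h3]
      group
    have h4 : (n : G) * x * (n : G)⁻¹ * x⁻¹ ∈ P ⊓ K :=
      ⟨P.mul_mem h1 (P.inv_mem hx), (QuotientGroup.eq_one_iff _).1 h2⟩
    rw [hdisj, Subgroup.mem_bot] at h4
    have h5 : (n : G) * x = x * (n : G) := by
      have := congrArg (· * (x * (n : G))) h4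
      simpa [mul_assoc] using this
    exact h5.symm
  · intro h
    rw [Subgroup.mem_centralizer_iff]
    rintro _ ⟨x, hx, rfl⟩
    have := Subgroup.mem_centralizer_iff.1 h x hx
    rw [← map_mul, ← map_mul, this]

/-- `N_G(P) / C_G(P) ≃ N_Ḡ(P̄) / C_Ḡ(P̄)` for a `p`-subgroup `P` and a normal `p'`-subgroup `K` -/
noncomputable def normModCentEquiv {p : ℕ} [Fact p.Prime] (P : Subgroup G) (hP : IsPGroup p P)
    (hK : (Nat.card K).Coprime p) :
    ↥(Subgroup.normalizer (P : Set G)) ⧸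
        (Subgroup.centralizer (P : Set G)).subgroupOf (Subgroup.normalizer (P : Set G)) ≃*
      ↥(Subgroup.normalizer ((P.map (QuotientGroup.mk' K) : Subgroup (G ⧸ K)) : Set (G ⧸ K))) ⧸
        (Subgroup.centralizer ((P.map (QuotientGroup.mk' K) : Subgroup (G ⧸ K)) :
          Set (G ⧸ K))).subgroupOf
          (Subgroup.normalizer ((P.map (QuotientGroup.mk' K) : Subgroup (G ⧸ K)) : Set (G ⧸ K))) :=
  (QuotientGroup.quotientMulEquivOfEq (normModCentHom_ker K P hP hK).symm).trans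
    (QuotientGroup.quotientKerEquivOfSurjective (normModCentHom K P)
      (normModCentHom_surjective K P hP hK))

theorem normModCentEquiv_mk {p : ℕ} [Fact p.Prime] (P : Subgroup G) (hP : IsPGroup p P)
    (hK : (Nat.card K).Coprime p) (n : ↥(Subgroup.normalizer (P : Set G))) :
    normModCentEquiv K P hP hK (QuotientGroup.mk n) = normModCentHom K P n := rfl

theorem normModCentEquiv_map {p : ℕ} [Fact p.Prime] (P : Subgroup G) (hP : IsPGroup p P)
    (hK : (Nat.card K).Coprime p) (A : Subgroup G)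
    (hA : A ≤ Subgroup.normalizer (P : Set G)) :
    ((A.subgroupOf (Subgroup.normalizer (P : Set G))).map (QuotientGroup.mk'
        ((Subgroup.centralizer (P : Set G)).subgroupOf (Subgroup.normalizer (P : Set G))))).map
        (normModCentEquiv K P hP hK).toMonoidHom =
      ((A.map (QuotientGroup.mk' K)).subgroupOf (Subgroup.normalizer
        ((P.map (QuotientGroup.mk' K) : Subgroup (G ⧸ K)) : Set (G ⧸ K)))).map
        (QuotientGroup.mk' ((Subgroup.centralizer ((P.map (QuotientGroup.mk' K) :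
          Subgroup (G ⧸ K)) : Set (G ⧸ K))).subgroupOf (Subgroup.normalizer
            ((P.map (QuotientGroup.mk' K) : Subgroup (G ⧸ K)) : Set (G ⧸ K))))) := by
  ext y
  constructor
  · rintro ⟨_, ⟨a, ha, rfl⟩, rfl⟩
    refine ⟨⟨(QuotientGroup.mk' K) (a : G), Subgroup.le_normalizer_map _ ⟨a.1, a.2, rfl⟩⟩, ?_, rfl⟩
    exact ⟨a.1, ha, rfl⟩
  · rintro ⟨⟨ab, hab⟩, hmem, rfl⟩
    obtain ⟨a, ha, rfl⟩ := hmem
    exact ⟨QuotientGroup.mk (⟨a, hA ha⟩ : ↥(Subgroup.normalizer (P : Set G))),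
      ⟨⟨a, hA ha⟩, ha, rfl⟩, rfl⟩

/-- the conclusion of `p`-stability for the pair `(A, P)` is equivalent to that for the images
in `G / K` -/
theorem stab_concl_iff {p : ℕ} [Fact p.Prime] (P : Subgroup G) (hP : IsPGroup p P)
    (hK : (Nat.card K).Coprime p) (A : Subgroup G)
    (hA : A ≤ Subgroup.normalizer (P : Set G)) :
    (A.subgroupOf (Subgroup.normalizer (P : Set G))).map (QuotientGroup.mk'
        ((Subgroup.centralizer (P : Set G)).subgroupOf (Subgroup.normalizer (P : Set G)))) ≤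
        Cfsg.pCore p _ ↔
      ((A.map (QuotientGroup.mk' K)).subgroupOf (Subgroup.normalizer
        ((P.map (QuotientGroup.mk' K) : Subgroup (G ⧸ K)) : Set (G ⧸ K)))).map
        (QuotientGroup.mk' ((Subgroup.centralizer ((P.map (QuotientGroup.mk' K) :
          Subgroup (G ⧸ K)) : Set (G ⧸ K))).subgroupOf (Subgroup.normalizer
            ((P.map (QuotientGroup.mk' K) : Subgroup (G ⧸ K)) : Set (G ⧸ K))))) ≤
        Cfsg.pCore p _ := by
  rw [← normModCentEquiv_map K P hP hK A hA,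
    ← Cfsg.Agent.Helper4.pCore_map_mulEquiv (normModCentEquiv K P hP hK)]
  exact (Subgroup.map_le_map_iff_of_injective (normModCentEquiv K P hP hK).injective).symm

end iso

section lemmas

theorem pCore_le_pPrimePCore (p : ℕ) [Fact p.Prime] (X : Type u) [Group X] :
    Cfsg.pCore p X ≤ Cfsg.pPrimePCore p X := by
  unfold Cfsg.pPrimePCore
  rw [← Subgroup.map_le_iff_le_comap]
  apply le_pCore
  · exact Subgroup.Normal.map inferInstance _ (QuotientGroup.mk'_surjective _)
  · exact (pCore_isPGroup p).map _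

/-- lifting a `p`-group image to a `p`-subgroup -/
theorem exists_pgroup_map_eq [Finite G] {Y : Type*} [Group Y] {p : ℕ} [Fact p.Prime]
    (f : G →* Y) (L : Subgroup G) (hL : IsPGroup p (L.map f)) :
    ∃ Q : Subgroup G, Q ≤ L ∧ IsPGroup p Q ∧ Q.map f = L.map f := by
  obtain ⟨S⟩ : Nonempty (Sylow p L) := inferInstance
  have hsurj := f.subgroupMap_surjective L
  have htop : ((S.mapSurjective hsurj : Sylow p (L.map f)) : Subgroup (L.map f)) = ⊤ :=
    ((S.mapSurjective hsurj).is_maximal' (hL.to_subgroup ⊤) le_top).symm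
  refine ⟨(S : Subgroup L).map L.subtype, Subgroup.map_subtype_le _, S.2.map _, ?_⟩
  apply le_antisymm
  · exact Subgroup.map_mono (Subgroup.map_subtype_le _)
  · intro y hy
    have h1 : (⟨y, hy⟩ : L.map f) ∈ ((S.mapSurjective hsurj : Sylow p (L.map f)) :
        Subgroup (L.map f)) := by rw [htop]; exact Subgroup.mem_top _
    rw [Sylow.coe_mapSurjective] at h1
    obtain ⟨s, hs, hs'⟩ := h1
    refine ⟨s.1, ⟨s, hs, rfl⟩, ?_⟩
    exact congrArg Subtype.val hs'

end lemmas

section main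

variable [Finite G] {p : ℕ} [Fact p.Prime]

theorem isPStable_of_quotient (hO : Cfsg.pCore p G ≠ ⊥)
    (h : Cfsg.IsPStable p (G ⧸ Cfsg.pPrimeCore p G)) : Cfsg.IsPStable p G := by
  obtain ⟨hodd, -, hst⟩ := h
  refine ⟨hodd, hO, ?_⟩
  intro A P hA hP hAP hPle hn hq
  have hKcop : (Nat.card (Cfsg.pPrimeCore p G)).Coprime p := card_pPrimeCore_coprime p
  have hAN : A ≤ Subgroup.normalizer (P : Set G) := le_normalizer_of_forall_conj_mem hAP
  have hPbn : (P.map (QuotientGroup.mk' (Cfsg.pPrimeCore p G))).Normal := by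
    have h1 : P.map (QuotientGroup.mk' (Cfsg.pPrimeCore p G)) =
        (Cfsg.pPrimeCore p G ⊔ P).map (QuotientGroup.mk' (Cfsg.pPrimeCore p G)) := by
      rw [Subgroup.map_sup, QuotientGroup.map_mk'_self, bot_sup_eq]
    rw [h1]
    exact Subgroup.Normal.map hn _ (QuotientGroup.mk'_surjective _)
  rw [stab_concl_iff (Cfsg.pPrimeCore p G) P hP hKcop A hAN]
  apply hst (A.map (QuotientGroup.mk' (Cfsg.pPrimeCore p G)))
    (P.map (QuotientGroup.mk' (Cfsg.pPrimeCore p G))) (hA.map _) (hP.map _)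
  · rintro _ ⟨a, ha, rfl⟩ _ ⟨x, hx, rfl⟩
    exact ⟨a * x * a⁻¹, hAP a ha x hx, by simp⟩
  · exact (le_pCore hPbn (hP.map _)).trans (pCore_le_pPrimePCore p _)
  · infer_instance
  · rw [← Subgroup.map_commutator, ← Subgroup.map_commutator, hq, Subgroup.map_bot]

theorem isPStable_quotient (h : Cfsg.IsPStable p G) :
    Cfsg.IsPStable p (G ⧸ Cfsg.pPrimeCore p G) := by
  obtain ⟨hodd, hO, hst⟩ := h
  have hKcop : (Nat.card (Cfsg.pPrimeCore p G)).Coprime p := card_pPrimeCore_coprime p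
  have hπs : Function.Surjective (QuotientGroup.mk' (Cfsg.pPrimeCore p G)) :=
    QuotientGroup.mk'_surjective _
  have hdisj : ∀ Q : Subgroup G, IsPGroup p Q → Q ⊓ Cfsg.pPrimeCore p G = ⊥ := by
    intro Q hQ
    apply inf_eq_bot_of_coprime_card
    obtain ⟨k, hk⟩ := IsPGroup.iff_card.1 hQ
    rw [hk]; exact (Nat.Coprime.pow_right k hKcop).symm
  refine ⟨hodd, ?_, ?_⟩
  · intro hbot
    apply hO
    have h1 : (Cfsg.pCore p G).map (QuotientGroup.mk' (Cfsg.pPrimeCore p G)) ≤
        Cfsg.pCore p (G ⧸ Cfsg.pPrimeCore p G) :=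
      le_pCore (Subgroup.Normal.map inferInstance _ hπs) ((pCore_isPGroup p).map _)
    rw [hbot, le_bot_iff, Subgroup.map_eq_bot_iff, QuotientGroup.ker_mk'] at h1
    rw [← inf_eq_left.2 h1]
    exact hdisj _ (pCore_isPGroup p)
  · intro Ab Pb hAb hPb hAPb hPle hn hq
    have hKb : Cfsg.pPrimeCore p (G ⧸ Cfsg.pPrimeCore p G) = ⊥ := pPrimeCore_quotient_pPrimeCore p
    have hPbn : Pb.Normal := by rw [hKb, bot_sup_eq] at hn; exact hn
    obtain ⟨P, -, hPp, hPmap⟩ := exists_pgroup_map_eq (QuotientGroup.mk' (Cfsg.pPrimeCore p G))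
      (Pb.comap (QuotientGroup.mk' (Cfsg.pPrimeCore p G)))
      (by rw [Subgroup.map_comap_eq_self_of_surjective hπs]; exact hPb)
    rw [Subgroup.map_comap_eq_self_of_surjective hπs] at hPmap
    subst hPmap
    have hAbN : Ab ≤ Subgroup.normalizer ((P.map (QuotientGroup.mk' (Cfsg.pPrimeCore p G)) :
        Subgroup (G ⧸ Cfsg.pPrimeCore p G)) : Set (G ⧸ Cfsg.pPrimeCore p G)) :=
      le_normalizer_of_forall_conj_mem hAPb
    have hLmap : (Ab.comap (QuotientGroup.mk' (Cfsg.pPrimeCore p G)) ⊓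
        Subgroup.normalizer (P : Set G)).map (QuotientGroup.mk' (Cfsg.pPrimeCore p G)) = Ab := by
      apply le_antisymm
      · rintro _ ⟨x, ⟨hx, -⟩, rfl⟩
        exact hx
      · intro ab hab
        obtain ⟨n, hn', rfl⟩ := normalizer_map_mk'_le (Cfsg.pPrimeCore p G) P hPp hKcop (hAbN hab)
        exact ⟨n, ⟨hab, hn'⟩, rfl⟩
    obtain ⟨A, hAL, hAp, hAmap⟩ := exists_pgroup_map_eq (QuotientGroup.mk' (Cfsg.pPrimeCore p G))
      (Ab.comap (QuotientGroup.mk' (Cfsg.pPrimeCore p G)) ⊓ Subgroup.normalizer (P : Set G))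
      (by rw [hLmap]; exact hAb)
    rw [hLmap] at hAmap
    subst hAmap
    have hAN : A ≤ Subgroup.normalizer (P : Set G) := hAL.trans inf_le_right
    rw [← stab_concl_iff (Cfsg.pPrimeCore p G) P hPp hKcop A hAN]
    apply hst A P hAp hPp
    · intro a ha x hx
      exact (Subgroup.mem_normalizer_iff.1 (hAN ha) x).1 hx
    · unfold Cfsg.pPrimePCore
      rw [← Subgroup.map_le_iff_le_comap]
      exact le_pCore hPbn hPb
    · have h1 : Cfsg.pPrimeCore p G ⊔ P =
          (P.map (QuotientGroup.mk' (Cfsg.pPrimeCore p G))).comap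
            (QuotientGroup.mk' (Cfsg.pPrimeCore p G)) := by
        rw [Subgroup.comap_map_eq, QuotientGroup.ker_mk', sup_comm]
      rw [h1]
      infer_instance
    · have hPA : ⁅P, A⁆ ≤ P := Subgroup.le_normalizer_iff_commutator_le_left.1 hAN
      have h1 : ⁅⁅P, A⁆, A⁆ ≤ P := (Subgroup.commutator_mono hPA le_rfl).trans hPA
      have h2 : ⁅⁅P, A⁆, A⁆ ≤ Cfsg.pPrimeCore p G := by
        have h3 : (⁅⁅P, A⁆, A⁆).map (QuotientGroup.mk' (Cfsg.pPrimeCore p G)) = ⊥ := by
          rw [Subgroup.map_commutator, Subgroup.map_commutator, hq]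
        rw [Subgroup.map_eq_bot_iff, QuotientGroup.ker_mk'] at h3
        exact h3
      rw [eq_bot_iff, ← hdisj P hPp]
      exact le_inf h1 h2

theorem isPStable_iff_quotient (hO : Cfsg.pCore p G ≠ ⊥) :
    Cfsg.IsPStable p G ↔ Cfsg.IsPStable p (G ⧸ Cfsg.pPrimeCore p G) :=
  ⟨isPStable_quotient, isPStable_of_quotient hO⟩

end main

end Cfsg.Agent.Helper1
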