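import Mathlib
import Cfsg.Prelude.Def_PLocal
import Cfsg.Prelude.Def_Local
import Cfsg.Agent.Helper1.PStableQuot
import Cfsg.Agent.Helper1.PStableStruct
import Cfsg.Agent.Helper1.GlaubermanNPC
import Cfsg.Agent.Helper2.PConstrained3
import Cfsg.Agent.Lead.ZJ2

set_option autoImplicit false

/-!
Glauberman's `ZJ`-factorization `G = O_{p'}(G) N_G(Z(J(P)))` for `p`-constrained `p`-stable groups.
-/

namespace Cfsg.Agent.Helper1

namespace ZJFact

open scoped commutatorElement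

universe u

/-- splitting `a` with `a ^ (p ^ k) ∈ C` as `a = c * d`, `c` a `p`-element in `⟨a⟩`, `d ∈ C`. -/
theorem exists_pPart_mod {X : Type u} [Group X] [Finite X] {p : ℕ} [hp : Fact p.Prime]
    (C : Subgroup X) (a : X) (k : ℕ) (ha : a ^ (p ^ k) ∈ C) :
    ∃ c ∈ Subgroup.zpowers a, (∃ j : ℕ, c ^ (p ^ j) = 1) ∧ c⁻¹ * a ∈ C := by
  have ho : 0 < orderOf a := orderOf_pos a
  obtain ⟨j, m, hm, hjm⟩ := Nat.exists_eq_pow_mul_and_not_dvd ho.ne' p hp.out.ne_one
  have hcop : IsCoprime (m : ℤ) ((p : ℤ) ^ k) := by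
    apply IsCoprime.pow_right
    rw [Int.isCoprime_iff_gcd_eq_one, Int.gcd_natCast_natCast]
    exact ((Nat.Prime.coprime_iff_not_dvd hp.out).2 hm).symm
  obtain ⟨s, t, hst⟩ := hcop
  refine ⟨a ^ (s * m), ⟨s * m, rfl⟩, ⟨j, ?_⟩, ?_⟩
  · rw [← zpow_natCast, ← zpow_mul]
    have : s * (m : ℤ) * ((p ^ j : ℕ) : ℤ) = ((orderOf a : ℕ) : ℤ) * s := by
      rw [hjm]; push_cast; ring
    rw [this, zpow_mul, zpow_natCast, pow_orderOf_eq_one, one_zpow]
  · have h1 : (a ^ (s * m))⁻¹ * a = (a ^ (p ^ k)) ^ t := by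
      rw [← zpow_neg, ← zpow_natCast a (p ^ k), ← zpow_mul]
      nth_rewrite 2 [← zpow_one a]
      rw [← zpow_add]
      congr 1
      push_cast
      linarith
    rw [h1]
    exact C.zpow_mem ha t

/-- In a group with `O_{p'} = 1`, `p`-stability (subgroup form) gives `p`-stability of the action on
every normal `p`-subgroup. -/
theorem isPStableOn_of_isPStable {X : Type u} [Group X] [Finite X] {p : ℕ} [hp : Fact p.Prime]
    (hK : Cfsg.pPrimeCore p X = ⊥) (hs : Cfsg.IsPStable p X) (V : Subgroup X) [hVn : V.Normal]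
    (hV : IsPGroup p V) : Cfsg.IsPStableOn p V := by
  obtain ⟨-, -, hst⟩ := hs
  intro a hq
  obtain ⟨k, hk⟩ := IsPGroup.iff_card.1 hV
  have ha : a ^ (p ^ k) ∈ Subgroup.centralizer (V : Set X) := by
    rw [← hk]; exact PStableStruct.pow_card_mem_centralizer_of_quadratic V a hq
  obtain ⟨c, hca, ⟨j, hcj⟩, hcd⟩ := exists_pPart_mod (Subgroup.centralizer (V : Set X)) a k ha
  have hcle : Subgroup.zpowers c ≤ Subgroup.zpowers a := (Subgroup.zpowers_le).2 hca
  have hAp : IsPGroup p (Subgroup.zpowers c) := by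
    have h1 : orderOf c ∣ p ^ j := orderOf_dvd_of_pow_eq_one hcj
    obtain ⟨i, -, hi⟩ := (Nat.dvd_prime_pow hp.out).1 h1
    apply IsPGroup.of_card (n := i)
    rw [Nat.card_zpowers, hi]
  have hN : Subgroup.normalizer (V : Set X) = ⊤ := Subgroup.normalizer_eq_top_iff.2 hVn
  have hconc := hst (Subgroup.zpowers c) V hAp hV
    (fun x _ v hv => hVn.conj_mem v hv x)
    ((le_pCore hVn hV).trans (pCore_le_pPrimePCore p X))
    (by rw [hK, bot_sup_eq]; exact hVn)
    (by
      rw [eq_bot_iff, ← hq]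
      exact Subgroup.commutator_mono (Subgroup.commutator_mono le_rfl hcle) hcle)
  -- transport to `X ⧸ C_X(V)`
  let φ : ↥(Subgroup.normalizer (V : Set X)) ⧸
      (Subgroup.centralizer (V : Set X)).subgroupOf (Subgroup.normalizer (V : Set X)) →*
      X ⧸ Subgroup.centralizer (V : Set X) :=
    QuotientGroup.map _ _ (Subgroup.normalizer (V : Set X)).subtype (fun x hx => hx)
  have hφs : Function.Surjective φ := by
    intro y
    obtain ⟨x, rfl⟩ := QuotientGroup.mk_surjective y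
    exact ⟨QuotientGroup.mk ⟨x, by rw [hN]; exact Subgroup.mem_top x⟩, rfl⟩
  have h1 : (Cfsg.pCore p (↥(Subgroup.normalizer (V : Set X)) ⧸
      (Subgroup.centralizer (V : Set X)).subgroupOf (Subgroup.normalizer (V : Set X)))).map φ ≤
      Cfsg.pCore p (X ⧸ Subgroup.centralizer (V : Set X)) :=
    le_pCore (Subgroup.Normal.map inferInstance _ hφs) ((pCore_isPGroup p).map _)
  have hcN : c ∈ Subgroup.normalizer (V : Set X) := by rw [hN]; exact Subgroup.mem_top c
  have h2 : (QuotientGroup.mk c : X ⧸ Subgroup.centralizer (V : Set X)) ∈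
      Cfsg.pCore p (X ⧸ Subgroup.centralizer (V : Set X)) := by
    apply h1
    refine ⟨QuotientGroup.mk ⟨c, hcN⟩, hconc ⟨⟨c, hcN⟩, ?_, rfl⟩, rfl⟩
    show (⟨c, hcN⟩ : ↥(Subgroup.normalizer (V : Set X))) ∈
      (Subgroup.zpowers c).subgroupOf (Subgroup.normalizer (V : Set X))
    rw [Subgroup.mem_subgroupOf]
    exact Subgroup.mem_zpowers c
  have h3 : (QuotientGroup.mk c : X ⧸ Subgroup.centralizer (V : Set X)) = QuotientGroup.mk a :=
    QuotientGroup.eq.2 hcd
  rw [← h3]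
  exact h2

theorem zj_factorization {G : Type u} [Group G] [Finite G] {p : ℕ} [hpf : Fact p.Prime]
    (hp : p ≠ 2) (hc : Cfsg.IsPConstrained p G) (hs : Cfsg.IsPStable p G) (P : Sylow p G) :
    Cfsg.pPrimeCore p G ⊔ Subgroup.normalizer (Cfsg.centerThompsonAOf ((P : Subgroup G)) : Set G)
        = ⊤ ∧
      (Cfsg.pPrimeCore p G = ⊥ → (Cfsg.centerThompsonAOf ((P : Subgroup G))).Normal) := by
  have hKcop : (Nat.card (Cfsg.pPrimeCore p G)).Coprime p := card_pPrimeCore_coprime p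
  have hπs : Function.Surjective (QuotientGroup.mk' (Cfsg.pPrimeCore p G)) :=
    QuotientGroup.mk'_surjective _
  have hKb : Cfsg.pPrimeCore p (G ⧸ Cfsg.pPrimeCore p G) = ⊥ := pPrimeCore_quotient_pPrimeCore p
  have hs' : Cfsg.IsPStable p (G ⧸ Cfsg.pPrimeCore p G) := isPStable_quotient hs
  have hcent : Subgroup.centralizer (Cfsg.pCore p (G ⧸ Cfsg.pPrimeCore p G) :
      Set (G ⧸ Cfsg.pPrimeCore p G)) ≤ Cfsg.pCore p (G ⧸ Cfsg.pPrimeCore p G) :=
    (Cfsg.Agent.Helper2.pLayer_eq_bot_iff_hasCharP p).1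
      ((Cfsg.Agent.Helper2.isPConstrained_iff p).1 hc)
  have hchar := Cfsg.Agent.Lead.ZJ.zj_abelian hp hcent
    (fun V _ hV => isPStableOn_of_isPStable hKb hs' V hV) (P.mapSurjective hπs)
  rw [Sylow.coe_mapSurjective] at hchar
  have hdisj : (P : Subgroup G) ⊓ (QuotientGroup.mk' (Cfsg.pPrimeCore p G)).ker = ⊥ := by
    rw [QuotientGroup.ker_mk']
    apply inf_eq_bot_of_coprime_card
    obtain ⟨k, hk⟩ := IsPGroup.iff_card.1 P.2
    rw [hk]; exact (Nat.Coprime.pow_right k hKcop).symm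
  have hmap : Cfsg.centerThompsonAOf ((P : Subgroup G).map
      (QuotientGroup.mk' (Cfsg.pPrimeCore p G))) =
      (Cfsg.centerThompsonAOf (P : Subgroup G)).map (QuotientGroup.mk' (Cfsg.pPrimeCore p G)) := by
    rw [← ThompsonRed.zjFunctor_of, ← ThompsonRed.zjFunctor_of]
    exact ThompsonRed.zjFunctor.of_map _ _ hdisj
  rw [hmap] at hchar
  have hnorm : ((Cfsg.centerThompsonAOf (P : Subgroup G)).map
      (QuotientGroup.mk' (Cfsg.pPrimeCore p G))).Normal := Subgroup.normal_of_characteristic _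
  have hZle : Cfsg.centerThompsonAOf (P : Subgroup G) ≤ P := by
    rw [← ThompsonRed.zjFunctor_of]
    exact Subgroup.map_subtype_le _
  have hZp : IsPGroup p (Cfsg.centerThompsonAOf (P : Subgroup G)) := P.2.to_le hZle
  have hmain : Cfsg.pPrimeCore p G ⊔
      Subgroup.normalizer (Cfsg.centerThompsonAOf ((P : Subgroup G)) : Set G) = ⊤ := by
    rw [eq_top_iff]
    intro g _
    have hg : (QuotientGroup.mk' (Cfsg.pPrimeCore p G)) g ∈ Subgroup.normalizer
        (((Cfsg.centerThompsonAOf (P : Subgroup G)).map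
          (QuotientGroup.mk' (Cfsg.pPrimeCore p G)) : Subgroup (G ⧸ Cfsg.pPrimeCore p G)) :
          Set (G ⧸ Cfsg.pPrimeCore p G)) := by
      rw [Subgroup.normalizer_eq_top_iff.2 hnorm]; exact Subgroup.mem_top _
    obtain ⟨n, hn, hng⟩ := normalizer_map_mk'_le (Cfsg.pPrimeCore p G) _ hZp hKcop hg
    have h1 : g * n⁻¹ ∈ Cfsg.pPrimeCore p G := by
      rw [← QuotientGroup.eq_one_iff, QuotientGroup.mk_mul, QuotientGroup.mk_inv]
      have : (QuotientGroup.mk n : G ⧸ Cfsg.pPrimeCore p G) = QuotientGroup.mk g := hng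
      rw [this, mul_inv_cancel]
    have : g = (g * n⁻¹) * n := by group
    rw [this]
    exact Subgroup.mul_mem_sup h1 hn
  refine ⟨hmain, ?_⟩
  intro hbot
  rw [hbot, bot_sup_eq] at hmain
  exact Subgroup.normalizer_eq_top_iff.1 hmain

end ZJFact

end Cfsg.Agent.Helper1
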