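import Mathlib
import Cfsg.Prelude.Def_LieExceptional
import Cfsg.Agent.Helper1.Basic
import Cfsg.Agent.Helper1.Coprime
import Cfsg.Agent.Helper1.CNGroup
import Cfsg.Agent.Helper1.CNFrobenius
import Cfsg.Agent.Helper1.PStableStruct
import Cfsg.Agent.Helper1.GlaubermanZJFact
import Cfsg.Agent.Helper4.PrimeGraphSolvB

set_option autoImplicit false

/-!
The CN-property passes to quotients by solvable normal subgroups.
-/

namespace Cfsg.Agent.Helper1

namespace CNQuot

open scoped commutatorElement Pointwise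

universe u

variable {G : Type u} [Group G]

/-- CN is invariant under isomorphism. -/
theorem isCNGroup_of_mulEquiv {G' : Type*} [Group G'] (e : G ≃* G') (h : Cfsg.IsCNGroup G) :
    Cfsg.IsCNGroup G' := by
  intro g' hg'
  have hg : e.symm g' ≠ 1 := by
    intro h1
    apply hg'
    have := congrArg e h1
    simpa using this
  haveI := h (e.symm g') hg
  let f : ↥(Subgroup.centralizer ({e.symm g'} : Set G)) →*
      ↥(Subgroup.centralizer ({g'} : Set G')) :=
    (e.toMonoidHom.comp (Subgroup.subtype _)).codRestrict _ (by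
      intro c
      rw [Subgroup.mem_centralizer_singleton_iff]
      have hc := Subgroup.mem_centralizer_singleton_iff.1 c.2
      have := congrArg e hc
      simpa using this)
  apply Group.nilpotent_of_surjective f
  intro c'
  refine ⟨⟨e.symm c'.1, ?_⟩, ?_⟩
  · rw [Subgroup.mem_centralizer_singleton_iff]
    have hc := Subgroup.mem_centralizer_singleton_iff.1 c'.2
    rw [← map_mul, ← map_mul, hc]
  · apply Subtype.ext
    simp [f]

/-- A subgroup containing a Sylow `r`-subgroup of `L` for each prime `r` contains `L`. -/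
theorem le_of_forall_sylow_le [Finite G] (L D : Subgroup G)
    (h : ∀ (r : ℕ) [Fact r.Prime], ∃ R : Sylow r L, (R : Subgroup L).map L.subtype ≤ D) :
    L ≤ D := by
  rw [← Subgroup.relIndex_eq_one, Nat.eq_one_iff_not_exists_prime_dvd]
  intro r hr hdvd
  haveI : Fact r.Prime := ⟨hr⟩
  obtain ⟨R, hR⟩ := h r
  have h1 : D.relIndex L ∣ ((R : Subgroup L).map L.subtype).relIndex L :=
    Subgroup.relIndex_dvd_of_le_left L hR
  have h2 : ((R : Subgroup L).map L.subtype).relIndex L = (R : Subgroup L).index := by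
    unfold Subgroup.relIndex Subgroup.subgroupOf
    rw [Subgroup.comap_map_eq_self_of_injective L.subtype_injective]
  rw [h2] at h1
  exact R.not_dvd_index (hdvd.trans h1)

/-- the coprime case: the preimage of `C_{G/A}(x̄)` is `A C_G(x)` -/
theorem comap_centralizer_le_of_coprime [Finite G] {p : ℕ} [hp : Fact p.Prime] (A : Subgroup G)
    [hAn : A.Normal] (hAab : IsMulCommutative A) (hAp : IsPGroup p A) (x : G) (q : ℕ)
    (hq : q.Prime) (hqp : q ≠ p) (hxq : x ^ q = 1) :
    (Subgroup.centralizer ({(QuotientGroup.mk x : G ⧸ A)} : Set (G ⧸ A))).comap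
        (QuotientGroup.mk' A) ≤ A ⊔ Subgroup.centralizer ({x} : Set G) := by
  intro g hg
  rw [Subgroup.mem_comap, Subgroup.mem_centralizer_singleton_iff] at hg
  have hg' : (QuotientGroup.mk g : G ⧸ A) * QuotientGroup.mk x = QuotientGroup.mk x *
      QuotientGroup.mk g := hg
  obtain ⟨k, hk⟩ := IsPGroup.iff_card.1 hAp
  have hcop : (Nat.card A).Coprime (Nat.card (Subgroup.zpowers x)) := by
    rw [hk, Nat.card_zpowers]
    apply Nat.Coprime.pow_left
    have h1 : orderOf x ∣ q := orderOf_dvd_of_pow_eq_one hxq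
    apply Nat.Coprime.coprime_dvd_right h1
    exact (Nat.coprime_primes hp.out hq).2 (Ne.symm hqp)
  have hdisj : A ⊓ Subgroup.zpowers x = ⊥ := inf_eq_bot_of_coprime_card hcop
  have hZA : Subgroup.zpowers x ≤ Subgroup.normalizer (A : Set G) := by
    rw [Subgroup.normalizer_eq_top_iff.2 hAn]; exact le_top
  have hcomm : ∀ i : ℤ, (QuotientGroup.mk (g * x ^ i * g⁻¹) : G ⧸ A) = QuotientGroup.mk (x ^ i) := by
    intro i
    rw [QuotientGroup.mk_mul, QuotientGroup.mk_mul, QuotientGroup.mk_inv, QuotientGroup.mk_zpow]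
    have : Commute (QuotientGroup.mk g : G ⧸ A) (QuotientGroup.mk x) := hg'
    rw [(this.zpow_right i).eq, mul_assoc, mul_inv_cancel, mul_one]
  have hB : MulAut.conj g • Subgroup.zpowers x ≤ A ⊔ Subgroup.zpowers x := by
    intro b hb
    rw [mem_conj_smul] at hb
    obtain ⟨i, hi⟩ := Subgroup.mem_zpowers_iff.1 hb
    have hb' : b = g * x ^ i * g⁻¹ := by rw [hi]; group
    have h1 : b * (x ^ i)⁻¹ ∈ A := by
      rw [← QuotientGroup.eq_one_iff, QuotientGroup.mk_mul, QuotientGroup.mk_inv, hb', hcomm i,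
        mul_inv_cancel]
    have : b = (b * (x ^ i)⁻¹) * x ^ i := by group
    rw [this]
    exact Subgroup.mul_mem _ (Subgroup.mem_sup_left h1)
      (Subgroup.mem_sup_right (Subgroup.zpow_mem _ (Subgroup.mem_zpowers x) i))
  haveI : IsMulCommutative A := hAab
  obtain ⟨n, hn, hnZ⟩ := sz_conj_internal A (Subgroup.zpowers x) (MulAut.conj g • Subgroup.zpowers x)
    hZA hB (card_conj_smul g _) hcop
    (Or.inl (Group.isSolvable_of_comm (fun a b => mul_comm' a b)))
  have h1 : n * x * n⁻¹ ∈ MulAut.conj g • Subgroup.zpowers x := by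
    rw [← hnZ, mem_conj_smul]
    have : n⁻¹ * (n * x * n⁻¹) * n = x := by group
    rw [this]; exact Subgroup.mem_zpowers x
  rw [mem_conj_smul] at h1
  -- h := g⁻¹ n
  have h2 : (g⁻¹ * (n * x * n⁻¹) * g) * x⁻¹ ∈ A := by
    rw [← QuotientGroup.eq_one_iff]
    have hn1 : (QuotientGroup.mk n : G ⧸ A) = 1 := (QuotientGroup.eq_one_iff n).2 hn
    simp only [QuotientGroup.mk_mul, QuotientGroup.mk_inv, hn1, one_mul, inv_one, mul_one]
    rw [mul_assoc (QuotientGroup.mk g : G ⧸ A)⁻¹, ← hg', ← mul_assoc, inv_mul_cancel, one_mul,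
      mul_inv_cancel]
  have h3 : (g⁻¹ * (n * x * n⁻¹) * g) * x⁻¹ ∈ A ⊓ Subgroup.zpowers x :=
    ⟨h2, Subgroup.mul_mem _ h1 (Subgroup.inv_mem _ (Subgroup.mem_zpowers x))⟩
  rw [hdisj, Subgroup.mem_bot] at h3
  have h4 : g⁻¹ * n ∈ Subgroup.centralizer ({x} : Set G) := by
    rw [Subgroup.mem_centralizer_singleton_iff]
    have h5 : g⁻¹ * (n * x * n⁻¹) * g = x := by
      have := congrArg (· * x) h3
      simpa using this
    have h6 : g⁻¹ * n * x = (g⁻¹ * (n * x * n⁻¹) * g) * (g⁻¹ * n) := by group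
    rw [h6, h5]
  have h7 : g = n * (g⁻¹ * n)⁻¹ := by group
  rw [h7]
  exact Subgroup.mul_mem _ (Subgroup.mem_sup_left hn)
    (Subgroup.mem_sup_right (Subgroup.inv_mem _ h4))

/-- the case `q = p`: the preimage of `C_{G/A}(x̄)` is nilpotent -/
theorem comap_centralizer_nilpotent_of_p [Finite G] {p : ℕ} [hp : Fact p.Prime]
    (hCN : Cfsg.IsCNGroup G) (A : Subgroup G) [hAn : A.Normal]
    (hAp : IsPGroup p A) (hA1 : A ≠ ⊥) (x : G) (hxA : x ∉ A) (hxp : x ^ p ∈ A) :
    Group.IsNilpotent ↥((Subgroup.centralizer ({(QuotientGroup.mk x : G ⧸ A)} :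
      Set (G ⧸ A))).comap (QuotientGroup.mk' A)) := by
  obtain ⟨L, hL⟩ : ∃ L, L = (Subgroup.centralizer ({(QuotientGroup.mk x : G ⧸ A)} :
      Set (G ⧸ A))).comap (QuotientGroup.mk' A) := ⟨_, rfl⟩
  rw [← hL]
  have hmemL : ∀ g : G, g ∈ L ↔ (QuotientGroup.mk g : G ⧸ A) * QuotientGroup.mk x =
      QuotientGroup.mk x * QuotientGroup.mk g := by
    intro g
    rw [hL, Subgroup.mem_comap, Subgroup.mem_centralizer_singleton_iff]
    rfl
  obtain ⟨k, hk⟩ := IsPGroup.iff_card.1 hAp
  have hxpow : x ^ (p ^ (k + 1)) = 1 := by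
    have h1 : (⟨x ^ p, hxp⟩ : A) ^ (p ^ k) = 1 := by rw [← hk]; exact pow_card_eq_one'
    have h2 := congrArg Subtype.val h1
    rw [pow_succ', pow_mul]
    simpa using h2
  have hZp : IsPGroup p (Subgroup.zpowers x) := by
    obtain ⟨i, -, hi⟩ := (Nat.dvd_prime_pow hp.out).1 (orderOf_dvd_of_pow_eq_one hxpow)
    apply IsPGroup.of_card (n := i)
    rw [Nat.card_zpowers, hi]
  have hPp : IsPGroup p (A ⊔ Subgroup.zpowers x : Subgroup G) :=
    IsPGroup.to_sup_of_normal_left hAp hZp
  have hZA : Subgroup.zpowers x ≤ Subgroup.normalizer (A : Set G) := by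
    rw [Subgroup.normalizer_eq_top_iff.2 hAn]; exact le_top
  have hAL : A ≤ L := by
    intro a ha
    rw [hmemL, (QuotientGroup.eq_one_iff a).2 ha, one_mul, mul_one]
  have hxL : x ∈ L := by rw [hmemL]
  have hPL : A ⊔ Subgroup.zpowers x ≤ L := sup_le hAL ((Subgroup.zpowers_le).2 hxL)
  -- `[P, L] ≤ A`
  have hkey : ∀ u ∈ A ⊔ Subgroup.zpowers x, ∀ g ∈ L, ⁅u, g⁆ ∈ A := by
    intro u hu g hg
    obtain ⟨a, ha, z, hz, rfl⟩ := mem_sup_of_le_normalizer hZA hu
    obtain ⟨i, rfl⟩ := Subgroup.mem_zpowers_iff.1 hz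
    rw [← QuotientGroup.eq_one_iff, commutatorElement_def]
    have hg' := (hmemL g).1 hg
    have hc : Commute (QuotientGroup.mk g : G ⧸ A) (QuotientGroup.mk x) := hg'
    simp only [QuotientGroup.mk_mul, QuotientGroup.mk_inv, QuotientGroup.mk_zpow,
      (QuotientGroup.eq_one_iff a).2 ha, one_mul]
    rw [← (hc.zpow_right i).eq, mul_assoc, mul_assoc, mul_inv_cancel_left, mul_inv_cancel]
  have hLP : L ≤ Subgroup.normalizer ((A ⊔ Subgroup.zpowers x : Subgroup G) : Set G) := by
    apply le_normalizer_of_forall_conj_mem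
    intro g hg u hu
    have h1 := hkey u hu g hg
    have h2 : g * u * g⁻¹ = (⁅u, g⁆)⁻¹ * u := by rw [commutatorElement_def]; group
    rw [h2]
    exact Subgroup.mul_mem _ (Subgroup.mem_sup_left (A.inv_mem h1)) hu
  -- a Sylow `p`-subgroup of `L`
  obtain ⟨S⟩ : Nonempty (Sylow p L) := inferInstance
  have hPS : A ⊔ Subgroup.zpowers x ≤ (S : Subgroup L).map L.subtype := by
    haveI : ((A ⊔ Subgroup.zpowers x : Subgroup G).subgroupOf L).Normal :=
      (Subgroup.normal_subgroupOf_iff_le_normalizer hPL).2 hLP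
    have h1 : (A ⊔ Subgroup.zpowers x : Subgroup G).subgroupOf L ≤ S :=
      Cfsg.Agent.Lead.ZJ.le_sylow_of_normal S inferInstance
        (hPp.comap_of_injective L.subtype L.subtype_injective)
    intro u hu
    exact ⟨⟨u, hPL hu⟩, h1 hu, rfl⟩
  have hSp : IsPGroup p ((S : Subgroup L).map L.subtype) := S.2.map _
  have hne := PStableStruct.inf_centralizer_ne_bot ((S : Subgroup L).map L.subtype) A hSp hAp hA1
  obtain ⟨⟨t, htA, htS⟩, ht1⟩ := Subgroup.ne_bot_iff_exists_ne_one.1 hne
  have ht1' : t ≠ 1 := fun h => ht1 (Subtype.ext h)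
  have hCt := hCN t ht1'
  have htp : ∃ i : ℕ, orderOf t = p ^ i := by
    obtain ⟨i, hi⟩ := (IsPGroup.iff_orderOf.1 hAp) ⟨t, htA⟩
    exact ⟨i, by rw [← hi, Subgroup.orderOf_mk]⟩
  have hLC : L ≤ Subgroup.centralizer ({t} : Set G) := by
    apply le_of_forall_sylow_le
    intro r hr
    by_cases hrp : r = p
    · subst hrp
      refine ⟨S, ?_⟩
      intro y hy
      rw [Subgroup.mem_centralizer_singleton_iff]
      exact (Subgroup.mem_centralizer_iff.1 htS y hy)
    · obtain ⟨R⟩ : Nonempty (Sylow r L) := inferInstance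
      refine ⟨R, ?_⟩
      rintro _ ⟨y, hy, rfl⟩
      have hyL : (y : G) ∈ L := y.2
      obtain ⟨j, hj⟩ := (IsPGroup.iff_orderOf.1 R.2) ⟨y, hy⟩
      have hj' : orderOf (y : G) = r ^ j := by
        rw [← hj, Subgroup.orderOf_mk, Subgroup.orderOf_coe]
      have hrp' : Nat.Coprime r p := (Nat.coprime_primes hr.out hp.out).2 hrp
      obtain ⟨m, hm⟩ := IsPGroup.iff_card.1 hPp
      have hYP : Subgroup.zpowers (y : G) ≤
          Subgroup.normalizer ((A ⊔ Subgroup.zpowers x : Subgroup G) : Set G) :=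
        (Subgroup.zpowers_le).2 (hLP hyL)
      have hcop : (Nat.card (Subgroup.zpowers (y : G))).Coprime
          (Nat.card (A ⊔ Subgroup.zpowers x : Subgroup G)) := by
        rw [Nat.card_zpowers, hj', hm]
        exact Nat.Coprime.pow _ _ hrp'
      have hdec := coprime_commutator_sup_centralizer (Subgroup.zpowers (y : G))
        (A ⊔ Subgroup.zpowers x) hYP hcop
        (Or.inl (Group.isSolvable_of_comm (fun a b => mul_comm' a b)))
      have hcomA : ⁅(A ⊔ Subgroup.zpowers x : Subgroup G), Subgroup.zpowers (y : G)⁆ ≤ A := by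
        rw [Subgroup.commutator_le]
        intro u hu z hz
        exact hkey u hu z ((Subgroup.zpowers_le).2 hyL hz)
      have hx1 : x ∈ A ⊔ ((A ⊔ Subgroup.zpowers x) ⊓
          Subgroup.centralizer ((Subgroup.zpowers (y : G) : Subgroup G) : Set G)) := by
        have h1 : x ∈ (A ⊔ Subgroup.zpowers x : Subgroup G) :=
          Subgroup.mem_sup_right (Subgroup.mem_zpowers x)
        rw [← hdec] at h1
        exact (sup_le_sup_right hcomA _) h1
      have hCA : ((A ⊔ Subgroup.zpowers x) ⊓
          Subgroup.centralizer ((Subgroup.zpowers (y : G) : Subgroup G) : Set G)) ≤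
          Subgroup.normalizer (A : Set G) := by
        rw [Subgroup.normalizer_eq_top_iff.2 hAn]; exact le_top
      obtain ⟨a, ha, c, ⟨hcP, hcY⟩, hxac⟩ := mem_sup_of_le_normalizer hCA hx1
      have hcA : c ∉ A := by
        intro hc
        apply hxA
        rw [hxac]; exact A.mul_mem ha hc
      have hc1 : c ≠ 1 := fun h => hcA (h ▸ A.one_mem)
      have hCc := hCN c hc1
      have hyc : (y : G) ∈ Subgroup.centralizer ({c} : Set G) := by
        rw [Subgroup.mem_centralizer_singleton_iff]
        exact (Subgroup.mem_centralizer_iff.1 hcY (y : G) (Subgroup.mem_zpowers _))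
      have htc : t ∈ Subgroup.centralizer ({c} : Set G) := by
        rw [Subgroup.mem_centralizer_singleton_iff]
        exact (Subgroup.mem_centralizer_iff.1 htS c (hPS hcP)).symm
      obtain ⟨i, hi⟩ := htp
      have hcop2 : (orderOf t).Coprime (orderOf (y : G)) := by
        rw [hi, hj']
        exact Nat.Coprime.pow _ _ hrp'.symm
      have := commute_of_coprime_orderOf_of_mem hCc htc hyc hcop2
      rw [Subgroup.mem_centralizer_singleton_iff]
      exact this.symm
  exact CNFrob.nilp_of_le hLC hCt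

/-- CN passes to the quotient by a nontrivial abelian normal `p`-subgroup. -/
theorem cn_quotient_abelian_pgroup [Finite G] {p : ℕ} [hp : Fact p.Prime]
    (hCN : Cfsg.IsCNGroup G) (A : Subgroup G) [hAn : A.Normal] (hAab : IsMulCommutative A)
    (hAp : IsPGroup p A) (hA1 : A ≠ ⊥) : Cfsg.IsCNGroup (G ⧸ A) := by
  intro yb hyb
  have hm0 : orderOf yb ≠ 0 := (orderOf_pos yb).ne'
  have hm1 : orderOf yb ≠ 1 := fun h => hyb (orderOf_eq_one_iff.1 h)
  obtain ⟨q, hq, hqm⟩ := Nat.exists_prime_and_dvd hm1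
  have hxq : orderOf (yb ^ (orderOf yb / q)) = q := orderOf_pow_orderOf_div hm0 hqm
  obtain ⟨xb, hxb⟩ : ∃ xb, xb = yb ^ (orderOf yb / q) := ⟨_, rfl⟩
  rw [← hxb] at hxq
  have hle : Subgroup.centralizer ({yb} : Set (G ⧸ A)) ≤ Subgroup.centralizer ({xb} : Set (G ⧸ A)) := by
    intro c hc
    rw [Subgroup.mem_centralizer_singleton_iff] at hc ⊢
    have hc' : Commute c yb := hc
    rw [hxb]
    exact (hc'.pow_right _).eq
  apply CNFrob.nilp_of_le hle
  have hxb1 : xb ≠ 1 := by
    intro h
    rw [h, orderOf_one] at hxq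
    exact hq.one_lt.ne hxq
  have hxbq : xb ^ q = 1 := by rw [← hxq]; exact pow_orderOf_eq_one xb
  obtain ⟨x₀, rfl⟩ := QuotientGroup.mk_surjective xb
  have hπs : Function.Surjective (QuotientGroup.mk' A) := QuotientGroup.mk'_surjective A
  by_cases hqp : q = p
  · subst hqp
    have hx₀A : x₀ ∉ A := fun h => hxb1 ((QuotientGroup.eq_one_iff x₀).2 h)
    have hx₀p : x₀ ^ q ∈ A := by
      rw [← QuotientGroup.eq_one_iff, QuotientGroup.mk_pow]; exact hxbq
    haveI := comap_centralizer_nilpotent_of_p hCN A hAp hA1 x₀ hx₀A hx₀p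
    rw [← Subgroup.map_comap_eq_self_of_surjective hπs
      (Subgroup.centralizer ({(QuotientGroup.mk x₀ : G ⧸ A)} : Set (G ⧸ A)))]
    exact Group.nilpotent_of_surjective _ ((QuotientGroup.mk' A).subgroupMap_surjective _)
  · haveI : Fact q.Prime := ⟨hq⟩
    have h1 : x₀ ^ (q ^ 1) ∈ A := by
      rw [pow_one, ← QuotientGroup.eq_one_iff, QuotientGroup.mk_pow]; exact hxbq
    obtain ⟨c, -, ⟨j, hcj⟩, hcx⟩ := ZJFact.exists_pPart_mod A x₀ 1 h1
    have hmk : (QuotientGroup.mk c : G ⧸ A) = QuotientGroup.mk x₀ := QuotientGroup.eq.2 hcx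
    have hcq : c ^ q = 1 := by
      have h2 : c ^ q ∈ A := by
        rw [← QuotientGroup.eq_one_iff, QuotientGroup.mk_pow, hmk]; exact hxbq
      have h3 : (c ^ q) ^ (q ^ j) = 1 := by rw [← pow_mul, mul_comm, pow_mul, hcj, one_pow]
      obtain ⟨k, hk⟩ := IsPGroup.iff_card.1 hAp
      have h4 : (c ^ q) ^ (p ^ k) = 1 := by
        have h5 : (⟨c ^ q, h2⟩ : A) ^ (p ^ k) = 1 := by rw [← hk]; exact pow_card_eq_one'
        have := congrArg Subtype.val h5
        simpa using this
      have h6 : orderOf (c ^ q) ∣ Nat.gcd (q ^ j) (p ^ k) :=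
        Nat.dvd_gcd (orderOf_dvd_of_pow_eq_one h3) (orderOf_dvd_of_pow_eq_one h4)
      have h7 : Nat.gcd (q ^ j) (p ^ k) = 1 :=
        Nat.Coprime.pow _ _ ((Nat.coprime_primes hq hp.out).2 hqp)
      rw [h7, Nat.dvd_one, orderOf_eq_one_iff] at h6
      exact h6
    have hc1 : c ≠ 1 := by
      intro h
      apply hxb1
      rw [← hmk, h]; rfl
    haveI := hCN c hc1
    have hL := comap_centralizer_le_of_coprime A hAab hAp c q hq hqp hcq
    rw [hmk] at hL
    have h8 : Subgroup.centralizer ({(QuotientGroup.mk x₀ : G ⧸ A)} : Set (G ⧸ A)) ≤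
        (Subgroup.centralizer ({c} : Set G)).map (QuotientGroup.mk' A) := by
      rw [← Subgroup.map_comap_eq_self_of_surjective hπs
        (Subgroup.centralizer ({(QuotientGroup.mk x₀ : G ⧸ A)} : Set (G ⧸ A)))]
      refine (Subgroup.map_mono hL).trans ?_
      rw [Subgroup.map_sup, QuotientGroup.map_mk'_self, bot_sup_eq]
    apply CNFrob.nilp_of_le h8
    exact Group.nilpotent_of_surjective _ ((QuotientGroup.mk' A).subgroupMap_surjective _)

/-- a nontrivial solvable normal subgroup `H` contains a nontrivial normal subgroup `N` of `G`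
which is either `[H, H]` or an abelian `p`-group -/
theorem cn_quotient_solvable : ∀ (n : ℕ) (G : Type u) [Group G] [Finite G] (H : Subgroup G)
    [H.Normal], Nat.card H = n → Cfsg.IsCNGroup G → Group.IsSolvable H →
    Cfsg.IsCNGroup (G ⧸ H) := by
  intro n
  induction n using Nat.strong_induction_on with
  | _ n ih =>
  intro G _ _ H hHn hcard hCN hsol
  by_cases hH1 : H = ⊥
  · subst hH1
    exact isCNGroup_of_mulEquiv (QuotientGroup.quotientBot (G := G)).symm hCN
  · have hex : ∃ (N : Subgroup G) (_ : N.Normal), N ≤ H ∧ N ≠ ⊥ ∧ Cfsg.IsCNGroup (G ⧸ N) := by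
      by_cases hK : (⁅H, H⁆ : Subgroup G) = ⊥
      · -- `H` is abelian
        have hHab : IsMulCommutative H := by
          refine ⟨⟨fun a b => Subtype.ext ?_⟩⟩
          have h1 := (Subgroup.commutator_eq_bot_iff_le_centralizer).1 hK
          exact (Subgroup.mem_centralizer_iff.1 (h1 a.2) b b.2).symm
        have hc1 : Nat.card H ≠ 1 := by
          intro h
          exact hH1 (Subgroup.card_eq_one.1 h)
        obtain ⟨p, hp, hpH⟩ := Nat.exists_prime_and_dvd hc1
        haveI : Fact p.Prime := ⟨hp⟩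
        obtain ⟨y, hy⟩ := exists_prime_orderOf_dvd_card' p hpH
        refine ⟨PStableStruct.omegaAb H hHab p, PStableStruct.omegaAb_normal H hHab p,
          PStableStruct.omegaAb_le H hHab p, ?_, ?_⟩
        · intro hbot
          have h1 : (y : G) ∈ PStableStruct.omegaAb H hHab p := by
            refine ⟨y.2, ?_⟩
            have := pow_orderOf_eq_one y
            rw [hy] at this
            exact congrArg Subtype.val this
          rw [hbot, Subgroup.mem_bot] at h1
          have h2 : y = 1 := Subtype.ext h1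
          rw [h2, orderOf_one] at hy
          exact hp.one_lt.ne hy
        · haveI := PStableStruct.omegaAb_normal H hHab p
          apply cn_quotient_abelian_pgroup (p := p) hCN (PStableStruct.omegaAb H hHab p)
          · refine ⟨⟨fun a b => Subtype.ext ?_⟩⟩
            have := mul_comm' (⟨a.1, a.2.1⟩ : H) ⟨b.1, b.2.1⟩
            exact congrArg (fun z : H => (z : G)) this
          · intro a
            refine ⟨1, ?_⟩
            apply Subtype.ext
            rw [pow_one]
            exact a.2.2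
          · intro hbot
            have h1 : (y : G) ∈ PStableStruct.omegaAb H hHab p := by
              refine ⟨y.2, ?_⟩
              have := pow_orderOf_eq_one y
              rw [hy] at this
              exact congrArg Subtype.val this
            rw [hbot, Subgroup.mem_bot] at h1
            have h2 : y = 1 := Subtype.ext h1
            rw [h2, orderOf_one] at hy
            exact hp.one_lt.ne hy
      · have hKn : (⁅H, H⁆ : Subgroup G).Normal := inferInstance
        have hKH : (⁅H, H⁆ : Subgroup G) ≤ H := (Subgroup.commutator_le_inf H H).trans inf_le_left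
        refine ⟨⁅H, H⁆, hKn, hKH, hK, ?_⟩
        have hlt := Cfsg.Agent.Helper4.card_commutator_lt H hsol hH1
        rw [hcard] at hlt
        exact ih _ hlt G ⁅H, H⁆ rfl hCN (Cfsg.Agent.Helper4.isSolvable_commutator_subgroup H hsol)
    obtain ⟨N, hNn, hNH, hN1, hCNN⟩ := hex
    have hmul := card_map_mk'_mul_card N H hNH
    have hNc : 1 < Nat.card N := by
      rcases Nat.lt_or_ge 1 (Nat.card N) with h | h
      · exact h
      · exfalso
        have : Nat.card N = 1 := le_antisymm h Nat.card_pos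
        exact hN1 (Subgroup.card_eq_one.1 this)
    have hlt : Nat.card (H.map (QuotientGroup.mk' N)) < n := by
      rw [← hcard, ← hmul]
      have hpos : 0 < Nat.card (H.map (QuotientGroup.mk' N)) := Nat.card_pos
      nlinarith
    have hsolb : Group.IsSolvable (H.map (QuotientGroup.mk' N)) :=
      Group.isSolvable_of_surjective ((QuotientGroup.mk' N).subgroupMap_surjective H)
    have h1 := ih _ hlt (G ⧸ N) (H.map (QuotientGroup.mk' N)) rfl hCNN hsolb
    exact isCNGroup_of_mulEquiv (QuotientGroup.quotientQuotientEquivQuotient N H hNH) h1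

end CNQuot

end Cfsg.Agent.Helper1
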