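import Mathlib
import Cfsg.Prelude.Def_Local
import Cfsg.Agent.Helper1.Cores
import Cfsg.Agent.Helper1.Fitting
import Cfsg.Agent.Helper1.Fitting2

set_option autoImplicit false

/-!
Solvable subgroups of odd order of `GL(2, E)`, `E` a field of odd characteristic `p`:
if `p` divides the order there is an invariant line.
-/

namespace Cfsg.Agent.Helper1

namespace OddGL2

open Matrix

variable {E : Type*} [Field E]

theorem cayley_hamilton_two (a : Matrix (Fin 2) (Fin 2) E) :
    a * a = a.trace • a - a.det • (1 : Matrix (Fin 2) (Fin 2) E) := by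
  ext i j
  fin_cases i <;> fin_cases j <;>
    simp [Matrix.mul_apply, Fin.sum_univ_two, Matrix.trace_fin_two, Matrix.det_fin_two] <;> ring

theorem eq_smul_add_smul_of_entries (a b : Matrix (Fin 2) (Fin 2) E) (x y : E)
    (h00 : b 0 0 = x + y * a 0 0) (h01 : b 0 1 = y * a 0 1) (h10 : b 1 0 = y * a 1 0)
    (h11 : b 1 1 = x + y * a 1 1) : b = x • 1 + y • a := by
  ext i j
  fin_cases i <;> fin_cases j <;> simp [h00, h01, h10, h11]

theorem commutant_two (a b : Matrix (Fin 2) (Fin 2) E) (hns : ∀ c : E, a ≠ c • 1)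
    (hab : a * b = b * a) : ∃ x y : E, b = x • 1 + y • a := by
  have h11 := congrFun (congrFun hab 0) 0
  have h12 := congrFun (congrFun hab 0) 1
  have h21 := congrFun (congrFun hab 1) 0
  have h22 := congrFun (congrFun hab 1) 1
  simp only [Matrix.mul_apply, Fin.sum_univ_two] at h11 h12 h21 h22
  by_cases hq : a 0 1 = 0
  · by_cases hr : a 1 0 = 0
    · have hps : a 0 0 ≠ a 1 1 := by
        intro h
        apply hns (a 0 0)
        ext i j
        fin_cases i <;> fin_cases j <;> simp [hq, hr, h]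
      have hps' : a 0 0 - a 1 1 ≠ 0 := sub_ne_zero.2 hps
      have hx : b 0 1 = 0 := by
        have : b 0 1 * (a 0 0 - a 1 1) = 0 := by rw [hq] at h12; linear_combination h12
        exact (mul_eq_zero.1 this).resolve_right hps'
      have hy : b 1 0 = 0 := by
        have : b 1 0 * (a 0 0 - a 1 1) = 0 := by rw [hr] at h21; linear_combination -h21
        exact (mul_eq_zero.1 this).resolve_right hps'
      refine ⟨b 0 0 - (b 0 0 - b 1 1) / (a 0 0 - a 1 1) * a 0 0,
        (b 0 0 - b 1 1) / (a 0 0 - a 1 1), ?_⟩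
      apply eq_smul_add_smul_of_entries
      · ring
      · rw [hx, hq, mul_zero]
      · rw [hy, hr, mul_zero]
      · field_simp
        ring
    · refine ⟨b 0 0 - b 1 0 / a 1 0 * a 0 0, b 1 0 / a 1 0, ?_⟩
      apply eq_smul_add_smul_of_entries
      · ring
      · field_simp
        linear_combination -h11
      · field_simp
      · field_simp
        linear_combination -h21
  · refine ⟨b 0 0 - b 0 1 / a 0 1 * a 0 0, b 0 1 / a 0 1, ?_⟩
    apply eq_smul_add_smul_of_entries
    · ring
    · field_simp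
    · field_simp
      linear_combination h11
    · field_simp
      linear_combination h12

theorem lin_indep_one_two (a : Matrix (Fin 2) (Fin 2) E) (hns : ∀ c : E, a ≠ c • 1) (c₀ c₁ : E)
    (h : c₀ • (1 : Matrix (Fin 2) (Fin 2) E) + c₁ • a = 0) : c₀ = 0 ∧ c₁ = 0 := by
  have hc1 : c₁ = 0 := by
    by_contra hc
    apply hns (-c₀ / c₁)
    have h1 : c₁ • a = -(c₀ • (1 : Matrix (Fin 2) (Fin 2) E)) := eq_neg_of_add_eq_zero_right h
    have h2 : a = c₁⁻¹ • (c₁ • a) := by rw [smul_smul, inv_mul_cancel₀ hc, one_smul]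
    rw [h2, h1, ← neg_smul, smul_smul]
    congr 1
    field_simp
  refine ⟨?_, hc1⟩
  rw [hc1, zero_smul, add_zero] at h
  have := congrFun (congrFun h 0) 0
  simpa using this

theorem pow_succ_smul_one_add_nilp (c : E) (N : Matrix (Fin 2) (Fin 2) E) (hN : N * N = 0)
    (m : ℕ) : (c • (1 : Matrix (Fin 2) (Fin 2) E) + N) ^ (m + 1) =
      c ^ (m + 1) • (1 : Matrix (Fin 2) (Fin 2) E) + (((m + 1 : ℕ) : E) * c ^ m) • N := by
  induction m with
  | zero => simp
  | succ m ih =>
    rw [pow_succ, ih]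
    simp only [add_mul, mul_add, smul_mul_assoc, mul_smul_comm, one_mul, mul_one, hN, smul_zero,
      add_zero]
    push_cast
    module

theorem lemmaK (h2 : (2 : E) ≠ 0) (a g gi : Matrix (Fin 2) (Fin 2) E) (hg : g * gi = 1)
    (hg' : gi * g = 1) (hns : ∀ c : E, a ≠ c • 1) (m : ℕ) (hm : (m : E) ≠ 0) (ham : a ^ m = 1)
    (hcomm : a * (g * a * gi) = (g * a * gi) * a) (n : ℕ) (hn : Odd n) (hgn : g ^ n = 1) :
    g * a * gi = a := by
  obtain ⟨x, y, hxy⟩ := commutant_two a (g * a * gi) hns hcomm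
  have htr : (g * a * gi).trace = a.trace := by
    rw [Matrix.trace_mul_comm, ← mul_assoc, hg', one_mul]
  have hdet : (g * a * gi).det = a.det := by
    rw [Matrix.det_mul, Matrix.det_mul, mul_comm (g.det), mul_assoc, ← Matrix.det_mul, hg,
      Matrix.det_one, mul_one]
  have hch := cayley_hamilton_two a
  have hch' := cayley_hamilton_two (g * a * gi)
  rw [htr, hdet] at hch'
  set τ := a.trace with hτ
  set δ := a.det with hδ
  -- expand
  have hexp : (x • (1 : Matrix (Fin 2) (Fin 2) E) + y • a) * (x • 1 + y • a) =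
      (x ^ 2 - y ^ 2 * δ) • (1 : Matrix (Fin 2) (Fin 2) E) + (2 * x * y + y ^ 2 * τ) • a := by
    simp only [add_mul, mul_add, smul_mul_assoc, mul_smul_comm, one_mul, mul_one, smul_smul, hch,
      smul_sub, sub_smul, add_smul]
    module
  rw [hxy, hexp] at hch'
  have hzero : (x ^ 2 - y ^ 2 * δ - τ * x + δ) • (1 : Matrix (Fin 2) (Fin 2) E) +
      (2 * x * y + y ^ 2 * τ - τ * y) • a = 0 := by
    have := sub_eq_zero.2 hch'
    rw [← this]
    simp only [smul_add, smul_sub, sub_smul, add_smul, smul_smul]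
    module
  obtain ⟨e1, e2⟩ := lin_indep_one_two a hns _ _ hzero
  have hy0 : y ≠ 0 := by
    intro hy
    rw [hy, zero_smul, add_zero] at hxy
    apply hns x
    have h1 : a = gi * (g * a * gi) * g := by
      simp only [mul_assoc, hg', mul_one]
      rw [← mul_assoc, hg', one_mul]
    rw [h1, hxy, mul_smul_comm, mul_one, smul_mul_assoc, hg']
  have e3 : 2 * x = τ * (1 - y) := by
    have : y * (2 * x + y * τ - τ) = 0 := by linear_combination e2
    rcases mul_eq_zero.1 this with h | h
    · exact absurd h hy0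
    · linear_combination h
  have e4 : (1 - y ^ 2) * (4 * δ - τ ^ 2) = 0 := by
    have hx : x = τ * (1 - y) / 2 := by field_simp; linear_combination e3
    rw [hx] at e1
    field_simp at e1
    linear_combination e1
  rcases mul_eq_zero.1 e4 with h | h
  · have hy2 : (1 - y) * (1 + y) = 0 := by linear_combination h
    rcases mul_eq_zero.1 hy2 with h1 | h1
    · -- y = 1
      have hy1 : y = 1 := by linear_combination -h1
      have hx0 : x = 0 := by
        have : 2 * x = 0 := by rw [e3, hy1]; ring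
        exact (mul_eq_zero.1 this).resolve_left h2
      rw [hxy, hx0, hy1, zero_smul, zero_add, one_smul]
    · -- y = -1
      have hy1 : y = -1 := by linear_combination h1
      have hxτ : x = τ := by
        have : 2 * x = 2 * τ := by rw [e3, hy1]; ring
        exact mul_left_cancel₀ h2 this
      rw [hy1, hxτ] at hxy
      -- g (g a gi) gi = a
      have h3 : g * (g * a * gi) * gi = a := by
        rw [hxy, mul_add, add_mul, mul_smul_comm, smul_mul_assoc, mul_one, hg, mul_smul_comm,
          smul_mul_assoc, hxy]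
        module
      have h4 : (g * g) * a = a * (g * g) := by
        have : g * (g * a * gi) * gi * (g * g) = a * (g * g) := by rw [h3]
        rw [← this]
        simp only [mul_assoc]
        rw [← mul_assoc gi g g, hg', one_mul, hg', mul_one]
      obtain ⟨k, hk⟩ := hn
      have h5 : g = (g * g) ^ (k + 1) := by
        rw [← pow_two, ← pow_mul]
        have : 2 * (k + 1) = n + 1 := by omega
        rw [this, pow_succ, hgn, one_mul]
      have h6 : g * a = a * g := by
        have hc : Commute (g * g) a := h4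
        have := (hc.pow_left (k + 1)).eq
        rwa [← h5] at this
      rw [h6, mul_assoc, hg, mul_one]
  · -- discriminant zero
    exfalso
    obtain ⟨c, hc⟩ : ∃ c : E, c = τ / 2 := ⟨_, rfl⟩
    have hτc : τ = 2 * c := by rw [hc]; field_simp
    have hδ4 : δ = c ^ 2 := by
      have h22 : (2 : E) ^ 2 ≠ 0 := pow_ne_zero 2 h2
      rw [hc, div_pow, eq_div_iff h22]
      linear_combination h
    obtain ⟨N, hNdef⟩ : ∃ N, N = a - c • (1 : Matrix (Fin 2) (Fin 2) E) := ⟨_, rfl⟩
    have hNN : N * N = 0 := by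
      rw [hNdef]
      simp only [sub_mul, mul_sub, smul_mul_assoc, mul_smul_comm, one_mul, mul_one, hch, hδ4, hτc,
        smul_sub, smul_smul]
      module
    have ha : a = c • (1 : Matrix (Fin 2) (Fin 2) E) + N := by rw [hNdef]; abel
    have hm0 : m ≠ 0 := by
      rintro rfl
      exact hm (by simp)
    obtain ⟨m', rfl⟩ := Nat.exists_eq_succ_of_ne_zero hm0
    have hpow := pow_succ_smul_one_add_nilp c N hNN m'
    rw [← ha, ham] at hpow
    -- 1 = c^(m'+1) • 1 + ((m'+1) c^m') • (a - c • 1)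
    have hz : (1 - c ^ (m' + 1) + ((m' + 1 : ℕ) : E) * c ^ m' * c) •
        (1 : Matrix (Fin 2) (Fin 2) E) + (-(((m' + 1 : ℕ) : E) * c ^ m')) • a = 0 := by
      have := sub_eq_zero.2 hpow
      rw [← this, hNdef]
      simp only [smul_sub, smul_smul]
      module
    obtain ⟨-, e6⟩ := lin_indep_one_two a hns _ _ hz
    have e7 : c ^ m' = 0 := by
      have : ((m' + 1 : ℕ) : E) * c ^ m' = 0 := by linear_combination -e6
      exact (mul_eq_zero.1 this).resolve_left hm
    have hm'0 : m' ≠ 0 := by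
      rintro rfl
      rw [pow_one] at ham
      apply hns 1
      rw [ham, one_smul]
    have hτ0 : c = 0 := pow_eq_zero_iff hm'0 |>.1 e7
    have hδ0 : δ = 0 := by rw [hδ4, hτ0]; ring
    have hdet1 : a.det ^ (m' + 1) = 1 := by rw [← Matrix.det_pow, ham, Matrix.det_one]
    rw [← hδ, hδ0, zero_pow (Nat.succ_ne_zero m')] at hdet1
    exact zero_ne_one hdet1

theorem two_ne_zero_of_charP {p : ℕ} [hp : Fact p.Prime] [CharP E p] (hp2 : p ≠ 2) : (2 : E) ≠ 0 := by
  intro h
  have h1 : ((2 : ℕ) : E) = 0 := by exact_mod_cast h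
  rw [CharP.cast_eq_zero_iff E p] at h1
  exact hp2 ((Nat.prime_dvd_prime_iff_eq hp.out Nat.prime_two).1 h1)

theorem natCast_ne_zero_of_coprime {p : ℕ} [hp : Fact p.Prime] [CharP E p] {m : ℕ}
    (hm : m.Coprime p) : (m : E) ≠ 0 := by
  intro h
  rw [CharP.cast_eq_zero_iff E p] at h
  have := Nat.Coprime.eq_one_of_dvd hm.symm h
  exact hp.out.one_lt.ne' this

/-- **Key lemma**: in `GL(2, E)`, a non-scalar `p'`-element which commutes with its conjugate under
an element of odd order is centralized by that element. -/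
theorem lemmaK_GL {p : ℕ} [hp : Fact p.Prime] [CharP E p] (hp2 : p ≠ 2) (a g : GL (Fin 2) E)
    (hns : ∀ c : E, (a : Matrix (Fin 2) (Fin 2) E) ≠ c • 1)
    (ha : (orderOf a).Coprime p) (hg : Odd (orderOf g)) (hcomm : Commute a (g * a * g⁻¹)) :
    g * a * g⁻¹ = a := by
  apply Units.ext
  rw [Units.val_mul, Units.val_mul]
  apply lemmaK (two_ne_zero_of_charP (p := p) hp2) (a : Matrix (Fin 2) (Fin 2) E) g
    ((g⁻¹ : GL (Fin 2) E) : Matrix (Fin 2) (Fin 2) E) (by rw [← Units.val_mul, mul_inv_cancel]; rfl)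
    (by rw [← Units.val_mul, inv_mul_cancel]; rfl) hns (orderOf a)
    (natCast_ne_zero_of_coprime (p := p) ha)
    (by rw [← Units.val_pow_eq_pow_val, pow_orderOf_eq_one]; rfl) _ (orderOf g) hg
    (by rw [← Units.val_pow_eq_pow_val, pow_orderOf_eq_one]; rfl)
  have := congrArg (fun u : GL (Fin 2) E => (u : Matrix (Fin 2) (Fin 2) E)) hcomm.eq
  simpa only [Units.val_mul] using this

/-- two vectors killed by a nonzero `2 × 2` matrix are proportional -/
theorem exists_smul_of_mulVec_eq_zero (N : Matrix (Fin 2) (Fin 2) E) (hN : N ≠ 0)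
    (v v' : Fin 2 → E) (hv : v ≠ 0) (h1 : N.mulVec v = 0) (h2 : N.mulVec v' = 0) :
    ∃ c : E, v' = c • v := by
  have hD : v 0 * v' 1 - v 1 * v' 0 = 0 := by
    by_contra hD
    apply hN
    have e1 : ∀ i, N i 0 * v 0 + N i 1 * v 1 = 0 := by
      intro i
      have := congrFun h1 i
      simpa [Matrix.mulVec, dotProduct, Fin.sum_univ_two] using this
    have e2 : ∀ i, N i 0 * v' 0 + N i 1 * v' 1 = 0 := by
      intro i
      have := congrFun h2 i
      simpa [Matrix.mulVec, dotProduct, Fin.sum_univ_two] using this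
    ext i j
    have a1 : N i 0 * (v 0 * v' 1 - v 1 * v' 0) = 0 := by linear_combination v' 1 * e1 i - v 1 * e2 i
    have a2 : N i 1 * (v 0 * v' 1 - v 1 * v' 0) = 0 := by linear_combination v 0 * e2 i - v' 0 * e1 i
    fin_cases j
    · exact (mul_eq_zero.1 a1).resolve_right hD
    · exact (mul_eq_zero.1 a2).resolve_right hD
  by_cases h0 : v 0 = 0
  · have h1' : v 1 ≠ 0 := by
      intro h
      apply hv
      ext i; fin_cases i <;> simp [h0, h]
    refine ⟨v' 1 / v 1, ?_⟩
    ext i
    fin_cases i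
    · simp only [Fin.zero_eta, Pi.smul_apply, smul_eq_mul, h0, mul_zero]
      rw [h0, zero_mul, zero_sub, neg_eq_zero] at hD
      exact (mul_eq_zero.1 hD).resolve_left h1'
    · simp only [Fin.mk_one, Pi.smul_apply, smul_eq_mul]
      field_simp
  · refine ⟨v' 0 / v 0, ?_⟩
    ext i
    fin_cases i
    · simp only [Fin.zero_eta, Pi.smul_apply, smul_eq_mul]
      field_simp
    · simp only [Fin.mk_one, Pi.smul_apply, smul_eq_mul]
      field_simp
      linear_combination hD

theorem eq_one_of_pow_char_pow_eq_one {p : ℕ} [hp : Fact p.Prime] [CharP E p] (c : E) (k : ℕ)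
    (h : c ^ (p ^ k) = 1) : c = 1 := by
  have h1 : (c - 1) ^ (p ^ k) = 0 := by
    rw [sub_pow_char_pow, h, one_pow, sub_self]
  exact sub_eq_zero.1 (pow_eq_zero_iff (pow_ne_zero k hp.out.ne_zero) |>.1 h1)


section solv

universe u

theorem coprime_card_of_pCore_eq_bot {Γ : Type u} [Group Γ] [Finite Γ] [Group.IsSolvable Γ] {p : ℕ}
    [hp : Fact p.Prime]
    (hK : ∀ a g : Γ, (orderOf a).Coprime p → Commute a (g * a * g⁻¹) → g * a * g⁻¹ = a)
    (hO : Cfsg.pCore p Γ = ⊥) : (Nat.card Γ).Coprime p := by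
  obtain ⟨F, hF⟩ : ∃ F, F = Cfsg.fittingSubgroup Γ := ⟨_, rfl⟩
  haveI hFn : F.Normal := hF ▸ inferInstance
  haveI hFnil : Group.IsNilpotent F := hF ▸ fittingSubgroup_isNilpotent
  have hFcop : (Nat.card F).Coprime p := by
    have h1 := card_iSup_pCore_ne_coprime (G := Γ) ⟨p, hp.out⟩
    have h2 : F = (⨆ (q : Nat.Primes) (_ : q ≠ ⟨p, hp.out⟩), Cfsg.pCore (q : ℕ) Γ : Subgroup Γ) := by
      rw [hF, fittingSubgroup_eq_fitJoin, fitJoin]
      apply le_antisymm
      · apply iSup_le
        intro q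
        by_cases hq : q = ⟨p, hp.out⟩
        · rw [hq]
          show Cfsg.pCore p Γ ≤ _
          rw [hO]; exact bot_le
        · exact le_iSup₂ (f := fun (q : Nat.Primes) (_ : q ≠ ⟨p, hp.out⟩) => Cfsg.pCore (q : ℕ) Γ) q hq
      · apply iSup₂_le
        intro q _
        exact le_iSup (fun q : Nat.Primes => Cfsg.pCore (q : ℕ) Γ) q
    rw [h2]; exact h1
  have hordF : ∀ b : Γ, b ∈ F → (orderOf b).Coprime p := by
    intro b hb
    apply Nat.Coprime.coprime_dvd_left _ hFcop
    exact Subgroup.orderOf_dvd_natCard F hb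
  -- `F` is abelian
  have hFab : ∀ a ∈ F, ∀ b ∈ F, a * b = b * a := by
    by_contra hcon
    push Not at hcon
    obtain ⟨a₀, ha₀, b₀, hb₀, hab₀⟩ := hcon
    haveI : Nontrivial (↥F ⧸ Subgroup.center ↥F) := by
      rw [QuotientGroup.nontrivial_iff]
      intro htop
      apply hab₀
      have h1 : (⟨a₀, ha₀⟩ : F) ∈ Subgroup.center ↥F := by rw [htop]; exact Subgroup.mem_top _
      have h2 := Subgroup.mem_center_iff.1 h1 ⟨b₀, hb₀⟩
      exact (congrArg Subtype.val h2).symm
    have hne := Group.IsNilpotent.center_ne_bot (G := ↥F ⧸ Subgroup.center ↥F)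
    obtain ⟨⟨bb, hbb⟩, hbb1⟩ := Subgroup.ne_bot_iff_exists_ne_one.1 hne
    obtain ⟨b, rfl⟩ := QuotientGroup.mk_surjective bb
    have hbb1' : (QuotientGroup.mk b : ↥F ⧸ Subgroup.center ↥F) ≠ 1 := fun h => hbb1 (Subtype.ext h)
    apply hbb1'
    rw [QuotientGroup.eq_one_iff, Subgroup.mem_center_iff]
    intro g
    -- `g b g⁻¹ b⁻¹` is central in `F`
    have h1 : g * b * g⁻¹ * b⁻¹ ∈ Subgroup.center ↥F := by
      rw [← QuotientGroup.eq_one_iff]
      have h2 := Subgroup.mem_center_iff.1 hbb (QuotientGroup.mk g)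
      simp only [QuotientGroup.mk_mul, QuotientGroup.mk_inv]
      rw [h2, mul_inv_cancel_right, mul_inv_cancel]
    have h3 : Commute (b : Γ) ((g : Γ) * (b : Γ) * (g : Γ)⁻¹) := by
      have h4 := Subgroup.mem_center_iff.1 h1 b
      have h5 : (b : Γ) * ((g : Γ) * b * (g : Γ)⁻¹ * (b : Γ)⁻¹) =
          ((g : Γ) * b * (g : Γ)⁻¹ * (b : Γ)⁻¹) * b := congrArg Subtype.val h4
      show (b : Γ) * ((g : Γ) * (b : Γ) * (g : Γ)⁻¹) = ((g : Γ) * (b : Γ) * (g : Γ)⁻¹) * (b : Γ)
      have h6 : (b : Γ) * ((g : Γ) * b * (g : Γ)⁻¹) =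
          (b : Γ) * ((g : Γ) * b * (g : Γ)⁻¹ * (b : Γ)⁻¹) * b := by group
      rw [h6, h5]; group
    have h7 := hK (b : Γ) (g : Γ) (hordF _ b.2) h3
    apply Subtype.ext
    have h8 : (g : Γ) * (b : Γ) = (b : Γ) * (g : Γ) := by
      have := congrArg (· * (g : Γ)) h7
      simpa using this
    exact h8
  -- `F` is central
  have hFcent : Subgroup.centralizer (F : Set Γ) = ⊤ := by
    rw [eq_top_iff]
    intro g _
    rw [Subgroup.mem_centralizer_iff]
    intro b hb
    have h1 : g * b * g⁻¹ ∈ F := hFn.conj_mem b hb g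
    have h2 := hK b g (hordF b hb) (hFab b hb _ h1)
    have := congrArg (· * g) h2
    simpa using this.symm
  have hle := centralizer_fittingSubgroup_le (G := Γ)
  rw [← hF, hFcent, top_le_iff] at hle
  rw [hle] at hFcop
  rwa [Subgroup.card_top] at hFcop


variable {E : Type u} [Field E]

/-- a nilpotent matrix kills a nonzero vector -/
theorem exists_ne_zero_mulVec_eq_zero (N : Matrix (Fin 2) (Fin 2) E) (m : ℕ) (hN : N ^ m = 0) :
    ∃ v : Fin 2 → E, v ≠ 0 ∧ N.mulVec v = 0 := by
  induction m with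
  | zero =>
    exfalso
    rw [pow_zero] at hN
    have := congrFun (congrFun hN 0) 0
    simp at this
  | succ m ih =>
    by_cases h : N ^ m = 0
    · exact ih h
    · -- some column of `N ^ m` is nonzero
      have : ∃ w : Fin 2 → E, (N ^ m).mulVec w ≠ 0 := by
        by_contra hcon
        push Not at hcon
        apply h
        ext i j
        have := congrFun (hcon (Pi.single j 1)) i
        simpa using this
      obtain ⟨w, hw⟩ := this
      refine ⟨(N ^ m).mulVec w, hw, ?_⟩
      rw [Matrix.mulVec_mulVec, ← pow_succ', hN, Matrix.zero_mulVec]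

theorem exists_invariant_line {p : ℕ} [hp : Fact p.Prime] [CharP E p] (hp2 : p ≠ 2)
    (L : Subgroup (GL (Fin 2) E)) [Finite L] (hsol : Group.IsSolvable L) (hodd : Odd (Nat.card L))
    (hpL : p ∣ Nat.card L) :
    ∃ v : Fin 2 → E, v ≠ 0 ∧ ∀ g ∈ L, ∃ c : E, (g : Matrix (Fin 2) (Fin 2) E).mulVec v = c • v := by
  have hK : ∀ a g : L, (orderOf a).Coprime p → Commute a (g * a * g⁻¹) → g * a * g⁻¹ = a := by
    intro a g ha hc
    by_cases hsc : ∃ c : E, ((a : GL (Fin 2) E) : Matrix (Fin 2) (Fin 2) E) = c • 1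
    · obtain ⟨c, hc'⟩ := hsc
      apply Subtype.ext
      apply Units.ext
      show ((g : GL (Fin 2) E) : Matrix (Fin 2) (Fin 2) E) * (a : GL (Fin 2) E) *
        ((g⁻¹ : L) : GL (Fin 2) E) = (a : GL (Fin 2) E)
      rw [hc', mul_smul_comm, mul_one, smul_mul_assoc, ← Units.val_mul]
      simp
    · push Not at hsc
      have h1 := lemmaK_GL hp2 (a : GL (Fin 2) E) (g : GL (Fin 2) E) hsc
        (by rw [Subgroup.orderOf_coe]; exact ha)
        (by
          rw [Subgroup.orderOf_coe]
          exact Odd.of_dvd_nat hodd (orderOf_dvd_natCard g))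
        (by
          have := congrArg (fun z : L => (z : GL (Fin 2) E)) hc.eq
          exact this)
      exact Subtype.ext h1
  by_cases hO : Cfsg.pCore p L = ⊥
  · exfalso
    have := coprime_card_of_pCore_eq_bot hK hO
    exact hp.out.one_lt.ne' (Nat.Coprime.eq_one_of_dvd this.symm hpL)
  · -- `P = O_p(L) ≠ 1`
    obtain ⟨P, hP⟩ : ∃ P, P = Cfsg.pCore p L := ⟨_, rfl⟩
    rw [← hP] at hO
    haveI hPn : P.Normal := hP ▸ inferInstance
    have hPp : IsPGroup p P := hP ▸ pCore_isPGroup p
    haveI : Nontrivial P := (Subgroup.nontrivial_iff_ne_bot P).2 hO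
    haveI := hPp.center_nontrivial
    obtain ⟨⟨z, hz⟩, hz1⟩ := exists_ne (1 : Subgroup.center ↥P)
    have hz1' : z ≠ 1 := fun h => hz1 (Subtype.ext h)
    -- the matrix of `z`
    obtain ⟨Z, hZ⟩ : ∃ Z : Matrix (Fin 2) (Fin 2) E, Z = ((z : L) : GL (Fin 2) E) := ⟨_, rfl⟩
    have hZ1 : Z ≠ 1 := by
      intro h
      apply hz1'
      apply Subtype.ext; apply Subtype.ext; apply Units.ext
      rw [← hZ, h]; rfl
    -- every element of `P` is unipotent
    have hunip : ∀ u : P, ∃ k : ℕ, (((u : L) : GL (Fin 2) E) : Matrix (Fin 2) (Fin 2) E) ^ (p ^ k) = 1 := by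
      intro u
      obtain ⟨k, hk⟩ := hPp u
      refine ⟨k, ?_⟩
      have := congrArg (fun w : P => (((w : L) : GL (Fin 2) E) : Matrix (Fin 2) (Fin 2) E)) hk
      simpa using this
    obtain ⟨k, hk⟩ := hunip z
    rw [← hZ] at hk
    have hnil : (Z - 1) ^ (p ^ k) = 0 := by
      rw [sub_pow_char_pow_of_commute (p := p) (h := Commute.one_right Z), hk, one_pow, sub_self]
    obtain ⟨v, hv0, hv⟩ := exists_ne_zero_mulVec_eq_zero (Z - 1) _ hnil
    have hZv : Z.mulVec v = v := by
      have : (Z - 1).mulVec v = Z.mulVec v - v := by rw [Matrix.sub_mulVec, Matrix.one_mulVec]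
      rw [this] at hv
      exact sub_eq_zero.1 hv
    have hZns : ∀ c : E, Z ≠ c • 1 := by
      intro c hc
      have h1 : c ^ (p ^ k) = 1 := by
        rw [hc, smul_pow, one_pow] at hk
        have := congrFun (congrFun hk 0) 0
        simpa using this
      have := eq_one_of_pow_char_pow_eq_one (p := p) c k h1
      rw [this, one_smul] at hc
      exact hZ1 hc
    -- every element of `P` fixes `v`
    have hPv : ∀ u : P, (((u : L) : GL (Fin 2) E) : Matrix (Fin 2) (Fin 2) E).mulVec v = v := by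
      intro u
      obtain ⟨U, hU⟩ : ∃ U : Matrix (Fin 2) (Fin 2) E, U = ((u : L) : GL (Fin 2) E) := ⟨_, rfl⟩
      rw [← hU]
      have hcomm : Z * U = U * Z := by
        have h1 := Subgroup.mem_center_iff.1 hz u
        have := congrArg (fun w : P => (((w : L) : GL (Fin 2) E) : Matrix (Fin 2) (Fin 2) E)) h1
        rw [hZ, hU]
        simpa using this.symm
      obtain ⟨x, y, hxy⟩ := commutant_two Z U hZns hcomm
      have hUv : U.mulVec v = (x + y) • v := by
        rw [hxy, Matrix.add_mulVec, Matrix.smul_mulVec, Matrix.smul_mulVec,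
          Matrix.one_mulVec, hZv, add_smul]
      obtain ⟨j, hj⟩ := hunip u
      rw [← hU] at hj
      have hpow : ∀ n : ℕ, (U ^ n).mulVec v = (x + y) ^ n • v := by
        intro n
        induction n with
        | zero => simp
        | succ n ih => rw [pow_succ, ← Matrix.mulVec_mulVec, hUv, Matrix.mulVec_smul, ih, smul_smul,
            pow_succ, mul_comm]
      have h1 := hpow (p ^ j)
      rw [hj, Matrix.one_mulVec] at h1
      have h2 : (x + y) ^ (p ^ j) = 1 := by
        by_contra hne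
        apply hv0
        have h3 : ((x + y) ^ (p ^ j) - 1) • v = 0 := by rw [sub_smul, one_smul, ← h1, sub_self]
        rcases smul_eq_zero.1 h3 with h4 | h4
        · exact absurd (sub_eq_zero.1 h4) hne
        · exact h4
      rw [hUv, eq_one_of_pow_char_pow_eq_one (p := p) _ j h2, one_smul]
    refine ⟨v, hv0, ?_⟩
    intro g hg
    -- `g v` is fixed by `z`
    have h1 : Z.mulVec ((g : Matrix (Fin 2) (Fin 2) E).mulVec v) =
        (g : Matrix (Fin 2) (Fin 2) E).mulVec v := by
      -- `g⁻¹ z g ∈ P`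
      have hconj : (⟨g, hg⟩ : L)⁻¹ * (z : L) * (⟨g, hg⟩ : L)⁻¹⁻¹ ∈ P := hPn.conj_mem _ z.2 _
      have h2 := hPv ⟨_, hconj⟩
      have h3 : ((((⟨g, hg⟩ : L)⁻¹ * (z : L) * (⟨g, hg⟩ : L)⁻¹⁻¹ : L) : GL (Fin 2) E) :
          Matrix (Fin 2) (Fin 2) E) = ((g⁻¹ : GL (Fin 2) E) : Matrix (Fin 2) (Fin 2) E) * Z *
            (g : Matrix (Fin 2) (Fin 2) E) := by
        rw [hZ]; simp
      rw [h3] at h2
      have h4 := congrArg (fun w => (g : Matrix (Fin 2) (Fin 2) E).mulVec w) h2
      simp only [Matrix.mulVec_mulVec] at h4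
      rw [← mul_assoc, ← mul_assoc, ← Units.val_mul, mul_inv_cancel, Units.val_one, one_mul] at h4
      rw [Matrix.mulVec_mulVec]
      exact h4
    have hN0 : Z - 1 ≠ 0 := sub_ne_zero.2 hZ1
    have h5 : (Z - 1).mulVec ((g : Matrix (Fin 2) (Fin 2) E).mulVec v) = 0 := by
      rw [Matrix.sub_mulVec, Matrix.one_mulVec, h1, sub_self]
    exact exists_smul_of_mulVec_eq_zero (Z - 1) hN0 v _ hv0 hv h5


/-- two "opposite" transvections do not generate a solvable group of odd order -/
theorem two_transvections {p : ℕ} [hp : Fact p.Prime] [CharP E p] (hp2 : p ≠ 2)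
    (X Y : GL (Fin 2) E) (c : E) (hc : c ≠ 0)
    (hX : (X : Matrix (Fin 2) (Fin 2) E) = !![1, c; 0, 1])
    (hY : (Y : Matrix (Fin 2) (Fin 2) E) = !![1, 0; 1, 1])
    [Finite (Subgroup.closure {X, Y})] (hsol : Group.IsSolvable (Subgroup.closure {X, Y}))
    (hodd : Odd (Nat.card (Subgroup.closure {X, Y}))) : False := by
  have hXL : X ∈ Subgroup.closure {X, Y} := Subgroup.subset_closure (by simp)
  have hYL : Y ∈ Subgroup.closure {X, Y} := Subgroup.subset_closure (by simp)
  have hXp : X ^ p = 1 := by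
    apply Units.ext
    rw [Units.val_pow_eq_pow_val, Units.val_one]
    obtain ⟨m, hm⟩ := Nat.exists_eq_succ_of_ne_zero hp.out.ne_zero
    have hN : (!![0, c; 0, 0] : Matrix (Fin 2) (Fin 2) E) * !![0, c; 0, 0] = 0 := by
      ext i j; fin_cases i <;> fin_cases j <;> simp
    have hXN : (X : Matrix (Fin 2) (Fin 2) E) = (1 : E) • 1 + !![0, c; 0, 0] := by
      rw [hX]; ext i j; fin_cases i <;> fin_cases j <;> simp
    have h1 := pow_succ_smul_one_add_nilp (1 : E) _ hN m
    rw [← hXN] at h1
    rw [hm, Nat.succ_eq_add_one, h1, ← Nat.succ_eq_add_one, ← hm, CharP.cast_eq_zero E p]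
    simp
  have hX1 : X ≠ 1 := by
    intro h
    have h1 := congrArg (fun u : GL (Fin 2) E => (u : Matrix (Fin 2) (Fin 2) E) 0 1) h
    simp only [hX] at h1
    simp at h1
    exact hc h1
  have hord : orderOf X = p := orderOf_eq_prime hXp hX1
  have hpL : p ∣ Nat.card (Subgroup.closure {X, Y}) := by
    rw [← hord]
    exact Subgroup.orderOf_dvd_natCard _ hXL
  obtain ⟨v, hv0, hv⟩ := exists_invariant_line hp2 (Subgroup.closure {X, Y}) hsol hodd hpL
  obtain ⟨c₁, h1⟩ := hv X hXL
  obtain ⟨c₂, h2⟩ := hv Y hYL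
  rw [hX] at h1
  rw [hY] at h2
  have e1 := congrFun h1 0
  have e2 := congrFun h1 1
  have e3 := congrFun h2 0
  have e4 := congrFun h2 1
  simp [Matrix.mulVec, dotProduct, Fin.sum_univ_two] at e1 e2 e3 e4
  -- v 1 = 0
  have hv1 : v 1 = 0 := by
    by_contra hne
    have hc1 : c₁ = 1 := by
      have : (c₁ - 1) * v 1 = 0 := by linear_combination -e2
      rcases mul_eq_zero.1 this with h | h
      · exact sub_eq_zero.1 h
      · exact absurd h hne
    rw [hc1, one_mul] at e1
    have : c * v 1 = 0 := by linear_combination e1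
    rcases mul_eq_zero.1 this with h | h
    · exact hc h
    · exact hne h
  have hv0' : v 0 = 0 := by
    rw [hv1] at e4
    simpa using e4
  apply hv0
  ext i; fin_cases i
  · exact hv0'
  · exact hv1

end solv

end OddGL2

end Cfsg.Agent.Helper1
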