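import Mathlib
import Cfsg.Agent.Helper1.OddGL2
set_option autoImplicit false
namespace Cfsg.Agent.Helper1
namespace OddGL2
open Filter Polynomial

theorem exists_minimal_invariant {K M : Type*} [Field K] [AddCommGroup M] [Module K M] [Finite M]
    (φ : Module.End K M) (hφ : ∀ k : ℕ, φ ^ k ≠ 0) :
    ∃ U : Submodule K M, U ≠ ⊥ ∧ U ≤ LinearMap.range φ ∧ (∀ u ∈ U, φ u ∈ U) ∧
      (∀ u ∈ U, φ u = 0 → u = 0) ∧
      ∀ S : Submodule K M, S ≤ U → (∀ s ∈ S, φ s ∈ S) → S = ⊥ ∨ S = U := by
  haveI : Module.Finite K M := Module.Finite.of_finite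
  obtain ⟨N, hN⟩ := eventually_atTop.1 (LinearMap.eventually_isCompl_ker_pow_range_pow φ)
  have hc := hN (N + 1) (Nat.le_succ N)
  set n := N + 1 with hn
  obtain ⟨R, hR⟩ : ∃ R, R = LinearMap.range (φ ^ n) := ⟨_, rfl⟩
  have hR0 : R ≠ ⊥ := by
    rw [hR]
    intro h
    exact hφ n (LinearMap.range_eq_bot.1 h)
  have hRφ : R ≤ LinearMap.range φ := by
    rw [hR, hn, pow_succ']
    exact LinearMap.range_comp_le_range _ _
  have hRinv : ∀ r ∈ R, φ r ∈ R := by
    rw [hR]
    rintro _ ⟨w, rfl⟩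
    refine ⟨φ w, ?_⟩
    rw [← Module.End.mul_apply, ← Module.End.mul_apply, ← pow_succ, ← pow_succ']
  have hRinj : ∀ r ∈ R, φ r = 0 → r = 0 := by
    intro r hr h0
    have h1 : r ∈ LinearMap.ker (φ ^ n) := by
      rw [LinearMap.mem_ker, hn, pow_succ, Module.End.mul_apply, h0, map_zero]
    have h2 : r ∈ LinearMap.ker (φ ^ n) ⊓ LinearMap.range (φ ^ n) := ⟨h1, hR ▸ hr⟩
    rw [hc.inf_eq_bot] at h2
    exact h2
  obtain ⟨U, ⟨hU0, hUR, hUinv⟩, hUmin⟩ := IsArtinian.set_has_minimal
    {S : Submodule K M | S ≠ ⊥ ∧ S ≤ R ∧ ∀ s ∈ S, φ s ∈ S} ⟨R, hR0, le_rfl, hRinv⟩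
  refine ⟨U, hU0, hUR.trans hRφ, hUinv, fun u hu => hRinj u (hUR hu), ?_⟩
  intro S hSU hSinv
  by_cases hS0 : S = ⊥
  · exact Or.inl hS0
  · right
    have h1 := hUmin S ⟨hS0, hSU.trans hUR, hSinv⟩
    exact (lt_or_eq_of_le hSU).resolve_left h1


section T
variable {K U E' : Type*} [Field K] [AddCommGroup U] [Module K U] [CommRing E']
  (ψ : E' →+* Module.End K U)

/-- the action of a `2 × 2` matrix over `E'` on `U × U` -/
def Tmat (A : Matrix (Fin 2) (Fin 2) E') : Module.End K (U × U) :=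
  LinearMap.prod ((ψ (A 0 0)).comp (LinearMap.fst K U U) + (ψ (A 0 1)).comp (LinearMap.snd K U U))
    ((ψ (A 1 0)).comp (LinearMap.fst K U U) + (ψ (A 1 1)).comp (LinearMap.snd K U U))

theorem Tmat_apply (A : Matrix (Fin 2) (Fin 2) E') (w : U × U) :
    Tmat ψ A w = (ψ (A 0 0) w.1 + ψ (A 0 1) w.2, ψ (A 1 0) w.1 + ψ (A 1 1) w.2) := rfl

theorem Tmat_one : Tmat ψ (1 : Matrix (Fin 2) (Fin 2) E') = 1 := by
  ext w <;> simp [Tmat_apply]

theorem Tmat_mul (A B : Matrix (Fin 2) (Fin 2) E') : Tmat ψ (A * B) = Tmat ψ A * Tmat ψ B := by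
  apply LinearMap.ext
  intro w
  rw [Module.End.mul_apply, Tmat_apply, Tmat_apply, Tmat_apply]
  simp only [Matrix.mul_apply, Fin.sum_univ_two, map_add, map_mul, Module.End.mul_apply,
    LinearMap.add_apply]
  ext
  · simp only
    abel
  · simp only
    abel

/-- the monoid hom -/
def TmatHom : Matrix (Fin 2) (Fin 2) E' →* Module.End K (U × U) where
  toFun := Tmat ψ
  map_one' := Tmat_one ψ
  map_mul' := Tmat_mul ψ

end T


theorem transfer_closure {G₁ G₂ : Type*} [Group G₁] [Group G₂] (S : Subgroup (G₁ × G₂))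
    (hS : ∀ b : G₂, ((1 : G₁), b) ∈ S → b = 1) (x y : G₁) (X Y : G₂) (hx : (x, X) ∈ S)
    (hy : (y, Y) ∈ S) [Finite (Subgroup.closure {x, y})]
    (hsol : Group.IsSolvable (Subgroup.closure {x, y}))
    (hodd : Odd (Nat.card (Subgroup.closure {x, y}))) :
    Finite (Subgroup.closure {X, Y}) ∧ Group.IsSolvable (Subgroup.closure {X, Y}) ∧
      Odd (Nat.card (Subgroup.closure {X, Y})) := by
  obtain ⟨Γ, hΓ⟩ : ∃ Γ : Subgroup (G₁ × G₂), Γ = Subgroup.closure {(x, X), (y, Y)} := ⟨_, rfl⟩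
  have hΓS : Γ ≤ S := by
    rw [hΓ, Subgroup.closure_le]
    rintro _ (rfl | rfl)
    · exact hx
    · exact hy
  have h1 : Γ.map (MonoidHom.fst G₁ G₂) = Subgroup.closure {x, y} := by
    rw [hΓ, MonoidHom.map_closure]
    congr 1
    ext a
    simp [Set.image_pair]
  have h2 : Γ.map (MonoidHom.snd G₁ G₂) = Subgroup.closure {X, Y} := by
    rw [hΓ, MonoidHom.map_closure]
    congr 1
    ext a
    simp [Set.image_pair]
  have hinj : Function.Injective ((MonoidHom.fst G₁ G₂).subgroupMap Γ) := by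
    rw [injective_iff_map_eq_one]
    rintro ⟨⟨a, b⟩, hab⟩ h
    have ha : a = 1 := congrArg Subtype.val h
    subst ha
    have hb := hS b (hΓS hab)
    subst hb
    rfl
  rw [← h1] at hsol hodd
  have hfin1 : Finite (Γ.map (MonoidHom.fst G₁ G₂)) := by rw [h1]; infer_instance
  haveI : Finite Γ := Finite.of_injective _ hinj
  have hsolΓ : Group.IsSolvable Γ := Group.isSolvable_of_isSolvable_injective hinj
  have hcard : Nat.card Γ = Nat.card (Γ.map (MonoidHom.fst G₁ G₂)) :=
    Nat.card_congr (Equiv.ofBijective _ ⟨hinj, (MonoidHom.fst G₁ G₂).subgroupMap_surjective Γ⟩)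
  rw [← h2]
  have hsurj := (MonoidHom.snd G₁ G₂).subgroupMap_surjective Γ
  refine ⟨Finite.of_surjective _ hsurj, Group.isSolvable_of_surjective hsurj, ?_⟩
  have hdvd : Nat.card (Γ.map (MonoidHom.snd G₁ G₂)) ∣ Nat.card Γ :=
    Subgroup.card_dvd_of_surjective _ hsurj
  rw [hcard] at hdvd
  exact Odd.of_dvd_nat hodd hdvd

/-- the relation subgroup -/
def relSubgroup {K M U E' : Type*} [Field K] [AddCommGroup M] [Module K M] [AddCommGroup U]
    [Module K U] [CommRing E'] (ψ : E' →+* Module.End K U) (ι : U × U →ₗ[K] M) :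
    Subgroup ((M ≃ₗ[K] M) × GL (Fin 2) E') where
  carrier := {q | ∀ w, q.1 (ι w) = ι (Tmat ψ (q.2 : Matrix (Fin 2) (Fin 2) E') w)}
  one_mem' := by
    intro w
    show (1 : M ≃ₗ[K] M) (ι w) = ι (Tmat ψ ((1 : GL (Fin 2) E') : Matrix (Fin 2) (Fin 2) E') w)
    rw [Units.val_one, Tmat_one]
    rfl
  mul_mem' := by
    intro a b ha hb w
    show (a.1 * b.1) (ι w) = ι (Tmat ψ ((a.2 * b.2 : GL (Fin 2) E') : Matrix (Fin 2) (Fin 2) E') w)
    rw [Units.val_mul, Tmat_mul, LinearEquiv.mul_apply, hb w, ha, Module.End.mul_apply]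
  inv_mem' := by
    intro a ha w
    show (a.1⁻¹) (ι w) = ι (Tmat ψ ((a.2⁻¹ : GL (Fin 2) E') : Matrix (Fin 2) (Fin 2) E') w)
    have h1 := ha (Tmat ψ ((a.2⁻¹ : GL (Fin 2) E') : Matrix (Fin 2) (Fin 2) E') w)
    rw [← Module.End.mul_apply, ← Tmat_mul, ← Units.val_mul, mul_inv_cancel, Units.val_one,
      Tmat_one] at h1
    have h2 : a.1⁻¹ (a.1 (ι (Tmat ψ ((a.2⁻¹ : GL (Fin 2) E') : Matrix (Fin 2) (Fin 2) E') w))) =
        a.1⁻¹ (ι w) := by rw [h1]; rfl
    rw [← h2, ← LinearEquiv.mul_apply, inv_mul_cancel]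
    rfl

theorem mem_relSubgroup {K M U E' : Type*} [Field K] [AddCommGroup M] [Module K M] [AddCommGroup U]
    [Module K U] [CommRing E'] (ψ : E' →+* Module.End K U) (ι : U × U →ₗ[K] M)
    (q : (M ≃ₗ[K] M) × GL (Fin 2) E') : q ∈ relSubgroup ψ ι ↔
      ∀ w, q.1 (ι w) = ι (Tmat ψ (q.2 : Matrix (Fin 2) (Fin 2) E') w) := Iff.rfl


/-- minimality gives irreducibility of the minimal polynomial -/
theorem irreducible_minpoly_of_minimal {K U : Type*} [Field K] [AddCommGroup U] [Module K U]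
    [Module.Finite K U] [Nontrivial U] (φ : Module.End K U)
    (hmin : ∀ S : Submodule K U, (∀ s ∈ S, φ s ∈ S) → S = ⊥ ∨ S = ⊤) :
    Irreducible (minpoly K φ) := by
  have hint : IsIntegral K φ := Algebra.IsIntegral.isIntegral φ
  have hcomm : ∀ q : K[X], ∀ u : U, aeval φ q (φ u) = φ (aeval φ q u) := by
    intro q u
    have h1 : aeval φ (q * X) = aeval φ (X * q) := by rw [mul_comm]
    rw [map_mul, map_mul, aeval_X] at h1
    have := congrArg (fun g : Module.End K U => g u) h1
    simpa [Module.End.mul_apply] using this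
  rw [irreducible_iff]
  refine ⟨minpoly.not_isUnit K φ, ?_⟩
  intro a b hab
  have hprod : aeval φ a * aeval φ b = 0 := by
    rw [← map_mul, ← hab, minpoly.aeval]
  have hne : minpoly K φ ≠ 0 := minpoly.ne_zero hint
  rcases hmin (LinearMap.ker (aeval φ a)) (by
    intro s hs
    rw [LinearMap.mem_ker] at hs ⊢
    rw [hcomm, hs, map_zero]) with h | h
  · -- `a(φ)` injective, so `b(φ) = 0`
    left
    have hb0 : aeval φ b = 0 := by
      apply LinearMap.ext
      intro u
      have h1 : aeval φ b u ∈ LinearMap.ker (aeval φ a) := by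
        rw [LinearMap.mem_ker, ← Module.End.mul_apply, hprod]; rfl
      rw [h] at h1
      exact h1
    obtain ⟨c, hc⟩ := minpoly.dvd K φ hb0
    -- minpoly = a * (minpoly * c) → a * c = 1
    have h2 : minpoly K φ * 1 = minpoly K φ * (a * c) := by
      rw [mul_one]; nth_rewrite 1 [hab]; rw [hc]; ring
    have h3 := mul_left_cancel₀ hne h2
    exact IsUnit.of_mul_eq_one c h3.symm
  · right
    have ha0 : aeval φ a = 0 := by
      apply LinearMap.ext
      intro u
      have h1 : u ∈ LinearMap.ker (aeval φ a) := by rw [h]; exact Submodule.mem_top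
      exact h1
    obtain ⟨c, hc⟩ := minpoly.dvd K φ ha0
    have h2 : minpoly K φ * 1 = minpoly K φ * (b * c) := by
      rw [mul_one]; nth_rewrite 1 [hab]; rw [hc]; ring
    have h3 := mul_left_cancel₀ hne h2
    exact IsUnit.of_mul_eq_one c h3.symm

theorem exists_GL_upper {R : Type*} [CommRing R] (c : R) :
    ∃ X : GL (Fin 2) R, (X : Matrix (Fin 2) (Fin 2) R) = !![1, c; 0, 1] :=
  ⟨⟨!![1, c; 0, 1], !![1, -c; 0, 1], by
      ext i j; fin_cases i <;> fin_cases j <;> simp [Matrix.mul_apply, Fin.sum_univ_two],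
    by ext i j; fin_cases i <;> fin_cases j <;> simp [Matrix.mul_apply, Fin.sum_univ_two]⟩, rfl⟩

theorem exists_GL_lower (R : Type*) [CommRing R] :
    ∃ Y : GL (Fin 2) R, (Y : Matrix (Fin 2) (Fin 2) R) = !![1, 0; 1, 1] :=
  ⟨⟨!![1, 0; 1, 1], !![1, 0; -1, 1], by
      ext i j; fin_cases i <;> fin_cases j <;> simp [Matrix.mul_apply, Fin.sum_univ_two],
    by ext i j; fin_cases i <;> fin_cases j <;> simp [Matrix.mul_apply, Fin.sum_univ_two]⟩, rfl⟩

theorem core {p : ℕ} [hp : Fact p.Prime] (hp2 : p ≠ 2) {M : Type*} [AddCommGroup M]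
    [Module (ZMod p) M] [Finite M] (α β : Module.End (ZMod p) M) (hα : α * α = 0)
    (hβ : β * β = 0) (x y : M ≃ₗ[ZMod p] M) (hx : ∀ v, x v = v + α v) (hy : ∀ v, y v = v + β v)
    [Finite (Subgroup.closure {x, y})]
    (hsol : Group.IsSolvable (Subgroup.closure {x, y}))
    (hodd : Odd (Nat.card (Subgroup.closure {x, y})))
    (U : Submodule (ZMod p) M) (hU0 : U ≠ ⊥) (hUr : U ≤ LinearMap.range (α * β))
    (hUinv : ∀ u ∈ U, (α * β) u ∈ U) (hUinj : ∀ u ∈ U, (α * β) u = 0 → u = 0)
    (hUmin : ∀ S : Submodule (ZMod p) M, S ≤ U → (∀ s ∈ S, (α * β) s ∈ S) → S = ⊥ ∨ S = U) :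
    False := by
  have hαU : ∀ u ∈ U, α u = 0 := by
    intro u hu
    obtain ⟨w, rfl⟩ := hUr hu
    rw [Module.End.mul_apply, ← Module.End.mul_apply, hα]; rfl
  haveI : Module.Finite (ZMod p) M := Module.Finite.of_finite
  haveI : Nontrivial U := (Submodule.nontrivial_iff_ne_bot).2 hU0
  obtain ⟨φU, hφU⟩ : ∃ φU : Module.End (ZMod p) U, φU = (α * β).restrict hUinv := ⟨_, rfl⟩
  have hφUa : ∀ u : U, ((φU u : U) : M) = (α * β) (u : M) := by
    intro u; rw [hφU]; rfl
  have hirr : Irreducible (minpoly (ZMod p) φU) := by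
    apply irreducible_minpoly_of_minimal
    intro S hS
    rcases hUmin (S.map U.subtype) (Submodule.map_subtype_le U S) (by
      rintro _ ⟨s, hs, rfl⟩
      exact ⟨φU s, hS s hs, hφUa s⟩) with h | h
    · left
      rw [eq_bot_iff]
      intro s hs
      have h1 : (s : M) ∈ S.map U.subtype := ⟨s, hs, rfl⟩
      rw [h, Submodule.mem_bot] at h1
      rw [Submodule.mem_bot]
      exact Subtype.ext h1
    · right
      rw [eq_top_iff]
      intro u _
      have h1 : (u : M) ∈ S.map U.subtype := by rw [h]; exact u.2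
      obtain ⟨s, hs, hsu⟩ := h1
      have : s = u := Subtype.ext hsu
      rwa [← this]
  haveI : Fact (Irreducible (minpoly (ZMod p) φU)) := ⟨hirr⟩
  have hH : ∀ a : (ZMod p)[X], a ∈ (Ideal.span {minpoly (ZMod p) φU} : Ideal (ZMod p)[X]) →
      ((aeval φU : (ZMod p)[X] →ₐ[ZMod p] Module.End (ZMod p) U) :
        (ZMod p)[X] →+* Module.End (ZMod p) U) a = 0 := by
    intro a ha
    obtain ⟨b, rfl⟩ := Ideal.mem_span_singleton.1 ha
    show aeval φU (minpoly (ZMod p) φU * b) = 0
    rw [map_mul, minpoly.aeval, zero_mul]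
  obtain ⟨ψ, hψ⟩ : ∃ ψ : AdjoinRoot (minpoly (ZMod p) φU) →+* Module.End (ZMod p) U,
      ∀ q : (ZMod p)[X], ψ (AdjoinRoot.mk _ q) = aeval φU q :=
    ⟨Ideal.Quotient.lift _ _ hH, fun q => rfl⟩
  have hψroot : ψ (AdjoinRoot.root _) = φU := by
    rw [← AdjoinRoot.mk_X, hψ, aeval_X]
  obtain ⟨c, hc⟩ : ∃ c : AdjoinRoot (minpoly (ZMod p) φU), c = AdjoinRoot.root _ := ⟨_, rfl⟩
  rw [← hc] at hψroot
  have hc0 : c ≠ 0 := by
    intro h
    have h0 : φU = 0 := by rw [← hψroot, h, map_zero]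
    obtain ⟨u, hu⟩ := exists_ne (0 : U)
    apply hu
    have h1 := hUinj u u.2 (by rw [← hφUa, h0]; rfl)
    exact Subtype.ext h1
  haveI : CharP (AdjoinRoot (minpoly (ZMod p) φU)) p :=
    charP_of_injective_algebraMap (algebraMap (ZMod p) (AdjoinRoot (minpoly (ZMod p) φU))).injective p
  have hψinj : ∀ (e : AdjoinRoot (minpoly (ZMod p) φU)) (u : U), u ≠ 0 → ψ e u = 0 → e = 0 := by
    intro e u hu h
    by_contra he
    apply hu
    have h1 : ψ (e⁻¹) (ψ e u) = u := by
      rw [← Module.End.mul_apply, ← map_mul, inv_mul_cancel₀ he, map_one]; rfl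
    rw [← h1, h, map_zero]
  obtain ⟨X, hX⟩ := exists_GL_upper c
  obtain ⟨Y, hY⟩ := exists_GL_lower (AdjoinRoot (minpoly (ZMod p) φU))
  obtain ⟨ι, hι⟩ : ∃ ι : U × U →ₗ[ZMod p] M, ∀ w : U × U, ι w = (w.1 : M) + β (w.2 : M) :=
    ⟨(U.subtype).coprod (β.comp U.subtype), fun w => rfl⟩
  have hιinj : ∀ w w' : U × U, ι w = ι w' → w = w' := by
    intro w w' h
    have h0 : ι (w - w') = 0 := by rw [map_sub, h, sub_self]
    rw [hι] at h0
    have h1 := congrArg α h0
    rw [map_add, map_zero, hαU _ (w - w').1.2, zero_add, ← Module.End.mul_apply] at h1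
    have h2 := hUinj _ (w - w').2.2 h1
    rw [h2, map_zero, add_zero] at h0
    have h3 : w - w' = 0 := Prod.ext (Subtype.ext h0) (Subtype.ext h2)
    exact sub_eq_zero.1 h3
  have hxS : (x, X) ∈ relSubgroup ψ ι := by
    rw [mem_relSubgroup]
    intro w
    show x (ι w) = ι (Tmat ψ (X : Matrix (Fin 2) (Fin 2) (AdjoinRoot (minpoly (ZMod p) φU))) w)
    rw [hX, Tmat_apply, hx, hι, hι]
    simp only [Matrix.of_apply, Matrix.cons_val', Matrix.cons_val_zero, Matrix.cons_val_one,
      Matrix.cons_val_fin_one, map_one, map_zero, hψroot, Module.End.one_apply,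
      LinearMap.zero_apply, zero_add, map_add, hαU _ w.1.2]
    rw [Submodule.coe_add, hφUa, Module.End.mul_apply]
    abel
  have hyS : (y, Y) ∈ relSubgroup ψ ι := by
    rw [mem_relSubgroup]
    intro w
    show y (ι w) = ι (Tmat ψ (Y : Matrix (Fin 2) (Fin 2) (AdjoinRoot (minpoly (ZMod p) φU))) w)
    rw [hY, Tmat_apply, hy, hι, hι]
    simp only [Matrix.of_apply, Matrix.cons_val', Matrix.cons_val_zero, Matrix.cons_val_one,
      Matrix.cons_val_fin_one, map_one, map_zero, Module.End.one_apply,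
      LinearMap.zero_apply, add_zero, map_add]
    rw [Submodule.coe_add, map_add, ← Module.End.mul_apply β β, hβ]
    simp only [LinearMap.zero_apply]
    abel
  have hS : ∀ A : GL (Fin 2) (AdjoinRoot (minpoly (ZMod p) φU)),
      ((1 : M ≃ₗ[ZMod p] M), A) ∈ relSubgroup ψ ι → A = 1 := by
    intro A hA
    rw [mem_relSubgroup] at hA
    have h1 : ∀ w : U × U, Tmat ψ (A : Matrix (Fin 2) (Fin 2) (AdjoinRoot (minpoly (ZMod p) φU))) w = w := by
      intro w
      exact (hιinj _ _ (hA w)).symm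
    obtain ⟨u, hu⟩ := exists_ne (0 : U)
    have e1 := h1 (u, 0)
    have e2 := h1 (0, u)
    rw [Tmat_apply] at e1 e2
    simp only [map_zero, add_zero, zero_add, Prod.mk.injEq] at e1 e2
    have a00 : (A : Matrix (Fin 2) (Fin 2) (AdjoinRoot (minpoly (ZMod p) φU))) 0 0 = 1 := by
      have : ψ ((A : Matrix (Fin 2) (Fin 2) (AdjoinRoot (minpoly (ZMod p) φU))) 0 0 - 1) u = 0 := by
        rw [map_sub, map_one, LinearMap.sub_apply, e1.1, Module.End.one_apply, sub_self]
      exact sub_eq_zero.1 (hψinj _ u hu this)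
    have a10 : (A : Matrix (Fin 2) (Fin 2) (AdjoinRoot (minpoly (ZMod p) φU))) 1 0 = 0 := hψinj _ u hu e1.2
    have a01 : (A : Matrix (Fin 2) (Fin 2) (AdjoinRoot (minpoly (ZMod p) φU))) 0 1 = 0 := hψinj _ u hu e2.1
    have a11 : (A : Matrix (Fin 2) (Fin 2) (AdjoinRoot (minpoly (ZMod p) φU))) 1 1 = 1 := by
      have : ψ ((A : Matrix (Fin 2) (Fin 2) (AdjoinRoot (minpoly (ZMod p) φU))) 1 1 - 1) u = 0 := by
        rw [map_sub, map_one, LinearMap.sub_apply, e2.2, Module.End.one_apply, sub_self]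
      exact sub_eq_zero.1 (hψinj _ u hu this)
    apply Units.ext
    ext i j
    fin_cases i <;> fin_cases j <;> simp [a00, a01, a10, a11]
  obtain ⟨hfin, hsol', hodd'⟩ := transfer_closure (relSubgroup ψ ι) hS x y X Y hxS hyS hsol hodd
  exact two_transvections hp2 X Y c hc0 hX hY hsol' hodd'


section flag
variable {K M : Type*} [Field K] [AddCommGroup M] [Module K M] (α β : Module.End K M)

/-- alternating words starting with `α` (resp. `β`) -/
def altWord : ℕ → Module.End K M × Module.End K M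
  | 0 => (1, 1)
  | (i + 1) => (α * (altWord i).2, β * (altWord i).1)

/-- the flag -/
def altFlag : ℕ → Submodule K M
  | 0 => ⊤
  | (i + 1) => (altFlag i).map α ⊔ (altFlag i).map β

theorem altFlag_succ_le (i : ℕ) : altFlag α β (i + 1) ≤ altFlag α β i := by
  induction i with
  | zero => exact le_top
  | succ i ih =>
    show (altFlag α β (i + 1)).map α ⊔ (altFlag α β (i + 1)).map β ≤
      (altFlag α β i).map α ⊔ (altFlag α β i).map β
    exact sup_le_sup (Submodule.map_mono ih) (Submodule.map_mono ih)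

theorem altFlag_le_range (hα : α * α = 0) (hβ : β * β = 0) (i : ℕ) :
    altFlag α β i ≤ LinearMap.range (altWord α β i).1 ⊔ LinearMap.range (altWord α β i).2 := by
  induction i with
  | zero =>
    show (⊤ : Submodule K M) ≤ LinearMap.range (1 : Module.End K M) ⊔ LinearMap.range (1 : Module.End K M)
    rw [sup_idem]
    intro v _
    exact ⟨v, rfl⟩
  | succ i ih =>
    show (altFlag α β i).map α ⊔ (altFlag α β i).map β ≤ _
    have h1 : ∀ γ : Module.End K M, (altFlag α β i).map γ ≤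
        LinearMap.range (γ * (altWord α β i).1) ⊔ LinearMap.range (γ * (altWord α β i).2) := by
      intro γ
      refine (Submodule.map_mono ih).trans ?_
      rw [Submodule.map_sup, ← LinearMap.range_comp, ← LinearMap.range_comp]
      rfl
    have hα1 : LinearMap.range (α * (altWord α β i).1) ≤ LinearMap.range (α * (altWord α β i).2) := by
      cases i with
      | zero => exact le_rfl
      | succ j =>
        have : α * (altWord α β (j + 1)).1 = 0 := by
          show α * (α * (altWord α β j).2) = 0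
          rw [← mul_assoc, hα, zero_mul]
        rw [this]
        simp
    have hβ1 : LinearMap.range (β * (altWord α β i).2) ≤ LinearMap.range (β * (altWord α β i).1) := by
      cases i with
      | zero => exact le_rfl
      | succ j =>
        have : β * (altWord α β (j + 1)).2 = 0 := by
          show β * (β * (altWord α β j).1) = 0
          rw [← mul_assoc, hβ, zero_mul]
        rw [this]
        simp
    refine sup_le ((h1 α).trans ?_) ((h1 β).trans ?_)
    · exact (sup_le hα1 le_rfl).trans le_sup_left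
    · exact (sup_le le_rfl hβ1).trans le_sup_right

theorem altWord_add_two (i : ℕ) : (altWord α β (i + 2)).1 = α * β * (altWord α β i).1 := by
  show α * (β * (altWord α β i).1) = _
  rw [mul_assoc]

theorem altWord_two_mul_add (j r : ℕ) :
    (altWord α β (2 * j + r)).1 = (α * β) ^ j * (altWord α β r).1 := by
  induction j with
  | zero => simp
  | succ j ih =>
    have : 2 * (j + 1) + r = (2 * j + r) + 2 := by ring
    rw [this, altWord_add_two, ih, pow_succ']
    simp only [mul_assoc]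

theorem altFlag_eq_bot (hα : α * α = 0) (hβ : β * β = 0) (k : ℕ) (hk : (α * β) ^ k = 0) :
    altFlag α β (2 * k + 1) = ⊥ := by
  rw [eq_bot_iff]
  refine (altFlag_le_range α β hα hβ _).trans ?_
  have h1 : (altWord α β (2 * k + 1)).1 = 0 := by
    rw [altWord_two_mul_add, hk, zero_mul]
  have h2 : (altWord α β (2 * k + 1)).2 = 0 := by
    show β * (altWord α β (2 * k)).1 = 0
    have := altWord_two_mul_add α β k 0
    rw [add_zero] at this
    rw [this, hk, zero_mul, mul_zero]
  rw [h1, h2]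
  simp

/-- elements stabilising the flag with trivial action on the factors are unipotent -/
theorem sub_one_pow_mem_altFlag (G : Module.End K M)
    (hG : ∀ i, ∀ v ∈ altFlag α β i, G v - v ∈ altFlag α β (i + 1)) (n : ℕ) (v : M) :
    ((G - 1) ^ n) v ∈ altFlag α β n := by
  induction n with
  | zero => exact Submodule.mem_top
  | succ n ih =>
    rw [pow_succ', Module.End.mul_apply, LinearMap.sub_apply, Module.End.one_apply]
    exact hG n _ ih

end flag

theorem pow_char_pow_eq_one_of_nilp {p : ℕ} [hp : Fact p.Prime] {M : Type*} [AddCommGroup M]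
    [Module (ZMod p) M] (g : M ≃ₗ[ZMod p] M) (n : ℕ)
    (h : ((g : Module.End (ZMod p) M) - 1) ^ n = 0) : g ^ (p ^ n) = 1 := by
  rcases subsingleton_or_nontrivial M with hs | hnt
  · ext v; exact Subsingleton.elim _ _
  haveI : Nontrivial (Module.End (ZMod p) M) := inferInstance
  haveI : CharP (Module.End (ZMod p) M) p :=
    charP_of_injective_algebraMap (algebraMap (ZMod p) (Module.End (ZMod p) M)).injective p
  have h1 : ((g : Module.End (ZMod p) M) - 1) ^ (p ^ n) = 0 :=
    pow_eq_zero_of_le (Nat.lt_pow_self hp.out.one_lt).le h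
  rw [sub_pow_char_pow_of_commute _ _ (Commute.one_right _), one_pow, sub_eq_zero] at h1
  ext v
  have h2 : ((g ^ (p ^ n) : M ≃ₗ[ZMod p] M) : Module.End (ZMod p) M) =
      (g : Module.End (ZMod p) M) ^ (p ^ n) :=
    map_pow (LinearEquiv.automorphismGroup.toLinearMapMonoidHom (R := ZMod p) (M := M)) g _
  have h3 := congrArg (fun f : Module.End (ZMod p) M => f v) h2
  simp only [h1] at h3
  exact h3

theorem isPGroup_closure_of_quadratic {p : ℕ} [hp : Fact p.Prime] (hp2 : p ≠ 2) {M : Type*}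
    [AddCommGroup M] [Module (ZMod p) M] [Finite M] (α β : Module.End (ZMod p) M)
    (hα : α * α = 0) (hβ : β * β = 0) (x y : M ≃ₗ[ZMod p] M) (hx : ∀ v, x v = v + α v)
    (hy : ∀ v, y v = v + β v)
    (hsol : Group.IsSolvable (Subgroup.closure {x, y}))
    (hodd : Odd (Nat.card (Subgroup.closure {x, y}))) :
    IsPGroup p (Subgroup.closure {x, y}) := by
  haveI : Finite (M ≃ₗ[ZMod p] M) :=
    Finite.of_injective (fun e => (e : M → M)) DFunLike.coe_injective
  obtain ⟨k, hk⟩ : ∃ k : ℕ, (α * β) ^ k = 0 := by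
    by_contra hcon
    push Not at hcon
    obtain ⟨U, hU0, hUr, hUinv, hUinj, hUmin⟩ := exists_minimal_invariant (α * β) hcon
    exact core hp2 α β hα hβ x y hx hy hsol hodd U hU0 hUr hUinv hUinj hUmin
  have hbot := altFlag_eq_bot α β hα hβ k hk
  have hP : ∀ g ∈ Subgroup.closure {x, y}, ∀ i, ∀ v ∈ altFlag α β i,
      g v - v ∈ altFlag α β (i + 1) := by
    have hmul : ∀ g h : M ≃ₗ[ZMod p] M,
        (∀ i, ∀ v ∈ altFlag α β i, g v - v ∈ altFlag α β (i + 1)) →
        (∀ i, ∀ v ∈ altFlag α β i, h v - v ∈ altFlag α β (i + 1)) →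
        (∀ i, ∀ v ∈ altFlag α β i, (g * h) v - v ∈ altFlag α β (i + 1)) := by
      intro g h hg hh i v hv
      have h1 : h v ∈ altFlag α β i := by
        have := Submodule.add_mem _ (altFlag_succ_le α β i (hh i v hv)) hv
        rwa [sub_add_cancel] at this
      have h2 := Submodule.add_mem _ (hg i _ h1) (hh i v hv)
      rwa [sub_add_sub_cancel] at h2
    have hone : ∀ i, ∀ v ∈ altFlag α β i, (1 : M ≃ₗ[ZMod p] M) v - v ∈ altFlag α β (i + 1) := by
      intro i v _
      show v - v ∈ _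
      rw [sub_self]; exact Submodule.zero_mem _
    have hpow : ∀ (g : M ≃ₗ[ZMod p] M) (n : ℕ),
        (∀ i, ∀ v ∈ altFlag α β i, g v - v ∈ altFlag α β (i + 1)) →
        (∀ i, ∀ v ∈ altFlag α β i, (g ^ n) v - v ∈ altFlag α β (i + 1)) := by
      intro g n hg
      induction n with
      | zero => rw [pow_zero]; exact hone
      | succ n ih => rw [pow_succ]; exact hmul _ _ ih hg
    intro g hg
    induction hg using Subgroup.closure_induction with
    | mem g hg =>
      rcases hg with hg | hg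
      · rw [hg]
        intro i v hv
        rw [hx, add_sub_cancel_left]
        exact le_sup_left (α := Submodule (ZMod p) M) (Submodule.mem_map_of_mem hv)
      · rw [Set.mem_singleton_iff] at hg
        rw [hg]
        intro i v hv
        rw [hy, add_sub_cancel_left]
        exact le_sup_right (α := Submodule (ZMod p) M) (Submodule.mem_map_of_mem hv)
    | one => exact hone
    | mul g h _ _ ihg ihh => exact hmul g h ihg ihh
    | inv g _ ih =>
      have : g⁻¹ = g ^ (orderOf g - 1) := by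
        rw [eq_comm, ← mul_eq_one_iff_eq_inv]
        rw [← pow_succ, Nat.sub_add_cancel (orderOf_pos g), pow_orderOf_eq_one]
      rw [this]
      exact hpow g _ ih
  intro g
  refine ⟨2 * k + 1, ?_⟩
  have h0 : (((g : M ≃ₗ[ZMod p] M) : Module.End (ZMod p) M) - 1) ^ (2 * k + 1) = 0 := by
    apply LinearMap.ext
    intro v
    have := sub_one_pow_mem_altFlag α β ((g : M ≃ₗ[ZMod p] M) : Module.End (ZMod p) M)
      (hP g g.2) (2 * k + 1) v
    rw [hbot, Submodule.mem_bot] at this
    exact this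
  have h1 := pow_char_pow_eq_one_of_nilp (g : M ≃ₗ[ZMod p] M) _ h0
  exact Subtype.ext h1


end OddGL2
end Cfsg.Agent.Helper1
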