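import Mathlib
import Cfsg.Prelude.Def_PLocal
import Cfsg.Agent.Helper1.OddGL2Lin
import Cfsg.Agent.Helper1.PGroup
import Cfsg.Agent.Helper1.FrattiniAct
import Cfsg.Agent.Helper1.GlaubermanZJFact
import Cfsg.Agent.Helper2.BaerSuzuki

set_option autoImplicit false

/-!
Quadratic action in solvable groups of odd order: `p`-stability.
-/

namespace Cfsg.Agent.Helper1
namespace OddGL2

universe u
open scoped commutatorElement Pointwise
open Cfsg.Agent.Helper2 (cj)

theorem exists_linRep {A : Type*} [CommGroup A] (p : ℕ) [Module (ZMod p) (Additive A)] :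
    ∃ ρ : MulAut A →* (Additive A ≃ₗ[ZMod p] Additive A),
      ∀ (f : MulAut A) (a : Additive A), ρ f a = Additive.ofMul (f (Additive.toMul a)) := by
  refine ⟨{ toFun := fun f => { MulEquiv.toAdditive f with
              map_smul' := fun c x => ZMod.map_smul (MulEquiv.toAdditive f) c x }
            map_one' := ?_
            map_mul' := ?_ }, ?_⟩
  · ext a; rfl
  · intro f g; ext a; rfl
  · intro f a; rfl

theorem eq_one_of_quadratic_abs' {p : ℕ} [hp : Fact p.Prime] (hp2 : p ≠ 2) {A : Type*} [CommGroup A]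
    [Finite A] [Module (ZMod p) (Additive A)] {X : Type*} [Group X] (θ : X →* MulAut A) (a y : X)
    (hqa : ∀ v : A, θ a (θ a v * v⁻¹) * (θ a v * v⁻¹)⁻¹ = 1)
    (hqy : ∀ v : A, θ y (θ y v * v⁻¹) * (θ y v * v⁻¹)⁻¹ = 1)
    [Finite (Subgroup.closure {a, y})]
    (hsol : Group.IsSolvable (Subgroup.closure {a, y}))
    (hodd : Odd (Nat.card (Subgroup.closure {a, y})))
    (d : X) (hd : d ∈ Subgroup.closure {a, y}) (hdp : (orderOf d).Coprime p) : θ d = 1 := by
  obtain ⟨ρ, hρ⟩ := exists_linRep (A := A) p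
  obtain ⟨Φ, hΦ⟩ : ∃ Φ, Φ = ρ.comp θ := ⟨_, rfl⟩
  have hΦa : ∀ (g : X) (v : Additive A), Φ g v = Additive.ofMul (θ g (Additive.toMul v)) := by
    intro g v; rw [hΦ]; exact hρ _ _
  have key : ∀ g : X, (∀ v : A, θ g (θ g v * v⁻¹) * (θ g v * v⁻¹)⁻¹ = 1) →
      ((Φ g : Module.End (ZMod p) (Additive A)) - 1) * ((Φ g : Module.End (ZMod p) (Additive A)) - 1)
        = 0 := by
    intro g hg
    apply LinearMap.ext
    intro v
    have h1 : ∀ w : Additive A, ((Φ g : Module.End (ZMod p) (Additive A)) - 1) w =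
        Additive.ofMul (θ g (Additive.toMul w) * (Additive.toMul w)⁻¹) := by
      intro w
      rw [LinearMap.sub_apply, Module.End.one_apply]
      show Φ g w - w = _
      rw [hΦa, sub_eq_add_neg]
      rfl
    rw [Module.End.mul_apply, h1, h1]
    show Additive.ofMul _ = 0
    simp only [toMul_ofMul]
    rw [hg]; rfl
  have hxv : ∀ g : X, ∀ v : Additive A,
      Φ g v = v + ((Φ g : Module.End (ZMod p) (Additive A)) - 1) v := by
    intro g v
    rw [LinearMap.sub_apply, Module.End.one_apply]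
    show Φ g v = v + (Φ g v - v)
    abel
  have hcl : Subgroup.closure {Φ a, Φ y} = (Subgroup.closure {a, y}).map Φ := by
    rw [MonoidHom.map_closure, Set.image_pair]
  have hsurj := Φ.subgroupMap_surjective (Subgroup.closure {a, y})
  have hsol' : Group.IsSolvable (Subgroup.closure {Φ a, Φ y}) := by
    rw [hcl]; exact Group.isSolvable_of_surjective hsurj
  have hodd' : Odd (Nat.card (Subgroup.closure {Φ a, Φ y})) := by
    rw [hcl]
    exact Odd.of_dvd_nat hodd (Subgroup.card_dvd_of_surjective _ hsurj)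
  have hpg := isPGroup_closure_of_quadratic hp2 _ _ (key a hqa) (key y hqy) (Φ a) (Φ y)
    (hxv a) (hxv y) hsol' hodd'
  have hdm : Φ d ∈ Subgroup.closure {Φ a, Φ y} := by
    rw [hcl]; exact Subgroup.mem_map_of_mem _ hd
  obtain ⟨k, hk⟩ := hpg ⟨Φ d, hdm⟩
  have hk' : (Φ d) ^ (p ^ k) = 1 := congrArg Subtype.val hk
  have ho : (Φ d) ^ (orderOf d) = 1 := by rw [← map_pow, pow_orderOf_eq_one, map_one]
  have h1 := pow_gcd_eq_one.2 ⟨hk', ho⟩
  rw [Nat.Coprime.gcd_eq_one (Nat.Coprime.pow_left k hdp.symm), pow_one] at h1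
  ext v
  have h2 := hΦa d (Additive.ofMul v)
  rw [h1] at h2
  exact (congrArg Additive.toMul h2).symm

theorem eq_one_of_quadratic_abs {p : ℕ} [hp : Fact p.Prime] (hp2 : p ≠ 2) {A : Type*} [CommGroup A]
    [Finite A] (hA : ∀ a : A, a ^ p = 1) {X : Type*} [Group X] (θ : X →* MulAut A) (a y : X)
    (hqa : ∀ v : A, θ a (θ a v * v⁻¹) * (θ a v * v⁻¹)⁻¹ = 1)
    (hqy : ∀ v : A, θ y (θ y v * v⁻¹) * (θ y v * v⁻¹)⁻¹ = 1)
    [Finite (Subgroup.closure {a, y})]
    (hsol : Group.IsSolvable (Subgroup.closure {a, y}))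
    (hodd : Odd (Nat.card (Subgroup.closure {a, y})))
    (d : X) (hd : d ∈ Subgroup.closure {a, y}) (hdp : (orderOf d).Coprime p) : θ d = 1 := by
  let inst : Module (ZMod p) (Additive A) := AddCommGroup.zmodModule (n := p) (fun x => by
    show Additive.ofMul ((Additive.toMul x) ^ p) = 0
    rw [hA]; rfl)
  exact eq_one_of_quadratic_abs' hp2 θ a y hqa hqy hsol hodd d hd hdp

theorem quadratic_elementwise {X : Type u} [Group X] (V : Subgroup X) [hVn : V.Normal] (a : X)
    (hqa : ⁅⁅V, Subgroup.zpowers a⁆, Subgroup.zpowers a⁆ = ⊥) (v : X) (hv : v ∈ V) :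
    a * (a * v * a⁻¹ * v⁻¹) * a⁻¹ * (a * v * a⁻¹ * v⁻¹)⁻¹ = 1 := by
  have h1 : ⁅a, v⁆ ∈ ⁅V, Subgroup.zpowers a⁆ := by
    rw [Subgroup.commutator_comm]
    exact Subgroup.commutator_mem_commutator (Subgroup.mem_zpowers a) hv
  have h2 : ⁅a, ⁅a, v⁆⁆ ∈ ⁅⁅V, Subgroup.zpowers a⁆, Subgroup.zpowers a⁆ := by
    rw [Subgroup.commutator_comm]
    exact Subgroup.commutator_mem_commutator (Subgroup.mem_zpowers a) h1
  rw [hqa, Subgroup.mem_bot] at h2
  rw [commutatorElement_def, commutatorElement_def] at h2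
  exact h2

theorem centralizes_of_quadratic_elemAb {X : Type u} [Group X] [Finite X] {p : ℕ}
    [hp : Fact p.Prime] (hp2 : p ≠ 2) (V : Subgroup X) [hVn : V.Normal]
    (hVab : ∀ u ∈ V, ∀ v ∈ V, u * v = v * u) (hVp : ∀ v ∈ V, v ^ p = 1) (a y : X)
    (hqa : ⁅⁅V, Subgroup.zpowers a⁆, Subgroup.zpowers a⁆ = ⊥)
    (hqy : ⁅⁅V, Subgroup.zpowers y⁆, Subgroup.zpowers y⁆ = ⊥)
    (hsol : Group.IsSolvable (Subgroup.closure {a, y}))
    (hodd : Odd (Nat.card (Subgroup.closure {a, y})))
    (d : X) (hd : d ∈ Subgroup.closure {a, y}) (hdp : (orderOf d).Coprime p) :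
    d ∈ Subgroup.centralizer (V : Set X) := by
  letI : CommGroup V := { (inferInstance : Group V) with
    mul_comm := fun u v => Subtype.ext (hVab u u.2 v v.2) }
  have hA : ∀ v : V, v ^ p = 1 := fun v => Subtype.ext (hVp v v.2)
  have key : ∀ g : X, ⁅⁅V, Subgroup.zpowers g⁆, Subgroup.zpowers g⁆ = ⊥ → ∀ v : V,
      (MulAut.conjNormal (H := V) g) ((MulAut.conjNormal (H := V) g) v * v⁻¹) *
        ((MulAut.conjNormal (H := V) g) v * v⁻¹)⁻¹ = 1 := by
    intro g hg v
    apply Subtype.ext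
    have := quadratic_elementwise V g hg v v.2
    simp only [Subgroup.coe_mul, Subgroup.coe_inv, MulAut.conjNormal_apply, Subgroup.coe_one]
    exact this
  have h1 := eq_one_of_quadratic_abs hp2 hA (MulAut.conjNormal (H := V)) a y (key a hqa) (key y hqy)
    hsol hodd d hd hdp
  rw [Subgroup.mem_centralizer_iff]
  intro v hv
  have h2 := congrArg (fun f : MulAut V => ((f ⟨v, hv⟩ : V) : X)) h1
  simp only [MulAut.conjNormal_apply, MulAut.one_apply] at h2
  calc v * d = (d * v * d⁻¹) * d := by rw [h2]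
    _ = d * v := by group

theorem centralizes_of_quadratic {X : Type u} [Group X] [Finite X] {p : ℕ}
    [hp : Fact p.Prime] (hp2 : p ≠ 2) (V : Subgroup X) [hVn : V.Normal] (hV : IsPGroup p V)
    (a y : X)
    (hqa : ⁅⁅V, Subgroup.zpowers a⁆, Subgroup.zpowers a⁆ = ⊥)
    (hqy : ⁅⁅V, Subgroup.zpowers y⁆, Subgroup.zpowers y⁆ = ⊥)
    (hsol : Group.IsSolvable (Subgroup.closure {a, y}))
    (hodd : Odd (Nat.card (Subgroup.closure {a, y})))
    (d : X) (hd : d ∈ Subgroup.closure {a, y}) (hdp : (orderOf d).Coprime p) :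
    d ∈ Subgroup.centralizer (V : Set X) := by
  obtain ⟨Φ, hΦ⟩ : ∃ Φ : Subgroup X, Φ = (frattini V).map V.subtype := ⟨_, rfl⟩
  have hNV : Subgroup.normalizer (V : Set X) = ⊤ := Subgroup.normalizer_eq_top_iff.2 hVn
  haveI hΦn : Φ.Normal := by
    rw [← Subgroup.normalizer_eq_top_iff, eq_top_iff, ← hNV, hΦ]
    exact le_normalizer_map_of_characteristic V (frattini V)
  obtain ⟨π, hπ⟩ : ∃ π : X →* X ⧸ Φ, π = QuotientGroup.mk' Φ := ⟨_, rfl⟩
  have hπs : Function.Surjective π := hπ ▸ QuotientGroup.mk'_surjective Φ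
  have hker : ∀ x : X, π x = 1 ↔ x ∈ Φ := by
    intro x; rw [hπ]; exact QuotientGroup.eq_one_iff x
  haveI : Finite V := inferInstance
  have hcomm : ∀ u ∈ V, ∀ v ∈ V, u * v * u⁻¹ * v⁻¹ ∈ Φ := by
    intro u hu v hv
    rw [hΦ]
    refine ⟨⁅(⟨u, hu⟩ : V), ⟨v, hv⟩⁆, ?_, ?_⟩
    · apply IsPGroup.commutator_le_frattini hV
      rw [commutator_def]
      exact Subgroup.commutator_mem_commutator (Subgroup.mem_top _) (Subgroup.mem_top _)
    · simp [commutatorElement_def]
  have hpow : ∀ v ∈ V, v ^ p ∈ Φ := by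
    intro v hv
    rw [hΦ]
    exact ⟨(⟨v, hv⟩ : V) ^ p, IsPGroup.pow_mem_frattini hV _, by simp⟩
  haveI hVπn : (V.map π).Normal := hVn.map π hπs
  have hquad : ∀ g : X, ⁅⁅V, Subgroup.zpowers g⁆, Subgroup.zpowers g⁆ = ⊥ →
      ⁅⁅V.map π, Subgroup.zpowers (π g)⁆, Subgroup.zpowers (π g)⁆ = ⊥ := by
    intro g hg
    rw [← MonoidHom.map_zpowers, ← Subgroup.map_commutator, ← Subgroup.map_commutator, hg,
      Subgroup.map_bot]
  have hcl : Subgroup.closure {π a, π y} = (Subgroup.closure {a, y}).map π := by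
    rw [MonoidHom.map_closure, Set.image_pair]
  have hsurj := π.subgroupMap_surjective (Subgroup.closure {a, y})
  have hsol' : Group.IsSolvable (Subgroup.closure {π a, π y}) := by
    rw [hcl]; exact Group.isSolvable_of_surjective hsurj
  have hodd' : Odd (Nat.card (Subgroup.closure {π a, π y})) := by
    rw [hcl]
    exact Odd.of_dvd_nat hodd (Subgroup.card_dvd_of_surjective _ hsurj)
  have hdm : π d ∈ Subgroup.closure {π a, π y} := by
    rw [hcl]; exact Subgroup.mem_map_of_mem _ hd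
  have hdp' : (orderOf (π d)).Coprime p := hdp.coprime_dvd_left (orderOf_map_dvd π d)
  have h1 := centralizes_of_quadratic_elemAb hp2 (V.map π)
    (by
      rintro _ ⟨u, hu, rfl⟩ _ ⟨v, hv, rfl⟩
      have := (hker _).2 (hcomm u hu v hv)
      rw [map_mul, map_mul, map_mul, map_inv, map_inv] at this
      have h2 := congrArg (· * (π v * π u)) this
      simpa [mul_assoc] using h2)
    (by
      rintro _ ⟨v, hv, rfl⟩
      rw [← map_pow]
      exact (hker _).2 (hpow v hv))
    (π a) (π y) (hquad a hqa) (hquad y hqy) hsol' hodd' (π d) hdm hdp'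
  have h2 : Subgroup.zpowers d ≤ Subgroup.centralizer (V : Set X) := by
    apply frattini_coprime_trivial (Subgroup.zpowers d) V
    · rw [hNV]; exact le_top
    · rw [Nat.card_zpowers]
      obtain ⟨k, hk⟩ := IsPGroup.iff_card.1 (hV.to_subgroup (frattini V))
      rw [hk]
      exact Nat.Coprime.pow_right k hdp
    · intro g hg v hv
      rw [← hΦ, ← hker]
      have hg' : π g ∈ Subgroup.centralizer ((V.map π : Subgroup (X ⧸ Φ)) : Set (X ⧸ Φ)) := by
        obtain ⟨n, rfl⟩ := hg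
        rw [map_zpow]
        exact Subgroup.zpow_mem _ h1 n
      have h3 := (Subgroup.mem_centralizer_iff.1 hg') (π v) (Subgroup.mem_map_of_mem π hv)
      rw [map_mul, map_mul, map_mul, map_inv, map_inv, ← h3]
      group
  exact h2 (Subgroup.mem_zpowers d)

theorem quadratic_conj {X : Type u} [Group X] (V : Subgroup X) [hVn : V.Normal] (a g : X)
    (hq : ⁅⁅V, Subgroup.zpowers a⁆, Subgroup.zpowers a⁆ = ⊥) :
    ⁅⁅V, Subgroup.zpowers (g * a * g⁻¹)⁆, Subgroup.zpowers (g * a * g⁻¹)⁆ = ⊥ := by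
  have h1 : V.map (MulAut.conj g).toMonoidHom = V := by
    have := Subgroup.Normal.conj_smul_eq_self g V
    rwa [Subgroup.pointwise_smul_def] at this
  have h2 : (Subgroup.zpowers a).map (MulAut.conj g).toMonoidHom = Subgroup.zpowers (g * a * g⁻¹) := by
    rw [MonoidHom.map_zpowers]; rfl
  have h3 := congrArg (Subgroup.map (MulAut.conj g).toMonoidHom) hq
  rw [Subgroup.map_commutator, Subgroup.map_commutator, h1, h2, Subgroup.map_bot] at h3
  exact h3

theorem isPStableOn_of_solvable_odd {X : Type u} [Group X] [Finite X] {p : ℕ} [hp : Fact p.Prime]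
    (hp2 : p ≠ 2) (hsol : Group.IsSolvable X) (hodd : Odd (Nat.card X)) (V : Subgroup X)
    [hVn : V.Normal] (hV : IsPGroup p V) : Cfsg.IsPStableOn p V := by
  intro a hq
  obtain ⟨k, hk⟩ := IsPGroup.iff_card.1 hV
  have ha : a ^ (p ^ k) ∈ Subgroup.centralizer (V : Set X) := by
    rw [← hk]; exact PStableStruct.pow_card_mem_centralizer_of_quadratic V a hq
  obtain ⟨c, hca, ⟨j, hcj⟩, hcd⟩ := ZJFact.exists_pPart_mod (Subgroup.centralizer (V : Set X)) a k ha
  have hcle : Subgroup.zpowers c ≤ Subgroup.zpowers a := (Subgroup.zpowers_le).2 hca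
  have hqc : ⁅⁅V, Subgroup.zpowers c⁆, Subgroup.zpowers c⁆ = ⊥ := by
    rw [eq_bot_iff, ← hq]
    exact Subgroup.commutator_mono (Subgroup.commutator_mono le_rfl hcle) hcle
  have h3 : (QuotientGroup.mk c : X ⧸ Subgroup.centralizer (V : Set X)) = QuotientGroup.mk a :=
    QuotientGroup.eq.2 hcd
  rw [← h3]
  obtain ⟨π, hπ⟩ : ∃ π : X →* X ⧸ Subgroup.centralizer (V : Set X),
      π = QuotientGroup.mk' (Subgroup.centralizer (V : Set X)) := ⟨_, rfl⟩
  have hπs : Function.Surjective π := hπ ▸ QuotientGroup.mk'_surjective _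
  have hker : ∀ x : X, π x = 1 ↔ x ∈ Subgroup.centralizer (V : Set X) := by
    intro x; rw [hπ]; exact QuotientGroup.eq_one_iff x
  have hgoal : (QuotientGroup.mk c : X ⧸ Subgroup.centralizer (V : Set X)) = π c := by
    rw [hπ]; rfl
  rw [hgoal]
  have hAp : IsPGroup p (Subgroup.zpowers (π c)) := by
    have h1 : orderOf (π c) ∣ p ^ j :=
      orderOf_dvd_of_pow_eq_one (by rw [← map_pow, hcj, map_one])
    obtain ⟨i, -, hi⟩ := (Nat.dvd_prime_pow hp.out).1 h1
    apply IsPGroup.of_card (n := i)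
    rw [Nat.card_zpowers, hi]
  obtain ⟨N, hNn, hNp, hle⟩ := Cfsg.Agent.Helper2.baer_suzuki (Subgroup.zpowers (π c)) hAp (by
    intro gbar
    obtain ⟨g, rfl⟩ := hπs gbar
    obtain ⟨y, hy⟩ : ∃ y : X, y = g * c * g⁻¹ := ⟨_, rfl⟩
    have hqy : ⁅⁅V, Subgroup.zpowers y⁆, Subgroup.zpowers y⁆ = ⊥ := hy ▸ quadratic_conj V c g hqc
    have e1 : cj (π g) (Subgroup.zpowers (π c)) = Subgroup.zpowers (π y) := by
      show (Subgroup.zpowers (π c)).map (MulAut.conj (π g)).toMonoidHom = _
      rw [MonoidHom.map_zpowers, hy, map_mul, map_mul, map_inv]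
      rfl
    have e2 : Subgroup.zpowers (π c) ⊔ Subgroup.zpowers (π y) =
        (Subgroup.closure {c, y}).map π := by
      rw [MonoidHom.map_closure, Set.image_pair, Subgroup.zpowers_eq_closure,
        Subgroup.zpowers_eq_closure, ← Subgroup.closure_union]
      rfl
    rw [e1, e2]
    have hsolD : Group.IsSolvable (Subgroup.closure {c, y}) := inferInstance
    have hoddD : Odd (Nat.card (Subgroup.closure {c, y})) :=
      Odd.of_dvd_nat hodd (Subgroup.card_subgroup_dvd_card _)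
    rintro ⟨_, ⟨d, hd, rfl⟩⟩
    obtain ⟨i, m, hm, him⟩ := Nat.exists_eq_pow_mul_and_not_dvd (orderOf_pos d).ne' p hp.out.ne_one
    refine ⟨i, ?_⟩
    apply Subtype.ext
    show (π d) ^ (p ^ i) = 1
    rw [← map_pow, hker]
    apply centralizes_of_quadratic hp2 V hV c y hqc hqy hsolD hoddD (d ^ (p ^ i))
      (Subgroup.pow_mem _ hd _)
    have ho : orderOf (d ^ (p ^ i)) = m := by
      rw [orderOf_pow' d (pow_ne_zero i hp.out.ne_zero), him, Nat.gcd_mul_right_left,
        Nat.mul_div_cancel_left _ (pow_pos hp.out.pos i)]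
    rw [ho]
    exact ((Nat.Prime.coprime_iff_not_dvd hp.out).2 hm).symm)
  exact le_pCore hNn hNp (hle (Subgroup.mem_zpowers _))

theorem mem_pCore_of_isPStableOn {X : Type u} [Group X] {p : ℕ} (V : Subgroup X) [V.Normal]
    (hst : Cfsg.IsPStableOn p V) (C : Subgroup X) [C.Normal]
    (hC : C = Subgroup.centralizer (V : Set X)) (a : X)
    (hq : ⁅⁅V, Subgroup.zpowers a⁆, Subgroup.zpowers a⁆ = ⊥) :
    (QuotientGroup.mk a : X ⧸ C) ∈ Cfsg.pCore p (X ⧸ C) := by
  subst hC
  exact hst a hq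

theorem centralizer_subgroupOf_normalizer {G : Type u} [Group G] (P : Subgroup G) :
    (Subgroup.centralizer (P : Set G)).subgroupOf (Subgroup.normalizer (P : Set G)) =
      Subgroup.centralizer ((P.subgroupOf (Subgroup.normalizer (P : Set G)) :
        Subgroup ↥(Subgroup.normalizer (P : Set G))) : Set ↥(Subgroup.normalizer (P : Set G))) := by
  ext x
  rw [Subgroup.mem_subgroupOf, Subgroup.mem_centralizer_iff, Subgroup.mem_centralizer_iff]
  constructor
  · intro h v hv
    apply Subtype.ext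
    exact h (v : G) (Subgroup.mem_subgroupOf.1 hv)
  · intro h v hv
    have := h ⟨v, Subgroup.le_normalizer hv⟩ (Subgroup.mem_subgroupOf.2 hv)
    exact congrArg Subtype.val this

theorem pstable_normalizer_of_solvable_odd {G : Type u} [Group G] [Finite G]
    (hsol : Group.IsSolvable G) (hodd : Odd (Nat.card G)) (p : ℕ) [hpf : Fact p.Prime] (hp : p ≠ 2)
    (P A : Subgroup G) (hP : IsPGroup p P)
    (hquad : ⁅⁅P, A⁆, A⁆ = ⊥)
    [hCn : ((Subgroup.centralizer (P : Set G)).subgroupOf (Subgroup.normalizer (P : Set G))).Normal] :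
    (A.subgroupOf (Subgroup.normalizer (P : Set G))).map
        (QuotientGroup.mk' ((Subgroup.centralizer (P : Set G)).subgroupOf
          (Subgroup.normalizer (P : Set G))))
      ≤ Cfsg.pCore p (↥(Subgroup.normalizer (P : Set G)) ⧸
        (Subgroup.centralizer (P : Set G)).subgroupOf (Subgroup.normalizer (P : Set G))) := by
  have hsolN : Group.IsSolvable ↥(Subgroup.normalizer (P : Set G)) := inferInstance
  have hoddN : Odd (Nat.card ↥(Subgroup.normalizer (P : Set G))) :=
    Odd.of_dvd_nat hodd (Subgroup.card_subgroup_dvd_card _)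
  haveI hVn : (P.subgroupOf (Subgroup.normalizer (P : Set G))).Normal :=
    Subgroup.normal_in_normalizer
  have hVp : IsPGroup p (P.subgroupOf (Subgroup.normalizer (P : Set G))) :=
    hP.comap_of_injective _ (Subgroup.subtype_injective _)
  have hst := isPStableOn_of_solvable_odd hp hsolN hoddN
    (P.subgroupOf (Subgroup.normalizer (P : Set G))) hVp
  rintro _ ⟨a, ha, rfl⟩
  apply mem_pCore_of_isPStableOn _ hst _ (centralizer_subgroupOf_normalizer P)
  rw [← Subgroup.map_eq_bot_iff_of_injective _ (Subgroup.subtype_injective _),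
    Subgroup.map_commutator, Subgroup.map_commutator, eq_bot_iff, ← hquad]
  have h1 : (P.subgroupOf (Subgroup.normalizer (P : Set G))).map
      (Subgroup.normalizer (P : Set G)).subtype ≤ P := by
    rw [Subgroup.subgroupOf_map_subtype]; exact inf_le_left
  have h2 : (Subgroup.zpowers a).map (Subgroup.normalizer (P : Set G)).subtype ≤ A := by
    rw [MonoidHom.map_zpowers, Subgroup.zpowers_le]
    exact Subgroup.mem_subgroupOf.1 ha
  exact Subgroup.commutator_mono (Subgroup.commutator_mono h1 h2) h2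


end OddGL2
end Cfsg.Agent.Helper1
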