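import Mathlib
import Cfsg.Agent.Helper1.OddGL2

set_option autoImplicit false

/-!
`2 × 2` matrix facts for the Dickson-type theorem.
-/

namespace Cfsg.Agent.Helper1.Dk

open Matrix

variable {K : Type*} [Field K]

theorem mat_ext {A B : Matrix (Fin 2) (Fin 2) K} (h00 : A 0 0 = B 0 0) (h01 : A 0 1 = B 0 1)
    (h10 : A 1 0 = B 1 0) (h11 : A 1 1 = B 1 1) : A = B := by
  ext i j
  fin_cases i <;> fin_cases j <;> assumption

theorem scalar_of_det_one {A : Matrix (Fin 2) (Fin 2) K} (hdet : A.det = 1) {c : K}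
    (hA : A = c • 1) : A = 1 ∨ A = -1 := by
  subst hA
  have h : c * c = 1 := by
    rw [Matrix.det_fin_two] at hdet
    simpa using hdet
  have h2 : (c - 1) * (c + 1) = 0 := by linear_combination h
  rcases mul_eq_zero.1 h2 with h3 | h3
  · left
    rw [sub_eq_zero.1 h3, one_smul]
  · right
    rw [eq_neg_of_add_eq_zero_left h3, neg_smul, one_smul]

theorem comm_of_comm {A B C : Matrix (Fin 2) (Fin 2) K} (hns : ∀ c : K, A ≠ c • 1)
    (hB : A * B = B * A) (hC : A * C = C * A) : B * C = C * B := by
  obtain ⟨x, y, rfl⟩ := OddGL2.commutant_two A B hns hB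
  obtain ⟨x', y', rfl⟩ := OddGL2.commutant_two A C hns hC
  simp only [add_mul, mul_add, smul_mul_assoc, mul_smul_comm, one_mul, mul_one, smul_add,
    smul_smul]
  rw [mul_comm x' x, mul_comm y' y, mul_comm x' y, mul_comm y' x]
  abel

theorem det_sub_one (A : Matrix (Fin 2) (Fin 2) K) : (A - 1).det = A.det - A.trace + 1 := by
  simp [Matrix.det_fin_two, Matrix.trace_fin_two] <;> ring

theorem trace_sub_one (A : Matrix (Fin 2) (Fin 2) K) : (A - 1).trace = A.trace - 2 := by
  simp [Matrix.trace_fin_two] <;> ring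

theorem trace_smul_one_add (x : Matrix (Fin 2) (Fin 2) K) (α β : K) :
    (α • (1 : Matrix (Fin 2) (Fin 2) K) + β • x).trace = 2 * α + β * x.trace := by
  simp [Matrix.trace_fin_two] <;> ring

theorem det_smul_one_add (x : Matrix (Fin 2) (Fin 2) K) (α β : K) :
    (α • (1 : Matrix (Fin 2) (Fin 2) K) + β • x).det =
      α ^ 2 + α * β * x.trace + β ^ 2 * x.det := by
  simp [Matrix.det_fin_two, Matrix.trace_fin_two] <;> ring

theorem sq_zero_of_trace_det {N : Matrix (Fin 2) (Fin 2) K} (htr : N.trace = 0)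
    (hdet : N.det = 0) : N * N = 0 := by
  rw [OddGL2.cayley_hamilton_two, htr, hdet, zero_smul, zero_smul, sub_zero]

theorem pow_char_eq_one {p : ℕ} [hp : Fact p.Prime] [CharP K p] {A : Matrix (Fin 2) (Fin 2) K}
    (hdet : A.det = 1) (htr : A.trace = 2) : A ^ p = 1 := by
  have hN : (A - 1) * (A - 1) = 0 := by
    apply sq_zero_of_trace_det
    · rw [trace_sub_one, htr, sub_self]
    · rw [det_sub_one, hdet, htr]; ring
  have hA : A = (1 : K) • (1 : Matrix (Fin 2) (Fin 2) K) + (A - 1) := by
    rw [one_smul]; abel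
  obtain ⟨m, hm⟩ : ∃ m, p = m + 1 := ⟨p - 1, by have := hp.out.pos; omega⟩
  rw [hA, hm, OddGL2.pow_succ_smul_one_add_nilp 1 (A - 1) hN m, ← hm, CharP.cast_eq_zero K p]
  simp

theorem trace_eq_two_of_pow {p : ℕ} [hp : Fact p.Prime] [CharP K p]
    {A : Matrix (Fin 2) (Fin 2) K} {k : ℕ} (hA : A ^ p ^ k = 1) : A.trace = 2 := by
  set N := A - 1 with hNdef
  have hNp : N ^ p ^ k = 0 := by
    rw [hNdef, sub_pow_char_pow_of_commute, hA, one_pow, sub_self]
    exact Commute.one_right A
  have hdet : N.det = 0 := by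
    have : N.det ^ p ^ k = 0 := by rw [← Matrix.det_pow, hNp]; simp
    exact pow_eq_zero_iff (pow_ne_zero _ hp.out.ne_zero) |>.1 this
  have hCH : N * N = N.trace • N := by
    rw [OddGL2.cayley_hamilton_two, hdet, zero_smul, sub_zero]
  have hpow : ∀ j : ℕ, N ^ (j + 1) = N.trace ^ j • N := by
    intro j
    induction j with
    | zero => simp
    | succ j ih =>
      rw [pow_succ, ih, smul_mul_assoc, hCH, smul_smul, pow_succ]
  have htr : N.trace = 0 := by
    by_contra hne
    obtain ⟨j, hj⟩ : ∃ j, p ^ k = j + 1 :=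
      ⟨p ^ k - 1, by have := Nat.pos_of_ne_zero (pow_ne_zero k hp.out.ne_zero); omega⟩
    rw [hj, hpow j] at hNp
    have hN0 : N = 0 := by
      rcases smul_eq_zero.1 hNp with h | h
      · exact absurd h (pow_ne_zero j hne)
      · exact h
    apply hne
    rw [hN0, Matrix.trace_zero]
  have : A.trace = N.trace + 2 := by
    rw [hNdef, trace_sub_one]; ring
  rw [this, htr, zero_add]

theorem trace_of_comm_unip {u y : Matrix (Fin 2) (Fin 2) K} (hudet : u.det = 1)
    (hutr : u.trace = 2) (hu1 : u ≠ 1) (hydet : y.det = 1) (hc : u * y = y * u) :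
    y.trace = 2 ∨ y.trace = -2 := by
  have hns : ∀ c : K, u ≠ c • 1 := by
    intro c hc'
    rcases scalar_of_det_one hudet hc' with h | h
    · exact hu1 h
    · rw [h] at hutr
      have h2 : (-2 : K) = 2 := by
        simpa [Matrix.trace_fin_two] using hutr
      have h4 : (4 : K) = 0 := by linear_combination -h2
      have h1 : u = 1 := by
        rw [h]
        have h2' : (2 : K) = 0 := by
          have : (2 : K) * 2 = 0 := by linear_combination h4
          exact mul_self_eq_zero.1 this
        apply mat_ext <;> simp <;> linear_combination -h2'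
      exact hu1 h1
  obtain ⟨x, y', rfl⟩ := OddGL2.commutant_two u y hns hc
  have hd : (x • (1 : Matrix (Fin 2) (Fin 2) K) + y' • u).det = (x + y') ^ 2 := by
    rw [det_smul_one_add, hudet, hutr]; ring
  have ht : (x • (1 : Matrix (Fin 2) (Fin 2) K) + y' • u).trace = 2 * (x + y') := by
    rw [trace_smul_one_add, hutr]; ring
  rw [hd] at hydet
  rw [ht]
  have h3 : (x + y' - 1) * (x + y' + 1) = 0 := by linear_combination hydet
  rcases mul_eq_zero.1 h3 with h | h
  · left; linear_combination 2 * h
  · right; linear_combination 2 * h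

theorem torus_conj {x y : Matrix (Fin 2) (Fin 2) K} (h2 : (2 : K) ≠ 0) (hxdet : x.det = 1)
    (hxtr : x.trace ^ 2 ≠ 4) (hc : x * y = y * x) (hytr : y.trace = x.trace) (hydet : y.det = 1) :
    y = x ∨ y = x.trace • 1 - x := by
  have hns : ∀ c : K, x ≠ c • 1 := by
    intro c hc'
    apply hxtr
    rcases scalar_of_det_one hxdet hc' with h | h
    · rw [h]; simp [Matrix.trace_fin_two]; ring
    · rw [h]; simp [Matrix.trace_fin_two]; ring
  obtain ⟨α, β, rfl⟩ := OddGL2.commutant_two x y hns hc
  have ht : 2 * α + β * x.trace = x.trace := by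
    rw [trace_smul_one_add] at hytr; exact hytr
  have hd : α ^ 2 + α * β * x.trace + β ^ 2 = 1 := by
    rw [det_smul_one_add, hxdet, mul_one] at hydet; exact hydet
  have hkey : (1 - β) * (1 + β) * (x.trace ^ 2 - 4) = 0 := by
    have e : 2 * α = x.trace * (1 - β) := by linear_combination ht
    linear_combination 4 * hd - (2 * α + x.trace * (1 - β) + 2 * β * x.trace) * e
  have hne : x.trace ^ 2 - 4 ≠ 0 := sub_ne_zero.2 hxtr
  rcases mul_eq_zero.1 hkey with h | h
  · rcases mul_eq_zero.1 h with h | h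
    · left
      have hβ : β = 1 := by linear_combination -h
      have hα : α = 0 := by
        have : 2 * α = 0 := by rw [hβ] at ht; linear_combination ht
        exact (mul_eq_zero.1 this).resolve_left h2
      rw [hα, hβ, zero_smul, one_smul, zero_add]
    · right
      have hβ : β = -1 := by linear_combination h
      have hα : α = x.trace := by
        have : 2 * (α - x.trace) = 0 := by rw [hβ] at ht; linear_combination ht
        exact sub_eq_zero.1 ((mul_eq_zero.1 this).resolve_left h2)
      rw [hα, hβ, neg_smul, one_smul, sub_eq_add_neg]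
  · exact absurd h hne

theorem mul_trace_sub (x : Matrix (Fin 2) (Fin 2) K) (hdet : x.det = 1) :
    x * (x.trace • 1 - x) = 1 := by
  rw [mul_sub, OddGL2.cayley_hamilton_two, hdet, one_smul, mul_smul_comm, mul_one]
  abel

end Cfsg.Agent.Helper1.Dk
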