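import Mathlib
import Cfsg.Agent.Helper1.DkM

set_option autoImplicit false

/-!
`2 × 2` matrix facts for the Dickson-type theorem: nilpotent matrices.
-/

namespace Cfsg.Agent.Helper1.Dk

open Matrix

variable {K : Type*} [Field K]

theorem nmn (N M : Matrix (Fin 2) (Fin 2) K) (htr : N.trace = 0) (hdet : N.det = 0) :
    N * M * N = (M * N).trace • N := by
  rw [Matrix.trace_fin_two] at htr
  rw [Matrix.det_fin_two] at hdet
  apply mat_ext <;>
    simp only [Matrix.mul_apply, Fin.sum_univ_two, Matrix.trace_fin_two, Matrix.smul_apply,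
      smul_eq_mul] <;> grind

theorem prop_of_mul_zero {N M : Matrix (Fin 2) (Fin 2) K} (htr : N.trace = 0) (hdet : N.det = 0)
    (hN : N ≠ 0) (h1 : N * M = 0) (h2 : M * N = 0) : ∃ χ : K, M = χ • N := by
  rw [Matrix.trace_fin_two] at htr
  rw [Matrix.det_fin_two] at hdet
  have a00 := congrFun (congrFun h1 0) 0
  have a01 := congrFun (congrFun h1 0) 1
  have a10 := congrFun (congrFun h1 1) 0
  have a11 := congrFun (congrFun h1 1) 1
  have b00 := congrFun (congrFun h2 0) 0
  have b01 := congrFun (congrFun h2 0) 1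
  have b10 := congrFun (congrFun h2 1) 0
  have b11 := congrFun (congrFun h2 1) 1
  simp only [Matrix.mul_apply, Fin.sum_univ_two, Matrix.zero_apply] at a00 a01 a10 a11 b00 b01 b10 b11
  by_cases hb : N 0 1 = 0
  · have ha : N 0 0 = 0 := by
      have : N 0 0 * N 0 0 = 0 := by grind
      exact mul_self_eq_zero.1 this
    have hd : N 1 1 = 0 := by grind
    have hc : N 1 0 ≠ 0 := by
      intro hc
      apply hN
      apply mat_ext <;> simp [ha, hb, hc, hd]
    refine ⟨M 1 0 / N 1 0, ?_⟩
    have e00 : M 0 0 = 0 := by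
      have : N 1 0 * M 0 0 = 0 := by grind
      exact (mul_eq_zero.1 this).resolve_left hc
    have e01 : M 0 1 = 0 := by
      have : M 0 1 * N 1 0 = 0 := by grind
      exact (mul_eq_zero.1 this).resolve_right hc
    have e11 : M 1 1 = 0 := by
      have : M 1 1 * N 1 0 = 0 := by grind
      exact (mul_eq_zero.1 this).resolve_right hc
    apply mat_ext <;> simp [ha, hb, hd, e00, e01, e11]
    field_simp
  · refine ⟨M 0 1 / N 0 1, ?_⟩
    apply mat_ext <;> simp only [Matrix.smul_apply, smul_eq_mul] <;> field_simp <;> grind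

theorem mul_zero_of_trace {N N' : Matrix (Fin 2) (Fin 2) K} (htr : N.trace = 0)
    (hdet : N.det = 0) (htr' : N'.trace = 0) (hdet' : N'.det = 0) (ht : (N * N').trace = 0) :
    N * N' = 0 ∧ N' * N = 0 := by
  rw [Matrix.trace_fin_two] at htr htr'
  rw [Matrix.det_fin_two] at hdet hdet'
  simp only [Matrix.trace_fin_two, Matrix.mul_apply, Fin.sum_univ_two] at ht
  have key : ∀ s : K, s * s = 0 → s = 0 := fun s hs => mul_self_eq_zero.1 hs
  constructor
  · apply mat_ext <;> simp only [Matrix.mul_apply, Fin.sum_univ_two, Matrix.zero_apply] <;>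
      apply key <;> grind
  · apply mat_ext <;> simp only [Matrix.mul_apply, Fin.sum_univ_two, Matrix.zero_apply] <;>
      apply key <;> grind

end Cfsg.Agent.Helper1.Dk
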