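import Mathlib
import Cfsg.Agent.Helper1.DkN

set_option autoImplicit false

/-!
`2 × 2` matrix facts for the Dickson-type theorem: the word identity and the embedding of
`SL(2, p)` attached to two unipotent matrices `1 + N`, `1 + N'` with `tr (N N') = 1`.
-/

namespace Cfsg.Agent.Helper1.Dk

open Matrix

variable {K : Type*} [Field K]

set_option maxHeartbeats 1000000 in
theorem trace_word (N N' : Matrix (Fin 2) (Fin 2) K) (htr : N.trace = 0)
    (hdet : N.det = 0) (htr' : N'.trace = 0) (hdet' : N'.det = 0) :
    ((1 + N') * (1 + N) * (1 - N') * ((1 + N) * (1 + N') * (1 - N))).trace =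
      2 + (N * N').trace * (1 - (N * N').trace) ^ 2 := by
  rw [Matrix.trace_fin_two] at htr htr'
  rw [Matrix.det_fin_two] at hdet hdet'
  simp only [Matrix.trace_fin_two, Matrix.mul_apply, Fin.sum_univ_two, Matrix.add_apply,
    Matrix.sub_apply, Matrix.one_apply_eq, Matrix.one_apply_ne, ne_eq, zero_ne_one, one_ne_zero,
    not_false_eq_true, zero_add, zero_sub]
  grind

/-- the linear map `M₂(K) → M₂(K)` sending matrix units to `N N', N, N', N' N` -/
def emb (N N' g : Matrix (Fin 2) (Fin 2) K) : Matrix (Fin 2) (Fin 2) K :=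
  g 0 0 • (N * N') + g 0 1 • N + g 1 0 • N' + g 1 1 • (N' * N)

section

variable {N N' : Matrix (Fin 2) (Fin 2) K} (htr : N.trace = 0) (hdet : N.det = 0)
  (htr' : N'.trace = 0) (hdet' : N'.det = 0) (ht : (N * N').trace = 1)

include htr hdet htr' hdet' ht

theorem emb_one : emb N N' 1 = 1 := by
  rw [Matrix.trace_fin_two] at htr htr'
  rw [Matrix.det_fin_two] at hdet hdet'
  simp only [Matrix.trace_fin_two, Matrix.mul_apply, Fin.sum_univ_two] at ht
  apply mat_ext <;>
    simp only [emb, Matrix.add_apply, Matrix.smul_apply, Matrix.mul_apply, Fin.sum_univ_two,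
      smul_eq_mul, Matrix.one_apply_eq, Matrix.one_apply_ne, ne_eq, zero_ne_one, one_ne_zero,
      not_false_eq_true] <;> grind

set_option maxHeartbeats 1000000 in
theorem emb_mul (g h : Matrix (Fin 2) (Fin 2) K) :
    emb N N' (g * h) = emb N N' g * emb N N' h := by
  rw [Matrix.trace_fin_two] at htr htr'
  rw [Matrix.det_fin_two] at hdet hdet'
  simp only [Matrix.trace_fin_two, Matrix.mul_apply, Fin.sum_univ_two] at ht
  apply mat_ext <;>
    simp only [emb, Matrix.add_apply, Matrix.smul_apply, Matrix.mul_apply, Fin.sum_univ_two,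
      smul_eq_mul] <;> grind

set_option maxHeartbeats 1000000 in
theorem emb_det (g : Matrix (Fin 2) (Fin 2) K) : (emb N N' g).det = g.det := by
  rw [Matrix.trace_fin_two] at htr htr'
  rw [Matrix.det_fin_two] at hdet hdet'
  simp only [Matrix.trace_fin_two, Matrix.mul_apply, Fin.sum_univ_two] at ht
  simp only [emb, Matrix.det_fin_two, Matrix.add_apply, Matrix.smul_apply, Matrix.mul_apply,
    Fin.sum_univ_two, smul_eq_mul]
  grind

set_option maxHeartbeats 1000000 in
theorem emb_injective {g h : Matrix (Fin 2) (Fin 2) K} (hgh : emb N N' g = emb N N' h) :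
    g = h := by
  rw [Matrix.trace_fin_two] at htr htr'
  rw [Matrix.det_fin_two] at hdet hdet'
  simp only [Matrix.trace_fin_two, Matrix.mul_apply, Fin.sum_univ_two] at ht
  have a00 := congrFun (congrFun hgh 0) 0
  have a01 := congrFun (congrFun hgh 0) 1
  have a10 := congrFun (congrFun hgh 1) 0
  have a11 := congrFun (congrFun hgh 1) 1
  simp only [emb, Matrix.add_apply, Matrix.smul_apply, Matrix.mul_apply, Fin.sum_univ_two,
    smul_eq_mul] at a00 a01 a10 a11
  apply mat_ext <;> grind

theorem emb_upper : emb N N' !![1, 1; 0, 1] = 1 + N := by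
  have h1 := emb_one htr hdet htr' hdet' ht
  simp only [emb, Matrix.one_apply_eq, Matrix.one_apply_ne, ne_eq, zero_ne_one, one_ne_zero,
    not_false_eq_true, one_smul, zero_smul, add_zero] at h1
  simp only [emb, Matrix.of_apply, Matrix.cons_val', Matrix.cons_val_zero, Matrix.cons_val_one,
    Matrix.cons_val_fin_one, one_smul, zero_smul, add_zero]
  rw [← h1]
  abel

theorem emb_lower : emb N N' !![1, 0; 1, 1] = 1 + N' := by
  have h1 := emb_one htr hdet htr' hdet' ht
  simp only [emb, Matrix.one_apply_eq, Matrix.one_apply_ne, ne_eq, zero_ne_one, one_ne_zero,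
    not_false_eq_true, one_smul, zero_smul, add_zero] at h1
  simp only [emb, Matrix.of_apply, Matrix.cons_val', Matrix.cons_val_zero, Matrix.cons_val_one,
    Matrix.cons_val_fin_one, one_smul, zero_smul, add_zero]
  rw [← h1]
  abel

end

end Cfsg.Agent.Helper1.Dk
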