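import Mathlib
import Cfsg.Agent.Helper1.DkP

set_option autoImplicit false

/-!
`SL(2, ZMod p)` is generated by the two elementary matrices, and the embedding of `SL(2, ZMod p)`
into `SL(2, K)` attached to two unipotent matrices `1 + N`, `1 + N'` with `tr (N N') = 1`.
-/

namespace Cfsg.Agent.Helper1.Dk

open Matrix

section gen

variable {F : Type*} [Field F]

/-- upper unitriangular -/
def upp (s : F) : Matrix.SpecialLinearGroup (Fin 2) F :=
  ⟨!![1, s; 0, 1], by simp [Matrix.det_fin_two]⟩

/-- lower unitriangular -/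
def low (s : F) : Matrix.SpecialLinearGroup (Fin 2) F :=
  ⟨!![1, 0; s, 1], by simp [Matrix.det_fin_two]⟩

theorem upp_val (s : F) : (upp s : Matrix (Fin 2) (Fin 2) F) = !![1, s; 0, 1] := rfl

theorem low_val (s : F) : (low s : Matrix (Fin 2) (Fin 2) F) = !![1, 0; s, 1] := rfl

theorem upp_mul (s t : F) : upp s * upp t = upp (s + t) := by
  ext i j
  rw [Matrix.SpecialLinearGroup.coe_mul, upp_val, upp_val, upp_val]
  fin_cases i <;> fin_cases j <;> simp [Matrix.mul_apply, Fin.sum_univ_two] <;> ring

theorem low_mul (s t : F) : low s * low t = low (s + t) := by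
  ext i j
  rw [Matrix.SpecialLinearGroup.coe_mul, low_val, low_val, low_val]
  fin_cases i <;> fin_cases j <;> simp [Matrix.mul_apply, Fin.sum_univ_two] <;> ring

theorem upp_zero : upp (0 : F) = 1 := by
  ext i j
  rw [Matrix.SpecialLinearGroup.coe_one, upp_val]
  fin_cases i <;> fin_cases j <;> simp

theorem low_zero : low (0 : F) = 1 := by
  ext i j
  rw [Matrix.SpecialLinearGroup.coe_one, low_val]
  fin_cases i <;> fin_cases j <;> simp

theorem upp_pow (n : ℕ) : (upp (1 : F)) ^ n = upp (n : F) := by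
  induction n with
  | zero => rw [pow_zero, Nat.cast_zero, upp_zero]
  | succ n ih => rw [pow_succ, ih, upp_mul]; push_cast; rfl

theorem low_pow (n : ℕ) : (low (1 : F)) ^ n = low (n : F) := by
  induction n with
  | zero => rw [pow_zero, Nat.cast_zero, low_zero]
  | succ n ih => rw [pow_succ, ih, low_mul]; push_cast; rfl

theorem decomp (g : Matrix.SpecialLinearGroup (Fin 2) F) (hγ : g 1 0 ≠ 0) :
    g = upp ((g 0 0 - 1) / g 1 0) * low (g 1 0) * upp ((g 1 1 - 1) / g 1 0) := by
  have hdet : g 0 0 * g 1 1 - g 0 1 * g 1 0 = 1 := by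
    have := g.2
    rw [Matrix.det_fin_two] at this
    exact this
  ext i j
  rw [Matrix.SpecialLinearGroup.coe_mul, Matrix.SpecialLinearGroup.coe_mul, upp_val, upp_val,
    low_val]
  fin_cases i <;> fin_cases j <;> simp [Matrix.mul_apply, Fin.sum_univ_two] <;> field_simp <;>
    grind

end gen

section zmod

variable {p : ℕ} [hp : Fact p.Prime]

theorem upp_mem (T : Subgroup (Matrix.SpecialLinearGroup (Fin 2) (ZMod p)))
    (h : upp (1 : ZMod p) ∈ T) (s : ZMod p) : upp s ∈ T := by
  have : upp s = upp (1 : ZMod p) ^ s.val := by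
    rw [upp_pow, ZMod.natCast_zmod_val]
  rw [this]
  exact T.pow_mem h _

theorem low_mem (T : Subgroup (Matrix.SpecialLinearGroup (Fin 2) (ZMod p)))
    (h : low (1 : ZMod p) ∈ T) (s : ZMod p) : low s ∈ T := by
  have : low s = low (1 : ZMod p) ^ s.val := by
    rw [low_pow, ZMod.natCast_zmod_val]
  rw [this]
  exact T.pow_mem h _

/-- `SL(2, ZMod p)` is generated by the two elementary matrices -/
theorem eq_top_of_mem (T : Subgroup (Matrix.SpecialLinearGroup (Fin 2) (ZMod p)))
    (hu : upp (1 : ZMod p) ∈ T) (hl : low (1 : ZMod p) ∈ T) : T = ⊤ := by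
  rw [eq_top_iff]
  intro g _
  have key : ∀ g : Matrix.SpecialLinearGroup (Fin 2) (ZMod p), g 1 0 ≠ 0 → g ∈ T := by
    intro g hγ
    rw [decomp g hγ]
    exact T.mul_mem (T.mul_mem (upp_mem T hu _) (low_mem T hl _)) (upp_mem T hu _)
  by_cases hγ : g 1 0 = 0
  · have hdet : g 0 0 * g 1 1 - g 0 1 * g 1 0 = 1 := by
      have := g.2
      rw [Matrix.det_fin_two] at this
      exact this
    have hα : g 0 0 ≠ 0 := by
      intro h
      rw [h, hγ] at hdet
      simp at hdet
    have h1 : low (1 : ZMod p) * g ∈ T := by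
      apply key
      have : (low (1 : ZMod p) * g) 1 0 = g 0 0 + g 1 0 := by
        rw [Matrix.SpecialLinearGroup.coe_mul, low_val]
        simp [Matrix.mul_apply, Fin.sum_univ_two]
      rw [this, hγ, add_zero]
      exact hα
    have : g = (low (1 : ZMod p))⁻¹ * (low (1 : ZMod p) * g) := by group
    rw [this]
    exact T.mul_mem (T.inv_mem hl) h1
  · exact key g hγ

end zmod

end Cfsg.Agent.Helper1.Dk
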