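import Mathlib
import Cfsg.Agent.Helper1.DkT

set_option autoImplicit false

/-!
Every embedding of `SL(2, p)` into `SL(2, K)` (`K` a field of characteristic `p`, odd) is conjugate
to the standard one: the natural module is visible.
-/

namespace Cfsg.Agent.Helper1.QdCan

open Matrix
open Cfsg.Agent.Helper1.Dk

variable {K : Type*} [Field K]

/-- the matrix with the two given columns -/
def colMat (e₁ e₂ : Fin 2 → K) : Matrix (Fin 2) (Fin 2) K :=
  Matrix.of fun i j => if j = 0 then e₁ i else e₂ i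

theorem colMat_mulVec (e₁ e₂ z : Fin 2 → K) :
    (colMat e₁ e₂).mulVec z = z 0 • e₁ + z 1 • e₂ := by
  ext i
  simp [colMat, Matrix.mulVec, dotProduct, Fin.sum_univ_two, mul_comm]

theorem mul_colMat (M : Matrix (Fin 2) (Fin 2) K) (e₁ e₂ : Fin 2 → K) :
    M * colMat e₁ e₂ = colMat (M.mulVec e₁) (M.mulVec e₂) := by
  ext i j
  fin_cases j <;> simp [colMat, Matrix.mul_apply, Matrix.mulVec, dotProduct, Fin.sum_univ_two]

theorem colMat_mul (e₁ e₂ : Fin 2 → K) (g : Matrix (Fin 2) (Fin 2) K) :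
    colMat e₁ e₂ * g = colMat (g 0 0 • e₁ + g 1 0 • e₂) (g 0 1 • e₁ + g 1 1 • e₂) := by
  ext i j
  fin_cases j <;> simp [colMat, Matrix.mul_apply, Fin.sum_univ_two, mul_comm]

theorem exists_mulVec_ne_zero {M : Matrix (Fin 2) (Fin 2) K} (hM : M ≠ 0) :
    ∃ w : Fin 2 → K, M.mulVec w ≠ 0 := by
  by_contra hcon
  push Not at hcon
  apply hM
  ext i j
  have h1 := congrFun (hcon (Pi.single j 1)) i
  rw [Matrix.mulVec_single_one] at h1
  exact h1

section
variable {N N' : Matrix (Fin 2) (Fin 2) K} (htr : N.trace = 0) (hdet : N.det = 0)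
  (htr' : N'.trace = 0) (hdet' : N'.det = 0) (ht : (N * N').trace = 1)

include htr hdet htr' hdet' ht

theorem emb_mul_colMat (w : Fin 2 → K) (g : Matrix (Fin 2) (Fin 2) K) :
    emb N N' g * colMat ((N * N').mulVec w) (N'.mulVec ((N * N').mulVec w)) =
      colMat ((N * N').mulVec w) (N'.mulVec ((N * N').mulVec w)) * g := by
  have hNN : N * N = 0 := sq_zero_of_trace_det htr hdet
  have hNN' : N' * N' = 0 := sq_zero_of_trace_det htr' hdet'
  have h1 : N * N' * N = N := by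
    rw [nmn N N' htr hdet, Matrix.trace_mul_comm, ht, one_smul]
  obtain ⟨e₁, he₁⟩ : ∃ e₁, e₁ = (N * N').mulVec w := ⟨_, rfl⟩
  obtain ⟨e₂, he₂⟩ : ∃ e₂, e₂ = N'.mulVec e₁ := ⟨_, rfl⟩
  rw [← he₁, ← he₂]
  have a1 : (N * N').mulVec e₁ = e₁ := by
    rw [he₁, Matrix.mulVec_mulVec, ← mul_assoc, h1]
  have a2 : N.mulVec e₁ = 0 := by
    rw [he₁, Matrix.mulVec_mulVec, ← mul_assoc, hNN, zero_mul, Matrix.zero_mulVec]
  have a3 : (N' * N).mulVec e₁ = 0 := by
    rw [← Matrix.mulVec_mulVec, a2, Matrix.mulVec_zero]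
  have b1 : (N * N').mulVec e₂ = 0 := by
    rw [he₂, Matrix.mulVec_mulVec, mul_assoc, hNN', mul_zero, Matrix.zero_mulVec]
  have b2 : N.mulVec e₂ = e₁ := by
    rw [he₂, Matrix.mulVec_mulVec, a1]
  have b3 : N'.mulVec e₂ = 0 := by
    rw [he₂, Matrix.mulVec_mulVec, hNN', Matrix.zero_mulVec]
  have b4 : (N' * N).mulVec e₂ = e₂ := by
    rw [← Matrix.mulVec_mulVec, b2, he₂]
  rw [mul_colMat, colMat_mul]
  congr 1
  · simp only [emb, Matrix.add_mulVec, Matrix.smul_mulVec, a1, a2, a3, ← he₂, smul_zero,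
      add_zero]
  · simp only [emb, Matrix.add_mulVec, Matrix.smul_mulVec, b1, b2, b3, b4, smul_zero,
      add_zero, zero_add]

theorem colMat_injective (w : Fin 2 → K) (hw : (N * N').mulVec w ≠ 0) (z : Fin 2 → K)
    (hz : (colMat ((N * N').mulVec w) (N'.mulVec ((N * N').mulVec w))).mulVec z = 0) : z = 0 := by
  have hNN : N * N = 0 := sq_zero_of_trace_det htr hdet
  have h1 : N * N' * N = N := by
    rw [nmn N N' htr hdet, Matrix.trace_mul_comm, ht, one_smul]
  obtain ⟨e₁, he₁⟩ : ∃ e₁, e₁ = (N * N').mulVec w := ⟨_, rfl⟩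
  rw [← he₁] at hz hw
  have a1 : (N * N').mulVec e₁ = e₁ := by
    rw [he₁, Matrix.mulVec_mulVec, ← mul_assoc, h1]
  have a2 : N.mulVec e₁ = 0 := by
    rw [he₁, Matrix.mulVec_mulVec, ← mul_assoc, hNN, zero_mul, Matrix.zero_mulVec]
  rw [colMat_mulVec] at hz
  have h2 := congrArg N.mulVec hz
  rw [Matrix.mulVec_add, Matrix.mulVec_smul, Matrix.mulVec_smul, a2, smul_zero, zero_add,
    Matrix.mulVec_mulVec, a1, Matrix.mulVec_zero] at h2
  have hz1 : z 1 = 0 := by
    rcases smul_eq_zero.1 h2 with h | h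
    · exact h
    · exact absurd h hw
  rw [hz1, zero_smul, add_zero] at hz
  have hz0 : z 0 = 0 := by
    rcases smul_eq_zero.1 hz with h | h
    · exact h
    · exact absurd h hw
  ext i
  fin_cases i
  · exact hz0
  · exact hz1

end

end Cfsg.Agent.Helper1.QdCan
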