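import Mathlib
import Cfsg.Agent.Helper1.QdCanA

set_option autoImplicit false

/-!
Every embedding of `SL(2, p)` into `SL(2, K)` (`K` a field of characteristic `p`, odd) is conjugate
to the standard one: the natural module is visible.
-/

namespace Cfsg.Agent.Helper1.QdCan

open Matrix
open Cfsg.Agent.Helper1.Dk

variable {K : Type*} [Field K] {p : ℕ} [hp : Fact p.Prime] [CharP K p]

/-- the embedding `SL(2, ZMod p) → SL(2, K)` attached to `N, N'` -/
noncomputable def psi (N N' : Matrix (Fin 2) (Fin 2) K) (htr : N.trace = 0) (hdet : N.det = 0)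
    (htr' : N'.trace = 0) (hdet' : N'.det = 0) (ht : (N * N').trace = 1) :
    Matrix.SpecialLinearGroup (Fin 2) (ZMod p) →* Matrix.SpecialLinearGroup (Fin 2) K where
  toFun g := ⟨emb N N' ((ZMod.castHom (dvd_refl p) K).mapMatrix
      (g : Matrix (Fin 2) (Fin 2) (ZMod p))), by
    rw [emb_det htr hdet htr' hdet' ht, ← RingHom.map_det, g.2, map_one]⟩
  map_one' := by
    apply Subtype.ext
    simp only [Matrix.SpecialLinearGroup.coe_one, map_one]
    exact emb_one htr hdet htr' hdet' ht
  map_mul' := by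
    intro g h
    apply Subtype.ext
    simp only [Matrix.SpecialLinearGroup.coe_mul, map_mul]
    exact emb_mul htr hdet htr' hdet' ht _ _

theorem psi_val (N N' : Matrix (Fin 2) (Fin 2) K) (htr : N.trace = 0) (hdet : N.det = 0)
    (htr' : N'.trace = 0) (hdet' : N'.det = 0) (ht : (N * N').trace = 1)
    (g : Matrix.SpecialLinearGroup (Fin 2) (ZMod p)) :
    (psi N N' htr hdet htr' hdet' ht g : Matrix (Fin 2) (Fin 2) K) =
      emb N N' ((ZMod.castHom (dvd_refl p) K).mapMatrix (g : Matrix (Fin 2) (Fin 2) (ZMod p))) :=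
  rfl

theorem psi_upp (N N' : Matrix (Fin 2) (Fin 2) K) (htr : N.trace = 0) (hdet : N.det = 0)
    (htr' : N'.trace = 0) (hdet' : N'.det = 0) (ht : (N * N').trace = 1) :
    (psi (p := p) N N' htr hdet htr' hdet' ht (upp 1) : Matrix (Fin 2) (Fin 2) K) = 1 + N := by
  rw [psi_val, upp_val, ← emb_upper htr hdet htr' hdet' ht]
  congr 1
  apply mat_ext <;> simp

theorem psi_low (N N' : Matrix (Fin 2) (Fin 2) K) (htr : N.trace = 0) (hdet : N.det = 0)
    (htr' : N'.trace = 0) (hdet' : N'.det = 0) (ht : (N * N').trace = 1) :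
    (psi (p := p) N N' htr hdet htr' hdet' ht (low 1) : Matrix (Fin 2) (Fin 2) K) = 1 + N' := by
  rw [psi_val, low_val, ← emb_lower htr hdet htr' hdet' ht]
  congr 1
  apply mat_ext <;> simp

omit hp [CharP K p] in
/-- the only involution of `SL(2, K)` in odd characteristic -/
theorem involution_eq (h2 : (2 : K) ≠ 0) (g : Matrix (Fin 2) (Fin 2) K) (hdet : g.det = 1)
    (hg : g * g = 1) : g = 1 ∨ g = -1 := by
  have hch := OddGL2.cayley_hamilton_two g
  rw [hg, hdet, one_smul] at hch
  have h3 : g.trace • g = (2 : K) • (1 : Matrix (Fin 2) (Fin 2) K) := by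
    rw [two_smul]
    exact (eq_sub_iff_add_eq.1 hch).symm
  have htr0 : g.trace ≠ 0 := by
    intro h0
    rw [h0, zero_smul] at h3
    have := congrFun (congrFun h3 0) 0
    simp at this
    exact h2 this.symm
  have h4 := congrArg (fun M => (g.trace)⁻¹ • M) h3
  simp only [smul_smul, inv_mul_cancel₀ htr0, one_smul] at h4
  exact scalar_of_det_one hdet h4

end Cfsg.Agent.Helper1.QdCan
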