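import Mathlib
import Cfsg.Agent.Helper1.QdCanB

set_option autoImplicit false

/-!
Every embedding of `SL(2, p)` into `SL(2, K)` (`K` a field of characteristic `p`, odd) is conjugate
to the standard one: the natural module is visible.
-/

namespace Cfsg.Agent.Helper1.QdCan

open Matrix
open Cfsg.Agent.Helper1.Dk

variable {K : Type*} [Field K]

theorem det_one_add {N : Matrix (Fin 2) (Fin 2) K} (htr : N.trace = 0) (hdet : N.det = 0) :
    (1 + N).det = 1 := by
  have := det_smul_one_add N 1 1
  rw [one_smul, one_smul, htr, hdet] at this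
  rw [this]; ring

theorem det_one_sub {N : Matrix (Fin 2) (Fin 2) K} (htr : N.trace = 0) (hdet : N.det = 0) :
    (1 - N).det = 1 := by
  have := det_smul_one_add N 1 (-1)
  rw [one_smul, neg_one_smul, htr, hdet, ← sub_eq_add_neg] at this
  rw [this]; ring

theorem trace_eq_one_of_cube {N N' : Matrix (Fin 2) (Fin 2) K} (h2 : (2 : K) ≠ 0)
    (htr : N.trace = 0) (hdet : N.det = 0) (htr' : N'.trace = 0) (hdet' : N'.det = 0)
    (hne : N ≠ N') (hcube : ((1 + N) * (1 - N')) ^ 3 = -1) : (N * N').trace = 1 := by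
  obtain ⟨G, hG⟩ : ∃ G, G = (1 + N) * (1 - N') := ⟨_, rfl⟩
  obtain ⟨τ, hτ⟩ : ∃ τ, τ = G.trace := ⟨_, rfl⟩
  have hN'N' : N' * N' = 0 := sq_zero_of_trace_det htr' hdet'
  have hGdet : G.det = 1 := by
    rw [hG, Matrix.det_mul, det_one_add htr hdet, det_one_sub htr' hdet', one_mul]
  have hτt : τ = 2 - (N * N').trace := by
    have e : G = 1 + N - N' - N * N' := by rw [hG]; noncomm_ring
    rw [hτ, e, Matrix.trace_sub, Matrix.trace_sub, Matrix.trace_add, htr, htr']
    simp
  have hch := OddGL2.cayley_hamilton_two G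
  rw [hGdet, one_smul, ← hτ] at hch
  have hG3 : G ^ 3 = (τ ^ 2 - 1) • G - τ • 1 := by
    rw [pow_succ, pow_two, hch, sub_mul, smul_mul_assoc, hch, one_mul, smul_sub, smul_smul,
      sub_smul, one_smul, pow_two]
    abel
  rw [← hG, hG3] at hcube
  have hkey : (τ ^ 2 - 1) • G = (τ - 1) • (1 : Matrix (Fin 2) (Fin 2) K) := by
    rw [sub_smul τ 1, one_smul]
    rw [sub_eq_iff_eq_add] at hcube
    rw [hcube]; abel
  by_cases hτ2 : τ ^ 2 - 1 = 0
  · rw [hτ2, zero_smul] at hkey
    have h00 := congrFun (congrFun hkey 0) 0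
    simp at h00
    rw [hτt] at h00
    linear_combination h00
  · exfalso
    apply hne
    have h1 : G = ((τ ^ 2 - 1)⁻¹ * (τ - 1)) • (1 : Matrix (Fin 2) (Fin 2) K) := by
      have := congrArg (fun M => (τ ^ 2 - 1)⁻¹ • M) hkey
      simp only [smul_smul, inv_mul_cancel₀ hτ2, one_smul] at this
      exact this
    obtain ⟨s, hs⟩ : ∃ s, s = (τ ^ 2 - 1)⁻¹ * (τ - 1) := ⟨_, rfl⟩
    rw [← hs] at h1
    have h3 : 1 + N = s • (1 + N') := by
      have : G * (1 + N') = 1 + N := by
        rw [hG, mul_assoc]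
        have : (1 - N') * (1 + N') = 1 := by
          have e : (1 - N') * (1 + N') = 1 - N' * N' := by noncomm_ring
          rw [e, hN'N', sub_zero]
        rw [this, mul_one]
      rw [← this, h1, smul_mul_assoc, one_mul]
    have h4 := congrArg Matrix.trace h3
    rw [Matrix.trace_add, Matrix.trace_smul, Matrix.trace_add, htr, htr'] at h4
    have h5 : (1 : Matrix (Fin 2) (Fin 2) K).trace = 2 := by simp
    simp only [h5, add_zero, smul_eq_mul] at h4
    have hs1 : s = 1 := by
      have : (s - 1) * 2 = 0 := by linear_combination -h4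
      rcases mul_eq_zero.1 this with h | h
      · exact sub_eq_zero.1 h
      · exact absurd h h2
    rw [hs1, one_smul] at h3
    exact add_left_cancel h3

end Cfsg.Agent.Helper1.QdCan
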