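import Mathlib
import Cfsg.Agent.Helper1.QdCanC

set_option autoImplicit false

/-!
Every embedding of `SL(2, p)` into `SL(2, K)` (`K` a field of characteristic `p`, odd) is conjugate
to the standard one: the natural module is visible.
-/

namespace Cfsg.Agent.Helper1.QdCan

open Matrix
open Cfsg.Agent.Helper1.Dk

section zmod
variable {p : ℕ} [hp : Fact p.Prime]

/-- the central involution -/
def negOne (p : ℕ) : Matrix.SpecialLinearGroup (Fin 2) (ZMod p) :=
  ⟨!![-1, 0; 0, -1], by simp [Matrix.det_fin_two]⟩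

theorem negOne_val : ((negOne p : Matrix.SpecialLinearGroup (Fin 2) (ZMod p)) :
    Matrix (Fin 2) (Fin 2) (ZMod p)) = !![-1, 0; 0, -1] := rfl

theorem negOne_mul_self : negOne p * negOne p = 1 := by
  apply Subtype.ext
  rw [Matrix.SpecialLinearGroup.coe_mul, negOne_val, Matrix.SpecialLinearGroup.coe_one]
  ext i j
  fin_cases i <;> fin_cases j <;> simp [Matrix.mul_apply, Fin.sum_univ_two]

theorem negOne_ne_one (hp2 : p ≠ 2) : negOne p ≠ 1 := by
  intro h
  have h1 := congrArg (fun g : Matrix.SpecialLinearGroup (Fin 2) (ZMod p) =>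
    (g : Matrix (Fin 2) (Fin 2) (ZMod p)) 0 0) h
  simp only [negOne_val, Matrix.SpecialLinearGroup.coe_one] at h1
  simp at h1
  have h2 : (2 : ZMod p) = 0 := by linear_combination -h1
  have h3 : ((2 : ℕ) : ZMod p) = 0 := by exact_mod_cast h2
  rw [ZMod.natCast_eq_zero_iff] at h3
  exact hp2 ((Nat.prime_dvd_prime_iff_eq hp.out Nat.prime_two).1 h3)

theorem word_cube : (upp (1 : ZMod p) * low (-1)) ^ 3 = negOne p := by
  apply Subtype.ext
  rw [Matrix.SpecialLinearGroup.coe_pow, Matrix.SpecialLinearGroup.coe_mul, upp_val, low_val,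
    negOne_val, pow_succ, pow_two]
  ext i j
  fin_cases i <;> fin_cases j <;> simp [Matrix.mul_apply, Fin.sum_univ_two]

theorem upp_ne_low : upp (1 : ZMod p) ≠ low 1 := by
  intro h
  have h1 := congrArg (fun g : Matrix.SpecialLinearGroup (Fin 2) (ZMod p) =>
    (g : Matrix (Fin 2) (Fin 2) (ZMod p)) 0 1) h
  simp only [upp_val, low_val] at h1
  simp at h1

theorem upp_pow_p : upp (1 : ZMod p) ^ p = 1 := by
  rw [upp_pow, CharP.cast_eq_zero, upp_zero]

theorem low_pow_p : low (1 : ZMod p) ^ p = 1 := by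
  rw [low_pow, CharP.cast_eq_zero, low_zero]

end zmod

variable {K : Type*} [Field K] {p : ℕ} [hp : Fact p.Prime] [CharP K p]

theorem two_ne_zero' (hp2 : p ≠ 2) : (2 : K) ≠ 0 := by
  intro h
  have h3 : ((2 : ℕ) : K) = 0 := by exact_mod_cast h
  rw [CharP.cast_eq_zero_iff K p] at h3
  exact hp2 ((Nat.prime_dvd_prime_iff_eq hp.out Nat.prime_two).1 h3)

/-- canonical form of an embedding of `SL(2, p)` -/
theorem canon (hp2 : p ≠ 2)
    (φ : Matrix.SpecialLinearGroup (Fin 2) (ZMod p) →* Matrix.SpecialLinearGroup (Fin 2) K)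
    (hφ : Function.Injective φ) :
    ∃ B : Matrix (Fin 2) (Fin 2) K, (∀ z, B.mulVec z = 0 → z = 0) ∧
      ∀ A : Matrix.SpecialLinearGroup (Fin 2) (ZMod p),
        (φ A : Matrix (Fin 2) (Fin 2) K) * B =
          B * (ZMod.castHom (dvd_refl p) K).mapMatrix (A : Matrix (Fin 2) (Fin 2) (ZMod p)) := by
  have h2 : (2 : K) ≠ 0 := two_ne_zero' (p := p) hp2
  obtain ⟨u, hu⟩ : ∃ u : Matrix (Fin 2) (Fin 2) K, u = (φ (upp 1) : Matrix (Fin 2) (Fin 2) K) :=
    ⟨_, rfl⟩
  obtain ⟨v, hv⟩ : ∃ v : Matrix (Fin 2) (Fin 2) K, v = (φ (low 1) : Matrix (Fin 2) (Fin 2) K) :=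
    ⟨_, rfl⟩
  have hup : u ^ p ^ 1 = 1 := by
    rw [pow_one, hu, ← Matrix.SpecialLinearGroup.coe_pow, ← map_pow, upp_pow_p, map_one,
      Matrix.SpecialLinearGroup.coe_one]
  have hvp : v ^ p ^ 1 = 1 := by
    rw [pow_one, hv, ← Matrix.SpecialLinearGroup.coe_pow, ← map_pow, low_pow_p, map_one,
      Matrix.SpecialLinearGroup.coe_one]
  have hudet : u.det = 1 := by rw [hu]; exact (φ (upp 1)).2
  have hvdet : v.det = 1 := by rw [hv]; exact (φ (low 1)).2
  have hutr : u.trace = 2 := trace_eq_two_of_pow hup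
  have hvtr : v.trace = 2 := trace_eq_two_of_pow hvp
  obtain ⟨N, hN⟩ : ∃ N, N = u - 1 := ⟨_, rfl⟩
  obtain ⟨N', hN'⟩ : ∃ N', N' = v - 1 := ⟨_, rfl⟩
  have huN : u = 1 + N := by rw [hN]; abel
  have hvN : v = 1 + N' := by rw [hN']; abel
  have htr : N.trace = 0 := by rw [hN, trace_sub_one, hutr, sub_self]
  have htr' : N'.trace = 0 := by rw [hN', trace_sub_one, hvtr, sub_self]
  have hdet : N.det = 0 := by rw [hN, det_sub_one, hudet, hutr]; ring
  have hdet' : N'.det = 0 := by rw [hN', det_sub_one, hvdet, hvtr]; ring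
  have hN'N' : N' * N' = 0 := sq_zero_of_trace_det htr' hdet'
  have hne : N ≠ N' := by
    intro h
    apply upp_ne_low (p := p)
    apply hφ
    apply Subtype.ext
    rw [← hu, ← hv, huN, hvN, h]
  -- the inverse of `v`
  have hvinv : (φ (low (-1)) : Matrix (Fin 2) (Fin 2) K) = 1 - N' := by
    have h1 : v * (φ (low (-1)) : Matrix (Fin 2) (Fin 2) K) = 1 := by
      rw [hv, ← Matrix.SpecialLinearGroup.coe_mul, ← map_mul, low_mul, add_neg_cancel, low_zero,
        map_one, Matrix.SpecialLinearGroup.coe_one]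
    have h3 : (1 - N') * v = 1 := by
      rw [hvN]
      have e : (1 - N') * (1 + N') = 1 - N' * N' := by noncomm_ring
      rw [e, hN'N', sub_zero]
    calc (φ (low (-1)) : Matrix (Fin 2) (Fin 2) K)
        = ((1 - N') * v) * (φ (low (-1)) : Matrix (Fin 2) (Fin 2) K) := by rw [h3, one_mul]
      _ = 1 - N' := by rw [mul_assoc, h1, mul_one]
  -- the image of the central involution
  have hneg : (φ (negOne p) : Matrix (Fin 2) (Fin 2) K) = -1 := by
    have h1 : (φ (negOne p) : Matrix (Fin 2) (Fin 2) K) * (φ (negOne p) : Matrix (Fin 2) (Fin 2) K)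
        = 1 := by
      rw [← Matrix.SpecialLinearGroup.coe_mul, ← map_mul, negOne_mul_self, map_one,
        Matrix.SpecialLinearGroup.coe_one]
    rcases involution_eq h2 _ (φ (negOne p)).2 h1 with h | h
    · exfalso
      apply negOne_ne_one (p := p) hp2
      apply hφ
      apply Subtype.ext
      rw [h, map_one, Matrix.SpecialLinearGroup.coe_one]
    · exact h
  have hcube : ((1 + N) * (1 - N')) ^ 3 = -1 := by
    rw [← huN, ← hvinv, hu, ← Matrix.SpecialLinearGroup.coe_mul, ← map_mul,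
      ← Matrix.SpecialLinearGroup.coe_pow, ← map_pow, word_cube, hneg]
  have ht : (N * N').trace = 1 := trace_eq_one_of_cube h2 htr hdet htr' hdet' hne hcube
  -- `φ` is the standard embedding
  have hφψ : φ = psi N N' htr hdet htr' hdet' ht := by
    have hT : MonoidHom.eqLocus φ (psi N N' htr hdet htr' hdet' ht) = ⊤ := by
      apply eq_top_of_mem
      · show φ (upp 1) = psi N N' htr hdet htr' hdet' ht (upp 1)
        apply Subtype.ext
        rw [psi_upp, ← hu, huN]
      · show φ (low 1) = psi N N' htr hdet htr' hdet' ht (low 1)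
        apply Subtype.ext
        rw [psi_low, ← hv, hvN]
    ext1 g
    have : g ∈ MonoidHom.eqLocus φ (psi N N' htr hdet htr' hdet' ht) := by rw [hT]; trivial
    exact this
  have hNN'0 : N * N' ≠ 0 := by
    intro h
    rw [h, Matrix.trace_zero] at ht
    exact zero_ne_one ht
  obtain ⟨w, hw⟩ := exists_mulVec_ne_zero hNN'0
  refine ⟨colMat ((N * N').mulVec w) (N'.mulVec ((N * N').mulVec w)),
    colMat_injective htr hdet htr' hdet' ht w hw, ?_⟩
  intro A
  rw [hφψ, psi_val]
  exact emb_mul_colMat htr hdet htr' hdet' ht w _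

end Cfsg.Agent.Helper1.QdCan
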