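import Mathlib
import Cfsg.Prelude.Def_Local
import Cfsg.Agent.Helper1.Cores
import Cfsg.Agent.Helper1.Fitting
import Cfsg.Agent.Helper1.OddGL2

set_option autoImplicit false

/-!
Subgroups of odd order of `GL(2, E)`, `E` a field of odd characteristic `p` (no solvability
assumption): if `p` divides the order there is an invariant line.
-/

namespace Cfsg.Agent.Helper1

namespace OddGL2

open Matrix

section abstract

universe u

variable {Γ : Type u} [Group Γ]

/-- A nilpotent group in which `a` commuting with `g a g⁻¹` forces `g a g⁻¹ = a` is abelian. -/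
theorem comm_of_nilpotent_of_hK [Group.IsNilpotent Γ]
    (hK : ∀ a g : Γ, Commute a (g * a * g⁻¹) → g * a * g⁻¹ = a) (a g : Γ) : g * a * g⁻¹ = a := by
  have key : ∀ n, Subgroup.upperCentralSeries Γ n ≤ Subgroup.center Γ := by
    intro n
    induction n with
    | zero => rw [Subgroup.upperCentralSeries_zero]; exact bot_le
    | succ n ih =>
      intro a ha
      rw [Subgroup.mem_center_iff]
      intro g
      have h1 := ih ((Subgroup.mem_upperCentralSeries_succ_iff.1 ha) g)
      -- `c = a g a⁻¹ g⁻¹` is central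
      have hc : ∀ y, y * (a * g * a⁻¹ * g⁻¹) = (a * g * a⁻¹ * g⁻¹) * y :=
        fun y => Subgroup.mem_center_iff.1 h1 y
      have hcomm : Commute a (g * a * g⁻¹) := by
        have e : g * a * g⁻¹ = (a * g * a⁻¹ * g⁻¹)⁻¹ * a := by group
        rw [e]
        have h2 : Commute a (a * g * a⁻¹ * g⁻¹) := hc a
        exact (h2.inv_right).mul_right (Commute.refl a)
      have := hK a g hcomm
      calc g * a = (g * a * g⁻¹) * g := by group
        _ = a * g := by rw [this]
  obtain ⟨n, hn⟩ := (Group.IsNilpotent.nilpotent (G := Γ))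
  have ha : a ∈ Subgroup.center Γ := key n (hn ▸ Subgroup.mem_top a)
  have := Subgroup.mem_center_iff.1 ha g
  calc g * a * g⁻¹ = a * g * g⁻¹ := by rw [this]
    _ = a := by group

theorem pCore_ne_bot_of_hK [Finite Γ] {p : ℕ} [hp : Fact p.Prime]
    (hK : ∀ a g : Γ, (orderOf a).Coprime p → Commute a (g * a * g⁻¹) → g * a * g⁻¹ = a)
    (hpΓ : p ∣ Nat.card Γ) : Cfsg.pCore p Γ ≠ ⊥ := by
  -- Burnside's hypothesis for the other primes
  have hB : ∀ (r : ℕ) [Fact r.Prime], r ≠ p → ∀ R : Sylow r Γ,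
      Subgroup.normalizer ((R : Subgroup Γ) : Set Γ) ≤
        Subgroup.centralizer ((R : Subgroup Γ) : Set Γ) := by
    intro r hr hrp R
    have hcop : ∀ a ∈ (R : Subgroup Γ), (orderOf a).Coprime p := by
      intro a ha
      obtain ⟨k, hk⟩ := (R.2.to_le le_rfl) ⟨a, ha⟩
      have hk' : a ^ r ^ k = 1 := congrArg Subtype.val hk
      have h1 : orderOf a ∣ r ^ k := orderOf_dvd_of_pow_eq_one hk'
      apply Nat.Coprime.coprime_dvd_left h1
      apply Nat.Coprime.pow_left
      rw [Nat.coprime_primes hr.out hp.out]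
      exact hrp
    haveI : Group.IsNilpotent ↥(R : Subgroup Γ) := R.2.isNilpotent
    have hRab : ∀ a g : ↥(R : Subgroup Γ), g * a * g⁻¹ = a := by
      apply comm_of_nilpotent_of_hK
      intro a g hc
      apply Subtype.ext
      have h1 : Commute (a : Γ) ((g : Γ) * (a : Γ) * (g : Γ)⁻¹) := by
        have := congrArg Subtype.val hc.eq
        exact this
      exact hK (a : Γ) (g : Γ) (hcop a a.2) h1
    intro n hn
    rw [Subgroup.mem_centralizer_iff]
    intro a ha
    have hmem : n * a * n⁻¹ ∈ (R : Subgroup Γ) := (Subgroup.mem_normalizer_iff.1 hn a).1 ha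
    have hcomm : Commute a (n * a * n⁻¹) := by
      have h1 := hRab ⟨n * a * n⁻¹, hmem⟩ ⟨a, ha⟩
      have h2 : a * (n * a * n⁻¹) * a⁻¹ = n * a * n⁻¹ := congrArg Subtype.val h1
      show a * (n * a * n⁻¹) = n * a * n⁻¹ * a
      calc a * (n * a * n⁻¹) = (a * (n * a * n⁻¹) * a⁻¹) * a := by group
        _ = n * a * n⁻¹ * a := by rw [h2]
    have h3 := hK a n (hcop a ha) hcomm
    calc a * n = a * n := rfl
      _ = (n * a * n⁻¹) * n := by rw [h3]
      _ = n * a := by group
  -- the subgroup generated by the `p`-elements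
  set M : Subgroup Γ := Subgroup.closure {x : Γ | ∃ k : ℕ, x ^ p ^ k = 1} with hM
  have hMn : M.Normal := by
    refine ⟨fun n hn g => ?_⟩
    induction hn using Subgroup.closure_induction with
    | mem x hx =>
      obtain ⟨k, hk⟩ := hx
      apply Subgroup.subset_closure
      refine ⟨k, ?_⟩
      rw [conj_pow, hk, mul_one, mul_inv_cancel]
    | one => simp
    | mul x y _ _ hx hy =>
      have e : g * (x * y) * g⁻¹ = (g * x * g⁻¹) * (g * y * g⁻¹) := by group
      rw [e]
      exact M.mul_mem hx hy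
    | inv x _ hx =>
      have e : g * x⁻¹ * g⁻¹ = (g * x * g⁻¹)⁻¹ := by group
      rw [e]
      exact M.inv_mem hx
  -- `M` lies in the kernel of each Burnside transfer
  have hMr : ∀ (r : ℕ) [Fact r.Prime], r ≠ p → ¬ r ∣ Nat.card M := by
    intro r hr hrp hdvd
    let R : Sylow r Γ := default
    have hle : M ≤ (MonoidHom.transferSylow R (hB r hrp R)).ker := by
      rw [hM, Subgroup.closure_le]
      rintro x ⟨k, hk⟩
      show x ∈ (MonoidHom.transferSylow R (hB r hrp R)).ker
      rw [MonoidHom.mem_ker]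
      set y := MonoidHom.transferSylow R (hB r hrp R) x with hy
      have h1 : y ^ p ^ k = 1 := by rw [hy, ← map_pow, hk, map_one]
      obtain ⟨j, hj⟩ := (R.2.to_le le_rfl) y
      have h2 : orderOf y ∣ p ^ k := orderOf_dvd_of_pow_eq_one h1
      have h3 : orderOf y ∣ r ^ j := orderOf_dvd_of_pow_eq_one hj
      have hcop : (p ^ k).Coprime (r ^ j) := by
        apply Nat.Coprime.pow
        rw [Nat.coprime_primes hp.out hr.out]
        exact fun h => hrp h.symm
      have h4 : orderOf y = 1 := Nat.eq_one_of_dvd_coprimes hcop h2 h3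
      exact orderOf_eq_one_iff.1 h4
    have h5 := MonoidHom.not_dvd_card_ker_transferSylow R (hB r hrp R)
    exact h5 (hdvd.trans (Subgroup.card_dvd_of_le hle))
  have hMp : IsPGroup p M := by
    have hcard : Nat.card M = p ^ (Nat.card M).primeFactorsList.length := by
      apply Nat.eq_prime_pow_of_unique_prime_dvd Nat.card_pos.ne'
      intro d hd hdvd
      by_contra hne
      haveI : Fact d.Prime := ⟨hd⟩
      exact hMr d hne hdvd
    exact IsPGroup.of_card hcard
  have hMle : M ≤ Cfsg.pCore p Γ := le_pCore hMn hMp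
  obtain ⟨x, hx⟩ := exists_prime_orderOf_dvd_card' p hpΓ
  intro hbot
  have hxM : x ∈ M := by
    apply Subgroup.subset_closure
    refine ⟨1, ?_⟩
    rw [pow_one, ← hx, pow_orderOf_eq_one]
  have := hMle hxM
  rw [hbot, Subgroup.mem_bot] at this
  rw [this, orderOf_one] at hx
  exact hp.out.one_lt.ne hx

end abstract

variable {E : Type*} [Field E]

theorem exists_invariant_line_of_odd {p : ℕ} [hp : Fact p.Prime] [CharP E p] (hp2 : p ≠ 2)
    (L : Subgroup (GL (Fin 2) E)) [Finite L] (hodd : Odd (Nat.card L))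
    (hpL : p ∣ Nat.card L) :
    ∃ v : Fin 2 → E, v ≠ 0 ∧ ∀ g ∈ L, ∃ c : E, (g : Matrix (Fin 2) (Fin 2) E).mulVec v = c • v := by
  have hK : ∀ a g : L, (orderOf a).Coprime p → Commute a (g * a * g⁻¹) → g * a * g⁻¹ = a := by
    intro a g ha hc
    by_cases hsc : ∃ c : E, ((a : GL (Fin 2) E) : Matrix (Fin 2) (Fin 2) E) = c • 1
    · obtain ⟨c, hc'⟩ := hsc
      apply Subtype.ext
      apply Units.ext
      show ((g : GL (Fin 2) E) : Matrix (Fin 2) (Fin 2) E) * (a : GL (Fin 2) E) *
        ((g⁻¹ : L) : GL (Fin 2) E) = (a : GL (Fin 2) E)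
      rw [hc', mul_smul_comm, mul_one, smul_mul_assoc, ← Units.val_mul]
      simp
    · push Not at hsc
      have h1 := lemmaK_GL hp2 (a : GL (Fin 2) E) (g : GL (Fin 2) E) hsc
        (by rw [Subgroup.orderOf_coe]; exact ha)
        (by
          rw [Subgroup.orderOf_coe]
          exact Odd.of_dvd_nat hodd (orderOf_dvd_natCard g))
        (by
          have := congrArg (fun z : L => (z : GL (Fin 2) E)) hc.eq
          exact this)
      exact Subtype.ext h1
  by_cases hO : Cfsg.pCore p L = ⊥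
  · exfalso
    exact pCore_ne_bot_of_hK hK hpL hO
  · -- `P = O_p(L) ≠ 1`
    obtain ⟨P, hP⟩ : ∃ P, P = Cfsg.pCore p L := ⟨_, rfl⟩
    rw [← hP] at hO
    haveI hPn : P.Normal := hP ▸ inferInstance
    have hPp : IsPGroup p P := hP ▸ pCore_isPGroup p
    haveI : Nontrivial P := (Subgroup.nontrivial_iff_ne_bot P).2 hO
    haveI := hPp.center_nontrivial
    obtain ⟨⟨z, hz⟩, hz1⟩ := exists_ne (1 : Subgroup.center ↥P)
    have hz1' : z ≠ 1 := fun h => hz1 (Subtype.ext h)
    -- the matrix of `z`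
    obtain ⟨Z, hZ⟩ : ∃ Z : Matrix (Fin 2) (Fin 2) E, Z = ((z : L) : GL (Fin 2) E) := ⟨_, rfl⟩
    have hZ1 : Z ≠ 1 := by
      intro h
      apply hz1'
      apply Subtype.ext; apply Subtype.ext; apply Units.ext
      rw [← hZ, h]; rfl
    -- every element of `P` is unipotent
    have hunip : ∀ u : P, ∃ k : ℕ, (((u : L) : GL (Fin 2) E) : Matrix (Fin 2) (Fin 2) E) ^ (p ^ k) = 1 := by
      intro u
      obtain ⟨k, hk⟩ := hPp u
      refine ⟨k, ?_⟩
      have := congrArg (fun w : P => (((w : L) : GL (Fin 2) E) : Matrix (Fin 2) (Fin 2) E)) hk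
      simpa using this
    obtain ⟨k, hk⟩ := hunip z
    rw [← hZ] at hk
    have hnil : (Z - 1) ^ (p ^ k) = 0 := by
      rw [sub_pow_char_pow_of_commute (p := p) (h := Commute.one_right Z), hk, one_pow, sub_self]
    obtain ⟨v, hv0, hv⟩ := exists_ne_zero_mulVec_eq_zero (Z - 1) _ hnil
    have hZv : Z.mulVec v = v := by
      have : (Z - 1).mulVec v = Z.mulVec v - v := by rw [Matrix.sub_mulVec, Matrix.one_mulVec]
      rw [this] at hv
      exact sub_eq_zero.1 hv
    have hZns : ∀ c : E, Z ≠ c • 1 := by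
      intro c hc
      have h1 : c ^ (p ^ k) = 1 := by
        rw [hc, smul_pow, one_pow] at hk
        have := congrFun (congrFun hk 0) 0
        simpa using this
      have := eq_one_of_pow_char_pow_eq_one (p := p) c k h1
      rw [this, one_smul] at hc
      exact hZ1 hc
    -- every element of `P` fixes `v`
    have hPv : ∀ u : P, (((u : L) : GL (Fin 2) E) : Matrix (Fin 2) (Fin 2) E).mulVec v = v := by
      intro u
      obtain ⟨U, hU⟩ : ∃ U : Matrix (Fin 2) (Fin 2) E, U = ((u : L) : GL (Fin 2) E) := ⟨_, rfl⟩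
      rw [← hU]
      have hcomm : Z * U = U * Z := by
        have h1 := Subgroup.mem_center_iff.1 hz u
        have := congrArg (fun w : P => (((w : L) : GL (Fin 2) E) : Matrix (Fin 2) (Fin 2) E)) h1
        rw [hZ, hU]
        simpa using this.symm
      obtain ⟨x, y, hxy⟩ := commutant_two Z U hZns hcomm
      have hUv : U.mulVec v = (x + y) • v := by
        rw [hxy, Matrix.add_mulVec, Matrix.smul_mulVec, Matrix.smul_mulVec,
          Matrix.one_mulVec, hZv, add_smul]
      obtain ⟨j, hj⟩ := hunip u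
      rw [← hU] at hj
      have hpow : ∀ n : ℕ, (U ^ n).mulVec v = (x + y) ^ n • v := by
        intro n
        induction n with
        | zero => simp
        | succ n ih => rw [pow_succ, ← Matrix.mulVec_mulVec, hUv, Matrix.mulVec_smul, ih, smul_smul,
            pow_succ, mul_comm]
      have h1 := hpow (p ^ j)
      rw [hj, Matrix.one_mulVec] at h1
      have h2 : (x + y) ^ (p ^ j) = 1 := by
        by_contra hne
        apply hv0
        have h3 : ((x + y) ^ (p ^ j) - 1) • v = 0 := by rw [sub_smul, one_smul, ← h1, sub_self]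
        rcases smul_eq_zero.1 h3 with h4 | h4
        · exact absurd (sub_eq_zero.1 h4) hne
        · exact h4
      rw [hUv, eq_one_of_pow_char_pow_eq_one (p := p) _ j h2, one_smul]
    refine ⟨v, hv0, ?_⟩
    intro g hg
    -- `g v` is fixed by `z`
    have h1 : Z.mulVec ((g : Matrix (Fin 2) (Fin 2) E).mulVec v) =
        (g : Matrix (Fin 2) (Fin 2) E).mulVec v := by
      -- `g⁻¹ z g ∈ P`
      have hconj : (⟨g, hg⟩ : L)⁻¹ * (z : L) * (⟨g, hg⟩ : L)⁻¹⁻¹ ∈ P := hPn.conj_mem _ z.2 _
      have h2 := hPv ⟨_, hconj⟩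
      have h3 : ((((⟨g, hg⟩ : L)⁻¹ * (z : L) * (⟨g, hg⟩ : L)⁻¹⁻¹ : L) : GL (Fin 2) E) :
          Matrix (Fin 2) (Fin 2) E) = ((g⁻¹ : GL (Fin 2) E) : Matrix (Fin 2) (Fin 2) E) * Z *
            (g : Matrix (Fin 2) (Fin 2) E) := by
        rw [hZ]; simp
      rw [h3] at h2
      have h4 := congrArg (fun w => (g : Matrix (Fin 2) (Fin 2) E).mulVec w) h2
      simp only [Matrix.mulVec_mulVec] at h4
      rw [← mul_assoc, ← mul_assoc, ← Units.val_mul, mul_inv_cancel, Units.val_one, one_mul] at h4
      rw [Matrix.mulVec_mulVec]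
      exact h4
    have hN0 : Z - 1 ≠ 0 := sub_ne_zero.2 hZ1
    have h5 : (Z - 1).mulVec ((g : Matrix (Fin 2) (Fin 2) E).mulVec v) = 0 := by
      rw [Matrix.sub_mulVec, Matrix.one_mulVec, h1, sub_self]
    exact exists_smul_of_mulVec_eq_zero (Z - 1) hN0 v _ hv0 hv h5



end OddGL2

end Cfsg.Agent.Helper1
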