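import Mathlib
import Cfsg.Agent.Lead.Ab2Lin

set_option autoImplicit false

/-!
Two quadratically acting linear maps on a finite `ZMod p`-module generating a non-`p`-group:
the two-dimensional constituent, with all its data (after `Lead/Ab2Lin`).
-/

namespace Cfsg.Agent.Helper1
namespace QdLin

open Filter Polynomial
open Cfsg.Agent.Helper1.OddGL2 Cfsg.Agent.Lead.Ab2GL2

theorem coreRich {p : ℕ} [hp : Fact p.Prime] (hp2 : p ≠ 2) {M : Type*} [AddCommGroup M]
    [Module (ZMod p) M] [Finite M] (α β : Module.End (ZMod p) M) (hα : α * α = 0)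
    (hβ : β * β = 0) (x y : M ≃ₗ[ZMod p] M) (hx : ∀ v, x v = v + α v) (hy : ∀ v, y v = v + β v)
    (hno : ∀ (E : Type) [Field E] [CharP E p] (U : Submodule (ZMod p) M)
      (ψ : E →+* Module.End (ZMod p) U) (ι : U × U →ₗ[ZMod p] M) (X Y : GL (Fin 2) E) (c : E),
      c ≠ 0 → (X : Matrix (Fin 2) (Fin 2) E) = !![1, c; 0, 1] →
      (Y : Matrix (Fin 2) (Fin 2) E) = !![1, 0; 1, 1] →
      (∀ w w' : U × U, ι w = ι w' → w = w') →
      (∀ (e : E) (u : U), u ≠ 0 → ψ e u = 0 → e = 0) → (∃ u : U, u ≠ 0) →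
      (x, X) ∈ relSubgroup ψ ι → (y, Y) ∈ relSubgroup ψ ι → False)
    (U : Submodule (ZMod p) M) (hU0 : U ≠ ⊥) (hUr : U ≤ LinearMap.range (α * β))
    (hUinv : ∀ u ∈ U, (α * β) u ∈ U) (hUinj : ∀ u ∈ U, (α * β) u = 0 → u = 0)
    (hUmin : ∀ S : Submodule (ZMod p) M, S ≤ U → (∀ s ∈ S, (α * β) s ∈ S) → S = ⊥ ∨ S = U) :
    False := by
  have hαU : ∀ u ∈ U, α u = 0 := by
    intro u hu
    obtain ⟨w, rfl⟩ := hUr hu
    rw [Module.End.mul_apply, ← Module.End.mul_apply, hα]; rfl
  haveI : Module.Finite (ZMod p) M := Module.Finite.of_finite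
  haveI : Nontrivial U := (Submodule.nontrivial_iff_ne_bot).2 hU0
  obtain ⟨φU, hφU⟩ : ∃ φU : Module.End (ZMod p) U, φU = (α * β).restrict hUinv := ⟨_, rfl⟩
  have hφUa : ∀ u : U, ((φU u : U) : M) = (α * β) (u : M) := by
    intro u; rw [hφU]; rfl
  have hirr : Irreducible (minpoly (ZMod p) φU) := by
    apply irreducible_minpoly_of_minimal
    intro S hS
    rcases hUmin (S.map U.subtype) (Submodule.map_subtype_le U S) (by
      rintro _ ⟨s, hs, rfl⟩
      exact ⟨φU s, hS s hs, hφUa s⟩) with h | h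
    · left
      rw [eq_bot_iff]
      intro s hs
      have h1 : (s : M) ∈ S.map U.subtype := ⟨s, hs, rfl⟩
      rw [h, Submodule.mem_bot] at h1
      rw [Submodule.mem_bot]
      exact Subtype.ext h1
    · right
      rw [eq_top_iff]
      intro u _
      have h1 : (u : M) ∈ S.map U.subtype := by rw [h]; exact u.2
      obtain ⟨s, hs, hsu⟩ := h1
      have : s = u := Subtype.ext hsu
      rwa [← this]
  haveI : Fact (Irreducible (minpoly (ZMod p) φU)) := ⟨hirr⟩
  have hH : ∀ a : (ZMod p)[X], a ∈ (Ideal.span {minpoly (ZMod p) φU} : Ideal (ZMod p)[X]) →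
      ((aeval φU : (ZMod p)[X] →ₐ[ZMod p] Module.End (ZMod p) U) :
        (ZMod p)[X] →+* Module.End (ZMod p) U) a = 0 := by
    intro a ha
    obtain ⟨b, rfl⟩ := Ideal.mem_span_singleton.1 ha
    show aeval φU (minpoly (ZMod p) φU * b) = 0
    rw [map_mul, minpoly.aeval, zero_mul]
  obtain ⟨ψ, hψ⟩ : ∃ ψ : AdjoinRoot (minpoly (ZMod p) φU) →+* Module.End (ZMod p) U,
      ∀ q : (ZMod p)[X], ψ (AdjoinRoot.mk _ q) = aeval φU q :=
    ⟨Ideal.Quotient.lift _ _ hH, fun q => rfl⟩
  have hψroot : ψ (AdjoinRoot.root _) = φU := by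
    rw [← AdjoinRoot.mk_X, hψ, aeval_X]
  obtain ⟨c, hc⟩ : ∃ c : AdjoinRoot (minpoly (ZMod p) φU), c = AdjoinRoot.root _ := ⟨_, rfl⟩
  rw [← hc] at hψroot
  have hc0 : c ≠ 0 := by
    intro h
    have h0 : φU = 0 := by rw [← hψroot, h, map_zero]
    obtain ⟨u, hu⟩ := exists_ne (0 : U)
    apply hu
    have h1 := hUinj u u.2 (by rw [← hφUa, h0]; rfl)
    exact Subtype.ext h1
  haveI : CharP (AdjoinRoot (minpoly (ZMod p) φU)) p :=
    charP_of_injective_algebraMap (algebraMap (ZMod p) (AdjoinRoot (minpoly (ZMod p) φU))).injective p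
  have hψinj : ∀ (e : AdjoinRoot (minpoly (ZMod p) φU)) (u : U), u ≠ 0 → ψ e u = 0 → e = 0 := by
    intro e u hu h
    by_contra he
    apply hu
    have h1 : ψ (e⁻¹) (ψ e u) = u := by
      rw [← Module.End.mul_apply, ← map_mul, inv_mul_cancel₀ he, map_one]; rfl
    rw [← h1, h, map_zero]
  obtain ⟨X, hX⟩ := exists_GL_upper c
  obtain ⟨Y, hY⟩ := exists_GL_lower (AdjoinRoot (minpoly (ZMod p) φU))
  obtain ⟨ι, hι⟩ : ∃ ι : U × U →ₗ[ZMod p] M, ∀ w : U × U, ι w = (w.1 : M) + β (w.2 : M) :=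
    ⟨(U.subtype).coprod (β.comp U.subtype), fun w => rfl⟩
  have hιinj : ∀ w w' : U × U, ι w = ι w' → w = w' := by
    intro w w' h
    have h0 : ι (w - w') = 0 := by rw [map_sub, h, sub_self]
    rw [hι] at h0
    have h1 := congrArg α h0
    rw [map_add, map_zero, hαU _ (w - w').1.2, zero_add, ← Module.End.mul_apply] at h1
    have h2 := hUinj _ (w - w').2.2 h1
    rw [h2, map_zero, add_zero] at h0
    have h3 : w - w' = 0 := Prod.ext (Subtype.ext h0) (Subtype.ext h2)
    exact sub_eq_zero.1 h3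
  have hxS : (x, X) ∈ relSubgroup ψ ι := by
    rw [mem_relSubgroup]
    intro w
    show x (ι w) = ι (Tmat ψ (X : Matrix (Fin 2) (Fin 2) (AdjoinRoot (minpoly (ZMod p) φU))) w)
    rw [hX, Tmat_apply, hx, hι, hι]
    simp only [Matrix.of_apply, Matrix.cons_val', Matrix.cons_val_zero, Matrix.cons_val_one,
      Matrix.cons_val_fin_one, map_one, map_zero, hψroot, Module.End.one_apply,
      LinearMap.zero_apply, zero_add, map_add, hαU _ w.1.2]
    rw [Submodule.coe_add, hφUa, Module.End.mul_apply]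
    abel
  have hyS : (y, Y) ∈ relSubgroup ψ ι := by
    rw [mem_relSubgroup]
    intro w
    show y (ι w) = ι (Tmat ψ (Y : Matrix (Fin 2) (Fin 2) (AdjoinRoot (minpoly (ZMod p) φU))) w)
    rw [hY, Tmat_apply, hy, hι, hι]
    simp only [Matrix.of_apply, Matrix.cons_val', Matrix.cons_val_zero, Matrix.cons_val_one,
      Matrix.cons_val_fin_one, map_one, map_zero, Module.End.one_apply,
      LinearMap.zero_apply, add_zero, map_add]
    rw [Submodule.coe_add, map_add, ← Module.End.mul_apply β β, hβ]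
    simp only [LinearMap.zero_apply]
    abel
  exact hno _ U ψ ι X Y c hc0 hX hY hιinj hψinj (exists_ne (0 : U)) hxS hyS

theorem isPGroupClosureRich {p : ℕ} [hp : Fact p.Prime] (hp2 : p ≠ 2) {M : Type*}
    [AddCommGroup M] [Module (ZMod p) M] [Finite M] (α β : Module.End (ZMod p) M)
    (hα : α * α = 0) (hβ : β * β = 0) (x y : M ≃ₗ[ZMod p] M) (hx : ∀ v, x v = v + α v)
    (hy : ∀ v, y v = v + β v)
    (hno : ∀ (E : Type) [Field E] [CharP E p] (U : Submodule (ZMod p) M)
      (ψ : E →+* Module.End (ZMod p) U) (ι : U × U →ₗ[ZMod p] M) (X Y : GL (Fin 2) E) (c : E),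
      c ≠ 0 → (X : Matrix (Fin 2) (Fin 2) E) = !![1, c; 0, 1] →
      (Y : Matrix (Fin 2) (Fin 2) E) = !![1, 0; 1, 1] →
      (∀ w w' : U × U, ι w = ι w' → w = w') →
      (∀ (e : E) (u : U), u ≠ 0 → ψ e u = 0 → e = 0) → (∃ u : U, u ≠ 0) →
      (x, X) ∈ relSubgroup ψ ι → (y, Y) ∈ relSubgroup ψ ι → False) :
    IsPGroup p (Subgroup.closure {x, y}) := by
  haveI : Finite (M ≃ₗ[ZMod p] M) :=
    Finite.of_injective (fun e => (e : M → M)) DFunLike.coe_injective
  obtain ⟨k, hk⟩ : ∃ k : ℕ, (α * β) ^ k = 0 := by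
    by_contra hcon
    push Not at hcon
    obtain ⟨U, hU0, hUr, hUinv, hUinj, hUmin⟩ := exists_minimal_invariant (α * β) hcon
    exact coreRich hp2 α β hα hβ x y hx hy hno U hU0 hUr hUinv hUinj hUmin
  have hbot := altFlag_eq_bot α β hα hβ k hk
  have hP : ∀ g ∈ Subgroup.closure {x, y}, ∀ i, ∀ v ∈ altFlag α β i,
      g v - v ∈ altFlag α β (i + 1) := by
    have hmul : ∀ g h : M ≃ₗ[ZMod p] M,
        (∀ i, ∀ v ∈ altFlag α β i, g v - v ∈ altFlag α β (i + 1)) →
        (∀ i, ∀ v ∈ altFlag α β i, h v - v ∈ altFlag α β (i + 1)) →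
        (∀ i, ∀ v ∈ altFlag α β i, (g * h) v - v ∈ altFlag α β (i + 1)) := by
      intro g h hg hh i v hv
      have h1 : h v ∈ altFlag α β i := by
        have := Submodule.add_mem _ (altFlag_succ_le α β i (hh i v hv)) hv
        rwa [sub_add_cancel] at this
      have h2 := Submodule.add_mem _ (hg i _ h1) (hh i v hv)
      rwa [sub_add_sub_cancel] at h2
    have hone : ∀ i, ∀ v ∈ altFlag α β i, (1 : M ≃ₗ[ZMod p] M) v - v ∈ altFlag α β (i + 1) := by
      intro i v _
      show v - v ∈ _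
      rw [sub_self]; exact Submodule.zero_mem _
    have hpow : ∀ (g : M ≃ₗ[ZMod p] M) (n : ℕ),
        (∀ i, ∀ v ∈ altFlag α β i, g v - v ∈ altFlag α β (i + 1)) →
        (∀ i, ∀ v ∈ altFlag α β i, (g ^ n) v - v ∈ altFlag α β (i + 1)) := by
      intro g n hg
      induction n with
      | zero => rw [pow_zero]; exact hone
      | succ n ih => rw [pow_succ]; exact hmul _ _ ih hg
    intro g hg
    induction hg using Subgroup.closure_induction with
    | mem g hg =>
      rcases hg with hg | hg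
      · rw [hg]
        intro i v hv
        rw [hx, add_sub_cancel_left]
        exact le_sup_left (α := Submodule (ZMod p) M) (Submodule.mem_map_of_mem hv)
      · rw [Set.mem_singleton_iff] at hg
        rw [hg]
        intro i v hv
        rw [hy, add_sub_cancel_left]
        exact le_sup_right (α := Submodule (ZMod p) M) (Submodule.mem_map_of_mem hv)
    | one => exact hone
    | mul g h _ _ ihg ihh => exact hmul g h ihg ihh
    | inv g _ ih =>
      have : g⁻¹ = g ^ (orderOf g - 1) := by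
        rw [eq_comm, ← mul_eq_one_iff_eq_inv]
        rw [← pow_succ, Nat.sub_add_cancel (orderOf_pos g), pow_orderOf_eq_one]
      rw [this]
      exact hpow g _ ih
  intro g
  refine ⟨2 * k + 1, ?_⟩
  have h0 : (((g : M ≃ₗ[ZMod p] M) : Module.End (ZMod p) M) - 1) ^ (2 * k + 1) = 0 := by
    apply LinearMap.ext
    intro v
    have := sub_one_pow_mem_altFlag α β ((g : M ≃ₗ[ZMod p] M) : Module.End (ZMod p) M)
      (hP g g.2) (2 * k + 1) v
    rw [hbot, Submodule.mem_bot] at this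
    exact this
  have h1 := pow_char_pow_eq_one_of_nilp (g : M ≃ₗ[ZMod p] M) _ h0
  exact Subtype.ext h1



end QdLin
end Cfsg.Agent.Helper1
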