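import Mathlib
import Cfsg.Agent.Helper1.QdLinA
import Cfsg.Agent.Helper1.QdCanD
import Cfsg.Agent.Lead.DicksonL

set_option autoImplicit false

/-!
Two quadratically acting linear maps generating a non-`p`-group: a natural `SL₂(p)`-plane.
-/

namespace Cfsg.Agent.Helper1
namespace QdLin

open Matrix
open scoped MatrixGroups
open Cfsg.Agent.Helper1.OddGL2 Cfsg.Agent.Helper1.Dk Cfsg.Agent.Helper1.QdCan

section sylow

variable {E : Type*} [Field E] [Finite E] {p : ℕ} [hp : Fact p.Prime] [CharP E p]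

instance finite_SL2 : Finite (Matrix.SpecialLinearGroup (Fin 2) E) :=
  Finite.of_injective (fun g => (g : Matrix (Fin 2) (Fin 2) E)) Subtype.val_injective

theorem upp_pow_char (c : E) : upp c ^ p = 1 := by
  have h : ∀ n : ℕ, upp c ^ n = upp ((n : E) * c) := by
    intro n
    induction n with
    | zero => rw [pow_zero, Nat.cast_zero, zero_mul, upp_zero]
    | succ n ih => rw [pow_succ, ih, upp_mul]; congr 1; push_cast; ring
  rw [h, CharP.cast_eq_zero, zero_mul, upp_zero]

theorem low_pow_char (c : E) : low c ^ p = 1 := by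
  have h : ∀ n : ℕ, low c ^ n = low ((n : E) * c) := by
    intro n
    induction n with
    | zero => rw [pow_zero, Nat.cast_zero, zero_mul, low_zero]
    | succ n ih => rw [pow_succ, ih, low_mul]; congr 1; push_cast; ring
  rw [h, CharP.cast_eq_zero, zero_mul, low_zero]

theorem card_sylow_gt (c : E) (hc : c ≠ 0) :
    1 < Nat.card (Sylow p (Subgroup.closure {upp c, low (1 : E)} :
      Subgroup (Matrix.SpecialLinearGroup (Fin 2) E))) := by
  obtain ⟨H, hH⟩ : ∃ H : Subgroup (Matrix.SpecialLinearGroup (Fin 2) E),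
      H = Subgroup.closure {upp c, low (1 : E)} := ⟨_, rfl⟩
  rw [← hH]
  by_contra hcon
  have hpos : 0 < Nat.card (Sylow p H) := Nat.card_pos
  have h1 : Nat.card (Sylow p H) = 1 := by omega
  haveI : Subsingleton (Sylow p H) := (Nat.card_eq_one_iff_unique.1 h1).1
  obtain ⟨P⟩ : Nonempty (Sylow p H) := inferInstance
  have haH : upp c ∈ H := hH ▸ Subgroup.subset_closure (by simp)
  have hbH : low (1 : E) ∈ H := hH ▸ Subgroup.subset_closure (by simp)
  have hmem : ∀ g : H, g ^ p = 1 → g ∈ P := by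
    intro g hg
    have hpg : IsPGroup p (Subgroup.zpowers g) := by
      rintro ⟨_, j, rfl⟩
      refine ⟨1, ?_⟩
      apply Subtype.ext
      simp only [Subgroup.coe_pow, Subgroup.coe_one, pow_one]
      rw [← zpow_natCast, ← _root_.zpow_mul, mul_comm, _root_.zpow_mul, zpow_natCast, hg, _root_.one_zpow]
    obtain ⟨Q, hQ⟩ := hpg.exists_le_sylow
    rw [Subsingleton.elim P Q]
    exact hQ (Subgroup.mem_zpowers g)
  have ha : (⟨upp c, haH⟩ : H) ∈ P := hmem _ (Subtype.ext (upp_pow_char c))
  have hb : (⟨low 1, hbH⟩ : H) ∈ P := hmem _ (Subtype.ext (low_pow_char 1))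
  obtain ⟨k, hk⟩ := P.2 ⟨_, P.mul_mem ha hb⟩
  have hk' : ((upp c * low (1 : E) : Matrix.SpecialLinearGroup (Fin 2) E) :
      Matrix (Fin 2) (Fin 2) E) ^ p ^ k = 1 := by
    have := congrArg (fun z : P => (((z : H) : Matrix.SpecialLinearGroup (Fin 2) E) :
      Matrix (Fin 2) (Fin 2) E)) hk
    simpa using this
  have htr := trace_eq_two_of_pow hk'
  rw [Matrix.SpecialLinearGroup.coe_mul, upp_val, low_val, Matrix.trace_fin_two] at htr
  simp [Matrix.mul_apply, Fin.sum_univ_two] at htr
  apply hc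
  linear_combination htr

end sylow

end QdLin
end Cfsg.Agent.Helper1
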