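import Mathlib
import Cfsg.Agent.Helper1.QdLinB

set_option autoImplicit false

/-!
Two quadratically acting linear maps generating a non-`p`-group: a natural `SL₂(p)`-plane.
-/

namespace Cfsg.Agent.Helper1
namespace QdLin

open Matrix
open scoped MatrixGroups
open Cfsg.Agent.Helper1.OddGL2 Cfsg.Agent.Helper1.Dk Cfsg.Agent.Helper1.QdCan

section tvec

variable {K U E' : Type*} [Field K] [AddCommGroup U] [Module K U] [CommRing E']
  (ψ : E' →+* Module.End K U) (u₀ : U)

/-- the vector of `U × U` attached to a vector over `E'` -/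
def Tvec (z : Fin 2 → E') : U × U := (ψ (z 0) u₀, ψ (z 1) u₀)

theorem Tvec_add (z z' : Fin 2 → E') : Tvec ψ u₀ (z + z') = Tvec ψ u₀ z + Tvec ψ u₀ z' := by
  simp [Tvec, map_add]

theorem Tmat_Tvec (A : Matrix (Fin 2) (Fin 2) E') (z : Fin 2 → E') :
    Tmat ψ A (Tvec ψ u₀ z) = Tvec ψ u₀ (A.mulVec z) := by
  rw [Tmat_apply]
  simp only [Tvec, Matrix.mulVec, dotProduct, Fin.sum_univ_two, map_add, map_mul,
    LinearMap.add_apply, Module.End.mul_apply]

theorem Tvec_injective (hψ : ∀ e : E', ψ e u₀ = 0 → e = 0) (z z' : Fin 2 → E')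
    (h : Tvec ψ u₀ z = Tvec ψ u₀ z') : z = z' := by
  have h0 := congrArg Prod.fst h
  have h1 := congrArg Prod.snd h
  simp only [Tvec] at h0 h1
  have e0 : z 0 = z' 0 := by
    apply sub_eq_zero.1
    apply hψ
    rw [map_sub, LinearMap.sub_apply, h0, sub_self]
  have e1 : z 1 = z' 1 := by
    apply sub_eq_zero.1
    apply hψ
    rw [map_sub, LinearMap.sub_apply, h1, sub_self]
  ext i
  fin_cases i
  · exact e0
  · exact e1

end tvec

theorem map_mulVec' {R S : Type*} [CommRing R] [CommRing S] (f : R →+* S)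
    (A : Matrix (Fin 2) (Fin 2) R) (v : Fin 2 → R) :
    (f.mapMatrix A).mulVec (fun i => f (v i)) = fun i => f (A.mulVec v i) := by
  ext i
  simp [Matrix.mulVec, dotProduct, Fin.sum_univ_two]

theorem exists_natural {p : ℕ} [hp : Fact p.Prime] (hp2 : p ≠ 2) {M : Type*} [AddCommGroup M]
    [Module (ZMod p) M] [Finite M] (α β : Module.End (ZMod p) M) (hα : α * α = 0)
    (hβ : β * β = 0) (x y : M ≃ₗ[ZMod p] M) (hx : ∀ v, x v = v + α v) (hy : ∀ v, y v = v + β v)
    (hnp : ¬ IsPGroup p (Subgroup.closure {x, y})) :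
    ∃ lam : (Fin 2 → ZMod p) →+ M, Function.Injective lam ∧
      ∀ A : Matrix.SpecialLinearGroup (Fin 2) (ZMod p), ∃ m ∈ Subgroup.closure {x, y},
        ∀ v, m (lam v) = lam (A.1.mulVec v) := by
  by_contra hcon
  apply hnp
  apply isPGroupClosureRich hp2 α β hα hβ x y hx hy
  intro E _ _ U ψ ι X Y c hc hX hY hιinj hψinj hu hxS hyS
  obtain ⟨u₀, hu₀⟩ := hu
  apply hcon
  have hψ0 : ∀ e : E, ψ e u₀ = 0 → e = 0 := fun e h => hψinj e u₀ hu₀ h
  have hψinj' : Function.Injective ψ := by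
    intro e e' h
    apply sub_eq_zero.1
    apply hψ0
    rw [map_sub, h, sub_self]; rfl
  haveI : Finite (Module.End (ZMod p) U) :=
    Finite.of_injective (fun f => (f : U → U)) DFunLike.coe_injective
  haveI : Finite E := Finite.of_injective ψ hψinj'
  letI : Fintype E := Fintype.ofFinite E
  obtain ⟨H, hH⟩ : ∃ H : Subgroup (Matrix.SpecialLinearGroup (Fin 2) E),
      H = Subgroup.closure {upp c, low (1 : E)} := ⟨_, rfl⟩
  have hHgt : 1 < Nat.card (Sylow p H) := hH ▸ card_sylow_gt c hc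
  obtain ⟨K₀, hK₀H, ⟨e⟩⟩ := Cfsg.Agent.Lead.DicksonL.dickson p hp2 H hHgt
  obtain ⟨φ, hφ⟩ : ∃ φ : Matrix.SpecialLinearGroup (Fin 2) (ZMod p) →*
      Matrix.SpecialLinearGroup (Fin 2) E, φ = K₀.subtype.comp e.symm.toMonoidHom := ⟨_, rfl⟩
  have hφinj : Function.Injective φ := by
    rw [hφ]
    exact K₀.subtype_injective.comp e.symm.injective
  have hφH : ∀ A, φ A ∈ H := by
    intro A
    rw [hφ]
    exact hK₀H (e.symm A).2
  obtain ⟨B, hBinj, hB⟩ := canon hp2 φ hφinj
  -- every element of `H` is matched by an element of the closure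
  have hmatch : ∀ g ∈ H, ∃ m ∈ Subgroup.closure {x, y},
      (m, Matrix.SpecialLinearGroup.toGL g) ∈ relSubgroup ψ ι := by
    obtain ⟨R, hR⟩ : ∃ R : Subgroup ((M ≃ₗ[ZMod p] M) × GL (Fin 2) E),
        R = relSubgroup ψ ι ⊓ (Subgroup.closure {x, y}).prod ⊤ := ⟨_, rfl⟩
    have hle : H ≤ (R.map (MonoidHom.snd _ _)).comap Matrix.SpecialLinearGroup.toGL := by
      rw [hH, Subgroup.closure_le]
      rintro g (rfl | rfl)
      · refine ⟨(x, X), ?_, ?_⟩
        · rw [hR]
          exact ⟨hxS, Subgroup.mem_prod.2 ⟨Subgroup.subset_closure (by simp), trivial⟩⟩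
        · apply Units.ext
          show (X : Matrix (Fin 2) (Fin 2) E) = _
          rw [hX]; rfl
      · refine ⟨(y, Y), ?_, ?_⟩
        · rw [hR]
          exact ⟨hyS, Subgroup.mem_prod.2 ⟨Subgroup.subset_closure (by simp), trivial⟩⟩
        · apply Units.ext
          show (Y : Matrix (Fin 2) (Fin 2) E) = _
          rw [hY]; rfl
    intro g hg
    obtain ⟨⟨m, G⟩, hmG, hG⟩ := hle hg
    rw [hR] at hmG
    have hG' : G = Matrix.SpecialLinearGroup.toGL g := hG
    subst hG'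
    exact ⟨m, (Subgroup.mem_prod.1 hmG.2).1, hmG.1⟩
  obtain ⟨f, hf⟩ : ∃ f : ZMod p →+* E, f = ZMod.castHom (dvd_refl p) E := ⟨_, rfl⟩
  have hfinj : Function.Injective f := RingHom.injective f
  obtain ⟨lam, hlam⟩ : ∃ lam : (Fin 2 → ZMod p) →+ M,
      ∀ v, lam v = ι (Tvec ψ u₀ (B.mulVec (fun i => f (v i)))) := by
    refine ⟨AddMonoidHom.mk' (fun v => ι (Tvec ψ u₀ (B.mulVec (fun i => f (v i))))) ?_,
      fun v => rfl⟩
    intro v w
    have : (fun i => f ((v + w) i)) = (fun i => f (v i)) + (fun i => f (w i)) := by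
      ext i; simp
    rw [this, Matrix.mulVec_add, Tvec_add, map_add]
  refine ⟨lam, ?_, ?_⟩
  · intro v w hvw
    rw [hlam, hlam] at hvw
    have h1 := Tvec_injective ψ u₀ hψ0 _ _ (hιinj _ _ hvw)
    have h2 : B.mulVec ((fun i => f (v i)) - (fun i => f (w i))) = 0 := by
      rw [Matrix.mulVec_sub, h1, sub_self]
    have h3 := hBinj _ h2
    ext i
    apply hfinj
    have := congrFun h3 i
    simpa [sub_eq_zero] using this
  · intro A
    obtain ⟨m, hm, hmS⟩ := hmatch (φ A) (hφH A)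
    refine ⟨m, hm, fun v => ?_⟩
    rw [mem_relSubgroup] at hmS
    rw [hlam, hlam, hmS]
    congr 1
    show Tmat ψ ((φ A : Matrix (Fin 2) (Fin 2) E)) _ = _
    rw [Tmat_Tvec, Matrix.mulVec_mulVec, hB A, ← Matrix.mulVec_mulVec, ← hf, map_mulVec']

end QdLin
end Cfsg.Agent.Helper1
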