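import Mathlib
import Cfsg.Agent.Lead.QdStruct
import Cfsg.Agent.Lead.InvolvesLemmas

set_option autoImplicit false

/-!
A group acting on a plane as `SL₂(p)` on its natural module yields a section `Qd(p)`.
-/

namespace Cfsg.Agent.Helper1
namespace QdSec

open scoped MatrixGroups
open Cfsg.Agent.Lead.Qd

variable {p : ℕ} [hp : Fact p.Prime]

/-- the central involution of `SL₂(p)` -/
def negI (p : ℕ) : SL2 p := ⟨!![-1, 0; 0, -1], by simp [Matrix.det_fin_two]⟩

theorem negI_val : ((negI p : SL2 p) : Matrix (Fin 2) (Fin 2) (ZMod p)) = !![-1, 0; 0, -1] := rfl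

theorem negI_mul_self : negI p * negI p = 1 := by
  apply Subtype.ext
  rw [Matrix.SpecialLinearGroup.coe_mul, negI_val, Matrix.SpecialLinearGroup.coe_one]
  ext i j
  fin_cases i <;> fin_cases j <;> simp [Matrix.mul_apply, Fin.sum_univ_two]

theorem negI_comm (A : SL2 p) : negI p * A = A * negI p := by
  apply Subtype.ext
  rw [Matrix.SpecialLinearGroup.coe_mul, Matrix.SpecialLinearGroup.coe_mul, negI_val]
  ext i j
  fin_cases i <;> fin_cases j <;> simp [Matrix.mul_apply, Fin.sum_univ_two]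

theorem negI_mulVec (v : Fin 2 → ZMod p) : (negI p : SL2 p).1.mulVec v = -v := by
  ext i
  fin_cases i <;> simp [negI, Matrix.mulVec, dotProduct, Fin.sum_univ_two]

theorem negI_pow_odd {m : ℕ} (hm : Odd m) : (negI p) ^ m = negI p := by
  obtain ⟨j, rfl⟩ := hm
  rw [pow_succ, pow_mul, sq, negI_mul_self, one_pow, one_mul]

instance zpowers_negI_normal : (Subgroup.zpowers (negI p)).Normal := by
  refine ⟨fun n hn g => ?_⟩
  obtain ⟨j, rfl⟩ := hn
  have h1 : Commute (negI p) g := negI_comm g
  have h2 : g * negI p ^ j * g⁻¹ = negI p ^ j := by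
    rw [(h1.zpow_left j).symm.eq, mul_inv_cancel_right]
  rw [h2]
  exact ⟨j, rfl⟩

end QdSec
end Cfsg.Agent.Helper1
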