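import Mathlib
import Cfsg.Agent.Helper1.QdSecA

set_option autoImplicit false

/-!
A group acting on a plane as `SL₂(p)` on its natural module yields a section `Qd(p)`.
-/

namespace Cfsg.Agent.Helper1
namespace QdSec

open scoped MatrixGroups
open Cfsg.Agent.Lead.Qd

variable {p : ℕ} [hp : Fact p.Prime]

/-- a `2`-element over the central involution -/
theorem exists_two_elt {Λ : Type*} [Group Λ] [Finite Λ] (ρ : Λ →* SL2 p)
    (hρ : Function.Surjective ρ) : ∃ (t : Λ) (k : ℕ), ρ t = negI p ∧ t ^ (2 ^ k) = 1 := by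
  obtain ⟨t₀, ht₀⟩ := hρ (negI p)
  obtain ⟨k, m, hm, hkm⟩ := Nat.exists_eq_two_pow_mul_odd (orderOf_pos t₀).ne'
  refine ⟨t₀ ^ m, k, ?_, ?_⟩
  · rw [map_pow, ht₀, negI_pow_odd hm]
  · rw [← pow_mul, mul_comm, ← hkm, pow_orderOf_eq_one]

theorem eq_zero_of_two_pow_smul (hp2 : p ≠ 2) (j : ℕ) (v : Fin 2 → ZMod p)
    (h : (2 ^ j : ℕ) • v = 0) : v = 0 := by
  have hcop : Nat.Coprime (2 ^ j) p := by
    apply Nat.Coprime.pow_left
    rw [Nat.coprime_comm]
    exact (Nat.coprime_primes hp.out Nat.prime_two).2 hp2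
  have hu : IsUnit ((2 ^ j : ℕ) : ZMod p) := (ZMod.isUnit_iff_coprime _ _).2 hcop
  ext i
  have h1 := congrFun h i
  rw [Pi.smul_apply, nsmul_eq_mul, Pi.zero_apply] at h1
  exact (hu.mul_right_eq_zero).1 h1

section main

variable {Y : Type*} [Group Y] (lam : (Fin 2 → ZMod p) → Y)
  (hadd : ∀ v w, lam (v + w) = lam v * lam w)

include hadd

theorem lam_zero : lam 0 = 1 := by
  have h := hadd 0 0
  rw [add_zero] at h
  exact (mul_eq_left).1 h.symm

theorem lam_neg (v : Fin 2 → ZMod p) : lam (-v) = (lam v)⁻¹ := by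
  rw [eq_inv_iff_mul_eq_one, ← hadd, neg_add_cancel, lam_zero lam hadd]

theorem lam_nsmul (n : ℕ) (v : Fin 2 → ZMod p) : lam (n • v) = (lam v) ^ n := by
  induction n with
  | zero => rw [zero_smul, pow_zero, lam_zero lam hadd]
  | succ n ih => rw [succ_nsmul, hadd, ih, pow_succ]

end main

end QdSec
end Cfsg.Agent.Helper1
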