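import Mathlib
import Cfsg.Agent.Helper1.QdSecB

set_option autoImplicit false

/-!
A group acting on a plane as `SL₂(p)` on its natural module yields a section `Qd(p)`.
-/

namespace Cfsg.Agent.Helper1
namespace QdSec

open scoped MatrixGroups
open Cfsg.Agent.Lead.Qd

variable {p : ℕ} [hp : Fact p.Prime]

/-- the graph subgroup realizing `Qd(p)` -/
def graphSub {Y : Type*} [Group Y] {Λ : Type*} [Group Λ] (π : Λ →* Y) (ρ : Λ →* SL2 p)
    (lam : (Fin 2 → ZMod p) → Y) (hadd : ∀ v w, lam (v + w) = lam v * lam w)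
    (hact : ∀ (l : Λ) (v : Fin 2 → ZMod p), π l * lam v * (π l)⁻¹ = lam ((ρ l).1.mulVec v))
    (Λ₁ : Subgroup Λ) : Subgroup (Y × ↥(Cfsg.qd p)) where
  carrier := {z | ∃ l ∈ Λ₁, ∃ v, z.1 = lam v * π l ∧ z.2 = mkq p (ρ l) v}
  one_mem' := ⟨1, Λ₁.one_mem, 0, by
    rw [map_one, mul_one, lam_zero lam hadd]; rfl, by rw [map_one, mkq_one]; rfl⟩
  mul_mem' := by
    rintro ⟨e, q⟩ ⟨e', q'⟩ ⟨l, hl, v, h1, h2⟩ ⟨l', hl', v', h1', h2'⟩
    simp only at h1 h2 h1' h2'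
    refine ⟨l * l', Λ₁.mul_mem hl hl', (ρ l).1.mulVec v' + v, ?_, ?_⟩
    · show e * e' = _
      rw [h1, h1', add_comm, hadd, ← hact, map_mul]
      group
    · show q * q' = _
      rw [h2, h2', mkq_mul, map_mul]
  inv_mem' := by
    rintro ⟨e, q⟩ ⟨l, hl, v, h1, h2⟩
    simp only at h1 h2
    refine ⟨l⁻¹, Λ₁.inv_mem hl, -((ρ l)⁻¹.1.mulVec v), ?_, ?_⟩
    · show e⁻¹ = _
      rw [h1, ← Matrix.mulVec_neg, ← map_inv, ← hact, lam_neg lam hadd, map_inv]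
      group
    · show q⁻¹ = _
      rw [h2, mkq_inv, map_inv]

theorem mem_graphSub {Y : Type*} [Group Y] {Λ : Type*} [Group Λ] (π : Λ →* Y) (ρ : Λ →* SL2 p)
    (lam : (Fin 2 → ZMod p) → Y) (hadd : ∀ v w, lam (v + w) = lam v * lam w)
    (hact : ∀ (l : Λ) (v : Fin 2 → ZMod p), π l * lam v * (π l)⁻¹ = lam ((ρ l).1.mulVec v))
    (Λ₁ : Subgroup Λ) (z : Y × ↥(Cfsg.qd p)) :
    z ∈ graphSub π ρ lam hadd hact Λ₁ ↔
      ∃ l ∈ Λ₁, ∃ v, z.1 = lam v * π l ∧ z.2 = mkq p (ρ l) v := Iff.rfl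

theorem eq_one_of_mulVec_eq (A : SL2 p) (h : ∀ v : Fin 2 → ZMod p, A.1.mulVec v = v) : A = 1 := by
  apply Subtype.ext
  rw [Matrix.SpecialLinearGroup.coe_one]
  ext i j
  have h1 : A.1 i j = (Pi.single j 1 : Fin 2 → ZMod p) i := by
    have := congrFun (h (Pi.single j 1)) i
    rwa [Matrix.mulVec_single_one] at this
  rw [Matrix.one_apply, h1, Pi.single_apply]

theorem involves_qd_of_natural (hp2 : p ≠ 2) {Y : Type*} [Group Y] {Λ : Type*} [Group Λ]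
    [Finite Λ] (π : Λ →* Y) (ρ : Λ →* SL2 p) (hρ : Function.Surjective ρ)
    (lam : (Fin 2 → ZMod p) → Y) (hadd : ∀ v w, lam (v + w) = lam v * lam w)
    (hinj : Function.Injective lam)
    (hact : ∀ (l : Λ) (v : Fin 2 → ZMod p), π l * lam v * (π l)⁻¹ = lam ((ρ l).1.mulVec v)) :
    Cfsg.Involves ↥(Cfsg.qd p) Y := by
  obtain ⟨t, k, hρt, htk⟩ := exists_two_elt ρ hρ
  obtain ⟨C₂, hC₂⟩ : ∃ C₂ : Subgroup Λ, C₂ = (Subgroup.zpowers (negI p)).comap ρ := ⟨_, rfl⟩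
  haveI hC₂n : C₂.Normal := by rw [hC₂]; infer_instance
  have htC : t ∈ C₂ := by
    rw [hC₂, Subgroup.mem_comap, hρt]; exact Subgroup.mem_zpowers _
  have htp : IsPGroup 2 (Subgroup.zpowers (⟨t, htC⟩ : C₂)) := by
    rintro ⟨_, j, rfl⟩
    refine ⟨k, ?_⟩
    apply Subtype.ext
    apply Subtype.ext
    simp only [Subgroup.coe_pow, Subgroup.coe_zpow, Subgroup.coe_one]
    rw [← zpow_natCast, ← zpow_mul, mul_comm, zpow_mul, zpow_natCast, htk, one_zpow]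
  obtain ⟨T, hT⟩ := htp.exists_le_sylow
  obtain ⟨T', hT'⟩ : ∃ T' : Subgroup Λ, T' = (T : Subgroup C₂).map C₂.subtype := ⟨_, rfl⟩
  have htT' : t ∈ T' := by
    rw [hT']
    exact ⟨⟨t, htC⟩, hT (Subgroup.mem_zpowers _), rfl⟩
  have hT'2 : ∀ c ∈ T', ∃ j : ℕ, c ^ (2 ^ j) = 1 := by
    intro c hc
    rw [hT'] at hc
    obtain ⟨c', hc', rfl⟩ := hc
    obtain ⟨j, hj⟩ := T.2 ⟨c', hc'⟩
    refine ⟨j, ?_⟩
    have := congrArg (fun z : T => ((z : C₂) : Λ)) hj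
    simpa using this
  obtain ⟨Λ₁, hΛ₁⟩ : ∃ Λ₁ : Subgroup Λ, Λ₁ = Subgroup.normalizer (T' : Set Λ) := ⟨_, rfl⟩
  have hfr : Λ₁ ⊔ C₂ = ⊤ := by
    rw [hΛ₁, hT']; exact Sylow.normalizer_sup_eq_top T
  have htΛ₁ : t ∈ Λ₁ := hΛ₁ ▸ Subgroup.le_normalizer htT'
  have hmap : Λ₁.map ρ = ⊤ := by
    have h1 : (Λ₁ ⊔ C₂).map ρ = ⊤ := by
      rw [hfr, ← MonoidHom.range_eq_map, MonoidHom.range_eq_top]; exact hρ
    rw [Subgroup.map_sup] at h1
    have h2 : C₂.map ρ ≤ Λ₁.map ρ := by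
      rw [hC₂]
      refine (Subgroup.map_comap_le _ _).trans ?_
      rw [Subgroup.zpowers_le, ← hρt]
      exact Subgroup.mem_map_of_mem ρ htΛ₁
    rwa [sup_eq_left.2 h2] at h1
  -- the key disjointness
  have hkey : ∀ l ∈ Λ₁, ∀ v, π l = lam v → v = 0 := by
    intro l hl v hlv
    have hc : l * t * l⁻¹ * t⁻¹ ∈ T' := by
      apply T'.mul_mem _ (T'.inv_mem htT')
      rw [hΛ₁] at hl
      exact (Subgroup.mem_normalizer_iff.1 hl t).1 htT'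
    obtain ⟨j, hj⟩ := hT'2 _ hc
    have h1 : π (l * t * l⁻¹ * t⁻¹) = lam ((2 : ℕ) • v) := by
      have h2 : π t * lam (-v) * (π t)⁻¹ = lam v := by
        rw [hact, hρt, negI_mulVec, neg_neg]
      calc π (l * t * l⁻¹ * t⁻¹) = π l * (π t * (π l)⁻¹ * (π t)⁻¹) := by
            simp only [map_mul, map_inv, mul_assoc]
        _ = lam v * (π t * lam (-v) * (π t)⁻¹) := by rw [hlv, lam_neg lam hadd]
        _ = lam v * lam v := by rw [h2]
        _ = lam ((2 : ℕ) • v) := by rw [two_nsmul, hadd]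
    have h3 := congrArg π hj
    rw [map_pow, h1, map_one, ← lam_nsmul lam hadd, ← lam_zero lam hadd, smul_smul,
      ← pow_succ] at h3
    exact eq_zero_of_two_pow_smul hp2 (j + 1) v (hinj h3)
  obtain ⟨Γ, hΓ⟩ : ∃ Γ, Γ = graphSub π ρ lam hadd hact Λ₁ := ⟨_, rfl⟩
  have hΓmem : ∀ z : Y × ↥(Cfsg.qd p), z ∈ Γ ↔
      ∃ l ∈ Λ₁, ∃ v, z.1 = lam v * π l ∧ z.2 = mkq p (ρ l) v := by
    intro z; rw [hΓ]; exact mem_graphSub π ρ lam hadd hact Λ₁ z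
  refine Cfsg.Agent.Lead.involves_of_maps ((MonoidHom.fst Y _).comp Γ.subtype) ?_
    ((MonoidHom.snd Y _).comp Γ.subtype) ?_
  · rw [injective_iff_map_eq_one]
    rintro ⟨⟨e, q⟩, hz⟩ h1
    have he : e = 1 := h1
    obtain ⟨l, hl, v, h2, h3⟩ := (hΓmem _).1 hz
    simp only at h2 h3
    rw [he] at h2
    have h4 : π l = lam (-v) := by
      rw [lam_neg lam hadd]
      exact eq_inv_of_mul_eq_one_right h2.symm
    have hv : v = 0 := by
      have := hkey l hl (-v) h4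
      simpa using this
    have hπl : π l = 1 := by
      rw [h4, hv, neg_zero, lam_zero lam hadd]
    have hρl : ρ l = 1 := by
      apply eq_one_of_mulVec_eq
      intro w
      apply hinj
      rw [← hact, hπl, one_mul, inv_one, mul_one]
    apply Subtype.ext
    show (e, q) = 1
    rw [he, h3, hρl, hv, mkq_one]
    rfl
  · intro q
    have hA : blk p q ∈ Λ₁.map ρ := hmap ▸ Subgroup.mem_top _
    obtain ⟨l, hl, hlA⟩ := hA
    refine ⟨⟨(lam (vec p q) * π l, q), (hΓmem _).2 ⟨l, hl, vec p q, rfl, ?_⟩⟩, rfl⟩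
    show q = _
    rw [hlA, mkq_blk_vec]

end QdSec
end Cfsg.Agent.Helper1
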