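import Mathlib
import Cfsg.Agent.Helper1.QdLinC
import Cfsg.Agent.Helper1.QdSecC
import Cfsg.Agent.Helper1.OddQuadratic

set_option autoImplicit false

/-!
A quadratic pair on a normal elementary abelian `p`-subgroup: `p'`-elements of the generated group
centralize it, unless `Qd(p)` is involved.
-/

namespace Cfsg.Agent.Helper1
namespace QdEA

universe u
open scoped commutatorElement MatrixGroups
open Cfsg.Agent.Lead.Qd Cfsg.Agent.Helper1.OddGL2

/-- the relation subgroup between the group and `SL₂(p)` -/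
def relSub {p : ℕ} {X M : Type*} [Group X] [AddCommGroup M] [Module (ZMod p) M]
    (Φ : X →* (M ≃ₗ[ZMod p] M)) (lam : (Fin 2 → ZMod p) →+ M) :
    Subgroup (X × SL2 p) where
  carrier := {z | ∀ v, Φ z.1 (lam v) = lam (z.2.1.mulVec v)}
  one_mem' := by
    intro v
    show Φ 1 (lam v) = lam ((1 : SL2 p).1.mulVec v)
    rw [map_one, Matrix.SpecialLinearGroup.coe_one, Matrix.one_mulVec]; rfl
  mul_mem' := by
    rintro ⟨l, A⟩ ⟨l', A'⟩ h h' v
    show Φ (l * l') (lam v) = lam ((A * A').1.mulVec v)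
    have h1 : Φ l' (lam v) = lam (A'.1.mulVec v) := h' v
    have h2 : Φ l (lam (A'.1.mulVec v)) = lam (A.1.mulVec (A'.1.mulVec v)) := h _
    rw [map_mul, LinearEquiv.mul_apply, h1, h2, Matrix.SpecialLinearGroup.coe_mul,
      Matrix.mulVec_mulVec]
  inv_mem' := by
    rintro ⟨l, A⟩ h v
    show Φ l⁻¹ (lam v) = lam ((A⁻¹).1.mulVec v)
    have h2 : Φ l (lam ((A⁻¹).1.mulVec v)) = lam (A.1.mulVec ((A⁻¹).1.mulVec v)) := h _
    rw [Matrix.mulVec_mulVec, ← Matrix.SpecialLinearGroup.coe_mul, mul_inv_cancel,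
      Matrix.SpecialLinearGroup.coe_one, Matrix.one_mulVec] at h2
    rw [← h2, ← LinearEquiv.mul_apply, ← map_mul, inv_mul_cancel, map_one]; rfl

theorem mem_relSub {p : ℕ} {X M : Type*} [Group X] [AddCommGroup M] [Module (ZMod p) M]
    (Φ : X →* (M ≃ₗ[ZMod p] M)) (lam : (Fin 2 → ZMod p) →+ M) (z : X × SL2 p) :
    z ∈ relSub Φ lam ↔ ∀ v, Φ z.1 (lam v) = lam (z.2.1.mulVec v) := Iff.rfl

theorem eqOneQuadQd' {p : ℕ} [hp : Fact p.Prime] (hp2 : p ≠ 2) {A : Type*} [CommGroup A]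
    [Finite A] [Module (ZMod p) (Additive A)] {X : Type*} [Group X] [Finite X]
    (θ : X →* MulAut A) (j : A →* X) (hj : Function.Injective j)
    (hjθ : ∀ (g : X) (v : A), j (θ g v) = g * j v * g⁻¹) (a y : X)
    (hqa : ∀ v : A, θ a (θ a v * v⁻¹) * (θ a v * v⁻¹)⁻¹ = 1)
    (hqy : ∀ v : A, θ y (θ y v * v⁻¹) * (θ y v * v⁻¹)⁻¹ = 1)
    (hfree : ¬ Cfsg.Involves ↥(Cfsg.qd p) X)
    (d : X) (hd : d ∈ Subgroup.closure {a, y}) (hdp : (orderOf d).Coprime p) : θ d = 1 := by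
  obtain ⟨ρ, hρ⟩ := exists_linRep (A := A) p
  obtain ⟨Φ, hΦ⟩ : ∃ Φ, Φ = ρ.comp θ := ⟨_, rfl⟩
  have hΦa : ∀ (g : X) (v : Additive A), Φ g v = Additive.ofMul (θ g (Additive.toMul v)) := by
    intro g v; rw [hΦ]; exact hρ _ _
  have key : ∀ g : X, (∀ v : A, θ g (θ g v * v⁻¹) * (θ g v * v⁻¹)⁻¹ = 1) →
      ((Φ g : Module.End (ZMod p) (Additive A)) - 1) * ((Φ g : Module.End (ZMod p) (Additive A)) - 1)
        = 0 := by
    intro g hg
    apply LinearMap.ext
    intro v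
    have h1 : ∀ w : Additive A, ((Φ g : Module.End (ZMod p) (Additive A)) - 1) w =
        Additive.ofMul (θ g (Additive.toMul w) * (Additive.toMul w)⁻¹) := by
      intro w
      rw [LinearMap.sub_apply, Module.End.one_apply]
      show Φ g w - w = _
      rw [hΦa, sub_eq_add_neg]
      rfl
    rw [Module.End.mul_apply, h1, h1]
    show Additive.ofMul _ = 0
    simp only [toMul_ofMul]
    rw [hg]; rfl
  have hxv : ∀ g : X, ∀ v : Additive A,
      Φ g v = v + ((Φ g : Module.End (ZMod p) (Additive A)) - 1) v := by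
    intro g v
    rw [LinearMap.sub_apply, Module.End.one_apply]
    show Φ g v = v + (Φ g v - v)
    abel
  have hcl : Subgroup.closure {Φ a, Φ y} = (Subgroup.closure {a, y}).map Φ := by
    rw [MonoidHom.map_closure, Set.image_pair]
  have hdm : Φ d ∈ Subgroup.closure {Φ a, Φ y} := by
    rw [hcl]; exact Subgroup.mem_map_of_mem _ hd
  have hΦd : Φ d = 1 := by
    by_contra hΦd
    apply hfree
    have hnp : ¬ IsPGroup p (Subgroup.closure {Φ a, Φ y}) := by
      intro hpg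
      apply hΦd
      obtain ⟨k, hk⟩ := hpg ⟨Φ d, hdm⟩
      have hk' : (Φ d) ^ (p ^ k) = 1 := congrArg Subtype.val hk
      have ho : (Φ d) ^ (orderOf d) = 1 := by rw [← map_pow, pow_orderOf_eq_one, map_one]
      have h1 := pow_gcd_eq_one.2 ⟨hk', ho⟩
      rwa [Nat.Coprime.gcd_eq_one (Nat.Coprime.pow_left k hdp.symm), pow_one] at h1
    obtain ⟨lam, hlaminj, hlam⟩ := QdLin.exists_natural hp2 _ _ (key a hqa)
      (key y hqy) (Φ a) (Φ y) (hxv a) (hxv y) hnp
    obtain ⟨Λ, hΛ⟩ : ∃ Λ, Λ = relSub Φ lam := ⟨_, rfl⟩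
    have hΛmem : ∀ z : X × SL2 p, z ∈ Λ ↔ ∀ v, Φ z.1 (lam v) = lam (z.2.1.mulVec v) := by
      intro z; rw [hΛ]; exact mem_relSub Φ lam z
    obtain ⟨lam', hlam'⟩ : ∃ lam' : (Fin 2 → ZMod p) → X,
        ∀ v, lam' v = j (Additive.toMul (lam v)) := ⟨_, fun v => rfl⟩
    refine QdSec.involves_qd_of_natural hp2 ((MonoidHom.fst X (SL2 p)).comp Λ.subtype)
      ((MonoidHom.snd X (SL2 p)).comp Λ.subtype) ?_ lam' ?_ ?_ ?_
    · intro B
      obtain ⟨m, hm, hmB⟩ := hlam B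
      rw [hcl] at hm
      obtain ⟨l, _, rfl⟩ := hm
      exact ⟨⟨(l, B), (hΛmem _).2 hmB⟩, rfl⟩
    · intro v w
      rw [hlam', hlam', hlam', map_add, toMul_add, map_mul]
    · intro v w hvw
      rw [hlam', hlam'] at hvw
      apply hlaminj
      exact Additive.toMul.injective (hj hvw)
    · rintro ⟨⟨l, B⟩, hz⟩ v
      show l * lam' v * l⁻¹ = lam' (B.1.mulVec v)
      have h1 := (hΛmem _).1 hz v
      simp only at h1
      rw [hΦa] at h1
      rw [hlam', hlam', ← h1, toMul_ofMul, hjθ]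
  ext v
  have h2 := hΦa d (Additive.ofMul v)
  rw [hΦd] at h2
  exact (congrArg Additive.toMul h2).symm

theorem eqOneQuadQd {p : ℕ} [hp : Fact p.Prime] (hp2 : p ≠ 2) {A : Type*} [CommGroup A]
    [Finite A] (hA : ∀ a : A, a ^ p = 1) {X : Type*} [Group X] [Finite X]
    (θ : X →* MulAut A) (j : A →* X) (hj : Function.Injective j)
    (hjθ : ∀ (g : X) (v : A), j (θ g v) = g * j v * g⁻¹) (a y : X)
    (hqa : ∀ v : A, θ a (θ a v * v⁻¹) * (θ a v * v⁻¹)⁻¹ = 1)
    (hqy : ∀ v : A, θ y (θ y v * v⁻¹) * (θ y v * v⁻¹)⁻¹ = 1)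
    (hfree : ¬ Cfsg.Involves ↥(Cfsg.qd p) X)
    (d : X) (hd : d ∈ Subgroup.closure {a, y}) (hdp : (orderOf d).Coprime p) : θ d = 1 := by
  let inst : Module (ZMod p) (Additive A) := AddCommGroup.zmodModule (n := p) (fun x => by
    show Additive.ofMul ((Additive.toMul x) ^ p) = 0
    rw [hA]; rfl)
  exact eqOneQuadQd' hp2 θ j hj hjθ a y hqa hqy hfree d hd hdp

theorem centralizesElemQd {X : Type u} [Group X] [Finite X] {p : ℕ}
    [hp : Fact p.Prime] (hp2 : p ≠ 2) (V : Subgroup X) [hVn : V.Normal]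
    (hVab : ∀ u ∈ V, ∀ v ∈ V, u * v = v * u) (hVp : ∀ v ∈ V, v ^ p = 1) (a y : X)
    (hqa : ⁅⁅V, Subgroup.zpowers a⁆, Subgroup.zpowers a⁆ = ⊥)
    (hqy : ⁅⁅V, Subgroup.zpowers y⁆, Subgroup.zpowers y⁆ = ⊥)
    (hfree : ¬ Cfsg.Involves ↥(Cfsg.qd p) X)
    (d : X) (hd : d ∈ Subgroup.closure {a, y}) (hdp : (orderOf d).Coprime p) :
    d ∈ Subgroup.centralizer (V : Set X) := by
  letI : CommGroup V := { (inferInstance : Group V) with
    mul_comm := fun u v => Subtype.ext (hVab u u.2 v v.2) }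
  have hA : ∀ v : V, v ^ p = 1 := fun v => Subtype.ext (hVp v v.2)
  have key : ∀ g : X, ⁅⁅V, Subgroup.zpowers g⁆, Subgroup.zpowers g⁆ = ⊥ → ∀ v : V,
      (MulAut.conjNormal (H := V) g) ((MulAut.conjNormal (H := V) g) v * v⁻¹) *
        ((MulAut.conjNormal (H := V) g) v * v⁻¹)⁻¹ = 1 := by
    intro g hg v
    apply Subtype.ext
    have := quadratic_elementwise V g hg v v.2
    simp only [Subgroup.coe_mul, Subgroup.coe_inv, MulAut.conjNormal_apply, Subgroup.coe_one]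
    exact this
  have h1 := eqOneQuadQd hp2 hA (MulAut.conjNormal (H := V)) V.subtype V.subtype_injective
    (fun g v => rfl) a y (key a hqa) (key y hqy) hfree d hd hdp
  rw [Subgroup.mem_centralizer_iff]
  intro v hv
  have h2 := congrArg (fun f : MulAut V => ((f ⟨v, hv⟩ : V) : X)) h1
  simp only [MulAut.conjNormal_apply, MulAut.one_apply] at h2
  calc v * d = (d * v * d⁻¹) * d := by rw [h2]
    _ = d * v := by group

end QdEA
end Cfsg.Agent.Helper1
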