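import Mathlib
import Cfsg.Agent.Lead.QuadSL2B
import Cfsg.Agent.Helper2.StabChain

set_option autoImplicit false

/-!
Quadratic pairs on a normal `p`-subgroup: `p'`-elements centralize unless `SL₂(p)` is involved.
-/

namespace Cfsg.Agent.Helper1
namespace QuadStable

universe u
open scoped commutatorElement Pointwise MatrixGroups
open Cfsg.Agent.Lead.QuadSL2

/-- `Ω₁(Z(P))` as a subgroup of the ambient group -/
def omZ {X : Type*} [Group X] (p : ℕ) (P : Subgroup X) : Subgroup X where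
  carrier := {z | z ∈ P ∧ (∀ x ∈ P, z * x = x * z) ∧ z ^ p = 1}
  one_mem' := ⟨P.one_mem, fun x _ => by simp, one_pow _⟩
  mul_mem' := by
    rintro z w ⟨hz, hzc, hzp⟩ ⟨hw, hwc, hwp⟩
    refine ⟨P.mul_mem hz hw, fun x hx => ?_, ?_⟩
    · rw [mul_assoc, hwc x hx, ← mul_assoc, hzc x hx, mul_assoc]
    · have hc : Commute z w := hzc w hw
      rw [hc.mul_pow, hzp, hwp, one_mul]
  inv_mem' := by
    rintro z ⟨hz, hzc, hzp⟩
    refine ⟨P.inv_mem hz, fun x hx => ?_, by rw [inv_pow, hzp, inv_one]⟩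
    have := hzc x hx
    calc z⁻¹ * x = z⁻¹ * (x * z) * z⁻¹ := by group
      _ = z⁻¹ * (z * x) * z⁻¹ := by rw [this]
      _ = x * z⁻¹ := by group

theorem omZ_le {X : Type*} [Group X] (p : ℕ) (P : Subgroup X) : omZ p P ≤ P := fun _ h => h.1

theorem omZ_normal {X : Type*} [Group X] (p : ℕ) (P : Subgroup X) [hP : P.Normal] :
    (omZ p P).Normal := by
  refine ⟨fun z hz g => ?_⟩
  obtain ⟨hz, hzc, hzp⟩ := hz
  refine ⟨hP.conj_mem z hz g, fun x hx => ?_, ?_⟩
  · have h1 : g⁻¹ * x * g ∈ P := by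
      have := hP.conj_mem x hx g⁻¹
      simpa using this
    have h2 := hzc _ h1
    calc g * z * g⁻¹ * x = g * (z * (g⁻¹ * x * g)) * g⁻¹ := by group
      _ = g * ((g⁻¹ * x * g) * z) * g⁻¹ := by rw [h2]
      _ = x * (g * z * g⁻¹) := by group
  · rw [conj_pow, hzp]; group

theorem omZ_ne_bot {X : Type*} [Group X] [Finite X] {p : ℕ} [hp : Fact p.Prime] (P : Subgroup X)
    (hP : IsPGroup p P) (hP1 : P ≠ ⊥) : omZ p P ≠ ⊥ := by
  haveI : Nontrivial P := (Subgroup.nontrivial_iff_ne_bot P).2 hP1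
  haveI := hP.center_nontrivial
  have hc : IsPGroup p (Subgroup.center P) := hP.to_subgroup _
  obtain ⟨k, hk⟩ := IsPGroup.iff_card.1 hc
  have hk0 : k ≠ 0 := by
    rintro rfl
    have : 1 < Nat.card (Subgroup.center P) := Finite.one_lt_card
    rw [hk, pow_zero] at this
    omega
  have hdvd : p ∣ Nat.card (Subgroup.center P) := by
    rw [hk]; exact dvd_pow_self p hk0
  obtain ⟨c, hc⟩ := exists_prime_orderOf_dvd_card' p hdvd
  intro hbot
  have hmem : ((c : P) : X) ∈ omZ p P := by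
    refine ⟨(c : P).2, fun x hx => ?_, ?_⟩
    · have := Subgroup.mem_center_iff.1 c.2 ⟨x, hx⟩
      have h2 := congrArg Subtype.val this
      exact h2.symm
    · have h1 : c ^ p = 1 := by rw [← hc]; exact pow_orderOf_eq_one c
      have h2 := congrArg (fun t : Subgroup.center P => ((t : P) : X)) h1
      simpa using h2
  rw [hbot, Subgroup.mem_bot] at hmem
  have hc1 : c = 1 := by
    apply Subtype.ext; apply Subtype.ext; exact hmem
  rw [hc1, orderOf_one] at hc
  exact hp.out.one_lt.ne hc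

end QuadStable
end Cfsg.Agent.Helper1
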