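import Mathlib
import Cfsg.Agent.Helper1.QuadStableA
import Cfsg.Agent.Helper1.Hall

set_option autoImplicit false

/-!
Quadratic pairs on a normal `p`-subgroup: `p'`-elements centralize unless `SL₂(p)` is involved.
-/

namespace Cfsg.Agent.Helper1
namespace QuadStable

universe u
open scoped commutatorElement Pointwise MatrixGroups
open Cfsg.Agent.Lead.QuadSL2

theorem quad_map {X Y : Type*} [Group X] [Group Y] (f : X →* Y) (P : Subgroup X) (a : X)
    (hq : ⁅⁅P, Subgroup.zpowers a⁆, Subgroup.zpowers a⁆ = ⊥) :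
    ⁅⁅P.map f, Subgroup.zpowers (f a)⁆, Subgroup.zpowers (f a)⁆ = ⊥ := by
  have h3 := congrArg (Subgroup.map f) hq
  rw [Subgroup.map_commutator, Subgroup.map_commutator, MonoidHom.map_zpowers,
    Subgroup.map_bot] at h3
  exact h3

theorem quad_mono {X : Type*} [Group X] {P Q : Subgroup X} (hQP : Q ≤ P) (a : X)
    (hq : ⁅⁅P, Subgroup.zpowers a⁆, Subgroup.zpowers a⁆ = ⊥) :
    ⁅⁅Q, Subgroup.zpowers a⁆, Subgroup.zpowers a⁆ = ⊥ := by
  rw [eq_bot_iff, ← hq]
  exact Subgroup.commutator_mono (Subgroup.commutator_mono hQP le_rfl) le_rfl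

theorem not_inv_map {p : ℕ} {X Y : Type*} [Group X] [Group Y] (f : X →* Y) (a y : X)
    (h : ¬ Inv p (Subgroup.closure {a, y})) : ¬ Inv p (Subgroup.closure {f a, f y}) := by
  intro h2
  apply h
  have e : Subgroup.closure {f a, f y} = (Subgroup.closure {a, y}).map f := by
    rw [MonoidHom.map_closure, Set.image_pair]
  rw [e] at h2
  exact Inv.of_surjective (f.subgroupMap (Subgroup.closure {a, y}))
    (f.subgroupMap_surjective _) h2

theorem cent_of_quad {p : ℕ} [hp : Fact p.Prime] (hp2 : p ≠ 2) :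
    ∀ (n : ℕ) (X : Type u) [Group X] [Finite X] (P : Subgroup X) [P.Normal], IsPGroup p P →
      Nat.card P ≤ n → ∀ a y : X, ⁅⁅P, Subgroup.zpowers a⁆, Subgroup.zpowers a⁆ = ⊥ →
      ⁅⁅P, Subgroup.zpowers y⁆, Subgroup.zpowers y⁆ = ⊥ →
      ¬ Inv p (Subgroup.closure {a, y}) → ∀ d ∈ Subgroup.closure {a, y},
      (orderOf d).Coprime p → d ∈ Subgroup.centralizer (P : Set X) := by
  intro n
  induction n with
  | zero =>
    intro X _ _ P _ hP hn
    have := Nat.card_pos (α := P)
    omega
  | succ n ih =>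
    intro X _ _ P hPn hP hn a y hqa hqy hab d hd hdp
    by_cases hP1 : P = ⊥
    · subst hP1
      rw [Subgroup.mem_centralizer_iff]
      intro x hx
      rw [SetLike.mem_coe, Subgroup.mem_bot] at hx
      subst hx; simp
    have hZ1 := omZ_ne_bot P hP hP1
    haveI hZn := omZ_normal p P
    obtain ⟨Z, hZ⟩ : ∃ Z, Z = omZ p P := ⟨_, rfl⟩
    rw [← hZ] at hZ1 hZn
    have hZP : Z ≤ P := hZ ▸ omZ_le p P
    have hdZ : d ∈ Subgroup.centralizer (Z : Set X) := by
      apply centralizesElemInv hp2 Z ?_ ?_ a y (quad_mono hZP a hqa) (quad_mono hZP y hqy)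
        hab d hd hdp
      · intro u hu v hv
        rw [hZ] at hu
        exact hu.2.1 v (hZP hv)
      · intro v hv
        rw [hZ] at hv
        exact hv.2.2
    obtain ⟨π, hπ⟩ : ∃ π : X →* X ⧸ Z, π = QuotientGroup.mk' Z := ⟨_, rfl⟩
    have hcard : Nat.card (P.map π) ≤ n := by
      have h1 := card_map_mk'_mul_card Z P hZP
      rw [← hπ] at h1
      have h2 : 1 < Nat.card Z := by
        rw [Subgroup.one_lt_card_iff_ne_bot]; exact hZ1
      have h3 : 0 < Nat.card (P.map π) := Nat.card_pos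
      nlinarith
    haveI : (P.map π).Normal :=
      Subgroup.Normal.map hPn π (hπ ▸ QuotientGroup.mk'_surjective Z)
    have hπd : π d ∈ Subgroup.closure {π a, π y} := by
      have e : Subgroup.closure {π a, π y} = (Subgroup.closure {a, y}).map π := by
        rw [MonoidHom.map_closure, Set.image_pair]
      rw [e]; exact Subgroup.mem_map_of_mem π hd
    have hπdp : (orderOf (π d)).Coprime p :=
      Nat.Coprime.coprime_dvd_left (orderOf_map_dvd π d) hdp
    have key := ih (X ⧸ Z) (P.map π) (hP.map π) hcard (π a) (π y) (quad_map π P a hqa)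
      (quad_map π P y hqy) (not_inv_map π a y hab) (π d) hπd hπdp
    rw [Subgroup.mem_centralizer_iff]
    intro x hx
    have h1 := Subgroup.mem_centralizer_iff.1 key (π x) (Subgroup.mem_map_of_mem π hx)
    have h2 : d * x * d⁻¹ * x⁻¹ ∈ Z := by
      rw [← QuotientGroup.eq_one_iff, ← QuotientGroup.mk'_apply, ← hπ]
      rw [map_mul, map_mul, map_mul, map_inv, map_inv, ← h1]
      group
    have h3 := Cfsg.Agent.Helper2.commute_of_stab hP hZP hdp (isOfFinOrder_of_finite d)
      (fun c hc => (Subgroup.mem_centralizer_iff.1 hdZ c hc).symm) hx h2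
    exact h3.symm

end QuadStable
end Cfsg.Agent.Helper1
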