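import Mathlib
import Cfsg.Agent.Helper1.QuadStableB
import Cfsg.Agent.Helper1.Fitting2

set_option autoImplicit false

/-!
A finite group not involving `SL₂(p)` is `p`-stable (`p` odd, `O_p ≠ 1`).
-/

namespace Cfsg.Agent.Helper1
namespace QuadStable

universe u
open scoped commutatorElement Pointwise MatrixGroups
open Cfsg.Agent.Lead.QuadSL2
open Cfsg.Agent.Helper2 (cj)

/-- a quadratic pair on a normal `p`-subgroup generates a `p`-group modulo the centralizer -/
theorem isPGroup_map_of_quad {p : ℕ} [hp : Fact p.Prime] (hp2 : p ≠ 2) {X : Type u} [Group X]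
    [Finite X] (P : Subgroup X) [P.Normal] (hP : IsPGroup p P) (a y : X)
    (hqa : ⁅⁅P, Subgroup.zpowers a⁆, Subgroup.zpowers a⁆ = ⊥)
    (hqy : ⁅⁅P, Subgroup.zpowers y⁆, Subgroup.zpowers y⁆ = ⊥)
    (hab : ¬ Inv p (Subgroup.closure {a, y})) {Y : Type*} [Group Y] (f : X →* Y)
    (hf : Subgroup.centralizer (P : Set X) ≤ f.ker) :
    IsPGroup p ((Subgroup.closure {a, y}).map f) := by
  rintro ⟨_, d, hd, rfl⟩
  obtain ⟨k, hk⟩ : ∃ k, k = (orderOf d).factorization p := ⟨_, rfl⟩
  refine ⟨k, ?_⟩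
  apply Subtype.ext
  simp only [Subgroup.coe_pow, Subgroup.coe_one]
  rw [← map_pow, ← MonoidHom.mem_ker]
  apply hf
  apply cent_of_quad hp2 _ X P hP le_rfl a y hqa hqy hab _ (Subgroup.pow_mem _ hd _)
  have hpos : 0 < orderOf d := orderOf_pos d
  rw [orderOf_pow' d (pow_ne_zero k hp.out.ne_zero)]
  have hdvd : p ^ k ∣ orderOf d := hk ▸ Nat.ordProj_dvd (orderOf d) p
  rw [Nat.gcd_eq_right hdvd, hk]
  exact (Nat.coprime_ordCompl hp.out hpos.ne').symm

theorem isPStable_of_not_inv {X : Type u} [Group X] [Finite X] {p : ℕ} [hp : Fact p.Prime]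
    (hp2 : p ≠ 2) (hO : Cfsg.pCore p X ≠ ⊥) (h : ¬ Inv p X) : Cfsg.IsPStable p X := by
  refine ⟨hp.out.odd_of_ne_two hp2, hO, ?_⟩
  intro A P hA hP hAP hPle hn hq
  set N := Subgroup.normalizer (P : Set X) with hN
  set C := (Subgroup.centralizer (P : Set X)).subgroupOf N with hC
  haveI hCn : C.Normal := by
    rw [hC, hN]; infer_instance
  haveI hPN : (P.subgroupOf N).Normal := by
    rw [hN]; exact Subgroup.normal_in_normalizer
  have hPNp : IsPGroup p (P.subgroupOf N) := hP.comap_subtype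
  have hninv : ∀ D : Subgroup N, ¬ Inv p D := fun D hD =>
    h (Inv.of_subgroup N (Inv.of_subgroup D hD))
  have hcent : Subgroup.centralizer ((P.subgroupOf N : Subgroup N) : Set N) ≤
      (QuotientGroup.mk' C).ker := by
    rw [QuotientGroup.ker_mk', hC]
    intro d hd
    rw [Subgroup.mem_subgroupOf, Subgroup.mem_centralizer_iff]
    intro x hx
    have hxN : x ∈ N := hN ▸ Subgroup.le_normalizer hx
    have h1 := Subgroup.mem_centralizer_iff.1 hd ⟨x, hxN⟩ (Subgroup.mem_subgroupOf.2 hx)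
    exact congrArg Subtype.val h1
  suffices hmain : ∀ a : N, (a : X) ∈ A → QuotientGroup.mk' C a ∈ Cfsg.pCore p (N ⧸ C) by
    rintro _ ⟨a, ha, rfl⟩
    exact hmain a (Subgroup.mem_subgroupOf.1 ha)
  intro a ha
  have hqa : ⁅⁅P.subgroupOf N, Subgroup.zpowers a⁆, Subgroup.zpowers a⁆ = ⊥ := by
    rw [← Subgroup.map_eq_bot_iff_of_injective _ N.subtype_injective, eq_bot_iff, ← hq,
      Subgroup.map_commutator, Subgroup.map_commutator]
    apply Subgroup.commutator_mono (Subgroup.commutator_mono ?_ ?_) ?_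
    · rw [Subgroup.subgroupOf_map_subtype]; exact inf_le_left
    · rw [MonoidHom.map_zpowers, Subgroup.zpowers_le]; exact ha
    · rw [MonoidHom.map_zpowers, Subgroup.zpowers_le]; exact ha
  obtain ⟨π, hπ⟩ : ∃ π : N →* N ⧸ C, π = QuotientGroup.mk' C := ⟨_, rfl⟩
  rw [← hπ]
  obtain ⟨B, hB⟩ : ∃ B : Subgroup (N ⧸ C), B = Subgroup.zpowers (π a) := ⟨_, rfl⟩
  have hpair : ∀ g : N, IsPGroup p ((Subgroup.closure {a, g * a * g⁻¹}).map π) := by
    intro g
    have hqb := Cfsg.Agent.Lead.Ab2GL2.quadConj (P.subgroupOf N) a g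
      (by rw [Subgroup.normalizer_eq_top]; trivial) hqa
    exact isPGroup_map_of_quad hp2 (P.subgroupOf N) hPNp a _ hqa hqb (hninv _) π (hπ ▸ hcent)
  have hpg : ∀ g : N ⧸ C, IsPGroup p ↥(B ⊔ cj g B) := by
    intro g
    obtain ⟨g, rfl⟩ := QuotientGroup.mk'_surjective C g
    apply (hpair g).to_le
    apply sup_le
    · rw [hB, Subgroup.zpowers_le]
      exact Subgroup.mem_map_of_mem π (Subgroup.subset_closure (by simp))
    · have e1 : cj ((QuotientGroup.mk' C) g) B = Subgroup.zpowers (π (g * a * g⁻¹)) := by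
        show B.map (MulAut.conj _).toMonoidHom = _
        rw [hB, MonoidHom.map_zpowers, hπ]
        simp
      rw [e1, Subgroup.zpowers_le]
      exact Subgroup.mem_map_of_mem π (Subgroup.subset_closure (by simp))
  have hBp : IsPGroup p B := (hpg 1).to_le le_sup_left
  obtain ⟨M, hMn, hMp, hle⟩ := Cfsg.Agent.Helper2.baer_suzuki B hBp hpg
  exact le_pCore hMn hMp (hle (hB ▸ Subgroup.mem_zpowers _))

end QuadStable
end Cfsg.Agent.Helper1
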