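import Mathlib
import Cfsg.Agent.Helper1.QuadStableC
import Cfsg.Agent.Lead.InvolvesLemmas

set_option autoImplicit false

/-!
Generic form of the `p`-stability argument: a property of finite groups inherited by subgroups
and quotients which makes `p'`-elements of quadratic pairs on normal elementary abelian
`p`-subgroups centralize, forces `p`-stability (normalizer form and normal-subgroup form).
-/

namespace Cfsg.Agent.Helper1
namespace QuadFree

universe u
open scoped commutatorElement Pointwise MatrixGroups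
open Cfsg.Agent.Helper2 (cj)
open Cfsg.Agent.Helper1.QuadStable

theorem involves_of_injective {H : Type*} [Group H] {D D' : Type*} [Group D] [Group D']
    (f : D' →* D) (hf : Function.Injective f) (h : Cfsg.Involves H D') : Cfsg.Involves H D := by
  obtain ⟨K, g, hg⟩ := Cfsg.Agent.Lead.exists_maps_of_involves h
  exact Cfsg.Agent.Lead.involves_of_maps (f.comp K.subtype) (hf.comp K.subtype_injective) g hg

theorem involves_of_surjective {H : Type*} [Group H] {D D' : Type*} [Group D] [Group D']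
    (f : D →* D') (hf : Function.Surjective f) (h : Cfsg.Involves H D') : Cfsg.Involves H D := by
  obtain ⟨K, g, hg⟩ := Cfsg.Agent.Lead.exists_maps_of_involves h
  exact Cfsg.Agent.Lead.involves_of_maps (K.comap f).subtype (Subgroup.subtype_injective _)
    (g.comp (f.subgroupComap K)) (hg.comp (f.subgroupComap_surjective_of_surjective K hf))

section generic

variable {p : ℕ} [hp : Fact p.Prime] (𝔉 : ∀ (X : Type u) [Group X], Prop)
  (hsub : ∀ (X : Type u) [Group X] (H : Subgroup X), 𝔉 X → 𝔉 H)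
  (hquot : ∀ (X : Type u) [Group X] (N : Subgroup X) [N.Normal], 𝔉 X → 𝔉 (X ⧸ N))
  (hea : ∀ (X : Type u) [Group X] [Finite X] (V : Subgroup X) [V.Normal],
    (∀ u ∈ V, ∀ v ∈ V, u * v = v * u) → (∀ v ∈ V, v ^ p = 1) → ∀ a y : X,
    ⁅⁅V, Subgroup.zpowers a⁆, Subgroup.zpowers a⁆ = ⊥ →
    ⁅⁅V, Subgroup.zpowers y⁆, Subgroup.zpowers y⁆ = ⊥ → 𝔉 X →
    ∀ d ∈ Subgroup.closure {a, y}, (orderOf d).Coprime p →
      d ∈ Subgroup.centralizer (V : Set X))

include hquot hea

theorem cent_of_quad_gen :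
    ∀ (n : ℕ) (X : Type u) [Group X] [Finite X] (P : Subgroup X) [P.Normal], IsPGroup p P →
      Nat.card P ≤ n → ∀ a y : X, ⁅⁅P, Subgroup.zpowers a⁆, Subgroup.zpowers a⁆ = ⊥ →
      ⁅⁅P, Subgroup.zpowers y⁆, Subgroup.zpowers y⁆ = ⊥ →
      𝔉 X → ∀ d ∈ Subgroup.closure {a, y},
      (orderOf d).Coprime p → d ∈ Subgroup.centralizer (P : Set X) := by
  intro n
  induction n with
  | zero =>
    intro X _ _ P _ hP hn
    have := Nat.card_pos (α := P)
    omega
  | succ n ih =>
    intro X _ _ P hPn hP hn a y hqa hqy hab d hd hdp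
    by_cases hP1 : P = ⊥
    · subst hP1
      rw [Subgroup.mem_centralizer_iff]
      intro x hx
      rw [SetLike.mem_coe, Subgroup.mem_bot] at hx
      subst hx; simp
    have hZ1 := omZ_ne_bot P hP hP1
    haveI hZn := omZ_normal p P
    obtain ⟨Z, hZ⟩ : ∃ Z, Z = omZ p P := ⟨_, rfl⟩
    rw [← hZ] at hZ1 hZn
    have hZP : Z ≤ P := hZ ▸ omZ_le p P
    have hdZ : d ∈ Subgroup.centralizer (Z : Set X) := by
      apply hea X Z ?_ ?_ a y (quad_mono hZP a hqa) (quad_mono hZP y hqy)
        hab d hd hdp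
      · intro u hu v hv
        rw [hZ] at hu
        exact hu.2.1 v (hZP hv)
      · intro v hv
        rw [hZ] at hv
        exact hv.2.2
    obtain ⟨π, hπ⟩ : ∃ π : X →* X ⧸ Z, π = QuotientGroup.mk' Z := ⟨_, rfl⟩
    have hcard : Nat.card (P.map π) ≤ n := by
      have h1 := card_map_mk'_mul_card Z P hZP
      rw [← hπ] at h1
      have h2 : 1 < Nat.card Z := by
        rw [Subgroup.one_lt_card_iff_ne_bot]; exact hZ1
      have h3 : 0 < Nat.card (P.map π) := Nat.card_pos
      nlinarith
    haveI : (P.map π).Normal :=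
      Subgroup.Normal.map hPn π (hπ ▸ QuotientGroup.mk'_surjective Z)
    have hπd : π d ∈ Subgroup.closure {π a, π y} := by
      have e : Subgroup.closure {π a, π y} = (Subgroup.closure {a, y}).map π := by
        rw [MonoidHom.map_closure, Set.image_pair]
      rw [e]; exact Subgroup.mem_map_of_mem π hd
    have hπdp : (orderOf (π d)).Coprime p :=
      Nat.Coprime.coprime_dvd_left (orderOf_map_dvd π d) hdp
    have key := ih (X ⧸ Z) (P.map π) (hP.map π) hcard (π a) (π y) (quad_map π P a hqa)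
      (quad_map π P y hqy) (hquot X Z hab) (π d) hπd hπdp
    rw [Subgroup.mem_centralizer_iff]
    intro x hx
    have h1 := Subgroup.mem_centralizer_iff.1 key (π x) (Subgroup.mem_map_of_mem π hx)
    have h2 : d * x * d⁻¹ * x⁻¹ ∈ Z := by
      rw [← QuotientGroup.eq_one_iff, ← QuotientGroup.mk'_apply, ← hπ]
      rw [map_mul, map_mul, map_mul, map_inv, map_inv, ← h1]
      group
    have h3 := Cfsg.Agent.Helper2.commute_of_stab hP hZP hdp (isOfFinOrder_of_finite d)
      (fun c hc => (Subgroup.mem_centralizer_iff.1 hdZ c hc).symm) hx h2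
    exact h3.symm

/-- a quadratic pair on a normal `p`-subgroup generates a `p`-group modulo the centralizer -/
theorem isPGroup_map_of_quad_gen {X : Type u} [Group X]
    [Finite X] (P : Subgroup X) [P.Normal] (hP : IsPGroup p P) (a y : X)
    (hqa : ⁅⁅P, Subgroup.zpowers a⁆, Subgroup.zpowers a⁆ = ⊥)
    (hqy : ⁅⁅P, Subgroup.zpowers y⁆, Subgroup.zpowers y⁆ = ⊥)
    (hab : 𝔉 X) {Y : Type*} [Group Y] (f : X →* Y)
    (hf : Subgroup.centralizer (P : Set X) ≤ f.ker) :
    IsPGroup p ((Subgroup.closure {a, y}).map f) := by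
  rintro ⟨_, d, hd, rfl⟩
  obtain ⟨k, hk⟩ : ∃ k, k = (orderOf d).factorization p := ⟨_, rfl⟩
  refine ⟨k, ?_⟩
  apply Subtype.ext
  simp only [Subgroup.coe_pow, Subgroup.coe_one]
  rw [← map_pow, ← MonoidHom.mem_ker]
  apply hf
  apply cent_of_quad_gen 𝔉 hquot hea _ X P hP le_rfl a y hqa hqy hab _
    (Subgroup.pow_mem _ hd _)
  have hpos : 0 < orderOf d := orderOf_pos d
  rw [orderOf_pow' d (pow_ne_zero k hp.out.ne_zero)]
  have hdvd : p ^ k ∣ orderOf d := hk ▸ Nat.ordProj_dvd (orderOf d) p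
  rw [Nat.gcd_eq_right hdvd, hk]
  exact (Nat.coprime_ordCompl hp.out hpos.ne').symm

/-- the core statement: a quadratically acting element lies in `O_p` modulo the centralizer -/
theorem mem_pCore_of_quad_gen {X : Type u} [Group X] [Finite X] (P : Subgroup X) [P.Normal]
    (hP : IsPGroup p P) (a : X) (hqa : ⁅⁅P, Subgroup.zpowers a⁆, Subgroup.zpowers a⁆ = ⊥)
    (hab : 𝔉 X) {Q : Type*} [Group Q] (f : X →* Q) (hfs : Function.Surjective f)
    (hf : Subgroup.centralizer (P : Set X) ≤ f.ker) : f a ∈ Cfsg.pCore p Q := by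
  haveI : Finite Q := Finite.of_surjective f hfs
  obtain ⟨B, hB⟩ : ∃ B : Subgroup Q, B = Subgroup.zpowers (f a) := ⟨_, rfl⟩
  have hpair : ∀ g : X, IsPGroup p ((Subgroup.closure {a, g * a * g⁻¹}).map f) := by
    intro g
    have hqb := Cfsg.Agent.Lead.Ab2GL2.quadConj P a g
      (by rw [Subgroup.normalizer_eq_top]; trivial) hqa
    exact isPGroup_map_of_quad_gen 𝔉 hquot hea P hP a _ hqa hqb hab f hf
  have hpg : ∀ g : Q, IsPGroup p ↥(B ⊔ cj g B) := by
    intro g
    obtain ⟨g, rfl⟩ := hfs g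
    apply (hpair g).to_le
    apply sup_le
    · rw [hB, Subgroup.zpowers_le]
      exact Subgroup.mem_map_of_mem f (Subgroup.subset_closure (by simp))
    · have e1 : cj (f g) B = Subgroup.zpowers (f (g * a * g⁻¹)) := by
        show B.map (MulAut.conj _).toMonoidHom = _
        rw [hB, MonoidHom.map_zpowers]
        simp
      rw [e1, Subgroup.zpowers_le]
      exact Subgroup.mem_map_of_mem f (Subgroup.subset_closure (by simp))
  have hBp : IsPGroup p B := (hpg 1).to_le le_sup_left
  obtain ⟨M, hMn, hMp, hle⟩ := Cfsg.Agent.Helper2.baer_suzuki B hBp hpg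
  exact le_pCore hMn hMp (hle (hB ▸ Subgroup.mem_zpowers _))

end generic

end QuadFree
end Cfsg.Agent.Helper1
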