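import Mathlib
import Cfsg.Agent.Helper1.QuadFreeA
import Cfsg.Prelude.Def_LocalEven
import Cfsg.Prelude.Def_PLocal

set_option autoImplicit false

/-!
Generic form of the `p`-stability argument: the two stability forms.
-/

namespace Cfsg.Agent.Helper1
namespace QuadFree

universe u
open scoped commutatorElement Pointwise MatrixGroups

section generic

variable {p : ℕ} [hp : Fact p.Prime] (𝔉 : ∀ (X : Type u) [Group X], Prop)
  (hsub : ∀ (X : Type u) [Group X] (H : Subgroup X), 𝔉 X → 𝔉 H)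
  (hquot : ∀ (X : Type u) [Group X] (N : Subgroup X) [N.Normal], 𝔉 X → 𝔉 (X ⧸ N))
  (hea : ∀ (X : Type u) [Group X] [Finite X] (V : Subgroup X) [V.Normal],
    (∀ u ∈ V, ∀ v ∈ V, u * v = v * u) → (∀ v ∈ V, v ^ p = 1) → ∀ a y : X,
    ⁅⁅V, Subgroup.zpowers a⁆, Subgroup.zpowers a⁆ = ⊥ →
    ⁅⁅V, Subgroup.zpowers y⁆, Subgroup.zpowers y⁆ = ⊥ → 𝔉 X →
    ∀ d ∈ Subgroup.closure {a, y}, (orderOf d).Coprime p →
      d ∈ Subgroup.centralizer (V : Set X))

include hquot hea

theorem isPStableOn_gen {X : Type u} [Group X] [Finite X] (hab : 𝔉 X) (P : Subgroup X)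
    [P.Normal] (hP : IsPGroup p P) : Cfsg.IsPStableOn p P := by
  intro a hq
  exact mem_pCore_of_quad_gen 𝔉 hquot hea P hP a hq hab
    (QuotientGroup.mk' (Subgroup.centralizer (P : Set X))) (QuotientGroup.mk'_surjective _)
    (by rw [QuotientGroup.ker_mk'])

include hsub

theorem isNormalizerPStable_gen {X : Type u} [Group X] [Finite X] (hab : 𝔉 X) :
    Cfsg.IsNormalizerPStable p X := by
  intro P hP g hg hq
  set N := Subgroup.normalizer (P : Set X) with hN
  set C := (Subgroup.centralizer (P : Set X)).subgroupOf N with hC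
  haveI hCn : C.Normal := by
    rw [hC, hN]; infer_instance
  haveI hPN : (P.subgroupOf N).Normal := by
    rw [hN]; exact Subgroup.normal_in_normalizer
  have hPNp : IsPGroup p (P.subgroupOf N) := hP.comap_subtype
  have hcent : Subgroup.centralizer ((P.subgroupOf N : Subgroup N) : Set N) ≤
      (QuotientGroup.mk' C).ker := by
    rw [QuotientGroup.ker_mk', hC]
    intro d hd
    rw [Subgroup.mem_subgroupOf, Subgroup.mem_centralizer_iff]
    intro x hx
    have hxN : x ∈ N := hN ▸ Subgroup.le_normalizer hx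
    have h1 := Subgroup.mem_centralizer_iff.1 hd ⟨x, hxN⟩ (Subgroup.mem_subgroupOf.2 hx)
    exact congrArg Subtype.val h1
  have hqa : ⁅⁅P.subgroupOf N, Subgroup.zpowers (⟨g, hg⟩ : N)⁆,
      Subgroup.zpowers (⟨g, hg⟩ : N)⁆ = ⊥ := by
    rw [← Subgroup.map_eq_bot_iff_of_injective _ N.subtype_injective, eq_bot_iff, ← hq,
      Subgroup.map_commutator, Subgroup.map_commutator]
    apply Subgroup.commutator_mono (Subgroup.commutator_mono ?_ ?_) ?_
    · rw [Subgroup.subgroupOf_map_subtype]; exact inf_le_left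
    · rw [MonoidHom.map_zpowers]; exact le_rfl
    · rw [MonoidHom.map_zpowers]; exact le_rfl
  exact mem_pCore_of_quad_gen 𝔉 hquot hea (P.subgroupOf N) hPNp ⟨g, hg⟩ hqa (hsub X N hab)
    (QuotientGroup.mk' C) (QuotientGroup.mk'_surjective C) hcent

end generic

end QuadFree
end Cfsg.Agent.Helper1
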