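import Mathlib
import Cfsg.Agent.Helper1.QuadFreeB
import Cfsg.Agent.Helper1.QdEA

set_option autoImplicit false

/-!
`Qd(p)`-free groups and `SL₂(p)`-free groups are `p`-stable (`p` odd).
-/

namespace Cfsg.Agent.Helper1
namespace QuadFree

universe u
open scoped commutatorElement Pointwise MatrixGroups
open Cfsg.Agent.Lead.QuadSL2

variable {p : ℕ} [hp : Fact p.Prime]

theorem qd_sub (X : Type u) [Group X] (H : Subgroup X)
    (h : ¬ Cfsg.Involves ↥(Cfsg.qd p) X) : ¬ Cfsg.Involves ↥(Cfsg.qd p) H :=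
  fun h' => h (involves_of_injective H.subtype H.subtype_injective h')

theorem qd_quot (X : Type u) [Group X] (N : Subgroup X) [N.Normal]
    (h : ¬ Cfsg.Involves ↥(Cfsg.qd p) X) : ¬ Cfsg.Involves ↥(Cfsg.qd p) (X ⧸ N) :=
  fun h' => h (involves_of_surjective (QuotientGroup.mk' N) (QuotientGroup.mk'_surjective N) h')

theorem inv_sub (X : Type u) [Group X] (H : Subgroup X)
    (h : ¬ Inv p X) : ¬ Inv p H :=
  fun h' => h (Inv.of_subgroup H h')

theorem inv_quot (X : Type u) [Group X] (N : Subgroup X) [N.Normal]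
    (h : ¬ Inv p X) : ¬ Inv p (X ⧸ N) :=
  fun h' => h (Inv.of_surjective (QuotientGroup.mk' N) (QuotientGroup.mk'_surjective N) h')

theorem isNormalizerPStable_of_qd_free (hp2 : p ≠ 2) {X : Type u} [Group X] [Finite X]
    (h : ¬ Cfsg.Involves ↥(Cfsg.qd p) X) : Cfsg.IsNormalizerPStable p X :=
  isNormalizerPStable_gen (fun X _ => ¬ Cfsg.Involves ↥(Cfsg.qd p) X) qd_sub qd_quot
    (fun X _ _ V _ hab hexp a y hqa hqy hfree d hd hdp =>
      QdEA.centralizesElemQd hp2 V hab hexp a y hqa hqy hfree d hd hdp) h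

theorem isPStableOn_of_qd_free (hp2 : p ≠ 2) {X : Type u} [Group X] [Finite X]
    (h : ¬ Cfsg.Involves ↥(Cfsg.qd p) X) (P : Subgroup X) [P.Normal] (hP : IsPGroup p P) :
    Cfsg.IsPStableOn p P :=
  isPStableOn_gen (fun X _ => ¬ Cfsg.Involves ↥(Cfsg.qd p) X) qd_quot
    (fun X _ _ V _ hab hexp a y hqa hqy hfree d hd hdp =>
      QdEA.centralizesElemQd hp2 V hab hexp a y hqa hqy hfree d hd hdp) h P hP

theorem isNormalizerPStable_of_not_inv (hp2 : p ≠ 2) {X : Type u} [Group X] [Finite X]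
    (h : ¬ Inv p X) : Cfsg.IsNormalizerPStable p X :=
  isNormalizerPStable_gen (fun X _ => ¬ Inv p X) inv_sub inv_quot
    (fun X _ _ V _ hab hexp a y hqa hqy hfree d hd hdp =>
      centralizesElemInv hp2 V hab hexp a y hqa hqy
        (fun h' => hfree (Inv.of_subgroup _ h')) d hd hdp) h

theorem isPStableOn_of_not_inv (hp2 : p ≠ 2) {X : Type u} [Group X] [Finite X]
    (h : ¬ Inv p X) (P : Subgroup X) [P.Normal] (hP : IsPGroup p P) :
    Cfsg.IsPStableOn p P :=
  isPStableOn_gen (fun X _ => ¬ Inv p X) inv_quot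
    (fun X _ _ V _ hab hexp a y hqa hqy hfree d hd hdp =>
      centralizesElemInv hp2 V hab hexp a y hqa hqy
        (fun h' => hfree (Inv.of_subgroup _ h')) d hd hdp) h P hP

end QuadFree
end Cfsg.Agent.Helper1
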