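import Mathlib
import Cfsg.Prelude
import Cfsg.Agent.Lead.FamilyFusion
import Cfsg.Agent.Helper5.TransferFunctor
import Cfsg.Agent.Helper1.Cores
import Cfsg.Agent.Helper1.Fitting

/-!
Glauberman's local-to-global theorems for isomorphism-invariant `p`-group functors via
`p`-constrained sections: basic plumbing (sections, transport of control along injective
homomorphisms, `p`-constraint).
-/

set_option autoImplicit false

universe u

namespace Cfsg.Agent.Helper1.FT

open Cfsg Cfsg.Agent.Lead Cfsg.Agent.Helper5.TF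

variable {p : ℕ}

/-- An isomorphism-invariant functor commutes with homomorphisms injective on the subgroup. -/
theorem inducedFunctor_map_injOn {X Y : Type u} [Group X] [Group Y]
    (W : ∀ (Q : Type u) [Group Q], Subgroup Q) (hW : Cfsg.IsCharPFunctor.{u} p W)
    (f : X →* Y) (T : Subgroup X) [Finite T] (hT : IsPGroup p T)
    (hf : ∀ t ∈ T, f t = 1 → t = 1) :
    Cfsg.inducedFunctor W (T.map f) = (Cfsg.inducedFunctor W T).map f := by
  unfold Cfsg.inducedFunctor
  have hinj : Function.Injective (f.subgroupMap T) := by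
    rw [injective_iff_map_eq_one]
    intro t ht
    apply Subtype.ext
    apply hf t t.2
    have := congrArg Subtype.val ht
    simpa using this
  let e : ↥T ≃* ↥(T.map f) :=
    MulEquiv.ofBijective (f.subgroupMap T) ⟨hinj, f.subgroupMap_surjective T⟩
  have h := hW.2 ↥T ↥(T.map f) hT e
  rw [← h, Subgroup.map_map, Subgroup.map_map]
  congr 1

theorem isConjugacyFunctor_induced {X : Type u} [Group X] [Finite X]
    (W : ∀ (Q : Type u) [Group Q], Subgroup Q) (hW : Cfsg.IsCharPFunctor.{u} p W) :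
    Cfsg.IsConjugacyFunctor p (Cfsg.inducedFunctor (G := X) W) := by
  intro P hP
  refine ⟨Subgroup.map_subtype_le _, ?_, ?_⟩
  · intro hPne
    have hnt : Nontrivial ↥P := (Subgroup.nontrivial_iff_ne_bot P).mpr hPne
    have h1 := hW.1 ↥P hP hnt
    intro h2
    apply h1
    unfold Cfsg.inducedFunctor at h2
    exact (Subgroup.map_eq_bot_iff_of_injective _ P.subtype_injective).mp h2
  · intro g
    exact inducedFunctor_map W hW (MulAut.conj g).toMonoidHom (MulAut.conj g).injective P hP

/-- The conjugacy functors on `X` induced by a set of isomorphism-invariant functors. -/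
def ind (𝓦 : Set (∀ (Q : Type u) [Group Q], Subgroup Q)) (X : Type u) [Group X] :
    Set (Subgroup X → Subgroup X) :=
  (fun W => Cfsg.inducedFunctor (G := X) W) '' 𝓦

theorem ind_isConj {𝓦 : Set (∀ (Q : Type u) [Group Q], Subgroup Q)}
    (h𝓦 : ∀ W ∈ 𝓦, Cfsg.IsCharPFunctor.{u} p W) (X : Type u) [Group X] [Finite X] :
    ∀ V ∈ ind 𝓦 X, Cfsg.IsConjugacyFunctor p V := by
  rintro _ ⟨W, hW, rfl⟩
  exact isConjugacyFunctor_induced W (h𝓦 W hW)

/-! ### Sections -/

theorem isSectionOf_refl (X : Type u) [Group X] : IsSectionOf X X :=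
  ⟨⊤, (Subgroup.topEquiv : ↥(⊤ : Subgroup X) ≃* X).toMonoidHom,
    (Subgroup.topEquiv : ↥(⊤ : Subgroup X) ≃* X).surjective⟩

theorem isSectionOf_subgroup {X : Type u} [Group X] (H : Subgroup X) : IsSectionOf ↥H X :=
  ⟨H, MonoidHom.id _, Function.surjective_id⟩

theorem isSectionOf_quotient {X : Type u} [Group X] (N : Subgroup X) [N.Normal] :
    IsSectionOf (X ⧸ N) X :=
  ⟨⊤, (QuotientGroup.mk' N).comp (Subgroup.topEquiv : ↥(⊤ : Subgroup X) ≃* X).toMonoidHom,
    (QuotientGroup.mk'_surjective N).comp (Subgroup.topEquiv : ↥(⊤ : Subgroup X) ≃* X).surjective⟩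

theorem IsSectionOf.trans {X Y Z : Type u} [Group X] [Group Y] [Group Z]
    (h2 : IsSectionOf Z Y) (h1 : IsSectionOf Y X) : IsSectionOf Z X := by
  obtain ⟨K, f, hf⟩ := h1
  obtain ⟨K', f', hf'⟩ := h2
  refine ⟨(K'.comap f).map K.subtype,
    f'.comp ((f.subgroupComap K').comp
      ((K'.comap f).equivMapOfInjective K.subtype K.subtype_injective).symm.toMonoidHom), ?_⟩
  exact hf'.comp ((f.subgroupComap_surjective_of_surjective K' hf).comp (MulEquiv.surjective _))

/-! ### `p`-constraint -/

/-- `C_X(O_p(X)) ≤ O_p(X)`. -/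
def PC (p : ℕ) (X : Type*) [Group X] : Prop :=
  Subgroup.centralizer ((Cfsg.pCore p X : Subgroup X) : Set X) ≤ Cfsg.pCore p X

theorem pCore_map_equiv [Fact p.Prime] {X Y : Type*} [Group X] [Group Y] (e : X ≃* Y) :
    (Cfsg.pCore p X).map e.toMonoidHom = Cfsg.pCore p Y := by
  apply le_antisymm
  · apply le_pCore
    · exact Subgroup.Normal.map inferInstance _ e.surjective
    · exact (pCore_isPGroup p).map _
  · have h1 : (Cfsg.pCore p Y).map e.symm.toMonoidHom ≤ Cfsg.pCore p X := by
      apply le_pCore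
      · exact Subgroup.Normal.map inferInstance _ e.symm.surjective
      · exact (pCore_isPGroup p).map _
    intro y hy
    refine ⟨e.symm y, h1 ⟨y, hy, rfl⟩, ?_⟩
    simp

theorem PC.of_equiv [Fact p.Prime] {X Y : Type*} [Group X] [Group Y] (e : X ≃* Y) (h : PC p X) :
    PC p Y := by
  intro y hy
  have hx : e.symm y ∈ Subgroup.centralizer ((Cfsg.pCore p X : Subgroup X) : Set X) := by
    rw [Subgroup.mem_centralizer_iff]
    intro q hq
    have hq' : e q ∈ Cfsg.pCore p Y := by
      rw [← pCore_map_equiv e]; exact ⟨q, hq, rfl⟩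
    have h1 := (Subgroup.mem_centralizer_iff.mp hy) (e q) hq'
    apply e.injective
    simpa using h1
  have h2 := h hx
  rw [← pCore_map_equiv e]
  exact ⟨e.symm y, h2, by simp⟩

/-! ### Transport of control of transfer along an injective homomorphism -/

theorem map_normalizer_of_injective {Y Z : Type*} [Group Y] [Group Z] (f : Y →* Z)
    (hf : Function.Injective f) (K : Subgroup Y) :
    (Subgroup.normalizer (K : Set Y)).map f = f.range ⊓ Subgroup.normalizer ((K.map f : Subgroup Z) : Set Z) := by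
  apply le_antisymm
  · refine le_inf ?_ (Subgroup.le_normalizer_map f)
    rintro _ ⟨y, -, rfl⟩
    exact ⟨y, rfl⟩
  · rintro z ⟨⟨y, rfl⟩, hz⟩
    refine ⟨y, ?_, rfl⟩
    have hz : f y ∈ Subgroup.normalizer ((K.map f : Subgroup Z) : Set Z) := hz
    show y ∈ Subgroup.normalizer (K : Set Y)
    rw [Subgroup.mem_normalizer_iff] at hz ⊢
    intro k
    have h1 := hz (f k)
    rw [Subgroup.mem_map_iff_mem hf] at h1
    rw [h1, ← map_inv, ← map_mul, ← map_mul, Subgroup.mem_map_iff_mem hf]

theorem tf_map_injective [Fact p.Prime] {Y Z : Type u} [Group Y] [Group Z] [Finite Y]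
    (𝓦 : Set (∀ (Q : Type u) [Group Q], Subgroup Q))
    (h𝓦 : ∀ W ∈ 𝓦, Cfsg.IsCharPFunctor.{u} p W)
    (f : Y →* Z) (hf : Function.Injective f)
    (h : Cfsg.FamilyControlsTransferIn p (ind 𝓦 Y) ⊤) :
    Cfsg.FamilyControlsTransferIn p (ind 𝓦 Z) f.range := by
  obtain ⟨T, -, hTp, hidx, heq⟩ := h
  refine ⟨T.map f, ?_, hTp.map f, ?_, ?_⟩
  · rintro _ ⟨t, -, rfl⟩
    exact ⟨t, rfl⟩
  · rw [MonoidHom.range_eq_map, Subgroup.relIndex_map_map_of_injective _ _ hf]
    exact hidx
  · have h1 := congrArg (Subgroup.map f) heq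
    rw [Subgroup.map_inf _ _ _ hf, Subgroup.map_commutator, ← MonoidHom.range_eq_map] at h1
    rw [h1]
    unfold ind
    rw [iSup_image, iSup_image, Subgroup.map_iSup]
    refine iSup_congr fun W => ?_
    rw [Subgroup.map_iSup]
    refine iSup_congr fun hW => ?_
    rw [Subgroup.map_inf _ _ _ hf, Subgroup.map_commutator, top_inf_eq,
      map_normalizer_of_injective f hf, inducedFunctor_map W (h𝓦 W hW) f hf T hTp]

end Cfsg.Agent.Helper1.FT
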