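import Mathlib

set_option autoImplicit false

/-!
Section formula, Mackey decomposition and transitivity for the transfer homomorphism.
-/

namespace Cfsg.Agent.Helper1

open MonoidHom Subgroup MulAction

variable {G : Type*} [Group G] {H : Subgroup G} {A : Type*} [CommGroup A]

theorem transferSec_mem (f : G ⧸ H → G) (hf : ∀ q, (f q : G ⧸ H) = q) (g : G) (q : G ⧸ H) :
    (f q)⁻¹ * g * f (g⁻¹ • q) ∈ H := by
  rw [mul_assoc, ← QuotientGroup.eq, hf]
  have h1 : ((g * f (g⁻¹ • q) : G) : G ⧸ H) = g • ((f (g⁻¹ • q) : G) : G ⧸ H) := rfl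
  rw [h1, hf, smul_inv_smul]

/-- the transfer computed from an arbitrary section of `G → G ⧸ H` -/
theorem transfer_eq_prod_section [H.FiniteIndex] [Fintype (G ⧸ H)] (ϕ : H →* A) (f : G ⧸ H → G)
    (hf : ∀ q, (f q : G ⧸ H) = q) (g : G) :
    transfer ϕ g = ∏ q : G ⧸ H, ϕ ⟨(f q)⁻¹ * g * f (g⁻¹ • q), transferSec_mem f hf g q⟩ := by
  classical
  rename_i inst
  have hinst : inst = H.fintypeQuotientOfFiniteIndex := Subsingleton.elim _ _
  subst hinst
  let T : H.LeftTransversal := ⟨Set.range f, isComplement_range_left hf⟩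
  rw [transfer_def ϕ T g]
  unfold leftTransversals.diff
  refine Finset.prod_congr rfl (fun q _ => ?_)
  congr 1
  apply Subtype.ext
  show ((T.2.leftQuotientEquiv q : Set.range f) : G)⁻¹ * (((g • T).2.leftQuotientEquiv q : _) : G)
    = (f q)⁻¹ * g * f (g⁻¹ • q)
  rw [smul_apply_eq_smul_apply_inv_smul]
  have h1 : ((T.2.leftQuotientEquiv q : Set.range f) : G) = f q :=
    IsComplement.leftQuotientEquiv_apply hf q
  have h2 : ((T.2.leftQuotientEquiv (g⁻¹ • q) : Set.range f) : G) = f (g⁻¹ • q) :=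
    IsComplement.leftQuotientEquiv_apply hf _
  rw [h1, h2, smul_eq_mul, mul_assoc]

theorem transferIdx_mem {ι : Type*} (r : ι → G) (g : G) (σ : ι → ι)
    (hσ : ∀ i, (r (σ i) : G ⧸ H) = g⁻¹ • (r i : G ⧸ H)) (i : ι) :
    (r i)⁻¹ * g * r (σ i) ∈ H := by
  rw [mul_assoc, ← QuotientGroup.eq]
  have h1 : ((g * r (σ i) : G) : G ⧸ H) = g • ((r (σ i) : G) : G ⧸ H) := rfl
  rw [h1, hσ, smul_inv_smul]

/-- the transfer computed from an arbitrary indexed family of coset representatives -/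
theorem transfer_eq_prod_index [H.FiniteIndex] {ι : Type*} [Fintype ι] (ϕ : H →* A) (r : ι → G)
    (hr : Function.Bijective (fun i => (r i : G ⧸ H))) (g : G) (σ : ι → ι)
    (hσ : ∀ i, (r (σ i) : G ⧸ H) = g⁻¹ • (r i : G ⧸ H)) :
    transfer ϕ g = ∏ i, ϕ ⟨(r i)⁻¹ * g * r (σ i), transferIdx_mem r g σ hσ i⟩ := by
  classical
  let e : ι ≃ G ⧸ H := Equiv.ofBijective _ hr
  letI : Fintype (G ⧸ H) := Fintype.ofEquiv ι e
  have he : ∀ i, e i = (r i : G ⧸ H) := fun i => rfl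
  have hf : ∀ q, ((r (e.symm q) : G) : G ⧸ H) = q := fun q => by
    rw [← he, Equiv.apply_symm_apply]
  rw [transfer_eq_prod_section ϕ (fun q => r (e.symm q)) hf g]
  rw [← Equiv.prod_comp e]
  refine Finset.prod_congr rfl (fun i _ => ?_)
  congr 1
  apply Subtype.ext
  have h1 : e.symm (e i) = i := Equiv.symm_apply_apply e i
  have h2 : e.symm (g⁻¹ • e i) = σ i := by
    rw [Equiv.symm_apply_eq, he, he, hσ]
  show (r (e.symm (e i)))⁻¹ * g * r (e.symm (g⁻¹ • e i)) = (r i)⁻¹ * g * r (σ i)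
  rw [h1, h2]

/-- transitivity of the transfer -/
theorem transfer_trans [Finite G] {K L : Subgroup G} (hKL : K ≤ L) (ϕ : K →* A) (g : G) :
    transfer ϕ g =
      transfer (transfer (ϕ.comp (Subgroup.subgroupOfEquivOfLe hKL).toMonoidHom)) g := by
  classical
  letI : Fintype (G ⧸ L) := Fintype.ofFinite _
  letI : Fintype (L ⧸ K.subgroupOf L) := Fintype.ofFinite _
  set ϕ' := ϕ.comp (Subgroup.subgroupOfEquivOfLe hKL).toMonoidHom with hϕ'
  let hy : G ⧸ L → L := fun y =>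
    ⟨(y.out)⁻¹ * g * (g⁻¹ • y).out, transferSec_mem Quotient.out QuotientGroup.out_eq' g y⟩
  let r : (G ⧸ L) × (L ⧸ K.subgroupOf L) → G := fun x => x.1.out * ((x.2.out : L) : G)
  let σ : (G ⧸ L) × (L ⧸ K.subgroupOf L) → (G ⧸ L) × (L ⧸ K.subgroupOf L) :=
    fun x => (g⁻¹ • x.1, (hy x.1)⁻¹ • x.2)
  have hrL : ∀ x, ((r x : G) : G ⧸ L) = x.1 := by
    intro x
    show ((x.1.out * ((x.2.out : L) : G) : G) : G ⧸ L) = x.1
    rw [QuotientGroup.mk_mul_of_mem _ (x.2.out : L).2, QuotientGroup.out_eq']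
  have hr : Function.Bijective (fun i => ((r i : G) : G ⧸ K)) := by
    constructor
    · rintro ⟨y, c⟩ ⟨y', c'⟩ h
      have h0 : (r (y, c))⁻¹ * r (y', c') ∈ K := QuotientGroup.eq.1 h
      have h1 : ((r (y, c) : G) : G ⧸ L) = ((r (y', c') : G) : G ⧸ L) :=
        QuotientGroup.eq.2 (hKL h0)
      rw [hrL, hrL] at h1
      change y = y' at h1
      subst h1
      have h2 : (c.out : L)⁻¹ * (c'.out : L) ∈ K.subgroupOf L := by
        rw [Subgroup.mem_subgroupOf]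
        have : (r (y, c))⁻¹ * r (y, c') = (((c.out : L)⁻¹ * (c'.out : L) : L) : G) := by
          show (y.out * ((c.out : L) : G))⁻¹ * (y.out * ((c'.out : L) : G)) = _
          rw [Subgroup.coe_mul, Subgroup.coe_inv]; group
        rw [← this]; exact h0
      have h3 : ((c.out : L) : L ⧸ K.subgroupOf L) = ((c'.out : L) : L ⧸ K.subgroupOf L) :=
        QuotientGroup.eq.2 h2
      rw [QuotientGroup.out_eq', QuotientGroup.out_eq'] at h3
      rw [h3]
    · intro x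
      obtain ⟨a, rfl⟩ := QuotientGroup.mk_surjective x
      set y : G ⧸ L := (a : G ⧸ L) with hy_def
      have hmem : y.out⁻¹ * a ∈ L := QuotientGroup.eq.1 (QuotientGroup.out_eq' y)
      set h : L := ⟨y.out⁻¹ * a, hmem⟩ with hh
      set c : L ⧸ K.subgroupOf L := (h : L ⧸ K.subgroupOf L) with hc
      have hc2 : (c.out : L)⁻¹ * h ∈ K.subgroupOf L := QuotientGroup.eq.1 (QuotientGroup.out_eq' c)
      refine ⟨(y, c), ?_⟩
      show ((y.out * ((c.out : L) : G) : G) : G ⧸ K) = (a : G ⧸ K)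
      rw [QuotientGroup.eq]
      rw [Subgroup.mem_subgroupOf] at hc2
      have : (y.out * ((c.out : L) : G))⁻¹ * a = (((c.out : L)⁻¹ * h : L) : G) := by
        rw [Subgroup.coe_mul, Subgroup.coe_inv, hh]; group
      rw [this]; exact hc2
  have hσ : ∀ i, ((r (σ i) : G) : G ⧸ K) = g⁻¹ • ((r i : G) : G ⧸ K) := by
    rintro ⟨y, c⟩
    show (((g⁻¹ • y).out * ((((hy y)⁻¹ • c).out : L) : G) : G) : G ⧸ K) =
      ((g⁻¹ * (y.out * ((c.out : L) : G)) : G) : G ⧸ K)
    rw [QuotientGroup.eq]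
    set d : L ⧸ K.subgroupOf L := (hy y)⁻¹ • c with hd
    have hd1 : d = (((hy y)⁻¹ * (c.out : L) : L) : L ⧸ K.subgroupOf L) := by
      rw [hd]
      conv_lhs => rw [← QuotientGroup.out_eq' c]
      rfl
    have hd2 : (d.out : L)⁻¹ * ((hy y)⁻¹ * (c.out : L)) ∈ K.subgroupOf L :=
      QuotientGroup.eq.1 ((QuotientGroup.out_eq' d).trans hd1)
    rw [Subgroup.mem_subgroupOf] at hd2
    have : ((g⁻¹ • y).out * ((d.out : L) : G))⁻¹ * (g⁻¹ * (y.out * ((c.out : L) : G))) =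
        (((d.out : L)⁻¹ * ((hy y)⁻¹ * (c.out : L)) : L) : G) := by
      simp only [Subgroup.coe_mul, Subgroup.coe_inv, hy]
      group
    rw [this]; exact hd2
  rw [transfer_eq_prod_index ϕ r hr g σ hσ]
  rw [transfer_eq_prod_section (transfer ϕ') Quotient.out QuotientGroup.out_eq' g]
  rw [Fintype.prod_prod_type]
  refine Finset.prod_congr rfl (fun y _ => ?_)
  have hyy : (⟨(y.out)⁻¹ * g * (g⁻¹ • y).out,
      transferSec_mem Quotient.out QuotientGroup.out_eq' g y⟩ : L) = hy y := rfl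
  rw [hyy, transfer_eq_prod_section ϕ' Quotient.out QuotientGroup.out_eq' (hy y)]
  refine Finset.prod_congr rfl (fun c _ => ?_)
  rw [hϕ']
  show ϕ _ = ϕ ((Subgroup.subgroupOfEquivOfLe hKL) _)
  congr 1
  apply Subtype.ext
  show (y.out * ((c.out : L) : G))⁻¹ * g * ((g⁻¹ • y).out * ((((hy y)⁻¹ • c).out : L) : G)) = _
  simp only [Subgroup.subgroupOfEquivOfLe_apply_coe, Subgroup.coe_mul, Subgroup.coe_inv, hy]
  group

theorem conjStab_mem (K : Subgroup G) (t : G) (c : stabilizer K ((t : G) : G ⧸ H)) :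
    t⁻¹ * ((c : K) : G) * t ∈ H := by
  have h1 : (c : K) • ((t : G) : G ⧸ H) = ((t : G) : G ⧸ H) := c.2
  have h2 : ((((c : K) : G) * t : G) : G ⧸ H) = ((t : G) : G ⧸ H) := h1
  rw [mul_assoc]
  exact QuotientGroup.eq.1 h2.symm

/-- conjugated restriction of `ϕ` to the stabilizer in `K` of the coset `tH` -/
def conjStabHom (ϕ : H →* A) (K : Subgroup G) (t : G) :
    stabilizer K ((t : G) : G ⧸ H) →* A where
  toFun c := ϕ ⟨t⁻¹ * ((c : K) : G) * t, conjStab_mem K t c⟩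
  map_one' := by
    have : (⟨t⁻¹ * (((1 : stabilizer K ((t : G) : G ⧸ H)) : K) : G) * t,
        conjStab_mem K t 1⟩ : H) = 1 := by
      apply Subtype.ext; simp
    rw [this, map_one]
  map_mul' a b := by
    rw [← map_mul]
    congr 1
    apply Subtype.ext
    simp [mul_assoc]

theorem conjStabHom_apply (ϕ : H →* A) (K : Subgroup G) (t : G)
    (c : stabilizer K ((t : G) : G ⧸ H)) :
    conjStabHom ϕ K t c = ϕ ⟨t⁻¹ * ((c : K) : G) * t, conjStab_mem K t c⟩ := rfl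

/-- Mackey decomposition of the transfer restricted to a subgroup `K` -/
theorem transfer_mackey [Finite G] (ϕ : H →* A) (K : Subgroup G)
    [Fintype (orbitRel.Quotient K (G ⧸ H))] (k : K) :
    transfer ϕ (k : G) =
      ∏ ω : orbitRel.Quotient K (G ⧸ H), transfer (conjStabHom ϕ K ω.out.out) k := by
  classical
  letI : ∀ ω : orbitRel.Quotient K (G ⧸ H),
      Fintype (K ⧸ stabilizer K ((ω.out.out : G) : G ⧸ H)) := fun ω => Fintype.ofFinite _
  let q₀ : orbitRel.Quotient K (G ⧸ H) → G ⧸ H := fun ω => ((ω.out.out : G) : G ⧸ H)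
  have hq₀ : ∀ ω, (Quotient.mk'' (q₀ ω) : orbitRel.Quotient K (G ⧸ H)) = ω := by
    intro ω
    show Quotient.mk'' ((ω.out.out : G) : G ⧸ H) = ω
    rw [QuotientGroup.out_eq', Quotient.out_eq']
  have hsm : ∀ (c : K) (q : G ⧸ H),
      (Quotient.mk'' (c • q) : orbitRel.Quotient K (G ⧸ H)) = Quotient.mk'' q := by
    intro c q
    exact Quotient.sound' ⟨c, rfl⟩
  let ι := Σ ω : orbitRel.Quotient K (G ⧸ H), K ⧸ stabilizer K ((ω.out.out : G) : G ⧸ H)
  let r : ι → G := fun x => ((x.2.out : K) : G) * x.1.out.out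
  let σ : ι → ι := fun x => ⟨x.1, k⁻¹ • x.2⟩
  have hrq : ∀ x : ι, ((r x : G) : G ⧸ H) = (x.2.out : K) • q₀ x.1 := fun x => rfl
  have houtsmul : ∀ (ω : orbitRel.Quotient K (G ⧸ H)) (c : K),
      (((c : K ⧸ stabilizer K (q₀ ω)).out : K)) • q₀ ω = c • q₀ ω := by
    intro ω c
    have h1 : ((c : K ⧸ stabilizer K (q₀ ω)).out : K)⁻¹ * c ∈ stabilizer K (q₀ ω) :=
      QuotientGroup.eq.1 (QuotientGroup.out_eq' _)
    have h2 : (((c : K ⧸ stabilizer K (q₀ ω)).out : K)⁻¹ * c) • q₀ ω = q₀ ω := h1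
    rw [mul_smul, inv_smul_eq_iff] at h2
    exact h2.symm
  have hr : Function.Bijective (fun i => ((r i : G) : G ⧸ H)) := by
    constructor
    · rintro ⟨ω, c⟩ ⟨ω', c'⟩ h
      have h0 : (c.out : K) • q₀ ω = (c'.out : K) • q₀ ω' := h
      have h1 : ω = ω' := by
        rw [← hq₀ ω, ← hq₀ ω', ← hsm c.out (q₀ ω), ← hsm c'.out (q₀ ω'), h0]
      subst h1
      have h2 : ((c.out : K)⁻¹ * (c'.out : K)) • q₀ ω = q₀ ω := by
        rw [mul_smul, ← h0, inv_smul_smul]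
      have h3 : ((c.out : K) : K ⧸ stabilizer K (q₀ ω)) = ((c'.out : K) : K ⧸ stabilizer K (q₀ ω)) :=
        QuotientGroup.eq.2 h2
      rw [QuotientGroup.out_eq', QuotientGroup.out_eq'] at h3
      rw [h3]
    · intro q
      set ω : orbitRel.Quotient K (G ⧸ H) := Quotient.mk'' q with hω
      have h1 : (Quotient.mk'' (q₀ ω) : orbitRel.Quotient K (G ⧸ H)) = Quotient.mk'' q := hq₀ ω
      obtain ⟨c, hc⟩ : ∃ c : K, c • q = q₀ ω := Quotient.exact' h1
      refine ⟨⟨ω, ((c⁻¹ : K) : K ⧸ stabilizer K (q₀ ω))⟩, ?_⟩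
      show (((c⁻¹ : K) : K ⧸ stabilizer K (q₀ ω)).out : K) • q₀ ω = q
      rw [houtsmul, ← hc, inv_smul_smul]
  have hσ : ∀ i, ((r (σ i) : G) : G ⧸ H) = (k : G)⁻¹ • ((r i : G) : G ⧸ H) := by
    rintro ⟨ω, c⟩
    rw [hrq, hrq]
    show ((k⁻¹ • c).out : K) • q₀ ω = (k : G)⁻¹ • ((c.out : K) • q₀ ω)
    have h1 : k⁻¹ • c = ((k⁻¹ * (c.out : K) : K) : K ⧸ stabilizer K (q₀ ω)) := by
      conv_lhs => rw [← QuotientGroup.out_eq' c]
      rfl
    rw [h1, houtsmul, mul_smul]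
    rfl
  rw [transfer_eq_prod_index ϕ r hr (k : G) σ hσ]
  rw [Fintype.prod_sigma]
  refine Finset.prod_congr rfl (fun ω _ => ?_)
  rw [transfer_eq_prod_section (conjStabHom ϕ K ω.out.out) Quotient.out QuotientGroup.out_eq' k]
  refine Finset.prod_congr rfl (fun c _ => ?_)
  rw [conjStabHom_apply]
  congr 1
  apply Subtype.ext
  show (((c.out : K) : G) * ω.out.out)⁻¹ * (k : G) * ((((k⁻¹ • c).out : K) : G) * ω.out.out) = _
  simp only [Subgroup.coe_mul, Subgroup.coe_inv]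
  group

end Cfsg.Agent.Helper1
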