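import Mathlib
import Cfsg.Agent.Helper1.FTA
import Cfsg.Agent.Helper1.TransferSec
import Cfsg.Agent.Helper1.Card
import Cfsg.Agent.Helper5.NormalPComplement
import Cfsg.Agent.Helper5.SylowSub

/-!
Glauberman's local-to-global theorems via `p`-constrained sections: group-theoretic lemmas
(transfer evaluation on a normal `p`-subgroup, `p`-constraint criterion, Frattini lifting).
-/

set_option autoImplicit false

universe u

namespace Cfsg.Agent.Helper1.FT

open Cfsg Cfsg.Agent.Lead Cfsg.Agent.Helper5.TF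

variable {p : ℕ}

/-- Transfer evaluation: an element `x` of a normal `p`-subgroup lying in `G'`, all of whose
conjugates are congruent to `x` modulo `F ≥ S'`, lies in `F`. -/
theorem mem_of_transfer {X : Type*} [Group X] [Finite X] [hp : Fact p.Prime] (S : Sylow p X)
    (F : Subgroup X) (hcomm : ⁅(S : Subgroup X), (S : Subgroup X)⁆ ≤ F)
    (Q : Subgroup X) [hQ : Q.Normal] (hQS : Q ≤ (S : Subgroup X)) (x : X) (hxQ : x ∈ Q)
    (hx' : x ∈ commutator X) (key : ∀ g : X, x⁻¹ * (g⁻¹ * x * g) ∈ F) : x ∈ F := by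
  classical
  set S₀ : Subgroup X := (S : Subgroup X) with hS₀
  set N : Subgroup ↥S₀ := F.subgroupOf S₀ with hN
  let φ : ↥S₀ →* (Abelianization ↥S₀ ⧸ N.map Abelianization.of) :=
    (QuotientGroup.mk' _).comp Abelianization.of
  have hker : ∀ t : ↥S₀, φ t = 1 → t ∈ N := by
    intro t ht
    have h1 : Abelianization.of t ∈ N.map Abelianization.of :=
      (QuotientGroup.eq_one_iff _).mp ht
    obtain ⟨n, hn, hnt⟩ := h1
    have h2 : Abelianization.of (n⁻¹ * t) = 1 := by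
      rw [map_mul, map_inv, hnt, inv_mul_cancel]
    have h3 : n⁻¹ * t ∈ commutator ↥S₀ := by
      rw [← Abelianization.ker_of]; exact h2
    have h4 : ((n⁻¹ * t : ↥S₀) : X) ∈ ⁅S₀, S₀⁆ := by
      rw [← Subgroup.map_subtype_commutator]
      exact ⟨_, h3, rfl⟩
    have h5 : n⁻¹ * t ∈ N := Subgroup.mem_subgroupOf.mpr (hcomm h4)
    have := N.mul_mem hn h5
    rwa [mul_inv_cancel_left] at this
  haveI : Fintype (X ⧸ S₀) := Fintype.ofFinite _
  have hxS : x ∈ S₀ := hQS hxQ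
  have hfix : ∀ q : X ⧸ S₀, x⁻¹ • q = q := by
    intro q
    induction q using QuotientGroup.induction_on with
    | H g =>
      show ((x⁻¹ * g : X) : X ⧸ S₀) = (g : X ⧸ S₀)
      rw [eq_comm, QuotientGroup.eq]
      have h1 : g⁻¹ * x⁻¹ * g ∈ Q := by
        have := hQ.conj_mem x⁻¹ (Q.inv_mem hxQ) g⁻¹
        simpa using this
      have : g⁻¹ * (x⁻¹ * g) = g⁻¹ * x⁻¹ * g := by group
      rw [this]
      exact hQS h1
  have hf : ∀ q : X ⧸ S₀, ((Quotient.out q : X) : X ⧸ S₀) = q := fun q => QuotientGroup.out_eq' q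
  have htr := transfer_eq_prod_section φ (fun q : X ⧸ S₀ => (Quotient.out q : X)) hf x
  have hterm : ∀ q : X ⧸ S₀,
      φ ⟨(Quotient.out q : X)⁻¹ * x * Quotient.out (x⁻¹ • q),
        transferSec_mem (fun q : X ⧸ S₀ => (Quotient.out q : X)) hf x q⟩ = φ ⟨x, hxS⟩ := by
    intro q
    have hmem : (Quotient.out q : X)⁻¹ * x * Quotient.out q ∈ S₀ := by
      have := hQ.conj_mem x hxQ (Quotient.out q : X)⁻¹
      simp only [inv_inv] at this
      exact hQS this
    have h1 : (⟨(Quotient.out q : X)⁻¹ * x * Quotient.out (x⁻¹ • q),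
        transferSec_mem (fun q : X ⧸ S₀ => (Quotient.out q : X)) hf x q⟩ : ↥S₀) =
        ⟨(Quotient.out q : X)⁻¹ * x * Quotient.out q, hmem⟩ := by
      apply Subtype.ext
      simp only [hfix q]
    rw [h1]
    have h2 : (⟨x, hxS⟩ : ↥S₀)⁻¹ * ⟨(Quotient.out q : X)⁻¹ * x * Quotient.out q, hmem⟩ ∈ N := by
      apply Subgroup.mem_subgroupOf.mpr
      exact key (Quotient.out q)
    have h3 : φ ((⟨x, hxS⟩ : ↥S₀)⁻¹ * ⟨(Quotient.out q : X)⁻¹ * x * Quotient.out q, hmem⟩) = 1 := by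
      show (QuotientGroup.mk' _) (Abelianization.of _) = 1
      rw [QuotientGroup.mk'_apply, QuotientGroup.eq_one_iff]
      exact ⟨_, h2, rfl⟩
    rw [map_mul, map_inv, inv_mul_eq_one] at h3
    exact h3.symm
  rw [Finset.prod_congr rfl (fun q _ => hterm q), Finset.prod_const, Finset.card_univ] at htr
  have h1 : MonoidHom.transfer φ x = 1 := by
    have := Abelianization.commutator_subset_ker (MonoidHom.transfer φ) hx'
    exact this
  rw [h1] at htr
  have hidx : Fintype.card (X ⧸ S₀) = S₀.index := by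
    rw [Subgroup.index_eq_card, Nat.card_eq_fintype_card]
  rw [hidx] at htr
  obtain ⟨k, hk⟩ := (IsPGroup.iff_orderOf.mp S.2) ⟨x, hxS⟩
  have h2 : φ ⟨x, hxS⟩ ^ (p ^ k) = 1 := by
    rw [← map_pow, ← hk, pow_orderOf_eq_one, map_one]
  have hcop : Nat.Coprime (p ^ k) S₀.index := by
    apply Nat.Coprime.pow_left
    exact (Nat.Prime.coprime_iff_not_dvd hp.out).mpr S.not_dvd_index
  have h3 := pow_gcd_eq_one.mpr ⟨h2, htr.symm⟩
  rw [hcop.gcd_eq_one, pow_one] at h3
  exact Subgroup.mem_subgroupOf.mp (hker _ h3)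


/-- If `O_{p'}(X) = 1` and `C_S(O_p(X)) ≤ O_p(X)` then `X` is `p`-constrained. -/
theorem pc_of_sylow_centralizer_le {X : Type*} [Group X] [Finite X] [hp : Fact p.Prime]
    (S : Sylow p X) (hO : Cfsg.pPrimeCore p X = ⊥)
    (h : (S : Subgroup X) ⊓ Subgroup.centralizer ((Cfsg.pCore p X : Subgroup X) : Set X) ≤
      Cfsg.pCore p X) : PC p X := by
  set Q := Cfsg.pCore p X with hQ
  set C := Subgroup.centralizer ((Q : Subgroup X) : Set X) with hC
  haveI hCn : C.Normal := Subgroup.normal_centralizer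
  -- every `p`-subgroup of `C` lies in `Q ⊓ C`, hence is central in `C`
  have hpsub : ∀ D : Subgroup X, IsPGroup p D → D ≤ C → D ≤ Q := by
    intro D hD hDC x hx
    obtain ⟨k, hk⟩ := Cfsg.Agent.Helper5.exists_conj_le_sylow S D hD
    have h1 : k * x * k⁻¹ ∈ Q := h ⟨hk x hx, hCn.conj_mem x (hDC hx) k⟩
    have h2 := (pCore_normal (G := X) p).conj_mem _ h1 k⁻¹
    have h3 : k⁻¹ * (k * x * k⁻¹) * k⁻¹⁻¹ = x := by group
    rwa [h3] at h2
  have hcop : (Nat.card (Cfsg.pResidual p ↥C)).Coprime p := by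
    apply Cfsg.Agent.Helper5.coprime_card_pResidual_of_central
    intro D hD _
    have h1 : D.map C.subtype ≤ Q := hpsub _ (hD.map _) (Subgroup.map_subtype_le _)
    intro d hd
    rw [Subgroup.mem_centralizer_iff]
    intro c _
    have hdQ : (d : X) ∈ Q := h1 ⟨d, hd, rfl⟩
    have hcC : (c : X) ∈ C := c.2
    have := (Subgroup.mem_centralizer_iff.mp hcC) (d : X) hdQ
    apply Subtype.ext
    simpa using this.symm
  haveI := Cfsg.Agent.Helper5.pResidual_characteristic (G := ↥C) p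
  have hnorm : ((Cfsg.pResidual p ↥C).map C.subtype).Normal := inferInstance
  have hle : (Cfsg.pResidual p ↥C).map C.subtype ≤ Cfsg.pPrimeCore p X := by
    apply le_pPrimeCore hnorm
    rw [Subgroup.card_map_of_injective C.subtype_injective]
    exact hcop
  rw [hO, le_bot_iff, Subgroup.map_eq_bot_iff_of_injective _ C.subtype_injective] at hle
  have hCp : IsPGroup p ↥C := by
    have h1 := Cfsg.Agent.Helper5.isPGroup_quotient_pResidual (G := ↥C) p
    intro c
    obtain ⟨k, hk⟩ := h1 (QuotientGroup.mk c)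
    refine ⟨k, ?_⟩
    rw [← QuotientGroup.mk_pow, QuotientGroup.eq_one_iff, hle, Subgroup.mem_bot] at hk
    exact hk
  exact le_pCore hCn hCp


/-- Frattini lifting: modulo a normal `p'`-subgroup `O`, the normalizer of the image of a
`p`-subgroup `K` is the image of the normalizer of `K`. -/
theorem normalizer_map_le_of_coprime {X : Type*} [Group X] [Finite X] [hp : Fact p.Prime]
    (O : Subgroup X) [hOn : O.Normal] (hO : (Nat.card O).Coprime p) (K : Subgroup X)
    (hK : IsPGroup p K) :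
    Subgroup.normalizer (((K.map (QuotientGroup.mk' O) : Subgroup (X ⧸ O))) : Set (X ⧸ O)) ≤
      (Subgroup.normalizer (K : Set X)).map (QuotientGroup.mk' O) := by
  intro z hz
  obtain ⟨x, rfl⟩ := QuotientGroup.mk'_surjective O z
  set M : Subgroup X := O ⊔ K with hM
  set K' : Subgroup X := K.map (MulAut.conj x).toMonoidHom with hK'
  have hK'M : K' ≤ M := by
    rintro _ ⟨k, hk, rfl⟩
    have h1 : (QuotientGroup.mk' O) x * (QuotientGroup.mk' O) k * ((QuotientGroup.mk' O) x)⁻¹ ∈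
        K.map (QuotientGroup.mk' O) :=
      (Subgroup.mem_normalizer_iff.mp hz _).mp ⟨k, hk, rfl⟩
    obtain ⟨k₁, hk₁, hk₁e⟩ := h1
    have h2 : k₁⁻¹ * (x * k * x⁻¹) ∈ O := by
      rw [← QuotientGroup.eq_one_iff, QuotientGroup.mk_mul, QuotientGroup.mk_inv]
      have : ((x * k * x⁻¹ : X) : X ⧸ O) = (k₁ : X ⧸ O) := by
        simpa using hk₁e.symm
      rw [this, inv_mul_cancel]
    have h3 : x * k * x⁻¹ = k₁ * (k₁⁻¹ * (x * k * x⁻¹)) := by group
    show x * k * x⁻¹ ∈ M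
    rw [h3]
    exact M.mul_mem (le_sup_right (a := O) hk₁) (le_sup_left (b := K) h2)
  have hKN : K ≤ Subgroup.normalizer (O : Set X) := by
    rw [Subgroup.normalizer_eq_top]; exact le_top
  have hnd : ¬ p ∣ K.relIndex M := by
    rw [hM, relIndex_sup_of_le_normalizer' hKN]
    intro hd
    have h1 : p ∣ Nat.card O := hd.trans (Subgroup.relIndex_dvd_card K O)
    have := Nat.Coprime.eq_one_of_dvd hO.symm h1
    exact hp.out.one_lt.ne' this
  have hcard := card_eq_ppart_of_relIndex (le_sup_right : K ≤ M) hK hnd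
  obtain ⟨m, hmM, hmK⟩ := exists_conj_le_of_card_eq_ppart (p := p) (le_sup_right : K ≤ M) hcard
    hK'M (hK.map _)
  obtain ⟨o, ho, k, hk, hok⟩ := Subgroup.mem_sup_of_normal_left.mp hmM
  have hmx : K.map (MulAut.conj (m * x)).toMonoidHom = K := by
    apply Subgroup.eq_of_le_of_card_ge
    · rintro _ ⟨u, hu, rfl⟩
      have : m * (x * u * x⁻¹) * m⁻¹ ∈ K := hmK ⟨x * u * x⁻¹, ⟨u, hu, rfl⟩, rfl⟩
      have e : (MulAut.conj (m * x)).toMonoidHom u = m * (x * u * x⁻¹) * m⁻¹ := by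
        simp [mul_assoc]
      rw [e]; exact this
    · rw [card_map_conj]
  have hn : m * x ∈ Subgroup.normalizer (K : Set X) := mem_normalizer_of_map_conj_eq hmx
  have hn' : k⁻¹ * (m * x) ∈ Subgroup.normalizer (K : Set X) :=
    Subgroup.mul_mem _ (Subgroup.inv_mem _ (Subgroup.le_normalizer hk)) hn
  refine ⟨k⁻¹ * (m * x), hn', ?_⟩
  have h4 : k⁻¹ * o * k ∈ O := by
    have := hOn.conj_mem o ho k⁻¹
    simpa using this
  have h5 : k⁻¹ * (m * x) = (k⁻¹ * o * k) * x := by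
    rw [← hok]; group
  rw [h5, map_mul]
  have : (QuotientGroup.mk' O) (k⁻¹ * o * k) = 1 := (QuotientGroup.eq_one_iff _).mpr h4
  rw [this, one_mul]


/-- Modulo a normal `p'`-subgroup, a `p`-subgroup `S ≤ N` meets the image of `N'` only in the
image of `S ∩ N'`. -/
theorem map_inf_map_commutator_le {X : Type*} [Group X] [Finite X] [hp : Fact p.Prime]
    (O : Subgroup X) [hOn : O.Normal] (hO : (Nat.card O).Coprime p) (S : Subgroup X)
    (hS : IsPGroup p S) (N : Subgroup X) (hSN : S ≤ N) :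
    S.map (QuotientGroup.mk' O) ⊓ (⁅N, N⁆).map (QuotientGroup.mk' O) ≤
      (S ⊓ ⁅N, N⁆).map (QuotientGroup.mk' O) := by
  rintro z ⟨⟨s, hs, rfl⟩, ⟨n, hn, hns⟩⟩
  have hnN : n ∈ N := Subgroup.commutator_le_self N hn
  have hsN : s ∈ N := hSN hs
  have ho : n⁻¹ * s ∈ O := by
    rw [← QuotientGroup.eq_one_iff, QuotientGroup.mk_mul, QuotientGroup.mk_inv]
    have : ((n : X) : X ⧸ O) = (s : X ⧸ O) := hns
    rw [this, inv_mul_cancel]
  have hn' : (⟨n, hnN⟩ : ↥N) ∈ commutator ↥N := by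
    have h1 : n ∈ (commutator ↥N).map N.subtype := by
      rw [Subgroup.map_subtype_commutator]; exact hn
    obtain ⟨n', hn', hn'e⟩ := h1
    have : n' = ⟨n, hnN⟩ := Subtype.ext hn'e
    rwa [← this]
  have hφn : Abelianization.of (⟨n, hnN⟩ : ↥N) = 1 := by
    have : (⟨n, hnN⟩ : ↥N) ∈ (Abelianization.of (G := ↥N)).ker := by
      rw [Abelianization.ker_of]; exact hn'
    exact this
  have hoN : n⁻¹ * s ∈ N := N.mul_mem (N.inv_mem hnN) hsN
  have hφ : Abelianization.of (⟨s, hsN⟩ : ↥N) = Abelianization.of (⟨n⁻¹ * s, hoN⟩ : ↥N) := by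
    have e : (⟨s, hsN⟩ : ↥N) = ⟨n, hnN⟩ * ⟨n⁻¹ * s, hoN⟩ := by
      apply Subtype.ext; simp
    rw [e, map_mul, hφn, one_mul]
  have h1 : orderOf (Abelianization.of (⟨s, hsN⟩ : ↥N)) ∣ orderOf s := by
    have := orderOf_map_dvd (Abelianization.of (G := ↥N)) (⟨s, hsN⟩ : ↥N)
    rwa [Subgroup.orderOf_mk] at this
  have h2 : orderOf (Abelianization.of (⟨s, hsN⟩ : ↥N)) ∣ Nat.card O := by
    rw [hφ]
    have h3 := orderOf_map_dvd (Abelianization.of (G := ↥N)) (⟨n⁻¹ * s, hoN⟩ : ↥N)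
    rw [Subgroup.orderOf_mk] at h3
    have h4 : orderOf (n⁻¹ * s) ∣ Nat.card O := by
      have := orderOf_dvd_natCard (⟨n⁻¹ * s, ho⟩ : ↥O)
      rwa [Subgroup.orderOf_mk] at this
    exact h3.trans h4
  obtain ⟨k, hk⟩ := (IsPGroup.iff_orderOf.mp hS) ⟨s, hs⟩
  rw [Subgroup.orderOf_mk] at hk
  rw [hk] at h1
  have h5 := Nat.dvd_gcd h1 h2
  have hcop : Nat.Coprime (p ^ k) (Nat.card O) := Nat.Coprime.pow_left k hO.symm
  rw [hcop.gcd_eq_one, Nat.dvd_one, orderOf_eq_one_iff] at h5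
  have hs' : (⟨s, hsN⟩ : ↥N) ∈ commutator ↥N := by
    rw [← Abelianization.ker_of]; exact h5
  have hsc : s ∈ ⁅N, N⁆ := by
    rw [← Subgroup.map_subtype_commutator]
    exact ⟨_, hs', rfl⟩
  exact ⟨s, ⟨hs, hsc⟩, rfl⟩

end Cfsg.Agent.Helper1.FT
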