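import Mathlib
import Cfsg.Agent.Helper1.FTB

/-!
Glauberman's local-to-global theorem for control of transfer by a family of
isomorphism-invariant functors via `p`-constrained sections: the inductive step.
-/

set_option autoImplicit false

universe u

namespace Cfsg.Agent.Helper1.FT

open Cfsg Cfsg.Agent.Lead Cfsg.Agent.Helper5.TF
open scoped commutatorElement

variable {p : ℕ}

section basic

variable {X : Type*} [Group X] [Finite X] [hp : Fact p.Prime]

theorem tf_top_of_le (𝓥 : Set (Subgroup X → Subgroup X)) (S : Sylow p X)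
    (h : (S : Subgroup X) ⊓ ⁅(⊤ : Subgroup X), (⊤ : Subgroup X)⁆ ≤ ⨆ W ∈ 𝓥, (S : Subgroup X) ⊓
      ⁅(⊤ : Subgroup X) ⊓ Subgroup.normalizer ((W (S : Subgroup X) : Subgroup X) : Set X),
        (⊤ : Subgroup X) ⊓ Subgroup.normalizer ((W (S : Subgroup X) : Subgroup X) : Set X)⁆) :
    Cfsg.FamilyControlsTransferIn p 𝓥 ⊤ := by
  refine ⟨S, le_top, S.2, ?_, le_antisymm h ?_⟩
  · rw [Subgroup.relIndex_top_right]; exact S.not_dvd_index
  · refine iSup_le fun W => iSup_le fun _ => ?_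
    exact inf_le_inf_left _ (Subgroup.commutator_mono inf_le_left inf_le_left)

theorem sub_le_tgt {𝓥 : Set (Subgroup X → Subgroup X)}
    (h𝓥 : ∀ W ∈ 𝓥, Cfsg.IsConjugacyFunctor p W) (S : Sylow p X) (H : Subgroup X)
    (hSH : (S : Subgroup X) ≤ H) (hH : Cfsg.FamilyControlsTransferIn p 𝓥 H) :
    (S : Subgroup X) ⊓ ⁅H, H⁆ ≤ ⨆ W ∈ 𝓥, (S : Subgroup X) ⊓
      ⁅(⊤ : Subgroup X) ⊓ Subgroup.normalizer ((W (S : Subgroup X) : Subgroup X) : Set X),
        (⊤ : Subgroup X) ⊓ Subgroup.normalizer ((W (S : Subgroup X) : Subgroup X) : Set X)⁆ := by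
  have hidx : ¬ p ∣ (S : Subgroup X).relIndex H := fun hd =>
    S.not_dvd_index (hd.trans (Subgroup.relIndex_dvd_index_of_le hSH))
  rw [familyControlsTransferIn_sylow h𝓥 hH hSH S.2 hidx]
  refine iSup_le fun W => iSup_le fun hW => ?_
  refine le_trans ?_ (le_iSup₂ (f := fun W (_ : W ∈ 𝓥) => (S : Subgroup X) ⊓
      ⁅(⊤ : Subgroup X) ⊓ Subgroup.normalizer ((W (S : Subgroup X) : Subgroup X) : Set X),
        (⊤ : Subgroup X) ⊓ Subgroup.normalizer ((W (S : Subgroup X) : Subgroup X) : Set X)⁆) W hW)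
  exact inf_le_inf_left _ (Subgroup.commutator_mono (inf_le_inf_right _ le_top)
    (inf_le_inf_right _ le_top))

/-- Case `O_p(X) = 1`: local-to-global via normalizers of nonidentity `p`-subgroups. -/
theorem tf_case_pcore_bot {𝓥 : Set (Subgroup X → Subgroup X)}
    (h𝓥 : ∀ W ∈ 𝓥, Cfsg.IsConjugacyFunctor p W) (hQ : Cfsg.pCore p X = ⊥)
    (hsub : ∀ H : Subgroup X, H ≠ ⊤ → Cfsg.FamilyControlsTransferIn p 𝓥 H) :
    Cfsg.FamilyControlsTransferIn p 𝓥 ⊤ := by
  have S : Sylow p X := default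
  apply familyControlsTransferIn_top_of_local S 𝓥 h𝓥
  intro T hTS hTne _
  apply hsub
  intro htop
  apply hTne
  have hTn : T.Normal := Subgroup.normalizer_eq_top_iff.mp htop
  have := le_pCore hTn (S.2.to_le hTS)
  rwa [hQ, le_bot_iff] at this

end basic


section quot

variable {X : Type u} [Group X] [Finite X] [hp : Fact p.Prime]
  (𝓦 : Set (∀ (Q : Type u) [Group Q], Subgroup Q))
  (h𝓦 : ∀ W ∈ 𝓦, Cfsg.IsCharPFunctor.{u} p W)

include h𝓦 in
/-- Case `O_{p'}(X) ≠ 1`: lift control of transfer from `X ⧸ O`. -/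
theorem tf_case_pprime (O : Subgroup X) [hOn : O.Normal] (hO : (Nat.card O).Coprime p)
    (h : Cfsg.FamilyControlsTransferIn p (ind 𝓦 (X ⧸ O)) ⊤) :
    Cfsg.FamilyControlsTransferIn p (ind 𝓦 X) ⊤ := by
  have S : Sylow p X := default
  set π := QuotientGroup.mk' O with hπ
  have hπs : Function.Surjective π := QuotientGroup.mk'_surjective O
  have hSO : ∀ t ∈ (S : Subgroup X), π t = 1 → t = 1 := by
    intro t ht h1
    have htO : t ∈ O := (QuotientGroup.eq_one_iff t).mp h1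
    have hdisj : (S : Subgroup X) ⊓ O = ⊥ := by
      apply Disjoint.eq_bot
      apply Subgroup.disjoint_of_coprime_natCard
      obtain ⟨k, hk⟩ := IsPGroup.iff_card.mp S.2
      rw [hk]
      exact Nat.Coprime.pow_left k hO.symm
    have : t ∈ (S : Subgroup X) ⊓ O := ⟨ht, htO⟩
    rwa [hdisj, Subgroup.mem_bot] at this
  have hSbar_p : IsPGroup p ((S : Subgroup X).map π) := S.2.map π
  have hSbar_idx : ¬ p ∣ ((S : Subgroup X).map π).relIndex ⊤ := by
    rw [Subgroup.relIndex_top_right]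
    exact fun hd => S.not_dvd_index (hd.trans (Subgroup.index_map_dvd _ hπs))
  have heq := familyControlsTransferIn_sylow (ind_isConj h𝓦 (X ⧸ O)) h le_top hSbar_p hSbar_idx
  apply tf_top_of_le _ S
  unfold ind at heq ⊢
  rw [iSup_image] at heq ⊢
  intro x hx
  have hπx : π x ∈ (S : Subgroup X).map π ⊓ ⁅(⊤ : Subgroup (X ⧸ O)), (⊤ : Subgroup (X ⧸ O))⁆ := by
    refine ⟨⟨x, hx.1, rfl⟩, ?_⟩
    have h1 : π x ∈ (⁅(⊤ : Subgroup X), (⊤ : Subgroup X)⁆).map π := ⟨x, hx.2, rfl⟩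
    rw [Subgroup.map_commutator] at h1
    exact Subgroup.commutator_mono le_top le_top h1
  rw [heq] at hπx
  have hle : (⨆ W ∈ 𝓦, (S : Subgroup X).map π ⊓
      ⁅(⊤ : Subgroup (X ⧸ O)) ⊓ Subgroup.normalizer
        ((Cfsg.inducedFunctor W ((S : Subgroup X).map π) : Subgroup (X ⧸ O)) : Set (X ⧸ O)),
       (⊤ : Subgroup (X ⧸ O)) ⊓ Subgroup.normalizer
        ((Cfsg.inducedFunctor W ((S : Subgroup X).map π) : Subgroup (X ⧸ O)) : Set (X ⧸ O))⁆) ≤
      (⨆ W ∈ 𝓦, (S : Subgroup X) ⊓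
        ⁅(⊤ : Subgroup X) ⊓ Subgroup.normalizer
          ((Cfsg.inducedFunctor W (S : Subgroup X) : Subgroup X) : Set X),
         (⊤ : Subgroup X) ⊓ Subgroup.normalizer
          ((Cfsg.inducedFunctor W (S : Subgroup X) : Subgroup X) : Set X)⁆).map π := by
    rw [Subgroup.map_iSup]
    refine iSup_mono fun W => ?_
    rw [Subgroup.map_iSup]
    refine iSup_mono' fun hW => ⟨hW, ?_⟩
    have hWc := isConjugacyFunctor_induced (X := X) W (h𝓦 W hW)
    set K := Cfsg.inducedFunctor W (S : Subgroup X) with hK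
    have hKS : K ≤ (S : Subgroup X) := (hWc _ S.2).1
    have hKp : IsPGroup p K := S.2.to_le hKS
    rw [inducedFunctor_map_injOn W (h𝓦 W hW) π (S : Subgroup X) S.2 hSO, top_inf_eq, top_inf_eq]
    have h1 := normalizer_map_le_of_coprime O hO K hKp
    have h2 : ⁅Subgroup.normalizer ((K.map π : Subgroup (X ⧸ O)) : Set (X ⧸ O)),
        Subgroup.normalizer ((K.map π : Subgroup (X ⧸ O)) : Set (X ⧸ O))⁆ ≤
        (⁅Subgroup.normalizer (K : Set X), Subgroup.normalizer (K : Set X)⁆).map π := by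
      rw [Subgroup.map_commutator]
      exact Subgroup.commutator_mono h1 h1
    refine le_trans (inf_le_inf_left _ h2) ?_
    exact map_inf_map_commutator_le O hO _ S.2 _ (le_normalizer_functor hWc S.2)
  obtain ⟨y, hy, hyx⟩ := hle hπx
  have hyS : y ∈ (S : Subgroup X) := by
    have : (⨆ W ∈ 𝓦, (S : Subgroup X) ⊓
        ⁅(⊤ : Subgroup X) ⊓ Subgroup.normalizer
          ((Cfsg.inducedFunctor W (S : Subgroup X) : Subgroup X) : Set X),
         (⊤ : Subgroup X) ⊓ Subgroup.normalizer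
          ((Cfsg.inducedFunctor W (S : Subgroup X) : Subgroup X) : Set X)⁆) ≤ (S : Subgroup X) :=
      iSup_le fun W => iSup_le fun _ => inf_le_left
    exact this hy
  have h1 : x⁻¹ * y = 1 := by
    apply hSO _ ((S : Subgroup X).mul_mem ((S : Subgroup X).inv_mem hx.1) hyS)
    rw [map_mul, map_inv, hyx, inv_mul_cancel]
  have : y = x := by
    have := congrArg (x * ·) h1
    simpa using this
  rw [← this]
  exact hy

include h𝓦 in
/-- Part (i) of the case `O_p(X) ≠ 1`: modulo `O_p(X)`, `S ∩ X'` lies in the target. -/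
theorem tf_part_i (S : Sylow p X) (hSQ : ¬ (S : Subgroup X) ≤ Cfsg.pCore p X)
    (hsub : ∀ H : Subgroup X, H ≠ ⊤ → Cfsg.FamilyControlsTransferIn p (ind 𝓦 X) H)
    (hquot : Cfsg.FamilyControlsTransferIn p (ind 𝓦 (X ⧸ Cfsg.pCore p X)) ⊤) :
    ∀ x ∈ (S : Subgroup X) ⊓ ⁅(⊤ : Subgroup X), (⊤ : Subgroup X)⁆,
      ∃ y ∈ (⨆ V ∈ ind 𝓦 X, (S : Subgroup X) ⊓
        ⁅(⊤ : Subgroup X) ⊓ Subgroup.normalizer ((V (S : Subgroup X) : Subgroup X) : Set X),
         (⊤ : Subgroup X) ⊓ Subgroup.normalizer ((V (S : Subgroup X) : Subgroup X) : Set X)⁆),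
      ∃ q ∈ Cfsg.pCore p X ⊓ ⁅(⊤ : Subgroup X), (⊤ : Subgroup X)⁆, x = y * q := by
  set Q := Cfsg.pCore p X with hQ
  set tg : Subgroup X := ⨆ V ∈ ind 𝓦 X, (S : Subgroup X) ⊓
        ⁅(⊤ : Subgroup X) ⊓ Subgroup.normalizer ((V (S : Subgroup X) : Subgroup X) : Set X),
         (⊤ : Subgroup X) ⊓ Subgroup.normalizer ((V (S : Subgroup X) : Subgroup X) : Set X)⁆ with htg
  have hQS : Q ≤ (S : Subgroup X) := pCore_le_sylow S
  have hQp : IsPGroup p Q := pCore_isPGroup p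
  set π := QuotientGroup.mk' Q with hπ
  have hπs : Function.Surjective π := QuotientGroup.mk'_surjective Q
  have hSbar_p : IsPGroup p ((S : Subgroup X).map π) := S.2.map π
  have hSbar_idx : ¬ p ∣ ((S : Subgroup X).map π).relIndex ⊤ := by
    rw [Subgroup.relIndex_top_right]
    exact fun hd => S.not_dvd_index (hd.trans (Subgroup.index_map_dvd _ hπs))
  have hSbar_ne : (S : Subgroup X).map π ≠ ⊥ := by
    intro h0
    apply hSQ
    intro s hs
    have : π s ∈ (S : Subgroup X).map π := ⟨s, hs, rfl⟩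
    rw [h0, Subgroup.mem_bot] at this
    exact (QuotientGroup.eq_one_iff s).mp this
  have hconjbar := ind_isConj h𝓦 (X ⧸ Q)
  have hconj := ind_isConj h𝓦 X
  have heq := familyControlsTransferIn_sylow hconjbar hquot le_top hSbar_p hSbar_idx
  have htgle : tg ≤ ⁅(⊤ : Subgroup X), (⊤ : Subgroup X)⁆ :=
    iSup_le fun V => iSup_le fun _ => inf_le_right.trans
      (Subgroup.commutator_mono inf_le_left inf_le_left)
  -- each term
  have hterm : ∀ V ∈ ind 𝓦 (X ⧸ Q), (S : Subgroup X).map π ⊓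
      ⁅(⊤ : Subgroup (X ⧸ Q)) ⊓ Subgroup.normalizer
        ((V ((S : Subgroup X).map π) : Subgroup (X ⧸ Q)) : Set (X ⧸ Q)),
       (⊤ : Subgroup (X ⧸ Q)) ⊓ Subgroup.normalizer
        ((V ((S : Subgroup X).map π) : Subgroup (X ⧸ Q)) : Set (X ⧸ Q))⁆ ≤ tg.map π := by
    intro V hV
    have hVc := hconjbar V hV
    set Kb := V ((S : Subgroup X).map π) with hKb
    set L : Subgroup X := (Subgroup.normalizer (Kb : Set (X ⧸ Q))).comap π with hL
    have hSL : (S : Subgroup X) ≤ L := by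
      intro s hs
      show π s ∈ Subgroup.normalizer (Kb : Set (X ⧸ Q))
      exact le_normalizer_functor hVc hSbar_p ⟨s, hs, rfl⟩
    have hLne : L ≠ ⊤ := by
      intro hLtop
      have hNtop : Subgroup.normalizer (Kb : Set (X ⧸ Q)) = ⊤ := by
        rw [eq_top_iff]
        intro z _
        obtain ⟨x, rfl⟩ := hπs z
        have : x ∈ L := by rw [hLtop]; exact Subgroup.mem_top x
        exact this
      have hKbn : Kb.Normal := Subgroup.normalizer_eq_top_iff.mp hNtop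
      have hKbS : Kb ≤ (S : Subgroup X).map π := (hVc _ hSbar_p).1
      have hRn : (Kb.comap π).Normal := hKbn.comap π
      have hRp : IsPGroup p (Kb.comap π) := by
        intro r
        obtain ⟨k, hk⟩ := hSbar_p ⟨π r, hKbS r.2⟩
        have hk' : (π (r : X)) ^ p ^ k = 1 := by
          have := congrArg Subtype.val hk
          simpa using this
        rw [← map_pow] at hk'
        have hrQ : (r : X) ^ p ^ k ∈ Q := (QuotientGroup.eq_one_iff _).mp hk'
        obtain ⟨j, hj⟩ := hQp ⟨_, hrQ⟩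
        refine ⟨k + j, ?_⟩
        apply Subtype.ext
        have := congrArg Subtype.val hj
        simp only [Subgroup.coe_pow, Subgroup.coe_one] at this ⊢
        rw [pow_add, pow_mul]
        exact this
      have hRQ : Kb.comap π ≤ Q := le_pCore hRn hRp
      have hKb0 : Kb = ⊥ := by
        rw [eq_bot_iff]
        intro z hz
        obtain ⟨x, rfl⟩ := hπs z
        have : x ∈ Q := hRQ hz
        rw [Subgroup.mem_bot]
        exact (QuotientGroup.eq_one_iff x).mpr this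
      exact (hVc _ hSbar_p).2.1 hSbar_ne hKb0
    have h1 := sub_le_tgt hconj S L hSL (hsub L hLne)
    have hmapL : L.map π = Subgroup.normalizer (Kb : Set (X ⧸ Q)) :=
      Subgroup.map_comap_eq_self_of_surjective hπs _
    rw [top_inf_eq, ← hmapL, ← Subgroup.map_commutator]
    rintro z ⟨⟨s, hs, rfl⟩, ⟨l, hl, hls⟩⟩
    have hlS : l ∈ (S : Subgroup X) := by
      have h2 : s⁻¹ * l ∈ Q := by
        rw [← QuotientGroup.eq_one_iff, QuotientGroup.mk_mul, QuotientGroup.mk_inv]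
        have : ((l : X) : X ⧸ Q) = (s : X ⧸ Q) := hls
        rw [this, inv_mul_cancel]
      have := (S : Subgroup X).mul_mem hs (hQS h2)
      rwa [mul_inv_cancel_left] at this
    exact ⟨l, h1 ⟨hlS, hl⟩, hls⟩
  intro x hx
  have hπx : π x ∈ (S : Subgroup X).map π ⊓ ⁅(⊤ : Subgroup (X ⧸ Q)), (⊤ : Subgroup (X ⧸ Q))⁆ := by
    refine ⟨⟨x, hx.1, rfl⟩, ?_⟩
    have h1 : π x ∈ (⁅(⊤ : Subgroup X), (⊤ : Subgroup X)⁆).map π := ⟨x, hx.2, rfl⟩
    rw [Subgroup.map_commutator] at h1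
    exact Subgroup.commutator_mono le_top le_top h1
  rw [heq] at hπx
  have hle : (⨆ V ∈ ind 𝓦 (X ⧸ Q), (S : Subgroup X).map π ⊓
      ⁅(⊤ : Subgroup (X ⧸ Q)) ⊓ Subgroup.normalizer
        ((V ((S : Subgroup X).map π) : Subgroup (X ⧸ Q)) : Set (X ⧸ Q)),
       (⊤ : Subgroup (X ⧸ Q)) ⊓ Subgroup.normalizer
        ((V ((S : Subgroup X).map π) : Subgroup (X ⧸ Q)) : Set (X ⧸ Q))⁆) ≤ tg.map π :=
    iSup_le fun V => iSup_le fun hV => hterm V hV
  obtain ⟨y, hy, hyx⟩ := hle hπx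
  refine ⟨y, hy, y⁻¹ * x, ⟨?_, ?_⟩, by group⟩
  · show y⁻¹ * x ∈ Q
    rw [← QuotientGroup.eq_one_iff, QuotientGroup.mk_mul, QuotientGroup.mk_inv]
    have : ((y : X) : X ⧸ Q) = (x : X ⧸ Q) := hyx
    rw [this, inv_mul_cancel]
  · exact Subgroup.mul_mem _ (Subgroup.inv_mem _ (htgle hy)) hx.2

include h𝓦 in
/-- Part (ii) of the case `O_p(X) ≠ 1`: if `C_S(O_p(X)) ≰ O_p(X)` then `O_p(X) ∩ X'` lies in the
target. -/
theorem tf_part_ii (S : Sylow p X)
    (hnc : ¬ (S : Subgroup X) ⊓ Subgroup.centralizer ((Cfsg.pCore p X : Subgroup X) : Set X) ≤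
      Cfsg.pCore p X)
    (hsub : ∀ H : Subgroup X, H ≠ ⊤ → Cfsg.FamilyControlsTransferIn p (ind 𝓦 X) H) :
    Cfsg.pCore p X ⊓ ⁅(⊤ : Subgroup X), (⊤ : Subgroup X)⁆ ≤
      ⨆ V ∈ ind 𝓦 X, (S : Subgroup X) ⊓
        ⁅(⊤ : Subgroup X) ⊓ Subgroup.normalizer ((V (S : Subgroup X) : Subgroup X) : Set X),
         (⊤ : Subgroup X) ⊓ Subgroup.normalizer ((V (S : Subgroup X) : Subgroup X) : Set X)⁆ := by
  set Q := Cfsg.pCore p X with hQ
  set tg : Subgroup X := ⨆ V ∈ ind 𝓦 X, (S : Subgroup X) ⊓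
        ⁅(⊤ : Subgroup X) ⊓ Subgroup.normalizer ((V (S : Subgroup X) : Subgroup X) : Set X),
         (⊤ : Subgroup X) ⊓ Subgroup.normalizer ((V (S : Subgroup X) : Subgroup X) : Set X)⁆ with htg
  have hQS : Q ≤ (S : Subgroup X) := pCore_le_sylow S
  haveI hQn : Q.Normal := pCore_normal p
  set C := Subgroup.centralizer ((Q : Subgroup X) : Set X) with hC
  haveI hCn : C.Normal := Subgroup.normal_centralizer
  set M : Subgroup X := Q ⊔ C with hM
  haveI hMn : M.Normal := Subgroup.sup_normal Q C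
  set T : Subgroup X := (S : Subgroup X) ⊓ M with hT
  set N₁ : Subgroup X := Subgroup.normalizer (T : Set X) with hN₁
  have hSN₁ : (S : Subgroup X) ≤ N₁ := by
    intro s hs
    rw [hN₁, Subgroup.mem_normalizer_iff]
    intro h
    constructor
    · rintro ⟨h1, h2⟩
      exact ⟨(S : Subgroup X).mul_mem ((S : Subgroup X).mul_mem hs h1) ((S : Subgroup X).inv_mem hs),
        hMn.conj_mem h h2 s⟩
    · rintro ⟨h1, h2⟩
      refine ⟨?_, ?_⟩
      · have := (S : Subgroup X).mul_mem ((S : Subgroup X).mul_mem ((S : Subgroup X).inv_mem hs) h1) hs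
        have e : s⁻¹ * (s * h * s⁻¹) * s = h := by group
        rwa [e] at this
      · have := hMn.conj_mem _ h2 s⁻¹
        have e : s⁻¹ * (s * h * s⁻¹) * s⁻¹⁻¹ = h := by group
        rwa [e] at this
  have hN₁ne : N₁ ≠ ⊤ := by
    intro htop
    apply hnc
    have hTn : T.Normal := Subgroup.normalizer_eq_top_iff.mp htop
    have hTQ : T ≤ Q := le_pCore hTn (S.2.to_le inf_le_left)
    exact le_trans (inf_le_inf_left _ (le_sup_right : C ≤ M)) hTQ
  have hconj := ind_isConj h𝓦 X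
  have h1 : (S : Subgroup X) ⊓ ⁅N₁, N₁⁆ ≤ tg := sub_le_tgt hconj S N₁ hSN₁ (hsub N₁ hN₁ne)
  have hcomm : ⁅(S : Subgroup X), (S : Subgroup X)⁆ ≤ tg :=
    le_trans (le_inf (Subgroup.commutator_le_self _) (Subgroup.commutator_mono hSN₁ hSN₁)) h1
  -- Frattini
  have hfr : N₁ ⊔ M = ⊤ := by
    have hpM : IsPGroup p ((S : Subgroup X).subgroupOf M) := S.2.comap_subtype
    have hidx : ¬ p ∣ ((S : Subgroup X).subgroupOf M).index := by
      intro hd
      have h2 : (S : Subgroup X).relIndex M ∣ (S : Subgroup X).index :=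
        relIndex_dvd_index_of_normalizes (by rw [Subgroup.normalizer_eq_top]; exact le_top)
      exact S.not_dvd_index (hd.trans h2)
    have h3 := Sylow.normalizer_sup_eq_top (hpM.toSylow hidx)
    rw [IsPGroup.toSylow_coe, Subgroup.subgroupOf_map_subtype] at h3
    exact h3
  rintro x ⟨hxQ, hx'⟩
  apply mem_of_transfer S tg hcomm Q hQS x hxQ (by rwa [commutator_def])
  intro g
  have hg : g ∈ N₁ ⊔ M := by rw [hfr]; exact Subgroup.mem_top g
  obtain ⟨n, hn, m, hm, rfl⟩ := Subgroup.mem_sup_of_normal_right.mp hg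
  obtain ⟨q, hq, c, hc, rfl⟩ := Subgroup.mem_sup_of_normal_left.mp hm
  have hqN : q ∈ N₁ := Subgroup.le_normalizer (⟨hQS hq, le_sup_left (a := Q) hq⟩ : q ∈ T)
  have hnq : n * q ∈ N₁ := N₁.mul_mem hn hqN
  have hy : (n * q)⁻¹ * x * (n * q) ∈ Q := by
    have := hQn.conj_mem x hxQ (n * q)⁻¹
    simpa using this
  have hcy : c⁻¹ * ((n * q)⁻¹ * x * (n * q)) * c = (n * q)⁻¹ * x * (n * q) := by
    have := (Subgroup.mem_centralizer_iff.mp hc) _ hy
    rw [mul_assoc, this]; group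
  have e : (n * (q * c))⁻¹ * x * (n * (q * c)) = c⁻¹ * ((n * q)⁻¹ * x * (n * q)) * c := by group
  rw [e, hcy]
  apply h1
  refine ⟨(S : Subgroup X).mul_mem ((S : Subgroup X).inv_mem (hQS hxQ)) (hQS hy), ?_⟩
  have e2 : x⁻¹ * ((n * q)⁻¹ * x * (n * q)) = ⁅x⁻¹, (n * q)⁻¹⁆ := by
    rw [commutatorElement_def]; group
  rw [e2]
  exact Subgroup.commutator_mem_commutator (N₁.inv_mem (hSN₁ (hQS hxQ))) (N₁.inv_mem hnq)

include h𝓦 in
/-- Case `O_p(X) ≠ 1`, `O_{p'}(X) = 1`, `X` not `p`-constrained. -/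
theorem tf_case_Q (hO : Cfsg.pPrimeCore p X = ⊥) (hnpc : ¬ PC p X)
    (hsub : ∀ H : Subgroup X, H ≠ ⊤ → Cfsg.FamilyControlsTransferIn p (ind 𝓦 X) H)
    (hquot : Cfsg.FamilyControlsTransferIn p (ind 𝓦 (X ⧸ Cfsg.pCore p X)) ⊤) :
    Cfsg.FamilyControlsTransferIn p (ind 𝓦 X) ⊤ := by
  have S : Sylow p X := default
  have hnc : ¬ (S : Subgroup X) ⊓ Subgroup.centralizer ((Cfsg.pCore p X : Subgroup X) : Set X) ≤
      Cfsg.pCore p X := fun h => hnpc (pc_of_sylow_centralizer_le S hO h)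
  have hSQ : ¬ (S : Subgroup X) ≤ Cfsg.pCore p X := fun h => hnc (inf_le_left.trans h)
  apply tf_top_of_le _ S
  intro x hx
  obtain ⟨y, hy, q, hq, rfl⟩ := tf_part_i 𝓦 h𝓦 S hSQ hsub hquot x hx
  exact Subgroup.mul_mem _ hy (tf_part_ii 𝓦 h𝓦 S hnc hsub hq)

include h𝓦 in
/-- The inductive step: if the family controls transfer in every proper subgroup and every proper
quotient of `X`, and `X` is not `p`-constrained, then the family controls transfer in `X`. -/
theorem tf_step (hnpc : ¬ PC p X)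
    (hsub : ∀ H : Subgroup X, H ≠ ⊤ → Cfsg.FamilyControlsTransferIn p (ind 𝓦 X) H)
    (hquot : ∀ (N : Subgroup X) [N.Normal], N ≠ ⊥ →
      Cfsg.FamilyControlsTransferIn p (ind 𝓦 (X ⧸ N)) ⊤) :
    Cfsg.FamilyControlsTransferIn p (ind 𝓦 X) ⊤ := by
  by_cases hO : Cfsg.pPrimeCore p X = ⊥
  · by_cases hQ : Cfsg.pCore p X = ⊥
    · exact tf_case_pcore_bot (ind_isConj h𝓦 X) hQ hsub
    · exact tf_case_Q 𝓦 h𝓦 hO hnpc hsub (hquot _ hQ)
  · exact tf_case_pprime 𝓦 h𝓦 (Cfsg.pPrimeCore p X) (card_pPrimeCore_coprime p) (hquot _ hO)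

end quot

end Cfsg.Agent.Helper1.FT
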