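import Mathlib
import Cfsg.Agent.Helper1.FTC

/-!
Glauberman's local-to-global theorem for control of transfer via `p`-constrained sections:
the induction over sections.
-/

set_option autoImplicit false

universe u

namespace Cfsg.Agent.Helper1.FT

open Cfsg Cfsg.Agent.Lead Cfsg.Agent.Helper5.TF
open scoped commutatorElement

variable {p : ℕ}

theorem tf_of_equiv [Fact p.Prime] {Y Z : Type u} [Group Y] [Group Z] [Finite Y]
    (𝓦 : Set (∀ (Q : Type u) [Group Q], Subgroup Q))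
    (h𝓦 : ∀ W ∈ 𝓦, Cfsg.IsCharPFunctor.{u} p W) (e : Y ≃* Z)
    (h : Cfsg.FamilyControlsTransferIn p (ind 𝓦 Y) ⊤) :
    Cfsg.FamilyControlsTransferIn p (ind 𝓦 Z) ⊤ := by
  have h1 := tf_map_injective 𝓦 h𝓦 e.toMonoidHom e.injective h
  have h2 : e.toMonoidHom.range = ⊤ := MonoidHom.range_eq_top.mpr e.surjective
  rwa [h2] at h1

theorem card_subgroup_lt {X : Type*} [Group X] [Finite X] {H : Subgroup X} (hH : H ≠ ⊤) :
    Nat.card H < Nat.card X :=
  lt_of_le_of_ne (Subgroup.card_le_card_group H) (fun h => hH ((Subgroup.card_eq_iff_eq_top H).mp h))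

theorem card_quotient_lt {X : Type*} [Group X] [Finite X] {N : Subgroup X} (hN : N ≠ ⊥) :
    Nat.card (X ⧸ N) < Nat.card X := by
  have h1 := Subgroup.card_eq_card_quotient_mul_card_subgroup N
  have h2 : 1 < Nat.card N := (Subgroup.one_lt_card_iff_ne_bot N).mpr hN
  have h3 : 0 < Nat.card (X ⧸ N) := Nat.card_pos
  rw [h1]
  nlinarith

/-- Induction over the sections of `G`, with a handler for the `p`-constrained sections. -/
theorem tf_induction {G : Type u} [Group G] [Fact p.Prime]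
    (𝓦 : Set (∀ (Q : Type u) [Group Q], Subgroup Q))
    (h𝓦 : ∀ W ∈ 𝓦, Cfsg.IsCharPFunctor.{u} p W)
    (handler : ∀ (X : Type u) [Group X] [Finite X], IsSectionOf X G → PC p X →
      (∀ H : Subgroup X, H ≠ ⊤ → Cfsg.FamilyControlsTransferIn p (ind 𝓦 X) H) →
      (∀ (N : Subgroup X) [N.Normal], N ≠ ⊥ →
        Cfsg.FamilyControlsTransferIn p (ind 𝓦 (X ⧸ N)) ⊤) →
      Cfsg.FamilyControlsTransferIn p (ind 𝓦 X) ⊤) :
    ∀ (n : ℕ) (X : Type u) [Group X] [Finite X], Nat.card X = n → IsSectionOf X G →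
      Cfsg.FamilyControlsTransferIn p (ind 𝓦 X) ⊤ := by
  intro n
  induction n using Nat.strong_induction_on with
  | _ n ih =>
    intro X _ _ hcard hsec
    have hsub : ∀ H : Subgroup X, H ≠ ⊤ → Cfsg.FamilyControlsTransferIn p (ind 𝓦 X) H := by
      intro H hH
      have h1 := ih (Nat.card H) (hcard ▸ card_subgroup_lt hH) ↥H rfl
        (IsSectionOf.trans (isSectionOf_subgroup H) hsec)
      have h2 := tf_map_injective 𝓦 h𝓦 H.subtype H.subtype_injective h1
      rwa [Subgroup.range_subtype] at h2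
    have hquot : ∀ (N : Subgroup X) [N.Normal], N ≠ ⊥ →
        Cfsg.FamilyControlsTransferIn p (ind 𝓦 (X ⧸ N)) ⊤ := by
      intro N _ hN
      exact ih (Nat.card (X ⧸ N)) (hcard ▸ card_quotient_lt hN) (X ⧸ N) rfl
        (IsSectionOf.trans (isSectionOf_quotient N) hsec)
    by_cases hpc : PC p X
    · exact handler X hsec hpc hsub hquot
    · exact tf_step 𝓦 h𝓦 hpc hsub hquot

/-- An explicit presentation of a section as `K ⧸ R.subgroupOf K`. -/
theorem exists_equiv_of_isSectionOf {G X : Type u} [Group G] [Group X] (h : IsSectionOf X G) :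
    ∃ (K R : Subgroup G) (_ : (R.subgroupOf K).Normal), Nonempty ((↥K ⧸ R.subgroupOf K) ≃* X) := by
  obtain ⟨K, f, hf⟩ := h
  set R : Subgroup G := f.ker.map K.subtype with hR
  have hRK : R.subgroupOf K = f.ker :=
    Subgroup.comap_map_eq_self_of_injective K.subtype_injective _
  have hn : (R.subgroupOf K).Normal := by rw [hRK]; infer_instance
  exact ⟨K, R, hn, ⟨(QuotientGroup.quotientMulEquivOfEq hRK).trans
    (QuotientGroup.quotientKerEquivOfSurjective f hf)⟩⟩

/-- `S1995`. -/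
theorem family_transfer_of_constrained {G : Type u} [Group G] [Finite G] [Fact p.Prime]
    (𝓦 : Set (∀ (Q : Type u) [Group Q], Subgroup Q))
    (h𝓦 : ∀ W ∈ 𝓦, Cfsg.IsCharPFunctor.{u} p W)
    (hloc : ∀ (K R : Subgroup G) [(R.subgroupOf K).Normal],
      Subgroup.centralizer ((Cfsg.pCore p (↥K ⧸ R.subgroupOf K) :
        Subgroup (↥K ⧸ R.subgroupOf K)) : Set (↥K ⧸ R.subgroupOf K)) ≤
        Cfsg.pCore p (↥K ⧸ R.subgroupOf K) →
      Cfsg.FamilyControlsTransferIn p
        ((fun W => Cfsg.inducedFunctor (G := (↥K ⧸ R.subgroupOf K)) W) '' 𝓦) ⊤) :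
    Cfsg.FamilyControlsTransferIn p ((fun W => Cfsg.inducedFunctor (G := G) W) '' 𝓦) ⊤ := by
  apply tf_induction (G := G) 𝓦 h𝓦 ?_ (Nat.card G) G rfl (isSectionOf_refl G)
  intro X _ _ hsec hpc _ _
  obtain ⟨K, R, hn, ⟨e⟩⟩ := exists_equiv_of_isSectionOf hsec
  have h1 := hloc K R (PC.of_equiv e.symm hpc)
  exact tf_of_equiv 𝓦 h𝓦 e h1

end Cfsg.Agent.Helper1.FT
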