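import Mathlib
import Cfsg.Prelude.Def_Transfer
import Cfsg.Agent.Helper1.Basic
import Cfsg.Agent.Helper1.Coprime
import Cfsg.Agent.Helper1.AbelianAct
import Cfsg.Agent.Helper1.PGroup
import Cfsg.Agent.Helper1.Transfer1
import Cfsg.Agent.Helper1.Card

set_option autoImplicit false

/-!
Abelian normal Hall subgroups; abelian Sylow subgroups; special groups.
-/

namespace Cfsg.Agent.Helper1

open scoped Pointwise commutatorElement

universe u

variable {G : Type u} [Group G]

/-- An abelian normal Hall subgroup splits as `(G' ∩ A) × (Z(G) ∩ A)`. -/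
theorem abelian_normal_hall_decomp [Finite G] (A : Subgroup G) [hAn : A.Normal]
    (hc : IsMulCommutative A) (hHall : Nat.Coprime (Nat.card A) A.index) :
    ⁅A, (⊤ : Subgroup G)⁆ = commutator G ⊓ A ∧
      (commutator G ⊓ A) ⊓ (Subgroup.center G ⊓ A) = ⊥ ∧
      (commutator G ⊓ A) ⊔ (Subgroup.center G ⊓ A) = A := by
  obtain ⟨K, hK⟩ := Subgroup.exists_right_complement'_of_coprime hHall
  have hcardK : Nat.card K = A.index := hK.symm.index_eq_card.symm
  have hKA : K ≤ Subgroup.normalizer (A : Set G) := by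
    intro k _
    rw [Subgroup.mem_normalizer_iff]
    intro a
    constructor
    · intro ha; exact hAn.conj_mem a ha k
    · intro ha
      have := hAn.conj_mem _ ha k⁻¹
      simpa [mul_assoc] using this
  have hcop : (Nat.card K).Coprime (Nat.card A) := by rw [hcardK]; exact hHall.symm
  obtain ⟨hd1, hd2⟩ := abelian_coprime_decomp K A hKA hcop
  have hsup : A ⊔ K = ⊤ := hK.sup_eq_top
  -- C_A(K) = Z(G) ∩ A
  have hCZ : A ⊓ Subgroup.centralizer (K : Set G) = Subgroup.center G ⊓ A := by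
    apply le_antisymm
    · intro a ha
      obtain ⟨haA, haC⟩ := Subgroup.mem_inf.1 ha
      refine Subgroup.mem_inf.2 ⟨?_, haA⟩
      rw [Subgroup.mem_center_iff]
      intro g
      have hg : g ∈ A ⊔ K := hsup ▸ Subgroup.mem_top g
      obtain ⟨a', ha', k, hk, rfl⟩ := mem_sup_of_le_normalizer hKA hg
      have h1 : a' * a = a * a' := congrArg Subtype.val (mul_comm' (⟨a', ha'⟩ : A) ⟨a, haA⟩)
      have h2 : k * a = a * k := Subgroup.mem_centralizer_iff.1 haC k hk
      rw [mul_assoc, h2, ← mul_assoc, h1, mul_assoc]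
    · intro a ha
      obtain ⟨haZ, haA⟩ := Subgroup.mem_inf.1 ha
      refine Subgroup.mem_inf.2 ⟨haA, ?_⟩
      exact Subgroup.center_le_centralizer _ haZ
  have hAKtop : ⁅A, K⁆ ≤ ⁅A, (⊤ : Subgroup G)⁆ := Subgroup.commutator_mono le_rfl le_top
  have htopG' : ⁅A, (⊤ : Subgroup G)⁆ ≤ commutator G ⊓ A :=
    le_inf (Subgroup.commutator_mono le_top le_rfl) (Subgroup.commutator_le_left A ⊤)
  have hbot : (commutator G ⊓ A) ⊓ (Subgroup.center G ⊓ A) = ⊥ := by
    have h0 := abelian_hall_inf_commutator_inf_center A hHall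
    rw [eq_bot_iff] at h0 ⊢
    intro x hx
    obtain ⟨hx1, hx2⟩ := Subgroup.mem_inf.1 hx
    obtain ⟨hxG', hxA⟩ := Subgroup.mem_inf.1 hx1
    obtain ⟨hxZ, -⟩ := Subgroup.mem_inf.1 hx2
    exact h0 (Subgroup.mem_inf.2 ⟨Subgroup.mem_inf.2 ⟨hxA, hxG'⟩, hxZ⟩)
  have hsupA : (commutator G ⊓ A) ⊔ (Subgroup.center G ⊓ A) = A := by
    apply le_antisymm (sup_le inf_le_right inf_le_right)
    calc A = (A ⊓ Subgroup.centralizer (K : Set G)) ⊔ ⁅A, K⁆ := hd2.symm
      _ ≤ (Subgroup.center G ⊓ A) ⊔ (commutator G ⊓ A) :=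
          sup_le_sup hCZ.le (hAKtop.trans htopG')
      _ = _ := sup_comm _ _
  refine ⟨le_antisymm htopG' ?_, hbot, hsupA⟩
  intro x hx
  obtain ⟨hxG', hxA⟩ := Subgroup.mem_inf.1 hx
  have hx' : x ∈ ⁅A, K⁆ ⊔ (A ⊓ Subgroup.centralizer (K : Set G)) := by
    rw [sup_comm, hd2]; exact hxA
  have hnorm : A ⊓ Subgroup.centralizer (K : Set G) ≤ Subgroup.normalizer ((⁅A, K⁆ : Subgroup G) : Set G) := by
    rw [hCZ]
    intro z hz
    have hzZ := (Subgroup.mem_inf.1 hz).1
    rw [Subgroup.mem_normalizer_iff]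
    intro y
    rw [Subgroup.mem_center_iff] at hzZ
    have : z * y * z⁻¹ = y := by rw [← hzZ y, mul_assoc, mul_inv_cancel, mul_one]
    rw [this]
  obtain ⟨c, hc', z, hz, rfl⟩ := mem_sup_of_le_normalizer hnorm hx'
  have hcG' : c ∈ commutator G ⊓ A := htopG' (hAKtop hc')
  have hz1 : z ∈ (commutator G ⊓ A) ⊓ (Subgroup.center G ⊓ A) := by
    refine Subgroup.mem_inf.2 ⟨?_, hCZ ▸ hz⟩
    have : z = c⁻¹ * (c * z) := by group
    rw [this]
    exact Subgroup.mul_mem _ (Subgroup.inv_mem _ hcG') hx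
  rw [hbot, Subgroup.mem_bot] at hz1
  rw [hz1, mul_one]
  exact hAKtop hc'

/-- For an abelian Sylow `p`-subgroup, `G' ∩ P = N_G(P)' ∩ P`. -/
theorem abelian_sylow_commutator_inf [Finite G] {p : ℕ} [Fact p.Prime] (P : Sylow p G)
    (hP : IsMulCommutative P) :
    commutator G ⊓ (P : Subgroup G) =
      ⁅Subgroup.normalizer (P : Set G), Subgroup.normalizer (P : Set G)⁆ ⊓ (P : Subgroup G) := by
  apply le_antisymm
  · refine le_inf ?_ inf_le_right
    rw [Subgroup.commutator_inf_eq_focalSubgroup, Subgroup.focalSubgroup_def, Subgroup.closure_le]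
    rintro g ⟨hgP, x, hxP, u, rfl⟩
    have h1 : (u⁻¹)⁻¹ * x⁻¹ * u⁻¹ ∈ P := by
      have : (u⁻¹)⁻¹ * x⁻¹ * u⁻¹ = x⁻¹ * ⁅x, u⁆ := by
        simp [commutatorElement_def, mul_assoc]
      rw [this]
      exact Subgroup.mul_mem _ (Subgroup.inv_mem _ hxP) hgP
    obtain ⟨n, hn, hn'⟩ := P.conj_eq_normalizer_conj_of_mem x⁻¹ u⁻¹ (Subgroup.inv_mem _ hxP) h1
    have : ⁅x, u⁆ = ⁅x, n⁻¹⁆ := by
      simp only [commutatorElement_def]
      have e1 : x * u * x⁻¹ * u⁻¹ = x * ((u⁻¹)⁻¹ * x⁻¹ * u⁻¹) := by group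
      have e2 : x * n⁻¹ * x⁻¹ * (n⁻¹)⁻¹ = x * (n⁻¹ * x⁻¹ * n) := by group
      rw [e1, e2, hn']
    rw [this]
    exact Subgroup.commutator_mem_commutator (Subgroup.le_normalizer hxP) (Subgroup.inv_mem _ hn)
  · exact inf_le_inf_right _ (Subgroup.commutator_mono le_top le_top)

/-- In a special `p`-group, central elements have order dividing `p`. -/
theorem special_center_pow {P : Type u} [Group P] [Finite P] {p : ℕ} [Fact p.Prime]
    (h : Cfsg.IsSpecial p P) (z : P) (hz : z ∈ Subgroup.center P) : z ^ p = 1 := by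
  obtain ⟨hP, hΦ, hD⟩ := h
  have hcomm_central : ∀ x y : P, ⁅x, y⁆ ∈ Subgroup.center P := by
    intro x y
    rw [← hD]
    exact Subgroup.commutator_mem_commutator (Subgroup.mem_top x) (Subgroup.mem_top y)
  -- ⁅x^n, y⁆ = ⁅x,y⁆^n
  have hpow : ∀ (x y : P) (n : ℕ), ⁅x ^ n, y⁆ = ⁅x, y⁆ ^ n := by
    intro x y n
    induction n with
    | zero => simp
    | succ n ih =>
      have hc := hcomm_central x y
      rw [Subgroup.mem_center_iff] at hc
      have hcn : ∀ g : P, g * ⁅x, y⁆ ^ n = ⁅x, y⁆ ^ n * g := by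
        have := Subgroup.pow_mem _ (hcomm_central x y) n
        rw [Subgroup.mem_center_iff] at this
        exact this
      have e : ⁅x ^ (n + 1), y⁆ = x ^ n * ⁅x, y⁆ * (x ^ n)⁻¹ * ⁅x ^ n, y⁆ := by
        simp only [commutatorElement_def, pow_succ]
        group
      rw [e, ih, pow_succ]
      have : x ^ n * ⁅x, y⁆ * (x ^ n)⁻¹ = ⁅x, y⁆ := by
        rw [hc (x ^ n), mul_assoc, mul_inv_cancel, mul_one]
      rw [this]
      exact (hcn ⁅x, y⁆).symm ▸ rfl
  have hgen : ∀ x y : P, ⁅x, y⁆ ^ p = 1 := by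
    intro x y
    rw [← hpow]
    have hxp : x ^ p ∈ Subgroup.center P := hΦ ▸ IsPGroup.pow_mem_frattini hP x
    rw [Subgroup.mem_center_iff] at hxp
    rw [commutatorElement_def, ← hxp y, mul_assoc, mul_assoc, mul_inv_cancel_left, mul_inv_cancel]
  have hz' : z ∈ commutator P := hD ▸ hz
  clear hz
  rw [commutator_def, Subgroup.commutator_def] at hz'
  induction hz' using Subgroup.closure_induction with
  | mem s hs =>
    obtain ⟨x, -, y, -, rfl⟩ := hs
    exact hgen x y
  | one => simp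
  | mul a b ha hb iha ihb =>
    have haZ : a ∈ Subgroup.center P := by
      rw [← hD, commutator_def, Subgroup.commutator_def]; exact ha
    rw [Subgroup.mem_center_iff] at haZ
    have : Commute a b := (haZ b).symm
    rw [this.mul_pow, iha, ihb, one_mul]
  | inv a _ iha => rw [inv_pow, iha, inv_one]

theorem conj_mem_centralizer_of_mem_normalizer {A : Subgroup G} {r c : G}
    (hr : r ∈ Subgroup.normalizer (A : Set G)) (hc : c ∈ Subgroup.centralizer (A : Set G)) :
    r * c * r⁻¹ ∈ Subgroup.centralizer (A : Set G) := by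
  rw [Subgroup.mem_centralizer_iff]
  intro a ha
  have ha' : r⁻¹ * a * r⁻¹⁻¹ ∈ A :=
    (Subgroup.mem_normalizer_iff.1 (Subgroup.inv_mem _ hr) a).1 ha
  have h1 := Subgroup.mem_centralizer_iff.1 hc _ ha'
  have e1 : a * (r * c * r⁻¹) = r * ((r⁻¹ * a * r⁻¹⁻¹) * c) * r⁻¹ := by group
  have e2 : r * c * r⁻¹ * a = r * (c * (r⁻¹ * a * r⁻¹⁻¹)) * r⁻¹ := by group
  rw [e1, e2, h1]

theorem normalizer_le_normalizer_centralizer (A : Subgroup G) :
    Subgroup.normalizer (A : Set G) ≤
      Subgroup.normalizer ((Subgroup.centralizer (A : Set G) : Subgroup G) : Set G) := by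
  intro r hr
  rw [Subgroup.mem_normalizer_iff]
  intro c
  constructor
  · exact conj_mem_centralizer_of_mem_normalizer hr
  · intro h
    have := conj_mem_centralizer_of_mem_normalizer (Subgroup.inv_mem _ hr) h
    simpa [mul_assoc] using this

/-- The centralizer of a self-centralizing normal subgroup `A` of a Sylow `p`-subgroup is
`A × O_{p'}(C_G(A))`. -/
theorem centralizer_self_centralizing [Finite G] {p : ℕ} [hp : Fact p.Prime] (R : Sylow p G)
    (A : Subgroup G) (hAR : A ≤ (R : Subgroup G))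
    (hAn : (R : Subgroup G) ≤ Subgroup.normalizer (A : Set G))
    (hC : (R : Subgroup G) ⊓ Subgroup.centralizer (A : Set G) = A) :
    ∃ H : Subgroup G, H ≤ Subgroup.centralizer (A : Set G) ∧ Nat.Coprime (Nat.card H) p ∧
      Subgroup.centralizer (A : Set G) ≤ Subgroup.normalizer (H : Set G) ∧ H ⊓ A = ⊥ ∧
      H ⊔ A = Subgroup.centralizer (A : Set G) := by
  set C := Subgroup.centralizer (A : Set G) with hCdef
  have hAC : A ≤ C := by
    calc A = (R : Subgroup G) ⊓ C := hC.symm
      _ ≤ C := inf_le_right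
  have hRC : (R : Subgroup G) ≤ Subgroup.normalizer (C : Set G) :=
    hAn.trans (normalizer_le_normalizer_centralizer A)
  have hcard := card_sup_mul_card_inf hRC
  rw [inf_comm, hC] at hcard
  obtain ⟨m, hm⟩ := Subgroup.card_dvd_of_le hAC
  have hApos : 0 < Nat.card A := Nat.card_pos
  have hsup : Nat.card (C ⊔ (R : Subgroup G) : Subgroup G) = m * Nat.card (R : Subgroup G) := by
    rw [hm] at hcard
    have : Nat.card (C ⊔ (R : Subgroup G) : Subgroup G) * Nat.card A =
        (m * Nat.card (R : Subgroup G)) * Nat.card A := by rw [hcard]; ring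
    exact Nat.eq_of_mul_eq_mul_right hApos this
  have hpm : ¬ p ∣ m := by
    rintro ⟨m', rfl⟩
    have h1 : Nat.card (C ⊔ (R : Subgroup G) : Subgroup G) ∣ Nat.card G := Subgroup.card_subgroup_dvd_card _
    rw [hsup, R.card_eq_multiplicity] at h1
    have h2 : p ^ ((Nat.card G).factorization p + 1) ∣ Nat.card G := by
      refine Dvd.dvd.trans ?_ h1
      exact ⟨m', by ring⟩
    exact Nat.pow_succ_factorization_not_dvd Nat.card_pos.ne' hp.out h2
  obtain ⟨k, hk⟩ := IsPGroup.iff_card.1 (R.2.to_le hAR)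
  have hAn' : (A.subgroupOf C).Normal := by
    constructor
    intro a ha c
    rw [Subgroup.mem_subgroupOf] at ha ⊢
    have h1 := Subgroup.mem_centralizer_iff.1 c.2 _ ha
    have : ((c * a * c⁻¹ : C) : G) = (a : G) := by
      simp only [Subgroup.coe_mul, Subgroup.coe_inv]
      rw [← h1, mul_assoc, mul_inv_cancel, mul_one]
    rw [this]; exact ha
  have hcardA' : Nat.card (A.subgroupOf C) = Nat.card A := card_subgroupOf_of_le hAC
  have hidxA' : (A.subgroupOf C).index = m := by
    have h1 := (A.subgroupOf C).card_mul_index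
    rw [hcardA', hm] at h1
    exact Nat.eq_of_mul_eq_mul_left hApos h1
  have hcop : Nat.Coprime (Nat.card (A.subgroupOf C)) (A.subgroupOf C).index := by
    rw [hcardA', hidxA', hk]
    exact Nat.Coprime.pow_left k ((Nat.Prime.coprime_iff_not_dvd hp.out).2 hpm)
  obtain ⟨H', hH'⟩ := Subgroup.exists_right_complement'_of_coprime hcop
  have hmapA : (A.subgroupOf C).map C.subtype = A := Subgroup.map_subgroupOf_eq_of_le hAC
  have hinf : H'.map C.subtype ⊓ A = ⊥ := by
    rw [← hmapA, ← Subgroup.map_inf _ _ _ C.subtype_injective, inf_comm, hH'.disjoint.eq_bot,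
      Subgroup.map_bot]
  have hsup' : H'.map C.subtype ⊔ A = C := by
    rw [← hmapA, ← Subgroup.map_sup, sup_comm, hH'.sup_eq_top, ← MonoidHom.range_eq_map,
      Subgroup.range_subtype]
  have hHC : H'.map C.subtype ≤ C := Subgroup.map_subtype_le _
  refine ⟨H'.map C.subtype, hHC, ?_, ?_, hinf, hsup'⟩
  · rw [Subgroup.card_map_of_injective C.subtype_injective, ← hH'.symm.index_eq_card, hidxA']
    exact ((Nat.Prime.coprime_iff_not_dvd hp.out).2 hpm).symm
  · refine le_trans hsup'.symm.le ?_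
    apply sup_le Subgroup.le_normalizer
    intro a ha
    rw [Subgroup.mem_normalizer_iff]
    intro h
    have key : ∀ h ∈ H'.map C.subtype, a * h * a⁻¹ = h := by
      intro h hh
      have := Subgroup.mem_centralizer_iff.1 (hHC hh) a ha
      rw [this, mul_assoc, mul_inv_cancel, mul_one]
    constructor
    · intro hh; rw [key h hh]; exact hh
    · intro hh
      have h2 := key _ hh
      have h3 : a * h * a⁻¹ = h := by
        have : a * h * a⁻¹ = a⁻¹ * (a * (a * h * a⁻¹) * a⁻¹) * a := by group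
        rw [this, h2]; group
      rw [← h3]; exact hh

end Cfsg.Agent.Helper1
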