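import Mathlib
import Cfsg.Agent.Helper1.FTD
import Cfsg.Agent.Lead.FamilyFusion
import Cfsg.Agent.Lead.AlperinTame2

/-!
Glauberman's local-to-global theorem for control of strong fusion via `p`-constrained sections:
basic tools (chains, transport along injective homomorphisms, factorizations, Alperin wrapper).
-/

set_option autoImplicit false

universe u

namespace Cfsg.Agent.Helper1.FT

open Cfsg Cfsg.Agent.Lead Cfsg.Agent.Helper5.TF

variable {p : ℕ}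

section basic

variable {X : Type*} [Group X]

theorem FChain_mono_steps {N N' T : Set X} (hN : N ⊆ N') {A : Set X} {g : X}
    (h : FChain N T A g) : FChain N' T A g := by
  induction h with
  | nil A hA => exact FChain.nil A hA
  | cons A x g hx hA _ ih => exact FChain.cons A x g (hN hx) hA ih

theorem FRel_subset_right {𝓥 : Set (Subgroup X → Subgroup X)} {S : Subgroup X} {A : Set X} {g : X}
    (h : FRel 𝓥 S A g) : conjR g A ⊆ S := by
  obtain ⟨g', hc, hag⟩ := h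
  rw [← conjR_congr hag]
  exact hc.subset_right

theorem FRel_subset_left {𝓥 : Set (Subgroup X → Subgroup X)} {S : Subgroup X} {A : Set X} {g : X}
    (h : FRel 𝓥 S A g) : A ⊆ S := by
  obtain ⟨g', hc, -⟩ := h
  exact hc.subset_left

/-- All fusion maps of `S` are induced by chains. -/
def SFS (𝓥 : Set (Subgroup X → Subgroup X)) (S : Subgroup X) : Prop :=
  ∀ (A : Set X) (g : X), A ⊆ S → conjR g A ⊆ S → FRel 𝓥 S A g

theorem FRel_of_centralizes {𝓥 : Set (Subgroup X → Subgroup X)} {S : Subgroup X} {A : Set X}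
    {z : X} (hA : A ⊆ S) (hz : ∀ a ∈ A, z⁻¹ * a * z = a) : FRel 𝓥 S A z := by
  refine (FRel.refl (𝓦 := 𝓥) hA).of_agree ?_
  intro a ha
  rw [hz a ha]
  group

end basic

section fin

variable {X : Type*} [Group X] [Finite X] [hp : Fact p.Prime]

theorem sfs_of_top {𝓥 : Set (Subgroup X → Subgroup X)}
    (h𝓥 : ∀ V ∈ 𝓥, Cfsg.IsConjugacyFunctor p V)
    (hc : Cfsg.FamilyControlsStrongFusionIn p 𝓥 ⊤) (S : Sylow p X) :
    SFS 𝓥 (S : Subgroup X) := by
  intro A g hA hAg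
  have hPs : ¬ p ∣ (S : Subgroup X).relIndex ⊤ := by
    rw [Subgroup.relIndex_top_right]; exact S.not_dvd_index
  exact exists_fchain_of_family h𝓥 hc le_top S.2 hPs A g (Subgroup.mem_top g) hA hAg

theorem top_of_sfs {𝓥 : Set (Subgroup X → Subgroup X)} (S : Sylow p X)
    (h : SFS 𝓥 (S : Subgroup X)) : Cfsg.FamilyControlsStrongFusionIn p 𝓥 ⊤ := by
  refine ⟨(S : Subgroup X), le_top, S.2, ?_, ?_⟩
  · rw [Subgroup.relIndex_top_right]
    exact S.not_dvd_index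
  · intro A g _ hAS hAg
    have hAg' : conjR g⁻¹ A ⊆ (S : Subgroup X) := by
      rintro _ ⟨a, ha, rfl⟩
      have := hAg ⟨a, ha, rfl⟩
      simpa using this
    obtain ⟨g', hch, hag⟩ := h A g⁻¹ hAS hAg'
    obtain ⟨n, c, hc0, hsteps, hsets, hlast⟩ := hch.exists_fin
    refine ⟨n, c, hc0, ?_, hsets, ?_⟩
    · intro i
      obtain ⟨W, hW, hx⟩ := hsteps i
      refine ⟨W, hW, ?_⟩
      have := Subgroup.inv_mem _ hx
      rwa [inv_inv] at this
    · intro a ha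
      rw [hlast, inv_inv, hag a ha, inv_inv]

/-- Maps inside a controlled subgroup `H ≥ S` are chains. -/
theorem frel_of_sub {𝓥 : Set (Subgroup X → Subgroup X)}
    (h𝓥 : ∀ V ∈ 𝓥, Cfsg.IsConjugacyFunctor p V) (S : Sylow p X) (H : Subgroup X)
    (hSH : (S : Subgroup X) ≤ H) (hc : Cfsg.FamilyControlsStrongFusionIn p 𝓥 H)
    (A : Set X) (g : X) (hg : g ∈ H) (hA : A ⊆ (S : Subgroup X))
    (hAg : conjR g A ⊆ (S : Subgroup X)) : FRel 𝓥 (S : Subgroup X) A g := by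
  have hidx : ¬ p ∣ (S : Subgroup X).relIndex H := fun hd =>
    S.not_dvd_index (hd.trans (Subgroup.relIndex_dvd_index_of_le hSH))
  obtain ⟨g', hch, hag⟩ := exists_fchain_of_family h𝓥 hc hSH S.2 hidx A g hg hA hAg
  refine ⟨g', FChain_mono_steps ?_ hch, hag⟩
  rintro x ⟨W, hW, hx⟩
  exact ⟨W, hW, Subgroup.mem_inf.mpr ⟨Subgroup.mem_top x, (Subgroup.mem_inf.mp hx).2⟩⟩

/-- Sylow conjugation of a set inside a subgroup `M ≥ S`. -/
theorem exists_conj_set_into_sylow (S : Sylow p X) {M : Subgroup X}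
    (hSM : (S : Subgroup X) ≤ M) (B : Set X) (hBM : B ⊆ M) (g : X)
    (hBg : ∀ b ∈ B, g * b * g⁻¹ ∈ (S : Subgroup X)) :
    ∃ m ∈ M, ∀ b ∈ B, m * b * m⁻¹ ∈ (S : Subgroup X) := by
  set P : Subgroup X := Subgroup.closure B with hP
  have hPM : P ≤ M := (Subgroup.closure_le _).mpr hBM
  have hPle : P ≤ (S : Subgroup X).map (MulAut.conj g⁻¹).toMonoidHom := by
    rw [hP, Subgroup.closure_le]
    intro b hb
    refine ⟨g * b * g⁻¹, hBg b hb, ?_⟩
    simp [mul_assoc]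
  have hPp : IsPGroup p P := (S.2.map _).to_le hPle
  have hidx : ¬ p ∣ (S : Subgroup X).relIndex M := fun hd =>
    S.not_dvd_index (hd.trans (Subgroup.relIndex_dvd_index_of_le hSM))
  have hcard := card_eq_ppart_of_relIndex hSM S.2 hidx
  obtain ⟨m, hmM, hmP⟩ := exists_conj_le_of_card_eq_ppart (p := p) hSM hcard hPM hPp
  refine ⟨m, hmM, fun b hb => ?_⟩
  have : (MulAut.conj m).toMonoidHom b ∈ P.map (MulAut.conj m).toMonoidHom :=
    ⟨b, Subgroup.subset_closure hb, rfl⟩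
  have h2 := hmP this
  simpa using h2

/-- Factorization: if `X = H₁ H₂` with `S ≤ H₁ ∩ H₂` and the maps in `H₁` and in `H₂` are chains,
then all fusion maps are chains. -/
theorem sfs_of_factor {𝓥 : Set (Subgroup X → Subgroup X)} (S : Sylow p X)
    (H₁ H₂ : Subgroup X) (hS1 : (S : Subgroup X) ≤ H₁) (hS2 : (S : Subgroup X) ≤ H₂)
    (h1 : ∀ (A : Set X) (g : X), g ∈ H₁ → A ⊆ (S : Subgroup X) → conjR g A ⊆ (S : Subgroup X) →
      FRel 𝓥 (S : Subgroup X) A g)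
    (h2 : ∀ (A : Set X) (g : X), g ∈ H₂ → A ⊆ (S : Subgroup X) → conjR g A ⊆ (S : Subgroup X) →
      FRel 𝓥 (S : Subgroup X) A g)
    (hfac : ∀ x : X, ∃ a ∈ H₁, ∃ b ∈ H₂, x = a * b) : SFS 𝓥 (S : Subgroup X) := by
  intro A g hA hAg
  obtain ⟨a, ha, b, hb, rfl⟩ := hfac g
  have hBM : conjR a A ⊆ ((H₁ ⊓ H₂ : Subgroup X) : Set X) := by
    rintro _ ⟨y, hy, rfl⟩
    refine ⟨H₁.mul_mem (H₁.mul_mem (H₁.inv_mem ha) (hS1 (hA hy))) ha, ?_⟩
    have h3 : (a * b)⁻¹ * y * (a * b) ∈ (S : Subgroup X) := hAg ⟨y, hy, rfl⟩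
    have e : a⁻¹ * y * a = b * ((a * b)⁻¹ * y * (a * b)) * b⁻¹ := by group
    show a⁻¹ * y * a ∈ H₂
    rw [e]
    exact H₂.mul_mem (H₂.mul_mem hb (hS2 h3)) (H₂.inv_mem hb)
  have hBg : ∀ z ∈ conjR a A, a * z * a⁻¹ ∈ (S : Subgroup X) := by
    rintro _ ⟨y, hy, rfl⟩
    have e : a * (a⁻¹ * y * a) * a⁻¹ = y := by group
    rw [e]
    exact hA hy
  obtain ⟨m, hm, hmS⟩ := exists_conj_set_into_sylow S (le_inf hS1 hS2) (conjR a A) hBM a hBg
  have e : a * b = (a * m⁻¹) * (m * b) := by group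
  rw [e]
  have hA1 : conjR (a * m⁻¹) A ⊆ (S : Subgroup X) := by
    rintro _ ⟨y, hy, rfl⟩
    have := hmS _ ⟨y, hy, rfl⟩
    have e2 : (a * m⁻¹)⁻¹ * y * (a * m⁻¹) = m * (a⁻¹ * y * a) * m⁻¹ := by group
    show (a * m⁻¹)⁻¹ * y * (a * m⁻¹) ∈ (S : Subgroup X)
    rw [e2]
    exact this
  refine (h1 A (a * m⁻¹) (H₁.mul_mem ha (H₁.inv_mem hm.1)) hA hA1).comp ?_
  refine h2 _ (m * b) (H₂.mul_mem hm.2 hb) hA1 ?_
  rw [← conjR_mul, ← e]
  exact hAg

/-- Alperin wrapper: it suffices to treat the steps of Alperin's fusion theorem. -/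
theorem sfs_of_alperin {𝓥 : Set (Subgroup X → Subgroup X)} (S : Sylow p X)
    (h : ∀ (T : Subgroup X) (x : X), Alp.StepRel p (S : Subgroup X) T x →
      FRel 𝓥 (S : Subgroup X) (T : Set X) x) : SFS 𝓥 (S : Subgroup X) := by
  intro A g hA hAg
  have hch := Alp.alperin_chain S.2 (Sylow.card_eq_multiplicity S) A g hA hAg
  clear hAg
  induction hch with
  | nil A => exact FRel.refl hA
  | cons A T x g hR hAT _ ih =>
    have hTx := h T x hR
    have hxA : conjR x A ⊆ (S : Subgroup X) :=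
      (conjR_mono hAT).trans (FRel_subset_right hTx)
    exact (hTx.mono hAT).comp (ih hxA)

end fin

/-! ### Transport of control of strong fusion along an injective homomorphism -/

theorem sf_map_injective [Fact p.Prime] {Y Z : Type u} [Group Y] [Group Z] [Finite Y]
    (𝓦 : Set (∀ (Q : Type u) [Group Q], Subgroup Q))
    (h𝓦 : ∀ W ∈ 𝓦, Cfsg.IsCharPFunctor.{u} p W)
    (f : Y →* Z) (hf : Function.Injective f)
    (h : Cfsg.FamilyControlsStrongFusionIn p (ind 𝓦 Y) ⊤) :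
    Cfsg.FamilyControlsStrongFusionIn p (ind 𝓦 Z) f.range := by
  obtain ⟨T, -, hTp, hidx, hctl⟩ := h
  refine ⟨T.map f, ?_, hTp.map f, ?_, ?_⟩
  · rintro _ ⟨t, -, rfl⟩
    exact ⟨t, rfl⟩
  · rw [MonoidHom.range_eq_map, Subgroup.relIndex_map_map_of_injective _ _ hf]
    exact hidx
  · rintro A _ ⟨h₀, rfl⟩ hA hAh
    set A₀ : Set Y := {y | y ∈ T ∧ f y ∈ A} with hA₀
    have hA₀T : A₀ ⊆ T := fun y hy => hy.1
    have hA₀h : (fun a => h₀ * a * h₀⁻¹) '' A₀ ⊆ T := by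
      rintro _ ⟨y, hy, rfl⟩
      have h1 : f h₀ * f y * (f h₀)⁻¹ ∈ T.map f := hAh ⟨f y, hy.2, rfl⟩
      rw [← map_inv, ← map_mul, ← map_mul] at h1
      exact (Subgroup.mem_map_iff_mem hf).mp h1
    obtain ⟨n, c, hc0, hsteps, hsets, hlast⟩ := hctl A₀ h₀ (Subgroup.mem_top _) hA₀T hA₀h
    have hAimg : ∀ a ∈ A, ∃ y ∈ A₀, f y = a := by
      intro a ha
      obtain ⟨y, hy, rfl⟩ := hA ha
      exact ⟨y, ⟨hy, ha⟩, rfl⟩
    refine ⟨n, fun i => f (c i), by simp [hc0], ?_, ?_, ?_⟩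
    · intro i
      obtain ⟨V, ⟨W, hW, rfl⟩, hi⟩ := hsteps i
      refine ⟨Cfsg.inducedFunctor (G := Z) W, ⟨W, hW, rfl⟩, ?_⟩
      rw [inducedFunctor_map W (h𝓦 W hW) f hf T hTp, ← map_normalizer_of_injective f hf]
      refine ⟨c i.succ * (c i.castSucc)⁻¹, (Subgroup.mem_inf.mp hi).2, ?_⟩
      simp
    · intro i
      rintro _ ⟨a, ha, rfl⟩
      obtain ⟨y, hy, rfl⟩ := hAimg a ha
      refine ⟨c i * y * (c i)⁻¹, hsets i ⟨y, hy, rfl⟩, ?_⟩
      simp
    · intro a ha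
      obtain ⟨y, hy, rfl⟩ := hAimg a ha
      have := hlast y hy
      have h2 := congrArg f this
      simpa using h2

theorem sf_of_equiv [Fact p.Prime] {Y Z : Type u} [Group Y] [Group Z] [Finite Y]
    (𝓦 : Set (∀ (Q : Type u) [Group Q], Subgroup Q))
    (h𝓦 : ∀ W ∈ 𝓦, Cfsg.IsCharPFunctor.{u} p W) (e : Y ≃* Z)
    (h : Cfsg.FamilyControlsStrongFusionIn p (ind 𝓦 Y) ⊤) :
    Cfsg.FamilyControlsStrongFusionIn p (ind 𝓦 Z) ⊤ := by
  have h1 := sf_map_injective 𝓦 h𝓦 e.toMonoidHom e.injective h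
  have h2 : e.toMonoidHom.range = ⊤ := MonoidHom.range_eq_top.mpr e.surjective
  rwa [h2] at h1

end Cfsg.Agent.Helper1.FT
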