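import Mathlib
import Cfsg.Agent.Helper1.FSA
import Cfsg.Agent.Helper1.FTC

/-!
Glauberman's local-to-global theorem for control of strong fusion via `p`-constrained sections:
the case `O_{p'}(X) ≠ 1`.
-/

set_option autoImplicit false

universe u

namespace Cfsg.Agent.Helper1.FT

open Cfsg Cfsg.Agent.Lead Cfsg.Agent.Helper5.TF

variable {p : ℕ}

variable {X : Type u} [Group X] [Finite X] [hp : Fact p.Prime]
  (𝓦 : Set (∀ (Q : Type u) [Group Q], Subgroup Q))
  (h𝓦 : ∀ W ∈ 𝓦, Cfsg.IsCharPFunctor.{u} p W)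

include h𝓦 in
/-- Case `O_{p'}(X) ≠ 1`: lift control of strong fusion from `X ⧸ O`. -/
theorem sf_case_pprime (O : Subgroup X) [hOn : O.Normal] (hO : (Nat.card O).Coprime p)
    (h : Cfsg.FamilyControlsStrongFusionIn p (ind 𝓦 (X ⧸ O)) ⊤) :
    Cfsg.FamilyControlsStrongFusionIn p (ind 𝓦 X) ⊤ := by
  have S : Sylow p X := default
  set π := QuotientGroup.mk' O with hπ
  have hπs : Function.Surjective π := QuotientGroup.mk'_surjective O
  have hSO : ∀ t ∈ (S : Subgroup X), π t = 1 → t = 1 := by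
    intro t ht h1
    have htO : t ∈ O := (QuotientGroup.eq_one_iff t).mp h1
    have hdisj : (S : Subgroup X) ⊓ O = ⊥ := by
      apply Disjoint.eq_bot
      apply Subgroup.disjoint_of_coprime_natCard
      obtain ⟨k, hk⟩ := IsPGroup.iff_card.mp S.2
      rw [hk]
      exact Nat.Coprime.pow_left k hO.symm
    have : t ∈ (S : Subgroup X) ⊓ O := ⟨ht, htO⟩
    rwa [hdisj, Subgroup.mem_bot] at this
  have hSinj : ∀ s ∈ (S : Subgroup X), ∀ t ∈ (S : Subgroup X), π s = π t → s = t := by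
    intro s hs t ht hst
    have h1 : s⁻¹ * t = 1 := by
      apply hSO _ ((S : Subgroup X).mul_mem ((S : Subgroup X).inv_mem hs) ht)
      rw [map_mul, map_inv, hst, inv_mul_cancel]
    have := congrArg (s * ·) h1
    simpa using this.symm
  have hSbar_p : IsPGroup p ((S : Subgroup X).map π) := S.2.map π
  have hSbar_idx : ¬ p ∣ ((S : Subgroup X).map π).relIndex ⊤ := by
    rw [Subgroup.relIndex_top_right]
    exact fun hd => S.not_dvd_index (hd.trans (Subgroup.index_map_dvd _ hπs))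
  have hconjbar := ind_isConj h𝓦 (X ⧸ O)
  have hconj := ind_isConj h𝓦 X
  -- preimage of `S̄`
  have hpre : ∀ y : X, π y ∈ (S : Subgroup X).map π → y ∈ (S : Subgroup X) ⊔ O := by
    intro y hy
    obtain ⟨s, hs, hsy⟩ := hy
    have h2 : s⁻¹ * y ∈ O := by
      rw [← QuotientGroup.eq_one_iff]
      show π (s⁻¹ * y) = 1
      rw [map_mul, map_inv, hsy, inv_mul_cancel]
    have e : y = s * (s⁻¹ * y) := by group
    rw [e]
    exact Subgroup.mul_mem _ (le_sup_left (b := O) hs) (le_sup_right (a := (S : Subgroup X)) h2)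
  -- lifting of chains
  have hlift : ∀ (C : Set (X ⧸ O)) (gb : X ⧸ O),
      FChain (fusionSteps (ind 𝓦 (X ⧸ O)) ⊤ ((S : Subgroup X).map π))
        (((S : Subgroup X).map π : Subgroup (X ⧸ O)) : Set (X ⧸ O)) C gb →
      ∀ A : Set X, A ⊆ (S : Subgroup X) → π '' A ⊆ C →
        ∃ g' : X, π g' = gb ∧ FRel (ind 𝓦 X) (S : Subgroup X) A g' := by
    intro C gb hch
    induction hch with
    | nil C hC =>
      intro A hA _
      exact ⟨1, map_one _, FRel.refl hA⟩
    | cons C xb gb hx hC hch ih =>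
      intro A hA hAC
      obtain ⟨V, ⟨W, hW, rfl⟩, hxN⟩ := hx
      have hWc := isConjugacyFunctor_induced (X := X) W (h𝓦 W hW)
      set K := Cfsg.inducedFunctor W (S : Subgroup X) with hK
      have hKS : K ≤ (S : Subgroup X) := (hWc _ S.2).1
      have hKp : IsPGroup p K := S.2.to_le hKS
      have hxN2 : xb ∈ Subgroup.normalizer
          ((Cfsg.inducedFunctor W ((S : Subgroup X).map π) : Subgroup (X ⧸ O)) : Set (X ⧸ O)) :=
        (Subgroup.mem_inf.mp hxN).2
      rw [inducedFunctor_map_injOn W (h𝓦 W hW) π (S : Subgroup X) S.2 hSO] at hxN2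
      obtain ⟨n, hn, rfl⟩ := normalizer_map_le_of_coprime O hO K hKp hxN2
      have hSNK : (S : Subgroup X) ≤ Subgroup.normalizer (K : Set X) := le_normalizer_functor hWc S.2
      set M : Subgroup X := Subgroup.normalizer (K : Set X) ⊓ ((S : Subgroup X) ⊔ O) with hM
      have hSM : (S : Subgroup X) ≤ M := le_inf hSNK le_sup_left
      have htail : conjR (π n) C ⊆ (((S : Subgroup X).map π : Subgroup (X ⧸ O)) : Set (X ⧸ O)) :=
        hch.subset_left
      have hBM : conjR n A ⊆ (M : Set X) := by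
        rintro _ ⟨a, ha, rfl⟩
        refine ⟨?_, ?_⟩
        · exact Subgroup.mul_mem _ (Subgroup.mul_mem _ (Subgroup.inv_mem _ hn) (hSNK (hA ha))) hn
        · apply hpre
          have : (π n)⁻¹ * π a * π n ∈ conjR (π n) C := ⟨π a, hAC ⟨a, ha, rfl⟩, rfl⟩
          have h3 := htail this
          show π (n⁻¹ * a * n) ∈ (S : Subgroup X).map π
          rw [map_mul, map_mul, map_inv]
          exact h3
      have hBg : ∀ z ∈ conjR n A, n * z * n⁻¹ ∈ (S : Subgroup X) := by
        rintro _ ⟨y, hy, rfl⟩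
        have e : n * (n⁻¹ * y * n) * n⁻¹ = y := by group
        rw [e]
        exact hA hy
      obtain ⟨m, hm, hmS⟩ := exists_conj_set_into_sylow S hSM (conjR n A) hBM n hBg
      obtain ⟨s, hs, o, ho, rfl⟩ := Subgroup.mem_sup_of_normal_right.mp hm.2
      have hoN : o ∈ Subgroup.normalizer (K : Set X) := by
        have := Subgroup.mul_mem _ (Subgroup.inv_mem _ (hSNK hs)) hm.1
        rwa [inv_mul_cancel_left] at this
      set x := n * o⁻¹ with hxdef
      have hxN : x ∈ Subgroup.normalizer (K : Set X) :=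
        Subgroup.mul_mem _ hn (Subgroup.inv_mem _ hoN)
      have hπx : π x = π n := by
        rw [hxdef, map_mul, map_inv]
        have : π o = 1 := (QuotientGroup.eq_one_iff o).mpr ho
        rw [this, inv_one, mul_one]
      have hxA : conjR x A ⊆ (S : Subgroup X) := by
        rintro _ ⟨a, ha, rfl⟩
        have h3 := hmS _ ⟨a, ha, rfl⟩
        have h4 := (S : Subgroup X).mul_mem ((S : Subgroup X).mul_mem ((S : Subgroup X).inv_mem hs) h3) hs
        have e : s⁻¹ * (s * o * (n⁻¹ * a * n) * (s * o)⁻¹) * s = x⁻¹ * a * x := by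
          rw [hxdef]; group
        rw [e] at h4
        exact h4
      have hstep : FRel (ind 𝓦 X) (S : Subgroup X) A x :=
        FRel.step ⟨W, hW, rfl⟩ hxN hA hxA
      have hAC' : π '' conjR x A ⊆ conjR (π n) C := by
        rintro _ ⟨_, ⟨a, ha, rfl⟩, rfl⟩
        refine ⟨π a, hAC ⟨a, ha, rfl⟩, ?_⟩
        rw [map_mul, map_mul, map_inv, hπx]
      obtain ⟨g'', hg'', hrel⟩ := ih (conjR x A) hxA hAC'
      exact ⟨x * g'', by rw [map_mul, hπx, hg''], hstep.comp hrel⟩
  apply top_of_sfs S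
  intro A g hA hAg
  have hAbar : π '' A ⊆ (((S : Subgroup X).map π : Subgroup (X ⧸ O)) : Set (X ⧸ O)) := by
    rintro _ ⟨a, ha, rfl⟩
    exact ⟨a, hA ha, rfl⟩
  have hAgbar : conjR (π g) (π '' A) ⊆
      (((S : Subgroup X).map π : Subgroup (X ⧸ O)) : Set (X ⧸ O)) := by
    rintro _ ⟨_, ⟨a, ha, rfl⟩, rfl⟩
    refine ⟨g⁻¹ * a * g, hAg ⟨a, ha, rfl⟩, ?_⟩
    rw [map_mul, map_mul, map_inv]
  obtain ⟨gb, hch, hag⟩ := exists_fchain_of_family hconjbar h le_top hSbar_p hSbar_idx (π '' A) (π g)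
    (Subgroup.mem_top _) hAbar hAgbar
  obtain ⟨g', hg', hrel⟩ := hlift _ _ hch A hA le_rfl
  refine hrel.of_agree ?_
  intro a ha
  apply hSinj _ (FRel_subset_right hrel ⟨a, ha, rfl⟩) _ (hAg ⟨a, ha, rfl⟩)
  rw [map_mul, map_mul, map_inv, map_mul, map_mul, map_inv, hg']
  exact hag (π a) ⟨a, ha, rfl⟩

end Cfsg.Agent.Helper1.FT
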