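import Mathlib
import Cfsg.Agent.Helper1.FSB

/-!
Glauberman's local-to-global theorem for control of strong fusion via `p`-constrained sections:
the case `O_p(X) ≠ 1`.
-/

set_option autoImplicit false

universe u

namespace Cfsg.Agent.Helper1.FT

open Cfsg Cfsg.Agent.Lead Cfsg.Agent.Helper5.TF

variable {p : ℕ}

/-- The stability group of the chain `T ≥ Q ≥ 1` inside `N(T)`. -/
def stabGroup {X : Type*} [Group X] (Q : Subgroup X) (T : Subgroup X) :
    Subgroup X where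
  carrier := {y | y ∈ Subgroup.normalizer (T : Set X) ∧ ∀ t ∈ T, t⁻¹ * (y⁻¹ * t * y) ∈ Q}
  one_mem' := ⟨Subgroup.one_mem _, fun t _ => by simp⟩
  mul_mem' := by
    rintro y z ⟨hy, hy'⟩ ⟨hz, hz'⟩
    refine ⟨Subgroup.mul_mem _ hy hz, fun t ht => ?_⟩
    have ht' : y⁻¹ * t * y ∈ T := by
      have := (Subgroup.mem_normalizer_iff.mp (Subgroup.inv_mem _ hy) t).mp ht
      simpa using this
    have h1 := hy' t ht
    have h2 := hz' _ ht'
    have e : t⁻¹ * ((y * z)⁻¹ * t * (y * z)) =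
        (t⁻¹ * (y⁻¹ * t * y)) * ((y⁻¹ * t * y)⁻¹ * (z⁻¹ * (y⁻¹ * t * y) * z)) := by group
    rw [e]
    exact Q.mul_mem h1 h2
  inv_mem' := by
    rintro y ⟨hy, hy'⟩
    refine ⟨Subgroup.inv_mem _ hy, fun t ht => ?_⟩
    have ht' : y * t * y⁻¹ ∈ T := (Subgroup.mem_normalizer_iff.mp hy t).mp ht
    have h1 := hy' _ ht'
    have e : t⁻¹ * (y⁻¹⁻¹ * t * y⁻¹) = ((y * t * y⁻¹)⁻¹ * (y⁻¹ * (y * t * y⁻¹) * y))⁻¹ := by group
    rw [e]
    exact Q.inv_mem h1

theorem mem_stabGroup {X : Type*} [Group X] (Q : Subgroup X) (T : Subgroup X)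
    (y : X) : y ∈ stabGroup Q T ↔
      y ∈ Subgroup.normalizer (T : Set X) ∧ ∀ t ∈ T, t⁻¹ * (y⁻¹ * t * y) ∈ Q := Iff.rfl

/-- Powers of an element of the stability group that centralizes `Q`. -/
theorem stab_pow_conj {X : Type*} [Group X] (Q : Subgroup X) (y : X)
    (hyC : y ∈ Subgroup.centralizer (Q : Set X)) (t : X)
    (hq : t⁻¹ * (y⁻¹ * t * y) ∈ Q) :
    ∀ m : ℕ, (y ^ m)⁻¹ * t * y ^ m = t * (t⁻¹ * (y⁻¹ * t * y)) ^ m := by
  intro m
  induction m with
  | zero => simp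
  | succ m ih =>
    set q := t⁻¹ * (y⁻¹ * t * y) with hqdef
    have hcomm : q * y = y * q := (Subgroup.mem_centralizer_iff.mp hyC) q hq
    have hcomm' : ∀ k : ℕ, y⁻¹ * q ^ k * y = q ^ k := by
      intro k
      have h1 : Commute (q ^ k) y := (Commute.pow_left hcomm k)
      have h2 : q ^ k * y = y * q ^ k := h1
      rw [mul_assoc, h2, inv_mul_cancel_left]
    have e : (y ^ (m + 1))⁻¹ * t * y ^ (m + 1) = y⁻¹ * ((y ^ m)⁻¹ * t * y ^ m) * y := by
      rw [pow_succ]; group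
    rw [e, ih]
    have e2 : y⁻¹ * (t * q ^ m) * y = (y⁻¹ * t * y) * (y⁻¹ * q ^ m * y) := by group
    rw [e2, hcomm' m, pow_succ']
    have e3 : y⁻¹ * t * y = t * q := by rw [hqdef]; group
    rw [e3, mul_assoc]

/-- If `X / C_X(Q)` is a `p`-group and `T ≥ Q` is tame, then every element of `N(T)` acting
trivially on `T / Q` lies in `C_X(T) N_S(T)`. -/
theorem stab_mem_centralizer_mul {X : Type*} [Group X] [Finite X] [hp : Fact p.Prime]
    (S : Sylow p X) (Q : Subgroup X) [hQn : Q.Normal] (hQp : IsPGroup p Q)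
    (hXC : ∀ x : X, ∃ k : ℕ, x ^ p ^ k ∈ Subgroup.centralizer (Q : Set X))
    (T : Subgroup X)
    (htame : ¬ p ∣ ((S : Subgroup X) ⊓ Subgroup.normalizer (T : Set X)).relIndex
      (Subgroup.normalizer (T : Set X)))
    (d : X) (hd : d ∈ stabGroup Q T) :
    ∃ z ∈ Subgroup.centralizer (T : Set X),
      ∃ s ∈ (S : Subgroup X) ⊓ Subgroup.normalizer (T : Set X), d = z * s := by
  set NT := Subgroup.normalizer (T : Set X) with hNT
  set D := stabGroup Q T with hD
  have hDN : D ≤ NT := fun y hy => hy.1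
  have hconjT : ∀ y ∈ NT, ∀ t ∈ T, y⁻¹ * t * y ∈ T := by
    intro y hy t ht
    have := (Subgroup.mem_normalizer_iff.mp (Subgroup.inv_mem _ hy) t).mp ht
    simpa using this
  -- `N(T)` normalizes `D`
  have hconjD : ∀ n ∈ NT, ∀ y ∈ D, n * y * n⁻¹ ∈ D := by
    intro n hn y hy
    refine ⟨NT.mul_mem (NT.mul_mem hn hy.1) (NT.inv_mem hn), fun t ht => ?_⟩
    have ht' := hconjT n hn t ht
    have h1 := hy.2 _ ht'
    have h2 := hQn.conj_mem _ h1 n
    have e : n * ((n⁻¹ * t * n)⁻¹ * (y⁻¹ * (n⁻¹ * t * n) * y)) * n⁻¹ =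
        t⁻¹ * ((n * y * n⁻¹)⁻¹ * t * (n * y * n⁻¹)) := by group
    rwa [e] at h2
  have hNTD : NT ≤ Subgroup.normalizer (D : Set X) := by
    intro n hn
    rw [Subgroup.mem_normalizer_iff]
    intro y
    refine ⟨fun hy => hconjD n hn y hy, fun hy => ?_⟩
    have := hconjD n⁻¹ (NT.inv_mem hn) _ hy
    have e : n⁻¹ * (n * y * n⁻¹) * n⁻¹⁻¹ = y := by group
    rwa [e] at this
  -- a `p`-power of every element of `D` centralizes `T`
  obtain ⟨b, hb⟩ := IsPGroup.iff_card.mp hQp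
  have hpow : ∀ y ∈ D, ∃ k : ℕ, y ^ p ^ k ∈ Subgroup.centralizer (T : Set X) := by
    intro y hy
    obtain ⟨a, ha⟩ := hXC y
    have hy1 : y ^ p ^ a ∈ D := D.pow_mem hy _
    refine ⟨a + b, ?_⟩
    rw [pow_add, pow_mul, Subgroup.mem_centralizer_iff]
    intro t ht
    have hq := hy1.2 t ht
    have h1 := stab_pow_conj Q (y ^ p ^ a) ha t hq (p ^ b)
    have h2 : (t⁻¹ * ((y ^ p ^ a)⁻¹ * t * y ^ p ^ a)) ^ p ^ b = 1 := by
      have := pow_card_eq_one' (G := ↥Q) (x := ⟨_, hq⟩)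
      rw [hb] at this
      have h3 := congrArg Subtype.val this
      simpa using h3
    rw [h2, mul_one] at h1
    have h4 := congrArg ((y ^ p ^ a) ^ p ^ b * ·) h1
    simp only [mul_assoc, mul_inv_cancel_left] at h4
    exact h4
  -- the centralizer part
  set E : Subgroup X := Subgroup.centralizer (T : Set X) ⊓ D with hE
  have hED : E ≤ D := inf_le_right
  have hconjE : ∀ y ∈ NT, ∀ e ∈ E, y * e * y⁻¹ ∈ E := by
    intro y hy e he
    refine ⟨?_, hconjD y hy e he.2⟩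
    show y * e * y⁻¹ ∈ Subgroup.centralizer (T : Set X)
    rw [Subgroup.mem_centralizer_iff]
    intro t ht
    have ht' := hconjT y hy t ht
    have h1 := (Subgroup.mem_centralizer_iff.mp he.1) _ ht'
    have e1 : t * (y * e * y⁻¹) = y * ((y⁻¹ * t * y) * e) * y⁻¹ := by group
    rw [e1, h1]
    group
  haveI hEn : (E.subgroupOf D).Normal := by
    constructor
    intro e he y
    have := hconjE (y : X) (hDN y.2) (e : X) he
    exact this
  have hquot : IsPGroup p (↥D ⧸ E.subgroupOf D) := by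
    intro g
    induction g using QuotientGroup.induction_on with
    | H y =>
      obtain ⟨k, hk⟩ := hpow (y : X) y.2
      refine ⟨k, ?_⟩
      rw [← QuotientGroup.mk_pow, QuotientGroup.eq_one_iff]
      exact ⟨hk, (D.pow_mem y.2 _)⟩
  obtain ⟨n, hn⟩ := IsPGroup.iff_card.mp hquot
  have hEidx : E.relIndex D = p ^ n := by
    rw [Subgroup.relIndex, Subgroup.index_eq_card]
    exact hn
  -- the Sylow part
  set PN : Subgroup X := (S : Subgroup X) ⊓ NT with hPN
  set PD : Subgroup X := PN ⊓ D with hPD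
  have hPNnorm : PN ≤ Subgroup.normalizer (D : Set X) := inf_le_right.trans hNTD
  have hPDidx : ¬ p ∣ PD.relIndex D := by
    rw [hPD, Subgroup.inf_relIndex_right, ← relIndex_sup_of_le_normalizer' hPNnorm]
    intro hdvd
    apply htame
    have hle : D ⊔ PN ≤ NT := sup_le hDN inf_le_right
    rw [← Subgroup.relIndex_mul_relIndex PN (D ⊔ PN) NT le_sup_right hle]
    exact Dvd.dvd.mul_right hdvd _
  -- `D = E * PD`
  have hK : (E ⊔ PD).relIndex D = 1 := by
    have h1 : (E ⊔ PD).relIndex D ∣ PD.relIndex D :=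
      Subgroup.relIndex_dvd_of_le_left D le_sup_right
    have h2 : (E ⊔ PD).relIndex D ∣ p ^ n := by
      rw [← hEidx]
      exact Subgroup.relIndex_dvd_of_le_left D le_sup_left
    obtain ⟨j, -, hj⟩ := (Nat.dvd_prime_pow hp.out).mp h2
    rcases Nat.eq_zero_or_pos j with h0 | hpos
    · rw [hj, h0, pow_zero]
    · exfalso
      apply hPDidx
      refine Dvd.dvd.trans ?_ h1
      rw [hj]
      exact dvd_pow_self p hpos.ne'
  have hDle : D ≤ E ⊔ PD := Subgroup.relIndex_eq_one.mp hK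
  have hPDnormE : PD ≤ Subgroup.normalizer (E : Set X) := by
    intro y hy
    have hyN : y ∈ NT := hy.1.2
    rw [Subgroup.mem_normalizer_iff]
    intro e
    refine ⟨fun he => hconjE y hyN e he, fun he => ?_⟩
    have := hconjE y⁻¹ (NT.inv_mem hyN) _ he
    have e2 : y⁻¹ * (y * e * y⁻¹) * y⁻¹⁻¹ = e := by group
    rwa [e2] at this
  have hdmem : d ∈ ((E ⊔ PD : Subgroup X) : Set X) := hDle hd
  rw [Subgroup.coe_mul_of_right_le_normalizer_left E PD hPDnormE] at hdmem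
  obtain ⟨z, hz, s, hs, rfl⟩ := Set.mem_mul.mp hdmem
  exact ⟨z, hz.1, s, hs.1, rfl⟩

end Cfsg.Agent.Helper1.FT
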