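import Mathlib
import Cfsg.Agent.Helper1.FSC

/-!
Glauberman's local-to-global theorem for control of strong fusion via `p`-constrained sections:
the case `O_p(X) ≠ 1`, and the inductive step.
-/

set_option autoImplicit false

universe u

namespace Cfsg.Agent.Helper1.FT

open Cfsg Cfsg.Agent.Lead Cfsg.Agent.Helper5.TF

variable {p : ℕ}

theorem not_dvd_relIndex_of_card_eq_ppart {X : Type*} [Group X] [Finite X] [hp : Fact p.Prime]
    {A M : Subgroup X} (hAM : A ≤ M) (h : Nat.card A = p ^ (Nat.card M).factorization p) :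
    ¬ p ∣ A.relIndex M := by
  intro hd
  have h1 := Cfsg.Agent.Helper1.relIndex_mul_card_of_le hAM
  have h2 : p ^ ((Nat.card M).factorization p + 1) ∣ Nat.card M := by
    have h3 : p * p ^ (Nat.card M).factorization p ∣ A.relIndex M * Nat.card A := by
      rw [h]; exact Nat.mul_dvd_mul hd dvd_rfl
    rw [pow_succ']
    exact h1 ▸ h3
  exact Nat.pow_succ_factorization_not_dvd Nat.card_pos.ne' hp.out h2

variable {X : Type u} [Group X] [Finite X] [hp : Fact p.Prime]
  (𝓦 : Set (∀ (Q : Type u) [Group Q], Subgroup Q))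
  (h𝓦 : ∀ W ∈ 𝓦, Cfsg.IsCharPFunctor.{u} p W)

include h𝓦 in
/-- Case `O_p(X) ≠ 1` and `X = S C_X(O_p(X))`. -/
theorem sf_case_Q_top (S : Sylow p X) (hSQ : ¬ (S : Subgroup X) ≤ Cfsg.pCore p X)
    (hK : Subgroup.centralizer ((Cfsg.pCore p X : Subgroup X) : Set X) ⊔ (S : Subgroup X) = ⊤)
    (hsub : ∀ H : Subgroup X, H ≠ ⊤ → Cfsg.FamilyControlsStrongFusionIn p (ind 𝓦 X) H)
    (hquot : Cfsg.FamilyControlsStrongFusionIn p (ind 𝓦 (X ⧸ Cfsg.pCore p X)) ⊤) :
    SFS (ind 𝓦 X) (S : Subgroup X) := by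
  set Q := Cfsg.pCore p X with hQ
  haveI hQn : Q.Normal := pCore_normal p
  have hQS : Q ≤ (S : Subgroup X) := pCore_le_sylow S
  have hQp : IsPGroup p Q := pCore_isPGroup p
  set C := Subgroup.centralizer ((Q : Subgroup X) : Set X) with hC
  haveI hCn : C.Normal := Subgroup.normal_centralizer
  set π := QuotientGroup.mk' Q with hπ
  have hπs : Function.Surjective π := QuotientGroup.mk'_surjective Q
  have hSbar_p : IsPGroup p ((S : Subgroup X).map π) := S.2.map π
  have hSbar_idx : ¬ p ∣ ((S : Subgroup X).map π).relIndex ⊤ := by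
    rw [Subgroup.relIndex_top_right]
    exact fun hd => S.not_dvd_index (hd.trans (Subgroup.index_map_dvd _ hπs))
  have hSbar_ne : (S : Subgroup X).map π ≠ ⊥ := by
    intro h0
    apply hSQ
    intro s hs
    have : π s ∈ (S : Subgroup X).map π := ⟨s, hs, rfl⟩
    rw [h0, Subgroup.mem_bot] at this
    exact (QuotientGroup.eq_one_iff s).mp this
  have hconjbar := ind_isConj h𝓦 (X ⧸ Q)
  have hconj := ind_isConj h𝓦 X
  have hSne : (S : Subgroup X) ≠ ⊤ := by
    intro h
    apply hSQ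
    have hSn : (S : Subgroup X).Normal := h ▸ inferInstance
    exact le_pCore hSn S.2
  have hSmap : ∀ (A : Set X) (s : X), s ∈ (S : Subgroup X) → A ⊆ (S : Subgroup X) →
      FRel (ind 𝓦 X) (S : Subgroup X) A s := by
    intro A s hs hA
    apply frel_of_sub hconj S (S : Subgroup X) le_rfl (hsub _ hSne) A s hs hA
    rintro _ ⟨a, ha, rfl⟩
    exact (S : Subgroup X).mul_mem ((S : Subgroup X).mul_mem ((S : Subgroup X).inv_mem hs) (hA ha)) hs
  have hpreS : ∀ y : X, π y ∈ (S : Subgroup X).map π → y ∈ (S : Subgroup X) := by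
    intro y hy
    obtain ⟨s, hs, hsy⟩ := hy
    have h2 : s⁻¹ * y ∈ Q := by
      rw [← QuotientGroup.eq_one_iff]
      show π (s⁻¹ * y) = 1
      rw [map_mul, map_inv, hsy, inv_mul_cancel]
    have := (S : Subgroup X).mul_mem hs (hQS h2)
    rwa [mul_inv_cancel_left] at this
  -- lifting of chains
  have hlift : ∀ (C' : Set (X ⧸ Q)) (gb : X ⧸ Q),
      FChain (fusionSteps (ind 𝓦 (X ⧸ Q)) ⊤ ((S : Subgroup X).map π))
        (((S : Subgroup X).map π : Subgroup (X ⧸ Q)) : Set (X ⧸ Q)) C' gb →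
      ∀ A : Set X, A ⊆ (S : Subgroup X) → π '' A ⊆ C' →
        ∃ g' : X, π g' = gb ∧ FRel (ind 𝓦 X) (S : Subgroup X) A g' := by
    intro C' gb hch
    induction hch with
    | nil C' hC' =>
      intro A hA _
      exact ⟨1, map_one _, FRel.refl hA⟩
    | cons C' xb gb hx hC' hch ih =>
      intro A hA hAC
      obtain ⟨V, ⟨W, hW, rfl⟩, hxN⟩ := hx
      have hVc := hconjbar _ ⟨W, hW, rfl⟩
      set Kb := Cfsg.inducedFunctor W ((S : Subgroup X).map π) with hKb
      have hxN2 : xb ∈ Subgroup.normalizer (Kb : Set (X ⧸ Q)) := (Subgroup.mem_inf.mp hxN).2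
      set L : Subgroup X := (Subgroup.normalizer (Kb : Set (X ⧸ Q))).comap π with hL
      have hSL : (S : Subgroup X) ≤ L := by
        intro s hs
        show π s ∈ Subgroup.normalizer (Kb : Set (X ⧸ Q))
        exact le_normalizer_functor hVc hSbar_p ⟨s, hs, rfl⟩
      have hLne : L ≠ ⊤ := by
        intro hLtop
        have hNtop : Subgroup.normalizer (Kb : Set (X ⧸ Q)) = ⊤ := by
          rw [eq_top_iff]
          intro z _
          obtain ⟨x, rfl⟩ := hπs z
          have : x ∈ L := by rw [hLtop]; exact Subgroup.mem_top x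
          exact this
        have hKbn : Kb.Normal := Subgroup.normalizer_eq_top_iff.mp hNtop
        have hKbS : Kb ≤ (S : Subgroup X).map π := (hVc _ hSbar_p).1
        have hRn : (Kb.comap π).Normal := hKbn.comap π
        have hRp : IsPGroup p (Kb.comap π) := by
          intro r
          obtain ⟨k, hk⟩ := hSbar_p ⟨π r, hKbS r.2⟩
          have hk' : (π (r : X)) ^ p ^ k = 1 := by
            have := congrArg Subtype.val hk
            simpa using this
          rw [← map_pow] at hk'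
          have hrQ : (r : X) ^ p ^ k ∈ Q := (QuotientGroup.eq_one_iff _).mp hk'
          obtain ⟨j, hj⟩ := hQp ⟨_, hrQ⟩
          refine ⟨k + j, ?_⟩
          apply Subtype.ext
          have := congrArg Subtype.val hj
          simp only [Subgroup.coe_pow, Subgroup.coe_one] at this ⊢
          rw [pow_add, pow_mul]
          exact this
        have hRQ : Kb.comap π ≤ Q := le_pCore hRn hRp
        have hKb0 : Kb = ⊥ := by
          rw [eq_bot_iff]
          intro z hz
          obtain ⟨x, rfl⟩ := hπs z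
          have : x ∈ Q := hRQ hz
          rw [Subgroup.mem_bot]
          exact (QuotientGroup.eq_one_iff x).mpr this
        exact (hVc _ hSbar_p).2.1 hSbar_ne hKb0
      obtain ⟨x, rfl⟩ := hπs xb
      have hxL : x ∈ L := hxN2
      have htail : conjR (π x) C' ⊆ (((S : Subgroup X).map π : Subgroup (X ⧸ Q)) : Set (X ⧸ Q)) :=
        hch.subset_left
      have hxA : conjR x A ⊆ (S : Subgroup X) := by
        rintro _ ⟨a, ha, rfl⟩
        apply hpreS
        have : (π x)⁻¹ * π a * π x ∈ conjR (π x) C' := ⟨π a, hAC ⟨a, ha, rfl⟩, rfl⟩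
        have h3 := htail this
        show π (x⁻¹ * a * x) ∈ (S : Subgroup X).map π
        rw [map_mul, map_mul, map_inv]
        exact h3
      have hstep : FRel (ind 𝓦 X) (S : Subgroup X) A x :=
        frel_of_sub hconj S L hSL (hsub L hLne) A x hxL hA hxA
      have hAC' : π '' conjR x A ⊆ conjR (π x) C' := by
        rintro _ ⟨_, ⟨a, ha, rfl⟩, rfl⟩
        refine ⟨π a, hAC ⟨a, ha, rfl⟩, ?_⟩
        rw [map_mul, map_mul, map_inv]
      obtain ⟨g'', hg'', hrel⟩ := ih (conjR x A) hxA hAC'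
      exact ⟨x * g'', by rw [map_mul, hg''], hstep.comp hrel⟩
  -- `X / C` is a `p`-group
  have hXC : ∀ x : X, ∃ k : ℕ, x ^ p ^ k ∈ C := by
    intro x
    have hx : x ∈ C ⊔ (S : Subgroup X) := by rw [hK]; exact Subgroup.mem_top x
    obtain ⟨c, hc, s, hs, rfl⟩ := Subgroup.mem_sup_of_normal_left.mp hx
    obtain ⟨k, hk⟩ := S.2 ⟨s, hs⟩
    refine ⟨k, ?_⟩
    have hk' : s ^ p ^ k = 1 := by
      have := congrArg Subtype.val hk
      simpa using this
    rw [← QuotientGroup.eq_one_iff, QuotientGroup.mk_pow, QuotientGroup.mk_mul]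
    have hc1 : ((c : X) : X ⧸ C) = 1 := (QuotientGroup.eq_one_iff c).mpr hc
    rw [hc1, one_mul, ← QuotientGroup.mk_pow, hk', QuotientGroup.mk_one]
  -- Alperin steps
  apply sfs_of_alperin S
  intro T x hstep
  obtain ⟨Q', hQ'p, hQ'card, hTdef, htameS, -, hxN, -⟩ := hstep
  have hTS : T ≤ (S : Subgroup X) := hTdef ▸ inf_le_left
  have hQT : Q ≤ T := by
    rw [hTdef]
    refine le_inf hQS ?_
    have hc : Nat.card Q' = p ^ (Nat.card X).factorization p := by
      rw [hQ'card]; exact Sylow.card_eq_multiplicity S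
    have := pCore_le_sylow (Sylow.ofCard Q' hc)
    exact this
  have htame : ¬ p ∣ ((S : Subgroup X) ⊓ Subgroup.normalizer (T : Set X)).relIndex
      (Subgroup.normalizer (T : Set X)) :=
    not_dvd_relIndex_of_card_eq_ppart inf_le_right htameS
  have hxT : conjR x (T : Set X) ⊆ T := conjR_subset_of_mem_normalizer hxN le_rfl
  -- write `x = c * s`
  have hx : x ∈ C ⊔ (S : Subgroup X) := by rw [hK]; exact Subgroup.mem_top x
  obtain ⟨c, hc, s, hs, rfl⟩ := Subgroup.mem_sup_of_normal_left.mp hx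
  have hcT : conjR c (T : Set X) ⊆ (S : Subgroup X) := by
    rintro _ ⟨t, ht, rfl⟩
    have h1 : (c * s)⁻¹ * t * (c * s) ∈ T := hxT ⟨t, ht, rfl⟩
    have h2 := (S : Subgroup X).mul_mem ((S : Subgroup X).mul_mem hs (hTS h1)) ((S : Subgroup X).inv_mem hs)
    have e : s * ((c * s)⁻¹ * t * (c * s)) * s⁻¹ = c⁻¹ * t * c := by group
    rw [e] at h2
    exact h2
  -- control in the quotient
  have hTbar : π '' (T : Set X) ⊆ (((S : Subgroup X).map π : Subgroup (X ⧸ Q)) : Set (X ⧸ Q)) := by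
    rintro _ ⟨t, ht, rfl⟩
    exact ⟨t, hTS ht, rfl⟩
  have hTcbar : conjR (π c) (π '' (T : Set X)) ⊆
      (((S : Subgroup X).map π : Subgroup (X ⧸ Q)) : Set (X ⧸ Q)) := by
    rintro _ ⟨_, ⟨t, ht, rfl⟩, rfl⟩
    refine ⟨c⁻¹ * t * c, hcT ⟨t, ht, rfl⟩, ?_⟩
    rw [map_mul, map_mul, map_inv]
  obtain ⟨gb, hch, hag⟩ := exists_fchain_of_family hconjbar hquot le_top hSbar_p hSbar_idx
    (π '' (T : Set X)) (π c) (Subgroup.mem_top _) hTbar hTcbar
  obtain ⟨c', hc', hrel⟩ := hlift _ _ hch (T : Set X) hTS le_rfl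
  -- the correction `d = c * c'⁻¹`
  have hagree : ∀ t ∈ T, π (c'⁻¹ * t * c') = π (c⁻¹ * t * c) := by
    intro t ht
    have := hag (π t) ⟨t, ht, rfl⟩
    rw [map_mul, map_mul, map_inv, map_mul, map_mul, map_inv, hc']
    exact this
  have hdstab : c * c'⁻¹ ∈ stabGroup Q T := by
    have hkey : ∀ t ∈ T, t⁻¹ * ((c * c'⁻¹)⁻¹ * t * (c * c'⁻¹)) ∈ Q := by
      intro t ht
      rw [← QuotientGroup.eq_one_iff]
      show π (t⁻¹ * ((c * c'⁻¹)⁻¹ * t * (c * c'⁻¹))) = 1
      have h1 := hagree t ht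
      have e : t⁻¹ * ((c * c'⁻¹)⁻¹ * t * (c * c'⁻¹)) =
          t⁻¹ * (c' * (c⁻¹ * t * c) * c'⁻¹) := by group
      rw [e, map_mul, map_mul, map_mul, ← h1]
      simp only [map_mul, map_inv]
      group
    refine ⟨?_, hkey⟩
    apply mem_normalizer_of_conjR_subset
    rintro _ ⟨t, ht, rfl⟩
    have h1 := hkey t ht
    have h2 := T.mul_mem ht (hQT h1)
    rwa [mul_inv_cancel_left] at h2
  obtain ⟨z, hz, s', hs', hd⟩ := stab_mem_centralizer_mul S Q hQp hXC T htame _ hdstab
  have hxeq : c * s = z * (s' * (c' * s)) := by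
    have : c = z * s' * c' := by
      rw [← hd]; group
    rw [this]; group
  rw [hxeq]
  have hzT : ∀ t ∈ (T : Set X), z⁻¹ * t * z = t := by
    intro t ht
    have := (Subgroup.mem_centralizer_iff.mp hz) t ht
    rw [mul_assoc, this, inv_mul_cancel_left]
  have hzconj : conjR z (T : Set X) = T := by
    ext y
    constructor
    · rintro ⟨t, ht, rfl⟩
      show z⁻¹ * t * z ∈ (T : Set X)
      rw [hzT t ht]; exact ht
    · intro hy
      exact ⟨y, hy, hzT y hy⟩
  have hs'T : conjR s' (T : Set X) ⊆ T := conjR_subset_of_mem_normalizer hs'.2 le_rfl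
  have hs'T' : conjR s' (T : Set X) = T := by
    apply Set.eq_of_subset_of_ncard_le hs'T _ (Set.toFinite _)
    unfold conjR
    rw [Set.ncard_image_of_injective]
    intro a b hab
    have h1 : s'⁻¹ * a * s' = s'⁻¹ * b * s' := hab
    exact mul_left_cancel (mul_right_cancel h1)
  refine (FRel_of_centralizes hTS hzT).comp ?_
  rw [hzconj]
  refine (hSmap _ s' hs'.1 hTS).comp ?_
  rw [hs'T']
  refine hrel.comp ?_
  exact hSmap _ s hs (FRel_subset_right hrel)

end Cfsg.Agent.Helper1.FT
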