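import Mathlib
import Cfsg.Agent.Helper1.FSD

/-!
Glauberman's local-to-global theorem for control of strong fusion via `p`-constrained sections:
the inductive step, the induction over sections, and `S1994`.
-/

set_option autoImplicit false

universe u

namespace Cfsg.Agent.Helper1.FT

open Cfsg Cfsg.Agent.Lead Cfsg.Agent.Helper5.TF

variable {p : ℕ}

variable {X : Type u} [Group X] [Finite X] [hp : Fact p.Prime]
  (𝓦 : Set (∀ (Q : Type u) [Group Q], Subgroup Q))
  (h𝓦 : ∀ W ∈ 𝓦, Cfsg.IsCharPFunctor.{u} p W)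

include h𝓦 in
/-- Case `O_p(X) ≠ 1`, `O_{p'}(X) = 1`, `X` not `p`-constrained. -/
theorem sf_case_Q (hO : Cfsg.pPrimeCore p X = ⊥) (hnpc : ¬ PC p X)
    (hsub : ∀ H : Subgroup X, H ≠ ⊤ → Cfsg.FamilyControlsStrongFusionIn p (ind 𝓦 X) H)
    (hquot : Cfsg.FamilyControlsStrongFusionIn p (ind 𝓦 (X ⧸ Cfsg.pCore p X)) ⊤) :
    Cfsg.FamilyControlsStrongFusionIn p (ind 𝓦 X) ⊤ := by
  have S : Sylow p X := default
  have hnc : ¬ (S : Subgroup X) ⊓ Subgroup.centralizer ((Cfsg.pCore p X : Subgroup X) : Set X) ≤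
      Cfsg.pCore p X := fun h => hnpc (pc_of_sylow_centralizer_le S hO h)
  have hSQ : ¬ (S : Subgroup X) ≤ Cfsg.pCore p X := fun h => hnc (inf_le_left.trans h)
  apply top_of_sfs S
  set Q := Cfsg.pCore p X with hQ
  have hQS : Q ≤ (S : Subgroup X) := pCore_le_sylow S
  haveI hQn : Q.Normal := pCore_normal p
  set C := Subgroup.centralizer ((Q : Subgroup X) : Set X) with hC
  haveI hCn : C.Normal := Subgroup.normal_centralizer
  by_cases hK : C ⊔ (S : Subgroup X) = ⊤
  · exact sf_case_Q_top 𝓦 h𝓦 S hSQ hK hsub hquot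
  set M : Subgroup X := Q ⊔ C with hM
  haveI hMn : M.Normal := Subgroup.sup_normal Q C
  set T : Subgroup X := (S : Subgroup X) ⊓ M with hT
  set N₁ : Subgroup X := Subgroup.normalizer (T : Set X) with hN₁
  have hSN₁ : (S : Subgroup X) ≤ N₁ := by
    intro s hs
    rw [hN₁, Subgroup.mem_normalizer_iff]
    intro h
    constructor
    · rintro ⟨h1, h2⟩
      exact ⟨(S : Subgroup X).mul_mem ((S : Subgroup X).mul_mem hs h1) ((S : Subgroup X).inv_mem hs),
        hMn.conj_mem h h2 s⟩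
    · rintro ⟨h1, h2⟩
      refine ⟨?_, ?_⟩
      · have := (S : Subgroup X).mul_mem ((S : Subgroup X).mul_mem ((S : Subgroup X).inv_mem hs) h1) hs
        have e : s⁻¹ * (s * h * s⁻¹) * s = h := by group
        rwa [e] at this
      · have := hMn.conj_mem _ h2 s⁻¹
        have e : s⁻¹ * (s * h * s⁻¹) * s⁻¹⁻¹ = h := by group
        rwa [e] at this
  have hN₁ne : N₁ ≠ ⊤ := by
    intro htop
    apply hnc
    have hTn : T.Normal := Subgroup.normalizer_eq_top_iff.mp htop
    have hTQ : T ≤ Q := le_pCore hTn (S.2.to_le inf_le_left)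
    exact le_trans (inf_le_inf_left _ (le_sup_right : C ≤ M)) hTQ
  have hfr : N₁ ⊔ M = ⊤ := by
    have hpM : IsPGroup p ((S : Subgroup X).subgroupOf M) := S.2.comap_subtype
    have hidx : ¬ p ∣ ((S : Subgroup X).subgroupOf M).index := by
      intro hd
      have h2 : (S : Subgroup X).relIndex M ∣ (S : Subgroup X).index :=
        relIndex_dvd_index_of_normalizes (by rw [Subgroup.normalizer_eq_top]; exact le_top)
      exact S.not_dvd_index (hd.trans h2)
    have h3 := Sylow.normalizer_sup_eq_top (hpM.toSylow hidx)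
    rw [IsPGroup.toSylow_coe, Subgroup.subgroupOf_map_subtype] at h3
    exact h3
  have hconj := ind_isConj h𝓦 X
  apply sfs_of_factor S N₁ (C ⊔ (S : Subgroup X)) hSN₁ le_sup_right
  · intro A g hg hA hAg
    exact frel_of_sub hconj S N₁ hSN₁ (hsub N₁ hN₁ne) A g hg hA hAg
  · intro A g hg hA hAg
    exact frel_of_sub hconj S _ le_sup_right (hsub _ hK) A g hg hA hAg
  · intro x
    have hx : x ∈ N₁ ⊔ M := by rw [hfr]; exact Subgroup.mem_top x
    obtain ⟨n, hn, m, hm, rfl⟩ := Subgroup.mem_sup_of_normal_right.mp hx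
    obtain ⟨q, hq, c, hc, rfl⟩ := Subgroup.mem_sup_of_normal_left.mp hm
    have hqN : q ∈ N₁ := Subgroup.le_normalizer (⟨hQS hq, le_sup_left (a := Q) hq⟩ : q ∈ T)
    exact ⟨n * q, N₁.mul_mem hn hqN, c, le_sup_left (a := C) hc, by group⟩

include h𝓦 in
/-- The inductive step: if the family controls strong fusion in every proper subgroup and every
proper quotient of `X`, and `X` is not `p`-constrained, then the family controls strong fusion in
`X`. -/
theorem sf_step (hnpc : ¬ PC p X)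
    (hsub : ∀ H : Subgroup X, H ≠ ⊤ → Cfsg.FamilyControlsStrongFusionIn p (ind 𝓦 X) H)
    (hquot : ∀ (N : Subgroup X) [N.Normal], N ≠ ⊥ →
      Cfsg.FamilyControlsStrongFusionIn p (ind 𝓦 (X ⧸ N)) ⊤) :
    Cfsg.FamilyControlsStrongFusionIn p (ind 𝓦 X) ⊤ := by
  by_cases hO : Cfsg.pPrimeCore p X = ⊥
  · by_cases hQ : Cfsg.pCore p X = ⊥
    · have S : Sylow p X := default
      apply familyControlsStrongFusionIn_top_of_local S (ind 𝓦 X) (ind_isConj h𝓦 X)
      intro T hTS hTne _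
      apply hsub
      intro htop
      apply hTne
      have hTn : T.Normal := Subgroup.normalizer_eq_top_iff.mp htop
      have := le_pCore hTn (S.2.to_le hTS)
      rwa [hQ, le_bot_iff] at this
    · exact sf_case_Q 𝓦 h𝓦 hO hnpc hsub (hquot _ hQ)
  · exact sf_case_pprime 𝓦 h𝓦 (Cfsg.pPrimeCore p X) (card_pPrimeCore_coprime p) (hquot _ hO)

omit [Finite X] hp in
/-- Induction over the sections of `G`, with a handler for the `p`-constrained sections. -/
theorem sf_induction {G : Type u} [Group G] [Fact p.Prime]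
    (𝓦 : Set (∀ (Q : Type u) [Group Q], Subgroup Q))
    (h𝓦 : ∀ W ∈ 𝓦, Cfsg.IsCharPFunctor.{u} p W)
    (handler : ∀ (X : Type u) [Group X] [Finite X], IsSectionOf X G → PC p X →
      (∀ H : Subgroup X, H ≠ ⊤ → Cfsg.FamilyControlsStrongFusionIn p (ind 𝓦 X) H) →
      (∀ (N : Subgroup X) [N.Normal], N ≠ ⊥ →
        Cfsg.FamilyControlsStrongFusionIn p (ind 𝓦 (X ⧸ N)) ⊤) →
      Cfsg.FamilyControlsStrongFusionIn p (ind 𝓦 X) ⊤) :
    ∀ (n : ℕ) (X : Type u) [Group X] [Finite X], Nat.card X = n → IsSectionOf X G →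
      Cfsg.FamilyControlsStrongFusionIn p (ind 𝓦 X) ⊤ := by
  intro n
  induction n using Nat.strong_induction_on with
  | _ n ih =>
    intro X _ _ hcard hsec
    have hsub : ∀ H : Subgroup X, H ≠ ⊤ →
        Cfsg.FamilyControlsStrongFusionIn p (ind 𝓦 X) H := by
      intro H hH
      have h1 := ih (Nat.card H) (hcard ▸ card_subgroup_lt hH) ↥H rfl
        (IsSectionOf.trans (isSectionOf_subgroup H) hsec)
      have h2 := sf_map_injective 𝓦 h𝓦 H.subtype H.subtype_injective h1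
      rwa [Subgroup.range_subtype] at h2
    have hquot : ∀ (N : Subgroup X) [N.Normal], N ≠ ⊥ →
        Cfsg.FamilyControlsStrongFusionIn p (ind 𝓦 (X ⧸ N)) ⊤ := by
      intro N _ hN
      exact ih (Nat.card (X ⧸ N)) (hcard ▸ card_quotient_lt hN) (X ⧸ N) rfl
        (IsSectionOf.trans (isSectionOf_quotient N) hsec)
    by_cases hpc : PC p X
    · exact handler X hsec hpc hsub hquot
    · exact sf_step 𝓦 h𝓦 hpc hsub hquot

omit [Finite X] hp in
/-- `S1994`. -/
theorem family_fusion_of_constrained {G : Type u} [Group G] [Finite G] [Fact p.Prime]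
    (𝓦 : Set (∀ (Q : Type u) [Group Q], Subgroup Q))
    (h𝓦 : ∀ W ∈ 𝓦, Cfsg.IsCharPFunctor.{u} p W)
    (hloc : ∀ (K R : Subgroup G) [(R.subgroupOf K).Normal],
      Subgroup.centralizer ((Cfsg.pCore p (↥K ⧸ R.subgroupOf K) :
        Subgroup (↥K ⧸ R.subgroupOf K)) : Set (↥K ⧸ R.subgroupOf K)) ≤
        Cfsg.pCore p (↥K ⧸ R.subgroupOf K) →
      Cfsg.FamilyControlsStrongFusionIn p
        ((fun W => Cfsg.inducedFunctor (G := (↥K ⧸ R.subgroupOf K)) W) '' 𝓦) ⊤) :
    Cfsg.FamilyControlsStrongFusionIn p ((fun W => Cfsg.inducedFunctor (G := G) W) '' 𝓦) ⊤ := by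
  apply sf_induction (G := G) 𝓦 h𝓦 ?_ (Nat.card G) G rfl (isSectionOf_refl G)
  intro X _ _ hsec hpc _ _
  obtain ⟨K, R, hn, ⟨e⟩⟩ := exists_equiv_of_isSectionOf hsec
  have h1 := hloc K R (PC.of_equiv e.symm hpc)
  exact sf_of_equiv 𝓦 h𝓦 e h1

end Cfsg.Agent.Helper1.FT
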