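import Mathlib
import Cfsg.Agent.Helper1.FTD

/-!
Glauberman: an isomorphism-invariant functor satisfying the focal condition
`O_p(G*) ∩ G*' = O_p(G*) ∩ N(W(S*))'` in every `p`-constrained section controls transfer in every
section (`S1970`).
-/

set_option autoImplicit false

universe u

namespace Cfsg.Agent.Helper1.FT

open Cfsg Cfsg.Agent.Lead Cfsg.Agent.Helper5.TF
open scoped commutatorElement

variable {p : ℕ}

/-- family control for a singleton is control by the single functor -/
theorem controlsTransferIn_of_family_singleton {X : Type u} [Group X]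
    (W : ∀ (Q : Type u) [Group Q], Subgroup Q)
    (h : Cfsg.FamilyControlsTransferIn p (ind {W} X) ⊤) :
    Cfsg.ControlsTransferIn p (Cfsg.inducedFunctor (G := X) W) ⊤ := by
  obtain ⟨T, h1, h2, h3, h4⟩ := h
  refine ⟨T, h1, h2, h3, ?_⟩
  rw [h4]
  unfold ind
  rw [Set.image_singleton, iSup_singleton]

/-- The focal condition of `S1970` in the group `X`. -/
def Loc1970 (p : ℕ) (W : ∀ (Q : Type u) [Group Q], Subgroup Q) (X : Type u) [Group X] : Prop :=
  ∀ T : Sylow p X, Cfsg.pCore p X ⊓ commutator X = Cfsg.pCore p X ⊓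
    ⁅Subgroup.normalizer ((Cfsg.inducedFunctor (G := X) W (T : Subgroup X) : Subgroup X) : Set X),
      Subgroup.normalizer ((Cfsg.inducedFunctor (G := X) W (T : Subgroup X) : Subgroup X) : Set X)⁆

theorem Loc1970.of_equiv [Fact p.Prime] {Y X : Type u} [Group Y] [Group X] [Finite Y] [Finite X]
    {W : ∀ (Q : Type u) [Group Q], Subgroup Q} (hW : Cfsg.IsCharPFunctor.{u} p W) (e : Y ≃* X)
    (h : Loc1970 p W Y) : Loc1970 p W X := by
  intro T
  have hinj : Function.Injective e.toMonoidHom := e.injective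
  have hsurj : Function.Surjective e.symm.toMonoidHom := e.symm.surjective
  have h1 := h (T.mapSurjective hsurj)
  rw [Sylow.coe_mapSurjective] at h1
  have h2 := congrArg (Subgroup.map e.toMonoidHom) h1
  have hTT : ((T : Subgroup X).map e.symm.toMonoidHom).map e.toMonoidHom = (T : Subgroup X) := by
    rw [Subgroup.map_map]
    have : e.toMonoidHom.comp e.symm.toMonoidHom = MonoidHom.id X := by
      ext x; simp
    rw [this, Subgroup.map_id]
  have htop : (⊤ : Subgroup Y).map e.toMonoidHom = ⊤ := by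
    rw [← MonoidHom.range_eq_map]; exact MonoidHom.range_eq_top.mpr e.surjective
  rw [Subgroup.map_inf _ _ _ hinj, Subgroup.map_inf _ _ _ hinj, pCore_map_equiv e, commutator_def,
    Subgroup.map_commutator, Subgroup.map_commutator, htop, Subgroup.map_equiv_normalizer_eq,
    ← inducedFunctor_map W hW e.toMonoidHom hinj _ ((T.2.map e.symm.toMonoidHom)), hTT] at h2
  rw [commutator_def]
  exact h2

/-- The handler for `p`-constrained sections in `S1970`. -/
theorem handler1970 [Fact p.Prime] {X : Type u} [Group X] [Finite X]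
    (W : ∀ (Q : Type u) [Group Q], Subgroup Q) (hW : Cfsg.IsCharPFunctor.{u} p W)
    (hloc : Loc1970 p W X) (hpc : PC p X)
    (hsub : ∀ H : Subgroup X, H ≠ ⊤ → Cfsg.FamilyControlsTransferIn p (ind {W} X) H)
    (hquot : ∀ (N : Subgroup X) [N.Normal], N ≠ ⊥ →
      Cfsg.FamilyControlsTransferIn p (ind {W} (X ⧸ N)) ⊤) :
    Cfsg.FamilyControlsTransferIn p (ind {W} X) ⊤ := by
  have h𝓦 : ∀ W' ∈ ({W} : Set (∀ (Q : Type u) [Group Q], Subgroup Q)),
      Cfsg.IsCharPFunctor.{u} p W' := by
    rintro W' rfl; exact hW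
  have S : Sylow p X := default
  have hWc := isConjugacyFunctor_induced (X := X) W hW
  have hmem : Cfsg.inducedFunctor (G := X) W ∈ ind {W} X := ⟨W, rfl, rfl⟩
  apply tf_top_of_le _ S
  by_cases hSQ : (S : Subgroup X) ≤ Cfsg.pCore p X
  · -- `S` is normal
    have hSeq : (S : Subgroup X) = Cfsg.pCore p X := le_antisymm hSQ (pCore_le_sylow S)
    have hSn : (S : Subgroup X).Normal := by rw [hSeq]; exact pCore_normal p
    have hN : Subgroup.normalizer ((Cfsg.inducedFunctor (G := X) W (S : Subgroup X) : Subgroup X) :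
        Set X) = ⊤ := by
      rw [eq_top_iff]
      refine le_trans ?_ (normalizer_le_normalizer_functor hWc S.2)
      rw [Subgroup.normalizer_eq_top]
    refine le_trans ?_ (le_iSup₂ (f := fun V (_ : V ∈ ind {W} X) => (S : Subgroup X) ⊓
      ⁅(⊤ : Subgroup X) ⊓ Subgroup.normalizer ((V (S : Subgroup X) : Subgroup X) : Set X),
        (⊤ : Subgroup X) ⊓ Subgroup.normalizer ((V (S : Subgroup X) : Subgroup X) : Set X)⁆)
      (Cfsg.inducedFunctor (G := X) W) hmem)
    rw [hN, top_inf_eq]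
  · have hQne : Cfsg.pCore p X ≠ ⊥ := by
      intro h0
      apply hSQ
      have : Subgroup.centralizer ((Cfsg.pCore p X : Subgroup X) : Set X) = ⊤ := by
        rw [h0]; simp
      have h2 : (⊤ : Subgroup X) ≤ Cfsg.pCore p X := by
        rw [← this]; exact hpc
      exact le_top.trans h2
    intro x hx
    obtain ⟨y, hy, q, hq, rfl⟩ := tf_part_i {W} h𝓦 S hSQ hsub (hquot _ hQne) x hx
    refine Subgroup.mul_mem _ hy ?_
    have h1 := hloc S
    rw [commutator_def] at h1
    rw [h1] at hq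
    refine (le_iSup₂ (f := fun V (_ : V ∈ ind {W} X) => (S : Subgroup X) ⊓
      ⁅(⊤ : Subgroup X) ⊓ Subgroup.normalizer ((V (S : Subgroup X) : Subgroup X) : Set X),
        (⊤ : Subgroup X) ⊓ Subgroup.normalizer ((V (S : Subgroup X) : Subgroup X) : Set X)⁆)
      (Cfsg.inducedFunctor (G := X) W) hmem) ?_
    rw [top_inf_eq]
    exact ⟨pCore_le_sylow S hq.1, hq.2⟩

/-- `S1970`. -/
theorem transfer_of_focal_constrained {G : Type u} [Group G] [Finite G] [Fact p.Prime]
    (W : ∀ (Q : Type u) [Group Q], Subgroup Q) (hW : Cfsg.IsCharPFunctor.{u} p W)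
    (hloc : ∀ (K R : Subgroup G) [(R.subgroupOf K).Normal],
      Subgroup.centralizer ((Cfsg.pCore p (↥K ⧸ R.subgroupOf K) :
        Subgroup (↥K ⧸ R.subgroupOf K)) : Set (↥K ⧸ R.subgroupOf K)) ≤
        Cfsg.pCore p (↥K ⧸ R.subgroupOf K) → Loc1970 p W (↥K ⧸ R.subgroupOf K)) :
    ∀ (K R : Subgroup G) [(R.subgroupOf K).Normal],
      Cfsg.ControlsTransferIn p (Cfsg.inducedFunctor (G := (↥K ⧸ R.subgroupOf K)) W) ⊤ := by
  intro K R _
  have h𝓦 : ∀ W' ∈ ({W} : Set (∀ (Q : Type u) [Group Q], Subgroup Q)),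
      Cfsg.IsCharPFunctor.{u} p W' := by
    rintro W' rfl; exact hW
  apply controlsTransferIn_of_family_singleton
  have hsec : IsSectionOf (↥K ⧸ R.subgroupOf K) G :=
    ⟨K, QuotientGroup.mk' _, QuotientGroup.mk'_surjective _⟩
  apply tf_induction (G := G) {W} h𝓦 ?_ (Nat.card (↥K ⧸ R.subgroupOf K)) _ rfl hsec
  intro X _ _ hsecX hpc hsub hquot
  obtain ⟨K', R', hn, ⟨e⟩⟩ := exists_equiv_of_isSectionOf hsecX
  have h1 := hloc K' R' (PC.of_equiv e.symm hpc)
  exact handler1970 W hW (Loc1970.of_equiv hW e h1) hpc hsub hquot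

end Cfsg.Agent.Helper1.FT
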