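import Mathlib
import Cfsg.Agent.Helper1.FSE
import Cfsg.Agent.Helper1.FTE

/-!
Glauberman's local-to-global theorems for control of strong fusion: a single functor with normal
value in `p`-constrained sections (`S1969`), and a pair of functors with a factorization in
`p`-constrained sections (`S1996`).
-/

set_option autoImplicit false

universe u

namespace Cfsg.Agent.Helper1.FT

open Cfsg Cfsg.Agent.Lead Cfsg.Agent.Helper5.TF

variable {p : ℕ}

theorem FChain_mem_of_steps {X : Type*} [Group X] {N T : Set X} (H : Subgroup X)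
    (hN : N ⊆ (H : Set X)) {A : Set X} {g : X} (h : FChain N T A g) : g ∈ H := by
  induction h with
  | nil A _ => exact H.one_mem
  | cons A x g hx _ _ ih => exact H.mul_mem (hN hx) ih

/-! ### `S1969` -/

/-- The local hypothesis of `S1969` in the group `X`. -/
def Loc1969 (p : ℕ) (W : ∀ (Q : Type u) [Group Q], Subgroup Q) (X : Type u) [Group X] : Prop :=
  ∀ T : Sylow p X, (Cfsg.inducedFunctor (G := X) W (T : Subgroup X)).Normal

theorem Loc1969.of_equiv [Fact p.Prime] {Y X : Type u} [Group Y] [Group X] [Finite Y] [Finite X]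
    {W : ∀ (Q : Type u) [Group Q], Subgroup Q} (hW : Cfsg.IsCharPFunctor.{u} p W) (e : Y ≃* X)
    (h : Loc1969 p W Y) : Loc1969 p W X := by
  intro T
  have hinj : Function.Injective e.toMonoidHom := e.injective
  have hsurj : Function.Surjective e.toMonoidHom := e.surjective
  have hsurj' : Function.Surjective e.symm.toMonoidHom := e.symm.surjective
  have hTT : ((T : Subgroup X).map e.symm.toMonoidHom).map e.toMonoidHom = (T : Subgroup X) := by
    rw [Subgroup.map_map]
    have : e.toMonoidHom.comp e.symm.toMonoidHom = MonoidHom.id X := by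
      ext x; simp
    rw [this, Subgroup.map_id]
  have h1 := h (T.mapSurjective hsurj')
  rw [Sylow.coe_mapSurjective] at h1
  have := h1.map e.toMonoidHom hsurj
  rwa [← inducedFunctor_map W hW e.toMonoidHom hinj _ (T.2.map e.symm.toMonoidHom), hTT] at this

/-- A single functor: from family control to control of strong fusion by `W(T)`. -/
theorem controlsStrongFusion_of_family_singleton [Fact p.Prime] {X : Type u} [Group X] [Finite X]
    (W : ∀ (Q : Type u) [Group Q], Subgroup Q) (hW : Cfsg.IsCharPFunctor.{u} p W)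
    (h : Cfsg.FamilyControlsStrongFusionIn p (ind {W} X) ⊤) (T : Sylow p X) :
    Cfsg.ControlsStrongFusion p (Cfsg.inducedFunctor (G := X) W (T : Subgroup X)) := by
  have h𝓦 : ∀ W' ∈ ({W} : Set (∀ (Q : Type u) [Group Q], Subgroup Q)),
      Cfsg.IsCharPFunctor.{u} p W' := by
    rintro W' rfl; exact hW
  have hWc := isConjugacyFunctor_induced (X := X) W hW
  have hsfs := sfs_of_top (ind_isConj h𝓦 X) h T
  refine ⟨T, (hWc _ T.2).1, fun A hA => ⟨hA, fun g hg => ?_⟩⟩
  have hAg : conjR g⁻¹ A ⊆ (T : Subgroup X) := by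
    rintro _ ⟨a, ha, rfl⟩
    have := hg ⟨a, ha, rfl⟩
    simpa using this
  obtain ⟨g', hch, hag⟩ := hsfs A g⁻¹ hA hAg
  have hg'N : g' ∈ Subgroup.normalizer
      ((Cfsg.inducedFunctor (G := X) W (T : Subgroup X) : Subgroup X) : Set X) := by
    apply FChain_mem_of_steps _ _ hch
    rintro x ⟨V, ⟨W', hW', rfl⟩, hx⟩
    have : W' = W := hW'
    subst this
    exact (Subgroup.mem_inf.mp hx).2
  refine ⟨g'⁻¹, Subgroup.inv_mem _ hg'N, fun a ha => ?_⟩
  have := hag a ha
  rw [inv_inv] at this ⊢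
  exact this.symm

/-- `S1969`. -/
theorem fusion_of_normal_constrained {G : Type u} [Group G] [Finite G] [Fact p.Prime]
    (W : ∀ (Q : Type u) [Group Q], Subgroup Q) (hW : Cfsg.IsCharPFunctor.{u} p W)
    (hloc : ∀ (K R : Subgroup G) [(R.subgroupOf K).Normal],
      Subgroup.centralizer ((Cfsg.pCore p (↥K ⧸ R.subgroupOf K) :
        Subgroup (↥K ⧸ R.subgroupOf K)) : Set (↥K ⧸ R.subgroupOf K)) ≤
        Cfsg.pCore p (↥K ⧸ R.subgroupOf K) → Loc1969 p W (↥K ⧸ R.subgroupOf K)) :
    ∀ (K R : Subgroup G) [(R.subgroupOf K).Normal], ∀ T : Sylow p (↥K ⧸ R.subgroupOf K),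
      Cfsg.ControlsStrongFusion p
        (Cfsg.inducedFunctor (G := (↥K ⧸ R.subgroupOf K)) W
          ((T : Subgroup (↥K ⧸ R.subgroupOf K)))) := by
  intro K R _ T
  have h𝓦 : ∀ W' ∈ ({W} : Set (∀ (Q : Type u) [Group Q], Subgroup Q)),
      Cfsg.IsCharPFunctor.{u} p W' := by
    rintro W' rfl; exact hW
  apply controlsStrongFusion_of_family_singleton W hW
  have hsec : IsSectionOf (↥K ⧸ R.subgroupOf K) G :=
    ⟨K, QuotientGroup.mk' _, QuotientGroup.mk'_surjective _⟩
  apply sf_induction (G := G) {W} h𝓦 ?_ (Nat.card (↥K ⧸ R.subgroupOf K)) _ rfl hsec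
  intro X _ _ hsecX hpc _ _
  obtain ⟨K', R', hn, ⟨e⟩⟩ := exists_equiv_of_isSectionOf hsecX
  have h1 := Loc1969.of_equiv hW e (hloc K' R' (PC.of_equiv e.symm hpc))
  have S : Sylow p X := default
  apply top_of_sfs S
  intro A g hA hAg
  have hmem : Cfsg.inducedFunctor (G := X) W ∈ ind {W} X := ⟨W, rfl, rfl⟩
  refine FRel.step hmem ?_ hA hAg
  have hN : Subgroup.normalizer ((Cfsg.inducedFunctor (G := X) W (S : Subgroup X) : Subgroup X) :
      Set X) = ⊤ := Subgroup.normalizer_eq_top_iff.mpr (h1 S)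
  rw [hN]
  exact Subgroup.mem_top g

/-! ### `S1996` -/

/-- The local hypothesis of `S1996` in the group `X`. -/
def Loc1996 (p : ℕ) (W₁ W₂ : ∀ (Q : Type u) [Group Q], Subgroup Q) (X : Type u) [Group X] :
    Prop :=
  ∀ T : Sylow p X, ∀ x : X,
    ∃ a ∈ Subgroup.normalizer ((Cfsg.inducedFunctor (G := X) W₁ (T : Subgroup X) : Subgroup X) :
      Set X),
    ∃ b ∈ Subgroup.normalizer ((Cfsg.inducedFunctor (G := X) W₂ (T : Subgroup X) : Subgroup X) :
      Set X), x = a * b

theorem Loc1996.of_equiv [Fact p.Prime] {Y X : Type u} [Group Y] [Group X] [Finite Y] [Finite X]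
    {W₁ W₂ : ∀ (Q : Type u) [Group Q], Subgroup Q} (hW₁ : Cfsg.IsCharPFunctor.{u} p W₁)
    (hW₂ : Cfsg.IsCharPFunctor.{u} p W₂) (e : Y ≃* X)
    (h : Loc1996 p W₁ W₂ Y) : Loc1996 p W₁ W₂ X := by
  intro T x
  have hinj : Function.Injective e.toMonoidHom := e.injective
  have hsurj' : Function.Surjective e.symm.toMonoidHom := e.symm.surjective
  have hTT : ((T : Subgroup X).map e.symm.toMonoidHom).map e.toMonoidHom = (T : Subgroup X) := by
    rw [Subgroup.map_map]
    have : e.toMonoidHom.comp e.symm.toMonoidHom = MonoidHom.id X := by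
      ext x; simp
    rw [this, Subgroup.map_id]
  have h1 := h (T.mapSurjective hsurj') (e.symm x)
  rw [Sylow.coe_mapSurjective] at h1
  obtain ⟨a, ha, b, hb, hab⟩ := h1
  have key : ∀ (W : ∀ (Q : Type u) [Group Q], Subgroup Q), Cfsg.IsCharPFunctor.{u} p W →
      ∀ y : Y, y ∈ Subgroup.normalizer ((Cfsg.inducedFunctor (G := Y) W
        ((T : Subgroup X).map e.symm.toMonoidHom) : Subgroup Y) : Set Y) →
      e y ∈ Subgroup.normalizer ((Cfsg.inducedFunctor (G := X) W (T : Subgroup X) : Subgroup X) :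
        Set X) := by
    intro W hW y hy
    have h2 : e.toMonoidHom y ∈ (Subgroup.normalizer ((Cfsg.inducedFunctor (G := Y) W
        ((T : Subgroup X).map e.symm.toMonoidHom) : Subgroup Y) : Set Y)).map e.toMonoidHom :=
      ⟨y, hy, rfl⟩
    rw [Subgroup.map_equiv_normalizer_eq,
      ← inducedFunctor_map W hW e.toMonoidHom hinj _ (T.2.map e.symm.toMonoidHom), hTT] at h2
    exact h2
  refine ⟨e a, key W₁ hW₁ a ha, e b, key W₂ hW₂ b hb, ?_⟩
  rw [← map_mul, ← hab]
  simp

/-- `S1996`. -/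
theorem fusion_of_factorization_constrained {G : Type u} [Group G] [Finite G] [Fact p.Prime]
    (W₁ W₂ : ∀ (Q : Type u) [Group Q], Subgroup Q) (hW₁ : Cfsg.IsCharPFunctor.{u} p W₁)
    (hW₂ : Cfsg.IsCharPFunctor.{u} p W₂)
    (hfac : ∀ (K R : Subgroup G) [(R.subgroupOf K).Normal],
      Subgroup.centralizer ((Cfsg.pCore p (↥K ⧸ R.subgroupOf K) :
        Subgroup (↥K ⧸ R.subgroupOf K)) : Set (↥K ⧸ R.subgroupOf K)) ≤
        Cfsg.pCore p (↥K ⧸ R.subgroupOf K) → Loc1996 p W₁ W₂ (↥K ⧸ R.subgroupOf K)) :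
    Cfsg.FamilyControlsStrongFusionIn p
      {Cfsg.inducedFunctor (G := G) W₁, Cfsg.inducedFunctor (G := G) W₂} ⊤ := by
  have h𝓦 : ∀ W' ∈ ({W₁, W₂} : Set (∀ (Q : Type u) [Group Q], Subgroup Q)),
      Cfsg.IsCharPFunctor.{u} p W' := by
    rintro W' (rfl | rfl)
    · exact hW₁
    · exact hW₂
  have hind : ind {W₁, W₂} G =
      {Cfsg.inducedFunctor (G := G) W₁, Cfsg.inducedFunctor (G := G) W₂} := by
    unfold ind
    rw [Set.image_pair]
  rw [← hind]
  apply sf_induction (G := G) {W₁, W₂} h𝓦 ?_ (Nat.card G) G rfl (isSectionOf_refl G)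
  intro X _ _ hsecX hpc _ _
  obtain ⟨K', R', hn, ⟨e⟩⟩ := exists_equiv_of_isSectionOf hsecX
  have h1 := Loc1996.of_equiv hW₁ hW₂ e (hfac K' R' (PC.of_equiv e.symm hpc))
  have S : Sylow p X := default
  apply top_of_sfs S
  have hmem₁ : Cfsg.inducedFunctor (G := X) W₁ ∈ ind {W₁, W₂} X := ⟨W₁, Or.inl rfl, rfl⟩
  have hmem₂ : Cfsg.inducedFunctor (G := X) W₂ ∈ ind {W₁, W₂} X := ⟨W₂, Or.inr rfl, rfl⟩
  have hc₁ := isConjugacyFunctor_induced (X := X) W₁ hW₁
  have hc₂ := isConjugacyFunctor_induced (X := X) W₂ hW₂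
  apply sfs_of_factor S _ _ (le_normalizer_functor hc₁ S.2) (le_normalizer_functor hc₂ S.2)
  · intro A g hg hA hAg
    exact FRel.step hmem₁ hg hA hAg
  · intro A g hg hA hAg
    exact FRel.step hmem₂ hg hA hAg
  · exact h1 S

end Cfsg.Agent.Helper1.FT
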