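import Mathlib
import Cfsg.Agent.Helper1.MFb

/-!
Control of strong fusion for general families of conjugacy functors: the case `O_p(X) ≠ 1`,
`O_{p'}(X) = 1`, `X` not `p`-constrained. (Generic version of `sf_case_Q`.)
-/

set_option autoImplicit false

universe u

namespace Cfsg.Agent.Helper1.MF

open Cfsg Cfsg.Agent.Lead Cfsg.Agent.Helper5.TF Cfsg.Agent.Helper1.FT

variable {p : ℕ}

variable {X : Type u} [Group X] [Finite X] [hp : Fact p.Prime]
  (𝓥 : Set (Subgroup X → Subgroup X))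
  (hconj : ∀ V ∈ 𝓥, Cfsg.IsConjugacyFunctor p V)

include hconj in
/-- Case `O_p(X) ≠ 1`, `O_{p'}(X) = 1`, `X` not `p`-constrained. -/
theorem sf_case_Q' (hO : Cfsg.pPrimeCore p X = ⊥) (hnpc : ¬ PC p X)
    (hsub : ∀ H : Subgroup X, H ≠ ⊤ → Cfsg.FamilyControlsStrongFusionIn p 𝓥 H)
    (𝓥' : Set (Subgroup (X ⧸ Cfsg.pCore p X) → Subgroup (X ⧸ Cfsg.pCore p X)))
    (hconjbar : ∀ V ∈ 𝓥', Cfsg.IsConjugacyFunctor p V)
    (hquot : Cfsg.FamilyControlsStrongFusionIn p 𝓥' ⊤) :
    Cfsg.FamilyControlsStrongFusionIn p 𝓥 ⊤ := by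
  have S : Sylow p X := default
  have hnc : ¬ (S : Subgroup X) ⊓ Subgroup.centralizer ((Cfsg.pCore p X : Subgroup X) : Set X) ≤
      Cfsg.pCore p X := fun h => hnpc (pc_of_sylow_centralizer_le S hO h)
  have hSQ : ¬ (S : Subgroup X) ≤ Cfsg.pCore p X := fun h => hnc (inf_le_left.trans h)
  apply top_of_sfs S
  set Q := Cfsg.pCore p X with hQ
  have hQS : Q ≤ (S : Subgroup X) := pCore_le_sylow S
  haveI hQn : Q.Normal := pCore_normal p
  set C := Subgroup.centralizer ((Q : Subgroup X) : Set X) with hC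
  haveI hCn : C.Normal := Subgroup.normal_centralizer
  by_cases hK : C ⊔ (S : Subgroup X) = ⊤
  · exact sf_case_Q_top' 𝓥 hconj S hSQ hK hsub 𝓥' hconjbar hquot
  set M : Subgroup X := Q ⊔ C with hM
  haveI hMn : M.Normal := Subgroup.sup_normal Q C
  set T : Subgroup X := (S : Subgroup X) ⊓ M with hT
  set N₁ : Subgroup X := Subgroup.normalizer (T : Set X) with hN₁
  have hSN₁ : (S : Subgroup X) ≤ N₁ := by
    intro s hs
    rw [hN₁, Subgroup.mem_normalizer_iff]
    intro h
    constructor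
    · rintro ⟨h1, h2⟩
      exact ⟨(S : Subgroup X).mul_mem ((S : Subgroup X).mul_mem hs h1) ((S : Subgroup X).inv_mem hs),
        hMn.conj_mem h h2 s⟩
    · rintro ⟨h1, h2⟩
      refine ⟨?_, ?_⟩
      · have := (S : Subgroup X).mul_mem ((S : Subgroup X).mul_mem ((S : Subgroup X).inv_mem hs) h1) hs
        have e : s⁻¹ * (s * h * s⁻¹) * s = h := by group
        rwa [e] at this
      · have := hMn.conj_mem _ h2 s⁻¹
        have e : s⁻¹ * (s * h * s⁻¹) * s⁻¹⁻¹ = h := by group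
        rwa [e] at this
  have hN₁ne : N₁ ≠ ⊤ := by
    intro htop
    apply hnc
    have hTn : T.Normal := Subgroup.normalizer_eq_top_iff.mp htop
    have hTQ : T ≤ Q := le_pCore hTn (S.2.to_le inf_le_left)
    exact le_trans (inf_le_inf_left _ (le_sup_right : C ≤ M)) hTQ
  have hfr : N₁ ⊔ M = ⊤ := by
    have hpM : IsPGroup p ((S : Subgroup X).subgroupOf M) := S.2.comap_subtype
    have hidx : ¬ p ∣ ((S : Subgroup X).subgroupOf M).index := by
      intro hd
      have h2 : (S : Subgroup X).relIndex M ∣ (S : Subgroup X).index :=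
        relIndex_dvd_index_of_normalizes (by rw [Subgroup.normalizer_eq_top]; exact le_top)
      exact S.not_dvd_index (hd.trans h2)
    have h3 := Sylow.normalizer_sup_eq_top (hpM.toSylow hidx)
    rw [IsPGroup.toSylow_coe, Subgroup.subgroupOf_map_subtype] at h3
    exact h3
  apply sfs_of_factor S N₁ (C ⊔ (S : Subgroup X)) hSN₁ le_sup_right
  · intro A g hg hA hAg
    exact frel_of_sub hconj S N₁ hSN₁ (hsub N₁ hN₁ne) A g hg hA hAg
  · intro A g hg hA hAg
    exact frel_of_sub hconj S _ le_sup_right (hsub _ hK) A g hg hA hAg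
  · intro x
    have hx : x ∈ N₁ ⊔ M := by rw [hfr]; exact Subgroup.mem_top x
    obtain ⟨n, hn, m, hm, rfl⟩ := Subgroup.mem_sup_of_normal_right.mp hx
    obtain ⟨q, hq, c, hc, rfl⟩ := Subgroup.mem_sup_of_normal_left.mp hm
    have hqN : q ∈ N₁ := Subgroup.le_normalizer (⟨hQS hq, le_sup_left (a := Q) hq⟩ : q ∈ T)
    exact ⟨n * q, N₁.mul_mem hn hqN, c, le_sup_left (a := C) hc, by group⟩


end Cfsg.Agent.Helper1.MF
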