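import Mathlib
import Cfsg.Agent.Helper1.ThompsonRed

set_option autoImplicit false

/-!
An abstract form of the minimal-counterexample reduction of `ThompsonRed.reduction`: the hypothesis
is an arbitrary predicate `𝓗 G P` on pairs (group, Sylow `p`-subgroup) with suitable closure
properties.
-/

namespace Cfsg.Agent.Helper1

namespace ThompsonRedAbs

open scoped Pointwise commutatorElement
open ThompsonRed

universe u

variable {p : ℕ}

theorem reduction_abs [hp : Fact p.Prime]
    (𝓗 : ∀ (G : Type u) [Group G], Subgroup G → Prop)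
    (h_conj : ∀ (G : Type u) [Group G] [Finite G] (P : Subgroup G) (g : G), 𝓗 G P →
      𝓗 G (P.map (MulAut.conj g).toMonoidHom))
    (h_quot : ∀ (G : Type u) [Group G] [Finite G] (K : Subgroup G) [K.Normal],
      (Nat.card K).Coprime p → ∀ P : Sylow p G, 𝓗 G P →
        𝓗 (G ⧸ K) ((P : Subgroup G).map (QuotientGroup.mk' K)))
    (h_sub : ∀ (G : Type u) [Group G] [Finite G] (P : Sylow p G) (H : Subgroup G),
      (P : Subgroup G) ≤ H → 𝓗 G P → 𝓗 H ((P : Subgroup G).subgroupOf H))
    (h_loc : ∀ (G : Type u) [Group G] [Finite G] (P' : Sylow p G) (Q : Subgroup G),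
      IsPGroup p Q → Q ≠ ⊥ → ∀ R : Sylow p ↥(Subgroup.normalizer (Q : Set G)),
      (R : Subgroup ↥(Subgroup.normalizer (Q : Set G))).map
        (Subgroup.normalizer (Q : Set G)).subtype ≤ P' → 𝓗 G P' →
      ((R : Subgroup ↥(Subgroup.normalizer (Q : Set G))).map
          (Subgroup.normalizer (Q : Set G)).subtype ≠ P' →
        ∀ T : Subgroup G, IsPGroup p T → T ≠ ⊥ →
          (P' : Subgroup G) ⊓ Subgroup.normalizer
            (((R : Subgroup ↥(Subgroup.normalizer (Q : Set G))).map
              (Subgroup.normalizer (Q : Set G)).subtype : Subgroup G) : Set G) ≤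
            Subgroup.normalizer (T : Set G) →
          Cfsg.HasNormalPComplement p ↥(Subgroup.normalizer (T : Set G))) →
      𝓗 ↥(Subgroup.normalizer (Q : Set G)) R)
    (h_quotU : ∀ (G : Type u) [Group G] [Finite G] (P : Sylow p G), 𝓗 G P →
      ¬ Cfsg.HasNormalPComplement p G →
      (P : Subgroup G).map (QuotientGroup.mk' (Cfsg.pCore p G)) ≠ ⊥ →
      (∀ T : Subgroup G, IsPGroup p T → Cfsg.pCore p G < T →
        (P : Subgroup G) ≤ Subgroup.normalizer (T : Set G) →
        Cfsg.HasNormalPComplement p ↥(Subgroup.normalizer (T : Set G))) →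
      𝓗 (G ⧸ Cfsg.pCore p G) ((P : Subgroup G).map (QuotientGroup.mk' (Cfsg.pCore p G))))
    (final : ∀ (G : Type u) [Group G] [Finite G] (P : Sylow p G),
      𝓗 G P → Struct p G P → False) :
    ∀ (G : Type u) [Group G] [Finite G] (P : Sylow p G), 𝓗 G P →
      Cfsg.HasNormalPComplement p G := by
  suffices H : ∀ n : ℕ, ∀ (G : Type u) [Group G] [Finite G] (P : Sylow p G),
      Nat.card G = n → 𝓗 G P → Cfsg.HasNormalPComplement p G from
    fun G _ _ P h => H _ G P rfl h
  intro n
  induction n using Nat.strong_induction_on with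
  | _ n ih =>
  intro G _ _ P hn hyp
  -- the hypothesis holds for every Sylow subgroup
  have hypall : ∀ P' : Sylow p G, 𝓗 G P' := by
    intro P'
    obtain ⟨g, rfl⟩ := MulAction.exists_smul_eq G P P'
    have := h_conj G P g hyp
    have e : ((g • P : Sylow p G) : Subgroup G) =
        (P : Subgroup G).map (MulAut.conj g).toMonoidHom := by
      rw [Sylow.coe_subgroup_smul]; rfl
    rw [e]; exact this
  -- Step (a): `O_{p'}(G) = 1`
  by_cases hK : Cfsg.pPrimeCore p G = ⊥
  swap
  · have hKcop : (Nat.card (Cfsg.pPrimeCore p G)).Coprime p := card_pPrimeCore_coprime p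
    have hsurj : Function.Surjective (QuotientGroup.mk' (Cfsg.pPrimeCore p G)) :=
      QuotientGroup.mk'_surjective _
    have hcard : Nat.card (G ⧸ Cfsg.pPrimeCore p G) < n := by
      rw [← hn, Subgroup.card_eq_card_quotient_mul_card_subgroup (Cfsg.pPrimeCore p G)]
      have h1 : 1 < Nat.card (Cfsg.pPrimeCore p G) := by
        rw [Subgroup.one_lt_card_iff_ne_bot]; exact hK
      have h2 : 0 < Nat.card (G ⧸ Cfsg.pPrimeCore p G) := Nat.card_pos
      nlinarith
    have h3 := h_quot G (Cfsg.pPrimeCore p G) hKcop P hyp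
    have h4 := ih _ hcard (G ⧸ Cfsg.pPrimeCore p G) (P.mapSurjective hsurj) rfl
      (by rw [Sylow.coe_mapSurjective]; exact h3)
    apply hasNormalPComplement_of_ker_coprime (QuotientGroup.mk' (Cfsg.pPrimeCore p G)) hsurj _ h4
    rw [QuotientGroup.ker_mk']
    exact hKcop
  by_contra hG
  -- Step (b): choose a `p`-local failing `p`-nilpotency, maximal
  have hex : ∃ Q : Subgroup G, IsPGroup p Q ∧ Q ≠ ⊥ ∧
      ¬ Cfsg.HasNormalPComplement p ↥(Subgroup.normalizer (Q : Set G)) := by
    by_contra hcon
    push Not at hcon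
    exact hG ((hasNormalPComplement_iff_plocal p).2 hcon)
  let f : Subgroup G → ℕ := fun Q =>
    nu p (Subgroup.normalizer (Q : Set G)) * (Nat.card G + 1) + Nat.card Q
  obtain ⟨Q, hQ𝒬, hQmax⟩ := Set.exists_max_image {Q : Subgroup G | IsPGroup p Q ∧ Q ≠ ⊥ ∧
      ¬ Cfsg.HasNormalPComplement p ↥(Subgroup.normalizer (Q : Set G))} f (Set.toFinite _) hex
  obtain ⟨hQp, hQ1, hQnil⟩ := hQ𝒬
  have hmax1 : ∀ T : Subgroup G, IsPGroup p T → T ≠ ⊥ →
      nu p (Subgroup.normalizer (Q : Set G)) < nu p (Subgroup.normalizer (T : Set G)) →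
      Cfsg.HasNormalPComplement p ↥(Subgroup.normalizer (T : Set G)) := by
    intro T hT hT1 hlt
    by_contra hcon
    have h1 : f T ≤ f Q := hQmax T ⟨hT, hT1, hcon⟩
    have hcardQ : Nat.card Q ≤ Nat.card G := Subgroup.card_le_card_group Q
    simp only [f] at h1
    nlinarith
  have hmax2 : ∀ T : Subgroup G, IsPGroup p T → T ≠ ⊥ → Nat.card Q < Nat.card T →
      nu p (Subgroup.normalizer (Q : Set G)) ≤ nu p (Subgroup.normalizer (T : Set G)) →
      Cfsg.HasNormalPComplement p ↥(Subgroup.normalizer (T : Set G)) := by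
    intro T hT hT1 hlt hle
    by_contra hcon
    have h1 : f T ≤ f Q := hQmax T ⟨hT, hT1, hcon⟩
    simp only [f] at h1
    nlinarith
  -- (b1) `Q` is normal
  have hQtop : Subgroup.normalizer (Q : Set G) = ⊤ := by
    by_contra hNtop
    have hcardN : Nat.card ↥(Subgroup.normalizer (Q : Set G)) < n := by
      rw [← hn]
      have : Subgroup.normalizer (Q : Set G) < ⊤ := lt_top_iff_ne_top.2 hNtop
      have := card_lt_card_of_lt this
      rwa [Subgroup.card_top] at this
    obtain ⟨R⟩ : Nonempty (Sylow p ↥(Subgroup.normalizer (Q : Set G))) := inferInstance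
    have hR'p : IsPGroup p ((R : Subgroup ↥(Subgroup.normalizer (Q : Set G))).map
        (Subgroup.normalizer (Q : Set G)).subtype) := R.2.map _
    obtain ⟨P', hRP'⟩ := hR'p.exists_le_sylow
    have hypN : 𝓗 ↥(Subgroup.normalizer (Q : Set G)) R := by
      refine h_loc G P' Q hQp hQ1 R hRP' (hypall P') ?_
      intro hRP T hT hT1 hle
      have hlt : (R : Subgroup ↥(Subgroup.normalizer (Q : Set G))).map
          (Subgroup.normalizer (Q : Set G)).subtype < P' := lt_of_le_of_ne hRP' hRP
      obtain ⟨x, hxP, hxN, hxR⟩ := exists_mem_normalizer_not_mem P'.2 hlt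
      have hDp : IsPGroup p ↥(((P' : Subgroup G) ⊓ Subgroup.normalizer
          (((R : Subgroup ↥(Subgroup.normalizer (Q : Set G))).map
            (Subgroup.normalizer (Q : Set G)).subtype : Subgroup G) : Set G) : Subgroup G)) :=
        P'.2.to_le inf_le_left
      have hRD : (R : Subgroup ↥(Subgroup.normalizer (Q : Set G))).map
          (Subgroup.normalizer (Q : Set G)).subtype < (P' : Subgroup G) ⊓ Subgroup.normalizer
          (((R : Subgroup ↥(Subgroup.normalizer (Q : Set G))).map
            (Subgroup.normalizer (Q : Set G)).subtype : Subgroup G) : Set G) := by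
        refine lt_of_le_of_ne (le_inf hRP' Subgroup.le_normalizer) ?_
        intro h
        apply hxR
        rw [h]
        exact ⟨hxP, hxN⟩
      have hnu := nu_lt_of_lt R hDp hRD hle
      exact hmax1 T hT hT1 hnu
    have := ih _ hcardN ↥(Subgroup.normalizer (Q : Set G)) R rfl hypN
    exact hQnil this
  -- (b2) `U = O_p(G)`
  set U := Cfsg.pCore p G with hU
  have hUp : IsPGroup p U := pCore_isPGroup p
  have hQn : Q.Normal := Subgroup.normalizer_eq_top_iff.1 hQtop
  have hQU : Q ≤ U := le_pCore hQn hQp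
  have hU1 : U ≠ ⊥ := by
    intro h
    apply hQ1
    rw [eq_bot_iff, ← h]; exact hQU
  have hUP : U ≤ P := pCore_le_sylow P
  have hloc : ∀ T : Subgroup G, IsPGroup p T → U < T →
      (P : Subgroup G) ≤ Subgroup.normalizer (T : Set G) →
      Cfsg.HasNormalPComplement p ↥(Subgroup.normalizer (T : Set G)) := by
    intro T hT hUT hPT
    have hT1 : T ≠ ⊥ := by
      intro h
      rw [h] at hUT
      exact not_lt_bot hUT
    apply hmax2 T hT hT1
    · exact lt_of_le_of_lt (Subgroup.card_le_of_le hQU) (card_lt_card_of_lt hUT)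
    · rw [hQtop]
      unfold nu
      have h1 : p ^ (Nat.card (⊤ : Subgroup G)).factorization p ∣
          Nat.card (Subgroup.normalizer (T : Set G)) := by
        rw [Subgroup.card_top, ← P.card_eq_multiplicity]
        exact Subgroup.card_dvd_of_le hPT
      exact (hp.out.pow_dvd_iff_le_factorization Nat.card_pos.ne').1 h1
  -- Step (d): `G/U` has a normal `p`-complement
  have hsurj : Function.Surjective (QuotientGroup.mk' U) := QuotientGroup.mk'_surjective U
  have hcardU : Nat.card (G ⧸ U) < n := by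
    rw [← hn, Subgroup.card_eq_card_quotient_mul_card_subgroup U]
    have h1 : 1 < Nat.card U := by
      rw [Subgroup.one_lt_card_iff_ne_bot]; exact hU1
    have h2 : 0 < Nat.card (G ⧸ U) := Nat.card_pos
    nlinarith
  have hquot : Cfsg.HasNormalPComplement p (G ⧸ U) := by
    by_cases hPU : (P : Subgroup G).map (QuotientGroup.mk' U) = ⊥
    · -- `P = U`, so `G/U` is a `p'`-group
      rw [hasNormalPComplement_iff_exists]
      refine ⟨⊤, inferInstance, ?_, 0, by simp⟩
      have hPleU : (P : Subgroup G) ≤ U := by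
        rw [← QuotientGroup.ker_mk' U, ← Subgroup.map_eq_bot_iff]
        exact hPU
      have hPeq : (P : Subgroup G) = U := le_antisymm hPleU hUP
      rw [Subgroup.card_top, ← Subgroup.index_eq_card, ← hPeq]
      exact ((Nat.Prime.coprime_iff_not_dvd hp.out).2 P.not_dvd_index).symm
    · have h3 := h_quotU G P hyp hG hPU hloc
      exact ih _ hcardU (G ⧸ U) (P.mapSurjective hsurj) rfl
        (by rw [Sylow.coe_mapSurjective]; exact h3)
  obtain ⟨Mb, hMbn, hMbcop, k, hMbk⟩ := hasNormalPComplement_iff_exists.1 hquot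
  set K := Mb.comap (QuotientGroup.mk' U) with hKdef
  have hKn : K.Normal := hMbn.comap _
  have hUK : U ≤ K := by
    intro x hx
    rw [hKdef, Subgroup.mem_comap, QuotientGroup.mk'_apply, (QuotientGroup.eq_one_iff x).2 hx]
    exact Mb.one_mem
  have hKidx : K.index = p ^ k := by
    rw [hKdef, Subgroup.index_comap_of_surjective Mb hsurj, hMbk]
  have hKrel : (U.relIndex K).Coprime p := by
    have h1 : Nat.card K = Nat.card Mb * Nat.card U := card_comap_mk' U Mb
    have h2 : U.relIndex K * Nat.card U = Nat.card K := relIndex_mul_card_of_le hUK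
    have h3 : U.relIndex K = Nat.card Mb := by
      have hpos : 0 < Nat.card U := Nat.card_pos
      rw [h1] at h2
      exact Nat.eq_of_mul_eq_mul_right hpos h2
    rw [h3]; exact hMbcop
  -- (e1) `C_G(U) ≤ U`
  have hcent : Subgroup.centralizer (U : Set G) ≤ U := by
    have hsol : Cfsg.IsPSolvable p G :=
      isPSolvable_of_chain U K hUK (IsPGroup.iff_card.1 hUp) hKrel ⟨k, hKidx⟩
    exact Cfsg.Agent.Helper4.centralizer_pCore_le_of_isPSolvable hsol hK
  -- (e2) `P` is a maximal subgroup
  have hPmax : ∀ H : Subgroup G, (P : Subgroup G) ≤ H → H = P ∨ H = ⊤ := by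
    intro H hPH
    by_cases hH : H = ⊤
    · right; exact hH
    left
    have hcardH : Nat.card H < n := by
      rw [← hn]
      have := card_lt_card_of_lt (lt_top_iff_ne_top.2 hH)
      rwa [Subgroup.card_top] at this
    have hypH := h_sub G P H hPH hyp
    have hH' := ih _ hcardH H (P.subtype hPH) rfl (by rw [Sylow.coe_subtype]; exact hypH)
    obtain ⟨M, hMn, hMcop, j, hMj⟩ := hasNormalPComplement_iff_exists.1 hH'
    set M' := M.map H.subtype with hM'
    have hM'card : Nat.card M' = Nat.card M := Subgroup.card_map_of_injective H.subtype_injective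
    have hM'U : M' ⊓ U = ⊥ := by
      apply inf_eq_bot_of_coprime_card
      obtain ⟨a, ha⟩ := IsPGroup.iff_card.1 hUp
      rw [hM'card, ha]
      exact Nat.Coprime.pow_right a hMcop
    have hUH : U ≤ H := hUP.trans hPH
    have hUM' : U ≤ Subgroup.normalizer (M' : Set G) := by
      have h1 := Subgroup.le_normalizer_map (H := M) H.subtype
      rw [Subgroup.normalizer_eq_top_iff.2 hMn, ← MonoidHom.range_eq_map, Subgroup.range_subtype]
        at h1
      exact hUH.trans h1
    have hcomm : ⁅M', U⁆ ≤ M' ⊓ U :=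
      le_inf (Subgroup.le_normalizer_iff_commutator_le_left.1 hUM') (Subgroup.commutator_le_right _ _)
    rw [hM'U, le_bot_iff, Subgroup.commutator_eq_bot_iff_le_centralizer] at hcomm
    have hM'bot : M' = ⊥ := by
      rw [eq_bot_iff, ← hM'U]
      exact le_inf le_rfl (hcomm.trans hcent)
    have hMbot : M = ⊥ := by
      rw [hM', Subgroup.map_eq_bot_iff_of_injective _ H.subtype_injective] at hM'bot
      exact hM'bot
    -- `H` is a `p`-group containing `P`
    have hHp : IsPGroup p H := by
      apply IsPGroup.of_card (n := j)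
      rw [← hMj, hMbot, Subgroup.index_bot]
    exact (P.3 hHp hPH)
  -- (f) `K/U` is abelian
  have hKK : ⁅K, K⁆ ≤ U := by
    have hPbmax : ∀ H : Subgroup (G ⧸ U), (P : Subgroup G).map (QuotientGroup.mk' U) ≤ H →
        H = (P : Subgroup G).map (QuotientGroup.mk' U) ∨ H = ⊤ := by
      intro H hH
      have hPH : (P : Subgroup G) ≤ H.comap (QuotientGroup.mk' U) := by
        intro x hx
        rw [Subgroup.mem_comap]
        exact hH ⟨x, hx, rfl⟩
      rcases hPmax _ hPH with h | h
      · left
        rw [← Subgroup.map_comap_eq_self_of_surjective hsurj H, h]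
      · right
        rw [← Subgroup.map_comap_eq_self_of_surjective hsurj H, h, ← MonoidHom.range_eq_map,
          MonoidHom.range_eq_top.2 hsurj]
    have h1 := commutator_eq_bot_of_maximal ((P : Subgroup G).map (QuotientGroup.mk' U)) Mb
      (P.2.map _) hMbcop hPbmax
    have h2 : (⁅K, K⁆).map (QuotientGroup.mk' U) = ⊥ := by
      rw [Subgroup.map_commutator, hKdef, Subgroup.map_comap_eq_self_of_surjective hsurj, h1]
    rw [Subgroup.map_eq_bot_iff, QuotientGroup.ker_mk'] at h2
    exact h2
  exact final G P hyp ⟨hK, hcent, hPmax, hG, K, hKn, hUK, hKK, hKrel, k, hKidx⟩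

end ThompsonRedAbs

end Cfsg.Agent.Helper1
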