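import Mathlib
import Cfsg.Prelude.Def_TwoFusion
import Cfsg.Agent.Helper1.ThompsonRedAbs
import Cfsg.Agent.Helper1.PStableStruct

set_option autoImplicit false

/-!
Thompson-type normal `p`-complement theorems relative to a strongly closed subgroup `D` of a Sylow
`p`-subgroup: closure properties of the hypothesis "`N_G(W(D))` has a normal `p`-complement".
-/

namespace Cfsg.Agent.Helper1

namespace StrongClosedNPC

open scoped Pointwise commutatorElement
open ThompsonRed ThompsonRedAbs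

universe u

variable {p : ℕ} {G : Type u} [Group G]

/-- the hypothesis -/
def HypD (p : ℕ) (F : CharFunctor.{u}) (G : Type u) [Group G] (P : Subgroup G) : Prop :=
  ∃ D : Subgroup G, Cfsg.IsStronglyClosed D P ∧
    Cfsg.HasNormalPComplement p ↥(Subgroup.normalizer (F.of D : Set G))

theorem stronglyClosed_le_normalizer {D P : Subgroup G} (hD : Cfsg.IsStronglyClosed D P) :
    P ≤ Subgroup.normalizer (D : Set G) := by
  intro g hg
  rw [Subgroup.mem_normalizer_iff]
  intro y
  constructor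
  · intro hy
    exact hD.2 y hy g (P.mul_mem (P.mul_mem hg (hD.1 hy)) (P.inv_mem hg))
  · intro hy
    have h1 : g⁻¹ * (g * y * g⁻¹) * g⁻¹⁻¹ ∈ D :=
      hD.2 _ hy g⁻¹ (P.mul_mem (P.mul_mem (P.inv_mem hg) (hD.1 hy)) (by rw [inv_inv]; exact hg))
    have e : g⁻¹ * (g * y * g⁻¹) * g⁻¹⁻¹ = y := by group
    rwa [e] at h1

theorem stronglyClosed_conj {D P : Subgroup G} (hD : Cfsg.IsStronglyClosed D P) (g : G) :
    Cfsg.IsStronglyClosed (D.map (MulAut.conj g).toMonoidHom)
      (P.map (MulAut.conj g).toMonoidHom) := by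
  refine ⟨Subgroup.map_mono hD.1, ?_⟩
  rintro _ ⟨d, hd, rfl⟩ h ⟨y, hy, hyeq⟩
  have hyeq' : g * y * g⁻¹ = h * (g * d * g⁻¹) * h⁻¹ := hyeq
  have h1 : (g⁻¹ * h * g) * d * (g⁻¹ * h * g)⁻¹ = y := by
    have : y = g⁻¹ * (h * (g * d * g⁻¹) * h⁻¹) * g := by rw [← hyeq']; group
    rw [this]; group
  have h2 : (g⁻¹ * h * g) * d * (g⁻¹ * h * g)⁻¹ ∈ D := hD.2 d hd _ (by rw [h1]; exact hy)
  refine ⟨(g⁻¹ * h * g) * d * (g⁻¹ * h * g)⁻¹, h2, ?_⟩
  show g * ((g⁻¹ * h * g) * d * (g⁻¹ * h * g)⁻¹) * g⁻¹ = h * (g * d * g⁻¹) * h⁻¹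
  group

theorem hypD_conj [Finite G] [Fact p.Prime] (F : CharFunctor.{u}) (P : Subgroup G) (g : G)
    (h : HypD p F G P) : HypD p F G (P.map (MulAut.conj g).toMonoidHom) := by
  obtain ⟨D, hD, hN⟩ := h
  refine ⟨D.map (MulAut.conj g).toMonoidHom, stronglyClosed_conj hD g, ?_⟩
  rw [F.of_conj, ← Subgroup.map_equiv_normalizer_eq]
  exact hasNormalPComplement_map _ _ hN

/-- a local form -/
theorem hypD_of_local [Finite G] [Fact p.Prime] (F : CharFunctor.{u}) (H : Subgroup G)
    (R : Subgroup H) (E : Subgroup G) (hEH : E ≤ H)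
    (hE : Cfsg.IsStronglyClosed (E.subgroupOf H) R)
    (h1 : Cfsg.HasNormalPComplement p ↥(Subgroup.normalizer (F.of E : Set G))) :
    HypD p F H R := by
  refine ⟨E.subgroupOf H, hE, ?_⟩
  have e0 : (E.subgroupOf H).map H.subtype = E := by
    rw [Subgroup.subgroupOf_map_subtype, inf_eq_left.2 hEH]
  have e1 : (Subgroup.normalizer (F.of (E.subgroupOf H) : Set H)).map H.subtype ≤
      Subgroup.normalizer (F.of E : Set G) := by
    have := F.of_map_of_injective H.subtype H.subtype_injective (E.subgroupOf H)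
    rw [e0] at this
    rw [this]
    exact Subgroup.le_normalizer_map _
  have e2 := hasNormalPComplement_of_le e1 h1
  exact hasNormalPComplement_of_mulEquiv
    (Subgroup.equivMapOfInjective _ H.subtype H.subtype_injective).symm e2

theorem hypD_sub [Finite G] [Fact p.Prime] (F : CharFunctor.{u}) {P H : Subgroup G} (hPH : P ≤ H)
    (h : HypD p F G P) : HypD p F H (P.subgroupOf H) := by
  obtain ⟨D, hD, hN⟩ := h
  refine hypD_of_local F H _ D (hD.1.trans hPH) ?_ hN
  refine ⟨?_, ?_⟩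
  · intro x hx
    rw [Subgroup.mem_subgroupOf] at hx ⊢
    exact hD.1 hx
  · intro x hx g hg
    rw [Subgroup.mem_subgroupOf] at hx hg ⊢
    exact hD.2 _ hx _ hg

end StrongClosedNPC

end Cfsg.Agent.Helper1
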