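import Mathlib
import Cfsg.Agent.Helper1.StrongClosedNPCa

set_option autoImplicit false

/-!
Thompson-type normal `p`-complement theorems relative to a strongly closed subgroup: passage to
quotients.
-/

namespace Cfsg.Agent.Helper1

namespace StrongClosedNPC

open scoped Pointwise commutatorElement
open ThompsonRed ThompsonRedAbs

universe u

variable {p : ℕ} {G : Type u} [Group G]

/-- a `p`-element of `PK` is `K`-conjugate into the Sylow subgroup `P`. -/
theorem exists_conj_mem_sylow_of_mem_sup [Finite G] [hp : Fact p.Prime] (K : Subgroup G)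
    [hKn : K.Normal] (P : Sylow p G) (z : G) (hz : z ∈ (P : Subgroup G) ⊔ K)
    (hzp : IsPGroup p ↥(Subgroup.zpowers z)) : ∃ k ∈ K, k * z * k⁻¹ ∈ (P : Subgroup G) := by
  set H := (P : Subgroup G) ⊔ K with hH
  have hPH : (P : Subgroup G) ≤ H := le_sup_left
  have hZ : IsPGroup p ↥((Subgroup.zpowers z).subgroupOf H) := hzp.comap_subtype
  obtain ⟨Q, hQ⟩ := hZ.exists_le_sylow
  obtain ⟨h, hh⟩ := MulAction.exists_smul_eq H Q (P.subtype hPH)
  have hzQ : (⟨z, hz⟩ : H) ∈ (Q : Subgroup H) := by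
    apply hQ
    rw [Subgroup.mem_subgroupOf]
    exact Subgroup.mem_zpowers z
  have h1 : h * ⟨z, hz⟩ * h⁻¹ ∈ ((h • Q : Sylow p H) : Subgroup H) := by
    rw [Sylow.coe_subgroup_smul]
    exact conj_mem_conj_smul hzQ
  rw [hh, Sylow.coe_subtype, Subgroup.mem_subgroupOf] at h1
  have h2 : (h : G) * z * (h : G)⁻¹ ∈ (P : Subgroup G) := h1
  have h3 : (h : G) ∈ ((P : Subgroup G) ⊔ K : Subgroup G) := h.2
  rw [← SetLike.mem_coe, Subgroup.mul_normal] at h3
  obtain ⟨a, ha, k, hk, hak⟩ := h3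
  refine ⟨k, hk, ?_⟩
  have e : k * z * k⁻¹ = a⁻¹ * ((h : G) * z * (h : G)⁻¹) * a := by
    rw [← hak]; group
  rw [e]
  exact (P : Subgroup G).mul_mem ((P : Subgroup G).mul_mem ((P : Subgroup G).inv_mem ha) h2) ha

theorem isPGroup_zpowers_conj [hp : Fact p.Prime] {P : Subgroup G} (hP : IsPGroup p P) {x : G}
    (hx : x ∈ P) (g : G) : IsPGroup p ↥(Subgroup.zpowers (g * x * g⁻¹)) := by
  obtain ⟨k, hk⟩ := hP ⟨x, hx⟩
  have hk' : x ^ p ^ k = 1 := by
    have := congrArg Subtype.val hk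
    simpa using this
  rintro ⟨y, hy⟩
  obtain ⟨n, rfl⟩ := Subgroup.mem_zpowers_iff.1 hy
  refine ⟨k, ?_⟩
  apply Subtype.ext
  show ((g * x * g⁻¹) ^ n) ^ p ^ k = 1
  rw [← zpow_natCast, ← zpow_mul, mul_comm, zpow_mul, zpow_natCast, conj_pow, hk']
  simp

theorem stronglyClosed_quot [Finite G] [hp : Fact p.Prime] (K : Subgroup G) [hKn : K.Normal]
    (P : Sylow p G) {D : Subgroup G} (hD : Cfsg.IsStronglyClosed D (P : Subgroup G)) :
    Cfsg.IsStronglyClosed (D.map (QuotientGroup.mk' K))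
      ((P : Subgroup G).map (QuotientGroup.mk' K)) := by
  refine ⟨Subgroup.map_mono hD.1, ?_⟩
  rintro _ ⟨x, hx, rfl⟩ gb ⟨y, hy, hyeq⟩
  obtain ⟨g, rfl⟩ := QuotientGroup.mk'_surjective K gb
  have hyeq' : (QuotientGroup.mk' K) y = (QuotientGroup.mk' K) (g * x * g⁻¹) := by
    rw [hyeq, map_mul, map_mul, map_inv]
  have hzK : y⁻¹ * (g * x * g⁻¹) ∈ K := by
    rw [← QuotientGroup.eq_one_iff, ← QuotientGroup.mk'_apply, map_mul, map_inv, hyeq',
      inv_mul_cancel]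
  have hz : g * x * g⁻¹ ∈ (P : Subgroup G) ⊔ K := by
    have : g * x * g⁻¹ = y * (y⁻¹ * (g * x * g⁻¹)) := by group
    rw [this]
    exact Subgroup.mul_mem_sup hy hzK
  obtain ⟨k, hk, hkP⟩ := exists_conj_mem_sylow_of_mem_sup K P _ hz
    (isPGroup_zpowers_conj P.2 (hD.1 hx) g)
  have e : k * (g * x * g⁻¹) * k⁻¹ = (k * g) * x * (k * g)⁻¹ := by group
  rw [e] at hkP
  have h1 := hD.2 x hx (k * g) hkP
  refine ⟨(k * g) * x * (k * g)⁻¹, h1, ?_⟩
  have hk1 : (QuotientGroup.mk' K) k = 1 := (QuotientGroup.eq_one_iff k).2 hk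
  rw [map_mul, map_mul, map_inv, map_mul, hk1, one_mul]

theorem hypD_quot [Finite G] [hp : Fact p.Prime] (F : CharFunctor.{u}) (K : Subgroup G)
    [hKn : K.Normal] (hK : (Nat.card K).Coprime p) (P : Sylow p G)
    (h : HypD p F G P) : HypD p F (G ⧸ K) ((P : Subgroup G).map (QuotientGroup.mk' K)) := by
  obtain ⟨D, hD, hN⟩ := h
  refine ⟨D.map (QuotientGroup.mk' K), stronglyClosed_quot K P hD, ?_⟩
  have hDp : IsPGroup p D := P.2.to_le hD.1
  have hdisj : D ⊓ (QuotientGroup.mk' K).ker = ⊥ := by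
    rw [QuotientGroup.ker_mk']
    apply inf_eq_bot_of_coprime_card
    obtain ⟨k, hk⟩ := IsPGroup.iff_card.1 hDp
    rw [hk]
    exact (Nat.Coprime.pow_right k hK).symm
  rw [F.of_map _ _ hdisj]
  have h1 := normalizer_map_mk'_le K (F.of D) (hDp.to_le (F.of_le D)) hK
  exact hasNormalPComplement_of_le h1 (hasNormalPComplement_map _ _ hN)

end StrongClosedNPC

end Cfsg.Agent.Helper1
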