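import Mathlib
import Cfsg.Agent.Helper1.MFc
import Cfsg.Agent.Helper1.StrongClosedNPCb

/-!
The conjugacy functor attached to an isomorphism-invariant functor `W` and a normal subset `𝒟`
(a "marking") of the group: `T ↦ W(⟨T ∩ 𝒟⟩)` (and `W(T)` when `T ∩ 𝒟` generates the trivial group).
-/

set_option autoImplicit false

universe u

namespace Cfsg.Agent.Helper1.MF

open Cfsg Cfsg.Agent.Lead Cfsg.Agent.Helper5.TF Cfsg.Agent.Helper1.FT

variable {p : ℕ}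

open Classical in
/-- the marked part of a subgroup -/
noncomputable def mark {X : Type*} [Group X] (𝒟 : Set X) (T : Subgroup X) : Subgroup X :=
  if Subgroup.closure ((T : Set X) ∩ 𝒟) = ⊥ then T else Subgroup.closure ((T : Set X) ∩ 𝒟)

section basic

variable {X : Type*} [Group X]

theorem closure_inter_le (𝒟 : Set X) (T : Subgroup X) :
    Subgroup.closure ((T : Set X) ∩ 𝒟) ≤ T :=
  (Subgroup.closure_le T).2 Set.inter_subset_left

theorem mark_le (𝒟 : Set X) (T : Subgroup X) : mark 𝒟 T ≤ T := by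
  unfold mark
  split_ifs
  · exact le_rfl
  · exact closure_inter_le 𝒟 T

theorem mark_ne_bot (𝒟 : Set X) {T : Subgroup X} (hT : T ≠ ⊥) : mark 𝒟 T ≠ ⊥ := by
  unfold mark
  split_ifs with h
  · exact hT
  · exact h

theorem mark_map_injective {Y Z : Type*} [Group Y] [Group Z] (f : Y →* Z)
    (hf : Function.Injective f) (𝒟 : Set Z) (T : Subgroup Y) :
    mark 𝒟 (T.map f) = (mark (f ⁻¹' 𝒟) T).map f := by
  have hset : ((T.map f : Subgroup Z) : Set Z) ∩ 𝒟 = f '' ((T : Set Y) ∩ f ⁻¹' 𝒟) := by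
    rw [Set.image_inter_preimage, Subgroup.coe_map]
  have hcl : Subgroup.closure (((T.map f : Subgroup Z) : Set Z) ∩ 𝒟) =
      (Subgroup.closure ((T : Set Y) ∩ f ⁻¹' 𝒟)).map f := by
    rw [hset, MonoidHom.map_closure]
  unfold mark
  rw [hcl, Subgroup.map_eq_bot_iff_of_injective _ hf]
  split_ifs <;> rfl

theorem mark_conj (𝒟 : Set X) (h𝒟 : ∀ d ∈ 𝒟, ∀ g : X, g * d * g⁻¹ ∈ 𝒟) (T : Subgroup X) (g : X) :
    mark 𝒟 (T.map (MulAut.conj g).toMonoidHom) = (mark 𝒟 T).map (MulAut.conj g).toMonoidHom := by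
  rw [mark_map_injective _ (MulAut.conj g).injective]
  have : (MulAut.conj g).toMonoidHom ⁻¹' 𝒟 = 𝒟 := by
    ext d
    constructor
    · intro hd
      have h1 : g * d * g⁻¹ ∈ 𝒟 := hd
      have := h𝒟 _ h1 g⁻¹
      have e : g⁻¹ * (g * d * g⁻¹) * g⁻¹⁻¹ = d := by group
      rwa [e] at this
    · intro hd
      exact h𝒟 d hd g
  rw [this]

end basic

/-- the marked functor -/
noncomputable def mfun (W : ∀ (Q : Type u) [Group Q], Subgroup Q) {X : Type u} [Group X]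
    (𝒟 : Set X) : Subgroup X → Subgroup X :=
  fun T => Cfsg.inducedFunctor W (mark 𝒟 T)

section mfun

variable (W : ∀ (Q : Type u) [Group Q], Subgroup Q) (hW : Cfsg.IsCharPFunctor.{u} p W)

include hW in
theorem mfun_isConj {X : Type u} [Group X] [Finite X] (𝒟 : Set X)
    (h𝒟 : ∀ d ∈ 𝒟, ∀ g : X, g * d * g⁻¹ ∈ 𝒟) : Cfsg.IsConjugacyFunctor p (mfun W 𝒟) := by
  intro P hP
  have hWc := isConjugacyFunctor_induced (X := X) W hW
  have hmp : IsPGroup p ↥(mark 𝒟 P) := hP.to_le (mark_le 𝒟 P)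
  refine ⟨((hWc _ hmp).1).trans (mark_le 𝒟 P), ?_, ?_⟩
  · intro hPne
    exact (hWc _ hmp).2.1 (mark_ne_bot 𝒟 hPne)
  · intro g
    show Cfsg.inducedFunctor W (mark 𝒟 (P.map (MulAut.conj g).toMonoidHom)) = _
    rw [mark_conj 𝒟 h𝒟]
    exact (hWc _ hmp).2.2 g

include hW in
theorem mfun_map_injective {Y Z : Type u} [Group Y] [Group Z] [Finite Y] (f : Y →* Z)
    (hf : Function.Injective f) (𝒟 : Set Z) (T : Subgroup Y) (hT : IsPGroup p T) :
    mfun W 𝒟 (T.map f) = (mfun W (f ⁻¹' 𝒟) T).map f := by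
  show Cfsg.inducedFunctor W (mark 𝒟 (T.map f)) = _
  rw [mark_map_injective f hf]
  exact inducedFunctor_map W hW f hf _ (hT.to_le (mark_le _ T))

end mfun

section quot

variable {X : Type u} [Group X] [Finite X] [hp : Fact p.Prime]

/-- the marked elements of the image of a Sylow subgroup in a quotient -/
theorem map_inter_image (N : Subgroup X) [N.Normal] (S : Sylow p X) (𝒟 : Set X)
    (h𝒟 : ∀ d ∈ 𝒟, ∀ g : X, g * d * g⁻¹ ∈ 𝒟) (hpel : ∀ d ∈ 𝒟, ∃ k : ℕ, d ^ p ^ k = 1) :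
    (((S : Subgroup X).map (QuotientGroup.mk' N) : Subgroup (X ⧸ N)) : Set (X ⧸ N)) ∩
      (QuotientGroup.mk' N) '' 𝒟 = (QuotientGroup.mk' N) '' (((S : Subgroup X) : Set X) ∩ 𝒟) := by
  apply Set.Subset.antisymm
  · rintro y ⟨⟨s, hs, rfl⟩, ⟨d, hd, hds⟩⟩
    have hsd : s⁻¹ * d ∈ N := by
      rw [← QuotientGroup.eq_one_iff, ← QuotientGroup.mk'_apply, map_mul, map_inv, hds,
        inv_mul_cancel]
    have hz : d ∈ (S : Subgroup X) ⊔ N := by
      have : d = s * (s⁻¹ * d) := by group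
      rw [this]
      exact Subgroup.mul_mem_sup hs hsd
    have hdp : IsPGroup p ↥(Subgroup.zpowers d) := by
      obtain ⟨k, hk⟩ := hpel d hd
      rintro ⟨y, hy⟩
      obtain ⟨n, rfl⟩ := Subgroup.mem_zpowers_iff.1 hy
      refine ⟨k, ?_⟩
      apply Subtype.ext
      show (d ^ n) ^ p ^ k = 1
      rw [← zpow_natCast, ← zpow_mul, mul_comm, zpow_mul, zpow_natCast, hk, one_zpow]
    obtain ⟨k, hk, hkS⟩ := StrongClosedNPC.exists_conj_mem_sylow_of_mem_sup N S d hz hdp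
    refine ⟨k * d * k⁻¹, ⟨hkS, h𝒟 d hd k⟩, ?_⟩
    have hk1 : (QuotientGroup.mk' N) k = 1 := (QuotientGroup.eq_one_iff k).2 hk
    rw [map_mul, map_mul, map_inv, hk1, one_mul, inv_one, mul_one, hds]
  · rintro _ ⟨x, ⟨hxS, hxD⟩, rfl⟩
    exact ⟨⟨x, hxS, rfl⟩, ⟨x, hxD, rfl⟩⟩

theorem closure_map_inter_image (N : Subgroup X) [N.Normal] (S : Sylow p X) (𝒟 : Set X)
    (h𝒟 : ∀ d ∈ 𝒟, ∀ g : X, g * d * g⁻¹ ∈ 𝒟) (hpel : ∀ d ∈ 𝒟, ∃ k : ℕ, d ^ p ^ k = 1) :
    Subgroup.closure ((((S : Subgroup X).map (QuotientGroup.mk' N) : Subgroup (X ⧸ N)) :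
      Set (X ⧸ N)) ∩ (QuotientGroup.mk' N) '' 𝒟) =
      (Subgroup.closure (((S : Subgroup X) : Set X) ∩ 𝒟)).map (QuotientGroup.mk' N) := by
  rw [map_inter_image N S 𝒟 h𝒟 hpel, MonoidHom.map_closure]

theorem mark_map_quot (O : Subgroup X) [O.Normal] (hO : (Nat.card O).Coprime p) (S : Sylow p X)
    (𝒟 : Set X) (h𝒟 : ∀ d ∈ 𝒟, ∀ g : X, g * d * g⁻¹ ∈ 𝒟)
    (hpel : ∀ d ∈ 𝒟, ∃ k : ℕ, d ^ p ^ k = 1) :
    mark ((QuotientGroup.mk' O) '' 𝒟) ((S : Subgroup X).map (QuotientGroup.mk' O)) =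
      (mark 𝒟 (S : Subgroup X)).map (QuotientGroup.mk' O) := by
  have hdisj : (S : Subgroup X) ⊓ O = ⊥ := by
    apply Disjoint.eq_bot
    apply Subgroup.disjoint_of_coprime_natCard
    obtain ⟨k, hk⟩ := IsPGroup.iff_card.mp S.2
    rw [hk]
    exact Nat.Coprime.pow_left k hO.symm
  have hiff : (Subgroup.closure (((S : Subgroup X) : Set X) ∩ 𝒟)).map (QuotientGroup.mk' O) = ⊥ ↔
      Subgroup.closure (((S : Subgroup X) : Set X) ∩ 𝒟) = ⊥ := by
    rw [Subgroup.map_eq_bot_iff, QuotientGroup.ker_mk']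
    constructor
    · intro h
      rw [eq_bot_iff, ← hdisj]
      exact le_inf (closure_inter_le 𝒟 _) h
    · intro h
      rw [h]
      exact bot_le
  unfold mark
  rw [closure_map_inter_image O S 𝒟 h𝒟 hpel, hiff]
  split_ifs <;> rfl

theorem mfun_map_quot (W : ∀ (Q : Type u) [Group Q], Subgroup Q)
    (hW : Cfsg.IsCharPFunctor.{u} p W) (O : Subgroup X) [O.Normal] (hO : (Nat.card O).Coprime p)
    (S : Sylow p X) (𝒟 : Set X) (h𝒟 : ∀ d ∈ 𝒟, ∀ g : X, g * d * g⁻¹ ∈ 𝒟)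
    (hpel : ∀ d ∈ 𝒟, ∃ k : ℕ, d ^ p ^ k = 1) :
    mfun W ((QuotientGroup.mk' O) '' 𝒟) ((S : Subgroup X).map (QuotientGroup.mk' O)) =
      (mfun W 𝒟 (S : Subgroup X)).map (QuotientGroup.mk' O) := by
  show Cfsg.inducedFunctor W (mark _ _) = _
  rw [mark_map_quot O hO S 𝒟 h𝒟 hpel]
  have hdisj : (S : Subgroup X) ⊓ O = ⊥ := by
    apply Disjoint.eq_bot
    apply Subgroup.disjoint_of_coprime_natCard
    obtain ⟨k, hk⟩ := IsPGroup.iff_card.mp S.2
    rw [hk]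
    exact Nat.Coprime.pow_left k hO.symm
  apply inducedFunctor_map_injOn W hW _ _ (S.2.to_le (mark_le 𝒟 _))
  intro t ht h1
  have htO : t ∈ O := (QuotientGroup.eq_one_iff t).mp h1
  have : t ∈ (S : Subgroup X) ⊓ O := ⟨mark_le 𝒟 _ ht, htO⟩
  rwa [hdisj, Subgroup.mem_bot] at this

end quot

end Cfsg.Agent.Helper1.MF
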