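import Mathlib
import Cfsg.Agent.Helper1.MFd

/-!
Markings: normal subsets `𝒟` of `p`-elements whose trace on a Sylow `p`-subgroup generates a subgroup
inside `𝒟`. Inheritance by subgroups and quotients.
-/

set_option autoImplicit false

universe u

namespace Cfsg.Agent.Helper1.MF

open Cfsg Cfsg.Agent.Lead Cfsg.Agent.Helper5.TF Cfsg.Agent.Helper1.FT

variable {p : ℕ}

/-- a marking of the group `X` -/
structure Marked (p : ℕ) {X : Type*} [Group X] (𝒟 : Set X) : Prop where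
  conj : ∀ d ∈ 𝒟, ∀ g : X, g * d * g⁻¹ ∈ 𝒟
  pel : ∀ d ∈ 𝒟, ∃ k : ℕ, d ^ p ^ k = 1
  closed : ∀ S : Sylow p X, ((Subgroup.closure (((S : Subgroup X) : Set X) ∩ 𝒟) : Subgroup X) : Set X) ⊆ 𝒟

variable {X : Type u} [Group X] [Finite X] [hp : Fact p.Prime]

theorem Marked.sub {𝒟 : Set X} (h : Marked p 𝒟) (H : Subgroup X) :
    Marked p (H.subtype ⁻¹' 𝒟) := by
  refine ⟨?_, ?_, ?_⟩
  · intro d hd g
    exact h.conj _ hd _
  · intro d hd
    obtain ⟨k, hk⟩ := h.pel _ hd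
    refine ⟨k, ?_⟩
    apply Subtype.ext
    simpa using hk
  · intro T x hx
    obtain ⟨S, hS⟩ := (T.2.map H.subtype).exists_le_sylow
    apply h.closed S
    have h1 : (Subgroup.closure (((T : Subgroup ↥H) : Set ↥H) ∩ H.subtype ⁻¹' 𝒟)).map H.subtype ≤
        Subgroup.closure (((S : Subgroup X) : Set X) ∩ 𝒟) := by
      rw [MonoidHom.map_closure]
      apply Subgroup.closure_mono
      rintro _ ⟨y, ⟨hyT, hyD⟩, rfl⟩
      exact ⟨hS ⟨y, hyT, rfl⟩, hyD⟩
    exact h1 ⟨x, hx, rfl⟩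

theorem Marked.quot {𝒟 : Set X} (h : Marked p 𝒟) (N : Subgroup X) [N.Normal] :
    Marked p ((QuotientGroup.mk' N) '' 𝒟) := by
  refine ⟨?_, ?_, ?_⟩
  · rintro _ ⟨d, hd, rfl⟩ g
    obtain ⟨g, rfl⟩ := QuotientGroup.mk'_surjective N g
    refine ⟨g * d * g⁻¹, h.conj d hd g, ?_⟩
    rw [map_mul, map_mul, map_inv]
  · rintro _ ⟨d, hd, rfl⟩
    obtain ⟨k, hk⟩ := h.pel d hd
    refine ⟨k, ?_⟩
    rw [← map_pow, hk, map_one]
  · intro Sb
    obtain ⟨S, rfl⟩ := Sylow.mapSurjective_surjective (QuotientGroup.mk'_surjective N) p Sb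
    rw [Sylow.coe_mapSurjective, closure_map_inter_image N S 𝒟 h.conj h.pel]
    rintro _ ⟨x, hx, rfl⟩
    exact ⟨x, h.closed S hx, rfl⟩

/-- the marked part of a Sylow subgroup is strongly closed -/
theorem Marked.stronglyClosed {𝒟 : Set X} (h : Marked p 𝒟) (S : Sylow p X) :
    Cfsg.IsStronglyClosed (mark 𝒟 (S : Subgroup X)) (S : Subgroup X) := by
  refine ⟨mark_le 𝒟 _, ?_⟩
  unfold mark
  split_ifs with h0
  · intro x _ g hg
    exact hg
  · intro x hx g hg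
    apply Subgroup.subset_closure
    exact ⟨hg, h.conj x (h.closed S hx) g⟩

end Cfsg.Agent.Helper1.MF
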