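import Mathlib
import Cfsg.Agent.Helper1.MFe

/-!
Control of strong fusion by the marked functor `T ↦ W(⟨T ∩ 𝒟⟩)`: induction over all finite groups
of a class closed under subgroups and quotients, with a normality hypothesis for the `p`-constrained
members.
-/

set_option autoImplicit false

universe u

namespace Cfsg.Agent.Helper1.MF

open Cfsg Cfsg.Agent.Lead Cfsg.Agent.Helper5.TF Cfsg.Agent.Helper1.FT

variable {p : ℕ} [hp : Fact p.Prime]

theorem marked_control (W : ∀ (Q : Type u) [Group Q], Subgroup Q)
    (hW : Cfsg.IsCharPFunctor.{u} p W)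
    (Good : ∀ (X : Type u) [Group X], Prop)
    (good_sub : ∀ (X : Type u) [Group X] (H : Subgroup X), Good X → Good ↥H)
    (good_quot : ∀ (X : Type u) [Group X] (N : Subgroup X) [N.Normal], Good X → Good (X ⧸ N))
    (hZJ : ∀ (X : Type u) [Group X] [Finite X], Good X → PC p X →
      ∀ (S : Sylow p X) (D : Subgroup X), Cfsg.IsStronglyClosed D (S : Subgroup X) →
        (Cfsg.inducedFunctor W D).Normal) :
    ∀ (n : ℕ) (X : Type u) [Group X] [Finite X] (𝒟 : Set X), Nat.card X = n → Good X →
      Marked p 𝒟 → Cfsg.FamilyControlsStrongFusionIn p {mfun W 𝒟} ⊤ := by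
  intro n
  induction n using Nat.strong_induction_on with
  | _ n ih =>
    intro X _ _ 𝒟 hcard hgood hmark
    have hconj : ∀ V ∈ ({mfun W 𝒟} : Set (Subgroup X → Subgroup X)),
        Cfsg.IsConjugacyFunctor p V := by
      rintro V rfl
      exact mfun_isConj W hW 𝒟 hmark.conj
    have hsub : ∀ H : Subgroup X, H ≠ ⊤ →
        Cfsg.FamilyControlsStrongFusionIn p {mfun W 𝒟} H := by
      intro H hH
      have h1 := ih (Nat.card H) (hcard ▸ card_subgroup_lt hH) ↥H (H.subtype ⁻¹' 𝒟) rfl
        (good_sub X H hgood) (hmark.sub H)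
      have h2 := sf_map_injective' (p := p) {mfun W (H.subtype ⁻¹' 𝒟)} {mfun W 𝒟} H.subtype
        H.subtype_injective ?_ h1
      · rwa [Subgroup.range_subtype] at h2
      · rintro V rfl
        refine ⟨mfun W 𝒟, rfl, fun T hT => ?_⟩
        exact mfun_map_injective W hW H.subtype H.subtype_injective 𝒟 T hT
    have hquot : ∀ (N : Subgroup X) [N.Normal], N ≠ ⊥ →
        Cfsg.FamilyControlsStrongFusionIn p {mfun W ((QuotientGroup.mk' N) '' 𝒟)} ⊤ := by
      intro N _ hN
      exact ih (Nat.card (X ⧸ N)) (hcard ▸ card_quotient_lt hN) (X ⧸ N) _ rfl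
        (good_quot X N hgood) (hmark.quot N)
    have hconjbar : ∀ (N : Subgroup X) [N.Normal],
        ∀ V ∈ ({mfun W ((QuotientGroup.mk' N) '' 𝒟)} : Set (Subgroup (X ⧸ N) → Subgroup (X ⧸ N))),
          Cfsg.IsConjugacyFunctor p V := by
      rintro N _ V rfl
      exact mfun_isConj W hW _ (hmark.quot N).conj
    have S : Sylow p X := default
    by_cases hpc : PC p X
    · -- the constrained case
      have hn := hZJ X hgood hpc S _ (hmark.stronglyClosed S)
      apply top_of_sfs S
      intro A g hA hAg
      refine FRel.step (W := mfun W 𝒟) rfl ?_ hA hAg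
      have hN : Subgroup.normalizer ((mfun W 𝒟 (S : Subgroup X) : Subgroup X) : Set X) = ⊤ :=
        Subgroup.normalizer_eq_top_iff.mpr hn
      rw [hN]
      exact Subgroup.mem_top g
    · by_cases hO : Cfsg.pPrimeCore p X = ⊥
      · by_cases hQ : Cfsg.pCore p X = ⊥
        · apply familyControlsStrongFusionIn_top_of_local S _ hconj
          intro T hTS hTne _
          apply hsub
          intro htop
          apply hTne
          have hTn : T.Normal := Subgroup.normalizer_eq_top_iff.mp htop
          have := le_pCore hTn (S.2.to_le hTS)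
          rwa [hQ, le_bot_iff] at this
        · exact sf_case_Q' _ hconj hO hpc hsub _ (hconjbar _) (hquot _ hQ)
      · refine sf_case_pprime' _ hconj (Cfsg.pPrimeCore p X) (card_pPrimeCore_coprime p) _
          (hconjbar _) S ?_ (hquot _ hO)
        rintro V' rfl
        exact ⟨mfun W 𝒟, rfl, mfun_map_quot W hW _ (card_pPrimeCore_coprime p) S 𝒟 hmark.conj
          hmark.pel⟩

end Cfsg.Agent.Helper1.MF
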