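import Mathlib
import Cfsg.Agent.Helper1.MFf
import Cfsg.Agent.Helper1.FSF

/-!
Control of strong fusion by `N_G(W(D))` for a strongly closed subgroup `D` of a Sylow `p`-subgroup.
-/

set_option autoImplicit false

universe u

namespace Cfsg.Agent.Helper1.MF

open Cfsg Cfsg.Agent.Lead Cfsg.Agent.Helper5.TF Cfsg.Agent.Helper1.FT

variable {p : ℕ} [hp : Fact p.Prime]

/-- the marking attached to a strongly closed subgroup -/
def conjSet {G : Type*} [Group G] (D : Subgroup G) : Set G :=
  {y | ∃ d ∈ D, ∃ g : G, y = g * d * g⁻¹}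

theorem inter_conjSet {G : Type*} [Group G] {D P : Subgroup G}
    (hD : Cfsg.IsStronglyClosed D P) (h : G) :
    ((P.map (MulAut.conj h).toMonoidHom : Subgroup G) : Set G) ∩ conjSet D =
      ((D.map (MulAut.conj h).toMonoidHom : Subgroup G) : Set G) := by
  apply Set.Subset.antisymm
  · rintro y ⟨⟨x, hx, rfl⟩, ⟨d, hd, g, hy⟩⟩
    have hy' : h * x * h⁻¹ = g * d * g⁻¹ := hy
    have hx' : x = (h⁻¹ * g) * d * (h⁻¹ * g)⁻¹ := by
      have : x = h⁻¹ * (h * x * h⁻¹) * h := by group
      rw [this, hy']; group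
    have hxD : x ∈ D := by
      rw [hx']
      apply hD.2 d hd
      rw [← hx']
      exact hx
    exact ⟨x, hxD, rfl⟩
  · rintro _ ⟨d, hd, rfl⟩
    exact ⟨⟨d, hD.1 hd, rfl⟩, ⟨d, hd, h, rfl⟩⟩

theorem marked_conjSet {G : Type u} [Group G] [Finite G] (P : Sylow p G) {D : Subgroup G}
    (hD : Cfsg.IsStronglyClosed D (P : Subgroup G)) : Marked p (conjSet D) := by
  refine ⟨?_, ?_, ?_⟩
  · rintro _ ⟨d, hd, g, rfl⟩ k
    exact ⟨d, hd, k * g, by group⟩
  · rintro _ ⟨d, hd, g, rfl⟩
    obtain ⟨k, hk⟩ := P.2 ⟨d, hD.1 hd⟩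
    have hk' : d ^ p ^ k = 1 := by
      have := congrArg Subtype.val hk
      simpa using this
    refine ⟨k, ?_⟩
    rw [conj_pow, hk']
    group
  · intro S
    obtain ⟨h, rfl⟩ := MulAction.exists_smul_eq G P S
    have hS : ((h • P : Sylow p G) : Subgroup G) = (P : Subgroup G).map (MulAut.conj h).toMonoidHom := by
      rw [Sylow.coe_subgroup_smul]
      rfl
    rw [hS, inter_conjSet hD h, Subgroup.closure_eq]
    rintro _ ⟨d, hd, rfl⟩
    exact ⟨d, hd, h, rfl⟩

theorem mark_conjSet {G : Type u} [Group G] {P D : Subgroup G}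
    (hD : Cfsg.IsStronglyClosed D P) (hne : D ≠ ⊥) : mark (conjSet D) P = D := by
  have h1 := inter_conjSet hD 1
  have e : P.map (MulAut.conj (1 : G)).toMonoidHom = P := by
    ext x
    simp
  have e' : D.map (MulAut.conj (1 : G)).toMonoidHom = D := by
    ext x
    simp
  rw [e, e'] at h1
  unfold mark
  rw [h1, Subgroup.closure_eq, if_neg hne]

theorem controls_of_stronglyClosed (W : ∀ (Q : Type u) [Group Q], Subgroup Q)
    (hW : Cfsg.IsCharPFunctor.{u} p W)
    (Good : ∀ (X : Type u) [Group X], Prop)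
    (good_sub : ∀ (X : Type u) [Group X] (H : Subgroup X), Good X → Good ↥H)
    (good_quot : ∀ (X : Type u) [Group X] (N : Subgroup X) [N.Normal], Good X → Good (X ⧸ N))
    (hZJ : ∀ (X : Type u) [Group X] [Finite X], Good X → PC p X →
      ∀ (S : Sylow p X) (D : Subgroup X), Cfsg.IsStronglyClosed D (S : Subgroup X) →
        (Cfsg.inducedFunctor W D).Normal)
    {G : Type u} [Group G] [Finite G] (hG : Good G) (P : Sylow p G) (D : Subgroup G)
    (hD : Cfsg.IsStronglyClosed D (P : Subgroup G)) :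
    ∀ A : Set G, A ⊆ (P : Subgroup G) →
      Cfsg.ControlsStrongFusionOf
        (Subgroup.normalizer ((Cfsg.inducedFunctor W D : Subgroup G) : Set G)) (P : Subgroup G) A := by
  intro A hA
  refine ⟨hA, fun g hg => ?_⟩
  by_cases hne : D = ⊥
  · refine ⟨g, ?_, fun a _ => rfl⟩
    have h0 : Cfsg.inducedFunctor W D = ⊥ := by
      rw [eq_bot_iff, ← hne]
      exact Subgroup.map_subtype_le _
    rw [h0]
    rw [Subgroup.normalizer_eq_top_iff.mpr (inferInstance : (⊥ : Subgroup G).Normal)]
    exact Subgroup.mem_top g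
  · have hmark := marked_conjSet P hD
    have h := marked_control W hW Good good_sub good_quot hZJ (Nat.card G) G (conjSet D) rfl hG hmark
    have hconj : ∀ V ∈ ({mfun W (conjSet D)} : Set (Subgroup G → Subgroup G)),
        Cfsg.IsConjugacyFunctor p V := by
      rintro V rfl
      exact mfun_isConj W hW _ hmark.conj
    have hsfs := sfs_of_top hconj h P
    have hAg : conjR g⁻¹ A ⊆ (P : Subgroup G) := by
      rintro _ ⟨a, ha, rfl⟩
      have := hg ⟨a, ha, rfl⟩
      simpa using this
    obtain ⟨g', hch, hag⟩ := hsfs A g⁻¹ hA hAg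
    have hVP : mfun W (conjSet D) (P : Subgroup G) = Cfsg.inducedFunctor W D := by
      show Cfsg.inducedFunctor W (mark (conjSet D) (P : Subgroup G)) = _
      rw [mark_conjSet hD hne]
    have hg'N : g' ∈ Subgroup.normalizer ((Cfsg.inducedFunctor W D : Subgroup G) : Set G) := by
      apply FChain_mem_of_steps _ _ hch
      rintro x ⟨V, hV, hx⟩
      have : V = mfun W (conjSet D) := hV
      subst this
      rw [← hVP]
      exact (Subgroup.mem_inf.mp hx).2
    refine ⟨g'⁻¹, Subgroup.inv_mem _ hg'N, fun a ha => ?_⟩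
    have := hag a ha
    rw [inv_inv] at this ⊢
    exact this.symm

end Cfsg.Agent.Helper1.MF
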