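import Mathlib
import Cfsg.Agent.Helper1.StrongClosedNPCb

set_option autoImplicit false

/-!
Thompson-type normal `p`-complement theorems relative to a strongly closed subgroup: passage to
`p`-local subgroups and to the quotient by `O_p(G)`; the general theorem.
-/

namespace Cfsg.Agent.Helper1

namespace StrongClosedNPC

open scoped Pointwise commutatorElement
open ThompsonRed ThompsonRedAbs

universe u

variable {p : ℕ} {G : Type u} [Group G]

/-- A nontrivial subgroup `D` of the `p`-group `P` normalised by `P` contains a nontrivial element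
centralising `P`. -/
theorem exists_central_of_normal [Finite G] [hp : Fact p.Prime] {P D : Subgroup G}
    (hP : IsPGroup p P) (hDP : D ≤ P) (hPD : P ≤ Subgroup.normalizer (D : Set G)) (hD1 : D ≠ ⊥) :
    ∃ d ∈ D, d ≠ 1 ∧ ∀ x ∈ P, x * d = d * x := by
  haveI hVn : (D.subgroupOf P).Normal := (Subgroup.normal_subgroupOf_iff_le_normalizer hDP).2 hPD
  have hV1 : D.subgroupOf P ≠ ⊥ := by
    intro h
    apply hD1
    rw [eq_bot_iff]
    intro x hx
    have : (⟨x, hDP hx⟩ : P) ∈ D.subgroupOf P := by rw [Subgroup.mem_subgroupOf]; exact hx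
    rw [h, Subgroup.mem_bot] at this
    rw [Subgroup.mem_bot]
    exact congrArg Subtype.val this
  have h1 := PStableStruct.inf_centralizer_ne_bot (p := p) (⊤ : Subgroup P) (D.subgroupOf P)
    (hP.to_subgroup _) (hP.to_subgroup _) hV1
  rcases Subgroup.bot_or_exists_ne_one (D.subgroupOf P ⊓
    Subgroup.centralizer ((⊤ : Subgroup P) : Set P)) with h2 | ⟨d, hd, hd1⟩
  · exact absurd h2 h1
  · refine ⟨d.1, ?_, ?_, ?_⟩
    · exact Subgroup.mem_subgroupOf.1 hd.1
    · intro h
      apply hd1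
      exact Subtype.ext h
    · intro x hx
      have h3 := Subgroup.mem_centralizer_iff.1 hd.2 ⟨x, hx⟩ (Subgroup.mem_top _)
      exact congrArg Subtype.val h3

theorem hypD_loc_aux [Finite G] [hp : Fact p.Prime] (F : CharFunctor.{u})
    (hne : ∀ (R : Type u) [Group R] [Finite R], IsPGroup p R → Nontrivial R → F.W R ≠ ⊥)
    (P' : Sylow p G) (Q : Subgroup G) (hQp : IsPGroup p Q) (N : Subgroup G)
    (hNdef : N = Subgroup.normalizer (Q : Set G))
    (R : Sylow p ↥N)
    (hRP' : (R : Subgroup ↥N).map N.subtype ≤ P')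
    (h : HypD p F G P')
    (hT : (R : Subgroup ↥N).map N.subtype ≠ P' →
        ∀ T : Subgroup G, IsPGroup p T → T ≠ ⊥ →
          (P' : Subgroup G) ⊓ Subgroup.normalizer
            (((R : Subgroup ↥N).map N.subtype : Subgroup G) : Set G) ≤
            Subgroup.normalizer (T : Set G) →
          Cfsg.HasNormalPComplement p ↥(Subgroup.normalizer (T : Set G))) :
    HypD p F ↥N R := by
  obtain ⟨D, hD, hN⟩ := h
  set R' := (R : Subgroup N).map N.subtype with hR'
  have hR'N : R' ≤ N := by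
    rintro _ ⟨x, _, rfl⟩
    exact x.2
  have hEN : D ⊓ R' ≤ N := inf_le_right.trans hR'N
  have hsc : Cfsg.IsStronglyClosed ((D ⊓ R').subgroupOf N) (R : Subgroup N) := by
    refine ⟨?_, ?_⟩
    · intro x hx
      rw [Subgroup.mem_subgroupOf] at hx
      obtain ⟨r, hr, hrx⟩ := hx.2
      have : r = x := Subtype.ext hrx
      rw [← this]; exact hr
    · intro x hx n hn
      rw [Subgroup.mem_subgroupOf] at hx ⊢
      have h1 : (n : G) * (x : G) * (n : G)⁻¹ ∈ R' := ⟨n * x * n⁻¹, hn, rfl⟩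
      refine ⟨?_, h1⟩
      exact hD.2 _ hx.1 _ (hRP' h1)
  apply hypD_of_local F N R (D ⊓ R') hEN hsc
  by_cases hRP : R' = P'
  · have e : D ⊓ R' = D := by rw [hRP]; exact inf_eq_left.2 hD.1
    rw [e]; exact hN
  by_cases hD1 : D = ⊥
  · have e : D ⊓ R' = D := by rw [hD1]; exact bot_inf_eq _
    rw [e]; exact hN
  -- `Q ≤ R'`
  have hQR' : Q ≤ R' := by
    have h1 : IsPGroup p (Q.subgroupOf N) :=
      hQp.comap_of_injective _ (Subgroup.subtype_injective _)
    haveI : (Q.subgroupOf N).Normal := by rw [hNdef]; exact Subgroup.normal_in_normalizer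
    have h2 : Q.subgroupOf N ≤ R := h1.le_sylow_of_normal R
    intro x hx
    have hxN : x ∈ N := by rw [hNdef]; exact Subgroup.le_normalizer hx
    exact ⟨⟨x, hxN⟩, h2 (by rw [Subgroup.mem_subgroupOf]; exact hx), rfl⟩
  -- `R' = P' ⊓ N`
  have hPN : (P' : Subgroup G) ⊓ N ≤ R' := by
    have h1 : IsPGroup p (((P' : Subgroup G) ⊓ N).subgroupOf N) :=
      (P'.2.to_le inf_le_left).comap_of_injective _ (Subgroup.subtype_injective _)
    have h2 : (R : Subgroup N) ≤ ((P' : Subgroup G) ⊓ N).subgroupOf N := by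
      intro x hx
      rw [Subgroup.mem_subgroupOf]
      exact ⟨hRP' ⟨x, hx, rfl⟩, x.2⟩
    have h3 := R.3 h1 h2
    intro x hx
    have h4 : (⟨x, hx.2⟩ : N) ∈ ((P' : Subgroup G) ⊓ N).subgroupOf N := by
      rw [Subgroup.mem_subgroupOf]; exact hx
    rw [h3] at h4
    exact ⟨⟨x, hx.2⟩, h4, rfl⟩
  have hPD := stronglyClosed_le_normalizer hD
  obtain ⟨d, hdD, hd1, hdc⟩ := exists_central_of_normal P'.2 hD.1 hPD hD1
  have hdN : d ∈ N := by
    rw [hNdef, Subgroup.mem_normalizer_iff]
    intro y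
    have key : ∀ y ∈ Q, d * y * d⁻¹ = y := by
      intro y hy
      have := hdc y (hRP' (hQR' hy))
      rw [← this]; group
    constructor
    · intro hy
      rw [key y hy]; exact hy
    · intro hy
      have h1 := key _ hy
      have h2 : d * y * d⁻¹ = y := by
        have h3 : d⁻¹ * (d * (d * y * d⁻¹) * d⁻¹) * d = d⁻¹ * (d * y * d⁻¹) * d := by rw [h1]
        have e1 : d⁻¹ * (d * (d * y * d⁻¹) * d⁻¹) * d = d * y * d⁻¹ := by group
        have e2 : d⁻¹ * (d * y * d⁻¹) * d = y := by group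
        rw [e1, e2] at h3
        exact h3
      rw [← h2]; exact hy
  have hdE : d ∈ D ⊓ R' := ⟨hdD, hPN ⟨hD.1 hdD, hdN⟩⟩
  have hE1 : D ⊓ R' ≠ ⊥ := by
    intro h
    rw [h, Subgroup.mem_bot] at hdE
    exact hd1 hdE
  have hEp : IsPGroup p ↥(D ⊓ R' : Subgroup G) := P'.2.to_le (inf_le_left.trans hD.1)
  apply hT hRP (F.of (D ⊓ R')) (hEp.to_le (F.of_le _)) (of_ne_bot F hne hEp hE1)
  refine le_trans ?_ (F.normalizer_le (D ⊓ R'))
  intro x hx
  have hxD : x ∈ Subgroup.normalizer (D : Set G) := hPD hx.1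
  have hxR : x ∈ Subgroup.normalizer (R' : Set G) := hx.2
  rw [Subgroup.mem_normalizer_iff] at hxD hxR ⊢
  intro y
  rw [Subgroup.mem_inf, Subgroup.mem_inf, ← hxD y, ← hxR y]

theorem hypD_loc [Finite G] [hp : Fact p.Prime] (F : CharFunctor.{u})
    (hne : ∀ (R : Type u) [Group R] [Finite R], IsPGroup p R → Nontrivial R → F.W R ≠ ⊥)
    (P' : Sylow p G) (Q : Subgroup G) (hQp : IsPGroup p Q)
    (R : Sylow p ↥(Subgroup.normalizer (Q : Set G)))
    (hRP' : (R : Subgroup ↥(Subgroup.normalizer (Q : Set G))).map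
        (Subgroup.normalizer (Q : Set G)).subtype ≤ P')
    (h : HypD p F G P')
    (hT : (R : Subgroup ↥(Subgroup.normalizer (Q : Set G))).map
          (Subgroup.normalizer (Q : Set G)).subtype ≠ P' →
        ∀ T : Subgroup G, IsPGroup p T → T ≠ ⊥ →
          (P' : Subgroup G) ⊓ Subgroup.normalizer
            (((R : Subgroup ↥(Subgroup.normalizer (Q : Set G))).map
              (Subgroup.normalizer (Q : Set G)).subtype : Subgroup G) : Set G) ≤
            Subgroup.normalizer (T : Set G) →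
          Cfsg.HasNormalPComplement p ↥(Subgroup.normalizer (T : Set G))) :
    HypD p F ↥(Subgroup.normalizer (Q : Set G)) R :=
  hypD_loc_aux F hne P' Q hQp _ rfl R hRP' h hT

end StrongClosedNPC

end Cfsg.Agent.Helper1
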