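import Mathlib
import Cfsg.Agent.Helper1.StrongClosedNPCc

set_option autoImplicit false

/-!
Thompson-type normal `p`-complement theorems relative to a strongly closed subgroup: the quotient
by `O_p(G)` and the general theorem.
-/

namespace Cfsg.Agent.Helper1

namespace StrongClosedNPC

open scoped Pointwise commutatorElement
open ThompsonRed ThompsonRedAbs

universe u

variable {p : ℕ} {G : Type u} [Group G]

theorem hypD_quotU [Finite G] [hp : Fact p.Prime] (F : CharFunctor.{u})
    (hne : ∀ (R : Type u) [Group R] [Finite R], IsPGroup p R → Nontrivial R → F.W R ≠ ⊥)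
    (P : Sylow p G) (h : HypD p F G P) (hG : ¬ Cfsg.HasNormalPComplement p G)
    (hloc : ∀ T : Subgroup G, IsPGroup p T → Cfsg.pCore p G < T →
      (P : Subgroup G) ≤ Subgroup.normalizer (T : Set G) →
      Cfsg.HasNormalPComplement p ↥(Subgroup.normalizer (T : Set G))) :
    HypD p F (G ⧸ Cfsg.pCore p G) ((P : Subgroup G).map (QuotientGroup.mk' (Cfsg.pCore p G))) := by
  obtain ⟨D, hD, hN⟩ := h
  have hUp : IsPGroup p (Cfsg.pCore p G) := pCore_isPGroup p
  have hUP : Cfsg.pCore p G ≤ P := pCore_le_sylow P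
  have hsurj : Function.Surjective (QuotientGroup.mk' (Cfsg.pCore p G)) :=
    QuotientGroup.mk'_surjective _
  have hsc := stronglyClosed_quot (Cfsg.pCore p G) P hD
  refine ⟨D.map (QuotientGroup.mk' (Cfsg.pCore p G)), hsc, ?_⟩
  have hDp : IsPGroup p D := P.2.to_le hD.1
  have hDbp : IsPGroup p (D.map (QuotientGroup.mk' (Cfsg.pCore p G))) := hDp.map _
  by_cases hDb : D.map (QuotientGroup.mk' (Cfsg.pCore p G)) = ⊥
  · exfalso
    apply hG
    have hDU : D ≤ Cfsg.pCore p G := by
      rw [← QuotientGroup.ker_mk' (Cfsg.pCore p G), ← Subgroup.map_eq_bot_iff]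
      exact hDb
    have hDn : Subgroup.normalizer (D : Set G) = ⊤ := by
      rw [eq_top_iff]
      intro g _
      have key : ∀ g : G, ∀ y ∈ D, g * y * g⁻¹ ∈ D := by
        intro g y hy
        apply hD.2 y hy g
        apply hUP
        exact (inferInstance : (Cfsg.pCore p G).Normal).conj_mem y (hDU hy) g
      rw [Subgroup.mem_normalizer_iff]
      intro y
      constructor
      · exact key g y
      · intro hy
        have h1 := key g⁻¹ _ hy
        have e : g⁻¹ * (g * y * g⁻¹) * g⁻¹⁻¹ = y := by group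
        rwa [e] at h1
    have h2 : Subgroup.normalizer (F.of D : Set G) = ⊤ := by
      rw [eq_top_iff, ← hDn]
      exact F.normalizer_le D
    rw [h2] at hN
    exact hasNormalPComplement_of_mulEquiv Subgroup.topEquiv hN
  set Tb := F.of (D.map (QuotientGroup.mk' (Cfsg.pCore p G))) with hTb
  have hTb1 : Tb ≠ ⊥ := of_ne_bot F hne hDbp hDb
  have hTbD : Tb ≤ D.map (QuotientGroup.mk' (Cfsg.pCore p G)) := F.of_le _
  set T := Tb.comap (QuotientGroup.mk' (Cfsg.pCore p G)) with hT
  have hTp : IsPGroup p T := by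
    apply IsPGroup.comap_of_ker_isPGroup (hDbp.to_le hTbD)
    rw [QuotientGroup.ker_mk']
    exact hUp
  have hUT : Cfsg.pCore p G < T := by
    have h1 : Cfsg.pCore p G ≤ T := by
      intro x hx
      rw [hT, Subgroup.mem_comap]
      have : (QuotientGroup.mk' (Cfsg.pCore p G)) x = 1 := by
        rw [QuotientGroup.mk'_apply, QuotientGroup.eq_one_iff]; exact hx
      rw [this]; exact Tb.one_mem
    refine lt_of_le_of_ne h1 ?_
    intro h2
    apply hTb1
    rw [eq_bot_iff]
    intro y hy
    obtain ⟨x, rfl⟩ := hsurj y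
    have hxT : x ∈ T := hy
    rw [← h2] at hxT
    rw [Subgroup.mem_bot, QuotientGroup.mk'_apply, QuotientGroup.eq_one_iff]
    exact hxT
  have hnorm : Subgroup.normalizer (T : Set G) =
      (Subgroup.normalizer (Tb : Set (G ⧸ Cfsg.pCore p G))).comap
        (QuotientGroup.mk' (Cfsg.pCore p G)) :=
    (Subgroup.comap_normalizer_eq_of_surjective Tb hsurj).symm
  have hPN : (P : Subgroup G) ≤ Subgroup.normalizer (T : Set G) := by
    rw [hnorm]
    intro x hx
    rw [Subgroup.mem_comap]
    have h1 : (QuotientGroup.mk' (Cfsg.pCore p G)) x ∈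
        (P : Subgroup G).map (QuotientGroup.mk' (Cfsg.pCore p G)) := ⟨x, hx, rfl⟩
    exact F.normalizer_le _ (stronglyClosed_le_normalizer hsc h1)
  have h3 := hloc T hTp hUT hPN
  have h4 : Subgroup.normalizer (Tb : Set (G ⧸ Cfsg.pCore p G)) =
      (Subgroup.normalizer (T : Set G)).map (QuotientGroup.mk' (Cfsg.pCore p G)) := by
    rw [hnorm, Subgroup.map_comap_eq_self_of_surjective hsurj]
  rw [h4]
  exact hasNormalPComplement_map _ _ h3

/-- The general theorem: if `W(D)` is normal in every group of the restricted structure `Struct`,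
then `N_G(W(D))` having a normal `p`-complement forces `G` to have one. -/
theorem npc_of_stronglyClosed [hp : Fact p.Prime] (F : CharFunctor.{u})
    (hne : ∀ (R : Type u) [Group R] [Finite R], IsPGroup p R → Nontrivial R → F.W R ≠ ⊥)
    (final : ∀ (G : Type u) [Group G] [Finite G] (P : Sylow p G) (D : Subgroup G),
      Cfsg.IsStronglyClosed D (P : Subgroup G) → Struct p G P → (F.of D).Normal)
    (G : Type u) [Group G] [Finite G] (P : Sylow p G) (D : Subgroup G)
    (hD : Cfsg.IsStronglyClosed D (P : Subgroup G))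
    (hN : Cfsg.HasNormalPComplement p ↥(Subgroup.normalizer (F.of D : Set G))) :
    Cfsg.HasNormalPComplement p G := by
  refine reduction_abs (p := p) (fun G _ P => HypD p F G P) ?_ ?_ ?_ ?_ ?_ ?_ G P ⟨D, hD, hN⟩
  · intro G _ _ P g h
    exact hypD_conj F P g h
  · intro G _ _ K _ hK P h
    exact hypD_quot F K hK P h
  · intro G _ _ P H hPH h
    exact hypD_sub F hPH h
  · intro G _ _ P' Q hQp _ R hRP' h hT
    exact hypD_loc F hne P' Q hQp R hRP' h hT
  · intro G _ _ P h hG _ hloc
    exact hypD_quotU F hne P h hG hloc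
  · intro G _ _ P h hS
    obtain ⟨D, hD, hN⟩ := h
    haveI := final G P D hD hS
    have hnorm : Subgroup.normalizer (F.of D : Set G) = ⊤ := Subgroup.normalizer_eq_top _
    apply hS.not_nilp
    rw [hnorm] at hN
    exact hasNormalPComplement_of_mulEquiv Subgroup.topEquiv hN

end StrongClosedNPC

end Cfsg.Agent.Helper1
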