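import Mathlib
import Cfsg.Prelude.Def_Solvable
import Cfsg.Agent.Helper1.Cores

set_option autoImplicit false

namespace Cfsg.Agent.Helper1

universe u

variable {G : Type u} [Group G]

/-- If `V` is generated by the fixed points of the Sylow `p`-subgroups then
`O_p(G / C_G(V)) = 1`. -/
theorem pCore_quotient_centralizer_eq_bot [Finite G] {p : ℕ} [Fact p.Prime] (V : Subgroup G)
    [V.Normal]
    (hgen : V = ⨆ S : Sylow p G, V ⊓ Subgroup.centralizer ((S : Subgroup G) : Set G)) :
    Cfsg.pCore p (G ⧸ Subgroup.centralizer (V : Set G)) = ⊥ := by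
  set C := Subgroup.centralizer (V : Set G) with hC
  rw [eq_bot_iff]
  intro x hx
  obtain ⟨d, rfl⟩ := QuotientGroup.mk'_surjective C x
  rw [Subgroup.mem_bot, QuotientGroup.mk'_apply, QuotientGroup.eq_one_iff]
  have hVd : V ≤ Subgroup.centralizer {d} := by
    rw [hgen]
    apply iSup_le
    intro S
    have hle := pCore_le_sylow (S.mapSurjective (QuotientGroup.mk'_surjective C))
    have hd := hle hx
    rw [← SetLike.mem_coe, Sylow.coe_mapSurjective, SetLike.mem_coe] at hd
    obtain ⟨s, hs, hsd⟩ := Subgroup.mem_map.1 hd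
    have hc : s⁻¹ * d ∈ C := by
      rw [← QuotientGroup.eq]
      exact hsd
    intro v hv
    obtain ⟨hvV, hvS⟩ := Subgroup.mem_inf.1 hv
    rw [Subgroup.mem_centralizer_iff]
    intro g hg
    rw [Set.mem_singleton_iff] at hg
    subst hg
    have h1 : s * v = v * s := Subgroup.mem_centralizer_iff.1 hvS s hs
    have h2 : v * (s⁻¹ * g) = (s⁻¹ * g) * v := Subgroup.mem_centralizer_iff.1 hc v hvV
    calc g * v = s * ((s⁻¹ * g) * v) := by group
      _ = s * (v * (s⁻¹ * g)) := by rw [h2]
      _ = (s * v) * (s⁻¹ * g) := by group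
      _ = (v * s) * (s⁻¹ * g) := by rw [h1]
      _ = v * g := by group
  rw [hC, Subgroup.mem_centralizer_iff]
  intro v hv
  have := hVd hv
  rw [Subgroup.mem_centralizer_iff] at this
  exact (this d (Set.mem_singleton d)).symm

end Cfsg.Agent.Helper1
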