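import Mathlib
import Cfsg.Prelude.Def_PLocal
import Cfsg.Agent.Helper1.PCoreModCent

set_option autoImplicit false

namespace Cfsg.Agent.Helper1

open scoped Pointwise

universe u

variable {G : Type u} [Group G]

/-- the join of the `Ω₁(Z(S))`. -/
def omegaCenterSup (p : ℕ) (G : Type u) [Group G] : Subgroup G :=
  ⨆ S : Sylow p G, Cfsg.omegaOne p ((S : Subgroup G) ⊓
    Subgroup.centralizer ((S : Subgroup G) : Set G))

theorem omegaOne_center_le_centralizer (p : ℕ) (S : Subgroup G) :
    Cfsg.omegaOne p (S ⊓ Subgroup.centralizer (S : Set G)) ≤ Subgroup.centralizer (S : Set G) := by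
  unfold Cfsg.omegaOne
  rw [Subgroup.closure_le]
  rintro x ⟨hx, -⟩
  exact (Subgroup.mem_inf.1 hx).2

theorem omegaCenterSup_normal (p : ℕ) : (omegaCenterSup p G).Normal := by
  constructor
  intro x hx g
  have hle : (omegaCenterSup p G).map (MulAut.conj g).toMonoidHom ≤ omegaCenterSup p G := by
    unfold omegaCenterSup
    rw [Subgroup.map_iSup]
    apply iSup_le
    intro S
    refine le_trans ?_ (le_iSup _ (g • S))
    unfold Cfsg.omegaOne
    rw [MonoidHom.map_closure]
    apply Subgroup.closure_mono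
    rintro _ ⟨y, ⟨hy, hyp⟩, rfl⟩
    obtain ⟨hyS, hyC⟩ := Subgroup.mem_inf.1 hy
    refine ⟨?_, ?_⟩
    · have hS' : ((g • S : Sylow p G) : Subgroup G) = MulAut.conj g • (S : Subgroup G) := rfl
      rw [hS']
      refine Subgroup.mem_inf.2 ⟨?_, ?_⟩
      · rw [mem_conj_smul_iff]
        show g⁻¹ * (g * y * g⁻¹) * g ∈ (S : Subgroup G)
        have : g⁻¹ * (g * y * g⁻¹) * g = y := by group
        rw [this]; exact hyS
      · rw [Subgroup.mem_centralizer_iff]
        intro h hh
        have hs : g⁻¹ * h * g ∈ (S : Subgroup G) := mem_conj_smul_iff.1 hh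
        have h1 := Subgroup.mem_centralizer_iff.1 hyC _ hs
        show h * (g * y * g⁻¹) = (g * y * g⁻¹) * h
        calc h * (g * y * g⁻¹) = g * ((g⁻¹ * h * g) * y) * g⁻¹ := by group
          _ = g * (y * (g⁻¹ * h * g)) * g⁻¹ := by rw [h1]
          _ = (g * y * g⁻¹) * h := by group
    · show (g * y * g⁻¹) ^ p = 1
      rw [conj_pow, hyp, mul_one, mul_inv_cancel]
  exact hle (Subgroup.mem_map_of_mem _ hx)

theorem omegaCenterSup_elementaryAbelian [Finite G] {p : ℕ} [Fact p.Prime]
    (hc : Subgroup.centralizer (Cfsg.pCore p G : Set G) ≤ Cfsg.pCore p G) :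
    Cfsg.IsElementaryAbelian p (omegaCenterSup p G) := by
  set O := Cfsg.pCore p G with hO
  let E : Subgroup G :=
    { carrier := {a | (a ∈ O ∧ a ∈ Subgroup.centralizer (O : Set G)) ∧ a ^ p = 1}
      one_mem' := ⟨⟨O.one_mem, Subgroup.one_mem _⟩, one_pow p⟩
      mul_mem' := by
        rintro a b ⟨⟨haO, haC⟩, hap⟩ ⟨⟨hbO, hbC⟩, hbp⟩
        refine ⟨⟨O.mul_mem haO hbO, Subgroup.mul_mem _ haC hbC⟩, ?_⟩
        have hcm : Commute a b := (Subgroup.mem_centralizer_iff.1 hbC a haO)
        rw [hcm.mul_pow, hap, hbp, one_mul]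
      inv_mem' := by
        rintro a ⟨⟨haO, haC⟩, hap⟩
        exact ⟨⟨O.inv_mem haO, Subgroup.inv_mem _ haC⟩, by rw [inv_pow, hap, inv_one]⟩ }
  have hWE : omegaCenterSup p G ≤ E := by
    unfold omegaCenterSup
    apply iSup_le
    intro S
    unfold Cfsg.omegaOne
    rw [Subgroup.closure_le]
    rintro x ⟨hx, hxp⟩
    have hxC : x ∈ Subgroup.centralizer (O : Set G) :=
      Subgroup.centralizer_le (pCore_le_sylow S) (Subgroup.mem_inf.1 hx).2
    exact ⟨⟨hc hxC, hxC⟩, hxp⟩
  refine ⟨?_, fun a ha => (hWE ha).2⟩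
  apply Subgroup.le_centralizer_iff_isMulCommutative.1
  intro w hw
  have hwO : omegaCenterSup p G ≤ O := fun y hy => (hWE hy).1.1
  exact Subgroup.centralizer_le hwO (hWE hw).1.2

theorem omegaCenterSup_eq_iSup (p : ℕ) :
    omegaCenterSup p G = ⨆ S : Sylow p G, omegaCenterSup p G ⊓
      Subgroup.centralizer ((S : Subgroup G) : Set G) := by
  apply le_antisymm
  · conv_lhs => unfold omegaCenterSup
    apply iSup_le
    intro S
    refine le_trans (le_inf ?_ (omegaOne_center_le_centralizer p (S : Subgroup G)))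
      (le_iSup (fun S : Sylow p G => omegaCenterSup p G ⊓
        Subgroup.centralizer ((S : Subgroup G) : Set G)) S)
    unfold omegaCenterSup
    exact le_iSup (fun S : Sylow p G => Cfsg.omegaOne p ((S : Subgroup G) ⊓
      Subgroup.centralizer ((S : Subgroup G) : Set G))) S
  · exact iSup_le fun S => inf_le_left

theorem omegaCenterSup_facts [Finite G] {p : ℕ} [Fact p.Prime]
    (hc : Subgroup.centralizer (Cfsg.pCore p G : Set G) ≤ Cfsg.pCore p G) :
    (omegaCenterSup p G).Normal ∧ Cfsg.IsElementaryAbelian p (omegaCenterSup p G) ∧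
    ∀ D : Subgroup G, D.Normal → Subgroup.centralizer (omegaCenterSup p G : Set G) ≤ D →
      (∃ k : ℕ, (Subgroup.centralizer (omegaCenterSup p G : Set G)).relIndex D = p ^ k) →
      D = Subgroup.centralizer (omegaCenterSup p G : Set G) := by
  have hn := omegaCenterSup_normal (G := G) p
  refine ⟨hn, omegaCenterSup_elementaryAbelian hc, ?_⟩
  intro D hDn hCD ⟨k, hk⟩
  apply le_antisymm _ hCD
  have hbot := pCore_quotient_centralizer_eq_bot (p := p) (omegaCenterSup p G)
    (omegaCenterSup_eq_iSup p)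
  set C := Subgroup.centralizer (omegaCenterSup p G : Set G) with hC
  have hmapn : (D.map (QuotientGroup.mk' C)).Normal :=
    hDn.map _ (QuotientGroup.mk'_surjective C)
  have hmapp : IsPGroup p (D.map (QuotientGroup.mk' C)) := by
    apply IsPGroup.of_card (n := k)
    rw [← Subgroup.relIndex_ker, QuotientGroup.ker_mk', hk]
  have hle := le_pCore hmapn hmapp
  rw [hbot, le_bot_iff, Subgroup.map_eq_bot_iff, QuotientGroup.ker_mk'] at hle
  exact hle

end Cfsg.Agent.Helper1
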