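import Mathlib
import Cfsg.Prelude.Def_Transfer
import Cfsg.Agent.Helper1.Basic
import Cfsg.Agent.Helper1.ThompsonSub

set_option autoImplicit false

/-!
The Thompson subgroup of subgroups containing a maximal elementary abelian subgroup.
-/

namespace Cfsg.Agent.Helper1

open scoped Pointwise

universe u

variable {G : Type u} [Group G]

theorem maxEA_transfer [Finite G] {p : ℕ} (U A0 : Subgroup G)
    (hA0 : A0 ∈ Cfsg.maxElementaryAbelianSubgroups p G) (hA0U : A0 ≤ U) :
    (∀ A' : Subgroup U, A' ∈ Cfsg.maxElementaryAbelianSubgroups p U →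
      A'.map U.subtype ∈ Cfsg.maxElementaryAbelianSubgroups p G) ∧
    (∀ A : Subgroup G, A ∈ Cfsg.maxElementaryAbelianSubgroups p G → A ≤ U →
      A.subgroupOf U ∈ Cfsg.maxElementaryAbelianSubgroups p U) := by
  have part2 : ∀ A : Subgroup G, A ∈ Cfsg.maxElementaryAbelianSubgroups p G → A ≤ U →
      A.subgroupOf U ∈ Cfsg.maxElementaryAbelianSubgroups p U := by
    intro A hA hAU
    refine ⟨IsElementaryAbelian_comap_of_injective hA.1 U.subtype U.subtype_injective, ?_⟩
    intro B' hB'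
    rw [card_subgroupOf_of_le hAU, ← Subgroup.card_map_of_injective U.subtype_injective]
    exact hA.2 _ (IsElementaryAbelian_map hB' _)
  refine ⟨?_, part2⟩
  intro A' hA'
  refine ⟨IsElementaryAbelian_map hA'.1 _, ?_⟩
  intro B hB
  rw [Subgroup.card_map_of_injective U.subtype_injective]
  refine (hA0.2 B hB).trans ?_
  rw [← card_subgroupOf_of_le hA0U]
  exact hA'.2 _ (part2 A0 hA0 hA0U).1

theorem thompsonSubgroupOf_le [Finite G] {p : ℕ} (U A0 : Subgroup G)
    (hA0 : A0 ∈ Cfsg.maxElementaryAbelianSubgroups p G) (hA0U : A0 ≤ U) :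
    Cfsg.thompsonSubgroupOf p U ≤ Cfsg.thompsonSubgroup p G := by
  rw [Cfsg.thompsonSubgroupOf, Subgroup.map_le_iff_le_comap]
  apply sSup_le
  intro A' hA'
  rw [← Subgroup.map_le_iff_le_comap]
  exact le_thompsonSubgroup ((maxEA_transfer U A0 hA0 hA0U).1 A' hA')

theorem le_thompsonSubgroupOf [Finite G] {p : ℕ} (U A : Subgroup G)
    (hA : A ∈ Cfsg.maxElementaryAbelianSubgroups p G) (hAU : A ≤ U) :
    A ≤ Cfsg.thompsonSubgroupOf p U := by
  rw [Cfsg.thompsonSubgroupOf, ← Subgroup.map_subgroupOf_eq_of_le hAU]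
  exact Subgroup.map_mono (le_thompsonSubgroup ((maxEA_transfer U A hA hAU).2 A hA hAU))

theorem thompsonSubgroupOf_eq_of_le [Finite G] {p : ℕ} (U : Subgroup G)
    (hU : Cfsg.thompsonSubgroup p G ≤ U) :
    Cfsg.thompsonSubgroupOf p U = Cfsg.thompsonSubgroup p G := by
  obtain ⟨A0, hA0⟩ := maxElementaryAbelianSubgroups_nonempty (G := G) p
  apply le_antisymm (thompsonSubgroupOf_le U A0 hA0 ((le_thompsonSubgroup hA0).trans hU))
  apply sSup_le
  intro A hA
  exact le_thompsonSubgroupOf U A hA ((le_thompsonSubgroup hA).trans hU)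

theorem thompsonSubgroup_eq_iSup_sylow [Finite G] {p : ℕ} [Fact p.Prime] :
    Cfsg.thompsonSubgroup p G = ⨆ S : Sylow p G, Cfsg.thompsonSubgroupOf p (S : Subgroup G) := by
  apply le_antisymm
  · apply sSup_le
    intro A hA
    obtain ⟨S, hS⟩ := (isElementaryAbelian_isPGroup hA.1).exists_le_sylow
    exact (le_thompsonSubgroupOf S A hA hS).trans (le_iSup (fun S : Sylow p G =>
      Cfsg.thompsonSubgroupOf p (S : Subgroup G)) S)
  · apply iSup_le
    intro S
    obtain ⟨A1, hA1⟩ := maxElementaryAbelianSubgroups_nonempty (G := G) p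
    obtain ⟨Q, hQ⟩ := (isElementaryAbelian_isPGroup hA1.1).exists_le_sylow
    obtain ⟨g, hg⟩ := MulAction.exists_smul_eq G Q S
    have hA0 : MulAut.conj g • A1 ∈ Cfsg.maxElementaryAbelianSubgroups p G := by
      refine ⟨?_, ?_⟩
      · rw [conj_smul_eq_map]; exact IsElementaryAbelian_map hA1.1 _
      · intro B hB
        rw [card_conj_smul]
        exact hA1.2 B hB
    have hA0S : MulAut.conj g • A1 ≤ S := by
      rw [← hg, Sylow.coe_subgroup_smul]
      exact Subgroup.pointwise_smul_le_pointwise_smul_iff.2 hQ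
    exact thompsonSubgroupOf_le S _ hA0 hA0S

end Cfsg.Agent.Helper1
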