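import Mathlib
import Cfsg.Prelude.Def_PLocal
import Cfsg.Agent.Helper1.GlaubermanNPC
import Cfsg.Agent.Helper1.OmegaCenterSup
import Cfsg.Agent.Helper1.ThompsonSub2
import Cfsg.Agent.Helper1.AbelianAct
import Cfsg.Agent.Lead.Replacement3

set_option autoImplicit false

/-!
Thompson's normal `p`-complement theorem: `N_G(J(P))` and `C_G(Z(P))`.
-/

namespace Cfsg.Agent.Helper1

namespace ThompsonRed

open scoped commutatorElement

universe u

/-- The functor `R ↦ J(R)` (elementary abelian version). -/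
def jFunctor (p : ℕ) : CharFunctor.{u} where
  W := fun R _ => Cfsg.thompsonSubgroup p R
  map_equiv := fun e => thompsonSubgroup_map_equiv p e

/-- The functor `R ↦ Z(R)`. -/
def centerFunctor : CharFunctor.{u} where
  W := fun R _ => Subgroup.center R
  map_equiv := fun e => center_map_equiv e

variable {G : Type u} [Group G]

theorem jFunctor_of (p : ℕ) (P : Subgroup G) :
    (jFunctor p).of P = Cfsg.thompsonSubgroupOf p P := rfl

theorem centerFunctor_of (P : Subgroup G) :
    centerFunctor.of P = P ⊓ Subgroup.centralizer (P : Set G) := by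
  ext x
  constructor
  · rintro ⟨y, hy, rfl⟩
    have hy' : y ∈ Subgroup.center ↥P := hy
    refine Subgroup.mem_inf.2 ⟨y.2, ?_⟩
    rw [Subgroup.mem_centralizer_iff]
    intro g hg
    have := Subgroup.mem_center_iff.1 hy' ⟨g, hg⟩
    exact congrArg Subtype.val this
  · intro hx
    obtain ⟨hxP, hxC⟩ := Subgroup.mem_inf.1 hx
    refine ⟨⟨x, hxP⟩, ?_, rfl⟩
    show (⟨x, hxP⟩ : P) ∈ Subgroup.center ↥P
    rw [Subgroup.mem_center_iff]
    intro g
    apply Subtype.ext
    exact Subgroup.mem_centralizer_iff.1 hxC g g.2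

theorem jFunctor_ne_bot {p : ℕ} [hp : Fact p.Prime] (R : Type u) [Group R] [Finite R]
    (hR : IsPGroup p R) (hnt : Nontrivial R) : (jFunctor p).W R ≠ ⊥ := by
  apply thompsonSubgroup_ne_bot
  obtain ⟨k, hk⟩ := IsPGroup.iff_card.1 hR
  have hk0 : k ≠ 0 := by
    rintro rfl
    rw [pow_zero] at hk
    have := (Nat.card_eq_one_iff_unique.1 hk).1
    exact not_subsingleton R this
  rw [hk]
  exact dvd_pow_self p hk0

theorem centerFunctor_ne_bot {p : ℕ} [hp : Fact p.Prime] (R : Type u) [Group R] [Finite R]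
    (hR : IsPGroup p R) (hnt : Nontrivial R) : centerFunctor.W R ≠ ⊥ := by
  have := hR.center_nontrivial
  exact (Subgroup.nontrivial_iff_ne_bot _).1 this

/-- Under `p`-stability, elementary abelian subgroups of largest order centralize `V`. -/
theorem maxEA_le_centralizer [Finite G] {p : ℕ} [hp : Fact p.Prime] (V : Subgroup G) [hVn : V.Normal]
    (hV : Cfsg.IsElementaryAbelian p V) (hst : Cfsg.IsPStableOn p V)
    (hO : Cfsg.pCore p (G ⧸ Subgroup.centralizer (V : Set G)) = ⊥) (A : Subgroup G)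
    (hA : A ∈ Cfsg.maxElementaryAbelianSubgroups p G) :
    A ≤ Subgroup.centralizer (V : Set G) := by
  have key : ∀ B : Subgroup G, ⁅⁅V, B⁆, B⁆ = ⊥ → B ≤ Subgroup.centralizer (V : Set G) := by
    intro B hB a ha
    have hq : ⁅⁅V, Subgroup.zpowers a⁆, Subgroup.zpowers a⁆ = ⊥ := by
      rw [eq_bot_iff, ← hB]
      have hz : Subgroup.zpowers a ≤ B := Subgroup.zpowers_le.2 ha
      exact Subgroup.commutator_mono (Subgroup.commutator_mono le_rfl hz) hz
    have h1 := hst a hq
    rw [hO, Subgroup.mem_bot, QuotientGroup.eq_one_iff] at h1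
    exact h1
  by_contra hcon
  have hne : ⁅V, A⁆ ≠ ⊥ := by
    intro h
    apply hcon
    rw [Subgroup.commutator_comm, Subgroup.commutator_eq_bot_iff_le_centralizer] at h
    exact h
  obtain ⟨_, hquad, hnt⟩ := Cfsg.Agent.Lead.Repl.thompson_replacement V hV A hA
  have h2 := key _ hquad
  apply hnt hne
  rw [Subgroup.commutator_comm, Subgroup.commutator_eq_bot_iff_le_centralizer]
  exact h2

/-- The Thompson subgroup of a subgroup `T` of `P` containing `J(P)` is `J(P)`. -/
theorem thompsonSubgroupOf_eq_of_le_of_le [Finite G] {p : ℕ} {T P : Subgroup G} (hTP : T ≤ P)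
    (hJT : Cfsg.thompsonSubgroupOf p P ≤ T) :
    Cfsg.thompsonSubgroupOf p T = Cfsg.thompsonSubgroupOf p P := by
  have h1 : Cfsg.thompsonSubgroup p ↥P ≤ T.subgroupOf P := by
    intro x hx
    rw [Subgroup.mem_subgroupOf]
    exact hJT ⟨x, hx, rfl⟩
  have h2 := thompsonSubgroupOf_eq_of_le (T.subgroupOf P) h1
  have h3 := (jFunctor p).of_subgroupOf hTP
  rw [jFunctor_of, jFunctor_of] at h3
  rw [← h3, h2]
  rfl

/-- A complement `Q` to a normal Hall subgroup `U` of `K`, inside `G`. -/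
theorem exists_complement_in [Finite G] (U K : Subgroup G) [hUn : U.Normal] (hUK : U ≤ K)
    (hcop : (Nat.card U).Coprime (U.relIndex K)) :
    ∃ Q : Subgroup G, Q ≤ K ∧ Nat.card Q = U.relIndex K ∧
      ∀ k ∈ K, ∃ u ∈ U, ∃ q ∈ Q, k = u * q := by
  haveI : (U.subgroupOf K).Normal := Subgroup.Normal.subgroupOf hUn K
  have hc : (Nat.card (U.subgroupOf K)).Coprime (U.subgroupOf K).index := by
    rw [card_subgroupOf_of_le hUK]
    exact hcop
  obtain ⟨H, hH⟩ := Subgroup.exists_right_complement'_of_coprime hc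
  refine ⟨H.map K.subtype, Subgroup.map_subtype_le _, ?_, ?_⟩
  · rw [Subgroup.card_map_of_injective K.subtype_injective]
    exact hH.symm.index_eq_card.symm
  · intro k hk
    obtain ⟨⟨n, h⟩, e, -⟩ := Subgroup.isComplement_iff_existsUnique.1 hH ⟨k, hk⟩
    refine ⟨(n : K), n.2, (h : K), ⟨h, h.2, rfl⟩, ?_⟩
    have := congrArg Subtype.val e
    exact this.symm

/-- For `Z(U)` acted on by `K` with `K / U` a `p'`-group: `[Z(U), K] ∩ Z(G) = 1`. -/
theorem commutator_inf_center_eq_one [Finite G] {p : ℕ} [hp : Fact p.Prime] (U K : Subgroup G)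
    [hUn : U.Normal] (hU : IsPGroup p U) (hUK : U ≤ K) (hcop : (U.relIndex K).Coprime p) (x : G)
    (hx : x ∈ ⁅U ⊓ Subgroup.centralizer (U : Set G), K⁆) (hxZ : x ∈ Subgroup.center G) :
    x = 1 := by
  obtain ⟨A, hA⟩ : ∃ A, A = U ⊓ Subgroup.centralizer (U : Set G) := ⟨_, rfl⟩
  rw [← hA] at hx
  haveI hAn : A.Normal := by rw [hA]; infer_instance
  have hAU : A ≤ U := hA ▸ inf_le_left
  have hAC : A ≤ Subgroup.centralizer (U : Set G) := hA ▸ inf_le_right
  haveI hAc : IsMulCommutative A := by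
    refine ⟨⟨fun x y => Subtype.ext ?_⟩⟩
    have := Subgroup.mem_centralizer_iff.1 (hAC x.2) y (hAU y.2)
    exact this.symm
  obtain ⟨a, ha⟩ := IsPGroup.iff_card.1 hU
  have hcop' : (Nat.card U).Coprime (U.relIndex K) := by
    rw [ha]
    exact (Nat.Coprime.pow_left a hcop.symm)
  obtain ⟨Q, hQK, hQcard, hdec⟩ := exists_complement_in U K hUK hcop'
  have hle : ⁅A, K⁆ ≤ ⁅A, Q⁆ := by
    rw [Subgroup.commutator_le]
    intro a ha k hk
    obtain ⟨u, hu, q, hq, rfl⟩ := hdec k hk
    have hcomm : a * u = u * a := (Subgroup.mem_centralizer_iff.1 (hAC ha) u hu).symm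
    have hcA : ⁅a, q⁆ ∈ A := by
      rw [commutatorElement_def]
      have h1 : q * a⁻¹ * q⁻¹ ∈ A := hAn.conj_mem _ (A.inv_mem ha) q
      have e : a * q * a⁻¹ * q⁻¹ = a * (q * a⁻¹ * q⁻¹) := by group
      rw [e]
      exact A.mul_mem ha h1
    have hcu : u * ⁅a, q⁆ = ⁅a, q⁆ * u := Subgroup.mem_centralizer_iff.1 (hAC hcA) u hu
    have e1 : ⁅a, u * q⁆ = u * ⁅a, q⁆ * u⁻¹ := by
      rw [commutatorElement_def, commutatorElement_def]
      calc a * (u * q) * a⁻¹ * (u * q)⁻¹ = (a * u) * q * a⁻¹ * q⁻¹ * u⁻¹ := by group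
        _ = (u * a) * q * a⁻¹ * q⁻¹ * u⁻¹ := by rw [hcomm]
        _ = u * (a * q * a⁻¹ * q⁻¹) * u⁻¹ := by group
    rw [e1, hcu, mul_inv_cancel_right]
    exact Subgroup.commutator_mem_commutator ha hq
  have hQA : Q ≤ Subgroup.normalizer (A : Set G) := by
    rw [Subgroup.normalizer_eq_top]; exact le_top
  obtain ⟨b, hb⟩ := IsPGroup.iff_card.1 (hU.to_le hAU)
  have hcopQA : (Nat.card Q).Coprime (Nat.card A) := by
    rw [hQcard, hb]
    exact Nat.Coprime.pow_right b hcop
  have h1 := centralizer_inf_commutator_eq_bot Q A hQA hcopQA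
  have hxA : x ∈ A := (Subgroup.commutator_le_left A K) hx
  have hxQ : x ∈ Subgroup.centralizer (Q : Set G) := Subgroup.center_le_centralizer _ hxZ
  have hx2 : x ∈ (A ⊓ Subgroup.centralizer (Q : Set G)) ⊓ ⁅A, Q⁆ := ⟨⟨hxA, hxQ⟩, hle hx⟩
  rw [h1, Subgroup.mem_bot] at hx2
  exact hx2

/-- The final contradiction in Thompson's theorem. -/
theorem thompson_final {p : ℕ} [hp : Fact p.Prime] (hp2 : p ≠ 2) (G : Type u) [Group G] [Finite G]
    (P : Sylow p G) (hyp : Hyp p (jFunctor p) centerFunctor G P) (hS : Struct p G P) : False := by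
  have hst : ∀ (V : Subgroup G) [V.Normal], IsPGroup p V → Cfsg.IsPStableOn p V :=
    fun V _ hV => hS.isPStableOn hp2 V hV
  -- overgroups of `P` with a normal `p`-complement equal `P`
  have hover : ∀ H : Subgroup G, (P : Subgroup G) ≤ H → Cfsg.HasNormalPComplement p ↥H →
      H = P := by
    intro H hPH hH
    rcases hS.maximal H hPH with h | h
    · exact h
    · exfalso
      apply hS.not_nilp
      rw [h] at hH
      exact hasNormalPComplement_of_mulEquiv Subgroup.topEquiv hH
  have hNJ : Subgroup.normalizer (Cfsg.thompsonSubgroupOf p (P : Subgroup G) : Set G) = P := by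
    apply hover
    · have := (jFunctor p).normalizer_le (P : Subgroup G)
      rw [jFunctor_of] at this
      exact Subgroup.le_normalizer.trans this
    · have := hyp.1
      rwa [jFunctor_of] at this
  have hCZ : Subgroup.centralizer (((P : Subgroup G) ⊓
      Subgroup.centralizer ((P : Subgroup G) : Set G) : Subgroup G) : Set G) = P := by
    apply hover
    · intro x hx
      rw [Subgroup.mem_centralizer_iff]
      intro z hz
      exact (Subgroup.mem_centralizer_iff.1 hz.2 x hx).symm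
    · have := hyp.2
      rwa [centerFunctor_of] at this
  -- the subgroup `V`
  obtain ⟨hVn, hVea, -⟩ := omegaCenterSup_facts (G := G) (p := p) hS.cent_le
  haveI := hVn
  have hO := pCore_quotient_centralizer_eq_bot (p := p) (omegaCenterSup p G)
    (omegaCenterSup_eq_iSup p)
  have hVp : IsPGroup p (omegaCenterSup p G) := isElementaryAbelian_isPGroup hVea
  have hstV := hst (omegaCenterSup p G) hVp
  obtain ⟨C, hC⟩ : ∃ C, C = Subgroup.centralizer (omegaCenterSup p G : Set G) := ⟨_, rfl⟩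
  haveI hCn : C.Normal := by rw [hC]; infer_instance
  have hJC : Cfsg.thompsonSubgroupOf p (P : Subgroup G) ≤ C := by
    have h1 : Cfsg.thompsonSubgroupOf p (P : Subgroup G) ≤ Cfsg.thompsonSubgroup p G := by
      rw [thompsonSubgroup_eq_iSup_sylow (G := G) (p := p)]
      exact le_iSup (fun S : Sylow p G => Cfsg.thompsonSubgroupOf p (S : Subgroup G)) P
    refine h1.trans ?_
    apply sSup_le
    intro A hA
    rw [hC]
    exact maxEA_le_centralizer _ hVea hstV hO A hA
  -- Frattini: `G = P C`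
  have hfrat : ∀ g : G, ∃ x ∈ (P : Subgroup G), ∃ c ∈ C, g = x * c := by
    intro g
    obtain ⟨n, hn, c, hc, rfl⟩ := Cfsg.Agent.Lead.Fusion.frattini_decomp p P C g
    refine ⟨n, ?_, c, hc, rfl⟩
    have h1 := (jFunctor p).normalizer_le ((P : Subgroup G) ⊓ C) hn
    rw [jFunctor_of, thompsonSubgroupOf_eq_of_le_of_le inf_le_left
      (le_inf (Subgroup.map_subtype_le _) hJC), hNJ] at h1
    exact h1
  -- `Ω₁(Z(P))` is central
  have hZ0 : Cfsg.omegaOne p ((P : Subgroup G) ⊓ Subgroup.centralizer ((P : Subgroup G) : Set G)) ≤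
      Subgroup.center G := by
    intro z hz
    have hzV : z ∈ omegaCenterSup p G :=
      (le_iSup (fun S : Sylow p G => Cfsg.omegaOne p ((S : Subgroup G) ⊓
        Subgroup.centralizer ((S : Subgroup G) : Set G))) P) hz
    have hzP : z ∈ Subgroup.centralizer ((P : Subgroup G) : Set G) := (omegaOne_le p _ hz).2
    rw [Subgroup.mem_center_iff]
    intro g
    obtain ⟨x, hx, c, hc, rfl⟩ := hfrat g
    have h1 : x * z = z * x := Subgroup.mem_centralizer_iff.1 hzP x hx
    have h2 : z * c = c * z := by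
      rw [hC] at hc
      exact Subgroup.mem_centralizer_iff.1 hc z hzV
    rw [mul_assoc, ← h2, ← mul_assoc, h1, mul_assoc]
  -- the structure
  obtain ⟨K, hKn, hUK, hKK, hcop, hidx⟩ := hS.exK
  haveI := hKn
  have hUp : IsPGroup p (Cfsg.pCore p G) := pCore_isPGroup p
  have hUP : Cfsg.pCore p G ≤ P := pCore_le_sylow P
  obtain ⟨A, hA⟩ : ∃ A, A = Cfsg.pCore p G ⊓ Subgroup.centralizer (Cfsg.pCore p G : Set G) :=
    ⟨_, rfl⟩
  haveI hAn : A.Normal := by rw [hA]; infer_instance
  have hAU : A ≤ Cfsg.pCore p G := hA ▸ inf_le_left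
  have hBbot : ⁅A, K⁆ = ⊥ := by
    by_contra hB1
    have hBp : IsPGroup p (⁅A, K⁆ : Subgroup G) :=
      hUp.to_le ((Subgroup.commutator_le_left A K).trans hAU)
    have h1 := PStableStruct.inf_centralizer_ne_bot (P : Subgroup G) ⁅A, K⁆ P.2 hBp hB1
    have hp1 : IsPGroup p (⁅A, K⁆ ⊓ Subgroup.centralizer ((P : Subgroup G) : Set G) : Subgroup G) :=
      hBp.to_le inf_le_left
    have hdvd : p ∣ Nat.card (⁅A, K⁆ ⊓ Subgroup.centralizer ((P : Subgroup G) : Set G) :
        Subgroup G) := by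
      obtain ⟨k, hk⟩ := IsPGroup.iff_card.1 hp1
      have hk0 : k ≠ 0 := by
        rintro rfl
        rw [pow_zero] at hk
        exact h1 (Subgroup.card_eq_one.1 hk)
      rw [hk]
      exact dvd_pow_self p hk0
    obtain ⟨z, hz⟩ := exists_prime_orderOf_dvd_card' p hdvd
    have hzp : (z : G) ^ p = 1 := by
      have : z ^ p = 1 := by
        have h := pow_orderOf_eq_one z
        rwa [hz] at h
      exact_mod_cast congrArg Subtype.val this
    have hzB : (z : G) ∈ ⁅A, K⁆ := z.2.1
    have hzCP : (z : G) ∈ Subgroup.centralizer ((P : Subgroup G) : Set G) := z.2.2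
    have hzP : (z : G) ∈ (P : Subgroup G) :=
      hUP (hAU ((Subgroup.commutator_le_left A K) hzB))
    have hzZ0 : (z : G) ∈ Cfsg.omegaOne p ((P : Subgroup G) ⊓
        Subgroup.centralizer ((P : Subgroup G) : Set G)) :=
      Subgroup.subset_closure ⟨⟨hzP, hzCP⟩, hzp⟩
    have hz1 : (z : G) = 1 := by
      refine commutator_inf_center_eq_one (Cfsg.pCore p G) K hUp hUK hcop (z : G) ?_ (hZ0 hzZ0)
      rw [← hA]
      exact hzB
    have hz1' : z = 1 := Subtype.ext hz1
    rw [hz1', orderOf_one] at hz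
    exact hp.out.one_lt.ne hz
  -- `K ≤ C_G(Z(P)) = P`
  have hKP : K ≤ (P : Subgroup G) := by
    rw [← hCZ]
    intro k hk
    rw [Subgroup.mem_centralizer_iff]
    intro z hz
    have hzA : z ∈ A := by
      rw [hA]
      have hzCU : z ∈ Subgroup.centralizer (Cfsg.pCore p G : Set G) :=
        Subgroup.centralizer_le hUP hz.2
      exact ⟨hS.cent_le hzCU, hzCU⟩
    have h1 : ⁅z, k⁆ ∈ ⁅A, K⁆ := Subgroup.commutator_mem_commutator hzA hk
    rw [hBbot, Subgroup.mem_bot, commutatorElement_eq_one_iff_mul_comm] at h1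
    exact h1
  -- hence `G` is a `p`-group
  obtain ⟨k, hk⟩ := hidx
  have h1 : (P : Subgroup G).index ∣ p ^ k := hk ▸ Subgroup.index_dvd_of_le hKP
  have h2 : ¬ p ∣ (P : Subgroup G).index := P.not_dvd_index
  obtain ⟨j, _, hj⟩ := (Nat.dvd_prime_pow hp.out).1 h1
  have hj0 : j = 0 := by
    by_contra hj0
    apply h2
    rw [hj]
    exact dvd_pow_self p hj0
  rw [hj0, pow_zero, Subgroup.index_eq_one] at hj
  apply hS.not_nilp
  apply hasNormalPComplement_of_isPGroup
  intro g
  obtain ⟨m, hm⟩ := P.2 ⟨g, hj ▸ Subgroup.mem_top g⟩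
  exact ⟨m, by simpa using congrArg Subtype.val hm⟩

/-- Thompson's normal `p`-complement theorem. -/
theorem thompson_npc {p : ℕ} [hp : Fact p.Prime] (hp2 : p ≠ 2) (G : Type u) [Group G] [Finite G]
    (P : Sylow p G)
    (h1 : Cfsg.HasNormalPComplement p
      (Subgroup.normalizer (Cfsg.thompsonSubgroupOf p (P : Subgroup G) : Set G)))
    (h2 : Cfsg.HasNormalPComplement p (Subgroup.centralizer (((P : Subgroup G) ⊓
      Subgroup.centralizer (P : Set G)) : Set G))) :
    Cfsg.HasNormalPComplement p G := by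
  refine reduction (F₁ := jFunctor p) (F₂ := centerFunctor) (fun R _ _ => jFunctor_ne_bot R)
    (fun R _ _ => centerFunctor_ne_bot R) (fun G _ _ P => thompson_final hp2 G P) G P ?_
  rw [Hyp, jFunctor_of, centerFunctor_of]
  exact ⟨h1, h2⟩

end ThompsonRed

end Cfsg.Agent.Helper1
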