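import Mathlib
import Cfsg.Agent.Helper1.StrongClosedNPCd
import Cfsg.Agent.Helper1.GlaubermanNPC
import Cfsg.Agent.Helper1.ThompsonNPC
import Cfsg.Agent.Helper5.ZJClosed

set_option autoImplicit false

/-!
The Glauberman–Thompson normal `p`-complement criterion for strongly closed subgroups.
-/

namespace Cfsg.Agent.Helper1

namespace StrongClosedNPC

open scoped Pointwise commutatorElement
open ThompsonRed ThompsonRedAbs

universe u

theorem omegaOne_map_of_injective {S S' : Type*} [Group S] [Group S'] (p : ℕ) (H : Subgroup S)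
    (f : S →* S') (hf : Function.Injective f) :
    (Cfsg.omegaOne p H).map f = Cfsg.omegaOne p (H.map f) := by
  unfold Cfsg.omegaOne
  rw [MonoidHom.map_closure]
  congr 1
  ext y
  constructor
  · rintro ⟨x, ⟨hxH, hxp⟩, rfl⟩
    exact ⟨⟨x, hxH, rfl⟩, by rw [← map_pow, hxp, map_one]⟩
  · rintro ⟨⟨x, hxH, rfl⟩, hyp⟩
    refine ⟨x, ⟨hxH, hf ?_⟩, rfl⟩
    rw [map_pow, hyp, map_one]

/-- The functor `R ↦ Ω₁(Z(J_e(R)))`. -/
def ozjFunctor (p : ℕ) : CharFunctor.{u} where
  W := fun R _ => Cfsg.omegaCenterThompson p R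
  map_equiv := by
    intro R R' _ _ e
    unfold Cfsg.omegaCenterThompson
    rw [omegaOne_map_of_injective p _ e.toMonoidHom e.injective,
      Subgroup.map_inf _ _ _ e.injective, centralizer_map_equiv', thompsonSubgroup_map_equiv]

theorem ozjFunctor_of {G : Type u} [Group G] (p : ℕ) (D : Subgroup G) :
    (ozjFunctor p).of D = Cfsg.omegaOne p (Cfsg.centerThompsonOf p D) := by
  show (Cfsg.omegaCenterThompson p ↥D).map D.subtype = _
  unfold Cfsg.omegaCenterThompson Cfsg.centerThompsonOf Cfsg.thompsonSubgroupOf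
  rw [omegaOne_map_of_injective p _ D.subtype (Subgroup.subtype_injective D),
    Cfsg.Agent.Lead.ZJ.map_inf_centralizer]

theorem ozjFunctor_ne_bot {p : ℕ} [hp : Fact p.Prime] (R : Type u) [Group R] [Finite R]
    (hR : IsPGroup p R) (hnt : Nontrivial R) : (ozjFunctor p).W R ≠ ⊥ := by
  show Cfsg.omegaOne p (Cfsg.thompsonSubgroup p R ⊓
    Subgroup.centralizer (Cfsg.thompsonSubgroup p R : Set R)) ≠ ⊥
  have hJ1 : Cfsg.thompsonSubgroup p R ≠ ⊥ := jFunctor_ne_bot R hR hnt
  haveI hchar : (Cfsg.thompsonSubgroup p R).Characteristic := by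
    rw [Subgroup.characteristic_iff_map_eq]
    intro ϕ
    exact thompsonSubgroup_map_equiv p ϕ
  have hZ1 := PStableStruct.inf_centralizer_ne_bot (p := p) (Cfsg.thompsonSubgroup p R)
    (Cfsg.thompsonSubgroup p R) (hR.to_subgroup _) (hR.to_subgroup _) hJ1
  set Z := Cfsg.thompsonSubgroup p R ⊓
    Subgroup.centralizer (Cfsg.thompsonSubgroup p R : Set R) with hZ
  have hZp : IsPGroup p Z := hR.to_subgroup _
  have hdvd : p ∣ Nat.card Z := by
    obtain ⟨k, hk⟩ := IsPGroup.iff_card.1 hZp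
    have hk0 : k ≠ 0 := by
      rintro rfl
      rw [pow_zero] at hk
      exact hZ1 (Subgroup.card_eq_one.1 hk)
    rw [hk]
    exact dvd_pow_self p hk0
  obtain ⟨x, hx⟩ := exists_prime_orderOf_dvd_card' p hdvd
  intro hbot
  have hxmem : (x : R) ∈ Cfsg.omegaOne p Z := by
    apply Subgroup.subset_closure
    refine ⟨x.2, ?_⟩
    have h1 : x ^ p = 1 := by rw [← hx]; exact pow_orderOf_eq_one x
    have := congrArg Subtype.val h1
    simpa using this
  rw [hbot, Subgroup.mem_bot] at hxmem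
  have hx1 : x = 1 := Subtype.ext hxmem
  rw [hx1, orderOf_one] at hx
  exact hp.out.one_lt.ne hx

/-- The Glauberman–Thompson normal `p`-complement criterion for a strongly closed subgroup,
`Z(J(D))`-version. -/
theorem glauberman_thompson_closed {p : ℕ} [hp : Fact p.Prime] (hp2 : p ≠ 2) (G : Type u) [Group G]
    [Finite G] (P : Sylow p G) (D : Subgroup G) (hD : Cfsg.IsStronglyClosed D (P : Subgroup G))
    (hN : Cfsg.HasNormalPComplement p
      ↥(Subgroup.normalizer (Cfsg.centerThompsonAOf D : Set G))) :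
    Cfsg.HasNormalPComplement p G := by
  refine npc_of_stronglyClosed zjFunctor (fun R _ _ => zjFunctor_ne_bot R) ?_ G P D hD ?_
  · intro G _ _ P D hD hS
    have hst : ∀ (V : Subgroup G) [V.Normal], IsPGroup p V → Cfsg.IsPStableOn p V :=
      fun V _ hV => hS.isPStableOn hp2 V hV
    rw [zjFunctor_of, ← Cfsg.Agent.Lead.ZJ.inter_goodAb]
    exact Cfsg.Agent.Helper5.ZJC.inter_normal' (Cfsg.Agent.Lead.ZJ.goodAb G) hp2 P D hD
      hS.cent_le hst
  · rw [zjFunctor_of]; exact hN

/-- The Glauberman–Thompson normal `p`-complement criterion for a strongly closed subgroup,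
`Ω₁(Z(J_e(D)))`-version. -/
theorem glauberman_thompson_closed_omega {p : ℕ} [hp : Fact p.Prime] (hp2 : p ≠ 2) (G : Type u)
    [Group G] [Finite G] (P : Sylow p G) (D : Subgroup G)
    (hD : Cfsg.IsStronglyClosed D (P : Subgroup G))
    (hN : Cfsg.HasNormalPComplement p
      ↥(Subgroup.normalizer (Cfsg.omegaOne p (Cfsg.centerThompsonOf p D) : Set G))) :
    Cfsg.HasNormalPComplement p G := by
  have hodd : Odd p := hp.out.eq_two_or_odd'.resolve_left hp2
  refine npc_of_stronglyClosed (ozjFunctor p) (fun R _ _ => ozjFunctor_ne_bot R) ?_ G P D hD ?_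
  · intro G _ _ P D hD hS
    have hst : ∀ (V : Subgroup G) [V.Normal], IsPGroup p V → Cfsg.IsPStableOn p V :=
      fun V _ hV => hS.isPStableOn hp2 V hV
    have h1 := Cfsg.Agent.Helper5.ZJC.inter_normal' (Cfsg.Agent.Lead.ZJ.goodEA p hodd G) hp2 P D hD
      hS.cent_le hst
    rw [Cfsg.Agent.Lead.ZJ.inter_goodEA p hodd D] at h1
    exact h1
  · rw [ozjFunctor_of]; exact hN

end StrongClosedNPC

end Cfsg.Agent.Helper1
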