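import Mathlib
import Cfsg.Agent.Helper1.QuadStableB
import Cfsg.Agent.Helper1.Cores
import Cfsg.Prelude.Def_LocalEven

set_option autoImplicit false

/-!
`p`-stability in the normalizer form is invariant under isomorphism.
-/

namespace Cfsg.Agent.Helper1
namespace NStable

open scoped commutatorElement

theorem isNormalizerPStable_of_mulEquiv {p : ℕ} [hp : Fact p.Prime] {G H : Type*} [Group G]
    [Group H] (e : G ≃* H) (h : Cfsg.IsNormalizerPStable p G) : Cfsg.IsNormalizerPStable p H := by
  intro P hP g hg hq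
  obtain ⟨f, hf⟩ : ∃ f : H →* G, f = e.symm.toMonoidHom := ⟨_, rfl⟩
  have hfe : ∀ x : G, f (e x) = x := by intro x; rw [hf]; exact e.symm_apply_apply x
  have hef : ∀ y : H, e (f y) = y := by intro y; rw [hf]; exact e.apply_symm_apply y
  obtain ⟨P', hP'⟩ : ∃ P' : Subgroup G, P' = P.map f := ⟨_, rfl⟩
  have hP'p : IsPGroup p P' := hP' ▸ hP.map f
  have hmemP' : ∀ x : G, x ∈ P' ↔ e x ∈ P := by
    intro x
    rw [hP']
    constructor
    · rintro ⟨y, hy, rfl⟩
      rwa [hef]
    · intro hx
      exact ⟨e x, hx, hfe x⟩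
  have hnorm : ∀ x : G, x ∈ Subgroup.normalizer (P' : Set G) ↔
      e x ∈ Subgroup.normalizer (P : Set H) := by
    intro x
    rw [Subgroup.mem_normalizer_iff, Subgroup.mem_normalizer_iff]
    constructor
    · intro hx y
      have := hx (f y)
      rw [hmemP', hmemP', hef, map_mul, map_mul, hef, map_inv] at this
      exact this
    · intro hx y
      have := hx (e y)
      rw [hmemP', hmemP', map_mul, map_mul, map_inv]
      exact this
  have hg' : f g ∈ Subgroup.normalizer (P' : Set G) := by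
    rw [hnorm, hef]; exact hg
  have hq' : ⁅⁅P', Subgroup.zpowers (f g)⁆, Subgroup.zpowers (f g)⁆ = ⊥ := by
    rw [hP']; exact QuadStable.quad_map f P g hq
  have h1 := h P' hP'p (f g) hg' hq'
  set N' := Subgroup.normalizer (P' : Set G) with hN'
  set C' := (Subgroup.centralizer (P' : Set G)).subgroupOf N' with hC'
  set N := Subgroup.normalizer (P : Set H) with hN
  set C := (Subgroup.centralizer (P : Set H)).subgroupOf N with hC
  haveI hC'n : C'.Normal := by rw [hC', hN']; infer_instance
  haveI hCn : C.Normal := by rw [hC, hN]; infer_instance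
  obtain ⟨eN, heN⟩ : ∃ eN : N' →* N, ∀ x : N', ((eN x : N) : H) = e (x : G) :=
    ⟨(e.toMonoidHom.comp N'.subtype).codRestrict N (fun x => (hnorm x).1 x.2), fun x => rfl⟩
  have hle : C' ≤ C.comap eN := by
    intro x hx
    rw [hC', Subgroup.mem_subgroupOf] at hx
    rw [Subgroup.mem_comap, hC, Subgroup.mem_subgroupOf, heN, Subgroup.mem_centralizer_iff]
    intro y hy
    have h2 := Subgroup.mem_centralizer_iff.1 hx (f y) ((hmemP' _).2 (by rwa [hef]))
    have h3 := congrArg e h2
    rwa [map_mul, map_mul, hef] at h3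
  obtain ⟨F, hF⟩ : ∃ F : N' ⧸ C' →* N ⧸ C, F = QuotientGroup.map C' C eN hle := ⟨_, rfl⟩
  have hFmk : ∀ x : N', F (QuotientGroup.mk x) = QuotientGroup.mk (eN x) := by
    intro x; rw [hF]; rfl
  have hFs : Function.Surjective F := by
    intro y
    obtain ⟨n, rfl⟩ := QuotientGroup.mk_surjective y
    have hn : f (n : H) ∈ N' := by rw [hN', hnorm, hef]; exact n.2
    refine ⟨QuotientGroup.mk ⟨f n, hn⟩, ?_⟩
    rw [hFmk]
    congr 1
    apply Subtype.ext
    rw [heN]
    exact hef _
  have hmap : (Cfsg.pCore p (N' ⧸ C')).map F ≤ Cfsg.pCore p (N ⧸ C) := by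
    apply le_pCore
    · exact Subgroup.Normal.map inferInstance F hFs
    · exact (pCore_isPGroup p).map F
  have h2 := hmap (Subgroup.mem_map_of_mem F h1)
  rw [hFmk] at h2
  have h3 : eN ⟨f g, hg'⟩ = ⟨g, hg⟩ := by
    apply Subtype.ext
    rw [heN]
    exact hef g
  rw [h3] at h2
  exact h2

end NStable
end Cfsg.Agent.Helper1
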