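import Mathlib
import Cfsg.Prelude.Def_PLocal
import Cfsg.Prelude.Def_Local
import Cfsg.Agent.Helper1.OddQuadratic
import Cfsg.Agent.Helper2.PComp1
import Cfsg.Agent.Helper3.CoprimeHall

set_option autoImplicit false

/-!
Consequences of `p`-stability of solvable groups of odd order: abelian subgroups normalized
by a normal `p`-subgroup, abelian normal subgroups of Sylow subgroups.
-/

namespace Cfsg.Agent.Helper1
namespace OddGL2

universe u
open scoped commutatorElement Pointwise

/-- quadratic elements lie in `O_p` when the centralizer of the normal `p`-subgroup is a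
`p`-group -/
theorem mem_pCore_of_quadratic {X : Type u} [Group X] [Finite X] {p : ℕ} [hp : Fact p.Prime]
    (hp2 : p ≠ 2) (hsol : Group.IsSolvable X) (hodd : Odd (Nat.card X)) (Q : Subgroup X)
    [hQn : Q.Normal] (hQ : IsPGroup p Q) (hC : IsPGroup p (Subgroup.centralizer (Q : Set X)))
    (a : X) (hq : ⁅⁅Q, Subgroup.zpowers a⁆, Subgroup.zpowers a⁆ = ⊥) : a ∈ Cfsg.pCore p X := by
  have h1 := isPStableOn_of_solvable_odd hp2 hsol hodd Q hQ a hq
  have hK : IsPGroup p ((Cfsg.pCore p (X ⧸ Subgroup.centralizer (Q : Set X))).comap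
      (QuotientGroup.mk' (Subgroup.centralizer (Q : Set X)))) := by
    apply (pCore_isPGroup p).comap_of_ker_isPGroup
    rw [QuotientGroup.ker_mk']
    exact hC
  have hKn : ((Cfsg.pCore p (X ⧸ Subgroup.centralizer (Q : Set X))).comap
      (QuotientGroup.mk' (Subgroup.centralizer (Q : Set X)))).Normal := by
    haveI := Cfsg.Agent.Helper3.pCore_characteristic p (X ⧸ Subgroup.centralizer (Q : Set X))
    haveI : (Cfsg.pCore p (X ⧸ Subgroup.centralizer (Q : Set X))).Normal :=
      Subgroup.normal_of_characteristic _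
    infer_instance
  exact le_pCore hKn hK (Subgroup.mem_comap.2 h1)

/-- abelian subgroups normalized by `P` act quadratically on `P` -/
theorem quadratic_of_abelian_normalized {G : Type u} [Group G] (P B : Subgroup G)
    (hBc : ∀ x ∈ B, ∀ y ∈ B, x * y = y * x) (hPB : P ≤ Subgroup.normalizer (B : Set G))
    (b : G) (hb : b ∈ B) : ⁅⁅P, Subgroup.zpowers b⁆, Subgroup.zpowers b⁆ = ⊥ := by
  have hzb : Subgroup.zpowers b ≤ B := (Subgroup.zpowers_le).2 hb
  have h1 : ⁅P, Subgroup.zpowers b⁆ ≤ B := by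
    rw [Subgroup.commutator_le]
    intro x hx y hy
    rw [commutatorElement_def]
    exact B.mul_mem ((Subgroup.mem_normalizer_iff.1 (hPB hx) y).1 (hzb hy)) (B.inv_mem (hzb hy))
  rw [eq_bot_iff]
  refine (Subgroup.commutator_mono h1 hzb).trans ?_
  rw [Subgroup.commutator_le]
  intro x hx y hy
  rw [Subgroup.mem_bot, commutatorElement_eq_one_iff_mul_comm]
  exact hBc x hx y hy

/-- a normal subgroup `C` with `O_{p'}(G) = 1` whose `O_p` is central is a `p`-group -/
theorem isPGroup_of_pCore_central {G : Type u} [Group G] [Finite G] [Group.IsSolvable G] {p : ℕ}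
    [hp : Fact p.Prime] (hK : Cfsg.pPrimeCore p G = ⊥) (C : Subgroup G) [hCn : C.Normal]
    (hcen : ∀ x ∈ Cfsg.pCore p G ⊓ C, ∀ c ∈ C, c * x = x * c) : IsPGroup p C := by
  have hK' : Cfsg.pPrimeCore p ↥C = ⊥ := by
    have h1 := Cfsg.Agent.Helper2.pPrimeCore_normal_le p C
    rw [hK, le_bot_iff] at h1
    exact (Subgroup.map_eq_bot_iff_of_injective _ (Subgroup.subtype_injective C)).1 h1
  have h2 := centralizer_pCore_le (G := ↥C) p hK'
  have hNC : Subgroup.normalizer (C : Set G) = ⊤ := Subgroup.normalizer_eq_top_iff.2 hCn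
  have h3 : (Cfsg.pCore p ↥C).map C.subtype ≤ Cfsg.pCore p G := by
    haveI := Cfsg.Agent.Helper3.pCore_characteristic p ↥C
    apply le_pCore
    · rw [← Subgroup.normalizer_eq_top_iff, eq_top_iff, ← hNC]
      exact le_normalizer_map_of_characteristic C (Cfsg.pCore p ↥C)
    · exact (pCore_isPGroup p).map _
  have h4 : (⊤ : Subgroup ↥C) ≤ Subgroup.centralizer (Cfsg.pCore p ↥C : Set ↥C) := by
    intro c _
    rw [Subgroup.mem_centralizer_iff]
    intro x hx
    apply Subtype.ext
    have hx1 : (x : G) ∈ Cfsg.pCore p G ⊓ C := ⟨h3 ⟨x, hx, rfl⟩, x.2⟩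
    exact (hcen _ hx1 c c.2).symm
  have h5 : IsPGroup p ↥C := by
    have h6 : Cfsg.pCore p ↥C = ⊤ := top_le_iff.1 (h4.trans h2)
    have h7 := pCore_isPGroup (G := ↥C) p
    rw [h6] at h7
    exact (IsPGroup.of_equiv h7 Subgroup.topEquiv)
  exact h5

theorem abelian_normalized_le_pCore {G : Type u} [Group G] [Finite G] (hsol : Group.IsSolvable G)
    (hodd : Odd (Nat.card G)) (p : ℕ) [hpf : Fact p.Prime] (hp : p ≠ 2) (P : Subgroup G)
    [hPn : P.Normal] (hP : IsPGroup p P) (S : Set (Subgroup G))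
    (hS : ∀ B ∈ S, IsMulCommutative B ∧ IsPGroup p B ∧ P ≤ Subgroup.normalizer (B : Set G)) :
    (sSup S).map (QuotientGroup.mk' (Subgroup.centralizer (P : Set G))) ≤
        Cfsg.pCore p (G ⧸ Subgroup.centralizer (P : Set G)) ∧
      (Cfsg.pPrimeCore p G = ⊥ → Cfsg.pCore p G ⊓ Subgroup.centralizer (P : Set G) ≤ P →
        sSup S ≤ Cfsg.pCore p G) := by
  have hquad : ∀ B ∈ S, ∀ b ∈ B, ⁅⁅P, Subgroup.zpowers b⁆, Subgroup.zpowers b⁆ = ⊥ := by
    intro B hB b hb
    obtain ⟨hBc, -, hPB⟩ := hS B hB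
    refine quadratic_of_abelian_normalized P B ?_ hPB b hb
    intro x hx y hy
    exact congrArg Subtype.val (hBc.is_comm.comm ⟨x, hx⟩ ⟨y, hy⟩)
  constructor
  · rw [Subgroup.map_le_iff_le_comap]
    apply sSup_le
    intro B hB b hb
    rw [Subgroup.mem_comap]
    exact isPStableOn_of_solvable_odd hp hsol hodd P hP b (hquad B hB b hb)
  · intro hK hle
    haveI := hsol
    have hCp : IsPGroup p (Subgroup.centralizer (P : Set G)) := by
      apply isPGroup_of_pCore_central hK
      intro x hx c hc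
      have hxP : x ∈ P := hle hx
      exact (Subgroup.mem_centralizer_iff.1 hc x hxP).symm
    apply sSup_le
    intro B hB b hb
    exact mem_pCore_of_quadratic hp hsol hodd P hP hCp b (hquad B hB b hb)

end OddGL2
end Cfsg.Agent.Helper1
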