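import Mathlib
import Cfsg.Agent.Lead.QdStruct5
import Cfsg.Agent.Lead.QdAlt
import Cfsg.Agent.Helper1.QdSecC
import Cfsg.Agent.Helper1.Cores

set_option autoImplicit false

/-!
`Qd(p)` is not `p`-stable: preliminaries.
-/

namespace Cfsg.Agent.Helper1
namespace QdNS

open scoped commutatorElement MatrixGroups
open Cfsg.Agent.Lead.Qd Cfsg.Agent.Lead.EssPSq

variable (p : ℕ) [hp : Fact p.Prime]

theorem isPGroup_V : IsPGroup p (V p) := by
  rintro ⟨x, hx⟩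
  obtain ⟨v, rfl⟩ := (mem_V p x).1 hx
  refine ⟨1, ?_⟩
  apply Subtype.ext
  rw [pow_one, Subgroup.coe_pow, Subgroup.coe_one]
  show (mkq p 1 v) ^ p = 1
  rw [mkq_one_pow]
  have : (p • v : Fin 2 → ZMod p) = 0 := by
    ext i
    simp
  rw [this, mkq_one]

theorem centralizer_V_le : Subgroup.centralizer ((V p : Subgroup ↥(Cfsg.qd p)) : Set ↥(Cfsg.qd p))
    ≤ V p := by
  intro x hx
  rw [← mkq_blk_vec p x] at hx ⊢
  obtain ⟨A, hA⟩ : ∃ A, A = blk p x := ⟨_, rfl⟩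
  obtain ⟨w, hw⟩ : ∃ w, w = vec p x := ⟨_, rfl⟩
  rw [← hA, ← hw] at hx ⊢
  have hA1 : A = 1 := by
    apply QdSec.eq_one_of_mulVec_eq
    intro v
    have h1 := Subgroup.mem_centralizer_iff.1 hx (mkq p 1 v) ((mem_V p _).2 ⟨v, rfl⟩)
    have h2 := conj_mkq_one p A w v
    rw [← h1, mul_inv_cancel_right] at h2
    exact ((mkq_inj p h2).2).symm
  rw [hA1]
  exact (mem_V p _).2 ⟨w, rfl⟩

/-- `O_p(SL₂(p)) = 1` -/
theorem pCore_SL2 : Cfsg.pCore p (Matrix.SpecialLinearGroup (Fin 2) (ZMod p)) = ⊥ := by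
  rw [eq_bot_iff]
  unfold Cfsg.pCore
  apply sSup_le
  rintro T ⟨hTn, hTp⟩
  haveI := hTn
  obtain ⟨T', hT'⟩ : ∃ T' : Subgroup ↥(Cfsg.qd p), T' = T.comap (proj p) := ⟨_, rfl⟩
  haveI hT'n : T'.Normal := by rw [hT']; infer_instance
  have hT'p : IsPGroup p T' := by
    rintro ⟨x, hx⟩
    rw [hT', Subgroup.mem_comap] at hx
    obtain ⟨k, hk⟩ := hTp ⟨proj p x, hx⟩
    have hk' : (proj p x) ^ p ^ k = 1 := congrArg Subtype.val hk
    have hxV : x ^ p ^ k ∈ V p := by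
      show proj p (x ^ p ^ k) = 1
      rw [map_pow, hk']
    obtain ⟨j, hj⟩ := isPGroup_V p ⟨_, hxV⟩
    have hj' : (x ^ p ^ k) ^ p ^ j = 1 := congrArg Subtype.val hj
    refine ⟨k + j, ?_⟩
    apply Subtype.ext
    rw [Subgroup.coe_pow, Subgroup.coe_one, pow_add, pow_mul]
    exact hj'
  obtain ⟨S⟩ : Nonempty (Sylow p ↥(Cfsg.qd p)) := inferInstance
  have h1 : T' ≤ V p := (good_sylow p S).le_V T' (hT'p.le_sylow_of_normal S) hT'n
  intro t ht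
  obtain ⟨x, rfl⟩ := proj_surjective p t
  have hx : x ∈ T' := by rw [hT']; exact ht
  rw [Subgroup.mem_bot]
  exact h1 hx

end QdNS
end Cfsg.Agent.Helper1
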