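import Mathlib
import Cfsg.Agent.Helper1.QdNotStableA
import Cfsg.Agent.Helper1.OddQuadratic2
import Cfsg.Agent.Helper1.SubnormalComm
import Cfsg.Prelude.Def_LocalEven

set_option autoImplicit false

/-!
`Qd(p)` is not `p`-stable.
-/

namespace Cfsg.Agent.Helper1
namespace QdNS

open scoped commutatorElement MatrixGroups
open Cfsg.Agent.Lead.Qd Cfsg.Agent.Lead.EssPSq

variable (p : ℕ) [hp : Fact p.Prime]

theorem E12_mulVec (t s : ZMod p) : (E12 t : Lead.Qd.SL2 p).1.mulVec ![s, 0] = ![s, 0] := by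
  ext i
  fin_cases i <;> simp [E12_val, Matrix.mulVec, dotProduct, Fin.sum_univ_two]

theorem E12_mulVec' (t : ZMod p) (w : Fin 2 → ZMod p) :
    (E12 t : Lead.Qd.SL2 p).1.mulVec w = ![w 0 + t * w 1, w 1] := by
  ext i
  fin_cases i <;> simp [E12_val, Matrix.mulVec, dotProduct, Fin.sum_univ_two]

theorem E12_inv (t : ZMod p) : (E12 t : Lead.Qd.SL2 p)⁻¹ = E12 (-t) := by
  rw [inv_eq_iff_mul_eq_one, E12_mul, add_neg_cancel, E12_zero]

/-- the abelian subgroup `⟨g₀⟩ × C_V(g₀)` -/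
def Bsub : Subgroup ↥(Cfsg.qd p) where
  carrier := {x | ∃ t s, x = mkq p (E12 t) ![s, 0]}
  one_mem' := ⟨0, 0, by
    rw [E12_zero, ← mkq_one]
    congr 1
    ext i; fin_cases i <;> simp⟩
  mul_mem' := by
    rintro _ _ ⟨t, s, rfl⟩ ⟨t', s', rfl⟩
    refine ⟨t + t', s' + s, ?_⟩
    rw [mkq_mul, E12_mul, E12_mulVec]
    congr 1
    ext i; fin_cases i <;> simp
  inv_mem' := by
    rintro _ ⟨t, s, rfl⟩
    refine ⟨-t, -s, ?_⟩
    rw [mkq_inv, E12_inv, E12_mulVec]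
    congr 1
    ext i; fin_cases i <;> simp

theorem Bsub_comm : ∀ x ∈ Bsub p, ∀ y ∈ Bsub p, x * y = y * x := by
  rintro _ ⟨t, s, rfl⟩ _ ⟨t', s', rfl⟩
  rw [mkq_mul, mkq_mul, E12_mul, E12_mul, E12_mulVec, E12_mulVec, add_comm t t',
    add_comm ![s', 0]]

theorem V_le_normalizer_Bsub :
    V p ≤ Subgroup.normalizer ((Bsub p : Subgroup ↥(Cfsg.qd p)) : Set ↥(Cfsg.qd p)) := by
  apply le_normalizer_of_forall_conj_mem
  rintro v hv _ ⟨t, s, rfl⟩
  obtain ⟨w, rfl⟩ := (mem_V p v).1 hv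
  refine ⟨t, s - t * w 1, ?_⟩
  rw [mkq_inv, mkq_mul, mkq_mul, one_mul, inv_one, mul_one, Matrix.SpecialLinearGroup.coe_one,
    Matrix.one_mulVec, Matrix.one_mulVec, Matrix.mulVec_neg, E12_mulVec']
  congr 1
  ext i
  fin_cases i
  · simp [Matrix.vecHead]; ring
  · simp [Matrix.vecHead, Matrix.vecTail]

theorem quadratic_g0 :
    ⁅⁅V p, Subgroup.zpowers (mkq p (E12 1) 0)⁆, Subgroup.zpowers (mkq p (E12 1) 0)⁆ = ⊥ := by
  apply OddGL2.quadratic_of_abelian_normalized (V p) (Bsub p) (Bsub_comm p)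
    (V_le_normalizer_Bsub p)
  refine ⟨1, 0, ?_⟩
  congr 1
  ext i; fin_cases i <;> simp

end QdNS
end Cfsg.Agent.Helper1
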