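import Mathlib
import Cfsg.Agent.Helper1.QdNotStableB

set_option autoImplicit false

/-!
`Qd(p)` is not `p`-stable.
-/

namespace Cfsg.Agent.Helper1
namespace QdNS

open scoped commutatorElement MatrixGroups
open Cfsg.Agent.Lead.Qd Cfsg.Agent.Lead.EssPSq

variable (p : ℕ) [hp : Fact p.Prime]

theorem E12_one_ne_one : (E12 1 : Lead.Qd.SL2 p) ≠ 1 := by
  intro h
  have h1 := E12_inj p (h.trans (E12_zero p).symm)
  exact one_ne_zero h1

theorem not_isNormalizerPStable_qd : ¬ Cfsg.IsNormalizerPStable p ↥(Cfsg.qd p) := by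
  intro h
  have hN : Subgroup.normalizer ((V p : Subgroup ↥(Cfsg.qd p)) : Set ↥(Cfsg.qd p)) = ⊤ :=
    Subgroup.normalizer_eq_top _
  have hg : mkq p (E12 1) 0 ∈
      Subgroup.normalizer ((V p : Subgroup ↥(Cfsg.qd p)) : Set ↥(Cfsg.qd p)) := by
    rw [hN]; trivial
  have h1 := h (V p) (isPGroup_V p) (mkq p (E12 1) 0) hg (quadratic_g0 p)
  set N := Subgroup.normalizer ((V p : Subgroup ↥(Cfsg.qd p)) : Set ↥(Cfsg.qd p)) with hNdef
  set C := (Subgroup.centralizer ((V p : Subgroup ↥(Cfsg.qd p)) : Set ↥(Cfsg.qd p))).subgroupOf N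
    with hC
  haveI hCn : C.Normal := by
    rw [hC, hNdef]; infer_instance
  have hker : C ≤ ((proj p).comp N.subtype).ker := by
    intro x hx
    rw [hC, Subgroup.mem_subgroupOf] at hx
    rw [MonoidHom.mem_ker, MonoidHom.comp_apply]
    exact centralizer_V_le p hx
  obtain ⟨F, hF⟩ : ∃ F : N ⧸ C →* Lead.Qd.SL2 p,
      F = QuotientGroup.lift C ((proj p).comp N.subtype) hker := ⟨_, rfl⟩
  have hFmk : ∀ x : N, F (QuotientGroup.mk x) = proj p (x : ↥(Cfsg.qd p)) := by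
    intro x; rw [hF]; rfl
  have hFs : Function.Surjective F := by
    intro A
    obtain ⟨x, hx⟩ := proj_surjective p A
    exact ⟨QuotientGroup.mk ⟨x, by rw [hN]; trivial⟩, by rw [hFmk]; exact hx⟩
  have hmap : (Cfsg.pCore p (N ⧸ C)).map F ≤ Cfsg.pCore p (Lead.Qd.SL2 p) := by
    apply le_pCore
    · exact Subgroup.Normal.map inferInstance F hFs
    · exact (pCore_isPGroup p).map F
  rw [pCore_SL2, le_bot_iff] at hmap
  have h2 : F (QuotientGroup.mk (⟨mkq p (E12 1) 0, hg⟩ : N)) ∈ (Cfsg.pCore p (N ⧸ C)).map F :=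
    Subgroup.mem_map_of_mem F h1
  rw [hmap, Subgroup.mem_bot, hFmk, proj_mkq] at h2
  exact E12_one_ne_one p h2

end QdNS
end Cfsg.Agent.Helper1
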