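import Mathlib
import Cfsg.Agent.Helper1.QuadFreeC
import Cfsg.Agent.Helper1.QdNotStableC
import Cfsg.Agent.Helper1.NStableEquiv

set_option autoImplicit false

/-!
`Qd(p)` is not involved iff every section is `p`-stable (normalizer form).
-/

namespace Cfsg.Agent.Helper1
namespace QuadFree

universe u
open scoped commutatorElement

variable {p : ℕ} [hp : Fact p.Prime]

theorem not_involves_section {H : Type*} [Group H] {G : Type u} [Group G]
    (h : ¬ Cfsg.Involves H G) (K R : Subgroup G) [hR : (R.subgroupOf K).Normal] :
    ¬ Cfsg.Involves H (K ⧸ R.subgroupOf K) := by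
  intro h'
  apply h
  exact involves_of_injective K.subtype K.subtype_injective
    (involves_of_surjective (QuotientGroup.mk' (R.subgroupOf K))
      (QuotientGroup.mk'_surjective _) h')

theorem qd_free_iff_sections_stable {G : Type u} [Group G] [Finite G] (hp2 : p ≠ 2) :
    ¬ Cfsg.Involves ↥(Cfsg.qd p) G ↔ ∀ (K R : Subgroup G) [hR : (R.subgroupOf K).Normal],
      Cfsg.IsNormalizerPStable p (K ⧸ R.subgroupOf K) := by
  constructor
  · intro h K R hR
    exact isNormalizerPStable_of_qd_free hp2 (not_involves_section h K R)
  · rintro h ⟨K, R, hR, ⟨e⟩⟩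
    haveI := hR
    exact QdNS.not_isNormalizerPStable_qd p
      (NStable.isNormalizerPStable_of_mulEquiv e (h K R))

end QuadFree
end Cfsg.Agent.Helper1
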