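import Mathlib
import Cfsg.Agent.Helper1.FSF
import Cfsg.Agent.Helper1.GlaubermanNPC
import Cfsg.Agent.Helper1.QdStableIff
import Cfsg.Agent.S3079

set_option autoImplicit false

/-!
`Z(J(S))` controls strong fusion in every section of a `Qd(p)`-free group (`p` odd).
-/

namespace Cfsg.Agent.Helper1
namespace ZJFus

universe u

open ThompsonRed

variable {p : ℕ} [hp : Fact p.Prime]

/-- the functor `Q ↦ Z(J(Q))` as a bare function -/
def zjW : ∀ (Q : Type u) [Group Q], Subgroup Q := fun Q _ => zjFunctor.W Q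

theorem zjW_isCharPFunctor : Cfsg.IsCharPFunctor.{u} p zjW :=
  ⟨fun Q _ _ hQ hnt => zjFunctor_ne_bot Q hQ hnt, fun _ _ _ _ _ _ φ => zjFunctor.map_equiv φ⟩

theorem inducedFunctor_zjW {X : Type u} [Group X] (T : Subgroup X) :
    Cfsg.inducedFunctor zjW T = Cfsg.centerThompsonAOf T :=
  zjFunctor_of T

theorem controls_of_qd_free {G : Type u} [Group G] [Finite G] (hp2 : p ≠ 2)
    (hqd : ¬ Cfsg.Involves ↥(Cfsg.qd p) G) :
    ∀ (K R : Subgroup G) [(R.subgroupOf K).Normal], ∀ T : Sylow p (K ⧸ R.subgroupOf K),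
      Cfsg.ControlsStrongFusion p (Cfsg.centerThompsonAOf (T : Subgroup (K ⧸ R.subgroupOf K))) := by
  intro K R _ T
  have h := FT.fusion_of_normal_constrained (p := p) zjW zjW_isCharPFunctor ?_ K R T
  · rwa [inducedFunctor_zjW] at h
  · intro K' R' _ hpc T'
    have hfree : ¬ Cfsg.Involves ↥(Cfsg.qd p) (K' ⧸ R'.subgroupOf K') :=
      QuadFree.not_involves_section hqd K' R'
    have hst := QuadFree.isNormalizerPStable_of_qd_free hp2 hfree
    have h1 := (Cfsg.Agent.S3079.result hp2 T' (T' : Subgroup (K' ⧸ R'.subgroupOf K'))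
      ⟨le_rfl, fun x _ g hg => hg⟩ hst hpc).1
    rw [inducedFunctor_zjW]
    exact h1

end ZJFus
end Cfsg.Agent.Helper1
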