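import Mathlib
import Cfsg.Agent.Helper1.MFg
import Cfsg.Agent.Helper1.ZJFusQdA
import Cfsg.Agent.Helper1.StrongClosedNPCe

/-!
`N_G(Z(J(D)))` and `N_G(Ω₁(Z(J_e(D))))` control strong fusion in `Qd(p)`-free groups, `D` strongly
closed (`S3081`).
-/

set_option autoImplicit false

universe u

namespace Cfsg.Agent.Helper1.MF

open Cfsg Cfsg.Agent.Helper1.FT ThompsonRed StrongClosedNPC ZJFus

variable {p : ℕ} [hp : Fact p.Prime]

/-- the functor `Q ↦ Ω₁(Z(J_e(Q)))` as a bare function -/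
def ozjW (p : ℕ) : ∀ (Q : Type u) [Group Q], Subgroup Q := fun Q _ => (ozjFunctor p).W Q

theorem ozjW_isCharPFunctor : Cfsg.IsCharPFunctor.{u} p (ozjW p) :=
  ⟨fun Q _ _ hQ hnt => ozjFunctor_ne_bot Q hQ hnt, fun _ _ _ _ _ _ φ => (ozjFunctor p).map_equiv φ⟩

theorem inducedFunctor_ozjW {X : Type u} [Group X] (T : Subgroup X) :
    Cfsg.inducedFunctor (ozjW p) T = Cfsg.omegaOne p (Cfsg.centerThompsonOf p T) :=
  ozjFunctor_of p T

theorem qdfree_sub (X : Type u) [Group X] (H : Subgroup X)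
    (h : ¬ Cfsg.Involves ↥(Cfsg.qd p) X) : ¬ Cfsg.Involves ↥(Cfsg.qd p) ↥H :=
  fun h' => h (QuadFree.involves_of_injective H.subtype H.subtype_injective h')

theorem qdfree_quot (X : Type u) [Group X] (N : Subgroup X) [N.Normal]
    (h : ¬ Cfsg.Involves ↥(Cfsg.qd p) X) : ¬ Cfsg.Involves ↥(Cfsg.qd p) (X ⧸ N) :=
  fun h' => h (QuadFree.involves_of_surjective (QuotientGroup.mk' N)
    (QuotientGroup.mk'_surjective N) h')

theorem zj_controls_of_qd_free (hp2 : p ≠ 2) {G : Type u} [Group G] [Finite G]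
    (hqd : ¬ Cfsg.Involves ↥(Cfsg.qd p) G) (P : Sylow p G) (D : Subgroup G)
    (hD : Cfsg.IsStronglyClosed D (P : Subgroup G)) :
    (∀ A : Set G, A ⊆ (P : Subgroup G) → Cfsg.ControlsStrongFusionOf
      (Subgroup.normalizer ((Cfsg.centerThompsonAOf D) : Set G)) (P : Subgroup G) A) ∧
    (∀ A : Set G, A ⊆ (P : Subgroup G) → Cfsg.ControlsStrongFusionOf
      (Subgroup.normalizer ((Cfsg.omegaOne p (Cfsg.centerThompsonOf p D)) : Set G))
      (P : Subgroup G) A) := by
  constructor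
  · have h := controls_of_stronglyClosed (p := p) zjW zjW_isCharPFunctor
      (fun X _ => ¬ Cfsg.Involves ↥(Cfsg.qd p) X) qdfree_sub qdfree_quot ?_ hqd P D hD
    · rwa [inducedFunctor_zjW] at h
    · intro X _ _ hfree hpc S D' hD'
      have hst := QuadFree.isNormalizerPStable_of_qd_free hp2 hfree
      rw [inducedFunctor_zjW]
      exact (Cfsg.Agent.S3079.result hp2 S D' hD' hst hpc).1
  · have h := controls_of_stronglyClosed (p := p) (ozjW p) ozjW_isCharPFunctor
      (fun X _ => ¬ Cfsg.Involves ↥(Cfsg.qd p) X) qdfree_sub qdfree_quot ?_ hqd P D hD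
    · rwa [inducedFunctor_ozjW] at h
    · intro X _ _ hfree hpc S D' hD'
      have hst := QuadFree.isNormalizerPStable_of_qd_free hp2 hfree
      rw [inducedFunctor_ozjW]
      exact (Cfsg.Agent.S3079.result hp2 S D' hD' hst hpc).2

end Cfsg.Agent.Helper1.MF
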