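import Mathlib
import Cfsg.Prelude.Def_LieExceptional
import Cfsg.Prelude.Def_OddOrderLocal
import Cfsg.Agent.Helper1.CNGroup
import Cfsg.Agent.Helper1.CNGroup2
import Cfsg.Agent.Helper1.CNFrobenius
import Cfsg.Agent.Helper1.Cores
import Cfsg.Agent.Helper1.Fitting
import Cfsg.Agent.Helper1.Fitting2

set_option autoImplicit false

/-!
Solvable CN-groups without a nontrivial normal Sylow subgroup: the Fitting subgroup is a `p`-group
on which `p'`-elements act fixed-point-freely.
-/

namespace Cfsg.Agent.Helper1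

namespace CNSolv

open Cfsg
open scoped Pointwise

universe u

variable {G : Type u} [Group G]

theorem exists_mem_ne_one_of_ne_bot {H : Subgroup G} (h : H ≠ ⊥) : ∃ x ∈ H, x ≠ 1 := by
  by_contra hcon
  push Not at hcon
  exact h ((Subgroup.eq_bot_iff_forall _).2 hcon)

theorem coprime_orderOf_of_mem_isPGroup {p q : ℕ} [hp : Fact p.Prime] [hq : Fact q.Prime]
    (hpq : p ≠ q) {A B : Subgroup G} (hA : IsPGroup p A) (hB : IsPGroup q B) {a b : G}
    (ha : a ∈ A) (hb : b ∈ B) : (orderOf a).Coprime (orderOf b) := by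
  obtain ⟨k, hk⟩ := exists_orderOf_eq_pow_of_mem_isPGroup hA ha
  obtain ⟨j, hj⟩ := exists_orderOf_eq_pow_of_mem_isPGroup hB hb
  rw [hk, hj]
  exact Nat.Coprime.pow _ _ ((Nat.coprime_primes hp.out hq.out).2 hpq)

/-- In a CN-group, if `O_p(G)` and `O_q(G)` are both nontrivial (`p ≠ q`) then the Sylow
`p`-subgroups are normal. -/
theorem sylow_normal_of_two_cores [Finite G] (hCN : Cfsg.IsCNGroup G) {p q : ℕ}
    [hp : Fact p.Prime] [hq : Fact q.Prime] (hpq : p ≠ q) (hHp : Cfsg.pCore p G ≠ ⊥)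
    (hHq : Cfsg.pCore q G ≠ ⊥) (P : Sylow p G) : (P : Subgroup G).Normal := by
  obtain ⟨h, hhH, hh1⟩ := exists_mem_ne_one_of_ne_bot hHp
  obtain ⟨w, hwH, hw1⟩ := exists_mem_ne_one_of_ne_bot hHq
  have hHP : Cfsg.pCore p G ≤ P := pCore_le_sylow P
  have hP1 : (P : Subgroup G) ≠ ⊥ := fun h0 => hHp (le_bot_iff.1 (h0 ▸ hHP))
  obtain ⟨z, hzP, hz1, hzc⟩ := exists_central_ne_one (K := (P : Subgroup G)) P.2.isNilpotent hP1
  have hdisj : Disjoint (Cfsg.pCore p G) (Cfsg.pCore q G) :=
    IsPGroup.disjoint_of_ne p q hpq _ _ (pCore_isPGroup p) (pCore_isPGroup q)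
  have hcomm0 : ∀ x ∈ Cfsg.pCore p G, ∀ y ∈ Cfsg.pCore q G, x * y = y * x := fun x hx y hy =>
    Subgroup.commute_of_normal_of_disjoint _ _ inferInstance inferInstance hdisj x y hx hy
  -- `z` commutes with `O_q(G)`
  have hA : ∀ y ∈ Cfsg.pCore q G, z * y = y * z := by
    intro y hy
    apply commute_of_coprime_orderOf_of_mem (hCN h hh1)
    · rw [Subgroup.mem_centralizer_singleton_iff]
      exact hzc h (hHP hhH)
    · rw [Subgroup.mem_centralizer_singleton_iff]
      exact (hcomm0 h hhH y hy).symm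
    · exact coprime_orderOf_of_mem_isPGroup hpq P.2 (pCore_isPGroup q) hzP hy
  have hB : ∀ x ∈ (P : Subgroup G), ∀ y ∈ Cfsg.pCore q G, x * y = y * x := by
    intro x hx y hy
    apply commute_of_coprime_orderOf_of_mem (hCN z hz1)
    · rw [Subgroup.mem_centralizer_singleton_iff]
      exact (hzc x hx).symm
    · rw [Subgroup.mem_centralizer_singleton_iff]
      exact (hA y hy).symm
    · exact coprime_orderOf_of_mem_isPGroup hpq P.2 (pCore_isPGroup q) hx hy
  set C := Subgroup.centralizer (Cfsg.pCore q G : Set G) with hC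
  haveI hCn : C.Normal := Subgroup.normal_centralizer
  have hPC : (P : Subgroup G) ≤ C := by
    intro x hx
    rw [hC, Subgroup.mem_centralizer_iff]
    intro y hy
    exact (hB x hx y hy).symm
  have hCnil : Group.IsNilpotent C := by
    refine CNFrob.nilp_of_le ?_ (hCN w hw1)
    exact Subgroup.centralizer_le (Set.singleton_subset_iff.2 hwH)
  exact CNFrob.sylow_normal_of_le_nilpotent_normal P C hCnil hPC

/-- A non-nilpotent solvable CN-group without nontrivial normal Sylow subgroups has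
`F(G) = O_p(G)` for some prime `p`; in particular `O_p(G)` is self-centralizing. -/
theorem exists_pCore_self_centralizing [Finite G] [Group.IsSolvable G] (hCN : Cfsg.IsCNGroup G)
    (hnn : ¬ Group.IsNilpotent G)
    (hns : ∀ (q : ℕ) [Fact q.Prime] (S : Sylow q G), (S : Subgroup G).Normal →
      (S : Subgroup G) = ⊥) :
    ∃ p : ℕ, p.Prime ∧ Cfsg.pCore p G ≠ ⊥ ∧
      Subgroup.centralizer (Cfsg.pCore p G : Set G) ≤ Cfsg.pCore p G := by
  have hcent := centralizer_fittingSubgroup_le (G := G)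
  have hF1 : Cfsg.fittingSubgroup G ≠ ⊥ := by
    intro h
    rw [h] at hcent
    have h2 : ∀ x : G, x = 1 := by
      intro x
      have hx : x ∈ Subgroup.centralizer (((⊥ : Subgroup G) : Subgroup G) : Set G) := by
        rw [Subgroup.mem_centralizer_iff]
        intro y hy
        rw [SetLike.mem_coe, Subgroup.mem_bot] at hy
        rw [hy, one_mul, mul_one]
      exact Subgroup.mem_bot.1 (hcent hx)
    apply hnn
    haveI : Subsingleton G := ⟨fun a b => by rw [h2 a, h2 b]⟩
    infer_instance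
  rw [fittingSubgroup_eq_fitJoin] at hF1 hcent
  have hex : ∃ p : Nat.Primes, Cfsg.pCore (p : ℕ) G ≠ ⊥ := by
    by_contra hcon
    push Not at hcon
    apply hF1
    unfold fitJoin
    rw [iSup_eq_bot]
    exact hcon
  obtain ⟨p, hp1⟩ := hex
  haveI hpF : Fact (p : ℕ).Prime := ⟨p.2⟩
  have hother : ∀ q : Nat.Primes, q ≠ p → Cfsg.pCore (q : ℕ) G = ⊥ := by
    intro q hqp
    by_contra hq1
    haveI hqF : Fact (q : ℕ).Prime := ⟨q.2⟩
    obtain ⟨P⟩ : Nonempty (Sylow (p : ℕ) G) := inferInstance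
    have hne : (p : ℕ) ≠ (q : ℕ) := fun h => hqp (Subtype.ext h.symm)
    have hPn := sylow_normal_of_two_cores hCN hne hp1 hq1 P
    have hP1 := hns (p : ℕ) P hPn
    apply hp1
    have hle : Cfsg.pCore (p : ℕ) G ≤ P := pCore_le_sylow P
    rw [hP1] at hle
    exact le_bot_iff.1 hle
  have hF : fitJoin G = Cfsg.pCore (p : ℕ) G := by
    apply le_antisymm
    · unfold fitJoin
      apply iSup_le
      intro q
      by_cases hq : q = p
      · rw [hq]
      · rw [hother q hq]
        exact bot_le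
    · exact pCore_le_fitJoin (p : ℕ)
  rw [hF] at hcent
  exact ⟨p, p.2, hp1, hcent⟩

/-- `p'`-elements act fixed-point-freely on a self-centralizing `O_p(G)` of a CN-group. -/
theorem eq_one_of_commute_pCore [Finite G] (hCN : Cfsg.IsCNGroup G) {p : ℕ} [hp : Fact p.Prime]
    (hC : Subgroup.centralizer (Cfsg.pCore p G : Set G) ≤ Cfsg.pCore p G)
    {a h : G} (ha : (orderOf a).Coprime p) (hh : h ∈ Cfsg.pCore p G) (hh1 : h ≠ 1)
    (hah : a * h = h * a) : a = 1 := by
  have hHp : IsPGroup p (Cfsg.pCore p G) := pCore_isPGroup p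
  have hH1 : Cfsg.pCore p G ≠ ⊥ := by
    intro h0
    rw [h0, Subgroup.mem_bot] at hh
    exact hh1 hh
  obtain ⟨z, hzH, hz1, hzc⟩ := exists_central_ne_one (K := Cfsg.pCore p G) hHp.isNilpotent hH1
  have hcop : ∀ x ∈ Cfsg.pCore p G, (orderOf a).Coprime (orderOf x) := by
    intro x hx
    obtain ⟨k, hk⟩ := exists_orderOf_eq_pow_of_mem_isPGroup hHp hx
    rw [hk]
    exact Nat.Coprime.pow_right _ ha
  have haz : a * z = z * a := by
    apply commute_of_coprime_orderOf_of_mem (hCN h hh1)
    · rw [Subgroup.mem_centralizer_singleton_iff]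
      exact hah
    · rw [Subgroup.mem_centralizer_singleton_iff]
      exact hzc h hh
    · exact hcop z hzH
  have hax : ∀ x ∈ Cfsg.pCore p G, a * x = x * a := by
    intro x hx
    apply commute_of_coprime_orderOf_of_mem (hCN z hz1)
    · rw [Subgroup.mem_centralizer_singleton_iff]
      exact haz
    · rw [Subgroup.mem_centralizer_singleton_iff]
      exact (hzc x hx).symm
    · exact hcop x hx
  have haC : a ∈ Subgroup.centralizer (Cfsg.pCore p G : Set G) := by
    rw [Subgroup.mem_centralizer_iff]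
    intro x hx
    exact (hax x hx).symm
  have haH := hC haC
  have h1 := hcop a haH
  rw [Nat.coprime_self] at h1
  exact orderOf_eq_one_iff.1 h1

end CNSolv

end Cfsg.Agent.Helper1
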