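import Mathlib
import Cfsg.Agent.Helper1.CNGroup2

set_option autoImplicit false

/-!
CN-groups: maximal nilpotent subgroups are conjugate or of coprime orders; the commuting relation
on primes is transitive (`S1483`).
-/

namespace Cfsg.Agent.Helper1

open Cfsg
open scoped commutatorElement Pointwise

universe u

variable {G : Type u} [Group G]

/-- A maximal nilpotent subgroup of a CN-group of order divisible by `p` contains a Sylow
`p`-subgroup of the whole group. -/
theorem cn_max_nilpotent_sylow [Finite G] (hCN : Cfsg.IsCNGroup G) (H : Subgroup G)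
    (hH : Group.IsNilpotent H)
    (hmax : ∀ L : Subgroup G, Group.IsNilpotent L → H ≤ L → L = H) {p : ℕ} [hp : Fact p.Prime]
    (hpH : p ∣ Nat.card H) : ∃ S : Sylow p G, (S : Subgroup G) ≤ H := by
  obtain ⟨P⟩ : Nonempty (Sylow p H) := inferInstance
  set P' := (P : Subgroup H).map H.subtype with hP'
  have hP'p : IsPGroup p P' := P.2.map _
  obtain ⟨S, hP'S⟩ := hP'p.exists_le_sylow
  refine ⟨S, ?_⟩
  have hcop := cn_max_nilpotent_coprime hCN H hH hmax
  have hnd : ¬ p ∣ H.index :=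
    (Nat.Prime.coprime_iff_not_dvd hp.out).mp (Nat.Coprime.coprime_dvd_left hpH hcop)
  have hfac : (Nat.card G).factorization p = (Nat.card H).factorization p := by
    rw [← Subgroup.card_mul_index H, Nat.factorization_mul Nat.card_pos.ne'
      (Subgroup.index_ne_zero_of_finite), Finsupp.add_apply,
      Nat.factorization_eq_zero_of_not_dvd hnd, add_zero]
  have hPS : P' = S := by
    apply Subgroup.eq_of_le_of_card_ge hP'S
    rw [Subgroup.card_map_of_injective H.subtype_injective, P.card_eq_multiplicity,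
      S.card_eq_multiplicity, hfac]
  rw [← hPS]
  exact Subgroup.map_subtype_le _

/-- A maximal nilpotent subgroup containing a Sylow `p`-subgroup `S` of a CN-group is the centralizer
of any nonidentity central element of `S`. -/
theorem cn_max_nilpotent_eq_centralizer [Finite G] (hCN : Cfsg.IsCNGroup G) (H : Subgroup G)
    (hH : Group.IsNilpotent H)
    (hmax : ∀ L : Subgroup G, Group.IsNilpotent L → H ≤ L → L = H) {p : ℕ} [hp : Fact p.Prime]
    (S : Sylow p G) (hSH : (S : Subgroup G) ≤ H) {z : G} (hzS : z ∈ (S : Subgroup G))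
    (hz1 : z ≠ 1) (hzc : ∀ y ∈ (S : Subgroup G), y * z = z * y) :
    Subgroup.centralizer ({z} : Set G) = H := by
  apply hmax _ (hCN z hz1)
  obtain ⟨kz, hkz⟩ := exists_orderOf_eq_pow_of_mem_isPGroup S.2 hzS
  apply le_centralizer_of_commute_pElements hH (hSH hzS) kz hkz
  intro y hy k hk
  have h1 : y ∈ ((S.subtype hSH : Sylow p H) : Subgroup H).map H.subtype :=
    mem_sylow_map_of_mem hH (S.subtype hSH) hy k hk
  rw [Sylow.coe_subtype, Subgroup.map_subgroupOf_eq_of_le hSH] at h1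
  exact hzc y h1

theorem centralizer_conj_singleton (g z : G) :
    Subgroup.centralizer ({g * z * g⁻¹} : Set G) =
      (Subgroup.centralizer ({z} : Set G)).map (MulAut.conj g).toMonoidHom := by
  ext x
  rw [← conj_smul_eq_map, mem_conj_smul, Subgroup.mem_centralizer_singleton_iff,
    Subgroup.mem_centralizer_singleton_iff]
  constructor
  · intro h
    have e1 : z * (g⁻¹ * x * g) = g⁻¹ * (g * z * g⁻¹ * x) * g := by group
    have e2 : g⁻¹ * x * g * z = g⁻¹ * (x * (g * z * g⁻¹)) * g := by group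
    rw [e1, e2, h]
  · intro h
    have e1 : g * z * g⁻¹ * x = g * (z * (g⁻¹ * x * g)) * g⁻¹ := by group
    have e2 : x * (g * z * g⁻¹) = g * (g⁻¹ * x * g * z) * g⁻¹ := by group
    rw [e1, e2, h]

/-- Two maximal nilpotent subgroups of a CN-group are conjugate or have coprime orders. -/
theorem cn_max_nilpotent_conj_or_coprime [Finite G] (hCN : Cfsg.IsCNGroup G) (H₁ H₂ : Subgroup G)
    (h₁ : Group.IsNilpotent ↥H₁ ∧ ∀ L : Subgroup G, Group.IsNilpotent L → H₁ ≤ L → L = H₁)
    (h₂ : Group.IsNilpotent ↥H₂ ∧ ∀ L : Subgroup G, Group.IsNilpotent L → H₂ ≤ L → L = H₂) :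
    (∃ g : G, H₂ = H₁.map (MulAut.conj g).toMonoidHom) ∨
      (Nat.card H₁).Coprime (Nat.card H₂) := by
  by_cases hcop : (Nat.card H₁).Coprime (Nat.card H₂)
  · exact Or.inr hcop
  left
  obtain ⟨p, hp, hp1, hp2⟩ := Nat.Prime.not_coprime_iff_dvd.mp hcop
  haveI := Fact.mk hp
  obtain ⟨S₁, hS₁⟩ := cn_max_nilpotent_sylow hCN H₁ h₁.1 h₁.2 hp1
  obtain ⟨S₂, hS₂⟩ := cn_max_nilpotent_sylow hCN H₂ h₂.1 h₂.2 hp2
  obtain ⟨g, hg⟩ := MulAction.exists_smul_eq G S₁ S₂
  have hS₁ne : (S₁ : Subgroup G) ≠ ⊥ :=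
    S₁.ne_bot_of_dvd_card (hp1.trans (Subgroup.card_subgroup_dvd_card H₁))
  obtain ⟨z, hzS, hz1, hzc⟩ := exists_central_ne_one S₁.2.isNilpotent hS₁ne
  have e₁ := cn_max_nilpotent_eq_centralizer hCN H₁ h₁.1 h₁.2 S₁ hS₁ hzS hz1
    (fun y hy => (hzc y hy).symm)
  have hS₂eq : (S₂ : Subgroup G) = MulAut.conj g • (S₁ : Subgroup G) := by
    rw [← hg, Sylow.coe_subgroup_smul]
  have hz'S : g * z * g⁻¹ ∈ (S₂ : Subgroup G) := by
    rw [hS₂eq]; exact conj_mem_conj_smul hzS
  have hz'1 : g * z * g⁻¹ ≠ 1 := by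
    intro h
    apply hz1
    have : z = g⁻¹ * (g * z * g⁻¹) * g := by group
    rw [this, h]; group
  have e₂ := cn_max_nilpotent_eq_centralizer hCN H₂ h₂.1 h₂.2 S₂ hS₂ hz'S hz'1 (by
    intro y hy
    rw [hS₂eq, mem_conj_smul] at hy
    have h3 := hzc _ hy
    have e1 : y * (g * z * g⁻¹) = g * (g⁻¹ * y * g * z) * g⁻¹ := by group
    have e2 : g * z * g⁻¹ * y = g * (z * (g⁻¹ * y * g)) * g⁻¹ := by group
    rw [e1, e2, h3])
  refine ⟨g, ?_⟩
  rw [← e₁, ← e₂]
  exact centralizer_conj_singleton g z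

theorem isPGroup_zpowers_iff {p : ℕ} [hp : Fact p.Prime] (x : G) :
    IsPGroup p (Subgroup.zpowers x) ↔ ∃ k, orderOf x = p ^ k := by
  constructor
  · intro h
    exact exists_orderOf_eq_pow_of_mem_isPGroup h (Subgroup.mem_zpowers x)
  · rintro ⟨k, hk⟩
    apply IsPGroup.of_card (n := k)
    rw [Nat.card_zpowers, hk]

/-- The commuting relation between primes in a CN-group is transitive. -/
theorem cn_commuting_primes_trans [Finite G] (hCN : Cfsg.IsCNGroup G) (p q r : ℕ) (hp : p.Prime)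
    (hq : q.Prime) (hr : r.Prime) (x y y' z : G) (hx1 : x ≠ 1) (hy1 : y ≠ 1) (hy'1 : y' ≠ 1)
    (hz1 : z ≠ 1) (hx : IsPGroup p (Subgroup.zpowers x)) (hy : IsPGroup q (Subgroup.zpowers y))
    (hy' : IsPGroup q (Subgroup.zpowers y')) (hz : IsPGroup r (Subgroup.zpowers z))
    (hxy : x * y = y * x) (hy'z : y' * z = z * y') :
    ∃ x' z' : G, x' ≠ 1 ∧ z' ≠ 1 ∧ IsPGroup p (Subgroup.zpowers x') ∧
      IsPGroup r (Subgroup.zpowers z') ∧ x' * z' = z' * x' := by
  haveI := Fact.mk hp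
  haveI := Fact.mk hq
  haveI := Fact.mk hr
  by_cases hpr : p = r
  · subst hpr
    exact ⟨x, x, hx1, hx1, hx, hx, rfl⟩
  by_cases hpq : p = q
  · subst hpq
    exact ⟨y', z, hy'1, hz1, hy', hz, hy'z⟩
  by_cases hqr : q = r
  · subst hqr
    exact ⟨x, y, hx1, hy1, hx, hy, hxy⟩
  -- all distinct
  obtain ⟨Q, hyQ⟩ := hy.exists_le_sylow
  obtain ⟨Q', hy'Q'⟩ := hy'.exists_le_sylow
  obtain ⟨g, hg⟩ := MulAction.exists_smul_eq G Q' Q
  have hQeq : (Q : Subgroup G) = MulAut.conj g • (Q' : Subgroup G) := by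
    rw [← hg, Sylow.coe_subgroup_smul]
  have hyQ' : y ∈ (Q : Subgroup G) := hyQ (Subgroup.mem_zpowers y)
  set y'' := g * y' * g⁻¹ with hy''
  set z'' := g * z * g⁻¹ with hz''
  have hy''Q : y'' ∈ (Q : Subgroup G) := by
    rw [hQeq]; exact conj_mem_conj_smul (hy'Q' (Subgroup.mem_zpowers y'))
  have hy''1 : y'' ≠ 1 := by
    intro h
    apply hy'1
    have : y' = g⁻¹ * y'' * g := by rw [hy'']; group
    rw [this, h]; group
  have hz''1 : z'' ≠ 1 := by
    intro h
    apply hz1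
    have : z = g⁻¹ * z'' * g := by rw [hz'']; group
    rw [this, h]; group
  have hcomm'' : y'' * z'' = z'' * y'' := by
    have e1 : y'' * z'' = g * (y' * z) * g⁻¹ := by rw [hy'', hz'']; group
    have e2 : z'' * y'' = g * (z * y') * g⁻¹ := by rw [hy'', hz'']; group
    rw [e1, e2, hy'z]
  have hQne : (Q : Subgroup G) ≠ ⊥ := by
    intro h
    rw [h, Subgroup.mem_bot] at hyQ'
    exact hy1 hyQ'
  obtain ⟨w, hwQ, hw1, hwc⟩ := exists_central_ne_one Q.2.isNilpotent hQne
  obtain ⟨kx, hkx⟩ := (isPGroup_zpowers_iff x).mp hx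
  obtain ⟨kz, hkz⟩ := (isPGroup_zpowers_iff z).mp hz
  obtain ⟨kw, hkw⟩ := exists_orderOf_eq_pow_of_mem_isPGroup Q.2 hwQ
  have hoz'' : orderOf z'' = r ^ kz := by
    rw [← hkz]
    have hsc : SemiconjBy g z z'' := by
      rw [hz'']
      unfold SemiconjBy
      group
    exact (hsc.orderOf_eq g).symm
  -- `x` and `w` commute inside `C(y)`
  have hxw : x * w = w * x := by
    apply commute_of_coprime_orderOf_of_mem (hCN y hy1)
    · rw [Subgroup.mem_centralizer_singleton_iff]; exact hxy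
    · rw [Subgroup.mem_centralizer_singleton_iff]; exact hwc y hyQ'
    · rw [hkx, hkw]
      exact Nat.Coprime.pow _ _ ((Nat.coprime_primes hp hq).2 hpq)
  have hzw : z'' * w = w * z'' := by
    apply commute_of_coprime_orderOf_of_mem (hCN y'' hy''1)
    · rw [Subgroup.mem_centralizer_singleton_iff]; exact hcomm''.symm
    · rw [Subgroup.mem_centralizer_singleton_iff]; exact hwc y'' hy''Q
    · rw [hoz'', hkw]
      exact Nat.Coprime.pow _ _ ((Nat.coprime_primes hr hq).2 (Ne.symm hqr))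
  have hxz : x * z'' = z'' * x := by
    apply commute_of_coprime_orderOf_of_mem (hCN w hw1)
    · rw [Subgroup.mem_centralizer_singleton_iff]; exact hxw
    · rw [Subgroup.mem_centralizer_singleton_iff]; exact hzw
    · rw [hkx, hoz'']
      exact Nat.Coprime.pow _ _ ((Nat.coprime_primes hp hr).2 hpr)
  exact ⟨x, z'', hx1, hz''1, hx, (isPGroup_zpowers_iff z'').mpr ⟨kz, hoz''⟩, hxz⟩

end Cfsg.Agent.Helper1
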