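import Mathlib
import Cfsg.Agent.Helper1.Basic
import Cfsg.Agent.Helper1.Coprime
import Cfsg.Agent.Helper1.Card
import Cfsg.Agent.Helper3.IrrCyclic

set_option autoImplicit false

/-!
Normal Hall subgroups are unique of their order; Hall subgroups of nilpotent groups are normal.
-/

namespace Cfsg.Agent.Helper1

open scoped Pointwise

universe u

variable {G : Type u} [Group G]

/-- relative uniqueness of normal Hall subgroups -/
theorem le_of_normal_hall_rel [Finite G] {H H' D : Subgroup G} (hHD : H ≤ D)
    (hDn : D ≤ Subgroup.normalizer (H : Set G)) (hH'D : H' ≤ D)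
    (hcop : (Nat.card H).Coprime (H.relIndex D)) (hcard : Nat.card H' ∣ Nat.card H) :
    H' ≤ H := by
  haveI : (H.subgroupOf D).Normal := (Subgroup.normal_subgroupOf_iff_le_normalizer hHD).2 hDn
  have h1 : H.relIndex H' ∣ H.relIndex D := by
    have := Subgroup.relIndex_dvd_index_of_normal (H.subgroupOf D) (H'.subgroupOf D)
    rwa [Subgroup.relIndex_subgroupOf hH'D] at this
  have h2 : H.relIndex H' ∣ Nat.card H := (Subgroup.relIndex_dvd_card _ _).trans hcard
  have h3 := Nat.eq_one_of_dvd_coprimes hcop h2 h1
  exact Subgroup.relIndex_eq_one.1 h3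

/-- a Hall subgroup of a finite nilpotent group is normal -/
theorem normal_of_hall_of_nilpotent [Finite G] [hG : Group.IsNilpotent G] (H : Subgroup G)
    (hcop : (Nat.card H).Coprime H.index) : H.Normal := by
  rw [← Subgroup.normalizer_eq_top_iff]
  by_contra hne
  have hnc : NormalizerCondition G := Group.normalizerCondition_of_isNilpotent
  set N := Subgroup.normalizer (H : Set G) with hN
  have hlt := hnc N (lt_top_iff_ne_top.2 hne)
  obtain ⟨g, hgN, hg⟩ := SetLike.exists_of_lt hlt
  apply hg
  have hHN : H ≤ N := Subgroup.le_normalizer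
  have h1 : MulAut.conj g • H ≤ N := by
    have h2 : MulAut.conj g • N = N := conj_smul_eq_of_mem_normalizer hgN
    rw [← h2]
    intro x hx
    rw [mem_conj_smul] at hx ⊢
    exact hHN hx
  have h3 : (Nat.card H).Coprime (H.relIndex N) :=
    Nat.Coprime.coprime_dvd_right (Subgroup.relIndex_dvd_index_of_le hHN) hcop
  have h4 : MulAut.conj g • H ≤ H :=
    le_of_normal_hall_rel hHN le_rfl h1 h3 (by rw [card_conj_smul])
  apply Cfsg.Agent.Helper3.IrrCyclic.mem_normalizer_of_conj_le
  intro b hb
  exact h4 (conj_mem_conj_smul hb)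

/-- relative form -/
theorem le_normalizer_of_hall_nilpotent [Finite G] {H D : Subgroup G}
    (hD : Group.IsNilpotent D) (hHD : H ≤ D) (hcop : (Nat.card H).Coprime (H.relIndex D)) :
    D ≤ Subgroup.normalizer (H : Set G) := by
  rw [← Subgroup.normal_subgroupOf_iff_le_normalizer hHD]
  apply normal_of_hall_of_nilpotent
  rw [card_subgroupOf_of_le hHD]
  exact hcop

end Cfsg.Agent.Helper1
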