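import Mathlib
import Cfsg.Agent.S0031
import Cfsg.Agent.S0032

set_option autoImplicit false

/-!
Thompson's theorem: a finite group with a fixed-point-free automorphism of prime order is nilpotent.
Part 1: generalities on fixed-point-free automorphisms and the Frobenius action lemma.
-/

namespace Cfsg.Agent.Helper1

namespace TFPF

open Function

universe u

section abstract

variable {P M : Type*} [Group P] [Fintype P] [CommGroup M]

/-- The averaging identity for a Frobenius-like action. -/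
theorem pow_card_eq_prod_of_fpf (ρ : P →* MulAut M) (α : P ≃* P) (β : M ≃* M) (r : ℕ)
    (hcompat : ∀ y m, β (ρ y m) = ρ (α y) (β m))
    (hβ : ∀ m, ∏ k ∈ Finset.range r, (β^[k]) m = 1)
    (hα : ∀ k, 0 < k → k < r → Function.Bijective (fun y : P => y⁻¹ * (α^[k]) y))
    (hr : 0 < r) (m : M) : m ^ Fintype.card P = ∏ y : P, ρ y m := by
  have h1 : ∀ (k : ℕ) (y : P) (m : M), β^[k] (ρ y m) = ρ (α^[k] y) (β^[k] m) := by
    intro k
    induction k with
    | zero => intro y m; rfl
    | succ k ih =>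
      intro y m
      rw [Function.iterate_succ_apply', Function.iterate_succ_apply', Function.iterate_succ_apply',
        ih, hcompat]
  have hT1 : (∏ y : P, ρ y (1 : M)) = 1 := by
    apply Finset.prod_eq_one
    intro y _
    exact map_one _
  have hTmul : ∀ (s : Finset ℕ) (f : ℕ → M), (∏ y : P, ρ y (∏ k ∈ s, f k)) =
      ∏ k ∈ s, ∏ y : P, ρ y (f k) := by
    intro s f
    rw [Finset.prod_comm]
    apply Finset.prod_congr rfl
    intro y _
    exact map_prod (ρ y) f s
  have h2 : ∀ y : P, ∏ k ∈ Finset.range r, ρ (y⁻¹ * α^[k] y) (β^[k] m) = 1 := by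
    intro y
    have e : ∀ k ∈ Finset.range r, ρ (y⁻¹ * α^[k] y) (β^[k] m) = ρ y⁻¹ (β^[k] (ρ y m)) := by
      intro k _
      rw [h1, map_mul, MulAut.mul_apply]
    rw [Finset.prod_congr rfl e, ← map_prod, hβ, map_one]
  have h3 : ∏ k ∈ Finset.range r, ∏ y : P, ρ (y⁻¹ * α^[k] y) (β^[k] m) = 1 := by
    rw [Finset.prod_comm]
    apply Finset.prod_eq_one
    intro y _
    exact h2 y
  obtain ⟨r', rfl⟩ : ∃ r', r = r' + 1 := ⟨r - 1, by omega⟩
  rw [Finset.prod_range_succ'] at h3
  have h4 : ∏ y : P, ρ (y⁻¹ * α^[0] y) (β^[0] m) = m ^ Fintype.card P := by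
    have : ∀ y ∈ (Finset.univ : Finset P), ρ (y⁻¹ * α^[0] y) (β^[0] m) = m := by
      intro y _
      rw [Function.iterate_zero_apply, Function.iterate_zero_apply, inv_mul_cancel, map_one,
        MulAut.one_apply]
    rw [Finset.prod_congr rfl this, Finset.prod_const, Finset.card_univ]
  have h5 : ∀ k ∈ Finset.range r', ∏ y : P, ρ (y⁻¹ * α^[k + 1] y) (β^[k + 1] m) =
      ∏ y : P, ρ y (β^[k + 1] m) := by
    intro k hk
    have hk' : k + 1 < r' + 1 := by
      have := Finset.mem_range.1 hk
      omega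
    exact (hα (k + 1) (Nat.succ_pos k) hk').prod_comp (fun z => ρ z (β^[k + 1] m))
  rw [Finset.prod_congr rfl h5, h4] at h3
  have h6 : ∏ k ∈ Finset.range (r' + 1), ∏ y : P, ρ y (β^[k] m) = 1 := by
    rw [← hTmul, hβ, hT1]
  rw [Finset.prod_range_succ'] at h6
  have h7 : ∏ y : P, ρ y (β^[0] m) = ∏ y : P, ρ y m := rfl
  rw [h7] at h6
  calc m ^ Fintype.card P = ((∏ k ∈ Finset.range r', ∏ y : P, ρ y (β^[k + 1] m)))⁻¹ :=
        eq_inv_of_mul_eq_one_right h3
    _ = ∏ y : P, ρ y m := (eq_inv_of_mul_eq_one_right h6).symm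

end abstract

section good

variable {G : Type u} [Group G]

/-- `φ` is fixed-point-free with `φ ^ r = 1`. -/
structure Good (r : ℕ) (φ : G ≃* G) : Prop where
  fpf : ∀ g, φ g = g → g = 1
  per : ∀ g, (⇑φ)^[r] g = g

theorem iterate_eq_pow (φ : G ≃* G) (n : ℕ) (g : G) : (⇑φ)^[n] g = ((φ : MulAut G) ^ n) g := by
  induction n generalizing g with
  | zero => rfl
  | succ n ih => rw [pow_succ, MulAut.mul_apply, ← ih, Function.iterate_succ_apply]

theorem iterate_mul (φ : G ≃* G) (n : ℕ) (g h : G) :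
    (⇑φ)^[n] (g * h) = (⇑φ)^[n] g * (⇑φ)^[n] h := by
  rw [iterate_eq_pow, iterate_eq_pow, iterate_eq_pow, map_mul]

theorem iterate_inv (φ : G ≃* G) (n : ℕ) (g : G) : (⇑φ)^[n] g⁻¹ = ((⇑φ)^[n] g)⁻¹ := by
  rw [iterate_eq_pow, iterate_eq_pow, map_inv]

theorem Good.iterate_fpf {r : ℕ} {φ : G ≃* G} (h : Good r φ) (hr : r.Prime) {k : ℕ} (hk0 : 0 < k)
    (hkr : k < r) (g : G) (hg : (⇑φ)^[k] g = g) : g = 1 := by
  apply h.fpf
  have h1 : Function.IsPeriodicPt (⇑φ) k g := hg
  have h2 : Function.IsPeriodicPt (⇑φ) r g := h.per g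
  have h3 := h1.gcd h2
  have h4 : Nat.gcd k r = 1 := by
    rw [Nat.gcd_comm]
    exact (Nat.Prime.coprime_iff_not_dvd hr).2 (Nat.not_dvd_of_pos_of_lt hk0 hkr)
  rw [h4] at h3
  exact h3

theorem Good.bijective_commutator [Finite G] {r : ℕ} {φ : G ≃* G} (h : Good r φ) (hr : r.Prime)
    {k : ℕ} (hk0 : 0 < k) (hkr : k < r) :
    Function.Bijective (fun y : G => y⁻¹ * (⇑φ)^[k] y) := by
  apply Finite.injective_iff_bijective.1
  intro y z hyz
  have hyz' : y⁻¹ * (⇑φ)^[k] y = z⁻¹ * (⇑φ)^[k] z := hyz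
  have h1 : (⇑φ)^[k] (z * y⁻¹) = z * y⁻¹ := by
    rw [iterate_mul, iterate_inv]
    have e : (⇑φ)^[k] z = z * (y⁻¹ * (⇑φ)^[k] y) := by rw [hyz']; group
    rw [e]
    group
  have h2 := h.iterate_fpf hr hk0 hkr _ h1
  rw [mul_inv_eq_one] at h2
  exact h2.symm

theorem list_prod_eq_finset_prod {M : Type*} [CommMonoid M] (f : ℕ → M) (n : ℕ) :
    ((List.range n).map f).prod = ∏ k ∈ Finset.range n, f k := by
  induction n with
  | zero => simp
  | succ n ih =>
    rw [List.range_succ, List.map_append, List.prod_append, ih, Finset.prod_range_succ]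
    simp

theorem Good.prod_eq_one {M : Type*} [CommGroup M] [Finite M] {r : ℕ} {β : M ≃* M}
    (h : Good r β) (m : M) : ∏ k ∈ Finset.range r, (⇑β)^[k] m = 1 := by
  have hf : MonoidHom.FixedPointFree (β : M →* M) := fun g hg => h.fpf g hg
  have hn : (⇑(β : M →* M))^[r] = _root_.id := by
    funext g
    exact h.per g
  have := hf.prod_pow_eq_one hn m
  rw [list_prod_eq_finset_prod] at this
  exact this

/-- A subgroup mapped into itself by `φ` is mapped onto itself. -/
theorem map_eq_of_forall_mem [Finite G] (φ : G ≃* G) (H : Subgroup G) (hH : ∀ x ∈ H, φ x ∈ H) :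
    H.map φ.toMonoidHom = H := by
  apply Subgroup.eq_of_le_of_card_ge
  · rintro _ ⟨x, hx, rfl⟩
    exact hH x hx
  · rw [Subgroup.card_map_of_injective φ.injective]

/-- The restriction of `φ` to an invariant subgroup. -/
def restrict (φ : G ≃* G) (H : Subgroup G) (hH : H.map φ.toMonoidHom = H) : H ≃* H :=
  (φ.subgroupMap H).trans (MulEquiv.subgroupCongr hH)

theorem restrict_coe (φ : G ≃* G) (H : Subgroup G) (hH : H.map φ.toMonoidHom = H) (x : H) :
    ((restrict φ H hH x : H) : G) = φ x := rfl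

theorem restrict_iterate_coe (φ : G ≃* G) (H : Subgroup G) (hH : H.map φ.toMonoidHom = H) (n : ℕ)
    (x : H) : (((⇑(restrict φ H hH))^[n] x : H) : G) = (⇑φ)^[n] x := by
  induction n generalizing x with
  | zero => rfl
  | succ n ih => rw [Function.iterate_succ_apply, ih, restrict_coe, Function.iterate_succ_apply]

theorem Good.restrict {r : ℕ} {φ : G ≃* G} (h : Good r φ) (H : Subgroup G)
    (hH : H.map φ.toMonoidHom = H) : Good r (restrict φ H hH) := by
  constructor
  · intro x hx
    have h1 := congrArg Subtype.val hx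
    rw [restrict_coe] at h1
    exact Subtype.ext (h.fpf _ h1)
  · intro x
    apply Subtype.ext
    rw [restrict_iterate_coe]
    exact h.per _

/-- The automorphism induced on the quotient by an invariant normal subgroup. -/
def quot (φ : G ≃* G) (N : Subgroup G) [N.Normal] (hN : N.map φ.toMonoidHom = N) :
    G ⧸ N ≃* G ⧸ N := QuotientGroup.congr N N φ hN

theorem quot_mk (φ : G ≃* G) (N : Subgroup G) [N.Normal] (hN : N.map φ.toMonoidHom = N) (x : G) :
    quot φ N hN (QuotientGroup.mk x) = QuotientGroup.mk (φ x) := rfl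

theorem quot_iterate_mk (φ : G ≃* G) (N : Subgroup G) [N.Normal] (hN : N.map φ.toMonoidHom = N)
    (n : ℕ) (x : G) :
    (⇑(quot φ N hN))^[n] (QuotientGroup.mk x) = QuotientGroup.mk ((⇑φ)^[n] x) := by
  induction n generalizing x with
  | zero => rfl
  | succ n ih => rw [Function.iterate_succ_apply, quot_mk, ih, Function.iterate_succ_apply]

theorem Good.quot [Finite G] {r : ℕ} {φ : G ≃* G} (h : Good r φ) (N : Subgroup G) [N.Normal]
    (hN : N.map φ.toMonoidHom = N) : Good r (quot φ N hN) := by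
  constructor
  · intro x hx
    obtain ⟨g, rfl⟩ := QuotientGroup.mk_surjective x
    rw [quot_mk, QuotientGroup.eq] at hx
    have hf : MonoidHom.FixedPointFree (φ : G →* G) := fun g hg => h.fpf g hg
    have hNmem : ∀ n ∈ N, φ n ∈ N := by
      intro n hn
      rw [← hN]
      exact ⟨n, hn, rfl⟩
    have := Cfsg.Agent.S0032.result φ hf N hNmem g hx
    exact (QuotientGroup.eq_one_iff g).2 this
  · intro x
    obtain ⟨g, rfl⟩ := QuotientGroup.mk_surjective x
    rw [quot_iterate_mk, h.per]

end good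

section frobact

variable {G : Type u} [Group G]

open scoped IsMulCommutative in
/-- If `φ` is fixed-point-free of prime order on `G`, an invariant subgroup `P` acting coprimely on an
invariant abelian normal subgroup `M` centralizes it. -/
theorem centralizes_of_fpf [Finite G] {r : ℕ} (hr : r.Prime) {φ : G ≃* G} (h : Good r φ)
    (M P : Subgroup G) [hMn : M.Normal] (hMc : IsMulCommutative M)
    (hMφ : M.map φ.toMonoidHom = M) (hPφ : P.map φ.toMonoidHom = P)
    (hcop : (Nat.card P).Coprime (Nat.card M)) : P ≤ Subgroup.centralizer (M : Set G) := by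
  haveI := hMc
  haveI : Fintype P := Fintype.ofFinite P
  let ρ : P →* MulAut M := (MulAut.conjNormal (H := M)).comp P.subtype
  have hρ : ∀ (y : P) (m : M), ((ρ y m : M) : G) = (y : G) * m * (y : G)⁻¹ := fun y m => rfl
  have hcompat : ∀ (y : P) (m : M), restrict φ M hMφ (ρ y m) =
      ρ (restrict φ P hPφ y) (restrict φ M hMφ m) := by
    intro y m
    apply Subtype.ext
    rw [restrict_coe, hρ, hρ, restrict_coe, restrict_coe, map_mul, map_mul, map_inv]
  have key := pow_card_eq_prod_of_fpf ρ (restrict φ P hPφ) (restrict φ M hMφ) r hcompat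
    (h.restrict M hMφ).prod_eq_one
    (fun k hk0 hkr => (h.restrict P hPφ).bijective_commutator hr hk0 hkr) hr.pos
  have hfix : ∀ (z : P) (m : M), ρ z m = m := by
    intro z m
    have h1 : ρ z (m ^ Fintype.card P) = m ^ Fintype.card P := by
      rw [key, map_prod]
      have : ∀ y : P, ρ z (ρ y m) = ρ (z * y) m := fun y => by rw [map_mul, MulAut.mul_apply]
      simp_rw [this]
      exact (Group.mulLeft_bijective z).prod_comp (fun y => ρ y m)
    rw [map_pow] at h1
    have hcop' : (Nat.card M).Coprime (Fintype.card P) := by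
      rw [← Nat.card_eq_fintype_card]
      exact hcop.symm
    exact (powCoprime hcop').injective h1
  intro z hz
  rw [Subgroup.mem_centralizer_iff]
  intro m hm
  have := congrArg Subtype.val (hfix ⟨z, hz⟩ ⟨m, hm⟩)
  rw [hρ] at this
  calc m * z = (z * m * z⁻¹) * z := by rw [this]
    _ = z * m := by group

end frobact

end TFPF

end Cfsg.Agent.Helper1
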