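import Mathlib
import Cfsg.Agent.Helper1.ThompsonFPF
import Cfsg.Agent.Helper1.ThompsonNPC
import Cfsg.Agent.Helper1.MinNonPNilp

set_option autoImplicit false

/-!
Thompson's theorem: a finite group with a fixed-point-free automorphism of prime order is nilpotent.
Part 2: the induction.
-/

namespace Cfsg.Agent.Helper1

namespace TFPF

open Function
open scoped commutatorElement

universe u

variable {G : Type u} [Group G]

theorem isSolvable_of_normal (N : Subgroup G) [N.Normal] (hN : Group.IsSolvable N)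
    (hQ : Group.IsSolvable (G ⧸ N)) : Group.IsSolvable G := by
  refine Group.isSolvable_of_ker_le_range N.subtype (QuotientGroup.mk' N) ?_
  rw [QuotientGroup.ker_mk', Subgroup.range_subtype]

theorem card_quotient_lt [Finite G] (N : Subgroup G) [N.Normal] (hN : N ≠ ⊥) :
    Nat.card (G ⧸ N) < Nat.card G := by
  have h1 := Subgroup.card_eq_card_quotient_mul_card_subgroup N
  have h2 : 1 < Nat.card N := by
    rcases Nat.lt_or_ge 1 (Nat.card N) with h | h
    · exact h
    · exfalso
      have : Nat.card N = 1 := le_antisymm h Nat.card_pos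
      exact hN (Subgroup.card_eq_one.1 this)
  have h3 : 0 < Nat.card (G ⧸ N) := Nat.card_pos
  rw [h1]
  nlinarith

theorem card_subgroup_lt [Finite G] (H : Subgroup G) (hH : H ≠ ⊤) : Nat.card H < Nat.card G := by
  rcases lt_or_eq_of_le (Subgroup.card_le_card_group H) with h | h
  · exact h
  · exact absurd ((Subgroup.card_eq_iff_eq_top H).1 h) hH

/-- The induction hypothesis. -/
def IH (r n : ℕ) : Prop :=
  ∀ m < n, ∀ (H : Type u) [Group H] [Finite H] (ψ : H ≃* H), Nat.card H = m → Good r ψ →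
    Group.IsNilpotent H

theorem IH.quot [Finite G] {r n : ℕ} (ih : IH.{u} r n) (hn : Nat.card G = n) {φ : G ≃* G}
    (h : Good r φ) (N : Subgroup G) [N.Normal] (hNφ : N.map φ.toMonoidHom = N) (hN : N ≠ ⊥) :
    Group.IsNilpotent (G ⧸ N) :=
  ih _ (hn ▸ card_quotient_lt N hN) (G ⧸ N) (TFPF.quot φ N hNφ) rfl (h.quot N hNφ)

theorem IH.sub [Finite G] {r n : ℕ} (ih : IH.{u} r n) (hn : Nat.card G = n) {φ : G ≃* G}
    (h : Good r φ) (H : Subgroup G) (hHφ : H.map φ.toMonoidHom = H) (hH : H ≠ ⊤) :
    Group.IsNilpotent H :=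
  ih _ (hn ▸ card_subgroup_lt H hH) H (TFPF.restrict φ H hHφ) rfl (h.restrict H hHφ)

/-- The solvable case. -/
theorem nilpotent_of_solvable [Finite G] {r n : ℕ} (hr : r.Prime) (ih : IH.{u} r n)
    (hn : Nat.card G = n) {φ : G ≃* G} (h : Good r φ) (hsolv : Group.IsSolvable G) :
    Group.IsNilpotent G := by
  by_cases htriv : Subsingleton G
  · infer_instance
  rw [not_subsingleton_iff_nontrivial] at htriv
  -- the last nontrivial term of the derived series
  have hex : ∃ k, derivedSeries G k = ⊥ := hsolv.solvable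
  classical
  obtain ⟨k, hk, hkmin⟩ : ∃ k, derivedSeries G k = ⊥ ∧ ∀ j < k, derivedSeries G j ≠ ⊥ :=
    ⟨Nat.find hex, Nat.find_spec hex, fun j hj => Nat.find_min hex hj⟩
  have hk0 : k ≠ 0 := by
    rintro rfl
    rw [derivedSeries_zero] at hk
    exact top_ne_bot hk
  obtain ⟨D, hD⟩ : ∃ D, D = derivedSeries G (k - 1) := ⟨_, rfl⟩
  have hD1 : D ≠ ⊥ := hD ▸ hkmin (k - 1) (by omega)
  haveI hDchar : D.Characteristic := hD ▸ derivedSeries_characteristic G (k - 1)
  have hDD : ⁅D, D⁆ = ⊥ := by
    have : derivedSeries G (k - 1 + 1) = ⊥ := by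
      have e : k - 1 + 1 = k := by omega
      rw [e]; exact hk
    rw [derivedSeries_succ] at this
    rw [hD]; exact this
  have hDc : IsMulCommutative D := by
    refine ⟨⟨fun x y => Subtype.ext ?_⟩⟩
    have h1 : ⁅(x : G), (y : G)⁆ ∈ ⁅D, D⁆ := Subgroup.commutator_mem_commutator x.2 y.2
    rw [hDD, Subgroup.mem_bot, commutatorElement_eq_one_iff_mul_comm] at h1
    exact h1
  -- a prime `q` dividing `|D|`
  have hDcard : Nat.card D ≠ 1 := fun hc => hD1 (Subgroup.card_eq_one.1 hc)
  obtain ⟨q, hq, hqD⟩ := Nat.exists_prime_and_dvd hDcard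
  haveI : Fact q.Prime := ⟨hq⟩
  obtain ⟨M, hM⟩ : ∃ M, M = PStableStruct.omegaAb D hDc q := ⟨_, rfl⟩
  haveI hMn : M.Normal := hM ▸ PStableStruct.omegaAb_normal D hDc q
  have hMD : M ≤ D := hM ▸ PStableStruct.omegaAb_le D hDc q
  have hM1 : M ≠ ⊥ := by
    obtain ⟨z, hz⟩ := exists_prime_orderOf_dvd_card' q hqD
    intro hbot
    have hzM : (z : G) ∈ M := by
      rw [hM, PStableStruct.mem_omegaAb]
      refine ⟨z.2, ?_⟩
      have : z ^ q = 1 := by
        have h := pow_orderOf_eq_one z
        rwa [hz] at h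
      exact_mod_cast congrArg Subtype.val this
    rw [hbot, Subgroup.mem_bot] at hzM
    have hz1 : z = 1 := Subtype.ext hzM
    rw [hz1, orderOf_one] at hz
    exact hq.one_lt.ne hz
  have hMq : IsPGroup q M := by
    rintro ⟨x, hx⟩
    rw [hM, PStableStruct.mem_omegaAb] at hx
    exact ⟨1, Subtype.ext (by simpa using hx.2)⟩
  have hMc : IsMulCommutative M := by
    refine ⟨⟨fun x y => Subtype.ext ?_⟩⟩
    have := mul_comm' (⟨x, hMD x.2⟩ : D) ⟨y, hMD y.2⟩
    have h := congrArg Subtype.val this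
    show (x : G) * y = y * x
    exact h
  have hMφ : M.map φ.toMonoidHom = M := by
    apply map_eq_of_forall_mem
    intro x hx
    rw [hM, PStableStruct.mem_omegaAb] at hx ⊢
    refine ⟨?_, by rw [← map_pow, hx.2, map_one]⟩
    have := Subgroup.characteristic_iff_map_eq.1 hDchar φ
    rw [← this]
    exact ⟨x, hx.1, rfl⟩
  have hQnil : Group.IsNilpotent (G ⧸ M) := ih.quot hn h M hMφ hM1
  -- every Sylow subgroup is normal
  have hf : MonoidHom.FixedPointFree (φ : G →* G) := fun g hg => h.fpf g hg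
  have hall : ∀ (p : ℕ) (_ : Fact p.Prime) (P : Sylow p G), (P : Subgroup G).Normal := by
    intro p hp P
    obtain ⟨P₀, hP₀⟩ := Cfsg.Agent.S0031.result φ hf p
    have hP₀φ : (P₀ : Subgroup G).map φ.toMonoidHom = P₀ := hP₀
    suffices hP₀n : (P₀ : Subgroup G).Normal by
      obtain ⟨g, rfl⟩ := MulAction.exists_smul_eq G P₀ P
      haveI := hP₀n
      rw [Sylow.smul_eq_of_normal]
      exact hP₀n
    obtain ⟨N, hN⟩ : ∃ N, N = (P₀ : Subgroup G) ⊔ M := ⟨_, rfl⟩
    have hNn : N.Normal := by
      have hsylall := ((Group.isNilpotent_of_finite_tfae (G := G ⧸ M)).out 0 3).1 hQnil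
      have hsyl := hsylall p hp (P₀.mapSurjective (QuotientGroup.mk'_surjective M))
      have h2 := Subgroup.Normal.comap hsyl (QuotientGroup.mk' M)
      rw [Sylow.coe_mapSurjective, Subgroup.comap_map_eq, QuotientGroup.ker_mk'] at h2
      rw [hN]
      exact h2
    have hNφ : N.map φ.toMonoidHom = N := by
      rw [hN, Subgroup.map_sup, hP₀φ, hMφ]
    by_cases hpq : p = q
    · subst hpq
      have hMP : M ≤ P₀ := Cfsg.Agent.Lead.ZJ.le_sylow_of_normal P₀ hMn hMq
      have : N = P₀ := by rw [hN]; exact sup_eq_left.2 hMP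
      rw [← this]
      exact hNn
    · by_cases hNtop : N = ⊤
      · have hcop : (Nat.card (P₀ : Subgroup G)).Coprime (Nat.card M) := by
          obtain ⟨a, ha⟩ := IsPGroup.iff_card.1 P₀.2
          obtain ⟨b, hb⟩ := IsPGroup.iff_card.1 hMq
          rw [ha, hb]
          exact Nat.Coprime.pow _ _ ((Nat.coprime_primes hp.out hq).2 hpq)
        have hcent := centralizes_of_fpf hr h M (P₀ : Subgroup G) hMc hMφ hP₀φ hcop
        rw [← Subgroup.normalizer_eq_top_iff, eq_top_iff, ← hNtop, hN]
        refine sup_le Subgroup.le_normalizer ?_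
        have h3 : M ≤ Subgroup.centralizer ((P₀ : Subgroup G) : Set G) :=
          Subgroup.le_centralizer_iff.1 hcent
        exact h3.trans (Subgroup.centralizer_le_normalizer _)
      · have hNnil : Group.IsNilpotent N := ih.sub hn h N hNφ hNtop
        haveI := hNn
        have hle : (P₀ : Subgroup G) ≤ N := hN ▸ le_sup_left
        have hsylall := ((Group.isNilpotent_of_finite_tfae (G := N)).out 0 3).1 hNnil
        have hsyl := hsylall p hp (P₀.subtype hle)
        haveI hchar : ((P₀.subtype hle : Sylow p N) : Subgroup N).Characteristic :=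
          Sylow.characteristic_of_normal _ hsyl
        have h4 : (((P₀.subtype hle : Sylow p N) : Subgroup N).map N.subtype).Normal :=
          inferInstance
        have h5 : ((P₀.subtype hle : Sylow p N) : Subgroup N).map N.subtype = P₀ := by
          rw [Sylow.coe_subtype, Subgroup.subgroupOf_map_subtype, inf_eq_left.2 hle]
        rw [h5] at h4
        exact h4
  exact ((Group.isNilpotent_of_finite_tfae (G := G)).out 0 3).2 hall

/-- A normal Hall `p'`-subgroup with `p`-power index is invariant under automorphisms. -/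
theorem hall_invariant [Finite G] {p : ℕ} [hp : Fact p.Prime] (φ : G ≃* G) (M : Subgroup G)
    [hMn : M.Normal] (hcop : (Nat.card M).Coprime p) {k : ℕ} (hidx : M.index = p ^ k) :
    M.map φ.toMonoidHom = M := by
  apply map_eq_of_forall_mem
  intro x hx
  rw [← QuotientGroup.eq_one_iff]
  have h1 : (QuotientGroup.mk (φ x) : G ⧸ M) ^ (p ^ k) = 1 := by
    rw [← hidx, Subgroup.index_eq_card]
    exact pow_card_eq_one'
  have h2 : (QuotientGroup.mk (φ x) : G ⧸ M) ^ (Nat.card M) = 1 := by
    rw [← QuotientGroup.mk_pow, ← map_pow]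
    have : x ^ Nat.card M = 1 := by
      have := pow_card_eq_one' (G := M) (x := ⟨x, hx⟩)
      exact congrArg Subtype.val this
    rw [this, map_one]
    rfl
  have h3 : orderOf (QuotientGroup.mk (φ x) : G ⧸ M) ∣ Nat.gcd (p ^ k) (Nat.card M) :=
    Nat.dvd_gcd (orderOf_dvd_of_pow_eq_one h1) (orderOf_dvd_of_pow_eq_one h2)
  have h4 : Nat.gcd (p ^ k) (Nat.card M) = 1 := Nat.Coprime.pow_left k hcop.symm
  rw [h4, Nat.dvd_one, orderOf_eq_one_iff] at h3
  exact h3

/-- The general step: `G` is solvable. -/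
theorem solvable_of_ih [Finite G] {r n : ℕ} (ih : IH.{u} r n)
    (hn : Nat.card G = n) {φ : G ≃* G} (h : Good r φ) : Group.IsSolvable G := by
  have hf : MonoidHom.FixedPointFree (φ : G →* G) := fun g hg => h.fpf g hg
  by_cases hodd : ∃ p : ℕ, p.Prime ∧ p ∣ Nat.card G ∧ p ≠ 2
  swap
  · -- `G` is a `2`-group
    push Not at hodd
    have hcard : Nat.card G = 2 ^ (Nat.card G).primeFactorsList.length := by
      apply Nat.eq_prime_pow_of_unique_prime_dvd Nat.card_pos.ne'
      intro d hd hdvd
      exact hodd d hd hdvd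
    haveI : Fact (Nat.Prime 2) := ⟨Nat.prime_two⟩
    have hG : IsPGroup 2 G := IsPGroup.of_card hcard
    haveI := hG.isNilpotent
    infer_instance
  obtain ⟨p, hp, hpG, hp2⟩ := hodd
  haveI hpF : Fact p.Prime := ⟨hp⟩
  obtain ⟨P, hP⟩ := Cfsg.Agent.S0031.result φ hf p
  have hPφ : (P : Subgroup G).map φ.toMonoidHom = P := hP
  -- `P` is nontrivial
  have hPnt : Nontrivial (P : Subgroup G) := by
    rw [← Finite.one_lt_card_iff_nontrivial, P.card_eq_multiplicity]
    apply Nat.one_lt_pow _ hp.one_lt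
    exact (Nat.Prime.factorization_pos_of_dvd hp Nat.card_pos.ne' hpG).ne'
  obtain ⟨J, hJ⟩ : ∃ J, J = Cfsg.thompsonSubgroupOf p (P : Subgroup G) := ⟨_, rfl⟩
  obtain ⟨Z, hZ⟩ : ∃ Z, Z = (P : Subgroup G) ⊓ Subgroup.centralizer ((P : Subgroup G) : Set G) :=
    ⟨_, rfl⟩
  have hJ1 : J ≠ ⊥ := by
    have := ThompsonRed.jFunctor_ne_bot (p := p) (P : Subgroup G) P.2 hPnt
    intro hbot
    apply this
    rw [hJ, ← ThompsonRed.jFunctor_of] at hbot
    exact (Subgroup.map_eq_bot_iff_of_injective _ (Subgroup.subtype_injective _)).1 hbot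
  have hZ1 : Z ≠ ⊥ := by
    have := ThompsonRed.centerFunctor_ne_bot (p := p) (P : Subgroup G) P.2 hPnt
    intro hbot
    apply this
    rw [hZ, ← ThompsonRed.centerFunctor_of] at hbot
    exact (Subgroup.map_eq_bot_iff_of_injective _ (Subgroup.subtype_injective _)).1 hbot
  have hJP : J ≤ P := hJ ▸ Subgroup.map_subtype_le _
  have hZP : Z ≤ P := hZ ▸ inf_le_left
  have hJφ : J.map φ.toMonoidHom = J := by
    have := (ThompsonRed.jFunctor p).of_map_of_injective φ.toMonoidHom φ.injective (P : Subgroup G)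
    rw [hPφ, ThompsonRed.jFunctor_of] at this
    rw [hJ]
    exact this.symm
  have hZφ : Z.map φ.toMonoidHom = Z := by
    have := ThompsonRed.centerFunctor.of_map_of_injective φ.toMonoidHom φ.injective (P : Subgroup G)
    rw [hPφ, ThompsonRed.centerFunctor_of] at this
    rw [hZ]
    exact this.symm
  have hNφ : (Subgroup.normalizer (J : Set G)).map φ.toMonoidHom = Subgroup.normalizer (J : Set G) := by
    rw [Subgroup.map_equiv_normalizer_eq, hJφ]
  have hCφ : (Subgroup.centralizer (Z : Set G)).map φ.toMonoidHom =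
      Subgroup.centralizer (Z : Set G) := by
    rw [ThompsonRed.centralizer_map_equiv', hZφ]
  -- a nontrivial invariant normal `p`-subgroup gives solvability
  have key : ∀ Q : Subgroup G, Q.Normal → Q ≤ P → Q.map φ.toMonoidHom = Q → Q ≠ ⊥ →
      Group.IsSolvable G := by
    intro Q hQn hQP hQφ hQ1
    haveI := hQn
    have h1 : Group.IsNilpotent (G ⧸ Q) := ih.quot hn h Q hQφ hQ1
    have h2 : IsPGroup p Q := P.2.to_le hQP
    haveI := h2.isNilpotent
    exact isSolvable_of_normal Q inferInstance inferInstance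
  by_cases hNtop : Subgroup.normalizer (J : Set G) = ⊤
  · exact key J (Subgroup.normalizer_eq_top_iff.1 hNtop) hJP hJφ hJ1
  by_cases hCtop : Subgroup.centralizer (Z : Set G) = ⊤
  · refine key Z ?_ hZP hZφ hZ1
    rw [← Subgroup.normalizer_eq_top_iff, eq_top_iff, ← hCtop]
    exact Subgroup.centralizer_le_normalizer _
  -- both are proper, hence nilpotent, hence `G` has a normal `p`-complement
  have hNnil : Group.IsNilpotent (Subgroup.normalizer (J : Set G)) := ih.sub hn h _ hNφ hNtop
  have hCnil : Group.IsNilpotent (Subgroup.centralizer (Z : Set G)) := ih.sub hn h _ hCφ hCtop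
  have h1 := hasNormalPComplement_of_isNilpotent hNnil p
  have h2 := hasNormalPComplement_of_isNilpotent hCnil p
  rw [hJ] at h1
  rw [hZ] at h2
  have h3 := ThompsonRed.thompson_npc hp2 G P h1 h2
  obtain ⟨M, hMn, hMcop, k, hMidx⟩ := hasNormalPComplement_iff_exists.1 h3
  haveI := hMn
  have hMφ := hall_invariant φ M hMcop hMidx
  have hMtop : M ≠ ⊤ := by
    rintro rfl
    rw [Subgroup.card_top] at hMcop
    exact (Nat.Prime.coprime_iff_not_dvd hp).1 hMcop.symm hpG
  have hMnil : Group.IsNilpotent M := ih.sub hn h M hMφ hMtop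
  have hQp : IsPGroup p (G ⧸ M) := by
    apply IsPGroup.of_card (n := k)
    rw [← Subgroup.index_eq_card, hMidx]
  haveI := hQp.isNilpotent
  exact isSolvable_of_normal M inferInstance inferInstance

/-- Thompson's theorem. -/
theorem nilpotent_of_good {r : ℕ} (hr : r.Prime) : ∀ n : ℕ, ∀ (G : Type u) [Group G] [Finite G]
    (φ : G ≃* G), Nat.card G = n → Good r φ → Group.IsNilpotent G := by
  intro n
  induction n using Nat.strong_induction_on with
  | _ n ih =>
  intro G _ _ φ hn h
  have ih' : IH.{u} r n := fun m hm H _ _ ψ hH hψ => ih m hm H ψ hH hψ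
  exact nilpotent_of_solvable hr ih' hn h (solvable_of_ih ih' hn h)

theorem thompson_fpf {G : Type u} [Group G] [Finite G] (φ : G ≃* G)
    (hφ : MonoidHom.FixedPointFree (φ : G →* G)) (p : ℕ) (hp : p.Prime) (hord : orderOf φ = p) :
    Group.IsNilpotent G := by
  refine nilpotent_of_good hp _ G φ rfl ⟨fun g hg => hφ g hg, fun g => ?_⟩
  rw [iterate_eq_pow, ← hord, pow_orderOf_eq_one]
  rfl

end TFPF

end Cfsg.Agent.Helper1
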