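import Mathlib
import Cfsg.Prelude.Def_Solvable
import Cfsg.Agent.Helper1.Basic
import Cfsg.Agent.Helper1.Coprime
import Cfsg.Agent.Helper1.MinNormal
import Cfsg.Agent.Helper1.Frobenius

set_option autoImplicit false

/-!
Frobenius complements and fixed-point-free action.
-/

namespace Cfsg.Agent.Helper1

open scoped Pointwise

universe u

variable {G : Type u} [Group G]

theorem frobenius_iff_fpf [Finite G] (K H : Subgroup G) [hKn : K.Normal]
    (hc : Subgroup.IsComplement' K H) (hK : K ≠ ⊥) (hH : H ≠ ⊥) :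
    Cfsg.IsFrobeniusComplement H ↔ ∀ h ∈ H, h ≠ 1 → K ⊓ Subgroup.centralizer {h} = ⊥ := by
  have hdisj : K ⊓ H = ⊥ := hc.disjoint.eq_bot
  have hsup : K ⊔ H = ⊤ := hc.sup_eq_top
  constructor
  · intro hF h hh hh1
    rw [eq_bot_iff]
    intro k hk
    obtain ⟨hkK, hkC⟩ := Subgroup.mem_inf.1 hk
    rw [Subgroup.mem_bot]
    have hcomm : h * k = k * h := Subgroup.mem_centralizer_iff.1 hkC h rfl
    have hkH : k ∈ H := by
      apply mem_of_frobenius hF hh1 hh
      rw [mem_conj_smul]
      have : k⁻¹ * h * k = h := by rw [mul_assoc, hcomm, ← mul_assoc, inv_mul_cancel, one_mul]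
      rw [this]; exact hh
    have : k ∈ K ⊓ H := Subgroup.mem_inf.2 ⟨hkK, hkH⟩
    rw [hdisj, Subgroup.mem_bot] at this
    exact this
  · intro hfpf
    refine ⟨hH, ?_, ?_⟩
    · intro htop
      apply hK
      rw [← hdisj, htop, inf_top_eq]
    · intro g hg
      have hg' : g ∈ K ⊔ H := hsup ▸ Subgroup.mem_top g
      obtain ⟨k, hk, h₀, hh₀, rfl⟩ := mem_sup_of_le_normalizer (le_normalizer_of_normal H K) hg'
      have hk1 : k ≠ 1 := by
        rintro rfl
        apply hg; rw [one_mul]; exact hh₀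
      rw [map_mul, mul_smul, Subgroup.conj_smul_eq_self_of_mem hh₀, eq_bot_iff]
      intro x hx
      obtain ⟨hxH, hxk⟩ := Subgroup.mem_inf.1 hx
      rw [mem_conj_smul] at hxk
      rw [Subgroup.mem_bot]
      by_contra hx1
      have h1 : x * (k⁻¹ * x * k)⁻¹ ∈ K ⊓ H := by
        refine Subgroup.mem_inf.2 ⟨?_, H.mul_mem hxH (H.inv_mem hxk)⟩
        have : x * (k⁻¹ * x * k)⁻¹ = (x * k⁻¹ * x⁻¹) * k := by group
        rw [this]
        exact K.mul_mem (hKn.conj_mem _ (K.inv_mem hk) x) hk
      rw [hdisj, Subgroup.mem_bot] at h1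
      have h2 : x = k⁻¹ * x * k := by
        have := mul_inv_eq_one.1 h1
        exact this
      have h3 : x * k = k * x := by
        have : k * x = k * (k⁻¹ * x * k) := by rw [← h2]
        rw [this]; group
      have h4 : k ∈ K ⊓ Subgroup.centralizer {x} := by
        refine Subgroup.mem_inf.2 ⟨hk, ?_⟩
        rw [Subgroup.mem_centralizer_iff]
        intro y hy
        rw [Set.mem_singleton_iff] at hy
        rw [hy]; exact h3
      rw [hfpf x hxH hx1, Subgroup.mem_bot] at h4
      exact hk1 h4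

end Cfsg.Agent.Helper1
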