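import Mathlib
import Cfsg.Prelude.Def_Solvable
import Cfsg.Agent.Helper1.Basic
import Cfsg.Agent.Helper1.Frobenius

set_option autoImplicit false

/-!
Subgroups of a Frobenius group whose order divides the order of the complement are
conjugate into the complement.
-/

namespace Cfsg.Agent.Helper1

open scoped Pointwise

universe u

variable {G : Type u} [Group G]

theorem two_mul_index_le [Finite G] (D : Subgroup G) (hD : D ≠ ⊥) : 2 * D.index ≤ Nat.card G := by
  have h1 := D.index_mul_card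
  have h2 : 2 ≤ Nat.card D := by
    have h3 : Nat.card D ≠ 1 := fun h => hD (Subgroup.card_eq_one.1 h)
    have h4 : 0 < Nat.card D := Nat.card_pos
    omega
  nlinarith

theorem two_frobenius_false [Finite G] (D1 D2 : Subgroup G)
    (h1 : Cfsg.IsFrobeniusComplement D1) (h2 : Cfsg.IsFrobeniusComplement D2)
    (hdisj : ∀ a b : G, MulAut.conj a • D2 ⊓ MulAut.conj b • D1 = ⊥) : False := by
  have c1 := (frobenius_count D1 h1).1
  have c2 := (frobenius_count D2 h2).1
  rw [Nat.card_coe_set_eq] at c1 c2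
  have hsub : insert (1 : G) (Cfsg.frobeniusKernel D2)ᶜ ⊆ Cfsg.frobeniusKernel D1 := by
    rintro x (hx | hx)
    · left; exact hx
    · simp only [Cfsg.frobeniusKernel, Set.mem_compl_iff, Set.mem_ofPred_eq, not_or,
        not_forall, not_not] at hx
      obtain ⟨hx1, a, hxa⟩ := hx
      right
      intro b hxb
      have : x ∈ MulAut.conj a • D2 ⊓ MulAut.conj b • D1 := ⟨hxa, hxb⟩
      rw [hdisj, Subgroup.mem_bot] at this
      exact hx1 this
  have h3 := Set.ncard_le_ncard hsub (Set.toFinite _)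
  have h4 : (1 : G) ∉ (Cfsg.frobeniusKernel D2)ᶜ := by
    intro h; exact h (Or.inl rfl)
  rw [Set.ncard_insert_of_notMem h4 (Set.toFinite _), Set.ncard_compl, c1, c2] at h3
  have h5 := two_mul_index_le D1 h1.1
  have h6 := two_mul_index_le D2 h2.1
  omega

theorem frobenius_coprime [Finite G] (H : Subgroup G) (hH : Cfsg.IsFrobeniusComplement H) :
    (Nat.card H).Coprime H.index := by
  have h : Nat.ModEq (Nat.card H) H.index 1 := (frobenius_count H hH).2
  have := Nat.ModEq.gcd_eq h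
  rw [Nat.gcd_one_left] at this
  exact (Nat.coprime_comm).1 this

theorem frobenius_conj [Finite G] (H : Subgroup G) (hH : Cfsg.IsFrobeniusComplement H) (g : G) :
    Cfsg.IsFrobeniusComplement (MulAut.conj g • H) := by
  refine ⟨?_, ?_, ?_⟩
  · intro h
    apply hH.1
    rw [← Subgroup.card_eq_one] at h ⊢
    rwa [card_conj_smul] at h
  · intro h
    apply hH.2.1
    rw [← Subgroup.card_eq_iff_eq_top] at h ⊢
    rwa [card_conj_smul] at h
  · intro x hx
    rw [mem_conj_smul] at hx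
    have h1 := hH.2.2 _ hx
    rw [eq_bot_iff]
    intro z hz
    obtain ⟨hz1, hz2⟩ := Subgroup.mem_inf.1 hz
    rw [Subgroup.mem_bot]
    rw [mem_conj_smul] at hz1
    rw [mem_conj_smul, mem_conj_smul] at hz2
    have h2 : g⁻¹ * z * g ∈ H ⊓ MulAut.conj (g⁻¹ * x * g) • H := by
      refine Subgroup.mem_inf.2 ⟨hz1, ?_⟩
      rw [mem_conj_smul]
      have : (g⁻¹ * x * g)⁻¹ * (g⁻¹ * z * g) * (g⁻¹ * x * g) = g⁻¹ * (x⁻¹ * z * x) * g := by group
      rw [this]; exact hz2
    rw [h1, Subgroup.mem_bot] at h2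
    have : z = g * (g⁻¹ * z * g) * g⁻¹ := by group
    rw [this, h2]; group

theorem frobenius_conj_eq_of_common {H : Subgroup G} (hH : Cfsg.IsFrobeniusComplement H)
    {x u v : G} (hx1 : x ≠ 1) (hu : x ∈ MulAut.conj u • H) (hv : x ∈ MulAut.conj v • H) :
    MulAut.conj u • H = MulAut.conj v • H := by
  rw [mem_conj_smul] at hu hv
  have h1 : u⁻¹ * v ∈ H := by
    apply mem_of_frobenius hH (x := u⁻¹ * x * u) _ hu
    · rw [mem_conj_smul]
      have : (u⁻¹ * v)⁻¹ * (u⁻¹ * x * u) * (u⁻¹ * v) = v⁻¹ * x * v := by group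
      rw [this]; exact hv
    · intro h
      apply hx1
      have : x = u * (u⁻¹ * x * u) * u⁻¹ := by group
      rw [this, h]; group
  ext z
  rw [mem_conj_smul, mem_conj_smul]
  constructor
  · intro hz
    have : v⁻¹ * z * v = (u⁻¹ * v)⁻¹ * (u⁻¹ * z * u) * (u⁻¹ * v) := by group
    rw [this]
    exact H.mul_mem (H.mul_mem (H.inv_mem h1) hz) h1
  · intro hz
    have : u⁻¹ * z * u = (u⁻¹ * v) * (v⁻¹ * z * v) * (u⁻¹ * v)⁻¹ := by group
    rw [this]
    exact H.mul_mem (H.mul_mem h1 hz) (H.inv_mem h1)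

theorem exists_conj_mem_of_prime_order [Finite G] (H : Subgroup G)
    (hH : Cfsg.IsFrobeniusComplement H) {q : ℕ} [hq : Fact q.Prime] (hqH : q ∣ Nat.card H)
    (x : G) (hx : orderOf x = q) : ∃ g : G, x ∈ MulAut.conj g • H := by
  have hZ : IsPGroup q (Subgroup.zpowers x) := by
    apply IsPGroup.of_card (n := 1)
    rw [Nat.card_zpowers, hx, pow_one]
  have hnd : ¬ q ∣ Nat.card (G ⧸ H) := by
    intro h
    rw [← Subgroup.index_eq_card] at h
    have := Nat.eq_one_of_dvd_coprimes (frobenius_coprime H hH) hqH h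
    exact hq.out.one_lt.ne' this
  obtain ⟨c, hc⟩ := hZ.nonempty_fixed_point_of_prime_not_dvd_card (G ⧸ H) hnd
  obtain ⟨g, rfl⟩ := QuotientGroup.mk_surjective c
  refine ⟨g, ?_⟩
  rw [mem_conj_smul]
  have h1 := hc ⟨x, Subgroup.mem_zpowers x⟩
  have h2 : ((⟨x, Subgroup.mem_zpowers x⟩ : Subgroup.zpowers x) • (g : G ⧸ H)) =
      ((x * g : G) : G ⧸ H) := rfl
  rw [h2] at h1
  have h3 := QuotientGroup.eq.1 h1
  have : g⁻¹ * x * g = ((x * g)⁻¹ * g)⁻¹ := by group
  rw [this]
  exact H.inv_mem h3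

theorem frobenius_subgroupOf (H : Subgroup G) (hH : Cfsg.IsFrobeniusComplement H)
    (L : Subgroup G) (h1 : H.subgroupOf L ≠ ⊥) (h2 : ¬ L ≤ H) :
    Cfsg.IsFrobeniusComplement (H.subgroupOf L) := by
  refine ⟨h1, ?_, ?_⟩
  · rw [Ne, Subgroup.subgroupOf_eq_top]; exact h2
  · intro l hl
    rw [Subgroup.mem_subgroupOf] at hl
    have h3 := hH.2.2 _ hl
    rw [eq_bot_iff]
    intro z hz
    obtain ⟨hz1, hz2⟩ := Subgroup.mem_inf.1 hz
    rw [Subgroup.mem_bot]
    rw [Subgroup.mem_subgroupOf] at hz1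
    rw [mem_conj_smul, Subgroup.mem_subgroupOf] at hz2
    have h4 : (z : G) ∈ H ⊓ MulAut.conj (l : G) • H := by
      refine Subgroup.mem_inf.2 ⟨hz1, ?_⟩
      rw [mem_conj_smul]
      exact hz2
    rw [h3, Subgroup.mem_bot] at h4
    exact Subtype.ext h4

theorem frobenius_subgroup_conj [Finite G] (H : Subgroup G) (hH : Cfsg.IsFrobeniusComplement H)
    (L : Subgroup G) (hL : Nat.card L ∣ Nat.card H) : ∃ x : G, L ≤ MulAut.conj x • H := by
  by_contra hcon
  push Not at hcon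
  have hL1 : L ≠ ⊥ := by rintro rfl; exact hcon 1 bot_le
  have key : ∀ q : ℕ, q.Prime → q ∣ Nat.card L →
      ∃ g : G, q ∣ Nat.card ((MulAut.conj g • H).subgroupOf L) := by
    intro q hq hqL
    have := Fact.mk hq
    obtain ⟨y, hy⟩ := exists_prime_orderOf_dvd_card' q hqL
    obtain ⟨g, hg⟩ := exists_conj_mem_of_prime_order H hH (hqL.trans hL) (y : G)
      (by rw [Subgroup.orderOf_coe]; exact hy)
    refine ⟨g, ?_⟩
    have hmem : y ∈ (MulAut.conj g • H).subgroupOf L := hg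
    have h2 := orderOf_dvd_natCard (⟨y, hmem⟩ : (MulAut.conj g • H).subgroupOf L)
    rwa [Subgroup.orderOf_mk, hy] at h2
  have frob : ∀ g : G, (MulAut.conj g • H).subgroupOf L ≠ ⊥ →
      Cfsg.IsFrobeniusComplement ((MulAut.conj g • H).subgroupOf L) := fun g hg =>
    frobenius_subgroupOf _ (frobenius_conj H hH g) L hg (hcon g)
  have hne : ∀ (q : ℕ) (g : G), q.Prime → q ∣ Nat.card ((MulAut.conj g • H).subgroupOf L) →
      (MulAut.conj g • H).subgroupOf L ≠ ⊥ := by
    intro q g hq hg h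
    rw [h, Subgroup.card_bot] at hg
    exact hq.one_lt.ne' (Nat.dvd_one.1 hg)
  have hLc : Nat.card L ≠ 1 := fun h => hL1 (Subgroup.card_eq_one.1 h)
  obtain ⟨p, hp, hpL⟩ := Nat.exists_prime_and_dvd hLc
  obtain ⟨g, hg⟩ := key p hp hpL
  have hF1 := frob g (hne p g hp hg)
  have hcop := frobenius_coprime _ hF1
  have hidx : ((MulAut.conj g • H).subgroupOf L).index ≠ 1 := (Subgroup.index_eq_one.not).2 hF1.2.1
  obtain ⟨q, hq, hqi⟩ := Nat.exists_prime_and_dvd hidx
  have hqL : q ∣ Nat.card L := hqi.trans (Subgroup.index_dvd_card _)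
  obtain ⟨g', hg'⟩ := key q hq hqL
  have hF2 := frob g' (hne q g' hq hg')
  apply two_frobenius_false _ _ hF1 hF2
  intro a b
  rw [eq_bot_iff]
  intro z hz
  obtain ⟨hz2, hz1⟩ := Subgroup.mem_inf.1 hz
  rw [Subgroup.mem_bot]
  by_contra hzne
  rw [mem_conj_smul, Subgroup.mem_subgroupOf] at hz1 hz2
  have hzG : (z : G) ≠ 1 := fun h => hzne (Subtype.ext h)
  have e : MulAut.conj ((a : G) * g') • H = MulAut.conj ((b : G) * g) • H := by
    apply frobenius_conj_eq_of_common hH hzG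
    · rw [mem_conj_smul]
      rw [mem_conj_smul] at hz2
      have : ((a : G) * g')⁻¹ * (z : G) * ((a : G) * g') =
          g'⁻¹ * (((a⁻¹ * z * a : L) : G)) * g' := by
        simp only [Subgroup.coe_mul, Subgroup.coe_inv]; group
      rw [this]; exact hz2
    · rw [mem_conj_smul]
      rw [mem_conj_smul] at hz1
      have : ((b : G) * g)⁻¹ * (z : G) * ((b : G) * g) =
          g⁻¹ * (((b⁻¹ * z * b : L) : G)) * g := by
        simp only [Subgroup.coe_mul, Subgroup.coe_inv]; group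
      rw [this]; exact hz1
  have hD : (MulAut.conj g' • H).subgroupOf L =
      MulAut.conj (a⁻¹ * b) • (MulAut.conj g • H).subgroupOf L := by
    ext w
    have hr : w ∈ MulAut.conj (a⁻¹ * b) • (MulAut.conj g • H).subgroupOf L ↔
        g⁻¹ * (((a⁻¹ * b)⁻¹ * w * (a⁻¹ * b) : L) : G) * g ∈ H := by
      rw [mem_conj_smul, Subgroup.mem_subgroupOf, mem_conj_smul]
    have hl : w ∈ (MulAut.conj g' • H).subgroupOf L ↔ g'⁻¹ * (w : G) * g' ∈ H := by
      rw [Subgroup.mem_subgroupOf, mem_conj_smul]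
    rw [hl, hr]
    have e1 : ∀ t : G, t ∈ MulAut.conj ((a : G) * g') • H ↔ t ∈ MulAut.conj ((b : G) * g) • H :=
      fun t => by rw [e]
    have e2 := e1 ((a : G) * w * (a : G)⁻¹)
    rw [mem_conj_smul, mem_conj_smul] at e2
    have e3 : ((a : G) * g')⁻¹ * ((a : G) * w * (a : G)⁻¹) * ((a : G) * g') = g'⁻¹ * (w : G) * g' := by
      group
    have e4 : ((b : G) * g)⁻¹ * ((a : G) * w * (a : G)⁻¹) * ((b : G) * g) =
        g⁻¹ * (((a⁻¹ * b)⁻¹ * w * (a⁻¹ * b) : L) : G) * g := by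
      simp only [Subgroup.coe_mul, Subgroup.coe_inv]; group
    rw [e3, e4] at e2
    exact e2
  have hc : Nat.card ((MulAut.conj g' • H).subgroupOf L) =
      Nat.card ((MulAut.conj g • H).subgroupOf L) := by
    rw [hD, card_conj_smul]
  rw [hc] at hg'
  exact hq.one_lt.ne' (Nat.eq_one_of_dvd_coprimes hcop hg' hqi)

end Cfsg.Agent.Helper1
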