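import Mathlib
import Cfsg.Agent.Helper1.Frobenius2
import Cfsg.Agent.Helper1.Frobenius3
import Cfsg.Agent.Helper1.FrobComplCenter
import Cfsg.Agent.Helper6.FrobThm

set_option autoImplicit false

/-!
Conjugacy of Frobenius complements.
-/

namespace Cfsg.Agent.Helper1

open scoped Pointwise

universe u

variable {G : Type u} [Group G]

/-- for `s` acting fixed-point-freely on a normal subgroup `K`, every element of `K` is of the
form `k⁻¹ (s k s⁻¹)`. -/
theorem exists_eq_inv_mul_conj_of_fpf [Finite G] (K : Subgroup G) [hKn : K.Normal] (s : G)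
    (hfpf : K ⊓ Subgroup.centralizer {s} = ⊥) :
    ∀ k ∈ K, ∃ k0 ∈ K, k = k0⁻¹ * (s * k0 * s⁻¹) := by
  let φ : K → K := fun k => ⟨(k : G)⁻¹ * (s * k * s⁻¹),
    K.mul_mem (K.inv_mem k.2) (hKn.conj_mem _ k.2 s)⟩
  have hinj : Function.Injective φ := by
    intro a b hab
    have h1 : (a : G)⁻¹ * (s * a * s⁻¹) = (b : G)⁻¹ * (s * b * s⁻¹) := congrArg Subtype.val hab
    have h2 : (b : G) * (a : G)⁻¹ ∈ K ⊓ Subgroup.centralizer {s} := by
      refine Subgroup.mem_inf.2 ⟨K.mul_mem b.2 (K.inv_mem a.2), ?_⟩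
      rw [Subgroup.mem_centralizer_singleton_iff]
      have h3 : s * a * s⁻¹ = (a : G) * (b : G)⁻¹ * (s * b * s⁻¹) := by
        rw [mul_assoc (a : G), ← h1]; group
      have h4 : s * ((b : G) * (a : G)⁻¹) * s⁻¹ = (b : G) * (a : G)⁻¹ := by
        have : s * ((b : G) * (a : G)⁻¹) * s⁻¹ = (s * b * s⁻¹) * (s * a * s⁻¹)⁻¹ := by group
        rw [this, h3]; group
      calc (b : G) * (a : G)⁻¹ * s = (s * ((b : G) * (a : G)⁻¹) * s⁻¹) * s := by rw [h4]
        _ = s * ((b : G) * (a : G)⁻¹) := by group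
    rw [hfpf, Subgroup.mem_bot] at h2
    apply Subtype.ext
    have : (b : G) = (b : G) * (a : G)⁻¹ * a := by group
    rw [this, h2, one_mul]
  have hsurj : Function.Surjective φ := Finite.surjective_of_injective hinj
  intro k hk
  obtain ⟨k0, hk0⟩ := hsurj ⟨k, hk⟩
  exact ⟨k0, k0.2, (congrArg Subtype.val hk0).symm⟩

theorem frobenius_kernel_ne_bot {H N : Subgroup G} (hH : Cfsg.IsFrobeniusComplement H)
    (hc : Subgroup.IsComplement' N H) : N ≠ ⊥ := by
  rintro rfl
  have := hc.sup_eq_top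
  rw [bot_sup_eq] at this
  exact hH.2.1 this

/-- A normal subgroup of a Frobenius group contains the kernel or is contained in it. -/
theorem frobenius_normal_le_or_ge [Finite G] (H : Subgroup G) (hH : Cfsg.IsFrobeniusComplement H)
    (N : Subgroup G) (hNset : (N : Set G) = Cfsg.frobeniusKernel H) [hNn : N.Normal]
    (hc : Subgroup.IsComplement' N H) (M : Subgroup G) [hMn : M.Normal] : M ≤ N ∨ N ≤ M := by
  by_cases hMN : M ≤ N
  · exact Or.inl hMN
  right
  obtain ⟨m, hmM, hmN⟩ := SetLike.not_le_iff_exists.1 hMN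
  have hmk : m ∉ Cfsg.frobeniusKernel H := by rw [← hNset]; exact hmN
  unfold Cfsg.frobeniusKernel at hmk
  simp only [Set.mem_ofPred_eq, not_or, not_forall, not_not] at hmk
  obtain ⟨hm1, g, hg⟩ := hmk
  rw [mem_conj_smul] at hg
  set h := g⁻¹ * m * g with hh
  have hh1 : h ≠ 1 := by
    intro h1
    apply hm1
    have : m = g * h * g⁻¹ := by rw [hh]; group
    rw [this, h1]; group
  have hhM : h ∈ M := by
    have := hMn.conj_mem m hmM g⁻¹
    rwa [inv_inv] at this
  have hN1 := frobenius_kernel_ne_bot hH hc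
  have hfpf := (frobenius_iff_fpf N H hc hN1 hH.1).1 hH h hg hh1
  intro n hn
  obtain ⟨k0, hk0, rfl⟩ := exists_eq_inv_mul_conj_of_fpf N h hfpf n hn
  have h1 : k0⁻¹ * (h * k0 * h⁻¹) = (k0⁻¹ * h * k0⁻¹⁻¹) * h⁻¹ := by group
  rw [h1]
  exact M.mul_mem (hMn.conj_mem h hhM k0⁻¹) (M.inv_mem hhM)

/-- Of two Frobenius complements the smaller one is conjugate into the other. -/
theorem frobenius_complement_conj_le [Finite G] (H H₀ : Subgroup G)
    (hH : Cfsg.IsFrobeniusComplement H) (hH₀ : Cfsg.IsFrobeniusComplement H₀)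
    (hle : Nat.card H₀ ≤ Nat.card H) : ∃ g : G, MulAut.conj g • H₀ ≤ H := by
  obtain ⟨N, hNset, hNn, hNc⟩ := Cfsg.Agent.Helper6.frobenius_kernel_theorem H hH
  obtain ⟨N₀, hN₀set, hN₀n, hN₀c⟩ := Cfsg.Agent.Helper6.frobenius_kernel_theorem H₀ hH₀
  have hc1 := hNc.card_mul_card
  have hc2 := hN₀c.card_mul_card
  have hpos : ∀ L : Subgroup G, 0 < Nat.card L := fun L => Nat.card_pos
  have hdvd : Nat.card H₀ ∣ Nat.card H := by
    rcases frobenius_normal_le_or_ge H hH N hNset hNc N₀ with h | h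
    · -- `N₀ ≤ N`
      have h1 : Nat.card N₀ ≤ Nat.card N := Subgroup.card_le_of_le h
      have h2 : Nat.card N ≤ Nat.card N₀ := by
        by_contra hlt
        push Not at hlt
        have : Nat.card N₀ * Nat.card H₀ < Nat.card N * Nat.card H := by
          calc Nat.card N₀ * Nat.card H₀ ≤ Nat.card N₀ * Nat.card H := Nat.mul_le_mul_left _ hle
            _ < Nat.card N * Nat.card H := Nat.mul_lt_mul_of_pos_right hlt (hpos H)
        omega
      have h3 : Nat.card N = Nat.card N₀ := le_antisymm h2 h1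
      have h4 : Nat.card N₀ * Nat.card H = Nat.card N₀ * Nat.card H₀ := by
        rw [← h3, hc1, ← hc2, h3]
      rw [Nat.eq_of_mul_eq_mul_left (hpos N₀) h4]
    · -- `N ≤ N₀`
      obtain ⟨k, hk⟩ := Subgroup.card_dvd_of_le h
      refine ⟨k, ?_⟩
      have h4 : Nat.card N * Nat.card H = Nat.card N * (Nat.card H₀ * k) := by
        rw [hc1, ← hc2, hk]; ring
      exact Nat.eq_of_mul_eq_mul_left (hpos N) h4
  obtain ⟨x, hx⟩ := frobenius_subgroup_conj H hH H₀ hdvd
  refine ⟨x⁻¹, ?_⟩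
  intro y hy
  rw [mem_conj_smul, inv_inv] at hy
  have := hx hy
  rw [mem_conj_smul] at this
  have e : x⁻¹ * (x * y * x⁻¹) * x = y := by group
  rwa [e] at this

/-- A Frobenius complement contained in another Frobenius complement equals it. -/
theorem frobenius_complement_eq_of_le [Finite G] (H H₀ : Subgroup G)
    (hH : Cfsg.IsFrobeniusComplement H) (hH₀ : Cfsg.IsFrobeniusComplement H₀) (hle : H₀ ≤ H) :
    H₀ = H := by
  obtain ⟨N, hNset, hNn, hNc⟩ := Cfsg.Agent.Helper6.frobenius_kernel_theorem H hH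
  obtain ⟨N₀, hN₀set, hN₀n, hN₀c⟩ := Cfsg.Agent.Helper6.frobenius_kernel_theorem H₀ hH₀
  have hN1 := frobenius_kernel_ne_bot hH hNc
  have hN₀1 := frobenius_kernel_ne_bot hH₀ hN₀c
  have hfpf := (frobenius_iff_fpf N H hNc hN1 hH.1).1 hH
  have hfpf₀ := (frobenius_iff_fpf N₀ H₀ hN₀c hN₀1 hH₀.1).1 hH₀
  have hcen := frobenius_complement_center_ne_bot N H hN1 hH.1 hfpf
  obtain ⟨z, hzc, hz1⟩ := (Subgroup.ne_bot_iff_exists_ne_one).1 hcen |>.imp (fun z hz => hz) |>
    fun ⟨z, hz⟩ => (⟨(z : H), z.2, fun h => hz (Subtype.ext h)⟩ : ∃ z : H, z ∈ Subgroup.center H ∧ z ≠ 1)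
  have hzcomm : ∀ y ∈ H, (z : G) * y = y * (z : G) := by
    intro y hy
    have := Subgroup.mem_center_iff.1 hzc ⟨y, hy⟩
    exact (congrArg Subtype.val this).symm
  have hdecomp : ∀ y : G, ∃ n ∈ N₀, ∃ h ∈ H₀, y = n * h := by
    intro y
    have hy : y ∈ N₀ ⊔ H₀ := by rw [hN₀c.sup_eq_top]; exact Subgroup.mem_top y
    exact mem_sup_of_le_normalizer
      (show H₀ ≤ Subgroup.normalizer (N₀ : Set G) by rw [Subgroup.normalizer_eq_top]; exact le_top) hy
  -- `N₀ ⊓ H = ⊥`
  have hX : N₀ ⊓ H = ⊥ := by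
    obtain ⟨x, hx, h₀, hh₀, hzx⟩ := hdecomp (z : G)
    have hxH : x ∈ H := by
      have : x = (z : G) * h₀⁻¹ := by rw [hzx]; group
      rw [this]; exact H.mul_mem z.2 (H.inv_mem (hle hh₀))
    have hzx' := hzcomm x hxH
    have hxh₀ : h₀ * x = x * h₀ := by
      have e1 : h₀ = x⁻¹ * (z : G) := by rw [hzx]; group
      rw [e1]
      calc x⁻¹ * (z : G) * x = x⁻¹ * (x * (z : G)) := by rw [mul_assoc, hzx']
        _ = x * (x⁻¹ * (z : G)) := by group
    by_cases hh1 : h₀ = 1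
    · exfalso
      rw [hh1, mul_one] at hzx
      obtain ⟨h, hh, hhne⟩ : ∃ h ∈ H₀, h ≠ 1 := by
        by_contra hcon
        push Not at hcon
        exact hH₀.1 ((Subgroup.eq_bot_iff_forall H₀).2 hcon)
      have hzN : (z : G) ∈ N₀ ⊓ Subgroup.centralizer {h} := by
        refine Subgroup.mem_inf.2 ⟨hzx ▸ hx, ?_⟩
        rw [Subgroup.mem_centralizer_singleton_iff]
        exact (hzcomm h (hle hh))
      rw [hfpf₀ h hh hhne, Subgroup.mem_bot] at hzN
      exact hz1 (Subtype.ext hzN)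
    · have hx1 : x = 1 := by
        have hxm : x ∈ N₀ ⊓ Subgroup.centralizer {h₀} := by
          refine Subgroup.mem_inf.2 ⟨hx, ?_⟩
          rw [Subgroup.mem_centralizer_singleton_iff]
          exact hxh₀.symm
        rwa [hfpf₀ h₀ hh₀ hh1, Subgroup.mem_bot] at hxm
      rw [hx1, one_mul] at hzx
      rw [eq_bot_iff]
      intro y hy
      have hym : y ∈ N₀ ⊓ Subgroup.centralizer {h₀} := by
        refine Subgroup.mem_inf.2 ⟨(Subgroup.mem_inf.1 hy).1, ?_⟩
        rw [Subgroup.mem_centralizer_singleton_iff, ← hzx]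
        exact (hzcomm y (Subgroup.mem_inf.1 hy).2).symm
      rwa [hfpf₀ h₀ hh₀ hh1] at hym
  apply le_antisymm hle
  intro y hy
  obtain ⟨x, hx, h₀, hh₀, rfl⟩ := hdecomp y
  have hxH : x ∈ H := by
    have : x = (x * h₀) * h₀⁻¹ := by group
    rw [this]; exact H.mul_mem hy (H.inv_mem (hle hh₀))
  have hx1 : x ∈ N₀ ⊓ H := ⟨hx, hxH⟩
  rw [hX, Subgroup.mem_bot] at hx1
  rw [hx1, one_mul]
  exact hh₀

/-- All Frobenius complements of a finite group are conjugate. -/
theorem frobenius_complement_conj [Finite G] (H H₀ : Subgroup G)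
    (hH : Cfsg.IsFrobeniusComplement H) (hH₀ : Cfsg.IsFrobeniusComplement H₀) :
    ∃ g : G, MulAut.conj g • H₀ = H := by
  rcases le_total (Nat.card H₀) (Nat.card H) with hle | hle
  · obtain ⟨g, hg⟩ := frobenius_complement_conj_le H H₀ hH hH₀ hle
    exact ⟨g, frobenius_complement_eq_of_le H _ hH (frobenius_conj H₀ hH₀ g) hg⟩
  · obtain ⟨g, hg⟩ := frobenius_complement_conj_le H₀ H hH₀ hH hle
    have heq := frobenius_complement_eq_of_le H₀ _ hH₀ (frobenius_conj H hH g) hg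
    refine ⟨g⁻¹, ?_⟩
    rw [← heq, map_inv, inv_smul_smul]

end Cfsg.Agent.Helper1
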