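import Mathlib
import Cfsg.Agent.Helper5.PGroupCenter

set_option autoImplicit false

/-!
Basic facts on `p`-groups of maximal class: the class bound, the centre of a group of maximal class.
-/

namespace Cfsg.Agent.Helper1

universe u

/-- if `X / Z(X)` is cyclic then `X` has class at most one -/
theorem nilpotencyClass_le_one_of_cyclic_quotient {X : Type u} [Group X]
    [Group.IsNilpotent X] (h : IsCyclic (X ⧸ Subgroup.center X)) :
    Group.nilpotencyClass X ≤ 1 := by
  rw [Group.IsNilpotent.nilpotencyClass_le_one_iff]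
  exact (QuotientGroup.mk' (Subgroup.center X)).isMulCommutative_of_isCyclic_of_ker_le_center
    (QuotientGroup.ker_mk' _).le

theorem isCyclic_of_card_le_prime {Q : Type u} [Group Q] [Finite Q] {p : ℕ} [hp : Fact p.Prime]
    {m : ℕ} (hQ : Nat.card Q = p ^ m) (hm : m ≤ 1) : IsCyclic Q := by
  rcases Nat.le_one_iff_eq_zero_or_eq_one.1 hm with rfl | rfl
  · rw [pow_zero] at hQ
    haveI : Subsingleton Q := (Nat.card_eq_one_iff_unique.1 hQ).1
    exact isCyclic_of_subsingleton
  · rw [pow_one] at hQ
    exact isCyclic_of_prime_card hQ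

/-- A group of order `p ^ n`, `n ≥ 2`, has class at most `n - 1`. -/
theorem nilpotencyClass_le_pred {p : ℕ} [hp : Fact p.Prime] :
    ∀ (n : ℕ) (X : Type u) [Group X] [Finite X], Nat.card X = p ^ n → 2 ≤ n →
      Group.nilpotencyClass X ≤ n - 1 := by
  intro n
  induction n using Nat.strong_induction_on with
  | _ n ih =>
    intro X _ _ hX hn
    have hpp : p.Prime := hp.out
    have hXp : IsPGroup p X := IsPGroup.of_card hX
    haveI hnil : Group.IsNilpotent X := hXp.isNilpotent
    haveI hnt : Nontrivial X := by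
      rw [← Finite.one_lt_card_iff_nontrivial, hX]
      exact Nat.one_lt_pow (by omega) hpp.one_lt
    obtain ⟨k, hk0, hk⟩ := IsPGroup.card_center_eq_prime_pow hX (by omega)
    have hmul := Subgroup.card_eq_card_quotient_mul_card_subgroup (Subgroup.center X)
    have hkn : k ≤ n := by
      have h1 : p ^ k ∣ p ^ n := by rw [← hk, ← hX]; exact Subgroup.card_subgroup_dvd_card _
      exact (Nat.pow_dvd_pow_iff_le_right hpp.one_lt).1 h1
    have hQ : Nat.card (X ⧸ Subgroup.center X) = p ^ (n - k) := by
      rw [hX, hk] at hmul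
      have h2 : p ^ n = p ^ (n - k) * p ^ k := by rw [← pow_add]; congr 1; omega
      rw [h2] at hmul
      exact (Nat.eq_of_mul_eq_mul_right (pow_pos hpp.pos k) hmul).symm
    have hcl := Group.nilpotencyClass_eq_quotient_center_plus_one (G := X)
    by_cases hm : 2 ≤ n - k
    · have h3 := ih (n - k) (by omega) (X ⧸ Subgroup.center X) hQ hm
      omega
    · have hcyc : IsCyclic (X ⧸ Subgroup.center X) := isCyclic_of_card_le_prime hQ (by omega)
      have := nilpotencyClass_le_one_of_cyclic_quotient hcyc
      omega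

/-- The centre of a `p`-group of maximal class. -/
theorem maxClass_center {p : ℕ} [hp : Fact p.Prime] {X : Type u} [Group X] [Finite X] (n : ℕ)
    (hn : 3 ≤ n) (hX : Nat.card X = p ^ n) (hc : Group.nilpotencyClass X = n - 1) :
    Nat.card (Subgroup.center X) = p ∧ Nat.card (X ⧸ Subgroup.center X) = p ^ (n - 1) ∧
      Group.nilpotencyClass (X ⧸ Subgroup.center X) = n - 2 := by
  have hpp : p.Prime := hp.out
  have hXp : IsPGroup p X := IsPGroup.of_card hX
  haveI hnil : Group.IsNilpotent X := hXp.isNilpotent
  haveI hnt : Nontrivial X := by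
    rw [← Finite.one_lt_card_iff_nontrivial, hX]
    exact Nat.one_lt_pow (by omega) hpp.one_lt
  obtain ⟨k, hk0, hk⟩ := IsPGroup.card_center_eq_prime_pow hX (by omega)
  have hmul := Subgroup.card_eq_card_quotient_mul_card_subgroup (Subgroup.center X)
  have hkn : k ≤ n := by
    have h1 : p ^ k ∣ p ^ n := by rw [← hk, ← hX]; exact Subgroup.card_subgroup_dvd_card _
    exact (Nat.pow_dvd_pow_iff_le_right hpp.one_lt).1 h1
  have hQ : Nat.card (X ⧸ Subgroup.center X) = p ^ (n - k) := by
    rw [hX, hk] at hmul
    have h2 : p ^ n = p ^ (n - k) * p ^ k := by rw [← pow_add]; congr 1; omega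
    rw [h2] at hmul
    exact (Nat.eq_of_mul_eq_mul_right (pow_pos hpp.pos k) hmul).symm
  have hcl : Group.nilpotencyClass (X ⧸ Subgroup.center X) = n - 2 := by
    rw [Group.nilpotencyClass_quotient_center, hc]; omega
  have hk1 : k = 1 := by
    by_cases hm : 2 ≤ n - k
    · have h3 := nilpotencyClass_le_pred (p := p) (n - k) (X ⧸ Subgroup.center X) hQ hm
      omega
    · have hcyc : IsCyclic (X ⧸ Subgroup.center X) := isCyclic_of_card_le_prime hQ (by omega)
      have := nilpotencyClass_le_one_of_cyclic_quotient hcyc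
      omega
  subst hk1
  exact ⟨by rw [hk, pow_one], hQ, hcl⟩

end Cfsg.Agent.Helper1
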