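import Mathlib
import Cfsg.Prelude.Def_SolvableStructure

set_option autoImplicit false

/-!
Supersolvable groups: an inductive reformulation of chains with cyclic steps, and the
basic closure properties.
-/

namespace Cfsg.Agent.Helper1

universe u v

/-- `CycChain A B`: `B` is reached from the normal subgroup `A` by successively adjoining
single elements, all intermediate subgroups being normal. -/
inductive CycChain {G : Type u} [Group G] : Subgroup G → Subgroup G → Prop
  | refl (A : Subgroup G) (hA : A.Normal) : CycChain A A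
  | step {A K : Subgroup G} (g : G) (h : CycChain A K)
      (hn : (K ⊔ Subgroup.zpowers g).Normal) : CycChain A (K ⊔ Subgroup.zpowers g)

variable {G : Type u} [Group G]

theorem CycChain.normal_left {A B : Subgroup G} (h : CycChain A B) : A.Normal := by
  induction h with
  | refl hA => exact hA
  | step g _ _ ih => exact ih

theorem CycChain.normal_right {A B : Subgroup G} (h : CycChain A B) : B.Normal := by
  cases h with
  | refl hA => exact hA
  | step g _ hn => exact hn

theorem CycChain.le {A B : Subgroup G} (h : CycChain A B) : A ≤ B := by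
  induction h with
  | refl hA => exact le_rfl
  | step g _ _ ih => exact ih.trans le_sup_left

theorem CycChain.trans {A B C : Subgroup G} (h1 : CycChain A B) (h2 : CycChain B C) :
    CycChain A C := by
  induction h2 with
  | refl hA => exact h1
  | step g _ hn ih => exact CycChain.step g ih hn

theorem CycChain.map' {G' : Type v} [Group G'] (f : G →* G')
    (hf : ∀ K : Subgroup G, K.Normal → (K.map f).Normal) {A B : Subgroup G}
    (h : CycChain A B) : CycChain (A.map f) (B.map f) := by
  induction h with
  | refl hA => exact CycChain.refl _ (hf A hA)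
  | @step K g h hn ih =>
    have e : (K ⊔ Subgroup.zpowers g).map f = K.map f ⊔ Subgroup.zpowers (f g) := by
      rw [Subgroup.map_sup, MonoidHom.map_zpowers]
    rw [e]
    apply CycChain.step _ ih
    rw [← e]
    exact hf _ hn

theorem CycChain.map {G' : Type v} [Group G'] (f : G →* G') (hf : Function.Surjective f)
    {A B : Subgroup G} (h : CycChain A B) : CycChain (A.map f) (B.map f) :=
  h.map' f (fun K hK => Subgroup.Normal.map hK f hf)

theorem comap_sup_zpowers {G' : Type v} [Group G'] (f : G →* G') (K : Subgroup G') [hK : K.Normal]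
    (g : G) : (K ⊔ Subgroup.zpowers (f g)).comap f = K.comap f ⊔ Subgroup.zpowers g := by
  apply le_antisymm
  · intro x hx
    rw [Subgroup.mem_comap, Subgroup.mem_sup_of_normal_left] at hx
    obtain ⟨y, hy, z, hz, hyz⟩ := hx
    obtain ⟨n, rfl⟩ := Subgroup.mem_zpowers_iff.1 hz
    have h1 : x * (g ^ n)⁻¹ ∈ K.comap f := by
      rw [Subgroup.mem_comap, map_mul, ← hyz, map_inv, map_zpow, mul_assoc, mul_inv_cancel,
        mul_one]
      exact hy
    have : x = x * (g ^ n)⁻¹ * g ^ n := by group
    rw [this]
    exact Subgroup.mul_mem_sup h1 (Subgroup.zpow_mem_zpowers g n)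
  · rw [sup_le_iff]
    constructor
    · exact Subgroup.comap_mono le_sup_left
    · rw [Subgroup.zpowers_le, Subgroup.mem_comap]
      exact (le_sup_right : Subgroup.zpowers (f g) ≤ K ⊔ _) (Subgroup.mem_zpowers _)

theorem CycChain.comap {G' : Type v} [Group G'] (f : G →* G') (hf : Function.Surjective f)
    {A B : Subgroup G'} (h : CycChain A B) : CycChain (A.comap f) (B.comap f) := by
  induction h with
  | refl hA => exact CycChain.refl _ (hA.comap f)
  | @step K y h hn ih =>
    obtain ⟨g, rfl⟩ := hf y
    have hKn : K.Normal := h.normal_right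
    have e := comap_sup_zpowers f K g
    rw [e]
    apply CycChain.step _ ih
    rw [← e]
    exact hn.comap f

/-- Intersecting a cyclic step with a subgroup gives a cyclic step. -/
theorem exists_subgroupOf_sup_zpowers (H K : Subgroup G) [hK : K.Normal] (g : G) :
    ∃ h : H, (K ⊔ Subgroup.zpowers g).subgroupOf H = K.subgroupOf H ⊔ Subgroup.zpowers h := by
  -- the image of `(K ⊔ ⟨g⟩) ⊓ H` in `G ⧸ K` is cyclic
  set φ := QuotientGroup.mk' K with hφ
  set B := (K ⊔ Subgroup.zpowers g) ⊓ H with hB
  have hle : B.map φ ≤ Subgroup.zpowers (φ g) := by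
    rintro _ ⟨x, hx, rfl⟩
    have hx1 : x ∈ K ⊔ Subgroup.zpowers g := hx.1
    rw [Subgroup.mem_sup_of_normal_left] at hx1
    obtain ⟨y, hy, z, hz, rfl⟩ := hx1
    obtain ⟨n, rfl⟩ := Subgroup.mem_zpowers_iff.1 hz
    rw [map_mul, map_zpow]
    have : φ y = 1 := by rw [hφ, QuotientGroup.mk'_apply, QuotientGroup.eq_one_iff]; exact hy
    rw [this, one_mul]
    exact Subgroup.zpow_mem_zpowers _ n
  -- a subgroup of a cyclic group is cyclic
  have hcyc : IsCyclic (B.map φ) := by
    have : IsCyclic (Subgroup.zpowers (φ g)) := inferInstance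
    have hinj : Function.Injective (Subgroup.inclusion hle) := Subgroup.inclusion_injective hle
    exact isCyclic_of_injective (Subgroup.inclusion hle) hinj
  obtain ⟨⟨y, hy⟩, hgen⟩ := hcyc.exists_generator
  obtain ⟨h, hhB, rfl⟩ := hy
  refine ⟨⟨h, hhB.2⟩, ?_⟩
  apply le_antisymm
  · intro x hx
    rw [Subgroup.mem_subgroupOf] at hx
    have hxB : (x : G) ∈ B := ⟨hx, x.2⟩
    have h1 := hgen ⟨φ x, Subgroup.mem_map_of_mem φ hxB⟩
    obtain ⟨n, hn⟩ := Subgroup.mem_zpowers_iff.1 h1
    have h2 : φ h ^ n = φ x := by
      have := congrArg Subtype.val hn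
      simpa using this
    have h3 : x * ((⟨h, hhB.2⟩ : H) ^ n)⁻¹ ∈ K.subgroupOf H := by
      rw [Subgroup.mem_subgroupOf]
      have : φ ((x : G) * (h ^ n)⁻¹) = 1 := by
        rw [map_mul, map_inv, map_zpow, h2, mul_inv_cancel]
      rw [hφ, QuotientGroup.mk'_apply, QuotientGroup.eq_one_iff] at this
      simpa using this
    have : x = x * ((⟨h, hhB.2⟩ : H) ^ n)⁻¹ * (⟨h, hhB.2⟩ : H) ^ n := by group
    rw [this]
    exact Subgroup.mul_mem_sup h3 (Subgroup.zpow_mem_zpowers _ n)
  · rw [sup_le_iff]
    constructor
    · intro x hx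
      rw [Subgroup.mem_subgroupOf] at hx ⊢
      exact (le_sup_left : K ≤ K ⊔ _) hx
    · rw [Subgroup.zpowers_le, Subgroup.mem_subgroupOf]
      exact hhB.1

theorem CycChain.subgroupOf (H : Subgroup G) {A B : Subgroup G} (h : CycChain A B) :
    CycChain (A.subgroupOf H) (B.subgroupOf H) := by
  induction h with
  | refl hA => exact CycChain.refl _ (hA.comap _)
  | @step K g h hn ih =>
    have hKn : K.Normal := h.normal_right
    obtain ⟨y, hy⟩ := exists_subgroupOf_sup_zpowers H K g
    rw [hy]
    apply CycChain.step _ ih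
    rw [← hy]
    exact hn.comap _

theorem isSupersolvable_iff_cycChain : Cfsg.IsSupersolvable G ↔ CycChain (⊥ : Subgroup G) ⊤ := by
  constructor
  · rintro ⟨n, H, h0, hlast, hnorm, hstep⟩
    have key : ∀ i : Fin (n + 1), CycChain (⊥ : Subgroup G) (H i) := by
      intro i
      induction i using Fin.induction with
      | zero => rw [h0]; exact CycChain.refl _ inferInstance
      | succ i ih =>
        obtain ⟨g, hg⟩ := hstep i
        have := CycChain.step g ih (by rw [← hg]; exact hnorm _)
        rw [← hg] at this
        exact this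
    rw [← hlast]
    exact key _
  · intro h
    suffices hs : ∀ A B : Subgroup G, CycChain A B → ∃ (n : ℕ) (H : Fin (n + 1) → Subgroup G),
        H 0 = A ∧ H (Fin.last n) = B ∧ (∀ i, (H i).Normal) ∧
        ∀ i : Fin n, ∃ g : G, H i.succ = H i.castSucc ⊔ Subgroup.zpowers g from hs _ _ h
    intro A B hAB
    induction hAB with
    | refl hA =>
      exact ⟨0, fun _ => A, rfl, rfl, fun _ => hA, fun i => i.elim0⟩
    | @step K g h hn ih =>
      obtain ⟨n, H, h0, hlast, hnorm, hstep⟩ := ih
      refine ⟨n + 1, Fin.snoc H (K ⊔ Subgroup.zpowers g), ?_, ?_, ?_, ?_⟩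
      · have : (0 : Fin (n + 2)) = Fin.castSucc (0 : Fin (n + 1)) := rfl
        rw [this, Fin.snoc_castSucc, h0]
      · rw [Fin.snoc_last]
      · intro i
        induction i using Fin.lastCases with
        | last => rw [Fin.snoc_last]; exact hn
        | cast j => rw [Fin.snoc_castSucc]; exact hnorm j
      · intro i
        induction i using Fin.lastCases with
        | last =>
          refine ⟨g, ?_⟩
          rw [Fin.succ_last, Fin.snoc_last, Fin.snoc_castSucc, hlast]
        | cast j =>
          obtain ⟨g', hg'⟩ := hstep j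
          refine ⟨g', ?_⟩
          have e1 : (Fin.castSucc j).succ = Fin.castSucc j.succ := rfl
          rw [e1, Fin.snoc_castSucc, Fin.snoc_castSucc, hg']

end Cfsg.Agent.Helper1
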