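import Mathlib
import Cfsg.Prelude.Def_SolvableStructure
import Cfsg.Agent.Helper1.Supersolvable

set_option autoImplicit false

/-!
Supersolvable groups: subgroups, quotients, products, cyclic extensions.
-/

namespace Cfsg.Agent.Helper1

universe u v

variable {G : Type u} [Group G]

theorem isSupersolvable_subgroup (hG : Cfsg.IsSupersolvable G) (H : Subgroup G) :
    Cfsg.IsSupersolvable H := by
  rw [isSupersolvable_iff_cycChain] at hG ⊢
  have := hG.subgroupOf H
  rwa [Subgroup.bot_subgroupOf, Subgroup.top_subgroupOf] at this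

theorem isSupersolvable_quotient (hG : Cfsg.IsSupersolvable G) (N : Subgroup G) [N.Normal] :
    Cfsg.IsSupersolvable (G ⧸ N) := by
  rw [isSupersolvable_iff_cycChain] at hG ⊢
  have := hG.map (QuotientGroup.mk' N) (QuotientGroup.mk'_surjective N)
  rwa [Subgroup.map_bot, Subgroup.map_top_of_surjective _ (QuotientGroup.mk'_surjective N)] at this

theorem isSupersolvable_of_surjective {G' : Type v} [Group G'] (hG : Cfsg.IsSupersolvable G)
    (f : G →* G') (hf : Function.Surjective f) : Cfsg.IsSupersolvable G' := by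
  rw [isSupersolvable_iff_cycChain] at hG ⊢
  have := hG.map f hf
  rwa [Subgroup.map_bot, Subgroup.map_top_of_surjective _ hf] at this

theorem cycChain_bot_zpowers (g : G) (h : (Subgroup.zpowers g).Normal) :
    CycChain (⊥ : Subgroup G) (Subgroup.zpowers g) := by
  have := CycChain.step g (CycChain.refl (⊥ : Subgroup G) inferInstance)
    (by rw [bot_sup_eq]; exact h)
  rwa [bot_sup_eq] at this

theorem exists_eq_zpowers_of_isCyclic (N : Subgroup G) [IsCyclic N] :
    ∃ g : G, g ∈ N ∧ N = Subgroup.zpowers g := by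
  obtain ⟨g, hg⟩ := IsCyclic.exists_generator (α := N)
  refine ⟨g, g.2, ?_⟩
  ext x
  constructor
  · intro hx
    obtain ⟨n, hn⟩ := Subgroup.mem_zpowers_iff.1 (hg ⟨x, hx⟩)
    exact ⟨n, by simpa using congrArg Subtype.val hn⟩
  · rintro ⟨n, rfl⟩
    exact N.zpow_mem g.2 n

theorem isSupersolvable_of_cyclic_normal (N : Subgroup G) [hN : N.Normal] [IsCyclic N]
    (h : Cfsg.IsSupersolvable (G ⧸ N)) : Cfsg.IsSupersolvable G := by
  rw [isSupersolvable_iff_cycChain] at h ⊢
  obtain ⟨g, -, hg⟩ := exists_eq_zpowers_of_isCyclic N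
  have h1 : CycChain ⊥ N := by
    rw [hg]
    exact cycChain_bot_zpowers g (hg ▸ hN)
  have h2 := h.comap (QuotientGroup.mk' N) (QuotientGroup.mk'_surjective N)
  rw [Subgroup.comap_top, MonoidHom.comap_bot, QuotientGroup.ker_mk'] at h2
  exact h1.trans h2

theorem map_inr_eq_prod {H : Type v} [Group H] (K : Subgroup H) :
    K.map (MonoidHom.inr G H) = Subgroup.prod ⊥ K := by
  ext ⟨a, b⟩
  simp only [Subgroup.mem_map, MonoidHom.inr_apply, Prod.mk.injEq, Subgroup.mem_prod,
    Subgroup.mem_bot]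
  constructor
  · rintro ⟨x, hx, rfl, rfl⟩
    exact ⟨rfl, hx⟩
  · rintro ⟨rfl, hb⟩
    exact ⟨b, hb, rfl, rfl⟩

theorem isSupersolvable_prod {H : Type v} [Group H] (hG : Cfsg.IsSupersolvable G)
    (hH : Cfsg.IsSupersolvable H) : Cfsg.IsSupersolvable (G × H) := by
  rw [isSupersolvable_iff_cycChain] at *
  have h1 : CycChain (⊥ : Subgroup (G × H)) (Subgroup.prod ⊥ ⊤) := by
    have := hH.map' (MonoidHom.inr G H) (fun K hK => by
      rw [map_inr_eq_prod]; infer_instance)
    rwa [Subgroup.map_bot, map_inr_eq_prod] at this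
  have h2 : CycChain (Subgroup.prod ⊥ ⊤) (⊤ : Subgroup (G × H)) := by
    have := hG.comap (MonoidHom.fst G H) Prod.fst_surjective
    rwa [MonoidHom.comap_bot, MonoidHom.ker_fst, Subgroup.comap_top] at this
  exact h1.trans h2

end Cfsg.Agent.Helper1
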