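import Mathlib
import Cfsg.Agent.Helper1.MaxClassBasic
import Cfsg.Agent.Helper1.Supersolvable2

set_option autoImplicit false

/-!
2-groups of maximal class have a cyclic subgroup of index 2.
-/

namespace Cfsg.Agent.Helper1

universe u

variable {X : Type u} [Group X]

/-- the preimage of a cyclic subgroup of `X / Z` is generated by one element together with `Z` -/
theorem exists_gen_of_cyclic_quotient (Z : Subgroup X) [Z.Normal] (Cbar : Subgroup (X ⧸ Z))
    [IsCyclic Cbar] :
    ∃ g : X, Cbar = Subgroup.zpowers (g : X ⧸ Z) ∧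
      ∀ x ∈ Cbar.comap (QuotientGroup.mk' Z), ∃ k : ℤ, ∃ z ∈ Z, x = g ^ k * z := by
  obtain ⟨gbar, -, hg⟩ := exists_eq_zpowers_of_isCyclic Cbar
  obtain ⟨g, rfl⟩ := QuotientGroup.mk_surjective gbar
  refine ⟨g, hg, ?_⟩
  intro x hx
  rw [Subgroup.mem_comap, hg] at hx
  obtain ⟨k, hk⟩ := Subgroup.mem_zpowers_iff.1 hx
  refine ⟨k, (g ^ k)⁻¹ * x, ?_, by group⟩
  have h1 : ((g ^ k : X) : X ⧸ Z) = (x : X ⧸ Z) := by
    rw [QuotientGroup.mk_zpow]; exact hk
  exact QuotientGroup.eq.1 h1

theorem normal_zpowers_of_conj_mem (h : X) (hc : ∀ x : X, x * h * x⁻¹ ∈ Subgroup.zpowers h) :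
    (Subgroup.zpowers h).Normal := by
  constructor
  intro n hn x
  obtain ⟨j, rfl⟩ := Subgroup.mem_zpowers_iff.1 hn
  have h1 : x * h ^ j * x⁻¹ = (x * h * x⁻¹) ^ j := by
    have := map_zpow (MulAut.conj x) h j
    simpa [MulAut.conj_apply] using this
  rw [h1]
  exact Subgroup.zpow_mem _ (hc x) j

theorem mul_comm_of_sq_eq_one (h : ∀ x : X, x ^ 2 = 1) (a b : X) : a * b = b * a := by
  have ha : a⁻¹ = a := by
    have := h a
    rw [sq] at this
    exact inv_eq_of_mul_eq_one_left this
  have hb : b⁻¹ = b := by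
    have := h b
    rw [sq] at this
    exact inv_eq_of_mul_eq_one_left this
  have hab : (a * b)⁻¹ = a * b := by
    have := h (a * b)
    rw [sq] at this
    exact inv_eq_of_mul_eq_one_left this
  rw [mul_inv_rev, ha, hb] at hab
  exact hab.symm

theorem not_comm_of_class [Finite X] {n : ℕ} (hn : 3 ≤ n)
    (hc : Group.nilpotencyClass X = n - 1) : ¬ IsMulCommutative X := by
  intro h
  haveI : Group.IsNilpotent X := by
    by_contra hnn
    have := Group.nilpotencyClass_of_not_nilpotent hnn
    omega
  have := Group.IsNilpotent.nilpotencyClass_le_one_iff.2 h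
  omega

set_option maxHeartbeats 400000 in
/-- A 2-group of maximal class has a cyclic subgroup of index 2. -/
theorem exists_cyclic_index_two : ∀ (n : ℕ), 3 ≤ n → ∀ (X : Type u) [Group X] [Finite X],
    Nat.card X = 2 ^ n → Group.nilpotencyClass X = n - 1 →
    ∃ C : Subgroup X, IsCyclic C ∧ C.index = 2 := by
  intro n hn
  induction n, hn using Nat.le_induction with
  | base =>
    intro X _ _ hX hc
    have hnc := not_comm_of_class (X := X) (n := 3) le_rfl hc
    obtain ⟨x, hx⟩ : ∃ x : X, x ^ 2 ≠ 1 := by
      by_contra hcon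
      apply hnc
      exact ⟨⟨mul_comm_of_sq_eq_one (fun x => by
        by_contra hx
        exact hcon ⟨x, hx⟩)⟩⟩
    have hdvd : orderOf x ∣ 2 ^ 3 := hX ▸ orderOf_dvd_natCard x
    obtain ⟨k, hk3, hk⟩ := (Nat.dvd_prime_pow Nat.prime_two).1 hdvd
    have hk2 : k = 2 := by
      interval_cases k
      · exfalso; apply hx
        rw [pow_zero, orderOf_eq_one_iff] at hk
        rw [hk, one_pow]
      · exfalso; apply hx
        rw [pow_one] at hk
        rw [← hk, pow_orderOf_eq_one]
      · rfl
      · exfalso; apply hnc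
        have hcyc : IsCyclic X := isCyclic_of_orderOf_eq_card x (by rw [hk, hX])
        exact ⟨⟨fun a b => by
          letI := hcyc.commGroup
          exact mul_comm a b⟩⟩
    subst hk2
    refine ⟨Subgroup.zpowers x, inferInstance, ?_⟩
    have h1 := Subgroup.card_mul_index (Subgroup.zpowers x)
    rw [Nat.card_zpowers, hk, hX] at h1
    omega
  | succ n hn ih =>
    intro X _ _ hX hc
    have hXp : IsPGroup 2 X := IsPGroup.of_card hX
    haveI : Fact (Nat.Prime 2) := ⟨Nat.prime_two⟩
    obtain ⟨hZ, hQ, hQc⟩ := maxClass_center (p := 2) (n + 1) (by omega) hX hc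
    have hQ' : Nat.card (X ⧸ Subgroup.center X) = 2 ^ n := by simpa using hQ
    have hQc' : Group.nilpotencyClass (X ⧸ Subgroup.center X) = n - 1 := by
      rw [hQc]; omega
    obtain ⟨Cbar, hCc, hCi⟩ := ih (X ⧸ Subgroup.center X) hQ' hQc'
    haveI := hCc
    obtain ⟨g, hCg, hM⟩ := exists_gen_of_cyclic_quotient (Subgroup.center X) Cbar
    set M : Subgroup X := Cbar.comap (QuotientGroup.mk' (Subgroup.center X)) with hMdef
    have hMi : M.index = 2 := by
      rw [hMdef, Subgroup.index_comap_of_surjective _ (QuotientGroup.mk'_surjective _)]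
      exact hCi
    haveI hMn : M.Normal := Subgroup.normal_of_index_eq_two hMi
    have hgM : g ∈ M := by
      rw [hMdef, Subgroup.mem_comap, hCg]
      exact Subgroup.mem_zpowers _
    have hZM : Subgroup.center X ≤ M := by
      intro z hz
      rw [hMdef, Subgroup.mem_comap]
      have : (QuotientGroup.mk' (Subgroup.center X)) z = 1 := by
        rw [QuotientGroup.mk'_apply, QuotientGroup.eq_one_iff]; exact hz
      rw [this]; exact Subgroup.one_mem _
    by_cases hZA : Subgroup.center X ≤ Subgroup.zpowers g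
    · -- M is cyclic
      have hMA : M = Subgroup.zpowers g := by
        apply le_antisymm
        · intro x hx
          obtain ⟨k, z, hz, rfl⟩ := hM x hx
          exact Subgroup.mul_mem _ (Subgroup.zpow_mem _ (Subgroup.mem_zpowers g) k) (hZA hz)
        · exact Subgroup.zpowers_le.2 hgM
      refine ⟨M, ?_, hMi⟩
      rw [hMA]; infer_instance
    · exfalso
      -- A ⊓ Z = ⊥
      have hAZ : Subgroup.zpowers g ⊓ Subgroup.center X = ⊥ := by
        by_contra hne
        apply hZA
        have h1 : Nat.card ↥(Subgroup.zpowers g ⊓ Subgroup.center X) ∣ 2 := by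
          rw [← hZ]
          exact Subgroup.card_dvd_of_le inf_le_right
        have h2 : Nat.card ↥(Subgroup.zpowers g ⊓ Subgroup.center X) ≠ 1 := by
          rw [Ne, Subgroup.card_eq_one]; exact hne
        have h3 : Nat.card ↥(Subgroup.zpowers g ⊓ Subgroup.center X) = 2 := by
          rcases (Nat.dvd_prime Nat.prime_two).1 h1 with h | h
          · exact absurd h h2
          · exact h
        have h4 : Subgroup.zpowers g ⊓ Subgroup.center X = Subgroup.center X :=
          Subgroup.eq_of_le_of_card_ge inf_le_right (by rw [h3, hZ])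
        rw [← h4]; exact inf_le_left
      -- the order of g is at least 4
      have hord : 2 ^ (n - 1) ∣ orderOf g := by
        have h1 : Nat.card Cbar * Cbar.index = 2 ^ n := by
          rw [Subgroup.card_mul_index, hQ']
        rw [hCi] at h1
        have h2 : Nat.card Cbar = 2 ^ (n - 1) := by
          have h3 : (2 : ℕ) ^ n = 2 ^ (n - 1) * 2 := by
            rw [← pow_succ]; congr 1; omega
          rw [h3] at h1
          exact Nat.eq_of_mul_eq_mul_right (by norm_num) h1
        rw [← h2, hCg, Nat.card_zpowers]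
        exact orderOf_map_dvd (QuotientGroup.mk' (Subgroup.center X)) g
      have hg2 : g ^ 2 ≠ 1 := by
        intro h
        have h1 : orderOf g ∣ 2 := orderOf_dvd_of_pow_eq_one h
        have h2 : 2 ^ (n - 1) ∣ 2 := hord.trans h1
        have h3 : (2 : ℕ) ^ 2 ∣ 2 ^ (n - 1) := pow_dvd_pow 2 (by omega)
        have := h3.trans h2
        omega
      -- ⟨g²⟩ is normal
      haveI hNn : (Subgroup.zpowers (g ^ 2)).Normal := by
        apply normal_zpowers_of_conj_mem
        intro x
        have hxg : x * g * x⁻¹ ∈ M := hMn.conj_mem g hgM x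
        obtain ⟨k, z, hz, hk⟩ := hM _ hxg
        have hz2 : z ^ 2 = 1 := by
          have h1 : (⟨z, hz⟩ : Subgroup.center X) ^ 2 = 1 := by
            rw [← hZ]; exact pow_card_eq_one'
          exact congrArg Subtype.val h1
        have hzc : ∀ y : X, z * y = y * z := fun y =>
          (Subgroup.mem_center_iff.1 hz y).symm
        have h1 : x * g ^ 2 * x⁻¹ = (x * g * x⁻¹) ^ 2 := by
          rw [sq, sq]; group
        rw [h1, hk]
        have h2 : (g ^ k * z) ^ 2 = (g ^ 2) ^ k := by
          rw [sq (g ^ k * z)]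
          calc g ^ k * z * (g ^ k * z) = g ^ k * (z * g ^ k) * z := by group
            _ = g ^ k * (g ^ k * z) * z := by rw [hzc]
            _ = g ^ k * g ^ k * (z * z) := by group
            _ = g ^ k * g ^ k := by rw [← sq z, hz2, mul_one]
            _ = (g ^ 2) ^ k := by
              rw [← zpow_natCast g 2, ← zpow_mul, Nat.cast_ofNat, two_mul, zpow_add]
        rw [h2]
        exact Subgroup.zpow_mem _ (Subgroup.mem_zpowers _) k
      have hNne : Subgroup.zpowers (g ^ 2) ≠ ⊥ := by
        rw [Ne, Subgroup.zpowers_eq_bot]; exact hg2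
      obtain ⟨b, hbN, hb1, hbc⟩ :=
        Cfsg.Agent.Helper5.exists_ne_one_mem_center_of_normal hXp _ hNne
      apply hb1
      have hbA : b ∈ Subgroup.zpowers g :=
        (Subgroup.zpowers_le.2 (Subgroup.pow_mem _ (Subgroup.mem_zpowers g) 2)) hbN
      have hbZ : b ∈ Subgroup.center X := by
        rw [Subgroup.mem_center_iff]
        intro y; exact hbc y
      have : b ∈ Subgroup.zpowers g ⊓ Subgroup.center X := ⟨hbA, hbZ⟩
      rw [hAZ, Subgroup.mem_bot] at this
      exact this

end Cfsg.Agent.Helper1
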