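import Mathlib
import Cfsg.Agent.Helper1.MaxClass2Group
import Cfsg.Agent.Helper2.DihedralIso

set_option autoImplicit false

/-!
The central quotient of a 2-group of maximal class is dihedral.
-/

namespace Cfsg.Agent.Helper1

universe u

/-- a group with a cyclic subgroup of index two outside of which all elements are involutions is
dihedral -/
theorem dihedral_of_cyclic_index_two_invol {Q : Type u} [Group Q] [Finite Q] (C : Subgroup Q)
    [IsCyclic C] (hC : C.index = 2) (hinv : ∀ y : Q, y ∉ C → y * y = 1) :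
    Nonempty (Q ≃* DihedralGroup (Nat.card C)) := by
  obtain ⟨c, hcC, hCc⟩ := exists_eq_zpowers_of_isCyclic C
  obtain ⟨s, hs⟩ : ∃ s : Q, s ∉ C := by
    by_contra h
    have htop : C = ⊤ := by
      rw [eq_top_iff]
      intro x _
      by_contra hx
      exact h ⟨x, hx⟩
    rw [htop, Subgroup.index_top] at hC
    omega
  have hss : s * s = 1 := hinv s hs
  have hsc : s * c ∉ C := fun h => hs ((Subgroup.mul_mem_cancel_right C hcC).1 h)
  have hy : (s * c) * (s * c) = 1 := hinv _ hsc
  have hs1 : s ≠ 1 := fun h => hs (h ▸ C.one_mem)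
  have hy1 : s * c ≠ 1 := fun h => hsc (h ▸ C.one_mem)
  obtain ⟨e⟩ := Cfsg.Agent.Helper2.closure_pair_invol_equiv_dihedral hss hy hs1 hy1
  have hprod : s * (s * c) = c := by rw [← mul_assoc, hss, one_mul]
  have hord : orderOf (s * (s * c)) = Nat.card C := by
    rw [hprod, ← Nat.card_zpowers, ← hCc]
  rw [hord] at e
  have hcard : Nat.card ↥(Subgroup.closure ({s, s * c} : Set Q)) = Nat.card Q := by
    rw [Nat.card_congr e.toEquiv, DihedralGroup.nat_card, ← hC, mul_comm, Subgroup.card_mul_index]
  have htop : Subgroup.closure ({s, s * c} : Set Q) = ⊤ := Subgroup.eq_top_of_card_eq _ hcard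
  exact ⟨(Subgroup.topEquiv.symm.trans (MulEquiv.subgroupCongr htop.symm)).trans e⟩

set_option maxHeartbeats 400000 in
/-- The central quotient of a 2-group of maximal class is dihedral. -/
theorem maxClass_quotient_center_dihedral {X : Type u} [Group X] [Finite X] (n : ℕ) (hn : 3 ≤ n)
    (hX : Nat.card X = 2 ^ n) (hc : Group.nilpotencyClass X = n - 1) :
    Nonempty (X ⧸ Subgroup.center X ≃* DihedralGroup (2 ^ (n - 2))) := by
  haveI : Fact (Nat.Prime 2) := ⟨Nat.prime_two⟩
  obtain ⟨C, hCc, hCi⟩ := exists_cyclic_index_two n hn X hX hc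
  haveI := hCc
  obtain ⟨hZ, hQ, -⟩ := maxClass_center (p := 2) n hn hX hc
  obtain ⟨c, hcC, hCz⟩ := exists_eq_zpowers_of_isCyclic C
  have hCcomm : ∀ a ∈ C, ∀ b ∈ C, a * b = b * a := by
    intro a ha b hb
    rw [hCz] at ha hb
    obtain ⟨i, rfl⟩ := Subgroup.mem_zpowers_iff.1 ha
    obtain ⟨j, rfl⟩ := Subgroup.mem_zpowers_iff.1 hb
    rw [← zpow_add, ← zpow_add, add_comm]
  have hCcard : Nat.card C = 2 ^ (n - 1) := by
    have h1 := Subgroup.card_mul_index C
    rw [hCi, hX] at h1
    have h3 : (2 : ℕ) ^ n = 2 ^ (n - 1) * 2 := by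
      rw [← pow_succ]; congr 1; omega
    rw [h3] at h1
    exact Nat.eq_of_mul_eq_mul_right (by norm_num) h1
  -- Z ≤ C
  have hZC : Subgroup.center X ≤ C := by
    intro z hz
    by_contra hzC
    have hcen : C ≤ Subgroup.center X := by
      intro a ha
      rw [Subgroup.mem_center_iff]
      intro x
      by_cases hx : x ∈ C
      · exact hCcomm x hx a ha
      · have h1 : z⁻¹ * x ∈ C := by
          rw [Subgroup.mul_mem_iff_of_index_two hCi]
          constructor
          · intro h; exact absurd (C.inv_mem_iff.1 h) hzC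
          · intro h; exact absurd h hx
        have h2 := hCcomm _ h1 a ha
        have hza : z * a = a * z := (Subgroup.mem_center_iff.1 hz a).symm
        calc x * a = z * ((z⁻¹ * x) * a) := by group
          _ = z * (a * (z⁻¹ * x)) := by rw [h2]
          _ = (z * a) * (z⁻¹ * x) := by group
          _ = (a * z) * (z⁻¹ * x) := by rw [hza]
          _ = a * x := by group
    have h1 := Subgroup.card_le_of_le hcen
    rw [hCcard, hZ] at h1
    have h2 : (2 : ℕ) ^ 2 ≤ 2 ^ (n - 1) := Nat.pow_le_pow_right (by norm_num) (by omega)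
    omega
  -- squares of elements outside C are central
  have hsq : ∀ y : X, y ∉ C → y * y ∈ Subgroup.center X := by
    intro y hy
    have hyy : y * y ∈ C := Subgroup.mul_self_mem_of_index_two hCi y
    rw [Subgroup.mem_center_iff]
    intro x
    by_cases hx : x ∈ C
    · exact hCcomm x hx _ hyy
    · have h1 : y⁻¹ * x ∈ C := by
        rw [Subgroup.mul_mem_iff_of_index_two hCi]
        constructor
        · intro h; exact absurd (C.inv_mem_iff.1 h) hy
        · intro h; exact absurd h hx
      have h2 := hCcomm _ h1 _ hyy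
      calc x * (y * y) = y * ((y⁻¹ * x) * (y * y)) := by group
        _ = y * ((y * y) * (y⁻¹ * x)) := by rw [h2]
        _ = y * y * x := by group
  -- the image of C
  set Cbar : Subgroup (X ⧸ Subgroup.center X) := C.map (QuotientGroup.mk' (Subgroup.center X))
    with hCbar
  haveI : IsCyclic Cbar :=
    isCyclic_of_surjective _ ((QuotientGroup.mk' (Subgroup.center X)).subgroupMap_surjective C)
  have hCbi : Cbar.index = 2 := by
    rw [hCbar, Subgroup.index_map_eq _ (QuotientGroup.mk'_surjective _)
      (by rw [QuotientGroup.ker_mk']; exact hZC)]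
    exact hCi
  have hinv : ∀ y : X ⧸ Subgroup.center X, y ∉ Cbar → y * y = 1 := by
    intro ybar hybar
    obtain ⟨y, rfl⟩ := QuotientGroup.mk_surjective ybar
    have hy : y ∉ C := fun h => hybar (Subgroup.mem_map_of_mem _ h)
    have := hsq y hy
    rw [← QuotientGroup.mk_mul, QuotientGroup.eq_one_iff]
    exact this
  have hCbcard : Nat.card Cbar = 2 ^ (n - 2) := by
    have h1 := Subgroup.card_mul_index Cbar
    rw [hCbi, hQ] at h1
    have h3 : (2 : ℕ) ^ (n - 1) = 2 ^ (n - 2) * 2 := by
      rw [← pow_succ]; congr 1; omega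
    rw [h3] at h1
    exact Nat.eq_of_mul_eq_mul_right (by norm_num) h1
  have := dihedral_of_cyclic_index_two_invol Cbar hCbi hinv
  rwa [hCbcard] at this

end Cfsg.Agent.Helper1
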