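import Mathlib
import Cfsg.Agent.Lead.LLemA
import Cfsg.Agent.Helper4.PCore
import Cfsg.Agent.Helper5.Basic

set_option autoImplicit false
set_option linter.unusedSectionVars false
set_option linter.unusedVariables false

/-!
S2858 project, piece F1 (helper1): primitive groups with a suborbit of length three
(S3685, S3385) from the amalgam theorem S2858. Part A: a subgroup of index three.
-/

namespace Cfsg.Agent.Helper1.Sims3

section typeLevel

variable {P : Type*} [Group P] [Finite P]

/-- the index of the core of a subgroup of index three divides six. -/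
theorem index_normalCore_dvd_six (T : Subgroup P) (h3 : T.index = 3) : T.normalCore.index ∣ 6 := by
  classical
  rw [Subgroup.normalCore_eq_ker, Subgroup.index_ker]
  have hfin : Finite (P ⧸ T) := Subgroup.finite_quotient_of_finiteIndex (H := T)
  have : Fintype (P ⧸ T) := Fintype.ofFinite _
  have hc : Nat.card (Equiv.Perm (P ⧸ T)) = 6 := by
    rw [Nat.card_eq_fintype_card, Fintype.card_perm, ← Nat.card_eq_fintype_card]
    have : Nat.card (P ⧸ T) = 3 := h3
    rw [this]
    rfl
  rw [← hc]
  exact Subgroup.card_subgroup_dvd_card _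

/-- the core has index at most two in a subgroup of index three. -/
theorem relIndex_normalCore (T : Subgroup P) (h3 : T.index = 3) :
    T.normalCore.relIndex T = 1 ∨ T.normalCore.relIndex T = 2 := by
  have h1 := Subgroup.relIndex_mul_index (Subgroup.normalCore_le T)
  have h2 := index_normalCore_dvd_six T h3
  rw [h3] at h1
  rw [← h1] at h2
  have h4 : T.normalCore.relIndex T ∣ 2 := by
    have : T.normalCore.relIndex T * 3 ∣ 2 * 3 := h2
    exact Nat.dvd_of_mul_dvd_mul_right (by norm_num) this
  have := (Nat.dvd_prime Nat.prime_two).mp h4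
  exact this

/-- elements of odd order of a subgroup of index three lie in its core. -/
theorem odd_mem_normalCore (T : Subgroup P) (h3 : T.index = 3) {x : P} (hx : x ∈ T)
    (hodd : Odd (orderOf x)) : x ∈ T.normalCore := by
  have h2 : x ^ 2 ∈ T.normalCore := by
    have hne : T.normalCore.relIndex T ≠ 0 := by
      rcases relIndex_normalCore T h3 with h | h <;> omega
    have := Subgroup.pow_mem_of_relIndex_ne_zero_of_dvd hne hx (n := 2) (by
      intro m hm0 hm
      rcases relIndex_normalCore T h3 with h | h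
      · rw [h] at hm
        have : m = 1 := by omega
        rw [this]
        exact one_dvd _
      · rw [h] at hm
        have : m = 1 ∨ m = 2 := by omega
        rcases this with rfl | rfl
        · exact one_dvd _
        · exact dvd_refl _)
    exact this.1
  obtain ⟨k, hk⟩ := hodd
  have : x = (x ^ 2) ^ (k + 1) := by
    rw [← pow_mul]
    have : 2 * (k + 1) = orderOf x + 1 := by omega
    rw [this, pow_succ, pow_orderOf_eq_one, one_mul]
  rw [this]
  exact Subgroup.pow_mem _ h2 _

/-- the quotient by the core of a non-normal subgroup of index three is `S₃`. -/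
theorem quot_normalCore (T : Subgroup P) (h3 : T.index = 3) :
    T ≤ T.normalCore ∨
      (T.normalCore.relIndex T = 2 ∧ Nonempty (P ⧸ T.normalCore ≃* Equiv.Perm (Fin 3))) := by
  classical
  rcases relIndex_normalCore T h3 with h | h
  · left
    exact Subgroup.relIndex_eq_one.mp h
  · right
    refine ⟨h, ?_⟩
    have hidx : T.normalCore.index = 6 := by
      rw [← Subgroup.relIndex_mul_index (Subgroup.normalCore_le T), h, h3]
    have hfin : Finite (P ⧸ T) := Subgroup.finite_quotient_of_finiteIndex (H := T)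
    have : Fintype (P ⧸ T) := Fintype.ofFinite _
    have hc : Nat.card (Equiv.Perm (P ⧸ T)) = 6 := by
      rw [Nat.card_eq_fintype_card, Fintype.card_perm, ← Nat.card_eq_fintype_card]
      have : Nat.card (P ⧸ T) = 3 := h3
      rw [this]
      rfl
    have hker : T.normalCore = (MulAction.toPermHom P (P ⧸ T)).ker := Subgroup.normalCore_eq_ker T
    have hrange : (MulAction.toPermHom P (P ⧸ T)).range = ⊤ := by
      apply Subgroup.eq_top_of_card_eq
      rw [← Subgroup.index_ker, ← hker, hidx, hc]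
    have hsurj : Function.Surjective (MulAction.toPermHom P (P ⧸ T)) :=
      MonoidHom.range_eq_top.mp hrange
    have e1 : P ⧸ T.normalCore ≃* P ⧸ (MulAction.toPermHom P (P ⧸ T)).ker :=
      QuotientGroup.quotientMulEquivOfEq hker
    have e2 := QuotientGroup.quotientKerEquivOfSurjective (MulAction.toPermHom P (P ⧸ T)) hsurj
    have e3 : (P ⧸ T) ≃ Fin 3 := Finite.equivFinOfCardEq h3
    exact ⟨(e1.trans e2).trans e3.permCongrHom⟩

end typeLevel

section subgroupLevel

open Cfsg.Agent.Lead.LLem

variable {G : Type*} [Group G] [Finite G]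

/-- conjugates by elements of `P` of odd order elements of a subgroup `T` of index three of `P`
stay in `T`. -/
theorem conj_mem_of_odd {P T : Subgroup G} (hTP : T ≤ P) (h3 : T.relIndex P = 3) {x : G} (hx : x ∈ T)
    (hodd : Odd (orderOf x)) {g : G} (hg : g ∈ P) : g * x * g⁻¹ ∈ T := by
  have hx' : (⟨x, hTP hx⟩ : P) ∈ T.subgroupOf P := by
    rw [Subgroup.mem_subgroupOf]
    exact hx
  have hord : orderOf (⟨x, hTP hx⟩ : P) = orderOf x := by
    rw [← Subgroup.orderOf_coe]
  have hcore := odd_mem_normalCore (T.subgroupOf P) h3 hx' (by rw [hord]; exact hodd)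
  have h1 := (Subgroup.normalCore_normal (T.subgroupOf P)).conj_mem _ hcore ⟨g, hg⟩
  have h2 := Subgroup.normalCore_le _ h1
  rw [Subgroup.mem_subgroupOf] at h2
  exact h2

/-- the Sylow subgroup attached to a `2`-subgroup of index three. -/
noncomputable def sylowOf {P T : Subgroup G} (hT : IsPGroup 2 T) (h3 : T.relIndex P = 3) : Sylow 2 P :=
  (hT.comap_subtype (K := P)).toSylow (by
    have : (T.subgroupOf P).index = 3 := h3
    change ¬ 2 ∣ (T.subgroupOf P).index
    rw [this]
    norm_num)

theorem coe_sylowOf {P T : Subgroup G} (hT : IsPGroup 2 T) (h3 : T.relIndex P = 3) :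
    ((sylowOf hT h3 : Sylow 2 P) : Subgroup P) = T.subgroupOf P := rfl

/-- `O_2(P)` is the core of a `2`-subgroup of index three. -/
theorem pCore_eq_normalCore {P T : Subgroup G} (hT : IsPGroup 2 T) (h3 : T.relIndex P = 3) :
    Cfsg.pCore 2 ↥P = (T.subgroupOf P).normalCore := by
  apply le_antisymm
  · haveI := Cfsg.Agent.Helper4.pCore_normal (G := ↥P) (p := 2)
    rw [Subgroup.normal_le_normalCore]
    have := Cfsg.Agent.Helper4.pCore_le_sylow (sylowOf hT h3)
    rwa [coe_sylowOf] at this
  · apply Cfsg.Agent.Helper4.le_pCore _ (Subgroup.normalCore_normal _)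
    exact (hT.comap_subtype (K := P)).to_le (Subgroup.normalCore_le _)

theorem pCoreOf_le_of_index_three {P T : Subgroup G} (hTP : T ≤ P) (hT : IsPGroup 2 T)
    (h3 : T.relIndex P = 3) : Cfsg.pCoreOf 2 P ≤ T := by
  unfold Cfsg.pCoreOf
  rw [pCore_eq_normalCore hT h3]
  rintro _ ⟨y, hy, rfl⟩
  have := Subgroup.normalCore_le _ hy
  rw [Subgroup.mem_subgroupOf] at this
  exact this

/-- the dichotomy for a `2`-subgroup of index three. -/
theorem dichotomy {P T : Subgroup G} (hTP : T ≤ P) (hT : IsPGroup 2 T) (h3 : T.relIndex P = 3) :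
    T ≤ Cfsg.pCoreOf 2 P ∨
      ((Cfsg.pCoreOf 2 P).relIndex T = 2 ∧
        Nonempty (↥P ⧸ Cfsg.pCore 2 ↥P ≃* Equiv.Perm (Fin 3))) := by
  haveI := Cfsg.Agent.Helper4.pCore_normal (G := ↥P) (p := 2)
  have hcore := pCore_eq_normalCore hT h3
  rcases quot_normalCore (T.subgroupOf P) h3 with h | ⟨h, ⟨e⟩⟩
  · left
    intro x hx
    have : (⟨x, hTP hx⟩ : P) ∈ (T.subgroupOf P).normalCore := h (by
      rw [Subgroup.mem_subgroupOf]; exact hx)
    rw [← hcore] at this
    exact ⟨⟨x, hTP hx⟩, this, rfl⟩
  · right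
    refine ⟨?_, ⟨(QuotientGroup.quotientMulEquivOfEq hcore).trans e⟩⟩
    have hle : Cfsg.pCoreOf 2 P ≤ T := pCoreOf_le_of_index_three hTP hT h3
    have e1 : (Cfsg.pCoreOf 2 P).relIndex T
        = ((T.subgroupOf P).normalCore).relIndex (T.subgroupOf P) := by
      rw [← hcore]
      unfold Cfsg.pCoreOf
      rw [← Subgroup.relIndex_map_map_of_injective _ _ P.subtype_injective]
      congr 1
      rw [Subgroup.subgroupOf_map_subtype]
      exact (inf_eq_left.mpr hTP).symm
    rw [e1, h]

/-- the subgroup of elements stabilizing a set under conjugation. -/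
def conjStab (S : Set G) : Subgroup G where
  carrier := {g | ∀ x, x ∈ S ↔ g * x * g⁻¹ ∈ S}
  one_mem' := by
    intro x
    simp
  mul_mem' := by
    intro g h hg hh x
    rw [hh x, hg (h * x * h⁻¹)]
    have : g * (h * x * h⁻¹) * g⁻¹ = g * h * x * (g * h)⁻¹ := by group
    rw [this]
  inv_mem' := by
    intro g hg x
    rw [hg (g⁻¹ * x * g⁻¹⁻¹)]
    have : g * (g⁻¹ * x * g⁻¹⁻¹) * g⁻¹ = x := by group
    rw [this]

theorem mem_conjStab {S : Set G} {g : G} : g ∈ conjStab S ↔ ∀ x, x ∈ S ↔ g * x * g⁻¹ ∈ S := Iff.rfl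

theorem orderOf_conj' (g x : G) : orderOf (g * x * g⁻¹) = orderOf x := by
  have := MulEquiv.orderOf_eq (MulAut.conj g) x
  rwa [MulAut.conj_apply] at this

/-- the common subgroup of index three of two subgroups generating a group in which it is core-free
is a `2`-group. -/
theorem isPGroup_two_of_pair {A B T : Subgroup G} (hTA : T ≤ A) (hTB : T ≤ B)
    (h3A : T.relIndex A = 3) (h3B : T.relIndex B = 3) (hgen : A ⊔ B = ⊤)
    (hcore : ∀ N : Subgroup G, N.Normal → N ≤ T → N = ⊥) : IsPGroup 2 T := by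
  obtain ⟨S, hS⟩ : ∃ S : Set G, S = {x | x ∈ T ∧ Odd (orderOf x)} := ⟨_, rfl⟩
  have hone : ∀ {P : Subgroup G}, T ≤ P → T.relIndex P = 3 → P ≤ conjStab S := by
    intro P hTP h3 g hg
    have key : ∀ g ∈ P, ∀ x ∈ S, g * x * g⁻¹ ∈ S := by
      intro g hg x hx
      rw [hS] at hx ⊢
      exact ⟨conj_mem_of_odd hTP h3 hx.1 hx.2 hg, by rw [orderOf_conj']; exact hx.2⟩
    rw [mem_conjStab]
    intro x
    refine ⟨key g hg x, fun h => ?_⟩
    have := key g⁻¹ (P.inv_mem hg) _ h
    have e : g⁻¹ * (g * x * g⁻¹) * g⁻¹⁻¹ = x := by group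
    rwa [e] at this
  have htop : conjStab S = ⊤ := by
    rw [eq_top_iff, ← hgen]
    exact sup_le (hone hTA h3A) (hone hTB h3B)
  have hN : Subgroup.normalClosure S ≤ T := by
    unfold Subgroup.normalClosure
    rw [Subgroup.closure_le]
    intro y hy
    rw [Group.mem_conjugatesOfSet_iff] at hy
    obtain ⟨x, hx, hxy⟩ := hy
    obtain ⟨c, hc⟩ := isConj_iff.mp hxy
    have h1 : c ∈ conjStab S := by rw [htop]; trivial
    have h2 := (mem_conjStab.mp h1 x).mp hx
    rw [hc, hS] at h2
    exact h2.1
  have hbot := hcore _ Subgroup.normalClosure_normal hN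
  have hS1 : ∀ x ∈ S, x = 1 := by
    intro x hx
    have : x ∈ Subgroup.normalClosure S := Subgroup.subset_normalClosure hx
    rw [hbot] at this
    exact Subgroup.mem_bot.mp this
  intro y
  have hy0 : orderOf (y : G) ≠ 0 := (orderOf_pos (y : G)).ne'
  obtain ⟨k, m, hm, hkm⟩ := Nat.exists_eq_two_pow_mul_odd hy0
  refine ⟨k, ?_⟩
  apply Subtype.ext
  rw [Subgroup.coe_pow, Subgroup.coe_one]
  apply hS1
  rw [hS]
  refine ⟨T.pow_mem y.2 _, ?_⟩
  rw [orderOf_pow_of_dvd (by positivity) (by rw [hkm]; exact dvd_mul_right _ _), hkm,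
    Nat.mul_div_cancel_left _ (by positivity)]
  exact hm

/-- a conjugating element can be chosen in the normalizer of the common Sylow subgroup. -/
theorem exists_normalizing_conj {A B T : Subgroup G} (hTA : T ≤ A) (hTB : T ≤ B) (hT : IsPGroup 2 T)
    (h3B : T.relIndex B = 3) {g : G} (hg : B = cj g A) : ∃ u, B = cj u A ∧ cj u T = T := by
  haveI : Fact (Nat.Prime 2) := ⟨Nat.prime_two⟩
  have hT₂B : cj g T ≤ B := by rw [hg]; exact cj_mono hTA
  have hT₂ : IsPGroup 2 (cj g T) := isPGroup_cj hT
  obtain ⟨k, hk⟩ := Cfsg.Agent.Helper5.exists_conj_le_sylow (sylowOf hT h3B)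
    ((cj g T).subgroupOf B) (hT₂.comap_subtype (K := B))
  refine ⟨(k : G) * g, ?_, ?_⟩
  · rw [← cj_cj, ← hg, cj_of_mem k.2]
  · rw [← cj_cj]
    apply Subgroup.eq_of_le_of_card_ge
    · intro x hx
      rw [mem_cj] at hx
      have h1 : (⟨(k : G)⁻¹ * x * k, hT₂B hx⟩ : B) ∈ (cj g T).subgroupOf B := by
        rw [Subgroup.mem_subgroupOf]
        exact hx
      have h2 := hk _ h1
      rw [coe_sylowOf, Subgroup.mem_subgroupOf] at h2
      have e : ((k * (⟨(k : G)⁻¹ * x * k, hT₂B hx⟩ : B) * k⁻¹ : B) : G) = x := by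
        simp only [Subgroup.coe_mul, Subgroup.coe_inv]
        group
      rwa [e] at h2
    · rw [card_cj, card_cj]

end subgroupLevel

end Cfsg.Agent.Helper1.Sims3
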