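import Mathlib
import Cfsg.Agent.Helper1.Sims3A
import Cfsg.Agent.Helper1.MaxClassDihedral

set_option autoImplicit false
set_option linter.unusedSectionVars false
set_option linter.unusedVariables false

/-!
S2858 project, piece F1 (helper1), part B: the dihedral group of order twelve.
-/

namespace Cfsg.Agent.Helper1.Sims3

section typeLevel

variable {P : Type*} [Group P] [Finite P]

theorem perm3_sq_of_sign : ∀ σ : Equiv.Perm (Fin 3), Equiv.Perm.sign σ = -1 → σ * σ = 1 := by
  decide

/-- a group with a normal subgroup of order two with quotient `S₃` and in which elements squaring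
into this subgroup are involutions is dihedral of order twelve. -/
theorem dihedral12 (Q : Subgroup P) [Q.Normal] (hQ : Nat.card Q = 2)
    (e : P ⧸ Q ≃* Equiv.Perm (Fin 3)) (hexp : ∀ y : P, y ^ 2 ∈ Q → y ^ 2 = 1) :
    Nonempty (P ≃* DihedralGroup 6) := by
  classical
  -- the sign homomorphism
  let φ : P →* ℤˣ := (Equiv.Perm.sign.comp e.toMonoidHom).comp (QuotientGroup.mk' Q)
  have hφ : ∀ y, φ y = Equiv.Perm.sign (e (QuotientGroup.mk y)) := fun y => rfl
  have hφsurj : Function.Surjective φ := by
    intro s
    obtain ⟨σ, hσ⟩ := Equiv.Perm.sign_surjective (Fin 3) s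
    obtain ⟨q, hq⟩ := e.surjective σ
    obtain ⟨y, hy⟩ := QuotientGroup.mk_surjective q
    exact ⟨y, by rw [hφ, hy, hq, hσ]⟩
  have hcardP : Nat.card P = 12 := by
    rw [Subgroup.card_eq_card_quotient_mul_card_subgroup Q, hQ, Nat.card_congr e.toEquiv,
      Nat.card_eq_fintype_card, Fintype.card_perm, Fintype.card_fin]
    rfl
  have hK : Nat.card φ.ker = 6 := by
    have h1 := Subgroup.card_mul_index φ.ker
    have h2 : Nat.card ℤˣ = 2 := by
      rw [Nat.card_eq_fintype_card, Fintype.card_units_int]
    rw [Subgroup.index_ker, MonoidHom.range_eq_top.mpr hφsurj, Subgroup.card_top, hcardP, h2] at h1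
    omega
  -- the central involution
  obtain ⟨z, hzQ, hz1⟩ : ∃ z ∈ Q, z ≠ 1 := by
    have : Nontrivial Q := by
      rw [← Finite.one_lt_card_iff_nontrivial, hQ]; norm_num
    obtain ⟨z, hz⟩ := exists_ne (1 : Q)
    exact ⟨z, z.2, fun h => hz (Subtype.ext h)⟩
  have hQz : ∀ x ∈ Q, x = 1 ∨ x = z := by
    intro x hx
    by_contra hcon
    push Not at hcon
    have h3 : 3 ≤ Nat.card Q := by
      have hinj : Function.Injective (fun i : Fin 3 => (![⟨1, Q.one_mem⟩, ⟨z, hzQ⟩, ⟨x, hx⟩] i : Q)) := by
        intro i j hij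
        fin_cases i <;> fin_cases j <;> simp at hij <;> first | rfl | (exfalso; simp_all)
      have := Nat.card_le_card_of_injective _ hinj
      simpa using this
    omega
  have hzz : z * z = 1 := by
    rcases hQz (z * z) (Q.mul_mem hzQ hzQ) with h | h
    · exact h
    · exfalso
      apply hz1
      have : z * z = z * 1 := by rw [h, mul_one]
      exact mul_left_cancel this
  have hzc : ∀ g : P, g * z = z * g := by
    intro g
    have hn : Q.Normal := inferInstance
    rcases hQz _ (hn.conj_mem z hzQ g) with h | h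
    · exfalso
      apply hz1
      have : g * z * g⁻¹ = g * 1 * g⁻¹ := by rw [h]; group
      exact mul_left_cancel (mul_right_cancel this)
    · calc g * z = g * z * g⁻¹ * g := by group
        _ = z * g := by rw [h]
  have hzK : z ∈ φ.ker := by
    rw [MonoidHom.mem_ker, hφ, (QuotientGroup.eq_one_iff z).mpr hzQ, map_one, map_one]
  -- an element of order three
  haveI : Fact (Nat.Prime 3) := ⟨by norm_num⟩
  obtain ⟨d, hd⟩ := exists_prime_orderOf_dvd_card' (G := P) 3 (by rw [hcardP]; norm_num)
  have hdK : d ∈ φ.ker := by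
    rw [MonoidHom.mem_ker]
    have h3 : (φ d) ^ 3 = 1 := by rw [← map_pow, ← hd, pow_orderOf_eq_one, map_one]
    rcases Int.units_eq_one_or (φ d) with h | h
    · exact h
    · rw [h] at h3
      exact absurd h3 (by decide)
  have hz2 : orderOf z = 2 := orderOf_eq_prime (by rw [pow_two]; exact hzz) hz1
  have hr : orderOf (z * d) = 6 := by
    have hcomm : Commute z d := (hzc d).symm
    rw [hcomm.orderOf_mul_eq_mul_orderOf_of_coprime (by rw [hz2, hd]; norm_num), hz2, hd]
  have hrK : z * d ∈ φ.ker := φ.ker.mul_mem hzK hdK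
  have hCK : Subgroup.zpowers (z * d) = φ.ker := by
    apply Subgroup.eq_of_le_of_card_ge
    · rw [Subgroup.zpowers_le]; exact hrK
    · rw [Nat.card_zpowers, hr, hK]
  have hcardC : Nat.card (Subgroup.zpowers (z * d)) = 6 := by rw [Nat.card_zpowers, hr]
  have hidx : (Subgroup.zpowers (z * d)).index = 2 := by
    have h1 := Subgroup.card_mul_index (Subgroup.zpowers (z * d))
    rw [hcardC, hcardP] at h1
    omega
  have hinv : ∀ y : P, y ∉ Subgroup.zpowers (z * d) → y * y = 1 := by
    intro y hy
    rw [hCK, MonoidHom.mem_ker] at hy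
    have hs : Equiv.Perm.sign (e (QuotientGroup.mk y)) = -1 := by
      rcases Int.units_eq_one_or (φ y) with h | h
      · exact absurd h hy
      · rw [← hφ]; exact h
    have h2 := perm3_sq_of_sign _ hs
    have h3 : (QuotientGroup.mk (y * y) : P ⧸ Q) = 1 := by
      apply e.injective
      rw [QuotientGroup.mk_mul, map_mul, h2, map_one]
    have h4 : y ^ 2 ∈ Q := by
      rw [pow_two]
      exact (QuotientGroup.eq_one_iff _).mp h3
    have := hexp y h4
    rwa [pow_two] at this
  have := dihedral_of_cyclic_index_two_invol (Subgroup.zpowers (z * d)) hidx hinv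
  rwa [hcardC] at this

end typeLevel

end Cfsg.Agent.Helper1.Sims3
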