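import Mathlib
import Cfsg.Prelude.Def_PLocal
import Cfsg.Agent.Helper1.Sims3B

set_option autoImplicit false
set_option linter.unusedSectionVars false
set_option linter.unusedVariables false

/-!
S2858 project, piece F1 (helper1), part C: transport lemmas along a conjugation normalizing `T`.
-/

namespace Cfsg.Agent.Helper1.Sims3

open Cfsg.Agent.Lead.LLem

variable {G : Type*} [Group G]

theorem forall_pair {α : Type*} {p : α → Prop} {a b : α} (ha : p a) (hb : p b) :
    ∀ x ∈ ({a, b} : Set α), p x := by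
  intro x hx
  rcases hx with h | h
  · rw [h]; exact ha
  · rw [Set.mem_singleton_iff.mp h]; exact hb

/-- if both generators normalize a subgroup of `T`, it is trivial. -/
theorem eq_bot_of_normalized {A B T N : Subgroup G} (hgen : A ⊔ B = ⊤)
    (hcore : ∀ N : Subgroup G, N.Normal → N ≤ T → N = ⊥) (hN : N ≤ T)
    (hA : A ≤ Subgroup.normalizer (N : Set G)) (hB : B ≤ Subgroup.normalizer (N : Set G)) :
    N = ⊥ := by
  have : Subgroup.normalizer (N : Set G) = ⊤ := by
    rw [eq_top_iff, ← hgen]; exact sup_le hA hB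
  exact hcore N (Subgroup.normalizer_eq_top_iff.mp this) hN

theorem pCoreOf_cj (u : G) (A : Subgroup G) :
    Cfsg.pCoreOf 2 (cj u A) = cj u (Cfsg.pCoreOf 2 A) :=
  pCoreOf_map _ (MulAut.conj u).injective A

theorem cj_inv_cj (u : G) (A : Subgroup G) : cj u⁻¹ (cj u A) = A := by
  rw [cj_cj, inv_mul_cancel, cj_one]

theorem cj_cj_inv (u : G) (A : Subgroup G) : cj u (cj u⁻¹ A) = A := by
  rw [cj_cj, mul_inv_cancel, cj_one]

theorem cj_inv_eq {u : G} {T : Subgroup G} (hu : cj u T = T) : cj u⁻¹ T = T := by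
  conv_lhs => rw [← hu]
  exact cj_inv_cj u T

/-- transport of the condition `C_A(O_2(A)) ≤ O_2(A)`. -/
theorem cent_cond_cj {u : G} {A : Subgroup G}
    (h : A ⊓ Subgroup.centralizer (Cfsg.pCoreOf 2 A : Set G) ≤ Cfsg.pCoreOf 2 A) :
    cj u A ⊓ Subgroup.centralizer (Cfsg.pCoreOf 2 (cj u A) : Set G) ≤ Cfsg.pCoreOf 2 (cj u A) := by
  rw [pCoreOf_cj]
  intro x hx
  obtain ⟨hxA, hxC⟩ := Subgroup.mem_inf.mp hx
  rw [mem_cj] at hxA ⊢
  apply h
  refine Subgroup.mem_inf.mpr ⟨hxA, ?_⟩
  rw [Subgroup.mem_centralizer_iff] at hxC ⊢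
  intro q hq
  have := hxC (u * q * u⁻¹) (by rw [SetLike.mem_coe, mem_cj]; simpa [mul_assoc] using hq)
  calc q * (u⁻¹ * x * u) = u⁻¹ * (u * q * u⁻¹ * x) * u := by group
    _ = u⁻¹ * (x * (u * q * u⁻¹)) * u := by rw [this]
    _ = u⁻¹ * x * u * q := by group

/-- the subgroup `Ω₁(Z(T))` is invariant under conjugations normalizing `T`. -/
theorem cj_omega_le {u : G} {T : Subgroup G} (hu : cj u T = T) :
    cj u (Cfsg.omegaOne 2 (T ⊓ Subgroup.centralizer (T : Set G)))
      ≤ Cfsg.omegaOne 2 (T ⊓ Subgroup.centralizer (T : Set G)) := by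
  unfold Cfsg.omegaOne
  rw [cj, Subgroup.map_le_iff_le_comap, Subgroup.closure_le]
  rintro x ⟨hx, hx2⟩
  obtain ⟨hxT, hxC⟩ := Subgroup.mem_inf.mp hx
  apply Subgroup.subset_closure
  show (MulAut.conj u) x ∈ T ⊓ Subgroup.centralizer (T : Set G) ∧ ((MulAut.conj u) x) ^ 2 = 1
  rw [MulAut.conj_apply]
  refine ⟨Subgroup.mem_inf.mpr ⟨?_, ?_⟩, ?_⟩
  · rw [← hu, mem_cj]
    simpa [mul_assoc] using hxT
  · rw [Subgroup.mem_centralizer_iff] at hxC ⊢
    intro t ht
    have ht' : u⁻¹ * t * u ∈ T := by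
      have : t ∈ cj u T := by rw [hu]; exact ht
      rwa [mem_cj] at this
    have := hxC _ ht'
    calc t * (u * x * u⁻¹) = u * (u⁻¹ * t * u * x) * u⁻¹ := by group
      _ = u * (x * (u⁻¹ * t * u)) * u⁻¹ := by rw [this]
      _ = u * x * u⁻¹ * t := by group
  · have : (u * x * u⁻¹) ^ 2 = u * x ^ 2 * u⁻¹ := by
      rw [pow_two, pow_two]; group
    rw [this, hx2]
    group

theorem cj_omega_eq {u : G} {T : Subgroup G} (hu : cj u T = T) :
    cj u (Cfsg.omegaOne 2 (T ⊓ Subgroup.centralizer (T : Set G)))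
      = Cfsg.omegaOne 2 (T ⊓ Subgroup.centralizer (T : Set G)) := by
  apply le_antisymm (cj_omega_le hu)
  have := cj_omega_le (cj_inv_eq hu)
  rw [cj_le_iff, inv_inv] at this
  exact this

/-- transport of the condition `A ≤ C(Z)` along a conjugation normalizing `Z`. -/
theorem le_centralizer_cj {u : G} {A Z : Subgroup G} (hu : cj u Z = Z)
    (h : A ≤ Subgroup.centralizer (Z : Set G)) : cj u A ≤ Subgroup.centralizer (Z : Set G) := by
  intro x hx
  rw [mem_cj] at hx
  have h1 := h hx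
  rw [Subgroup.mem_centralizer_iff] at h1 ⊢
  intro z hz
  have hz' : u⁻¹ * z * u ∈ Z := by
    have : z ∈ cj u Z := by rw [hu]; exact hz
    rwa [mem_cj] at this
  have := h1 _ hz'
  calc z * x = u * (u⁻¹ * z * u * (u⁻¹ * x * u)) * u⁻¹ := by group
    _ = u * (u⁻¹ * x * u * (u⁻¹ * z * u)) * u⁻¹ := by rw [this]
    _ = x * z := by group

theorem omega_le (T : Subgroup G) :
    Cfsg.omegaOne 2 (T ⊓ Subgroup.centralizer (T : Set G)) ≤ T := by
  unfold Cfsg.omegaOne
  rw [Subgroup.closure_le]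
  rintro x ⟨hx, -⟩
  exact (Subgroup.mem_inf.mp hx).1

/-- an intermediate subgroup of a subgroup of index three. -/
theorem le_of_relIndex_three {K P T : Subgroup G} (hTK : T ≤ K) (hKP : K ≤ P)
    (h3 : T.relIndex P = 3) (hne : ¬ K ≤ T) : P ≤ K := by
  have h1 := Subgroup.relIndex_mul_relIndex T K P hTK hKP
  rw [h3] at h1
  have h2 : T.relIndex K ∣ 3 := Dvd.intro _ h1
  rcases (Nat.dvd_prime (by norm_num)).mp h2 with h | h
  · exact absurd (Subgroup.relIndex_eq_one.mp h) hne
  · rw [h] at h1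
    have : K.relIndex P = 1 := by omega
    exact Subgroup.relIndex_eq_one.mp this

/-- a nontrivial finite `2`-group has a central involution. -/
theorem exists_central_involution [Finite G] {T : Subgroup G} (hT : IsPGroup 2 T) (hne : T ≠ ⊥) :
    ∃ z, z ∈ T ⊓ Subgroup.centralizer (T : Set G) ∧ z ^ 2 = 1 ∧ z ≠ 1 := by
  haveI : Fact (Nat.Prime 2) := ⟨Nat.prime_two⟩
  haveI : Nontrivial T := (Subgroup.nontrivial_iff_ne_bot T).mpr hne
  haveI := hT.center_nontrivial
  have hZ : IsPGroup 2 (Subgroup.center T) := hT.to_subgroup _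
  have h2 : 2 ∣ Nat.card (Subgroup.center T) := by
    rcases hZ.card_eq_or_dvd with h | h
    · exfalso
      have := Finite.one_lt_card_iff_nontrivial.mpr (inferInstance : Nontrivial (Subgroup.center T))
      omega
    · exact h
  obtain ⟨z, hz⟩ := exists_prime_orderOf_dvd_card' (G := Subgroup.center T) 2 h2
  refine ⟨((z : T) : G), Subgroup.mem_inf.mpr ⟨(z : T).2, ?_⟩, ?_, ?_⟩
  · rw [Subgroup.mem_centralizer_iff]
    intro t ht
    have := Subgroup.mem_center_iff.mp z.2 ⟨t, ht⟩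
    have := congrArg (Subtype.val) this
    simpa using this
  · have : z ^ 2 = 1 := by rw [← hz, pow_orderOf_eq_one]
    have := congrArg (fun y : Subgroup.center T => ((y : T) : G)) this
    simpa using this
  · intro h
    have : z = 1 := by
      apply Subtype.ext
      apply Subtype.ext
      simpa using h
    rw [this, orderOf_one] at hz
    omega

end Cfsg.Agent.Helper1.Sims3
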