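import Mathlib
import Cfsg.Prelude.Def_PLocal
import Cfsg.Agent.Helper1.Sims3C

set_option autoImplicit false
set_option linter.unusedSectionVars false
set_option linter.unusedVariables false

/-!
S2858 project, piece F1 (helper1), part D: the abstract form of the theorem of Sims and Wong on
a pair of conjugate subgroups with a common subgroup of index three.
-/

namespace Cfsg.Agent.Helper1.Sims3

open Cfsg.Agent.Lead.LLem

variable {G : Type*} [Group G]

/-- the amalgam hypothesis (the statement S2858 for the group `G`). -/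
def GoldHyp (G : Type*) [Group G] : Prop :=
  ∀ (P₁ P₂ : Subgroup G) [Finite ↥P₁] [Finite ↥P₂], P₁ ⊔ P₂ = ⊤ → ∀ T : Subgroup G, T = P₁ ⊓ P₂ →
  (∀ P ∈ ({P₁, P₂} : Set (Subgroup G)),
    P ⊓ Subgroup.centralizer (Cfsg.pCoreOf 2 P : Set G) ≤ Cfsg.pCoreOf 2 P) →
  (∀ P ∈ ({P₁, P₂} : Set (Subgroup G)), ∃ S : Sylow 2 ↥P, (S : Subgroup ↥P) = T.subgroupOf P) →
  (∀ N : Subgroup G, N.Normal → N ≤ T → N = ⊥) →
  (∀ P ∈ ({P₁, P₂} : Set (Subgroup G)), Nonempty (↥P ⧸ Cfsg.pCore 2 ↥P ≃* Equiv.Perm (Fin 3))) →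
  (∀ P ∈ ({P₁, P₂} : Set (Subgroup G)),
    ¬ P ≤ Subgroup.centralizer (Cfsg.omegaOne 2 (T ⊓ Subgroup.centralizer (T : Set G)) : Set G)) →
  (Nonempty (↥P₁ ≃* Equiv.Perm (Fin 4)) ∧ Nonempty (↥P₂ ≃* Equiv.Perm (Fin 4))) ∨
  (Nonempty (↥P₁ ≃* Multiplicative (ZMod 2) × Equiv.Perm (Fin 4)) ∧
    Nonempty (↥P₂ ≃* Multiplicative (ZMod 2) × Equiv.Perm (Fin 4)))

theorem card_mul_relIndex' {T A : Subgroup G} (hTA : T ≤ A) :
    Nat.card T * T.relIndex A = Nat.card A := by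
  have := Subgroup.relIndex_mul_relIndex ⊥ T A bot_le hTA
  rwa [Subgroup.relIndex_bot_left, Subgroup.relIndex_bot_left] at this

variable [Finite G]

/-- Case one: `T` is normal in `A`. -/
theorem card_of_normal {A B T : Subgroup G} (hTA : T ≤ A) (hTB : T ≤ B) (hgen : A ⊔ B = ⊤)
    (h3A : T.relIndex A = 3) (hT2 : IsPGroup 2 T)
    (hcore : ∀ N : Subgroup G, N.Normal → N ≤ T → N = ⊥) {u : G} (hu : B = cj u A)
    (huT : cj u T = T) (hle : T ≤ Cfsg.pCoreOf 2 A) : Nat.card A = 3 := by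
  have hQA : Cfsg.pCoreOf 2 A = T := le_antisymm (pCoreOf_le_of_index_three hTA hT2 h3A) hle
  have hQB : Cfsg.pCoreOf 2 B = T := by rw [hu, pCoreOf_cj, hQA, huT]
  have hA : A ≤ Subgroup.normalizer (T : Set G) := by
    apply le_normalizer_of_cj_le
    intro y hy
    conv_lhs => rw [← hQA]
    rw [cj_pCoreOf hy, hQA]
  have hB : B ≤ Subgroup.normalizer (T : Set G) := by
    apply le_normalizer_of_cj_le
    intro y hy
    conv_lhs => rw [← hQB]
    rw [cj_pCoreOf hy, hQB]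
  have hbot := eq_bot_of_normalized hgen hcore le_rfl hA hB
  have := card_mul_relIndex' hTA
  rw [h3A, hbot, Subgroup.card_bot] at this
  omega

/-- all elements of `T` are involutions when the two cores intersect trivially. -/
theorem sq_eq_one_of_cores {T Q₁ Q₂ : Subgroup G} (h1 : Q₁.relIndex T = 2) (h2 : Q₂.relIndex T = 2)
    (hbot : Q₁ ⊓ Q₂ = ⊥) {t : G} (ht : t ∈ T) : t ^ 2 = 1 := by
  have key : ∀ Q : Subgroup G, Q.relIndex T = 2 → t ^ 2 ∈ Q := by
    intro Q hQ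
    have := Subgroup.sq_mem_of_index_two (H := Q.subgroupOf T) hQ ⟨t, ht⟩
    rw [Subgroup.mem_subgroupOf] at this
    simpa using this
  have : t ^ 2 ∈ Q₁ ⊓ Q₂ := Subgroup.mem_inf.mpr ⟨key Q₁ h1, key Q₂ h2⟩
  rw [hbot] at this
  exact Subgroup.mem_bot.mp this

/-- when the centralizer condition fails, `P` normalizes every `T`-invariant subgroup of `O_2(P)`. -/
theorem le_normalizer_of_not_cent {P T D : Subgroup G} (hTP : T ≤ P) (hT2 : IsPGroup 2 T)
    (h3 : T.relIndex P = 3)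
    (hnot : ¬ P ⊓ Subgroup.centralizer (Cfsg.pCoreOf 2 P : Set G) ≤ Cfsg.pCoreOf 2 P)
    (hD : D ≤ Cfsg.pCoreOf 2 P) (hTD : T ≤ Subgroup.normalizer (D : Set G)) :
    P ≤ Subgroup.normalizer (D : Set G) := by
  have hC : ¬ P ⊓ Subgroup.centralizer (Cfsg.pCoreOf 2 P : Set G) ≤ T := by
    intro hCT
    apply hnot
    apply le_pCoreOf inf_le_left (hT2.to_le hCT)
    apply le_normalizer_of_cj_le
    intro y hy x hx
    rw [mem_cj] at hx
    obtain ⟨hxP, hxC⟩ := Subgroup.mem_inf.mp hx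
    refine Subgroup.mem_inf.mpr ⟨?_, ?_⟩
    · have := P.mul_mem (P.mul_mem hy hxP) (P.inv_mem hy)
      convert this using 1
      group
    · rw [Subgroup.mem_centralizer_iff] at hxC ⊢
      intro q hq
      have hq' : y⁻¹ * q * y ∈ Cfsg.pCoreOf 2 P := by
        have : q ∈ cj y (Cfsg.pCoreOf 2 P) := by rw [cj_pCoreOf hy]; exact hq
        rwa [mem_cj] at this
      have := hxC _ hq'
      calc q * x = y * (y⁻¹ * q * y * (y⁻¹ * x * y)) * y⁻¹ := by group
        _ = y * (y⁻¹ * x * y * (y⁻¹ * q * y)) * y⁻¹ := by rw [this]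
        _ = x * q := by group
  have hK : P ≤ P ⊓ Subgroup.normalizer (D : Set G) := by
    apply le_of_relIndex_three (le_inf hTP hTD) inf_le_left h3
    intro hle
    apply hC
    refine le_trans (le_inf inf_le_left ?_) hle
    intro x hx
    have hx' := (Subgroup.mem_inf.mp hx).2
    apply Subgroup.centralizer_le_normalizer
    exact Subgroup.centralizer_le (fun d hd => hD hd) hx'
  exact le_trans hK inf_le_right

/-- Case two (b): the centralizer condition fails. -/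
theorem small_of_not_cent {A B T : Subgroup G} (hTA : T ≤ A) (hTB : T ≤ B) (hgen : A ⊔ B = ⊤)
    (h3A : T.relIndex A = 3) (h3B : T.relIndex B = 3) (hT2 : IsPGroup 2 T)
    (hcore : ∀ N : Subgroup G, N.Normal → N ≤ T → N = ⊥) {u : G} (hu : B = cj u A)
    (huT : cj u T = T)
    (hidx : (Cfsg.pCoreOf 2 A).relIndex T = 2)
    (hnot : ¬ A ⊓ Subgroup.centralizer (Cfsg.pCoreOf 2 A : Set G) ≤ Cfsg.pCoreOf 2 A) :
    (Nat.card (Cfsg.pCoreOf 2 A) = 1 ∨ Nat.card (Cfsg.pCoreOf 2 A) = 2) ∧ ∀ t ∈ T, t ^ 2 = 1 := by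
  have hQBu : Cfsg.pCoreOf 2 B = cj u (Cfsg.pCoreOf 2 A) := by rw [hu, pCoreOf_cj]
  have hQAT : Cfsg.pCoreOf 2 A ≤ T := pCoreOf_le_of_index_three hTA hT2 h3A
  have hQBT : Cfsg.pCoreOf 2 B ≤ T := pCoreOf_le_of_index_three hTB hT2 h3B
  have hnotB : ¬ B ⊓ Subgroup.centralizer (Cfsg.pCoreOf 2 B : Set G) ≤ Cfsg.pCoreOf 2 B := by
    intro h
    apply hnot
    have := cent_cond_cj (u := u⁻¹) h
    rwa [hu, cj_inv_cj] at this
  have hcA := card_mul_relIndex' hQAT
  have hcB := card_mul_relIndex' hQBT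
  have hidxB : (Cfsg.pCoreOf 2 B).relIndex T = 2 := by
    rw [hQBu, card_cj] at hcB
    rw [hidx] at hcA
    rw [← hcA] at hcB
    have hpos : 0 < Nat.card (Cfsg.pCoreOf 2 A) := Nat.card_pos
    rw [hQBu]
    exact Nat.eq_of_mul_eq_mul_left hpos hcB
  have hTD : T ≤ Subgroup.normalizer ((Cfsg.pCoreOf 2 A ⊓ Cfsg.pCoreOf 2 B : Subgroup G) : Set G) := by
    apply le_normalizer_of_cj_le
    intro y hy
    apply le_inf
    · exact (cj_mono inf_le_left).trans (cj_pCoreOf (hTA hy)).le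
    · exact (cj_mono inf_le_right).trans (cj_pCoreOf (hTB hy)).le
  have hA := le_normalizer_of_not_cent hTA hT2 h3A hnot inf_le_left hTD
  have hB := le_normalizer_of_not_cent hTB hT2 h3B hnotB inf_le_right hTD
  have hbot := eq_bot_of_normalized hgen hcore (inf_le_left.trans hQAT) hA hB
  refine ⟨?_, fun t ht => sq_eq_one_of_cores hidx hidxB hbot ht⟩
  have h4 := Subgroup.relIndex_inf_le (H := Cfsg.pCoreOf 2 A) (K := Cfsg.pCoreOf 2 B) (L := T)
  rw [hbot, Subgroup.relIndex_bot_left, hidx, hidxB] at h4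
  rw [hidx] at hcA
  have hpos : 0 < Nat.card (Cfsg.pCoreOf 2 A) := Nat.card_pos
  omega

theorem card_pCoreOf (A : Subgroup G) : Nat.card (Cfsg.pCoreOf 2 A) = Nat.card (Cfsg.pCore 2 ↥A) := by
  unfold Cfsg.pCoreOf
  exact Subgroup.card_subtype A _

/-- Case two (b): the isomorphism types. -/
theorem iso_of_not_cent {A T : Subgroup G} (hTA : T ≤ A) (h3A : T.relIndex A = 3)
    (hT2 : IsPGroup 2 T) (he : Nonempty (↥A ⧸ Cfsg.pCore 2 ↥A ≃* Equiv.Perm (Fin 3)))
    (hcard : Nat.card (Cfsg.pCoreOf 2 A) = 1 ∨ Nat.card (Cfsg.pCoreOf 2 A) = 2)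
    (hexp : ∀ t ∈ T, t ^ 2 = 1) :
    Nonempty (↥A ≃* Equiv.Perm (Fin 3)) ∨ Nonempty (↥A ≃* DihedralGroup 6) := by
  haveI : Fact (Nat.Prime 2) := ⟨Nat.prime_two⟩
  obtain ⟨e⟩ := he
  rw [card_pCoreOf] at hcard
  rcases hcard with h | h
  · left
    have hbot : Cfsg.pCore 2 ↥A = ⊥ := Subgroup.card_eq_one.mp h
    exact ⟨(QuotientGroup.quotientBot.symm.trans (QuotientGroup.quotientMulEquivOfEq hbot.symm)).trans e⟩
  · right
    refine dihedral12 (Cfsg.pCore 2 ↥A) h e ?_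
    intro y hy
    have hy4 : y ^ 4 = 1 := by
      have := pow_card_eq_one' (G := Cfsg.pCore 2 ↥A) (x := ⟨y ^ 2, hy⟩)
      rw [h] at this
      have := congrArg Subtype.val this
      simp only [Subgroup.coe_pow, Subgroup.coe_one] at this
      rw [← pow_mul] at this
      exact this
    have hz : IsPGroup 2 (Subgroup.zpowers y) := by
      have hdvd : orderOf y ∣ 2 ^ 2 := orderOf_dvd_of_pow_eq_one hy4
      obtain ⟨k, -, hk⟩ := (Nat.dvd_prime_pow Nat.prime_two).mp hdvd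
      apply IsPGroup.of_card (n := k)
      rw [Nat.card_zpowers, hk]
    obtain ⟨k, hk⟩ := Cfsg.Agent.Helper5.exists_conj_le_sylow (sylowOf hT2 h3A) (Subgroup.zpowers y) hz
    have h1 := hk y (Subgroup.mem_zpowers y)
    rw [coe_sylowOf, Subgroup.mem_subgroupOf] at h1
    have h2 := hexp _ h1
    have h3 : (k * y * k⁻¹) ^ 2 = 1 := by
      apply Subtype.ext
      rw [Subgroup.coe_pow, Subgroup.coe_one]
      exact h2
    have h4 : (k * y * k⁻¹) ^ 2 = k * y ^ 2 * k⁻¹ := by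
      rw [pow_two, pow_two]; group
    rw [h4] at h3
    calc y ^ 2 = k⁻¹ * (k * y ^ 2 * k⁻¹) * k := by group
      _ = 1 := by rw [h3]; group

end Cfsg.Agent.Helper1.Sims3
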