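import Mathlib
import Cfsg.Prelude.Def_PLocal
import Cfsg.Agent.Helper1.Sims3D

set_option autoImplicit false
set_option linter.unusedSectionVars false
set_option linter.unusedVariables false

/-!
S2858 project, piece F1 (helper1), part E: the abstract form of the theorem of Sims and Wong on
a pair of conjugate subgroups with a common subgroup of index three (main statement).
-/

namespace Cfsg.Agent.Helper1.Sims3

open Cfsg.Agent.Lead.LLem

variable {G : Type*} [Group G] [Finite G]

/-- Case two (a): the centralizer condition holds; the amalgam theorem applies. -/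
theorem iso_of_cent {A B T : Subgroup G} (hT : T = A ⊓ B) (hgen : A ⊔ B = ⊤)
    (h3A : T.relIndex A = 3) (h3B : T.relIndex B = 3) (hT2 : IsPGroup 2 T)
    (hcore : ∀ N : Subgroup G, N.Normal → N ≤ T → N = ⊥) {u : G} (hu : B = cj u A)
    (huT : cj u T = T) (hTne : T ≠ ⊥)
    (heA : Nonempty (↥A ⧸ Cfsg.pCore 2 ↥A ≃* Equiv.Perm (Fin 3)))
    (heB : Nonempty (↥B ⧸ Cfsg.pCore 2 ↥B ≃* Equiv.Perm (Fin 3)))
    (hcent : A ⊓ Subgroup.centralizer (Cfsg.pCoreOf 2 A : Set G) ≤ Cfsg.pCoreOf 2 A)
    (hgold : GoldHyp G) :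
    Nonempty (↥A ≃* Equiv.Perm (Fin 4)) ∨
      Nonempty (↥A ≃* Multiplicative (ZMod 2) × Equiv.Perm (Fin 4)) := by
  have hTA : T ≤ A := hT ▸ inf_le_left
  have hTB : T ≤ B := hT ▸ inf_le_right
  have hcentB : B ⊓ Subgroup.centralizer (Cfsg.pCoreOf 2 B : Set G) ≤ Cfsg.pCoreOf 2 B := by
    rw [hu]; exact cent_cond_cj hcent
  have hZ := cj_omega_eq huT
  have hZ' := cj_omega_eq (cj_inv_eq huT)
  have hAu : A = cj u⁻¹ B := by rw [hu, cj_inv_cj]
  have key : A ≤ Subgroup.centralizer
        (Cfsg.omegaOne 2 (T ⊓ Subgroup.centralizer (T : Set G)) : Set G) →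
      B ≤ Subgroup.centralizer
        (Cfsg.omegaOne 2 (T ⊓ Subgroup.centralizer (T : Set G)) : Set G) → False := by
    intro hA hB
    have hZbot := eq_bot_of_normalized hgen hcore (omega_le T)
      (hA.trans (Subgroup.centralizer_le_normalizer _))
      (hB.trans (Subgroup.centralizer_le_normalizer _))
    obtain ⟨z, hz, hz2, hz1⟩ := exists_central_involution hT2 hTne
    have : z ∈ Cfsg.omegaOne 2 (T ⊓ Subgroup.centralizer (T : Set G)) :=
      Subgroup.subset_closure ⟨hz, hz2⟩
    rw [hZbot] at this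
    exact hz1 (Subgroup.mem_bot.mp this)
  have h5 : ∀ P ∈ ({A, B} : Set (Subgroup G)), ¬ P ≤ Subgroup.centralizer
      (Cfsg.omegaOne 2 (T ⊓ Subgroup.centralizer (T : Set G)) : Set G) := by
    apply forall_pair
    · intro hA
      apply key hA
      rw [hu]
      exact le_centralizer_cj hZ hA
    · intro hB
      refine key ?_ hB
      rw [hAu]
      exact le_centralizer_cj hZ' hB
  have := hgold A B hgen T hT (forall_pair hcent hcentB)
    (forall_pair ⟨sylowOf hT2 h3A, coe_sylowOf hT2 h3A⟩ ⟨sylowOf hT2 h3B, coe_sylowOf hT2 h3B⟩)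
    hcore (forall_pair heA heB) h5
  rcases this with h | h
  · left; exact h.1
  · right; exact h.1

/-- the theorem of Sims and Wong, abstract form, from the amalgam theorem. -/
theorem abstract_sims {A B T : Subgroup G} (hT : T = A ⊓ B) (hgen : A ⊔ B = ⊤)
    (h3A : T.relIndex A = 3) (h3B : T.relIndex B = 3)
    (hcore : ∀ N : Subgroup G, N.Normal → N ≤ T → N = ⊥) {g : G} (hg : B = cj g A)
    (hgold : GoldHyp G) :
    Nonempty (↥A ≃* Multiplicative (ZMod 3)) ∨ Nonempty (↥A ≃* Equiv.Perm (Fin 3)) ∨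
      Nonempty (↥A ≃* DihedralGroup 6) ∨ Nonempty (↥A ≃* Equiv.Perm (Fin 4)) ∨
      Nonempty (↥A ≃* Equiv.Perm (Fin 4) × Multiplicative (ZMod 2)) := by
  have hTA : T ≤ A := hT ▸ inf_le_left
  have hTB : T ≤ B := hT ▸ inf_le_right
  have hT2 := isPGroup_two_of_pair hTA hTB h3A h3B hgen hcore
  obtain ⟨u, hu, huT⟩ := exists_normalizing_conj hTA hTB hT2 h3B hg
  rcases dichotomy hTA hT2 h3A with hle | ⟨hidx, heA⟩
  · left
    have hc := card_of_normal hTA hTB hgen h3A hT2 hcore hu huT hle
    haveI : Fact (Nat.Prime 3) := ⟨by norm_num⟩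
    exact ⟨mulEquivOfPrimeCardEq hc (by rw [Nat.card_eq_fintype_card]; simp)⟩
  · right
    by_cases hcent : A ⊓ Subgroup.centralizer (Cfsg.pCoreOf 2 A : Set G) ≤ Cfsg.pCoreOf 2 A
    · right; right
      have heB : Nonempty (↥B ⧸ Cfsg.pCore 2 ↥B ≃* Equiv.Perm (Fin 3)) := by
        rcases dichotomy hTB hT2 h3B with hleB | ⟨_, h⟩
        · exfalso
          rw [hu, pCoreOf_cj] at hleB
          have h1 : cj u⁻¹ T ≤ Cfsg.pCoreOf 2 A := cj_le_iff.mpr (by rw [inv_inv]; exact hleB)
          rw [cj_inv_eq huT] at h1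
          have := Subgroup.relIndex_eq_one.mpr h1
          omega
        · exact h
      have hTne : T ≠ ⊥ := by
        intro h
        rw [h, Subgroup.relIndex_bot_right] at hidx
        omega
      rcases iso_of_cent hT hgen h3A h3B hT2 hcore hu huT hTne heA heB hcent hgold with h | h
      · left; exact h
      · right
        obtain ⟨e⟩ := h
        exact ⟨e.trans MulEquiv.prodComm⟩
    · obtain ⟨hcard, hexp⟩ := small_of_not_cent hTA hTB hgen h3A h3B hT2 hcore hu huT hidx hcent
      rcases iso_of_not_cent hTA h3A hT2 heA hcard hexp with h | h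
      · left; exact h
      · right; left; exact h

end Cfsg.Agent.Helper1.Sims3
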