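import Mathlib
import Cfsg.Prelude.Def_PLocal
import Cfsg.Agent.Helper1.Sims3E

set_option autoImplicit false
set_option linter.unusedSectionVars false
set_option linter.unusedVariables false

/-!
S2858 project, piece F1 (helper1), part F: primitive groups with a suborbit of length three
(Sims, Wong) from the amalgam theorem S2858.
-/

namespace Cfsg.Agent.Helper1.Sims3

open Cfsg.Agent.Lead.LLem

/-- the theorem of Sims and Wong from the amalgam theorem. -/
theorem sims_of_gold {G Ω : Type*} [Group G] [Finite G] [MulAction G Ω] [FaithfulSMul G Ω]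
    (hprim : MulAction.IsPreprimitive G Ω) (a b : Ω)
    (h3 : Nat.card (MulAction.orbit (MulAction.stabilizer G a) b) = 3) (hgold : GoldHyp G) :
    Nonempty (MulAction.stabilizer G a ≃* Multiplicative (ZMod 3)) ∨
      Nonempty (MulAction.stabilizer G a ≃* Equiv.Perm (Fin 3)) ∨
      Nonempty (MulAction.stabilizer G a ≃* DihedralGroup 6) ∨
      Nonempty (MulAction.stabilizer G a ≃* Equiv.Perm (Fin 4)) ∨
      Nonempty (MulAction.stabilizer G a ≃* Equiv.Perm (Fin 4) × Multiplicative (ZMod 2)) := by
  haveI := hprim
  haveI : MulAction.IsPretransitive G Ω := hprim.toIsPretransitive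
  have hba : b ≠ a := by
    intro h
    rw [h] at h3
    have : MulAction.orbit (MulAction.stabilizer G a) a = {a} := by
      ext x
      constructor
      · rintro ⟨k, rfl⟩
        exact k.2
      · rintro rfl
        exact MulAction.mem_orbit_self _
    rw [this] at h3
    simp at h3
  haveI : Nontrivial Ω := ⟨⟨b, a, hba⟩⟩
  obtain ⟨g, hg⟩ := MulAction.exists_smul_eq G a b
  have hB : MulAction.stabilizer G b = cj g (MulAction.stabilizer G a) := by
    rw [← hg]
    exact MulAction.stabilizer_smul_eq_stabilizer_map_conj g a
  have h3A : (MulAction.stabilizer G a ⊓ MulAction.stabilizer G b).relIndex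
      (MulAction.stabilizer G a) = 3 := by
    have : (MulAction.stabilizer G a ⊓ MulAction.stabilizer G b).subgroupOf
        (MulAction.stabilizer G a) = MulAction.stabilizer (MulAction.stabilizer G a) b := by
      ext x
      rw [Subgroup.mem_subgroupOf, Subgroup.mem_inf, MulAction.mem_stabilizer_iff,
        MulAction.mem_stabilizer_iff, MulAction.mem_stabilizer_iff]
      constructor
      · rintro ⟨-, h⟩
        exact h
      · intro h
        exact ⟨x.2, h⟩
    unfold Subgroup.relIndex
    rw [this, MulAction.index_stabilizer, ← Nat.card_coe_set_eq]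
    exact h3
  have hcard : Nat.card (MulAction.stabilizer G b) = Nat.card (MulAction.stabilizer G a) := by
    rw [hB, card_cj]
  have h3B : (MulAction.stabilizer G a ⊓ MulAction.stabilizer G b).relIndex
      (MulAction.stabilizer G b) = 3 := by
    have h1 := card_mul_relIndex' (inf_le_left :
      MulAction.stabilizer G a ⊓ MulAction.stabilizer G b ≤ MulAction.stabilizer G a)
    have h2 := card_mul_relIndex' (inf_le_right :
      MulAction.stabilizer G a ⊓ MulAction.stabilizer G b ≤ MulAction.stabilizer G b)
    rw [h3A] at h1
    rw [hcard, ← h1] at h2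
    have hpos : 0 < Nat.card ↥(MulAction.stabilizer G a ⊓ MulAction.stabilizer G b) := Nat.card_pos
    exact Nat.eq_of_mul_eq_mul_left hpos h2
  have hgen : MulAction.stabilizer G a ⊔ MulAction.stabilizer G b = ⊤ := by
    have hco : IsCoatom (MulAction.stabilizer G a) :=
      MulAction.IsPreprimitive.isCoatom_stabilizer_of_isPreprimitive (G := G) a
    by_contra hne
    have hlt : ¬ MulAction.stabilizer G a < MulAction.stabilizer G a ⊔ MulAction.stabilizer G b :=
      fun h => hne (hco.2 _ h)
    have hle : MulAction.stabilizer G b ≤ MulAction.stabilizer G a := by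
      have : MulAction.stabilizer G a ⊔ MulAction.stabilizer G b ≤ MulAction.stabilizer G a := by
        by_contra h
        exact hlt (lt_of_le_not_ge le_sup_left h)
      exact le_sup_right.trans this
    have : MulAction.stabilizer G a ≤ MulAction.stabilizer G a ⊓ MulAction.stabilizer G b := by
      have heq : MulAction.stabilizer G b = MulAction.stabilizer G a :=
        Subgroup.eq_of_le_of_card_ge hle hcard.ge
      rw [heq, inf_idem]
    have := Subgroup.relIndex_eq_one.mpr this
    omega
  have hcore : ∀ N : Subgroup G, N.Normal →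
      N ≤ MulAction.stabilizer G a ⊓ MulAction.stabilizer G b → N = ⊥ := by
    intro N hN hle
    rw [Subgroup.eq_bot_iff_forall]
    intro n hn
    apply FaithfulSMul.eq_of_smul_eq_smul (α := Ω)
    intro x
    rw [one_smul]
    obtain ⟨k, rfl⟩ := MulAction.exists_smul_eq G a x
    have h1 : k⁻¹ * n * k⁻¹⁻¹ ∈ N := hN.conj_mem n hn k⁻¹
    have h2 : k⁻¹ * n * k⁻¹⁻¹ ∈ MulAction.stabilizer G a := (hle h1).1
    rw [MulAction.mem_stabilizer_iff, inv_inv, mul_smul, mul_smul, inv_smul_eq_iff] at h2
    exact h2
  exact abstract_sims rfl hgen h3A h3B hcore hB hgold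

end Cfsg.Agent.Helper1.Sims3
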