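import Mathlib
import Cfsg.Prelude.Def_LocalEven
import Cfsg.Agent.Helper3.S4Pres
import Cfsg.Agent.Helper1.QuadFreeA

set_option autoImplicit false

/-!
Recognising the symmetric group of degree four as a section: abstract generators.
-/

namespace Cfsg.Agent.Helper1

namespace TN

universe u

/-- Elements `t` (an involution), `z` (of order three, inverted by `t`) and `u` (an involution
commuting with `t` whose three `z`-conjugates multiply to one) generate a copy of `S₄`. -/
theorem exists_injective_hom_S4 {X : Type*} [Group X] (t z u : X) (ht : t * t = 1)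
    (hz : z * z * z = 1) (htz : t * z * t⁻¹ = z⁻¹) (hu : u * u = 1) (htu : t * u = u * t)
    (hprod : (z * z * u * z⁻¹ * z⁻¹) * (z * u * z⁻¹) * u = 1) (hu1 : u ≠ 1) :
    ∃ φ : Equiv.Perm (Fin 4) →* X, Function.Injective φ := by
  have htinv : t⁻¹ = t := inv_eq_of_mul_eq_one_left ht
  have hzinv : z⁻¹ = z * z := by
    apply inv_eq_of_mul_eq_one_left
    rw [mul_assoc] at hz ⊢
    rw [← mul_assoc]; rw [← mul_assoc] at hz; exact hz
  have htz' : t * z = z⁻¹ * t := by
    have := htz
    rw [htinv] at this
    calc t * z = t * z * (t * t) := by rw [ht, mul_one]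
      _ = (t * z * t) * t := by group
      _ = z⁻¹ * t := by rw [this]
  have htz'' : t * z⁻¹ * t = z := by
    have h1 : t * z⁻¹ * t⁻¹ = z := by
      have e : t * z⁻¹ * t⁻¹ = (t * z * t⁻¹)⁻¹ := by group
      rw [e, htz, inv_inv]
    rwa [htinv] at h1
  obtain ⟨φ, ha, -, hc⟩ := Cfsg.Agent.Helper3.S4Pres.exists_hom t (z * t * z⁻¹) (t * u)
    (by rw [pow_two]; exact ht)
    (by
      rw [pow_two]
      calc z * t * z⁻¹ * (z * t * z⁻¹) = z * (t * t) * z⁻¹ := by group
        _ = 1 := by rw [ht]; group)
    (by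
      rw [pow_two]
      calc t * u * (t * u) = t * (u * t) * u := by group
        _ = t * (t * u) * u := by rw [htu]
        _ = (t * t) * (u * u) := by group
        _ = 1 := by rw [ht, hu, one_mul])
    (by
      have h1 : t * (z * t * z⁻¹) = z⁻¹ * z⁻¹ := by
        calc t * (z * t * z⁻¹) = (t * z) * t * z⁻¹ := by group
          _ = z⁻¹ * t * t * z⁻¹ := by rw [htz']
          _ = z⁻¹ * (t * t) * z⁻¹ := by group
          _ = z⁻¹ * z⁻¹ := by rw [ht, mul_one]
      rw [h1]
      have h2 : (z⁻¹ * z⁻¹) ^ 3 = ((z * z * z)⁻¹) ^ 2 := by group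
      rw [h2, hz, inv_one, one_pow])
    (by
      have h1 : z * t * z⁻¹ * (t * u) = z * z * u := by
        calc z * t * z⁻¹ * (t * u) = z * (t * z⁻¹ * t) * u := by group
          _ = z * z * u := by rw [htz'']
      rw [h1]
      have h2 : (z * z * u) ^ 3 =
          (z * z * u * z⁻¹ * z⁻¹) * ((z * z * z) * z * u * z⁻¹ * (z * z * z)⁻¹) *
            ((z * z * z) * (z * z * z) * u) := by
        rw [pow_succ, pow_succ, pow_one]
        simp only [mul_assoc, mul_inv_rev, inv_mul_cancel_left]
      rw [h2, hz, one_mul, one_mul, one_mul, inv_one, mul_one]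
      exact hprod)
    (by
      have h1 : t * (t * u) = u := by
        calc t * (t * u) = (t * t) * u := by group
          _ = u := by rw [ht, one_mul]
      rw [h1, pow_two, hu])
  refine ⟨φ, ?_⟩
  apply Cfsg.Agent.Helper3.S4Pres.injective_of_ne_one
  rw [map_mul, ha, hc]
  have h1 : t * (t * u) = u := by
    calc t * (t * u) = (t * t) * u := by group
      _ = u := by rw [ht, one_mul]
  rw [h1]
  exact hu1

end TN

end Cfsg.Agent.Helper1
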