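import Mathlib
import Cfsg.Agent.Helper1.Basic
import Cfsg.Agent.Helper1.Coprime
import Cfsg.Agent.Helper1.Card
import Cfsg.Agent.Helper1.MinNormal

set_option autoImplicit false

/-!
Subnormal subgroups and Sylow subgroups; factorized groups.
-/

namespace Cfsg.Agent.Helper1

open scoped Pointwise

universe u

variable {G : Type u} [Group G]

/-- A Sylow subgroup has `p'`-index in every subnormal subgroup. -/
theorem sylow_relIndex_subnormal [Finite G] (p : ℕ) [Fact p.Prime] (S : Sylow p G)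
    {H : Subgroup G} (hH : H.IsSubnormal) : ¬ p ∣ (S : Subgroup G).relIndex H := by
  induction hH with
  | top => rw [Subgroup.relIndex_top_right]; exact S.not_dvd_index
  | step H K hHK _ hN ih =>
    have h1 : ((S : Subgroup G).subgroupOf K).relIndex (H.subgroupOf K) ∣
        ((S : Subgroup G).subgroupOf K).index :=
      relIndex_dvd_index_of_normalizes (le_normalizer_of_normal _ (H.subgroupOf K))
    rw [Subgroup.relIndex_subgroupOf hHK] at h1
    exact fun h => ih (h.trans h1)

theorem sylow_inf_subnormal [Finite G] (p : ℕ) [Fact p.Prime] (H : Subgroup G)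
    (hH : H.IsSubnormal) (S : Sylow p G) :
    ∃ Q : Sylow p H, (Q : Subgroup H) = (S : Subgroup G).subgroupOf H := by
  have h1 : IsPGroup p ((S : Subgroup G).subgroupOf H) :=
    S.2.comap_of_injective H.subtype H.subtype_injective
  exact ⟨h1.toSylow (sylow_relIndex_subnormal p S hH), IsPGroup.toSylow_coe _ _⟩

/-- Wielandt: the normalizer of `⟨A, B⟩` factorizes. -/
theorem normalizer_sup_factorizes [Finite G] (H K A B : Subgroup G)
    (hHK : ∀ g : G, ∃ h ∈ H, ∃ k ∈ K, g = h * k) (hA : A ≤ H)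
    (hAn : (A.subgroupOf H).Normal) (hB : B ≤ K) (hBn : (B.subgroupOf K).Normal) :
    ∀ g ∈ Subgroup.normalizer ((A ⊔ B : Subgroup G) : Set G),
      ∃ h ∈ Subgroup.normalizer ((A ⊔ B : Subgroup G) : Set G) ⊓ H,
      ∃ k ∈ Subgroup.normalizer ((A ⊔ B : Subgroup G) : Set G) ⊓ K, g = h * k := by
  intro g hg
  obtain ⟨h, hh, k, hk, rfl⟩ := hHK g
  have hAH : ∀ x ∈ H, MulAut.conj x • A = A := fun x hx =>
    conj_smul_eq_of_mem_normalizer
      ((Subgroup.normal_subgroupOf_iff_le_normalizer hA).1 hAn hx)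
  have hBK : ∀ x ∈ K, MulAut.conj x • B = B := fun x hx =>
    conj_smul_eq_of_mem_normalizer
      ((Subgroup.normal_subgroupOf_iff_le_normalizer hB).1 hBn hx)
  have h1 := conj_smul_eq_of_mem_normalizer hg
  rw [map_mul, mul_smul, Subgroup.smul_sup, hBK k hk] at h1
  -- conj h • (conj k • A ⊔ B) = A ⊔ B
  have h2 : MulAut.conj k • A ⊔ B = A ⊔ MulAut.conj h⁻¹ • B := by
    have := congrArg (fun X : Subgroup G => MulAut.conj h⁻¹ • X) h1
    beta_reduce at this
    rw [← mul_smul, ← map_mul, inv_mul_cancel, map_one, one_smul, Subgroup.smul_sup,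
      hAH _ (H.inv_mem hh)] at this
    exact this
  set X := MulAut.conj k • A ⊔ B with hX
  have hABX : A ⊔ B ≤ X := sup_le (h2 ▸ le_sup_left) le_sup_right
  have hcard : Nat.card X = Nat.card (A ⊔ B : Subgroup G) := by
    have : X = MulAut.conj k • (A ⊔ B) := by rw [Subgroup.smul_sup, hBK k hk]
    rw [this, card_conj_smul]
  have hXeq : A ⊔ B = X := Subgroup.eq_of_le_of_card_ge hABX hcard.le
  have hkL : k ∈ Subgroup.normalizer ((A ⊔ B : Subgroup G) : Set G) := by
    apply mem_normalizer_of_conj_smul_eq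
    rw [Subgroup.smul_sup, hBK k hk]
    exact hXeq.symm
  have hhL : h ∈ Subgroup.normalizer ((A ⊔ B : Subgroup G) : Set G) := by
    have : h⁻¹ ∈ Subgroup.normalizer ((A ⊔ B : Subgroup G) : Set G) := by
      apply mem_normalizer_of_conj_smul_eq
      rw [Subgroup.smul_sup, hAH _ (H.inv_mem hh), ← h2]
      exact hXeq.symm
    simpa using Subgroup.inv_mem _ this
  exact ⟨h, ⟨hhL, hh⟩, k, ⟨hkL, hk⟩, rfl⟩

end Cfsg.Agent.Helper1
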