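import Mathlib

set_option autoImplicit false

/-!
Power formulas in groups of class at most two.
-/

namespace Cfsg.Agent.Helper1

open scoped commutatorElement

universe u

variable {P : Type u} [Group P]

theorem commute_commutator_of_class_two (h2 : ⁅commutator P, (⊤ : Subgroup P)⁆ = ⊥) (x y z : P) :
    Commute ⁅x, y⁆ z := by
  rw [← commutatorElement_eq_one_iff_commute, ← Subgroup.mem_bot, ← h2]
  apply Subgroup.commutator_mem_commutator _ (Subgroup.mem_top z)
  rw [commutator_def]
  exact Subgroup.commutator_mem_commutator (Subgroup.mem_top x) (Subgroup.mem_top y)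

theorem pow_mul_of_central {c x y : P} (hc : ∀ z, Commute c z) (hyx : y * x = c * x * y) (n : ℕ) :
    y ^ n * x = c ^ n * x * y ^ n := by
  induction n with
  | zero => simp
  | succ n ih =>
    calc y ^ (n + 1) * x = y ^ n * (y * x) := by rw [pow_succ, mul_assoc]
      _ = y ^ n * (c * x * y) := by rw [hyx]
      _ = (y ^ n * c) * x * y := by simp only [mul_assoc]
      _ = (c * y ^ n) * x * y := by rw [(hc (y ^ n)).eq]
      _ = c * (y ^ n * x) * y := by simp only [mul_assoc]
      _ = c * (c ^ n * x * y ^ n) * y := by rw [ih]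
      _ = c ^ (n + 1) * x * y ^ (n + 1) := by rw [pow_succ' c, pow_succ y]; simp only [mul_assoc]

theorem mul_pow_of_central {c x y : P} (hc : ∀ z, Commute c z) (hyx : y * x = c * x * y) (n : ℕ) :
    (x * y) ^ n = x ^ n * y ^ n * c ^ (n.choose 2) := by
  induction n with
  | zero => simp
  | succ n ih =>
    have h1 : (n + 1).choose 2 = n + n.choose 2 := by
      rw [Nat.choose_succ_succ, Nat.choose_one_right]
    calc (x * y) ^ (n + 1) = (x * y) ^ n * (x * y) := pow_succ _ _
      _ = x ^ n * y ^ n * c ^ (n.choose 2) * (x * y) := by rw [ih]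
      _ = x ^ n * y ^ n * (c ^ (n.choose 2) * (x * y)) := by simp only [mul_assoc]
      _ = x ^ n * y ^ n * ((x * y) * c ^ (n.choose 2)) := by
          rw [((hc (x * y)).pow_left (n.choose 2)).eq]
      _ = x ^ n * (y ^ n * x) * y * c ^ (n.choose 2) := by simp only [mul_assoc]
      _ = x ^ n * (c ^ n * x * y ^ n) * y * c ^ (n.choose 2) := by
          rw [pow_mul_of_central hc hyx n]
      _ = (x ^ n * c ^ n) * x * y ^ n * y * c ^ (n.choose 2) := by simp only [mul_assoc]
      _ = (c ^ n * x ^ n) * x * y ^ n * y * c ^ (n.choose 2) := by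
          rw [((hc (x ^ n)).pow_left n).eq]
      _ = c ^ n * (x ^ (n + 1) * y ^ (n + 1) * c ^ (n.choose 2)) := by
          rw [pow_succ x, pow_succ y]; simp only [mul_assoc]
      _ = (x ^ (n + 1) * y ^ (n + 1) * c ^ (n.choose 2)) * c ^ n := by
          rw [((hc _).pow_left n).eq]
      _ = x ^ (n + 1) * y ^ (n + 1) * c ^ ((n + 1).choose 2) := by
          rw [h1, add_comm n (n.choose 2), pow_add c]; simp only [mul_assoc]

/-- In class two, `[y, x]^n = [y^n, x]`. -/
theorem commutator_pow_left_of_central {x y : P} (hc : ∀ z, Commute ⁅y, x⁆ z) (n : ℕ) :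
    ⁅y ^ n, x⁆ = ⁅y, x⁆ ^ n := by
  have hyx : y * x = ⁅y, x⁆ * x * y := by simp [commutatorElement_def]
  have h := pow_mul_of_central hc hyx n
  rw [commutatorElement_def, h]
  group

theorem mul_pow_prime_of_class_two {p : ℕ} [hp : Fact p.Prime] (hp2 : p ≠ 2)
    (h2 : ⁅commutator P, (⊤ : Subgroup P)⁆ = ⊥) (x y : P) (hc : ⁅y, x⁆ ^ p = 1) :
    (x * y) ^ p = x ^ p * y ^ p := by
  have hcen : ∀ z, Commute ⁅y, x⁆ z := commute_commutator_of_class_two h2 y x
  have hyx : y * x = ⁅y, x⁆ * x * y := by simp [commutatorElement_def]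
  rw [mul_pow_of_central hcen hyx p]
  have hdvd : p ∣ p.choose 2 := by
    apply hp.out.dvd_choose_self (by norm_num)
    have := hp.out.two_le
    omega
  obtain ⟨k, hk⟩ := hdvd
  rw [hk, pow_mul, hc, one_pow, mul_one]

theorem pow_prime_eq_one_of_mem_closure {p : ℕ} [hp : Fact p.Prime] (hp2 : p ≠ 2)
    (h2 : ⁅commutator P, (⊤ : Subgroup P)⁆ = ⊥) (g : P)
    (hg : g ∈ Subgroup.closure {x : P | x ^ p = 1}) : g ^ p = 1 := by
  induction hg using Subgroup.closure_induction with
  | mem x hx => exact hx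
  | one => exact one_pow p
  | mul x y _ _ hx hy =>
    have hc : ⁅y, x⁆ ^ p = 1 := by
      rw [← commutator_pow_left_of_central (commute_commutator_of_class_two h2 y x), hy,
        commutatorElement_one_left]
    rw [mul_pow_prime_of_class_two hp2 h2 x y hc, hx, hy, one_mul]
  | inv x _ hx => rw [inv_pow, hx, inv_one]

end Cfsg.Agent.Helper1
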