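import Mathlib
import Cfsg.Prelude.Def_Solvable
import Cfsg.Agent.Helper1.ThompsonFPF2
import Cfsg.Agent.Helper6.FrobThm

set_option autoImplicit false

/-!
The Frobenius kernel is nilpotent (Thompson).
-/

namespace Cfsg.Agent.Helper1

open scoped Pointwise

universe u

variable {G : Type u} [Group G]

theorem frobenius_kernel_nilpotent [Finite G] (H : Subgroup G)
    (hH : Cfsg.IsFrobeniusComplement H) :
    ∃ N : Subgroup G, (N : Set G) = Cfsg.frobeniusKernel H ∧ N.Normal ∧ Group.IsNilpotent N := by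
  obtain ⟨N, hNset, hNn, -⟩ := Cfsg.Agent.Helper6.frobenius_kernel_theorem H hH
  refine ⟨N, hNset, hNn, ?_⟩
  haveI := hNn
  -- an element of prime order in `H`
  have hHcard : Nat.card H ≠ 1 := fun hc => hH.1 (Subgroup.card_eq_one.1 hc)
  obtain ⟨r, hr, hrH⟩ := Nat.exists_prime_and_dvd hHcard
  haveI : Fact r.Prime := ⟨hr⟩
  obtain ⟨h, hh⟩ := exists_prime_orderOf_dvd_card' r hrH
  have hh1 : (h : G) ≠ 1 := by
    intro h1
    have : h = 1 := Subtype.ext h1
    rw [this, orderOf_one] at hh
    exact hr.one_lt.ne hh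
  have hhr : (h : G) ^ r = 1 := by
    have : h ^ r = 1 := by
      have h' := pow_orderOf_eq_one h
      rwa [hh] at h'
    exact_mod_cast congrArg Subtype.val this
  let φ : N ≃* N := MulAut.conjNormal (H := N) (h : G)
  have hφk : ∀ (k : ℕ) (n : N), (((⇑φ)^[k] n : N) : G) = (h : G) ^ k * n * ((h : G) ^ k)⁻¹ := by
    intro k n
    rw [TFPF.iterate_eq_pow]
    show (((MulAut.conjNormal (H := N) (h : G)) ^ k) n : G) = _
    rw [← map_pow, MulAut.conjNormal_apply]
  refine TFPF.nilpotent_of_good hr _ N φ rfl ⟨?_, ?_⟩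
  · intro n hn
    by_contra hn1
    have hn' : (h : G) * n * (h : G)⁻¹ = n := by
      have := congrArg Subtype.val hn
      rwa [MulAut.conjNormal_apply] at this
    -- `n` lies in no conjugate of `H`
    have hnK : (n : G) ∈ Cfsg.frobeniusKernel H := by
      rw [← hNset]; exact n.2
    have hn1' : (n : G) ≠ 1 := fun e => hn1 (Subtype.ext e)
    have hnot : ∀ g : G, (n : G) ∉ MulAut.conj g • H := by
      rcases hnK with e | e
      · exact absurd e hn1'
      · exact e
    have hnH : (n : G) ∉ H := by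
      intro hmem
      apply hnot 1
      rw [map_one, one_smul]
      exact hmem
    have hTI := hH.2.2 (n : G) hnH
    have hmem : (h : G) ∈ H ⊓ (MulAut.conj (n : G) • H) := by
      refine Subgroup.mem_inf.2 ⟨h.2, ?_⟩
      rw [mem_conj_smul]
      have e : (n : G)⁻¹ * (h : G) * (n : G) = h := by
        calc (n : G)⁻¹ * (h : G) * (n : G) = (n : G)⁻¹ * ((h : G) * n * (h : G)⁻¹) * h := by group
          _ = h := by rw [hn']; group
      rw [e]
      exact h.2
    rw [hTI, Subgroup.mem_bot] at hmem
    exact hh1 hmem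
  · intro n
    apply Subtype.ext
    rw [hφk, hhr, one_mul, inv_one, mul_one]

end Cfsg.Agent.Helper1
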