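import Mathlib
import Cfsg.Agent.Helper1.Coprime
import Cfsg.Agent.Helper1.FrattiniAct
import Cfsg.Agent.Helper1.PGroup

set_option autoImplicit false

/-!
Group-theoretic part of the `p = 3` case of the Hall–Higman bound `l_p ≤ d_p`:
a minimal invariant `2`-group on which a central element `z₀` of a `3`-group `B` acts
nontrivially.
-/

namespace Cfsg.Agent.Helper1.HHD3

open scoped commutatorElement

universe u

variable {H : Type u} [Group H]

theorem conj_mem_of_le_normalizer {B Q : Subgroup H} (h : B ≤ Subgroup.normalizer (Q : Set H))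
    {b x : H} (hb : b ∈ B) (hx : x ∈ Q) : b * x * b⁻¹ ∈ Q :=
  (Subgroup.mem_normalizer_iff.1 (h hb) x).1 hx

theorem le_normalizer_of_conj_mem {B Q : Subgroup H}
    (h : ∀ b ∈ B, ∀ x ∈ Q, b * x * b⁻¹ ∈ Q) : B ≤ Subgroup.normalizer (Q : Set H) := by
  intro b hb
  rw [Subgroup.mem_normalizer_iff]
  intro x
  constructor
  · exact h b hb x
  · intro hx
    have := h b⁻¹ (B.inv_mem hb) _ hx
    have e : b⁻¹ * (b * x * b⁻¹) * b⁻¹⁻¹ = x := by group
    rwa [e] at this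

/-- an element normalizing `X` and `Y` normalizes `⁅X, Y⁆` -/
theorem le_normalizer_commutator {B X Y : Subgroup H}
    (hX : B ≤ Subgroup.normalizer (X : Set H)) (hY : B ≤ Subgroup.normalizer (Y : Set H)) :
    B ≤ Subgroup.normalizer ((⁅X, Y⁆ : Subgroup H) : Set H) := by
  apply le_normalizer_of_conj_mem
  intro b hb g hg
  have hle : ⁅X, Y⁆ ≤ (⁅X, Y⁆ : Subgroup H).comap (MulAut.conj b).toMonoidHom := by
    rw [Subgroup.commutator_le]
    intro g₁ hg₁ g₂ hg₂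
    rw [Subgroup.mem_comap]
    have h1 : (MulAut.conj b).toMonoidHom ⁅g₁, g₂⁆ = ⁅b * g₁ * b⁻¹, b * g₂ * b⁻¹⁆ := by
      simp only [MulEquiv.coe_toMonoidHom, MulAut.conj_apply, commutatorElement_def]
      group
    rw [h1]
    exact Subgroup.commutator_mem_commutator (conj_mem_of_le_normalizer hX hb hg₁)
      (conj_mem_of_le_normalizer hY hb hg₂)
  have := hle hg
  rw [Subgroup.mem_comap] at this
  simpa using this

/-- an element normalizing `Q` normalizes `Q ⊓ C(Q)` -/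
theorem le_normalizer_inf_centralizer {B Q : Subgroup H}
    (hQ : B ≤ Subgroup.normalizer (Q : Set H)) :
    B ≤ Subgroup.normalizer ((Q ⊓ Subgroup.centralizer (Q : Set H) : Subgroup H) : Set H) := by
  apply le_normalizer_of_conj_mem
  intro b hb x hx
  rw [Subgroup.mem_inf] at hx ⊢
  obtain ⟨hxQ, hxC⟩ := hx
  refine ⟨conj_mem_of_le_normalizer hQ hb hxQ, ?_⟩
  rw [Subgroup.mem_centralizer_iff]
  intro y hy
  have hy' : b⁻¹ * y * b⁻¹⁻¹ ∈ Q := conj_mem_of_le_normalizer hQ (B.inv_mem hb) hy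
  have h1 := (Subgroup.mem_centralizer_iff.1 hxC) _ hy'
  have e1 : y * (b * x * b⁻¹) = b * ((b⁻¹ * y * b⁻¹⁻¹) * x) * b⁻¹ := by group
  have e2 : b * x * b⁻¹ * y = b * (x * (b⁻¹ * y * b⁻¹⁻¹)) * b⁻¹ := by group
  rw [e1, e2, h1]

theorem frattini_ne_top' (K : Type*) [Group K] [Finite K] [Nontrivial K] : frattini K ≠ ⊤ := by
  intro h
  rcases IsCoatomic.eq_top_or_exists_le_coatom (⊥ : Subgroup K) with h1 | ⟨M, hM, -⟩
  · exact bot_ne_top h1
  · have := frattini_le_coatom hM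
    rw [h] at this
    exact hM.1 (top_le_iff.1 this)

set_option maxHeartbeats 1000000 in
/-- the minimal configuration -/
theorem exists_min_config [Finite H] (B N₂ : Subgroup H) (z₀ : H)
    (hB : IsPGroup 3 B) (hz₀B : z₀ ∈ B) (hz₀c : ∀ b ∈ B, b * z₀ = z₀ * b)
    (hN₂ : IsPGroup 2 N₂) (hBN : B ≤ Subgroup.normalizer (N₂ : Set H))
    (hnc : ∃ x ∈ N₂, z₀ * x ≠ x * z₀)
    (hEA : ∀ A₁ : Subgroup H, A₁ ≤ N₂ → (∀ x ∈ A₁, z₀ * x * z₀⁻¹ ∈ A₁) →
      (∀ x ∈ A₁, ∀ y ∈ A₁, x * y = y * x) → ∀ x ∈ A₁, z₀ * x = x * z₀) :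
    ∃ Q : Subgroup H, Q ≤ N₂ ∧ B ≤ Subgroup.normalizer (Q : Set H) ∧
      Q = ⁅Q, Subgroup.zpowers z₀⁆ ∧
      (∀ x ∈ Q, z₀ * x = x * z₀ ↔ ∀ y ∈ Q, x * y = y * x) ∧
      (∀ x ∈ Q, ∀ y ∈ Q, z₀ * (x * y * x⁻¹ * y⁻¹) = (x * y * x⁻¹ * y⁻¹) * z₀) ∧
      (∀ x ∈ Q, z₀ * x ^ 2 = x ^ 2 * z₀) ∧
      (∃ x ∈ Q, ∃ y ∈ Q, x * y ≠ y * x) ∧
      (∀ Q₁ : Subgroup H, Q₁ ≤ Q → B ≤ Subgroup.normalizer (Q₁ : Set H) → Q₁ ≠ Q →
        ∀ x ∈ Q₁, z₀ * x = x * z₀) := by
  classical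
  haveI : Fact (Nat.Prime 3) := ⟨Nat.prime_three⟩
  haveI : Fact (Nat.Prime 2) := ⟨Nat.prime_two⟩
  obtain ⟨P, hPdef⟩ : ∃ P : Subgroup H → Prop, P = fun Q₁ => Q₁ ≤ N₂ ∧
      B ≤ Subgroup.normalizer (Q₁ : Set H) ∧ ∃ x ∈ Q₁, z₀ * x ≠ x * z₀ := ⟨_, rfl⟩
  have hPN : P N₂ := by rw [hPdef]; exact ⟨le_rfl, hBN, hnc⟩
  obtain ⟨Q, -, hQmin⟩ := exists_minimal_le_of_wellFoundedLT P N₂ hPN
  have hPQ : P Q := hQmin.prop
  have hQmin' : ∀ Q₁ : Subgroup H, P Q₁ → Q₁ ≤ Q → Q ≤ Q₁ := fun Q₁ h1 h2 => hQmin.le_of_le h1 h2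
  rw [hPdef] at hPQ hQmin'
  obtain ⟨hQN, hBQ, hQnc⟩ := hPQ
  have hmin : ∀ Q₁ : Subgroup H, Q₁ ≤ Q → B ≤ Subgroup.normalizer (Q₁ : Set H) → Q₁ ≠ Q →
      ∀ x ∈ Q₁, z₀ * x = x * z₀ := by
    intro Q₁ h1 h2 h3
    by_contra hcon
    push Not at hcon
    exact h3 (le_antisymm h1 (hQmin' Q₁ ⟨h1.trans hQN, h2, hcon⟩ h1))
  have hQ2 : IsPGroup 2 Q := hN₂.to_le hQN
  obtain ⟨A, hA⟩ : ∃ A : Subgroup H, A = Subgroup.zpowers z₀ := ⟨_, rfl⟩
  have hAB : A ≤ B := by rw [hA, Subgroup.zpowers_le]; exact hz₀B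
  have hAQ : A ≤ Subgroup.normalizer (Q : Set H) := hAB.trans hBQ
  have hcop : (Nat.card A).Coprime (Nat.card Q) := by
    obtain ⟨a, ha⟩ := (hB.to_le hAB).exists_card_eq
    obtain ⟨b, hb⟩ := hQ2.exists_card_eq
    rw [ha, hb]
    apply Nat.Coprime.pow
    decide
  have hAsolv : Group.IsSolvable A := by
    rw [hA]; infer_instance
  have hz₀A : z₀ ∈ A := by rw [hA]; exact Subgroup.mem_zpowers z₀
  have hAcomm : ∀ a ∈ A, ∀ b ∈ B, b * a = a * b := by
    intro a ha b hb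
    rw [hA] at ha
    obtain ⟨j, rfl⟩ := Subgroup.mem_zpowers_iff.1 ha
    exact ((show Commute b z₀ from hz₀c b hb).zpow_right j).eq
  have hBA : B ≤ Subgroup.normalizer (A : Set H) := by
    apply le_normalizer_of_conj_mem
    intro b hb a ha
    rw [hAcomm a ha b hb, mul_inv_cancel_right]
    exact ha
  -- centralizing in terms of `A`
  have hcent_iff : ∀ X : Subgroup H, (∀ x ∈ X, z₀ * x = x * z₀) ↔
      X ≤ Subgroup.centralizer (A : Set H) := by
    intro X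
    constructor
    · intro h x hx
      rw [Subgroup.mem_centralizer_iff]
      intro a ha
      rw [hA] at ha
      obtain ⟨j, rfl⟩ := Subgroup.mem_zpowers_iff.1 ha
      exact ((show Commute z₀ x from h x hx).zpow_left j).eq
    · intro h x hx
      exact (Subgroup.mem_centralizer_iff.1 (h hx)) z₀ hz₀A
  -- `Q = ⁅Q, A⁆`
  have hDQ : ⁅Q, A⁆ ≤ Q := Subgroup.le_normalizer_iff_commutator_le_left.1 hAQ
  have hQD : Q = ⁅Q, A⁆ := by
    apply le_antisymm _ hDQ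
    apply hQmin' _ _ hDQ
    refine ⟨hDQ.trans hQN, le_normalizer_commutator hBQ hBA, ?_⟩
    by_contra hcon
    push Not at hcon
    have h1 : ⁅Q, A⁆ ≤ Subgroup.centralizer (A : Set H) := (hcent_iff _).1 hcon
    have h2 : ⁅⁅Q, A⁆, A⁆ = ⊥ := Subgroup.commutator_eq_bot_iff_le_centralizer.2 h1
    rw [coprime_commutator_commutator A Q hAQ hcop (Or.inl hAsolv)] at h2
    have h3 : Q ≤ Subgroup.centralizer (A : Set H) :=
      Subgroup.commutator_eq_bot_iff_le_centralizer.1 h2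
    obtain ⟨x, hx, hne⟩ := hQnc
    exact hne ((hcent_iff Q).2 h3 x hx)
  -- nontrivial
  have hQne : Q ≠ ⊥ := by
    rintro rfl
    obtain ⟨x, hx, hne⟩ := hQnc
    rw [Subgroup.mem_bot] at hx
    subst hx
    apply hne; simp
  haveI : Nontrivial Q := (Subgroup.nontrivial_iff_ne_bot Q).2 hQne
  -- the derived subgroup is centralized
  have hQ'le : ⁅Q, Q⁆ ≤ Q := Subgroup.commutator_le.2 (fun a ha b hb => by
    rw [commutatorElement_def]
    exact Q.mul_mem (Q.mul_mem (Q.mul_mem ha hb) (Q.inv_mem ha)) (Q.inv_mem hb))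
  have hQ'ne : ⁅Q, Q⁆ ≠ Q := by
    intro h
    haveI : Group.IsNilpotent Q := hQ2.isNilpotent
    haveI : Group.IsSolvable Q := inferInstance
    have h1 := Group.IsSolvable.commutator_lt_top_of_nontrivial Q
    have h2 : (commutator Q).map Q.subtype = ⁅Q, Q⁆ := Subgroup.map_subtype_commutator Q
    apply h1.ne
    apply Subgroup.map_injective Q.subtype_injective
    rw [h2, h, ← MonoidHom.range_eq_map, Subgroup.range_subtype]
  have hQ'c : ∀ x ∈ ⁅Q, Q⁆, z₀ * x = x * z₀ :=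
    hmin _ hQ'le (le_normalizer_commutator hBQ hBQ) hQ'ne
  -- `C_Q(z₀)` is central
  have hCcentral : ∀ c ∈ Q, z₀ * c = c * z₀ → ∀ y ∈ Q, c * y = y * c := by
    intro c hcQ hc
    obtain ⟨C, hCdef⟩ : ∃ C : Subgroup H, C = Q ⊓ Subgroup.centralizer (A : Set H) := ⟨_, rfl⟩
    have hcC : c ∈ C := by
      rw [hCdef, Subgroup.mem_inf]
      refine ⟨hcQ, ?_⟩
      rw [Subgroup.mem_centralizer_iff]
      intro a ha
      rw [hA] at ha
      obtain ⟨j, rfl⟩ := Subgroup.mem_zpowers_iff.1 ha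
      exact ((show Commute z₀ c from hc).zpow_left j).eq
    have h1 : ⁅⁅A, C⁆, Q⁆ = ⊥ := by
      have : ⁅A, C⁆ = ⊥ := by
        rw [Subgroup.commutator_comm, Subgroup.commutator_eq_bot_iff_le_centralizer, hCdef]
        exact inf_le_right
      rw [this, Subgroup.commutator_bot_left]
    have h2 : ⁅⁅C, Q⁆, A⁆ = ⊥ := by
      rw [Subgroup.commutator_eq_bot_iff_le_centralizer]
      have : ⁅C, Q⁆ ≤ ⁅Q, Q⁆ := Subgroup.commutator_mono (by rw [hCdef]; exact inf_le_left) le_rfl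
      exact this.trans ((hcent_iff _).1 hQ'c)
    have h3 := Subgroup.commutator_commutator_eq_bot_of_rotate h1 h2
    rw [← hQD, Subgroup.commutator_eq_bot_iff_le_centralizer] at h3
    intro y hy
    have := (Subgroup.mem_centralizer_iff.1 (h3 hy)) c hcC
    exact this
  -- nonabelian
  have hnonab : ∃ x ∈ Q, ∃ y ∈ Q, x * y ≠ y * x := by
    by_contra hcon
    push Not at hcon
    obtain ⟨x, hx, hne⟩ := hQnc
    exact hne (hEA Q hQN (fun x hx => conj_mem_of_le_normalizer hAQ hz₀A hx) hcon x hx)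
  -- the centre is centralized
  have hZle : Q ⊓ Subgroup.centralizer (Q : Set H) ≤ Q := inf_le_left
  have hZne : Q ⊓ Subgroup.centralizer (Q : Set H) ≠ Q := by
    intro h
    obtain ⟨x, hx, y, hy, hne⟩ := hnonab
    apply hne
    have hxZ : x ∈ Q ⊓ Subgroup.centralizer (Q : Set H) := by rw [h]; exact hx
    rw [Subgroup.mem_inf] at hxZ
    exact ((Subgroup.mem_centralizer_iff.1 hxZ.2) y hy).symm
  have hZc := hmin _ hZle (le_normalizer_inf_centralizer hBQ) hZne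
  -- the Frattini subgroup is centralized
  have hΦle : (frattini Q).map Q.subtype ≤ Q := Subgroup.map_subtype_le _
  have hΦne : (frattini Q).map Q.subtype ≠ Q := by
    intro h
    apply frattini_ne_top' Q
    apply Subgroup.map_injective Q.subtype_injective
    rw [h, ← MonoidHom.range_eq_map, Subgroup.range_subtype]
  have hΦB : B ≤ Subgroup.normalizer (((frattini Q).map Q.subtype : Subgroup H) : Set H) :=
    hBQ.trans (le_normalizer_map_of_characteristic Q (frattini Q))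
  have hΦc := hmin _ hΦle hΦB hΦne
  refine ⟨Q, hQN, hBQ, ?_, ?_, ?_, ?_, hnonab, hmin⟩
  · rw [← hA]; exact hQD
  · intro x hx
    constructor
    · exact hCcentral x hx
    · intro h
      apply hZc
      rw [Subgroup.mem_inf]
      refine ⟨hx, ?_⟩
      rw [Subgroup.mem_centralizer_iff]
      intro y hy
      exact (h y hy).symm
  · intro x hx y hy
    apply hQ'c
    have := Subgroup.commutator_mem_commutator hx hy
    rw [commutatorElement_def] at this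
    exact this
  · intro x hx
    apply hΦc
    have h1 := IsPGroup.pow_mem_frattini hQ2 (⟨x, hx⟩ : Q)
    exact ⟨_, h1, rfl⟩

end Cfsg.Agent.Helper1.HHD3
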