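import Mathlib
import Cfsg.Agent.Helper1.Frattini
import Cfsg.Agent.Helper1.PGroup

set_option autoImplicit false

/-!
Automorphisms restricted to characteristic subgroups and induced on quotients; the external form
of Burnside's lemma on the Frattini quotient.
-/

namespace Cfsg.Agent.Helper1.AutPlumbing

universe u

variable {P : Type u} [Group P]

/-- restriction of automorphisms to a characteristic subgroup -/
def restrictAut (D : Subgroup P) [hD : D.Characteristic] : MulAut P →* MulAut ↥D where
  toFun ϕ :=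
    { toFun := fun x => ⟨ϕ x.1, by
        have := (Subgroup.characteristic_iff_le_comap.1 hD) ϕ x.2
        exact this⟩
      invFun := fun x => ⟨ϕ.symm x.1, by
        have := (Subgroup.characteristic_iff_le_comap.1 hD) ϕ.symm x.2
        exact this⟩
      left_inv := fun x => Subtype.ext (ϕ.symm_apply_apply x.1)
      right_inv := fun x => Subtype.ext (ϕ.apply_symm_apply x.1)
      map_mul' := fun x y => Subtype.ext (map_mul ϕ x.1 y.1) }
  map_one' := by ext x; rfl
  map_mul' ϕ ψ := by ext x; rfl

@[simp] theorem restrictAut_apply (D : Subgroup P) [D.Characteristic] (ϕ : MulAut P) (x : ↥D) :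
    ((restrictAut D ϕ x : ↥D) : P) = ϕ x.1 := rfl

/-- automorphisms induced on the quotient by a characteristic subgroup -/
def quotAut (N : Subgroup P) [N.Normal] (hN : N.Characteristic) : MulAut P →* MulAut (P ⧸ N) where
  toFun ϕ := QuotientGroup.congr N N ϕ (by
    have := (Subgroup.characteristic_iff_map_eq.1 hN) ϕ
    exact this)
  map_one' := by
    ext x
    induction x using QuotientGroup.induction_on
    rfl
  map_mul' ϕ ψ := by
    ext x
    induction x using QuotientGroup.induction_on
    rfl

@[simp] theorem quotAut_mk (N : Subgroup P) [N.Normal] (hN : N.Characteristic) (ϕ : MulAut P)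
    (x : P) : quotAut N hN ϕ (QuotientGroup.mk x) = QuotientGroup.mk (ϕ x) := rfl

/-- fixed points of an automorphism -/
def fixedSubgroup (a : MulAut P) : Subgroup P where
  carrier := {x | a x = x}
  one_mem' := map_one a
  mul_mem' := by
    intro x y hx hy
    show a (x * y) = x * y
    rw [map_mul, hx, hy]
  inv_mem' := by
    intro x hx
    show a x⁻¹ = x⁻¹
    rw [map_inv, hx]

theorem mem_fixedSubgroup (a : MulAut P) (x : P) : x ∈ fixedSubgroup a ↔ a x = x := Iff.rfl

/-- an automorphism of prime order `q` leaving the coset `x N` invariant has a fixed point in it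
when `q ∤ |N|` -/
theorem exists_fixed_in_coset [Finite P] {q : ℕ} [hq : Fact q.Prime] (b : MulAut P)
    (hb : b ^ q = 1) (N : Subgroup P) (hN : ∀ y : P, y⁻¹ * b y ∈ N)
    (hdvd : ¬ q ∣ Nat.card N) (x : P) : ∃ y : P, x⁻¹ * y ∈ N ∧ b y = y := by
  classical
  let S := {y : P // x⁻¹ * y ∈ N}
  haveI : Fintype S := Fintype.ofFinite S
  have hS : ∀ y : P, x⁻¹ * y ∈ N → x⁻¹ * b y ∈ N := by
    intro y hy
    have : x⁻¹ * b y = (x⁻¹ * y) * (y⁻¹ * b y) := by group
    rw [this]
    exact N.mul_mem hy (hN y)
  let f : Function.End S := fun y => ⟨b y.1, hS y.1 y.2⟩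
  have hpow : ∀ n : ℕ, ∀ y : S, ((f ^ n) y).1 = (b ^ n) y.1 := by
    intro n
    induction n with
    | zero => intro y; rfl
    | succ n ih =>
      intro y
      rw [pow_succ', pow_succ']
      show b ((f ^ n) y).1 = b ((b ^ n) y.1)
      rw [ih]
  have hf : f ^ q ^ 1 = 1 := by
    funext y
    apply Subtype.ext
    rw [pow_one, hpow, hb]
    rfl
  have hmod := Equiv.Perm.card_fixedPoints_modEq (p := q) (n := 1) hf
  have hcard : Fintype.card S = Nat.card N := by
    rw [← Nat.card_eq_fintype_card]
    apply Nat.card_congr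
    exact
      { toFun := fun y => ⟨x⁻¹ * y.1, y.2⟩
        invFun := fun n => ⟨x * n.1, by
          show x⁻¹ * (x * n.1) ∈ N
          rw [inv_mul_cancel_left]; exact n.2⟩
        left_inv := fun y => Subtype.ext (by simp)
        right_inv := fun n => Subtype.ext (by simp) }
  by_contra hcon
  push Not at hcon
  have hempty : Fintype.card ↥(Function.fixedPoints f) = 0 := by
    rw [Fintype.card_eq_zero_iff]
    constructor
    rintro ⟨y, hy⟩
    have h1 : (f y).1 = y.1 := congrArg Subtype.val hy
    exact hcon y.1 y.2 h1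
  rw [hempty, hcard] at hmod
  exact hdvd (Nat.modEq_zero_iff_dvd.1 hmod)

/-- **Burnside** (external form): a `p'`-automorphism of a finite `p`-group acting trivially on
the Frattini quotient is trivial. -/
theorem eq_one_of_trivial_mod_frattini [Finite P] {p : ℕ} [hp : Fact p.Prime] (hP : IsPGroup p P)
    (a : MulAut P) (hcop : (orderOf a).Coprime p) (h : ∀ x : P, x⁻¹ * a x ∈ frattini P) :
    a = 1 := by
  by_contra ha1
  have hord : orderOf a ≠ 1 := fun h1 => ha1 (orderOf_eq_one_iff.1 h1)
  obtain ⟨q, hq, hqdvd⟩ := Nat.exists_prime_and_dvd hord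
  haveI : Fact q.Prime := ⟨hq⟩
  obtain ⟨m, hm⟩ := hqdvd
  have hqp : q ≠ p := by
    rintro rfl
    have : q ∣ Nat.gcd (orderOf a) q := Nat.dvd_gcd ⟨m, hm⟩ dvd_rfl
    rw [hcop] at this
    exact hq.one_lt.ne' (Nat.dvd_one.1 this)
  set b := a ^ m with hb
  have hbq : b ^ q = 1 := by
    rw [hb, ← pow_mul, mul_comm, ← hm, pow_orderOf_eq_one]
  have hb1 : b ≠ 1 := by
    intro h1
    have h2 : orderOf a ∣ m := orderOf_dvd_of_pow_eq_one h1
    have hm0 : m ≠ 0 := by
      rintro rfl
      rw [mul_zero] at hm
      have := orderOf_pos a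
      omega
    have h3 : orderOf a ≤ m := Nat.le_of_dvd (Nat.pos_of_ne_zero hm0) h2
    rw [hm] at h3
    have : 2 * m ≤ q * m := Nat.mul_le_mul_right m hq.two_le
    omega
  -- `b` acts trivially modulo the Frattini subgroup
  have hak : ∀ k : ℕ, ∀ x : P, x⁻¹ * (a ^ k) x ∈ frattini P := by
    intro k
    induction k with
    | zero => intro x; simp
    | succ k ih =>
      intro x
      rw [pow_succ, MulAut.mul_apply]
      have : x⁻¹ * (a ^ k) (a x) = (x⁻¹ * a x) * ((a x)⁻¹ * (a ^ k) (a x)) := by group
      rw [this]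
      exact Subgroup.mul_mem _ (h x) (ih (a x))
  have hbΦ : ∀ x : P, x⁻¹ * b x ∈ frattini P := hak m
  have hnd : ¬ q ∣ Nat.card (frattini P) := by
    intro hdvd
    obtain ⟨n, hn⟩ := (hP.to_subgroup (frattini P)).exists_card_eq
    rw [hn] at hdvd
    exact hqp ((Nat.prime_dvd_prime_iff_eq hq hp.out).1 (hq.dvd_of_dvd_pow hdvd))
  have hsup : fixedSubgroup b ⊔ frattini P = ⊤ := by
    rw [eq_top_iff]
    intro x _
    obtain ⟨y, hy, hby⟩ := exists_fixed_in_coset b hbq (frattini P) hbΦ hnd x
    have : x = y * (x⁻¹ * y)⁻¹ := by group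
    rw [this]
    exact Subgroup.mul_mem _ (Subgroup.mem_sup_left hby) (Subgroup.mem_sup_right (inv_mem hy))
  have htop : fixedSubgroup b = ⊤ := frattini_nongenerating hsup
  apply hb1
  ext x
  have : x ∈ fixedSubgroup b := by rw [htop]; exact Subgroup.mem_top x
  exact this

end Cfsg.Agent.Helper1.AutPlumbing
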