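import Mathlib

/-!
# Schur + Wedderburn: a fixed-point-free irreducible set of operators whose centralizer is
transitive on nonzero vectors is commutative.
-/

namespace Cfsg.Agent.Helper1.ZNF

variable {p : ℕ} [hp : Fact p.Prime]

theorem comm_of_transitive_centralizer {U : Type*} [AddCommGroup U] [Module (ZMod p) U] [Finite U]
    (S : Set (Module.End (ZMod p) U))
    (hirr : ∀ W : Submodule (ZMod p) U, (∀ s ∈ S, ∀ w ∈ W, s w ∈ W) → W = ⊥ ∨ W = ⊤)
    (htrans : ∀ u u' : U, u ≠ 0 → u' ≠ 0 →
      ∃ γ : Module.End (ZMod p) U, (∀ s ∈ S, s * γ = γ * s) ∧ γ u = u')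
    (hinj : ∀ s ∈ S, ∀ u : U, s u = 0 → u = 0) :
    ∀ s ∈ S, ∀ t ∈ S, ∀ u : U, s (t u) = t (s u) := by
  classical
  intro s hs t ht u
  by_cases hu : u = 0
  · subst hu; simp
  haveI : Nontrivial U := ⟨⟨u, 0, hu⟩⟩
  set D : Subring (Module.End (ZMod p) U) := Subring.centralizer S with hD
  haveI : Finite (Module.End (ZMod p) U) :=
    Finite.of_injective (fun f : Module.End (ZMod p) U => (f : U → U)) DFunLike.coe_injective
  haveI : Finite D := inferInstance
  -- every nonzero element of `D` is injective
  have hker : ∀ f : Module.End (ZMod p) U, f ∈ D → f ≠ 0 → ∀ x : U, f x = 0 → x = 0 := by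
    intro f hf hf0 x hx
    have hinv : ∀ s ∈ S, ∀ w ∈ LinearMap.ker f, s w ∈ LinearMap.ker f := by
      intro s hs w hw
      rw [LinearMap.mem_ker] at hw ⊢
      have h1 : (f * s) w = (s * f) w := by
        rw [(Subring.mem_centralizer_iff.1 hf) s hs]
      rw [Module.End.mul_apply, Module.End.mul_apply, hw, map_zero] at h1
      exact h1
    rcases hirr _ hinv with h | h
    · have : x ∈ LinearMap.ker f := LinearMap.mem_ker.2 hx
      rw [h] at this
      simpa using this
    · exfalso; apply hf0
      ext y
      have : y ∈ LinearMap.ker f := by rw [h]; trivial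
      simpa using LinearMap.mem_ker.1 this
  haveI : NoZeroDivisors D := by
    refine ⟨?_⟩
    intro a b hab
    by_contra hcon
    obtain ⟨ha, hb⟩ := not_or.1 hcon
    apply hb
    have ha' : (a : Module.End (ZMod p) U) ≠ 0 := fun h => ha (Subtype.ext h)
    apply Subtype.ext
    ext y
    have h1 : ((a : Module.End (ZMod p) U) * (b : Module.End (ZMod p) U)) y = 0 := by
      have := congrArg (fun z : D => (z : Module.End (ZMod p) U) y) hab
      simpa using this
    rw [Module.End.mul_apply] at h1
    have := hker a a.2 ha' _ h1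
    simpa using this
  haveI : Nontrivial D := by
    refine ⟨⟨1, 0, ?_⟩⟩
    intro h
    have h1 := congrArg (fun z : D => (z : Module.End (ZMod p) U) u) h
    simp at h1
    exact hu h1
  haveI : IsDomain D := NoZeroDivisors.to_isDomain D
  have hF : IsField D := Finite.isDomain_to_isField D
  have hsu : s u ≠ 0 := fun h => hu (hinj s hs u h)
  have htu : t u ≠ 0 := fun h => hu (hinj t ht u h)
  obtain ⟨δ, hδ, hδu⟩ := htrans u (s u) hu hsu
  obtain ⟨ε, hε, hεu⟩ := htrans u (t u) hu htu
  have hδD : δ ∈ D := Subring.mem_centralizer_iff.2 hδ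
  have hεD : ε ∈ D := Subring.mem_centralizer_iff.2 hε
  have hcomm : δ * ε = ε * δ := by
    have := hF.mul_comm (⟨δ, hδD⟩ : D) ⟨ε, hεD⟩
    exact congrArg Subtype.val this
  have e1 : s (t u) = ε (δ u) := by
    rw [← hεu]
    have : (s * ε) u = (ε * s) u := by rw [hε s hs]
    rw [Module.End.mul_apply, Module.End.mul_apply] at this
    rw [this, hδu]
  have e2 : t (s u) = δ (ε u) := by
    rw [← hδu]
    have : (t * δ) u = (δ * t) u := by rw [hδ t ht]
    rw [Module.End.mul_apply, Module.End.mul_apply] at this
    rw [this, hεu]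
  rw [e1, e2]
  have := congrArg (fun z : Module.End (ZMod p) U => z u) hcomm
  simp only [Module.End.mul_apply] at this
  exact this.symm

/-- Schur + Wedderburn: the centralizer of an irreducible set of operators on a finite
`ZMod p`-module is commutative. -/
theorem comm_centralizer_of_irreducible {U : Type*} [AddCommGroup U] [Module (ZMod p) U] [Finite U]
    (S : Set (Module.End (ZMod p) U))
    (hirr : ∀ W : Submodule (ZMod p) U, (∀ s ∈ S, ∀ w ∈ W, s w ∈ W) → W = ⊥ ∨ W = ⊤)
    (δ ε : Module.End (ZMod p) U) (hδ : ∀ s ∈ S, s * δ = δ * s) (hε : ∀ s ∈ S, s * ε = ε * s) :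
    δ * ε = ε * δ := by
  classical
  by_cases hU : Nontrivial U
  swap
  · rw [not_nontrivial_iff_subsingleton] at hU
    ext x
    exact Subsingleton.elim _ _
  obtain ⟨u, hu⟩ := exists_ne (0 : U)
  set D : Subring (Module.End (ZMod p) U) := Subring.centralizer S with hD
  haveI : Finite (Module.End (ZMod p) U) :=
    Finite.of_injective (fun f : Module.End (ZMod p) U => (f : U → U)) DFunLike.coe_injective
  haveI : Finite D := inferInstance
  have hker : ∀ f : Module.End (ZMod p) U, f ∈ D → f ≠ 0 → ∀ x : U, f x = 0 → x = 0 := by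
    intro f hf hf0 x hx
    have hinv : ∀ s ∈ S, ∀ w ∈ LinearMap.ker f, s w ∈ LinearMap.ker f := by
      intro s hs w hw
      rw [LinearMap.mem_ker] at hw ⊢
      have h1 : (f * s) w = (s * f) w := by
        rw [(Subring.mem_centralizer_iff.1 hf) s hs]
      rw [Module.End.mul_apply, Module.End.mul_apply, hw, map_zero] at h1
      exact h1
    rcases hirr _ hinv with h | h
    · have : x ∈ LinearMap.ker f := LinearMap.mem_ker.2 hx
      rw [h] at this
      simpa using this
    · exfalso; apply hf0
      ext y
      have : y ∈ LinearMap.ker f := by rw [h]; trivial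
      simpa using LinearMap.mem_ker.1 this
  haveI : NoZeroDivisors D := by
    refine ⟨?_⟩
    intro a b hab
    by_contra hcon
    obtain ⟨ha, hb⟩ := not_or.1 hcon
    apply hb
    have ha' : (a : Module.End (ZMod p) U) ≠ 0 := fun h => ha (Subtype.ext h)
    apply Subtype.ext
    ext y
    have h1 : ((a : Module.End (ZMod p) U) * (b : Module.End (ZMod p) U)) y = 0 := by
      have := congrArg (fun z : D => (z : Module.End (ZMod p) U) y) hab
      simpa using this
    rw [Module.End.mul_apply] at h1
    have := hker a a.2 ha' _ h1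
    simpa using this
  haveI : Nontrivial D := by
    refine ⟨⟨1, 0, ?_⟩⟩
    intro h
    have h1 := congrArg (fun z : D => (z : Module.End (ZMod p) U) u) h
    simp at h1
    exact hu h1
  haveI : IsDomain D := NoZeroDivisors.to_isDomain D
  have hF : IsField D := Finite.isDomain_to_isField D
  have hδD : δ ∈ D := Subring.mem_centralizer_iff.2 hδ
  have hεD : ε ∈ D := Subring.mem_centralizer_iff.2 hε
  have := hF.mul_comm (⟨δ, hδD⟩ : D) ⟨ε, hεD⟩
  exact congrArg Subtype.val this

end Cfsg.Agent.Helper1.ZNF
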