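import Mathlib
import Cfsg.Prelude.Def_PLocal
import Cfsg.Agent.Helper4.HallHigman
import Cfsg.Agent.Helper1.Fitting
import Cfsg.Agent.Helper4.PCore

set_option autoImplicit false

/-!
The dual of Hall–Higman Lemma 1.2.3: in a `p`-solvable group with `O_p = 1`, the subgroup
`O_{p'}` contains its centralizer.
-/

namespace Cfsg.Agent.Helper1

open scoped Pointwise commutatorElement

theorem centralizer_pPrimeCore_le_of_isPSolvable {X : Type*} [Group X] [Finite X] {p : ℕ}
    [hp : Fact p.Prime] (hX : Cfsg.IsPSolvable p X) (hO : Cfsg.pCore p X = ⊥) :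
    Subgroup.centralizer (Cfsg.pPrimeCore p X : Set X) ≤ Cfsg.pPrimeCore p X := by
  set Q := Cfsg.pPrimeCore p X with hQ
  haveI hQn : Q.Normal := pPrimeCore_normal p
  set C := Subgroup.centralizer (Q : Set X) with hC
  haveI hCn : C.Normal := Subgroup.normal_centralizer
  set π := QuotientGroup.mk' Q with hπ
  have hXq : Cfsg.IsPSolvable p (X ⧸ Q) := Cfsg.Agent.Helper4.isPSolvable_quotient hX Q
  have hOq : Cfsg.pPrimeCore p (X ⧸ Q) = ⊥ := Cfsg.Agent.Helper4.pPrimeCore_quotient_eq_bot p
  have hHH := Cfsg.Agent.Helper4.centralizer_pCore_le_of_isPSolvable hXq hOq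
  set Pb := Cfsg.pCore p (X ⧸ Q) with hPb
  haveI hPbn : Pb.Normal := Cfsg.Agent.Helper4.pCore_normal
  have hPbp : IsPGroup p Pb := Cfsg.Agent.Helper5.isPGroup_pCore p
  set P := Pb.comap π with hP
  haveI hPn : P.Normal := Subgroup.Normal.comap hPbn π
  set D := C ⊓ P with hD
  haveI hDn : D.Normal := Subgroup.normal_inf_normal C P
  -- Step 1: `D ≤ Q`
  have hDQ : D ≤ Q := by
    set f : ↥D →* ↥Pb :=
      { toFun := fun d => ⟨π (d : X), d.2.2⟩
        map_one' := Subtype.ext (map_one π)
        map_mul' := fun a b => Subtype.ext (map_mul π (a : X) (b : X)) } with hf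
    have hker : f.ker ≤ Subgroup.center ↥D := by
      intro d hd
      have hdQ : (d : X) ∈ Q := by
        have h1 : π (d : X) = 1 := congrArg Subtype.val (MonoidHom.mem_ker.1 hd)
        exact (QuotientGroup.eq_one_iff (d : X)).1 h1
      rw [Subgroup.mem_center_iff]
      intro d'
      apply Subtype.ext
      have h2 := (Subgroup.mem_centralizer_iff.1 d'.2.1) (d : X) hdQ
      exact h2.symm
    haveI : Group.IsNilpotent ↥Pb := hPbp.isNilpotent
    have hnil : Group.IsNilpotent ↥D := Subgroup.isNilpotent_of_ker_le_center f hker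
    have hsyl := ((Group.isNilpotent_of_finite_tfae (G := ↥D)).out 0 3).1 hnil
    obtain ⟨S⟩ : Nonempty (Sylow p ↥D) := inferInstance
    haveI hSn : (S : Subgroup ↥D).Normal := hsyl p hp S
    haveI hSc : (S : Subgroup ↥D).Characteristic := Sylow.characteristic_of_normal S hSn
    have hSX : ((S : Subgroup ↥D).map D.subtype).Normal := inferInstance
    have hSp : IsPGroup p ↥((S : Subgroup ↥D).map D.subtype) := S.2.map D.subtype
    have hSle : (S : Subgroup ↥D).map D.subtype ≤ Cfsg.pCore p X :=
      Cfsg.Agent.Helper5.le_pCore hSX hSp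
    rw [hO, le_bot_iff, Subgroup.map_eq_bot_iff_of_injective _ D.subtype_injective] at hSle
    have hcop : (Nat.card ↥D).Coprime p := by
      rw [Nat.coprime_comm, Nat.Prime.coprime_iff_not_dvd hp.out]
      intro hdvd
      have h1 := S.card_eq_multiplicity
      have h2 : Nat.card (S : Subgroup ↥D) = 1 := by rw [hSle]; exact Subgroup.card_bot
      rw [h2] at h1
      have h3 : (Nat.card ↥D).factorization p = 0 := by
        by_contra hne
        have : 1 < p ^ (Nat.card ↥D).factorization p :=
          Nat.one_lt_pow hne hp.out.one_lt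
        omega
      have h4 := (hp.out.dvd_iff_one_le_factorization Nat.card_pos.ne').1 hdvd
      omega
    exact Cfsg.Agent.Helper5.le_pPrimeCore hDn hcop
  -- Step 2: `C ≤ P`
  have hCP : C ≤ P := by
    intro c hc
    show π c ∈ Pb
    apply hHH
    rw [Subgroup.mem_centralizer_iff]
    intro xb hxb
    obtain ⟨x, rfl⟩ := QuotientGroup.mk'_surjective Q xb
    have hxP : x ∈ P := hxb
    have h1 : ⁅c, x⁆ ∈ D := by
      refine ⟨?_, ?_⟩
      · rw [commutatorElement_def]
        have : c * x * c⁻¹ * x⁻¹ = c * (x * c⁻¹ * x⁻¹) := by group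
        rw [this]
        exact C.mul_mem hc (hCn.conj_mem _ (C.inv_mem hc) x)
      · rw [commutatorElement_def]
        exact P.mul_mem (hPn.conj_mem _ hxP c) (P.inv_mem hxP)
    have h2 : π ⁅c, x⁆ = 1 := (QuotientGroup.eq_one_iff _).2 (hDQ h1)
    rw [map_commutatorElement, commutatorElement_eq_one_iff_mul_comm] at h2
    exact h2.symm
  intro c hc
  exact hDQ ⟨hc, hCP hc⟩

end Cfsg.Agent.Helper1
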