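import Mathlib
import Cfsg.Agent.Helper5.CentricRadical
import Cfsg.Prelude.Def_TwoFusion

set_option autoImplicit false

/-!
Alperin–Goldschmidt conjugation theorem, part 1: lemmas inside `X = N_G(T)` for a normal
`p`-subgroup `T` of the finite group `X` with Sylow `p`-subgroup `S`.
Either `C_S(T) ≤ T` and `S ∩ O_{p',p}(X) ≤ T` (then `T` is a "Goldschmidt" subgroup), or every
`x ∈ X` factors as `c * y` with `c ∈ C_X(T)` and `y` normalizing a strictly larger subgroup of `S`.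
-/

namespace Cfsg.Agent.Helper1.AG

open Cfsg Cfsg.Agent.Helper5

variable {X : Type*} [Group X] [Finite X] {p : ℕ} [Fact p.Prime]

/-- Frattini argument for `S ∩ M` with `M` normal. -/
theorem frattini_sylow_inf (S : Sylow p X) (M : Subgroup X) [hMn : M.Normal] :
    Subgroup.normalizer (((S : Subgroup X) ⊓ M : Subgroup X) : Set X) ⊔ M = ⊤ := by
  have hpM : IsPGroup p ((S : Subgroup X).subgroupOf M) := S.2.comap_subtype
  have hidx : ¬ p ∣ ((S : Subgroup X).subgroupOf M).index :=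
    not_dvd_relIndex_of_normal (S : Subgroup X) M S.not_dvd_index
  have h3 := Sylow.normalizer_sup_eq_top (hpM.toSylow hidx)
  rw [IsPGroup.toSylow_coe, Subgroup.subgroupOf_map_subtype] at h3
  exact h3

/-- Elementwise Frattini factorization: if `M = M₀ (S ∩ M)` with `M₀, M` normal, every `x` is
`a * y` with `a ∈ M₀` and `y ∈ N_X(S ∩ M)`. -/
theorem frattini_factor (S : Sylow p X) (M M₀ : Subgroup X) [M.Normal] [M₀.Normal]
    (h : M ≤ M₀ ⊔ ((S : Subgroup X) ⊓ M)) (x : X) :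
    ∃ a ∈ M₀, ∃ y ∈ Subgroup.normalizer (((S : Subgroup X) ⊓ M : Subgroup X) : Set X),
      x = a * y := by
  have hx : x ∈ M ⊔ Subgroup.normalizer (((S : Subgroup X) ⊓ M : Subgroup X) : Set X) := by
    rw [sup_comm, frattini_sylow_inf]; exact Subgroup.mem_top x
  rw [← SetLike.mem_coe, Subgroup.normal_mul] at hx
  obtain ⟨m, hm, n, hn, rfl⟩ := hx
  have hm' := h hm
  rw [← SetLike.mem_coe, Subgroup.normal_mul] at hm'
  obtain ⟨a, ha, s, hs, rfl⟩ := hm'
  exact ⟨a, ha, s * n, Subgroup.mul_mem _ (Subgroup.le_normalizer hs) hn, by group⟩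

omit [Finite X] [Fact p.Prime] in
theorem pPrimePCore_normal' : (Cfsg.pPrimePCore p X).Normal := by
  unfold Cfsg.pPrimePCore; infer_instance

omit [Finite X] [Fact p.Prime] in
theorem pPrimeCore_le_pPrimePCore' : Cfsg.pPrimeCore p X ≤ Cfsg.pPrimePCore p X := by
  unfold Cfsg.pPrimePCore
  exact le_comap_pCore_self p _

/-- `O_{p',p}(X) = O_{p'}(X) (S ∩ O_{p',p}(X))`. -/
theorem pPrimePCore_le_sup (S : Sylow p X) :
    Cfsg.pPrimePCore p X ≤
      Cfsg.pPrimeCore p X ⊔ ((S : Subgroup X) ⊓ Cfsg.pPrimePCore p X) := by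
  haveI hMn : (Cfsg.pPrimePCore p X).Normal := pPrimePCore_normal'
  have hKM : Cfsg.pPrimeCore p X ≤ Cfsg.pPrimePCore p X := pPrimeCore_le_pPrimePCore'
  rw [← Subgroup.relIndex_eq_one]
  have h1 : (Cfsg.pPrimeCore p X ⊔ ((S : Subgroup X) ⊓ Cfsg.pPrimePCore p X)).relIndex
      (Cfsg.pPrimePCore p X) ∣ (Cfsg.pPrimeCore p X).relIndex (Cfsg.pPrimePCore p X) :=
    Subgroup.relIndex_dvd_of_le_left _ le_sup_left
  have h2 : (Cfsg.pPrimeCore p X ⊔ ((S : Subgroup X) ⊓ Cfsg.pPrimePCore p X)).relIndex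
      (Cfsg.pPrimePCore p X) ∣
      ((S : Subgroup X) ⊓ Cfsg.pPrimePCore p X).relIndex (Cfsg.pPrimePCore p X) :=
    Subgroup.relIndex_dvd_of_le_left _ le_sup_right
  have hnd : ¬ p ∣ ((S : Subgroup X) ⊓ Cfsg.pPrimePCore p X).relIndex (Cfsg.pPrimePCore p X) := by
    rw [Subgroup.inf_relIndex_right]
    exact not_dvd_relIndex_of_normal _ _ S.not_dvd_index
  have hp : IsPGroup p (↥(Cfsg.pPrimePCore p X) ⧸
      (Cfsg.pPrimeCore p X).subgroupOf (Cfsg.pPrimePCore p X)) := by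
    intro y
    obtain ⟨r, rfl⟩ := QuotientGroup.mk_surjective y
    obtain ⟨k, hk⟩ := exists_pow_mem_of_mem_comap_pCore (Cfsg.pPrimeCore p X) r.2
    refine ⟨k, ?_⟩
    rw [← QuotientGroup.mk_pow, QuotientGroup.eq_one_iff, Subgroup.mem_subgroupOf]
    simpa using hk
  obtain ⟨n, hn⟩ := IsPGroup.iff_card.mp hp
  have h3 : (Cfsg.pPrimeCore p X).relIndex (Cfsg.pPrimePCore p X) = p ^ n := by
    rw [← hn]; exact Subgroup.index_eq_card _
  rw [h3] at h1
  have h4 : ((Cfsg.pPrimeCore p X ⊔ ((S : Subgroup X) ⊓ Cfsg.pPrimePCore p X)).relIndex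
      (Cfsg.pPrimePCore p X)).Coprime (p ^ n) := by
    apply Nat.Coprime.pow_right
    rw [Nat.coprime_comm]
    exact (Nat.Prime.coprime_iff_not_dvd Fact.out).mpr (fun h => hnd (dvd_trans h h2))
  exact Nat.Coprime.eq_one_of_dvd h4 h1

/-- The dichotomy inside `X`. -/
theorem X_main (S : Sylow p X) (T : Subgroup X) [hTn : T.Normal] (hT : IsPGroup p T)
    (hTS : T ≤ (S : Subgroup X)) (x : X) :
    (∃ T₁ : Subgroup X, T < T₁ ∧ T₁ ≤ (S : Subgroup X) ∧
      ∃ c ∈ Subgroup.centralizer (T : Set X), ∃ y ∈ Subgroup.normalizer (T₁ : Set X), x = c * y) ∨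
    ((S : Subgroup X) ⊓ Subgroup.centralizer (T : Set X) ≤ T ∧
      (S : Subgroup X) ⊓ Cfsg.pPrimePCore p X ≤ T) := by
  haveI hMn : (Cfsg.pPrimePCore p X).Normal := pPrimePCore_normal'
  by_cases h1 : (S : Subgroup X) ⊓ Subgroup.centralizer (T : Set X) ≤ T
  · by_cases h2 : (S : Subgroup X) ⊓ Cfsg.pPrimePCore p X ≤ T
    · exact Or.inr ⟨h1, h2⟩
    · left
      have hTM : T ≤ Cfsg.pPrimePCore p X := by
        unfold Cfsg.pPrimePCore
        exact isPGroup_le_comap_pCore _ T hT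
      obtain ⟨a, ha, y, hy, hxy⟩ := frattini_factor S (Cfsg.pPrimePCore p X) (Cfsg.pPrimeCore p X)
        (pPrimePCore_le_sup S) x
      refine ⟨(S : Subgroup X) ⊓ Cfsg.pPrimePCore p X, lt_of_le_of_ne (le_inf hTS hTM) ?_,
        inf_le_left, a, pPrimeCore_le_centralizer T hT ha, y, hy, hxy⟩
      intro he
      exact h2 he.symm.le
  · left
    haveI hCn : (Subgroup.centralizer (T : Set X)).Normal := Subgroup.normal_centralizer
    haveI hMn' : (Subgroup.centralizer (T : Set X) ⊔ T).Normal := inferInstance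
    have hle : Subgroup.centralizer (T : Set X) ⊔ T ≤ Subgroup.centralizer (T : Set X) ⊔
        ((S : Subgroup X) ⊓ (Subgroup.centralizer (T : Set X) ⊔ T)) :=
      sup_le le_sup_left (le_sup_right.trans' (le_inf hTS le_sup_right))
    obtain ⟨a, ha, y, hy, hxy⟩ := frattini_factor S (Subgroup.centralizer (T : Set X) ⊔ T)
      (Subgroup.centralizer (T : Set X)) hle x
    refine ⟨(S : Subgroup X) ⊓ (Subgroup.centralizer (T : Set X) ⊔ T),
      lt_of_le_of_ne (le_inf hTS le_sup_right) ?_, inf_le_left, a, ha, y, hy, hxy⟩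
    intro he
    exact h1 (le_trans (inf_le_inf_left _ le_sup_left) he.symm.le)

/-- In the second case of `X_main`, `T` satisfies Goldschmidt's conditions in `X`. -/
theorem X_good (S : Sylow p X) (T : Subgroup X) [hTn : T.Normal] (hT : IsPGroup p T)
    (h1 : (S : Subgroup X) ⊓ Subgroup.centralizer (T : Set X) ≤ T)
    (h2 : (S : Subgroup X) ⊓ Cfsg.pPrimePCore p X ≤ T) :
    Subgroup.centralizer (T : Set X) ≤ Cfsg.pPrimePCore p X ∧
      Cfsg.IsInternalDirectProduct (Cfsg.pPrimeCore p X) T (Cfsg.pPrimePCore p X) := by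
  haveI hCn : (Subgroup.centralizer (T : Set X)).Normal := Subgroup.normal_centralizer
  have hTM : T ≤ Cfsg.pPrimePCore p X := by
    unfold Cfsg.pPrimePCore
    exact isPGroup_le_comap_pCore _ T hT
  refine ⟨(le_comap_pCore_self p _).trans (comap_pCore_centralizer_le_pPrimePCore S T h1),
    pPrimeCore_le_pPrimePCore', hTM, ?_, ?_, ?_⟩
  · intro a ha b hb
    exact (Subgroup.mem_centralizer_iff.mp (pPrimeCore_le_centralizer T hT ha) b hb).symm
  · have hcop : (Nat.card (Cfsg.pPrimeCore p X)).Coprime (Nat.card T) := by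
      obtain ⟨n, hn⟩ := IsPGroup.iff_card.mp hT
      rw [hn]
      exact Nat.Coprime.pow_right n (coprime_card_pPrimeCore (G := X) p)
    exact (Subgroup.disjoint_of_coprime_natCard hcop).eq_bot
  · apply le_antisymm (sup_le pPrimeCore_le_pPrimePCore' hTM)
    exact (pPrimePCore_le_sup S).trans (sup_le_sup_left h2 _)

end Cfsg.Agent.Helper1.AG
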