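import Mathlib
import Cfsg.Agent.Helper1.AGa
import Cfsg.Agent.Helper5.SylowGraph
import Cfsg.Agent.S3058

set_option autoImplicit false

/-!
Strong form of the Alperin–Goldschmidt theorem, part 1: lemmas inside `L = N_G(T)` about the
quotient `L / T`: if the Sylow graph of `L / T` is disconnected there is a smallest normal subgroup
`XX ≥ T` with `p ∣ |XX : T|` and `L = O^p(XX) N_L(S ∩ XX)`; if it is connected, `L` is generated by
the elements `m` with `S ∩ S^m > T`.
-/

namespace Cfsg.Agent.Helper1.AG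

open Cfsg Cfsg.Agent.Helper5

section pRes

variable {L : Type*} [Group L]

/-- The subgroup generated by the `p'`-elements of `H`, inside the ambient group. -/
def pRes (p : ℕ) (H : Subgroup L) : Subgroup L :=
  Subgroup.closure {g : L | g ∈ H ∧ (orderOf g).Coprime p}

theorem pResidual_map_subtype (p : ℕ) (H : Subgroup L) :
    (Cfsg.pResidual p ↥H).map H.subtype = pRes p H := by
  unfold Cfsg.pResidual pRes
  rw [MonoidHom.map_closure]
  congr 1
  ext y
  constructor
  · rintro ⟨g, hg, rfl⟩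
    refine ⟨g.2, ?_⟩
    rw [Subgroup.coe_subtype, Subgroup.orderOf_coe]
    exact hg
  · rintro ⟨h1, h2⟩
    refine ⟨⟨y, h1⟩, ?_, rfl⟩
    show (orderOf (⟨y, h1⟩ : ↥H)).Coprime p
    rw [← Subgroup.orderOf_coe]
    exact h2

theorem pRes_map {G : Type*} [Group G] (p : ℕ) (f : L →* G) (hf : Function.Injective f)
    (H : Subgroup L) : (pRes p H).map f = pRes p (H.map f) := by
  unfold pRes
  rw [MonoidHom.map_closure]
  congr 1
  ext y
  constructor
  · rintro ⟨g, ⟨hg1, hg2⟩, rfl⟩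
    refine ⟨Subgroup.mem_map_of_mem f hg1, ?_⟩
    rw [orderOf_injective f hf]
    exact hg2
  · rintro ⟨⟨g, hg, rfl⟩, h2⟩
    rw [orderOf_injective f hf] at h2
    exact ⟨g, ⟨hg, h2⟩, rfl⟩

theorem pRes_le (p : ℕ) (H : Subgroup L) : pRes p H ≤ H := by
  unfold pRes
  rw [Subgroup.closure_le]
  intro g hg
  exact hg.1

theorem pRes_normal (p : ℕ) (H : Subgroup L) [H.Normal] : (pRes p H).Normal := by
  rw [← pResidual_map_subtype]
  haveI : (Cfsg.pResidual p ↥H).Characteristic := pResidual_characteristic p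
  exact ConjAct.normal_of_characteristic_of_normal

theorem exists_pow_mem_pRes [Finite L] (p : ℕ) [Fact p.Prime] (H : Subgroup L) {m : L} (hm : m ∈ H) :
    ∃ k : ℕ, m ^ p ^ k ∈ pRes p H := by
  obtain ⟨j, hj⟩ := (isPGroup_quotient_pResidual (G := ↥H) p) (QuotientGroup.mk ⟨m, hm⟩)
  refine ⟨j, ?_⟩
  rw [← QuotientGroup.mk_pow, QuotientGroup.eq_one_iff] at hj
  rw [← pResidual_map_subtype]
  exact ⟨_, hj, by simp⟩

end pRes

variable {L : Type*} [Group L] [Finite L] {p : ℕ} [Fact p.Prime]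

/-- If `M / M₀` is a `p`-group then `M = M₀ (S ∩ M)`. -/
theorem le_sup_of_pow_mem (S : Sylow p L) (M M₀ : Subgroup L) [M.Normal] [M₀.Normal]
    (hpow : ∀ m ∈ M, ∃ k : ℕ, m ^ p ^ k ∈ M₀) : M ≤ M₀ ⊔ ((S : Subgroup L) ⊓ M) := by
  rw [← Subgroup.relIndex_eq_one]
  have h1 : (M₀ ⊔ ((S : Subgroup L) ⊓ M)).relIndex M ∣ M₀.relIndex M :=
    Subgroup.relIndex_dvd_of_le_left _ le_sup_left
  have h2 : (M₀ ⊔ ((S : Subgroup L) ⊓ M)).relIndex M ∣ ((S : Subgroup L) ⊓ M).relIndex M :=
    Subgroup.relIndex_dvd_of_le_left _ le_sup_right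
  have hnd : ¬ p ∣ ((S : Subgroup L) ⊓ M).relIndex M := by
    rw [Subgroup.inf_relIndex_right]
    exact not_dvd_relIndex_of_normal _ _ S.not_dvd_index
  have hp : IsPGroup p (↥M ⧸ M₀.subgroupOf M) := by
    intro y
    obtain ⟨r, rfl⟩ := QuotientGroup.mk_surjective y
    obtain ⟨k, hk⟩ := hpow r r.2
    refine ⟨k, ?_⟩
    rw [← QuotientGroup.mk_pow, QuotientGroup.eq_one_iff, Subgroup.mem_subgroupOf]
    simpa using hk
  obtain ⟨n, hn⟩ := IsPGroup.iff_card.mp hp
  have h3 : M₀.relIndex M = p ^ n := by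
    rw [← hn]; exact Subgroup.index_eq_card _
  rw [h3] at h1
  have h4 : ((M₀ ⊔ ((S : Subgroup L) ⊓ M)).relIndex M).Coprime (p ^ n) := by
    apply Nat.Coprime.pow_right
    rw [Nat.coprime_comm]
    exact (Nat.Prime.coprime_iff_not_dvd Fact.out).mpr (fun h => hnd (dvd_trans h h2))
  exact Nat.Coprime.eq_one_of_dvd h4 h1

omit [Finite L] [Fact p.Prime] in
/-- `|Y : T| = |Y T / T|`. -/
theorem relIndex_eq_card_map (T : Subgroup L) [T.Normal] (Y : Subgroup L) :
    T.relIndex Y = Nat.card (Y.map (QuotientGroup.mk' T)) := by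
  have h : T = (⊥ : Subgroup (L ⧸ T)).comap (QuotientGroup.mk' T) := by
    rw [MonoidHom.comap_bot, QuotientGroup.ker_mk']
  conv_lhs => rw [h]
  rw [Subgroup.relIndex_comap, Subgroup.relIndex_bot_left]

omit [Finite L] [Fact p.Prime] in
theorem sylConn_of_cc (h : Cfsg.IsSylowChainConnected p L) (A B : Sylow p L) : SylConn p A B := by
  obtain ⟨n, c, h0, hl, -, hadj⟩ := h A B
  have : ∀ i : Fin (n + 1), SylConn p A (c i) := by
    intro i
    induction i using Fin.induction with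
    | zero => rw [h0]; exact Relation.ReflTransGen.refl
    | succ i ih => exact Relation.ReflTransGen.tail ih (hadj i)
  rw [← hl]; exact this _

/-- A group with disconnected Sylow graph has order divisible by `p`. -/
theorem dvd_card_of_not_cc (hncc : ¬ Cfsg.IsSylowChainConnected p L) : p ∣ Nat.card L := by
  by_contra hnd
  apply hncc
  intro A B
  have hbot : ∀ C : Sylow p L, (C : Subgroup L) = ⊥ := by
    intro C
    apply Subgroup.eq_bot_of_card_eq
    rw [C.card_eq_multiplicity, Nat.factorization_eq_zero_of_not_dvd hnd, pow_zero]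
  have hAB : A = B := Sylow.ext (by rw [hbot A, hbot B])
  subst hAB
  exact ⟨0, fun _ => A, rfl, rfl, fun _ => inf_le_left, fun i => i.elim0⟩

/-- The essential case: the smallest normal subgroup `XX ≥ T` with `p ∣ |XX : T|`, and the
Frattini factorization `L = O^p(XX) N_L(S ∩ XX)`. -/
theorem X_ess (S : Sylow p L) (T : Subgroup L) [hTn : T.Normal] (hTS : T ≤ (S : Subgroup L))
    (hncc : ¬ Cfsg.IsSylowChainConnected p (L ⧸ T)) :
    ∃ XX : Subgroup L, XX.Normal ∧ T ≤ XX ∧ p ∣ T.relIndex XX ∧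
      (∀ Y : Subgroup L, Y.Normal → T ≤ Y → p ∣ T.relIndex Y → XX ≤ Y) ∧
      T < (S : Subgroup L) ⊓ XX ∧
      ∀ x : L, ∃ a ∈ pRes p XX,
        ∃ y ∈ Subgroup.normalizer (((S : Subgroup L) ⊓ XX : Subgroup L) : Set L), x = a * y := by
  have hpQ : p ∣ Nat.card (L ⧸ T) := dvd_card_of_not_cc hncc
  -- a normal subgroup of `L / T` of order divisible by `p` of least order
  have hex : ∃ n : ℕ, ∃ Y : Subgroup (L ⧸ T), Y.Normal ∧ p ∣ Nat.card Y ∧ Nat.card Y = n :=
    ⟨_, ⊤, inferInstance, by rw [Subgroup.card_top]; exact hpQ, rfl⟩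
  classical
  obtain ⟨Xb, hXbn, hXbp, hXbc⟩ := Nat.find_spec hex
  have hmin : ∀ Y : Subgroup (L ⧸ T), Y.Normal → p ∣ Nat.card Y → Xb ≤ Y := by
    intro Y hYn hYp
    haveI := hXbn
    haveI := hYn
    have h1 : p ∣ Nat.card ↥(Xb ⊓ Y) := Cfsg.Agent.S3058.result p hncc Xb Y hXbp hYp
    have h2 : (Xb ⊓ Y).Normal := inferInstance
    have h3 : Nat.find hex ≤ Nat.card ↥(Xb ⊓ Y) := Nat.find_min' hex ⟨_, h2, h1, rfl⟩
    have h4 : Xb ⊓ Y = Xb := by
      apply Subgroup.eq_of_le_of_card_ge inf_le_left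
      rw [hXbc]; exact h3
    rw [← h4]; exact inf_le_right
  haveI := hXbn
  have hXn : (Xb.comap (QuotientGroup.mk' T)).Normal := inferInstance
  have hTX : T ≤ Xb.comap (QuotientGroup.mk' T) := by
    intro t ht
    rw [Subgroup.mem_comap]
    have : QuotientGroup.mk' T t = 1 := (QuotientGroup.eq_one_iff t).mpr ht
    rw [this]; exact Subgroup.one_mem _
  have hrel : T.relIndex (Xb.comap (QuotientGroup.mk' T)) = Nat.card Xb := by
    rw [relIndex_eq_card_map, Subgroup.map_comap_eq_self_of_surjective (QuotientGroup.mk'_surjective T)]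
  have hpX : p ∣ T.relIndex (Xb.comap (QuotientGroup.mk' T)) := by rw [hrel]; exact hXbp
  haveI := hXn
  haveI hRn : (pRes p (Xb.comap (QuotientGroup.mk' T))).Normal := pRes_normal p _
  refine ⟨Xb.comap (QuotientGroup.mk' T), hXn, hTX, hpX, ?_, ?_, ?_⟩
  · intro Y hYn hTY hYp
    have hYbn : (Y.map (QuotientGroup.mk' T)).Normal :=
      Subgroup.Normal.map hYn _ (QuotientGroup.mk'_surjective T)
    have hYbp : p ∣ Nat.card (Y.map (QuotientGroup.mk' T)) := by
      rw [← relIndex_eq_card_map]; exact hYp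
    have h1 := hmin _ hYbn hYbp
    have h2 := Subgroup.comap_mono (f := QuotientGroup.mk' T) h1
    rw [Subgroup.comap_map_eq, QuotientGroup.ker_mk', sup_eq_left.mpr hTY] at h2
    exact h2
  · refine lt_of_le_of_ne (le_inf hTS hTX) ?_
    intro he
    have h1 : ¬ p ∣ ((S : Subgroup L) ⊓ Xb.comap (QuotientGroup.mk' T)).relIndex
        (Xb.comap (QuotientGroup.mk' T)) := by
      rw [Subgroup.inf_relIndex_right]
      exact not_dvd_relIndex_of_normal _ _ S.not_dvd_index
    rw [← he] at h1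
    exact h1 hpX
  · intro x
    exact frattini_factor S (Xb.comap (QuotientGroup.mk' T)) (pRes p (Xb.comap (QuotientGroup.mk' T)))
      (le_sup_of_pow_mem S _ _ (fun m hm => exists_pow_mem_pRes p _ hm)) x

/-- The connected case: `L` is generated by the elements `m` such that `S ∩ m S m⁻¹` is strictly
larger than `T`. -/
theorem X_conn (S : Sylow p L) (T : Subgroup L) [hTn : T.Normal] (hTS : T ≤ (S : Subgroup L))
    (hTne : T ≠ (S : Subgroup L)) (hcc : Cfsg.IsSylowChainConnected p (L ⧸ T)) (K : Subgroup L)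
    (hK : ∀ m d : L, d ∈ (S : Subgroup L) → d ∉ T → m⁻¹ * d * m ∈ (S : Subgroup L) → m ∈ K) :
    K = ⊤ := by
  have hsurj := QuotientGroup.mk'_surjective T
  -- the image Sylow subgroup
  have key : ∀ m : L, ((S.mapSurjective hsurj : Sylow p (L ⧸ T)) : Subgroup (L ⧸ T)) ⊓
      (((QuotientGroup.mk' T m) • (S.mapSurjective hsurj : Sylow p (L ⧸ T)) : Sylow p (L ⧸ T)) :
        Subgroup (L ⧸ T)) ≠ ⊥ → m ∈ K := by
    intro m hne
    obtain ⟨⟨z, hz⟩, hdb1⟩ := (Subgroup.ne_bot_iff_exists_ne_one).mp hne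
    have hz1 : z ≠ 1 := fun h => hdb1 (Subtype.ext h)
    obtain ⟨hdbS, hdbm⟩ := Subgroup.mem_inf.mp hz
    rw [Sylow.coe_mapSurjective] at hdbS
    obtain ⟨d, hdS, hd⟩ := hdbS
    have hdT : d ∉ T := by
      intro hdT
      apply hz1
      rw [← hd]
      exact (QuotientGroup.eq_one_iff d).mpr hdT
    rw [sylow_mem_smul_iff, Sylow.coe_mapSurjective, ← hd, ← map_inv, ← map_mul, ← map_mul] at hdbm
    obtain ⟨s, hsS, hs⟩ := hdbm
    have h1 : s⁻¹ * (m⁻¹ * d * m) ∈ T := by
      have := (QuotientGroup.mk'_eq_mk' T).mp hs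
      obtain ⟨z, hz, hsz⟩ := this
      rw [← hsz]
      simpa using hz
    have h2 : m⁻¹ * d * m = s * (s⁻¹ * (m⁻¹ * d * m)) := by group
    have h3 : m⁻¹ * d * m ∈ (S : Subgroup L) := by
      rw [h2]
      exact Subgroup.mul_mem _ hsS (hTS h1)
    exact hK m d hdS hdT h3
  have hSne : ((S.mapSurjective hsurj : Sylow p (L ⧸ T)) : Subgroup (L ⧸ T)) ≠ ⊥ := by
    intro hbot
    apply hTne
    apply le_antisymm hTS
    intro s hs
    have h1 : QuotientGroup.mk' T s ∈ ((S.mapSurjective hsurj : Sylow p (L ⧸ T)) : Subgroup (L ⧸ T)) := by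
      rw [Sylow.coe_mapSurjective]
      exact Subgroup.mem_map_of_mem _ hs
    rw [hbot, Subgroup.mem_bot] at h1
    exact (QuotientGroup.eq_one_iff s).mp h1
  have hall : ∀ B : Sylow p (L ⧸ T), SylConn p (S.mapSurjective hsurj) B →
      ∀ m : L, (QuotientGroup.mk' T m) • (S.mapSurjective hsurj : Sylow p (L ⧸ T)) = B → m ∈ K := by
    intro B hB
    induction hB with
    | refl =>
      intro m hm
      apply key
      rw [hm, inf_idem]
      exact hSne
    | @tail B C _ hBC ih =>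
      intro n hn
      obtain ⟨mb, hmb⟩ := MulAction.exists_smul_eq (L ⧸ T) (S.mapSurjective hsurj : Sylow p (L ⧸ T)) B
      obtain ⟨m, rfl⟩ := hsurj mb
      have hmK : m ∈ K := ih m hmb
      have h1 : m⁻¹ * n ∈ K := by
        apply key
        intro hbot
        apply hBC.2
        rw [← hmb, ← hn]
        rw [eq_bot_iff] at hbot ⊢
        intro z hz
        obtain ⟨hz1, hz2⟩ := Subgroup.mem_inf.mp hz
        rw [sylow_mem_smul_iff] at hz1 hz2
        have h2 : (QuotientGroup.mk' T m)⁻¹ * z * (QuotientGroup.mk' T m) ∈ (⊥ : Subgroup (L ⧸ T)) := by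
          apply hbot
          refine Subgroup.mem_inf.mpr ⟨hz1, ?_⟩
          rw [sylow_mem_smul_iff]
          have e : (QuotientGroup.mk' T (m⁻¹ * n))⁻¹ *
              ((QuotientGroup.mk' T m)⁻¹ * z * (QuotientGroup.mk' T m)) *
              (QuotientGroup.mk' T (m⁻¹ * n)) =
              (QuotientGroup.mk' T n)⁻¹ * z * (QuotientGroup.mk' T n) := by
            rw [map_mul, map_inv]; group
          rw [e]; exact hz2
        rw [Subgroup.mem_bot] at h2 ⊢
        have e2 : z = (QuotientGroup.mk' T m) * ((QuotientGroup.mk' T m)⁻¹ * z * (QuotientGroup.mk' T m)) *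
            (QuotientGroup.mk' T m)⁻¹ := by group
        rw [e2, h2]; group
      have : n = m * (m⁻¹ * n) := by group
      rw [this]
      exact K.mul_mem hmK h1
  rw [eq_top_iff]
  intro m _
  exact hall _ (sylConn_of_cc hcc _ _) m rfl

end Cfsg.Agent.Helper1.AG
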