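import Mathlib
import Cfsg.Agent.Helper1.AGb
import Cfsg.Agent.Helper1.AGd

set_option autoImplicit false

/-!
Strong form of the Alperin–Goldschmidt theorem, part 2: essential steps, the relation "`g` carries
`A` through a chain of essential steps, up to a centralizing factor on the left and an element of
`N_G(P)` on the right", and the two cases for a Goldschmidt subgroup `T'`.
-/

namespace Cfsg.Agent.Helper1.AG

open Cfsg Cfsg.Agent.Lead Cfsg.Agent.Lead.Alp

variable {G : Type*} [Group G]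

/-- The conditions on an essential subgroup `H ≤ P` together with its subgroup `X`. -/
def Ess (p : ℕ) (P H X : Subgroup G) : Prop :=
  H ≤ P ∧
  ¬ p ∣ (P ⊓ Subgroup.normalizer (H : Set G)).relIndex (Subgroup.normalizer (H : Set G)) ∧
  P ⊓ Subgroup.centralizer (H : Set G) ≤ H ∧
  (Cfsg.pPrimePCore p ↥(Subgroup.normalizer (H : Set G))).map (Subgroup.normalizer (H : Set G)).subtype =
    H ⊔ Subgroup.centralizer (H : Set G) ∧
  ¬ Cfsg.IsSylowChainConnected p
      (↥(Subgroup.normalizer (H : Set G)) ⧸ H.subgroupOf (Subgroup.normalizer (H : Set G))) ∧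
  (H ≤ X ∧ X ≤ Subgroup.normalizer (H : Set G) ∧
    (X.subgroupOf (Subgroup.normalizer (H : Set G))).Normal ∧ p ∣ H.relIndex X ∧
    ∀ Y : Subgroup G, H ≤ Y → Y ≤ Subgroup.normalizer (H : Set G) →
      (Y.subgroupOf (Subgroup.normalizer (H : Set G))).Normal → p ∣ H.relIndex Y → X ≤ Y)

/-- One essential step. -/
def EStep (p : ℕ) (P H : Subgroup G) (x : G) : Prop :=
  ∃ X : Subgroup G, Ess p P H X ∧ x ∈ (Cfsg.pResidual p ↥X).map X.subtype

theorem EStep.mem_normalizer {p : ℕ} {P H : Subgroup G} {x : G} (h : EStep p P H x) :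
    x ∈ Subgroup.normalizer (H : Set G) := by
  obtain ⟨X, hE, hx⟩ := h
  exact hE.2.2.2.2.2.2.1 (Subgroup.map_subtype_le _ hx)

/-- `g = c * g' * y` with `c` centralizing `A`, `g'` an essential chain from `A`, `y ∈ N_G(P)`. -/
def ERel (p : ℕ) (P : Subgroup G) (A : Set G) (g : G) : Prop :=
  ∃ c g' y : G, c ∈ Subgroup.centralizer A ∧ RChain (EStep p P) A g' ∧
    y ∈ Subgroup.normalizer (P : Set G) ∧ g = c * g' * y

variable {p : ℕ}

theorem ERel.mono {P : Subgroup G} {A B : Set G} {g : G} (h : ERel p P B g) (hAB : A ⊆ B) :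
    ERel p P A g := by
  obtain ⟨c, g', y, hc, hch, hy, hg⟩ := h
  exact ⟨c, g', y, Subgroup.centralizer_le hAB hc, hch.mono hAB, hy, hg⟩

theorem ERel.of_normalizer {P : Subgroup G} {A : Set G} {y : G}
    (hy : y ∈ Subgroup.normalizer (P : Set G)) : ERel p P A y :=
  ⟨1, 1, y, Subgroup.one_mem _, RChain.nil A, hy, by simp⟩

theorem ERel.of_centralizer_mul {P : Subgroup G} {A : Set G} {c h : G}
    (hc : c ∈ Subgroup.centralizer A) (h2 : ERel p P A h) : ERel p P A (c * h) := by
  obtain ⟨c', h', y', hc', hch', hy', rfl⟩ := h2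
  exact ⟨c * c', h', y', Subgroup.mul_mem _ hc hc', hch', hy', by group⟩

theorem ERel.comp₀ {P : Subgroup G} {A : Set G} {c g₁ h : G}
    (hc : c ∈ Subgroup.centralizer A) (hch : RChain (EStep p P) A g₁)
    (h2 : ERel p P (conjR (c * g₁) A) h) : ERel p P A (c * g₁ * h) := by
  have hconj : conjR (c * g₁) A = conjR g₁ A := by
    rw [conjR_mul, conjR_of_mem_centralizer hc]
  rw [hconj] at h2
  obtain ⟨c', h', y', hc', hch', hy', rfl⟩ := h2
  refine ⟨c * (g₁ * c' * g₁⁻¹), g₁ * h', y', Subgroup.mul_mem _ hc ?_, hch.append hch', hy',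
    by group⟩
  rw [Subgroup.mem_centralizer_iff]
  intro a ha
  have h3 := Subgroup.mem_centralizer_iff.mp hc' (g₁⁻¹ * a * g₁) ⟨a, ha, rfl⟩
  have e1 : a * (g₁ * c' * g₁⁻¹) = g₁ * ((g₁⁻¹ * a * g₁) * c') * g₁⁻¹ := by group
  have e2 : g₁ * c' * g₁⁻¹ * a = g₁ * (c' * (g₁⁻¹ * a * g₁)) * g₁⁻¹ := by group
  rw [e1, e2, h3]

theorem ERel.step_mul {P H : Subgroup G} {A : Set G} {x h : G} (hs : EStep p P H x)
    (hA : A ⊆ H) (h2 : ERel p P (conjR x A) h) : ERel p P A (x * h) := by
  have h3 : ERel p P (conjR (1 * x) A) h := by rwa [one_mul]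
  have := ERel.comp₀ (Subgroup.one_mem _) (RChain.single hs hA) h3
  rwa [one_mul] at this

theorem conjR_eq_of_mem_normalizer {T : Subgroup G} {n : G}
    (hn : n ∈ Subgroup.normalizer (T : Set G)) : conjR n (T : Set G) = T := by
  rw [← coe_cj, cj_eq_self_of_mem_normalizer hn]

/-- The list argument for the connected case. -/
theorem list_rel [Finite G] {P : Subgroup G} {m : ℕ}
    (hIH : ∀ D : Subgroup G, D ≤ P → m < Nat.card D → ∀ h : G,
      conjR h (D : Set G) ⊆ (P : Set G) → ERel p P (D : Set G) h) :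
    ∀ (l : List G) (T'' : Subgroup G), T'' ≤ P → m ≤ Nat.card T'' →
      (∀ n ∈ l, n ∈ Subgroup.normalizer (T'' : Set G) ∧
        ∃ D : Subgroup G, T'' < D ∧ D ≤ P ∧ conjR n (D : Set G) ⊆ (P : Set G)) →
      ∀ y ∈ Subgroup.normalizer (P : Set G), ERel p P (T'' : Set G) (l.prod * y) := by
  intro l
  induction hk : l.length generalizing l with
  | zero =>
    intro T'' _ _ _ y hy
    rw [List.length_eq_zero_iff.mp hk, List.prod_nil, one_mul]
    exact ERel.of_normalizer hy
  | succ k ih =>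
    intro T'' hT''P hm hl y hy
    obtain ⟨n, l, rfl⟩ := List.exists_cons_of_length_eq_add_one hk
    have hk' : l.length = k := by simpa using hk
    obtain ⟨hnN, D, hlt, hDP, hnD⟩ := hl n (List.mem_cons_self)
    have hcard : Nat.card T'' < Nat.card D :=
      Set.ncard_lt_ncard (s := (T'' : Set G)) (t := (D : Set G))
        (SetLike.coe_ssubset_coe.mpr hlt) (Set.toFinite _)
    obtain ⟨c₁, g₁, y₁, hc₁, hch₁, hy₁, hn⟩ :=
      (hIH D hDP (lt_of_le_of_lt hm hcard) n hnD).mono (SetLike.coe_subset_coe.mpr hlt.le)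
    have hy₁inv : y₁⁻¹ ∈ Subgroup.normalizer (P : Set G) := Subgroup.inv_mem _ hy₁
    have hPcj : cj y₁⁻¹ P = P := cj_eq_self_of_mem_normalizer hy₁inv
    -- the conjugated list
    have hl' : ∀ n' ∈ l.map (fun z => y₁ * z * y₁⁻¹),
        n' ∈ Subgroup.normalizer ((cj y₁⁻¹ T'' : Subgroup G) : Set G) ∧
        ∃ D' : Subgroup G, cj y₁⁻¹ T'' < D' ∧ D' ≤ P ∧ conjR n' (D' : Set G) ⊆ (P : Set G) := by
      intro n' hn'
      obtain ⟨z, hz, rfl⟩ := List.mem_map.mp hn'
      obtain ⟨hzN, D₂, hlt₂, hD₂P, hzD₂⟩ := hl z (List.mem_cons_of_mem _ hz)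
      refine ⟨?_, cj y₁⁻¹ D₂, ?_, ?_, ?_⟩
      · rw [normalizer_cj, mem_cj]
        have e : y₁⁻¹ * (y₁ * z * y₁⁻¹) * y₁⁻¹⁻¹ = z := by group
        rw [e]; exact hzN
      · exact (Subgroup.map_lt_map_iff_of_injective (MulAut.conj y₁⁻¹⁻¹).injective).mpr hlt₂
      · rw [← hPcj]; exact cj_mono hD₂P
      · rw [coe_cj, ← conjR_mul]
        have e : y₁⁻¹ * (y₁ * z * y₁⁻¹) = z * y₁⁻¹ := by group
        rw [e, conjR_mul]
        have h1 : conjR y₁⁻¹ (conjR z (D₂ : Set G)) ⊆ conjR y₁⁻¹ (P : Set G) := conjR_mono hzD₂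
        rw [← coe_cj y₁⁻¹ P, hPcj] at h1
        exact h1
    have hT''' : cj y₁⁻¹ T'' ≤ P := by rw [← hPcj]; exact cj_mono hT''P
    have hm' : m ≤ Nat.card (cj y₁⁻¹ T'' : Subgroup G) := by rw [card_cj]; exact hm
    have h1 := ih (l.map (fun z => y₁ * z * y₁⁻¹)) (by rw [List.length_map]; exact hk')
      (cj y₁⁻¹ T'') hT''' hm' hl' (y₁ * y) (Subgroup.mul_mem _ hy₁ hy)
    have hprod : (l.map (fun z => y₁ * z * y₁⁻¹)).prod = y₁ * l.prod * y₁⁻¹ := by
      have := map_list_prod (MulAut.conj y₁) l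
      rw [MulAut.conj_apply] at this
      rw [this]
      rfl
    rw [hprod] at h1
    have e1 : y₁ * l.prod * y₁⁻¹ * (y₁ * y) = y₁ * (l.prod * y) := by group
    rw [e1] at h1
    have hset : conjR (c₁ * g₁) (T'' : Set G) = ((cj y₁⁻¹ T'' : Subgroup G) : Set G) := by
      have e2 : c₁ * g₁ = n * y₁⁻¹ := by rw [hn]; group
      rw [e2, conjR_mul, conjR_eq_of_mem_normalizer hnN, coe_cj]
    have h2 : ERel p P (conjR (c₁ * g₁) (T'' : Set G)) (y₁ * (l.prod * y)) := by rw [hset]; exact h1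
    have h3 := ERel.comp₀ hc₁ hch₁ h2
    have e3 : c₁ * g₁ * (y₁ * (l.prod * y)) = (n :: l).prod * y := by
      rw [List.prod_cons, hn]; group
    rwa [e3] at h3

variable [Finite G] [Fact p.Prime]

/-- The Sylow subgroup `N_P(T)` of `N_G(T)` as a `Sylow` object. -/
theorem exists_sylow_normalizer (P T : Subgroup G)
    (hS : Nat.card (P ⊓ Subgroup.normalizer (T : Set G) : Subgroup G) =
      p ^ (Nat.card (Subgroup.normalizer (T : Set G))).factorization p) :
    ∃ SX : Sylow p ↥(Subgroup.normalizer (T : Set G)),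
      (SX : Subgroup ↥(Subgroup.normalizer (T : Set G))) =
        P.subgroupOf (Subgroup.normalizer (T : Set G)) := by
  have hcard : Nat.card (P.subgroupOf (Subgroup.normalizer (T : Set G))) =
      p ^ (Nat.card (Subgroup.normalizer (T : Set G))).factorization p := by
    rw [← hS, ← Subgroup.inf_subgroupOf_right]
    exact Nat.card_congr (Subgroup.subgroupOfEquivOfLe inf_le_right).toEquiv
  exact ⟨Sylow.ofCard _ hcard, Sylow.coe_ofCard _ _⟩

/-- The essential case. -/
theorem ess_case (P : Subgroup G) (T' : Subgroup G) (hT'P : T' ≤ P)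
    (hS : Nat.card (P ⊓ Subgroup.normalizer (T' : Set G) : Subgroup G) =
      p ^ (Nat.card (Subgroup.normalizer (T' : Set G))).factorization p)
    (h3 : P ⊓ Subgroup.centralizer (T' : Set G) ≤ T')
    (h4 : (Cfsg.pPrimePCore p ↥(Subgroup.normalizer (T' : Set G))).map
      (Subgroup.normalizer (T' : Set G)).subtype = T' ⊔ Subgroup.centralizer (T' : Set G))
    (hncc : ¬ Cfsg.IsSylowChainConnected p
      (↥(Subgroup.normalizer (T' : Set G)) ⧸ T'.subgroupOf (Subgroup.normalizer (T' : Set G))))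
    (x : G) (hx : x ∈ Subgroup.normalizer (T' : Set G)) :
    ∃ (X R : Subgroup G) (a y : G), Ess p P T' X ∧ a ∈ (Cfsg.pResidual p ↥X).map X.subtype ∧
      T' < R ∧ R ≤ P ∧ y ∈ Subgroup.normalizer (R : Set G) ∧ x = a * y := by
  have hTN : T' ≤ Subgroup.normalizer (T' : Set G) := Subgroup.le_normalizer
  obtain ⟨SX, hSX⟩ := exists_sylow_normalizer P T' hS
  have hTS : T'.subgroupOf (Subgroup.normalizer (T' : Set G)) ≤
      (SX : Subgroup ↥(Subgroup.normalizer (T' : Set G))) := by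
    rw [hSX]
    intro t ht
    rw [Subgroup.mem_subgroupOf] at ht ⊢
    exact hT'P ht
  obtain ⟨XX, hXXn, hTXX, hpXX, hminXX, hltXX, hfac⟩ :=
    X_ess SX (T'.subgroupOf (Subgroup.normalizer (T' : Set G))) hTS hncc
  obtain ⟨a, ha, y, hy, hxy⟩ := hfac ⟨x, hx⟩
  have hinj := Subgroup.subtype_injective (Subgroup.normalizer (T' : Set G))
  have hTmap : (T'.subgroupOf (Subgroup.normalizer (T' : Set G))).map
      (Subgroup.normalizer (T' : Set G)).subtype = T' := Subgroup.map_subgroupOf_eq_of_le hTN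
  have hXsub : (XX.map (Subgroup.normalizer (T' : Set G)).subtype).subgroupOf
      (Subgroup.normalizer (T' : Set G)) = XX := Subgroup.comap_map_eq_self_of_injective hinj XX
  refine ⟨XX.map (Subgroup.normalizer (T' : Set G)).subtype,
    ((SX : Subgroup ↥(Subgroup.normalizer (T' : Set G))) ⊓ XX).map
      (Subgroup.normalizer (T' : Set G)).subtype, (a : G), (y : G),
    ⟨hT'P, not_dvd_relIndex_of_card_eq_ppart inf_le_right hS, h3, h4, hncc, ?_, ?_, ?_, ?_, ?_⟩,
    ?_, ?_, ?_, coe_mem_normalizer_map _ _ y hy, congrArg Subtype.val hxy⟩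
  · have h0 := Subgroup.map_mono (f := (Subgroup.normalizer (T' : Set G)).subtype) hTXX
    rwa [hTmap] at h0
  · exact Subgroup.map_subtype_le _
  · rw [hXsub]; exact hXXn
  · have h0 := hpXX
    rw [← Subgroup.relIndex_map_map_of_injective _ _ hinj, hTmap] at h0
    exact h0
  · intro Y hTY hYN hYn hYp
    have h1 : XX ≤ Y.subgroupOf (Subgroup.normalizer (T' : Set G)) := by
      apply hminXX _ hYn
      · intro t ht
        rw [Subgroup.mem_subgroupOf] at ht ⊢
        exact hTY ht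
      · rw [Subgroup.relIndex_subgroupOf hYN]; exact hYp
    rintro _ ⟨z, hz, rfl⟩
    exact Subgroup.mem_subgroupOf.mp (h1 hz)
  · rw [pResidual_map_subtype, ← pRes_map p _ hinj]
    exact Subgroup.mem_map_of_mem _ ha
  · have h0 := (Subgroup.map_lt_map_iff_of_injective hinj).mpr hltXX
    rwa [hTmap] at h0
  · rintro _ ⟨t, ht, rfl⟩
    have := (Subgroup.mem_inf.mp ht).1
    rw [hSX] at this
    exact Subgroup.mem_subgroupOf.mp this

/-- The connected case. -/
theorem conn_case (P : Subgroup G) (hP : IsPGroup p P) (T' : Subgroup G) (hT'P : T' ≤ P)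
    (hTP : T' ≠ P)
    (hS : Nat.card (P ⊓ Subgroup.normalizer (T' : Set G) : Subgroup G) =
      p ^ (Nat.card (Subgroup.normalizer (T' : Set G))).factorization p)
    (hcc : Cfsg.IsSylowChainConnected p
      (↥(Subgroup.normalizer (T' : Set G)) ⧸ T'.subgroupOf (Subgroup.normalizer (T' : Set G))))
    (x : G) (hx : x ∈ Subgroup.normalizer (T' : Set G)) :
    ∃ l : List G, l.prod = x ∧ ∀ n ∈ l, n ∈ Subgroup.normalizer (T' : Set G) ∧
      ∃ D : Subgroup G, T' < D ∧ D ≤ P ∧ conjR n (D : Set G) ⊆ (P : Set G) := by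
  have hTN : T' ≤ Subgroup.normalizer (T' : Set G) := Subgroup.le_normalizer
  obtain ⟨SX, hSX⟩ := exists_sylow_normalizer P T' hS
  have hTS : T'.subgroupOf (Subgroup.normalizer (T' : Set G)) ≤
      (SX : Subgroup ↥(Subgroup.normalizer (T' : Set G))) := by
    rw [hSX]
    intro t ht
    rw [Subgroup.mem_subgroupOf] at ht ⊢
    exact hT'P ht
  have hTne : T'.subgroupOf (Subgroup.normalizer (T' : Set G)) ≠
      (SX : Subgroup ↥(Subgroup.normalizer (T' : Set G))) := by
    intro he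
    rw [hSX] at he
    have h1 := congrArg (Subgroup.map (Subgroup.normalizer (T' : Set G)).subtype) he
    rw [Subgroup.map_subgroupOf_eq_of_le hTN, Subgroup.subgroupOf_map_subtype] at h1
    have h2 := card_lt_inf_normalizer hP hT'P hTP
    rw [← h1] at h2
    exact lt_irrefl _ h2
  -- the generating set
  let Gen : Set ↥(Subgroup.normalizer (T' : Set G)) :=
    {m | ∃ d, d ∈ (SX : Subgroup ↥(Subgroup.normalizer (T' : Set G))) ∧
      d ∉ T'.subgroupOf (Subgroup.normalizer (T' : Set G)) ∧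
      m⁻¹ * d * m ∈ (SX : Subgroup ↥(Subgroup.normalizer (T' : Set G)))}
  have hGinv : ∀ m ∈ Gen, m⁻¹ ∈ Gen := by
    rintro m ⟨d, hd1, hd2, hd3⟩
    refine ⟨m⁻¹ * d * m, hd3, ?_, ?_⟩
    · intro hmem
      apply hd2
      have := (Subgroup.normal_in_normalizer (H := T')).conj_mem _ hmem m
      have e : m * (m⁻¹ * d * m) * m⁻¹ = d := by group
      rwa [e] at this
    · have e : m⁻¹⁻¹ * (m⁻¹ * d * m) * m⁻¹ = d := by group
      rw [e]; exact hd1
  have hK := X_conn SX (T'.subgroupOf (Subgroup.normalizer (T' : Set G))) hTS hTne hcc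
    (Subgroup.closure Gen) (fun m d h1 h2 h3 => Subgroup.subset_closure ⟨d, h1, h2, h3⟩)
  have hxmem : (⟨x, hx⟩ : ↥(Subgroup.normalizer (T' : Set G))) ∈
      (Subgroup.closure Gen).toSubmonoid := by
    show (⟨x, hx⟩ : ↥(Subgroup.normalizer (T' : Set G))) ∈ Subgroup.closure Gen
    rw [hK]; exact Subgroup.mem_top _
  rw [Subgroup.closure_toSubmonoid] at hxmem
  obtain ⟨l, hl, hprod⟩ := Submonoid.exists_list_of_mem_closure hxmem
  refine ⟨l.map (Subgroup.normalizer (T' : Set G)).subtype, ?_, ?_⟩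
  · rw [← map_list_prod, hprod]; rfl
  · intro n hn
    obtain ⟨m, hm, rfl⟩ := List.mem_map.mp hn
    rw [Subgroup.coe_subtype]
    have hmG : m ∈ Gen := by
      rcases hl m hm with h | h
      · exact h
      · have := hGinv _ (Set.mem_inv.mp h)
        rwa [inv_inv] at this
    obtain ⟨d, hd1, hd2, hd3⟩ := hmG
    rw [hSX, Subgroup.mem_subgroupOf] at hd1 hd3
    rw [Subgroup.mem_subgroupOf] at hd2
    refine ⟨m.2, T' ⊔ Subgroup.zpowers (d : G), ?_, ?_, ?_⟩
    · refine lt_of_le_of_ne le_sup_left ?_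
      intro he
      apply hd2
      exact he.ge ((le_sup_right : Subgroup.zpowers (d : G) ≤ T' ⊔ Subgroup.zpowers (d : G))
        (Subgroup.mem_zpowers _))
    · exact sup_le hT'P ((Subgroup.zpowers_le).mpr hd1)
    · have hle : T' ⊔ Subgroup.zpowers (d : G) ≤ cj (m : G)⁻¹ P := by
        apply sup_le
        · intro t ht
          rw [mem_cj]
          apply hT'P
          have := (Subgroup.mem_normalizer_iff.mp (Subgroup.inv_mem _ m.2) t).mp ht
          exact this
        · rw [Subgroup.zpowers_le, mem_cj]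
          simpa using hd3
      intro z hz
      rw [mem_conjR] at hz
      have := hle hz
      rw [mem_cj] at this
      have e : (m : G)⁻¹ * ((m : G) * z * (m : G)⁻¹) * (m : G)⁻¹⁻¹ = z := by group
      rwa [e] at this

end Cfsg.Agent.Helper1.AG
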