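import Mathlib
import Cfsg.Agent.Helper1.AGe

set_option autoImplicit false

/-!
Strong form of the Alperin–Goldschmidt theorem, part 3: the step for a fully normalized subgroup,
the induction, and the final statement (`S3072`).
-/

namespace Cfsg.Agent.Helper1.AG

open Cfsg Cfsg.Agent.Lead Cfsg.Agent.Lead.Alp

variable {G : Type*} [Group G] [Finite G] {p : ℕ} [Fact p.Prime]

/-- The dichotomy of `step_dichotomy`, also recording `C_P(T) ≤ T` in the second case. -/
theorem step_dichotomy2 (P : Subgroup G) (hP : IsPGroup p P) (T : Subgroup G) (hTP : T ≤ P)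
    (hS : Nat.card (P ⊓ Subgroup.normalizer (T : Set G) : Subgroup G) =
      p ^ (Nat.card (Subgroup.normalizer (T : Set G))).factorization p)
    (x : G) (hx : x ∈ Subgroup.normalizer (T : Set G)) :
    (∃ T₁ : Subgroup G, T < T₁ ∧ T₁ ≤ P ∧ ∃ c ∈ Subgroup.centralizer (T : Set G),
      ∃ y ∈ Subgroup.normalizer (T₁ : Set G), x = c * y) ∨
    (Good p P T ∧ P ⊓ Subgroup.centralizer (T : Set G) ≤ T) := by
  have hTN : T ≤ Subgroup.normalizer (T : Set G) := Subgroup.le_normalizer
  obtain ⟨SX, hSX⟩ := exists_sylow_normalizer P T hS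
  haveI hTXn : (T.subgroupOf (Subgroup.normalizer (T : Set G))).Normal :=
    Subgroup.normal_in_normalizer
  have hTX : IsPGroup p (T.subgroupOf (Subgroup.normalizer (T : Set G))) :=
    (hP.to_le hTP).comap_subtype
  have hTS : T.subgroupOf (Subgroup.normalizer (T : Set G)) ≤
      (SX : Subgroup ↥(Subgroup.normalizer (T : Set G))) := by
    rw [hSX]
    intro t ht
    rw [Subgroup.mem_subgroupOf] at ht ⊢
    exact hTP ht
  rcases X_main SX (T.subgroupOf (Subgroup.normalizer (T : Set G))) hTX hTS ⟨x, hx⟩ with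
    ⟨T₁, hlt, hT₁S, c, hc, y, hy, hxy⟩ | ⟨h1, h2⟩
  · left
    refine ⟨T₁.map (Subgroup.normalizer (T : Set G)).subtype, ?_, ?_, (c : G),
      (mem_centralizer_subgroupOf T _ hTN c).mp hc, (y : G),
      coe_mem_normalizer_map _ T₁ y hy, congrArg Subtype.val hxy⟩
    · have h0 := (Subgroup.map_lt_map_iff_of_injective
        (Subgroup.subtype_injective (Subgroup.normalizer (T : Set G)))).mpr hlt
      rwa [Subgroup.map_subgroupOf_eq_of_le hTN] at h0
    · rw [hSX] at hT₁S
      rintro _ ⟨t, ht, rfl⟩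
      exact Subgroup.mem_subgroupOf.mp (hT₁S ht)
  · right
    obtain ⟨h3, h4⟩ := X_good SX (T.subgroupOf (Subgroup.normalizer (T : Set G))) hTX h1 h2
    refine ⟨⟨hTP, ?_, ?_, not_dvd_relIndex_of_card_eq_ppart inf_le_right hS⟩, ?_⟩
    · intro c hc
      have hcN : c ∈ Subgroup.normalizer (T : Set G) := Subgroup.centralizer_le_normalizer _ hc
      exact ⟨⟨c, hcN⟩, h3 ((mem_centralizer_subgroupOf T _ hTN ⟨c, hcN⟩).mpr hc), rfl⟩
    · have := isInternalDirectProduct_map (Subgroup.normalizer (T : Set G)).subtype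
        (Subgroup.subtype_injective _) h4
      rwa [Subgroup.map_subgroupOf_eq_of_le hTN] at this
    · intro z hz
      obtain ⟨hzP, hzC⟩ := Subgroup.mem_inf.mp hz
      have hzN : z ∈ Subgroup.normalizer (T : Set G) := Subgroup.centralizer_le_normalizer _ hzC
      have h5 : (⟨z, hzN⟩ : ↥(Subgroup.normalizer (T : Set G))) ∈
          T.subgroupOf (Subgroup.normalizer (T : Set G)) := by
        apply h1
        refine Subgroup.mem_inf.mpr ⟨?_, (mem_centralizer_subgroupOf T _ hTN ⟨z, hzN⟩).mpr hzC⟩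
        rw [hSX, Subgroup.mem_subgroupOf]
        exact hzP
      exact Subgroup.mem_subgroupOf.mp h5

/-- The step for a fully normalized subgroup `T'`, given the theorem for all larger subgroups. -/
theorem tame_step2 (P : Sylow p G) (T' : Subgroup G) (hT'P : T' ≤ (P : Subgroup G))
    (hS : Nat.card ((P : Subgroup G) ⊓ Subgroup.normalizer (T' : Set G) : Subgroup G) =
      p ^ (Nat.card (Subgroup.normalizer (T' : Set G))).factorization p)
    (IH : ∀ D : Subgroup G, D ≤ (P : Subgroup G) → Nat.card T' < Nat.card D → ∀ h : G,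
      conjR h (D : Set G) ⊆ ((P : Subgroup G) : Set G) → ERel p (P : Subgroup G) (D : Set G) h)
    (x : G) (hx : x ∈ Subgroup.normalizer (T' : Set G)) :
    ERel p (P : Subgroup G) (T' : Set G) x := by
  by_cases hTP : T' = (P : Subgroup G)
  · rw [hTP] at hx
    exact ERel.of_normalizer hx
  have hlt_card : ∀ {D : Subgroup G}, T' < D → Nat.card T' < Nat.card D := fun {D} hlt =>
    Set.ncard_lt_ncard (s := (T' : Set G)) (t := (D : Set G))
      (SetLike.coe_ssubset_coe.mpr hlt) (Set.toFinite _)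
  rcases step_dichotomy2 (P : Subgroup G) P.2 T' hT'P hS x hx with
    ⟨T₁, hlt, hT₁P, c, hcc, y, hy, rfl⟩ | ⟨hgood, h3⟩
  · have h1 : ERel p (P : Subgroup G) (T₁ : Set G) y :=
      IH T₁ hT₁P (hlt_card hlt) y ((conjR_subset_of_mem_normalizer hy (le_refl _)).trans hT₁P)
    exact ERel.of_centralizer_mul hcc (h1.mono hlt.le)
  · obtain ⟨-, hcen, ⟨hK1, hK2, hK3, hK4, hK5⟩, hnd⟩ := hgood
    have h4 : (Cfsg.pPrimePCore p ↥(Subgroup.normalizer (T' : Set G))).map
        (Subgroup.normalizer (T' : Set G)).subtype = T' ⊔ Subgroup.centralizer (T' : Set G) := by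
      apply le_antisymm
      · rw [← hK5]
        apply sup_le _ le_sup_left
        refine le_trans ?_ le_sup_right
        intro a ha
        rw [Subgroup.mem_centralizer_iff]
        intro b hb
        exact (hK3 a ha b hb).symm
      · exact sup_le hK2 hcen
    by_cases hcc : Cfsg.IsSylowChainConnected p
        (↥(Subgroup.normalizer (T' : Set G)) ⧸ T'.subgroupOf (Subgroup.normalizer (T' : Set G)))
    · obtain ⟨l, hprod, hl⟩ := conn_case (P : Subgroup G) P.2 T' hT'P hTP hS hcc x hx
      have h5 := list_rel (p := p) (P := (P : Subgroup G)) (m := Nat.card T')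
        (fun D hD hm h hh => IH D hD hm h hh) l T' hT'P le_rfl hl 1 (Subgroup.one_mem _)
      rwa [mul_one, hprod] at h5
    · obtain ⟨X, R, a, y, hE, ha, hlt, hRP, hy, rfl⟩ :=
        ess_case (P : Subgroup G) T' hT'P hS h3 h4 hcc x hx
      have hs : EStep p (P : Subgroup G) T' a := ⟨X, hE, ha⟩
      have h1 : ERel p (P : Subgroup G) (R : Set G) y :=
        IH R hRP (hlt_card hlt) y ((conjR_subset_of_mem_normalizer hy (le_refl _)).trans hRP)
      apply ERel.step_mul hs (le_refl _)
      rw [conjR_eq_of_mem_normalizer hs.mem_normalizer]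
      exact h1.mono hlt.le

omit [Fact p.Prime] in
/-- Running along an Alperin chain, carrying a factor from `N_G(P)` along. -/
theorem chain_rel2 {P : Subgroup G} {m : ℕ}
    (hstep : ∀ (T'' : Subgroup G), T'' ≤ P →
      Nat.card (P ⊓ Subgroup.normalizer (T'' : Set G) : Subgroup G) =
        p ^ (Nat.card (Subgroup.normalizer (T'' : Set G))).factorization p →
      m ≤ Nat.card T'' → ∀ x ∈ Subgroup.normalizer (T'' : Set G), ERel p P (T'' : Set G) x)
    {B : Set G} {g : G} (h : RChain (StepRel p P) B g) :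
    (∃ T₀ : Subgroup G, (T₀ : Set G) = B ∧ Nat.card T₀ = m) →
      ∀ y ∈ Subgroup.normalizer (P : Set G), ERel p P (conjR y⁻¹ B) (y * g) := by
  induction h with
  | nil B =>
    intro _ y hy
    rw [mul_one]
    exact ERel.of_normalizer hy
  | cons B T' x g hR hBT' _ ih =>
    rintro ⟨T₀, hT₀, hm⟩ y hy
    have hyinv : y⁻¹ ∈ Subgroup.normalizer (P : Set G) := Subgroup.inv_mem _ hy
    have hPcj : cj y⁻¹ P = P := cj_eq_self_of_mem_normalizer hyinv
    have hT'P : T' ≤ P := hR.le
    have hxN : x ∈ Subgroup.normalizer (T' : Set G) := hR.mem_normalizer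
    obtain ⟨Q, -, -, -, hS, -, -, -⟩ := hR
    have hT''P : cj y⁻¹ T' ≤ P := by rw [← hPcj]; exact cj_mono hT'P
    have hS'' : Nat.card (P ⊓ Subgroup.normalizer ((cj y⁻¹ T' : Subgroup G) : Set G) : Subgroup G) =
        p ^ (Nat.card (Subgroup.normalizer ((cj y⁻¹ T' : Subgroup G) : Set G))).factorization p := by
      rw [normalizer_cj, card_cj]
      conv_lhs => rw [← hPcj]
      rw [← cj_inf, card_cj]
      exact hS
    have hle : T₀ ≤ T' := by
      intro t ht
      exact hBT' (hT₀ ▸ ht)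
    have hm'' : m ≤ Nat.card (cj y⁻¹ T' : Subgroup G) := by
      rw [card_cj, ← hm]; exact Subgroup.card_le_of_le hle
    have hx'' : y * x * y⁻¹ ∈ Subgroup.normalizer ((cj y⁻¹ T' : Subgroup G) : Set G) := by
      rw [normalizer_cj, mem_cj]
      have e : y⁻¹ * (y * x * y⁻¹) * y⁻¹⁻¹ = x := by group
      rw [e]; exact hxN
    obtain ⟨c₁, g₁, y₁, hc₁, hch₁, hy₁, hx1⟩ := hstep (cj y⁻¹ T') hT''P hS'' hm'' _ hx''
    have hB' : conjR y⁻¹ B ⊆ ((cj y⁻¹ T' : Subgroup G) : Set G) := by
      rw [coe_cj]; exact conjR_mono hBT'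
    have h2 := ih ⟨cj x T₀, by rw [coe_cj, hT₀], by rw [card_cj, hm]⟩ (y₁ * y)
      (Subgroup.mul_mem _ hy₁ hy)
    have e1 : c₁ * g₁ = y * x * y⁻¹ * y₁⁻¹ := by rw [hx1]; group
    have hset : conjR (c₁ * g₁) (conjR y⁻¹ B) = conjR (y₁ * y)⁻¹ (conjR x B) := by
      rw [← conjR_mul, ← conjR_mul, e1]
      congr 1
      group
    have h3 : ERel p P (conjR (c₁ * g₁) (conjR y⁻¹ B)) (y₁ * y * g) := by rw [hset]; exact h2
    have h4 := ERel.comp₀ (Subgroup.centralizer_le hB' hc₁) (hch₁.mono hB') h3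
    have e2 : c₁ * g₁ * (y₁ * y * g) = y * (x * g) := by
      rw [e1]; group
    rwa [e2] at h4

/-- The strong Alperin–Goldschmidt theorem for subgroups, by induction on the index in `P`. -/
theorem main_subgroup2 (P : Sylow p G) :
    ∀ (k : ℕ) (T : Subgroup G), T ≤ (P : Subgroup G) →
      Nat.card (P : Subgroup G) - Nat.card T = k →
      ∀ g : G, conjR g (T : Set G) ⊆ ((P : Subgroup G) : Set G) →
        ERel p (P : Subgroup G) (T : Set G) g := by
  intro k
  induction k using Nat.strong_induction_on with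
  | _ k ih =>
    intro T hTP hk g hg
    have IH' : ∀ T₁ : Subgroup G, T₁ ≤ (P : Subgroup G) → Nat.card T < Nat.card T₁ →
        ∀ y : G, conjR y (T₁ : Set G) ⊆ ((P : Subgroup G) : Set G) →
          ERel p (P : Subgroup G) (T₁ : Set G) y := by
      intro T₁ h1 h2 y hy
      have h3 : Nat.card T₁ ≤ Nat.card (P : Subgroup G) := Subgroup.card_le_of_le h1
      exact ih (Nat.card (P : Subgroup G) - Nat.card T₁) (by omega) T₁ h1 rfl y hy
    have hstep : ∀ (T'' : Subgroup G), T'' ≤ (P : Subgroup G) →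
        Nat.card ((P : Subgroup G) ⊓ Subgroup.normalizer (T'' : Set G) : Subgroup G) =
          p ^ (Nat.card (Subgroup.normalizer (T'' : Set G))).factorization p →
        Nat.card T ≤ Nat.card T'' → ∀ x ∈ Subgroup.normalizer (T'' : Set G),
          ERel p (P : Subgroup G) (T'' : Set G) x := by
      intro T'' hT''P hS hc x hx
      exact tame_step2 P T'' hT''P hS
        (fun D hD hm h hh => IH' D hD (lt_of_le_of_lt hc hm) h hh) x hx
    have hchain := alperin_chain P.2 P.card_eq_multiplicity (T : Set G) g hTP hg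
    have h1 := chain_rel2 hstep hchain ⟨T, rfl, rfl⟩ 1 (Subgroup.one_mem _)
    rwa [inv_one, conjR_one, one_mul] at h1

/-- The strong form of the Alperin–Goldschmidt theorem (`S3072`). -/
theorem alperin_goldschmidt_strong (P : Sylow p G) (A : Set G) (hA : A ⊆ (P : Set G))
    (g : G) (hAg : (fun a => g⁻¹ * a * g) '' A ⊆ (P : Set G)) :
    ∃ (n : ℕ) (H X : Fin n → Subgroup G) (x : Fin n → G) (c y : G),
      c ∈ Subgroup.centralizer A ∧ y ∈ Subgroup.normalizer ((P : Subgroup G) : Set G) ∧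
      g = c * (List.ofFn x).prod * y ∧
      ∀ i : Fin n,
        H i ≤ (P : Subgroup G) ∧
        ¬ p ∣ ((P : Subgroup G) ⊓ Subgroup.normalizer (H i : Set G)).relIndex (Subgroup.normalizer (H i : Set G)) ∧
        (P : Subgroup G) ⊓ Subgroup.centralizer (H i : Set G) ≤ H i ∧
        (Cfsg.pPrimePCore p ↥(Subgroup.normalizer (H i : Set G))).map (Subgroup.normalizer (H i : Set G)).subtype =
          H i ⊔ Subgroup.centralizer (H i : Set G) ∧
        ¬ Cfsg.IsSylowChainConnected p
            (↥(Subgroup.normalizer (H i : Set G)) ⧸ (H i).subgroupOf (Subgroup.normalizer (H i : Set G))) ∧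
        (H i ≤ X i ∧ X i ≤ Subgroup.normalizer (H i : Set G) ∧
          ((X i).subgroupOf (Subgroup.normalizer (H i : Set G))).Normal ∧ p ∣ (H i).relIndex (X i) ∧
          ∀ Y : Subgroup G, H i ≤ Y → Y ≤ Subgroup.normalizer (H i : Set G) →
            (Y.subgroupOf (Subgroup.normalizer (H i : Set G))).Normal → p ∣ (H i).relIndex Y → X i ≤ Y) ∧
        x i ∈ (Cfsg.pResidual p ↥(X i)).map (X i).subtype ∧
        (fun a => (((List.ofFn x).take i.val).prod)⁻¹ * a * ((List.ofFn x).take i.val).prod) '' A ⊆ (H i : Set G) := by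
  have hPS : Subgroup.closure A ≤ (P : Subgroup G) := (Subgroup.closure_le _).mpr hA
  have hPg : conjR g ((Subgroup.closure A : Subgroup G) : Set G) ⊆ ((P : Subgroup G) : Set G) := by
    intro y hy
    rw [mem_conjR] at hy
    have hle : Subgroup.closure A ≤ (P : Subgroup G).map (MulAut.conj g).toMonoidHom := by
      rw [Subgroup.closure_le]
      intro a ha
      refine ⟨g⁻¹ * a * g, hAg ⟨a, ha, rfl⟩, ?_⟩
      simp [mul_assoc]
    obtain ⟨s, hs, hsy⟩ := hle hy
    have : y = s := by
      have h1 : g * s * g⁻¹ = g * y * g⁻¹ := hsy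
      exact (mul_left_cancel (mul_right_cancel h1)).symm
    rw [this]; exact hs
  have hrel : ERel p (P : Subgroup G) A g :=
    (main_subgroup2 P _ (Subgroup.closure A) hPS rfl g hPg).mono (Subgroup.subset_closure (k := A))
  obtain ⟨c, g', y, hc, hch, hy, hg⟩ := hrel
  obtain ⟨n, H, x, hprod, hR, h0, hstep⟩ := hch.exists_fin
  refine ⟨n, H, fun i => Classical.choose (hR i), x, c, y, hc, hy, by rw [hprod]; exact hg, ?_⟩
  intro i
  obtain ⟨hE, hx⟩ := Classical.choose_spec (hR i)
  obtain ⟨h1, h2, h3, h4, h5, h6⟩ := hE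
  refine ⟨h1, h2, h3, h4, h5, h6, hx, ?_⟩
  obtain ⟨k, hk⟩ := i
  cases k with
  | zero =>
    have : (fun a => (((List.ofFn x).take 0).prod)⁻¹ * a * ((List.ofFn x).take 0).prod) '' A = A := by
      simp
    show (fun a => (((List.ofFn x).take 0).prod)⁻¹ * a * ((List.ofFn x).take 0).prod) '' A ⊆ _
    rw [this]
    exact h0 hk
  | succ j => exact hstep ⟨j, by omega⟩ hk

end Cfsg.Agent.Helper1.AG
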