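import Mathlib
import Cfsg.Prelude.Def_PLocal
import Cfsg.Agent.Helper1.PQLemma
import Cfsg.Agent.Helper1.Fitting
import Cfsg.Agent.Helper2.GenHyper

set_option autoImplicit false

/-!
Failure of factorization in groups with self-centralizing `p'`-core (Kurzweil–Stellmacher 9.3):
best offenders have `|A| |C_V(A)| = |V|`, and the minimal ones have order `p`.
-/

namespace Cfsg.Agent.Helper1.FFact

open scoped Pointwise commutatorElement

open Cfsg.Agent.Helper1

universe u

variable {G : Type u} [Group G]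

/-- The `p'`-core of the subgroup `H`, as a subgroup of `G`. -/
noncomputable def ppc (p : ℕ) (H : Subgroup G) : Subgroup G :=
  (Cfsg.pPrimeCore p ↥H).map H.subtype

theorem ppc_le (p : ℕ) (H : Subgroup G) : ppc p H ≤ H := Subgroup.map_subtype_le _

theorem le_normalizer_ppc (p : ℕ) (H : Subgroup G) :
    H ≤ Subgroup.normalizer (ppc p H : Set G) := by
  intro h hh
  rw [Subgroup.mem_normalizer_iff]
  intro x
  constructor
  · rintro ⟨y, hy, rfl⟩
    refine ⟨⟨h, hh⟩ * y * ⟨h, hh⟩⁻¹, ?_, rfl⟩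
    exact (pPrimeCore_normal p).conj_mem y hy _
  · rintro ⟨y, hy, hyx⟩
    have h1 : (⟨h, hh⟩ : ↥H)⁻¹ * y * (⟨h, hh⟩ : ↥H)⁻¹⁻¹ ∈ Cfsg.pPrimeCore p ↥H :=
      (pPrimeCore_normal p).conj_mem y hy _
    refine ⟨_, h1, ?_⟩
    simp only [Subgroup.subtype_apply, Subgroup.coe_mul, Subgroup.coe_inv, inv_inv]
    have : (y : G) = h * x * h⁻¹ := hyx
    rw [this]; group

theorem card_ppc_coprime [Finite G] (p : ℕ) (H : Subgroup G) :
    (Nat.card (ppc p H)).Coprime p := by
  unfold ppc
  rw [Subgroup.card_map_of_injective H.subtype_injective]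
  exact card_pPrimeCore_coprime p

theorem inf_centralizer_ppc_le {p : ℕ} {H : Subgroup G}
    (hS1 : Subgroup.centralizer (Cfsg.pPrimeCore p ↥H : Set ↥H) ≤ Cfsg.pPrimeCore p ↥H) :
    H ⊓ Subgroup.centralizer (ppc p H : Set G) ≤ ppc p H := by
  rintro x ⟨hxH, hxc⟩
  refine ⟨⟨x, hxH⟩, hS1 ?_, rfl⟩
  rw [Subgroup.mem_centralizer_iff]
  intro y hy
  apply Subtype.ext
  have := (Subgroup.mem_centralizer_iff.1 hxc) (y : G) ⟨y, hy, rfl⟩
  simpa using this

/-- A faithful best offender is elementary abelian. -/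
theorem isElementaryAbelian_of_best {p : ℕ} {V A : Subgroup G}
    (hA : Cfsg.IsBestOffenderOn p V A) (hf : A ⊓ Subgroup.centralizer (V : Set G) = ⊥) :
    Cfsg.IsElementaryAbelian p A := by
  obtain ⟨-, h2, h3⟩ := hA
  have hcomm : ⁅A, A⁆ = ⊥ := by
    rw [eq_bot_iff, ← hf]
    refine le_inf ?_ h2
    exact Subgroup.commutator_le.2 fun a ha b hb =>
      A.mul_mem (A.mul_mem (A.mul_mem ha hb) (A.inv_mem ha)) (A.inv_mem hb)
  refine ⟨⟨⟨fun a b => ?_⟩⟩, fun a ha => ?_⟩
  · rw [Subgroup.commutator_eq_bot_iff_le_centralizer] at hcomm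
    apply Subtype.ext
    have := (Subgroup.mem_centralizer_iff.1 (hcomm a.2)) b b.2
    simpa using this.symm
  · have : a ^ p ∈ A ⊓ Subgroup.centralizer (V : Set G) := ⟨A.pow_mem ha p, h3 a ha⟩
    rw [hf, Subgroup.mem_bot] at this
    exact this

theorem le_normalizer_inf {A H₁ H₂ : Subgroup G}
    (h₁ : A ≤ Subgroup.normalizer (H₁ : Set G)) (h₂ : A ≤ Subgroup.normalizer (H₂ : Set G)) :
    A ≤ Subgroup.normalizer ((H₁ ⊓ H₂ : Subgroup G) : Set G) := by
  intro a ha
  rw [Subgroup.mem_normalizer_iff]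
  intro x
  rw [Subgroup.mem_inf, Subgroup.mem_inf, ← (Subgroup.mem_normalizer_iff.1 (h₁ ha)) x,
    ← (Subgroup.mem_normalizer_iff.1 (h₂ ha)) x]

theorem le_normalizer_centralizer {A B : Subgroup G}
    (h : A ≤ Subgroup.normalizer (B : Set G)) :
    A ≤ Subgroup.normalizer ((Subgroup.centralizer (B : Set G) : Subgroup G) : Set G) := by
  intro a ha
  have hn := h ha
  rw [Subgroup.mem_normalizer_iff]
  intro x
  rw [Subgroup.mem_centralizer_iff, Subgroup.mem_centralizer_iff]
  constructor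
  · intro hx b hb
    have hb' : a⁻¹ * b * a ∈ B := by
      have := (Subgroup.mem_normalizer_iff.1 (Subgroup.inv_mem _ hn) b).1 hb
      simpa using this
    have h1 := hx _ hb'
    calc b * (a * x * a⁻¹) = a * ((a⁻¹ * b * a) * x) * a⁻¹ := by group
      _ = a * (x * (a⁻¹ * b * a)) * a⁻¹ := by rw [h1]
      _ = a * x * a⁻¹ * b := by group
  · intro hx b hb
    have hb' : a * b * a⁻¹ ∈ B := (Subgroup.mem_normalizer_iff.1 hn b).1 hb
    have h1 := hx _ hb'
    calc b * x = a⁻¹ * ((a * b * a⁻¹) * (a * x * a⁻¹)) * a := by group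
      _ = a⁻¹ * ((a * x * a⁻¹) * (a * b * a⁻¹)) * a := by rw [h1]
      _ = x * b := by group

/-- The key step: a hyperplane `B` of the best offender `A` with `|B| |C_V(B)| = |A| |C_V(A)|`. -/
theorem exists_hyperplane [Finite G] {p : ℕ} [hp : Fact p.Prime] {V Q A : Subgroup G}
    (hV : IsPGroup p V) (hQ : (Nat.card Q).Coprime p) (hA : Cfsg.IsElementaryAbelian p A)
    (hAQ : A ≤ Subgroup.normalizer (Q : Set G)) (hAV : A ≤ Subgroup.normalizer (V : Set G))
    (hQV : Q ≤ Subgroup.normalizer (V : Set G))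
    (hfaith : Q ⊓ Subgroup.centralizer (V : Set G) = ⊥)
    (hAQf : ¬ A ≤ Subgroup.centralizer (Q : Set G))
    (hbest : ∀ B : Subgroup G, B ≤ A →
      Nat.card B * Nat.card ↥(V ⊓ Subgroup.centralizer (B : Set G)) ≤
        Nat.card A * Nat.card ↥(V ⊓ Subgroup.centralizer (A : Set G))) :
    ∃ B : Subgroup G, B ≤ A ∧ B.relIndex A = p ∧
      Nat.card B * Nat.card ↥(V ⊓ Subgroup.centralizer (B : Set G)) =
        Nat.card A * Nat.card ↥(V ⊓ Subgroup.centralizer (A : Set G)) := by
  have hApg : IsPGroup p A := Cfsg.Agent.Helper2.isPGroup_of_elementary hA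
  have hcommA : ∀ x ∈ A, ∀ y ∈ A, x * y = y * x := by
    intro x hx y hy
    have := hA.1.is_comm.comm ⟨x, hx⟩ ⟨y, hy⟩
    exact congrArg Subtype.val this
  have hpQ : ¬ p ∣ Nat.card Q := by
    intro h
    have := Nat.Coprime.eq_one_of_dvd hQ.symm h
    exact hp.out.one_lt.ne' this
  have hgen := Cfsg.Agent.Helper2.le_iSup_hyperplane_centralizers p _ A Q rfl hA hpQ hAQ
  -- a hyperplane `B` with `C_Q(B)` not centralized by `A`
  obtain ⟨B, hBA, hBp, hBn⟩ : ∃ B : Subgroup G, B ≤ A ∧ B.relIndex A ≤ p ∧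
      ¬ Q ⊓ Subgroup.centralizer (B : Set G) ≤ Subgroup.centralizer (A : Set G) := by
    by_contra hcon
    push Not at hcon
    apply hAQf
    rw [Subgroup.le_centralizer_iff]
    refine hgen.trans (iSup_le ?_)
    rintro ⟨B, hBA, hBp⟩
    exact hcon B hBA hBp
  have hBA' : ¬ A ≤ B := by
    intro h
    apply hBn
    have : B = A := le_antisymm hBA h
    rw [this]; exact inf_le_right
  have hrel : B.relIndex A = p := by
    have h1 : B.relIndex A ≠ 1 := by
      rw [Ne, Subgroup.relIndex_eq_one]; exact hBA'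
    have h2 : B.relIndex A ∣ Nat.card A := Subgroup.relIndex_dvd_card B A
    obtain ⟨k, hk⟩ := IsPGroup.iff_card.1 hApg
    rw [hk] at h2
    obtain ⟨j, -, hj⟩ := (Nat.dvd_prime_pow hp.out).1 h2
    rw [hj] at h1 hBp ⊢
    rcases j with _ | _ | j
    · exact absurd rfl h1
    · simp
    · exfalso
      have : p ^ 1 < p ^ (j + 1 + 1) := Nat.pow_lt_pow_right hp.out.one_lt (by omega)
      rw [pow_one] at this
      omega
  refine ⟨B, hBA, hrel, ?_⟩
  set QB := Q ⊓ Subgroup.centralizer (B : Set G) with hQB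
  have hAcB : A ≤ Subgroup.centralizer (B : Set G) := by
    intro a ha
    rw [Subgroup.mem_centralizer_iff]
    intro b hb
    exact hcommA b (hBA hb) a ha
  have hAnQB : A ≤ Subgroup.normalizer (QB : Set G) :=
    le_normalizer_inf hAQ (hAcB.trans Subgroup.le_normalizer)
  set R := ⁅QB, A⁆ with hR
  have hRQB : R ≤ QB := Subgroup.le_normalizer_iff_commutator_le_left.1 hAnQB
  have hRne : R ≠ ⊥ := by
    intro h
    rw [hR, Subgroup.commutator_eq_bot_iff_le_centralizer] at h
    exact hBn h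
  have hRcop : (Nat.card R).Coprime p :=
    Nat.Coprime.coprime_dvd_left (Subgroup.card_dvd_of_le (hRQB.trans inf_le_left)) hQ
  have hBR : B ≤ Subgroup.centralizer (R : Set G) := by
    rw [Subgroup.le_centralizer_iff]
    exact hRQB.trans inf_le_right
  have hBpg : IsPGroup p B := hApg.to_le hBA
  have hnot : ¬ V ⊓ Subgroup.centralizer (B : Set G) ≤ Subgroup.centralizer (R : Set G) := by
    intro hcent
    have h1 := thompson_PxQ p B R hBpg hRcop hBR _ V rfl hV (hBA.trans hAV)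
      ((hRQB.trans inf_le_left).trans hQV) hcent
    rw [Subgroup.commutator_eq_bot_iff_le_centralizer, Subgroup.le_centralizer_iff] at h1
    apply hRne
    rw [eq_bot_iff, ← hfaith]
    exact le_inf (hRQB.trans inf_le_left) h1
  -- hence `C_V(A) < C_V(B)`
  have hle : V ⊓ Subgroup.centralizer (A : Set G) ≤ V ⊓ Subgroup.centralizer (B : Set G) :=
    inf_le_inf_left _ (Subgroup.centralizer_le hBA)
  have hne : ¬ V ⊓ Subgroup.centralizer (B : Set G) ≤ Subgroup.centralizer (A : Set G) := by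
    intro hWA
    apply hnot
    rw [Subgroup.le_centralizer_iff, hR, Subgroup.commutator_le]
    intro x hx a ha
    rw [Subgroup.mem_centralizer_iff]
    intro w hw
    -- `x` normalizes `W`
    have hxN : x ∈ Subgroup.normalizer ((V ⊓ Subgroup.centralizer (B : Set G) : Subgroup G) : Set G) := by
      have h1 : QB ≤ Subgroup.normalizer ((V ⊓ Subgroup.centralizer (B : Set G) :
          Subgroup G) : Set G) :=
        le_normalizer_inf (inf_le_left.trans hQV) (inf_le_right.trans Subgroup.le_normalizer)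
      exact h1 hx
    have hw' : x⁻¹ * w * x ∈ V ⊓ Subgroup.centralizer (B : Set G) := by
      have := (Subgroup.mem_normalizer_iff.1 (Subgroup.inv_mem _ hxN) w).1 hw
      simpa using this
    have h1 : a * w = w * a :=
      (Subgroup.mem_centralizer_iff.1 (hWA hw)) a ha
    have h2 : a * (x⁻¹ * w * x) = (x⁻¹ * w * x) * a :=
      (Subgroup.mem_centralizer_iff.1 (hWA hw')) a ha
    have h1' : a⁻¹ * w = w * a⁻¹ := by
      calc a⁻¹ * w = a⁻¹ * (w * a) * a⁻¹ := by group
        _ = a⁻¹ * (a * w) * a⁻¹ := by rw [h1]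
        _ = w * a⁻¹ := by group
    show w * ⁅x, a⁆ = ⁅x, a⁆ * w
    rw [commutatorElement_def]
    calc w * (x * a * x⁻¹ * a⁻¹) = x * ((x⁻¹ * w * x) * a) * x⁻¹ * a⁻¹ := by group
      _ = x * (a * (x⁻¹ * w * x)) * x⁻¹ * a⁻¹ := by rw [h2]
      _ = x * a * x⁻¹ * (w * a⁻¹) := by group
      _ = x * a * x⁻¹ * (a⁻¹ * w) := by rw [h1']
      _ = x * a * x⁻¹ * a⁻¹ * w := by group
  -- counting
  have hlt : V ⊓ Subgroup.centralizer (A : Set G) < V ⊓ Subgroup.centralizer (B : Set G) := by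
    refine lt_of_le_of_ne hle (fun h => hne ?_)
    rw [← h]; exact inf_le_right
  have hcard : p * Nat.card ↥(V ⊓ Subgroup.centralizer (A : Set G)) ≤
      Nat.card ↥(V ⊓ Subgroup.centralizer (B : Set G)) := by
    have h1 := relIndex_mul_card_of_le hle
    have h2 : (V ⊓ Subgroup.centralizer (A : Set G)).relIndex
        (V ⊓ Subgroup.centralizer (B : Set G)) ≠ 1 := by
      rw [Ne, Subgroup.relIndex_eq_one]; exact not_le_of_gt hlt
    have h3 : (V ⊓ Subgroup.centralizer (A : Set G)).relIndex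
        (V ⊓ Subgroup.centralizer (B : Set G)) ∣ Nat.card ↥(V ⊓ Subgroup.centralizer (B : Set G)) :=
      Subgroup.relIndex_dvd_card _ _
    obtain ⟨k, hk⟩ := IsPGroup.iff_card.1 (hV.to_le (inf_le_left :
      V ⊓ Subgroup.centralizer (B : Set G) ≤ V))
    rw [hk] at h3
    obtain ⟨j, -, hj⟩ := (Nat.dvd_prime_pow hp.out).1 h3
    have hj1 : j ≠ 0 := by
      rintro rfl
      exact h2 (by rw [hj, pow_zero])
    have h4 : p ≤ (V ⊓ Subgroup.centralizer (A : Set G)).relIndex
        (V ⊓ Subgroup.centralizer (B : Set G)) := by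
      rw [hj]
      calc p = p ^ 1 := (pow_one p).symm
        _ ≤ p ^ j := Nat.pow_le_pow_right hp.out.pos (by omega)
    rw [← h1]
    exact Nat.mul_le_mul_right _ h4
  have hAB : Nat.card A = p * Nat.card B := by
    rw [← relIndex_mul_card_of_le hBA, hrel]
  apply le_antisymm (hbest B hBA)
  rw [hAB]
  calc p * Nat.card B * Nat.card ↥(V ⊓ Subgroup.centralizer (A : Set G))
      = Nat.card B * (p * Nat.card ↥(V ⊓ Subgroup.centralizer (A : Set G))) := by ring
    _ ≤ Nat.card B * Nat.card ↥(V ⊓ Subgroup.centralizer (B : Set G)) :=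
      Nat.mul_le_mul_left _ hcard

end Cfsg.Agent.Helper1.FFact
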