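import Mathlib
import Cfsg.Prelude.Def_PLocal
import Cfsg.Agent.Helper1.FFact1

set_option autoImplicit false

/-!
The commutator map `v ↦ [v, a]` on an abelian subgroup normalized by `a`, and the first two results
on best offenders in groups with self-centralizing `p'`-core.
-/

namespace Cfsg.Agent.Helper1.FFact

open scoped Pointwise commutatorElement

open Cfsg.Agent.Helper1

universe u

variable {G : Type u} [Group G]

section commMap

variable {V : Subgroup G} (hVc : ∀ x ∈ V, ∀ y ∈ V, x * y = y * x) {a : G}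
  (ha : a ∈ Subgroup.normalizer (V : Set G))

include ha in
theorem conj_mem_of_mem_normalizer {v : G} (hv : v ∈ V) : a * v * a⁻¹ ∈ V :=
  (Subgroup.mem_normalizer_iff.1 ha v).1 hv

include ha in
theorem conj_inv_mem_of_mem_normalizer {v : G} (hv : v ∈ V) : a⁻¹ * v * a ∈ V := by
  have := (Subgroup.mem_normalizer_iff.1 (Subgroup.inv_mem _ ha) v).1 hv
  simpa using this

include ha in
theorem commutatorElement_mem {v : G} (hv : v ∈ V) : ⁅v, a⁆ ∈ V := by
  rw [commutatorElement_def]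
  have h1 : a * v⁻¹ * a⁻¹ ∈ V := conj_mem_of_mem_normalizer ha (V.inv_mem hv)
  have : v * a * v⁻¹ * a⁻¹ = v * (a * v⁻¹ * a⁻¹) := by group
  rw [this]; exact V.mul_mem hv h1

/-- The homomorphism `v ↦ [v, a]`. -/
def commMap : V →* V where
  toFun v := ⟨⁅(v : G), a⁆, commutatorElement_mem ha v.2⟩
  map_one' := by
    apply Subtype.ext
    simp [commutatorElement_def]
  map_mul' := by
    intro v w
    apply Subtype.ext
    show ⁅(v : G) * (w : G), a⁆ = ⁅(v : G), a⁆ * ⁅(w : G), a⁆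
    rw [commutatorElement_def, commutatorElement_def, commutatorElement_def]
    have h1 : a * (w : G)⁻¹ * a⁻¹ ∈ V := conj_mem_of_mem_normalizer ha (V.inv_mem w.2)
    have h2 : a * (v : G)⁻¹ * a⁻¹ ∈ V := conj_mem_of_mem_normalizer ha (V.inv_mem v.2)
    have h3 := hVc _ (V.mul_mem w.2 h1) _ h2
    calc (v : G) * w * a * ((v : G) * w)⁻¹ * a⁻¹
        = v * ((w * (a * (w : G)⁻¹ * a⁻¹)) * (a * (v : G)⁻¹ * a⁻¹)) := by group
      _ = v * ((a * (v : G)⁻¹ * a⁻¹) * (w * (a * (w : G)⁻¹ * a⁻¹))) := by rw [h3]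
      _ = v * a * (v : G)⁻¹ * a⁻¹ * (w * a * (w : G)⁻¹ * a⁻¹) := by group

theorem commMap_apply (v : V) : ((commMap hVc ha v : V) : G) = ⁅(v : G), a⁆ := rfl

theorem commMap_ker : (commMap hVc ha).ker.map V.subtype =
    V ⊓ Subgroup.centralizer ((Subgroup.zpowers a : Subgroup G) : Set G) := by
  ext v
  constructor
  · rintro ⟨w, hw, rfl⟩
    refine ⟨w.2, ?_⟩
    have hw : commMap hVc ha w = 1 := hw
    have h1 : ⁅(w : G), a⁆ = 1 := congrArg Subtype.val hw
    rw [commutatorElement_eq_one_iff_commute] at h1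
    show (w : G) ∈ Subgroup.centralizer ((Subgroup.zpowers a : Subgroup G) : Set G)
    rw [Subgroup.mem_centralizer_iff]
    intro y hy
    obtain ⟨k, rfl⟩ := Subgroup.mem_zpowers_iff.1 hy
    exact ((h1.symm.zpow_left k)).eq
  · rintro ⟨hv, hc⟩
    refine ⟨⟨v, hv⟩, ?_, rfl⟩
    show commMap hVc ha ⟨v, hv⟩ = 1
    apply Subtype.ext
    show ⁅v, a⁆ = 1
    rw [commutatorElement_eq_one_iff_commute]
    exact ((Subgroup.mem_centralizer_iff.1 hc) a (Subgroup.mem_zpowers a)).symm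

theorem conj_commMap_mem {d : G} (hd : d ∈ (commMap hVc ha).range.map V.subtype) :
    a * d * a⁻¹ ∈ (commMap hVc ha).range.map V.subtype := by
  obtain ⟨_, ⟨v, rfl⟩, rfl⟩ := hd
  refine ⟨_, ⟨⟨a * v * a⁻¹, conj_mem_of_mem_normalizer ha v.2⟩, rfl⟩, ?_⟩
  show ⁅a * (v : G) * a⁻¹, a⁆ = a * ⁅(v : G), a⁆ * a⁻¹
  rw [commutatorElement_def, commutatorElement_def]; group

theorem conj_inv_commMap_mem {d : G} (hd : d ∈ (commMap hVc ha).range.map V.subtype) :
    a⁻¹ * d * a ∈ (commMap hVc ha).range.map V.subtype := by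
  obtain ⟨_, ⟨v, rfl⟩, rfl⟩ := hd
  refine ⟨_, ⟨⟨a⁻¹ * v * a, conj_inv_mem_of_mem_normalizer ha v.2⟩, rfl⟩, ?_⟩
  show ⁅a⁻¹ * (v : G) * a, a⁆ = a⁻¹ * ⁅(v : G), a⁆ * a
  rw [commutatorElement_def, commutatorElement_def]; group

theorem commutator_pow_mem {v : G} (hv : v ∈ V) (k : ℕ) :
    ⁅v, a ^ k⁆ ∈ (commMap hVc ha).range.map V.subtype := by
  induction k with
  | zero =>
    have : ⁅v, a ^ 0⁆ = 1 := by simp [commutatorElement_def]
    rw [this]; exact Subgroup.one_mem _
  | succ k ih =>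
    have h1 : ⁅v, a ^ (k + 1)⁆ = ⁅v, a⁆ * (a * ⁅v, a ^ k⁆ * a⁻¹) := by
      rw [commutatorElement_def, commutatorElement_def, commutatorElement_def, pow_succ']; group
    rw [h1]
    refine Subgroup.mul_mem _ ?_ (conj_commMap_mem hVc ha ih)
    exact ⟨_, ⟨⟨v, hv⟩, rfl⟩, rfl⟩

theorem commMap_range [Finite G] : (commMap hVc ha).range.map V.subtype =
    ⁅V, Subgroup.zpowers a⁆ := by
  apply le_antisymm
  · rintro _ ⟨_, ⟨v, rfl⟩, rfl⟩
    exact Subgroup.commutator_mem_commutator v.2 (Subgroup.mem_zpowers a)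
  · rw [Subgroup.commutator_le]
    intro v hv y hy
    have hfin : IsOfFinOrder a := isOfFinOrder_of_finite a
    rw [← hfin.mem_powers_iff_mem_zpowers] at hy
    obtain ⟨k, rfl⟩ := hy
    exact commutator_pow_mem hVc ha hv k

include hVc ha in
theorem card_commutator_zpowers_mul [Finite G] :
    Nat.card ↥(⁅V, Subgroup.zpowers a⁆) *
      Nat.card ↥(V ⊓ Subgroup.centralizer ((Subgroup.zpowers a : Subgroup G) : Set G)) =
      Nat.card V := by
  rw [← commMap_range hVc ha, ← commMap_ker hVc ha,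
    Subgroup.card_map_of_injective V.subtype_injective,
    Subgroup.card_map_of_injective V.subtype_injective, mul_comm]
  have h1 := Subgroup.card_mul_index (commMap hVc ha).ker
  rw [Subgroup.index_ker] at h1
  exact h1

end commMap

/-- `|A| |C_V(A)| = |V|` for nontrivial best offenders (abstract form). -/
theorem card_mul_card_fixed [Finite G] {p : ℕ} [hp : Fact p.Prime] {V Q : Subgroup G}
    (hV : IsPGroup p V) (hQ : (Nat.card Q).Coprime p)
    (hQV : Q ≤ Subgroup.normalizer (V : Set G))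
    (hfaith : Q ⊓ Subgroup.centralizer (V : Set G) = ⊥) :
    ∀ (n : ℕ) (A : Subgroup G), Nat.card A = n → Cfsg.IsElementaryAbelian p A →
      A ≤ Subgroup.normalizer (Q : Set G) → A ≤ Subgroup.normalizer (V : Set G) →
      A ⊓ Subgroup.centralizer (Q : Set G) = ⊥ → A ≠ ⊥ →
      (∀ B : Subgroup G, B ≤ A →
        Nat.card B * Nat.card ↥(V ⊓ Subgroup.centralizer (B : Set G)) ≤
          Nat.card A * Nat.card ↥(V ⊓ Subgroup.centralizer (A : Set G))) →
      Nat.card A * Nat.card ↥(V ⊓ Subgroup.centralizer (A : Set G)) = Nat.card V := by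
  intro n
  induction n using Nat.strong_induction_on with
  | _ n ih =>
  intro A hn hA hAQ hAV hAf hA1 hbest
  have hAQf : ¬ A ≤ Subgroup.centralizer (Q : Set G) := by
    intro h
    apply hA1
    rw [eq_bot_iff, ← hAf]
    exact le_inf le_rfl h
  obtain ⟨B, hBA, hrel, hBeq⟩ := exists_hyperplane hV hQ hA hAQ hAV hQV hfaith hAQf hbest
  rw [← hBeq]
  by_cases hB1 : B = ⊥
  · subst hB1
    rw [Subgroup.card_bot, one_mul]
    have : V ⊓ Subgroup.centralizer (((⊥ : Subgroup G) : Subgroup G) : Set G) = V := by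
      rw [inf_eq_left]
      intro v _
      rw [Subgroup.mem_centralizer_iff]
      intro y hy
      have : y = 1 := Subgroup.mem_bot.1 hy
      rw [this, one_mul, mul_one]
    rw [this]
  · have hlt : Nat.card B < n := by
      rw [← hn, ← relIndex_mul_card_of_le hBA, hrel]
      have : 0 < Nat.card B := Nat.card_pos
      have := hp.out.one_lt
      nlinarith
    apply ih _ hlt B rfl (Cfsg.Agent.Helper2.isElementaryAbelian_of_le hA hBA) (hBA.trans hAQ)
      (hBA.trans hAV) _ hB1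
    · intro B' hB'
      rw [hBeq]
      exact hbest B' (hB'.trans hBA)
    · rw [eq_bot_iff, ← hAf]
      exact inf_le_inf_right _ hBA

/-- The standing hypotheses on the faithful group `H` with self-centralizing `p'`-core. -/
structure Hyp (p : ℕ) (V H : Subgroup G) : Prop where
  hV : Cfsg.IsElementaryAbelian p V
  hHV : H ≤ Subgroup.normalizer (V : Set G)
  hf : H ⊓ Subgroup.centralizer (V : Set G) = ⊥
  hS1 : Subgroup.centralizer (Cfsg.pPrimeCore p ↥H : Set ↥H) ≤ Cfsg.pPrimeCore p ↥H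

namespace Hyp

variable {p : ℕ} {V H : Subgroup G}

theorem faithful (h : Hyp p V H) {A : Subgroup G} (hAH : A ≤ H) :
    A ⊓ Subgroup.centralizer (V : Set G) = ⊥ := by
  rw [eq_bot_iff, ← h.hf]
  exact inf_le_inf_right _ hAH

theorem isElementaryAbelian (h : Hyp p V H) {A : Subgroup G} (hAH : A ≤ H)
    (hA : Cfsg.IsBestOffenderOn p V A) : Cfsg.IsElementaryAbelian p A :=
  isElementaryAbelian_of_best hA (h.faithful hAH)

theorem inf_centralizer_ppc [Finite G] [hp : Fact p.Prime] (h : Hyp p V H) {A : Subgroup G}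
    (hAH : A ≤ H) (hA : IsPGroup p A) :
    A ⊓ Subgroup.centralizer (ppc p H : Set G) = ⊥ := by
  have h1 : A ⊓ Subgroup.centralizer (ppc p H : Set G) ≤ A ⊓ ppc p H := by
    refine le_inf inf_le_left ?_
    exact (inf_le_inf_right _ hAH).trans (inf_centralizer_ppc_le h.hS1)
  rw [eq_bot_iff]
  refine h1.trans (le_of_eq ?_)
  apply inf_eq_bot_of_coprime_card
  obtain ⟨k, hk⟩ := IsPGroup.iff_card.1 hA
  rw [hk]
  exact (Nat.Coprime.pow_right k (card_ppc_coprime p H)).symm

theorem isPGroup_V (h : Hyp p V H) : IsPGroup p V :=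
  Cfsg.Agent.Helper2.isPGroup_of_elementary h.hV

theorem commV (h : Hyp p V H) : ∀ x ∈ V, ∀ y ∈ V, x * y = y * x := by
  intro x hx y hy
  have := h.hV.1.is_comm.comm ⟨x, hx⟩ ⟨y, hy⟩
  exact congrArg Subtype.val this

theorem ppc_faithful (h : Hyp p V H) :
    ppc p H ⊓ Subgroup.centralizer (V : Set G) = ⊥ := h.faithful (ppc_le p H)

/-- S0610. -/
theorem card_best [Finite G] [hp : Fact p.Prime] (h : Hyp p V H) {A : Subgroup G}
    (hAH : A ≤ H) (hA : Cfsg.IsBestOffenderOn p V A) (hA1 : A ≠ ⊥) :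
    Nat.card A * Nat.card ↥(V ⊓ Subgroup.centralizer (A : Set G)) = Nat.card V := by
  have hAe := h.isElementaryAbelian hAH hA
  exact card_mul_card_fixed h.isPGroup_V (card_ppc_coprime p H) ((ppc_le p H).trans h.hHV)
    h.ppc_faithful _ A rfl hAe (hAH.trans (le_normalizer_ppc p H)) (hAH.trans h.hHV)
    (h.inf_centralizer_ppc hAH (Cfsg.Agent.Helper2.isPGroup_of_elementary hAe)) hA1 hA.1

theorem commutator_ne_bot (h : Hyp p V H) {A : Subgroup G} (hAH : A ≤ H) (hA1 : A ≠ ⊥) :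
    ⁅V, A⁆ ≠ ⊥ := by
  intro hb
  rw [Subgroup.commutator_eq_bot_iff_le_centralizer, Subgroup.le_centralizer_iff] at hb
  apply hA1
  rw [eq_bot_iff, ← h.faithful hAH]
  exact le_inf le_rfl hb

end Hyp

/-- Minimal non-trivially acting best offenders. -/
def IsMinBest (p : ℕ) (V A : Subgroup G) : Prop :=
  Cfsg.IsBestOffenderOn p V A ∧ ⁅V, A⁆ ≠ ⊥ ∧
    ∀ B : Subgroup G, B ≤ A → Cfsg.IsBestOffenderOn p V B → ⁅V, B⁆ ≠ ⊥ → B = A

theorem ne_bot_of_commutator_ne_bot {V A : Subgroup G} (h : ⁅V, A⁆ ≠ ⊥) : A ≠ ⊥ := by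
  rintro rfl
  apply h
  rw [Subgroup.commutator_eq_bot_iff_le_centralizer]
  intro v _
  rw [Subgroup.mem_centralizer_iff]
  intro y hy
  have : y = 1 := Subgroup.mem_bot.1 hy
  rw [this, one_mul, mul_one]

theorem isBestOffenderOn_of_le {p : ℕ} {V A B : Subgroup G} (hA : Cfsg.IsBestOffenderOn p V A)
    (hBA : B ≤ A)
    (heq : Nat.card B * Nat.card ↥(V ⊓ Subgroup.centralizer (B : Set G)) =
      Nat.card A * Nat.card ↥(V ⊓ Subgroup.centralizer (A : Set G))) :
    Cfsg.IsBestOffenderOn p V B := by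
  refine ⟨fun B' hB' => ?_, (Subgroup.commutator_mono hBA hBA).trans hA.2.1,
    fun a ha => hA.2.2 a (hBA ha)⟩
  rw [heq]
  exact hA.1 B' (hB'.trans hBA)

namespace Hyp

variable {p : ℕ} {V H : Subgroup G}

/-- S0611, first part. -/
theorem card_minBest [Finite G] [hp : Fact p.Prime] (h : Hyp p V H) {A : Subgroup G}
    (hAH : A ≤ H) (hA : IsMinBest p V A) : Nat.card A = p := by
  obtain ⟨hAb, hAV, hmin⟩ := hA
  have hA1 : A ≠ ⊥ := ne_bot_of_commutator_ne_bot hAV
  have hAe := h.isElementaryAbelian hAH hAb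
  have hApg := Cfsg.Agent.Helper2.isPGroup_of_elementary hAe
  have hAf := h.inf_centralizer_ppc hAH hApg
  have hAQf : ¬ A ≤ Subgroup.centralizer (ppc p H : Set G) := by
    intro hc
    apply hA1
    rw [eq_bot_iff, ← hAf]
    exact le_inf le_rfl hc
  obtain ⟨B, hBA, hrel, hBeq⟩ := exists_hyperplane h.isPGroup_V (card_ppc_coprime p H) hAe
    (hAH.trans (le_normalizer_ppc p H)) (hAH.trans h.hHV) ((ppc_le p H).trans h.hHV)
    h.ppc_faithful hAQf hAb.1
  have hB1 : B = ⊥ := by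
    by_contra hB1
    have hBb : Cfsg.IsBestOffenderOn p V B := isBestOffenderOn_of_le hAb hBA hBeq
    have := hmin B hBA hBb (h.commutator_ne_bot (hBA.trans hAH) hB1)
    rw [this, Subgroup.relIndex_self] at hrel
    exact hp.out.one_lt.ne hrel
  rw [hB1, Subgroup.relIndex_bot_left] at hrel
  exact hrel

theorem relIndex_minBest [Finite G] [hp : Fact p.Prime] (h : Hyp p V H) {A : Subgroup G}
    (hAH : A ≤ H) (hA : IsMinBest p V A) :
    (V ⊓ Subgroup.centralizer (A : Set G)).relIndex V = p := by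
  have h1 := h.card_best hAH hA.1 (ne_bot_of_commutator_ne_bot hA.2.1)
  rw [h.card_minBest hAH hA] at h1
  have h2 := relIndex_mul_card_of_le (inf_le_left : V ⊓ Subgroup.centralizer (A : Set G) ≤ V)
  rw [← h1] at h2
  exact Nat.eq_of_mul_eq_mul_right Nat.card_pos h2

theorem exists_generator [Finite G] [hp : Fact p.Prime] (h : Hyp p V H) {A : Subgroup G}
    (hAH : A ≤ H) (hA : IsMinBest p V A) :
    ∃ a : G, a ∈ A ∧ a ≠ 1 ∧ orderOf a = p ∧ Subgroup.zpowers a = A := by
  have hcard := h.card_minBest hAH hA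
  have hA1 : A ≠ ⊥ := ne_bot_of_commutator_ne_bot hA.2.1
  obtain ⟨a, ha, ha1⟩ := (Subgroup.ne_bot_iff_exists_ne_one (H := A)).1 hA1 |>.imp
    (fun a h => h) |> fun ⟨a, h⟩ => (⟨(a : G), a.2, fun h1 => h (Subtype.ext h1)⟩ :
      ∃ a : G, a ∈ A ∧ a ≠ 1)
  have hAe := h.isElementaryAbelian hAH hA.1
  have hord : orderOf a = p := orderOf_eq_prime (hAe.2 a ha) ha1
  refine ⟨a, ha, ha1, hord, ?_⟩
  apply Subgroup.eq_of_le_of_card_ge (Subgroup.zpowers_le.2 ha)
  rw [Nat.card_zpowers, hord, hcard]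

theorem card_commutator_minBest [Finite G] [hp : Fact p.Prime] (h : Hyp p V H) {A : Subgroup G}
    (hAH : A ≤ H) (hA : IsMinBest p V A) : Nat.card ↥(⁅V, A⁆) = p := by
  obtain ⟨a, ha, -, -, hza⟩ := h.exists_generator hAH hA
  have h1 := card_commutator_zpowers_mul h.commV (h.hHV (hAH ha))
  rw [hza] at h1
  have h2 := h.card_best hAH hA.1 (ne_bot_of_commutator_ne_bot hA.2.1)
  rw [h.card_minBest hAH hA, ← h1] at h2
  exact (Nat.eq_of_mul_eq_mul_right Nat.card_pos h2).symm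

end Hyp

end Cfsg.Agent.Helper1.FFact
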