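import Mathlib
import Cfsg.Prelude.Def_PLocal
import Cfsg.Agent.Helper1.FFact2
import Cfsg.Agent.Helper1.AbelianAct
import Cfsg.Agent.Helper1.Card

set_option autoImplicit false

/-!
Failure of factorization: two distinct minimal best offenders inside `O_{p'}(H) A` generate a group
acting faithfully on a plane.
-/

namespace Cfsg.Agent.Helper1.FFact

open scoped Pointwise commutatorElement

open Cfsg.Agent.Helper1

universe u

variable {G : Type u} [Group G]

/-- `[V, A ⊔ B] = [V, A] ⊔ [V, B]` when `A` and `B` normalize `V`. -/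
theorem commutator_sup {V A B : Subgroup G} (hA : A ≤ Subgroup.normalizer (V : Set G))
    (hB : B ≤ Subgroup.normalizer (V : Set G)) : ⁅V, A ⊔ B⁆ = ⁅V, A⁆ ⊔ ⁅V, B⁆ := by
  apply le_antisymm
  swap
  · exact sup_le (Subgroup.commutator_mono le_rfl le_sup_left)
      (Subgroup.commutator_mono le_rfl le_sup_right)
  set D := ⁅V, A⁆ ⊔ ⁅V, B⁆ with hD
  have hVA : ⁅V, A⁆ ≤ V := Subgroup.le_normalizer_iff_commutator_le_left.1 hA
  have hVB : ⁅V, B⁆ ≤ V := Subgroup.le_normalizer_iff_commutator_le_left.1 hB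
  -- both `A` and `B` normalize `D`
  have key : ∀ {X Y : Subgroup G}, ⁅V, Y⁆ ≤ V →
      X ≤ Subgroup.normalizer ((⁅V, X⁆ ⊔ ⁅V, Y⁆ : Subgroup G) : Set G) := by
    intro X Y hVY
    apply Cfsg.Agent.Helper2.le_normalizer_of_conj_mem
    intro a ha d hd
    have hnX : X ≤ Subgroup.normalizer ((⁅V, X⁆ : Subgroup G) : Set G) :=
      Subgroup.normalizer_commutator_ge_right V X
    have hsub : ∀ T : Subgroup G, T = ⁅V, X⁆ ⊔ ⁅V, Y⁆ → ⁅V, X⁆ ≤ T.comap (MulAut.conj a).toMonoidHom ∧
        ⁅V, Y⁆ ≤ T.comap (MulAut.conj a).toMonoidHom := by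
      intro T hT
      constructor
      · intro d hd
        show a * d * a⁻¹ ∈ T
        rw [hT]
        exact Subgroup.mem_sup_left ((Subgroup.mem_normalizer_iff.1 (hnX ha) d).1 hd)
      · intro d hd
        show a * d * a⁻¹ ∈ T
        rw [hT]
        have h1 : ⁅d, a⁆ ∈ ⁅V, X⁆ := Subgroup.commutator_mem_commutator (hVY hd) ha
        have h2 : a * d * a⁻¹ = (⁅d, a⁆)⁻¹ * d := by
          rw [commutatorElement_def]; group
        rw [h2]
        exact Subgroup.mul_mem _ (Subgroup.mem_sup_left (Subgroup.inv_mem _ h1))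
          (Subgroup.mem_sup_right hd)
    obtain ⟨h1, h2⟩ := hsub _ rfl
    exact (sup_le h1 h2) hd
  have hAD : A ≤ Subgroup.normalizer (D : Set G) := key hVB
  have hBD : B ≤ Subgroup.normalizer (D : Set G) := by
    have := key (X := B) (Y := A) hVA
    rwa [sup_comm] at this
  -- the subgroup of elements `g` normalizing `D` with `[V, g] ≤ D`
  let S : Subgroup G :=
    { carrier := {g | g ∈ Subgroup.normalizer (D : Set G) ∧ ∀ v ∈ V, ⁅v, g⁆ ∈ D}
      one_mem' := by
        refine ⟨Subgroup.one_mem _, fun v _ => ?_⟩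
        rw [commutatorElement_one_right]; exact D.one_mem
      mul_mem' := by
        rintro g k ⟨hg, hg'⟩ ⟨hk, hk'⟩
        refine ⟨Subgroup.mul_mem _ hg hk, fun v hv => ?_⟩
        have h1 : ⁅v, g * k⁆ = ⁅v, g⁆ * (g * ⁅v, k⁆ * g⁻¹) := by
          rw [commutatorElement_def, commutatorElement_def, commutatorElement_def]; group
        rw [h1]
        exact D.mul_mem (hg' v hv) ((Subgroup.mem_normalizer_iff.1 hg _).1 (hk' v hv))
      inv_mem' := by
        rintro g ⟨hg, hg'⟩
        refine ⟨Subgroup.inv_mem _ hg, fun v hv => ?_⟩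
        have h1 : ⁅v, g⁻¹⁆ = g⁻¹ * (⁅v, g⁆)⁻¹ * g⁻¹⁻¹ := by
          rw [commutatorElement_def, commutatorElement_def]; group
        rw [h1]
        exact (Subgroup.mem_normalizer_iff.1 (Subgroup.inv_mem _ hg) _).1
          (D.inv_mem (hg' v hv)) }
  have hAS : A ≤ S := fun a ha =>
    ⟨hAD ha, fun v hv => Subgroup.mem_sup_left (Subgroup.commutator_mem_commutator hv ha)⟩
  have hBS : B ≤ S := fun b hb =>
    ⟨hBD hb, fun v hv => Subgroup.mem_sup_right (Subgroup.commutator_mem_commutator hv hb)⟩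
  rw [Subgroup.commutator_le]
  intro v hv g hg
  exact ((sup_le hAS hBS) hg).2 v hv

/-- "Transvection subgroups": order `p` with commutator of order `p`. -/
structure IsTrv (p : ℕ) (V A : Subgroup G) : Prop where
  card : Nat.card A = p
  comm : Nat.card ↥(⁅V, A⁆) = p

theorem IsTrv.conj {p : ℕ} {V A : Subgroup G} (hA : IsTrv p V A) {g : G}
    (hg : g ∈ Subgroup.normalizer (V : Set G)) :
    IsTrv p V (A.map (MulAut.conj g).toMonoidHom) := by
  constructor
  · rw [Subgroup.card_map_of_injective (MulAut.conj g).injective]; exact hA.card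
  · have hV : V.map (MulAut.conj g).toMonoidHom = V :=
      ((Subgroup.mem_normalizer_iff_map_conj_eq (H := V)).1 hg)
    have h1 : ⁅V, A.map (MulAut.conj g).toMonoidHom⁆ = (⁅V, A⁆).map (MulAut.conj g).toMonoidHom := by
      rw [Subgroup.map_commutator, hV]
    rw [h1, Subgroup.card_map_of_injective (MulAut.conj g).injective]; exact hA.comm

namespace Hyp

variable {p : ℕ} {V H : Subgroup G}

theorem isTrv_of_isMinBest [Finite G] [hp : Fact p.Prime] (h : Hyp p V H) {A : Subgroup G}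
    (hAH : A ≤ H) (hA : IsMinBest p V A) : IsTrv p V A :=
  ⟨h.card_minBest hAH hA, h.card_commutator_minBest hAH hA⟩

end Hyp

theorem IsTrv.ne_bot {p : ℕ} [hp : Fact p.Prime] {V A : Subgroup G} (hA : IsTrv p V A) :
    A ≠ ⊥ := by
  rintro rfl
  have := hA.card
  rw [Subgroup.card_bot] at this
  exact hp.out.one_lt.ne this

theorem IsTrv.isPGroup {p : ℕ} [Fact p.Prime] {V A : Subgroup G} (hA : IsTrv p V A) :
    IsPGroup p A := IsPGroup.of_card (n := 1) (by rw [pow_one]; exact hA.card)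

theorem IsTrv.exists_generator [Finite G] {p : ℕ} [hp : Fact p.Prime] {V A : Subgroup G}
    (hA : IsTrv p V A) : ∃ a : G, a ∈ A ∧ a ≠ 1 ∧ orderOf a = p ∧ Subgroup.zpowers a = A := by
  obtain ⟨a, ha1⟩ := (Subgroup.ne_bot_iff_exists_ne_one (H := A)).1 hA.ne_bot
  have ha1' : (a : G) ≠ 1 := fun h1 => ha1 (Subtype.ext h1)
  have hdvd : orderOf (a : G) ∣ p := by
    have h1 : orderOf (a : G) = orderOf a := Subgroup.orderOf_coe a
    rw [← hA.card, h1]
    exact orderOf_dvd_natCard a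
  have hord : orderOf (a : G) = p := by
    rcases (Nat.dvd_prime hp.out).1 hdvd with h | h
    · exact absurd (orderOf_eq_one_iff.1 h) ha1'
    · exact h
  refine ⟨a, a.2, ha1', hord, ?_⟩
  apply Subgroup.eq_of_le_of_card_ge (Subgroup.zpowers_le.2 a.2)
  rw [Nat.card_zpowers, hord, hA.card]

theorem IsTrv.eq_of_le {p : ℕ} [Finite G] {V A B : Subgroup G} (hA : IsTrv p V A)
    (hB : IsTrv p V B) (h : A ≤ B) : A = B :=
  Subgroup.eq_of_le_of_card_ge h (by rw [hA.card, hB.card])

/-- The structure of the group generated by two transvection subgroups in `O_{p'}(H) A`. -/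
theorem pair_structure [Finite G] {p : ℕ} [hp : Fact p.Prime] {V H : Subgroup G}
    (h : Hyp p V H) {A A' : Subgroup G}
    (hAH : A ≤ H) (hA'H : A' ≤ H) (hA : IsTrv p V A) (hA' : IsTrv p V A') (hne : A ≠ A')
    (hA'Q : A' ≤ ppc p H ⊔ A) :
    ((A ⊔ A') ⊓ ppc p H) ⊔ A = A ⊔ A' ∧
    ¬ (A ⊔ A') ⊓ ppc p H ≤ Subgroup.centralizer (A : Set G) ∧
    Nat.card ↥(⁅V, A ⊔ A'⁆) = p ^ 2 ∧
    ⁅V, (A ⊔ A') ⊓ ppc p H⁆ = ⁅V, A ⊔ A'⁆ ∧
    V ⊓ Subgroup.centralizer (((A ⊔ A') ⊓ ppc p H : Subgroup G) : Set G) =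
      V ⊓ Subgroup.centralizer ((A ⊔ A' : Subgroup G) : Set G) ∧
    ⁅V, A ⊔ A'⁆ ⊓ (V ⊓ Subgroup.centralizer ((A ⊔ A' : Subgroup G) : Set G)) = ⊥ ∧
    ⁅V, A ⊔ A'⁆ ⊔ (V ⊓ Subgroup.centralizer ((A ⊔ A' : Subgroup G) : Set G)) = V ∧
    (A ⊔ A') ⊓ Subgroup.centralizer ((⁅V, A ⊔ A'⁆ : Subgroup G) : Set G) = ⊥ := by
  set Q := ppc p H with hQdef
  set L := A ⊔ A' with hL
  set R := L ⊓ Q with hR
  haveI : IsMulCommutative V := h.hV.1
  have hVp := h.isPGroup_V
  have hLH : L ≤ H := sup_le hAH hA'H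
  have hQn : H ≤ Subgroup.normalizer (Q : Set G) := le_normalizer_ppc p H
  have hAQ : A ≤ Subgroup.normalizer (Q : Set G) := hAH.trans hQn
  have hQcop : (Nat.card Q).Coprime p := card_ppc_coprime p H
  have hAp := hA.isPGroup
  have hA'p := hA'.isPGroup
  -- (a)
  have hRA : R ⊔ A = L := by
    apply le_antisymm (sup_le inf_le_left le_sup_left)
    refine sup_le le_sup_right ?_
    intro a' ha'
    obtain ⟨q, hq, a, ha, rfl⟩ := mem_sup_of_le_normalizer hAQ (hA'Q ha')
    have hqL : q ∈ L := by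
      have h1 : q = (q * a) * a⁻¹ := by group
      rw [h1]
      exact L.mul_mem (Subgroup.mem_sup_right ha') (L.inv_mem (Subgroup.mem_sup_left ha))
    exact Subgroup.mul_mem _ (Subgroup.mem_sup_left ⟨hqL, hq⟩) (Subgroup.mem_sup_right ha)
  have hLR : L ≤ Subgroup.normalizer (R : Set G) :=
    le_normalizer_inf Subgroup.le_normalizer (hLH.trans hQn)
  have hRcop : (Nat.card R).Coprime p :=
    Nat.Coprime.coprime_dvd_left (Subgroup.card_dvd_of_le inf_le_right) hQcop
  have hRH : R ≤ H := inf_le_left.trans hLH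
  have hRV : R ≤ Subgroup.normalizer (V : Set G) := hRH.trans h.hHV
  have hLV : L ≤ Subgroup.normalizer (V : Set G) := hLH.trans h.hHV
  have hcopRV : (Nat.card R).Coprime (Nat.card V) := by
    obtain ⟨k, hk⟩ := IsPGroup.iff_card.1 hVp
    rw [hk]; exact Nat.Coprime.pow_right k hRcop
  obtain ⟨hdec1, hdec2⟩ := abelian_coprime_decomp R V hRV hcopRV
  set X := ⁅V, R⁆ with hX
  set CX := V ⊓ Subgroup.centralizer (R : Set G) with hCX
  have hXV : X ≤ V := Subgroup.le_normalizer_iff_commutator_le_left.1 hRV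
  have hcommV := h.commV
  -- (f)
  have hU : ⁅V, L⁆ = ⁅V, A⁆ ⊔ ⁅V, A'⁆ :=
    commutator_sup (hAH.trans h.hHV) (hA'H.trans h.hHV)
  have hZV : ⁅V, A⁆ ≤ V := Subgroup.le_normalizer_iff_commutator_le_left.1 (hAH.trans h.hHV)
  have hZ'V : ⁅V, A'⁆ ≤ V := Subgroup.le_normalizer_iff_commutator_le_left.1 (hA'H.trans h.hHV)
  have hUV : ⁅V, L⁆ ≤ V := Subgroup.le_normalizer_iff_commutator_le_left.1 hLV
  have hUcard : Nat.card ↥(⁅V, L⁆) ≤ p ^ 2 := by
    have hn : ⁅V, A'⁆ ≤ Subgroup.normalizer ((⁅V, A⁆ : Subgroup G) : Set G) :=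
      Cfsg.Agent.Helper2.le_normalizer_of_comm hcommV hZ'V hZV
    have h1 := card_sup_mul_card_inf hn
    rw [hA.comm, hA'.comm, ← hU] at h1
    have h2 : Nat.card ↥(⁅V, L⁆) ∣ p * p := Dvd.intro _ h1
    rw [pow_two]
    exact Nat.le_of_dvd (Nat.mul_pos hp.out.pos hp.out.pos) h2
  have hXU : X ≤ ⁅V, L⁆ := Subgroup.commutator_mono le_rfl inf_le_left
  -- (h)
  have hRne : R ≠ ⊥ := by
    intro hb
    rw [hb, bot_sup_eq] at hRA
    apply hne
    have h1 : A' ≤ A := by rw [hRA, hL]; exact le_sup_right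
    exact (hA'.eq_of_le hA h1).symm
  have hfaithR : ∀ K : Subgroup G, K ≤ H → ⁅V, K⁆ = ⊥ → K = ⊥ := by
    intro K hK hb
    by_contra hK1
    exact h.commutator_ne_bot hK hK1 hb
  have hXne : X ≠ ⊥ := fun hb => hRne (hfaithR R hRH hb)
  -- (j)
  have hRCX : R ⊓ Subgroup.centralizer (X : Set G) = ⊥ := by
    set R₀ := R ⊓ Subgroup.centralizer (X : Set G) with hR₀
    apply hfaithR R₀ (inf_le_left.trans hRH)
    have hR₀V : R₀ ≤ Subgroup.normalizer (V : Set G) := inf_le_left.trans hRV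
    have hcop₀ : (Nat.card R₀).Coprime (Nat.card V) :=
      Nat.Coprime.coprime_dvd_left (Subgroup.card_dvd_of_le inf_le_left) hcopRV
    rw [← coprime_commutator_commutator R₀ V hR₀V hcop₀
      (Or.inr (isSolvable_of_isMulCommutative V))]
    rw [Subgroup.commutator_eq_bot_iff_le_centralizer]
    have h1 : ⁅V, R₀⁆ ≤ X := Subgroup.commutator_mono le_rfl inf_le_left
    refine h1.trans ?_
    rw [Subgroup.le_centralizer_iff]
    exact inf_le_right
  have hLX : L ≤ Subgroup.normalizer (X : Set G) := le_normalizer_commutator hLV hLR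
  have hXp : IsPGroup p X := hVp.to_le hXV
  -- `A` does not centralize `R`
  have hRnotA : ¬ R ≤ Subgroup.centralizer (A : Set G) := by
    intro hc
    have h1 : L ≤ Subgroup.normalizer (A : Set G) := by
      rw [← hRA]
      exact sup_le (hc.trans (Subgroup.centralizer_le_normalizer _)) Subgroup.le_normalizer
    have h2 : IsPGroup p L := by
      rw [hL, sup_comm]
      exact IsPGroup.to_sup_of_normal_right' hA'p hAp (le_sup_right.trans h1)
    have h3 : IsPGroup p R := h2.to_le inf_le_left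
    obtain ⟨k, hk⟩ := IsPGroup.iff_card.1 h3
    apply hRne
    rw [← Subgroup.card_eq_one]
    rw [hk] at hRcop ⊢
    rcases k with _ | k
    · rfl
    · exfalso
      have := Nat.Coprime.eq_one_of_dvd hRcop.symm (dvd_pow_self p (Nat.succ_ne_zero k))
      exact hp.out.one_lt.ne' this
  -- (k)
  have hXcard : Nat.card X ≠ p := by
    intro hXc
    have hAX : A ≤ Subgroup.normalizer (X : Set G) := le_sup_left.trans hLX
    have h1 : ⁅X, A⁆ < X := commutator_lt_of_isPGroup hXp hAp hAX hXne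
    have h2 : ⁅X, A⁆ = ⊥ := by
      have h3 := Subgroup.card_dvd_of_le h1.le
      rw [hXc] at h3
      rcases (Nat.dvd_prime hp.out).1 h3 with h4 | h4
      · exact Subgroup.card_eq_one.1 h4
      · exfalso
        have := Subgroup.eq_of_le_of_card_ge h1.le (by rw [h4, hXc])
        exact h1.ne this
    rw [Subgroup.commutator_eq_bot_iff_le_centralizer, Subgroup.le_centralizer_iff] at h2
    have hAR : A ≤ Subgroup.normalizer (R : Set G) := le_sup_left.trans hLR
    have h5 : ⁅R, A⁆ ≤ R ⊓ Subgroup.centralizer (X : Set G) := by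
      refine le_inf (Subgroup.le_normalizer_iff_commutator_le_left.1 hAR) ?_
      rw [Subgroup.commutator_le]
      intro r hr a ha
      have hrN : r ∈ Subgroup.normalizer
          ((Subgroup.centralizer (X : Set G) : Subgroup G) : Set G) :=
        le_normalizer_centralizer (inf_le_left.trans hLX) hr
      have h6 : r * a * r⁻¹ ∈ Subgroup.centralizer (X : Set G) :=
        (Subgroup.mem_normalizer_iff.1 hrN a).1 (h2 ha)
      rw [commutatorElement_def]
      exact Subgroup.mul_mem _ h6 (Subgroup.inv_mem _ (h2 ha))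
    rw [hRCX, le_bot_iff, Subgroup.commutator_eq_bot_iff_le_centralizer] at h5
    exact hRnotA h5
  -- (l)
  have hXeq : X = ⁅V, L⁆ ∧ Nat.card ↥(⁅V, L⁆) = p ^ 2 := by
    obtain ⟨j, hj⟩ := IsPGroup.iff_card.1 hXp
    have h1 : Nat.card X ≤ Nat.card ↥(⁅V, L⁆) := Subgroup.card_le_of_le hXU
    have hj2 : j ≤ 2 := by
      by_contra hcon
      have : p ^ 2 < p ^ j := Nat.pow_lt_pow_right hp.out.one_lt (by omega)
      omega
    have hj0 : j ≠ 0 := by
      rintro rfl
      rw [pow_zero, Subgroup.card_eq_one] at hj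
      exact hXne hj
    have hj1 : j ≠ 1 := by
      rintro rfl
      rw [pow_one] at hj
      exact hXcard hj
    have hj' : j = 2 := by omega
    rw [hj'] at hj
    have h2 : Nat.card ↥(⁅V, L⁆) = p ^ 2 := le_antisymm hUcard (hj ▸ h1)
    exact ⟨Subgroup.eq_of_le_of_card_ge hXU (by rw [h2, hj]), h2⟩
  obtain ⟨hXeqU, hUcard2⟩ := hXeq
  -- (m)
  have hAN : A ≤ Subgroup.normalizer (CX : Set G) :=
    le_normalizer_inf (hAH.trans h.hHV) (le_normalizer_centralizer (le_sup_left.trans hLR))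
  have hCXA : CX ≤ Subgroup.centralizer (A : Set G) := by
    rw [← Subgroup.commutator_eq_bot_iff_le_centralizer, eq_bot_iff, ← hdec1]
    refine le_inf (Subgroup.le_normalizer_iff_commutator_le_left.1 hAN) ?_
    rw [hXeqU, hU]
    exact (Subgroup.commutator_mono inf_le_left le_rfl).trans le_sup_left
  have hCXL : CX = V ⊓ Subgroup.centralizer (L : Set G) := by
    apply le_antisymm
    · refine le_inf inf_le_left ?_
      rw [← hRA]
      exact (le_inf inf_le_right hCXA).trans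
        (Cfsg.Agent.Helper2.inf_centralizer_le_centralizer_sup R A)
    · exact inf_le_inf_left _ (Subgroup.centralizer_le inf_le_left)
  refine ⟨hRA, hRnotA, hUcard2, hXeqU, hCXL, ?_, ?_, ?_⟩
  · rw [← hCXL, ← hXeqU, inf_comm]; exact hdec1
  · rw [← hCXL, ← hXeqU, sup_comm]; exact hdec2
  · -- (o)
    rw [eq_bot_iff, ← h.hf]
    refine le_inf (inf_le_left.trans hLH) ?_
    have h1 : L ⊓ Subgroup.centralizer ((⁅V, L⁆ : Subgroup G) : Set G) ≤
        Subgroup.centralizer ((⁅V, L⁆ : Subgroup G) : Set G) ⊓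
          Subgroup.centralizer ((V ⊓ Subgroup.centralizer (L : Set G) : Subgroup G) : Set G) := by
      refine le_inf inf_le_right (inf_le_left.trans ?_)
      rw [Subgroup.le_centralizer_iff]
      exact inf_le_right
    refine h1.trans ((Cfsg.Agent.Helper2.inf_centralizer_le_centralizer_sup _ _).trans ?_)
    rw [← hCXL, ← hXeqU, sup_comm, hdec2]

end Cfsg.Agent.Helper1.FFact
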