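import Mathlib
import Cfsg.Agent.Helper1.OddQuadratic

set_option autoImplicit false

/-!
Automorphisms of an elementary abelian group of order `p ^ 2` as `2 × 2` matrices over `ZMod p`;
automorphisms induced on the quotient by a characteristic subgroup.
-/

namespace Cfsg.Agent.Helper1.GL2Rep

open Module

noncomputable def glOfBasis {F M : Type*} [Field F] [AddCommGroup M] [Module F M]
    (b : Basis (Fin 2) F M) : (M ≃ₗ[F] M) →* GL (Fin 2) F where
  toFun e := ⟨LinearMap.toMatrix b b e.toLinearMap, LinearMap.toMatrix b b e.symm.toLinearMap,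
    by rw [← LinearMap.toMatrix_comp b b b]; simp,
    by rw [← LinearMap.toMatrix_comp b b b]; simp⟩
  map_one' := by
    apply Units.ext
    show LinearMap.toMatrix b b ((1 : M ≃ₗ[F] M) : M →ₗ[F] M) = 1
    simp
  map_mul' e₁ e₂ := by
    apply Units.ext
    show LinearMap.toMatrix b b ((e₁ * e₂ : M ≃ₗ[F] M) : M →ₗ[F] M) =
      LinearMap.toMatrix b b e₁.toLinearMap * LinearMap.toMatrix b b e₂.toLinearMap
    rw [← LinearMap.toMatrix_comp b b b]
    rfl

theorem glOfBasis_injective {F M : Type*} [Field F] [AddCommGroup M] [Module F M]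
    (b : Basis (Fin 2) F M) : Function.Injective (glOfBasis b) := by
  intro e₁ e₂ h
  have h1 : LinearMap.toMatrix b b e₁.toLinearMap = LinearMap.toMatrix b b e₂.toLinearMap :=
    congrArg (fun u : GL (Fin 2) F => (u : Matrix (Fin 2) (Fin 2) F)) h
  have h2 := (LinearMap.toMatrix b b).injective h1
  exact LinearEquiv.toLinearMap_injective h2

theorem exists_GL2_rep_aux {V : Type*} [CommGroup V] [Finite V] {p : ℕ} [hp : Fact p.Prime]
    [Module (ZMod p) (Additive V)] (hcard : Nat.card V = p ^ 2) :
    ∃ Φ : MulAut V →* GL (Fin 2) (ZMod p), Function.Injective Φ := by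
  obtain ⟨ρ, hρ⟩ := Cfsg.Agent.Helper1.OddGL2.exists_linRep (A := V) p
  haveI : Finite (Additive V) := inferInstanceAs (Finite V)
  haveI : Module.Finite (ZMod p) (Additive V) := Module.Finite.of_finite
  have hfin : Module.finrank (ZMod p) (Additive V) = 2 := by
    have h1 := Module.natCard_eq_pow_finrank (K := ZMod p) (V := Additive V)
    rw [Nat.card_zmod] at h1
    have h2 : Nat.card (Additive V) = p ^ 2 := hcard
    rw [h2] at h1
    exact (Nat.pow_right_injective hp.out.two_le h1).symm
  let b := Module.finBasisOfFinrankEq (ZMod p) (Additive V) hfin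
  refine ⟨(glOfBasis b).comp ρ, (glOfBasis_injective b).comp ?_⟩
  intro f g h
  ext v
  have h1 := DFunLike.congr_fun h (Additive.ofMul v)
  rw [hρ, hρ] at h1
  exact h1

/-- The automorphism group of an elementary abelian group of order `p ^ 2` embeds in
`GL(2, p)`. -/
theorem exists_GL2_rep {V : Type*} [CommGroup V] [Finite V] {p : ℕ} [hp : Fact p.Prime]
    (hexp : ∀ v : V, v ^ p = 1) (hcard : Nat.card V = p ^ 2) :
    ∃ Φ : MulAut V →* GL (Fin 2) (ZMod p), Function.Injective Φ :=
  @exists_GL2_rep_aux V _ _ p hp (AddCommGroup.zmodModule (n := p) (fun x => by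
    show Additive.ofMul ((Additive.toMul x) ^ p) = 0
    rw [hexp]; rfl)) hcard

end Cfsg.Agent.Helper1.GL2Rep
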