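import Mathlib
import Cfsg.Prelude.Def_PLocal
import Cfsg.Agent.Helper1.FFact3
import Cfsg.Agent.Helper1.GL2Rep
import Cfsg.Agent.Helper1.FPFSub
import Cfsg.Agent.Helper5.SL2Borel
import Cfsg.Agent.Lead.SL2P3C

set_option autoImplicit false

/-!
Identification of a faithful group on a plane, generated by two subgroups of order `p` and with a
nontrivial normal `p`-complement, with `SL(2, p)`, `p ∈ {2, 3}`.
-/

namespace Cfsg.Agent.Helper1.FFact

open scoped Pointwise commutatorElement

open Cfsg.Agent.Helper1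

universe u

variable {G : Type u} [Group G]

theorem card_GL2_two : Nat.card (GL (Fin 2) (ZMod 2)) = 6 := by
  rw [Matrix.card_GL_field (𝔽 := ZMod 2) 2]
  simp [Fin.prod_univ_two, ZMod.card]

theorem card_SL2_two : Nat.card (Matrix.SpecialLinearGroup (Fin 2) (ZMod 2)) = 6 := by
  rw [Cfsg.Agent.Helper5.SLB.card_SL2']
  simp [ZMod.card]

/-- `SL(2, 2) ≃ GL(2, 2)`. -/
noncomputable def sl2EquivGL2 : Matrix.SpecialLinearGroup (Fin 2) (ZMod 2) ≃* GL (Fin 2) (ZMod 2) :=
  MulEquiv.ofBijective Matrix.SpecialLinearGroup.toGL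
    ((Nat.bijective_iff_injective_and_card _).2
      ⟨Matrix.SpecialLinearGroup.toGL_injective, by rw [card_GL2_two, card_SL2_two]⟩)

theorem units_eq_one_of_pow_prime {p : ℕ} [hp : Fact p.Prime] (u : (ZMod p)ˣ) (hu : u ^ p = 1) :
    u = 1 := by
  have h1 : u ^ (p - 1) = 1 := by
    have := pow_card_eq_one (x := u)
    rwa [ZMod.card_units_eq_totient, Nat.totient_prime hp.out] at this
  have h2 : orderOf u ∣ Nat.gcd p (p - 1) :=
    Nat.dvd_gcd (orderOf_dvd_of_pow_eq_one hu) (orderOf_dvd_of_pow_eq_one h1)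
  have h3 : Nat.gcd p (p - 1) = 1 := by
    have h4 : Nat.Coprime (p - 1) p := by
      have := Nat.coprime_self_sub_left (n := p) (m := 1) hp.out.one_lt.le
      rw [this]
      exact Nat.coprime_one_left p
    exact h4.symm
  rw [h3, Nat.dvd_one, orderOf_eq_one_iff] at h2
  exact h2

/-- A faithful group on a plane, generated by elements of order `p`, with a normal `p`-complement
not centralized by a subgroup `A` of order `p`: it is `SL(2, p)` and `p ≤ 3`. -/
theorem sl2_of_faithful [Finite G] {p : ℕ} [hp : Fact p.Prime] {L U R A A' : Subgroup G}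
    (hLU : L ≤ Subgroup.normalizer (U : Set G))
    (hfaith : L ⊓ Subgroup.centralizer (U : Set G) = ⊥)
    (hU : Cfsg.IsElementaryAbelian p U) (hUcard : Nat.card U = p ^ 2)
    (hRL : R ≤ L) (hLR : L ≤ Subgroup.normalizer (R : Set G))
    (hRcop : (Nat.card R).Coprime p)
    (hAcard : Nat.card A = p) (hA'card : Nat.card A' = p) (hL : L = A ⊔ A')
    (hRA : R ⊔ A = L) (hRnA : ¬ R ≤ Subgroup.centralizer (A : Set G)) :
    (p = 2 ∨ p = 3) ∧ Nonempty (↥L ≃* Matrix.SpecialLinearGroup (Fin 2) (ZMod p)) := by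
  have hAL : A ≤ L := hL ▸ le_sup_left
  have hA'L : A' ≤ L := hL ▸ le_sup_right
  letI : CommGroup ↥U :=
    { (inferInstance : Group ↥U) with
      mul_comm := fun a b => hU.1.is_comm.comm a b }
  have hexp : ∀ v : ↥U, v ^ p = 1 := fun v => Subtype.ext (by
    rw [Subgroup.coe_pow, Subgroup.coe_one]; exact hU.2 v v.2)
  obtain ⟨Φ, hΦ⟩ := GL2Rep.exists_GL2_rep (V := ↥U) hexp hUcard
  set ρ := conjHom L U hLU with hρ
  have hρinj : Function.Injective ρ := by
    rw [injective_iff_map_eq_one]
    intro l hl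
    have h1 : (l : G) ∈ L ⊓ Subgroup.centralizer (U : Set G) := by
      refine ⟨l.2, ?_⟩
      show (l : G) ∈ Subgroup.centralizer (U : Set G)
      rw [Subgroup.mem_centralizer_iff]
      intro u hu
      have h2 := congrArg (fun f : MulAut ↥U => ((f ⟨u, hu⟩ : ↥U) : G)) hl
      simp only [MulAut.one_apply] at h2
      rw [hρ, conjHom_coe] at h2
      have h3 : (l : G) * u * (l : G)⁻¹ = u := h2
      calc u * (l : G) = ((l : G) * u * (l : G)⁻¹) * l := by rw [h3]
        _ = l * u := by group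
    rw [hfaith, Subgroup.mem_bot] at h1
    exact Subtype.ext h1
  set μ' : ↥L →* GL (Fin 2) (ZMod p) := Φ.comp ρ with hμ'
  have hμ'inj : Function.Injective μ' := hΦ.comp hρinj
  -- determinants
  have hdet : ∀ l : ↥L, Matrix.GeneralLinearGroup.det (μ' l) = 1 := by
    set d : ↥L →* (ZMod p)ˣ := Matrix.GeneralLinearGroup.det.comp μ' with hd
    have hker : ∀ B : Subgroup G, B ≤ L → Nat.card B = p → B.subgroupOf L ≤ d.ker := by
      intro B hBL hB x hx
      rw [Subgroup.mem_subgroupOf] at hx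
      rw [MonoidHom.mem_ker]
      apply units_eq_one_of_pow_prime
      rw [← map_pow]
      have h1 : x ^ p = 1 := by
        apply Subtype.ext
        rw [Subgroup.coe_pow, Subgroup.coe_one]
        have h2 : (⟨(x : G), hx⟩ : ↥B) ^ Nat.card B = 1 := pow_card_eq_one'
        rw [hB] at h2
        exact congrArg Subtype.val h2
      rw [h1, map_one]
    have htop : d.ker = ⊤ := by
      rw [eq_top_iff]
      have h1 : (A ⊔ A').subgroupOf L = A.subgroupOf L ⊔ A'.subgroupOf L :=
        Subgroup.subgroupOf_sup hAL hA'L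
      rw [← hL, Subgroup.subgroupOf_self] at h1
      rw [h1]
      exact sup_le (hker A hAL hAcard) (hker A' hA'L hA'card)
    intro l
    have : l ∈ d.ker := by rw [htop]; exact Subgroup.mem_top l
    exact this
  -- a generator of `A`
  have hAne : A ≠ ⊥ := by
    rintro rfl
    rw [Subgroup.card_bot] at hAcard
    exact hp.out.one_lt.ne hAcard
  obtain ⟨a₀, ha₀1⟩ := (Subgroup.ne_bot_iff_exists_ne_one (H := A)).1 hAne
  have ha₀1' : (a₀ : G) ≠ 1 := fun h1 => ha₀1 (Subtype.ext h1)
  have hord : orderOf (a₀ : G) = p := by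
    have hdvd : orderOf (a₀ : G) ∣ p := by
      have h1 : orderOf (a₀ : G) = orderOf a₀ := Subgroup.orderOf_coe a₀
      rw [← hAcard, h1]
      exact orderOf_dvd_natCard a₀
    rcases (Nat.dvd_prime hp.out).1 hdvd with h | h
    · exact absurd (orderOf_eq_one_iff.1 h) ha₀1'
    · exact h
  have hzA : Subgroup.zpowers (a₀ : G) = A := by
    apply Subgroup.eq_of_le_of_card_ge (Subgroup.zpowers_le.2 a₀.2)
    rw [Nat.card_zpowers, hord, hAcard]
  have hAR : A ⊓ R = ⊥ := by
    apply inf_eq_bot_of_coprime_card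
    rw [hAcard]
    exact hRcop.symm
  have hLcard : Nat.card L = p * Nat.card R := by
    rw [← hRA, card_sup_of_le_normalizer (hAL.trans hLR) hAR, hAcard]
  by_cases hp2 : p = 2
  · subst hp2
    refine ⟨Or.inl rfl, ?_⟩
    have h1 : Nat.card ↥L ∣ 6 := by
      rw [← card_GL2_two]
      exact Subgroup.card_dvd_of_injective μ' hμ'inj
    rw [hLcard] at h1
    have h2 : Nat.card R ∣ 3 := by
      have : (2 : ℕ) * Nat.card R ∣ 2 * 3 := h1
      exact Nat.dvd_of_mul_dvd_mul_left (by norm_num) this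
    have h3 : Nat.card R = 3 := by
      rcases (Nat.dvd_prime Nat.prime_three).1 h2 with h | h
      · exfalso
        apply hRnA
        rw [Subgroup.card_eq_one] at h
        rw [h]; exact bot_le
      · exact h
    have h4 : Nat.card ↥L = Nat.card (GL (Fin 2) (ZMod 2)) := by
      rw [hLcard, h3, card_GL2_two]
    have hbij : Function.Bijective μ' :=
      (Nat.bijective_iff_injective_and_card _).2 ⟨hμ'inj, h4⟩
    exact ⟨(MulEquiv.ofBijective μ' hbij).trans sl2EquivGL2.symm⟩
  · set μ : ↥L →* Matrix (Fin 2) (Fin 2) (ZMod p) :=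
      (Units.coeHom (Matrix (Fin 2) (Fin 2) (ZMod p))).comp μ' with hμ
    have hμinj : Function.Injective μ := by
      intro x y hxy
      apply hμ'inj
      exact Units.ext hxy
    have hμdet : ∀ g, (μ g).det = 1 := by
      intro g
      have h1 := hdet g
      have h2 : ((Matrix.GeneralLinearGroup.det (μ' g) : (ZMod p)ˣ) : ZMod p) = 1 := by
        rw [h1]; rfl
      exact h2
    set a : ↥L := ⟨(a₀ : G), hAL a₀.2⟩ with ha
    have horda : orderOf a = p ^ 1 := by
      rw [pow_one, ← hord]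
      exact (Subgroup.orderOf_coe a).symm
    set R' : Subgroup ↥L := R.subgroupOf L with hR'
    have hR'cop : (Nat.card R').Coprime p := by
      rw [hR', card_subgroupOf_of_le hRL]; exact hRcop
    haveI hR'n : R'.Normal := (Subgroup.normal_subgroupOf_iff_le_normalizer hRL).2 hLR
    have haR' : a ∈ Subgroup.normalizer (R' : Set ↥L) := by
      rw [Subgroup.normalizer_eq_top]; exact Subgroup.mem_top a
    have hr₀ : ∃ r ∈ R', a * r * a⁻¹ ≠ r := by
      by_contra hcon
      push Not at hcon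
      apply hRnA
      intro r hr
      rw [← hzA, Subgroup.mem_centralizer_iff]
      intro y hy
      obtain ⟨k, rfl⟩ := Subgroup.mem_zpowers_iff.1 hy
      have h1 := hcon ⟨r, hRL hr⟩ (by rw [hR', Subgroup.mem_subgroupOf]; exact hr)
      have h2 : (a₀ : G) * r * (a₀ : G)⁻¹ = r := congrArg Subtype.val h1
      have h3 : Commute (a₀ : G) r := by
        show (a₀ : G) * r = r * a₀
        calc (a₀ : G) * r = ((a₀ : G) * r * (a₀ : G)⁻¹) * a₀ := by group
          _ = r * a₀ := by rw [h2]
      exact (h3.zpow_left k).eq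
    obtain ⟨hp3, -, ⟨e⟩⟩ := Cfsg.Agent.Lead.SL2P3.main_gen (E := ZMod p) hp2 μ hμinj hμdet a 1
      horda R' hR'cop haR' hr₀
    refine ⟨Or.inr hp3, ?_⟩
    have htop : R' ⊔ Subgroup.zpowers a = ⊤ := by
      have h1 : Subgroup.zpowers a = A.subgroupOf L := by
        ext x
        rw [Subgroup.mem_subgroupOf, ← hzA, Subgroup.mem_zpowers_iff, Subgroup.mem_zpowers_iff]
        constructor
        · rintro ⟨k, rfl⟩
          exact ⟨k, by rw [Subgroup.coe_zpow]⟩
        · rintro ⟨k, hk⟩
          exact ⟨k, Subtype.ext (by rw [Subgroup.coe_zpow]; exact hk)⟩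
      rw [h1, hR', ← Subgroup.subgroupOf_sup hRL hAL, hRA, Subgroup.subgroupOf_self]
    subst hp3
    exact ⟨(Subgroup.topEquiv.symm.trans (MulEquiv.subgroupCongr htop.symm)).trans e⟩

end Cfsg.Agent.Helper1.FFact
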