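import Mathlib
import Cfsg.Prelude.Def_PLocal
import Cfsg.Agent.Helper1.FFact4

set_option autoImplicit false

/-!
Failure of factorization: `⟨A, A^x⟩ ≅ SL(2, p)` for a minimal best offender `A` and `x` in the
`p'`-core not centralizing `A` (Kurzweil–Stellmacher 9.3.4).
-/

namespace Cfsg.Agent.Helper1.FFact

open scoped Pointwise commutatorElement

open Cfsg.Agent.Helper1

universe u

variable {G : Type u} [Group G]

namespace Hyp

variable {p : ℕ} {V H : Subgroup G}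

theorem inf_ppc_eq_bot [Finite G] [hp : Fact p.Prime] {A : Subgroup G}
    (hA : IsPGroup p A) : A ⊓ ppc p H = ⊥ := by
  apply inf_eq_bot_of_coprime_card
  obtain ⟨k, hk⟩ := IsPGroup.iff_card.1 hA
  rw [hk]
  exact (Nat.Coprime.pow_right k (card_ppc_coprime p H)).symm

/-- conjugates of `A` by elements of the `p'`-core lie in `O_{p'}(H) A`. -/
theorem conj_le_ppc_sup {A : Subgroup G} (hAH : A ≤ H) {x : G} (hx : x ∈ ppc p H) :
    A.map (MulAut.conj x).toMonoidHom ≤ ppc p H ⊔ A := by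
  rintro _ ⟨a, ha, rfl⟩
  show x * a * x⁻¹ ∈ ppc p H ⊔ A
  have h1 : a * x⁻¹ * a⁻¹ ∈ ppc p H :=
    (Subgroup.mem_normalizer_iff.1 (le_normalizer_ppc p H (hAH ha)) x⁻¹).1
      (Subgroup.inv_mem _ hx)
  have h2 : x * a * x⁻¹ = (x * (a * x⁻¹ * a⁻¹)) * a := by group
  rw [h2]
  exact Subgroup.mul_mem _ (Subgroup.mem_sup_left (Subgroup.mul_mem _ hx h1))
    (Subgroup.mem_sup_right ha)

theorem conj_ne [Finite G] [hp : Fact p.Prime] {A : Subgroup G} (hAH : A ≤ H)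
    (hA : IsPGroup p A) {x : G} (hx : x ∈ ppc p H)
    (hxA : x ∉ Subgroup.centralizer (A : Set G)) : A ≠ A.map (MulAut.conj x).toMonoidHom := by
  intro heq
  apply hxA
  rw [Subgroup.mem_centralizer_iff]
  intro a ha
  have h1 : x * a * x⁻¹ ∈ A := by
    rw [heq]; exact ⟨a, ha, rfl⟩
  have h2 : a * x⁻¹ * a⁻¹ ∈ ppc p H :=
    (Subgroup.mem_normalizer_iff.1 (le_normalizer_ppc p H (hAH ha)) x⁻¹).1
      (Subgroup.inv_mem _ hx)
  have h3 : x * a * x⁻¹ * a⁻¹ ∈ A ⊓ ppc p H := by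
    refine ⟨A.mul_mem h1 (A.inv_mem ha), ?_⟩
    have : x * a * x⁻¹ * a⁻¹ = x * (a * x⁻¹ * a⁻¹) := by group
    rw [this]
    exact Subgroup.mul_mem _ hx h2
  rw [inf_ppc_eq_bot hA, Subgroup.mem_bot] at h3
  calc a * x = (x * a * x⁻¹ * a⁻¹)⁻¹ * (x * a) := by group
    _ = x * a := by rw [h3]; group

/-- The structure of `⟨A, A'⟩` for distinct transvection subgroups in `O_{p'}(H) A`. -/
theorem pair_full [Finite G] [hp : Fact p.Prime] (h : Hyp p V H) {A A' : Subgroup G}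
    (hAH : A ≤ H) (hA'H : A' ≤ H) (hA : IsTrv p V A) (hA' : IsTrv p V A') (hne : A ≠ A')
    (hA'Q : A' ≤ ppc p H ⊔ A) :
    (p = 2 ∨ p = 3) ∧ Nonempty (↥(A ⊔ A') ≃* Matrix.SpecialLinearGroup (Fin 2) (ZMod p)) := by
  obtain ⟨h1, h2, h3, h4, h5, h6, h7, h8⟩ := pair_structure h hAH hA'H hA hA' hne hA'Q
  have hLH : A ⊔ A' ≤ H := sup_le hAH hA'H
  have hLV : A ⊔ A' ≤ Subgroup.normalizer (V : Set G) := hLH.trans h.hHV
  have hUV : ⁅V, A ⊔ A'⁆ ≤ V := Subgroup.le_normalizer_iff_commutator_le_left.1 hLV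
  have hLU : A ⊔ A' ≤ Subgroup.normalizer ((⁅V, A ⊔ A'⁆ : Subgroup G) : Set G) :=
    Subgroup.normalizer_commutator_ge_right V (A ⊔ A')
  exact sl2_of_faithful hLU h8 (Cfsg.Agent.Helper2.isElementaryAbelian_of_le h.hV hUV) h3
    inf_le_left (le_normalizer_inf Subgroup.le_normalizer (hLH.trans (le_normalizer_ppc p H)))
    (Nat.Coprime.coprime_dvd_left (Subgroup.card_dvd_of_le inf_le_right) (card_ppc_coprime p H))
    hA.card hA'.card rfl h1 h2

end Hyp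

end Cfsg.Agent.Helper1.FFact
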