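import Mathlib
import Cfsg.Prelude.Def_PLocal
import Cfsg.Agent.Helper1.FFact5
import Cfsg.Agent.Helper1.SylowInt

set_option autoImplicit false

/-!
Failure of factorization: the commutator of the `p'`-core with a minimal best offender is a
`3`-group (`p = 2`) or a nonabelian `2`-group (`p = 3`).
-/

namespace Cfsg.Agent.Helper1.FFact

open scoped Pointwise commutatorElement

open Cfsg.Agent.Helper1

universe u

variable {G : Type u} [Group G]

/-- If `C ≤ Q` has `r`-power index and `S` is a Sylow `r`-subgroup of `Q` then `Q = S C`. -/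
theorem exists_mul_of_sylow [Finite G] {r : ℕ} [hr : Fact r.Prime] {Q C : Subgroup G}
    (hCQ : C ≤ Q) (P : Sylow r ↥Q) (k : ℕ) (hk : C.relIndex Q = r ^ k) :
    ∀ x ∈ Q, ∃ s ∈ (P : Subgroup Q).map Q.subtype, ∃ c ∈ C, x = s * c := by
  set S := (P : Subgroup Q).map Q.subtype with hS
  have hSQ : S ≤ Q := Subgroup.map_subtype_le _
  have hScard : Nat.card S = r ^ (Nat.card Q).factorization r := by
    rw [hS, Subgroup.card_map_of_injective Q.subtype_injective]
    exact P.card_eq_multiplicity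
  have hSp : IsPGroup r S := IsPGroup.of_card hScard
  -- counting
  obtain ⟨j, hj⟩ := IsPGroup.iff_card.1 (hSp.to_le (inf_le_left : S ⊓ C ≤ S))
  have hjw : j ≤ (Nat.card C).factorization r := by
    have h1 : r ^ j ∣ Nat.card C := by
      rw [← hj]; exact Subgroup.card_dvd_of_le inf_le_right
    exact (hr.out.pow_dvd_iff_le_factorization Nat.card_pos.ne').1 h1
  have hv : (Nat.card Q).factorization r = k + (Nat.card C).factorization r := by
    have h1 := relIndex_mul_card_of_le hCQ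
    rw [hk] at h1
    rw [← h1, Nat.factorization_mul (pow_ne_zero k hr.out.ne_zero) Nat.card_pos.ne',
      Finsupp.add_apply, hr.out.factorization_pow, Finsupp.single_eq_same]
  have hrelS : C.relIndex S = r ^ ((Nat.card Q).factorization r - j) := by
    have h1 := relIndex_mul_card_of_le (inf_le_left : S ⊓ C ≤ S)
    rw [Subgroup.inf_relIndex_left, hj, hScard] at h1
    have h2 : r ^ (Nat.card Q).factorization r =
        r ^ ((Nat.card Q).factorization r - j) * r ^ j := by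
      rw [← pow_add]; congr 1; omega
    rw [h2] at h1
    exact Nat.eq_of_mul_eq_mul_right (pow_pos hr.out.pos j) h1
  have hle : C.relIndex Q ≤ C.relIndex S := by
    rw [hk, hrelS]
    exact Nat.pow_le_pow_right hr.out.pos (by omega)
  -- the embedding of coset spaces is a bijection
  let φ := Subgroup.quotientSubgroupOfEmbeddingOfLE C hSQ
  have hcard : Nat.card (↥S ⧸ C.subgroupOf S) = Nat.card (↥Q ⧸ C.subgroupOf Q) := by
    apply le_antisymm (Nat.card_le_card_of_injective φ φ.injective)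
    exact hle
  have hbij : Function.Bijective φ :=
    (Nat.bijective_iff_injective_and_card φ).2 ⟨φ.injective, hcard⟩
  intro x hx
  obtain ⟨y, hy⟩ := hbij.2 (QuotientGroup.mk ⟨x, hx⟩)
  obtain ⟨s, rfl⟩ := QuotientGroup.mk_surjective y
  have h1 : (QuotientGroup.mk (Subgroup.inclusion hSQ s) : ↥Q ⧸ C.subgroupOf Q) =
      QuotientGroup.mk ⟨x, hx⟩ := hy
  rw [QuotientGroup.eq, Subgroup.mem_subgroupOf] at h1
  refine ⟨s, s.2, _, h1, ?_⟩
  simp

/-- A faithful group on a plane, generated by elements of order `p`, with a normal `p`-complement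
not centralized by a subgroup `A` of order `p`: it is `SL(2, p)` and `p ≤ 3`. -/
theorem sl2_of_faithful2 [Finite G] {p : ℕ} [hp : Fact p.Prime] {L U R A A' : Subgroup G}
    (hLU : L ≤ Subgroup.normalizer (U : Set G))
    (hfaith : L ⊓ Subgroup.centralizer (U : Set G) = ⊥)
    (hU : Cfsg.IsElementaryAbelian p U) (hUcard : Nat.card U = p ^ 2)
    (hRL : R ≤ L) (hLR : L ≤ Subgroup.normalizer (R : Set G))
    (hRcop : (Nat.card R).Coprime p)
    (hAcard : Nat.card A = p) (hA'card : Nat.card A' = p) (hL : L = A ⊔ A')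
    (hRA : R ⊔ A = L) (hRnA : ¬ R ≤ Subgroup.centralizer (A : Set G)) :
    (p = 2 ∨ p = 3) ∧ Nonempty (↥L ≃* Matrix.SpecialLinearGroup (Fin 2) (ZMod p)) ∧
      (p = 3 → ∃ r₁ ∈ R, ∃ r₂ ∈ R, r₁ * r₂ ≠ r₂ * r₁) := by
  have hAL : A ≤ L := hL ▸ le_sup_left
  have hA'L : A' ≤ L := hL ▸ le_sup_right
  letI : CommGroup ↥U :=
    { (inferInstance : Group ↥U) with
      mul_comm := fun a b => hU.1.is_comm.comm a b }
  have hexp : ∀ v : ↥U, v ^ p = 1 := fun v => Subtype.ext (by
    rw [Subgroup.coe_pow, Subgroup.coe_one]; exact hU.2 v v.2)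
  obtain ⟨Φ, hΦ⟩ := GL2Rep.exists_GL2_rep (V := ↥U) hexp hUcard
  set ρ := conjHom L U hLU with hρ
  have hρinj : Function.Injective ρ := by
    rw [injective_iff_map_eq_one]
    intro l hl
    have h1 : (l : G) ∈ L ⊓ Subgroup.centralizer (U : Set G) := by
      refine ⟨l.2, ?_⟩
      show (l : G) ∈ Subgroup.centralizer (U : Set G)
      rw [Subgroup.mem_centralizer_iff]
      intro u hu
      have h2 := congrArg (fun f : MulAut ↥U => ((f ⟨u, hu⟩ : ↥U) : G)) hl
      simp only [MulAut.one_apply] at h2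
      rw [hρ, conjHom_coe] at h2
      have h3 : (l : G) * u * (l : G)⁻¹ = u := h2
      calc u * (l : G) = ((l : G) * u * (l : G)⁻¹) * l := by rw [h3]
        _ = l * u := by group
    rw [hfaith, Subgroup.mem_bot] at h1
    exact Subtype.ext h1
  set μ' : ↥L →* GL (Fin 2) (ZMod p) := Φ.comp ρ with hμ'
  have hμ'inj : Function.Injective μ' := hΦ.comp hρinj
  -- determinants
  have hdet : ∀ l : ↥L, Matrix.GeneralLinearGroup.det (μ' l) = 1 := by
    set d : ↥L →* (ZMod p)ˣ := Matrix.GeneralLinearGroup.det.comp μ' with hd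
    have hker : ∀ B : Subgroup G, B ≤ L → Nat.card B = p → B.subgroupOf L ≤ d.ker := by
      intro B hBL hB x hx
      rw [Subgroup.mem_subgroupOf] at hx
      rw [MonoidHom.mem_ker]
      apply units_eq_one_of_pow_prime
      rw [← map_pow]
      have h1 : x ^ p = 1 := by
        apply Subtype.ext
        rw [Subgroup.coe_pow, Subgroup.coe_one]
        have h2 : (⟨(x : G), hx⟩ : ↥B) ^ Nat.card B = 1 := pow_card_eq_one'
        rw [hB] at h2
        exact congrArg Subtype.val h2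
      rw [h1, map_one]
    have htop : d.ker = ⊤ := by
      rw [eq_top_iff]
      have h1 : (A ⊔ A').subgroupOf L = A.subgroupOf L ⊔ A'.subgroupOf L :=
        Subgroup.subgroupOf_sup hAL hA'L
      rw [← hL, Subgroup.subgroupOf_self] at h1
      rw [h1]
      exact sup_le (hker A hAL hAcard) (hker A' hA'L hA'card)
    intro l
    have : l ∈ d.ker := by rw [htop]; exact Subgroup.mem_top l
    exact this
  -- a generator of `A`
  have hAne : A ≠ ⊥ := by
    rintro rfl
    rw [Subgroup.card_bot] at hAcard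
    exact hp.out.one_lt.ne hAcard
  obtain ⟨a₀, ha₀1⟩ := (Subgroup.ne_bot_iff_exists_ne_one (H := A)).1 hAne
  have ha₀1' : (a₀ : G) ≠ 1 := fun h1 => ha₀1 (Subtype.ext h1)
  have hord : orderOf (a₀ : G) = p := by
    have hdvd : orderOf (a₀ : G) ∣ p := by
      have h1 : orderOf (a₀ : G) = orderOf a₀ := Subgroup.orderOf_coe a₀
      rw [← hAcard, h1]
      exact orderOf_dvd_natCard a₀
    rcases (Nat.dvd_prime hp.out).1 hdvd with h | h
    · exact absurd (orderOf_eq_one_iff.1 h) ha₀1'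
    · exact h
  have hzA : Subgroup.zpowers (a₀ : G) = A := by
    apply Subgroup.eq_of_le_of_card_ge (Subgroup.zpowers_le.2 a₀.2)
    rw [Nat.card_zpowers, hord, hAcard]
  have hAR : A ⊓ R = ⊥ := by
    apply inf_eq_bot_of_coprime_card
    rw [hAcard]
    exact hRcop.symm
  have hLcard : Nat.card L = p * Nat.card R := by
    rw [← hRA, card_sup_of_le_normalizer (hAL.trans hLR) hAR, hAcard]
  by_cases hp2 : p = 2
  · subst hp2
    refine ⟨Or.inl rfl, ?_⟩
    have h1 : Nat.card ↥L ∣ 6 := by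
      rw [← card_GL2_two]
      exact Subgroup.card_dvd_of_injective μ' hμ'inj
    rw [hLcard] at h1
    have h2 : Nat.card R ∣ 3 := by
      have : (2 : ℕ) * Nat.card R ∣ 2 * 3 := h1
      exact Nat.dvd_of_mul_dvd_mul_left (by norm_num) this
    have h3 : Nat.card R = 3 := by
      rcases (Nat.dvd_prime Nat.prime_three).1 h2 with h | h
      · exfalso
        apply hRnA
        rw [Subgroup.card_eq_one] at h
        rw [h]; exact bot_le
      · exact h
    have h4 : Nat.card ↥L = Nat.card (GL (Fin 2) (ZMod 2)) := by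
      rw [hLcard, h3, card_GL2_two]
    have hbij : Function.Bijective μ' :=
      (Nat.bijective_iff_injective_and_card _).2 ⟨hμ'inj, h4⟩
    exact ⟨⟨(MulEquiv.ofBijective μ' hbij).trans sl2EquivGL2.symm⟩,
      fun h23 => absurd h23 (by norm_num)⟩
  · set μ : ↥L →* Matrix (Fin 2) (Fin 2) (ZMod p) :=
      (Units.coeHom (Matrix (Fin 2) (Fin 2) (ZMod p))).comp μ' with hμ
    have hμinj : Function.Injective μ := by
      intro x y hxy
      apply hμ'inj
      exact Units.ext hxy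
    have hμdet : ∀ g, (μ g).det = 1 := by
      intro g
      have h1 := hdet g
      have h2 : ((Matrix.GeneralLinearGroup.det (μ' g) : (ZMod p)ˣ) : ZMod p) = 1 := by
        rw [h1]; rfl
      exact h2
    set a : ↥L := ⟨(a₀ : G), hAL a₀.2⟩ with ha
    have horda : orderOf a = p ^ 1 := by
      rw [pow_one, ← hord]
      exact (Subgroup.orderOf_coe a).symm
    set R' : Subgroup ↥L := R.subgroupOf L with hR'
    have hR'cop : (Nat.card R').Coprime p := by
      rw [hR', card_subgroupOf_of_le hRL]; exact hRcop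
    haveI hR'n : R'.Normal := (Subgroup.normal_subgroupOf_iff_le_normalizer hRL).2 hLR
    have haR' : a ∈ Subgroup.normalizer (R' : Set ↥L) := by
      rw [Subgroup.normalizer_eq_top]; exact Subgroup.mem_top a
    have hr₀ : ∃ r ∈ R', a * r * a⁻¹ ≠ r := by
      by_contra hcon
      push Not at hcon
      apply hRnA
      intro r hr
      rw [← hzA, Subgroup.mem_centralizer_iff]
      intro y hy
      obtain ⟨k, rfl⟩ := Subgroup.mem_zpowers_iff.1 hy
      have h1 := hcon ⟨r, hRL hr⟩ (by rw [hR', Subgroup.mem_subgroupOf]; exact hr)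
      have h2 : (a₀ : G) * r * (a₀ : G)⁻¹ = r := congrArg Subtype.val h1
      have h3 : Commute (a₀ : G) r := by
        show (a₀ : G) * r = r * a₀
        calc (a₀ : G) * r = ((a₀ : G) * r * (a₀ : G)⁻¹) * a₀ := by group
          _ = r * a₀ := by rw [h2]
      exact (h3.zpow_left k).eq
    obtain ⟨hp3, ⟨eq⟩, ⟨e⟩⟩ := Cfsg.Agent.Lead.SL2P3.main_gen (E := ZMod p) hp2 μ hμinj hμdet a 1
      horda R' hR'cop haR' hr₀
    refine ⟨Or.inr hp3, ?_⟩
    have htop : R' ⊔ Subgroup.zpowers a = ⊤ := by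
      have h1 : Subgroup.zpowers a = A.subgroupOf L := by
        ext x
        rw [Subgroup.mem_subgroupOf, ← hzA, Subgroup.mem_zpowers_iff, Subgroup.mem_zpowers_iff]
        constructor
        · rintro ⟨k, rfl⟩
          exact ⟨k, by rw [Subgroup.coe_zpow]⟩
        · rintro ⟨k, hk⟩
          exact ⟨k, Subtype.ext (by rw [Subgroup.coe_zpow]; exact hk)⟩
      rw [h1, hR', ← Subgroup.subgroupOf_sup hRL hAL, hRA, Subgroup.subgroupOf_self]
    have hnc : ∃ r₁ ∈ R, ∃ r₂ ∈ R, r₁ * r₂ ≠ r₂ * r₁ := by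
      have h0 : (QuaternionGroup.a 1 : QuaternionGroup 2) * QuaternionGroup.xa 0 ≠
          QuaternionGroup.xa 0 * QuaternionGroup.a 1 := by decide
      refine ⟨((eq.symm (QuaternionGroup.a 1) : ↥R') : ↥L), ?_,
        ((eq.symm (QuaternionGroup.xa 0) : ↥R') : ↥L), ?_, ?_⟩
      · exact Subgroup.mem_subgroupOf.1 (eq.symm (QuaternionGroup.a 1)).2
      · exact Subgroup.mem_subgroupOf.1 (eq.symm (QuaternionGroup.xa 0)).2
      · intro hc
        apply h0
        apply eq.symm.injective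
        rw [map_mul, map_mul]
        apply Subtype.ext
        apply Subtype.ext
        simpa using hc
    subst hp3
    exact ⟨⟨(Subgroup.topEquiv.symm.trans (MulEquiv.subgroupCongr htop.symm)).trans e⟩,
      fun _ => hnc⟩


/-- Dedekind-type lemma: `(T ⊔ A) ⊓ Q ≤ T` if `T ≤ Q` and `A ⊓ Q = ⊥`. -/
theorem sup_inf_le_of_disjoint {T A Q : Subgroup G} (hAT : A ≤ Subgroup.normalizer (T : Set G))
    (hTQ : T ≤ Q) (hAQ : A ⊓ Q = ⊥) : (T ⊔ A) ⊓ Q ≤ T := by
  rintro g ⟨hg, hgQ⟩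
  obtain ⟨t, ht, a, ha, rfl⟩ := mem_sup_of_le_normalizer hAT hg
  have h1 : a ∈ A ⊓ Q := by
    refine ⟨ha, ?_⟩
    have : a = t⁻¹ * (t * a) := by group
    rw [this]
    exact Q.mul_mem (Q.inv_mem (hTQ ht)) hgQ
  rw [hAQ, Subgroup.mem_bot] at h1
  rw [h1, mul_one]; exact ht

/-- `A^x ≤ T ⊔ A` for `x ∈ T`, `T` normalized by `A`. -/
theorem conj_le_sup_of_mem {T A : Subgroup G} (hAT : A ≤ Subgroup.normalizer (T : Set G))
    {x : G} (hx : x ∈ T) : A.map (MulAut.conj x).toMonoidHom ≤ T ⊔ A := by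
  rintro _ ⟨a, ha, rfl⟩
  show x * a * x⁻¹ ∈ T ⊔ A
  have h1 : a * x⁻¹ * a⁻¹ ∈ T :=
    (Subgroup.mem_normalizer_iff.1 (hAT ha) x⁻¹).1 (T.inv_mem hx)
  have h2 : x * a * x⁻¹ = (x * (a * x⁻¹ * a⁻¹)) * a := by group
  rw [h2]
  exact Subgroup.mul_mem _ (Subgroup.mem_sup_left (T.mul_mem hx h1)) (Subgroup.mem_sup_right ha)

theorem conj_le_of_mem_of_le {A H : Subgroup G} (hAH : A ≤ H) {x : G} (hx : x ∈ H) :
    A.map (MulAut.conj x).toMonoidHom ≤ H := by
  rintro _ ⟨a, ha, rfl⟩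
  exact H.mul_mem (H.mul_mem hx (hAH ha)) (H.inv_mem hx)

namespace Hyp

variable {p : ℕ} {V H : Subgroup G}

/-- All the information on the group generated by two transvection subgroups. -/
theorem pair_full2 [Finite G] [hp : Fact p.Prime] (h : Hyp p V H) {A A' : Subgroup G}
    (hAH : A ≤ H) (hA'H : A' ≤ H) (hA : IsTrv p V A) (hA' : IsTrv p V A') (hne : A ≠ A')
    (hA'Q : A' ≤ ppc p H ⊔ A) :
    (p = 2 ∨ p = 3) ∧ Nonempty (↥(A ⊔ A') ≃* Matrix.SpecialLinearGroup (Fin 2) (ZMod p)) ∧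
      (p = 3 → ∃ r₁ ∈ (A ⊔ A') ⊓ ppc p H, ∃ r₂ ∈ (A ⊔ A') ⊓ ppc p H, r₁ * r₂ ≠ r₂ * r₁) ∧
      Nat.card ↥((A ⊔ A') ⊓ ppc p H) = p ^ 2 - 1 := by
  obtain ⟨h1, h2, h3, h4, h5, h6, h7, h8⟩ := pair_structure h hAH hA'H hA hA' hne hA'Q
  have hLH : A ⊔ A' ≤ H := sup_le hAH hA'H
  have hLV : A ⊔ A' ≤ Subgroup.normalizer (V : Set G) := hLH.trans h.hHV
  have hUV : ⁅V, A ⊔ A'⁆ ≤ V := Subgroup.le_normalizer_iff_commutator_le_left.1 hLV
  have hLU : A ⊔ A' ≤ Subgroup.normalizer ((⁅V, A ⊔ A'⁆ : Subgroup G) : Set G) :=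
    Subgroup.normalizer_commutator_ge_right V (A ⊔ A')
  have hLR : A ⊔ A' ≤ Subgroup.normalizer ((((A ⊔ A') ⊓ ppc p H : Subgroup G)) : Set G) :=
    le_normalizer_inf Subgroup.le_normalizer (hLH.trans (le_normalizer_ppc p H))
  obtain ⟨h9, ⟨e⟩, h11⟩ := sl2_of_faithful2 hLU h8
    (Cfsg.Agent.Helper2.isElementaryAbelian_of_le h.hV hUV) h3
    inf_le_left hLR
    (Nat.Coprime.coprime_dvd_left (Subgroup.card_dvd_of_le inf_le_right) (card_ppc_coprime p H))
    hA.card hA'.card rfl h1 h2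
  refine ⟨h9, ⟨e⟩, h11, ?_⟩
  have hAR : A ⊓ ((A ⊔ A') ⊓ ppc p H) = ⊥ := by
    rw [eq_bot_iff, ← inf_ppc_eq_bot (H := H) hA.isPGroup]
    exact inf_le_inf_left _ inf_le_right
  have hc1 : Nat.card ↥(A ⊔ A') = p * Nat.card ↥((A ⊔ A') ⊓ ppc p H) := by
    conv_lhs => rw [← h1]
    rw [card_sup_of_le_normalizer (le_sup_left.trans hLR) hAR, hA.card]
  have hc2 : Nat.card ↥(A ⊔ A') = p * (p ^ 2 - 1) := by
    rw [Nat.card_congr e.toEquiv, Cfsg.Agent.Helper5.SLB.card_SL2', ZMod.card]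
  rw [hc1] at hc2
  exact Nat.eq_of_mul_eq_mul_left hp.out.pos hc2

/-- An `A`-invariant `r`-subgroup of the `p'`-core, `r` not dividing `p² - 1`, is centralized
by `A`. -/
theorem le_centralizer_of_invariant [Finite G] [hp : Fact p.Prime] (h : Hyp p V H)
    {A : Subgroup G} (hAH : A ≤ H) (hA : IsTrv p V A) {r₀ m : ℕ} (hr₀ : r₀.Prime)
    (hm : p ^ 2 - 1 = r₀ ^ m) {r : ℕ} [hr : Fact r.Prime] (hrr : r ≠ r₀) {T : Subgroup G}
    (hTQ : T ≤ ppc p H) (hT : IsPGroup r T) (hAT : A ≤ Subgroup.normalizer (T : Set G)) :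
    T ≤ Subgroup.centralizer (A : Set G) := by
  by_contra hcon
  obtain ⟨x, hxT, hxA⟩ := SetLike.not_le_iff_exists.1 hcon
  have hxQ : x ∈ ppc p H := hTQ hxT
  have hxH : x ∈ H := ppc_le p H hxQ
  have hA'H := conj_le_of_mem_of_le hAH hxH
  have hT' := hA.conj (h.hHV hxH)
  have hne := conj_ne (H := H) hAH hA.isPGroup hxQ hxA
  have hQ := conj_le_ppc_sup (p := p) hAH hxQ
  obtain ⟨-, h2, -⟩ := pair_structure h hAH hA'H hA hT' hne hQ
  obtain ⟨-, -, -, hcard⟩ := h.pair_full2 hAH hA'H hA hT' hne hQ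
  set R := (A ⊔ A.map (MulAut.conj x).toMonoidHom) ⊓ ppc p H with hR
  have hRT : R ≤ T := by
    refine le_trans ?_ (sup_inf_le_of_disjoint hAT hTQ (inf_ppc_eq_bot (H := H) hA.isPGroup))
    exact inf_le_inf_right _ (sup_le le_sup_right (conj_le_sup_of_mem hAT hxT))
  obtain ⟨i, hi⟩ := IsPGroup.iff_card.1 (hT.to_le hRT)
  have hRne : R ≠ ⊥ := by
    intro hb
    apply h2
    rw [hb]; exact bot_le
  have hi0 : i ≠ 0 := by
    rintro rfl
    rw [pow_zero, Subgroup.card_eq_one] at hi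
    exact hRne hi
  rw [hcard, hm] at hi
  have h3 : r ∣ r₀ ^ m := by rw [hi]; exact dvd_pow_self r hi0
  have h4 : r ∣ r₀ := hr.out.dvd_of_dvd_pow h3
  exact hrr ((Nat.prime_dvd_prime_iff_eq hr.out hr₀).1 h4)

/-- The commutator of the `p'`-core with a transvection subgroup is an `r₀`-group, where
`p² - 1` is a power of `r₀`. -/
theorem isPGroup_commutator_ppc [Finite G] [hp : Fact p.Prime] (h : Hyp p V H)
    {A : Subgroup G} (hAH : A ≤ H) (hA : IsTrv p V A) {r₀ m : ℕ} [hr₀ : Fact r₀.Prime]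
    (hm : p ^ 2 - 1 = r₀ ^ m) : IsPGroup r₀ ↥(⁅ppc p H, A⁆) := by
  set Q := ppc p H with hQ
  have hAQ : A ≤ Subgroup.normalizer (Q : Set G) := hAH.trans (le_normalizer_ppc p H)
  have hcop : (Nat.card A).Coprime (Nat.card Q) := by
    rw [hA.card]; exact (card_ppc_coprime p H).symm
  haveI : Group.IsNilpotent ↥A := hA.isPGroup.isNilpotent
  have hsolv : Group.IsSolvable ↥A ∨ Group.IsSolvable ↥Q := Or.inl inferInstance
  set C := Q ⊓ Subgroup.centralizer (A : Set G) with hC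
  have hCQ : C ≤ Q := inf_le_left
  have hmul := relIndex_mul_card_of_le hCQ
  have hn0 : C.relIndex Q ≠ 0 := by
    intro h0
    rw [h0, zero_mul] at hmul
    exact Nat.card_pos.ne hmul
  have hpow : C.relIndex Q = r₀ ^ (C.relIndex Q).primeFactorsList.length := by
    apply Nat.eq_prime_pow_of_unique_prime_dvd hn0
    intro d hd hdn
    by_contra hdr
    haveI : Fact d.Prime := ⟨hd⟩
    obtain ⟨Pd, hPd⟩ := exists_invariant_sylow (p := d) A Q hAQ hcop hsolv
    have hTC : (Pd : Subgroup Q).map Q.subtype ≤ C := by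
      refine le_inf (Subgroup.map_subtype_le _) ?_
      exact h.le_centralizer_of_invariant hAH hA hr₀.out hm hdr (Subgroup.map_subtype_le _)
        (Pd.isPGroup'.map _) hPd
    have h1 : d ^ (Nat.card Q).factorization d ∣ Nat.card C := by
      have h2 : Nat.card ((Pd : Subgroup Q).map Q.subtype) = d ^ (Nat.card Q).factorization d := by
        rw [Subgroup.card_map_of_injective Q.subtype_injective]
        exact Pd.card_eq_multiplicity
      rw [← h2]
      exact Subgroup.card_dvd_of_le hTC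
    have h3 : (Nat.card Q).factorization d ≤ (Nat.card C).factorization d :=
      (hd.pow_dvd_iff_le_factorization Nat.card_pos.ne').1 h1
    have h4 : (Nat.card Q).factorization d =
        (C.relIndex Q).factorization d + (Nat.card C).factorization d := by
      rw [← hmul, Nat.factorization_mul hn0 Nat.card_pos.ne', Finsupp.add_apply]
    have h5 : 1 ≤ (C.relIndex Q).factorization d :=
      (hd.dvd_iff_one_le_factorization hn0).1 hdn
    omega
  obtain ⟨P, hP⟩ := exists_invariant_sylow (p := r₀) A Q hAQ hcop hsolv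
  have hdecomp := exists_mul_of_sylow hCQ P _ hpow
  set S := (P : Subgroup Q).map Q.subtype with hS
  have hSp : IsPGroup r₀ S := P.isPGroup'.map _
  apply hSp.to_le
  rw [Subgroup.commutator_le]
  intro x hx a ha
  obtain ⟨s, hs, c, hc, rfl⟩ := hdecomp x hx
  have hca : a * c = c * a := (Subgroup.mem_centralizer_iff.1 hc.2) a ha
  have h1 : a * s⁻¹ * a⁻¹ ∈ S := (Subgroup.mem_normalizer_iff.1 (hP ha) s⁻¹).1 (S.inv_mem hs)
  have h2 : ⁅s * c, a⁆ = s * (a * s⁻¹ * a⁻¹) := by
    rw [commutatorElement_def]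
    calc s * c * a * (s * c)⁻¹ * a⁻¹ = s * (c * a) * c⁻¹ * s⁻¹ * a⁻¹ := by group
      _ = s * (a * c) * c⁻¹ * s⁻¹ * a⁻¹ := by rw [hca]
      _ = s * (a * s⁻¹ * a⁻¹) := by group
  rw [h2]
  exact S.mul_mem hs h1

/-- An element of the `p'`-core not centralizing `A`. -/
theorem exists_not_mem_centralizer [Finite G] [hp : Fact p.Prime] (h : Hyp p V H)
    {A : Subgroup G} (hAH : A ≤ H) (hA : IsTrv p V A) :
    ∃ x ∈ ppc p H, x ∉ Subgroup.centralizer (A : Set G) := by
  have h1 := h.inf_centralizer_ppc hAH hA.isPGroup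
  have h2 : ¬ ppc p H ≤ Subgroup.centralizer (A : Set G) := by
    intro hc
    rw [Subgroup.le_centralizer_iff] at hc
    apply hA.ne_bot
    rw [eq_bot_iff, ← h1]
    exact le_inf le_rfl hc
  exact SetLike.not_le_iff_exists.1 h2

/-- S0614. -/
theorem commutator_ppc_structure [Finite G] [hp : Fact p.Prime] (h : Hyp p V H)
    {A : Subgroup G} (hAH : A ≤ H) (hA : IsTrv p V A) :
    (p = 2 ∧ IsPGroup 3 ↥(⁅ppc p H, A⁆)) ∨
      (p = 3 ∧ IsPGroup 2 ↥(⁅ppc p H, A⁆) ∧ ¬ IsMulCommutative ↥(⁅ppc p H, A⁆)) := by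
  obtain ⟨x, hxQ, hxA⟩ := h.exists_not_mem_centralizer hAH hA
  have hxH : x ∈ H := ppc_le p H hxQ
  have hA'H := conj_le_of_mem_of_le hAH hxH
  have hT' := hA.conj (h.hHV hxH)
  have hne := conj_ne (H := H) hAH hA.isPGroup hxQ hxA
  have hQ := conj_le_ppc_sup (p := p) hAH hxQ
  obtain ⟨h23, -, hnc, -⟩ := h.pair_full2 hAH hA'H hA hT' hne hQ
  rcases h23 with h2 | h3
  · left
    refine ⟨h2, ?_⟩
    haveI : Fact (Nat.Prime 3) := ⟨Nat.prime_three⟩
    exact h.isPGroup_commutator_ppc hAH hA (r₀ := 3) (m := 1) (by rw [h2]; norm_num)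
  · right
    refine ⟨h3, ?_, ?_⟩
    · haveI : Fact (Nat.Prime 2) := ⟨Nat.prime_two⟩
      exact h.isPGroup_commutator_ppc hAH hA (r₀ := 2) (m := 3) (by rw [h3]; norm_num)
    · intro hcomm
      obtain ⟨r₁, hr₁, r₂, hr₂, hr⟩ := hnc h3
      -- `R ≤ [Q, A]`
      have hAN : A ≤ Subgroup.normalizer ((⁅ppc p H, A⁆ : Subgroup G) : Set G) :=
        Subgroup.normalizer_commutator_ge_right _ _
      have hNQ : ⁅ppc p H, A⁆ ≤ ppc p H :=
        Subgroup.le_normalizer_iff_commutator_le_left.1 (hAH.trans (le_normalizer_ppc p H))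
      have hA'N : A.map (MulAut.conj x).toMonoidHom ≤ ⁅ppc p H, A⁆ ⊔ A := by
        rintro _ ⟨a, ha, rfl⟩
        show x * a * x⁻¹ ∈ ⁅ppc p H, A⁆ ⊔ A
        have : x * a * x⁻¹ = ⁅x, a⁆ * a := by rw [commutatorElement_def]; group
        rw [this]
        exact Subgroup.mul_mem _ (Subgroup.mem_sup_left
          (Subgroup.commutator_mem_commutator hxQ ha)) (Subgroup.mem_sup_right ha)
      have hRN : (A ⊔ A.map (MulAut.conj x).toMonoidHom) ⊓ ppc p H ≤ ⁅ppc p H, A⁆ := by
        refine le_trans ?_ (sup_inf_le_of_disjoint hAN hNQ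
          (inf_ppc_eq_bot (H := H) hA.isPGroup))
        exact inf_le_inf_right _ (sup_le le_sup_right hA'N)
      apply hr
      have := hcomm.is_comm.comm ⟨r₁, hRN hr₁⟩ ⟨r₂, hRN hr₂⟩
      exact congrArg Subtype.val this

end Hyp

end Cfsg.Agent.Helper1.FFact
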