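import Mathlib
import Cfsg.Prelude.Def_PLocal
import Cfsg.Agent.Helper1.FFact6

set_option autoImplicit false

/-!
Failure of factorization: all the planes `[V, ⟨A, A^x⟩]`, `x` in the `p'`-core, coincide
with `[V, [O_{p'}(H), A]]`.
-/

namespace Cfsg.Agent.Helper1.FFact

open scoped Pointwise commutatorElement

open Cfsg.Agent.Helper1

universe u

variable {G : Type u} [Group G]

/-- `[V, K] ≤ M` if it holds for generators of `K`, where `K` normalizes `M`. -/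
theorem commutator_le_of_closure {V M K : Subgroup G} (S : Set G) (hKS : K = Subgroup.closure S)
    (hKM : K ≤ Subgroup.normalizer (M : Set G)) (h : ∀ g ∈ S, ∀ v ∈ V, ⁅v, g⁆ ∈ M) :
    ⁅V, K⁆ ≤ M := by
  let T : Subgroup G :=
    { carrier := {g | g ∈ Subgroup.normalizer (M : Set G) ∧ ∀ v ∈ V, ⁅v, g⁆ ∈ M}
      one_mem' := by
        refine ⟨Subgroup.one_mem _, fun v _ => ?_⟩
        rw [commutatorElement_one_right]; exact M.one_mem
      mul_mem' := by
        rintro g k ⟨hg, hg'⟩ ⟨hk, hk'⟩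
        refine ⟨Subgroup.mul_mem _ hg hk, fun v hv => ?_⟩
        have h1 : ⁅v, g * k⁆ = ⁅v, g⁆ * (g * ⁅v, k⁆ * g⁻¹) := by
          rw [commutatorElement_def, commutatorElement_def, commutatorElement_def]; group
        rw [h1]
        exact M.mul_mem (hg' v hv) ((Subgroup.mem_normalizer_iff.1 hg _).1 (hk' v hv))
      inv_mem' := by
        rintro g ⟨hg, hg'⟩
        refine ⟨Subgroup.inv_mem _ hg, fun v hv => ?_⟩
        have h1 : ⁅v, g⁻¹⁆ = g⁻¹ * (⁅v, g⁆)⁻¹ * g⁻¹⁻¹ := by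
          rw [commutatorElement_def, commutatorElement_def]; group
        rw [h1]
        exact (Subgroup.mem_normalizer_iff.1 (Subgroup.inv_mem _ hg) _).1
          (M.inv_mem (hg' v hv)) }
  have hKT : K ≤ T := by
    rw [hKS, Subgroup.closure_le]
    intro g hg
    refine ⟨hKM ?_, h g hg⟩
    rw [hKS]; exact Subgroup.subset_closure hg
  rw [Subgroup.commutator_le]
  intro v hv g hg
  exact (hKT hg).2 v hv

namespace Hyp

variable {p : ℕ} {V H : Subgroup G}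

/-- A transvection subgroup centralizes its commutator. -/
theorem IsTrv_centralizes [Finite G] [hp : Fact p.Prime] (h : Hyp p V H) {A : Subgroup G}
    (hAH : A ≤ H) (hA : IsTrv p V A) : A ≤ Subgroup.centralizer ((⁅V, A⁆ : Subgroup G) : Set G) := by
  have hAV : A ≤ Subgroup.normalizer (V : Set G) := hAH.trans h.hHV
  have hZV : ⁅V, A⁆ ≤ V := Subgroup.le_normalizer_iff_commutator_le_left.1 hAV
  have hZp : IsPGroup p ↥(⁅V, A⁆) := h.isPGroup_V.to_le hZV
  have hAZ : A ≤ Subgroup.normalizer ((⁅V, A⁆ : Subgroup G) : Set G) :=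
    Subgroup.normalizer_commutator_ge_right V A
  have hZne : ⁅V, A⁆ ≠ ⊥ := by
    intro hb
    have := hA.comm
    rw [hb, Subgroup.card_bot] at this
    exact hp.out.one_lt.ne this
  have h1 : ⁅⁅V, A⁆, A⁆ < ⁅V, A⁆ := commutator_lt_of_isPGroup hZp hA.isPGroup hAZ hZne
  have h2 : ⁅⁅V, A⁆, A⁆ = ⊥ := by
    have h3 := Subgroup.card_dvd_of_le h1.le
    rw [hA.comm] at h3
    rcases (Nat.dvd_prime hp.out).1 h3 with h4 | h4
    · exact Subgroup.card_eq_one.1 h4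
    · exfalso
      have := Subgroup.eq_of_le_of_card_ge h1.le (by rw [h4, hA.comm])
      exact h1.ne this
  rw [Subgroup.commutator_eq_bot_iff_le_centralizer, Subgroup.le_centralizer_iff] at h2
  exact h2

/-- The union of the conjugates of `[V, A]` under the `p'`-core is a subgroup. -/
theorem exists_union_subgroup [Finite G] [hp : Fact p.Prime] (h : Hyp p V H) {A : Subgroup G}
    (hAH : A ≤ H) (hA : IsTrv p V A) :
    ∃ M : Subgroup G, (∀ v, v ∈ M ↔ ∃ n ∈ ppc p H, ∃ ζ ∈ ⁅V, A⁆, v = n * ζ * n⁻¹) := by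
  set Q := ppc p H with hQ
  set Z := ⁅V, A⁆ with hZ
  have hQH : Q ≤ H := ppc_le p H
  have hAV : A ≤ Subgroup.normalizer (V : Set G) := hAH.trans h.hHV
  have hZV : Z ≤ V := Subgroup.le_normalizer_iff_commutator_le_left.1 hAV
  have hAQ : A ≤ Subgroup.normalizer (Q : Set G) := hAH.trans (le_normalizer_ppc p H)
  have hAcZ := h.IsTrv_centralizes hAH hA
  have hcommV := h.commV
  obtain ⟨a, haA, ha1, horda, hza⟩ := hA.exists_generator
  -- the key claim
  have key : ∀ n ∈ Q, ∀ ζ₁ ∈ Z, ∀ ζ₂ ∈ Z, ∃ n' ∈ Q, ∃ ζ' ∈ Z,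
      ζ₁ * (n * ζ₂ * n⁻¹) = n' * ζ' * n'⁻¹ := by
    intro n hn ζ₁ hζ₁ ζ₂ hζ₂
    by_cases hζ₂1 : ζ₂ = 1
    · refine ⟨1, Q.one_mem, ζ₁, hζ₁, ?_⟩
      rw [hζ₂1]; group
    set w := n * ζ₂ * n⁻¹ with hw
    by_cases hwZ : w ∈ Z
    · refine ⟨1, Q.one_mem, ζ₁ * w, Z.mul_mem hζ₁ hwZ, ?_⟩
      group
    have hnH : n ∈ H := hQH hn
    have hnV : n ∈ Subgroup.normalizer (V : Set G) := h.hHV hnH
    set B := A.map (MulAut.conj n).toMonoidHom with hB
    have hBH : B ≤ H := conj_le_of_mem_of_le hAH hnH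
    have hBT : IsTrv p V B := hA.conj hnV
    have hVB : ⁅V, B⁆ = Z.map (MulAut.conj n).toMonoidHom := by
      have hV' : V.map (MulAut.conj n).toMonoidHom = V :=
        ((Subgroup.mem_normalizer_iff_map_conj_eq (H := V)).1 hnV)
      rw [hB, hZ, Subgroup.map_commutator, hV']
    have hwB : w ∈ ⁅V, B⁆ := by
      rw [hVB]; exact ⟨ζ₂, hζ₂, rfl⟩
    have hw1 : w ≠ 1 := by
      intro h1
      apply hζ₂1
      have : ζ₂ = n⁻¹ * w * n := by rw [hw]; group
      rw [this, h1]; group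
    have hzw : Subgroup.zpowers w = ⁅V, B⁆ := by
      apply Subgroup.eq_of_le_of_card_ge (Subgroup.zpowers_le.2 hwB)
      rw [hBT.comm, Nat.card_zpowers]
      have h1 : orderOf w ∣ p := by
        rw [← hBT.comm]
        have := orderOf_dvd_natCard (⟨w, hwB⟩ : ↥(⁅V, B⁆))
        rwa [Subgroup.orderOf_mk] at this
      rcases (Nat.dvd_prime hp.out).1 h1 with h2 | h2
      · exact absurd (orderOf_eq_one_iff.1 h2) hw1
      · rw [h2]
    have hne : A ≠ B := by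
      intro heq
      apply hwZ
      rw [hZ, heq]; exact hwB
    have hBQ : B ≤ Q ⊔ A := conj_le_ppc_sup (p := p) hAH hn
    obtain ⟨-, -, -, -, -, -, -, h8⟩ := pair_structure h hAH hBH hA hBT hne hBQ
    have hU : ⁅V, A ⊔ B⁆ = Z ⊔ Subgroup.zpowers w := by
      rw [commutator_sup hAV (hBH.trans h.hHV), hzw]
    -- `ζ = [a, w]`
    have hwV : w ∈ V := (Subgroup.le_normalizer_iff_commutator_le_left.1
      (hBH.trans h.hHV) : ⁅V, B⁆ ≤ V) hwB
    set ζ := ⁅a, w⁆ with hζ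
    have hζZ : ζ ∈ Z := by
      have h1 : ⁅w, a⁆ ∈ Z := Subgroup.commutator_mem_commutator hwV haA
      have h2 : ζ = (⁅w, a⁆)⁻¹ := by rw [hζ, commutatorElement_inv]
      rw [h2]; exact Z.inv_mem h1
    have hζ1 : ζ ≠ 1 := by
      intro h1
      rw [hζ, commutatorElement_eq_one_iff_commute] at h1
      have h2 : a ∈ (A ⊔ B) ⊓ Subgroup.centralizer ((⁅V, A ⊔ B⁆ : Subgroup G) : Set G) := by
        refine ⟨Subgroup.mem_sup_left haA, ?_⟩
        rw [hU]
        apply Cfsg.Agent.Helper2.inf_centralizer_le_centralizer_sup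
        refine ⟨hAcZ haA, ?_⟩
        show a ∈ Subgroup.centralizer ((Subgroup.zpowers w : Subgroup G) : Set G)
        rw [Subgroup.mem_centralizer_iff]
        intro y hy
        obtain ⟨k, rfl⟩ := Subgroup.mem_zpowers_iff.1 hy
        exact ((h1.zpow_right k).eq).symm
      rw [h8, Subgroup.mem_bot] at h2
      exact ha1 h2
    have hzζ : Subgroup.zpowers ζ = Z := by
      apply Subgroup.eq_of_le_of_card_ge (Subgroup.zpowers_le.2 hζZ)
      rw [hA.comm, Nat.card_zpowers]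
      have h1 : orderOf ζ ∣ p := by
        rw [← hA.comm]
        have := orderOf_dvd_natCard (⟨ζ, hζZ⟩ : ↥Z)
        rwa [Subgroup.orderOf_mk] at this
      rcases (Nat.dvd_prime hp.out).1 h1 with h2 | h2
      · exact absurd (orderOf_eq_one_iff.1 h2) hζ1
      · rw [h2]
    have hζ₁' : ζ₁ ∈ Subgroup.zpowers ζ := by rw [hzζ]; exact hζ₁
    have hfin : IsOfFinOrder ζ := isOfFinOrder_of_finite ζ
    rw [← hfin.mem_powers_iff_mem_zpowers] at hζ₁'
    obtain ⟨i, rfl⟩ := hζ₁'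
    -- `a` centralizes `ζ`
    have haζ : a * ζ = ζ * a := by
      have := (Subgroup.mem_centralizer_iff.1 (hAcZ haA)) ζ hζZ
      exact this.symm
    have hawa : a * w * a⁻¹ = ζ * w := by
      rw [hζ, commutatorElement_def]; group
    have hpow : ∀ i : ℕ, a ^ i * w * (a ^ i)⁻¹ = ζ ^ i * w := by
      intro i
      induction i with
      | zero => simp
      | succ i ih =>
        calc a ^ (i + 1) * w * (a ^ (i + 1))⁻¹ = a * (a ^ i * w * (a ^ i)⁻¹) * a⁻¹ := by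
              rw [pow_succ']; group
          _ = a * (ζ ^ i * w) * a⁻¹ := by rw [ih]
          _ = (a * ζ ^ i * a⁻¹) * (a * w * a⁻¹) := by group
          _ = ζ ^ i * (ζ * w) := by
              rw [hawa]
              have : a * ζ ^ i * a⁻¹ = ζ ^ i := by
                have hc : Commute a ζ := haζ
                have := (hc.pow_right i).eq
                rw [this]; group
              rw [this]
          _ = ζ ^ (i + 1) * w := by rw [pow_succ]; group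
    refine ⟨a ^ i * n * (a ^ i)⁻¹, ?_, ζ₂, hζ₂, ?_⟩
    · exact (Subgroup.mem_normalizer_iff.1 (hAQ (A.pow_mem haA i)) n).1 hn
    · have hc2 : a ^ i * ζ₂ = ζ₂ * a ^ i := by
        have := (Subgroup.mem_centralizer_iff.1 (hAcZ (A.pow_mem haA i))) ζ₂ hζ₂
        exact this.symm
      show ζ ^ i * w = _
      rw [← hpow i, hw]
      have h3 : (a ^ i)⁻¹ * ζ₂ * a ^ i = ζ₂ := by
        calc (a ^ i)⁻¹ * ζ₂ * a ^ i = (a ^ i)⁻¹ * (ζ₂ * a ^ i) := by group
          _ = (a ^ i)⁻¹ * (a ^ i * ζ₂) := by rw [hc2]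
          _ = ζ₂ := by group
      calc a ^ i * (n * ζ₂ * n⁻¹) * (a ^ i)⁻¹
          = a ^ i * n * ζ₂ * n⁻¹ * (a ^ i)⁻¹ := by group
        _ = a ^ i * n * ((a ^ i)⁻¹ * ζ₂ * a ^ i) * n⁻¹ * (a ^ i)⁻¹ := by rw [h3]
        _ = a ^ i * n * (a ^ i)⁻¹ * ζ₂ * (a ^ i * n * (a ^ i)⁻¹)⁻¹ := by group
  refine ⟨{ carrier := {v | ∃ n ∈ Q, ∃ ζ ∈ Z, v = n * ζ * n⁻¹}
            one_mem' := ⟨1, Q.one_mem, 1, Z.one_mem, by group⟩
            mul_mem' := ?_
            inv_mem' := ?_ }, fun v => Iff.rfl⟩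
  · rintro _ _ ⟨n₁, hn₁, ζ₁, hζ₁, rfl⟩ ⟨n₂, hn₂, ζ₂, hζ₂, rfl⟩
    obtain ⟨n', hn', ζ', hζ', heq⟩ := key (n₁⁻¹ * n₂) (Q.mul_mem (Q.inv_mem hn₁) hn₂) ζ₁ hζ₁ ζ₂ hζ₂
    refine ⟨n₁ * n', Q.mul_mem hn₁ hn', ζ', hζ', ?_⟩
    calc n₁ * ζ₁ * n₁⁻¹ * (n₂ * ζ₂ * n₂⁻¹)
        = n₁ * (ζ₁ * (n₁⁻¹ * n₂ * ζ₂ * (n₁⁻¹ * n₂)⁻¹)) * n₁⁻¹ := by group
      _ = n₁ * (n' * ζ' * n'⁻¹) * n₁⁻¹ := by rw [heq]
      _ = n₁ * n' * ζ' * (n₁ * n')⁻¹ := by group
  · rintro _ ⟨n, hn, ζ, hζ, rfl⟩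
    exact ⟨n, hn, ζ⁻¹, Z.inv_mem hζ, by group⟩

/-- `⟨A, A^x⟩ ∩ O_{p'}(H) ≤ [O_{p'}(H), A]`. -/
theorem pair_inf_ppc_le [Finite G] [hp : Fact p.Prime] {A : Subgroup G} (hAH : A ≤ H)
    (hA : IsPGroup p A) {x : G} (hxQ : x ∈ ppc p H) :
    (A ⊔ A.map (MulAut.conj x).toMonoidHom) ⊓ ppc p H ≤ ⁅ppc p H, A⁆ := by
  have hAN : A ≤ Subgroup.normalizer ((⁅ppc p H, A⁆ : Subgroup G) : Set G) :=
    Subgroup.normalizer_commutator_ge_right _ _
  have hNQ : ⁅ppc p H, A⁆ ≤ ppc p H :=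
    Subgroup.le_normalizer_iff_commutator_le_left.1 (hAH.trans (le_normalizer_ppc p H))
  have hA'N : A.map (MulAut.conj x).toMonoidHom ≤ ⁅ppc p H, A⁆ ⊔ A := by
    rintro _ ⟨a, ha, rfl⟩
    show x * a * x⁻¹ ∈ ⁅ppc p H, A⁆ ⊔ A
    have : x * a * x⁻¹ = ⁅x, a⁆ * a := by rw [commutatorElement_def]; group
    rw [this]
    exact Subgroup.mul_mem _ (Subgroup.mem_sup_left
      (Subgroup.commutator_mem_commutator hxQ ha)) (Subgroup.mem_sup_right ha)
  refine le_trans ?_ (sup_inf_le_of_disjoint hAN hNQ (inf_ppc_eq_bot (H := H) hA))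
  exact inf_le_inf_right _ (sup_le le_sup_right hA'N)

/-- All the planes `[V, ⟨A, A^x⟩]` coincide with `[V, [O_{p'}(H), A]]`. -/
theorem commutator_commutator_ppc_eq [Finite G] [hp : Fact p.Prime] (h : Hyp p V H)
    {A : Subgroup G} (hAH : A ≤ H) (hA : IsTrv p V A) {x : G} (hxQ : x ∈ ppc p H)
    (hxA : x ∉ Subgroup.centralizer (A : Set G)) :
    ⁅V, ⁅ppc p H, A⁆⁆ = ⁅V, A ⊔ A.map (MulAut.conj x).toMonoidHom⁆ := by
  obtain ⟨M, hM⟩ := h.exists_union_subgroup hAH hA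
  set Q := ppc p H with hQ
  set Z := ⁅V, A⁆ with hZ
  have hQH : Q ≤ H := ppc_le p H
  have hAV : A ≤ Subgroup.normalizer (V : Set G) := hAH.trans h.hHV
  have hZV : Z ≤ V := Subgroup.le_normalizer_iff_commutator_le_left.1 hAV
  have hAcZ := h.IsTrv_centralizes hAH hA
  have hcommV := h.commV
  obtain ⟨a, haA, ha1, horda, hza⟩ := hA.exists_generator
  have hxH : x ∈ H := hQH hxQ
  have hA'H := conj_le_of_mem_of_le hAH hxH
  have hT' := hA.conj (h.hHV hxH)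
  have hne := conj_ne (H := H) hAH hA.isPGroup hxQ hxA
  have hQ' := conj_le_ppc_sup (p := p) hAH hxQ
  obtain ⟨-, -, h3, h4, -, h6, h7, -⟩ := pair_structure h hAH hA'H hA hT' hne hQ'
  set L := A ⊔ A.map (MulAut.conj x).toMonoidHom with hL
  set K := V ⊓ Subgroup.centralizer (L : Set G) with hK
  have hMV : M ≤ V := by
    intro v hv
    obtain ⟨n, hn, ζ, hζ, rfl⟩ := (hM v).1 hv
    exact (Subgroup.mem_normalizer_iff.1 (h.hHV (hQH hn)) ζ).1 (hZV hζ)
  -- `M ∩ K = 1`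
  have hMK : M ⊓ K = ⊥ := by
    rw [eq_bot_iff]
    rintro v ⟨hvM, hvK⟩
    rw [Subgroup.mem_bot]
    by_contra hv1
    by_cases hvZ : v ∈ Z
    · have h1 : v ∈ ⁅V, L⁆ ⊓ K :=
        ⟨(Subgroup.commutator_mono le_rfl le_sup_left : Z ≤ ⁅V, L⁆) hvZ, hvK⟩
      rw [h6, Subgroup.mem_bot] at h1
      exact hv1 h1
    · obtain ⟨n, hn, ζ, hζ, hvn⟩ := (hM v).1 hvM
      have hnH : n ∈ H := hQH hn
      have hnV : n ∈ Subgroup.normalizer (V : Set G) := h.hHV hnH
      set B := A.map (MulAut.conj n).toMonoidHom with hB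
      have hBH : B ≤ H := conj_le_of_mem_of_le hAH hnH
      have hBT : IsTrv p V B := hA.conj hnV
      have hVB : ⁅V, B⁆ = Z.map (MulAut.conj n).toMonoidHom := by
        have hV' : V.map (MulAut.conj n).toMonoidHom = V :=
          ((Subgroup.mem_normalizer_iff_map_conj_eq (H := V)).1 hnV)
        rw [hB, hZ, Subgroup.map_commutator, hV']
      have hvB : v ∈ ⁅V, B⁆ := by
        rw [hVB, hvn]; exact ⟨ζ, hζ, rfl⟩
      have hzv : Subgroup.zpowers v = ⁅V, B⁆ := by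
        apply Subgroup.eq_of_le_of_card_ge (Subgroup.zpowers_le.2 hvB)
        rw [hBT.comm, Nat.card_zpowers]
        have h1 : orderOf v ∣ p := by
          rw [← hBT.comm]
          have := orderOf_dvd_natCard (⟨v, hvB⟩ : ↥(⁅V, B⁆))
          rwa [Subgroup.orderOf_mk] at this
        rcases (Nat.dvd_prime hp.out).1 h1 with h2 | h2
        · exact absurd (orderOf_eq_one_iff.1 h2) hv1
        · rw [h2]
      have hneB : A ≠ B := by
        intro heq
        apply hvZ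
        rw [hZ, heq]; exact hvB
      have hBQ : B ≤ Q ⊔ A := conj_le_ppc_sup (p := p) hAH hn
      obtain ⟨-, -, -, -, -, -, -, h8⟩ := pair_structure h hAH hBH hA hBT hneB hBQ
      have hU : ⁅V, A ⊔ B⁆ = Z ⊔ Subgroup.zpowers v := by
        rw [commutator_sup hAV (hBH.trans h.hHV), hzv]
      have hav : Commute a v := by
        have h1 : v ∈ Subgroup.centralizer (L : Set G) := hvK.2
        exact (Subgroup.mem_centralizer_iff.1 h1) a (Subgroup.mem_sup_left haA)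
      have h2 : a ∈ (A ⊔ B) ⊓ Subgroup.centralizer ((⁅V, A ⊔ B⁆ : Subgroup G) : Set G) := by
        refine ⟨Subgroup.mem_sup_left haA, ?_⟩
        rw [hU]
        apply Cfsg.Agent.Helper2.inf_centralizer_le_centralizer_sup
        refine ⟨hAcZ haA, ?_⟩
        show a ∈ Subgroup.centralizer ((Subgroup.zpowers v : Subgroup G) : Set G)
        rw [Subgroup.mem_centralizer_iff]
        intro y hy
        obtain ⟨k, rfl⟩ := Subgroup.mem_zpowers_iff.1 hy
        exact ((hav.zpow_right k).eq).symm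
      rw [h8, Subgroup.mem_bot] at h2
      exact ha1 h2
  -- `|M| ≤ p²`
  have hKV : K ≤ V := inf_le_left
  have hMcard : Nat.card M ≤ p ^ 2 := by
    have hn1 : K ≤ Subgroup.normalizer (M : Set G) :=
      Cfsg.Agent.Helper2.le_normalizer_of_comm hcommV hKV hMV
    have h1 := card_sup_mul_card_inf hn1
    rw [hMK, Subgroup.card_bot, mul_one] at h1
    have hn2 : K ≤ Subgroup.normalizer ((⁅V, L⁆ : Subgroup G) : Set G) :=
      Cfsg.Agent.Helper2.le_normalizer_of_comm hcommV hKV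
        (Subgroup.le_normalizer_iff_commutator_le_left.1 ((sup_le hAH hA'H).trans h.hHV))
    have h2 := card_sup_mul_card_inf hn2
    rw [h6, h7, Subgroup.card_bot, mul_one, h3] at h2
    have h5 : Nat.card (M ⊔ K : Subgroup G) ≤ Nat.card V :=
      Subgroup.card_le_of_le (sup_le hMV hKV)
    rw [h1, h2] at h5
    exact Nat.le_of_mul_le_mul_right h5 Nat.card_pos
  -- `[V, N] ≤ M`
  have hQM : Q ≤ Subgroup.normalizer (M : Set G) := by
    apply Cfsg.Agent.Helper2.le_normalizer_of_conj_mem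
    intro q hq m hm
    obtain ⟨n, hn, ζ, hζ, rfl⟩ := (hM m).1 hm
    exact (hM _).2 ⟨q * n, Q.mul_mem hq hn, ζ, hζ, by group⟩
  have hAM : A ≤ Subgroup.normalizer (M : Set G) := by
    apply Cfsg.Agent.Helper2.le_normalizer_of_conj_mem
    intro b hb m hm
    obtain ⟨n, hn, ζ, hζ, rfl⟩ := (hM m).1 hm
    have hbn : b * n * b⁻¹ ∈ Q :=
      (Subgroup.mem_normalizer_iff.1 (hAH.trans (le_normalizer_ppc p H) hb) n).1 hn
    have hbζ : b * ζ = ζ * b := ((Subgroup.mem_centralizer_iff.1 (hAcZ hb)) ζ hζ).symm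
    refine (hM _).2 ⟨b * n * b⁻¹, hbn, ζ, hζ, ?_⟩
    calc b * (n * ζ * n⁻¹) * b⁻¹ = b * n * b⁻¹ * (b * ζ) * b⁻¹ * (b * n * b⁻¹)⁻¹ := by group
      _ = b * n * b⁻¹ * (ζ * b) * b⁻¹ * (b * n * b⁻¹)⁻¹ := by rw [hbζ]
      _ = b * n * b⁻¹ * ζ * (b * n * b⁻¹)⁻¹ := by group
  have hZM : Z ≤ M := fun ζ hζ => (hM ζ).2 ⟨1, Q.one_mem, ζ, hζ, by group⟩
  have hNM : ⁅V, ⁅Q, A⁆⁆ ≤ M := by
    apply commutator_le_of_closure _ (Subgroup.commutator_def Q A)
    · exact (Subgroup.le_normalizer_iff_commutator_le_left.1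
        (hAH.trans (le_normalizer_ppc p H)) : ⁅Q, A⁆ ≤ Q).trans hQM
    · rintro g ⟨y, hy, b, hb, rfl⟩ v hv
      have hyV : y ∈ Subgroup.normalizer (V : Set G) := h.hHV (hQH hy)
      have h1 : ⁅v, ⁅y, b⁆⁆ = ⁅v, y * b * y⁻¹⁆ * ((y * b * y⁻¹) * ⁅v, b⁻¹⁆ * (y * b * y⁻¹)⁻¹) := by
        simp only [commutatorElement_def]; group
      rw [h1]
      refine M.mul_mem ?_ ?_
      · have h2 : ⁅v, y * b * y⁻¹⁆ = y * ⁅y⁻¹ * v * y, b⁆ * y⁻¹ := by
          simp only [commutatorElement_def]; group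
        rw [h2]
        have h3 : y⁻¹ * v * y ∈ V := by
          have := (Subgroup.mem_normalizer_iff.1 (Subgroup.inv_mem _ hyV) v).1 hv
          simpa using this
        exact (hM _).2 ⟨y, hy, _, Subgroup.commutator_mem_commutator h3 hb, rfl⟩
      · have h4 : ⁅v, b⁻¹⁆ ∈ M := hZM (Subgroup.commutator_mem_commutator hv (A.inv_mem hb))
        have h5 : y * b * y⁻¹ ∈ Subgroup.normalizer (M : Set G) :=
          Subgroup.mul_mem _ (Subgroup.mul_mem _ (hQM hy) (hAM hb)) (Subgroup.inv_mem _ (hQM hy))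
        exact (Subgroup.mem_normalizer_iff.1 h5 _).1 h4
  have hLN : ⁅V, L⁆ ≤ ⁅V, ⁅Q, A⁆⁆ := by
    rw [← h4]
    exact Subgroup.commutator_mono le_rfl (pair_inf_ppc_le hAH hA.isPGroup hxQ)
  have hLM : ⁅V, L⁆ = M :=
    Subgroup.eq_of_le_of_card_ge (hLN.trans hNM) (by rw [h3]; exact hMcard)
  exact le_antisymm (hNM.trans hLM.ge) hLN

end Hyp

end Cfsg.Agent.Helper1.FFact
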