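import Mathlib
import Cfsg.Prelude.Def_PLocal
import Cfsg.Agent.Helper1.FFact7

set_option autoImplicit false

/-!
Failure of factorization: `E = [O_{p'}(H), A] A ≅ SL(2, p)` for a minimal best offender `A`,
with its natural module `[V, E]` complementing `C_V(E)`.
-/

namespace Cfsg.Agent.Helper1.FFact

open scoped Pointwise commutatorElement

open Cfsg.Agent.Helper1

universe u

variable {G : Type u} [Group G]

/-- A faithful group on a plane, generated by elements of order `p`, with a normal `p`-complement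
not centralized by a subgroup `A` of order `p`: it is `SL(2, p)` and `p ≤ 3`. -/
theorem sl2_of_faithful3 [Finite G] {p : ℕ} [hp : Fact p.Prime] {L U R A : Subgroup G}
    (hLU : L ≤ Subgroup.normalizer (U : Set G))
    (hfaith : L ⊓ Subgroup.centralizer (U : Set G) = ⊥)
    (hU : Cfsg.IsElementaryAbelian p U) (hUcard : Nat.card U = p ^ 2)
    (hRL : R ≤ L) (hLR : L ≤ Subgroup.normalizer (R : Set G))
    (hRcop : (Nat.card R).Coprime p)
    (hAcard : Nat.card A = p) (hAL : A ≤ L)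
    (hRA : R ⊔ A = L) (hRnA : ¬ R ≤ Subgroup.centralizer (A : Set G))
    (hRcomm : R = ⁅R, A⁆) :
    (p = 2 ∨ p = 3) ∧ Nonempty (↥L ≃* Matrix.SpecialLinearGroup (Fin 2) (ZMod p)) ∧
      (p = 3 → ∃ r₁ ∈ R, ∃ r₂ ∈ R, r₁ * r₂ ≠ r₂ * r₁) := by
  letI : CommGroup ↥U :=
    { (inferInstance : Group ↥U) with
      mul_comm := fun a b => hU.1.is_comm.comm a b }
  have hexp : ∀ v : ↥U, v ^ p = 1 := fun v => Subtype.ext (by
    rw [Subgroup.coe_pow, Subgroup.coe_one]; exact hU.2 v v.2)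
  obtain ⟨Φ, hΦ⟩ := GL2Rep.exists_GL2_rep (V := ↥U) hexp hUcard
  set ρ := conjHom L U hLU with hρ
  have hρinj : Function.Injective ρ := by
    rw [injective_iff_map_eq_one]
    intro l hl
    have h1 : (l : G) ∈ L ⊓ Subgroup.centralizer (U : Set G) := by
      refine ⟨l.2, ?_⟩
      show (l : G) ∈ Subgroup.centralizer (U : Set G)
      rw [Subgroup.mem_centralizer_iff]
      intro u hu
      have h2 := congrArg (fun f : MulAut ↥U => ((f ⟨u, hu⟩ : ↥U) : G)) hl
      simp only [MulAut.one_apply] at h2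
      rw [hρ, conjHom_coe] at h2
      have h3 : (l : G) * u * (l : G)⁻¹ = u := h2
      calc u * (l : G) = ((l : G) * u * (l : G)⁻¹) * l := by rw [h3]
        _ = l * u := by group
    rw [hfaith, Subgroup.mem_bot] at h1
    exact Subtype.ext h1
  set μ' : ↥L →* GL (Fin 2) (ZMod p) := Φ.comp ρ with hμ'
  have hμ'inj : Function.Injective μ' := hΦ.comp hρinj
  -- determinants
  have hdet : ∀ l : ↥L, Matrix.GeneralLinearGroup.det (μ' l) = 1 := by
    set d : ↥L →* (ZMod p)ˣ := Matrix.GeneralLinearGroup.det.comp μ' with hd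
    have hker : ∀ B : Subgroup G, B ≤ L → Nat.card B = p → B.subgroupOf L ≤ d.ker := by
      intro B hBL hB x hx
      rw [Subgroup.mem_subgroupOf] at hx
      rw [MonoidHom.mem_ker]
      apply units_eq_one_of_pow_prime
      rw [← map_pow]
      have h1 : x ^ p = 1 := by
        apply Subtype.ext
        rw [Subgroup.coe_pow, Subgroup.coe_one]
        have h2 : (⟨(x : G), hx⟩ : ↥B) ^ Nat.card B = 1 := pow_card_eq_one'
        rw [hB] at h2
        exact congrArg Subtype.val h2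
      rw [h1, map_one]
    have hkerR : R.subgroupOf L ≤ d.ker := by
      have h1 : R ≤ d.ker.map L.subtype := by
        rw [hRcomm, Subgroup.commutator_le]
        intro r hr b hb
        have hrL : r ∈ L := hRL (hRcomm ▸ hr)
        refine ⟨⁅(⟨r, hrL⟩ : ↥L), (⟨b, hAL hb⟩ : ↥L)⁆, ?_, rfl⟩
        rw [SetLike.mem_coe, MonoidHom.mem_ker, map_commutatorElement,
          commutatorElement_eq_one_iff_commute]
        exact Commute.all _ _
      intro x hx
      rw [Subgroup.mem_subgroupOf] at hx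
      obtain ⟨y, hy, hyx⟩ := h1 hx
      have : y = x := Subtype.ext hyx
      rw [← this]; exact hy
    have htop : d.ker = ⊤ := by
      rw [eq_top_iff]
      have h1 : (R ⊔ A).subgroupOf L = R.subgroupOf L ⊔ A.subgroupOf L :=
        Subgroup.subgroupOf_sup hRL hAL
      rw [hRA, Subgroup.subgroupOf_self] at h1
      rw [h1]
      exact sup_le hkerR (hker A hAL hAcard)
    intro l
    have : l ∈ d.ker := by rw [htop]; exact Subgroup.mem_top l
    exact this
  -- a generator of `A`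
  have hAne : A ≠ ⊥ := by
    rintro rfl
    rw [Subgroup.card_bot] at hAcard
    exact hp.out.one_lt.ne hAcard
  obtain ⟨a₀, ha₀1⟩ := (Subgroup.ne_bot_iff_exists_ne_one (H := A)).1 hAne
  have ha₀1' : (a₀ : G) ≠ 1 := fun h1 => ha₀1 (Subtype.ext h1)
  have hord : orderOf (a₀ : G) = p := by
    have hdvd : orderOf (a₀ : G) ∣ p := by
      have h1 : orderOf (a₀ : G) = orderOf a₀ := Subgroup.orderOf_coe a₀
      rw [← hAcard, h1]
      exact orderOf_dvd_natCard a₀
    rcases (Nat.dvd_prime hp.out).1 hdvd with h | h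
    · exact absurd (orderOf_eq_one_iff.1 h) ha₀1'
    · exact h
  have hzA : Subgroup.zpowers (a₀ : G) = A := by
    apply Subgroup.eq_of_le_of_card_ge (Subgroup.zpowers_le.2 a₀.2)
    rw [Nat.card_zpowers, hord, hAcard]
  have hAR : A ⊓ R = ⊥ := by
    apply inf_eq_bot_of_coprime_card
    rw [hAcard]
    exact hRcop.symm
  have hLcard : Nat.card L = p * Nat.card R := by
    rw [← hRA, card_sup_of_le_normalizer (hAL.trans hLR) hAR, hAcard]
  by_cases hp2 : p = 2
  · subst hp2
    refine ⟨Or.inl rfl, ?_⟩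
    have h1 : Nat.card ↥L ∣ 6 := by
      rw [← card_GL2_two]
      exact Subgroup.card_dvd_of_injective μ' hμ'inj
    rw [hLcard] at h1
    have h2 : Nat.card R ∣ 3 := by
      have : (2 : ℕ) * Nat.card R ∣ 2 * 3 := h1
      exact Nat.dvd_of_mul_dvd_mul_left (by norm_num) this
    have h3 : Nat.card R = 3 := by
      rcases (Nat.dvd_prime Nat.prime_three).1 h2 with h | h
      · exfalso
        apply hRnA
        rw [Subgroup.card_eq_one] at h
        rw [h]; exact bot_le
      · exact h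
    have h4 : Nat.card ↥L = Nat.card (GL (Fin 2) (ZMod 2)) := by
      rw [hLcard, h3, card_GL2_two]
    have hbij : Function.Bijective μ' :=
      (Nat.bijective_iff_injective_and_card _).2 ⟨hμ'inj, h4⟩
    exact ⟨⟨(MulEquiv.ofBijective μ' hbij).trans sl2EquivGL2.symm⟩,
      fun h23 => absurd h23 (by norm_num)⟩
  · set μ : ↥L →* Matrix (Fin 2) (Fin 2) (ZMod p) :=
      (Units.coeHom (Matrix (Fin 2) (Fin 2) (ZMod p))).comp μ' with hμ
    have hμinj : Function.Injective μ := by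
      intro x y hxy
      apply hμ'inj
      exact Units.ext hxy
    have hμdet : ∀ g, (μ g).det = 1 := by
      intro g
      have h1 := hdet g
      have h2 : ((Matrix.GeneralLinearGroup.det (μ' g) : (ZMod p)ˣ) : ZMod p) = 1 := by
        rw [h1]; rfl
      exact h2
    set a : ↥L := ⟨(a₀ : G), hAL a₀.2⟩ with ha
    have horda : orderOf a = p ^ 1 := by
      rw [pow_one, ← hord]
      exact (Subgroup.orderOf_coe a).symm
    set R' : Subgroup ↥L := R.subgroupOf L with hR'
    have hR'cop : (Nat.card R').Coprime p := by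
      rw [hR', card_subgroupOf_of_le hRL]; exact hRcop
    haveI hR'n : R'.Normal := (Subgroup.normal_subgroupOf_iff_le_normalizer hRL).2 hLR
    have haR' : a ∈ Subgroup.normalizer (R' : Set ↥L) := by
      rw [Subgroup.normalizer_eq_top]; exact Subgroup.mem_top a
    have hr₀ : ∃ r ∈ R', a * r * a⁻¹ ≠ r := by
      by_contra hcon
      push Not at hcon
      apply hRnA
      intro r hr
      rw [← hzA, Subgroup.mem_centralizer_iff]
      intro y hy
      obtain ⟨k, rfl⟩ := Subgroup.mem_zpowers_iff.1 hy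
      have h1 := hcon ⟨r, hRL hr⟩ (by rw [hR', Subgroup.mem_subgroupOf]; exact hr)
      have h2 : (a₀ : G) * r * (a₀ : G)⁻¹ = r := congrArg Subtype.val h1
      have h3 : Commute (a₀ : G) r := by
        show (a₀ : G) * r = r * a₀
        calc (a₀ : G) * r = ((a₀ : G) * r * (a₀ : G)⁻¹) * a₀ := by group
          _ = r * a₀ := by rw [h2]
      exact (h3.zpow_left k).eq
    obtain ⟨hp3, ⟨eq⟩, ⟨e⟩⟩ := Cfsg.Agent.Lead.SL2P3.main_gen (E := ZMod p) hp2 μ hμinj hμdet a 1
      horda R' hR'cop haR' hr₀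
    refine ⟨Or.inr hp3, ?_⟩
    have htop : R' ⊔ Subgroup.zpowers a = ⊤ := by
      have h1 : Subgroup.zpowers a = A.subgroupOf L := by
        ext x
        rw [Subgroup.mem_subgroupOf, ← hzA, Subgroup.mem_zpowers_iff, Subgroup.mem_zpowers_iff]
        constructor
        · rintro ⟨k, rfl⟩
          exact ⟨k, by rw [Subgroup.coe_zpow]⟩
        · rintro ⟨k, hk⟩
          exact ⟨k, Subtype.ext (by rw [Subgroup.coe_zpow]; exact hk)⟩
      rw [h1, hR', ← Subgroup.subgroupOf_sup hRL hAL, hRA, Subgroup.subgroupOf_self]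
    have hnc : ∃ r₁ ∈ R, ∃ r₂ ∈ R, r₁ * r₂ ≠ r₂ * r₁ := by
      have h0 : (QuaternionGroup.a 1 : QuaternionGroup 2) * QuaternionGroup.xa 0 ≠
          QuaternionGroup.xa 0 * QuaternionGroup.a 1 := by decide
      refine ⟨((eq.symm (QuaternionGroup.a 1) : ↥R') : ↥L), ?_,
        ((eq.symm (QuaternionGroup.xa 0) : ↥R') : ↥L), ?_, ?_⟩
      · exact Subgroup.mem_subgroupOf.1 (eq.symm (QuaternionGroup.a 1)).2
      · exact Subgroup.mem_subgroupOf.1 (eq.symm (QuaternionGroup.xa 0)).2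
      · intro hc
        apply h0
        apply eq.symm.injective
        rw [map_mul, map_mul]
        apply Subtype.ext
        apply Subtype.ext
        simpa using hc
    subst hp3
    exact ⟨⟨(Subgroup.topEquiv.symm.trans (MulEquiv.subgroupCongr htop.symm)).trans e⟩,
      fun _ => hnc⟩



namespace Hyp

variable {p : ℕ} {V H : Subgroup G}

/-- The structure of `E = [O_{p'}(H), A] A` for a transvection subgroup `A`. -/
theorem E_structure [Finite G] [hp : Fact p.Prime] (h : Hyp p V H) {A : Subgroup G}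
    (hAH : A ≤ H) (hA : IsTrv p V A) :
    (p = 2 ∨ p = 3) ∧
    Nonempty (↥(⁅ppc p H, A⁆ ⊔ A) ≃* Matrix.SpecialLinearGroup (Fin 2) (ZMod p)) ∧
    Nat.card ↥(⁅V, ⁅ppc p H, A⁆ ⊔ A⁆) = p ^ 2 ∧
    ⁅V, ⁅ppc p H, A⁆ ⊔ A⁆ = ⁅V, ⁅ppc p H, A⁆⁆ ∧
    ⁅V, ⁅ppc p H, A⁆ ⊔ A⁆ ⊓
      (V ⊓ Subgroup.centralizer ((⁅ppc p H, A⁆ ⊔ A : Subgroup G) : Set G)) = ⊥ ∧
    ⁅V, ⁅ppc p H, A⁆ ⊔ A⁆ ⊔
      (V ⊓ Subgroup.centralizer ((⁅ppc p H, A⁆ ⊔ A : Subgroup G) : Set G)) = V ∧
    (⁅ppc p H, A⁆ ⊔ A) ⊓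
      Subgroup.centralizer ((⁅V, ⁅ppc p H, A⁆ ⊔ A⁆ : Subgroup G) : Set G) = ⊥ ∧
    V ⊓ Subgroup.centralizer ((⁅ppc p H, A⁆ : Subgroup G) : Set G) =
      V ⊓ Subgroup.centralizer ((⁅ppc p H, A⁆ ⊔ A : Subgroup G) : Set G) := by
  obtain ⟨x, hxQ, hxA⟩ := h.exists_not_mem_centralizer hAH hA
  set Q := ppc p H with hQ
  set N := ⁅Q, A⁆ with hN
  have hQH : Q ≤ H := ppc_le p H
  have hxH : x ∈ H := hQH hxQ
  have hA'H := conj_le_of_mem_of_le hAH hxH
  have hT' := hA.conj (h.hHV hxH)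
  have hne := conj_ne (H := H) hAH hA.isPGroup hxQ hxA
  have hQ' := conj_le_ppc_sup (p := p) hAH hxQ
  obtain ⟨-, h2, h3, -, h5, -, -, -⟩ := pair_structure h hAH hA'H hA hT' hne hQ'
  have hEq := h.commutator_commutator_ppc_eq hAH hA hxQ hxA
  set L := A ⊔ A.map (MulAut.conj x).toMonoidHom with hL
  have hRN : L ⊓ Q ≤ N := pair_inf_ppc_le hAH hA.isPGroup hxQ
  have hAQ : A ≤ Subgroup.normalizer (Q : Set G) := hAH.trans (le_normalizer_ppc p H)
  have hNQ : N ≤ Q := Subgroup.le_normalizer_iff_commutator_le_left.1 hAQ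
  have hNH : N ≤ H := hNQ.trans hQH
  have hAN : A ≤ Subgroup.normalizer (N : Set G) := Subgroup.normalizer_commutator_ge_right Q A
  have hAV : A ≤ Subgroup.normalizer (V : Set G) := hAH.trans h.hHV
  have hNV : N ≤ Subgroup.normalizer (V : Set G) := hNH.trans h.hHV
  have hEH : N ⊔ A ≤ H := sup_le hNH hAH
  haveI : IsMulCommutative V := h.hV.1
  have hNcop : (Nat.card N).Coprime p :=
    Nat.Coprime.coprime_dvd_left (Subgroup.card_dvd_of_le hNQ) (card_ppc_coprime p H)
  have hcopNV : (Nat.card N).Coprime (Nat.card V) := by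
    obtain ⟨k, hk⟩ := IsPGroup.iff_card.1 h.isPGroup_V
    rw [hk]; exact Nat.Coprime.pow_right k hNcop
  obtain ⟨hdec1, hdec2⟩ := abelian_coprime_decomp N V hNV hcopNV
  have hVE : ⁅V, N ⊔ A⁆ = ⁅V, N⁆ := by
    rw [commutator_sup hNV hAV, sup_eq_left, hEq]
    exact Subgroup.commutator_mono le_rfl le_sup_left
  have hcard : Nat.card ↥(⁅V, N ⊔ A⁆) = p ^ 2 := by rw [hVE, hEq]; exact h3
  have hCN : V ⊓ Subgroup.centralizer (N : Set G) =
      V ⊓ Subgroup.centralizer ((N ⊔ A : Subgroup G) : Set G) := by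
    apply le_antisymm
    · refine le_inf inf_le_left ?_
      have h6 : V ⊓ Subgroup.centralizer (N : Set G) ≤ Subgroup.centralizer (A : Set G) := by
        have h7 : V ⊓ Subgroup.centralizer (N : Set G) ≤
            V ⊓ Subgroup.centralizer ((L ⊓ Q : Subgroup G) : Set G) :=
          inf_le_inf_left _ (Subgroup.centralizer_le hRN)
        rw [h5] at h7
        exact h7.trans (inf_le_right.trans (Subgroup.centralizer_le (le_sup_left : A ≤ L)))
      exact (le_inf inf_le_right h6).trans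
        (Cfsg.Agent.Helper2.inf_centralizer_le_centralizer_sup N A)
    · exact inf_le_inf_left _ (Subgroup.centralizer_le (le_sup_left : N ≤ N ⊔ A))
  have hdec1' : ⁅V, N ⊔ A⁆ ⊓
      (V ⊓ Subgroup.centralizer ((N ⊔ A : Subgroup G) : Set G)) = ⊥ := by
    rw [hVE, ← hCN, inf_comm]; exact hdec1
  have hdec2' : ⁅V, N ⊔ A⁆ ⊔
      (V ⊓ Subgroup.centralizer ((N ⊔ A : Subgroup G) : Set G)) = V := by
    rw [hVE, ← hCN, sup_comm]; exact hdec2
  have hfaith : (N ⊔ A) ⊓ Subgroup.centralizer ((⁅V, N ⊔ A⁆ : Subgroup G) : Set G) = ⊥ := by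
    rw [eq_bot_iff, ← h.hf]
    refine le_inf (inf_le_left.trans hEH) ?_
    have h1 : (N ⊔ A) ⊓ Subgroup.centralizer ((⁅V, N ⊔ A⁆ : Subgroup G) : Set G) ≤
        Subgroup.centralizer ((⁅V, N ⊔ A⁆ : Subgroup G) : Set G) ⊓
          Subgroup.centralizer ((V ⊓ Subgroup.centralizer ((N ⊔ A : Subgroup G) : Set G) :
            Subgroup G) : Set G) := by
      refine le_inf inf_le_right (inf_le_left.trans ?_)
      rw [Subgroup.le_centralizer_iff]
      exact inf_le_right
    refine h1.trans ((Cfsg.Agent.Helper2.inf_centralizer_le_centralizer_sup _ _).trans ?_)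
    rw [hdec2']
  have hcop : (Nat.card A).Coprime (Nat.card Q) := by
    rw [hA.card]; exact (card_ppc_coprime p H).symm
  haveI : Group.IsNilpotent ↥A := hA.isPGroup.isNilpotent
  have hsolv : Group.IsSolvable ↥A ∨ Group.IsSolvable ↥Q := Or.inl inferInstance
  have hUV : ⁅V, N ⊔ A⁆ ≤ V :=
    Subgroup.le_normalizer_iff_commutator_le_left.1 (hEH.trans h.hHV)
  obtain ⟨h23, hiso, -⟩ := sl2_of_faithful3 (L := N ⊔ A) (U := ⁅V, N ⊔ A⁆) (R := N) (A := A)
    (Subgroup.normalizer_commutator_ge_right V (N ⊔ A)) hfaith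
    (Cfsg.Agent.Helper2.isElementaryAbelian_of_le h.hV hUV) hcard le_sup_left
    (sup_le Subgroup.le_normalizer hAN) hNcop hA.card le_sup_right rfl
    (fun hc => h2 (hRN.trans hc))
    (coprime_commutator_commutator A Q hAQ hcop hsolv).symm
  exact ⟨h23, hiso, hcard, hVE, hdec1', hdec2', hfaith, hCN⟩

end Hyp

end Cfsg.Agent.Helper1.FFact
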