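import Mathlib
import Cfsg.Prelude.Def_PLocal
import Cfsg.Agent.Helper1.FFact8

set_option autoImplicit false

/-!
Failure of factorization: splitting a minimal best offender off a best offender.
-/

namespace Cfsg.Agent.Helper1.FFact

open scoped Pointwise commutatorElement

open Cfsg.Agent.Helper1

universe u

variable {G : Type u} [Group G]

/-- Fixed points in a direct decomposition `V = U × K` invariant under `T`. -/
theorem inf_centralizer_of_decomp {V U K T : Subgroup G}
    (hcomm : ∀ x ∈ V, ∀ y ∈ V, x * y = y * x) (hUV : U ≤ V) (hKV : K ≤ V) (hUK : U ⊓ K = ⊥)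
    (hsup : U ⊔ K = V) (hTU : T ≤ Subgroup.normalizer (U : Set G))
    (hTK : T ≤ Subgroup.normalizer (K : Set G)) :
    V ⊓ Subgroup.centralizer (T : Set G) =
      (U ⊓ Subgroup.centralizer (T : Set G)) ⊔ (K ⊓ Subgroup.centralizer (T : Set G)) := by
  apply le_antisymm
  swap
  · exact sup_le (inf_le_inf_right _ hUV) (inf_le_inf_right _ hKV)
  rintro v ⟨hvV, hvT⟩
  have hKU : K ≤ Subgroup.normalizer (U : Set G) :=
    Cfsg.Agent.Helper2.le_normalizer_of_comm hcomm hKV hUV
  have hv' : v ∈ U ⊔ K := by rw [hsup]; exact hvV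
  obtain ⟨u, hu, k, hk, rfl⟩ := mem_sup_of_le_normalizer hKU hv'
  have key : ∀ t ∈ T, t * u * t⁻¹ = u ∧ t * k * t⁻¹ = k := by
    intro t ht
    have h1 : t * (u * k) * t⁻¹ = u * k := by
      have := (Subgroup.mem_centralizer_iff.1 hvT) t ht
      calc t * (u * k) * t⁻¹ = (t * (u * k)) * t⁻¹ := by group
        _ = ((u * k) * t) * t⁻¹ := by rw [this]
        _ = u * k := by group
    have hu' : t * u * t⁻¹ ∈ U := (Subgroup.mem_normalizer_iff.1 (hTU ht) u).1 hu
    have hk' : t * k * t⁻¹ ∈ K := (Subgroup.mem_normalizer_iff.1 (hTK ht) k).1 hk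
    have h2 : (t * u * t⁻¹) * (t * k * t⁻¹) = u * k := by rw [← h1]; group
    -- `u⁻¹ (t u t⁻¹) = k (t k t⁻¹)⁻¹ ∈ U ∩ K`
    have h3 : u⁻¹ * (t * u * t⁻¹) = k * (t * k * t⁻¹)⁻¹ := by
      calc u⁻¹ * (t * u * t⁻¹) = u⁻¹ * ((t * u * t⁻¹) * (t * k * t⁻¹)) * (t * k * t⁻¹)⁻¹ := by group
        _ = u⁻¹ * (u * k) * (t * k * t⁻¹)⁻¹ := by rw [h2]
        _ = k * (t * k * t⁻¹)⁻¹ := by group
    have h4 : u⁻¹ * (t * u * t⁻¹) ∈ U ⊓ K := by
      refine ⟨U.mul_mem (U.inv_mem hu) hu', ?_⟩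
      rw [h3]; exact K.mul_mem hk (K.inv_mem hk')
    rw [hUK, Subgroup.mem_bot] at h4
    have h5 : t * u * t⁻¹ = u := by
      calc t * u * t⁻¹ = u * (u⁻¹ * (t * u * t⁻¹)) := by group
        _ = u := by rw [h4, mul_one]
    refine ⟨h5, ?_⟩
    rw [h5] at h2
    exact mul_left_cancel h2
  refine Subgroup.mul_mem _ (Subgroup.mem_sup_left ⟨hu, ?_⟩) (Subgroup.mem_sup_right ⟨hk, ?_⟩)
  · show u ∈ Subgroup.centralizer (T : Set G)
    rw [Subgroup.mem_centralizer_iff]
    intro t ht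
    have := (key t ht).1
    calc t * u = (t * u * t⁻¹) * t := by group
      _ = u * t := by rw [this]
  · show k ∈ Subgroup.centralizer (T : Set G)
    rw [Subgroup.mem_centralizer_iff]
    intro t ht
    have := (key t ht).2
    calc t * k = (t * k * t⁻¹) * t := by group
      _ = k * t := by rw [this]

theorem card_inf_centralizer_of_decomp [Finite G] {V U K T : Subgroup G}
    (hcomm : ∀ x ∈ V, ∀ y ∈ V, x * y = y * x) (hUV : U ≤ V) (hKV : K ≤ V) (hUK : U ⊓ K = ⊥)
    (hsup : U ⊔ K = V) (hTU : T ≤ Subgroup.normalizer (U : Set G))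
    (hTK : T ≤ Subgroup.normalizer (K : Set G)) :
    Nat.card ↥(V ⊓ Subgroup.centralizer (T : Set G)) =
      Nat.card ↥(U ⊓ Subgroup.centralizer (T : Set G)) *
        Nat.card ↥(K ⊓ Subgroup.centralizer (T : Set G)) := by
  rw [inf_centralizer_of_decomp hcomm hUV hKV hUK hsup hTU hTK]
  have hn : K ⊓ Subgroup.centralizer (T : Set G) ≤
      Subgroup.normalizer ((U ⊓ Subgroup.centralizer (T : Set G) : Subgroup G) : Set G) :=
    Cfsg.Agent.Helper2.le_normalizer_of_comm hcomm (inf_le_left.trans hKV) (inf_le_left.trans hUV)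
  have h1 := card_sup_mul_card_inf hn
  have h2 : (U ⊓ Subgroup.centralizer (T : Set G)) ⊓ (K ⊓ Subgroup.centralizer (T : Set G)) = ⊥ := by
    rw [eq_bot_iff, ← hUK]
    exact inf_le_inf inf_le_left inf_le_left
  rw [h2, Subgroup.card_bot, mul_one] at h1
  exact h1

/-- A `p`-group acting on an elementary abelian group of order `p²` induces a group of order
at most `p`. -/
theorem relIndex_centralizer_dvd [Finite G] {p : ℕ} [hp : Fact p.Prime] {A U : Subgroup G}
    (hAU : A ≤ Subgroup.normalizer (U : Set G)) (hA : IsPGroup p A)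
    (hU : Cfsg.IsElementaryAbelian p U) (hUcard : Nat.card U = p ^ 2) :
    (A ⊓ Subgroup.centralizer (U : Set G)).relIndex A ∣ p := by
  letI : CommGroup ↥U :=
    { (inferInstance : Group ↥U) with
      mul_comm := fun a b => hU.1.is_comm.comm a b }
  have hexp : ∀ v : ↥U, v ^ p = 1 := fun v => Subtype.ext (by
    rw [Subgroup.coe_pow, Subgroup.coe_one]; exact hU.2 v v.2)
  obtain ⟨Φ, hΦ⟩ := GL2Rep.exists_GL2_rep (V := ↥U) hexp hUcard
  set f : ↥A →* GL (Fin 2) (ZMod p) := Φ.comp (conjHom A U hAU) with hf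
  have hker : f.ker = (A ⊓ Subgroup.centralizer (U : Set G)).subgroupOf A := by
    ext x
    rw [MonoidHom.mem_ker, Subgroup.mem_subgroupOf]
    constructor
    · intro hx
      have h1 : conjHom A U hAU x = 1 := by
        apply hΦ
        rw [map_one]; exact hx
      refine ⟨x.2, ?_⟩
      show (x : G) ∈ Subgroup.centralizer (U : Set G)
      rw [Subgroup.mem_centralizer_iff]
      intro u hu
      have h2 := congrArg (fun g : MulAut ↥U => ((g ⟨u, hu⟩ : ↥U) : G)) h1
      simp only [MulAut.one_apply] at h2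
      rw [conjHom_coe] at h2
      have h3 : (x : G) * u * (x : G)⁻¹ = u := h2
      calc u * (x : G) = ((x : G) * u * (x : G)⁻¹) * x := by rw [h3]
        _ = x * u := by group
    · rintro ⟨-, hx⟩
      have h1 : conjHom A U hAU x = 1 := by
        ext u
        rw [conjHom_coe, MulAut.one_apply]
        have := (Subgroup.mem_centralizer_iff.1 hx) u u.2
        calc (x : G) * u * (x : G)⁻¹ = ((x : G) * u) * (x : G)⁻¹ := by group
          _ = (u * x) * (x : G)⁻¹ := by rw [this]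
          _ = u := by group
      show Φ (conjHom A U hAU x) = 1
      rw [h1, map_one]
  have hrel : (A ⊓ Subgroup.centralizer (U : Set G)).relIndex A = Nat.card f.range := by
    rw [Subgroup.relIndex, ← hker, Subgroup.index_ker]
  rw [hrel]
  have h1 : Nat.card f.range ∣ Nat.card A := Subgroup.card_range_dvd f
  have h2 : Nat.card f.range ∣ Nat.card (GL (Fin 2) (ZMod p)) := Subgroup.card_subgroup_dvd_card _
  obtain ⟨k, hk⟩ := IsPGroup.iff_card.1 hA
  rw [hk] at h1
  obtain ⟨j, -, hj⟩ := (Nat.dvd_prime_pow hp.out).1 h1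
  rw [hj] at h2 ⊢
  rw [Matrix.card_GL_field (𝔽 := ZMod p) 2] at h2
  simp only [Fin.prod_univ_two, Fin.val_zero, pow_zero, Fin.val_one, pow_one, ZMod.card] at h2
  rcases j with _ | _ | j
  · simp
  · simp
  · exfalso
    have h3 : p ^ 2 ∣ (p ^ 2 - 1) * (p ^ 2 - p) :=
      (pow_dvd_pow p (by omega)).trans h2
    have hp2 := hp.out.two_le
    have h4 : p ^ 2 - p = p * (p - 1) := by
      rw [Nat.mul_sub, mul_one, pow_two]
    rw [h4, pow_two, ← mul_assoc, mul_comm ((p * p - 1)) p, mul_assoc] at h3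
    have h5 : p ∣ (p * p - 1) * (p - 1) := Nat.dvd_of_mul_dvd_mul_left hp.out.pos h3
    rcases (Nat.Prime.dvd_mul hp.out).1 h5 with h6 | h6
    · have h7 : p ∣ p * p := dvd_mul_right p p
      have h8 : p ∣ p * p - (p * p - 1) := Nat.dvd_sub h7 h6
      have h9 : p * p - (p * p - 1) = 1 := by
        have : 1 ≤ p * p := Nat.mul_pos hp.out.pos hp.out.pos
        omega
      rw [h9, Nat.dvd_one] at h8
      omega
    · have := Nat.le_of_dvd (by omega) h6
      omega

namespace Hyp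

variable {p : ℕ} {V H : Subgroup G}

/-- Splitting a transvection subgroup off a best offender. -/
theorem split_off [Finite G] [hp : Fact p.Prime] (h : Hyp p V H) {A A₁ : Subgroup G}
    (hAH : A ≤ H) (hA : Cfsg.IsBestOffenderOn p V A) (hA₁A : A₁ ≤ A) (hA₁ : IsTrv p V A₁) :
    ∃ A' : Subgroup G, A' ≤ A ∧ Cfsg.IsBestOffenderOn p V A' ∧ A₁ ⊓ A' = ⊥ ∧ A₁ ⊔ A' = A := by
  have hA₁H : A₁ ≤ H := hA₁A.trans hAH
  obtain ⟨-, -, hUcard, hVE, hUK, hsup, hfaith, hCN⟩ := h.E_structure hA₁H hA₁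
  set Q := ppc p H with hQ
  set N₁ := ⁅Q, A₁⁆ with hN₁
  set E₁ := N₁ ⊔ A₁ with hE₁
  set U := ⁅V, E₁⁆ with hU
  set K := V ⊓ Subgroup.centralizer (E₁ : Set G) with hK
  have hcommV := h.commV
  have hAe := h.isElementaryAbelian hAH hA
  have hApg : IsPGroup p A := Cfsg.Agent.Helper2.isPGroup_of_elementary hAe
  have hcommA : ∀ x ∈ A, ∀ y ∈ A, x * y = y * x := by
    intro x hx y hy
    have := hAe.1.is_comm.comm ⟨x, hx⟩ ⟨y, hy⟩
    exact congrArg Subtype.val this
  have hAV : A ≤ Subgroup.normalizer (V : Set G) := hAH.trans h.hHV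
  have hAQ : A ≤ Subgroup.normalizer (Q : Set G) := hAH.trans (le_normalizer_ppc p H)
  have hAA₁ : A ≤ Subgroup.normalizer (A₁ : Set G) :=
    Cfsg.Agent.Helper2.le_normalizer_of_comm hcommA le_rfl hA₁A
  have hAN₁ : A ≤ Subgroup.normalizer (N₁ : Set G) := le_normalizer_commutator hAQ hAA₁
  have hAU : A ≤ Subgroup.normalizer (U : Set G) := by
    have h1 : A ≤ Subgroup.normalizer ((⁅V, N₁⁆ : Subgroup G) : Set G) :=
      le_normalizer_commutator hAV hAN₁
    rw [← hVE] at h1; exact h1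
  have hAK : A ≤ Subgroup.normalizer (K : Set G) := by
    have h1 : A ≤ Subgroup.normalizer ((V ⊓ Subgroup.centralizer (N₁ : Set G) : Subgroup G) :
        Set G) := le_normalizer_inf hAV (le_normalizer_centralizer hAN₁)
    rw [hCN] at h1; exact h1
  have hE₁H : E₁ ≤ H := sup_le ((Subgroup.le_normalizer_iff_commutator_le_left.1
    (hA₁H.trans (le_normalizer_ppc p H)) : N₁ ≤ Q).trans (ppc_le p H)) hA₁H
  have hUV : U ≤ V := Subgroup.le_normalizer_iff_commutator_le_left.1 (hE₁H.trans h.hHV)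
  have hKV : K ≤ V := inf_le_left
  have hUe : Cfsg.IsElementaryAbelian p U := Cfsg.Agent.Helper2.isElementaryAbelian_of_le h.hV hUV
  set A' := A ⊓ Subgroup.centralizer (U : Set G) with hA'
  have hA'A : A' ≤ A := inf_le_left
  have hdisj : A₁ ⊓ A' = ⊥ := by
    rw [eq_bot_iff, ← hfaith]
    exact le_inf (inf_le_left.trans le_sup_right) (inf_le_right.trans inf_le_right)
  have hrel := relIndex_centralizer_dvd hAU hApg hUe hUcard
  have hA₁n : ∀ T : Subgroup G, T ≤ A → A₁ ≤ Subgroup.normalizer (T : Set G) := fun T hT =>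
    Cfsg.Agent.Helper2.le_normalizer_of_comm hcommA hA₁A hT
  have hcardsup : ∀ T : Subgroup G, T ≤ A' → Nat.card (A₁ ⊔ T : Subgroup G) = p * Nat.card T := by
    intro T hT
    have hd : A₁ ⊓ T = ⊥ := by
      rw [eq_bot_iff, ← hdisj]; exact inf_le_inf_left _ hT
    rw [sup_comm, card_sup_of_le_normalizer (hA₁n T (hT.trans hA'A)) hd, hA₁.card]
  have hsupA : A₁ ⊔ A' = A := by
    apply Subgroup.eq_of_le_of_card_ge (sup_le hA₁A hA'A)
    rw [hcardsup A' le_rfl, ← relIndex_mul_card_of_le hA'A]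
    exact Nat.mul_le_mul_right _ (Nat.le_of_dvd hp.out.pos hrel)
  -- fixed points
  obtain ⟨a₁, ha₁A₁, ha₁1, -, hza₁⟩ := hA₁.exists_generator
  have hcommU : ∀ x ∈ U, ∀ y ∈ U, x * y = y * x := fun x hx y hy => hcommV x (hUV hx) y (hUV hy)
  have hUA₁card : Nat.card ↥(U ⊓ Subgroup.centralizer (A₁ : Set G)) = p := by
    have h1 := card_commutator_zpowers_mul hcommU (hAU (hA₁A ha₁A₁))
    rw [hza₁, hUcard] at h1
    have h2 : ⁅U, A₁⁆ ≤ ⁅V, A₁⁆ := Subgroup.commutator_mono hUV le_rfl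
    have h3 : Nat.card ↥(⁅U, A₁⁆) ∣ p := by
      rw [← hA₁.comm]; exact Subgroup.card_dvd_of_le h2
    have h4 : Nat.card ↥(⁅U, A₁⁆) ≠ 1 := by
      intro hc
      rw [Subgroup.card_eq_one, Subgroup.commutator_eq_bot_iff_le_centralizer,
        Subgroup.le_centralizer_iff] at hc
      apply hA₁.ne_bot
      rw [eq_bot_iff, ← hfaith]
      exact le_inf le_sup_right hc
    rcases (Nat.dvd_prime hp.out).1 h3 with h5 | h5
    · exact absurd h5 h4
    · rw [h5, pow_two] at h1
      exact Nat.eq_of_mul_eq_mul_left hp.out.pos h1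
  have hKA₁ : K ≤ Subgroup.centralizer (A₁ : Set G) :=
    inf_le_right.trans (Subgroup.centralizer_le (le_sup_right : A₁ ≤ E₁))
  have key : ∀ T : Subgroup G, T ≤ A' →
      Nat.card ↥(V ⊓ Subgroup.centralizer (T : Set G)) =
        p ^ 2 * Nat.card ↥(K ⊓ Subgroup.centralizer (T : Set G)) ∧
      Nat.card ↥(V ⊓ Subgroup.centralizer ((A₁ ⊔ T : Subgroup G) : Set G)) =
        p * Nat.card ↥(K ⊓ Subgroup.centralizer (T : Set G)) := by
    intro T hT
    have hTA : T ≤ A := hT.trans hA'A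
    have hTU : T ≤ Subgroup.centralizer (U : Set G) := hT.trans inf_le_right
    have hUT : U ≤ Subgroup.centralizer (T : Set G) := Subgroup.le_centralizer_iff.1 hTU
    constructor
    · rw [card_inf_centralizer_of_decomp hcommV hUV hKV hUK hsup (hTA.trans hAU) (hTA.trans hAK),
        inf_eq_left.2 hUT, hUcard]
    · rw [card_inf_centralizer_of_decomp hcommV hUV hKV hUK hsup
        ((sup_le hA₁A hTA).trans hAU) ((sup_le hA₁A hTA).trans hAK)]
      have e1 : U ⊓ Subgroup.centralizer ((A₁ ⊔ T : Subgroup G) : Set G) =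
          U ⊓ Subgroup.centralizer (A₁ : Set G) := by
        apply le_antisymm
        · exact inf_le_inf_left _ (Subgroup.centralizer_le (le_sup_left : A₁ ≤ A₁ ⊔ T))
        · refine le_inf inf_le_left ?_
          exact (le_inf inf_le_right (inf_le_left.trans hUT)).trans
            (Cfsg.Agent.Helper2.inf_centralizer_le_centralizer_sup A₁ T)
      have e2 : K ⊓ Subgroup.centralizer ((A₁ ⊔ T : Subgroup G) : Set G) =
          K ⊓ Subgroup.centralizer (T : Set G) := by
        apply le_antisymm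
        · exact inf_le_inf_left _ (Subgroup.centralizer_le (le_sup_right : T ≤ A₁ ⊔ T))
        · refine le_inf inf_le_left ?_
          exact (le_inf (inf_le_left.trans hKA₁) inf_le_right).trans
            (Cfsg.Agent.Helper2.inf_centralizer_le_centralizer_sup A₁ T)
      rw [e1, e2, hUA₁card]
  have star : ∀ T : Subgroup G, T ≤ A' →
      Nat.card (A₁ ⊔ T : Subgroup G) *
        Nat.card ↥(V ⊓ Subgroup.centralizer ((A₁ ⊔ T : Subgroup G) : Set G)) =
      Nat.card T * Nat.card ↥(V ⊓ Subgroup.centralizer (T : Set G)) := by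
    intro T hT
    obtain ⟨k1, k2⟩ := key T hT
    rw [hcardsup T hT, k1, k2]; ring
  refine ⟨A', hA'A, ⟨fun T hT => ?_, (Subgroup.commutator_mono hA'A hA'A).trans hA.2.1,
    fun a ha => hA.2.2 a (hA'A ha)⟩, hdisj, hsupA⟩
  rw [← star T hT, ← star A' le_rfl, hsupA]
  exact hA.1 _ (sup_le hA₁A (hT.trans hA'A))

end Hyp

end Cfsg.Agent.Helper1.FFact
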