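import Mathlib
import Cfsg.Prelude.Def_PLocal
import Cfsg.Agent.Helper1.FFact9

set_option autoImplicit false

/-!
Failure of factorization: every best offender is the direct product of minimal ones.
-/

namespace Cfsg.Agent.Helper1.FFact

open scoped Pointwise commutatorElement

open Cfsg.Agent.Helper1

universe u

variable {G : Type u} [Group G]

namespace Hyp

variable {p : ℕ} {V H : Subgroup G}

theorem exists_minBest_le [Finite G] (h : Hyp p V H) {A : Subgroup G} (hAH : A ≤ H)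
    (hA : Cfsg.IsBestOffenderOn p V A) (hA1 : A ≠ ⊥) :
    ∃ A₁ : Subgroup G, A₁ ≤ A ∧ IsMinBest p V A₁ := by
  let 𝒮 : Set (Subgroup G) := {B | B ≤ A ∧ Cfsg.IsBestOffenderOn p V B ∧ ⁅V, B⁆ ≠ ⊥}
  have hA𝒮 : A ∈ 𝒮 := ⟨le_rfl, hA, h.commutator_ne_bot hAH hA1⟩
  obtain ⟨T, -, hTmin⟩ := (Set.toFinite 𝒮).exists_le_minimal hA𝒮
  obtain ⟨hTA, hTb, hTV⟩ : T ∈ 𝒮 := hTmin.prop
  refine ⟨T, hTA, hTb, hTV, fun C hCT hCb hCV => ?_⟩
  have hC𝒮 : C ∈ 𝒮 := ⟨hCT.trans hTA, hCb, hCV⟩
  exact le_antisymm hCT (hTmin.le_of_le hC𝒮 hCT)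

/-- S0612 (abstract form). -/
theorem decomp [Finite G] [hp : Fact p.Prime] (h : Hyp p V H) :
    ∀ (n : ℕ) (A : Subgroup G), Nat.card A = n → A ≤ H → Cfsg.IsBestOffenderOn p V A →
      ∃ (k : ℕ) (B : Fin k → Subgroup G), (∀ i, B i ≤ A ∧ IsMinBest p V (B i)) ∧
        iSupIndep B ∧ ⨆ i, B i = A := by
  intro n
  induction n using Nat.strong_induction_on with
  | _ n ih =>
  intro A hn hAH hA
  by_cases hA1 : A = ⊥
  · refine ⟨0, fun i => i.elim0, fun i => i.elim0, ?_, ?_⟩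
    · intro i; exact i.elim0
    · rw [hA1, iSup_of_empty]
  obtain ⟨A₁, hA₁A, hA₁⟩ := h.exists_minBest_le hAH hA hA1
  have hT : IsTrv p V A₁ := h.isTrv_of_isMinBest (hA₁A.trans hAH) hA₁
  obtain ⟨A', hA'A, hA'b, hdisj, hsup⟩ := h.split_off hAH hA hA₁A hT
  have hAe := h.isElementaryAbelian hAH hA
  have hcommA : ∀ x ∈ A, ∀ y ∈ A, x * y = y * x := by
    intro x hx y hy
    have := hAe.1.is_comm.comm ⟨x, hx⟩ ⟨y, hy⟩
    exact congrArg Subtype.val this
  have hcard : Nat.card A = p * Nat.card A' := by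
    rw [← hsup, sup_comm, card_sup_of_le_normalizer
      (Cfsg.Agent.Helper2.le_normalizer_of_comm hcommA hA₁A hA'A) hdisj, hT.card]
  have hlt : Nat.card A' < n := by
    rw [← hn, hcard]
    have : 0 < Nat.card A' := Nat.card_pos
    have := hp.out.one_lt
    nlinarith
  obtain ⟨k', B', hB', hind', hsup'⟩ := ih _ hlt A' rfl (hA'A.trans hAH) hA'b
  refine ⟨k' + 1, Fin.cons A₁ B', ?_, ?_, ?_⟩
  · intro i
    refine Fin.cases ?_ (fun j => ?_) i
    · exact ⟨hA₁A, hA₁⟩
    · exact ⟨(hB' j).1.trans hA'A, (hB' j).2⟩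
  · rw [iSupIndep_def]
    intro i
    refine Fin.cases ?_ (fun i' => ?_) i
    · -- `A₁` against the rest
      have hle : (⨆ j, ⨆ (_ : j ≠ 0), (Fin.cons A₁ B' : Fin (k' + 1) → Subgroup G) j) ≤ A' := by
        refine iSup_le (fun j => iSup_le (fun hj => ?_))
        obtain ⟨j', rfl⟩ := Fin.exists_succ_eq.2 hj
        rw [Fin.cons_succ, ← hsup']
        exact le_iSup B' j'
      rw [Fin.cons_zero]
      exact (disjoint_iff.2 hdisj).mono_right hle
    · set X := ⨆ j', ⨆ (_ : j' ≠ i'), B' j' with hX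
      have hXA' : X ≤ A' := by
        refine iSup_le (fun j' => iSup_le (fun _ => ?_))
        rw [← hsup']; exact le_iSup B' j'
      have hle : (⨆ j, ⨆ (_ : j ≠ i'.succ), (Fin.cons A₁ B' : Fin (k' + 1) → Subgroup G) j) ≤
          A₁ ⊔ X := by
        refine iSup_le (fun j => iSup_le (fun hj => ?_))
        revert hj
        refine Fin.cases ?_ (fun j' => ?_) j
        · intro _
          rw [Fin.cons_zero]; exact le_sup_left
        · intro hj
          rw [Fin.cons_succ]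
          have hj' : j' ≠ i' := fun hc => hj (by rw [hc])
          exact le_trans (le_iSup₂ (f := fun j' (_ : j' ≠ i') => B' j') j' hj') le_sup_right
      rw [Fin.cons_succ]
      refine Disjoint.mono_right hle ?_
      rw [disjoint_iff, eq_bot_iff]
      rintro g ⟨hgB, hgX⟩
      have hXn : X ≤ Subgroup.normalizer (A₁ : Set G) :=
        Cfsg.Agent.Helper2.le_normalizer_of_comm hcommA (hXA'.trans hA'A) hA₁A
      obtain ⟨a₁, ha₁, x, hx, rfl⟩ := mem_sup_of_le_normalizer hXn hgX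
      have hgA' : a₁ * x ∈ A' := by
        have := (hB' i').1 hgB
        exact this
      have h1 : a₁ ∈ A₁ ⊓ A' := by
        refine ⟨ha₁, ?_⟩
        have : a₁ = (a₁ * x) * x⁻¹ := by group
        rw [this]
        exact A'.mul_mem hgA' (A'.inv_mem (hXA' hx))
      rw [hdisj, Subgroup.mem_bot] at h1
      rw [h1, one_mul] at hgB ⊢
      have h2 : Disjoint (B' i') X := (iSupIndep_def.1 hind') i'
      have h3 : x ∈ B' i' ⊓ X := ⟨hgB, hx⟩
      rw [disjoint_iff.1 h2] at h3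
      exact h3
  · apply le_antisymm
    · refine iSup_le (fun i => ?_)
      refine Fin.cases ?_ (fun j => ?_) i
      · rw [Fin.cons_zero]; exact hA₁A
      · rw [Fin.cons_succ]; exact (hB' j).1.trans hA'A
    · rw [← hsup]
      refine sup_le ?_ ?_
      · exact le_trans (by rw [Fin.cons_zero]) (le_iSup (Fin.cons A₁ B' : Fin (k' + 1) → Subgroup G) 0)
      · rw [← hsup']
        refine iSup_le (fun j => ?_)
        exact le_trans (by rw [Fin.cons_succ])
          (le_iSup (Fin.cons A₁ B' : Fin (k' + 1) → Subgroup G) j.succ)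

end Hyp

end Cfsg.Agent.Helper1.FFact
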