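import Mathlib
import Cfsg.Prelude.Def_PLocal
import Cfsg.Agent.Helper1.FFact10
import Cfsg.Agent.Lead.Replacement

set_option autoImplicit false

/-!
Failure of factorization: abelian `p`-subgroups that maximize `|B| |C_V(B)|` over their subgroups
are elementary abelian (under the standing hypotheses `Hyp`).
-/

namespace Cfsg.Agent.Helper1.FFact

open scoped Pointwise commutatorElement

open Cfsg.Agent.Helper1

universe u

variable {G : Type u} [Group G]

/-- The counting half of the best offender condition. -/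
def CardBest (V A : Subgroup G) : Prop :=
  ∀ B : Subgroup G, B ≤ A →
    Nat.card B * Nat.card ↥(V ⊓ Subgroup.centralizer (B : Set G)) ≤
      Nat.card A * Nat.card ↥(V ⊓ Subgroup.centralizer (A : Set G))

namespace Hyp

variable {p : ℕ} {V H : Subgroup G}

/-- Splitting a transvection subgroup off an abelian `p`-subgroup with the counting property. -/
theorem split_off' [Finite G] [hp : Fact p.Prime] (h : Hyp p V H) {A A₁ : Subgroup G}
    (hAH : A ≤ H) (hcommA : ∀ x ∈ A, ∀ y ∈ A, x * y = y * x) (hApg : IsPGroup p A)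
    (hA : CardBest V A) (hA₁A : A₁ ≤ A) (hA₁ : IsTrv p V A₁) :
    ∃ A' : Subgroup G, A' ≤ A ∧ CardBest V A' ∧ A₁ ⊓ A' = ⊥ ∧ A₁ ⊔ A' = A := by
  have hA₁H : A₁ ≤ H := hA₁A.trans hAH
  obtain ⟨-, -, hUcard, hVE, hUK, hsup, hfaith, hCN⟩ := h.E_structure hA₁H hA₁
  set Q := ppc p H with hQ
  set N₁ := ⁅Q, A₁⁆ with hN₁
  set E₁ := N₁ ⊔ A₁ with hE₁
  set U := ⁅V, E₁⁆ with hU
  set K := V ⊓ Subgroup.centralizer (E₁ : Set G) with hK
  have hcommV := h.commV
  have hAV : A ≤ Subgroup.normalizer (V : Set G) := hAH.trans h.hHV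
  have hAQ : A ≤ Subgroup.normalizer (Q : Set G) := hAH.trans (le_normalizer_ppc p H)
  have hAA₁ : A ≤ Subgroup.normalizer (A₁ : Set G) :=
    Cfsg.Agent.Helper2.le_normalizer_of_comm hcommA le_rfl hA₁A
  have hAN₁ : A ≤ Subgroup.normalizer (N₁ : Set G) := le_normalizer_commutator hAQ hAA₁
  have hAU : A ≤ Subgroup.normalizer (U : Set G) := by
    have h1 : A ≤ Subgroup.normalizer ((⁅V, N₁⁆ : Subgroup G) : Set G) :=
      le_normalizer_commutator hAV hAN₁
    rw [← hVE] at h1; exact h1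
  have hAK : A ≤ Subgroup.normalizer (K : Set G) := by
    have h1 : A ≤ Subgroup.normalizer ((V ⊓ Subgroup.centralizer (N₁ : Set G) : Subgroup G) :
        Set G) := le_normalizer_inf hAV (le_normalizer_centralizer hAN₁)
    rw [hCN] at h1; exact h1
  have hE₁H : E₁ ≤ H := sup_le ((Subgroup.le_normalizer_iff_commutator_le_left.1
    (hA₁H.trans (le_normalizer_ppc p H)) : N₁ ≤ Q).trans (ppc_le p H)) hA₁H
  have hUV : U ≤ V := Subgroup.le_normalizer_iff_commutator_le_left.1 (hE₁H.trans h.hHV)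
  have hKV : K ≤ V := inf_le_left
  have hUe : Cfsg.IsElementaryAbelian p U := Cfsg.Agent.Helper2.isElementaryAbelian_of_le h.hV hUV
  set A' := A ⊓ Subgroup.centralizer (U : Set G) with hA'
  have hA'A : A' ≤ A := inf_le_left
  have hdisj : A₁ ⊓ A' = ⊥ := by
    rw [eq_bot_iff, ← hfaith]
    exact le_inf (inf_le_left.trans le_sup_right) (inf_le_right.trans inf_le_right)
  have hrel := relIndex_centralizer_dvd hAU hApg hUe hUcard
  have hA₁n : ∀ T : Subgroup G, T ≤ A → A₁ ≤ Subgroup.normalizer (T : Set G) := fun T hT =>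
    Cfsg.Agent.Helper2.le_normalizer_of_comm hcommA hA₁A hT
  have hcardsup : ∀ T : Subgroup G, T ≤ A' → Nat.card (A₁ ⊔ T : Subgroup G) = p * Nat.card T := by
    intro T hT
    have hd : A₁ ⊓ T = ⊥ := by
      rw [eq_bot_iff, ← hdisj]; exact inf_le_inf_left _ hT
    rw [sup_comm, card_sup_of_le_normalizer (hA₁n T (hT.trans hA'A)) hd, hA₁.card]
  have hsupA : A₁ ⊔ A' = A := by
    apply Subgroup.eq_of_le_of_card_ge (sup_le hA₁A hA'A)
    rw [hcardsup A' le_rfl, ← relIndex_mul_card_of_le hA'A]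
    exact Nat.mul_le_mul_right _ (Nat.le_of_dvd hp.out.pos hrel)
  -- fixed points
  obtain ⟨a₁, ha₁A₁, ha₁1, -, hza₁⟩ := hA₁.exists_generator
  have hcommU : ∀ x ∈ U, ∀ y ∈ U, x * y = y * x := fun x hx y hy => hcommV x (hUV hx) y (hUV hy)
  have hUA₁card : Nat.card ↥(U ⊓ Subgroup.centralizer (A₁ : Set G)) = p := by
    have h1 := card_commutator_zpowers_mul hcommU (hAU (hA₁A ha₁A₁))
    rw [hza₁, hUcard] at h1
    have h2 : ⁅U, A₁⁆ ≤ ⁅V, A₁⁆ := Subgroup.commutator_mono hUV le_rfl
    have h3 : Nat.card ↥(⁅U, A₁⁆) ∣ p := by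
      rw [← hA₁.comm]; exact Subgroup.card_dvd_of_le h2
    have h4 : Nat.card ↥(⁅U, A₁⁆) ≠ 1 := by
      intro hc
      rw [Subgroup.card_eq_one, Subgroup.commutator_eq_bot_iff_le_centralizer,
        Subgroup.le_centralizer_iff] at hc
      apply hA₁.ne_bot
      rw [eq_bot_iff, ← hfaith]
      exact le_inf le_sup_right hc
    rcases (Nat.dvd_prime hp.out).1 h3 with h5 | h5
    · exact absurd h5 h4
    · rw [h5, pow_two] at h1
      exact Nat.eq_of_mul_eq_mul_left hp.out.pos h1
  have hKA₁ : K ≤ Subgroup.centralizer (A₁ : Set G) :=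
    inf_le_right.trans (Subgroup.centralizer_le (le_sup_right : A₁ ≤ E₁))
  have key : ∀ T : Subgroup G, T ≤ A' →
      Nat.card ↥(V ⊓ Subgroup.centralizer (T : Set G)) =
        p ^ 2 * Nat.card ↥(K ⊓ Subgroup.centralizer (T : Set G)) ∧
      Nat.card ↥(V ⊓ Subgroup.centralizer ((A₁ ⊔ T : Subgroup G) : Set G)) =
        p * Nat.card ↥(K ⊓ Subgroup.centralizer (T : Set G)) := by
    intro T hT
    have hTA : T ≤ A := hT.trans hA'A
    have hTU : T ≤ Subgroup.centralizer (U : Set G) := hT.trans inf_le_right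
    have hUT : U ≤ Subgroup.centralizer (T : Set G) := Subgroup.le_centralizer_iff.1 hTU
    constructor
    · rw [card_inf_centralizer_of_decomp hcommV hUV hKV hUK hsup (hTA.trans hAU) (hTA.trans hAK),
        inf_eq_left.2 hUT, hUcard]
    · rw [card_inf_centralizer_of_decomp hcommV hUV hKV hUK hsup
        ((sup_le hA₁A hTA).trans hAU) ((sup_le hA₁A hTA).trans hAK)]
      have e1 : U ⊓ Subgroup.centralizer ((A₁ ⊔ T : Subgroup G) : Set G) =
          U ⊓ Subgroup.centralizer (A₁ : Set G) := by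
        apply le_antisymm
        · exact inf_le_inf_left _ (Subgroup.centralizer_le (le_sup_left : A₁ ≤ A₁ ⊔ T))
        · refine le_inf inf_le_left ?_
          exact (le_inf inf_le_right (inf_le_left.trans hUT)).trans
            (Cfsg.Agent.Helper2.inf_centralizer_le_centralizer_sup A₁ T)
      have e2 : K ⊓ Subgroup.centralizer ((A₁ ⊔ T : Subgroup G) : Set G) =
          K ⊓ Subgroup.centralizer (T : Set G) := by
        apply le_antisymm
        · exact inf_le_inf_left _ (Subgroup.centralizer_le (le_sup_right : T ≤ A₁ ⊔ T))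
        · refine le_inf inf_le_left ?_
          exact (le_inf (inf_le_left.trans hKA₁) inf_le_right).trans
            (Cfsg.Agent.Helper2.inf_centralizer_le_centralizer_sup A₁ T)
      rw [e1, e2, hUA₁card]
  have star : ∀ T : Subgroup G, T ≤ A' →
      Nat.card (A₁ ⊔ T : Subgroup G) *
        Nat.card ↥(V ⊓ Subgroup.centralizer ((A₁ ⊔ T : Subgroup G) : Set G)) =
      Nat.card T * Nat.card ↥(V ⊓ Subgroup.centralizer (T : Set G)) := by
    intro T hT
    obtain ⟨k1, k2⟩ := key T hT
    rw [hcardsup T hT, k1, k2]; ring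
  refine ⟨A', hA'A, fun T hT => ?_, hdisj, hsupA⟩
  rw [← star T hT, ← star A' le_rfl, hsupA]
  exact hA _ (sup_le hA₁A (hT.trans hA'A))

/-- A quadratically acting element: `a` commuting with `c = a v a⁻¹ v⁻¹` gives
`a ^ k v a ^ (-k) = c ^ k v`. -/
theorem conj_pow_of_commute {a v c : G} (hc : a * v * a⁻¹ = c * v) (hac : a * c = c * a) (k : ℕ) :
    a ^ k * v * (a ^ k)⁻¹ = c ^ k * v := by
  induction k with
  | zero => simp
  | succ k ih =>
    have hack : a * c ^ k = c ^ k * a := by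
      have : Commute a c := hac
      exact (this.pow_right k).eq
    calc a ^ (k + 1) * v * (a ^ (k + 1))⁻¹ = a * (a ^ k * v * (a ^ k)⁻¹) * a⁻¹ := by
          rw [pow_succ']; group
      _ = a * (c ^ k * v) * a⁻¹ := by rw [ih]
      _ = (a * c ^ k) * v * a⁻¹ := by group
      _ = (c ^ k * a) * v * a⁻¹ := by rw [hack]
      _ = c ^ k * (a * v * a⁻¹) := by group
      _ = c ^ k * (c * v) := by rw [hc]
      _ = c ^ (k + 1) * v := by rw [pow_succ]; group

set_option maxHeartbeats 800000 in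
/-- An abelian `p`-subgroup of `H` with the counting property is elementary abelian. -/
theorem pow_eq_one_of_cardBest [Finite G] [hp : Fact p.Prime] (h : Hyp p V H) :
    ∀ (n : ℕ) (A : Subgroup G), Nat.card A = n → A ≤ H →
      (∀ x ∈ A, ∀ y ∈ A, x * y = y * x) → IsPGroup p A → CardBest V A →
      ∀ a ∈ A, a ^ p = 1 := by
  intro n
  induction n using Nat.strong_induction_on with
  | _ n ih =>
  intro A hn hAH hcommA hApg hA
  by_cases hA1 : A = ⊥
  · intro a ha
    rw [hA1, Subgroup.mem_bot] at ha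
    rw [ha, one_pow]
  have hVc := h.commV
  have hAV : A ≤ Subgroup.normalizer (V : Set G) := hAH.trans h.hHV
  have hab : ⁅A, A⁆ ≤ Subgroup.centralizer (V : Set G) := by
    have : ⁅A, A⁆ = ⊥ := by
      rw [Subgroup.commutator_eq_bot_iff_le_centralizer, Subgroup.le_centralizer_iff]
      intro x hx
      rw [Subgroup.mem_centralizer_iff]
      intro y hy
      exact hcommA y hy x hx
    rw [this]; exact bot_le
  have hbest' : ∀ D : Subgroup G, D ≤ A → Cfsg.Agent.Lead.Repl.f V D ≤ Cfsg.Agent.Lead.Repl.f V A :=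
    hA
  obtain ⟨hf, hcv⟩ := Cfsg.Agent.Lead.Repl.timmesfeld hVc hAV hab hbest' V le_rfl
  set As := A ⊓ Subgroup.centralizer ((⁅V, A⁆ : Subgroup G) : Set G) with hAs
  have hAsA : As ≤ A := inf_le_left
  have hAsH : As ≤ H := hAsA.trans hAH
  -- `As` is a best offender
  have hAsbest : Cfsg.IsBestOffenderOn p V As := by
    refine ⟨?_, ?_, ?_⟩
    · intro D hD
      have h1 := hbest' D (hD.trans hAsA)
      unfold Cfsg.Agent.Lead.Repl.f Cfsg.Agent.Lead.Repl.cv at h1 hf
      rw [hf]
      exact h1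
    · exact (Subgroup.commutator_mono hAsA hAsA).trans hab
    · intro a ha
      have haA : a ∈ A := hAsA ha
      have hacent := (Subgroup.mem_inf.1 ha).2
      rw [Subgroup.mem_centralizer_iff]
      intro v hv
      -- c = a v a⁻¹ v⁻¹
      have hv' : a * v * a⁻¹ ∈ V := (Subgroup.mem_normalizer_iff.1 (hAV haA) v).1 hv
      set c := a * v * a⁻¹ * v⁻¹ with hc
      have hcV : c ∈ V := V.mul_mem hv' (V.inv_mem hv)
      have hcVA : c ∈ ⁅V, A⁆ := by
        have h1 : ⁅v, a⁆ ∈ ⁅V, A⁆ := Subgroup.commutator_mem_commutator hv haA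
        have h2 : c = (⁅v, a⁆)⁻¹ := by
          rw [hc, commutatorElement_def]; group
        rw [h2]
        exact Subgroup.inv_mem _ h1
      have hac : a * c = c * a := ((Subgroup.mem_centralizer_iff.1 hacent) c hcVA).symm
      have hcv' : a * v * a⁻¹ = c * v := by rw [hc]; group
      have h3 := conj_pow_of_commute hcv' hac p
      rw [h.hV.2 c hcV, one_mul] at h3
      calc v * a ^ p = (a ^ p * v * (a ^ p)⁻¹) * a ^ p := by rw [h3]
        _ = a ^ p * v := by group
  -- `As ≠ ⊥`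
  have hAsne : As ≠ ⊥ := by
    intro hbot
    have hcvV : Cfsg.Agent.Lead.Repl.cv V As = V := by
      unfold Cfsg.Agent.Lead.Repl.cv
      rw [hbot]
      apply inf_eq_left.2
      intro v _
      rw [Subgroup.mem_centralizer_iff]
      intro x hx
      rw [SetLike.mem_coe, Subgroup.mem_bot] at hx
      rw [hx, one_mul, mul_one]
    rw [hcvV] at hcv
    have hVA : ⁅V, A⁆ ≤ V := Subgroup.le_normalizer_iff_commutator_le_left.1 hAV
    have hnorm : Cfsg.Agent.Lead.Repl.cv V A ≤
        Subgroup.normalizer ((⁅V, A⁆ : Subgroup G) : Set G) := by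
      refine le_trans ?_ (Subgroup.centralizer_le_normalizer _)
      intro x hx
      rw [Subgroup.mem_centralizer_iff]
      intro y hy
      exact hVc y (hVA hy) x (Cfsg.Agent.Lead.Repl.cv_le V A hx)
    have hX : ⁅V, A⁆ ≤ ⁅⁅V, A⁆, A⁆ := by
      rw [Subgroup.commutator_le]
      intro v hv a ha
      have hv' : v ∈ ⁅V, A⁆ ⊔ Cfsg.Agent.Lead.Repl.cv V A := hcv ▸ hv
      obtain ⟨w, hw, c, hc, rfl⟩ := mem_sup_of_le_normalizer hnorm hv'
      have h1 : ⁅c, a⁆ = 1 := by
        rw [commutatorElement_eq_one_iff_mul_comm]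
        exact ((Cfsg.Agent.Lead.Repl.mem_cv.1 hc).2 a ha).symm
      rw [commutatorElement_mul_left_eq_conj_mul, h1, mul_one, mul_inv_cancel, one_mul]
      exact Subgroup.commutator_mem_commutator hw ha
    have hXp : IsPGroup p ↥(⁅V, A⁆) := h.isPGroup_V.to_le hVA
    have hXbot : ⁅V, A⁆ = ⊥ := by
      by_contra hne
      have hlt := commutator_lt_of_isPGroup hXp hApg
        (Subgroup.normalizer_commutator_ge_right V A) hne
      exact absurd hX (not_le_of_gt hlt)
    apply hA1
    rw [eq_bot_iff, ← h.hf]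
    exact le_inf hAH (Subgroup.commutator_eq_bot_iff_le_centralizer.1
      (by rw [Subgroup.commutator_comm]; exact hXbot))
  obtain ⟨B, hBAs, hBmin⟩ := h.exists_minBest_le hAsH hAsbest hAsne
  have hBA : B ≤ A := hBAs.trans hAsA
  have hBtrv : IsTrv p V B := h.isTrv_of_isMinBest (hBA.trans hAH) hBmin
  obtain ⟨A', hA'A, hA'b, hdisj, hsup⟩ := h.split_off' hAH hcommA hApg hA hBA hBtrv
  have hcard : Nat.card A = p * Nat.card A' := by
    rw [← hsup, sup_comm, card_sup_of_le_normalizer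
      (Cfsg.Agent.Helper2.le_normalizer_of_comm hcommA hBA hA'A) hdisj, hBtrv.card]
  have hlt : Nat.card A' < n := by
    rw [← hn, hcard]
    have : 0 < Nat.card A' := Nat.card_pos
    have := hp.out.two_le
    nlinarith
  have ih' := ih (Nat.card A') hlt A' rfl (hA'A.trans hAH)
    (fun x hx y hy => hcommA x (hA'A hx) y (hA'A hy)) (hApg.to_le hA'A) hA'b
  have hBpow : ∀ b ∈ B, b ^ p = 1 := by
    intro b hb
    have h2 : (⟨b, hb⟩ : ↥B) ^ Nat.card B = 1 := pow_card_eq_one'
    rw [hBtrv.card] at h2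
    exact congrArg Subtype.val h2
  intro a ha
  have ha' : a ∈ B ⊔ A' := hsup ▸ ha
  obtain ⟨b, hb, a', ha'', rfl⟩ := mem_sup_of_le_normalizer
    (Cfsg.Agent.Helper2.le_normalizer_of_comm hcommA hA'A hBA) ha'
  have hcm : Commute b a' := hcommA b (hBA hb) a' (hA'A ha'')
  rw [hcm.mul_pow, hBpow b hb, ih' a' ha'', one_mul]

end Hyp

end Cfsg.Agent.Helper1.FFact
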