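import Mathlib
import Cfsg.Prelude.Def_PLocal
import Cfsg.Agent.Helper1.AbJa
import Cfsg.Agent.Helper1.Subnormal
import Cfsg.Agent.Helper1.Coprime

set_option autoImplicit false

/-!
The Thompson subgroup generated by the abelian subgroups of largest order: basic API,
weak closure, the Frattini argument, and the counting property of its generators.
-/

namespace Cfsg.Agent.Helper1.AbJ

open scoped Pointwise

open Cfsg.Agent.Helper1

universe u

variable {G : Type u} [Group G]

/-- `A` is an abelian subgroup of largest order among the abelian subgroups of `G` inside `P`. -/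
def MaxAbIn (P A : Subgroup G) : Prop :=
  A ≤ P ∧ (∀ x ∈ A, ∀ y ∈ A, x * y = y * x) ∧
    ∀ B : Subgroup G, B ≤ P → (∀ x ∈ B, ∀ y ∈ B, x * y = y * x) → Nat.card B ≤ Nat.card A

theorem comm_of_imc {A : Subgroup G} (h : IsMulCommutative A) :
    ∀ x ∈ A, ∀ y ∈ A, x * y = y * x := fun x hx y hy =>
  congrArg Subtype.val (h.is_comm.comm ⟨x, hx⟩ ⟨y, hy⟩)

theorem imc_of_comm {A : Subgroup G} (h : ∀ x ∈ A, ∀ y ∈ A, x * y = y * x) :
    IsMulCommutative A := ⟨⟨fun a b => Subtype.ext (h a a.2 b b.2)⟩⟩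

theorem maxAbIn_map {P : Subgroup G} {A' : Subgroup ↥P}
    (hA' : A' ∈ Cfsg.maxAbelianSubgroups ↥P) : MaxAbIn P (A'.map P.subtype) := by
  refine ⟨Subgroup.map_subtype_le _, ?_, ?_⟩
  · rintro _ ⟨x, hx, rfl⟩ _ ⟨y, hy, rfl⟩
    have := comm_of_imc hA'.1 x hx y hy
    exact congrArg Subtype.val this
  · intro B hBP hB
    have h1 : IsMulCommutative ↥(B.subgroupOf P) := by
      apply imc_of_comm
      intro x hx y hy
      rw [Subgroup.mem_subgroupOf] at hx hy
      exact Subtype.ext (hB x hx y hy)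
    have h2 := hA'.2 (B.subgroupOf P) h1
    rw [card_subgroupOf_of_le hBP] at h2
    rw [Subgroup.card_map_of_injective P.subtype_injective]
    exact h2

theorem subgroupOf_mem_of_maxAbIn {P A : Subgroup G} (hA : MaxAbIn P A) :
    A.subgroupOf P ∈ Cfsg.maxAbelianSubgroups ↥P := by
  obtain ⟨hAP, hAc, hmax⟩ := hA
  refine ⟨?_, ?_⟩
  · apply imc_of_comm
    intro x hx y hy
    rw [Subgroup.mem_subgroupOf] at hx hy
    exact Subtype.ext (hAc x hx y hy)
  · intro B hB
    rw [card_subgroupOf_of_le hAP]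
    have h1 := hmax (B.map P.subtype) (Subgroup.map_subtype_le _) (by
      rintro _ ⟨x, hx, rfl⟩ _ ⟨y, hy, rfl⟩
      exact congrArg Subtype.val (comm_of_imc hB x hx y hy))
    rwa [Subgroup.card_map_of_injective P.subtype_injective] at h1

theorem thompsonSubgroupAOf_eq_iSup (P : Subgroup G) :
    Cfsg.thompsonSubgroupAOf P = ⨆ A : {A : Subgroup G // MaxAbIn P A}, (A : Subgroup G) := by
  apply le_antisymm
  · unfold Cfsg.thompsonSubgroupAOf Cfsg.thompsonSubgroupA
    rw [Subgroup.map_le_iff_le_comap]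
    apply sSup_le
    intro A' hA'
    rw [← Subgroup.map_le_iff_le_comap]
    exact le_iSup (fun A : {A : Subgroup G // MaxAbIn P A} => (A : Subgroup G))
      ⟨A'.map P.subtype, maxAbIn_map hA'⟩
  · apply iSup_le
    rintro ⟨A, hA⟩
    show A ≤ Cfsg.thompsonSubgroupAOf P
    rw [← Subgroup.map_subgroupOf_eq_of_le hA.1]
    exact Subgroup.map_mono (le_sSup (subgroupOf_mem_of_maxAbIn hA))

theorem thompsonSubgroupAOf_le (P : Subgroup G) : Cfsg.thompsonSubgroupAOf P ≤ P := by
  rw [thompsonSubgroupAOf_eq_iSup]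
  exact iSup_le fun A => A.2.1

theorem le_thompsonSubgroupAOf {P A : Subgroup G} (hA : MaxAbIn P A) :
    A ≤ Cfsg.thompsonSubgroupAOf P := by
  rw [thompsonSubgroupAOf_eq_iSup]
  exact le_iSup (fun A : {A : Subgroup G // MaxAbIn P A} => (A : Subgroup G)) ⟨A, hA⟩

theorem MaxAbIn.conj {P A : Subgroup G} (hA : MaxAbIn P A) (g : G) :
    MaxAbIn (P.map (MulAut.conj g).toMonoidHom) (A.map (MulAut.conj g).toMonoidHom) := by
  obtain ⟨hAP, hAc, hmax⟩ := hA
  refine ⟨Subgroup.map_mono hAP, ?_, ?_⟩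
  · rintro _ ⟨x, hx, rfl⟩ _ ⟨y, hy, rfl⟩
    rw [← map_mul, ← map_mul, hAc x hx y hy]
  · intro B hBP hB
    rw [Subgroup.card_map_of_injective (MulAut.conj g).injective]
    have h1 : B.map (MulAut.conj g⁻¹).toMonoidHom ≤ P := by
      rintro _ ⟨b, hb, rfl⟩
      obtain ⟨x, hx, hxb⟩ := hBP hb
      rw [← hxb]
      simp only [MulEquiv.coe_toMonoidHom, MulAut.conj_apply, inv_inv]
      have : g⁻¹ * (g * x * g⁻¹) * g = x := by group
      rw [this]; exact hx
    have h2 := hmax _ h1 (by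
      rintro _ ⟨x, hx, rfl⟩ _ ⟨y, hy, rfl⟩
      rw [← map_mul, ← map_mul, hB x hx y hy])
    rwa [Subgroup.card_map_of_injective (MulAut.conj g⁻¹).injective] at h2

/-- `J_A(P)` is weakly closed in `P`. -/
theorem thompsonSubgroupAOf_map_conj_eq [Finite G] (P : Subgroup G) (n : G)
    (hle : (Cfsg.thompsonSubgroupAOf P).map (MulAut.conj n).toMonoidHom ≤ P) :
    (Cfsg.thompsonSubgroupAOf P).map (MulAut.conj n).toMonoidHom = Cfsg.thompsonSubgroupAOf P := by
  have hle2 : (Cfsg.thompsonSubgroupAOf P).map (MulAut.conj n).toMonoidHom ≤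
      Cfsg.thompsonSubgroupAOf P := by
    conv_lhs => rw [thompsonSubgroupAOf_eq_iSup]
    rw [Subgroup.map_iSup]
    apply iSup_le
    rintro ⟨A, hA⟩
    apply le_thompsonSubgroupAOf
    have hAn : A.map (MulAut.conj n).toMonoidHom ≤ P :=
      (Subgroup.map_mono (le_thompsonSubgroupAOf hA)).trans hle
    refine ⟨hAn, ?_, ?_⟩
    · rintro _ ⟨x, hx, rfl⟩ _ ⟨y, hy, rfl⟩
      rw [← map_mul, ← map_mul, hA.2.1 x hx y hy]
    · intro B hBP hB
      rw [Subgroup.card_map_of_injective (MulAut.conj n).injective]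
      exact hA.2.2 B hBP hB
  apply Subgroup.eq_of_le_of_card_ge hle2
  rw [Subgroup.card_map_of_injective (MulAut.conj n).injective]

/-- Frattini argument for `J_A` of a Sylow subgroup. -/
theorem frattini_thompsonA [Finite G] {p : ℕ} [Fact p.Prime] (S : Sylow p G) (L : Subgroup G)
    [hLn : L.Normal] (hJL : Cfsg.thompsonSubgroupAOf (S : Subgroup G) ≤ L) :
    L ⊔ Subgroup.normalizer (Cfsg.thompsonSubgroupAOf (S : Subgroup G) : Set G) = ⊤ := by
  obtain ⟨Q, hQ⟩ := sylow_inf_subnormal p L hLn.isSubnormal S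
  have hQmap : (Q : Subgroup L).map L.subtype = (S : Subgroup G) ⊓ L := by
    rw [hQ, Subgroup.subgroupOf_map_subtype]
  have hfr := Sylow.normalizer_sup_eq_top Q
  rw [hQmap, sup_comm] at hfr
  rw [eq_top_iff, ← hfr]
  apply sup_le_sup_left
  intro n hn
  have hle : (Cfsg.thompsonSubgroupAOf (S : Subgroup G)).map (MulAut.conj n).toMonoidHom ≤
      (S : Subgroup G) := by
    rintro _ ⟨y, hy, rfl⟩
    have hyQ : y ∈ (S : Subgroup G) ⊓ L :=
      ⟨thompsonSubgroupAOf_le _ hy, hJL hy⟩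
    have := (Subgroup.mem_normalizer_iff.1 hn y).1 hyQ
    exact this.1
  have heq := thompsonSubgroupAOf_map_conj_eq (S : Subgroup G) n hle
  apply mem_normalizer_of_conj_smul_eq
  rw [conj_smul_eq_map]
  exact heq

/-- The generators of `J_A(P)` have the counting property on every abelian subgroup of `P`. -/
theorem MaxAbIn.cardBest [Finite G] {P A W : Subgroup G} (hA : MaxAbIn P A) (hWP : W ≤ P)
    (hW : ∀ x ∈ W, ∀ y ∈ W, x * y = y * x) : FFact.CardBest W A := by
  obtain ⟨hAP, hAc, hmax⟩ := hA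
  intro B hBA
  set CB := W ⊓ Subgroup.centralizer (B : Set G) with hCB
  have hBc : ∀ x ∈ B, ∀ y ∈ B, x * y = y * x := fun x hx y hy => hAc x (hBA hx) y (hBA hy)
  have hBn : B ≤ Subgroup.normalizer (CB : Set G) := by
    refine le_trans ?_ (Subgroup.centralizer_le_normalizer _)
    intro b hb
    rw [Subgroup.mem_centralizer_iff]
    intro c hc
    exact (Subgroup.mem_centralizer_iff.1 hc.2 b hb).symm
  have h1 := card_sup_mul_card_inf hBn
  have hDc : ∀ x ∈ CB ⊔ B, ∀ y ∈ CB ⊔ B, x * y = y * x := by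
    intro x hx y hy
    obtain ⟨c, hc, b, hb, rfl⟩ := mem_sup_of_le_normalizer hBn hx
    obtain ⟨c', hc', b', hb', rfl⟩ := mem_sup_of_le_normalizer hBn hy
    have e1 : c * c' = c' * c := hW c hc.1 c' hc'.1
    have e2 : b * b' = b' * b := hBc b hb b' hb'
    have e3 : b * c' = c' * b := Subgroup.mem_centralizer_iff.1 hc'.2 b hb
    have e4 : b' * c = c * b' := Subgroup.mem_centralizer_iff.1 hc.2 b' hb'
    calc c * b * (c' * b') = c * (b * c') * b' := by group
      _ = c * (c' * b) * b' := by rw [e3]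
      _ = (c * c') * (b * b') := by group
      _ = (c' * c) * (b' * b) := by rw [e1, e2]
      _ = c' * (c * b') * b := by group
      _ = c' * (b' * c) * b := by rw [e4]
      _ = c' * b' * (c * b) := by group
  have hDP : CB ⊔ B ≤ P := sup_le (inf_le_left.trans hWP) (hBA.trans hAP)
  have h2 := hmax _ hDP hDc
  have h3 : CB ⊓ B ≤ W ⊓ Subgroup.centralizer (A : Set G) := by
    intro x hx
    refine ⟨hx.1.1, ?_⟩
    show x ∈ Subgroup.centralizer (A : Set G)
    rw [Subgroup.mem_centralizer_iff]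
    intro a ha
    exact hAc a ha x (hBA hx.2)
  have h4 : Nat.card ↥(CB ⊓ B) ≤ Nat.card ↥(W ⊓ Subgroup.centralizer (A : Set G)) :=
    Subgroup.card_le_of_le h3
  calc Nat.card B * Nat.card ↥CB = Nat.card ↥CB * Nat.card B := mul_comm _ _
    _ = Nat.card ↥(CB ⊔ B) * Nat.card ↥(CB ⊓ B) := h1.symm
    _ ≤ Nat.card A * Nat.card ↥(W ⊓ Subgroup.centralizer (A : Set G)) := Nat.mul_le_mul h2 h4

theorem exists_maxAbIn [Finite G] (P : Subgroup G) : ∃ A : Subgroup G, MaxAbIn P A := by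
  let α := {B : Subgroup G // B ≤ P ∧ ∀ x ∈ B, ∀ y ∈ B, x * y = y * x}
  haveI : Nonempty α := ⟨⟨⊥, bot_le, by
    intro x hx y hy
    rw [Subgroup.mem_bot] at hx hy
    rw [hx, hy]⟩⟩
  obtain ⟨A, hA⟩ := Finite.exists_max (fun B : α => Nat.card (B : Subgroup G))
  exact ⟨A.1, A.2.1, A.2.2, fun B hBP hB => hA ⟨B, hBP, hB⟩⟩

end Cfsg.Agent.Helper1.AbJ
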