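import Mathlib
import Cfsg.Prelude.Def_PLocal
import Cfsg.Agent.Helper1.AbJb
import Cfsg.Agent.Helper1.AbelianAct

set_option autoImplicit false

/-!
Elements of order dividing `p` of an abelian normal `p`-subgroup: stability, and the
`O_p(X / C_X(V)) = 1` argument for the normal closure of the centre of a Sylow subgroup.
-/

namespace Cfsg.Agent.Helper1.AbJ

open scoped Pointwise commutatorElement

open Cfsg.Agent.Helper1

universe u

variable {G : Type u} [Group G]

/-- The elements of order dividing `p` of an abelian subgroup. -/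
def omegaAb (p : ℕ) (V : Subgroup G) (hV : ∀ x ∈ V, ∀ y ∈ V, x * y = y * x) : Subgroup G where
  carrier := {v | v ∈ V ∧ v ^ p = 1}
  one_mem' := ⟨V.one_mem, one_pow p⟩
  mul_mem' := by
    rintro a b ⟨ha, ha'⟩ ⟨hb, hb'⟩
    refine ⟨V.mul_mem ha hb, ?_⟩
    have hc : Commute a b := hV a ha b hb
    rw [hc.mul_pow, ha', hb', one_mul]
  inv_mem' := by
    rintro a ⟨ha, ha'⟩
    exact ⟨V.inv_mem ha, by rw [inv_pow, ha', inv_one]⟩

theorem mem_omegaAb {p : ℕ} {V : Subgroup G} {hV : ∀ x ∈ V, ∀ y ∈ V, x * y = y * x} {v : G} :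
    v ∈ omegaAb p V hV ↔ v ∈ V ∧ v ^ p = 1 := Iff.rfl

theorem omegaAb_le (p : ℕ) (V : Subgroup G) (hV : ∀ x ∈ V, ∀ y ∈ V, x * y = y * x) :
    omegaAb p V hV ≤ V := fun _ hv => hv.1

instance omegaAb_normal (p : ℕ) (V : Subgroup G) [hVn : V.Normal]
    (hV : ∀ x ∈ V, ∀ y ∈ V, x * y = y * x) : (omegaAb p V hV).Normal := by
  constructor
  rintro v ⟨hv, hv'⟩ g
  refine ⟨hVn.conj_mem v hv g, ?_⟩
  rw [conj_pow, hv']; group

theorem omegaAb_isElementaryAbelian (p : ℕ) (V : Subgroup G)
    (hV : ∀ x ∈ V, ∀ y ∈ V, x * y = y * x) : Cfsg.IsElementaryAbelian p (omegaAb p V hV) :=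
  ⟨imc_of_comm fun x hx y hy => hV x hx.1 y hy.1, fun _ hv => hv.2⟩

/-- A `p'`-element centralizing the elements of order dividing `p` of an abelian `p`-group `V`
which it normalizes centralizes `V`. -/
theorem mem_centralizer_of_mem_centralizer_omegaAb [Finite G] {p : ℕ} [hp : Fact p.Prime]
    (V : Subgroup G) (hV : ∀ x ∈ V, ∀ y ∈ V, x * y = y * x) (hVp : IsPGroup p V) {g : G}
    (hgV : g ∈ Subgroup.normalizer (V : Set G)) (hcop : (orderOf g).Coprime p)
    (hg : g ∈ Subgroup.centralizer ((omegaAb p V hV : Subgroup G) : Set G)) :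
    g ∈ Subgroup.centralizer (V : Set G) := by
  haveI : IsMulCommutative V := imc_of_comm hV
  set A := Subgroup.zpowers g with hA
  have hAV : A ≤ Subgroup.normalizer (V : Set G) := by
    rw [hA, Subgroup.zpowers_le]; exact hgV
  obtain ⟨k, hk⟩ := IsPGroup.iff_card.1 hVp
  have hcop' : (Nat.card A).Coprime (Nat.card V) := by
    rw [hA, Nat.card_zpowers, hk]
    exact Nat.Coprime.pow_right k hcop
  obtain ⟨h1, -⟩ := abelian_coprime_decomp A V hAV hcop'
  have hVA : ⁅V, A⁆ ≤ V := Subgroup.le_normalizer_iff_commutator_le_left.1 hAV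
  have hbot : ⁅V, A⁆ = ⊥ := by
    by_contra hne
    have hXp : IsPGroup p ↥(⁅V, A⁆) := hVp.to_le hVA
    obtain ⟨j, hj⟩ := IsPGroup.iff_card.1 hXp
    have hj0 : j ≠ 0 := by
      rintro rfl
      rw [pow_zero, Subgroup.card_eq_one] at hj
      exact hne hj
    have hdvd : p ∣ Nat.card ↥(⁅V, A⁆) := by rw [hj]; exact dvd_pow_self p hj0
    obtain ⟨w, hw⟩ := exists_prime_orderOf_dvd_card' (G := ↥(⁅V, A⁆)) p hdvd
    have hwV : (w : G) ∈ V := hVA w.2
    have hwp : (w : G) ^ p = 1 := by
      have := pow_orderOf_eq_one w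
      rw [hw] at this
      exact_mod_cast congrArg Subtype.val this
    have hwΩ : (w : G) ∈ omegaAb p V hV := ⟨hwV, hwp⟩
    have hwg : g * (w : G) = (w : G) * g := (Subgroup.mem_centralizer_iff.1 hg (w : G) hwΩ).symm
    have hwA : (w : G) ∈ Subgroup.centralizer (A : Set G) := by
      rw [Subgroup.mem_centralizer_iff]
      intro x hx
      obtain ⟨n, rfl⟩ := Subgroup.mem_zpowers_iff.1 (hA ▸ hx)
      have : Commute g (w : G) := hwg
      exact (this.zpow_left n).eq
    have hw1 : (w : G) ∈ (V ⊓ Subgroup.centralizer (A : Set G)) ⊓ ⁅V, A⁆ := ⟨⟨hwV, hwA⟩, w.2⟩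
    rw [h1, Subgroup.mem_bot] at hw1
    have hw1' : w = 1 := Subtype.ext hw1
    rw [hw1', orderOf_one] at hw
    exact hp.out.one_lt.ne hw
  have h2 : V ≤ Subgroup.centralizer (A : Set G) :=
    Subgroup.commutator_eq_bot_iff_le_centralizer.1 hbot
  rw [Subgroup.mem_centralizer_iff]
  intro v hv
  have := Subgroup.mem_centralizer_iff.1 (h2 hv) g (Subgroup.mem_zpowers g)
  exact this.symm

/-- `C_G(Ω₁(V)) / C_G(V)` is a `p`-group for an abelian normal `p`-subgroup `V`. -/
theorem relIndex_centralizer_omegaAb [Finite G] {p : ℕ} [hp : Fact p.Prime]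
    (V : Subgroup G) [hVn : V.Normal] (hV : ∀ x ∈ V, ∀ y ∈ V, x * y = y * x)
    (hVp : IsPGroup p V) :
    ∃ k : ℕ, (Subgroup.centralizer (V : Set G)).relIndex
      (Subgroup.centralizer ((omegaAb p V hV : Subgroup G) : Set G)) = p ^ k := by
  set C := Subgroup.centralizer (V : Set G) with hC
  set C₁ := Subgroup.centralizer ((omegaAb p V hV : Subgroup G) : Set G) with hC₁
  haveI : (C.subgroupOf C₁).Normal := Subgroup.Normal.subgroupOf inferInstance C₁
  have hQ : IsPGroup p (↥C₁ ⧸ C.subgroupOf C₁) := by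
    intro q
    induction q using QuotientGroup.induction_on with
    | H x =>
      obtain ⟨k, m, hm, hkm⟩ := Nat.exists_eq_pow_mul_and_not_dvd
        (orderOf_pos (x : G)).ne' p hp.out.ne_one
      refine ⟨k, ?_⟩
      rw [← QuotientGroup.mk_pow, QuotientGroup.eq_one_iff, Subgroup.mem_subgroupOf]
      simp only [Subgroup.coe_pow]
      apply mem_centralizer_of_mem_centralizer_omegaAb V hV hVp
      · rw [Subgroup.normalizer_eq_top]; trivial
      · have h1 : ((x : G) ^ p ^ k) ^ m = 1 := by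
          rw [← pow_mul, ← hkm]; exact pow_orderOf_eq_one _
        have h2 : orderOf ((x : G) ^ p ^ k) ∣ m := orderOf_dvd_of_pow_eq_one h1
        have h3 : m.Coprime p := ((Nat.Prime.coprime_iff_not_dvd hp.out).2 hm).symm
        exact Nat.Coprime.coprime_dvd_left h2 h3
      · exact C₁.pow_mem x.2 _
  obtain ⟨k, hk⟩ := IsPGroup.iff_card.1 hQ
  refine ⟨k, ?_⟩
  rw [Subgroup.relIndex, Subgroup.index_eq_card, hk]

theorem normalCore_centralizer_eq (Z : Subgroup G) :
    (Subgroup.centralizer (Z : Set G)).normalCore =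
      Subgroup.centralizer ((Subgroup.normalClosure (Z : Set G) : Subgroup G) : Set G) := by
  apply le_antisymm
  · set N := (Subgroup.centralizer (Z : Set G)).normalCore with hN
    have h1 : N ≤ Subgroup.centralizer (Z : Set G) := Subgroup.normalCore_le _
    have h2 : Z ≤ Subgroup.centralizer (N : Set G) := Subgroup.le_centralizer_iff.1 h1
    have h3 : Subgroup.normalClosure (Z : Set G) ≤ Subgroup.centralizer (N : Set G) :=
      Subgroup.normalClosure_le_normal h2
    exact Subgroup.le_centralizer_iff.1 h3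
  · rw [Subgroup.normal_le_normalCore]
    exact Subgroup.centralizer_le Subgroup.subset_normalClosure

/-- `O_p(G / C) = 1` for `C` the largest normal subgroup centralizing a subgroup `Z`
centralized by a Sylow `p`-subgroup. -/
theorem eq_normalCore_of_relIndex [Finite G] {p : ℕ} [hp : Fact p.Prime] (T : Sylow p G)
    (Z : Subgroup G) (hZ : (T : Subgroup G) ≤ Subgroup.centralizer (Z : Set G))
    (D : Subgroup G) [hDn : D.Normal] (hCD : (Subgroup.centralizer (Z : Set G)).normalCore ≤ D)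
    (hk : ∃ k : ℕ, ((Subgroup.centralizer (Z : Set G)).normalCore).relIndex D = p ^ k) :
    D = (Subgroup.centralizer (Z : Set G)).normalCore := by
  set C := (Subgroup.centralizer (Z : Set G)).normalCore with hC
  apply le_antisymm _ hCD
  rw [hC, Subgroup.normal_le_normalCore]
  obtain ⟨Q, hQ⟩ := sylow_inf_subnormal p D hDn.isSubnormal T
  set M := C ⊔ ((T : Subgroup G) ⊓ D) with hM
  have hMD : M ≤ D := sup_le hCD inf_le_right
  have h1 : M.relIndex D ∣ C.relIndex D := Subgroup.relIndex_dvd_of_le_left D le_sup_left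
  have h2 : M.relIndex D ∣ ((T : Subgroup G) ⊓ D).relIndex D :=
    Subgroup.relIndex_dvd_of_le_left D le_sup_right
  have h3 : ((T : Subgroup G) ⊓ D).relIndex D = (Q : Subgroup D).index := by
    rw [hQ, Subgroup.relIndex, Subgroup.inf_subgroupOf_right]
  obtain ⟨k, hk⟩ := hk
  rw [hk] at h1
  rw [h3] at h2
  have h4 : M.relIndex D = 1 := by
    obtain ⟨j, -, hj⟩ := (Nat.dvd_prime_pow hp.out).1 h1
    cases j with
    | zero => rw [hj, pow_zero]
    | succ j =>
      exfalso
      apply Q.not_dvd_index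
      rw [hj] at h2
      exact (dvd_pow_self p (Nat.succ_ne_zero j)).trans h2
  have h5 : D ≤ M := Subgroup.relIndex_eq_one.1 h4
  exact h5.trans (sup_le (Subgroup.normalCore_le _) (inf_le_left.trans hZ))

end Cfsg.Agent.Helper1.AbJ
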