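import Mathlib
import Cfsg.Prelude.Def_PLocal
import Cfsg.Agent.Helper1.FFact10

set_option autoImplicit false

/-!
Failure of factorization: general lemmas for the direct-factor theorem.
-/

namespace Cfsg.Agent.Helper1.FFact

open scoped Pointwise commutatorElement

open Cfsg.Agent.Helper1

universe u

variable {G : Type u} [Group G]

/-- `[X, Y] ≤ C(U)` when `X` normalizes `U` and `Y` centralizes `U`. -/
theorem commutator_le_centralizer_of_le {X Y U : Subgroup G}
    (hX : X ≤ Subgroup.normalizer (U : Set G)) (hY : Y ≤ Subgroup.centralizer (U : Set G)) :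
    ⁅X, Y⁆ ≤ Subgroup.centralizer (U : Set G) := by
  rw [Subgroup.commutator_le]
  intro x hx y hy
  have h1 := le_normalizer_centralizer hX hx
  have h2 : x * y * x⁻¹ ∈ Subgroup.centralizer (U : Set G) :=
    (Subgroup.mem_normalizer_iff.1 h1 y).1 (hY hy)
  rw [commutatorElement_def]
  exact Subgroup.mul_mem _ h2 (Subgroup.inv_mem _ (hY hy))

/-- `[X, Y] ≤ C` when `X, Y ≤ C`. -/
theorem commutator_le_of_le_of_le {X Y C : Subgroup G} (hX : X ≤ C) (hY : Y ≤ C) :
    ⁅X, Y⁆ ≤ C := by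
  rw [Subgroup.commutator_le]
  intro x hx y hy
  rw [commutatorElement_def]
  exact C.mul_mem (C.mul_mem (C.mul_mem (hX hx) (hY hy)) (C.inv_mem (hX hx))) (C.inv_mem (hY hy))

/-- `[U K, M] ≤ [U, M] [K, M]` when `U` and `K` commute and `M` normalizes `K`. -/
theorem commutator_sup_le_of_comm {U K M : Subgroup G}
    (hcomm : ∀ u ∈ U, ∀ k ∈ K, u * k = k * u)
    (hMK : M ≤ Subgroup.normalizer (K : Set G)) : ⁅U ⊔ K, M⁆ ≤ ⁅U, M⁆ ⊔ ⁅K, M⁆ := by
  have hKU : K ≤ Subgroup.normalizer (U : Set G) := by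
    apply Cfsg.Agent.Helper2.le_normalizer_of_conj_mem
    intro k hk u hu
    have : k * u * k⁻¹ = u := by rw [← hcomm u hu k hk]; group
    rw [this]; exact hu
  rw [Subgroup.commutator_le]
  intro g hg m hm
  obtain ⟨u, hu, k, hk, rfl⟩ := mem_sup_of_le_normalizer hKU hg
  have hkm : ⁅k, m⁆ ∈ K := by
    rw [commutatorElement_def]
    have h1 : m * k⁻¹ * m⁻¹ ∈ K :=
      (Subgroup.mem_normalizer_iff.1 (hMK hm) _).1 (K.inv_mem hk)
    have h2 : k * m * k⁻¹ * m⁻¹ = k * (m * k⁻¹ * m⁻¹) := by group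
    rw [h2]; exact K.mul_mem hk h1
  have h3 : ⁅u * k, m⁆ = ⁅k, m⁆ * ⁅u, m⁆ := by
    have h4 : ⁅u * k, m⁆ = u * ⁅k, m⁆ * u⁻¹ * ⁅u, m⁆ := by
      simp only [commutatorElement_def]; group
    rw [h4, hcomm u hu _ hkm]; group
  rw [h3]
  exact Subgroup.mul_mem _ (Subgroup.mem_sup_right (Subgroup.commutator_mem_commutator hk hm))
    (Subgroup.mem_sup_left (Subgroup.commutator_mem_commutator hu hm))

/-- A faithful group `T` on a plane `U`: a subgroup `E = N A` of the order of `SL(2, p)` with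
`N = [N, A]` and `|A| = p` contains every subgroup of order `p` of `T`. -/
theorem le_of_faithful_plane [Finite G] {p : ℕ} [hp : Fact p.Prime] {T E N A B U : Subgroup G}
    (hTU : T ≤ Subgroup.normalizer (U : Set G))
    (hfaith : T ⊓ Subgroup.centralizer (U : Set G) = ⊥)
    (hU : Cfsg.IsElementaryAbelian p U) (hUcard : Nat.card U = p ^ 2)
    (hET : E ≤ T) (hNA : N ⊔ A = E) (hNcomm : N = ⁅N, A⁆) (hAcard : Nat.card A = p)
    (hEcard : Nat.card E = Nat.card (Matrix.SpecialLinearGroup (Fin 2) (ZMod p)))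
    (hBT : B ≤ T) (hBcard : Nat.card B = p) : B ≤ E := by
  letI : CommGroup ↥U :=
    { (inferInstance : Group ↥U) with
      mul_comm := fun a b => hU.1.is_comm.comm a b }
  have hexp : ∀ v : ↥U, v ^ p = 1 := fun v => Subtype.ext (by
    rw [Subgroup.coe_pow, Subgroup.coe_one]; exact hU.2 v v.2)
  obtain ⟨Φ, hΦ⟩ := GL2Rep.exists_GL2_rep (V := ↥U) hexp hUcard
  set ρ := conjHom T U hTU with hρ
  have hρinj : Function.Injective ρ := by
    rw [injective_iff_map_eq_one]
    intro l hl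
    have h1 : (l : G) ∈ T ⊓ Subgroup.centralizer (U : Set G) := by
      refine ⟨l.2, ?_⟩
      show (l : G) ∈ Subgroup.centralizer (U : Set G)
      rw [Subgroup.mem_centralizer_iff]
      intro u hu
      have h2 := congrArg (fun f : MulAut ↥U => ((f ⟨u, hu⟩ : ↥U) : G)) hl
      simp only [MulAut.one_apply] at h2
      rw [hρ, conjHom_coe] at h2
      have h3 : (l : G) * u * (l : G)⁻¹ = u := h2
      calc u * (l : G) = ((l : G) * u * (l : G)⁻¹) * l := by rw [h3]
        _ = l * u := by group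
    rw [hfaith, Subgroup.mem_bot] at h1
    exact Subtype.ext h1
  set μ' : ↥T →* GL (Fin 2) (ZMod p) := Φ.comp ρ with hμ'
  have hμ'inj : Function.Injective μ' := hΦ.comp hρinj
  set d : ↥T →* (ZMod p)ˣ := Matrix.GeneralLinearGroup.det.comp μ' with hd
  have hker : ∀ B : Subgroup G, B ≤ T → Nat.card B = p → B.subgroupOf T ≤ d.ker := by
    intro B hBL hB x hx
    rw [Subgroup.mem_subgroupOf] at hx
    rw [MonoidHom.mem_ker]
    apply units_eq_one_of_pow_prime
    rw [← map_pow]
    have h1 : x ^ p = 1 := by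
      apply Subtype.ext
      rw [Subgroup.coe_pow, Subgroup.coe_one]
      have h2 : (⟨(x : G), hx⟩ : ↥B) ^ Nat.card B = 1 := pow_card_eq_one'
      rw [hB] at h2
      exact congrArg Subtype.val h2
    rw [h1, map_one]
  have hNT : N ≤ T := (le_sup_left.trans hNA.le).trans hET
  have hAT : A ≤ T := (le_sup_right.trans hNA.le).trans hET
  have hkerN : N.subgroupOf T ≤ d.ker := by
    have h1 : N ≤ d.ker.map T.subtype := by
      rw [hNcomm, Subgroup.commutator_le]
      intro r hr b hb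
      have hrL : r ∈ T := hNT (hNcomm ▸ hr)
      refine ⟨⁅(⟨r, hrL⟩ : ↥T), (⟨b, hAT hb⟩ : ↥T)⁆, ?_, rfl⟩
      rw [SetLike.mem_coe, MonoidHom.mem_ker, map_commutatorElement,
        commutatorElement_eq_one_iff_commute]
      exact Commute.all _ _
    intro x hx
    rw [Subgroup.mem_subgroupOf] at hx
    obtain ⟨y, hy, hyx⟩ := h1 hx
    have : y = x := Subtype.ext hyx
    rw [← this]; exact hy
  have hkerE : E.subgroupOf T ≤ d.ker := by
    rw [← hNA, Subgroup.subgroupOf_sup hNT hAT]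
    exact sup_le hkerN (hker A hAT hAcard)
  have hcardker : Nat.card d.ker ≤ Nat.card (E.subgroupOf T) := by
    rw [card_subgroupOf_of_le hET, hEcard, Cfsg.Agent.Helper7.card_SL_eq_card_ker_det]
    have h1 : d.ker.map μ' ≤ (Matrix.GeneralLinearGroup.det :
        GL (Fin 2) (ZMod p) →* (ZMod p)ˣ).ker := by
      rintro _ ⟨x, hx, rfl⟩
      rw [MonoidHom.mem_ker]
      exact hx
    have h2 : Nat.card (d.ker.map μ') = Nat.card d.ker :=
      Subgroup.card_map_of_injective hμ'inj
    rw [← h2]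
    exact Subgroup.card_le_of_le h1
  have heq : E.subgroupOf T = d.ker := Subgroup.eq_of_le_of_card_ge hkerE hcardker
  intro b hb
  have h1 : (⟨b, hBT hb⟩ : ↥T) ∈ B.subgroupOf T := by
    rw [Subgroup.mem_subgroupOf]; exact hb
  have h2 := hker B hBT hBcard h1
  rw [← heq, Subgroup.mem_subgroupOf] at h2
  exact h2

end Cfsg.Agent.Helper1.FFact
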