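import Mathlib
import Cfsg.Prelude.Def_PLocal
import Cfsg.Agent.Helper1.FFact11

set_option autoImplicit false

/-!
Failure of factorization: two transvection subgroups either lie in the same `SL(2, p)` or
their `SL(2, p)`s commute.
-/

namespace Cfsg.Agent.Helper1.FFact

open scoped Pointwise commutatorElement

open Cfsg.Agent.Helper1

universe u

variable {G : Type u} [Group G]

/-- an element of a subgroup inducing the identity on a normalized subgroup centralizes it -/
theorem mem_centralizer_of_conjHom_eq_one {M D : Subgroup G}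
    (hMD : M ≤ Subgroup.normalizer (D : Set G)) {n : ↥M} (hn : conjHom M D hMD n = 1) :
    (n : G) ∈ Subgroup.centralizer (D : Set G) := by
  rw [Subgroup.mem_centralizer_iff]
  intro u hu
  have h2 := congrArg (fun f : MulAut ↥D => ((f ⟨u, hu⟩ : ↥D) : G)) hn
  simp only [MulAut.one_apply] at h2
  rw [conjHom_coe] at h2
  have h3 : (n : G) * u * (n : G)⁻¹ = u := h2
  calc u * (n : G) = ((n : G) * u * (n : G)⁻¹) * n := by rw [h3]
    _ = n * u := by group

namespace Hyp

variable {p : ℕ} {V H : Subgroup G}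

set_option maxHeartbeats 1600000 in
theorem trv_dichotomy [Finite G] [hp : Fact p.Prime] (h : Hyp p V H) {A A' : Subgroup G}
    (hAH : A ≤ H) (hA : IsTrv p V A) (hA'H : A' ≤ H) (hA' : IsTrv p V A') :
    A' ≤ ⁅ppc p H, A⁆ ⊔ A ∨
    (A' ≤ Subgroup.centralizer ((⁅V, ⁅ppc p H, A⁆ ⊔ A⁆ : Subgroup G) : Set G) ∧
     A' ≤ Subgroup.centralizer ((⁅ppc p H, A⁆ ⊔ A : Subgroup G) : Set G)) := by
  obtain ⟨h23, ⟨e⟩, hUc, hUN, hUK, hUKV, hEf, hKN⟩ := h.E_structure hAH hA
  obtain ⟨-, ⟨e'⟩, hUc', hUN', hUK', hUKV', hEf', hKN'⟩ := h.E_structure hA'H hA'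
  set Q := ppc p H with hQ
  set N := ⁅Q, A⁆ with hN
  set N' := ⁅Q, A'⁆ with hN'
  set E := N ⊔ A with hE
  set E' := N' ⊔ A' with hE'
  set U := ⁅V, E⁆ with hU
  set U' := ⁅V, E'⁆ with hU'
  set K := V ⊓ Subgroup.centralizer (E : Set G) with hK
  set K' := V ⊓ Subgroup.centralizer (E' : Set G) with hK'
  have hQH : Q ≤ H := ppc_le p H
  have hAQ : A ≤ Subgroup.normalizer (Q : Set G) := hAH.trans (le_normalizer_ppc p H)
  have hA'Q : A' ≤ Subgroup.normalizer (Q : Set G) := hA'H.trans (le_normalizer_ppc p H)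
  have hNQ : N ≤ Q := Subgroup.le_normalizer_iff_commutator_le_left.1 hAQ
  have hN'Q : N' ≤ Q := Subgroup.le_normalizer_iff_commutator_le_left.1 hA'Q
  have hEH : E ≤ H := sup_le (hNQ.trans hQH) hAH
  have hE'H : E' ≤ H := sup_le (hN'Q.trans hQH) hA'H
  have hQN : Q ≤ Subgroup.normalizer (N : Set G) := Subgroup.normalizer_commutator_ge_left Q A
  have hN'nN : N' ≤ Subgroup.normalizer (N : Set G) := hN'Q.trans hQN
  have hN'V : N' ≤ Subgroup.normalizer (V : Set G) := (hN'Q.trans hQH).trans h.hHV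
  have hN'U : N' ≤ Subgroup.normalizer (U : Set G) := by
    rw [hUN]; exact le_normalizer_commutator hN'V hN'nN
  have hN'K : N' ≤ Subgroup.normalizer (K : Set G) := by
    rw [← hKN]; exact le_normalizer_inf hN'V (le_normalizer_centralizer hN'nN)
  have hUV : U ≤ V := Subgroup.le_normalizer_iff_commutator_le_left.1 (hEH.trans h.hHV)
  have hU'V : U' ≤ V := Subgroup.le_normalizer_iff_commutator_le_left.1 (hE'H.trans h.hHV)
  have hKV : K ≤ V := inf_le_left
  have hK'V : K' ≤ V := inf_le_left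
  have hcommUK : ∀ u ∈ U, ∀ k ∈ K, u * k = k * u := fun u hu k hk =>
    h.commV u (hUV hu) k (hKV hk)
  have hEU : E ≤ Subgroup.normalizer (U : Set G) := Subgroup.normalizer_commutator_ge_right V E
  have hE'U' : E' ≤ Subgroup.normalizer (U' : Set G) :=
    Subgroup.normalizer_commutator_ge_right V E'
  have hEK : E ≤ Subgroup.centralizer (K : Set G) :=
    Subgroup.le_centralizer_iff.1 (inf_le_right : K ≤ Subgroup.centralizer (E : Set G))
  have hE'K' : E' ≤ Subgroup.centralizer (K' : Set G) :=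
    Subgroup.le_centralizer_iff.1 (inf_le_right : K' ≤ Subgroup.centralizer (E' : Set G))
  set D₁ := ⁅U, N'⁆ with hD₁
  set D₂ := ⁅K, N'⁆ with hD₂
  have hD₁U : D₁ ≤ U := Subgroup.le_normalizer_iff_commutator_le_left.1 hN'U
  have hD₂K : D₂ ≤ K := Subgroup.le_normalizer_iff_commutator_le_left.1 hN'K
  have hVN' : U' = D₁ ⊔ D₂ := by
    rw [hUN']
    apply le_antisymm
    · have h1 : ⁅U ⊔ K, N'⁆ ≤ D₁ ⊔ D₂ := commutator_sup_le_of_comm hcommUK hN'K
      rwa [hUKV] at h1
    · exact sup_le (Subgroup.commutator_mono hUV le_rfl) (Subgroup.commutator_mono hKV le_rfl)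
  by_cases hD₁bot : D₁ = ⊥
  · -- case I
    right
    have hUK' : U ≤ K' := by
      rw [← hKN']
      exact le_inf hUV (Subgroup.commutator_eq_bot_iff_le_centralizer.1 hD₁bot)
    have hU'K : U' ≤ K := by
      rw [hVN', hD₁bot, bot_sup_eq]; exact hD₂K
    have hE'U : E' ≤ Subgroup.centralizer (U : Set G) :=
      hE'K'.trans (Subgroup.centralizer_le hUK')
    have hEU' : E ≤ Subgroup.centralizer (U' : Set G) :=
      hEK.trans (Subgroup.centralizer_le hU'K)
    refine ⟨le_sup_right.trans hE'U, ?_⟩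
    have hcomm : ⁅E', E⁆ = ⊥ := by
      rw [eq_bot_iff, ← h.hf]
      refine le_inf (commutator_le_of_le_of_le hE'H hEH) ?_
      have h1 : ⁅E', E⁆ ≤ Subgroup.centralizer (U : Set G) := by
        rw [Subgroup.commutator_comm]
        exact commutator_le_centralizer_of_le hEU hE'U
      have h2 : ⁅E', E⁆ ≤ Subgroup.centralizer (U' : Set G) :=
        commutator_le_centralizer_of_le hE'U' hEU'
      have h3 : ⁅E', E⁆ ≤ Subgroup.centralizer ((K ⊓ K' : Subgroup G) : Set G) :=
        commutator_le_of_le_of_le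
          (hE'K'.trans (Subgroup.centralizer_le (inf_le_right : K ⊓ K' ≤ K')))
          (hEK.trans (Subgroup.centralizer_le (inf_le_left : K ⊓ K' ≤ K)))
      have hV3 : V ≤ U ⊔ (U' ⊔ K ⊓ K') := by
        rw [← hUKV]
        refine sup_le le_sup_left ?_
        intro k hk
        have hkV : k ∈ U' ⊔ K' := by rw [hUKV']; exact hKV hk
        have hK'U' : K' ≤ Subgroup.normalizer (U' : Set G) :=
          Cfsg.Agent.Helper2.le_normalizer_of_comm h.commV hK'V hU'V
        obtain ⟨u', hu', k', hk', rfl⟩ := mem_sup_of_le_normalizer hK'U' hkV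
        have hk'K : k' ∈ K := by
          have : k' = u'⁻¹ * (u' * k') := by group
          rw [this]
          exact K.mul_mem (K.inv_mem (hU'K hu')) hk
        exact Subgroup.mem_sup_right (Subgroup.mul_mem _ (Subgroup.mem_sup_left hu')
          (Subgroup.mem_sup_right ⟨hk'K, hk'⟩))
      have h4 : ⁅E', E⁆ ≤ Subgroup.centralizer ((U ⊔ (U' ⊔ K ⊓ K') : Subgroup G) : Set G) :=
        (le_inf h1 ((le_inf h2 h3).trans
          (Cfsg.Agent.Helper2.inf_centralizer_le_centralizer_sup _ _))).trans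
          (Cfsg.Agent.Helper2.inf_centralizer_le_centralizer_sup _ _)
      exact h4.trans (Subgroup.centralizer_le hV3)
    exact le_sup_right.trans (Subgroup.commutator_eq_bot_iff_le_centralizer.1 hcomm)
  have hcardUK : ∀ {U₀ K₀ : Subgroup G}, U₀ ≤ V → K₀ ≤ V → U₀ ⊔ K₀ = V → U₀ ⊓ K₀ = ⊥ →
      Nat.card V = Nat.card U₀ * Nat.card K₀ := by
    intro U₀ K₀ hU₀ hK₀ hsup hinf
    have h1 := card_sup_mul_card_inf
      (Cfsg.Agent.Helper2.le_normalizer_of_comm h.commV hK₀ hU₀)
    rw [hsup, hinf, Subgroup.card_bot, mul_one] at h1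
    exact h1
  by_cases hD₂bot : D₂ = ⊥
  · -- case II
    left
    have hKK' : K ≤ K' := by
      rw [← hKN']
      exact le_inf hKV (Subgroup.commutator_eq_bot_iff_le_centralizer.1 hD₂bot)
    have hU'U : U' ≤ U := by
      rw [hVN', hD₂bot, sup_bot_eq]; exact hD₁U
    have hUU' : U' = U := Subgroup.eq_of_le_of_card_ge hU'U (by rw [hUc, hUc'])
    have hc1 := hcardUK hUV hKV hUKV hUK
    have hc2 := hcardUK hU'V hK'V hUKV' hUK'
    have hcardK : Nat.card K = Nat.card K' := by
      rw [hc1, hUc, hUc'] at hc2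
      exact Nat.eq_of_mul_eq_mul_left (pow_pos hp.out.pos 2) hc2
    have hKeq : K = K' := Subgroup.eq_of_le_of_card_ge hKK' (by rw [hcardK])
    have hcop : (Nat.card A).Coprime (Nat.card Q) := by
      rw [hA.card]; exact (card_ppc_coprime p H).symm
    haveI : Group.IsNilpotent ↥A := hA.isPGroup.isNilpotent
    have hsolv : Group.IsSolvable ↥A ∨ Group.IsSolvable ↥Q := Or.inl inferInstance
    refine le_of_faithful_plane (T := H ⊓ Subgroup.normalizer (U : Set G) ⊓
      Subgroup.centralizer (K : Set G)) (E := E) (N := N) (A := A) (B := A') (U := U)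
      (inf_le_left.trans inf_le_right) ?_
      (Cfsg.Agent.Helper2.isElementaryAbelian_of_le h.hV hUV) hUc
      (le_inf (le_inf hEH hEU) hEK) rfl
      (coprime_commutator_commutator A Q hAQ hcop hsolv).symm hA.card
      (Nat.card_congr e.toEquiv) (le_inf (le_inf hA'H ?_) ?_) hA'.card
    · rw [eq_bot_iff, ← h.hf]
      refine le_inf (inf_le_left.trans (inf_le_left.trans inf_le_left)) ?_
      have h1 : H ⊓ Subgroup.normalizer (U : Set G) ⊓ Subgroup.centralizer (K : Set G) ⊓
          Subgroup.centralizer (U : Set G) ≤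
          Subgroup.centralizer (U : Set G) ⊓ Subgroup.centralizer (K : Set G) :=
        le_inf inf_le_right (inf_le_left.trans inf_le_right)
      refine h1.trans ((Cfsg.Agent.Helper2.inf_centralizer_le_centralizer_sup _ _).trans ?_)
      rw [hUKV]
    · rw [← hUU']; exact le_sup_right.trans hE'U'
    · rw [hKeq]; exact le_sup_right.trans hE'K'
  -- the mixed case is impossible
  exfalso
  have hD12 : D₁ ⊓ D₂ = ⊥ := by
    rw [eq_bot_iff, ← hUK]; exact inf_le_inf hD₁U hD₂K
  have hD₁V : D₁ ≤ V := hD₁U.trans hUV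
  have hD₂V : D₂ ≤ V := hD₂K.trans hKV
  have hcard12 : Nat.card D₁ * Nat.card D₂ = p ^ 2 := by
    have h1 := card_sup_mul_card_inf
      (Cfsg.Agent.Helper2.le_normalizer_of_comm h.commV hD₂V hD₁V)
    rw [← hVN', hD12, Subgroup.card_bot, mul_one, hUc'] at h1
    exact h1.symm
  obtain ⟨i, hi, hDi⟩ := (Nat.dvd_prime_pow hp.out).1 (Dvd.intro _ hcard12)
  obtain ⟨j, hj, hDj⟩ := (Nat.dvd_prime_pow hp.out).1 (Dvd.intro_left _ hcard12)
  have hi0 : i ≠ 0 := by
    rintro rfl
    rw [pow_zero, Subgroup.card_eq_one] at hDi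
    exact hD₁bot hDi
  have hj0 : j ≠ 0 := by
    rintro rfl
    rw [pow_zero, Subgroup.card_eq_one] at hDj
    exact hD₂bot hDj
  have hij : i + j = 2 := by
    rw [hDi, hDj, ← pow_add] at hcard12
    exact Nat.pow_right_injective hp.out.two_le hcard12
  have hi1 : i = 1 := by omega
  have hj1 : j = 1 := by omega
  rw [hi1, pow_one] at hDi
  rw [hj1, pow_one] at hDj
  haveI : IsCyclic ↥D₁ := isCyclic_of_prime_card hDi
  haveI : IsCyclic ↥D₂ := isCyclic_of_prime_card hDj
  have hN'D₁ : N' ≤ Subgroup.normalizer (D₁ : Set G) :=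
    Subgroup.normalizer_commutator_ge_right U N'
  have hN'D₂ : N' ≤ Subgroup.normalizer (D₂ : Set G) :=
    Subgroup.normalizer_commutator_ge_right K N'
  set φ : ↥N' →* MulAut ↥D₁ × MulAut ↥D₂ :=
    (conjHom N' D₁ hN'D₁).prod (conjHom N' D₂ hN'D₂) with hφ
  have hφinj : Function.Injective φ := by
    rw [injective_iff_map_eq_one]
    intro n hn
    have hn1 : conjHom N' D₁ hN'D₁ n = 1 := congrArg Prod.fst hn
    have hn2 : conjHom N' D₂ hN'D₂ n = 1 := congrArg Prod.snd hn
    have h1 := mem_centralizer_of_conjHom_eq_one hN'D₁ hn1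
    have h2 := mem_centralizer_of_conjHom_eq_one hN'D₂ hn2
    have h3 : (n : G) ∈ Subgroup.centralizer ((D₁ ⊔ D₂ : Subgroup G) : Set G) :=
      Cfsg.Agent.Helper2.inf_centralizer_le_centralizer_sup _ _ ⟨h1, h2⟩
    rw [← hVN'] at h3
    have h4 : (n : G) ∈ E' ⊓ Subgroup.centralizer (U' : Set G) :=
      ⟨(le_sup_left : N' ≤ E') n.2, h3⟩
    rw [hEf', Subgroup.mem_bot] at h4
    exact Subtype.ext h4
  have hdvd : Nat.card ↥N' ∣ (p - 1) * (p - 1) := by
    have h1 := Subgroup.card_dvd_of_injective φ hφinj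
    rw [Nat.card_prod, IsCyclic.card_mulAut, IsCyclic.card_mulAut, hDi, hDj,
      Nat.totient_prime hp.out] at h1
    exact h1
  have hA'N' : A' ≤ Subgroup.normalizer (N' : Set G) :=
    Subgroup.normalizer_commutator_ge_right Q A'
  have hN'cop : (Nat.card N').Coprime p :=
    Nat.Coprime.coprime_dvd_left (Subgroup.card_dvd_of_le hN'Q) (card_ppc_coprime p H)
  have hA'N'bot : A' ⊓ N' = ⊥ := by
    apply inf_eq_bot_of_coprime_card
    rw [hA'.card]; exact hN'cop.symm
  have hE'card : Nat.card E' = p * Nat.card N' := by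
    rw [card_sup_of_le_normalizer hA'N' hA'N'bot, hA'.card]
  have hSL : Nat.card E' = p * (p ^ 2 - 1) := by
    rw [Nat.card_congr e'.toEquiv, Cfsg.Agent.Helper5.SLB.card_SL2', ZMod.card]
  have hN'card : Nat.card N' = p ^ 2 - 1 := by
    rw [hE'card] at hSL
    exact Nat.eq_of_mul_eq_mul_left hp.out.pos hSL
  rw [hN'card] at hdvd
  rcases h23 with rfl | rfl
  · norm_num at hdvd
  · norm_num at hdvd

end Hyp

end Cfsg.Agent.Helper1.FFact
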