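import Mathlib
import Cfsg.Prelude.Def_PLocal
import Cfsg.Agent.Helper1.FFact12

set_option autoImplicit false

/-!
Failure of factorization: `E = [O_{p'}(H), A] A` is a direct factor of `H`.
-/

namespace Cfsg.Agent.Helper1.FFact

open scoped Pointwise commutatorElement

open Cfsg.Agent.Helper1

universe u

variable {G : Type u} [Group G]

namespace Hyp

variable {p : ℕ} {V H : Subgroup G}

/-- every best offender lies in `E × C_H(U) ∩ C_H(E)` -/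
theorem le_E_sup [Finite G] [hp : Fact p.Prime] (h : Hyp p V H)
    (hS3 : H = ⨆ A : {A : Subgroup G // A ≤ H ∧ Cfsg.IsBestOffenderOn p V A}, (A : Subgroup G))
    {A : Subgroup G} (hAH : A ≤ H) (hA : IsTrv p V A) :
    H ≤ (⁅ppc p H, A⁆ ⊔ A) ⊔
      (H ⊓ Subgroup.centralizer ((⁅V, ⁅ppc p H, A⁆ ⊔ A⁆ : Subgroup G) : Set G) ⊓
        Subgroup.centralizer ((⁅ppc p H, A⁆ ⊔ A : Subgroup G) : Set G)) := by
  have key : ∀ B : Subgroup G, B ≤ H → Cfsg.IsBestOffenderOn p V B →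
      B ≤ (⁅ppc p H, A⁆ ⊔ A) ⊔
      (H ⊓ Subgroup.centralizer ((⁅V, ⁅ppc p H, A⁆ ⊔ A⁆ : Subgroup G) : Set G) ⊓
        Subgroup.centralizer ((⁅ppc p H, A⁆ ⊔ A : Subgroup G) : Set G)) := by
    intro B hBH hB
    obtain ⟨k, Bi, hBi, -, hsup⟩ := h.decomp _ B rfl hBH hB
    rw [← hsup]
    apply iSup_le
    intro i
    have hiH := (hBi i).1.trans hBH
    have hT := h.isTrv_of_isMinBest hiH (hBi i).2
    rcases h.trv_dichotomy hAH hA hiH hT with h1 | ⟨h1, h2⟩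
    · exact h1.trans le_sup_left
    · exact (le_inf (le_inf hiH h1) h2).trans le_sup_right
  exact hS3.le.trans (iSup_le fun B => key B.1 B.2.1 B.2.2)

/-- S0616 (abstract form). -/
theorem direct_factor [Finite G] [hp : Fact p.Prime] (h : Hyp p V H)
    (hS3 : H = ⨆ A : {A : Subgroup G // A ≤ H ∧ Cfsg.IsBestOffenderOn p V A}, (A : Subgroup G))
    {A : Subgroup G} (hAH : A ≤ H) (hA : IsTrv p V A) :
    (p = 2 ∨ p = 3) ∧
    Nonempty (↥(⁅ppc p H, A⁆ ⊔ A) ≃* Matrix.SpecialLinearGroup (Fin 2) (ZMod p)) ∧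
    Nat.card ↥(⁅V, ⁅ppc p H, A⁆ ⊔ A⁆) = p ^ 2 ∧
    ⁅V, ⁅ppc p H, A⁆ ⊔ A⁆ ⊓
      (V ⊓ Subgroup.centralizer ((⁅ppc p H, A⁆ ⊔ A : Subgroup G) : Set G)) = ⊥ ∧
    ⁅V, ⁅ppc p H, A⁆ ⊔ A⁆ ⊔
      (V ⊓ Subgroup.centralizer ((⁅ppc p H, A⁆ ⊔ A : Subgroup G) : Set G)) = V ∧
    ⁅⁅ppc p H, A⁆ ⊔ A,
      H ⊓ Subgroup.centralizer ((⁅V, ⁅ppc p H, A⁆ ⊔ A⁆ : Subgroup G) : Set G)⁆ = ⊥ ∧
    (⁅ppc p H, A⁆ ⊔ A) ⊓
      (H ⊓ Subgroup.centralizer ((⁅V, ⁅ppc p H, A⁆ ⊔ A⁆ : Subgroup G) : Set G)) = ⊥ ∧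
    (⁅ppc p H, A⁆ ⊔ A) ⊔
      (H ⊓ Subgroup.centralizer ((⁅V, ⁅ppc p H, A⁆ ⊔ A⁆ : Subgroup G) : Set G)) = H ∧
    ⁅V, H ⊓ Subgroup.centralizer ((⁅V, ⁅ppc p H, A⁆ ⊔ A⁆ : Subgroup G) : Set G)⁆ ≤
      V ⊓ Subgroup.centralizer ((⁅ppc p H, A⁆ ⊔ A : Subgroup G) : Set G) := by
  obtain ⟨h23, hiso, hUc, hUN, hUK, hUKV, hEf, hKN⟩ := h.E_structure hAH hA
  have hle := h.le_E_sup hS3 hAH hA
  set Q := ppc p H with hQ
  set N := ⁅Q, A⁆ with hN
  set E := N ⊔ A with hE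
  set U := ⁅V, E⁆ with hU
  set K := V ⊓ Subgroup.centralizer (E : Set G) with hK
  set C := H ⊓ Subgroup.centralizer (U : Set G) with hC
  have hQH : Q ≤ H := ppc_le p H
  have hAQ : A ≤ Subgroup.normalizer (Q : Set G) := hAH.trans (le_normalizer_ppc p H)
  have hNQ : N ≤ Q := Subgroup.le_normalizer_iff_commutator_le_left.1 hAQ
  have hEH : E ≤ H := sup_le (hNQ.trans hQH) hAH
  have hUV : U ≤ V := Subgroup.le_normalizer_iff_commutator_le_left.1 (hEH.trans h.hHV)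
  have hKV : K ≤ V := inf_le_left
  have hEU : E ≤ Subgroup.normalizer (U : Set G) := Subgroup.normalizer_commutator_ge_right V E
  have hHE : H ≤ Subgroup.normalizer (E : Set G) :=
    hle.trans (sup_le Subgroup.le_normalizer
      (inf_le_right.trans (Subgroup.centralizer_le_normalizer _)))
  have hCH : C ≤ H := inf_le_left
  have hCU : C ≤ Subgroup.centralizer (U : Set G) := inf_le_right
  have hCE : C ≤ Subgroup.normalizer (E : Set G) := hCH.trans hHE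
  have hCK : C ≤ Subgroup.normalizer (K : Set G) :=
    le_normalizer_inf (hCH.trans h.hHV) (le_normalizer_centralizer hCE)
  have hcommUK : ∀ u ∈ U, ∀ k ∈ K, u * k = k * u := fun u hu k hk =>
    h.commV u (hUV hu) k (hKV hk)
  refine ⟨h23, hiso, hUc, hUK, hUKV, ?_, ?_, ?_, ?_⟩
  · rw [eq_bot_iff, ← hEf]
    exact le_inf (Subgroup.le_normalizer_iff_commutator_le_left.1 hCE)
      (commutator_le_centralizer_of_le hEU hCU)
  · rw [eq_bot_iff, ← hEf]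
    exact inf_le_inf_left _ hCU
  · apply le_antisymm (sup_le hEH hCH)
    exact hle.trans (sup_le_sup_left inf_le_left _)
  · have h1 : ⁅U ⊔ K, C⁆ ≤ ⁅U, C⁆ ⊔ ⁅K, C⁆ := commutator_sup_le_of_comm hcommUK hCK
    rw [hUKV] at h1
    have h2 : ⁅U, C⁆ = ⊥ :=
      Subgroup.commutator_eq_bot_iff_le_centralizer.2 (Subgroup.le_centralizer_iff.1 hCU)
    rw [h2, bot_sup_eq] at h1
    exact h1.trans (Subgroup.le_normalizer_iff_commutator_le_left.1 hCK)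

end Hyp

end Cfsg.Agent.Helper1.FFact
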