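import Mathlib
import Cfsg.Prelude.Def_PLocal
import Cfsg.Agent.Helper1.FFact13

set_option autoImplicit false

/-!
Failure of factorization: the structure theorem.
-/

namespace Cfsg.Agent.Helper1.FFact

open scoped Pointwise commutatorElement

open Cfsg.Agent.Helper1

universe u

variable {G : Type u} [Group G]

/-- `[V, ⨆ B i] ≤ ⨆ [V, B i]` when all `B i` normalize `V`. -/
theorem commutator_iSup_le {ι : Sort*} {V : Subgroup G} (B : ι → Subgroup G)
    (hB : ∀ i, B i ≤ Subgroup.normalizer (V : Set G)) : ⁅V, ⨆ i, B i⁆ ≤ ⨆ i, ⁅V, B i⁆ := by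
  set D := ⨆ i, ⁅V, B i⁆ with hD
  have hDV : D ≤ V := iSup_le fun i => Subgroup.le_normalizer_iff_commutator_le_left.1 (hB i)
  have hle : ∀ i, ⁅V, B i⁆ ≤ D := fun i => le_iSup (fun i => ⁅V, B i⁆) i
  have hBD : ∀ i, B i ≤ Subgroup.normalizer (D : Set G) := by
    intro i
    apply Cfsg.Agent.Helper2.le_normalizer_of_conj_mem
    intro a ha d hd
    have h1 : ⁅d, a⁆ ∈ D := hle i (Subgroup.commutator_mem_commutator (hDV hd) ha)
    have h2 : a * d * a⁻¹ = (⁅d, a⁆)⁻¹ * d := by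
      rw [commutatorElement_def]; group
    rw [h2]
    exact D.mul_mem (D.inv_mem h1) hd
  let S : Subgroup G :=
    { carrier := {g | g ∈ Subgroup.normalizer (D : Set G) ∧ ∀ v ∈ V, ⁅v, g⁆ ∈ D}
      one_mem' := by
        refine ⟨Subgroup.one_mem _, fun v _ => ?_⟩
        rw [commutatorElement_one_right]; exact D.one_mem
      mul_mem' := by
        rintro g k ⟨hg, hg'⟩ ⟨hk, hk'⟩
        refine ⟨Subgroup.mul_mem _ hg hk, fun v hv => ?_⟩
        have h1 : ⁅v, g * k⁆ = ⁅v, g⁆ * (g * ⁅v, k⁆ * g⁻¹) := by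
          rw [commutatorElement_def, commutatorElement_def, commutatorElement_def]; group
        rw [h1]
        exact D.mul_mem (hg' v hv) ((Subgroup.mem_normalizer_iff.1 hg _).1 (hk' v hv))
      inv_mem' := by
        rintro g ⟨hg, hg'⟩
        refine ⟨Subgroup.inv_mem _ hg, fun v hv => ?_⟩
        have h1 : ⁅v, g⁻¹⁆ = g⁻¹ * (⁅v, g⁆)⁻¹ * g⁻¹⁻¹ := by
          rw [commutatorElement_def, commutatorElement_def]; group
        rw [h1]
        exact (Subgroup.mem_normalizer_iff.1 (Subgroup.inv_mem _ hg) _).1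
          (D.inv_mem (hg' v hv)) }
  have hBS : ∀ i, B i ≤ S := fun i a ha =>
    ⟨hBD i ha, fun v hv => hle i (Subgroup.commutator_mem_commutator hv ha)⟩
  rw [Subgroup.commutator_le]
  intro v hv g hg
  exact ((iSup_le hBS) hg).2 v hv

/-- The subgroups `E = [O_{p'}(H), A] A` for minimal nontrivially-acting best offenders `A`. -/
def IsE (p : ℕ) (V H E : Subgroup G) : Prop :=
  ∃ A : Subgroup G, A ≤ H ∧ Cfsg.IsBestOffenderOn p V A ∧ ⁅V, A⁆ ≠ ⊥ ∧
    (∀ B : Subgroup G, B ≤ A → Cfsg.IsBestOffenderOn p V B → ⁅V, B⁆ ≠ ⊥ → B = A) ∧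
    E = ⁅((Cfsg.pPrimeCore p ↥H).map H.subtype), A⁆ ⊔ A

namespace Hyp

variable {p : ℕ} {V H : Subgroup G}

theorem le_of_forall_minBest [Finite G] [hp : Fact p.Prime] (h : Hyp p V H)
    (hS3 : H = ⨆ A : {A : Subgroup G // A ≤ H ∧ Cfsg.IsBestOffenderOn p V A}, (A : Subgroup G))
    {X : Subgroup G} (hX : ∀ A : Subgroup G, A ≤ H → IsMinBest p V A → A ≤ X) : H ≤ X := by
  have key : ∀ B : Subgroup G, B ≤ H → Cfsg.IsBestOffenderOn p V B → B ≤ X := by
    intro B hBH hB
    obtain ⟨k, Bi, hBi, -, hsup⟩ := h.decomp _ B rfl hBH hB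
    rw [← hsup]
    exact iSup_le fun i => hX _ ((hBi i).1.trans hBH) (hBi i).2
  exact hS3.le.trans (iSup_le fun B => key B.1 B.2.1 B.2.2)

theorem le_normalizer_E [Finite G] [hp : Fact p.Prime] (h : Hyp p V H)
    (hS3 : H = ⨆ A : {A : Subgroup G // A ≤ H ∧ Cfsg.IsBestOffenderOn p V A}, (A : Subgroup G))
    {A : Subgroup G} (hAH : A ≤ H) (hA : IsTrv p V A) :
    H ≤ Subgroup.normalizer ((⁅ppc p H, A⁆ ⊔ A : Subgroup G) : Set G) :=
  (h.le_E_sup hS3 hAH hA).trans (sup_le Subgroup.le_normalizer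
    (inf_le_right.trans (Subgroup.centralizer_le_normalizer _)))

theorem E_le_of_ne [Finite G] [hp : Fact p.Prime] (h : Hyp p V H)
    (hS3 : H = ⨆ A : {A : Subgroup G // A ≤ H ∧ Cfsg.IsBestOffenderOn p V A}, (A : Subgroup G))
    {A A' : Subgroup G} (hAH : A ≤ H) (hA : IsTrv p V A) (hA'H : A' ≤ H) (hA' : IsTrv p V A')
    (hne : ⁅ppc p H, A'⁆ ⊔ A' ≠ ⁅ppc p H, A⁆ ⊔ A) :
    ⁅ppc p H, A'⁆ ⊔ A' ≤
      H ⊓ Subgroup.centralizer ((⁅V, ⁅ppc p H, A⁆ ⊔ A⁆ : Subgroup G) : Set G) := by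
  obtain ⟨-, ⟨e⟩, -, -, -, -, -, -⟩ := h.E_structure hAH hA
  obtain ⟨-, ⟨e'⟩, -, -, -, -, -, -⟩ := h.E_structure hA'H hA'
  have hHE := h.le_normalizer_E hS3 hAH hA
  have hQH : ppc p H ≤ H := ppc_le p H
  rcases h.trv_dichotomy hAH hA hA'H hA' with h1 | ⟨h1, h2⟩
  · exfalso
    apply hne
    have hN'E : ⁅ppc p H, A'⁆ ≤ ⁅ppc p H, A⁆ ⊔ A := by
      refine (Subgroup.commutator_mono le_rfl h1).trans ?_
      rw [Subgroup.commutator_comm]
      exact Subgroup.le_normalizer_iff_commutator_le_left.1 (hQH.trans hHE)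
    apply Subgroup.eq_of_le_of_card_ge (sup_le hN'E h1)
    rw [Nat.card_congr e.toEquiv, Nat.card_congr e'.toEquiv]
  · have hHC : H ≤ Subgroup.normalizer ((H ⊓ Subgroup.centralizer
        ((⁅V, ⁅ppc p H, A⁆ ⊔ A⁆ : Subgroup G) : Set G) : Subgroup G) : Set G) :=
      le_normalizer_inf Subgroup.le_normalizer
        (le_normalizer_centralizer (le_normalizer_commutator h.hHV hHE))
    have hA'C : A' ≤ H ⊓ Subgroup.centralizer
        ((⁅V, ⁅ppc p H, A⁆ ⊔ A⁆ : Subgroup G) : Set G) := le_inf hA'H h1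
    refine sup_le ?_ hA'C
    refine (Subgroup.commutator_mono hQH hA'C).trans ?_
    rw [Subgroup.commutator_comm]
    exact Subgroup.le_normalizer_iff_commutator_le_left.1 hHC

set_option maxHeartbeats 1600000 in
/-- S0617 (abstract form). -/
theorem structure_thm [Finite G] [hp : Fact p.Prime] (h : Hyp p V H)
    (hS3 : H = ⨆ A : {A : Subgroup G // A ≤ H ∧ Cfsg.IsBestOffenderOn p V A}, (A : Subgroup G))
    (hH1 : H ≠ ⊥) :
    (p = 2 ∨ p = 3) ∧
    (∀ E : {E : Subgroup G // IsE p V H E},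
      H ≤ Subgroup.normalizer ((E : Subgroup G) : Set G) ∧
      Nonempty (↥(E : Subgroup G) ≃* Matrix.SpecialLinearGroup (Fin 2) (ZMod p)) ∧
      Nat.card ↥(⁅V, (E : Subgroup G)⁆) = p ^ 2) ∧
    iSupIndep (fun E : {E : Subgroup G // IsE p V H E} => (E : Subgroup G)) ∧
    (⨆ E : {E : Subgroup G // IsE p V H E}, (E : Subgroup G)) = H ∧
    iSupIndep (fun o : Option {E : Subgroup G // IsE p V H E} =>
      o.elim (V ⊓ Subgroup.centralizer (H : Set G)) (fun E => ⁅V, (E : Subgroup G)⁆)) ∧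
    (V ⊓ Subgroup.centralizer (H : Set G)) ⊔
      (⨆ E : {E : Subgroup G // IsE p V H E}, ⁅V, (E : Subgroup G)⁆) = V := by
  have hQH : ppc p H ≤ H := ppc_le p H
  have hEx : ∀ E : {E : Subgroup G // IsE p V H E}, ∃ A : Subgroup G, A ≤ H ∧ IsTrv p V A ∧
      (E : Subgroup G) = ⁅ppc p H, A⁆ ⊔ A := by
    rintro ⟨E, A, hAH, hb, hne, hmin, hE⟩
    exact ⟨A, hAH, h.isTrv_of_isMinBest hAH ⟨hb, hne, hmin⟩, hE⟩
  have hmk : ∀ A : Subgroup G, A ≤ H → IsMinBest p V A → IsE p V H (⁅ppc p H, A⁆ ⊔ A) :=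
    fun A hAH hm => ⟨A, hAH, hm.1, hm.2.1, hm.2.2, rfl⟩
  obtain ⟨A₀, hA₀H, hm₀⟩ : ∃ A : Subgroup G, A ≤ H ∧ IsMinBest p V A := by
    by_contra hno
    apply hH1
    rw [eq_bot_iff]
    exact h.le_of_forall_minBest hS3 (fun A hAH hm => (hno ⟨A, hAH, hm⟩).elim)
  have h23 : p = 2 ∨ p = 3 := (h.E_structure hA₀H (h.isTrv_of_isMinBest hA₀H hm₀)).1
  -- pairwise
  have hpair : ∀ E E' : {E : Subgroup G // IsE p V H E}, E' ≠ E →
      (E' : Subgroup G) ≤ H ⊓ Subgroup.centralizer ((⁅V, (E : Subgroup G)⁆ : Subgroup G) : Set G) := by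
    intro E E' hne
    obtain ⟨A, hAH, hA, hE⟩ := hEx E
    obtain ⟨A', hA'H, hA', hE'⟩ := hEx E'
    rw [hE, hE']
    apply h.E_le_of_ne hS3 hAH hA hA'H hA'
    intro heq
    apply hne
    apply Subtype.ext
    rw [hE, hE']; exact heq
  have hEH : ∀ E : {E : Subgroup G // IsE p V H E}, (E : Subgroup G) ≤ H := by
    intro E
    obtain ⟨A, hAH, hA, hE⟩ := hEx E
    rw [hE]
    have hAQ : A ≤ Subgroup.normalizer ((ppc p H : Subgroup G) : Set G) :=
      hAH.trans (le_normalizer_ppc p H)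
    exact sup_le ((Subgroup.le_normalizer_iff_commutator_le_left.1 hAQ).trans hQH) hAH
  have hUV : ∀ E : {E : Subgroup G // IsE p V H E}, ⁅V, (E : Subgroup G)⁆ ≤ V := fun E =>
    Subgroup.le_normalizer_iff_commutator_le_left.1 ((hEH E).trans h.hHV)
  have hUK : ∀ E E' : {E : Subgroup G // IsE p V H E}, E' ≠ E →
      ⁅V, (E' : Subgroup G)⁆ ≤ V ⊓ Subgroup.centralizer ((E : Subgroup G) : Set G) := by
    intro E E' hne
    refine le_inf (hUV E') ?_
    exact Subgroup.le_centralizer_iff.1 ((hpair E' E (Ne.symm hne)).trans inf_le_right)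
  haveI : IsMulCommutative V := h.hV.1
  have hcopQ : (Nat.card (ppc p H)).Coprime (Nat.card V) := by
    obtain ⟨k, hk⟩ := IsPGroup.iff_card.1 h.isPGroup_V
    rw [hk]; exact Nat.Coprime.pow_right k (card_ppc_coprime p H)
  refine ⟨h23, ?_, ?_, ?_, ?_, ?_⟩
  · intro E
    obtain ⟨A, hAH, hA, hE⟩ := hEx E
    obtain ⟨-, hiso, hUc, -, -, -, -, -⟩ := h.E_structure hAH hA
    rw [hE]
    exact ⟨h.le_normalizer_E hS3 hAH hA, hiso, hUc⟩
  · intro E
    have hle : (⨆ (j : {E : Subgroup G // IsE p V H E}) (_ : j ≠ E), (j : Subgroup G)) ≤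
        H ⊓ Subgroup.centralizer ((⁅V, (E : Subgroup G)⁆ : Subgroup G) : Set G) :=
      iSup_le fun E' => iSup_le fun hne => hpair E E' hne
    refine Disjoint.mono_right hle ?_
    obtain ⟨A, hAH, hA, hE⟩ := hEx E
    obtain ⟨-, -, -, -, -, -, hEf, -⟩ := h.E_structure hAH hA
    show Disjoint (E : Subgroup G) _
    rw [disjoint_iff, eq_bot_iff, hE, ← hEf]
    exact le_inf inf_le_left (inf_le_right.trans inf_le_right)
  · apply le_antisymm (iSup_le hEH)
    apply h.le_of_forall_minBest hS3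
    intro A hAH hm
    exact (le_sup_right : A ≤ ⁅ppc p H, A⁆ ⊔ A).trans
      (le_iSup (fun E : {E : Subgroup G // IsE p V H E} => (E : Subgroup G))
        ⟨_, hmk A hAH hm⟩)
  · intro o
    cases o with
    | none =>
      obtain ⟨hd1, -⟩ := abelian_coprime_decomp (ppc p H) V (hQH.trans h.hHV) hcopQ
      have hle : (⨆ (j : Option {E : Subgroup G // IsE p V H E}) (_ : j ≠ none),
          j.elim (V ⊓ Subgroup.centralizer (H : Set G)) (fun E => ⁅V, (E : Subgroup G)⁆)) ≤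
          ⁅V, ppc p H⁆ := by
        apply iSup_le
        intro j
        apply iSup_le
        intro hj
        cases j with
        | none => exact absurd rfl hj
        | some E =>
          obtain ⟨A, hAH, hA, hE⟩ := hEx E
          obtain ⟨-, -, -, hUN, -, -, -, -⟩ := h.E_structure hAH hA
          show ⁅V, (E : Subgroup G)⁆ ≤ ⁅V, ppc p H⁆
          rw [hE, hUN]
          have hAQ : A ≤ Subgroup.normalizer ((ppc p H : Subgroup G) : Set G) :=
            hAH.trans (le_normalizer_ppc p H)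
          exact Subgroup.commutator_mono le_rfl
            (Subgroup.le_normalizer_iff_commutator_le_left.1 hAQ)
      refine Disjoint.mono_right hle ?_
      have hle2 : V ⊓ Subgroup.centralizer (H : Set G) ≤
          V ⊓ Subgroup.centralizer ((ppc p H : Subgroup G) : Set G) :=
        inf_le_inf_left _ (Subgroup.centralizer_le hQH)
      refine Disjoint.mono_left hle2 ?_
      rw [disjoint_iff]; exact hd1
    | some E =>
      have hle : (⨆ (j : Option {E : Subgroup G // IsE p V H E}) (_ : j ≠ some E),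
          j.elim (V ⊓ Subgroup.centralizer (H : Set G)) (fun E => ⁅V, (E : Subgroup G)⁆)) ≤
          V ⊓ Subgroup.centralizer ((E : Subgroup G) : Set G) := by
        apply iSup_le
        intro j
        apply iSup_le
        intro hj
        cases j with
        | none =>
          show V ⊓ Subgroup.centralizer (H : Set G) ≤ _
          exact inf_le_inf_left _ (Subgroup.centralizer_le (hEH E))
        | some E' =>
          show ⁅V, (E' : Subgroup G)⁆ ≤ _
          apply hUK E E'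
          intro heq
          apply hj
          rw [heq]
      refine Disjoint.mono_right hle ?_
      obtain ⟨A, hAH, hA, hE⟩ := hEx E
      obtain ⟨-, -, -, -, hUK', -, -, -⟩ := h.E_structure hAH hA
      show Disjoint ⁅V, (E : Subgroup G)⁆ _
      rw [disjoint_iff, hE]; exact hUK'
  · apply le_antisymm (sup_le inf_le_left (iSup_le hUV))
    set Q₀ : Subgroup G := ⨆ A : {A : Subgroup G // A ≤ H ∧ IsMinBest p V A},
      ⁅ppc p H, (A : Subgroup G)⁆ with hQ₀
    have hNQ : ∀ A : {A : Subgroup G // A ≤ H ∧ IsMinBest p V A},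
        ⁅ppc p H, (A : Subgroup G)⁆ ≤ ppc p H := fun A =>
      Subgroup.le_normalizer_iff_commutator_le_left.1 (A.2.1.trans (le_normalizer_ppc p H))
    have hQ₀Q : Q₀ ≤ ppc p H := iSup_le hNQ
    have hcop₀ : (Nat.card Q₀).Coprime (Nat.card V) :=
      Nat.Coprime.coprime_dvd_left (Subgroup.card_dvd_of_le hQ₀Q) hcopQ
    have hNV : ∀ A : {A : Subgroup G // A ≤ H ∧ IsMinBest p V A},
        ⁅ppc p H, (A : Subgroup G)⁆ ≤ Subgroup.normalizer (V : Set G) := fun A =>
      ((hNQ A).trans hQH).trans h.hHV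
    obtain ⟨-, hd2⟩ := abelian_coprime_decomp Q₀ V ((hQ₀Q.trans hQH).trans h.hHV) hcop₀
    have h1 : V ⊓ Subgroup.centralizer (Q₀ : Set G) ≤ V ⊓ Subgroup.centralizer (H : Set G) := by
      rintro x ⟨hxV, hxC⟩
      refine ⟨hxV, ?_⟩
      have hHx : H ≤ Subgroup.centralizer ({x} : Set G) := by
        apply h.le_of_forall_minBest hS3
        intro A hAH hm
        have hA := h.isTrv_of_isMinBest hAH hm
        obtain ⟨-, -, -, -, -, -, -, hKN⟩ := h.E_structure hAH hA
        have hx1 : x ∈ V ⊓ Subgroup.centralizer ((⁅ppc p H, A⁆ : Subgroup G) : Set G) := by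
          refine ⟨hxV, ?_⟩
          have hle : ⁅ppc p H, A⁆ ≤ Q₀ :=
            le_iSup (fun A : {A : Subgroup G // A ≤ H ∧ IsMinBest p V A} =>
              ⁅ppc p H, (A : Subgroup G)⁆) ⟨A, hAH, hm⟩
          exact Subgroup.centralizer_le hle hxC
        rw [hKN] at hx1
        have hx2 : x ∈ Subgroup.centralizer ((⁅ppc p H, A⁆ ⊔ A : Subgroup G) : Set G) := hx1.2
        intro a ha
        rw [Subgroup.mem_centralizer_iff]
        intro y hy
        rw [Set.mem_singleton_iff] at hy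
        rw [hy]
        rw [Subgroup.mem_centralizer_iff] at hx2
        exact (hx2 a (Subgroup.mem_sup_right ha)).symm
      show x ∈ Subgroup.centralizer (H : Set G)
      rw [Subgroup.mem_centralizer_iff]
      intro g hg
      have := hHx hg
      rw [Subgroup.mem_centralizer_iff] at this
      exact (this x rfl).symm
    have h2 : ⁅V, Q₀⁆ ≤ ⨆ E : {E : Subgroup G // IsE p V H E}, ⁅V, (E : Subgroup G)⁆ := by
      refine (commutator_iSup_le _ hNV).trans (iSup_le fun A => ?_)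
      have hA := h.isTrv_of_isMinBest A.2.1 A.2.2
      obtain ⟨-, -, -, hUN, -, -, -, -⟩ := h.E_structure A.2.1 hA
      rw [← hUN]
      exact le_iSup (fun E : {E : Subgroup G // IsE p V H E} => ⁅V, (E : Subgroup G)⁆)
        ⟨_, hmk A.1 A.2.1 A.2.2⟩
    exact hd2.symm.le.trans (sup_le_sup h1 h2)

end Hyp

end Cfsg.Agent.Helper1.FFact
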