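import Mathlib
import Cfsg.Prelude.Def_PLocal
import Cfsg.Agent.Helper1.FFact14

set_option autoImplicit false

/-!
Transport of the action of `G` on a normal subgroup `V` to the holomorph `V ⋊ Aut(V)`, where the
image of `G` acts faithfully on (the image of) `V`.
-/

namespace Cfsg.Agent.Helper1.Hol

open scoped Pointwise commutatorElement

open Cfsg.Agent.Helper1 SemidirectProduct

universe u

variable {G : Type u} [Group G] (V : Subgroup G) [V.Normal]

/-- The holomorph of `V`. -/
abbrev HolG : Type u := ↥V ⋊[MonoidHom.id (MulAut ↥V)] MulAut ↥V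

instance instFiniteHolG [Finite G] : Finite (HolG V) :=
  Finite.of_equiv _ (equivProd (φ := MonoidHom.id (MulAut ↥V))).symm

/-- `G → Hol(V)` via conjugation. -/
def psi : G →* HolG V :=
  (inr : MulAut ↥V →* HolG V).comp (MulAut.conjNormal : G →* MulAut ↥V)

/-- The image of `V` in its holomorph. -/
def VV : Subgroup (HolG V) := (inl : ↥V →* HolG V).range

theorem psi_apply (g : G) : psi V g = inr (MulAut.conjNormal g : MulAut ↥V) := rfl

theorem psi_conj (g : G) (v : ↥V) :
    psi V g * inl v * (psi V g)⁻¹ = inl ((MulAut.conjNormal g : MulAut ↥V) v) := by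
  rw [psi_apply, ← map_inv]
  exact (inl_aut (φ := MonoidHom.id (MulAut ↥V)) (MulAut.conjNormal g : MulAut ↥V) v).symm

theorem mem_ker_psi_iff (g : G) : g ∈ (psi V).ker ↔ g ∈ Subgroup.centralizer (V : Set G) := by
  rw [MonoidHom.mem_ker, psi_apply, Subgroup.mem_centralizer_iff]
  constructor
  · intro h v hv
    have h1 : (MulAut.conjNormal g : MulAut ↥V) = 1 := by
      apply inr_injective (φ := MonoidHom.id (MulAut ↥V))
      rw [h, map_one]
    have h2 := congrArg (fun f : MulAut ↥V => ((f ⟨v, hv⟩ : ↥V) : G)) h1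
    simp only [MulAut.conjNormal_apply, MulAut.one_apply] at h2
    calc v * g = (g * v * g⁻¹) * g := by rw [h2]
      _ = g * v := by group
  · intro h
    have h1 : (MulAut.conjNormal g : MulAut ↥V) = 1 := by
      ext v
      rw [MulAut.conjNormal_apply, MulAut.one_apply, ← h v v.2]
      group
    rw [h1, map_one]

theorem ker_psi : (psi V).ker = Subgroup.centralizer (V : Set G) := by
  ext g; exact mem_ker_psi_iff V g

instance VV_normal : (VV V).Normal := by
  unfold VV
  rw [range_inl_eq_ker_rightHom]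
  exact MonoidHom.normal_ker _

theorem psi_range_le : (psi V).range ≤ (inr : MulAut ↥V →* HolG V).range := by
  rintro _ ⟨g, rfl⟩
  exact ⟨_, rfl⟩

theorem inl_mem_centralizer_map_iff (B : Subgroup G) (v : ↥V) :
    (inl v : HolG V) ∈ Subgroup.centralizer ((B.map (psi V) : Subgroup (HolG V)) : Set (HolG V)) ↔
      (v : G) ∈ Subgroup.centralizer (B : Set G) := by
  rw [Subgroup.mem_centralizer_iff, Subgroup.mem_centralizer_iff]
  constructor
  · intro h b hb
    have h1 := h (psi V b) (Subgroup.mem_map_of_mem _ hb)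
    have h2 : psi V b * inl v * (psi V b)⁻¹ = inl v := by
      rw [h1]; group
    rw [psi_conj] at h2
    have h3 := inl_injective h2
    have h4 := congrArg (fun w : ↥V => (w : G)) h3
    simp only [MulAut.conjNormal_apply] at h4
    calc b * (v : G) = (b * v * b⁻¹) * b := by group
      _ = v * b := by rw [h4]
  · rintro h _ ⟨b, hb, rfl⟩
    have h1 : psi V b * inl v * (psi V b)⁻¹ = inl v := by
      rw [psi_conj]
      congr 1
      apply Subtype.ext
      rw [MulAut.conjNormal_apply, h b hb]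
      group
    calc psi V b * inl v = (psi V b * inl v * (psi V b)⁻¹) * psi V b := by group
      _ = inl v * psi V b := by rw [h1]

theorem VV_inf_centralizer_map (B : Subgroup G) :
    VV V ⊓ Subgroup.centralizer ((B.map (psi V) : Subgroup (HolG V)) : Set (HolG V)) =
      ((V ⊓ Subgroup.centralizer (B : Set G)).subgroupOf V).map (inl : ↥V →* HolG V) := by
  ext x
  constructor
  · rintro ⟨⟨v, rfl⟩, hx⟩
    refine ⟨v, ?_, rfl⟩
    rw [SetLike.mem_coe, Subgroup.mem_subgroupOf]
    exact ⟨v.2, (inl_mem_centralizer_map_iff V B v).1 hx⟩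
  · rintro ⟨v, hv, rfl⟩
    rw [SetLike.mem_coe, Subgroup.mem_subgroupOf] at hv
    exact ⟨⟨v, rfl⟩, (inl_mem_centralizer_map_iff V B v).2 hv.2⟩

theorem card_VV_inf_centralizer_map (B : Subgroup G) :
    Nat.card ↥(VV V ⊓ Subgroup.centralizer ((B.map (psi V) : Subgroup (HolG V)) : Set (HolG V))) =
      Nat.card ↥(V ⊓ Subgroup.centralizer (B : Set G)) := by
  rw [VV_inf_centralizer_map, Subgroup.card_map_of_injective inl_injective,
    card_subgroupOf_of_le inf_le_left]

theorem card_VV : Nat.card ↥(VV V) = Nat.card ↥V :=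
  (Nat.card_congr (MonoidHom.ofInjective (inl_injective (φ := MonoidHom.id (MulAut ↥V)))).toEquiv).symm

/-- `|f(B)| · |B ∩ ker f| = |B|`. -/
theorem card_map_mul_card_inf_ker {G' : Type*} [Group G'] [Finite G] (f : G →* G') (B : Subgroup G) :
    Nat.card ↥(B.map f) * Nat.card ↥(B ⊓ f.ker) = Nat.card ↥B := by
  set f' : ↥B →* G' := f.comp B.subtype with hf'
  have h1 : f'.range = B.map f := by
    rw [hf', MonoidHom.range_comp, Subgroup.range_subtype]
  have h2 : f'.ker = f.ker.subgroupOf B := rfl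
  have h3 := Subgroup.card_mul_index f'.ker
  rw [Subgroup.index_ker, h1, h2] at h3
  have h4 : Nat.card ↥(f.ker.subgroupOf B) = Nat.card ↥(B ⊓ f.ker) := by
    rw [← Subgroup.inf_subgroupOf_left, card_subgroupOf_of_le inf_le_left]
  rw [h4, mul_comm] at h3
  exact h3

theorem isElementaryAbelian_VV {p : ℕ} (hV : Cfsg.IsElementaryAbelian p V) :
    Cfsg.IsElementaryAbelian p (VV V) := by
  refine ⟨⟨⟨?_⟩⟩, ?_⟩
  · rintro ⟨_, ⟨v, rfl⟩⟩ ⟨_, ⟨w, rfl⟩⟩
    apply Subtype.ext
    show (inl v : HolG V) * inl w = inl w * inl v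
    rw [← map_mul, ← map_mul, hV.1.is_comm.comm v w]
  · rintro _ ⟨v, rfl⟩
    rw [← map_pow]
    have : v ^ p = 1 := by
      apply Subtype.ext
      rw [Subgroup.coe_pow, Subgroup.coe_one]
      exact hV.2 v v.2
    rw [this, map_one]

theorem inf_centralizer_VV_eq_bot {K : Subgroup (HolG V)}
    (hK : K ≤ (inr : MulAut ↥V →* HolG V).range) :
    K ⊓ Subgroup.centralizer ((VV V : Subgroup (HolG V)) : Set (HolG V)) = ⊥ := by
  rw [eq_bot_iff]
  rintro x ⟨hxK, hxC⟩
  obtain ⟨α, rfl⟩ := hK hxK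
  rw [Subgroup.mem_bot]
  have h1 : α = 1 := by
    ext v
    have h2 := (Subgroup.mem_centralizer_iff.1 hxC) (inl v) ⟨v, rfl⟩
    have h3 : (inr α : HolG V) * inl v * inr α⁻¹ = inl v := by
      rw [map_inv, ← h2]; group
    rw [← inl_aut (φ := MonoidHom.id (MulAut ↥V))] at h3
    have h4 := inl_injective h3
    rw [MulAut.one_apply]
    exact congrArg Subtype.val h4
  rw [h1, map_one]

/-- Best offenders on `V` map to best offenders on the image of `V` in the holomorph. -/
theorem isBestOffenderOn_map [Finite G] {p : ℕ} {A : Subgroup G}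
    (hA : Cfsg.IsBestOffenderOn p V A) :
    Cfsg.IsBestOffenderOn p (VV V) (A.map (psi V)) := by
  obtain ⟨h1, h2, h3⟩ := hA
  refine ⟨?_, ?_, ?_⟩
  · intro B' hB'
    set B := A ⊓ B'.comap (psi V) with hB
    have hBmap : B.map (psi V) = B' := by
      apply le_antisymm
      · rintro _ ⟨b, hb, rfl⟩
        exact hb.2
      · intro b' hb'
        obtain ⟨a, ha, rfl⟩ := hB' hb'
        exact ⟨a, ⟨ha, hb'⟩, rfl⟩
    have hBA : B ≤ A := inf_le_left
    have hker : B ⊓ (psi V).ker = A ⊓ (psi V).ker := by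
      apply le_antisymm (inf_le_inf_right _ hBA)
      rintro x ⟨hxA, hxk⟩
      refine ⟨⟨hxA, ?_⟩, hxk⟩
      show psi V x ∈ B'
      rw [MonoidHom.mem_ker.1 hxk]; exact B'.one_mem
    have hc1 := card_map_mul_card_inf_ker (psi V) B
    have hc2 := card_map_mul_card_inf_ker (psi V) A
    rw [hBmap, hker] at hc1
    have hineq := h1 B hBA
    rw [← hc1, ← hc2] at hineq
    rw [← hBmap, card_VV_inf_centralizer_map, card_VV_inf_centralizer_map, hBmap]
    have hpos : 0 < Nat.card ↥(A ⊓ (psi V).ker) := Nat.card_pos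
    have h5 : Nat.card ↥(A ⊓ (psi V).ker) *
        (Nat.card ↥B' * Nat.card ↥(V ⊓ Subgroup.centralizer (B : Set G))) ≤
        Nat.card ↥(A ⊓ (psi V).ker) *
        (Nat.card ↥(A.map (psi V)) * Nat.card ↥(V ⊓ Subgroup.centralizer (A : Set G))) := by
      calc _ = Nat.card ↥B' * Nat.card ↥(A ⊓ (psi V).ker) *
              Nat.card ↥(V ⊓ Subgroup.centralizer (B : Set G)) := by ring
        _ ≤ _ := hineq
        _ = _ := by ring
    exact Nat.le_of_mul_le_mul_left h5 hpos
  · rw [← Subgroup.map_commutator]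
    have : (⁅A, A⁆).map (psi V) = ⊥ := by
      rw [eq_bot_iff]
      rintro _ ⟨x, hx, rfl⟩
      rw [Subgroup.mem_bot, ← MonoidHom.mem_ker, mem_ker_psi_iff]
      exact h2 hx
    rw [this]; exact bot_le
  · rintro _ ⟨a, ha, rfl⟩
    rw [← map_pow]
    have : psi V (a ^ p) = 1 := by
      rw [← MonoidHom.mem_ker, mem_ker_psi_iff]; exact h3 a ha
    rw [this]; exact Subgroup.one_mem _

end Cfsg.Agent.Helper1.Hol
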