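import Mathlib
import Cfsg.Prelude.Def_PLocal
import Cfsg.Agent.Helper1.HolTransport
import Cfsg.Agent.Helper1.HallHigmanDual
import Cfsg.Agent.Helper5.WCCharP
import Cfsg.Agent.Helper4.OrbitSpanA
import Cfsg.Agent.Lead.PSolvC

set_option autoImplicit false

/-!
The failure-of-factorization hypotheses for the image in the holomorph of a normal subgroup of a
`p`-solvable group `G` with `O_p(G / C_G(V)) = 1`.
-/

namespace Cfsg.Agent.Helper1.Hol

open scoped Pointwise commutatorElement

open Cfsg.Agent.Helper1 SemidirectProduct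

universe u

variable {G : Type u} [Group G] (V : Subgroup G) [V.Normal]

theorem psi_range_le_normalizer_map (J : Subgroup G) [hJ : J.Normal] :
    (psi V).range ≤ Subgroup.normalizer ((J.map (psi V) : Subgroup (HolG V)) : Set (HolG V)) := by
  apply Cfsg.Agent.Helper2.le_normalizer_of_conj_mem
  rintro _ ⟨g, rfl⟩ _ ⟨j, hj, rfl⟩
  refine ⟨g * j * g⁻¹, hJ.conj_mem j hj g, ?_⟩
  rw [map_mul, map_mul, map_inv]

/-- `O_p` of the image of a normal subgroup is trivial when `O_p(G / C_G(V)) = 1`. -/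
theorem pCore_map_eq_bot [Finite G] {p : ℕ} [hp : Fact p.Prime]
    (hOp : ∀ D : Subgroup G, D.Normal → Subgroup.centralizer (V : Set G) ≤ D →
      (∃ k : ℕ, (Subgroup.centralizer (V : Set G)).relIndex D = p ^ k) →
      D = Subgroup.centralizer (V : Set G))
    (J : Subgroup G) [hJ : J.Normal] :
    Cfsg.pCore p ↥(J.map (psi V)) = ⊥ := by
  set ℋ := J.map (psi V) with hℋ
  set P := (Cfsg.pCore p ↥ℋ).map ℋ.subtype with hP
  have hPℋ : P ≤ ℋ := Cfsg.Agent.Helper5.pCore_map_subtype_le p ℋ
  have hPp : IsPGroup p P := Cfsg.Agent.Helper5.isPGroup_pCore_map_subtype p ℋ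
  have hnorm : (psi V).range ≤ Subgroup.normalizer (P : Set (HolG V)) :=
    (psi_range_le_normalizer_map V J).trans
      (Cfsg.Agent.Helper5.normalizer_le_normalizer_pCore_map_subtype p ℋ)
  set D := P.comap (psi V) with hD
  have hDn : D.Normal := by
    constructor
    intro d hd g
    show psi V (g * d * g⁻¹) ∈ P
    rw [map_mul, map_mul, map_inv]
    exact (Subgroup.mem_normalizer_iff.1 (hnorm ⟨g, rfl⟩) _).1 hd
  have hCD : Subgroup.centralizer (V : Set G) ≤ D := by
    intro c hc
    show psi V c ∈ P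
    rw [MonoidHom.mem_ker.1 ((mem_ker_psi_iff V c).2 hc)]
    exact P.one_mem
  have hDmap : D.map (psi V) = P := by
    apply le_antisymm
    · rintro _ ⟨d, hd, rfl⟩; exact hd
    · intro x hx
      obtain ⟨j, -, rfl⟩ := hPℋ hx
      exact ⟨j, hx, rfl⟩
  have hrel : (Subgroup.centralizer (V : Set G)).relIndex D = Nat.card ↥P := by
    rw [← ker_psi, Subgroup.relIndex_ker, hDmap]
  obtain ⟨k, hk⟩ := IsPGroup.iff_card.1 hPp
  have hDC := hOp D hDn hCD ⟨k, by rw [hrel, hk]⟩
  have hPbot : P = ⊥ := by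
    rw [← hDmap, hDC, eq_bot_iff]
    rintro _ ⟨c, hc, rfl⟩
    rw [Subgroup.mem_bot]
    exact MonoidHom.mem_ker.1 ((mem_ker_psi_iff V c).2 hc)
  rw [hP, Subgroup.map_eq_bot_iff_of_injective _ ℋ.subtype_injective] at hPbot
  exact hPbot

/-- The standing failure-of-factorization hypotheses in the holomorph. -/
theorem hyp_map [Finite G] {p : ℕ} [hp : Fact p.Prime] (hV : Cfsg.IsElementaryAbelian p V)
    (hsep : Cfsg.IsPSolvable p G)
    (hOp : ∀ D : Subgroup G, D.Normal → Subgroup.centralizer (V : Set G) ≤ D →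
      (∃ k : ℕ, (Subgroup.centralizer (V : Set G)).relIndex D = p ^ k) →
      D = Subgroup.centralizer (V : Set G))
    (J : Subgroup G) [hJ : J.Normal] :
    FFact.Hyp p (VV V) (J.map (psi V)) := by
  refine ⟨isElementaryAbelian_VV V hV, ?_, ?_, ?_⟩
  · rw [Subgroup.normalizer_eq_top]; exact le_top
  · exact inf_centralizer_VV_eq_bot V ((Subgroup.map_le_range _ _).trans (psi_range_le V))
  · apply centralizer_pPrimeCore_le_of_isPSolvable
    · exact Cfsg.Agent.Lead.PSolvGL2.isPSolvable_of_surjective ((psi V).subgroupMap J)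
        (MonoidHom.subgroupMap_surjective _ _) (Cfsg.Agent.Helper4.isPSolvable_subgroup hsep J)
    · exact pCore_map_eq_bot V hOp J

end Cfsg.Agent.Helper1.Hol
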