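import Mathlib
import Cfsg.Prelude.Def_PLocal
import Cfsg.Agent.Helper1.AbJc
import Cfsg.Agent.Helper1.HolHyp
import Cfsg.Agent.Helper1.Fitting2
import Cfsg.Agent.Helper1.Cores
import Cfsg.Agent.Helper4.SolvPSolv

set_option autoImplicit false

/-!
Solvable groups `X` with `F(X) = O_2(X)`: the normal closure `V` of the centre of a Sylow
2-subgroup, the module `Ω₁(V)`, and the images of the abelian subgroups of largest order of the
Sylow subgroup in the holomorph of `Ω₁(V)`.
-/

namespace Cfsg.Agent.Helper1.AbJ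

open scoped Pointwise commutatorElement

open Cfsg.Agent.Helper1 SemidirectProduct

universe u

variable {X : Type u} [Group X]

/-- The centre of a subgroup, inside the ambient group. -/
def zOf (T : Subgroup X) : Subgroup X := T ⊓ Subgroup.centralizer (T : Set X)

theorem le_centralizer_zOf (T : Subgroup X) : T ≤ Subgroup.centralizer (zOf T : Set X) := by
  intro t ht
  rw [Subgroup.mem_centralizer_iff]
  intro z hz
  exact (Subgroup.mem_centralizer_iff.1 hz.2 t ht).symm

/-- The normal closure of the centre of a Sylow 2-subgroup lies in `Z(O_2(X))`. -/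
theorem normalClosure_zOf_le [Finite X] [Group.IsSolvable X]
    (hF : Cfsg.fittingSubgroup X = Cfsg.pCore 2 X) (T : Sylow 2 X) :
    Subgroup.normalClosure (zOf (T : Subgroup X) : Set X) ≤
      Cfsg.pCore 2 X ⊓ Subgroup.centralizer (Cfsg.pCore 2 X : Set X) := by
  haveI : Fact (Nat.Prime 2) := ⟨Nat.prime_two⟩
  have hQT : Cfsg.pCore 2 X ≤ (T : Subgroup X) := pCore_le_sylow T
  have h1 : zOf (T : Subgroup X) ≤ Subgroup.centralizer (Cfsg.pCore 2 X : Set X) :=
    inf_le_right.trans (Subgroup.centralizer_le hQT)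
  have h2 : Subgroup.centralizer (Cfsg.pCore 2 X : Set X) ≤ Cfsg.pCore 2 X := by
    have := centralizer_fittingSubgroup_le (G := X)
    rwa [hF] at this
  apply Subgroup.normalClosure_le_normal
  exact le_inf (h1.trans h2) h1

theorem comm_of_le_inf_centralizer {Q V : Subgroup X}
    (h : V ≤ Q ⊓ Subgroup.centralizer (Q : Set X)) : ∀ x ∈ V, ∀ y ∈ V, x * y = y * x := by
  intro x hx y hy
  exact (Subgroup.mem_centralizer_iff.1 (h hy).2 x (h hx).1)

section setup

variable [Finite X] [Group.IsSolvable X]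
  (hF : Cfsg.fittingSubgroup X = Cfsg.pCore 2 X) (T : Sylow 2 X)

/-- `V = ⟨Z(T)^X⟩`. -/
abbrev vOf (T : Sylow 2 X) : Subgroup X :=
  Subgroup.normalClosure (zOf (T : Subgroup X) : Set X)

include hF in
theorem vOf_comm : ∀ x ∈ vOf T, ∀ y ∈ vOf T, x * y = y * x :=
  comm_of_le_inf_centralizer (normalClosure_zOf_le hF T)

include hF in
theorem vOf_isPGroup : IsPGroup 2 (vOf T) := by
  haveI : Fact (Nat.Prime 2) := ⟨Nat.prime_two⟩
  exact (pCore_isPGroup 2).to_le ((normalClosure_zOf_le hF T).trans inf_le_left)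

include hF in
theorem vOf_le : vOf T ≤ (T : Subgroup X) := by
  haveI : Fact (Nat.Prime 2) := ⟨Nat.prime_two⟩
  exact ((normalClosure_zOf_le hF T).trans inf_le_left).trans (pCore_le_sylow T)

/-- `V₁ = Ω₁(V)`. -/
def v1Of : Subgroup X := omegaAb 2 (vOf T) (vOf_comm hF T)

instance v1Of_normal : (v1Of hF T).Normal := by
  unfold v1Of; infer_instance

theorem v1Of_le : v1Of hF T ≤ (T : Subgroup X) := (omegaAb_le _ _ _).trans (vOf_le hF T)

theorem v1Of_isElementaryAbelian : Cfsg.IsElementaryAbelian 2 (v1Of hF T) :=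
  omegaAb_isElementaryAbelian _ _ _

theorem v1Of_comm : ∀ x ∈ v1Of hF T, ∀ y ∈ v1Of hF T, x * y = y * x :=
  fun x hx y hy => vOf_comm hF T x hx.1 y hy.1

/-- `C_X(V₁)` is the largest normal subgroup of `X` centralizing `Z(T)`. -/
theorem centralizer_v1Of :
    Subgroup.centralizer (v1Of hF T : Set X) =
      (Subgroup.centralizer (zOf (T : Subgroup X) : Set X)).normalCore := by
  haveI : Fact (Nat.Prime 2) := ⟨Nat.prime_two⟩
  have hCD : (Subgroup.centralizer (zOf (T : Subgroup X) : Set X)).normalCore ≤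
      Subgroup.centralizer (v1Of hF T : Set X) := by
    rw [normalCore_centralizer_eq]
    exact Subgroup.centralizer_le (omegaAb_le _ _ _)
  obtain ⟨k, hk⟩ := relIndex_centralizer_omegaAb (p := 2) (vOf T) (vOf_comm hF T)
    (vOf_isPGroup hF T)
  apply eq_normalCore_of_relIndex T (zOf (T : Subgroup X)) (le_centralizer_zOf _) _ hCD
  refine ⟨k, ?_⟩
  rw [normalCore_centralizer_eq]
  exact hk

theorem hOp_v1Of : ∀ D : Subgroup X, D.Normal →
    Subgroup.centralizer (v1Of hF T : Set X) ≤ D →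
    (∃ k : ℕ, (Subgroup.centralizer (v1Of hF T : Set X)).relIndex D = 2 ^ k) →
    D = Subgroup.centralizer (v1Of hF T : Set X) := by
  haveI : Fact (Nat.Prime 2) := ⟨Nat.prime_two⟩
  intro D hDn hCD hk
  rw [centralizer_v1Of hF T] at hCD hk ⊢
  exact eq_normalCore_of_relIndex T (zOf (T : Subgroup X)) (le_centralizer_zOf _) D hCD hk

/-- Conjugates of the abelian subgroups of largest order of `T` have the counting property
on `V₁`. -/
theorem cardBest_conj {A : Subgroup X} (hA : MaxAbIn (T : Subgroup X) A) (g : X) :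
    FFact.CardBest (v1Of hF T) (A.map (MulAut.conj g).toMonoidHom) := by
  apply (hA.conj g).cardBest _ (v1Of_comm hF T)
  intro v hv
  refine ⟨g⁻¹ * v * g, v1Of_le hF T ?_, ?_⟩
  · have := (v1Of_normal hF T).conj_mem v hv g⁻¹
    rwa [inv_inv] at this
  · simp only [MulEquiv.coe_toMonoidHom, MulAut.conj_apply]; group

end setup

section transport

variable {G : Type u} [Group G] (V : Subgroup G) [V.Normal]

/-- The counting property passes to the holomorph. -/
theorem cardBest_map [Finite G] {A : Subgroup G} (hA : FFact.CardBest V A) :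
    FFact.CardBest (Hol.VV V) (A.map (Hol.psi V)) := by
  intro B' hB'
  set B := A ⊓ B'.comap (Hol.psi V) with hB
  have hBmap : B.map (Hol.psi V) = B' := by
    apply le_antisymm
    · rintro _ ⟨b, hb, rfl⟩
      exact hb.2
    · intro b' hb'
      obtain ⟨a, ha, rfl⟩ := hB' hb'
      exact ⟨a, ⟨ha, hb'⟩, rfl⟩
  have hBA : B ≤ A := inf_le_left
  have hker : B ⊓ (Hol.psi V).ker = A ⊓ (Hol.psi V).ker := by
    apply le_antisymm (inf_le_inf_right _ hBA)
    rintro x ⟨hxA, hxk⟩
    refine ⟨⟨hxA, ?_⟩, hxk⟩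
    show Hol.psi V x ∈ B'
    rw [MonoidHom.mem_ker.1 hxk]; exact B'.one_mem
  have hc1 := Hol.card_map_mul_card_inf_ker (Hol.psi V) B
  have hc2 := Hol.card_map_mul_card_inf_ker (Hol.psi V) A
  rw [hBmap, hker] at hc1
  have hineq := hA B hBA
  rw [← hc1, ← hc2] at hineq
  rw [← hBmap, Hol.card_VV_inf_centralizer_map, Hol.card_VV_inf_centralizer_map, hBmap]
  have hpos : 0 < Nat.card ↥(A ⊓ (Hol.psi V).ker) := Nat.card_pos
  have h5 : Nat.card ↥(A ⊓ (Hol.psi V).ker) *
      (Nat.card ↥B' * Nat.card ↥(V ⊓ Subgroup.centralizer (B : Set G))) ≤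
      Nat.card ↥(A ⊓ (Hol.psi V).ker) *
      (Nat.card ↥(A.map (Hol.psi V)) * Nat.card ↥(V ⊓ Subgroup.centralizer (A : Set G))) := by
    calc _ = Nat.card ↥B' * Nat.card ↥(A ⊓ (Hol.psi V).ker) *
            Nat.card ↥(V ⊓ Subgroup.centralizer (B : Set G)) := by ring
      _ ≤ _ := hineq
      _ = _ := by ring
  exact Nat.le_of_mul_le_mul_left h5 hpos

/-- An abelian `p`-subgroup with the counting property maps to a best offender in the
holomorph, under the standing hypotheses. -/
theorem isBestOffenderOn_map_of_cardBest [Finite G] {p : ℕ} [hp : Fact p.Prime]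
    (hV : Cfsg.IsElementaryAbelian p V) (hsep : Cfsg.IsPSolvable p G)
    (hOp : ∀ D : Subgroup G, D.Normal → Subgroup.centralizer (V : Set G) ≤ D →
      (∃ k : ℕ, (Subgroup.centralizer (V : Set G)).relIndex D = p ^ k) →
      D = Subgroup.centralizer (V : Set G))
    {A : Subgroup G} (hAc : ∀ x ∈ A, ∀ y ∈ A, x * y = y * x) (hAp : IsPGroup p A)
    (hA : FFact.CardBest V A) :
    Cfsg.IsBestOffenderOn p (Hol.VV V) (A.map (Hol.psi V)) := by
  have hyp := Hol.hyp_map V hV hsep hOp ⊤
  have hc := cardBest_map V hA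
  have hle : A.map (Hol.psi V) ≤ (⊤ : Subgroup G).map (Hol.psi V) := Subgroup.map_mono le_top
  have hcomm : ∀ x ∈ A.map (Hol.psi V), ∀ y ∈ A.map (Hol.psi V), x * y = y * x := by
    rintro _ ⟨x, hx, rfl⟩ _ ⟨y, hy, rfl⟩
    rw [← map_mul, ← map_mul, hAc x hx y hy]
  have hpow := hyp.pow_eq_one_of_cardBest _ _ rfl hle hcomm (hAp.map _) hc
  refine ⟨hc, ?_, ?_⟩
  · have : ⁅A.map (Hol.psi V), A.map (Hol.psi V)⁆ = ⊥ := by
      rw [Subgroup.commutator_eq_bot_iff_le_centralizer, Subgroup.le_centralizer_iff]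
      intro x hx
      rw [Subgroup.mem_centralizer_iff]
      intro y hy
      exact hcomm y hy x hx
    rw [this]; exact bot_le
  · intro a ha
    rw [hpow a ha]; exact Subgroup.one_mem _

end transport

end Cfsg.Agent.Helper1.AbJ
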