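import Mathlib
import Cfsg.Agent.Helper1.FFact4

set_option autoImplicit false

/-!
Auxiliary isomorphisms: `SL(2, 2) ≃ S₃`, internal direct products, normal closures as joins of
conjugates.
-/

namespace Cfsg.Agent.Helper1.AbJ

open scoped Pointwise

universe u

/-- A group of order 6 with a non-central involution is the symmetric group of degree 3. -/
theorem s3_of_card_six_of_not_commute {G : Type*} [Group G] [Finite G] (h6 : Nat.card G = 6)
    (t x : G) (ht : orderOf t = 2) (hx : t * x ≠ x * t) :
    Nonempty (G ≃* Equiv.Perm (Fin 3)) := by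
  set H := Subgroup.zpowers t with hH
  have hHcard : Nat.card H = 2 := by rw [Nat.card_zpowers, ht]
  have hHidx : H.index = 3 := by
    have := Subgroup.card_mul_index H
    rw [hHcard, h6] at this
    omega
  have hcore : H.normalCore = ⊥ := by
    rw [eq_bot_iff]
    intro g hg
    rw [Subgroup.mem_bot]
    by_contra hg1
    have hgH : g ∈ H := Subgroup.normalCore_le H hg
    have huniq := (Nat.card_eq_two_iff' (1 : H)).1 hHcard
    obtain ⟨y, -, hy⟩ := huniq
    have htH : t ∈ H := Subgroup.mem_zpowers t
    have ht1 : t ≠ 1 := by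
      intro h
      rw [h, orderOf_one] at ht
      norm_num at ht
    have e1 : (⟨g, hgH⟩ : H) = y := hy _ (fun h => hg1 (congrArg Subtype.val h))
    have e2 : (⟨t, htH⟩ : H) = y := hy _ (fun h => ht1 (congrArg Subtype.val h))
    have hgt : g = t := congrArg Subtype.val (e1.trans e2.symm)
    have hcent : ∀ c : G, c * t * c⁻¹ = t := by
      intro c
      have h1 : c * t * c⁻¹ ∈ H.normalCore := by
        rw [← hgt]
        exact (Subgroup.normalCore_normal H).conj_mem g hg c
      have h2 : c * t * c⁻¹ ∈ H := Subgroup.normalCore_le H h1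
      have h3 : c * t * c⁻¹ ≠ 1 := by
        intro h
        apply ht1
        have : t = c⁻¹ * (c * t * c⁻¹) * c := by group
        rw [this, h]
        group
      have e3 : (⟨c * t * c⁻¹, h2⟩ : H) = y := hy _ (fun h => h3 (congrArg Subtype.val h))
      exact congrArg Subtype.val (e3.trans e2.symm)
    apply hx
    have := hcent x
    calc t * x = x * t * x⁻¹ * x := by rw [this]
      _ = x * t := by group
  let φ : G →* Equiv.Perm (G ⧸ H) := MulAction.toPermHom G (G ⧸ H)
  have hker : φ.ker = ⊥ := by rw [← hcore, Subgroup.normalCore_eq_ker]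
  have hinj : Function.Injective φ := (MonoidHom.ker_eq_bot_iff φ).1 hker
  have hcard3 : Nat.card (G ⧸ H) = 3 := by rw [← Subgroup.index_eq_card]; exact hHidx
  have hcardP : Nat.card (Equiv.Perm (G ⧸ H)) = 6 := by
    rw [Nat.card_perm, hcard3]
    rfl
  have hbij : Function.Bijective φ :=
    hinj.bijective_of_nat_card_le (by rw [hcardP, h6])
  let e1 : G ≃* Equiv.Perm (G ⧸ H) := MulEquiv.ofBijective φ hbij
  let e2 : (G ⧸ H) ≃ Fin 3 := (Finite.equivFin (G ⧸ H)).trans (finCongr hcard3)
  exact ⟨e1.trans e2.permCongrHom⟩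

theorem sl2_two_equiv_perm :
    Nonempty (Matrix.SpecialLinearGroup (Fin 2) (ZMod 2) ≃* Equiv.Perm (Fin 3)) := by
  let t : Matrix.SpecialLinearGroup (Fin 2) (ZMod 2) := ⟨!![1, 1; 0, 1], by decide⟩
  let x : Matrix.SpecialLinearGroup (Fin 2) (ZMod 2) := ⟨!![1, 0; 1, 1], by decide⟩
  have ht : orderOf t = 2 := by
    apply orderOf_eq_prime
    · decide
    · intro h
      have h2 := congrArg (fun m : Matrix.SpecialLinearGroup (Fin 2) (ZMod 2) => m.1 0 1) h
      revert h2
      decide
  have hx : t * x ≠ x * t := by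
    intro h
    have h2 := congrArg (fun m : Matrix.SpecialLinearGroup (Fin 2) (ZMod 2) => m.1 0 0) h
    revert h2
    decide
  exact s3_of_card_six_of_not_commute FFact.card_SL2_two t x ht hx

/-- An internal direct product of finitely many subgroups normalizing each other. -/
theorem nonempty_mulEquiv_pi_of_indep_sup {G : Type*} [Group G] {ι : Type*} [Fintype ι]
    (E : ι → Subgroup G) (hind : iSupIndep E)
    (hnorm : ∀ i j, E i ≤ Subgroup.normalizer ((E j : Subgroup G) : Set G)) :
    Nonempty (↥(⨆ i, E i) ≃* ∀ i, ↥(E i)) := by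
  have hcomm : Pairwise fun i j : ι => ∀ x y : G, x ∈ E i → y ∈ E j → Commute x y := by
    intro i j hij x y hx hy
    have hd : E i ⊓ E j = ⊥ := disjoint_iff.1 (hind.pairwiseDisjoint hij)
    have h1 : x * y * x⁻¹ * y⁻¹ ∈ E i := by
      have : y * x⁻¹ * y⁻¹ ∈ E i :=
        (Subgroup.mem_normalizer_iff.1 (hnorm j i hy) x⁻¹).1 ((E i).inv_mem hx)
      have h2 : x * y * x⁻¹ * y⁻¹ = x * (y * x⁻¹ * y⁻¹) := by group
      rw [h2]; exact (E i).mul_mem hx this
    have h2 : x * y * x⁻¹ * y⁻¹ ∈ E j := by
      have : x * y * x⁻¹ ∈ E j := (Subgroup.mem_normalizer_iff.1 (hnorm i j hx) y).1 hy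
      exact (E j).mul_mem this ((E j).inv_mem hy)
    have h3 : x * y * x⁻¹ * y⁻¹ ∈ E i ⊓ E j := ⟨h1, h2⟩
    rw [hd, Subgroup.mem_bot] at h3
    show x * y = y * x
    calc x * y = (x * y * x⁻¹ * y⁻¹) * (y * x) := by group
      _ = y * x := by rw [h3, one_mul]
  have hinj : Function.Injective (Subgroup.noncommPiCoprod hcomm) :=
    Subgroup.injective_noncommPiCoprod_of_iSupIndep hind
  have hrange : (Subgroup.noncommPiCoprod hcomm).range = ⨆ i, E i :=
    Subgroup.noncommPiCoprod_range
  exact ⟨((MonoidHom.ofInjective hinj).trans (MulEquiv.subgroupCongr hrange)).symm⟩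

/-- The normal closure of a subgroup is the join of its conjugates. -/
theorem normalClosure_eq_iSup_conj {G : Type*} [Group G] (J : Subgroup G) :
    Subgroup.normalClosure (J : Set G) = ⨆ g : G, J.map (MulAut.conj g).toMonoidHom := by
  apply le_antisymm
  · haveI : (⨆ g : G, J.map (MulAut.conj g).toMonoidHom).Normal := by
      constructor
      intro x hx h
      have h1 : (MulAut.conj h).toMonoidHom x ∈
          (⨆ g : G, J.map (MulAut.conj g).toMonoidHom).map (MulAut.conj h).toMonoidHom :=
        ⟨x, hx, rfl⟩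
      rw [Subgroup.map_iSup] at h1
      have h2 : (⨆ g : G, (J.map (MulAut.conj g).toMonoidHom).map (MulAut.conj h).toMonoidHom) ≤
          ⨆ g : G, J.map (MulAut.conj g).toMonoidHom := by
        apply iSup_le
        intro g
        rw [Subgroup.map_map]
        have : (MulAut.conj h).toMonoidHom.comp (MulAut.conj g).toMonoidHom =
            (MulAut.conj (h * g)).toMonoidHom := by
          ext y; simp [mul_assoc]
        rw [this]
        exact le_iSup (fun g : G => J.map (MulAut.conj g).toMonoidHom) (h * g)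
      exact h2 h1
    apply Subgroup.normalClosure_le_normal
    intro j hj
    have : j ∈ J.map (MulAut.conj (1 : G)).toMonoidHom := ⟨j, hj, by simp⟩
    exact (le_iSup (fun g : G => J.map (MulAut.conj g).toMonoidHom) 1) this
  · apply iSup_le
    intro g
    rintro _ ⟨j, hj, rfl⟩
    exact (Subgroup.normalClosure_normal).conj_mem j (Subgroup.subset_normalClosure hj) g

end Cfsg.Agent.Helper1.AbJ
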