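import Mathlib
import Cfsg.Prelude.Def_PLocal
import Cfsg.Agent.Helper1.AbJd
import Cfsg.Agent.Helper1.AbJe
import Cfsg.Agent.Helper1.FFact14

set_option autoImplicit false

/-!
Solvable groups `X` with `F(X) = O_2(X)`: `X = C Y N_X(J(T))`, and `Y C / C` is trivial or a direct
product of copies of `S₃` (`J` generated by the abelian subgroups of largest order).
-/

namespace Cfsg.Agent.Helper1.AbJ

open scoped Pointwise commutatorElement

open Cfsg.Agent.Helper1 SemidirectProduct

universe u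

variable {X : Type u} [Group X]

theorem isPGroup_of_maxAbIn {p : ℕ} (T : Sylow p X) {A : Subgroup X}
    (hA : MaxAbIn (T : Subgroup X) A) (g : X) :
    IsPGroup p ↥(A.map (MulAut.conj g).toMonoidHom) :=
  (T.2.to_le hA.1).map _

set_option maxHeartbeats 1600000 in
theorem main [Finite X] [Group.IsSolvable X]
    (hF : Cfsg.fittingSubgroup X = Cfsg.pCore 2 X) (T : Sylow 2 X) :
    ((Subgroup.centralizer (zOf (T : Subgroup X) : Set X)).normalCore
        ⊔ Subgroup.normalClosure (Cfsg.thompsonSubgroupAOf (T : Subgroup X) : Set X)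
        ⊔ Subgroup.normalizer (Cfsg.thompsonSubgroupAOf (T : Subgroup X) : Set X) = ⊤) ∧
    (Subgroup.normalClosure (Cfsg.thompsonSubgroupAOf (T : Subgroup X) : Set X)
        ≤ (Subgroup.centralizer (zOf (T : Subgroup X) : Set X)).normalCore
      ∨ ∃ n : ℕ, 1 ≤ n ∧
        Nonempty (↥(Subgroup.normalClosure (Cfsg.thompsonSubgroupAOf (T : Subgroup X) : Set X)) ⧸
            ((Subgroup.centralizer (zOf (T : Subgroup X) : Set X)).normalCore).subgroupOf
              (Subgroup.normalClosure (Cfsg.thompsonSubgroupAOf (T : Subgroup X) : Set X))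
          ≃* (Fin n → Equiv.Perm (Fin 3)))) := by
  haveI : Fact (Nat.Prime 2) := ⟨Nat.prime_two⟩
  set J := Cfsg.thompsonSubgroupAOf (T : Subgroup X) with hJ
  set Y := Subgroup.normalClosure (J : Set X) with hY
  set C := (Subgroup.centralizer (zOf (T : Subgroup X) : Set X)).normalCore with hC
  have hJY : J ≤ Y := Subgroup.subset_normalClosure
  constructor
  · have h1 := frattini_thompsonA T Y hJY
    rw [eq_top_iff, ← h1]
    exact sup_le_sup_right le_sup_right _
  -- the module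
  set V₁ := v1Of hF T with hV₁
  have hVe : Cfsg.IsElementaryAbelian 2 V₁ := v1Of_isElementaryAbelian hF T
  have hsep : Cfsg.IsPSolvable 2 X :=
    Cfsg.Agent.Helper4.SolvPSolv.isPSolvable_of_isSolvable 2 inferInstance
  have hOp := hOp_v1Of hF T
  have hCV : Subgroup.centralizer (V₁ : Set X) = C := centralizer_v1Of hF T
  set ψ := Hol.psi V₁ with hψ
  set H := Y.map ψ with hH
  have hyp : FFact.Hyp 2 (Hol.VV V₁) H := Hol.hyp_map V₁ hVe hsep hOp Y
  -- generation by best offenders
  have hYsup : Y = ⨆ g : X, ⨆ A : {A : Subgroup X // MaxAbIn (T : Subgroup X) A},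
      (A : Subgroup X).map (MulAut.conj g).toMonoidHom := by
    rw [hY, normalClosure_eq_iSup_conj, hJ, thompsonSubgroupAOf_eq_iSup]
    congr 1
    funext g
    rw [Subgroup.map_iSup]
  have hgen : ∀ (g : X) (A : {A : Subgroup X // MaxAbIn (T : Subgroup X) A}),
      ((A : Subgroup X).map (MulAut.conj g).toMonoidHom).map ψ ≤ H ∧
      Cfsg.IsBestOffenderOn 2 (Hol.VV V₁)
        (((A : Subgroup X).map (MulAut.conj g).toMonoidHom).map ψ) := by
    intro g A
    constructor
    · apply Subgroup.map_mono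
      rw [hYsup]
      exact le_trans (le_iSup (fun A : {A : Subgroup X // MaxAbIn (T : Subgroup X) A} =>
        (A : Subgroup X).map (MulAut.conj g).toMonoidHom) A)
        (le_iSup (fun g : X => ⨆ A : {A : Subgroup X // MaxAbIn (T : Subgroup X) A},
          (A : Subgroup X).map (MulAut.conj g).toMonoidHom) g)
    · apply isBestOffenderOn_map_of_cardBest V₁ hVe hsep hOp
      · rintro _ ⟨x, hx, rfl⟩ _ ⟨y, hy, rfl⟩
        rw [← map_mul, ← map_mul, A.2.2.1 x hx y hy]
      · exact isPGroup_of_maxAbIn T A.2 g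
      · exact cardBest_conj hF T A.2 g
  have hS3 : H = ⨆ A : {A : Subgroup (Hol.HolG V₁) //
      A ≤ H ∧ Cfsg.IsBestOffenderOn 2 (Hol.VV V₁) A}, (A : Subgroup (Hol.HolG V₁)) := by
    apply le_antisymm
    · conv_lhs => rw [hH, hYsup, Subgroup.map_iSup]
      apply iSup_le
      intro g
      rw [Subgroup.map_iSup]
      apply iSup_le
      intro A
      exact le_iSup (fun A : {A : Subgroup (Hol.HolG V₁) //
        A ≤ H ∧ Cfsg.IsBestOffenderOn 2 (Hol.VV V₁) A} => (A : Subgroup (Hol.HolG V₁)))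
        ⟨_, (hgen g A).1, (hgen g A).2⟩
    · exact iSup_le fun A => A.2.1
  by_cases hH1 : H = ⊥
  · left
    change Y ≤ C
    rw [← hCV, ← Hol.ker_psi V₁]
    intro y hy
    rw [MonoidHom.mem_ker]
    have : ψ y ∈ H := ⟨y, hy, rfl⟩
    rw [hH1, Subgroup.mem_bot] at this
    exact this
  right
  obtain ⟨-, hE, hind, hsup, -, -⟩ := hyp.structure_thm hS3 hH1
  let ι := {E : Subgroup (Hol.HolG V₁) // FFact.IsE 2 (Hol.VV V₁) H E}
  haveI : Finite ι := inferInstance
  letI : Fintype ι := Fintype.ofFinite ι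
  have hEH : ∀ E : ι, (E : Subgroup (Hol.HolG V₁)) ≤ H := by
    intro E
    exact (le_iSup (fun E : ι => (E : Subgroup (Hol.HolG V₁))) E).trans hsup.le
  have hne : Nonempty ι := by
    by_contra hemp
    rw [not_nonempty_iff] at hemp
    apply hH1
    exact hsup.symm.trans (iSup_of_empty _)
  refine ⟨Fintype.card ι, Fintype.card_pos_iff.2 hne, ?_⟩
  obtain ⟨e₁⟩ := nonempty_mulEquiv_pi_of_indep_sup
    (fun E : ι => (E : Subgroup (Hol.HolG V₁))) hind
    (fun i j => (hEH i).trans (hE j).1)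
  obtain ⟨s⟩ := sl2_two_equiv_perm
  let e₂ : ∀ E : ι, ↥(E : Subgroup (Hol.HolG V₁)) ≃* Equiv.Perm (Fin 3) :=
    fun E => (Classical.choice (hE E).2.1).trans s
  let e₃ : (∀ E : ι, ↥(E : Subgroup (Hol.HolG V₁))) ≃* (ι → Equiv.Perm (Fin 3)) :=
    MulEquiv.piCongrRight e₂
  let e₄ : (ι → Equiv.Perm (Fin 3)) ≃* (Fin (Fintype.card ι) → Equiv.Perm (Fin 3)) :=
    MulEquiv.arrowCongr (Fintype.equivFin ι) (MulEquiv.refl _)
  let e₅ : ↥H ≃* ↥(⨆ E : ι, (E : Subgroup (Hol.HolG V₁))) := MulEquiv.subgroupCongr hsup.symm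
  have hsurj : Function.Surjective (ψ.subgroupMap Y) := ψ.subgroupMap_surjective Y
  have hker : C.subgroupOf Y = (ψ.subgroupMap Y).ker := by
    rw [Subgroup.ker_subgroupMap, hψ, Hol.ker_psi, hCV]
  let e₀ : ↥Y ⧸ C.subgroupOf Y ≃* ↥H :=
    (QuotientGroup.quotientMulEquivOfEq hker).trans
      (QuotientGroup.quotientKerEquivOfSurjective (ψ.subgroupMap Y) hsurj)
  exact ⟨(((e₀.trans e₅).trans e₁).trans e₃).trans e₄⟩

end Cfsg.Agent.Helper1.AbJ
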