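import Mathlib
import Cfsg.Agent.Helper1.Basic
import Cfsg.Agent.Helper1.SZ
import Cfsg.Agent.Helper1.Coprime
import Cfsg.Agent.Helper1.SylowInt
import Cfsg.Agent.Helper1.Hall
import Cfsg.Agent.S0007

set_option autoImplicit false

/-!
Consequences of Hall's theorems.
-/

namespace Cfsg.Agent.Helper1

open scoped Pointwise commutatorElement

universe u

variable {G : Type u} [Group G]

/-- Frattini argument for Hall subgroups of a solvable normal subgroup. -/
theorem hall_frattini_argument [Finite G] (L : Subgroup G) [L.Normal] (hL : Group.IsSolvable L)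
    (H : Subgroup G) (hHL : H ≤ L) (hHall : (Nat.card H).Coprime (H.relIndex L)) :
    L ⊔ Subgroup.normalizer (H : Set G) = ⊤ := by
  have hLsolv : Group.IsSolvable L := hL
  have hcard : Nat.card L = Nat.card H * H.relIndex L := by
    rw [mul_comm]; exact (relIndex_mul_card_of_le hHL).symm
  obtain ⟨hC, -⟩ := (hallProp_of_solvable _ L rfl).internal _ _ hcard hHall
  rw [eq_top_iff]
  intro g _
  have h1 : MulAut.conj g • H ≤ L := by
    have := conj_smul_mono hHL g
    rwa [conj_smul_normal L g] at this
  obtain ⟨l, hl, hlH⟩ := hC (MulAut.conj g • H) H h1 hHL (card_conj_smul g H) rfl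
  have h2 : l * g ∈ Subgroup.normalizer (H : Set G) := by
    apply mem_normalizer_of_conj_smul_eq
    rw [map_mul, mul_smul, hlH]
  have h3 : g = l⁻¹ * (l * g) := by group
  rw [h3]
  exact Subgroup.mul_mem _ (Subgroup.mem_sup_left (L.inv_mem hl)) (Subgroup.mem_sup_right h2)

/-- relative version of the product decomposition for coprime indices. -/
theorem exists_mul_of_coprime_relIndex [Finite G] {S S' H : Subgroup G}
    (hcop : (S.relIndex H).Coprime (S'.relIndex H)) :
    ∀ h ∈ H, ∃ x ∈ S, ∃ y ∈ S', h = x * y := by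
  intro h hh
  obtain ⟨x, hx, y, hy, hxy⟩ :=
    (Cfsg.Agent.S0007.result (S.subgroupOf H) (S'.subgroupOf H) hcop).2 ⟨h, hh⟩
  refine ⟨x, Subgroup.mem_subgroupOf.1 hx, y, Subgroup.mem_subgroupOf.1 hy, ?_⟩
  have := congrArg Subtype.val hxy
  simpa using this

theorem coe_mul_eq_of_coprime_relIndex [Finite G] {S S' H : Subgroup G} (hS : S ≤ H)
    (hS' : S' ≤ H) (hcop : (S.relIndex H).Coprime (S'.relIndex H)) :
    (S : Set G) * (S' : Set G) = (H : Set G) := by
  apply Set.Subset.antisymm
  · rintro _ ⟨x, hx, y, hy, rfl⟩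
    exact H.mul_mem (hS hx) (hS' hy)
  · intro h hh
    obtain ⟨x, hx, y, hy, rfl⟩ := exists_mul_of_coprime_relIndex hcop h hh
    exact Set.mul_mem_mul hx hy

theorem index_inf_of_coprime [Finite G] (H K : Subgroup G) (h : H.index.Coprime K.index) :
    (H ⊓ K).index = H.index * K.index := (Cfsg.Agent.S0007.result H K h).1

/-- the prime power part. -/
def ppart (N q : ℕ) : ℕ := q ^ N.factorization q

theorem ppart_pos {N q : ℕ} (hq : q.Prime) : 0 < ppart N q := pow_pos hq.pos _

theorem ppart_coprime {N p q : ℕ} (hp : p.Prime) (hq : q.Prime) (hne : p ≠ q) :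
    (ppart N p).Coprime (ppart N q) :=
  Nat.Coprime.pow _ _ ((Nat.coprime_primes hp hq).2 hne)

theorem prod_ppart_erase_mul {N : ℕ} (hN : N ≠ 0) (p : ℕ) :
    (∏ q ∈ N.primeFactors.erase p, ppart N q) * ppart N p = N := by
  have hprod : ∏ q ∈ N.primeFactors, ppart N q = N := by
    have := Nat.prod_factorization_pow_eq_self hN
    rw [Finsupp.prod, Nat.support_factorization] at this
    exact this
  by_cases hp : p ∈ N.primeFactors
  · rw [Finset.prod_erase_mul _ _ hp, hprod]
  · rw [Finset.erase_eq_of_notMem hp, hprod]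
    have : N.factorization p = 0 := by
      rw [← Finsupp.notMem_support_iff, Nat.support_factorization]; exact hp
    rw [ppart, this, pow_zero, mul_one]

theorem prod_ppart_erase_erase_mul {N : ℕ} (hN : N ≠ 0) (p q : ℕ) (hpq : p ≠ q) :
    (∏ r ∈ (N.primeFactors.erase p).erase q, ppart N r) * ppart N q * ppart N p = N := by
  have h0 := prod_ppart_erase_mul hN p
  have h1 : (∏ r ∈ (N.primeFactors.erase p).erase q, ppart N r) * ppart N q =
      ∏ r ∈ N.primeFactors.erase p, ppart N r := by
    by_cases hq : q ∈ N.primeFactors.erase p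
    · rw [Finset.prod_erase_mul _ _ hq]
    · rw [Finset.erase_eq_of_notMem hq]
      have hq' : q ∉ N.primeFactors := fun h => hq (Finset.mem_erase.2 ⟨hpq.symm, h⟩)
      have : N.factorization q = 0 := by
        rw [← Finsupp.notMem_support_iff, Nat.support_factorization]; exact hq'
      rw [ppart, this, pow_zero, mul_one]
  rw [h1, h0]

/-- existence of `p`-complements in solvable groups. -/
theorem exists_pcomplement (G : Type u) [Group G] [Finite G] [Group.IsSolvable G] (q : ℕ)
    (hq : q.Prime) : ∃ K : Subgroup G, K.index = ppart (Nat.card G) q := by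
  have hN : Nat.card G ≠ 0 := Nat.card_pos.ne'
  have h1 : Nat.card G = (Nat.card G / ppart (Nat.card G) q) * ppart (Nat.card G) q :=
    (Nat.div_mul_cancel (Nat.ordProj_dvd _ _)).symm
  have h2 : (Nat.card G / ppart (Nat.card G) q).Coprime (ppart (Nat.card G) q) :=
    (Nat.Coprime.pow_left _ (Nat.coprime_ordCompl hq hN)).symm
  obtain ⟨-, hD⟩ := hallProp_of_solvable _ G rfl _ _ h1 h2
  obtain ⟨K, hK, -⟩ := hD ⊥ (by rw [Subgroup.card_bot]; exact Nat.coprime_one_left _)
  refine ⟨K, ?_⟩
  have h3 := K.card_mul_index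
  rw [hK] at h3
  have hpos : 0 < Nat.card G / ppart (Nat.card G) q :=
    Nat.div_pos (Nat.le_of_dvd Nat.card_pos (Nat.ordProj_dvd _ _)) (ppart_pos hq)
  exact Nat.eq_of_mul_eq_mul_left hpos (h3.trans h1)

theorem index_finset_inf [Finite G] (K : ℕ → Subgroup G)
    (hK : ∀ q, q.Prime → (K q).index = ppart (Nat.card G) q) (T : Finset ℕ)
    (hT : ∀ q ∈ T, q.Prime) : (T.inf K).index = ∏ q ∈ T, ppart (Nat.card G) q := by
  classical
  induction T using Finset.induction_on with
  | empty => simp
  | insert a T ha ih =>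
    have hT' : ∀ q ∈ T, q.Prime := fun q hq => hT q (Finset.mem_insert_of_mem hq)
    have hap : a.Prime := hT a (Finset.mem_insert_self a T)
    rw [Finset.inf_insert, Finset.prod_insert ha, index_inf_of_coprime, hK a hap, ih hT']
    rw [hK a hap, ih hT']
    apply Nat.Coprime.prod_right
    intro q hq
    exact ppart_coprime hap (hT' q hq) (fun h => ha (h ▸ hq))

/-- **Sylow systems** in finite solvable groups. -/
theorem exists_sylow_system (G : Type u) [Group G] [Finite G] [Group.IsSolvable G] :
    ∃ S : (p : Nat.Primes) → Sylow (p : ℕ) G,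
      ∀ p q : Nat.Primes, (S p : Set G) * (S q : Set G) = (S q : Set G) * (S p : Set G) := by
  classical
  have hN : Nat.card G ≠ 0 := Nat.card_pos.ne'
  set N := Nat.card G with hNdef
  have hex : ∀ q : ℕ, ∃ K : Subgroup G, q.Prime → K.index = ppart N q := by
    intro q
    by_cases hq : q.Prime
    · obtain ⟨K, hK⟩ := exists_pcomplement G q hq
      exact ⟨K, fun _ => hK⟩
    · exact ⟨⊤, fun h => absurd h hq⟩
  choose K hK using hex
  set P := N.primeFactors with hP
  have hPprime : ∀ q ∈ P, q.Prime := fun q hq => Nat.prime_of_mem_primeFactors hq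
  -- the Sylow subgroups
  have hcardS : ∀ p : ℕ, p.Prime → Nat.card ((P.erase p).inf K : Subgroup G) = ppart N p := by
    intro p hp
    have h1 := index_finset_inf K hK (P.erase p) (fun q hq => hPprime q (Finset.mem_of_mem_erase hq))
    have h2 := ((P.erase p).inf K).card_mul_index
    rw [h1, ← hNdef] at h2
    have h3 := prod_ppart_erase_mul hN p
    have hpos : 0 < ∏ q ∈ P.erase p, ppart N q :=
      Finset.prod_pos (fun q hq => ppart_pos (hPprime q (Finset.mem_of_mem_erase hq)))
    rw [mul_comm] at h3
    exact Nat.eq_of_mul_eq_mul_right hpos (h2.trans h3.symm)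
  have hcardH : ∀ p q : ℕ, p.Prime → q.Prime → p ≠ q →
      Nat.card (((P.erase p).erase q).inf K : Subgroup G) = ppart N p * ppart N q := by
    intro p q hp hq hpq
    have h1 := index_finset_inf K hK ((P.erase p).erase q)
      (fun r hr => hPprime r (Finset.mem_of_mem_erase (Finset.mem_of_mem_erase hr)))
    have h2 := (((P.erase p).erase q).inf K).card_mul_index
    rw [h1, ← hNdef] at h2
    have h3 := prod_ppart_erase_erase_mul hN p q hpq
    have hpos : 0 < ∏ r ∈ (P.erase p).erase q, ppart N r :=
      Finset.prod_pos (fun r hr => ppart_pos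
        (hPprime r (Finset.mem_of_mem_erase (Finset.mem_of_mem_erase hr))))
    have h4 : (ppart N p * ppart N q) * ∏ r ∈ (P.erase p).erase q, ppart N r = N :=
      calc (ppart N p * ppart N q) * ∏ r ∈ (P.erase p).erase q, ppart N r
          = (∏ r ∈ (N.primeFactors.erase p).erase q, ppart N r) * ppart N q * ppart N p := by
            rw [hP]; ring
        _ = N := h3
    exact Nat.eq_of_mul_eq_mul_right hpos (h2.trans h4.symm)
  have key : ∀ p q : ℕ, p.Prime → q.Prime → p ≠ q →
      (((P.erase p).inf K : Subgroup G) : Set G) * (((P.erase q).inf K : Subgroup G) : Set G) =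
        ((((P.erase p).erase q).inf K : Subgroup G) : Set G) := by
    intro p q hp hq hpq
    have hle1 : (P.erase p).inf K ≤ ((P.erase p).erase q).inf K :=
      Finset.inf_mono (Finset.erase_subset _ _)
    have hle2 : (P.erase q).inf K ≤ ((P.erase p).erase q).inf K := by
      rw [Finset.erase_right_comm]
      exact Finset.inf_mono (Finset.erase_subset _ _)
    have hr1 : ((P.erase p).inf K).relIndex (((P.erase p).erase q).inf K) = ppart N q := by
      have h := relIndex_mul_card_of_le hle1
      rw [hcardS p hp, hcardH p q hp hq hpq, mul_comm] at h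
      exact Nat.eq_of_mul_eq_mul_left (ppart_pos hp) h
    have hr2 : ((P.erase q).inf K).relIndex (((P.erase p).erase q).inf K) = ppart N p := by
      have h := relIndex_mul_card_of_le hle2
      rw [hcardS q hq, hcardH p q hp hq hpq] at h
      exact Nat.eq_of_mul_eq_mul_right (ppart_pos hq) h
    apply coe_mul_eq_of_coprime_relIndex hle1 hle2
    rw [hr1, hr2]
    exact ppart_coprime hq hp hpq.symm
  refine ⟨fun p => @Sylow.ofCard G _ _ p ⟨p.2⟩ ((P.erase p).inf K) (hcardS p p.2), ?_⟩
  intro p q
  by_cases hpq : (p : ℕ) = q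
  · have : p = q := Subtype.ext hpq
    subst this
    rfl
  · change (((P.erase p).inf K : Subgroup G) : Set G) * (((P.erase q).inf K : Subgroup G) : Set G) =
      (((P.erase q).inf K : Subgroup G) : Set G) * (((P.erase p).inf K : Subgroup G) : Set G)
    rw [key p q p.2 q.2 hpq, key q p q.2 p.2 (Ne.symm hpq), Finset.erase_right_comm]

end Cfsg.Agent.Helper1
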