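import Mathlib
import Cfsg.Agent.Helper1.FrobPCompl2
import Cfsg.Agent.Helper1.HallExtra

set_option autoImplicit false

/-!
A Sylow `p`-subgroup controlling its own fusion has a normal complement.
-/

namespace Cfsg.Agent.Helper1

open scoped Pointwise

universe u

variable {G : Type u} [Group G]

theorem exists_sylow_map_eq_inf [Finite G] {p : ℕ} [Fact p.Prime] (P : Sylow p G) (D : Subgroup G)
    (h : ∀ S' : Subgroup G, IsPGroup p S' → (P : Subgroup G) ⊓ D ≤ S' → S' ≤ D →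
      ∃ g : G, MulAut.conj g • S' ≤ (P : Subgroup G) ⊓ D) :
    ∃ S : Sylow p D, (S : Subgroup D).map D.subtype = (P : Subgroup G) ⊓ D := by
  have hp1 : IsPGroup p (((P : Subgroup G) ⊓ D).subgroupOf D) :=
    (P.2.to_le inf_le_left).comap_subtype
  obtain ⟨S, hS⟩ := hp1.exists_le_sylow
  refine ⟨S, ?_⟩
  set S' := (S : Subgroup D).map D.subtype with hS'
  have hS'p : IsPGroup p S' := S.2.map _
  have hle : (P : Subgroup G) ⊓ D ≤ S' := by
    intro y hy
    exact ⟨⟨y, hy.2⟩, hS (Subgroup.mem_subgroupOf.2 hy), rfl⟩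
  have hS'D : S' ≤ D := Subgroup.map_subtype_le _
  obtain ⟨g, hg⟩ := h S' hS'p hle hS'D
  have hcard : Nat.card S' ≤ Nat.card ((P : Subgroup G) ⊓ D : Subgroup G) := by
    rw [← card_conj_smul g S']; exact Subgroup.card_le_of_le hg
  exact (Subgroup.eq_of_le_of_card_ge hle hcard).symm

theorem controls_fusion_inf_normal [Finite G] {p : ℕ} [hp : Fact p.Prime] (P : Sylow p G)
    (h : ∀ x ∈ P, ∀ y ∈ P, (∃ g : G, g * x * g⁻¹ = y) → ∃ z ∈ P, z * x * z⁻¹ = y)
    (M : Subgroup G) [hM : M.Normal] {k : ℕ} (hk : M.index = p ^ k) :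
    ∀ x ∈ (P : Subgroup G) ⊓ M, ∀ y ∈ (P : Subgroup G) ⊓ M, (∃ m ∈ M, m * x * m⁻¹ = y) →
      ∃ z ∈ (P : Subgroup G) ⊓ M, z * x * z⁻¹ = y := by
  rintro x hx y hy ⟨m, hm, hmxy⟩
  set C : Subgroup G := Subgroup.centralizer ({x} : Set G) with hC
  have hmemC : ∀ c : G, c ∈ C ↔ c * x * c⁻¹ = x := by
    intro c
    rw [hC, Subgroup.mem_centralizer_iff]
    simp only [Set.mem_singleton_iff, forall_eq]
    constructor
    · intro h1; rw [← h1, mul_inv_cancel_right]
    · intro h1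
      have := congrArg (· * c) h1
      simpa using this.symm
  have hxC : x ∈ C := (hmemC x).2 (by group)
  -- `C_P(x)` is a Sylow subgroup of `C`
  obtain ⟨S, hS⟩ := exists_sylow_map_eq_inf P C (by
    intro S' hS'p hle hS'C
    have hxS' : x ∈ S' := hle ⟨hx.1, hxC⟩
    obtain ⟨Q, hQ⟩ := hS'p.exists_le_sylow
    obtain ⟨g, hg⟩ := MulAction.exists_smul_eq G Q P
    have hgP : MulAut.conj g • (Q : Subgroup G) = P := by rw [← hg, Sylow.coe_subgroup_smul]
    have h1 : ∀ s ∈ S', g * s * g⁻¹ ∈ (P : Subgroup G) := by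
      intro s hs
      rw [← hgP]
      exact conj_mem_conj_smul (hQ hs)
    obtain ⟨v, hv, hvx⟩ := h x hx.1 (g * x * g⁻¹) (h1 x hxS') ⟨g, rfl⟩
    have hw : v⁻¹ * g ∈ C := by
      rw [hmemC]
      have : v⁻¹ * g * x * (v⁻¹ * g)⁻¹ = v⁻¹ * (g * x * g⁻¹) * v := by group
      rw [this, ← hvx]; group
    refine ⟨v⁻¹ * g, ?_⟩
    intro t ht
    rw [mem_conj_smul] at ht
    have ht' : t = v⁻¹ * (g * ((v⁻¹ * g)⁻¹ * t * (v⁻¹ * g)) * g⁻¹) * v := by group
    refine Subgroup.mem_inf.2 ⟨?_, ?_⟩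
    · rw [ht']
      exact Subgroup.mul_mem _ (Subgroup.mul_mem _ (Subgroup.inv_mem _ hv) (h1 _ ht)) hv
    · have : t = (v⁻¹ * g) * ((v⁻¹ * g)⁻¹ * t * (v⁻¹ * g)) * (v⁻¹ * g)⁻¹ := by group
      rw [this]
      exact C.mul_mem (C.mul_mem hw (hS'C ht)) (C.inv_mem hw))
  -- coprime relative indices
  have hrel1 : ¬ p ∣ ((P : Subgroup G) ⊓ C).relIndex C := by
    have : ((P : Subgroup G) ⊓ C).subgroupOf C = (S : Subgroup C) := by
      rw [← hS]
      exact Subgroup.comap_map_eq_self_of_injective C.subtype_injective _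
    rw [Subgroup.relIndex, this]
    exact S.not_dvd_index
  have hrel2 : ∃ j, (M ⊓ C).relIndex C = p ^ j := by
    have h1 : (M ⊓ C).relIndex C ∣ p ^ k := by
      rw [Subgroup.inf_relIndex_right, ← hk]
      exact Subgroup.relIndex_dvd_index_of_normal M C
    obtain ⟨j, -, hj⟩ := (Nat.dvd_prime_pow hp.out).1 h1
    exact ⟨j, hj⟩
  obtain ⟨j, hj⟩ := hrel2
  have hcop : (((P : Subgroup G) ⊓ C).relIndex C).Coprime ((M ⊓ C).relIndex C) := by
    rw [hj]
    exact Nat.Coprime.pow_right j ((Nat.Prime.coprime_iff_not_dvd hp.out).2 hrel1).symm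
  have hdecomp := exists_mul_of_coprime_relIndex hcop
  -- now use fusion control in `G`
  obtain ⟨u, hu, hux⟩ := h x hx.1 y hy.1 ⟨m, hmxy⟩
  have hc : u⁻¹ * m ∈ C := by
    rw [hmemC]
    have : u⁻¹ * m * x * (u⁻¹ * m)⁻¹ = u⁻¹ * (m * x * m⁻¹) * u := by group
    rw [this, hmxy, ← hux]; group
  obtain ⟨a, ha, b, hb, hab⟩ := hdecomp _ hc
  refine ⟨u * a, Subgroup.mem_inf.2 ⟨Subgroup.mul_mem _ hu ha.1, ?_⟩, ?_⟩
  · have : u * a = m * b⁻¹ := by
      have : a = u⁻¹ * m * b⁻¹ := by rw [hab]; group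
      rw [this]; group
    rw [this]
    exact M.mul_mem hm (M.inv_mem hb.1)
  · have haC := (hmemC a).1 ha.2
    calc u * a * x * (u * a)⁻¹ = u * (a * x * a⁻¹) * u⁻¹ := by group
      _ = y := by rw [haC, hux]

theorem hasNormalPComplement_of_controls_fusion_aux {p : ℕ} [hp : Fact p.Prime] :
    ∀ (n : ℕ) (G : Type u) [Group G] [Finite G], Nat.card G = n → ∀ P : Sylow p G,
      (∀ x ∈ P, ∀ y ∈ P, (∃ g : G, g * x * g⁻¹ = y) → ∃ z ∈ P, z * x * z⁻¹ = y) →
      Cfsg.HasNormalPComplement p G := by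
  intro n
  induction n using Nat.strong_induction_on with
  | _ n ih =>
  intro G _ _ hn P hfus
  by_cases hpd : p ∣ Nat.card G
  · obtain ⟨M, hMn, hMtop, k, hk⟩ := exists_normal_ppow_index_of_controls_fusion P hpd hfus
    have hlt : Nat.card M < n := by
      rw [← hn]
      rcases lt_or_eq_of_le (Subgroup.card_le_card_group M) with h1 | h1
      · exact h1
      · exact absurd ((Subgroup.card_eq_iff_eq_top M).1 h1) hMtop
    obtain ⟨S, hS⟩ := exists_sylow_map_eq_inf P M (by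
      intro S' hS'p _ hS'M
      obtain ⟨Q, hQ⟩ := hS'p.exists_le_sylow
      obtain ⟨g, hg⟩ := MulAction.exists_smul_eq G Q P
      have hgP : MulAut.conj g • (Q : Subgroup G) = P := by rw [← hg, Sylow.coe_subgroup_smul]
      refine ⟨g, le_inf ?_ ?_⟩
      · rw [← hgP]; exact conj_smul_mono hQ g
      · have := conj_smul_mono hS'M g
        rwa [conj_smul_normal M g] at this)
    have hfusM := controls_fusion_inf_normal P hfus M hk
    have hMc : Cfsg.HasNormalPComplement p M := by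
      apply ih _ hlt M rfl S
      rintro x hx y hy ⟨m, hmxy⟩
      have hx' : (x : G) ∈ (P : Subgroup G) ⊓ M := by rw [← hS]; exact ⟨x, hx, rfl⟩
      have hy' : (y : G) ∈ (P : Subgroup G) ⊓ M := by rw [← hS]; exact ⟨y, hy, rfl⟩
      obtain ⟨z, hz, hzxy⟩ := hfusM x hx' y hy' ⟨m, m.2, by
        have := congrArg Subtype.val hmxy
        simpa using this⟩
      rw [← hS] at hz
      obtain ⟨z', hz', rfl⟩ := hz
      refine ⟨z', hz', ?_⟩
      apply Subtype.ext
      simpa using hzxy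
    exact hasNormalPComplement_of_normal_ppow_index M hk hMc
  · refine ⟨P, ⊤, inferInstance, ?_⟩
    have hPbot : (P : Subgroup G) = ⊥ := by
      rw [← Subgroup.card_eq_one, P.card_eq_multiplicity,
        Nat.factorization_eq_zero_of_not_dvd hpd, pow_zero]
    rw [hPbot]
    exact Subgroup.isComplement'_top_bot

/-- If a Sylow `p`-subgroup controls its own fusion, it has a normal complement. -/
theorem exists_normal_complement_of_controls_fusion [Finite G] {p : ℕ} [Fact p.Prime]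
    (P : Sylow p G)
    (h : ∀ x ∈ P, ∀ y ∈ P, (∃ g : G, g * x * g⁻¹ = y) → ∃ z ∈ P, z * x * z⁻¹ = y) :
    ∃ N : Subgroup G, N.Normal ∧ N.IsComplement' (P : Subgroup G) :=
  (hasNormalPComplement_iff P).1 (hasNormalPComplement_of_controls_fusion_aux _ G rfl P h)

end Cfsg.Agent.Helper1
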