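import Mathlib
import Cfsg.Agent.Helper1.FusionControl
import Cfsg.Agent.Helper1.NilpCoprime

set_option autoImplicit false

/-!
Normal complements to Hall subgroups from normal `p`-complements for each prime.
-/

namespace Cfsg.Agent.Helper1

open scoped Pointwise

universe u

variable {G : Type u} [Group G]

theorem index_finset_inf' [Finite G] (K : ℕ → Subgroup G) (T : Finset ℕ)
    (hT : ∀ q ∈ T, q.Prime ∧ (K q).index = ppart (Nat.card G) q) :
    (T.inf K).index = ∏ q ∈ T, ppart (Nat.card G) q := by
  classical
  induction T using Finset.induction_on with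
  | empty => simp
  | insert a T ha ih =>
    have hT' : ∀ q ∈ T, q.Prime ∧ (K q).index = ppart (Nat.card G) q :=
      fun q hq => hT q (Finset.mem_insert_of_mem hq)
    have hap := hT a (Finset.mem_insert_self a T)
    rw [Finset.inf_insert, Finset.prod_insert ha, index_inf_of_coprime, hap.2, ih hT']
    rw [hap.2, ih hT']
    apply Nat.Coprime.prod_right
    intro q hq
    exact ppart_coprime hap.1 (hT' q hq).1 (fun h => ha (h ▸ hq))

theorem ppart_eq_of_hall [Finite G] (H : Subgroup G) (hHall : (Nat.card H).Coprime H.index)
    {q : ℕ} (hq : q.Prime) (hqH : q ∣ Nat.card H) :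
    ppart (Nat.card G) q = ppart (Nat.card H) q := by
  have hnd : ¬ q ∣ H.index := by
    intro h
    exact hq.one_lt.ne' (Nat.eq_one_of_dvd_coprimes hHall hqH h)
  have hidx : H.index ≠ 0 := Subgroup.index_ne_zero_of_finite
  unfold ppart
  rw [← H.card_mul_index, Nat.factorization_mul Nat.card_pos.ne' hidx, Finsupp.add_apply,
    Nat.factorization_eq_zero_of_not_dvd hnd, add_zero]

/-- A Hall subgroup has a normal complement as soon as `G` has a normal `p`-complement for every
prime `p` dividing its order. -/
theorem exists_normal_complement_of_hall [Finite G] (H : Subgroup G)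
    (hHall : (Nat.card H).Coprime H.index)
    (h : ∀ p : ℕ, p.Prime → p ∣ Nat.card H → Cfsg.HasNormalPComplement p G) :
    ∃ N : Subgroup G, N.Normal ∧ N.IsComplement' H := by
  classical
  have h' : ∀ p : ℕ, ∃ N : Subgroup G, N.Normal ∧
      (p.Prime → p ∣ Nat.card H → N.index = ppart (Nat.card G) p) := by
    intro p
    by_cases hp : p.Prime ∧ p ∣ Nat.card H
    · have : Fact p.Prime := ⟨hp.1⟩
      obtain ⟨P, N, hNn, hN⟩ := h p hp.1 hp.2
      refine ⟨N, hNn, fun _ _ => ?_⟩
      rw [hN.symm.index_eq_card, P.card_eq_multiplicity]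
      rfl
    · exact ⟨⊤, inferInstance, fun h1 h2 => absurd ⟨h1, h2⟩ hp⟩
  choose K hKn hKi using h'
  set T := (Nat.card H).primeFactors with hT
  have hTmem : ∀ q ∈ T, q.Prime ∧ q ∣ Nat.card H := by
    intro q hq
    rw [hT, Nat.mem_primeFactors] at hq
    exact ⟨hq.1, hq.2.1⟩
  refine ⟨T.inf K, ?_, ?_⟩
  · apply Finset.inf_induction (p := fun N : Subgroup G => N.Normal)
    · exact inferInstance
    · intro A hA B hB
      exact Subgroup.normal_inf_normal A B
    · intro q _
      exact hKn q
  · have hidx : (T.inf K).index = Nat.card H := by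
      rw [index_finset_inf' K T (fun q hq => ⟨(hTmem q hq).1, hKi q (hTmem q hq).1 (hTmem q hq).2⟩)]
      have h1 : ∏ q ∈ T, ppart (Nat.card G) q = ∏ q ∈ T, ppart (Nat.card H) q := by
        apply Finset.prod_congr rfl
        intro q hq
        exact ppart_eq_of_hall H hHall (hTmem q hq).1 (hTmem q hq).2
      rw [h1]
      have := Nat.prod_factorization_pow_eq_self (Nat.card_pos (α := H)).ne'
      rw [Finsupp.prod, Nat.support_factorization] at this
      exact this
    have hcard : Nat.card (T.inf K : Subgroup G) = H.index := by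
      have h1 := (T.inf K).card_mul_index
      have h2 := H.card_mul_index
      rw [hidx] at h1
      have : Nat.card (T.inf K : Subgroup G) * Nat.card H = H.index * Nat.card H := by
        rw [h1, ← h2, mul_comm]
      exact Nat.eq_of_mul_eq_mul_right Nat.card_pos this
    apply Subgroup.isComplement'_of_coprime
    · rw [hcard, mul_comm]; exact H.card_mul_index
    · rw [hcard]; exact hHall.symm

end Cfsg.Agent.Helper1
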