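import Mathlib
import Cfsg.Agent.Helper1.HallNormalCompl

set_option autoImplicit false

/-!
A nilpotent Hall subgroup has a normal complement iff it controls its own fusion.
-/

namespace Cfsg.Agent.Helper1

open scoped Pointwise

universe u

variable {G : Type u} [Group G]

/-- If `N` is a normal complement of `H`, then `H` controls its own fusion. -/
theorem controls_fusion_of_normal_complement {N H : Subgroup G} [hNn : N.Normal]
    (hN : N.IsComplement' H) (x y : G) (hx : x ∈ H) (hy : y ∈ H) (g : G)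
    (hg : g * x * g⁻¹ = y) : ∃ h ∈ H, h * x * h⁻¹ = y := by
  obtain ⟨⟨n, h⟩, hnh⟩ := (Subgroup.isComplement_iff_existsUnique.1 hN g).exists
  simp only at hnh
  refine ⟨h, h.2, ?_⟩
  set x' : G := h * x * (h : G)⁻¹ with hx'
  have hx'H : x' ∈ H := H.mul_mem (H.mul_mem h.2 hx) (H.inv_mem h.2)
  have hy' : y = n * x' * (n : G)⁻¹ := by
    rw [← hg, ← hnh, hx']; group
  have h1 : y * x'⁻¹ ∈ N := by
    have : y * x'⁻¹ = n * (x' * (n : G)⁻¹ * x'⁻¹) := by rw [hy']; group
    rw [this]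
    exact N.mul_mem n.2 (hNn.conj_mem _ (N.inv_mem n.2) x')
  have h2 : y * x'⁻¹ ∈ H := H.mul_mem hy (H.inv_mem hx'H)
  have h3 : y * x'⁻¹ ∈ N ⊓ H := Subgroup.mem_inf.2 ⟨h1, h2⟩
  rw [(Subgroup.IsComplement'.disjoint hN).eq_bot, Subgroup.mem_bot] at h3
  exact (mul_inv_eq_one.1 h3).symm

/-- In a nilpotent group conjugation of `p`-elements can be realised inside a Sylow
`p`-subgroup. -/
theorem nilpotent_sylow_controls [Finite G] (hnil : Group.IsNilpotent G) {p : ℕ}
    [hp : Fact p.Prime] (S : Sylow p G) (x : G) (hx : x ∈ S) (h : G) :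
    ∃ z ∈ S, z * x * z⁻¹ = h * x * h⁻¹ := by
  obtain ⟨S₀, N₀, hN₀n, hN₀⟩ := hasNormalPComplement_of_isNilpotent hnil p
  obtain ⟨⟨n, s⟩, hns⟩ := (Subgroup.isComplement_iff_existsUnique.1 hN₀ h).exists
  simp only at hns
  have hs_ord : ∃ k, orderOf (s : G) = p ^ k := by
    obtain ⟨k, hk⟩ := (IsPGroup.iff_orderOf.1 S₀.2) s
    exact ⟨k, by rw [← hk, Subgroup.orderOf_coe]⟩
  obtain ⟨k, hk⟩ := hs_ord
  have hsS : (s : G) ∈ S := mem_sylow_of_isNilpotent S _ k hk
  refine ⟨s, hsS, ?_⟩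
  set a : G := s * x * (s : G)⁻¹ with ha
  have haS : a ∈ (S : Subgroup G) :=
    Subgroup.mul_mem _ (Subgroup.mul_mem _ hsS hx) (Subgroup.inv_mem _ hsS)
  obtain ⟨j, hj⟩ := (IsPGroup.iff_orderOf.1 S.2) ⟨a, haS⟩
  rw [Subgroup.orderOf_mk] at hj
  have hn : Nat.Coprime (orderOf (n : G)) p :=
    (mem_normal_complement_sylow_iff S₀ N₀ hN₀ _).1 n.2
  have hcomm := commute_of_pElement_of_coprime a (n : G) j hj hn
  have : h * x * h⁻¹ = n * a * (n : G)⁻¹ := by rw [← hns, ha]; group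
  rw [this, ← hcomm, mul_inv_cancel_right]

/-- A Sylow subgroup of a Hall subgroup, as a Sylow subgroup of the group. -/
theorem exists_sylow_eq_map_of_hall [Finite G] (H : Subgroup G)
    (hHall : (Nat.card H).Coprime H.index) {p : ℕ} [hp : Fact p.Prime] (hpH : p ∣ Nat.card H)
    (S : Sylow p H) : ∃ P : Sylow p G, (P : Subgroup G) = (S : Subgroup H).map H.subtype := by
  have hcard : Nat.card ((S : Subgroup H).map H.subtype) = p ^ (Nat.card G).factorization p := by
    rw [Subgroup.card_map_of_injective H.subtype_injective, S.card_eq_multiplicity]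
    exact (ppart_eq_of_hall H hHall hp.out hpH).symm
  exact ⟨Sylow.ofCard _ hcard, Sylow.coe_ofCard _ hcard⟩

theorem nilpotent_hall_normal_complement_iff [Finite G] (H : Subgroup G)
    (hH : Group.IsNilpotent H) (hHall : Nat.Coprime (Nat.card H) H.index) :
    (∃ N : Subgroup G, N.Normal ∧ N.IsComplement' H) ↔
      ∀ x ∈ H, ∀ y ∈ H, (∃ g : G, g * x * g⁻¹ = y) → ∃ h ∈ H, h * x * h⁻¹ = y := by
  constructor
  · rintro ⟨N, hNn, hN⟩ x hx y hy ⟨g, hg⟩
    exact controls_fusion_of_normal_complement hN x y hx hy g hg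
  · intro hfus
    apply exists_normal_complement_of_hall H hHall
    intro p hp hpH
    have : Fact p.Prime := ⟨hp⟩
    obtain ⟨S⟩ : Nonempty (Sylow p H) := inferInstance
    obtain ⟨P, hP⟩ := exists_sylow_eq_map_of_hall H hHall hpH S
    rw [hasNormalPComplement_iff P]
    apply exists_normal_complement_of_controls_fusion
    rintro x hx y hy ⟨g, hg⟩
    have hx' : x ∈ (S : Subgroup H).map H.subtype := by rw [← hP]; exact hx
    have hy' : y ∈ (S : Subgroup H).map H.subtype := by rw [← hP]; exact hy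
    obtain ⟨x₀, hx₀, rfl⟩ := hx'
    obtain ⟨y₀, hy₀, rfl⟩ := hy'
    obtain ⟨h, hh, hhxy⟩ := hfus _ x₀.2 _ y₀.2 ⟨g, hg⟩
    obtain ⟨z, hz, hzx⟩ := nilpotent_sylow_controls hH S x₀ hx₀ ⟨h, hh⟩
    refine ⟨z, ?_, ?_⟩
    · show (z : G) ∈ (P : Subgroup G)
      rw [hP]; exact ⟨z, hz, rfl⟩
    · have := congrArg Subtype.val hzx
      simp only [Subgroup.coe_mul, Subgroup.coe_inv] at this
      show (z : G) * (x₀ : G) * (z : G)⁻¹ = (y₀ : G)
      rw [this]
      exact hhxy

end Cfsg.Agent.Helper1
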