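import Mathlib
import Cfsg.Agent.Helper1.NilpHallFusion
import Cfsg.Agent.Helper1.NormalPCompl
import Cfsg.Agent.Helper1.Coprime

set_option autoImplicit false

/-!
A Hall subgroup central in its normalizer has a normal complement.
-/

namespace Cfsg.Agent.Helper1

open scoped Pointwise

universe u

theorem hall_central_subgroup {G : Type u} [Group G] [Finite G] (H M : Subgroup G) (hHM : H ≤ M)
    (hHall : (Nat.card H).Coprime H.index)
    (h : Subgroup.normalizer (H : Set G) ≤ Subgroup.centralizer (H : Set G)) :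
    (Nat.card (H.subgroupOf M)).Coprime (H.subgroupOf M).index ∧
      Subgroup.normalizer ((H.subgroupOf M : Subgroup M) : Set M) ≤
        Subgroup.centralizer ((H.subgroupOf M : Subgroup M) : Set M) := by
  constructor
  · rw [card_subgroupOf_of_le hHM]
    have : (H.subgroupOf M).index ∣ H.index := by
      rw [← Subgroup.relIndex_mul_index hHM]
      exact Dvd.intro _ rfl
    exact Nat.Coprime.coprime_dvd_right this hHall
  · intro m hm
    have hmG : (m : G) ∈ Subgroup.normalizer (H : Set G) := by
      rw [Subgroup.mem_normalizer_iff]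
      intro x
      constructor
      · intro hx
        have := (Subgroup.mem_normalizer_iff.1 hm ⟨x, hHM hx⟩).1 (Subgroup.mem_subgroupOf.2 hx)
        simpa [Subgroup.mem_subgroupOf] using this
      · intro hx
        have hxM : x ∈ M := by
          have h1 : (m : G)⁻¹ * ((m : G) * x * (m : G)⁻¹) * (m : G) ∈ M :=
            M.mul_mem (M.mul_mem (M.inv_mem m.2) (hHM hx)) m.2
          have e : (m : G)⁻¹ * ((m : G) * x * (m : G)⁻¹) * (m : G) = x := by group
          rwa [e] at h1
        have := (Subgroup.mem_normalizer_iff.1 hm ⟨x, hxM⟩).2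
          (by simpa [Subgroup.mem_subgroupOf] using hx)
        simpa [Subgroup.mem_subgroupOf] using this
    have hc := h hmG
    rw [Subgroup.mem_centralizer_iff] at hc ⊢
    intro x hx
    apply Subtype.ext
    have := hc (x : G) (Subgroup.mem_subgroupOf.1 hx)
    simpa using this

theorem hall_central_normalizer_aux : ∀ (n : ℕ) (G : Type u) [Group G] [Finite G],
    Nat.card G = n → ∀ H : Subgroup G, (Nat.card H).Coprime H.index →
      Subgroup.normalizer (H : Set G) ≤ Subgroup.centralizer (H : Set G) →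
      ∃ N : Subgroup G, N.Normal ∧ N.IsComplement' H := by
  intro n
  induction n using Nat.strong_induction_on with
  | _ n ih =>
  intro G _ _ hn H hHall hNC
  have hab : ∀ a ∈ H, ∀ b ∈ H, a * b = b * a := by
    intro a ha b hb
    exact (Subgroup.mem_centralizer_iff.1 (hNC (Subgroup.le_normalizer hb)) a ha)
  -- consequence of the induction hypothesis for subgroups containing `H`
  have key : ∀ M : Subgroup G, M ≠ ⊤ → H ≤ M → ∃ L : Subgroup G, L ≤ M ∧
      L ≤ Subgroup.normalizer (L : Set G) ∧ M ≤ Subgroup.normalizer (L : Set G) ∧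
      L ⊓ H = ⊥ ∧ (∀ m ∈ M, ∃ l ∈ L, ∃ h ∈ H, m = l * h) ∧
      (Nat.card L).Coprime (Nat.card H) := by
    intro M hMtop hHM
    have hlt : Nat.card M < n := by
      rw [← hn, ← Subgroup.card_top (G := G)]
      exact card_lt_card_of_lt (lt_top_iff_ne_top.2 hMtop)
    obtain ⟨hHall', hNC'⟩ := hall_central_subgroup H M hHM hHall hNC
    obtain ⟨L, hLn, hL⟩ := ih _ hlt M rfl (H.subgroupOf M) hHall' hNC'
    refine ⟨L.map M.subtype, Subgroup.map_subtype_le _, Subgroup.le_normalizer, ?_, ?_, ?_, ?_⟩
    · intro m hm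
      rw [Subgroup.mem_normalizer_iff]
      intro x
      constructor
      · rintro ⟨x₀, hx₀, rfl⟩
        exact ⟨⟨m, hm⟩ * x₀ * ⟨m, hm⟩⁻¹, hLn.conj_mem _ hx₀ _, by simp⟩
      · rintro ⟨y₀, hy₀, hy⟩
        have h1 := hLn.conj_mem _ hy₀ (⟨m, hm⟩ : M)⁻¹
        refine ⟨_, h1, ?_⟩
        simp only [inv_inv, Subgroup.subtype_apply, Subgroup.coe_mul, Subgroup.coe_inv]
        have : ((y₀ : M) : G) = m * x * m⁻¹ := hy
        rw [this]; group
    · rw [eq_bot_iff]
      intro x hx
      obtain ⟨⟨x₀, hx₀, rfl⟩, hxH⟩ := hx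
      have h1 : x₀ ∈ L ⊓ H.subgroupOf M :=
        Subgroup.mem_inf.2 ⟨hx₀, Subgroup.mem_subgroupOf.2 hxH⟩
      rw [(Subgroup.IsComplement'.disjoint hL).eq_bot, Subgroup.mem_bot] at h1
      rw [h1]; simp
    · intro m hm
      obtain ⟨⟨l, h⟩, hlh⟩ := (Subgroup.isComplement_iff_existsUnique.1 hL ⟨m, hm⟩).exists
      simp only at hlh
      refine ⟨(l : M), ⟨l, l.2, rfl⟩, ((h : M) : G), Subgroup.mem_subgroupOf.1 h.2, ?_⟩
      have := congrArg Subtype.val hlh
      simpa using this.symm
    · rw [Subgroup.card_map_of_injective M.subtype_injective, ← hL.index_eq_card,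
        ← card_subgroupOf_of_le hHM]
      exact hHall'.symm
  apply exists_normal_complement_of_hall H hHall
  intro p hp hpH
  have : Fact p.Prime := ⟨hp⟩
  obtain ⟨S⟩ : Nonempty (Sylow p H) := inferInstance
  obtain ⟨P, hP⟩ := exists_sylow_eq_map_of_hall H hHall hpH S
  have hPH : (P : Subgroup G) ≤ H := by rw [hP]; exact Subgroup.map_subtype_le _
  apply hasNormalPComplement_of_normalizer_le_centralizer P
  have hHM : H ≤ Subgroup.normalizer ((P : Subgroup G) : Set G) := by
    intro h hh
    rw [Subgroup.mem_normalizer_iff]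
    intro x
    constructor
    · intro hx
      have : h * x * h⁻¹ = x := by rw [hab h hh x (hPH hx), mul_inv_cancel_right]
      rw [this]; exact hx
    · intro hx
      have h1 : h * x * h⁻¹ ∈ H := hPH hx
      have hxH : x ∈ H := by
        have h2 := H.mul_mem (H.mul_mem (H.inv_mem hh) h1) hh
        have e : h⁻¹ * (h * x * h⁻¹) * h = x := by group
        rwa [e] at h2
      have : h * x * h⁻¹ = x := by rw [hab h hh x hxH, mul_inv_cancel_right]
      rwa [this] at hx
  -- general principle: if `M ≥ H` normalises `P`, is proper, then `M` centralises `P`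
  have central_of_proper : ∀ M : Subgroup G, M ≠ ⊤ → H ≤ M →
      M ≤ Subgroup.normalizer ((P : Subgroup G) : Set G) →
      M ≤ Subgroup.centralizer ((P : Subgroup G) : Set G) := by
    intro M hMtop hHM' hMN
    obtain ⟨L, hLM, -, hML, hLH, hdec, -⟩ := key M hMtop hHM'
    intro m hm
    obtain ⟨l, hl, h, hh, rfl⟩ := hdec m hm
    rw [Subgroup.mem_centralizer_iff]
    intro x hx
    have hxl : l * x * l⁻¹ * x⁻¹ = 1 := by
      have h1 : l * x * l⁻¹ * x⁻¹ ∈ L := by
        have : l * x * l⁻¹ * x⁻¹ = l * (x * l⁻¹ * x⁻¹) := by group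
        rw [this]
        have hxM : x ∈ M := hHM' (hPH hx)
        have h2 := (Subgroup.mem_normalizer_iff.1 (hML hxM) l⁻¹).1 (L.inv_mem hl)
        exact L.mul_mem hl h2
      have h2 : l * x * l⁻¹ * x⁻¹ ∈ H := by
        have h3 := (Subgroup.mem_normalizer_iff.1 (hMN (hLM hl)) x).1 hx
        exact H.mul_mem (hPH h3) (H.inv_mem (hPH hx))
      have h3 : l * x * l⁻¹ * x⁻¹ ∈ L ⊓ H := Subgroup.mem_inf.2 ⟨h1, h2⟩
      rwa [hLH, Subgroup.mem_bot] at h3
    have hlx : l * x = x * l := by
      have := congrArg (· * x * l) hxl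
      simpa [mul_assoc] using this
    have hhx : h * x = x * h := hab h hh x (hPH hx)
    calc x * (l * h) = (x * l) * h := by group
      _ = l * x * h := by rw [hlx]
      _ = l * (x * h) := by group
      _ = l * (h * x) := by rw [hhx]
      _ = l * h * x := by group
  by_cases hMtop : Subgroup.normalizer ((P : Subgroup G) : Set G) = ⊤
  · -- `P` is normal; its centralizer is everything
    rw [hMtop]
    have hPn : (P : Subgroup G).Normal := Subgroup.normalizer_eq_top_iff.1 hMtop
    by_contra hCtop
    have hCtop' : Subgroup.centralizer ((P : Subgroup G) : Set G) ≠ ⊤ :=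
      fun h => hCtop (h ▸ le_refl _)
    have hHC : H ≤ Subgroup.centralizer ((P : Subgroup G) : Set G) := by
      intro h hh
      rw [Subgroup.mem_centralizer_iff]
      intro x hx
      exact hab x (hPH hx) h hh
    set C := Subgroup.centralizer ((P : Subgroup G) : Set G) with hC
    obtain ⟨L, hLC, -, hCL, hLH, hdec, hcop⟩ := key C hCtop' hHC
    apply hCtop
    intro g _
    have hsupC : L ⊔ H = C := by
      apply le_antisymm (sup_le hLC hHC)
      intro c hc
      obtain ⟨l, hl, h, hh, rfl⟩ := hdec c hc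
      exact Subgroup.mul_mem _ (Subgroup.mem_sup_left hl) (Subgroup.mem_sup_right hh)
    have hgH : MulAut.conj g • H ≤ L ⊔ H := by
      rw [hsupC]
      have := conj_smul_mono hHC g
      rwa [conj_smul_normal C g] at this
    have hHsolv : Group.IsSolvable H :=
      Group.isSolvable_of_comm (fun a b => Subtype.ext (hab a a.2 b b.2))
    obtain ⟨l, hl, hlH⟩ := sz_conj_internal L H (MulAut.conj g • H) (hHC.trans hCL) hgH
      (card_conj_smul g H) hcop (Or.inr hHsolv)
    have h1 : l⁻¹ * g ∈ Subgroup.normalizer (H : Set G) := by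
      apply mem_normalizer_of_conj_smul_eq
      rw [map_mul, mul_smul, ← hlH, ← mul_smul, ← map_mul, inv_mul_cancel, map_one, one_smul]
    have h2 : l⁻¹ * g ∈ C :=
      (Subgroup.centralizer_le (show ((P : Subgroup G) : Set G) ⊆ (H : Set G) from hPH)) (hNC h1)
    have : g = l * (l⁻¹ * g) := by group
    rw [this]
    exact C.mul_mem (hLC hl) h2
  · exact central_of_proper _ hMtop hHM (le_refl _)

end Cfsg.Agent.Helper1
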