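import Mathlib
import Cfsg.Agent.Helper1.HallCentralNormalizer
import Cfsg.Agent.Helper1.Frobenius3
import Cfsg.Agent.Helper1.SylowInt
import Cfsg.Agent.Helper1.FrobComplSylow

set_option autoImplicit false

/-!
Herstein: a finite group with an abelian maximal subgroup has derived length at most three.
-/

namespace Cfsg.Agent.Helper1

open scoped Pointwise

universe u

variable {G : Type u} [Group G]

theorem derivedSeries_three_of_le {K Z : Subgroup G} (h1 : commutator G ≤ K)
    (h2 : ⁅K, K⁆ ≤ Z) (h3 : ⁅Z, Z⁆ = ⊥) : derivedSeries G 3 = ⊥ := by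
  have e1 : derivedSeries G 1 = commutator G := by
    rw [derivedSeries_succ, derivedSeries_zero, commutator_def]
  have e2 : derivedSeries G 2 ≤ Z := by
    rw [derivedSeries_succ, e1]
    exact (Subgroup.commutator_mono h1 h1).trans h2
  rw [eq_bot_iff, derivedSeries_succ, ← h3]
  exact Subgroup.commutator_mono e2 e2

/-- Normal case. -/
theorem derivedSeries_three_of_normal_abelian_coatom (A : Subgroup G) (hA : IsCoatom A)
    [hAc : IsMulCommutative A] [hAn : A.Normal] : derivedSeries G 3 = ⊥ := by
  obtain ⟨x, hx⟩ : ∃ x : G, x ∉ A := by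
    by_contra h
    push Not at h
    exact hA.1 (eq_top_iff.2 fun g _ => h g)
  have hsup : A ⊔ Subgroup.zpowers x = ⊤ := by
    have hlt : A < A ⊔ Subgroup.zpowers x := by
      refine lt_of_le_of_ne le_sup_left (fun h => hx ?_)
      rw [h]
      exact (le_sup_right : Subgroup.zpowers x ≤ _) (Subgroup.mem_zpowers x)
    exact hA.2 _ hlt
  have h1 : commutator G ≤ A :=
    Subgroup.Normal.commutator_le_of_self_sup_commutative_eq_top hsup inferInstance
  have hAA : ⁅A, A⁆ = ⊥ := by
    rw [eq_bot_iff, Subgroup.commutator_le]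
    intro a ha b hb
    rw [Subgroup.mem_bot, commutatorElement_eq_one_iff_mul_comm]
    exact congrArg Subtype.val (hAc.is_comm.comm ⟨a, ha⟩ ⟨b, hb⟩)
  exact derivedSeries_three_of_le h1 (le_of_eq hAA) (by rw [Subgroup.commutator_bot_left])

/-- Non-normal case. -/
theorem derivedSeries_three_of_abelian_coatom_aux [Finite G] (A : Subgroup G) (hA : IsCoatom A)
    [hAc : IsMulCommutative A] (hAn : ¬ A.Normal) : derivedSeries G 3 = ⊥ := by
  have hab : ∀ a ∈ A, ∀ b ∈ A, a * b = b * a := fun a ha b hb =>
    congrArg Subtype.val (hAc.is_comm.comm ⟨a, ha⟩ ⟨b, hb⟩)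
  -- `A` is self-normalising
  have hNA : Subgroup.normalizer (A : Set G) = A := by
    by_contra hne
    have hlt : A < Subgroup.normalizer (A : Set G) :=
      lt_of_le_of_ne Subgroup.le_normalizer (Ne.symm hne)
    exact hAn (Subgroup.normalizer_eq_top_iff.1 (hA.2 _ hlt))
  obtain ⟨Z, hZdef⟩ : ∃ Z : Subgroup G, Z = Subgroup.center G := ⟨_, rfl⟩
  have hZn : Z.Normal := by rw [hZdef]; infer_instance
  have hZmem : ∀ z ∈ Z, ∀ g : G, g * z = z * g := by
    intro z hz g
    rw [hZdef] at hz
    exact Subgroup.mem_center_iff.1 hz g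
  -- the centre lies in `A`
  have hZA : Z ≤ A := by
    by_contra hnot
    have hlt : A < A ⊔ Z := by
      refine lt_of_le_of_ne le_sup_left (fun h => hnot ?_)
      rw [h]; exact le_sup_right
    have htop := hA.2 _ hlt
    apply hAn
    rw [← Subgroup.normalizer_eq_top_iff, eq_top_iff, ← htop]
    apply sup_le Subgroup.le_normalizer
    intro z hz
    rw [Subgroup.mem_normalizer_iff]
    intro a
    have h1 := hZmem z hz a
    have : z * a * z⁻¹ = a := by rw [← h1, mul_inv_cancel_right]
    rw [this]
  -- intersections of distinct conjugates are central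
  have hint : ∀ g : G, g ∉ A → A ⊓ MulAut.conj g • A ≤ Z := by
    intro g hg x hx
    have hnle : ¬ MulAut.conj g • A ≤ A := by
      intro hle
      have hcard : Nat.card A ≤ Nat.card (MulAut.conj g • A : Subgroup G) :=
        le_of_eq (card_conj_smul g A).symm
      have heq : MulAut.conj g • A = A := Subgroup.eq_of_le_of_card_ge hle hcard
      apply hg
      rw [← hNA]
      exact mem_normalizer_of_conj_smul_eq heq
    have hsup : A ⊔ MulAut.conj g • A = ⊤ := by
      apply hA.2
      apply lt_of_le_of_ne le_sup_left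
      intro h
      apply hnle
      exact le_sup_right.trans h.symm.le
    have hcent : (⊤ : Subgroup G) ≤ Subgroup.centralizer ({x} : Set G) := by
      rw [← hsup]
      apply sup_le
      · intro a ha
        rw [Subgroup.mem_centralizer_iff]
        intro y hy
        rw [Set.mem_singleton_iff] at hy
        rw [hy]
        exact hab x hx.1 a ha
      · intro a ha
        rw [Subgroup.mem_centralizer_iff]
        intro y hy
        rw [Set.mem_singleton_iff] at hy
        rw [hy]
        have hx2 : x ∈ MulAut.conj g • A := hx.2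
        rw [mem_conj_smul] at hx2 ha
        have h3 := hab _ hx2 _ ha
        have h4 := congrArg (fun t => g * t * g⁻¹) h3
        simpa [mul_assoc] using h4
    rw [hZdef, Subgroup.mem_center_iff]
    intro y
    have := hcent (Subgroup.mem_top y)
    rw [Subgroup.mem_centralizer_iff] at this
    exact (this x rfl).symm
  -- pass to the quotient by the centre
  obtain ⟨A', hA'def⟩ : ∃ A' : Subgroup (G ⧸ Z), A' = A.map (QuotientGroup.mk' Z) := ⟨_, rfl⟩
  have hsurj := QuotientGroup.mk'_surjective Z
  have hcomapA' : A'.comap (QuotientGroup.mk' Z) = A := by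
    rw [hA'def, Subgroup.comap_map_eq, QuotientGroup.ker_mk', sup_of_le_left hZA]
  have hA'coatom : IsCoatom A' := by
    constructor
    · intro h
      apply hA.1
      rw [← hcomapA', h, Subgroup.comap_top]
    · intro M hM
      have h1 : A < M.comap (QuotientGroup.mk' Z) := by
        rw [← hcomapA']
        exact (Subgroup.comap_lt_comap_of_surjective hsurj).2 hM
      have h2 := hA.2 _ h1
      rw [← Subgroup.map_comap_eq_self_of_surjective hsurj M, h2, ← MonoidHom.range_eq_map,
        MonoidHom.range_eq_top.2 hsurj]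
  have hA'ne : A' ≠ ⊥ := by
    intro h
    have hAZ : A ≤ Z := by
      rw [← hcomapA', h]
      intro x hx
      rw [Subgroup.mem_comap, Subgroup.mem_bot] at hx
      exact (QuotientGroup.eq_one_iff x).1 hx
    apply hAn
    rw [le_antisymm hAZ hZA]
    exact hZn
  have hA'frob : Cfsg.IsFrobeniusComplement A' := by
    refine ⟨hA'ne, hA'coatom.1, ?_⟩
    intro q hq
    obtain ⟨g, rfl⟩ := hsurj q
    have hg : g ∉ A := fun h => hq (by rw [hA'def]; exact ⟨g, h, rfl⟩)
    rw [eq_bot_iff]
    rintro y ⟨hy1, hy2⟩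
    rw [hA'def] at hy1
    obtain ⟨a, ha, rfl⟩ := hy1
    have hy2' : (QuotientGroup.mk' Z) a ∈ MulAut.conj ((QuotientGroup.mk' Z) g) • A' := hy2
    rw [mem_conj_smul] at hy2'
    have h1 : g⁻¹ * a * g ∈ A := by
      rw [← hcomapA', Subgroup.mem_comap]
      simpa using hy2'
    have h2 : a ∈ A ⊓ MulAut.conj g • A :=
      Subgroup.mem_inf.2 ⟨ha, by rw [mem_conj_smul]; exact h1⟩
    have h3 := hint g hg h2
    rw [Subgroup.mem_bot]
    exact (QuotientGroup.eq_one_iff a).2 h3
  have hA'ab : ∀ a ∈ A', ∀ b ∈ A', a * b = b * a := by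
    rw [hA'def]
    rintro _ ⟨a, ha, rfl⟩ _ ⟨b, hb, rfl⟩
    rw [← map_mul, ← map_mul, hab a ha b hb]
  have hA'c : IsMulCommutative A' := ⟨⟨fun a b => Subtype.ext (hA'ab a a.2 b b.2)⟩⟩
  have hA'NC : Subgroup.normalizer (A' : Set (G ⧸ Z)) ≤
      Subgroup.centralizer (A' : Set (G ⧸ Z)) := by
    intro q hq
    have hqA : q ∈ A' := by
      by_contra hqA
      have := hA'frob.2.2 q hqA
      rw [conj_smul_eq_of_mem_normalizer hq, inf_idem] at this
      exact hA'ne this
    rw [Subgroup.mem_centralizer_iff]
    intro b hb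
    exact hA'ab b hb q hqA
  obtain ⟨N', hN'n, hN'c⟩ := hall_central_normalizer_aux _ (G ⧸ Z) rfl A'
    (frobenius_coprime A' hA'frob) hA'NC
  have hdisj : A' ⊓ N' = ⊥ := by rw [inf_comm]; exact hN'c.disjoint.eq_bot
  have hcardG : Nat.card (G ⧸ Z) = Nat.card A' * Nat.card N' := by
    rw [mul_comm]; exact hN'c.card_mul_card.symm
  have hsupNA : N' ⊔ A' = ⊤ := hN'c.sup_eq_top
  have key : ∀ V : Subgroup (G ⧸ Z), V ≤ N' → V ≠ ⊥ →
      A' ≤ Subgroup.normalizer (V : Set (G ⧸ Z)) → V = N' := by
    intro V hVN hVne hAV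
    have hVA : A' ⊓ V = ⊥ := by
      rw [eq_bot_iff, ← hdisj]; exact inf_le_inf_left _ hVN
    have hsup : V ⊔ A' = ⊤ := by
      apply hA'coatom.2
      apply lt_of_le_of_ne le_sup_right
      intro h
      have hVle : V ≤ A' := le_sup_left.trans h.symm.le
      apply hVne
      rw [eq_bot_iff, ← hVA]
      exact le_inf hVle le_rfl
    have hcard := card_sup_of_le_normalizer hAV hVA
    rw [hsup, Subgroup.card_top, hcardG] at hcard
    have h1 : Nat.card V = Nat.card N' := (Nat.eq_of_mul_eq_mul_left Nat.card_pos hcard).symm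
    exact Subgroup.eq_of_le_of_card_ge hVN (le_of_eq h1.symm)
  have hN'ne : N' ≠ ⊥ := by
    intro h
    rw [h, bot_sup_eq] at hsupNA
    exact hA'coatom.1 hsupNA
  have hN'card : Nat.card N' ≠ 1 := fun h => hN'ne (Subgroup.card_eq_one.1 h)
  obtain ⟨p, hp, hpN⟩ := Nat.exists_prime_and_dvd hN'card
  have : Fact p.Prime := ⟨hp⟩
  have hA'N : A' ≤ Subgroup.normalizer (N' : Set (G ⧸ Z)) := by
    rw [Subgroup.normalizer_eq_top_iff.2 hN'n]; exact le_top
  have hcop : (Nat.card A').Coprime (Nat.card N') := by
    have h1 := frobenius_coprime A' hA'frob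
    rwa [hN'c.index_eq_card] at h1
  have hA'solv : Group.IsSolvable A' := Group.isSolvable_of_comm (fun a b => mul_comm' a b)
  obtain ⟨P, hP⟩ := exists_invariant_sylow (p := p) A' N' hA'N hcop (Or.inl hA'solv)
  have hPne : (P : Subgroup N').map N'.subtype ≠ ⊥ := by
    intro h
    rw [Subgroup.map_eq_bot_iff_of_injective _ N'.subtype_injective] at h
    have h1 := P.card_eq_multiplicity
    rw [h, Subgroup.card_bot] at h1
    have h2 : 0 < (Nat.card N').factorization p :=
      hp.factorization_pos_of_dvd Nat.card_pos.ne' hpN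
    have h3 : 1 < p ^ (Nat.card N').factorization p := Nat.one_lt_pow h2.ne' hp.one_lt
    omega
  have hPN := key _ (Subgroup.map_subtype_le _) hPne hP
  have hN'p : IsPGroup p N' := by
    have h1 : IsPGroup p ((P : Subgroup N').map N'.subtype) := P.2.map _
    rwa [hPN] at h1
  -- the centre of `N'`
  have hN'ab : ∀ a ∈ N', ∀ b ∈ N', a * b = b * a := by
    have hW : N' ⊓ Subgroup.centralizer (N' : Set (G ⧸ Z)) = N' := by
      apply key _ inf_le_left
      · have : Nontrivial N' := (Subgroup.nontrivial_iff_ne_bot N').2 hN'ne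
        have hlt := hN'p.bot_lt_center
        obtain ⟨z, hz1⟩ := (Subgroup.ne_bot_iff_exists_ne_one).1 hlt.ne'
        intro h
        have hmem : ((z : N') : G ⧸ Z) ∈ N' ⊓ Subgroup.centralizer (N' : Set (G ⧸ Z)) := by
          refine Subgroup.mem_inf.2 ⟨(z : N').2, ?_⟩
          rw [Subgroup.mem_centralizer_iff]
          intro b hb
          have := Subgroup.mem_center_iff.1 z.2 ⟨b, hb⟩
          exact congrArg Subtype.val this
        rw [h, Subgroup.mem_bot] at hmem
        apply hz1
        apply Subtype.ext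
        apply Subtype.ext
        exact hmem
      · exact le_normalizer_inf hA'N (le_normalizer_centralizer_of_le_normalizer hA'N)
    intro a ha b hb
    have hbc : b ∈ Subgroup.centralizer (N' : Set (G ⧸ Z)) := by
      have : b ∈ N' ⊓ Subgroup.centralizer (N' : Set (G ⧸ Z)) := by rw [hW]; exact hb
      exact this.2
    exact Subgroup.mem_centralizer_iff.1 hbc a ha
  -- conclusion
  have hcommQ : commutator (G ⧸ Z) ≤ N' :=
    Subgroup.Normal.commutator_le_of_self_sup_commutative_eq_top hsupNA hA'c
  apply derivedSeries_three_of_le (K := N'.comap (QuotientGroup.mk' Z)) (Z := Z)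
  · rw [commutator_def, Subgroup.commutator_le]
    intro a _ b _
    rw [Subgroup.mem_comap, map_commutatorElement]
    apply hcommQ
    rw [commutator_def]
    exact Subgroup.commutator_mem_commutator (Subgroup.mem_top _) (Subgroup.mem_top _)
  · rw [Subgroup.commutator_le]
    intro a ha b hb
    rw [Subgroup.mem_comap] at ha hb
    rw [← QuotientGroup.eq_one_iff, ← QuotientGroup.mk'_apply, map_commutatorElement,
      commutatorElement_eq_one_iff_mul_comm]
    exact hN'ab _ ha _ hb
  · rw [eq_bot_iff, Subgroup.commutator_le]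
    intro a ha b _
    rw [Subgroup.mem_bot, commutatorElement_eq_one_iff_mul_comm]
    exact (hZmem a ha b).symm

end Cfsg.Agent.Helper1

namespace Cfsg.Agent.Helper1

universe u

theorem derivedSeries_three_of_abelian_coatom {G : Type u} [Group G] [Finite G] (A : Subgroup G)
    (hA : IsCoatom A) [IsMulCommutative A] : derivedSeries G 3 = ⊥ := by
  by_cases hAn : A.Normal
  · exact derivedSeries_three_of_normal_abelian_coatom A hA
  · exact derivedSeries_three_of_abelian_coatom_aux A hA hAn

end Cfsg.Agent.Helper1
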