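import Mathlib
import Cfsg.Prelude.Def_Transfer
import Cfsg.Agent.Helper1.Class2
import Cfsg.Agent.Helper1.Basic

set_option autoImplicit false

/-!
`p`-groups (`p` odd) with a cyclic subgroup of index `p`: the elements of order dividing `p` form
an elementary abelian subgroup of order `p²` (unless the group is cyclic).
-/

namespace Cfsg.Agent.Helper1

open scoped commutatorElement

universe u

theorem modEq_one_of_pow_prime_modEq_one {p : ℕ} [hp : Fact p.Prime] (hp2 : p ≠ 2) {m r : ℕ}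
    (hm : 1 ≤ m) (h : r ^ p ≡ 1 [MOD p ^ m]) : r ≡ 1 [MOD p ^ (m - 1)] := by
  have hodd : Odd p := hp.out.odd_of_ne_two hp2
  have h1 : r ≡ 1 [MOD p] := by
    have h2 : r ^ p ≡ 1 [MOD p] := h.of_dvd (dvd_pow_self p (by omega))
    have h3 : r ^ p ≡ r [MOD p] := by
      rw [← ZMod.natCast_eq_natCast_iff]
      push_cast
      exact ZMod.pow_card _
    exact h3.symm.trans h2
  rcases Nat.lt_or_ge 1 r with hr | hr
  · have hdvd : p ∣ r - 1 := (Nat.modEq_iff_dvd' hr.le).1 h1.symm
    have hnd : ¬ p ∣ r := by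
      intro hpr
      have : p ∣ 1 := by
        have := Nat.dvd_sub hpr hdvd
        rwa [Nat.sub_sub_self hr.le] at this
      exact hp.out.one_lt.ne' (Nat.dvd_one.1 this)
    have hlte := padicValNat.pow_sub_pow hodd hr hdvd hnd hp.out.ne_zero
    rw [one_pow, padicValNat_self] at hlte
    have hpos : 1 ≤ r ^ p := Nat.one_le_pow _ _ (by omega)
    have hlt : 1 < r ^ p := Nat.one_lt_pow hp.out.ne_zero hr
    have hd2 : p ^ m ∣ r ^ p - 1 := (Nat.modEq_iff_dvd' hpos).1 h.symm
    have hle : m ≤ padicValNat p (r ^ p - 1) :=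
      (padicValNat_dvd_iff_le (by omega)).1 hd2
    have hle' : m - 1 ≤ padicValNat p (r - 1) := by omega
    have hd3 : p ^ (m - 1) ∣ r - 1 := (padicValNat_dvd_iff_le (by omega)).2 hle'
    exact ((Nat.modEq_iff_dvd' hr.le).2 hd3).symm
  · interval_cases r
    · exfalso
      have : (0 : ℕ) ≡ 1 [MOD p] := h1
      have h0 := (Nat.modEq_zero_iff_dvd.1 this.symm)
      exact hp.out.one_lt.ne' (Nat.dvd_one.1 h0)
    · rfl

variable {R : Type u} [Group R]

theorem conj_pow_iterate {c x : R} {r : ℕ} (h : x * c * x⁻¹ = c ^ r) (k : ℕ) :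
    x ^ k * c * (x ^ k)⁻¹ = c ^ (r ^ k) := by
  induction k with
  | zero => simp
  | succ k ih =>
    have : x ^ (k + 1) * c * (x ^ (k + 1))⁻¹ = x * (x ^ k * c * (x ^ k)⁻¹) * x⁻¹ := by
      rw [pow_succ']; group
    rw [this, ih]
    have h2 : x * c ^ (r ^ k) * x⁻¹ = (x * c * x⁻¹) ^ (r ^ k) := by
      rw [conj_pow]
    rw [h2, h, ← pow_mul, ← pow_succ']

variable [Finite R]

/-- Step A: conjugates of the generator differ from it by an element of `Ω₁(C)`. -/
theorem conj_gen_of_cyclic_index_p {p : ℕ} [hp : Fact p.Prime] (hp2 : p ≠ 2)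
    (c : R) (m : ℕ) (hm : 1 ≤ m) (hc : orderOf c = p ^ m) [hCn : (Subgroup.zpowers c).Normal]
    (hCi : (Subgroup.zpowers c).index = p) (x : R) :
    c⁻¹ * (x * c * x⁻¹) ∈ Subgroup.zpowers (c ^ p ^ (m - 1)) := by
  have h1 : x * c * x⁻¹ ∈ Subgroup.zpowers c := hCn.conj_mem _ (Subgroup.mem_zpowers c) x
  rw [← mem_powers_iff_mem_zpowers] at h1
  obtain ⟨r, hr⟩ := h1
  have hr' : x * c * x⁻¹ = c ^ r := hr.symm
  have h2 := conj_pow_iterate hr' p
  have hxp : x ^ p ∈ Subgroup.zpowers c := by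
    rw [← hCi]; exact Subgroup.pow_index_mem _ x
  obtain ⟨j, hj⟩ := Subgroup.mem_zpowers_iff.1 hxp
  have h3 : x ^ p * c * (x ^ p)⁻¹ = c := by
    rw [← hj]; group
  rw [h3] at h2
  have h4 : c ^ (r ^ p) = c ^ 1 := by rw [pow_one]; exact h2.symm
  rw [pow_eq_pow_iff_modEq, hc] at h4
  have h5 := modEq_one_of_pow_prime_modEq_one hp2 hm h4
  have h6 := (Nat.modEq_iff_dvd.1 h5.symm)
  obtain ⟨k, hk⟩ := h6
  rw [hr', Subgroup.mem_zpowers_iff]
  refine ⟨k, ?_⟩
  rw [← zpow_natCast, ← zpow_mul]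
  have : c⁻¹ * c ^ r = c ^ ((r : ℤ) - 1) := by
    rw [zpow_sub, zpow_one, zpow_natCast]
    have hcomm : Commute (c ^ r) c⁻¹ := (Commute.refl c).pow_left r |>.inv_right
    exact hcomm.eq.symm
  rw [this]
  congr 1
  push_cast at hk ⊢
  rw [← hk]

/-- Main structural result. -/
theorem omega_of_cyclic_index_p {p : ℕ} [hp : Fact p.Prime] (hp2 : p ≠ 2) (hR : IsPGroup p R)
    (hnc : ¬ IsCyclic R) (C : Subgroup R) (hC : IsCyclic C) (hCi : C.index = p) :
    ∃ K : Subgroup R, (K : Set R) = {x : R | x ^ p = 1} ∧ Nat.card K = p ^ 2 ∧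
      (∀ a ∈ K, ∀ b ∈ K, a * b = b * a) := by
  obtain ⟨g, hg⟩ := hC.exists_generator
  obtain ⟨c, hcC⟩ : ∃ c : R, c = (g : R) := ⟨_, rfl⟩
  have hCeq : C = Subgroup.zpowers c := by
    ext y
    constructor
    · intro hy
      obtain ⟨k, hk⟩ := Subgroup.mem_zpowers_iff.1 (hg ⟨y, hy⟩)
      rw [Subgroup.mem_zpowers_iff]
      refine ⟨k, ?_⟩
      have := congrArg Subtype.val hk
      rw [hcC]
      simpa using this
    · intro hy
      obtain ⟨k, hk⟩ := Subgroup.mem_zpowers_iff.1 hy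
      rw [← hk, hcC]
      exact C.zpow_mem g.2 k
  subst hCeq
  obtain ⟨m, hm⟩ := IsPGroup.iff_card.1 (hR.to_subgroup (Subgroup.zpowers c))
  have hc : orderOf c = p ^ m := by rw [← Nat.card_zpowers, hm]
  have hcardR : Nat.card R = p ^ (m + 1) := by
    rw [← (Subgroup.zpowers c).card_mul_index, hm, hCi, pow_succ]
  have hm1 : 1 ≤ m := by
    by_contra h0
    have : m = 0 := by omega
    rw [this, zero_add, pow_one] at hcardR
    exact hnc (isCyclic_of_prime_card hcardR)
  have hCn : (Subgroup.zpowers c).Normal := by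
    apply Subgroup.normal_of_index_eq_minFac_card
    rw [hCi, hcardR, hp.out.pow_minFac (by omega)]
  by_cases hm2 : m = 1
  · -- order `p²`
    rw [hm2] at hcardR
    have hcomm := (IsPGroup.isMulCommutative_of_card_eq_prime_sq hcardR).is_comm.comm
    refine ⟨⊤, ?_, by rw [Subgroup.card_top]; exact hcardR, fun a _ b _ => hcomm a b⟩
    ext x
    simp only [Subgroup.coe_top, Set.mem_univ, Set.mem_ofPred_eq, true_iff]
    have h1 : orderOf x ∣ p ^ 2 := by rw [← hcardR]; exact orderOf_dvd_natCard x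
    obtain ⟨k, hk, hkx⟩ := (Nat.dvd_prime_pow hp.out).1 h1
    have hk2 : k ≠ 2 := by
      intro h2
      apply hnc
      apply isCyclic_of_orderOf_eq_card x
      rw [hkx, h2, hcardR]
    have hk1 : k ≤ 1 := by omega
    apply orderOf_dvd_iff_pow_eq_one.1
    rw [hkx]
    have := pow_dvd_pow p hk1
    rwa [pow_one] at this
  have hm2' : 2 ≤ m := by omega
  set N := p ^ (m - 1) with hN
  set z₀ := c ^ N with hz₀
  have hz₀p : z₀ ^ p = 1 := by
    rw [hz₀, ← pow_mul, hN, ← pow_succ, show m - 1 + 1 = m by omega, ← hc, pow_orderOf_eq_one]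
  have hz₀N : z₀ ^ N = 1 := by
    have : N = p * p ^ (m - 2) := by
      rw [hN, ← pow_succ', show m - 2 + 1 = m - 1 by omega]
    rw [this, pow_mul, hz₀p, one_pow]
  have hstepA := fun x => conj_gen_of_cyclic_index_p hp2 c m hm1 hc hCi x
  -- `z₀` is central
  have hcentral : ∀ x : R, x * z₀ * x⁻¹ = z₀ := by
    intro x
    obtain ⟨k, hk⟩ := Subgroup.mem_zpowers_iff.1 (hstepA x)
    have h1 : x * c * x⁻¹ = c * z₀ ^ k := by rw [hk]; group
    have hcomm : Commute c (z₀ ^ k) := ((Commute.refl c).pow_right N).zpow_right k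
    have h2 : x * z₀ * x⁻¹ = (x * c * x⁻¹) ^ N := by rw [hz₀, conj_pow]
    rw [h2, h1, hcomm.mul_pow, ← zpow_natCast (z₀ ^ k), ← zpow_mul, mul_comm, zpow_mul,
      zpow_natCast, hz₀N, one_zpow, mul_one]
  have hZcenter : Subgroup.zpowers z₀ ≤ Subgroup.center R := by
    rw [Subgroup.zpowers_le, Subgroup.mem_center_iff]
    intro x
    have := hcentral x
    calc x * z₀ = (x * z₀ * x⁻¹) * x := by group
      _ = z₀ * x := by rw [this]
  have hZn : (Subgroup.zpowers z₀).Normal := by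
    constructor
    intro n hn x
    have h1 := Subgroup.mem_center_iff.1 (hZcenter hn) x
    have : x * n * x⁻¹ = n := by rw [h1, mul_inv_cancel_right]
    rw [this]; exact hn
  have hZC : Subgroup.zpowers z₀ ≤ Subgroup.zpowers c :=
    Subgroup.zpowers_le.2 (Subgroup.pow_mem _ (Subgroup.mem_zpowers c) N)
  -- commutators lie in `Z`
  have hcommZ : ∀ a b : R, ⁅a, b⁆ ∈ Subgroup.zpowers z₀ := by
    let f : R ⧸ Subgroup.zpowers z₀ →* R ⧸ Subgroup.zpowers c :=
      QuotientGroup.map _ _ (MonoidHom.id R) (by simpa using hZC)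
    have : IsCyclic (R ⧸ Subgroup.zpowers c) := by
      apply isCyclic_of_prime_card (p := p)
      rw [← Subgroup.index_eq_card, hCi]
    have hmkc : (QuotientGroup.mk c : R ⧸ Subgroup.zpowers z₀) ∈
        Subgroup.center (R ⧸ Subgroup.zpowers z₀) := by
      rw [Subgroup.mem_center_iff]
      intro q
      induction q using QuotientGroup.induction_on with
      | H b =>
        rw [← QuotientGroup.mk_mul, ← QuotientGroup.mk_mul, QuotientGroup.eq]
        have := hstepA b⁻¹
        have e : (b * c)⁻¹ * (c * b) = c⁻¹ * (b⁻¹ * c * b⁻¹⁻¹) := by group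
        rw [e]; exact this
    have hker : f.ker ≤ Subgroup.center (R ⧸ Subgroup.zpowers z₀) := by
      intro q hq
      induction q using QuotientGroup.induction_on with
      | H a =>
        rw [MonoidHom.mem_ker] at hq
        have ha : a ∈ Subgroup.zpowers c := by
          have : f (QuotientGroup.mk a) = QuotientGroup.mk a := rfl
          rw [this, QuotientGroup.eq_one_iff] at hq
          exact hq
        obtain ⟨k, rfl⟩ := Subgroup.mem_zpowers_iff.1 ha
        rw [QuotientGroup.mk_zpow]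
        exact Subgroup.zpow_mem _ hmkc k
    intro a b
    have h1 := (MonoidHom.isMulCommutative_of_isCyclic_of_ker_le_center f hker).is_comm.comm
      (QuotientGroup.mk b⁻¹) (QuotientGroup.mk a⁻¹)
    rw [← QuotientGroup.mk_mul, ← QuotientGroup.mk_mul, QuotientGroup.eq] at h1
    have e : (b⁻¹ * a⁻¹)⁻¹ * (a⁻¹ * b⁻¹) = ⁅a, b⁆ := by
      rw [commutatorElement_def]; group
    rwa [e] at h1
  have h2 : ⁅commutator R, (⊤ : Subgroup R)⁆ = ⊥ := by
    rw [eq_bot_iff, Subgroup.commutator_le]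
    intro g₁ hg₁ g₂ _
    have hg₁Z : g₁ ∈ Subgroup.zpowers z₀ := by
      have hle : commutator R ≤ Subgroup.zpowers z₀ := by
        rw [commutator_def, Subgroup.commutator_le]
        intro a _ b _
        exact hcommZ a b
      exact hle hg₁
    rw [Subgroup.mem_bot, commutatorElement_eq_one_iff_mul_comm]
    exact (Subgroup.mem_center_iff.1 (hZcenter hg₁Z) g₂).symm
  have hpc : ∀ a b : R, ⁅a, b⁆ ^ p = 1 := by
    intro a b
    obtain ⟨k, hk⟩ := Subgroup.mem_zpowers_iff.1 (hcommZ a b)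
    rw [← hk, ← zpow_natCast, ← zpow_mul, mul_comm, zpow_mul, zpow_natCast, hz₀p, one_zpow]
  let φ : R →* R := MonoidHom.mk' (fun x => x ^ p)
    (fun a b => mul_pow_prime_of_class_two hp2 h2 a b (hpc b a))
  have hφ : ∀ x, φ x = x ^ p := fun x => rfl
  have hcardK : Nat.card φ.ker = p ^ 2 := by
    have hrangeC : φ.range ≤ Subgroup.zpowers c := by
      rintro _ ⟨x, rfl⟩
      rw [hφ, ← hCi]
      exact Subgroup.pow_index_mem _ x
    have hcp : Subgroup.zpowers (c ^ p) ≤ φ.range := by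
      rw [Subgroup.zpowers_le]
      exact ⟨c, rfl⟩
    have hcard_cp : Nat.card (Subgroup.zpowers (c ^ p)) = p ^ (m - 1) := by
      rw [Nat.card_zpowers,
        orderOf_pow_of_dvd hp.out.ne_zero (by rw [hc]; exact dvd_pow_self p (by omega)), hc]
      have := Nat.pow_div hm1 hp.out.pos
      rwa [pow_one] at this
    have hne : φ.range ≠ Subgroup.zpowers c := by
      intro heq
      have hcr : c ∈ φ.range := by rw [heq]; exact Subgroup.mem_zpowers c
      obtain ⟨y, hy⟩ := hcr
      rw [hφ] at hy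
      obtain ⟨k, hk⟩ := (IsPGroup.iff_orderOf.1 hR) y
      have hk0 : k ≠ 0 := by
        intro h0
        rw [h0, pow_zero, orderOf_eq_one_iff] at hk
        rw [hk, one_pow] at hy
        rw [← hy, orderOf_one] at hc
        have : 1 < p ^ m := Nat.one_lt_pow (by omega) hp.out.one_lt
        omega
      have hpd : p ∣ orderOf y := by rw [hk]; exact dvd_pow_self p hk0
      have h3 := orderOf_pow_of_dvd hp.out.ne_zero hpd
      rw [hy, hc, hk] at h3
      have h4 : p ^ k = p ^ (m + 1) := by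
        have : p ^ k = p ^ k / p * p := (Nat.div_mul_cancel (dvd_pow_self p hk0)).symm
        rw [this, ← h3, pow_succ]
      apply hnc
      apply isCyclic_of_orderOf_eq_card y
      rw [hk, h4, hcardR]
    have hlt : φ.range < Subgroup.zpowers c := lt_of_le_of_ne hrangeC hne
    obtain ⟨j, hj⟩ := IsPGroup.iff_card.1 (hR.to_subgroup φ.range)
    have hj1 : p ^ (m - 1) ≤ p ^ j := by
      rw [← hj, ← hcard_cp]; exact Subgroup.card_le_of_le hcp
    have hj2 : p ^ j < p ^ m := by
      rw [← hj, ← hm]; exact card_lt_card_of_lt hlt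
    have hj1' : m - 1 ≤ j := (Nat.pow_le_pow_iff_right hp.out.one_lt).1 hj1
    have hj2' : j < m := (Nat.pow_lt_pow_iff_right hp.out.one_lt).1 hj2
    have hjm : j = m - 1 := by omega
    have h5 := φ.ker.card_mul_index
    rw [Subgroup.index_ker, hj, hjm, hcardR] at h5
    have h6 : p ^ (m + 1) = p ^ 2 * p ^ (m - 1) := by
      rw [← pow_add]; congr 1; omega
    rw [h6] at h5
    exact Nat.eq_of_mul_eq_mul_right (pow_pos hp.out.pos _) h5
  refine ⟨φ.ker, ?_, hcardK, ?_⟩
  · ext x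
    simp only [SetLike.mem_coe, MonoidHom.mem_ker, Set.mem_ofPred_eq, hφ]
  · intro a ha b hb
    have := (IsPGroup.isMulCommutative_of_card_eq_prime_sq hcardK).is_comm.comm ⟨a, ha⟩ ⟨b, hb⟩
    exact congrArg Subtype.val this

end Cfsg.Agent.Helper1

namespace Cfsg.Agent.Helper1

universe u

variable {R : Type u} [Group R] [Finite R]

theorem omega_elementary_of_cyclic_index_p {p : ℕ} [hp : Fact p.Prime] (hp2 : p ≠ 2)
    (hR : IsPGroup p R) (hnc : ¬ IsCyclic R) (C : Subgroup R) (hC : IsCyclic C)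
    (hCi : C.index = p) :
    Cfsg.IsElementaryAbelian p (Subgroup.closure {x : R | x ^ p = 1}) ∧
      Nat.card (Subgroup.closure {x : R | x ^ p = 1}) = p ^ 2 := by
  obtain ⟨K, hK, hcard, hcomm⟩ := omega_of_cyclic_index_p hp2 hR hnc C hC hCi
  rw [← hK, Subgroup.closure_eq]
  refine ⟨⟨⟨⟨fun a b => Subtype.ext (hcomm a a.2 b b.2)⟩⟩, ?_⟩, hcard⟩
  intro a ha
  have : a ∈ (K : Set R) := ha
  rw [hK] at this
  exact this

end Cfsg.Agent.Helper1
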