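import Mathlib
import Cfsg.Agent.Helper1.Basic
import Cfsg.Agent.Helper1.CyclicMaxSub

set_option autoImplicit false

/-!
Classification of non-abelian `p`-groups (`p` odd) with a cyclic maximal subgroup.
-/

namespace Cfsg.Agent.Helper1

universe u

variable {G : Type u} [Group G]

theorem eq_top_of_index_prime {C H : Subgroup G} {p : ℕ} (hp : p.Prime) (hCi : C.index = p)
    (hCH : C ≤ H) {b : G} (hbH : b ∈ H) (hbC : b ∉ C) : H = ⊤ := by
  have h1 := Subgroup.relIndex_mul_index hCH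
  rw [hCi] at h1
  have h2 : H.index ∣ p := ⟨_, (h1.symm.trans (mul_comm _ _))⟩
  rcases (Nat.dvd_prime hp).1 h2 with h3 | h3
  · exact Subgroup.index_eq_one.1 h3
  · exfalso
    rw [h3] at h1
    have h4 : C.relIndex H = 1 := by
      have := Nat.eq_of_mul_eq_mul_right hp.pos (h1.trans (one_mul p).symm)
      exact this
    exact hbC (Subgroup.relIndex_eq_one.1 h4 hbH)

theorem one_add_pow_modEq (x i : ℕ) : (1 + x) ^ i ≡ 1 + i * x [MOD x ^ 2] := by
  induction i with
  | zero => simp [Nat.ModEq.refl]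
  | succ i ih =>
    have h1 : (1 + x) ^ (i + 1) ≡ (1 + i * x) * (1 + x) [MOD x ^ 2] := by
      rw [pow_succ]
      exact ih.mul_right _
    refine h1.trans ?_
    have h2 : (1 + i * x) * (1 + x) = 1 + (i + 1) * x + i * x ^ 2 := by ring
    rw [h2]
    have h3 : i * x ^ 2 ≡ 0 [MOD x ^ 2] := (Nat.modEq_zero_iff_dvd).2 (dvd_mul_left _ _)
    have := (Nat.ModEq.refl (1 + (i + 1) * x) (n := x ^ 2)).add h3
    simpa using this

theorem cyclic_max_odd [Finite G] {p : ℕ} [hpf : Fact p.Prime] (hp : p ≠ 2) (n : ℕ)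
    (hn : 3 ≤ n) (hG : Nat.card G = p ^ n) (C : Subgroup G) (hC : IsCyclic C)
    (hCi : C.index = p) (hna : ∃ x y : G, x * y ≠ y * x) :
    ∃ a b : G, orderOf a = p ^ (n - 1) ∧ orderOf b = p ∧ b ∉ Subgroup.zpowers a ∧
      b * a * b⁻¹ = a ^ (1 + p ^ (n - 2)) := by
  have hpp : p.Prime := hpf.out
  have hGp : IsPGroup p G := IsPGroup.of_card hG
  obtain ⟨g, hg⟩ := hC.exists_generator
  obtain ⟨c, hcC⟩ : ∃ c : G, c = (g : G) := ⟨_, rfl⟩
  have hCeq : C = Subgroup.zpowers c := by
    ext y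
    constructor
    · intro hy
      obtain ⟨k, hk⟩ := Subgroup.mem_zpowers_iff.1 (hg ⟨y, hy⟩)
      rw [Subgroup.mem_zpowers_iff]
      refine ⟨k, ?_⟩
      have := congrArg Subtype.val hk
      rw [hcC]
      simpa using this
    · intro hy
      obtain ⟨k, hk⟩ := Subgroup.mem_zpowers_iff.1 hy
      rw [← hk, hcC]
      exact C.zpow_mem g.2 k
  subst hCeq
  obtain ⟨m, rfl⟩ : ∃ m, n = m + 1 := ⟨n - 1, by omega⟩
  have hm2 : 2 ≤ m := by omega
  have hcardC : Nat.card (Subgroup.zpowers c) = p ^ m := by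
    have h1 := (Subgroup.zpowers c).card_mul_index
    rw [hCi, hG, pow_succ] at h1
    exact Nat.eq_of_mul_eq_mul_right hpp.pos h1
  have hc : orderOf c = p ^ m := by rw [← Nat.card_zpowers, hcardC]
  have hCn : (Subgroup.zpowers c).Normal := by
    apply Subgroup.normal_of_index_eq_minFac_card
    rw [hCi, hG, Nat.pow_minFac (by omega), hpp.minFac_eq]
  have hnc : ¬ IsCyclic G := by
    intro hcyc
    obtain ⟨x, y, hxy⟩ := hna
    letI := @IsCyclic.commGroup G _ hcyc
    exact hxy (mul_comm x y)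
  obtain ⟨K, hK, hKcard, -⟩ := omega_of_cyclic_index_p hp hGp hnc (Subgroup.zpowers c) hC hCi
  -- an element of order `p` outside `C`
  obtain ⟨b₀, hb₀K, hb₀C⟩ : ∃ b₀ ∈ K, b₀ ∉ Subgroup.zpowers c := by
    by_contra hcon
    push Not at hcon
    have hKC : K ≤ Subgroup.zpowers c := hcon
    haveI : IsCyclic K := Subgroup.isCyclic_of_le hKC
    have h1 : Monoid.exponent K = Nat.card K := IsCyclic.exponent_eq_card
    have h2 : Monoid.exponent K ∣ p := by
      apply Monoid.exponent_dvd_of_forall_pow_eq_one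
      intro x
      apply Subtype.ext
      have : (x : G) ∈ (K : Set G) := x.2
      rw [hK] at this
      simpa using this
    rw [h1, hKcard] at h2
    have h3 := Nat.le_of_dvd hpp.pos h2
    have h4 := hpp.one_lt
    nlinarith
  have hb₀p : b₀ ^ p = 1 := by
    have : b₀ ∈ (K : Set G) := hb₀K
    rw [hK] at this
    exact this
  have hb₀1 : b₀ ≠ 1 := by
    rintro rfl
    exact hb₀C (Subgroup.one_mem _)
  have hb₀ord : orderOf b₀ = p := orderOf_eq_prime hb₀p hb₀1
  -- the action of `b₀` on `c`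
  have h1 := conj_gen_of_cyclic_index_p hp c m (by omega) hc hCi b₀
  rw [← mem_powers_iff_mem_zpowers] at h1
  obtain ⟨j, hj0⟩ := h1
  have hj : (c ^ p ^ (m - 1)) ^ j = c⁻¹ * (b₀ * c * b₀⁻¹) := hj0
  have hj' : b₀ * c * b₀⁻¹ = c ^ (1 + p ^ (m - 1) * j) := by
    rw [pow_add, pow_one, pow_mul, hj]
    group
  have hpm : p ^ m = p ^ (m - 1) * p := by
    rw [← pow_succ]; congr 1; omega
  have hjp : ¬ p ∣ j := by
    rintro ⟨j', rfl⟩
    have h2 : c ^ (1 + p ^ (m - 1) * (p * j')) = c := by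
      rw [pow_add, pow_one, ← mul_assoc, ← hpm, pow_mul, ← hc, pow_orderOf_eq_one, one_pow,
        mul_one]
    rw [h2] at hj'
    have hcomm : b₀ * c = c * b₀ := by
      have := congrArg (· * b₀) hj'
      simpa using this
    have hcl : Subgroup.closure ({c, b₀} : Set G) = ⊤ := by
      apply eq_top_of_index_prime hpp hCi _ (Subgroup.subset_closure (by simp)) hb₀C
      rw [Subgroup.zpowers_le]
      exact Subgroup.subset_closure (by simp)
    have hcomm' : IsMulCommutative (Subgroup.closure ({c, b₀} : Set G)) := by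
      apply Subgroup.isMulCommutative_closure
      intro x hx y hy
      simp only [Set.mem_insert_iff, Set.mem_singleton_iff] at hx hy
      rcases hx with rfl | rfl <;> rcases hy with rfl | rfl
      · rfl
      · exact hcomm.symm
      · exact hcomm
      · rfl
    obtain ⟨x, y, hxy⟩ := hna
    apply hxy
    have hx : x ∈ Subgroup.closure ({c, b₀} : Set G) := by rw [hcl]; exact Subgroup.mem_top x
    have hy : y ∈ Subgroup.closure ({c, b₀} : Set G) := by rw [hcl]; exact Subgroup.mem_top y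
    have := mul_comm' (⟨x, hx⟩ : Subgroup.closure ({c, b₀} : Set G)) ⟨y, hy⟩
    exact congrArg Subtype.val this
  have hcopj : Nat.Coprime j p := ((Nat.Prime.coprime_iff_not_dvd hpp).2 hjp).symm
  obtain ⟨i, -, hi⟩ := Nat.exists_mul_mod_eq_one_of_coprime hcopj hpp.one_lt
  have hcopi : Nat.Coprime p i := by
    rw [Nat.Prime.coprime_iff_not_dvd hpp]
    rintro ⟨i', rfl⟩
    have : j * (p * i') % p = 0 := by
      rw [← mul_assoc, mul_comm j p, mul_assoc]
      exact Nat.mul_mod_right _ _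
    omega
  refine ⟨c, b₀ ^ i, by simpa using hc, ?_, ?_, ?_⟩
  · rw [Nat.Coprime.orderOf_pow (by rw [hb₀ord]; exact hcopi), hb₀ord]
  · intro hbi
    apply hb₀C
    have h2 : (b₀ ^ i) ^ (Nat.gcdA i p) * (b₀ ^ p) ^ (Nat.gcdB i p) = b₀ := by
      rw [← zpow_natCast b₀ i, ← zpow_natCast b₀ p, ← zpow_mul, ← zpow_mul, ← zpow_add,
        ← Nat.gcd_eq_gcd_ab, hcopi.symm.gcd_eq_one]
      simp
    rw [← h2, hb₀p, one_zpow, mul_one]
    exact Subgroup.zpow_mem _ hbi _
  · rw [conj_pow_iterate hj' i, pow_eq_pow_iff_modEq, hc]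
    have h2 := one_add_pow_modEq (p ^ (m - 1) * j) i
    have hdvd : p ^ m ∣ (p ^ (m - 1) * j) ^ 2 := by
      rw [mul_pow, ← pow_mul]
      apply Dvd.dvd.mul_right
      apply pow_dvd_pow
      omega
    have h3 := h2.of_dvd hdvd
    refine h3.trans ?_
    have hm1 : m + 1 - 2 = m - 1 := by omega
    rw [hm1]
    apply Nat.ModEq.add_left
    -- i * (q * j) ≡ q mod p^m
    have h4 : j * i ≡ 1 [MOD p] := by
      rw [Nat.ModEq, hi, Nat.mod_eq_of_lt hpp.one_lt]
    have h5 := h4.mul_left' (p ^ (m - 1))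
    rw [← hpm, mul_one] at h5
    refine Nat.ModEq.trans ?_ h5
    rw [show i * (p ^ (m - 1) * j) = p ^ (m - 1) * (j * i) by ring]

end Cfsg.Agent.Helper1
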