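import Mathlib
import Cfsg.Agent.Helper1.CyclicMaxOdd

set_option autoImplicit false

/-!
Groups with an abelian subgroup `M` of index two: `|M| = |X'| |M ∩ Z(X)|`.
-/

namespace Cfsg.Agent.Helper1

open scoped commutatorElement

universe u

variable {X : Type u} [Group X]

/-- if `M` is abelian of index 2 and `t ∉ M` commutes with `M` then `X` is abelian -/
theorem comm_of_index_two_of_commute (M : Subgroup X) (hMi : M.index = 2)
    (hMc : ∀ a ∈ M, ∀ b ∈ M, a * b = b * a) (t : X) (htM : t ∉ M)
    (ht : ∀ m ∈ M, t * m = m * t) (a b : X) : a * b = b * a := by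
  have hle : M ≤ Subgroup.closure ((M : Set X) ∪ {t}) := fun m hm =>
    Subgroup.subset_closure (Set.mem_union_left _ hm)
  have htc : t ∈ Subgroup.closure ((M : Set X) ∪ {t}) :=
    Subgroup.subset_closure (Set.mem_union_right _ rfl)
  have hcl : Subgroup.closure ((M : Set X) ∪ {t}) = ⊤ :=
    eq_top_of_index_prime (C := M) Nat.prime_two hMi hle htc htM
  have hpair : ∀ x ∈ ((M : Set X) ∪ {t}), ∀ y ∈ ((M : Set X) ∪ {t}), x * y = y * x := by
    intro x hx y hy
    rcases hx with hx | hx
    · rcases hy with hy | hy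
      · exact hMc x hx y hy
      · have hy' : y = t := hy
        rw [hy']; exact (ht x hx).symm
    · have hx' : x = t := hx
      rcases hy with hy | hy
      · rw [hx']; exact ht y hy
      · have hy' : y = t := hy
        rw [hx', hy']
  have hcomm' : IsMulCommutative (Subgroup.closure ((M : Set X) ∪ {t})) :=
    Subgroup.isMulCommutative_closure hpair
  have hx : a ∈ Subgroup.closure ((M : Set X) ∪ {t}) := by rw [hcl]; exact Subgroup.mem_top a
  have hy : b ∈ Subgroup.closure ((M : Set X) ∪ {t}) := by rw [hcl]; exact Subgroup.mem_top b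
  have := mul_comm' (⟨a, hx⟩ : Subgroup.closure ((M : Set X) ∪ {t})) ⟨b, hy⟩
  exact congrArg Subtype.val this

theorem commutator_le_of_index_two (M : Subgroup X) (hMi : M.index = 2) : commutator X ≤ M := by
  rw [commutator_def, Subgroup.commutator_le]
  intro g _ h _
  rw [commutatorElement_def]
  have h1 : g * h * g⁻¹ * h⁻¹ = (g * h) * (g⁻¹ * h⁻¹) := by group
  rw [h1, Subgroup.mul_mem_iff_of_index_two hMi, Subgroup.mul_mem_iff_of_index_two hMi,
    Subgroup.mul_mem_iff_of_index_two hMi, inv_mem_iff, inv_mem_iff]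

/-- an element of `M` commuting with `y ∉ M` is central -/
theorem mem_center_of_commute_of_index_two (M : Subgroup X) (hMi : M.index = 2)
    (hMc : ∀ a ∈ M, ∀ b ∈ M, a * b = b * a) (y : X) (hy : y ∉ M) (a : X) (ha : a ∈ M)
    (hay : a * y = y * a) : a ∈ Subgroup.center X := by
  have h1 : Subgroup.centralizer {a} = ⊤ := by
    apply eq_top_of_index_prime Nat.prime_two hMi _ _ hy
    · intro m hm
      rw [Subgroup.mem_centralizer_iff]
      intro x hx
      rw [Set.mem_singleton_iff] at hx; subst hx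
      exact hMc x ha m hm
    · rw [Subgroup.mem_centralizer_iff]
      intro x hx
      rw [Set.mem_singleton_iff] at hx; subst hx
      exact hay
  rw [Subgroup.mem_center_iff]
  intro g
  have : g ∈ Subgroup.centralizer {a} := by rw [h1]; exact Subgroup.mem_top g
  exact (Subgroup.mem_centralizer_iff.1 this a rfl).symm

/-- the square of an element outside an abelian subgroup of index two is central -/
theorem sq_mem_center_of_index_two (M : Subgroup X) (hMi : M.index = 2)
    (hMc : ∀ a ∈ M, ∀ b ∈ M, a * b = b * a) (y : X) (hy : y ∉ M) :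
    y * y ∈ Subgroup.center X :=
  mem_center_of_commute_of_index_two M hMi hMc y hy (y * y)
    (Subgroup.mul_self_mem_of_index_two hMi y) (by group)

section card

variable (M : Subgroup X) (hMi : M.index = 2) (hMc : ∀ a ∈ M, ∀ b ∈ M, a * b = b * a) (y : X)

include hMi in
theorem conj_mem_of_index_two (g : X) {a : X} (ha : a ∈ M) : g * a * g⁻¹ ∈ M := by
  haveI := Subgroup.normal_of_index_eq_two hMi
  exact ‹M.Normal›.conj_mem a ha g

/-- the commutator homomorphism `a ↦ [a, y]` on `M` -/
def commHom : M →* X where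
  toFun a := (a : X) * y * (a : X)⁻¹ * y⁻¹
  map_one' := by simp
  map_mul' a b := by
    have ha' : y * (a : X)⁻¹ * y⁻¹ ∈ M := conj_mem_of_index_two M hMi y (M.inv_mem a.2)
    have hb' : y * (b : X)⁻¹ * y⁻¹ ∈ M := conj_mem_of_index_two M hMi y (M.inv_mem b.2)
    have h1 := hMc _ (M.mul_mem b.2 hb') _ ha'
    show ((a * b : M) : X) * y * ((a * b : M) : X)⁻¹ * y⁻¹ =
      ((a : X) * y * (a : X)⁻¹ * y⁻¹) * ((b : X) * y * (b : X)⁻¹ * y⁻¹)
    rw [Subgroup.coe_mul]
    calc (a : X) * b * y * ((a : X) * b)⁻¹ * y⁻¹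
        = (a : X) * (((b : X) * (y * (b : X)⁻¹ * y⁻¹)) * (y * (a : X)⁻¹ * y⁻¹)) := by group
      _ = (a : X) * ((y * (a : X)⁻¹ * y⁻¹) * ((b : X) * (y * (b : X)⁻¹ * y⁻¹))) := by rw [h1]
      _ = ((a : X) * y * (a : X)⁻¹ * y⁻¹) * ((b : X) * y * (b : X)⁻¹ * y⁻¹) := by group

theorem commHom_apply (a : M) : commHom M hMi hMc y a = (a : X) * y * (a : X)⁻¹ * y⁻¹ := rfl

include hMi hMc in
theorem commHom_range_le : (commHom M hMi hMc y).range ≤ M := by
  rintro _ ⟨a, rfl⟩
  rw [commHom_apply]
  have ha' : y * (a : X)⁻¹ * y⁻¹ ∈ M := conj_mem_of_index_two M hMi y (M.inv_mem a.2)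
  have : (a : X) * y * (a : X)⁻¹ * y⁻¹ = (a : X) * (y * (a : X)⁻¹ * y⁻¹) := by group
  rw [this]
  exact M.mul_mem a.2 ha'

theorem commHom_range_normal (hy : y ∉ M) : (commHom M hMi hMc y).range.Normal := by
  have hconjy : ∀ i ∈ (commHom M hMi hMc y).range, y * i * y⁻¹ ∈ (commHom M hMi hMc y).range := by
    rintro _ ⟨a, rfl⟩
    refine ⟨⟨y * a * y⁻¹, conj_mem_of_index_two M hMi y a.2⟩, ?_⟩
    rw [commHom_apply, commHom_apply]
    group
  constructor
  intro i hi g
  have hiM : i ∈ M := commHom_range_le M hMi hMc y hi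
  by_cases hg : g ∈ M
  · have : g * i * g⁻¹ = i := by
      rw [hMc g hg i hiM]; group
    rw [this]; exact hi
  · have h1 : y⁻¹ * g ∈ M := by
      rw [Subgroup.mul_mem_iff_of_index_two hMi]
      constructor
      · intro h; exact absurd (M.inv_mem_iff.1 h) hy
      · intro h; exact absurd h hg
    have h2 : g * i * g⁻¹ = y * i * y⁻¹ := by
      have h3 := hMc _ h1 i hiM
      calc g * i * g⁻¹ = y * ((y⁻¹ * g) * i) * (y⁻¹ * g)⁻¹ * y⁻¹ := by group
        _ = y * (i * (y⁻¹ * g)) * (y⁻¹ * g)⁻¹ * y⁻¹ := by rw [h3]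
        _ = y * i * y⁻¹ := by group
    rw [h2]; exact hconjy i hi

theorem commHom_range_eq (hy : y ∉ M) : (commHom M hMi hMc y).range = commutator X := by
  apply le_antisymm
  · rintro _ ⟨a, rfl⟩
    rw [commHom_apply, commutator_def, ← commutatorElement_def]
    exact Subgroup.commutator_mem_commutator (Subgroup.mem_top _) (Subgroup.mem_top _)
  · set I := (commHom M hMi hMc y).range with hI
    haveI hIn : I.Normal := commHom_range_normal M hMi hMc y hy
    have hIM : I ≤ M := commHom_range_le M hMi hMc y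
    -- the quotient is abelian
    have hQ : ∀ a b : X ⧸ I, a * b = b * a := by
      apply comm_of_index_two_of_commute (M.map (QuotientGroup.mk' I)) _ _
        (QuotientGroup.mk' I y)
      · rintro ⟨m, hm, hmy⟩
        have h1 : m⁻¹ * y ∈ I := QuotientGroup.eq.1 hmy
        have h2 : y = m * (m⁻¹ * y) := by group
        apply hy
        rw [h2]
        exact M.mul_mem hm (hIM h1)
      · rintro _ ⟨m, hm, rfl⟩
        have h1 : (QuotientGroup.mk' I) (m * y * m⁻¹ * y⁻¹) = 1 := by
          rw [QuotientGroup.mk'_apply, QuotientGroup.eq_one_iff]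
          exact ⟨⟨m, hm⟩, rfl⟩
        rw [map_mul, map_mul, map_mul, map_inv, map_inv] at h1
        have h2 := mul_inv_eq_one.1 h1
        exact (mul_inv_eq_iff_eq_mul.1 h2).symm
      · rw [Subgroup.index_map_eq _ (QuotientGroup.mk'_surjective _)
          (by rw [QuotientGroup.ker_mk']; exact hIM)]
        exact hMi
      · rintro _ ⟨a, ha, rfl⟩ _ ⟨b, hb, rfl⟩
        rw [← map_mul, ← map_mul, hMc a ha b hb]
    rw [commutator_def, Subgroup.commutator_le]
    intro g _ h _
    have h1 : (QuotientGroup.mk' I) ⁅g, h⁆ = 1 := by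
      rw [map_commutatorElement, commutatorElement_eq_one_iff_mul_comm]
      exact hQ _ _
    rw [QuotientGroup.mk'_apply, QuotientGroup.eq_one_iff] at h1
    exact h1

theorem commHom_ker_map (hy : y ∉ M) :
    (commHom M hMi hMc y).ker.map M.subtype = M ⊓ Subgroup.center X := by
  ext a
  rw [Subgroup.mem_map]
  constructor
  · rintro ⟨a, ha, rfl⟩
    refine ⟨a.2, ?_⟩
    rw [MonoidHom.mem_ker, commHom_apply] at ha
    apply mem_center_of_commute_of_index_two M hMi hMc y hy _ a.2
    have h2 := mul_inv_eq_one.1 ha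
    exact mul_inv_eq_iff_eq_mul.1 h2
  · rintro ⟨haM, hac⟩
    refine ⟨⟨a, haM⟩, ?_, rfl⟩
    rw [MonoidHom.mem_ker, commHom_apply]
    have := Subgroup.mem_center_iff.1 hac y
    show a * y * a⁻¹ * y⁻¹ = 1
    rw [← this]; group

include hMi hMc in
/-- `|M| = |X'| |M ∩ Z(X)|` for an abelian subgroup `M` of index two -/
theorem card_eq_card_commutator_mul [Finite X] (hy : y ∉ M) :
    Nat.card M = Nat.card (commutator X) * Nat.card ↥(M ⊓ Subgroup.center X) := by
  have h1 := Subgroup.card_mul_index (commHom M hMi hMc y).ker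
  rw [Subgroup.index_ker, commHom_range_eq M hMi hMc y hy] at h1
  rw [← commHom_ker_map M hMi hMc y hy, Subgroup.card_map_of_injective M.subtype_injective,
    mul_comm]
  exact h1.symm

end card

end Cfsg.Agent.Helper1
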