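import Mathlib
import Cfsg.Prelude.Def_Transfer
import Cfsg.Agent.Helper1.Basic
import Cfsg.Agent.Helper1.Coprime
import Cfsg.Agent.Helper1.Transfer1
import Cfsg.Agent.Helper1.Transfer3
import Cfsg.Agent.Helper1.MinNormal
import Cfsg.Agent.Helper1.NormalPCompl
import Cfsg.Agent.Helper5.PResidual

set_option autoImplicit false

/-!
Abelian Sylow subgroups: the decomposition `P = [P, N(P)] × C_P(N(P))` and consequences.
-/

namespace Cfsg.Agent.Helper1

open scoped Pointwise commutatorElement

universe u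

variable {G : Type u} [Group G]

/-- For an abelian Sylow `p`-subgroup `P` with normalizer `N`:
`[P, N] = N' ∩ P`, and `P = (N' ∩ P) × C_P(N)`. -/
theorem abelian_sylow_decomp [Finite G] {p : ℕ} [Fact p.Prime] (P : Sylow p G)
    (hP : IsMulCommutative P) :
    ⁅(P : Subgroup G), Subgroup.normalizer ((P : Subgroup G) : Set G)⁆ =
        ⁅Subgroup.normalizer ((P : Subgroup G) : Set G),
          Subgroup.normalizer ((P : Subgroup G) : Set G)⁆ ⊓ (P : Subgroup G) ∧
      (⁅Subgroup.normalizer ((P : Subgroup G) : Set G),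
          Subgroup.normalizer ((P : Subgroup G) : Set G)⁆ ⊓ (P : Subgroup G)) ⊓
        ((P : Subgroup G) ⊓ Subgroup.centralizer
          ((Subgroup.normalizer ((P : Subgroup G) : Set G) : Subgroup G) : Set G)) = ⊥ ∧
      (⁅Subgroup.normalizer ((P : Subgroup G) : Set G),
          Subgroup.normalizer ((P : Subgroup G) : Set G)⁆ ⊓ (P : Subgroup G)) ⊔
        ((P : Subgroup G) ⊓ Subgroup.centralizer
          ((Subgroup.normalizer ((P : Subgroup G) : Set G) : Subgroup G) : Set G)) =
        (P : Subgroup G) := by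
  set N := Subgroup.normalizer ((P : Subgroup G) : Set G) with hN
  have hPN : (P : Subgroup G) ≤ N := Subgroup.le_normalizer
  set A : Subgroup N := (P : Subgroup G).subgroupOf N with hA
  have hAn : A.Normal := Subgroup.normal_in_normalizer
  have hAc : IsMulCommutative A := by
    refine ⟨⟨?_⟩⟩
    rintro ⟨a, ha⟩ ⟨b, hb⟩
    apply Subtype.ext
    apply Subtype.ext
    have := mul_comm' (⟨(a : G), ha⟩ : (P : Subgroup G)) ⟨(b : G), hb⟩
    have h2 : (a : G) * b = b * a := congrArg Subtype.val this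
    exact h2
  have hHall : Nat.Coprime (Nat.card A) A.index := by
    rw [hA, card_subgroupOf_of_le hPN]
    have h1 : (P : Subgroup G).relIndex N ∣ (P : Subgroup G).index :=
      Dvd.intro _ (Subgroup.relIndex_mul_index hPN)
    exact Nat.Coprime.coprime_dvd_right h1 P.card_coprime_index
  obtain ⟨h1, h2, h3⟩ := abelian_normal_hall_decomp A hAc hHall
  have hinj : Function.Injective N.subtype := N.subtype_injective
  have mA : A.map N.subtype = (P : Subgroup G) := Subgroup.map_subgroupOf_eq_of_le hPN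
  have mC : (commutator N).map N.subtype = ⁅N, N⁆ := Subgroup.map_subtype_commutator N
  have mT : (⊤ : Subgroup N).map N.subtype = N := by
    rw [← MonoidHom.range_eq_map, Subgroup.range_subtype]
  have mZ : (Subgroup.center N ⊓ A).map N.subtype =
      (P : Subgroup G) ⊓ Subgroup.centralizer ((N : Subgroup G) : Set G) := by
    ext x
    constructor
    · rintro ⟨y, ⟨hyZ, hyA⟩, rfl⟩
      refine ⟨hyA, ?_⟩
      show (y : G) ∈ Subgroup.centralizer ((N : Subgroup G) : Set G)
      rw [Subgroup.mem_centralizer_iff]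
      intro n hn
      have hyZ' : y ∈ Subgroup.center N := hyZ
      have := Subgroup.mem_center_iff.1 hyZ' ⟨n, hn⟩
      exact congrArg Subtype.val this
    · rintro ⟨hxP, hxC⟩
      refine ⟨⟨x, hPN hxP⟩, ⟨?_, hxP⟩, rfl⟩
      show (⟨x, hPN hxP⟩ : N) ∈ Subgroup.center N
      rw [Subgroup.mem_center_iff]
      intro n
      apply Subtype.ext
      have hxC' : x ∈ Subgroup.centralizer ((N : Subgroup G) : Set G) := hxC
      exact Subgroup.mem_centralizer_iff.1 hxC' n n.2
  refine ⟨?_, ?_, ?_⟩
  · have := congrArg (Subgroup.map N.subtype) h1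
    rwa [Subgroup.map_commutator, mA, mT, Subgroup.map_inf _ _ _ hinj, mC, mA] at this
  · have := congrArg (Subgroup.map N.subtype) h2
    rwa [Subgroup.map_inf _ _ _ hinj, Subgroup.map_inf _ _ _ hinj, mC, mA, mZ,
      Subgroup.map_bot] at this
  · have := congrArg (Subgroup.map N.subtype) h3
    rwa [Subgroup.map_sup, Subgroup.map_inf _ _ _ hinj, mC, mA, mZ] at this

/-- With abelian Sylow `p`-subgroups, `G' ≤ O^p(G)`. -/
theorem commutator_le_pResidual_of_abelian_sylow [Finite G] {p : ℕ} [Fact p.Prime] (P : Sylow p G)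
    (hP : IsMulCommutative P) : commutator G ≤ Cfsg.pResidual p G := by
  have hn : (Cfsg.pResidual p G).Normal := Cfsg.Agent.Helper5.pResidual_normal p
  rw [← Subgroup.Normal.quotient_commutative_iff_commutator_le]
  have hsup := Cfsg.Agent.Helper5.pResidual_sup_sylow P
  have key : ∀ g : G, ∃ t ∈ (P : Subgroup G), (g : G ⧸ Cfsg.pResidual p G) = (t : G) := by
    intro g
    have hg : g ∈ Cfsg.pResidual p G ⊔ (P : Subgroup G) := hsup ▸ Subgroup.mem_top g
    obtain ⟨n, hn', t, ht, rfl⟩ := mem_sup_of_le_normalizer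
      (N := Cfsg.pResidual p G) (A := (P : Subgroup G))
      (by rw [Subgroup.normalizer_eq_top_iff.2 hn]; exact le_top) hg
    refine ⟨t, ht, ?_⟩
    rw [QuotientGroup.mk_mul, (QuotientGroup.eq_one_iff n).2 hn', one_mul]
  refine ⟨⟨fun a b => ?_⟩⟩
  obtain ⟨g, rfl⟩ := QuotientGroup.mk_surjective a
  obtain ⟨h, rfl⟩ := QuotientGroup.mk_surjective b
  obtain ⟨t, ht, hgt⟩ := key g
  obtain ⟨s, hs, hhs⟩ := key h
  rw [hgt, hhs, ← QuotientGroup.mk_mul, ← QuotientGroup.mk_mul]
  have := mul_comm' (⟨t, ht⟩ : (P : Subgroup G)) ⟨s, hs⟩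
  have h2 : t * s = s * t := congrArg Subtype.val this
  rw [h2]

/-- `O^p(G)` lies in the kernel of the transfer into `P / P*`. -/
theorem pResidual_le_ker_transferFocal [Finite G] {p : ℕ} [Fact p.Prime] (P : Sylow p G) :
    Cfsg.pResidual p G ≤ (P : Subgroup G).transferFocal.ker := by
  unfold Cfsg.pResidual
  rw [Subgroup.closure_le]
  intro g hg
  have hg' : Nat.Coprime (orderOf g) p := hg
  rw [SetLike.mem_coe, MonoidHom.mem_ker]
  set y := (P : Subgroup G).transferFocal g with hy
  have hQ : IsPGroup p (↥(P : Subgroup G) ⧸ (P : Subgroup G).focalSubgroupOf) :=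
    P.2.to_quotient _
  obtain ⟨k, hk⟩ := hQ y
  have h1 : orderOf y ∣ p ^ k := orderOf_dvd_of_pow_eq_one hk
  have h2 : orderOf y ∣ orderOf g := by
    apply orderOf_dvd_of_pow_eq_one
    rw [hy, ← map_pow, pow_orderOf_eq_one, map_one]
  have h3 : orderOf y = 1 :=
    Nat.eq_one_of_dvd_coprimes (Nat.Coprime.pow_right k hg') h2 h1
  exact orderOf_eq_one_iff.1 h3

/-- For an abelian Sylow `p`-subgroup `T`: `T ∩ O^p(G) = [T, N(T)]`. -/
theorem abelian_sylow_inf_pResidual [Finite G] {p : ℕ} [Fact p.Prime] (T : Sylow p G)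
    (hT : IsMulCommutative T) :
    (T : Subgroup G) ⊓ Cfsg.pResidual p G =
      ⁅(T : Subgroup G), Subgroup.normalizer (T : Set G)⁆ := by
  obtain ⟨h1, -, -⟩ := abelian_sylow_decomp T hT
  have h1' : ⁅(T : Subgroup G), Subgroup.normalizer (T : Set G)⁆ =
      ⁅Subgroup.normalizer (T : Set G), Subgroup.normalizer (T : Set G)⁆ ⊓ (T : Subgroup G) := h1
  apply le_antisymm
  · rw [h1', ← abelian_sylow_commutator_inf T hT, Subgroup.commutator_inf_eq_focalSubgroup,
      ← Subgroup.ker_transferFocal_inf_eq_focalSubgroup, inf_comm]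
    exact inf_le_inf_right _ (pResidual_le_ker_transferFocal T)
  · refine le_inf ?_ ?_
    · rw [h1']; exact inf_le_right
    · refine le_trans ?_ (commutator_le_pResidual_of_abelian_sylow T hT)
      rw [commutator_def]
      exact Subgroup.commutator_mono le_top le_top

end Cfsg.Agent.Helper1
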