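import Mathlib
import Cfsg.Prelude.Def_Transfer
import Cfsg.Agent.Helper1.AbelianSylow

set_option autoImplicit false

/-!
Cyclic Sylow subgroups; the quotient `G / ker V ≅ C_P(N(P))` for abelian Sylow `P`.
-/

namespace Cfsg.Agent.Helper1

open scoped Pointwise commutatorElement

universe u

variable {G : Type u} [Group G]

/-- In a finite cyclic group, two elements of the same prime order generate the same subgroup. -/
theorem mem_zpowers_of_orderOf_eq_prime {α : Type u} [Group α] [Finite α] [IsCyclic α] {p : ℕ}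
    (hp : p.Prime) {x y : α} (hx : orderOf x = p) (hy : orderOf y = p) :
    x ∈ Subgroup.zpowers y := by
  classical
  have := Fintype.ofFinite α
  set S : Finset α := Finset.univ.filter (fun a : α => a ^ p = 1) with hS
  set I : Finset α := (Finset.range p).image (fun i => y ^ i) with hI
  have hScard : S.card ≤ p := IsCyclic.card_pow_eq_one_le hp.pos
  have hIcard : I.card = p := by
    rw [hI, Finset.card_image_of_injOn, Finset.card_range]
    intro a ha b hb hab
    rw [Finset.coe_range] at ha hb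
    rw [← hy] at ha hb
    exact pow_injOn_Iio_orderOf ha hb hab
  have hIS : I ⊆ S := by
    intro a ha
    rw [hI, Finset.mem_image] at ha
    obtain ⟨i, -, rfl⟩ := ha
    rw [hS, Finset.mem_filter]
    refine ⟨Finset.mem_univ _, ?_⟩
    rw [← pow_mul, mul_comm, pow_mul, ← hy, pow_orderOf_eq_one, one_pow]
  have hEq : I = S := Finset.eq_of_subset_of_card_le hIS (by rw [hIcard]; exact hScard)
  have hxS : x ∈ S := by
    rw [hS, Finset.mem_filter]
    exact ⟨Finset.mem_univ _, by rw [← hx, pow_orderOf_eq_one]⟩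
  rw [← hEq, hI, Finset.mem_image] at hxS
  obtain ⟨i, -, rfl⟩ := hxS
  exact Subgroup.pow_mem _ (Subgroup.mem_zpowers y) i

/-- A cyclic `p`-group is indecomposable. -/
theorem eq_bot_or_eq_bot_of_le_cyclic_pgroup [Finite G] {p : ℕ} [hp : Fact p.Prime]
    (P X Y : Subgroup G) (hPc : IsCyclic P) (hPp : IsPGroup p P) (hX : X ≤ P) (hY : Y ≤ P)
    (h : X ⊓ Y = ⊥) : X = ⊥ ∨ Y = ⊥ := by
  by_contra hcon
  push Not at hcon
  obtain ⟨hXne, hYne⟩ := hcon
  have key : ∀ Z : Subgroup G, Z ≤ P → Z ≠ ⊥ → ∃ z ∈ Z, orderOf z = p := by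
    intro Z hZ hZne
    have hZp : IsPGroup p Z := hPp.to_le hZ
    have hnt : Nontrivial Z := (Subgroup.nontrivial_iff_ne_bot _).2 hZne
    obtain ⟨k, hk0, hk⟩ := hZp.nontrivial_iff_card.1 hnt
    have hdvd : p ∣ Nat.card Z := by rw [hk]; exact dvd_pow_self p hk0.ne'
    obtain ⟨z, hz⟩ := exists_prime_orderOf_dvd_card' p hdvd
    exact ⟨z, z.2, by rw [Subgroup.orderOf_coe, hz]⟩
  obtain ⟨x, hxX, hx⟩ := key X hX hXne
  obtain ⟨y, hyY, hy⟩ := key Y hY hYne
  have hx' : orderOf (⟨x, hX hxX⟩ : P) = p := by rw [Subgroup.orderOf_mk, hx]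
  have hy' : orderOf (⟨y, hY hyY⟩ : P) = p := by rw [Subgroup.orderOf_mk, hy]
  have hmem := mem_zpowers_of_orderOf_eq_prime hp.out hx' hy'
  obtain ⟨k, hk⟩ := Subgroup.mem_zpowers_iff.1 hmem
  have hk' : y ^ k = x := by
    have := congrArg Subtype.val hk
    simpa using this
  have hxY : x ∈ Y := hk' ▸ Subgroup.zpow_mem _ hyY k
  have hx1 : x ∈ X ⊓ Y := ⟨hxX, hxY⟩
  rw [h, Subgroup.mem_bot] at hx1
  rw [hx1, orderOf_one] at hx
  exact hp.out.one_lt.ne hx

theorem cyclic_sylow_dichotomy [Finite G] {p : ℕ} [Fact p.Prime] (P : Sylow p G)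
    (hP : IsCyclic P) : Cfsg.HasNormalPComplement p G ∨ Cfsg.pResidual p G = ⊤ := by
  have hPc : IsMulCommutative P := ⟨⟨fun a b => IsCyclic.commGroup.mul_comm a b⟩⟩
  obtain ⟨h1, h2, h3⟩ := abelian_sylow_decomp P hPc
  rcases eq_bot_or_eq_bot_of_le_cyclic_pgroup (P : Subgroup G) _ _ hP P.2 inf_le_right inf_le_left
    h2 with hX | hY
  · left
    rw [hX, bot_sup_eq] at h3
    apply hasNormalPComplement_of_normalizer_le_centralizer P
    exact Subgroup.le_centralizer_iff.1 (inf_eq_left.1 h3)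
  · right
    rw [hY, sup_bot_eq] at h3
    have h4 := abelian_sylow_inf_pResidual P hPc
    have h5 : ⁅(P : Subgroup G), Subgroup.normalizer (P : Set G)⁆ = (P : Subgroup G) :=
      h1.trans h3
    rw [h5] at h4
    have hle : (P : Subgroup G) ≤ Cfsg.pResidual p G := inf_eq_left.1 h4
    have hsup := Cfsg.Agent.Helper5.pResidual_sup_sylow P
    rwa [sup_eq_left.2 hle] at hsup

theorem abelian_sylow_quotient [Finite G] {p : ℕ} [Fact p.Prime] (P : Sylow p G)
    (hP : IsMulCommutative P) :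
    ∃ (N : Subgroup G) (_hN : N.Normal), Nonempty (G ⧸ N ≃*
      ((P : Subgroup G) ⊓ Subgroup.centralizer
        (Subgroup.normalizer (P : Set G) : Set G) : Subgroup G)) := by
  obtain ⟨-, h2, h3⟩ := abelian_sylow_decomp P hP
  set Y : Subgroup G := (P : Subgroup G) ⊓ Subgroup.centralizer
    (Subgroup.normalizer (P : Set G) : Set G) with hY
  have hF : (P : Subgroup G).focalSubgroup =
      ⁅Subgroup.normalizer (P : Set G), Subgroup.normalizer (P : Set G)⁆ ⊓ (P : Subgroup G) := by
    rw [← Subgroup.commutator_inf_eq_focalSubgroup, abelian_sylow_commutator_inf P hP]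
  have h2' : (P : Subgroup G).focalSubgroup ⊓ Y = ⊥ := by rw [hF]; exact h2
  have h3' : (P : Subgroup G).focalSubgroup ⊔ Y = (P : Subgroup G) := by rw [hF]; exact h3
  have hYP : Y ≤ (P : Subgroup G) := inf_le_left
  have hinf : Y.subgroupOf (P : Subgroup G) ⊓ (P : Subgroup G).focalSubgroupOf = ⊥ := by
    rw [eq_bot_iff]
    intro a ha
    rw [Subgroup.mem_bot]
    have h4 : (a : G) ∈ (P : Subgroup G).focalSubgroup ⊓ Y := ⟨ha.2, ha.1⟩
    rw [h2', Subgroup.mem_bot] at h4
    exact Subtype.ext h4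
  have hsup : Y.subgroupOf (P : Subgroup G) ⊔ (P : Subgroup G).focalSubgroupOf = ⊤ := by
    apply Subgroup.map_injective (P : Subgroup G).subtype_injective
    rw [Subgroup.map_sup, Subgroup.map_subgroupOf_eq_of_le hYP, Subgroup.map_focalSubgroupOf,
      ← MonoidHom.range_eq_map, Subgroup.range_subtype, sup_comm]
    exact h3'
  have hcompl := (isComplement'_of_sup_inf (P : Subgroup G).focalSubgroupOf
    (Y.subgroupOf (P : Subgroup G)) hsup hinf).symm
  refine ⟨(P : Subgroup G).transferFocal.ker, inferInstance, ⟨?_⟩⟩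
  exact (Subgroup.transferFocal.quotientKerMulEquivQuotientFocalSubroupOf P).trans
    (hcompl.QuotientMulEquiv.trans (Subgroup.subgroupOfEquivOfLe hYP))

end Cfsg.Agent.Helper1
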