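import Mathlib
import Cfsg.Agent.Helper1.Class2

set_option autoImplicit false

/-!
Alperin's lemma: if `A` is maximal among the normal abelian subgroups of exponent dividing
`p ^ n ≠ 2` of a `p`-group, then every element of order dividing `p ^ n` of `C(A)` lies in `A`.
-/

namespace Cfsg.Agent.Helper1

open scoped commutatorElement

universe u

theorem alperin_key {H : Type u} [Group H] {p n : ℕ} [hp : Fact p.Prime] (hq : p ^ n ≠ 2)
    (A : Subgroup H) (hAZ : A ≤ Subgroup.center H) (hAe : ∀ a ∈ A, a ^ (p ^ n) = 1)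
    (x c : H) (hx : x ^ (p ^ n) = 1) (hxc : (x * c) ^ (p ^ n) = 1) (he : ⁅c, x⁆ ∈ A)
    (hstar : ∀ k : ℕ, (c ^ k) ^ (p ^ n) = 1 → c ^ k ∈ A) : c ^ (p ^ n) = 1 := by
  have hcen : ∀ z, Commute ⁅c, x⁆ z := fun z => ((Subgroup.mem_center_iff.1 (hAZ he)) z).symm
  have hyx : c * x = ⁅c, x⁆ * x * c := by simp [commutatorElement_def]
  have h1 := mul_pow_of_central hcen hyx (p ^ n)
  rw [hxc, hx, one_mul] at h1
  have heq : ⁅c, x⁆ ^ (p ^ n) = 1 := hAe _ he
  by_cases hp2 : p = 2
  · subst hp2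
    rcases n with _ | _ | m
    · simp only [pow_zero, pow_one] at hx hxc ⊢
      rw [hx, one_mul] at hxc
      exact hxc
    · exact absurd rfl hq
    · set h := 2 ^ (m + 1) with hh
      have hq2 : 2 ^ (m + 1 + 1) = h + h := by rw [hh]; ring
      have hchoose : (2 ^ (m + 1 + 1)).choose 2 + h = h * 2 ^ (m + 1 + 1) := by
        rw [Nat.choose_two_right, hq2]
        have hpos : 1 ≤ h := Nat.one_le_two_pow
        have e1 : (h + h) * (h + h - 1) = 2 * (h * (h + h - 1)) := by ring
        rw [e1, Nat.mul_div_cancel_left _ two_pos]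
        have e2 : h + h - 1 + 1 = h + h := by omega
        calc h * (h + h - 1) + h = h * (h + h - 1 + 1) := by ring
          _ = h * (h + h) := by rw [e2]
      have h2 : ⁅c, x⁆ ^ ((2 ^ (m + 1 + 1)).choose 2) * ⁅c, x⁆ ^ h = 1 := by
        rw [← pow_add, hchoose, mul_comm, pow_mul, heq, one_pow]
      have h3 : c ^ (2 ^ (m + 1 + 1)) = ⁅c, x⁆ ^ h := by
        calc c ^ (2 ^ (m + 1 + 1))
            = c ^ (2 ^ (m + 1 + 1)) *
                (⁅c, x⁆ ^ ((2 ^ (m + 1 + 1)).choose 2) * ⁅c, x⁆ ^ h) := by rw [h2, mul_one]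
          _ = (c ^ (2 ^ (m + 1 + 1)) * ⁅c, x⁆ ^ ((2 ^ (m + 1 + 1)).choose 2)) * ⁅c, x⁆ ^ h := by
              rw [mul_assoc]
          _ = ⁅c, x⁆ ^ h := by rw [← h1, one_mul]
      have h4 : ⁅c ^ h, x⁆ = ⁅c, x⁆ ^ h := commutator_pow_left_of_central hcen h
      have hu2 : c ^ h * c ^ h = ⁅c ^ h, x⁆ := by
        rw [h4, ← h3, hq2, pow_add]
      set u := c ^ h with hu
      have hconj : x * u * x⁻¹ = u⁻¹ := by
        rw [commutatorElement_def] at hu2
        have h5 : u = x * u⁻¹ * x⁻¹ := by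
          have h6 : u⁻¹ * (u * u) = u⁻¹ * (u * x * u⁻¹ * x⁻¹) := by rw [hu2]
          calc u = u⁻¹ * (u * u) := by group
            _ = u⁻¹ * (u * x * u⁻¹ * x⁻¹) := h6
            _ = x * u⁻¹ * x⁻¹ := by group
        calc x * u * x⁻¹ = (x * u⁻¹ * x⁻¹)⁻¹ := by group
          _ = u⁻¹ := by rw [← h5]
      have hu2A : u * u ∈ A := by rw [hu2, h4]; exact A.pow_mem he h
      have hu4 : u ^ 4 = 1 := by
        have hc2 := (Subgroup.mem_center_iff.1 (hAZ hu2A)) x
        have h6 : x * (u * u) * x⁻¹ = u⁻¹ * u⁻¹ := by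
          calc x * (u * u) * x⁻¹ = (x * u * x⁻¹) * (x * u * x⁻¹) := by group
            _ = u⁻¹ * u⁻¹ := by rw [hconj]
        have h7 : x * (u * u) * x⁻¹ = u * u := by rw [hc2]; group
        have h8 : u * u = u⁻¹ * u⁻¹ := h7.symm.trans h6
        calc u ^ 4 = (u * u) * (u * u) := by
              rw [show 4 = 2 + 2 from rfl, pow_add, pow_two]
          _ = (u⁻¹ * u⁻¹) * (u * u) := by rw [← h8]
          _ = 1 := by group
      have huq : u ^ (2 ^ (m + 1 + 1)) = 1 := by
        have : 2 ^ (m + 1 + 1) = 4 * 2 ^ m := by ring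
        rw [this, pow_mul, hu4, one_pow]
      have huA : u ∈ A := hstar h huq
      have hux : x * u = u * x := (Subgroup.mem_center_iff.1 (hAZ huA)) x
      have hu1 : u * u = 1 := by
        have h9 : x * u * x⁻¹ = u := by rw [hux]; group
        rw [hconj] at h9
        calc u * u = u⁻¹ * u := by rw [h9]
          _ = 1 := inv_mul_cancel u
      rw [h3, ← h4, ← hu2, hu1]
  · have hodd : Odd (p ^ n) := (hp.out.odd_of_ne_two hp2).pow
    have hdvd : p ^ n ∣ (p ^ n).choose 2 := by
      rw [Nat.choose_two_right]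
      obtain ⟨k, hk⟩ := hodd
      have e1 : p ^ n - 1 = 2 * k := by omega
      have e2 : p ^ n * (2 * k) = 2 * (p ^ n * k) := by ring
      rw [e1, e2, Nat.mul_div_cancel_left _ two_pos]
      exact dvd_mul_right _ _
    obtain ⟨k, hk⟩ := hdvd
    rw [hk, pow_mul, heq, one_pow, mul_one] at h1
    exact h1.symm

variable {G : Type u} [Group G]

theorem alperin_omega [Finite G] {p : ℕ} [hp : Fact p.Prime] (hG : IsPGroup p G) (n : ℕ)
    (hn : p ^ n ≠ 2) (A : Subgroup G) [hAn : A.Normal] (hA : IsMulCommutative A)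
    (hAe : ∀ a ∈ A, a ^ p ^ n = 1)
    (hmax : ∀ B : Subgroup G, B.Normal → IsMulCommutative B → (∀ b ∈ B, b ^ p ^ n = 1) →
      A ≤ B → B = A)
    (x : G) (hx : x ∈ Subgroup.centralizer (A : Set G)) (hxn : x ^ p ^ n = 1) : x ∈ A := by
  classical
  by_contra hxA
  set C := Subgroup.centralizer (A : Set G) with hC
  haveI hCn : C.Normal := Subgroup.normal_centralizer
  set mk := QuotientGroup.mk' A with hmk
  have hmk1 : ∀ z : G, mk z = 1 ↔ z ∈ A := fun z => QuotientGroup.eq_one_iff z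
  haveI : Group.IsNilpotent (G ⧸ A) := (hG.to_quotient A).isNilpotent
  obtain ⟨N, hN⟩ := Group.IsNilpotent.nilpotent (G ⧸ A)
  have hex : ∃ i, ∃ y ∈ C, y ^ p ^ n = 1 ∧ y ∉ A ∧
      mk y ∈ Subgroup.upperCentralSeries (G ⧸ A) i :=
    ⟨N, x, hx, hxn, hxA, by rw [hN]; trivial⟩
  obtain ⟨y, hyC, hyq, hyA, hyi⟩ := Nat.find_spec hex
  have hmin : ∀ j < Nat.find hex, ∀ z ∈ C, z ^ p ^ n = 1 →
      mk z ∈ Subgroup.upperCentralSeries (G ⧸ A) j → z ∈ A := by
    intro j hj z hzC hzq hzj
    by_contra hzA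
    exact Nat.find_min hex hj ⟨z, hzC, hzq, hzA, hzj⟩
  rcases Nat.eq_zero_or_pos (Nat.find hex) with h0 | hpos
  · rw [h0, Subgroup.upperCentralSeries_zero, Subgroup.mem_bot] at hyi
    exact hyA ((hmk1 y).1 hyi)
  obtain ⟨j, hj⟩ : ∃ j, Nat.find hex = j + 1 := ⟨Nat.find hex - 1, by omega⟩
  rw [hj] at hyi
  have hmin' : ∀ z ∈ C, z ^ p ^ n = 1 →
      mk z ∈ Subgroup.upperCentralSeries (G ⧸ A) j → z ∈ A :=
    hmin j (by omega)
  -- y commutes with A
  have hyAcomm : ∀ a ∈ A, a * y = y * a := fun a ha => Subgroup.mem_centralizer_iff.1 hyC a ha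
  set K : Subgroup G := (Subgroup.centralizer {mk y}).comap mk with hK
  have hKmem : ∀ g : G, g ∈ K ↔ mk y * mk g = mk g * mk y := by
    intro g
    rw [hK, Subgroup.mem_comap, Subgroup.mem_centralizer_iff]
    constructor
    · intro h; exact h _ rfl
    · intro h z hz; rw [Set.mem_singleton_iff] at hz; rw [hz]; exact h
  by_cases hKtop : K = ⊤
  · -- A⟨y⟩ is a larger normal abelian subgroup of exponent dividing q
    have hycen : mk y ∈ Subgroup.center (G ⧸ A) := by
      rw [Subgroup.mem_center_iff]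
      intro z
      obtain ⟨g, rfl⟩ := QuotientGroup.mk'_surjective A z
      have : g ∈ K := by rw [hKtop]; trivial
      exact ((hKmem g).1 this).symm
    set B : Subgroup G := (Subgroup.zpowers (mk y)).comap mk with hB
    have hBmem : ∀ b ∈ B, ∃ k : ℤ, ∃ a ∈ A, b = y ^ k * a := by
      intro b hb
      obtain ⟨k, hk⟩ := Subgroup.mem_zpowers_iff.1 (Subgroup.mem_comap.1 hb)
      refine ⟨k, (y ^ k)⁻¹ * b, ?_, by group⟩
      rw [← hmk1, map_mul, map_inv, map_zpow, hk, inv_mul_cancel]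
    have hyk : ∀ (k : ℤ) (a : G), a ∈ A → a * y ^ k = y ^ k * a := by
      intro k a ha
      exact ((Commute.zpow_right (hyAcomm a ha) k)).eq
    have hBn : B.Normal := by
      have hZn : (Subgroup.zpowers (mk y)).Normal := by
        constructor
        intro z hz g
        have hzc : z ∈ Subgroup.center (G ⧸ A) := (Subgroup.zpowers_le.2 hycen) hz
        have : g * z * g⁻¹ = z := by
          rw [(Subgroup.mem_center_iff.1 hzc) g, mul_inv_cancel_right]
        rw [this]; exact hz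
      exact hZn.comap mk
    have hBc : IsMulCommutative B := by
      constructor; constructor
      rintro ⟨b, hb⟩ ⟨b', hb'⟩
      apply Subtype.ext
      obtain ⟨k, a, ha, rfl⟩ := hBmem b hb
      obtain ⟨l, a', ha', rfl⟩ := hBmem b' hb'
      show y ^ k * a * (y ^ l * a') = y ^ l * a' * (y ^ k * a)
      have haa' : a * a' = a' * a :=
        congrArg Subtype.val (hA.is_comm.comm ⟨a, ha⟩ ⟨a', ha'⟩)
      calc y ^ k * a * (y ^ l * a') = y ^ k * (a * y ^ l) * a' := by group
        _ = y ^ k * (y ^ l * a) * a' := by rw [hyk l a ha]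
        _ = (y ^ k * y ^ l) * (a * a') := by group
        _ = (y ^ l * y ^ k) * (a' * a) := by rw [haa', ← zpow_add, ← zpow_add, add_comm]
        _ = y ^ l * (y ^ k * a') * a := by group
        _ = y ^ l * (a' * y ^ k) * a := by rw [hyk k a' ha']
        _ = y ^ l * a' * (y ^ k * a) := by group
    have hBe : ∀ b ∈ B, b ^ p ^ n = 1 := by
      intro b hb
      obtain ⟨k, a, ha, rfl⟩ := hBmem b hb
      have hcomm : Commute (y ^ k) a := (hyk k a ha).symm
      rw [hcomm.mul_pow, hAe a ha, mul_one, ← zpow_natCast, ← zpow_mul, mul_comm, zpow_mul,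
        zpow_natCast, hyq, one_zpow]
    have hAB : A ≤ B := by
      intro a ha
      rw [hB, Subgroup.mem_comap, (hmk1 a).2 ha]
      exact Subgroup.one_mem _
    have hBA := hmax B hBn hBc hBe hAB
    apply hyA
    rw [← hBA, hB, Subgroup.mem_comap]
    exact Subgroup.mem_zpowers _
  · -- K is proper: find g in its normalizer outside
    have hnc := Group.normalizerCondition_of_isNilpotent (G := G) (h := hG.isNilpotent)
    have hlt := hnc K (lt_top_iff_ne_top.2 hKtop)
    obtain ⟨g, hgN, hgK⟩ := SetLike.exists_of_lt hlt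
    have hyK : y ∈ K := (hKmem y).2 rfl
    have hy'K : g * y * g⁻¹ ∈ K := (Subgroup.mem_normalizer_iff.1 hgN y).1 hyK
    set c := y⁻¹ * (g * y * g⁻¹) with hc
    have hy'C : g * y * g⁻¹ ∈ C := hCn.conj_mem y hyC g
    have hcC : c ∈ C := C.mul_mem (C.inv_mem hyC) hy'C
    have hycq : (y * c) ^ p ^ n = 1 := by
      have : y * c = g * y * g⁻¹ := by rw [hc]; group
      rw [this, conj_pow, hyq, mul_one, mul_inv_cancel]
    have hcomm1 : mk y * mk (g * y * g⁻¹) = mk (g * y * g⁻¹) * mk y := (hKmem _).1 hy'K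
    have hcy : ⁅c, y⁆ ∈ A := by
      rw [← hmk1, map_commutatorElement, commutatorElement_eq_one_iff_commute, hc, map_mul,
        map_inv]
      have h1 : Commute (mk (g * y * g⁻¹)) (mk y) := hcomm1.symm
      exact ((Commute.refl (mk y)).inv_left).mul_left h1
    have hcj : mk c ∈ Subgroup.upperCentralSeries (G ⧸ A) j := by
      have h1 : (mk y)⁻¹ ∈ Subgroup.upperCentralSeries (G ⧸ A) (j + 1) :=
        Subgroup.inv_mem _ hyi
      rw [Subgroup.mem_upperCentralSeries_succ_iff] at h1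
      have h2 := h1 (mk g)
      have h3 : mk c = (mk y)⁻¹ * mk g * (mk y)⁻¹⁻¹ * (mk g)⁻¹ := by
        rw [hc]; simp only [map_mul, map_inv, inv_inv]; group
      rw [h3]; exact h2
    -- apply the key lemma inside `C`
    have hkey := alperin_key (H := C) (p := p) (n := n) hn (A.subgroupOf C)
      (by
        intro a ha
        rw [Subgroup.mem_center_iff]
        intro z
        apply Subtype.ext
        exact (Subgroup.mem_centralizer_iff.1 z.2 (a : G) (Subgroup.mem_subgroupOf.1 ha)).symm)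
      (by
        intro a ha
        apply Subtype.ext
        exact hAe (a : G) (Subgroup.mem_subgroupOf.1 ha))
      ⟨y, hyC⟩ ⟨c, hcC⟩ (Subtype.ext hyq) (Subtype.ext hycq)
      (Subgroup.mem_subgroupOf.2 hcy)
      (by
        intro k hk
        rw [Subgroup.mem_subgroupOf]
        have hk' : (c ^ k) ^ p ^ n = 1 := congrArg Subtype.val hk
        apply hmin' (c ^ k) (C.pow_mem hcC k) hk'
        rw [map_pow]
        exact Subgroup.pow_mem _ hcj k)
    have hcq : c ^ p ^ n = 1 := congrArg Subtype.val hkey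
    have hcA : c ∈ A := hmin' c hcC hcq hcj
    apply hgK
    rw [hKmem]
    have h1 : mk c = 1 := (hmk1 c).2 hcA
    rw [hc, map_mul, map_inv, map_mul, map_mul, map_inv] at h1
    -- (mk y)⁻¹ * (mk g * mk y * (mk g)⁻¹) = 1
    have h2 : mk g * mk y * (mk g)⁻¹ = mk y := by
      have := congrArg (fun t => mk y * t) h1
      simpa [mul_assoc] using this
    calc mk y * mk g = (mk g * mk y * (mk g)⁻¹) * mk g := by rw [h2]
      _ = mk g * mk y := by group

end Cfsg.Agent.Helper1
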