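import Mathlib
import Cfsg.Prelude.Def_GeometricClasses
import Cfsg.Agent.Lead.AschBase
import Cfsg.Agent.Helper3.AschForms
import Cfsg.Agent.Helper3.AschUSub
import Cfsg.Agent.Helper9.AschCompForms

/-!
# ASCH-COMP-Sp pieces `SpPieces.subfield` and `SpPieces.quadOdd` (helper1)
-/

set_option autoImplicit false
set_option linter.unusedVariables false
set_option linter.unusedSectionVars false

namespace Cfsg.Agent.Helper1.AschSp

open Cfsg Cfsg.Geo Cfsg.Agent.Lead.Asch Cfsg.Agent.Helper3.Asch Cfsg.Agent.Helper3.AschU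
open scoped MatrixGroups Matrix

variable {n : ℕ} {F : Type*} [Field F] [Fintype F]

/-- **S6** (`SpPieces.subfield`): the subfield case with its rational structure. -/
theorem subfield_symp (f : (Fin n → F) → (Fin n → F) → F) (hf : IsSymplecticForm f)
    {H P : Subgroup (GL (Fin n) F)} (hPfix : FixesForm (matrixSet P) f) (hnz : Nzes H P)
    (hP : ActsAbsolutelyIrreducibly (matrixSet P)) (F₀ : Subfield F) (h0 : F₀ ≠ ⊤)
    (hr : RealisableOver F₀ (matrixSet P)) :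
    ∃ (F₁ : Subfield F) (r : ℕ) (Pm : GL (Fin n) F) (ζ : F), r.Prime ∧ Fintype.card F = Nat.card F₁ ^ r ∧
      ζ ≠ 0 ∧ IsFormRationalStructure f F₁ ζ Pm ∧ H ≤ subfieldSubgroup F₁ Pm := by
  classical
  obtain ⟨τ, F₁, r, hrp, hcard, hfix0, hmem, hfixF₁⟩ := exists_prime_fixed_subfield' F₀ h0
  rcases Nat.eq_zero_or_pos n with hn0 | hnpos
  · -- degenerate dimension zero
    subst hn0
    refine ⟨F₁, r, 1, 1, hrp, hcard, one_ne_zero, ?_, ?_⟩
    · intro u v _ _
      have hu : u = 0 := Subsingleton.elim _ _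
      have hz : f (((1 : GL (Fin 0) F) : Matrix (Fin 0) (Fin 0) F) *ᵥ u)
          (((1 : GL (Fin 0) F) : Matrix (Fin 0) (Fin 0) F) *ᵥ v) = 0 := by
        have h1 : ((1 : GL (Fin 0) F) : Matrix (Fin 0) (Fin 0) F) *ᵥ u = (0 : F) • (0 : Fin 0 → F) :=
          Subsingleton.elim _ _
        rw [h1, hf.bilinear.smul_left, zero_mul]
      rw [hz, mul_zero]
      exact zero_mem _
    · intro h _
      have : h = 1 := Subsingleton.elim _ _
      rw [this]
      exact Subgroup.one_mem _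
  obtain ⟨B, hB⟩ := hr
  obtain ⟨Bm, hBm⟩ : ∃ Bm : Matrix (Fin n) (Fin n) F, Bm = (B : Matrix (Fin n) (Fin n) F) := ⟨_, rfl⟩
  obtain ⟨Bi, hBi⟩ : ∃ Bi : Matrix (Fin n) (Fin n) F,
      Bi = ((B⁻¹ : GL (Fin n) F) : Matrix (Fin n) (Fin n) F) := ⟨_, rfl⟩
  have hBiB : Bi * Bm = 1 := by
    rw [hBi, hBm, ← Units.val_mul, inv_mul_cancel, Units.val_one]
  have hBBi : Bm * Bi = 1 := by
    rw [hBi, hBm, ← Units.val_mul, mul_inv_cancel, Units.val_one]
  obtain ⟨S', hS'⟩ : ∃ S' : Set (Matrix (Fin n) (Fin n) F),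
      S' = (fun s => Bm * s * Bi) '' matrixSet P := ⟨_, rfl⟩
  have hS'irr : ActsAbsolutelyIrreducibly S' := by
    rw [hS', hBm, hBi]; exact absIrr_conj hP B
  have hS'u : ∀ s ∈ S', ∃ t : Matrix (Fin n) (Fin n) F, s * t = 1 := by
    rw [hS']
    rintro _ ⟨s, hs, rfl⟩
    obtain ⟨x, hx, rfl⟩ := mem_matrixSet_iff.1 hs
    refine ⟨Bm * ((x⁻¹ : GL (Fin n) F) : Matrix (Fin n) (Fin n) F) * Bi, ?_⟩
    have hxx : (x : Matrix (Fin n) (Fin n) F) * ((x⁻¹ : GL (Fin n) F) : Matrix (Fin n) (Fin n) F) = 1 := by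
      rw [← Units.val_mul, mul_inv_cancel, Units.val_one]
    calc Bm * (x : Matrix (Fin n) (Fin n) F) * Bi * (Bm * ((x⁻¹ : GL (Fin n) F) : Matrix (Fin n) (Fin n) F) * Bi)
        = Bm * ((x : Matrix (Fin n) (Fin n) F) * ((Bi * Bm) *
            ((x⁻¹ : GL (Fin n) F) : Matrix (Fin n) (Fin n) F))) * Bi := by
          simp only [Matrix.mul_assoc]
      _ = 1 := by rw [hBiB, Matrix.one_mul, hxx, Matrix.mul_one, hBBi]
  have hτS : ∀ s ∈ S', ∀ i j, τ (s i j) = s i j := by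
    rw [hS']
    rintro _ ⟨s, hs, rfl⟩ i j
    rw [hBm, hBi]
    exact hfix0 _ (hB s hs i j)
  have hSq := IsSesq.of_bilinear hf.bilinear
  obtain ⟨φ, hφdef⟩ : ∃ φ : (Fin n → F) → (Fin n → F) → F,
      φ = fun u v => f (Bi *ᵥ u) (Bi *ᵥ v) := ⟨_, rfl⟩
  have hφ : IsSesq (RingEquiv.refl F) φ := by
    rw [hφdef]
    refine ⟨?_, ?_, ?_, ?_⟩
    · intro x y v
      simp only [Matrix.mulVec_add, hSq.add_left]
    · intro c x v
      simp only [Matrix.mulVec_smul, hSq.smul_left]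
    · intro v x y
      simp only [Matrix.mulVec_add, hSq.add_right]
    · intro c v x
      simp only [Matrix.mulVec_smul, hSq.smul_right]
  have hBinj : ∀ v : Fin n → F, v ≠ 0 → Bi *ᵥ v ≠ 0 := by
    intro v hv h
    apply hv
    have := congrArg (fun x => Bm *ᵥ x) h
    simpa only [Matrix.mulVec_mulVec, hBBi, Matrix.one_mulVec, Matrix.mulVec_zero] using this
  have hnd : IsNondegenerateForm φ := by
    intro v hv
    have hnd0 := hf.nondegenerate _ (hBinj v hv)
    rw [hφdef]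
    constructor
    · obtain ⟨x, hx⟩ := hnd0.1
      refine ⟨Bm *ᵥ x, ?_⟩
      simp only [Matrix.mulVec_mulVec, hBiB, Matrix.one_mulVec]
      exact hx
    · obtain ⟨x, hx⟩ := hnd0.2
      refine ⟨Bm *ᵥ x, ?_⟩
      simp only [Matrix.mulVec_mulVec, hBiB, Matrix.one_mulVec]
      exact hx
  have hfix : FixesForm S' φ := by
    rw [hS']
    rintro _ ⟨s, hs, rfl⟩ u v
    have e : ∀ w : Fin n → F, Bi *ᵥ ((Bm * s * Bi) *ᵥ w) = s *ᵥ (Bi *ᵥ w) := by
      intro w
      rw [Matrix.mulVec_mulVec, Matrix.mulVec_mulVec, ← Matrix.mul_assoc, ← Matrix.mul_assoc, hBiB,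
        Matrix.one_mul]
    rw [hφdef]
    simp only
    rw [e, e, hPfix s hs]
  have hcore : ∀ h ∈ H, B * h * B⁻¹ ∈
      (Matrix.GeneralLinearGroup.map (F₁.subtype : F₁ →+* F)).range ⊔ scalars (Fin n) F :=
    fun h hh => subfield_core (by omega) hnz hP τ F₁ hmem B (fun s hs i j => hfix0 _ (hB s hs i j)) h hh
  obtain ⟨c, hc⟩ := twist_form (σ := RingEquiv.refl F) (τ := τ) (fun x => rfl) hφ hnd hS'irr hS'u hfix hτS
  have hval : ∀ u v : Fin n → F, (∀ i, u i ∈ F₁) → (∀ i, v i ∈ F₁) → τ (φ u v) = c * φ u v := by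
    intro u v hu hv
    have eu : (fun i => τ.symm (u i)) = u := by
      funext i
      rw [RingEquiv.symm_apply_eq, hfixF₁ _ (hu i)]
    have ev : (fun i => τ.symm (v i)) = v := by
      funext i
      rw [RingEquiv.symm_apply_eq, hfixF₁ _ (hv i)]
    have := hc u v
    rw [eu, ev] at this
    exact this
  obtain ⟨i, j, hd0⟩ := exists_gram_ne_zero (by omega) hφ hnd
  obtain ⟨d₀, hd₀⟩ : ∃ d₀ : F, d₀ = φ (bv i) (bv j) := ⟨_, rfl⟩
  rw [← hd₀] at hd0
  have hτd : τ d₀ = c * d₀ := by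
    rw [hd₀]; exact hval _ _ (bv_mem F₁ i) (bv_mem F₁ j)
  have hc0 : c ≠ 0 := by
    rintro rfl
    rw [zero_mul] at hτd
    exact hd0 ((map_eq_zero τ).1 hτd)
  have hquot : ∀ u v : Fin n → F, (∀ i, u i ∈ F₁) → (∀ i, v i ∈ F₁) → φ u v / d₀ ∈ F₁ := by
    intro u v hu hv
    apply hmem
    rw [map_div₀, hval u v hu hv, hτd, mul_div_mul_left _ _ hc0]
  refine ⟨F₁, r, B⁻¹, d₀⁻¹, hrp, hcard, inv_ne_zero hd0, ?_, ?_⟩
  · intro u v hu hv
    have := hquot u v hu hv
    rw [hφdef, div_eq_inv_mul] at this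
    rw [← hBi]
    exact this
  · apply le_subfieldSubgroup_of_conj F₁ B B⁻¹ hcore
    intro h
    group

/-- **S7a** (`SpPieces.quadOdd`, needs `0 < n`): for `q` odd an absolutely irreducible group fixing a symplectic
form fixes no non-degenerate quadratic form. -/
theorem quadOdd_symp (hn : 0 < n) (hodd : Odd (Fintype.card F)) (f : (Fin n → F) → (Fin n → F) → F)
    (hf : IsSymplecticForm f) (P : Subgroup (GL (Fin n) F)) (hPfix : FixesForm (matrixSet P) f)
    (hP : ActsAbsolutelyIrreducibly (matrixSet P)) (Q : (Fin n → F) → F)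
    (hQ : IsNondegenerateQuadraticForm Q) : ¬ FixesQuadForm (matrixSet P) Q := by
  intro hQfix
  have h2 : (2 : F) ≠ 0 := by
    intro h
    have hc : ringChar F = 2 := by
      apply CharP.ringChar_of_prime_eq_zero Nat.prime_two
      exact_mod_cast h
    have := FiniteField.even_card_of_char_two hc
    rw [Nat.odd_iff] at hodd
    omega
  have hSu : ∀ s ∈ matrixSet P, ∃ t : Matrix (Fin n) (Fin n) F, s * t = 1 := by
    intro s hs
    obtain ⟨x, hx, rfl⟩ := mem_matrixSet_iff.1 hs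
    exact ⟨((x⁻¹ : GL (Fin n) F) : Matrix (Fin n) (Fin n) F), by
      rw [← Units.val_mul, mul_inv_cancel, Units.val_one]⟩
  obtain ⟨c, hc⟩ := sesq_unique (IsSesq.of_bilinear hf.bilinear) (IsSesq.of_bilinear hQ.polar_bilinear)
    hf.nondegenerate hP hSu hPfix (Cfsg.Agent.Helper9.AschCompK.fixesForm_polar Q hQfix)
  have hQ0 : ∀ v, Q v = 0 := by
    intro v
    have h1 := hc v v
    rw [hf.alternating, mul_zero] at h1
    have h3 : QuadraticMap.polar Q v v = 2 * Q v := by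
      unfold QuadraticMap.polar
      have : v + v = (2 : F) • v := by rw [two_smul]
      rw [this, hQ.smul]
      ring
    rw [h3] at h1
    rcases mul_eq_zero.1 h1 with h | h
    · exact absurd h h2
    · exact h
  have hv : (Pi.single (⟨0, hn⟩ : Fin n) (1 : F) : Fin n → F) ≠ 0 := by
    intro h
    have := congrFun h ⟨0, hn⟩
    simp at this
  obtain ⟨⟨x, hx⟩, -⟩ := hQ.nondegenerate _ hv
  apply hx
  unfold QuadraticMap.polar
  rw [hQ0, hQ0, hQ0]
  ring

end Cfsg.Agent.Helper1.AschSp
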