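import Mathlib
import Cfsg.Prelude.Def_GeometricClasses
import Cfsg.Agent.Lead.AschBase

/-!
# ASCH-COMP-Sp (helper1 leads): Aschbacher's theorem for `Sp_{2m}(q)`, `m` an odd prime (targets S5805 `Sp_6`, S5844 `Sp_10`)

Shared definitions: the conclusion `SpConcl` (with `H ≤ X` instead of `H = X ⊓ Sp`), the transported form `reF`,
and the two hypothesis structures `SpPieces` (the pieces of the generic theorem on `Fin n`) and `NotSp`
(`Sp_{2m}` is not contained in a member of a geometric class, on `Fin m ⊕ Fin m`), so that the assembly lands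
before the pieces do (pattern of helper3's `NotSU` / helper6's `Pieces`).
-/

set_option autoImplicit false

namespace Cfsg.Agent.Helper1.AschSp

open Cfsg Cfsg.Geo Cfsg.Agent.Lead.Asch
open scoped MatrixGroups Matrix Kronecker

/-- The conclusion of Aschbacher's theorem for a subgroup `H` of the isometry group of the symplectic form `f` in
dimension `2m`, `m` an odd prime (with `≤` instead of `= · ⊓ Sp`). -/
def SpConcl {ι : Type} [Fintype ι] [DecidableEq ι] {F : Type*} [Field F] [Fintype F] (m : ℕ)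
    (f : (ι → F) → (ι → F) → F) (H : Subgroup (GL ι F)) : Prop :=
  (∃ W : Submodule F (ι → F), W ≠ ⊥ ∧ IsTotallySingularFor f W ∧ H ≤ subspaceStabilizer W) ∨
  (∃ W : Submodule F (ι → F), W ≠ ⊥ ∧ IsNondegenerateOn f W ∧ Module.finrank F W < m ∧
      H ≤ subspaceStabilizer W) ∨
  (3 ≤ Fintype.card F ∧ ∃ D : Fin m → Submodule F (ι → F), IsNondegenerateMDecomposition f 2 D ∧
      H ≤ decompositionStabilizer D) ∨
  (Odd (Fintype.card F) ∧ ∃ D : Fin 2 → Submodule F (ι → F), IsMDecomposition m D ∧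
      (∀ i, IsTotallySingularFor f (D i)) ∧ H ≤ decompositionStabilizer D) ∨
  (∃ K : Subalgebra F (Matrix ι ι F), IsFieldSubalgebra m K ∧ IsSelfAdjointFor f K ∧
      (∀ k ∈ K, ∀ v : ι → F, f (k *ᵥ v) v = 0) ∧ H ≤ subalgebraNormalizer K) ∨
  (Odd (Fintype.card F) ∧ ∃ K : Subalgebra F (Matrix ι ι F), IsFieldSubalgebra 2 K ∧ IsAdjointClosedFor f K ∧
      ¬ IsSelfAdjointFor f K ∧ H ≤ subalgebraNormalizer K) ∨
  (Odd (Fintype.card F) ∧ ¬ (m = 3 ∧ Fintype.card F = 3) ∧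
    ∃ (e : ι ≃ Fin 2 × Fin m) (P : GL ι F) (f₁ : (Fin 2 → F) → (Fin 2 → F) → F)
      (f₂ : (Fin m → F) → (Fin m → F) → F), IsSymplecticForm f₁ ∧ IsSymmetricForm f₂ ∧
      IsTensorFormStructure id f f₁ f₂ e P ∧ H ≤ tensorProductSubgroup 2 m e P) ∨
  (∃ (F₀ : Subfield F) (r : ℕ) (P : GL ι F) (ζ : F), r.Prime ∧ Fintype.card F = Nat.card F₀ ^ r ∧ ζ ≠ 0 ∧
      IsFormRationalStructure f F₀ ζ P ∧ H ≤ subfieldSubgroup F₀ P) ∨
  (¬ Odd (Fintype.card F) ∧ ∃ Q : (ι → F) → F, IsNondegenerateQuadraticForm Q ∧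
      (∀ u v, QuadraticMap.polar Q u v = f u v) ∧ H ≤ quadSimilarityGroup Q) ∨
  InSymplecticResidualClass H

variable {n : ℕ} {F : Type*} [Field F]

/-- a two-argument form transported to `Fin n` along a bijection of index types -/
def reF {ι : Type} (e : ι ≃ Fin n) (f : (ι → F) → (ι → F) → F) : (Fin n → F) → (Fin n → F) → F :=
  fun u v => f (fun i => u (e i)) (fun i => v (e i))

/-- the "quadratic exit": `H` lies in the similarity group of a quadratic form polarising to `f` -/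
def QuadExit {ι : Type} [Fintype ι] [DecidableEq ι] (f : (ι → F) → (ι → F) → F) (H : Subgroup (GL ι F)) : Prop :=
  ∃ Q : (ι → F) → F, IsNondegenerateQuadraticForm Q ∧ (∀ u v, QuadraticMap.polar Q u v = f u v) ∧
    H ≤ quadSimilarityGroup Q

/-- The pieces of the generic theorem, all on `Fin n` for an abstract symplectic form. -/
structure SpPieces (n : ℕ) (F : Type*) [Field F] [Fintype F] : Prop where
  /-- S1 (reducible case) -/
  reducible : ∀ (f : (Fin n → F) → (Fin n → F) → F), IsSymplecticForm f → ∀ H : Subgroup (GL (Fin n) F),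
    FixesForm (matrixSet H) f → ¬ ActsIrreducibly (matrixSet H) →
    (∃ W : Submodule F (Fin n → F), W ≠ ⊥ ∧ IsTotallySingularFor f W ∧ H ≤ subspaceStabilizer W) ∨
    (∃ W : Submodule F (Fin n → F), W ≠ ⊥ ∧ IsNondegenerateOn f W ∧ 2 * Module.finrank F W ≤ n ∧
      H ≤ subspaceStabilizer W)
  /-- S1b: a subspace on which an alternating form is non-degenerate has even dimension -/
  evenRank : ∀ (f : (Fin n → F) → (Fin n → F) → F), IsSymplecticForm f → ∀ W : Submodule F (Fin n → F),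
    IsNondegenerateOn f W → Even (Module.finrank F W)
  /-- S2 (form-aware Clifford: FORM-CLIFFORD + FORM-FIELD + FORM-TENSOR) -/
  clifford : ∀ (f : (Fin n → F) → (Fin n → F) → F), IsSymplecticForm f → ∀ {H N : Subgroup (GL (Fin n) F)},
    FixesForm (matrixSet H) f → ActsIrreducibly (matrixSet H) → N ≤ H → Nzes H N →
    (∃ (t k : ℕ) (D : Fin t → Submodule F (Fin n → F)), IsNondegenerateMDecomposition f k D ∧ t * k = n ∧
      H ≤ decompositionStabilizer D) ∨
    (∃ (k : ℕ) (D : Fin 2 → Submodule F (Fin n → F)), IsMDecomposition k D ∧ 2 * k = n ∧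
      (∀ i, IsTotallySingularFor f (D i)) ∧ H ≤ decompositionStabilizer D) ∨
    (∃ (r : ℕ) (K : Subalgebra F (Matrix (Fin n) (Fin n) F)), r.Prime ∧ r ∣ n ∧ IsFieldSubalgebra r K ∧
      IsAdjointClosedFor f K ∧ H ≤ subalgebraNormalizer K) ∨
    (Odd (Fintype.card F) ∧ ∃ (n₁ n₂ : ℕ) (e : Fin n ≃ Fin n₁ × Fin n₂) (P : GL (Fin n) F)
      (f₁ : (Fin n₁ → F) → (Fin n₁ → F) → F) (f₂ : (Fin n₂ → F) → (Fin n₂ → F) → F), 2 ≤ n₁ ∧ 2 ≤ n₂ ∧
      ((IsSymplecticForm f₁ ∧ IsSymmetricForm f₂) ∨ (IsSymmetricForm f₁ ∧ IsSymplecticForm f₂)) ∧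
      IsTensorFormStructure id f f₁ f₂ e P ∧ H ≤ tensorProductSubgroup n₁ n₂ e P) ∨
    N ≤ scalars (Fin n) F ∨ ActsAbsolutelyIrreducibly (matrixSet N)
  /-- S3a: an adjoint-closed field of odd degree is self-adjoint -/
  adjOdd : ∀ (f : (Fin n → F) → (Fin n → F) → F), IsSymplecticForm f → ∀ (r : ℕ)
    (K : Subalgebra F (Matrix (Fin n) (Fin n) F)), Odd r → IsFieldSubalgebra r K → IsAdjointClosedFor f K →
    IsSelfAdjointFor f K
  /-- S3b: a self-adjoint field normalised by an irreducible group of isometries satisfies `f(k v, v) = 0` -/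
  altOfSelfAdj : ∀ (f : (Fin n → F) → (Fin n → F) → F), IsSymplecticForm f → ∀ H : Subgroup (GL (Fin n) F),
    FixesForm (matrixSet H) f → ActsIrreducibly (matrixSet H) → ∀ (r : ℕ)
    (K : Subalgebra F (Matrix (Fin n) (Fin n) F)), IsFieldSubalgebra r K → IsSelfAdjointFor f K →
    H ≤ subalgebraNormalizer K → ∀ k ∈ K, ∀ v : Fin n → F, f (k *ᵥ v) v = 0
  /-- S3c: `F^n` is a space over the self-adjoint field `K` with a non-degenerate alternating `K`-form -/
  dvdOfSelfAdj : ∀ (f : (Fin n → F) → (Fin n → F) → F), IsSymplecticForm f → ∀ (r : ℕ)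
    (K : Subalgebra F (Matrix (Fin n) (Fin n) F)), IsFieldSubalgebra r K → IsSelfAdjointFor f K →
    (∀ k ∈ K, ∀ v : Fin n → F, f (k *ᵥ v) v = 0) → 2 * r ∣ n
  /-- E3 (`q = 2`): `Sp_2(2) ≀ S_t ≤ O^±_{2t}(2)` -/
  evenDecomp : Fintype.card F = 2 → ∀ (f : (Fin n → F) → (Fin n → F) → F), IsSymplecticForm f →
    ∀ {t : ℕ} (D : Fin t → Submodule F (Fin n → F)), IsNondegenerateMDecomposition f 2 D →
    ∀ H : Subgroup (GL (Fin n) F), FixesForm (matrixSet H) f → H ≤ decompositionStabilizer D → QuadExit f H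
  /-- E1 (`q` even): `GL_m(q).2 ≤ O^+_{2m}(q)` -/
  evenPair : ¬ Odd (Fintype.card F) → ∀ (f : (Fin n → F) → (Fin n → F) → F), IsSymplecticForm f →
    ∀ (k : ℕ) (D : Fin 2 → Submodule F (Fin n → F)), IsMDecomposition k D →
    (∀ i, IsTotallySingularFor f (D i)) →
    ∀ H : Subgroup (GL (Fin n) F), FixesForm (matrixSet H) f → H ≤ decompositionStabilizer D → QuadExit f H
  /-- E2 (`q` even): `GU_m(q).2 ≤ O^±_{2m}(q)` -/
  evenField : ¬ Odd (Fintype.card F) → ∀ (f : (Fin n → F) → (Fin n → F) → F), IsSymplecticForm f →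
    ∀ K : Subalgebra F (Matrix (Fin n) (Fin n) F), IsFieldSubalgebra 2 K → IsAdjointClosedFor f K →
    ¬ IsSelfAdjointFor f K →
    ∀ H : Subgroup (GL (Fin n) F), FixesForm (matrixSet H) f → H ≤ subalgebraNormalizer K → QuadExit f H
  /-- S4 (`q = 3`): `Sp_2(3) ⊗ O_3(3) ≤ Sp_2(3) ≀ S_3` -/
  tensor33 : Fintype.card F = 3 → ∀ (f : (Fin n → F) → (Fin n → F) → F), IsSymplecticForm f →
    ∀ (e : Fin n ≃ Fin 2 × Fin 3) (P : GL (Fin n) F) (f₁ : (Fin 2 → F) → (Fin 2 → F) → F)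
      (f₂ : (Fin 3 → F) → (Fin 3 → F) → F), IsSymplecticForm f₁ → IsSymmetricForm f₂ →
    IsTensorFormStructure id f f₁ f₂ e P →
    ∃ D : Fin 3 → Submodule F (Fin n → F), IsNondegenerateMDecomposition f 2 D ∧
      ∀ H : Subgroup (GL (Fin n) F), FixesForm (matrixSet H) f → H ≤ tensorProductSubgroup 2 3 e P →
        H ≤ decompositionStabilizer D
  /-- S5: swapping the factors of a tensor form structure -/
  tensorSwap : ∀ (f : (Fin n → F) → (Fin n → F) → F) (n₁ n₂ : ℕ) (e : Fin n ≃ Fin n₁ × Fin n₂)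
    (P : GL (Fin n) F) (f₁ : (Fin n₁ → F) → (Fin n₁ → F) → F) (f₂ : (Fin n₂ → F) → (Fin n₂ → F) → F),
    IsTensorFormStructure id f f₁ f₂ e P →
    IsTensorFormStructure id f f₂ f₁ (e.trans (Equiv.prodComm (Fin n₁) (Fin n₂))) P ∧
    tensorProductSubgroup n₁ n₂ e P =
      tensorProductSubgroup n₂ n₁ (e.trans (Equiv.prodComm (Fin n₁) (Fin n₂))) P
  /-- S6: the subfield case with its rational structure -/
  subfield : ∀ (f : (Fin n → F) → (Fin n → F) → F), IsSymplecticForm f → ∀ {H P : Subgroup (GL (Fin n) F)},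
    FixesForm (matrixSet P) f → Nzes H P → ActsAbsolutelyIrreducibly (matrixSet P) →
    ∀ F₀ : Subfield F, F₀ ≠ ⊤ → RealisableOver F₀ (matrixSet P) →
    ∃ (F₁ : Subfield F) (r : ℕ) (Pm : GL (Fin n) F) (ζ : F), r.Prime ∧ Fintype.card F = Nat.card F₁ ^ r ∧
      ζ ≠ 0 ∧ IsFormRationalStructure f F₁ ζ Pm ∧ H ≤ subfieldSubgroup F₁ Pm
  /-- S7a (`q` odd): an absolutely irreducible group fixing a symplectic form fixes no quadratic form -/
  quadOdd : Odd (Fintype.card F) → ∀ (f : (Fin n → F) → (Fin n → F) → F), IsSymplecticForm f →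
    ∀ P : Subgroup (GL (Fin n) F), FixesForm (matrixSet P) f → ActsAbsolutelyIrreducibly (matrixSet P) →
    ∀ Q : (Fin n → F) → F, IsNondegenerateQuadraticForm Q → ¬ FixesQuadForm (matrixSet P) Q
  /-- S7b (`q` even): the quadratic exit in the perfect case -/
  quadEven : ¬ Odd (Fintype.card F) → ∀ (f : (Fin n → F) → (Fin n → F) → F), IsSymplecticForm f →
    ∀ {H P : Subgroup (GL (Fin n) F)}, FixesForm (matrixSet P) f → Nzes H P →
    ActsAbsolutelyIrreducibly (matrixSet P) →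
    ∀ Q : (Fin n → F) → F, IsNondegenerateQuadraticForm Q → FixesQuadForm (matrixSet P) Q → QuadExit f H
  /-- S8: a group fixing a symplectic and a unitary form is realisable over the fixed field -/
  unitary : ∀ (f : (Fin n → F) → (Fin n → F) → F), IsSymplecticForm f →
    ∀ P : Subgroup (GL (Fin n) F), FixesForm (matrixSet P) f → ActsAbsolutelyIrreducibly (matrixSet P) →
    ∀ (σ : F ≃+* F) (g : (Fin n → F) → (Fin n → F) → F), IsUnitaryForm σ g → FixesForm (matrixSet P) g →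
    ∃ F₀ : Subfield F, F₀ ≠ ⊤ ∧ RealisableOver F₀ (matrixSet P)

/-- `Sp_{2m}(F)` is not contained in a member of a geometric class. -/
structure NotSp (m : ℕ) (F : Type*) [Field F] [Fintype F] : Prop where
  subspace : ∀ W : Submodule F (Fin m ⊕ Fin m → F), W ≠ ⊥ → W ≠ ⊤ → ¬ spGL m F ≤ subspaceStabilizer W
  decomp : ∀ {t : ℕ} (k : ℕ) (D : Fin t → Submodule F (Fin m ⊕ Fin m → F)), IsMDecomposition k D →
    ¬ spGL m F ≤ decompositionStabilizer D
  field : ∀ (r : ℕ) (K : Subalgebra F (Matrix (Fin m ⊕ Fin m) (Fin m ⊕ Fin m) F)), 2 ≤ r →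
    IsFieldSubalgebra r K → ¬ spGL m F ≤ subalgebraNormalizer K
  tensor : ∀ (n₁ n₂ : ℕ), 2 ≤ n₁ → 2 ≤ n₂ → ∀ (e : (Fin m ⊕ Fin m) ≃ Fin n₁ × Fin n₂)
    (P : GL (Fin m ⊕ Fin m) F), ¬ spGL m F ≤ tensorProductSubgroup n₁ n₂ e P
  subfield : ∀ (F₀ : Subfield F), F₀ ≠ ⊤ → ∀ P : GL (Fin m ⊕ Fin m) F, ¬ spGL m F ≤ subfieldSubgroup F₀ P
  quad : ∀ Q : (Fin m ⊕ Fin m → F) → F, IsNondegenerateQuadraticForm Q →
    (∀ u v, QuadraticMap.polar Q u v = sympForm m F u v) → ¬ spGL m F ≤ quadSimilarityGroup Q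

/-- The transport along `e : Fin m ⊕ Fin m ≃ Fin n`. -/
structure SpTransport (m n : ℕ) (F : Type*) [Field F] [Fintype F] : Prop where
  symplectic : ∀ e : (Fin m ⊕ Fin m) ≃ Fin n, IsSymplecticForm (reF e (sympForm m F))
  fixes : ∀ (e : (Fin m ⊕ Fin m) ≃ Fin n) (H : Subgroup (GL (Fin m ⊕ Fin m) F)), H ≤ spGL m F →
    FixesForm (matrixSet (H.map (glReindex e : GL (Fin m ⊕ Fin m) F ≃* GL (Fin n) F).toMonoidHom))
      (reF e (sympForm m F))
  concl : ∀ (e : (Fin m ⊕ Fin m) ≃ Fin n) (H : Subgroup (GL (Fin m ⊕ Fin m) F)),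
    SpConcl m (reF e (sympForm m F))
      (H.map (glReindex e : GL (Fin m ⊕ Fin m) F ≃* GL (Fin n) F).toMonoidHom) →
    SpConcl m (sympForm m F) H

end Cfsg.Agent.Helper1.AschSp
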