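import Mathlib
import Cfsg.Prelude.Def_GeometricClasses
import Cfsg.Agent.Lead.AschBase
import Cfsg.Agent.Helper1.AschSpBase

/-!
# ASCH-COMP-Sp, second round (helper1): Aschbacher's theorem for `Sp_12(q)` (target S5868)

The conclusion `Sp12Concl` (fourteen alternatives with `H ≤ X`), the pieces `Sp12Pieces n F` of the generic theorem
(on `Fin n`, abstract symplectic form; `n = 12` in the application) and the transport of the conclusion.
-/

set_option autoImplicit false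

namespace Cfsg.Agent.Helper1.AschSp

open Cfsg Cfsg.Geo Cfsg.Agent.Lead.Asch
open scoped MatrixGroups Matrix Kronecker

/-- The conclusion of Aschbacher's theorem for a subgroup `H` of the isometry group of the symplectic form `f` in
dimension `12` (with `≤` instead of `= · ⊓ Sp`). -/
def Sp12Concl {ι : Type} [Fintype ι] [DecidableEq ι] {F : Type*} [Field F] [Fintype F]
    (f : (ι → F) → (ι → F) → F) (H : Subgroup (GL ι F)) : Prop :=
  (∃ W : Submodule F (ι → F), W ≠ ⊥ ∧ IsTotallySingularFor f W ∧ H ≤ subspaceStabilizer W) ∨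
  (∃ W : Submodule F (ι → F), W ≠ ⊥ ∧ IsNondegenerateOn f W ∧ Module.finrank F W < 6 ∧
      H ≤ subspaceStabilizer W) ∨
  (3 ≤ Fintype.card F ∧ ∃ D : Fin 6 → Submodule F (ι → F), IsNondegenerateMDecomposition f 2 D ∧
      H ≤ decompositionStabilizer D) ∨
  (∃ D : Fin 3 → Submodule F (ι → F), IsNondegenerateMDecomposition f 4 D ∧ H ≤ decompositionStabilizer D) ∨
  (∃ D : Fin 2 → Submodule F (ι → F), IsNondegenerateMDecomposition f 6 D ∧ H ≤ decompositionStabilizer D) ∨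
  (Odd (Fintype.card F) ∧ ∃ D : Fin 2 → Submodule F (ι → F), IsMDecomposition 6 D ∧
      (∀ i, IsTotallySingularFor f (D i)) ∧ H ≤ decompositionStabilizer D) ∨
  (∃ K : Subalgebra F (Matrix ι ι F), IsFieldSubalgebra 2 K ∧ IsSelfAdjointFor f K ∧
      (∀ k ∈ K, ∀ v : ι → F, f (k *ᵥ v) v = 0) ∧ H ≤ subalgebraNormalizer K) ∨
  (∃ K : Subalgebra F (Matrix ι ι F), IsFieldSubalgebra 3 K ∧ IsSelfAdjointFor f K ∧
      (∀ k ∈ K, ∀ v : ι → F, f (k *ᵥ v) v = 0) ∧ H ≤ subalgebraNormalizer K) ∨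
  (Odd (Fintype.card F) ∧ ∃ K : Subalgebra F (Matrix ι ι F), IsFieldSubalgebra 2 K ∧ IsAdjointClosedFor f K ∧
      ¬ IsSelfAdjointFor f K ∧ H ≤ subalgebraNormalizer K) ∨
  (Odd (Fintype.card F) ∧
    ∃ (e : ι ≃ Fin 2 × Fin 6) (P : GL ι F) (f₁ : (Fin 2 → F) → (Fin 2 → F) → F)
      (f₂ : (Fin 6 → F) → (Fin 6 → F) → F), IsSymplecticForm f₁ ∧ IsSymmetricForm f₂ ∧
      IsTensorFormStructure id f f₁ f₂ e P ∧ H ≤ tensorProductSubgroup 2 6 e P) ∨
  (Odd (Fintype.card F) ∧ 5 ≤ Fintype.card F ∧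
    ∃ (e : ι ≃ Fin 4 × Fin 3) (P : GL ι F) (f₁ : (Fin 4 → F) → (Fin 4 → F) → F)
      (f₂ : (Fin 3 → F) → (Fin 3 → F) → F), IsSymplecticForm f₁ ∧ IsSymmetricForm f₂ ∧
      IsTensorFormStructure id f f₁ f₂ e P ∧ H ≤ tensorProductSubgroup 4 3 e P) ∨
  (∃ (F₀ : Subfield F) (r : ℕ) (P : GL ι F) (ζ : F), r.Prime ∧ Fintype.card F = Nat.card F₀ ^ r ∧ ζ ≠ 0 ∧
      IsFormRationalStructure f F₀ ζ P ∧ H ≤ subfieldSubgroup F₀ P) ∨
  (¬ Odd (Fintype.card F) ∧ ∃ Q : (ι → F) → F, IsNondegenerateQuadraticForm Q ∧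
      (∀ u v, QuadraticMap.polar Q u v = f u v) ∧ H ≤ quadSimilarityGroup Q) ∨
  InSymplecticResidualClass H

/-- The pieces of the generic theorem in dimension `n` with `4 ∣ n` allowed, all on `Fin n`. -/
structure Sp12Pieces (n : ℕ) (F : Type*) [Field F] [Fintype F] : Prop where
  /-- the reducible case with the pair exit -/
  reducibleG : ∀ (f : (Fin n → F) → (Fin n → F) → F), IsSymplecticForm f → ∀ H : Subgroup (GL (Fin n) F),
    FixesForm (matrixSet H) f → ¬ ActsIrreducibly (matrixSet H) →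
    (∃ W : Submodule F (Fin n → F), W ≠ ⊥ ∧ IsTotallySingularFor f W ∧ H ≤ subspaceStabilizer W) ∨
    (∃ W : Submodule F (Fin n → F), W ≠ ⊥ ∧ IsNondegenerateOn f W ∧ 2 * Module.finrank F W < n ∧
      H ≤ subspaceStabilizer W) ∨
    (∃ (k : ℕ) (D : Fin 2 → Submodule F (Fin n → F)), IsNondegenerateMDecomposition f k D ∧ 2 * k = n ∧
      H ≤ decompositionStabilizer D)
  evenRank : ∀ (f : (Fin n → F) → (Fin n → F) → F), IsSymplecticForm f → ∀ W : Submodule F (Fin n → F),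
    IsNondegenerateOn f W → Even (Module.finrank F W)
  /-- form-aware Clifford, any `n` -/
  cliffordG : ∀ (f : (Fin n → F) → (Fin n → F) → F), IsSymplecticForm f → ∀ {H N : Subgroup (GL (Fin n) F)},
    FixesForm (matrixSet H) f → ActsIrreducibly (matrixSet H) → N ≤ H → Nzes H N →
    (∃ (t k : ℕ) (D : Fin t → Submodule F (Fin n → F)), IsNondegenerateMDecomposition f k D ∧ t * k = n ∧
      H ≤ decompositionStabilizer D) ∨
    (∃ (k : ℕ) (D : Fin 2 → Submodule F (Fin n → F)), IsMDecomposition k D ∧ 2 * k = n ∧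
      (∀ i, IsTotallySingularFor f (D i)) ∧ H ≤ decompositionStabilizer D) ∨
    (∃ (r : ℕ) (K : Subalgebra F (Matrix (Fin n) (Fin n) F)), r.Prime ∧ r ∣ n ∧ IsFieldSubalgebra r K ∧
      IsAdjointClosedFor f K ∧ H ≤ subalgebraNormalizer K) ∨
    (Odd (Fintype.card F) ∧ ∃ (n₁ n₂ : ℕ) (e : Fin n ≃ Fin n₁ × Fin n₂) (P : GL (Fin n) F)
      (f₁ : (Fin n₁ → F) → (Fin n₁ → F) → F) (f₂ : (Fin n₂ → F) → (Fin n₂ → F) → F), 2 ≤ n₁ ∧ 2 ≤ n₂ ∧
      ((IsSymplecticForm f₁ ∧ IsSymmetricForm f₂) ∨ (IsSymmetricForm f₁ ∧ IsSymplecticForm f₂)) ∧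
      IsTensorFormStructure id f f₁ f₂ e P ∧ H ≤ tensorProductSubgroup n₁ n₂ e P) ∨
    (¬ Odd (Fintype.card F) ∧ QuadExit f H) ∨
    N ≤ scalars (Fin n) F ∨ ActsAbsolutelyIrreducibly (matrixSet N)
  adjOdd : ∀ (f : (Fin n → F) → (Fin n → F) → F), IsSymplecticForm f → ∀ (r : ℕ)
    (K : Subalgebra F (Matrix (Fin n) (Fin n) F)), Odd r → IsFieldSubalgebra r K → IsAdjointClosedFor f K →
    IsSelfAdjointFor f K
  altOfSelfAdj : ∀ (f : (Fin n → F) → (Fin n → F) → F), IsSymplecticForm f → ∀ H : Subgroup (GL (Fin n) F),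
    FixesForm (matrixSet H) f → ActsIrreducibly (matrixSet H) → ∀ (r : ℕ)
    (K : Subalgebra F (Matrix (Fin n) (Fin n) F)), IsFieldSubalgebra r K → IsSelfAdjointFor f K →
    H ≤ subalgebraNormalizer K → ∀ k ∈ K, ∀ v : Fin n → F, f (k *ᵥ v) v = 0
  evenDecomp : Fintype.card F = 2 → ∀ (f : (Fin n → F) → (Fin n → F) → F), IsSymplecticForm f →
    ∀ {t : ℕ} (D : Fin t → Submodule F (Fin n → F)), IsNondegenerateMDecomposition f 2 D →
    ∀ H : Subgroup (GL (Fin n) F), FixesForm (matrixSet H) f → H ≤ decompositionStabilizer D → QuadExit f H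
  evenPair : ¬ Odd (Fintype.card F) → ∀ (f : (Fin n → F) → (Fin n → F) → F), IsSymplecticForm f →
    ∀ (k : ℕ) (D : Fin 2 → Submodule F (Fin n → F)), IsMDecomposition k D →
    (∀ i, IsTotallySingularFor f (D i)) →
    ∀ H : Subgroup (GL (Fin n) F), FixesForm (matrixSet H) f → H ≤ decompositionStabilizer D → QuadExit f H
  evenField : ¬ Odd (Fintype.card F) → ∀ (f : (Fin n → F) → (Fin n → F) → F), IsSymplecticForm f →
    ∀ K : Subalgebra F (Matrix (Fin n) (Fin n) F), IsFieldSubalgebra 2 K → IsAdjointClosedFor f K →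
    ¬ IsSelfAdjointFor f K →
    ∀ H : Subgroup (GL (Fin n) F), FixesForm (matrixSet H) f → H ≤ subalgebraNormalizer K → QuadExit f H
  /-- `Sp_{n₁}(q) ⊗ O_2^±(q)`: two totally singular subspaces or a field of degree 2 -/
  tensorO2 : Odd (Fintype.card F) → ∀ (f : (Fin n → F) → (Fin n → F) → F), IsSymplecticForm f →
    ∀ (n₁ : ℕ) (e : Fin n ≃ Fin n₁ × Fin 2) (P : GL (Fin n) F) (f₁ : (Fin n₁ → F) → (Fin n₁ → F) → F)
      (f₂ : (Fin 2 → F) → (Fin 2 → F) → F), IsSymplecticForm f₁ → IsSymmetricForm f₂ →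
    IsTensorFormStructure id f f₁ f₂ e P →
    ∀ H : Subgroup (GL (Fin n) F), FixesForm (matrixSet H) f → H ≤ tensorProductSubgroup n₁ 2 e P →
    (∃ D : Fin 2 → Submodule F (Fin n → F), IsMDecomposition n₁ D ∧ (∀ i, IsTotallySingularFor f (D i)) ∧
      H ≤ decompositionStabilizer D) ∨
    (∃ K : Subalgebra F (Matrix (Fin n) (Fin n) F), IsFieldSubalgebra 2 K ∧ IsAdjointClosedFor f K ∧
      ¬ IsSelfAdjointFor f K ∧ H ≤ subalgebraNormalizer K)
  /-- `q = 3`: `Sp_{n₁}(3) ⊗ O_3(3) ≤ Sp_{n₁}(3) ≀ S_3` -/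
  tensorN3 : Fintype.card F = 3 → ∀ (f : (Fin n → F) → (Fin n → F) → F), IsSymplecticForm f →
    ∀ (n₁ : ℕ) (e : Fin n ≃ Fin n₁ × Fin 3) (P : GL (Fin n) F) (f₁ : (Fin n₁ → F) → (Fin n₁ → F) → F)
      (f₂ : (Fin 3 → F) → (Fin 3 → F) → F), IsSymplecticForm f₁ → IsSymmetricForm f₂ →
    IsTensorFormStructure id f f₁ f₂ e P →
    ∃ D : Fin 3 → Submodule F (Fin n → F), IsNondegenerateMDecomposition f n₁ D ∧
      ∀ H : Subgroup (GL (Fin n) F), FixesForm (matrixSet H) f → H ≤ tensorProductSubgroup n₁ 3 e P →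
        H ≤ decompositionStabilizer D
  tensorSwap : ∀ (f : (Fin n → F) → (Fin n → F) → F) (n₁ n₂ : ℕ) (e : Fin n ≃ Fin n₁ × Fin n₂)
    (P : GL (Fin n) F) (f₁ : (Fin n₁ → F) → (Fin n₁ → F) → F) (f₂ : (Fin n₂ → F) → (Fin n₂ → F) → F),
    IsTensorFormStructure id f f₁ f₂ e P →
    IsTensorFormStructure id f f₂ f₁ (e.trans (Equiv.prodComm (Fin n₁) (Fin n₂))) P ∧
    tensorProductSubgroup n₁ n₂ e P =
      tensorProductSubgroup n₂ n₁ (e.trans (Equiv.prodComm (Fin n₁) (Fin n₂))) P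
  subfield : ∀ (f : (Fin n → F) → (Fin n → F) → F), IsSymplecticForm f → ∀ {H P : Subgroup (GL (Fin n) F)},
    FixesForm (matrixSet P) f → Nzes H P → ActsAbsolutelyIrreducibly (matrixSet P) →
    ∀ F₀ : Subfield F, F₀ ≠ ⊤ → RealisableOver F₀ (matrixSet P) →
    ∃ (F₁ : Subfield F) (r : ℕ) (Pm : GL (Fin n) F) (ζ : F), r.Prime ∧ Fintype.card F = Nat.card F₁ ^ r ∧
      ζ ≠ 0 ∧ IsFormRationalStructure f F₁ ζ Pm ∧ H ≤ subfieldSubgroup F₁ Pm
  quadOdd : Odd (Fintype.card F) → ∀ (f : (Fin n → F) → (Fin n → F) → F), IsSymplecticForm f →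
    ∀ P : Subgroup (GL (Fin n) F), FixesForm (matrixSet P) f → ActsAbsolutelyIrreducibly (matrixSet P) →
    ∀ Q : (Fin n → F) → F, IsNondegenerateQuadraticForm Q → ¬ FixesQuadForm (matrixSet P) Q
  quadEven : ¬ Odd (Fintype.card F) → ∀ (f : (Fin n → F) → (Fin n → F) → F), IsSymplecticForm f →
    ∀ {H P : Subgroup (GL (Fin n) F)}, FixesForm (matrixSet P) f → Nzes H P →
    ActsAbsolutelyIrreducibly (matrixSet P) →
    ∀ Q : (Fin n → F) → F, IsNondegenerateQuadraticForm Q → FixesQuadForm (matrixSet P) Q → QuadExit f H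
  unitary : ∀ (f : (Fin n → F) → (Fin n → F) → F), IsSymplecticForm f →
    ∀ P : Subgroup (GL (Fin n) F), FixesForm (matrixSet P) f → ActsAbsolutelyIrreducibly (matrixSet P) →
    ∀ (σ : F ≃+* F) (g : (Fin n → F) → (Fin n → F) → F), IsUnitaryForm σ g → FixesForm (matrixSet P) g →
    ∃ F₀ : Subfield F, F₀ ≠ ⊤ ∧ RealisableOver F₀ (matrixSet P)

/-- The transport of the conclusion along `e : Fin 6 ⊕ Fin 6 ≃ Fin 12`. -/
def Sp12TransportConcl (F : Type*) [Field F] [Fintype F] : Prop :=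
  ∀ (e : (Fin 6 ⊕ Fin 6) ≃ Fin 12) (H : Subgroup (GL (Fin 6 ⊕ Fin 6) F)),
    Sp12Concl (reF e (sympForm 6 F))
      (H.map (glReindex e : GL (Fin 6 ⊕ Fin 6) F ≃* GL (Fin 12) F).toMonoidHom) →
    Sp12Concl (sympForm 6 F) H

end Cfsg.Agent.Helper1.AschSp
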