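import Mathlib
import Cfsg.Prelude.Def_GeometricClasses
import Cfsg.Agent.Lead.AschBase
import Cfsg.Agent.Lead.AschOBase
import Cfsg.Agent.Helper1.AschSpBase
import Cfsg.Agent.Helper3.AschForms
import Cfsg.Agent.Helper4.AschPPC
import Cfsg.Agent.Helper6.AschCompSym

/-!
# ASCH-COMP-Sp: the assembly (helper1)

`asch_sp`: the generic theorem on `Fin n`, `n = 2m`, `m` an odd prime, for an abstract symplectic form and any
group `H` of isometries, from the pieces `SpPieces n F`.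
`final_sp`: the statement for `spGL m F` on `Fin m ⊕ Fin m` from `SpPieces (2m) F`, `SpTransport m (2m) F`, `NotSp m F`.
-/

set_option autoImplicit false

namespace Cfsg.Agent.Helper1.AschSp

open Cfsg Cfsg.Geo Cfsg.Agent.Lead.Asch
open scoped MatrixGroups Matrix Kronecker

variable {n : ℕ} {F : Type*} [Field F]

/-! ## arithmetic of `2m`, `m` an odd prime -/

theorem not_prime_pow_two_mul {m : ℕ} (hm : m.Prime) (hm2 : m ≠ 2) :
    ¬ ∃ r k : ℕ, r.Prime ∧ 2 * m = r ^ k := by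
  rintro ⟨r, k, hr, h⟩
  have hmodd : Odd m := hm.odd_of_ne_two hm2
  have hk0 : k ≠ 0 := by
    rintro rfl
    have := hm.two_le
    rw [pow_zero] at h
    omega
  have hr2m : r ∣ 2 * m := by rw [h]; exact dvd_pow_self r hk0
  rcases (Nat.Prime.dvd_mul hr).1 hr2m with h1 | h1
  · have hr2 : r = 2 := (Nat.prime_dvd_prime_iff_eq hr Nat.prime_two).1 h1
    subst hr2
    have : m ∣ 2 ^ k := by rw [← h]; exact dvd_mul_left m 2
    have := (Nat.prime_dvd_prime_iff_eq hm Nat.prime_two).1 (hm.dvd_of_dvd_pow this)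
    exact hm2 this
  · have hrm : r = m := (Nat.prime_dvd_prime_iff_eq hr hm).1 h1
    subst hrm
    have : 2 ∣ r ^ k := by rw [← h]; exact dvd_mul_right 2 r
    have := (Nat.prime_dvd_prime_iff_eq Nat.prime_two hr).1 (Nat.prime_two.dvd_of_dvd_pow this)
    exact hm2 this.symm

theorem not_perfect_pow_two_mul {m : ℕ} (hm : m.Prime) (hm2 : m ≠ 2) :
    ¬ ∃ d k : ℕ, 2 ≤ d ∧ 2 ≤ k ∧ 2 * m = d ^ k := by
  rintro ⟨d, k, hd, hk, h⟩
  have hmodd : Odd m := hm.odd_of_ne_two hm2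
  have hp : (d.minFac).Prime := Nat.minFac_prime (by omega)
  obtain ⟨p, hpdef⟩ : ∃ p, p = d.minFac := ⟨_, rfl⟩
  rw [← hpdef] at hp
  have hpd : p ∣ d := by rw [hpdef]; exact Nat.minFac_dvd d
  have hpp : p * p ∣ 2 * m := by
    rw [h]
    have h1 : p ^ 2 ∣ d ^ 2 := pow_dvd_pow_of_dvd hpd 2
    have h2 : d ^ 2 ∣ d ^ k := pow_dvd_pow d hk
    rw [← sq]
    exact h1.trans h2
  have hp2m : p ∣ 2 * m := (dvd_mul_right p p).trans hpp
  rcases (Nat.Prime.dvd_mul hp).1 hp2m with h1 | h1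
  · have hp2 : p = 2 := (Nat.prime_dvd_prime_iff_eq hp Nat.prime_two).1 h1
    subst hp2
    obtain ⟨c, hc⟩ := hpp
    obtain ⟨b, hb⟩ := hmodd
    omega
  · have hpm : p = m := (Nat.prime_dvd_prime_iff_eq hp hm).1 h1
    subst hpm
    obtain ⟨c, hc⟩ := hpp
    have h3 : 2 = p * c := by
      have hpos := hp.pos
      have : p * 2 = p * (p * c) := by rw [← mul_assoc, ← hc, mul_comm]
      exact Nat.eq_of_mul_eq_mul_left hpos this
    have : p ∣ 2 := ⟨c, h3⟩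
    have := (Nat.prime_dvd_prime_iff_eq hp Nat.prime_two).1 this
    exact hm2 this

theorem matrixSet_mono {N H : Subgroup (GL (Fin n) F)} (h : N ≤ H) : matrixSet N ⊆ matrixSet H := by
  intro s hs
  obtain ⟨g, hg, rfl⟩ := mem_matrixSet_iff.1 hs
  exact coe_mem_matrixSet (h hg)

/-! ## the generic theorem -/

/-- Aschbacher's theorem for groups of isometries of a symplectic form in dimension `2m`, `m` an odd prime. -/
theorem asch_sp [Fintype F] (hp : SpPieces n F) {m : ℕ} (hm : m.Prime) (hm2 : m ≠ 2) (hn : n = 2 * m)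
    (f : (Fin n → F) → (Fin n → F) → F) (hf : IsSymplecticForm f) (H : Subgroup (GL (Fin n) F))
    (hfix : FixesForm (matrixSet H) f) : SpConcl m f H := by
  have hmodd : Odd m := hm.odd_of_ne_two hm2
  have hm3 : 3 ≤ m := by
    have := hm.two_le
    omega
  have hn2 : 2 ≤ n := by omega
  have hq2 : 2 ≤ Fintype.card F := Fintype.one_lt_card
  -- Step 1: reducible
  by_cases hirr : ActsIrreducibly (matrixSet H)
  swap
  · rcases hp.reducible f hf H hfix hirr with ⟨W, h0, hts, hle⟩ | ⟨W, h0, hnd, hdim, hle⟩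
    · exact Or.inl ⟨W, h0, hts, hle⟩
    · refine Or.inr (Or.inl ⟨W, h0, hnd, ?_, hle⟩)
      obtain ⟨a, ha⟩ := hp.evenRank f hf W hnd
      obtain ⟨b, hb⟩ := hmodd
      omega
  -- the exits
  have exitQ : ¬ Odd (Fintype.card F) → QuadExit f H → SpConcl m f H := by
    rintro ho ⟨Q, hQ, hpol, hle⟩
    exact Or.inr (Or.inr (Or.inr (Or.inr (Or.inr (Or.inr (Or.inr (Or.inr (Or.inl ⟨ho, Q, hQ, hpol, hle⟩))))))))
  have exitD : ∀ (t k : ℕ) (D : Fin t → Submodule F (Fin n → F)), IsNondegenerateMDecomposition f k D →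
      t * k = n → H ≤ decompositionStabilizer D → SpConcl m f H := by
    intro t k D hD htk hle
    have ht2 := hD.decomp.two_le
    have hev : Even k := by
      have h1 := hp.evenRank f hf (D ⟨0, by omega⟩) (hD.nondegenerate _)
      rwa [hD.decomp.finrank_eq] at h1
    obtain ⟨a, ha⟩ := hev
    have hta : t * a = m := by
      subst ha
      have : t * (a + a) = 2 * (t * a) := by ring
      omega
    have htm : t ∣ m := ⟨a, hta.symm⟩
    have ht : t = m := by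
      rcases (Nat.dvd_prime hm).1 htm with h | h
      · omega
      · exact h
    have ha1 : a = 1 := by
      subst ht
      have hpos := hm.pos
      have : t * a = t * 1 := by rw [hta, mul_one]
      exact Nat.eq_of_mul_eq_mul_left hpos this
    subst ha1
    subst ht
    subst ha
    by_cases hq : 3 ≤ Fintype.card F
    · exact Or.inr (Or.inr (Or.inl ⟨hq, D, hD, hle⟩))
    · have hq2' : Fintype.card F = 2 := by omega
      exact exitQ (by rw [hq2']; decide) (hp.evenDecomp hq2' f hf D hD H hfix hle)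
  have exitP : ∀ (k : ℕ) (D : Fin 2 → Submodule F (Fin n → F)), IsMDecomposition k D → 2 * k = n →
      (∀ i, IsTotallySingularFor f (D i)) → H ≤ decompositionStabilizer D → SpConcl m f H := by
    intro k D hD h2k hts hle
    have hkm : k = m := by omega
    subst hkm
    by_cases ho : Odd (Fintype.card F)
    · exact Or.inr (Or.inr (Or.inr (Or.inl ⟨ho, D, hD, hts, hle⟩)))
    · exact exitQ ho (hp.evenPair ho f hf k D hD hts H hfix hle)
  have exitK : ∀ (r : ℕ) (K : Subalgebra F (Matrix (Fin n) (Fin n) F)), r.Prime → r ∣ n →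
      IsFieldSubalgebra r K → IsAdjointClosedFor f K → H ≤ subalgebraNormalizer K → SpConcl m f H := by
    intro r K hr hrn hK hadj hle
    have hr2m : r = 2 ∨ r = m := by
      rw [hn] at hrn
      rcases (Nat.Prime.dvd_mul hr).1 hrn with h | h
      · left; exact (Nat.prime_dvd_prime_iff_eq hr Nat.prime_two).1 h
      · right; exact (Nat.prime_dvd_prime_iff_eq hr hm).1 h
    rcases hr2m with h2 | hrm
    · subst h2
      by_cases hsa : IsSelfAdjointFor f K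
      · exfalso
        have halt := hp.altOfSelfAdj f hf H hfix hirr 2 K hK hsa hle
        obtain ⟨c, hc⟩ := hp.dvdOfSelfAdj f hf 2 K hK hsa halt
        obtain ⟨b, hb⟩ := hmodd
        omega
      · by_cases ho : Odd (Fintype.card F)
        · exact Or.inr (Or.inr (Or.inr (Or.inr (Or.inr (Or.inl ⟨ho, K, hK, hadj, hsa, hle⟩)))))
        · exact exitQ ho (hp.evenField ho f hf K hK hadj hsa H hfix hle)
    · subst hrm
      have hsa := hp.adjOdd f hf r K hmodd hK hadj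
      have halt := hp.altOfSelfAdj f hf H hfix hirr r K hK hsa hle
      exact Or.inr (Or.inr (Or.inr (Or.inr (Or.inl ⟨K, hK, hsa, halt, hle⟩))))
  have exitT : Odd (Fintype.card F) → ∀ (n₁ n₂ : ℕ) (e : Fin n ≃ Fin n₁ × Fin n₂) (P : GL (Fin n) F)
      (f₁ : (Fin n₁ → F) → (Fin n₁ → F) → F) (f₂ : (Fin n₂ → F) → (Fin n₂ → F) → F), 2 ≤ n₁ → 2 ≤ n₂ →
      ((IsSymplecticForm f₁ ∧ IsSymmetricForm f₂) ∨ (IsSymmetricForm f₁ ∧ IsSymplecticForm f₂)) →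
      IsTensorFormStructure id f f₁ f₂ e P → H ≤ tensorProductSubgroup n₁ n₂ e P → SpConcl m f H := by
    intro ho n₁ n₂ e P f₁ f₂ h1 h2 hforms hT hle
    have hcard : n = n₁ * n₂ := by
      have := Fintype.card_congr e
      simpa using this
    have key : ∀ (e' : Fin n ≃ Fin 2 × Fin m) (g₁ : (Fin 2 → F) → (Fin 2 → F) → F)
        (g₂ : (Fin m → F) → (Fin m → F) → F),
        ((IsSymplecticForm g₁ ∧ IsSymmetricForm g₂) ∨ (IsSymmetricForm g₁ ∧ IsSymplecticForm g₂)) →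
        IsTensorFormStructure id f g₁ g₂ e' P → H ≤ tensorProductSubgroup 2 m e' P → SpConcl m f H := by
      intro e' g₁ g₂ hg hT' hle'
      rcases hg with ⟨hg1, hg2⟩ | ⟨hg1, hg2⟩
      · by_cases h33 : m = 3 ∧ Fintype.card F = 3
        · obtain ⟨hm33, hq3⟩ := h33
          subst hm33
          obtain ⟨D, hD, hDle⟩ := hp.tensor33 hq3 f hf e' P g₁ g₂ hg1 hg2 hT'
          exact Or.inr (Or.inr (Or.inl ⟨by omega, D, hD, hDle H hfix hle'⟩))
        · exact Or.inr (Or.inr (Or.inr (Or.inr (Or.inr (Or.inr (Or.inl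
            ⟨ho, h33, e', P, g₁, g₂, hg1, hg2, hT', hle'⟩))))))
      · exact absurd hg2 (Cfsg.Agent.Helper3.Asch.no_symplectic_of_odd hmodd g₂)
    have hprod : n₁ * n₂ = 2 * m := by rw [← hcard, hn]
    have hcases : (n₁ = 2 ∧ n₂ = m) ∨ (n₁ = m ∧ n₂ = 2) := by
      have hmpos := hm.pos
      have hmd : m ∣ n₁ * n₂ := ⟨2, by rw [hprod, mul_comm]⟩
      rcases (Nat.Prime.dvd_mul hm).1 hmd with ⟨c, hc⟩ | ⟨c, hc⟩
      · right
        have h3 : m * (c * n₂) = m * 2 := by rw [← mul_assoc, ← hc, hprod, mul_comm]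
        have h4 : c * n₂ = 2 := Nat.eq_of_mul_eq_mul_left hmpos h3
        have hc1 : c = 1 := by
          rcases Nat.eq_zero_or_pos c with h0 | h0
          · rw [h0] at h4; omega
          · by_contra hne
            have : 2 ≤ c := by omega
            nlinarith
        rw [hc1, one_mul] at h4
        rw [hc1, mul_one] at hc
        exact ⟨hc, h4⟩
      · left
        have h3 : m * (n₁ * c) = m * 2 := by
          have : m * (n₁ * c) = n₁ * (m * c) := by ring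
          rw [this, ← hc, hprod, mul_comm]
        have h4 : n₁ * c = 2 := Nat.eq_of_mul_eq_mul_left hmpos h3
        have hc1 : c = 1 := by
          rcases Nat.eq_zero_or_pos c with h0 | h0
          · rw [h0] at h4; omega
          · by_contra hne
            have : 2 ≤ c := by omega
            nlinarith
        rw [hc1, mul_one] at h4
        rw [hc1, mul_one] at hc
        exact ⟨h4, hc⟩
    rcases hcases with ⟨h1', h2'⟩ | ⟨h1', h2'⟩
    · subst h1'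
      subst h2'
      exact key e f₁ f₂ hforms hT hle
    · subst h1'
      subst h2'
      obtain ⟨hT', heq⟩ := hp.tensorSwap f _ _ e P f₁ f₂ hT
      rw [heq] at hle
      exact key _ f₂ f₁ (hforms.symm.imp And.symm And.symm) hT' hle
  -- Step 2: Clifford
  by_cases hexit : SpConcl m f H
  · exact hexit
  have hall : ∀ M : Subgroup (GL (Fin n) F), M ≤ H → Nzes H M →
      M ≤ scalars (Fin n) F ∨ ActsAbsolutelyIrreducibly (matrixSet M) := by
    intro M hMH hMnz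
    rcases hp.clifford f hf hfix hirr hMH hMnz with ⟨t, k, D, hD, htk, hle⟩ | ⟨k, D, hD, h2k, hts, hle⟩ |
      ⟨r, K, hr, hrn, hK, hadj, hle⟩ | ⟨ho, n₁, n₂, e, P, f₁, f₂, h1, h2, hforms, hT, hle⟩ | h | h
    · exact absurd (exitD t k D hD htk hle) hexit
    · exact absurd (exitP k D hD h2k hts hle) hexit
    · exact absurd (exitK r K hr hrn hK hadj hle) hexit
    · exact absurd (exitT ho n₁ n₂ e P f₁ f₂ h1 h2 hforms hT hle) hexit
    · exact Or.inl h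
    · exact Or.inr h
  have hHns : ¬ H ≤ scalars (Fin n) F := not_le_scalars_of_irred hn2 hirr
  obtain ⟨N, hNH, hNnz, hNns, hmin⟩ := exists_minimal hHns
  have hNabs : ActsAbsolutelyIrreducibly (matrixSet N) := (hall N hNH hNnz).resolve_left hNns
  have hNfix : FixesForm (matrixSet N) f := fun s hs => hfix s (matrixSet_mono hNH hs)
  by_cases hperf : ⁅N, N⁆ = N
  · -- the perfect case
    have hpp : ¬ ∃ d k : ℕ, 2 ≤ d ∧ 2 ≤ k ∧ n = d ^ k := by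
      rw [hn]; exact not_perfect_pow_two_mul hm hm2
    obtain ⟨hsimp, hnab, hcent⟩ :=
      Cfsg.Agent.Helper4.AschP.perfect_case_pp hn2 hpp hNH hNnz hNns hall hmin hperf
    by_cases hsub : ∃ F₀ : Subfield F, F₀ ≠ ⊤ ∧ RealisableOver F₀ (matrixSet N)
    · obtain ⟨F₀, h0, hr⟩ := hsub
      exact Or.inr (Or.inr (Or.inr (Or.inr (Or.inr (Or.inr (Or.inr (Or.inl
        (hp.subfield f hf hNfix hNnz hNabs F₀ h0 hr))))))))
    by_cases hQ : ∃ Q : (Fin n → F) → F, IsNondegenerateQuadraticForm Q ∧ FixesQuadForm (matrixSet N) Q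
    · obtain ⟨Q, hQ, hQfix⟩ := hQ
      by_cases ho : Odd (Fintype.card F)
      · exact absurd hQfix (hp.quadOdd ho f hf N hNfix hNabs Q hQ)
      · exact exitQ ho (hp.quadEven ho f hf hNfix hNnz hNabs Q hQ hQfix)
    by_cases hU : ∃ (σ : F ≃+* F) (g : (Fin n → F) → (Fin n → F) → F), IsUnitaryForm σ g ∧
        FixesForm (matrixSet N) g
    · obtain ⟨σ, g, hg, hgfix⟩ := hU
      exact absurd (hp.unitary f hf N hNfix hNabs σ g hg hgfix) hsub
    · refine Or.inr (Or.inr (Or.inr (Or.inr (Or.inr (Or.inr (Or.inr (Or.inr (Or.inr ⟨N, ?_, hQ, hU⟩))))))))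
      exact
        { le := hNH
          normal := hNnz
          perfect := hperf
          simple := hsimp
          nonabelian := hnab
          centralizer_scalar := hcent
          absIrred := hNabs
          no_subfield := fun F₀ h0 hr => hsub ⟨F₀, h0, hr⟩ }
  · -- the symplectic-type case: impossible
    exfalso
    have hcomm : ⁅N, N⁆ ≤ scalars (Fin n) F := by
      by_contra hc
      exact hperf (hmin _ (Subgroup.commutator_le_self N) (nzes_commutator hNnz) hc)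
    obtain ⟨r, k, hr, hnrk⟩ :=
      Cfsg.Agent.Helper6.AschComp.symplectic_type_prime_pow hn2 hNH hNnz hNns hNabs hmin hcomm
    exact not_prime_pow_two_mul hm hm2 ⟨r, k, hr, by rw [← hn]; exact hnrk⟩


/-! ## the finals -/

/-- the statement for `Sp_{2m}(F)`, `m` an odd prime, from the pieces -/
theorem final_sp [Fintype F] {m : ℕ} (hm : m.Prime) (hm2 : m ≠ 2) (hp : SpPieces (2 * m) F)
    (htr : SpTransport m (2 * m) F) (hnot : NotSp m F)
    (H : Subgroup (GL (Fin m ⊕ Fin m) F)) (hH : IsMaximalIn (spGL m F) H) :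
    (∃ W : Submodule F (Fin m ⊕ Fin m → F), W ≠ ⊥ ∧ IsTotallySingularFor (sympForm m F) W ∧
      H = subspaceStabilizer W ⊓ spGL m F) ∨
    (∃ W : Submodule F (Fin m ⊕ Fin m → F), W ≠ ⊥ ∧ IsNondegenerateOn (sympForm m F) W ∧
      Module.finrank F W < m ∧ H = subspaceStabilizer W ⊓ spGL m F) ∨
    (3 ≤ Fintype.card F ∧ ∃ D : Fin m → Submodule F (Fin m ⊕ Fin m → F),
      IsNondegenerateMDecomposition (sympForm m F) 2 D ∧ H = decompositionStabilizer D ⊓ spGL m F) ∨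
    (Odd (Fintype.card F) ∧ ∃ D : Fin 2 → Submodule F (Fin m ⊕ Fin m → F), IsMDecomposition m D ∧
      (∀ i, IsTotallySingularFor (sympForm m F) (D i)) ∧ H = decompositionStabilizer D ⊓ spGL m F) ∨
    (∃ K : Subalgebra F (Matrix (Fin m ⊕ Fin m) (Fin m ⊕ Fin m) F), IsFieldSubalgebra m K ∧
      IsSelfAdjointFor (sympForm m F) K ∧
      (∀ k ∈ K, ∀ v : (Fin m ⊕ Fin m → F), (sympForm m F) (Matrix.mulVec k v) v = 0) ∧
      H = subalgebraNormalizer K ⊓ spGL m F) ∨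
    (Odd (Fintype.card F) ∧ ∃ K : Subalgebra F (Matrix (Fin m ⊕ Fin m) (Fin m ⊕ Fin m) F),
      IsFieldSubalgebra 2 K ∧ IsAdjointClosedFor (sympForm m F) K ∧ ¬ IsSelfAdjointFor (sympForm m F) K ∧
      H = subalgebraNormalizer K ⊓ spGL m F) ∨
    (Odd (Fintype.card F) ∧ ¬ (m = 3 ∧ Fintype.card F = 3) ∧
      ∃ (e : (Fin m ⊕ Fin m) ≃ Fin 2 × Fin m) (P : GL (Fin m ⊕ Fin m) F)
        (f₁ : (Fin 2 → F) → (Fin 2 → F) → F) (f₂ : (Fin m → F) → (Fin m → F) → F),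
        IsSymplecticForm f₁ ∧ IsSymmetricForm f₂ ∧ IsTensorFormStructure id (sympForm m F) f₁ f₂ e P ∧
        H = tensorProductSubgroup 2 m e P ⊓ spGL m F) ∨
    (∃ (F₀ : Subfield F) (r : ℕ) (P : GL (Fin m ⊕ Fin m) F) (ζ : F), r.Prime ∧
      Fintype.card F = Nat.card F₀ ^ r ∧ ζ ≠ 0 ∧ IsFormRationalStructure (sympForm m F) F₀ ζ P ∧
      H = subfieldSubgroup F₀ P ⊓ spGL m F) ∨
    (¬ Odd (Fintype.card F) ∧ ∃ Q : (Fin m ⊕ Fin m → F) → F, IsNondegenerateQuadraticForm Q ∧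
      (∀ u v : (Fin m ⊕ Fin m → F), QuadraticMap.polar Q u v = (sympForm m F) u v) ∧
      H = quadSimilarityGroup Q ⊓ spGL m F) ∨
    InSymplecticResidualClass H := by
  classical
  have hm2' := hm.two_le
  have hcard : Fintype.card (Fin m ⊕ Fin m) = 2 * m := by
    simp only [Fintype.card_sum, Fintype.card_fin]
    omega
  let e : (Fin m ⊕ Fin m) ≃ Fin (2 * m) := Fintype.equivFinOfCardEq hcard
  have hcon : SpConcl m (sympForm m F) H :=
    htr.concl e H (asch_sp hp hm hm2 rfl (reF e (sympForm m F)) (htr.symplectic e) _ (htr.fixes e H hH.1.le))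
  have hfin : Module.finrank F (Fin m ⊕ Fin m → F) = 2 * m := by
    rw [Module.finrank_fintype_fun_eq_card, hcard]
  -- the form is not zero
  have hne : ∃ u v : Fin m ⊕ Fin m → F, sympForm m F u v ≠ 0 := by
    have hS := htr.symplectic e
    have hv : (Pi.single (⟨0, by omega⟩ : Fin (2 * m)) (1 : F) : Fin (2 * m) → F) ≠ 0 := by
      intro h
      have := congrFun h ⟨0, by omega⟩
      simp at this
    obtain ⟨⟨x, hx⟩, -⟩ := hS.nondegenerate _ hv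
    exact ⟨_, _, hx⟩
  rcases hcon with ⟨W, h0, hts, hle⟩ | ⟨W, h0, hnd, hdim, hle⟩ | ⟨hq, D, hD, hle⟩ | ⟨ho, D, hD, hts, hle⟩ |
    ⟨K, hK, hsa, halt, hle⟩ | ⟨ho, K, hK, hadj, hnsa, hle⟩ | ⟨ho, h33, e', P, f₁, f₂, hf₁, hf₂, hT, hle⟩ |
    ⟨F₀, r, P, ζ, hr, hc, hζ, hrat, hle⟩ | ⟨ho, Q, hQ, hpol, hle⟩ | hres
  · refine Or.inl ⟨W, h0, hts, Cfsg.Agent.Lead.AschO.eq_inf_of_le' hH hle (hnot.subspace W h0 ?_)⟩
    rintro rfl
    obtain ⟨u, v, huv⟩ := hne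
    exact huv (hts u Submodule.mem_top v Submodule.mem_top)
  · refine Or.inr (Or.inl ⟨W, h0, hnd, hdim,
      Cfsg.Agent.Lead.AschO.eq_inf_of_le' hH hle (hnot.subspace W h0 ?_)⟩)
    rintro rfl
    rw [finrank_top, hfin] at hdim
    omega
  · exact Or.inr (Or.inr (Or.inl ⟨hq, D, hD,
      Cfsg.Agent.Lead.AschO.eq_inf_of_le' hH hle (hnot.decomp 2 D hD.decomp)⟩))
  · exact Or.inr (Or.inr (Or.inr (Or.inl ⟨ho, D, hD, hts,
      Cfsg.Agent.Lead.AschO.eq_inf_of_le' hH hle (hnot.decomp m D hD)⟩)))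
  · exact Or.inr (Or.inr (Or.inr (Or.inr (Or.inl ⟨K, hK, hsa, halt,
      Cfsg.Agent.Lead.AschO.eq_inf_of_le' hH hle (hnot.field m K hm2' hK)⟩))))
  · exact Or.inr (Or.inr (Or.inr (Or.inr (Or.inr (Or.inl ⟨ho, K, hK, hadj, hnsa,
      Cfsg.Agent.Lead.AschO.eq_inf_of_le' hH hle (hnot.field 2 K (le_refl 2) hK)⟩)))))
  · exact Or.inr (Or.inr (Or.inr (Or.inr (Or.inr (Or.inr (Or.inl ⟨ho, h33, e', P, f₁, f₂, hf₁, hf₂, hT,
      Cfsg.Agent.Lead.AschO.eq_inf_of_le' hH hle (hnot.tensor 2 m (le_refl 2) hm2' e' P)⟩))))))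
  · exact Or.inr (Or.inr (Or.inr (Or.inr (Or.inr (Or.inr (Or.inr (Or.inl ⟨F₀, r, P, ζ, hr, hc, hζ, hrat,
      Cfsg.Agent.Lead.AschO.eq_inf_of_le' hH hle
        (hnot.subfield F₀ (subfield_ne_top_of_card F₀ r hr hc) P)⟩)))))))
  · exact Or.inr (Or.inr (Or.inr (Or.inr (Or.inr (Or.inr (Or.inr (Or.inr (Or.inl ⟨ho, Q, hQ, hpol,
      Cfsg.Agent.Lead.AschO.eq_inf_of_le' hH hle (hnot.quad Q hQ hpol)⟩))))))))
  · exact Or.inr (Or.inr (Or.inr (Or.inr (Or.inr (Or.inr (Or.inr (Or.inr (Or.inr hres))))))))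

/-- S5805 (`Sp_6`) from the pieces -/
theorem final6 {F : Type*} [Field F] [Fintype F] (hp : SpPieces 6 F) (htr : SpTransport 3 6 F) (hnot : NotSp 3 F) (H : Subgroup (Matrix.GeneralLinearGroup (Fin 3 ⊕ Fin 3) F)) (hH : Cfsg.Geo.IsMaximalIn (Cfsg.spGL 3 F) H) :
    (∃ W : Submodule F (Fin 3 ⊕ Fin 3 → F), W ≠ ⊥ ∧ Cfsg.Geo.IsTotallySingularFor (Cfsg.sympForm 3 F) W ∧ H = Cfsg.Geo.subspaceStabilizer W ⊓ Cfsg.spGL 3 F) ∨
    (∃ W : Submodule F (Fin 3 ⊕ Fin 3 → F), W ≠ ⊥ ∧ Cfsg.Geo.IsNondegenerateOn (Cfsg.sympForm 3 F) W ∧ Module.finrank F W < 3 ∧ H = Cfsg.Geo.subspaceStabilizer W ⊓ Cfsg.spGL 3 F) ∨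
    (3 ≤ Fintype.card F ∧ ∃ D : Fin 3 → Submodule F (Fin 3 ⊕ Fin 3 → F), Cfsg.Geo.IsNondegenerateMDecomposition (Cfsg.sympForm 3 F) 2 D ∧ H = Cfsg.Geo.decompositionStabilizer D ⊓ Cfsg.spGL 3 F) ∨
    (Odd (Fintype.card F) ∧ ∃ D : Fin 2 → Submodule F (Fin 3 ⊕ Fin 3 → F), Cfsg.Geo.IsMDecomposition 3 D ∧ (∀ i, Cfsg.Geo.IsTotallySingularFor (Cfsg.sympForm 3 F) (D i)) ∧ H = Cfsg.Geo.decompositionStabilizer D ⊓ Cfsg.spGL 3 F) ∨
    (∃ K : Subalgebra F (Matrix (Fin 3 ⊕ Fin 3) (Fin 3 ⊕ Fin 3) F), Cfsg.Geo.IsFieldSubalgebra 3 K ∧ Cfsg.Geo.IsSelfAdjointFor (Cfsg.sympForm 3 F) K ∧ (∀ k ∈ K, ∀ v : (Fin 3 ⊕ Fin 3 → F), (Cfsg.sympForm 3 F) (Matrix.mulVec k v) v = 0) ∧ H = Cfsg.Geo.subalgebraNormalizer K ⊓ Cfsg.spGL 3 F) ∨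
    (Odd (Fintype.card F) ∧ ∃ K : Subalgebra F (Matrix (Fin 3 ⊕ Fin 3) (Fin 3 ⊕ Fin 3) F), Cfsg.Geo.IsFieldSubalgebra 2 K ∧ Cfsg.Geo.IsAdjointClosedFor (Cfsg.sympForm 3 F) K ∧ ¬ Cfsg.Geo.IsSelfAdjointFor (Cfsg.sympForm 3 F) K ∧ H = Cfsg.Geo.subalgebraNormalizer K ⊓ Cfsg.spGL 3 F) ∨
    (Odd (Fintype.card F) ∧ 5 ≤ Fintype.card F ∧ ∃ (e : (Fin 3 ⊕ Fin 3) ≃ Fin 2 × Fin 3) (P : Matrix.GeneralLinearGroup (Fin 3 ⊕ Fin 3) F) (f₁ : (Fin 2 → F) → (Fin 2 → F) → F) (f₂ : (Fin 3 → F) → (Fin 3 → F) → F), Cfsg.Geo.IsSymplecticForm f₁ ∧ Cfsg.Geo.IsSymmetricForm f₂ ∧ Cfsg.Geo.IsTensorFormStructure id (Cfsg.sympForm 3 F) f₁ f₂ e P ∧ H = Cfsg.Geo.tensorProductSubgroup 2 3 e P ⊓ Cfsg.spGL 3 F) ∨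
    (∃ (F₀ : Subfield F) (r : ℕ) (P : Matrix.GeneralLinearGroup (Fin 3 ⊕ Fin 3) F) (ζ : F), r.Prime ∧ Fintype.card F = Nat.card F₀ ^ r ∧ ζ ≠ 0 ∧ Cfsg.Geo.IsFormRationalStructure (Cfsg.sympForm 3 F) F₀ ζ P ∧ H = Cfsg.Geo.subfieldSubgroup F₀ P ⊓ Cfsg.spGL 3 F) ∨
    (¬ Odd (Fintype.card F) ∧ ∃ Q : (Fin 3 ⊕ Fin 3 → F) → F, Cfsg.Geo.IsNondegenerateQuadraticForm Q ∧ (∀ u v : (Fin 3 ⊕ Fin 3 → F), QuadraticMap.polar Q u v = (Cfsg.sympForm 3 F) u v) ∧ H = Cfsg.Geo.quadSimilarityGroup Q ⊓ Cfsg.spGL 3 F) ∨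
    Cfsg.Geo.InSymplecticResidualClass H := by
  rcases final_sp (m := 3) Nat.prime_three (by norm_num) hp htr hnot H hH with h | h | h | h | h | h | h | h | h | h
  · exact Or.inl h
  · exact Or.inr (Or.inl h)
  · exact Or.inr (Or.inr (Or.inl h))
  · exact Or.inr (Or.inr (Or.inr (Or.inl h)))
  · exact Or.inr (Or.inr (Or.inr (Or.inr (Or.inl h))))
  · exact Or.inr (Or.inr (Or.inr (Or.inr (Or.inr (Or.inl h)))))
  · obtain ⟨ho, h33, rest⟩ := h
    refine Or.inr (Or.inr (Or.inr (Or.inr (Or.inr (Or.inr (Or.inl ⟨ho, ?_, rest⟩))))))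
    have hq2 : 2 ≤ Fintype.card F := Fintype.one_lt_card
    by_contra hlt
    have h4 : Fintype.card F ≠ 4 := by
      intro h4
      rw [h4] at ho
      exact absurd ho (by decide)
    have h2 : Fintype.card F ≠ 2 := by
      intro h2
      rw [h2] at ho
      exact absurd ho (by decide)
    exact h33 ⟨rfl, by omega⟩
  · exact Or.inr (Or.inr (Or.inr (Or.inr (Or.inr (Or.inr (Or.inr (Or.inl h)))))))
  · exact Or.inr (Or.inr (Or.inr (Or.inr (Or.inr (Or.inr (Or.inr (Or.inr (Or.inl h))))))))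
  · exact Or.inr (Or.inr (Or.inr (Or.inr (Or.inr (Or.inr (Or.inr (Or.inr (Or.inr h))))))))

/-- S5844 (`Sp_10`) from the pieces -/
theorem final10 {F : Type*} [Field F] [Fintype F] (hp : SpPieces 10 F) (htr : SpTransport 5 10 F) (hnot : NotSp 5 F) (H : Subgroup (Matrix.GeneralLinearGroup (Fin 5 ⊕ Fin 5) F)) (hH : Cfsg.Geo.IsMaximalIn (Cfsg.spGL 5 F) H) :
    (∃ W : Submodule F (Fin 5 ⊕ Fin 5 → F), W ≠ ⊥ ∧ Cfsg.Geo.IsTotallySingularFor (Cfsg.sympForm 5 F) W ∧ H = Cfsg.Geo.subspaceStabilizer W ⊓ Cfsg.spGL 5 F) ∨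
    (∃ W : Submodule F (Fin 5 ⊕ Fin 5 → F), W ≠ ⊥ ∧ Cfsg.Geo.IsNondegenerateOn (Cfsg.sympForm 5 F) W ∧ Module.finrank F W < 5 ∧ H = Cfsg.Geo.subspaceStabilizer W ⊓ Cfsg.spGL 5 F) ∨
    (3 ≤ Fintype.card F ∧ ∃ D : Fin 5 → Submodule F (Fin 5 ⊕ Fin 5 → F), Cfsg.Geo.IsNondegenerateMDecomposition (Cfsg.sympForm 5 F) 2 D ∧ H = Cfsg.Geo.decompositionStabilizer D ⊓ Cfsg.spGL 5 F) ∨
    (Odd (Fintype.card F) ∧ ∃ D : Fin 2 → Submodule F (Fin 5 ⊕ Fin 5 → F), Cfsg.Geo.IsMDecomposition 5 D ∧ (∀ i, Cfsg.Geo.IsTotallySingularFor (Cfsg.sympForm 5 F) (D i)) ∧ H = Cfsg.Geo.decompositionStabilizer D ⊓ Cfsg.spGL 5 F) ∨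
    (∃ K : Subalgebra F (Matrix (Fin 5 ⊕ Fin 5) (Fin 5 ⊕ Fin 5) F), Cfsg.Geo.IsFieldSubalgebra 5 K ∧ Cfsg.Geo.IsSelfAdjointFor (Cfsg.sympForm 5 F) K ∧ (∀ k ∈ K, ∀ v : (Fin 5 ⊕ Fin 5 → F), (Cfsg.sympForm 5 F) (Matrix.mulVec k v) v = 0) ∧ H = Cfsg.Geo.subalgebraNormalizer K ⊓ Cfsg.spGL 5 F) ∨
    (Odd (Fintype.card F) ∧ ∃ K : Subalgebra F (Matrix (Fin 5 ⊕ Fin 5) (Fin 5 ⊕ Fin 5) F), Cfsg.Geo.IsFieldSubalgebra 2 K ∧ Cfsg.Geo.IsAdjointClosedFor (Cfsg.sympForm 5 F) K ∧ ¬ Cfsg.Geo.IsSelfAdjointFor (Cfsg.sympForm 5 F) K ∧ H = Cfsg.Geo.subalgebraNormalizer K ⊓ Cfsg.spGL 5 F) ∨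
    (Odd (Fintype.card F) ∧ ∃ (e : (Fin 5 ⊕ Fin 5) ≃ Fin 2 × Fin 5) (P : Matrix.GeneralLinearGroup (Fin 5 ⊕ Fin 5) F) (f₁ : (Fin 2 → F) → (Fin 2 → F) → F) (f₂ : (Fin 5 → F) → (Fin 5 → F) → F), Cfsg.Geo.IsSymplecticForm f₁ ∧ Cfsg.Geo.IsSymmetricForm f₂ ∧ Cfsg.Geo.IsTensorFormStructure id (Cfsg.sympForm 5 F) f₁ f₂ e P ∧ H = Cfsg.Geo.tensorProductSubgroup 2 5 e P ⊓ Cfsg.spGL 5 F) ∨
    (∃ (F₀ : Subfield F) (r : ℕ) (P : Matrix.GeneralLinearGroup (Fin 5 ⊕ Fin 5) F) (ζ : F), r.Prime ∧ Fintype.card F = Nat.card F₀ ^ r ∧ ζ ≠ 0 ∧ Cfsg.Geo.IsFormRationalStructure (Cfsg.sympForm 5 F) F₀ ζ P ∧ H = Cfsg.Geo.subfieldSubgroup F₀ P ⊓ Cfsg.spGL 5 F) ∨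
    (¬ Odd (Fintype.card F) ∧ ∃ Q : (Fin 5 ⊕ Fin 5 → F) → F, Cfsg.Geo.IsNondegenerateQuadraticForm Q ∧ (∀ u v : (Fin 5 ⊕ Fin 5 → F), QuadraticMap.polar Q u v = (Cfsg.sympForm 5 F) u v) ∧ H = Cfsg.Geo.quadSimilarityGroup Q ⊓ Cfsg.spGL 5 F) ∨
    Cfsg.Geo.InSymplecticResidualClass H := by
  rcases final_sp (m := 5) Nat.prime_five (by norm_num) hp htr hnot H hH with h | h | h | h | h | h | h | h | h | h
  · exact Or.inl h
  · exact Or.inr (Or.inl h)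
  · exact Or.inr (Or.inr (Or.inl h))
  · exact Or.inr (Or.inr (Or.inr (Or.inl h)))
  · exact Or.inr (Or.inr (Or.inr (Or.inr (Or.inl h))))
  · exact Or.inr (Or.inr (Or.inr (Or.inr (Or.inr (Or.inl h)))))
  · obtain ⟨ho, h33, rest⟩ := h
    exact Or.inr (Or.inr (Or.inr (Or.inr (Or.inr (Or.inr (Or.inl ⟨ho, rest⟩))))))
  · exact Or.inr (Or.inr (Or.inr (Or.inr (Or.inr (Or.inr (Or.inr (Or.inl h)))))))
  · exact Or.inr (Or.inr (Or.inr (Or.inr (Or.inr (Or.inr (Or.inr (Or.inr (Or.inl h))))))))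
  · exact Or.inr (Or.inr (Or.inr (Or.inr (Or.inr (Or.inr (Or.inr (Or.inr (Or.inr h))))))))

end Cfsg.Agent.Helper1.AschSp
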