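import Mathlib
import Cfsg.Prelude.Def_GeometricClasses
import Cfsg.Agent.Helper6.AschGSpMain
import Cfsg.Agent.Helper6.AschGSpC6

/-!
# ASCH-PP-Sp (helper1): helper6's general theorem `asch_gsp` with two more facts recorded in class 6

`GSpConclD m f H` is helper6's `GSpConcl m f H` with, in the class-6 alternative, the additional conjuncts
`FixesForm (matrixSet R) f` (the symplectic-type group `R` consists of isometries) and `Fintype.card ι = 2 ^ k`
(the dimension). `symplectic_type_case_sp_dim` and `asch_gsp_dim` are helper6's proofs (Helper6/AschGSpC6,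
Helper6/AschGSpMain) with these two facts, which are available there, passed on.
-/

set_option autoImplicit false
set_option linter.unusedVariables false

namespace Cfsg.Agent.Helper1.AschPPSp

open Cfsg Cfsg.Geo Cfsg.Agent.Lead.Asch Cfsg.Agent.Helper1.AschSp Cfsg.Agent.Helper9.AschC6
  Cfsg.Agent.Helper6.AschComp Cfsg.Agent.Helper6.AschGSp
open scoped MatrixGroups Matrix Kronecker

/-- helper6's `GSpConcl` with `FixesForm (matrixSet R) f` and `Fintype.card ι = 2 ^ k` in class 6 -/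
def GSpConclD {ι : Type} [Fintype ι] [DecidableEq ι] {F : Type*} [Field F] [Fintype F] (m : ℕ)
    (f : (ι → F) → (ι → F) → F) (H : Subgroup (GL ι F)) : Prop :=
  (∃ W : Submodule F (ι → F), W ≠ ⊥ ∧ IsTotallySingularFor f W ∧ H ≤ subspaceStabilizer W) ∨
  (∃ W : Submodule F (ι → F), W ≠ ⊥ ∧ IsNondegenerateOn f W ∧ Module.finrank F W < m ∧
      H ≤ subspaceStabilizer W) ∨
  (∃ (t k : ℕ) (D : Fin t → Submodule F (ι → F)), IsNondegenerateMDecomposition f k D ∧
      H ≤ decompositionStabilizer D) ∨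
  (∃ (D : Fin 2 → Submodule F (ι → F)), Odd (Fintype.card F) ∧ IsMDecomposition m D ∧
      (∀ i, IsTotallySingularFor f (D i)) ∧ H ≤ decompositionStabilizer D) ∨
  (∃ (F₀ : Subfield F) (r : ℕ) (P : GL ι F) (ζ : F), r.Prime ∧ Fintype.card F = Nat.card F₀ ^ r ∧ ζ ≠ 0 ∧
      IsFormRationalStructure f F₀ ζ P ∧ H ≤ subfieldSubgroup F₀ P) ∨
  (∃ (R : Subgroup (GL ι F)) (p k : ℕ), IsSymplecticTypeGroup 2 R ∧
      ActsAbsolutelyIrreducibly (matrixSet R) ∧ R ≤ similarityGroup f ∧ FixesForm (matrixSet R) f ∧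
      Fintype.card ι = 2 ^ k ∧ p.Prime ∧ Odd p ∧ Fintype.card F = p ∧
      Nat.card R = 2 ^ (1 + 2 * k) ∧ Nat.card (Subgroup.center R) = 2 ∧ IsOfMinusType k R ∧
      H ≤ subgroupNormalizer R) ∨
  (∃ Q : (ι → F) → F, ¬ Odd (Fintype.card F) ∧ IsNondegenerateQuadraticForm Q ∧
      (∀ u v, QuadraticMap.polar Q u v = f u v) ∧ H ≤ quadSimilarityGroup Q) ∨
  (∃ (r : ℕ) (K : Subalgebra F (Matrix ι ι F)), r.Prime ∧ IsFieldSubalgebra r K ∧
      IsSelfAdjointFor f K ∧ (∀ k ∈ K, ∀ v, f (k *ᵥ v) v = 0) ∧ H ≤ subalgebraNormalizer K) ∨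
  (∃ K : Subalgebra F (Matrix ι ι F), Odd (Fintype.card F) ∧ IsFieldSubalgebra 2 K ∧
      IsAdjointClosedFor f K ∧ ¬ IsSelfAdjointFor f K ∧ H ≤ subalgebraNormalizer K) ∨
  (∃ (n₁ n₂ : ℕ) (e : ι ≃ Fin n₁ × Fin n₂) (P : GL ι F)
      (f₁ : (Fin n₁ → F) → (Fin n₁ → F) → F) (f₂ : (Fin n₂ → F) → (Fin n₂ → F) → F),
      Odd (Fintype.card F) ∧ 3 ≤ n₂ ∧ IsSymplecticForm f₁ ∧ IsSymmetricForm f₂ ∧
      IsTensorFormStructure id f f₁ f₂ e P ∧ H ≤ tensorProductSubgroup n₁ n₂ e P) ∨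
  (∃ (k t : ℕ) (e : ι ≃ (Fin t → Fin k)) (P : GL ι F) (f₁ : (Fin k → F) → (Fin k → F) → F),
      Odd (Fintype.card F) ∧ Odd t ∧ 3 ≤ t ∧ ¬ (Fintype.card F = 3 ∧ k = 2) ∧ IsSymplecticForm f₁ ∧
      IsTensorPowerFormStructure id f f₁ e P ∧ H ≤ tensorWreathSubgroup k t e P) ∨
  InSymplecticResidualClass H


variable {n : ℕ} {F : Type*} [Field F]

/-- **Sp-C6**: the symplectic-type case inside a symplectic group -/
theorem symplectic_type_case_sp_dim [Fintype F] (hn : 2 ≤ n) {H N : Subgroup (GL (Fin n) F)} (h : C6Hyp n F H N)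
    {f : (Fin n → F) → (Fin n → F) → F} (hf : IsSymplecticForm f) (hfix : FixesForm (matrixSet N) f) :
    (∃ p k : ℕ, IsSymplecticTypeGroup 2 N ∧ ActsAbsolutelyIrreducibly (matrixSet N) ∧ N ≤ similarityGroup f ∧
      n = 2 ^ k ∧
      p.Prime ∧ Odd p ∧ Fintype.card F = p ∧ Nat.card N = 2 ^ (1 + 2 * k) ∧ Nat.card (Subgroup.center N) = 2 ∧
      IsOfMinusType k N ∧ H ≤ subgroupNormalizer N) ∨
    (∃ (F₁ : Subfield F) (r : ℕ) (Pm : GL (Fin n) F) (ζ : F), r.Prime ∧ Fintype.card F = Nat.card F₁ ^ r ∧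
      ζ ≠ 0 ∧ IsFormRationalStructure f F₁ ζ Pm ∧ H ≤ subfieldSubgroup F₁ Pm) := by
  classical
  have hn0 : 0 < n := by omega
  haveI : NeZero n := ⟨by omega⟩
  haveI : Finite (GL (Fin n) F) := inferInstance
  obtain ⟨r, a, z, hs⟩ := c6_structure hn h
  have hsym : SymC n F N := ⟨hn0, h.abs, h.comm⟩
  have hceq := center_eq_scalars hsym
  -- the centre has exponent 2
  have hc2 : ∀ x : Subgroup.center N, x ^ 2 = 1 := by
    intro x
    have hx : ((x : N) : GL (Fin n) F) ∈ scalars (Fin n) F := by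
      have h1 : (x : N) ∈ Subgroup.center N := x.2
      have h3 : (x : N) ∈ (scalars (Fin n) F).subgroupOf N := hceq ▸ h1
      exact Subgroup.mem_subgroupOf.1 h3
    rw [scalars_eq_range] at hx
    obtain ⟨c, hc⟩ := hx
    have hcN : sc n F c ∈ N := by rw [hc]; exact (x : N).2
    have hcc := scalar_sq_of_fixes hn0 hf hfix c hcN
    have hcu : c * c = 1 := Units.ext (by rw [Units.val_mul, hcc, Units.val_one])
    apply Subtype.ext
    apply Subtype.ext
    show ((x : N) : GL (Fin n) F) ^ 2 = 1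
    rw [← hc, ← map_pow, pow_two, hcu, map_one]
  haveI hcyc : IsCyclic (Subgroup.center N) :=
    hs.cyc (Subgroup.center N) inferInstance inferInstance
  have hz2 : z ∣ 2 := by
    rw [← hs.card_center, ← IsCyclic.exponent_eq_card]
    exact Monoid.exponent_dvd_of_forall_pow_eq_one hc2
  have hzle : z ≤ 2 := Nat.le_of_dvd (by norm_num) hz2
  obtain ⟨hr2, hzeq⟩ : r = 2 ∧ z = 2 := by
    rcases hs.z_cases with ⟨hr, hz⟩ | ⟨hr, hz⟩ | ⟨hr, hz⟩
    · exfalso
      have := hs.prime.two_le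
      omega
    · exact ⟨hr, hz⟩
    · omega
  subst hr2
  subst hzeq
  have hzdvd := hs.z_dvd
  have hodd : Odd (Fintype.card F) := by
    have h1 : 1 ≤ Fintype.card F := Fintype.card_pos
    rw [Nat.odd_iff]
    omega
  have h2 : (2 : F) ≠ 0 := by
    intro h20
    have hchar : ringChar F = 2 :=
      CharP.ringChar_of_prime_eq_zero Nat.prime_two (by exact_mod_cast h20)
    have := FiniteField.even_card_of_char_two hchar
    rw [Nat.odd_iff] at hodd
    omega
  rcases field_cases 2 hzdvd with ⟨τ, q₁, m, hm, hq, hzq, hτ⟩ | ⟨p, e, hmin⟩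
  · -- subfield exit
    right
    obtain ⟨F₁, h0, hreal⟩ := realisable_of_nonminimal hn h hs τ q₁ m hm hq hzq hτ
    exact Cfsg.Agent.Helper1.AschSp.subfield_symp f hf hfix h.nzes h.abs F₁ h0 hreal
  · -- the prime field: class 6
    left
    obtain ⟨hp, hchar, hcard, hzd, hmind⟩ := hmin
    have hepos : 0 < e := by
      rcases Nat.eq_zero_or_pos e with h0 | h0
      · rw [h0, pow_zero] at hcard
        have := Fintype.one_lt_card (α := F)
        omega
      · exact h0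
    have hpodd : Odd p := by
      rcases hp.eq_two_or_odd' with hp2 | hpo
      · exfalso
        rw [hcard, hp2] at hodd
        have : Even (2 ^ e) := (Nat.even_pow' hepos.ne').2 even_two
        exact (Nat.not_odd_iff_even.2 this) hodd
      · exact hpo
    have he1 : e = 1 := by
      by_contra hne
      have h1 : 1 < e := by omega
      apply hmind 1 (by norm_num) h1
      rw [pow_one]
      obtain ⟨k, hk⟩ := hpodd
      exact ⟨k, by omega⟩
    rw [he1, pow_one] at hcard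
    refine ⟨p, a, ⟨hs.prime, hs.pgroup, hs.cyc, hs.exponent⟩, h.abs, ?_, hs.dim, hp, hpodd, hcard, ?_, hs.card_center, ?_,
      Cfsg.Agent.Helper6.AschGen.le_subgroupNormalizer_of_nzes h.nzes⟩
    · -- N ≤ similarityGroup f
      intro g hg
      refine ⟨1, fun u v => ?_⟩
      rw [Units.val_one, one_mul]
      exact hfix _ (mem_matrixSet_iff.2 ⟨g, hg, rfl⟩) u v
    · rw [hs.card, pow_add, pow_one]
    · exact isOfMinusType_of_symplectic hsym h2 hf hfix hs.dim (by rw [← hceq, hs.card_center])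


/-- The general subgroup structure theorem for groups of isometries of a symplectic form in dimension `n = 2m`. -/
theorem asch_gsp_dim [Fintype F] (hp : Sp12Pieces n F) (hperfect : SpPerfectCase n F) {m : ℕ} (hnm : n = 2 * m)
    (hm : 2 ≤ m) (f : (Fin n → F) → (Fin n → F) → F) (hf : IsSymplecticForm f) (H : Subgroup (GL (Fin n) F))
    (hfix : FixesForm (matrixSet H) f) : GSpConclD m f H := by
  have hq2 : 2 ≤ Fintype.card F := Fintype.one_lt_card
  have hn2 : 2 ≤ n := by omega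
  -- the exits
  have exitQ : ¬ Odd (Fintype.card F) → QuadExit f H → GSpConclD m f H := by
    rintro ho ⟨Q, hQ, hpol, hle⟩
    exact Or.inr (Or.inr (Or.inr (Or.inr (Or.inr (Or.inr (Or.inl ⟨Q, ho, hQ, hpol, hle⟩))))))
  have exitD : ∀ (t k : ℕ) (D : Fin t → Submodule F (Fin n → F)), IsNondegenerateMDecomposition f k D →
      H ≤ decompositionStabilizer D → GSpConclD m f H := by
    intro t k D hD hle
    exact Or.inr (Or.inr (Or.inl ⟨t, k, D, hD, hle⟩))
  have exitP : ∀ (k : ℕ) (D : Fin 2 → Submodule F (Fin n → F)), IsMDecomposition k D → 2 * k = n →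
      (∀ i, IsTotallySingularFor f (D i)) → H ≤ decompositionStabilizer D → GSpConclD m f H := by
    intro k D hD h2k hts hle
    have hkm : k = m := by omega
    subst hkm
    by_cases ho : Odd (Fintype.card F)
    · exact Or.inr (Or.inr (Or.inr (Or.inl ⟨D, ho, hD, hts, hle⟩)))
    · exact exitQ ho (hp.evenPair ho f hf k D hD hts H hfix hle)
  have exitNS : ∀ K : Subalgebra F (Matrix (Fin n) (Fin n) F), IsFieldSubalgebra 2 K → IsAdjointClosedFor f K →
      ¬ IsSelfAdjointFor f K → H ≤ subalgebraNormalizer K → GSpConclD m f H := by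
    intro K hK hadj hnsa hle
    by_cases ho : Odd (Fintype.card F)
    · exact Or.inr (Or.inr (Or.inr (Or.inr (Or.inr (Or.inr (Or.inr (Or.inr (Or.inl
        ⟨K, ho, hK, hadj, hnsa, hle⟩))))))))
    · exact exitQ ho (hp.evenField ho f hf K hK hadj hnsa H hfix hle)
  -- Step 1: reducible
  by_cases hirr : ActsIrreducibly (matrixSet H)
  swap
  · rcases hp.reducibleG f hf H hfix hirr with ⟨W, h0, hts, hle⟩ | ⟨W, h0, hnd, hdim, hle⟩ | ⟨k, D, hD, h2k, hle⟩
    · exact Or.inl ⟨W, h0, hts, hle⟩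
    · exact Or.inr (Or.inl ⟨W, h0, hnd, by omega, hle⟩)
    · exact exitD 2 k D hD hle
  have exitK : ∀ (r : ℕ) (K : Subalgebra F (Matrix (Fin n) (Fin n) F)), r.Prime →
      IsFieldSubalgebra r K → IsAdjointClosedFor f K → H ≤ subalgebraNormalizer K → GSpConclD m f H := by
    intro r K hr hK hadj hle
    by_cases hsa : IsSelfAdjointFor f K
    · have halt := hp.altOfSelfAdj f hf H hfix hirr r K hK hsa hle
      exact Or.inr (Or.inr (Or.inr (Or.inr (Or.inr (Or.inr (Or.inr (Or.inl ⟨r, K, hr, hK, hsa, halt, hle⟩)))))))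
    · rcases hr.eq_two_or_odd' with rfl | hodd
      · exact exitNS K hK hadj hsa hle
      · exact absurd (hp.adjOdd f hf r K hodd hK hadj) hsa
  have exitT : Odd (Fintype.card F) → ∀ (n₁ n₂ : ℕ) (e : Fin n ≃ Fin n₁ × Fin n₂) (P : GL (Fin n) F)
      (f₁ : (Fin n₁ → F) → (Fin n₁ → F) → F) (f₂ : (Fin n₂ → F) → (Fin n₂ → F) → F), 2 ≤ n₁ → 2 ≤ n₂ →
      ((IsSymplecticForm f₁ ∧ IsSymmetricForm f₂) ∨ (IsSymmetricForm f₁ ∧ IsSymplecticForm f₂)) →
      IsTensorFormStructure id f f₁ f₂ e P → H ≤ tensorProductSubgroup n₁ n₂ e P → GSpConclD m f H := by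
    intro ho n₁ n₂ e P f₁ f₂ h1 h2 hforms hT hle
    have key : ∀ (k₁ k₂ : ℕ) (e' : Fin n ≃ Fin k₁ × Fin k₂) (g₁ : (Fin k₁ → F) → (Fin k₁ → F) → F)
        (g₂ : (Fin k₂ → F) → (Fin k₂ → F) → F), 2 ≤ k₁ → 2 ≤ k₂ → IsSymplecticForm g₁ → IsSymmetricForm g₂ →
        IsTensorFormStructure id f g₁ g₂ e' P → H ≤ tensorProductSubgroup k₁ k₂ e' P → GSpConclD m f H := by
      intro k₁ k₂ e' g₁ g₂ hk1 hk2 hg1 hg2 hT' hle'
      have hcard : n = k₁ * k₂ := by
        have := Fintype.card_congr e'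
        simpa using this
      rcases Nat.lt_or_ge k₂ 3 with hlt | hge
      · have hk22 : k₂ = 2 := by omega
        subst hk22
        have hk1m : k₁ = m := by omega
        rcases hp.tensorO2 ho f hf k₁ e' P g₁ g₂ hg1 hg2 hT' H hfix hle' with ⟨D, hD, hts, hDle⟩ |
          ⟨K, hK, hadj, hnsa, hKle⟩
        · exact exitP k₁ D hD (by omega) hts hDle
        · exact exitNS K hK hadj hnsa hKle
      · exact Or.inr (Or.inr (Or.inr (Or.inr (Or.inr (Or.inr (Or.inr (Or.inr (Or.inr (Or.inl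
          ⟨k₁, k₂, e', P, g₁, g₂, ho, hge, hg1, hg2, hT', hle'⟩)))))))))
    rcases hforms with ⟨hf1, hf2⟩ | ⟨hf1, hf2⟩
    · exact key n₁ n₂ e f₁ f₂ h1 h2 hf1 hf2 hT hle
    · obtain ⟨hT', heq⟩ := hp.tensorSwap f _ _ e P f₁ f₂ hT
      rw [heq] at hle
      exact key n₂ n₁ _ f₂ f₁ h2 h1 hf2 hf1 hT' hle
  -- Step 2: Clifford
  by_cases hexit : GSpConclD m f H
  · exact hexit
  have hall : ∀ M : Subgroup (GL (Fin n) F), M ≤ H → Nzes H M →
      M ≤ scalars (Fin n) F ∨ ActsAbsolutelyIrreducibly (matrixSet M) := by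
    intro M hMH hMnz
    rcases hp.cliffordG f hf hfix hirr hMH hMnz with ⟨t, k, D, hD, htk, hle⟩ | ⟨k, D, hD, h2k, hts, hle⟩ |
      ⟨r, K, hr, hrn, hK, hadj, hle⟩ | ⟨ho, n₁, n₂, e, P, f₁, f₂, h1, h2, hforms, hT, hle⟩ | ⟨ho, hQ⟩ | h | h
    · exact absurd (exitD t k D hD hle) hexit
    · exact absurd (exitP k D hD h2k hts hle) hexit
    · exact absurd (exitK r K hr hK hadj hle) hexit
    · exact absurd (exitT ho n₁ n₂ e P f₁ f₂ h1 h2 hforms hT hle) hexit
    · exact absurd (exitQ ho hQ) hexit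
    · exact Or.inl h
    · exact Or.inr h
  have hHns : ¬ H ≤ scalars (Fin n) F := not_le_scalars_of_irred hn2 hirr
  obtain ⟨N, hNH, hNnz, hNns, hmin⟩ := exists_minimal hHns
  have hNabs : ActsAbsolutelyIrreducibly (matrixSet N) := (hall N hNH hNnz).resolve_left hNns
  have hNfix : FixesForm (matrixSet N) f := fun s hs => hfix s (matrixSet_mono hNH hs)
  by_cases hperf : ⁅N, N⁆ = N
  · -- the perfect case
    rcases hperfect f hf hfix hNH hNnz hNns hall hmin hperf with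
      ⟨ho, k, t, e, P, f₁, hto, ht3, hex, hf₁, hT, hle⟩ | ⟨ho, hQ⟩ | ⟨hsimp, hnab, hcent⟩
    · exact Or.inr (Or.inr (Or.inr (Or.inr (Or.inr (Or.inr (Or.inr (Or.inr (Or.inr (Or.inr (Or.inl
        ⟨k, t, e, P, f₁, ho, hto, ht3, hex, hf₁, hT, hle⟩))))))))))
    · exact exitQ ho hQ
    by_cases hsub : ∃ F₀ : Subfield F, F₀ ≠ ⊤ ∧ RealisableOver F₀ (matrixSet N)
    · obtain ⟨F₀, h0, hr⟩ := hsub
      exact Or.inr (Or.inr (Or.inr (Or.inr (Or.inl (hp.subfield f hf hNfix hNnz hNabs F₀ h0 hr)))))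
    by_cases hQ : ∃ Q : (Fin n → F) → F, IsNondegenerateQuadraticForm Q ∧ FixesQuadForm (matrixSet N) Q
    · obtain ⟨Q, hQ, hQfix⟩ := hQ
      by_cases ho : Odd (Fintype.card F)
      · exact absurd hQfix (hp.quadOdd ho f hf N hNfix hNabs Q hQ)
      · exact exitQ ho (hp.quadEven ho f hf hNfix hNnz hNabs Q hQ hQfix)
    by_cases hU : ∃ (σ : F ≃+* F) (g : (Fin n → F) → (Fin n → F) → F), IsUnitaryForm σ g ∧
        FixesForm (matrixSet N) g
    · obtain ⟨σ, g, hg, hgfix⟩ := hU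
      exact absurd (hp.unitary f hf N hNfix hNabs σ g hg hgfix) hsub
    · refine Or.inr (Or.inr (Or.inr (Or.inr (Or.inr (Or.inr (Or.inr (Or.inr (Or.inr (Or.inr (Or.inr
        ⟨N, ?_, hQ, hU⟩))))))))))
      exact
        { le := hNH
          normal := hNnz
          perfect := hperf
          simple := hsimp
          nonabelian := hnab
          centralizer_scalar := hcent
          absIrred := hNabs
          no_subfield := fun F₀ h0 hr => hsub ⟨F₀, h0, hr⟩ }
  · -- the symplectic-type case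
    have hcomm : ⁅N, N⁆ ≤ scalars (Fin n) F := by
      by_contra hc
      exact hperf (hmin _ (Subgroup.commutator_le_self N) (nzes_commutator hNnz) hc)
    rcases symplectic_type_case_sp_dim hn2 (H := H) (N := N) ⟨hNH, hNnz, hNns, hNabs, hmin, hcomm⟩ hf hNfix with
      ⟨p, k, h1, h2, h3, hdim, h4, h5, h6, h7, h8, h9, h10⟩ | hsub
    · exact Or.inr (Or.inr (Or.inr (Or.inr (Or.inr (Or.inl ⟨N, p, k, h1, h2, h3, hNfix,
        by rw [Fintype.card_fin]; exact hdim, h4, h5, h6, h7, h8, h9, h10⟩)))))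
    · exact Or.inr (Or.inr (Or.inr (Or.inr (Or.inl hsub))))


end Cfsg.Agent.Helper1.AschPPSp
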