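import Mathlib
import Cfsg.Prelude.Def_GeometricClasses
import Cfsg.Agent.Helper6.AschGSpTr
import Cfsg.Agent.Helper1.AschGSpDim

/-!
# ASCH-PP-Sp (helper1): transport of `GSpConclD` along a bijection of index types

Helper6's `gspConcl_of_map` (Helper6/AschGSpTr) with the two extra conjuncts of class 6.
-/

set_option autoImplicit false
set_option linter.unusedVariables false

namespace Cfsg.Agent.Helper1.AschPPSp

open Cfsg Cfsg.Geo Cfsg.Agent.Lead.Asch Cfsg.Agent.Helper1.AschSp Cfsg.Agent.Helper2.AschTr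
  Cfsg.Agent.Helper6.AschGSp
open scoped MatrixGroups Matrix Kronecker

variable {ι κ : Type} [Fintype ι] [DecidableEq ι] [Fintype κ] [DecidableEq κ] {F : Type*} [Field F]

/-- the pull-back of a group fixing the transported form fixes the form -/
theorem fixesForm_pb (e : ι ≃ κ) {R' : Subgroup (GL κ F)} {f : (ι → F) → (ι → F) → F}
    (h : FixesForm (matrixSet R') (pf e f)) : FixesForm (matrixSet (pb e R')) f := by
  intro s hs u v
  obtain ⟨g, hg, rfl⟩ := hs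
  have h1 := h _ ⟨glReindex e g, (mem_pb e).1 hg, rfl⟩ ((th e).symm u) ((th e).symm v)
  unfold pf at h1
  rw [th_mulVec, th_mulVec, LinearEquiv.apply_symm_apply, LinearEquiv.apply_symm_apply] at h1
  exact h1

/-- class 6 with the two extra conjuncts -/
theorem pull_class6_dim (e : ι ≃ κ) {f : (ι → F) → (ι → F) → F} {H : Subgroup (GL ι F)} {q : ℕ}
    (h : ∃ (R : Subgroup (GL κ F)) (p k : ℕ), IsSymplecticTypeGroup 2 R ∧
      ActsAbsolutelyIrreducibly (matrixSet R) ∧ R ≤ similarityGroup (pf e f) ∧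
      FixesForm (matrixSet R) (pf e f) ∧ Fintype.card κ = 2 ^ k ∧ p.Prime ∧ Odd p ∧ q = p ∧
      Nat.card R = 2 ^ (1 + 2 * k) ∧ Nat.card (Subgroup.center R) = 2 ∧ IsOfMinusType k R ∧
      H.map (glReindex e : GL ι F ≃* GL κ F).toMonoidHom ≤ subgroupNormalizer R) :
    ∃ (R : Subgroup (GL ι F)) (p k : ℕ), IsSymplecticTypeGroup 2 R ∧
      ActsAbsolutelyIrreducibly (matrixSet R) ∧ R ≤ similarityGroup f ∧ FixesForm (matrixSet R) f ∧
      Fintype.card ι = 2 ^ k ∧ p.Prime ∧ Odd p ∧ q = p ∧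
      Nat.card R = 2 ^ (1 + 2 * k) ∧ Nat.card (Subgroup.center R) = 2 ∧ IsOfMinusType k R ∧
      H ≤ subgroupNormalizer R := by
  obtain ⟨R', p, k, hst, habs, hsim, hfix, hdim, hp, hpo, hq, hcard, hcen, hminus, hle⟩ := h
  refine ⟨pb e R', p, k, isSymplecticTypeGroup_of_mulEquiv (pbEquiv e R') hst,
    actsAbsolutelyIrreducibly_pb e habs, ?_, fixesForm_pb e hfix, by rw [Fintype.card_congr e]; exact hdim,
    hp, hpo, hq, ?_, ?_, isOfMinusType_of_mulEquiv (pbEquiv e R') hminus, ?_⟩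
  · intro g hg
    obtain ⟨c, hc⟩ := hsim ((mem_pb e).1 hg)
    refine ⟨c, fun u v => ?_⟩
    have h1 := hc ((th e).symm u) ((th e).symm v)
    unfold pf at h1
    rw [th_mulVec, th_mulVec, LinearEquiv.apply_symm_apply, LinearEquiv.apply_symm_apply] at h1
    exact h1
  · rw [Nat.card_congr (pbEquiv e R').toEquiv]; exact hcard
  · rw [Nat.card_congr (Subgroup.centerCongr (pbEquiv e R')).toEquiv]; exact hcen
  · intro g hg
    have h1 := hle ⟨g, hg, rfl⟩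
    unfold subgroupNormalizer at h1 ⊢
    rw [Subgroup.mem_normalizer_iff] at h1 ⊢
    intro y
    have h2 := h1 (glReindex e y)
    show glReindex e y ∈ R' ↔ glReindex e (g * y * g⁻¹) ∈ R'
    rw [map_mul, map_mul, map_inv]
    exact h2

/-- transport of the conclusion `GSpConclD` along a bijection of index types -/
theorem gspConclD_of_map [Fintype F] (m : ℕ) (e : ι ≃ κ) (f : (ι → F) → (ι → F) → F) (H : Subgroup (GL ι F))
    (h : GSpConclD m (pf e f) (H.map (glReindex e : GL ι F ≃* GL κ F).toMonoidHom)) : GSpConclD m f H := by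
  rcases h with h | h | ⟨t, k, h⟩ | ⟨D, hq, hD, hts, hle⟩ | h | h | ⟨Q, hq, hQ, hpol, hle⟩ | ⟨r, K, hr, h⟩ |
    ⟨K, hq, h⟩ | ⟨n₁, n₂, e', P, f₁, f₂, hq, hn₂, h⟩ | ⟨k, t, e', P, f₁, hq, ht, ht3, hq3, h⟩ | h
  · exact Or.inl (pull_ts e h)
  · exact Or.inr (Or.inl (pull_nondegSub e (· < m) h))
  · obtain ⟨D, hD⟩ := pull_nondegDecomp e h
    exact Or.inr (Or.inr (Or.inl ⟨t, k, D, hD⟩))
  · obtain ⟨D', hD', hts', hle'⟩ := pull_tsPair e ⟨D, hD, hts, hle⟩
    exact Or.inr (Or.inr (Or.inr (Or.inl ⟨D', hq, hD', hts', hle'⟩)))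
  · exact Or.inr (Or.inr (Or.inr (Or.inr (Or.inl (pull_subfield e h)))))
  · exact Or.inr (Or.inr (Or.inr (Or.inr (Or.inr (Or.inl (pull_class6_dim e h))))))
  · obtain ⟨Q', hQ', hpol', hle'⟩ := pull_quad e ⟨Q, hQ, hpol, hle⟩
    exact Or.inr (Or.inr (Or.inr (Or.inr (Or.inr (Or.inr (Or.inl ⟨Q', hq, hQ', hpol', hle'⟩))))))
  · obtain ⟨K', hK'⟩ := pull_fieldSelfAdj e ⟨K, h⟩
    exact Or.inr (Or.inr (Or.inr (Or.inr (Or.inr (Or.inr (Or.inr (Or.inl ⟨r, K', hr, hK'⟩)))))))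
  · obtain ⟨K', hK'⟩ := pull_fieldAdjClosed e ⟨K, h⟩
    exact Or.inr (Or.inr (Or.inr (Or.inr (Or.inr (Or.inr (Or.inr (Or.inr (Or.inl ⟨K', hq, hK'⟩))))))))
  · obtain ⟨e'', P', g₁, g₂, h'⟩ := pull_tensor e id IsSymplecticForm IsSymmetricForm ⟨e', P, f₁, f₂, h⟩
    exact Or.inr (Or.inr (Or.inr (Or.inr (Or.inr (Or.inr (Or.inr (Or.inr (Or.inr (Or.inl
      ⟨n₁, n₂, e'', P', g₁, g₂, hq, hn₂, h'⟩)))))))))
  · obtain ⟨e'', P', g₁, h'⟩ := pull_tensorWreath e id IsSymplecticForm ⟨e', P, f₁, h⟩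
    exact Or.inr (Or.inr (Or.inr (Or.inr (Or.inr (Or.inr (Or.inr (Or.inr (Or.inr (Or.inr (Or.inl
      ⟨k, t, e'', P', g₁, hq, ht, ht3, hq3, h'⟩))))))))))
  · exact Or.inr (Or.inr (Or.inr (Or.inr (Or.inr (Or.inr (Or.inr (Or.inr (Or.inr (Or.inr (Or.inr
      (pull_residual e h)))))))))))

end Cfsg.Agent.Helper1.AschPPSp
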