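import Mathlib
import Cfsg.Prelude.Def_GeometricClasses
import Cfsg.Agent.Helper2.AschTrE
import Cfsg.Agent.Helper6.AschGSpBase

/-!
# ASCH-GEN-Sp (helper6 leads, S5662): transport of `GSpConcl` along a bijection of index types (helper1)

`gspConcl_of_map`, from helper2's per-alternative pull-backs `Cfsg.Agent.Helper2.AschTr.pull_*` and the new
pull-back `pull_class6` of the class-6 alternative (normaliser of a symplectic-type 2-group of minus type).
-/

set_option autoImplicit false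
set_option linter.unusedVariables false
set_option linter.unusedSectionVars false

namespace Cfsg.Agent.Helper1.AschSp

open Cfsg Cfsg.Geo Cfsg.Agent.Helper2.AschTr Cfsg.Agent.Helper6.AschGSp
open scoped MatrixGroups Matrix Kronecker

section Abstract

variable {G G' : Type*} [Group G] [Group G']

/-- the clause "characteristic abelian subgroups are cyclic" transports along an isomorphism -/
theorem cyc_char_of_mulEquiv (φ : G ≃* G')
    (hG' : ∀ A : Subgroup G', A.Characteristic → IsMulCommutative A → IsCyclic A)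
    (B : Subgroup G) (hB : B.Characteristic) (hBc : IsMulCommutative B) : IsCyclic B := by
  obtain ⟨A, hAdef⟩ : ∃ A : Subgroup G', A = B.map φ.toMonoidHom := ⟨_, rfl⟩
  have hA : ∀ x', x' ∈ A ↔ φ.symm x' ∈ B := fun x' => by rw [hAdef]; exact Subgroup.mem_map_equiv
  have hAchar : A.Characteristic := by
    rw [Subgroup.characteristic_iff_comap_eq]
    intro ψ
    ext x'
    rw [Subgroup.mem_comap, hA, hA]
    have h := Subgroup.characteristic_iff_comap_eq.1 hB ((φ.trans ψ).trans φ.symm)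
    have h' : φ.symm x' ∈ B.comap ((φ.trans ψ).trans φ.symm).toMonoidHom ↔ φ.symm x' ∈ B := by rw [h]
    simpa using h'
  have hAc : IsMulCommutative A := ⟨⟨fun a b => by
    apply Subtype.ext
    have ha := (hA a).1 a.2
    have hb := (hA b).1 b.2
    have h := congrArg Subtype.val (hBc.is_comm.comm ⟨_, ha⟩ ⟨_, hb⟩)
    have h2 := congrArg φ h
    simpa using h2⟩⟩
  haveI hcyc : IsCyclic A := hG' A hAchar hAc
  obtain ⟨⟨g, hgA⟩, hg⟩ := hcyc.exists_generator
  refine ⟨⟨⟨φ.symm g, (hA g).1 hgA⟩, fun x => ?_⟩⟩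
  have hx : φ (x : G) ∈ A := (hA _).2 (by rw [MulEquiv.symm_apply_apply]; exact x.2)
  obtain ⟨k, hk⟩ := Subgroup.mem_zpowers_iff.1 (hg ⟨φ x, hx⟩)
  refine Subgroup.mem_zpowers_iff.2 ⟨k, ?_⟩
  apply Subtype.ext
  have h3 := congrArg Subtype.val hk
  have h4 : g ^ k = φ (x : G) := by simpa using h3
  have h5 := congrArg φ.symm h4
  rw [map_zpow, MulEquiv.symm_apply_apply] at h5
  simpa using h5

/-- minus type transports along an isomorphism of ambient groups and subgroups -/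
theorem isOfMinusType_of_mulEquiv {k : ℕ} {R : Subgroup G} {R' : Subgroup G'} (φ : R ≃* R')
    (h : IsOfMinusType k R') : IsOfMinusType k R := by
  intro A hAc hAinv
  obtain ⟨A', hA'def⟩ : ∃ A' : Subgroup R', A' = A.map φ.toMonoidHom := ⟨_, rfl⟩
  have hA' : ∀ x', x' ∈ A' ↔ φ.symm x' ∈ A := fun x' => by rw [hA'def]; exact Subgroup.mem_map_equiv
  have hA'c : IsMulCommutative A' := ⟨⟨fun a b => by
    apply Subtype.ext
    have ha := (hA' a).1 a.2
    have hb := (hA' b).1 b.2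
    have h := congrArg Subtype.val (hAc.is_comm.comm ⟨_, ha⟩ ⟨_, hb⟩)
    have h2 := congrArg φ h
    simpa using h2⟩⟩
  have hA'inv : ∀ x' ∈ A', x' * x' = 1 := by
    intro x' hx'
    have h1 := hAinv _ ((hA' x').1 hx')
    have h2 := congrArg φ h1
    simpa using h2
  have hcard : Nat.card A = Nat.card A' := by
    rw [hA'def]
    exact Nat.card_congr (φ.subgroupMap A).toEquiv
  rw [hcard]
  exact h A' hA'c hA'inv

end Abstract

variable {F : Type*} [Field F]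
variable {ι κ : Type} [Fintype ι] [DecidableEq ι] [Fintype κ] [DecidableEq κ]

/-- the pull-back of a subgroup of the similarity group of the transported form -/
theorem pb_le_similarityGroup (e : ι ≃ κ) {f : (ι → F) → (ι → F) → F} {R' : Subgroup (GL κ F)}
    (h : R' ≤ similarityGroup (pf e f)) : pb e R' ≤ similarityGroup f := by
  intro g hg
  obtain ⟨c, hc⟩ := h ((mem_pb e).1 hg)
  refine ⟨c, fun u v => ?_⟩
  have h1 := hc ((th e).symm u) ((th e).symm v)
  unfold pf at h1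
  rw [th_mulVec, th_mulVec, LinearEquiv.apply_symm_apply, LinearEquiv.apply_symm_apply] at h1
  exact h1

/-- the normaliser of the pull-back -/
theorem le_subgroupNormalizer_of_map (e : ι ≃ κ) {H : Subgroup (GL ι F)} {R' : Subgroup (GL κ F)}
    (h : H.map (glReindex e : GL ι F ≃* GL κ F).toMonoidHom ≤ subgroupNormalizer R') :
    H ≤ subgroupNormalizer (pb e R') := by
  intro g hg
  have h1 : glReindex e g ∈ subgroupNormalizer R' := h ⟨g, hg, rfl⟩
  unfold subgroupNormalizer at h1 ⊢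
  rw [Subgroup.mem_normalizer_iff] at h1 ⊢
  intro x
  have h2 := h1 (glReindex e x)
  rw [← map_inv, ← map_mul, ← map_mul] at h2
  exact h2

/-- class 6: the normaliser of a symplectic-type 2-group of minus type -/
theorem pull_class6 [Fintype F] (e : ι ≃ κ) {f : (ι → F) → (ι → F) → F} {H : Subgroup (GL ι F)}
    (h : ∃ (R : Subgroup (GL κ F)) (p k : ℕ), IsSymplecticTypeGroup 2 R ∧
      ActsAbsolutelyIrreducibly (matrixSet R) ∧ R ≤ similarityGroup (pf e f) ∧ p.Prime ∧ Odd p ∧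
      Fintype.card F = p ∧ Nat.card R = 2 ^ (1 + 2 * k) ∧ Nat.card (Subgroup.center R) = 2 ∧
      IsOfMinusType k R ∧
      H.map (glReindex e : GL ι F ≃* GL κ F).toMonoidHom ≤ subgroupNormalizer R) :
    ∃ (R : Subgroup (GL ι F)) (p k : ℕ), IsSymplecticTypeGroup 2 R ∧
      ActsAbsolutelyIrreducibly (matrixSet R) ∧ R ≤ similarityGroup f ∧ p.Prime ∧ Odd p ∧
      Fintype.card F = p ∧ Nat.card R = 2 ^ (1 + 2 * k) ∧ Nat.card (Subgroup.center R) = 2 ∧
      IsOfMinusType k R ∧ H ≤ subgroupNormalizer R := by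
  obtain ⟨R', p, k, hsym, habs, hsim, hp, hpo, hcF, hcard, hcen, hmin, hle⟩ := h
  obtain ⟨φ, hφ⟩ : ∃ φ : pb e R' ≃* R', φ = pbEquiv e R' := ⟨_, rfl⟩
  refine ⟨pb e R', p, k, ⟨hsym.prime, hsym.pGroup.of_equiv φ.symm,
    cyc_char_of_mulEquiv φ hsym.cyclic_of_characteristic, ?_⟩, actsAbsolutelyIrreducibly_pb e habs,
    pb_le_similarityGroup e hsim, hp, hpo, hcF, ?_, ?_, isOfMinusType_of_mulEquiv φ hmin,
    le_subgroupNormalizer_of_map e hle⟩
  · rw [Monoid.exponent_eq_of_mulEquiv φ]; exact hsym.exponent_eq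
  · rw [Nat.card_congr φ.toEquiv]; exact hcard
  · rw [Nat.card_congr (Subgroup.centerCongr φ).toEquiv]; exact hcen

/-- **GSp-transport**: the conclusion of the general subgroup structure theorem for `Sp` transports back along a
bijection of the index types. -/
theorem gspConcl_of_map [Fintype F] (m : ℕ) (e : ι ≃ κ) (f : (ι → F) → (ι → F) → F) (H : Subgroup (GL ι F))
    (h : GSpConcl m (pf e f) (H.map (glReindex e : GL ι F ≃* GL κ F).toMonoidHom)) : GSpConcl m f H := by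
  rcases h with h | h | ⟨t, k, h⟩ | ⟨D, ho, hD, hts, hle⟩ | h | h | ⟨Q, hq, hQ, hpol, hle⟩ |
    ⟨r, K, hr, hK, hsa, halt, hle⟩ | ⟨K, ho, hK, hac, hnsa, hle⟩ |
    ⟨n₁, n₂, e', P, f₁, f₂, ho, h3, h₁, h₂, hT, hle⟩ | ⟨k, t, e', P, f₁, ho, hto, h3, hne, h₁, hT, hle⟩ | h
  · exact Or.inl (pull_ts e h)
  · exact Or.inr (Or.inl (pull_nondegSub e (· < m) h))
  · exact Or.inr (Or.inr (Or.inl ⟨t, k, pull_nondegDecomp e h⟩))
  · obtain ⟨D₀, hD₀, hts₀, hle₀⟩ := pull_tsPair e ⟨D, hD, hts, hle⟩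
    exact Or.inr (Or.inr (Or.inr (Or.inl ⟨D₀, ho, hD₀, hts₀, hle₀⟩)))
  · exact Or.inr (Or.inr (Or.inr (Or.inr (Or.inl (pull_subfield e h)))))
  · exact Or.inr (Or.inr (Or.inr (Or.inr (Or.inr (Or.inl (pull_class6 e h))))))
  · obtain ⟨Q₀, hQ₀, hpol₀, hle₀⟩ := pull_quad e ⟨Q, hQ, hpol, hle⟩
    exact Or.inr (Or.inr (Or.inr (Or.inr (Or.inr (Or.inr (Or.inl ⟨Q₀, hq, hQ₀, hpol₀, hle₀⟩))))))
  · obtain ⟨K₀, hK₀, hsa₀, halt₀, hle₀⟩ := pull_fieldSelfAdj e ⟨K, hK, hsa, halt, hle⟩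
    exact Or.inr (Or.inr (Or.inr (Or.inr (Or.inr (Or.inr (Or.inr (Or.inl
      ⟨r, K₀, hr, hK₀, hsa₀, halt₀, hle₀⟩)))))))
  · obtain ⟨K₀, hK₀, hac₀, hnsa₀, hle₀⟩ := pull_fieldAdjClosed e ⟨K, hK, hac, hnsa, hle⟩
    exact Or.inr (Or.inr (Or.inr (Or.inr (Or.inr (Or.inr (Or.inr (Or.inr (Or.inl
      ⟨K₀, ho, hK₀, hac₀, hnsa₀, hle₀⟩))))))))
  · obtain ⟨e₀, P₀, g₁, g₂, hg₁, hg₂, hT₀, hle₀⟩ :=
      pull_tensor e id IsSymplecticForm IsSymmetricForm ⟨e', P, f₁, f₂, h₁, h₂, hT, hle⟩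
    exact Or.inr (Or.inr (Or.inr (Or.inr (Or.inr (Or.inr (Or.inr (Or.inr (Or.inr (Or.inl
      ⟨n₁, n₂, e₀, P₀, g₁, g₂, ho, h3, hg₁, hg₂, hT₀, hle₀⟩)))))))))
  · obtain ⟨e₀, P₀, g₁, hg₁, hT₀, hle₀⟩ :=
      pull_tensorWreath e id IsSymplecticForm ⟨e', P, f₁, h₁, hT, hle⟩
    exact Or.inr (Or.inr (Or.inr (Or.inr (Or.inr (Or.inr (Or.inr (Or.inr (Or.inr (Or.inr (Or.inl
      ⟨k, t, e₀, P₀, g₁, ho, hto, h3, hne, hg₁, hT₀, hle₀⟩))))))))))
  · exact Or.inr (Or.inr (Or.inr (Or.inr (Or.inr (Or.inr (Or.inr (Or.inr (Or.inr (Or.inr (Or.inr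
      (pull_residual e h)))))))))))

end Cfsg.Agent.Helper1.AschSp
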