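import Mathlib
import Cfsg.Prelude.Def_GeometricClasses
import Cfsg.Agent.Helper7.OrthMaxC
import Cfsg.Agent.Helper8.StdForms

/-!
# ASCH-PRIME-O, piece O1-subfield (helper1): `Ω_{2m+1}(F)` is not contained in a subfield group

`Ω` is perfect (helper8's `SG_le_commutator`), commutators of a subfield group `P (GL(F₀) Z) P⁻¹` lie in
`P GL(F₀) P⁻¹`, and `Ω` contains the Siegel family `1 + b N`, `b ∈ F`, `N ≠ 0`; so `b N'` (`N' = P⁻¹ N P ≠ 0`)
has entries in `F₀` for all `b ∈ F`, hence `F₀ = F`.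
-/

set_option autoImplicit false
set_option linter.unusedVariables false
set_option linter.unusedSectionVars false

namespace Cfsg.Agent.Helper1.AschO

open Cfsg Cfsg.Geo Cfsg.Agent.Helper8.QuadForm Cfsg.Agent.Helper8.StdForms Cfsg.Agent.Helper8.Siegel
  Cfsg.Agent.Helper8.SiegelGroup Cfsg.Agent.Helper7.OrthMax
open scoped MatrixGroups Matrix commutatorElement

variable {F : Type*} [Field F] {ι : Type} [Fintype ι] [DecidableEq ι]

theorem scalars_comm {z : GL ι F} (hz : z ∈ scalars ι F) (g : GL ι F) : z * g = g * z := by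
  rw [mem_scalars_iff] at hz
  obtain ⟨c, hc⟩ := hz
  apply Units.ext
  rw [Units.val_mul, Units.val_mul, hc, Matrix.smul_mul, Matrix.one_mul, Matrix.mul_smul, Matrix.mul_one]

theorem commutatorElement_mul_central_left {G : Type*} [Group G] (a z b : G) (hz : ∀ g : G, z * g = g * z) :
    ⁅a * z, b⁆ = ⁅a, b⁆ := by
  rw [commutatorElement_def, commutatorElement_def, mul_inv_rev]
  have h1 : a * z * b * (z⁻¹ * a⁻¹) = a * (z * b) * z⁻¹ * a⁻¹ := by group
  rw [h1, hz b]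
  group

theorem commutatorElement_mul_central_right {G : Type*} [Group G] (a b z : G) (hz : ∀ g : G, z * g = g * z) :
    ⁅a, b * z⁆ = ⁅a, b⁆ := by
  rw [commutatorElement_def, commutatorElement_def, mul_inv_rev]
  have h1 : a * (b * z) * a⁻¹ * (z⁻¹ * b⁻¹) = a * b * (z * a⁻¹) * z⁻¹ * b⁻¹ := by group
  rw [h1, hz a⁻¹]
  group

/-- commutators of a subfield group lie in the conjugate of the group of matrices over the subfield -/
theorem commutator_subfieldSubgroup_le (F₀ : Subfield F) (P : GL ι F) :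
    ⁅subfieldSubgroup F₀ P, subfieldSubgroup F₀ P⁆ ≤
      ((Matrix.GeneralLinearGroup.map (F₀.subtype : F₀ →+* F)).range).map (MulAut.conj P).toMonoidHom := by
  unfold subfieldSubgroup
  rw [← Subgroup.map_commutator]
  apply Subgroup.map_mono
  rw [Subgroup.commutator_le]
  intro g₁ hg₁ g₂ hg₂
  rw [Subgroup.mem_sup_of_normal_right] at hg₁ hg₂
  obtain ⟨r₁, hr₁, z₁, hz₁, rfl⟩ := hg₁
  obtain ⟨r₂, hr₂, z₂, hz₂, rfl⟩ := hg₂
  rw [commutatorElement_mul_central_left _ _ _ (scalars_comm hz₁),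
    commutatorElement_mul_central_right _ _ _ (scalars_comm hz₂)]
  exact Subgroup.commutator_le_self _ (Subgroup.commutator_mem_commutator hr₁ hr₂)

/-- a one-parameter family `1 + b N`, `b ∈ F`, `N ≠ 0`, inside a conjugate of `GL(F₀)` forces `F₀ = F` -/
theorem subfield_eq_top_of_family (F₀ : Subfield F) (P : GL ι F) (g : F → GL ι F) (N : Matrix ι ι F)
    (hN0 : N ≠ 0) (hgN : ∀ b, ((g b : GL ι F) : Matrix ι ι F) = 1 + b • N)
    (hmem : ∀ b, g b ∈
      ((Matrix.GeneralLinearGroup.map (F₀.subtype : F₀ →+* F)).range).map (MulAut.conj P).toMonoidHom) :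
    F₀ = ⊤ := by
  obtain ⟨Pm, hPm⟩ : ∃ Pm : Matrix ι ι F, Pm = (P : Matrix ι ι F) := ⟨_, rfl⟩
  obtain ⟨Pi', hPi'⟩ : ∃ Pi' : Matrix ι ι F, Pi' = ((P⁻¹ : GL ι F) : Matrix ι ι F) := ⟨_, rfl⟩
  have hPP : Pi' * Pm = 1 := by
    rw [hPi', hPm, ← Units.val_mul, inv_mul_cancel, Units.val_one]
  have hPP' : Pm * Pi' = 1 := by
    rw [hPi', hPm, ← Units.val_mul, mul_inv_cancel, Units.val_one]
  have hent : ∀ b i j, (Pi' * ((g b : GL ι F) : Matrix ι ι F) * Pm) i j ∈ F₀ := by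
    intro b i j
    obtain ⟨y, ⟨A, rfl⟩, hy⟩ := hmem b
    simp only [MulEquiv.coe_toMonoidHom, MulAut.conj_apply] at hy
    rw [← hy, Units.val_mul, Units.val_mul, ← hPm, ← hPi']
    have e : Pi' * (Pm * ((Matrix.GeneralLinearGroup.map (F₀.subtype : F₀ →+* F) A :
        GL ι F) : Matrix ι ι F) * Pi') * Pm =
        ((Matrix.GeneralLinearGroup.map (F₀.subtype : F₀ →+* F) A : GL ι F) : Matrix ι ι F) := by
      calc _ = (Pi' * Pm) * ((Matrix.GeneralLinearGroup.map (F₀.subtype : F₀ →+* F) A :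
            GL ι F) : Matrix ι ι F) * (Pi' * Pm) := by
            simp only [Matrix.mul_assoc]
        _ = _ := by rw [hPP, Matrix.one_mul, Matrix.mul_one]
    rw [e, Matrix.GeneralLinearGroup.map_apply]
    exact (A i j).2
  obtain ⟨N', hN'⟩ : ∃ N' : Matrix ι ι F, N' = Pi' * N * Pm := ⟨_, rfl⟩
  have hconj : ∀ b, Pi' * ((g b : GL ι F) : Matrix ι ι F) * Pm = 1 + b • N' := by
    intro b
    rw [hgN, hN', Matrix.mul_add, Matrix.add_mul, Matrix.mul_one, hPP, Matrix.mul_smul, Matrix.smul_mul]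
  have hN'0 : N' ≠ 0 := by
    intro h
    apply hN0
    have : N = Pm * N' * Pi' := by
      rw [hN']
      calc N = (Pm * Pi') * N * (Pm * Pi') := by rw [hPP', Matrix.one_mul, Matrix.mul_one]
        _ = _ := by simp only [Matrix.mul_assoc]
    rw [this, h, Matrix.mul_zero, Matrix.zero_mul]
  obtain ⟨i, j, hν⟩ : ∃ i j, N' i j ≠ 0 := by
    by_contra hcon
    push Not at hcon
    apply hN'0
    ext i j
    exact hcon i j
  rw [eq_top_iff]
  intro x _
  have h1 := hent (x / N' i j) i j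
  rw [hconj, Matrix.add_apply, Matrix.smul_apply, smul_eq_mul, div_mul_cancel₀ _ hν] at h1
  have h3 : (1 : Matrix ι ι F) i j ∈ F₀ := by
    rw [Matrix.one_apply]
    split_ifs
    · exact one_mem _
    · exact zero_mem _
  have h4 := sub_mem h1 h3
  rwa [add_sub_cancel_left] at h4

/-- **O1-subfield**: `Ω_{2m+1}(F)` is not contained in a subfield group. -/
theorem not_le_subfieldSubgroup_omega [Fintype F] {m : ℕ} (hm : 3 ≤ m) (h2 : (2 : F) ≠ 0)
    (F₀ : Subfield F) (h0 : F₀ ≠ ⊤) (P : GL (Unit ⊕ (Fin m ⊕ Fin m)) F) :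
    ¬ omegaGL (quadFormOdd m F) ≤ subfieldSubgroup F₀ P := by
  classical
  intro hle
  obtain ⟨Q, hQdef⟩ : ∃ Q : QuadraticForm F (Unit ⊕ (Fin m ⊕ Fin m) → F), Q = oddForm F m := ⟨_, rfl⟩
  have he : (⇑Q : (Unit ⊕ (Fin m ⊕ Fin m) → F) → F) = quadFormOdd m F := by
    funext v
    rw [hQdef]
    exact oddForm_apply F m v
  rw [← he] at hle
  have hQ : (QuadraticMap.polarBilin Q).Nondegenerate := by
    rw [hQdef]; exact oddForm_nondeg F m h2
  have hcard : Fintype.card (Unit ⊕ (Fin m ⊕ Fin m)) = 2 * m + 1 := by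
    simp only [Fintype.card_sum, Fintype.card_unit, Fintype.card_fin]
    omega
  have h5 : 5 ≤ Fintype.card (Unit ⊕ (Fin m ⊕ Fin m)) := by omega
  have hfr : Module.finrank F (Unit ⊕ (Fin m ⊕ Fin m) → F) = Fintype.card (Unit ⊕ (Fin m ⊕ Fin m)) :=
    Module.finrank_fintype_fun_eq_card F
  have hΩ : omegaGL ⇑Q = (SG Q).map (toGL Q) := by
    apply le_antisymm
    · intro g hg
      obtain ⟨k, hk, rfl⟩ := exists_toGL_eq Q hQ h5 hg
      exact ⟨k, hk, rfl⟩
    · rintro _ ⟨k, hk, rfl⟩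
      exact toGL_mem_omegaGL Q hQ h5 hk
  have hperf : omegaGL ⇑Q ≤ ⁅omegaGL ⇑Q, omegaGL ⇑Q⁆ := by
    rw [hΩ, ← Subgroup.map_commutator]
    exact Subgroup.map_mono (SG_le_commutator Q ((nondeg_iff Q).mp hQ) (by rw [hfr]; exact h5))
  have hle2 : omegaGL ⇑Q ≤
      ((Matrix.GeneralLinearGroup.map (F₀.subtype : F₀ →+* F)).range).map (MulAut.conj P).toMonoidHom :=
    hperf.trans ((Subgroup.commutator_mono hle hle).trans (commutator_subfieldSubgroup_le F₀ P))
  -- the Siegel family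
  let i0 : Fin m := ⟨0, by omega⟩
  let i1 : Fin m := ⟨1, by omega⟩
  have hi01 : i0 ≠ i1 := by
    intro h
    have := congrArg Fin.val h
    simp [i0, i1] at this
  obtain ⟨u, hu⟩ : ∃ u : Unit ⊕ (Fin m ⊕ Fin m) → F, u = Pi.single (Sum.inr (Sum.inl i0)) 1 := ⟨_, rfl⟩
  obtain ⟨w, hw⟩ : ∃ w : Unit ⊕ (Fin m ⊕ Fin m) → F, w = Pi.single (Sum.inr (Sum.inl i1)) 1 := ⟨_, rfl⟩
  have hpol : ∀ x y, QuadraticMap.polar Q x y = 2 * x (Sum.inl ()) * y (Sum.inl ())
      + (∑ i : Fin m, x (Sum.inr (Sum.inl i)) * y (Sum.inr (Sum.inr i))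
        + ∑ i : Fin m, y (Sum.inr (Sum.inl i)) * x (Sum.inr (Sum.inr i))) := by
    intro x y
    rw [hQdef]
    exact polar_oddForm F m x y
  have hQu : Q u = 0 := by
    have : Q u = quadFormOdd m F u := congrFun he u
    rw [this, hu]
    unfold quadFormOdd
    simp [Pi.single_apply]
  have hQw : Q w = 0 := by
    have : Q w = quadFormOdd m F w := congrFun he w
    rw [this, hw]
    unfold quadFormOdd
    simp [Pi.single_apply]
  have hpu : ∀ x, QuadraticMap.polar Q x u = x (Sum.inr (Sum.inr i0)) := by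
    intro x
    rw [hpol, hu]
    simp [Pi.single_apply]
  have hpw : ∀ x, QuadraticMap.polar Q x w = x (Sum.inr (Sum.inr i1)) := by
    intro x
    rw [hpol, hw]
    simp [Pi.single_apply]
  have huw : ∀ b : F, QuadraticMap.polar Q u (b • w) = 0 := by
    intro b
    rw [QuadraticMap.polar_smul_right, hpw, hu]
    simp [Pi.single_apply]
  have hQbw : ∀ b : F, Q (b • w) = 0 := by
    intro b
    rw [QuadraticMap.map_smul, hQw, smul_zero]
  -- the elements `g b`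
  obtain ⟨g, hg⟩ : ∃ g : F → GL (Unit ⊕ (Fin m ⊕ Fin m)) F, g = fun b => toGL Q (siegG Q u (b • w)) :=
    ⟨_, rfl⟩
  have hgΩ : ∀ b, g b ∈ omegaGL ⇑Q := by
    intro b
    rw [hg]
    exact toGL_mem_omegaGL Q hQ h5 (siegG_mem_SG Q hQu (huw b))
  have hgv : ∀ b x, ((g b : GL (Unit ⊕ (Fin m ⊕ Fin m)) F) : Matrix (Unit ⊕ (Fin m ⊕ Fin m)) (Unit ⊕ (Fin m ⊕ Fin m)) F) *ᵥ x =
      x + b • (x (Sum.inr (Sum.inr i1)) • u - x (Sum.inr (Sum.inr i0)) • w) := by
    intro b x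
    rw [hg]
    simp only
    rw [toGL_mulVec, siegG_val, siegE_apply Q hQu (huw b), sieg_apply, hQbw, zero_mul, zero_smul, sub_zero,
      QuadraticMap.polar_smul_right, hpw, hpu, smul_eq_mul]
    module
  obtain ⟨N, hN⟩ : ∃ N : Matrix (Unit ⊕ (Fin m ⊕ Fin m)) (Unit ⊕ (Fin m ⊕ Fin m)) F,
      N = ((g 1 : GL (Unit ⊕ (Fin m ⊕ Fin m)) F) : Matrix (Unit ⊕ (Fin m ⊕ Fin m)) (Unit ⊕ (Fin m ⊕ Fin m)) F) - 1 := ⟨_, rfl⟩
  have hNv : ∀ x, N *ᵥ x = x (Sum.inr (Sum.inr i1)) • u - x (Sum.inr (Sum.inr i0)) • w := by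
    intro x
    rw [hN, Matrix.sub_mulVec, hgv, Matrix.one_mulVec, one_smul, add_sub_cancel_left]
  have hgN : ∀ b, ((g b : GL (Unit ⊕ (Fin m ⊕ Fin m)) F) : Matrix (Unit ⊕ (Fin m ⊕ Fin m)) (Unit ⊕ (Fin m ⊕ Fin m)) F) = 1 + b • N := by
    intro b
    apply Matrix.mulVec_injective
    funext x
    rw [hgv, Matrix.add_mulVec, Matrix.one_mulVec, Matrix.smul_mulVec, hNv]
  have hN0 : N ≠ 0 := by
    intro h
    have h1 := hNv (Pi.single (Sum.inr (Sum.inr i0)) 1)
    rw [h, Matrix.zero_mulVec] at h1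
    have h3 := congrFun h1 (Sum.inr (Sum.inl i1))
    rw [hu, hw] at h3
    simp [hi01, Ne.symm hi01] at h3
  exact h0 (subfield_eq_top_of_family F₀ P g N hN0 hgN (fun b => hle2 (hgΩ b)))

end Cfsg.Agent.Helper1.AschO
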