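import Mathlib
import Cfsg.Prelude.Def_GeometricClasses
import Cfsg.Agent.Lead.AschBase
import Cfsg.Agent.Lead.AschOBase
import Cfsg.Agent.Helper9.AschSchur
import Cfsg.Agent.Helper3.AschForms

/-!
# ASCH-PRIME-O, piece O5 (helper1): no extension-field case inside an orthogonal group of odd prime dimension

`N ≤ O(Q)` irreducible on `F^n`, `n` an odd prime, `q` odd.  `K = commutant N` is a field of degree `1` or `n`.
If the degree is `n` then `F^n` is a line over `K`, so `N ⊆ K`; for `x ∈ N` the element `a = x - x⁻¹ ∈ K` is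
skew-adjoint for the polar form `B`, so if `a ≠ 0` then `(u, v) ↦ B(a u, v)` is a non-degenerate alternating form in
odd dimension, impossible; hence `x² = 1` in the field `K`, `x = ±1`, `N` is scalar, not irreducible.
-/

set_option autoImplicit false

namespace Cfsg.Agent.Helper1.AschO

open Cfsg Cfsg.Geo Cfsg.Agent.Lead.Asch Cfsg.Agent.Lead.AschO Cfsg.Agent.Helper9.Asch
  Cfsg.Agent.Helper3.Asch
open scoped MatrixGroups Matrix

variable {n : ℕ} {F : Type*} [Field F]

/-- an isometry preserves the polar form -/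
theorem polar_mulVec_of_mem {Q : (Fin n → F) → F} {g : GL (Fin n) F} (hg : g ∈ isometryGroup F Q)
    (u v : Fin n → F) :
    QuadraticMap.polar Q ((g : Matrix (Fin n) (Fin n) F) *ᵥ u) ((g : Matrix (Fin n) (Fin n) F) *ᵥ v) =
      QuadraticMap.polar Q u v := by
  rw [mem_isometryGroup_iff] at hg
  unfold QuadraticMap.polar
  rw [← Matrix.mulVec_add, hg, hg, hg]

/-- if the commutant of an irreducible group has degree `n`, the group lies in its commutant -/
theorem coe_mem_commutant_of_finrank [Fintype F] (hn : 0 < n) {N : Subgroup (GL (Fin n) F)}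
    (hN : ActsIrreducibly (matrixSet N)) (hfr : Module.finrank F ↥(commutant N) = n)
    {x : GL (Fin n) F} (hx : x ∈ N) : (x : Matrix (Fin n) (Fin n) F) ∈ commutant N := by
  have hfield := commutant_isField hn hN
  obtain ⟨v, hv⟩ : ∃ v : Fin n → F, v ≠ 0 := by
    refine ⟨Pi.single (⟨0, hn⟩ : Fin n) (1 : F), fun h => ?_⟩
    have := congrFun h ⟨0, hn⟩
    simp at this
  let φ : ↥(commutant N) →ₗ[F] (Fin n → F) :=
    { toFun := fun k => (k : Matrix (Fin n) (Fin n) F) *ᵥ v
      map_add' := fun a b => by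
        show ((a + b : ↥(commutant N)) : Matrix (Fin n) (Fin n) F) *ᵥ v = _
        rw [Subalgebra.coe_add, Matrix.add_mulVec]
      map_smul' := fun c a => by
        show ((c • a : ↥(commutant N)) : Matrix (Fin n) (Fin n) F) *ᵥ v = _
        rw [Subalgebra.coe_smul, Matrix.smul_mulVec]
        rfl }
  have hφ : ∀ k : ↥(commutant N), φ k = (k : Matrix (Fin n) (Fin n) F) *ᵥ v := fun k => rfl
  have hinj : Function.Injective φ := by
    rw [← LinearMap.ker_eq_bot, LinearMap.ker_eq_bot']
    intro k hk
    by_contra hk0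
    have hk0' : (k : Matrix (Fin n) (Fin n) F) ≠ 0 := fun h => hk0 (Subtype.ext h)
    have hu := isUnit_of_mem_commutant hN k.2 hk0'
    have hinjk := Matrix.mulVec_injective_iff_isUnit.2 hu
    rw [hφ] at hk
    exact hv (hinjk (by rw [hk, Matrix.mulVec_zero]))
  have hsurj : Function.Surjective φ :=
    (LinearMap.injective_iff_surjective_of_finrank_eq_finrank
      (by rw [hfr, Module.finrank_fin_fun])).1 hinj
  obtain ⟨k₀, hk₀⟩ := hsurj ((x : Matrix (Fin n) (Fin n) F) *ᵥ v)
  rw [hφ] at hk₀
  have hxk : (x : Matrix (Fin n) (Fin n) F) = (k₀ : Matrix (Fin n) (Fin n) F) := by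
    apply Matrix.toLin'.injective
    apply LinearMap.ext
    intro w
    obtain ⟨k, rfl⟩ := hsurj w
    rw [hφ, Matrix.toLin'_apply, Matrix.toLin'_apply, Matrix.mulVec_mulVec, Matrix.mulVec_mulVec]
    have h1 : (k : Matrix (Fin n) (Fin n) F) * (x : Matrix (Fin n) (Fin n) F) =
        (x : Matrix (Fin n) (Fin n) F) * (k : Matrix (Fin n) (Fin n) F) :=
      (mem_commutant_iff.1 k.2) _ (coe_mem_matrixSet hx)
    have h2 : (k₀ : Matrix (Fin n) (Fin n) F) * (k : Matrix (Fin n) (Fin n) F) =
        (k : Matrix (Fin n) (Fin n) F) * (k₀ : Matrix (Fin n) (Fin n) F) :=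
      congrArg Subtype.val (hfield.mul_comm k₀ k)
    rw [← h1, h2, ← Matrix.mulVec_mulVec, ← Matrix.mulVec_mulVec, hk₀]
  rw [hxk]
  exact k₀.2

/-- **O5**: no extension-field case inside an orthogonal group of odd prime dimension. -/
theorem schur_orth [Fintype F] (hn : n.Prime) (hn2 : n ≠ 2) (hodd : Odd (Fintype.card F))
    (Q : (Fin n → F) → F) (hQ : IsNondegenerateQuadraticForm Q)
    {N : Subgroup (GL (Fin n) F)} (hNI : N ≤ isometryGroup F Q)
    (hN : ActsIrreducibly (matrixSet N)) : ActsAbsolutelyIrreducibly (matrixSet N) := by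
  have hpos : 0 < n := hn.pos
  have hnodd : Odd n := hn.odd_of_ne_two hn2
  haveI : NeZero n := ⟨hpos.ne'⟩
  have hdvd := finrank_commutant_dvd hpos hN
  rcases (Nat.dvd_prime hn).1 hdvd with h1 | h1
  · refine ⟨hN, fun M hM => ?_⟩
    have hbot : commutant N = ⊥ := Subalgebra.finrank_eq_one_iff.1 h1
    have hMmem : M ∈ commutant N := mem_commutant_iff.2 hM
    rw [hbot, Algebra.mem_bot] at hMmem
    obtain ⟨c, hc⟩ := hMmem
    refine ⟨c, ?_⟩
    rw [← hc, Algebra.algebraMap_eq_smul_one]
  · exfalso
    have h2 : (2 : F) ≠ 0 := by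
      intro h
      have hc : ringChar F = 2 := by
        apply CharP.ringChar_of_prime_eq_zero Nat.prime_two
        exact_mod_cast h
      have := FiniteField.even_card_of_char_two hc
      rw [Nat.odd_iff] at hodd
      omega
    have hB := hQ.polar_bilinear
    have hS := IsSesq.of_bilinear hB
    have hmem : ∀ x ∈ N, (x : Matrix (Fin n) (Fin n) F) ∈ commutant N :=
      fun x hx => coe_mem_commutant_of_finrank hpos hN h1 hx
    -- every element of `N` is its own inverse
    have hinv : ∀ x ∈ N, (x : Matrix (Fin n) (Fin n) F) =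
        ((x⁻¹ : GL (Fin n) F) : Matrix (Fin n) (Fin n) F) := by
      intro x hx
      by_contra hne
      obtain ⟨a, ha⟩ : ∃ a : Matrix (Fin n) (Fin n) F, a = (x : Matrix (Fin n) (Fin n) F) -
          ((x⁻¹ : GL (Fin n) F) : Matrix (Fin n) (Fin n) F) := ⟨_, rfl⟩
      have ha0 : a ≠ 0 := by rw [ha]; exact sub_ne_zero.2 hne
      have haK : a ∈ commutant N := by
        rw [ha]; exact Subalgebra.sub_mem _ (hmem x hx) (hmem _ (N.inv_mem hx))
      have hau := isUnit_of_mem_commutant hN haK ha0
      have hainj := Matrix.mulVec_injective_iff_isUnit.2 hau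
      have hxx : ∀ u : Fin n → F, (x : Matrix (Fin n) (Fin n) F) *ᵥ
          (((x⁻¹ : GL (Fin n) F) : Matrix (Fin n) (Fin n) F) *ᵥ u) = u := by
        intro u
        rw [Matrix.mulVec_mulVec, ← Units.val_mul, mul_inv_cancel, Units.val_one, Matrix.one_mulVec]
      have hxx' : ∀ u : Fin n → F, ((x⁻¹ : GL (Fin n) F) : Matrix (Fin n) (Fin n) F) *ᵥ
          ((x : Matrix (Fin n) (Fin n) F) *ᵥ u) = u := by
        intro u
        rw [Matrix.mulVec_mulVec, ← Units.val_mul, inv_mul_cancel, Units.val_one, Matrix.one_mulVec]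
      have hxI := hNI hx
      have hxiI := hNI (N.inv_mem hx)
      -- `a` is skew-adjoint
      have hskew : ∀ u v : Fin n → F, QuadraticMap.polar Q (a *ᵥ u) v =
          - QuadraticMap.polar Q (a *ᵥ v) u := by
        intro u v
        have e1 : QuadraticMap.polar Q ((x : Matrix (Fin n) (Fin n) F) *ᵥ u) v =
            QuadraticMap.polar Q u (((x⁻¹ : GL (Fin n) F) : Matrix (Fin n) (Fin n) F) *ᵥ v) := by
          conv_lhs => rw [← hxx v]
          rw [polar_mulVec_of_mem hxI]
        have e2 : QuadraticMap.polar Q (((x⁻¹ : GL (Fin n) F) : Matrix (Fin n) (Fin n) F) *ᵥ u) v =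
            QuadraticMap.polar Q u ((x : Matrix (Fin n) (Fin n) F) *ᵥ v) := by
          conv_lhs => rw [← hxx' v]
          rw [polar_mulVec_of_mem hxiI]
        rw [ha, Matrix.sub_mulVec, Matrix.sub_mulVec, hS.sub_left, hS.sub_left, e1, e2,
          QuadraticMap.polar_comm Q ((x : Matrix (Fin n) (Fin n) F) *ᵥ v) u,
          QuadraticMap.polar_comm Q (((x⁻¹ : GL (Fin n) F) : Matrix (Fin n) (Fin n) F) *ᵥ v) u]
        ring
      apply no_symplectic_of_odd hnodd (fun u v => QuadraticMap.polar Q (a *ᵥ u) v)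
      refine ⟨⟨?_, ?_, ?_, ?_⟩, hskew, ?_, ?_⟩
      · intro y z v
        show QuadraticMap.polar Q (a *ᵥ (y + z)) v = _
        rw [Matrix.mulVec_add, hB.add_left]
      · intro c y v
        show QuadraticMap.polar Q (a *ᵥ (c • y)) v = _
        rw [Matrix.mulVec_smul, hB.smul_left]
      · intro v y z
        exact hB.add_right _ y z
      · intro c v y
        exact hB.smul_right c _ y
      · intro v
        have h := hskew v v
        have h' : (2 : F) * QuadraticMap.polar Q (a *ᵥ v) v = 0 := by linear_combination h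
        rcases mul_eq_zero.1 h' with h'' | h''
        · exact absurd h'' h2
        · exact h''
      · intro v hv
        constructor
        · obtain ⟨⟨y, hy⟩, -⟩ := hQ.nondegenerate v hv
          obtain ⟨b, hb⟩ := hau.exists_right_inv
          refine ⟨b *ᵥ y, ?_⟩
          show QuadraticMap.polar Q (a *ᵥ (b *ᵥ y)) v ≠ 0
          rw [Matrix.mulVec_mulVec, hb, Matrix.one_mulVec]
          exact hy
        · have hav : a *ᵥ v ≠ 0 := by
            intro h
            apply hv
            apply hainj
            rw [h, Matrix.mulVec_zero]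
          exact (hQ.nondegenerate _ hav).2
    -- so `N` is scalar
    apply not_le_scalars_of_irred (by have := hn.two_le; omega) hN
    intro x hx
    rw [mem_scalars_iff]
    have hsq : (x : Matrix (Fin n) (Fin n) F) * (x : Matrix (Fin n) (Fin n) F) = 1 := by
      have hxe := hinv x hx
      calc (x : Matrix (Fin n) (Fin n) F) * (x : Matrix (Fin n) (Fin n) F)
          = (x : Matrix (Fin n) (Fin n) F) * ((x⁻¹ : GL (Fin n) F) : Matrix (Fin n) (Fin n) F) := by
            rw [← hxe]
        _ = 1 := by rw [← Units.val_mul, mul_inv_cancel, Units.val_one]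
    by_cases hx1 : (x : Matrix (Fin n) (Fin n) F) - 1 = 0
    · refine ⟨1, ?_⟩
      rw [Units.val_one, one_smul]
      exact sub_eq_zero.1 hx1
    · have hbK : (x : Matrix (Fin n) (Fin n) F) - 1 ∈ commutant N :=
        Subalgebra.sub_mem _ (hmem x hx) (Subalgebra.one_mem _)
      have hbu := isUnit_of_mem_commutant hN hbK hx1
      obtain ⟨b, hb⟩ := hbu.exists_left_inv
      have hprod : ((x : Matrix (Fin n) (Fin n) F) - 1) * ((x : Matrix (Fin n) (Fin n) F) + 1) = 0 := by
        rw [sub_mul, mul_add, mul_add, hsq, mul_one, one_mul, one_mul]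
        abel
      have hx2 : (x : Matrix (Fin n) (Fin n) F) + 1 = 0 := by
        calc (x : Matrix (Fin n) (Fin n) F) + 1
            = (b * ((x : Matrix (Fin n) (Fin n) F) - 1)) * ((x : Matrix (Fin n) (Fin n) F) + 1) := by
              rw [hb, one_mul]
          _ = 0 := by rw [mul_assoc, hprod, mul_zero]
      refine ⟨-1, ?_⟩
      rw [Units.val_neg, Units.val_one, neg_smul, one_smul]
      exact eq_neg_of_add_eq_zero_left hx2

end Cfsg.Agent.Helper1.AschO
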