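import Mathlib
import Cfsg.Prelude.Def_GeometricClasses
import Cfsg.Agent.Lead.AschBase
import Cfsg.Agent.Lead.AschOBase
import Cfsg.Agent.Helper3.AschForms
import Cfsg.Agent.Helper3.AschUSub
import Cfsg.Agent.Helper1.AschOSchur

/-!
# ASCH-PRIME-O, piece O6 (helper1): the subfield case with its rational structure

`P ≤ O(Q)` absolutely irreducible and realisable over a proper subfield `F₀` (by `B`), normalised by `H`, `n` odd.
Take `τ`, `F₁ ⊇ F₀` of prime index `r` (helper3's `exists_prime_fixed_subfield'`).  The Gram matrix `J` of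
`φ(u,v) = polar Q (B⁻¹u) (B⁻¹v)` satisfies `J = d₀ J₁` with `J₁` over `F₁` (helper3's `twist_form`), so
`d₀ ^ n det J₁ = det J = det(B⁻¹)² · k · s₀²` (`DiscInt`), and `n` odd gives `s` with `s² d₀ ∈ F₁`
(uniformly in `r`).  `Pm = s B⁻¹`.
-/

set_option autoImplicit false
set_option linter.unusedVariables false
set_option linter.unusedSectionVars false

namespace Cfsg.Agent.Helper1.AschO

open Cfsg Cfsg.Geo Cfsg.Agent.Lead.Asch Cfsg.Agent.Lead.AschO Cfsg.Agent.Helper3.Asch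
  Cfsg.Agent.Helper3.AschU
open scoped MatrixGroups Matrix

variable {n : ℕ} {F : Type*} [Field F]

theorem bv_eq_single (i : Fin n) : (bv i : Fin n → F) = Pi.single i 1 := by
  funext j
  unfold bv
  rw [Pi.single_apply]
  by_cases h : i = j
  · subst h; simp
  · rw [if_neg h, if_neg (Ne.symm h)]

theorem gram_eq_gramMatrix (f : (Fin n → F) → (Fin n → F) → F) : gram f = gramMatrix f := by
  ext i j
  unfold gram gramMatrix
  rw [bv_eq_single, bv_eq_single]

/-- the Gram matrix of a bilinear form after a change of basis -/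
theorem gram_conj {f : (Fin n → F) → (Fin n → F) → F} (hf : IsSesq (RingEquiv.refl F) f)
    (M : Matrix (Fin n) (Fin n) F) :
    gram (fun u v => f (M *ᵥ u) (M *ᵥ v)) = Mᵀ * gram f * M := by
  ext i j
  have h1 : gram (fun u v => f (M *ᵥ u) (M *ᵥ v)) i j = f (M *ᵥ bv i) (M *ᵥ bv j) := rfl
  rw [h1, hf.expand]
  have h2 : (fun k => (RingEquiv.refl F) ((M *ᵥ bv j) k)) = M *ᵥ bv j := rfl
  rw [h2, Matrix.mulVec_mulVec, ← Matrix.vecMul_transpose, ← Matrix.dotProduct_mulVec,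
    Matrix.mulVec_mulVec, bv_eq_single, bv_eq_single, single_one_dotProduct, Matrix.mulVec_single_one,
    ← Matrix.mul_assoc]
  rfl

/-- the determinant of a matrix with entries in a subfield lies in the subfield -/
theorem det_mem_subfield (F₁ : Subfield F) (M : Matrix (Fin n) (Fin n) F) (h : ∀ i j, M i j ∈ F₁) :
    M.det ∈ F₁ := by
  rw [Matrix.det_apply]
  apply sum_mem
  intro σ _
  have hp : ∏ i, M (σ i) i ∈ F₁ := prod_mem (fun i _ => h _ _)
  rcases Int.units_eq_one_or (Equiv.Perm.sign σ) with h1 | h1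
  · rw [h1, one_smul]; exact hp
  · rw [h1, Units.neg_smul, one_smul]; exact neg_mem hp

variable [Fintype F]

/-- **O6**: the subfield case with its rational structure. -/
theorem subfield_orth (hn : Odd n) (hn2 : 2 ≤ n) (hodd : Odd (Fintype.card F))
    (Q : (Fin n → F) → F) (hQ : IsNondegenerateQuadraticForm Q) (hdisc : DiscInt Q)
    {H P : Subgroup (GL (Fin n) F)} (hPI : P ≤ isometryGroup F Q) (hnz : Nzes H P)
    (hP : ActsAbsolutelyIrreducibly (matrixSet P)) (F₀ : Subfield F) (h0 : F₀ ≠ ⊤)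
    (hr : RealisableOver F₀ (matrixSet P)) :
    ∃ (F₁ : Subfield F) (r : ℕ) (Pm : GL (Fin n) F), r.Prime ∧ Fintype.card F = Nat.card F₁ ^ r ∧
      IsQuadFormRationalStructure Q F₁ Pm ∧ H ≤ subfieldSubgroup F₁ Pm := by
  classical
  have h2 : (2 : F) ≠ 0 := by
    intro h
    have hc : ringChar F = 2 := by
      apply CharP.ringChar_of_prime_eq_zero Nat.prime_two
      exact_mod_cast h
    have := FiniteField.even_card_of_char_two hc
    rw [Nat.odd_iff] at hodd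
    omega
  obtain ⟨τ, F₁, r, hrp, hcard, hfix0, hmem, hfixF₁⟩ := exists_prime_fixed_subfield' F₀ h0
  obtain ⟨B, hB⟩ := hr
  obtain ⟨Bm, hBm⟩ : ∃ Bm : Matrix (Fin n) (Fin n) F, Bm = (B : Matrix (Fin n) (Fin n) F) := ⟨_, rfl⟩
  obtain ⟨Bi, hBi⟩ : ∃ Bi : Matrix (Fin n) (Fin n) F,
      Bi = ((B⁻¹ : GL (Fin n) F) : Matrix (Fin n) (Fin n) F) := ⟨_, rfl⟩
  have hBiB : Bi * Bm = 1 := by
    rw [hBi, hBm, ← Units.val_mul, inv_mul_cancel, Units.val_one]
  have hBBi : Bm * Bi = 1 := by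
    rw [hBi, hBm, ← Units.val_mul, mul_inv_cancel, Units.val_one]
  obtain ⟨S', hS'⟩ : ∃ S' : Set (Matrix (Fin n) (Fin n) F),
      S' = (fun s => Bm * s * Bi) '' matrixSet P := ⟨_, rfl⟩
  have hS'irr : ActsAbsolutelyIrreducibly S' := by
    rw [hS', hBm, hBi]; exact absIrr_conj hP B
  have hS'u : ∀ s ∈ S', ∃ t : Matrix (Fin n) (Fin n) F, s * t = 1 := by
    rw [hS']
    rintro _ ⟨s, hs, rfl⟩
    obtain ⟨x, hx, rfl⟩ := mem_matrixSet_iff.1 hs
    refine ⟨Bm * ((x⁻¹ : GL (Fin n) F) : Matrix (Fin n) (Fin n) F) * Bi, ?_⟩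
    have hxx : (x : Matrix (Fin n) (Fin n) F) * ((x⁻¹ : GL (Fin n) F) : Matrix (Fin n) (Fin n) F) = 1 := by
      rw [← Units.val_mul, mul_inv_cancel, Units.val_one]
    calc Bm * (x : Matrix (Fin n) (Fin n) F) * Bi * (Bm * ((x⁻¹ : GL (Fin n) F) : Matrix (Fin n) (Fin n) F) * Bi)
        = Bm * ((x : Matrix (Fin n) (Fin n) F) * ((Bi * Bm) *
            ((x⁻¹ : GL (Fin n) F) : Matrix (Fin n) (Fin n) F))) * Bi := by
          simp only [Matrix.mul_assoc]
      _ = 1 := by rw [hBiB, Matrix.one_mul, hxx, Matrix.mul_one, hBBi]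
  have hτS : ∀ s ∈ S', ∀ i j, τ (s i j) = s i j := by
    rw [hS']
    rintro _ ⟨s, hs, rfl⟩ i j
    rw [hBm, hBi]
    exact hfix0 _ (hB s hs i j)
  have hB' := hQ.polar_bilinear
  have hSq := IsSesq.of_bilinear hB'
  obtain ⟨φ, hφdef⟩ : ∃ φ : (Fin n → F) → (Fin n → F) → F,
      φ = fun u v => QuadraticMap.polar Q (Bi *ᵥ u) (Bi *ᵥ v) := ⟨_, rfl⟩
  have hφ : IsSesq (RingEquiv.refl F) φ := by
    rw [hφdef]
    refine ⟨?_, ?_, ?_, ?_⟩
    · intro x y v
      simp only [Matrix.mulVec_add, hSq.add_left]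
    · intro c x v
      simp only [Matrix.mulVec_smul, hSq.smul_left]
    · intro v x y
      simp only [Matrix.mulVec_add, hSq.add_right]
    · intro c v x
      simp only [Matrix.mulVec_smul, hSq.smul_right]
  have hBinj : ∀ v : Fin n → F, v ≠ 0 → Bi *ᵥ v ≠ 0 := by
    intro v hv h
    apply hv
    have := congrArg (fun x => Bm *ᵥ x) h
    simpa only [Matrix.mulVec_mulVec, hBBi, Matrix.one_mulVec, Matrix.mulVec_zero] using this
  have hnd : IsNondegenerateForm φ := by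
    intro v hv
    have hnd0 := hQ.nondegenerate _ (hBinj v hv)
    rw [hφdef]
    constructor
    · obtain ⟨x, hx⟩ := hnd0.1
      refine ⟨Bm *ᵥ x, ?_⟩
      simp only [Matrix.mulVec_mulVec, hBiB, Matrix.one_mulVec]
      exact hx
    · obtain ⟨x, hx⟩ := hnd0.2
      refine ⟨Bm *ᵥ x, ?_⟩
      simp only [Matrix.mulVec_mulVec, hBiB, Matrix.one_mulVec]
      exact hx
  have hfix : FixesForm S' φ := by
    rw [hS']
    rintro _ ⟨s, hs, rfl⟩ u v
    obtain ⟨x, hx, rfl⟩ := mem_matrixSet_iff.1 hs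
    have e : ∀ w : Fin n → F, Bi *ᵥ ((Bm * (x : Matrix (Fin n) (Fin n) F) * Bi) *ᵥ w) =
        (x : Matrix (Fin n) (Fin n) F) *ᵥ (Bi *ᵥ w) := by
      intro w
      rw [Matrix.mulVec_mulVec, Matrix.mulVec_mulVec, ← Matrix.mul_assoc, ← Matrix.mul_assoc, hBiB,
        Matrix.one_mul]
    rw [hφdef]
    simp only
    rw [e, e, polar_mulVec_of_mem (hPI hx)]
  have hcore : ∀ h ∈ H, B * h * B⁻¹ ∈
      (Matrix.GeneralLinearGroup.map (F₁.subtype : F₁ →+* F)).range ⊔ scalars (Fin n) F :=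
    fun h hh => subfield_core (by omega) hnz hP τ F₁ hmem B (fun s hs i j => hfix0 _ (hB s hs i j)) h hh
  -- the twist
  obtain ⟨c, hc⟩ := twist_form (σ := RingEquiv.refl F) (τ := τ) (fun x => rfl) hφ hnd hS'irr hS'u hfix hτS
  have hval : ∀ u v : Fin n → F, (∀ i, u i ∈ F₁) → (∀ i, v i ∈ F₁) → τ (φ u v) = c * φ u v := by
    intro u v hu hv
    have eu : (fun i => τ.symm (u i)) = u := by
      funext i
      rw [RingEquiv.symm_apply_eq, hfixF₁ _ (hu i)]
    have ev : (fun i => τ.symm (v i)) = v := by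
      funext i
      rw [RingEquiv.symm_apply_eq, hfixF₁ _ (hv i)]
    have := hc u v
    rw [eu, ev] at this
    exact this
  obtain ⟨i, j, hd0⟩ := exists_gram_ne_zero (by omega) hφ hnd
  obtain ⟨d₀, hd₀⟩ : ∃ d₀ : F, d₀ = φ (bv i) (bv j) := ⟨_, rfl⟩
  rw [← hd₀] at hd0
  have hτd : τ d₀ = c * d₀ := by
    rw [hd₀]; exact hval _ _ (bv_mem F₁ i) (bv_mem F₁ j)
  have hc0 : c ≠ 0 := by
    rintro rfl
    rw [zero_mul] at hτd
    exact hd0 ((map_eq_zero τ).1 hτd)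
  have hquot : ∀ u v : Fin n → F, (∀ i, u i ∈ F₁) → (∀ i, v i ∈ F₁) → φ u v / d₀ ∈ F₁ := by
    intro u v hu hv
    apply hmem
    rw [map_div₀, hval u v hu hv, hτd, mul_div_mul_left _ _ hc0]
  -- determinants
  obtain ⟨J, hJ⟩ : ∃ J : Matrix (Fin n) (Fin n) F, J = gram φ := ⟨_, rfl⟩
  have hJunit : IsUnit J.det := by
    rw [hJ]; exact hφ.isUnit_det_gram (fun v hv => (hnd v hv).1)
  have hJ0 : J.det ≠ 0 := hJunit.ne_zero
  have hJconj : J = Biᵀ * gramMatrix (QuadraticMap.polar Q) * Bi := by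
    rw [hJ, hφdef, gram_conj hSq Bi, gram_eq_gramMatrix]
  obtain ⟨k, s₀, hks⟩ := hdisc
  have hJdet : J.det = Bi.det ^ 2 * ((k : F) * s₀ ^ 2) := by
    rw [hJconj, Matrix.det_mul, Matrix.det_mul, Matrix.det_transpose, hks]
    ring
  obtain ⟨J₁, hJ₁⟩ : ∃ J₁ : Matrix (Fin n) (Fin n) F, J₁ = d₀⁻¹ • J := ⟨_, rfl⟩
  have hJ₁mem : ∀ a b, J₁ a b ∈ F₁ := by
    intro a b
    rw [hJ₁, hJ, Matrix.smul_apply, smul_eq_mul]
    have := hquot _ _ (bv_mem F₁ a) (bv_mem F₁ b)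
    rw [div_eq_inv_mul] at this
    exact this
  have hJ₁det : J₁.det ∈ F₁ := det_mem_subfield F₁ J₁ hJ₁mem
  have hJJ₁ : J.det = d₀ ^ n * J₁.det := by
    have e : J = d₀ • J₁ := by
      rw [hJ₁, smul_smul, mul_inv_cancel₀ hd0, one_smul]
    conv_lhs => rw [e]
    rw [Matrix.det_smul, Fintype.card_fin]
  have hJ₁0 : J₁.det ≠ 0 := by
    intro h
    rw [h, mul_zero] at hJJ₁
    exact hJ0 hJJ₁
  have hBidet : Bi.det ≠ 0 := by
    intro h
    rw [h] at hJdet
    apply hJ0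
    rw [hJdet]; ring
  have hs₀ : s₀ ≠ 0 := by
    intro h
    rw [h] at hJdet
    apply hJ0
    rw [hJdet]; ring
  obtain ⟨m, hm⟩ := hn
  -- the rescaling scalar
  obtain ⟨s, hs⟩ : ∃ s : F, s = d₀ ^ m / (Bi.det * s₀) := ⟨_, rfl⟩
  have hs0 : s ≠ 0 := by
    rw [hs]
    exact div_ne_zero (pow_ne_zero _ hd0) (mul_ne_zero hBidet hs₀)
  have hsd : s ^ 2 * d₀ = (k : F) / J₁.det := by
    have h3 : d₀ ^ (2 * m + 1) * J₁.det = Bi.det ^ 2 * ((k : F) * s₀ ^ 2) := by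
      rw [← hm, ← hJJ₁, hJdet]
    rw [hs, eq_div_iff hJ₁0, div_pow]
    have h4 : (d₀ ^ m) ^ 2 * d₀ = d₀ ^ (2 * m + 1) := by ring
    rw [div_mul_eq_mul_div, div_mul_eq_mul_div, h4, h3]
    field_simp
  have hsdmem : s ^ 2 * d₀ ∈ F₁ := by
    rw [hsd]
    exact div_mem (intCast_mem F₁ k) hJ₁det
  let su : Fˣ := Units.mk0 s hs0
  let z : GL (Fin n) F :=
    Units.map (Matrix.scalar (Fin n) : F →+* Matrix (Fin n) (Fin n) F).toMonoidHom su
  have hz : (z : Matrix (Fin n) (Fin n) F) = s • (1 : Matrix (Fin n) (Fin n) F) := by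
    simp [z, su, Matrix.smul_one_eq_diagonal]
  have hzc : ∀ g : GL (Fin n) F, z * g = g * z := by
    intro g
    apply Units.ext
    rw [Units.val_mul, Units.val_mul, hz, Matrix.smul_mul, Matrix.one_mul, Matrix.mul_smul, Matrix.mul_one]
  refine ⟨F₁, r, z * B⁻¹, hrp, hcard, ?_, ?_⟩
  · intro u hu
    have e : ((z * B⁻¹ : GL (Fin n) F) : Matrix (Fin n) (Fin n) F) *ᵥ u = s • (Bi *ᵥ u) := by
      rw [Units.val_mul, hz, Matrix.smul_mul, Matrix.one_mul, Matrix.smul_mulVec, hBi]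
    have hpol : ∀ w : Fin n → F, QuadraticMap.polar Q w w = 2 * Q w := by
      intro w
      unfold QuadraticMap.polar
      have : w + w = (2 : F) • w := by rw [two_smul]
      rw [this, hQ.smul]
      ring
    have hQφ : Q (Bi *ᵥ u) = φ u u / 2 := by
      rw [hφdef]
      simp only
      rw [hpol, mul_div_cancel_left₀ _ h2]
    rw [e, hQ.smul, hQφ]
    have e2 : s ^ 2 * (φ u u / 2) = (s ^ 2 * d₀) * (φ u u / d₀) * (2 : F)⁻¹ := by
      field_simp
    rw [e2]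
    have h2mem : (2 : F) ∈ F₁ := by
      have : ((2 : ℕ) : F) ∈ F₁ := natCast_mem F₁ 2
      exact_mod_cast this
    exact mul_mem (mul_mem hsdmem (hquot u u hu hu)) (inv_mem h2mem)
  · apply le_subfieldSubgroup_of_conj F₁ B (z * B⁻¹) hcore
    intro h
    have h1 : z * B⁻¹ * (B * h * B⁻¹) * (z * B⁻¹)⁻¹ = z * h * z⁻¹ := by group
    rw [h1, hzc h]
    group

end Cfsg.Agent.Helper1.AschO
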