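import Mathlib
import Cfsg.Prelude.Def_GeometricClasses
import Cfsg.Agent.Helper8.AschOmType
import Cfsg.Agent.Helper8.QuadTypeF

/-!
# ASCH-OM round 2, piece C5, part A (helper1): a plus-type 4-space over the field with two elements

Over the field with two elements a non-degenerate 4-space `W` of plus type is the orthogonal sum of two anisotropic
planes `P`, `P'`, and these are the only anisotropic planes contained in `W`.
-/

set_option autoImplicit false

namespace Cfsg.Agent.Helper1.AschOm

open Module Cfsg.Agent.Helper7.QTy Cfsg.Agent.Helper7.SpOrd Cfsg.Agent.Helper8.QuadType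
  Cfsg.Agent.Helper8.QuadForm

variable {F : Type*} [Field F] {V : Type*} [AddCommGroup V] [Module F V]

/-- anisotropic subspaces -/
def C5Aniso (Q : QuadraticForm F V) (A : Submodule F V) : Prop := ∀ a ∈ A, Q a = 0 → a = 0

theorem c5_two_values [Fintype F] (hq : Fintype.card F = 2) (a : F) : a = 0 ∨ a = 1 := by
  by_contra h
  push Not at h
  have h3 : 2 < Fintype.card F := by
    rw [Fintype.two_lt_card_iff]
    exact ⟨0, 1, a, zero_ne_one, fun h0 => h.1 h0.symm, fun h1 => h.2 h1.symm⟩
  omega

theorem c5_two_eq_zero [Fintype F] (hq : Fintype.card F = 2) : (2 : F) = 0 := by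
  rcases c5_two_values hq (2 : F) with h | h
  · exact h
  · exfalso
    have : (1 : F) = 0 := by linear_combination h
    exact one_ne_zero this

theorem c5_polar_self [Fintype F] (hq : Fintype.card F = 2) (Q : QuadraticForm F V) (v : V) :
    QuadraticMap.polar Q v v = 0 := by
  rw [polar_self', c5_two_eq_zero hq, zero_mul]

/-- a non-degenerate 4-space contains an anisotropic pair -/
theorem c5_exists_aniso_pair [Fintype F] [FiniteDimensional F V] (hq : Fintype.card F = 2)
    {Q : QuadraticForm F V} {W : Submodule F V} (hW : ND (QuadraticMap.polarBilin Q) W)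
    (hd : finrank F ↥W = 4) :
    ∃ x y, x ∈ W ∧ y ∈ W ∧ Q x = 1 ∧ Q y = 1 ∧ QuadraticMap.polar Q x y = 1 := by
  obtain ⟨e, heW, he0, hQe⟩ := exists_singular_in Q (W := W) (by omega)
  obtain ⟨f, hfW, hQf, hef⟩ := exists_partner hW heW he0 hQe
  obtain ⟨hnd, hfr, -⟩ := perpPair_inf_props hQe hQf hef hW heW hfW
  obtain ⟨z, hz, hQz⟩ := exists_repr_in hnd (by omega) (1 : F)
  obtain ⟨hez, hfz⟩ := (mem_perpPair Q e f z).1 hz.1
  have hee := c5_polar_self hq Q e
  have hfe : QuadraticMap.polar Q f e = 1 := by rw [QuadraticMap.polar_comm]; exact hef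
  refine ⟨e + f, e + z, W.add_mem heW hfW, W.add_mem heW hz.2, ?_, ?_, ?_⟩
  · rw [QuadraticMap.map_add Q, hQe, hQf, hef]; ring
  · rw [QuadraticMap.map_add Q, hQe, hQz, hez]; ring
  · rw [QuadraticMap.polar_add_left, QuadraticMap.polar_add_right, QuadraticMap.polar_add_right, hee, hez, hfe,
      hfz]
    ring

section plane

variable [Fintype F] (hq : Fintype.card F = 2) {Q : QuadraticForm F V} {x y : V}
  (hx : Q x = 1) (hy : Q y = 1) (hxy : QuadraticMap.polar Q x y = 1)

include hq hxy in
theorem c5_nd_plane : ND (QuadraticMap.polarBilin Q) (pairSpan F x y) := by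
  have hyx : QuadraticMap.polar Q y x = 1 := by rw [QuadraticMap.polar_comm]; exact hxy
  have hxx := c5_polar_self hq Q x
  have hyy := c5_polar_self hq Q y
  intro u hu hu0
  obtain ⟨a, b, rfl⟩ := mem_pairSpan.mp hu
  by_cases ha : a = 0
  · have hb : b ≠ 0 := by
      rintro rfl
      apply hu0
      rw [ha, zero_smul, zero_smul, add_zero]
    refine ⟨x, left_mem_pairSpan x y, ?_⟩
    rw [pB_apply, QuadraticMap.polar_add_left, QuadraticMap.polar_smul_left, QuadraticMap.polar_smul_left,
      hxx, hyx]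
    simpa using hb
  · refine ⟨y, right_mem_pairSpan x y, ?_⟩
    rw [pB_apply, QuadraticMap.polar_add_left, QuadraticMap.polar_smul_left, QuadraticMap.polar_smul_left,
      hyy, hxy]
    simpa using ha

include hq hxy in
theorem c5_finrank_plane : finrank F ↥(pairSpan F x y) = 2 := by
  classical
  have hyx : QuadraticMap.polar Q y x = 1 := by rw [QuadraticMap.polar_comm]; exact hxy
  have hxx := c5_polar_self hq Q x
  have hyy := c5_polar_self hq Q y
  have hli : LinearIndependent F ![x, y] := by
    refine linearIndependent_of_dual Q ![x, y] ![y, x] (fun _ => 1) (fun _ => one_ne_zero) ?_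
    intro i i'
    fin_cases i <;> fin_cases i'
    · simpa using hxy
    · simpa using hxx
    · simpa using hyy
    · simpa using hyx
  unfold pairSpan
  rw [finrank_span_eq_card hli, Fintype.card_fin]

include hx hy hxy in
theorem c5_Q_plane (a b : F) : Q (a • x + b • y) = a ^ 2 + b ^ 2 + a * b := by
  rw [QuadraticMap.map_add Q, QuadraticMap.map_smul, QuadraticMap.map_smul, QuadraticMap.polar_smul_left,
    QuadraticMap.polar_smul_right, hx, hy, hxy]
  simp only [smul_eq_mul]
  ring

include hq hx hy hxy in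
theorem c5_aniso_plane : C5Aniso Q (pairSpan F x y) := by
  intro u hu hQu
  obtain ⟨a, b, rfl⟩ := mem_pairSpan.mp hu
  rw [c5_Q_plane hx hy hxy] at hQu
  have h2 := c5_two_eq_zero hq
  rcases c5_two_values hq a with rfl | rfl <;> rcases c5_two_values hq b with rfl | rfl
  · simp
  · exfalso
    have : (1 : F) = 0 := by linear_combination hQu
    exact one_ne_zero this
  · exfalso
    have : (1 : F) = 0 := by linear_combination hQu
    exact one_ne_zero this
  · exfalso
    have : (1 : F) = 0 := by linear_combination hQu - h2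
    exact one_ne_zero this

end plane

/-- over the field with two elements a non-zero vector of an anisotropic subspace has `Q = 1` -/
theorem c5_Q_eq_one [Fintype F] (hq : Fintype.card F = 2) {Q : QuadraticForm F V} {A : Submodule F V}
    (hA : C5Aniso Q A) {a : V} (ha : a ∈ A) (ha0 : a ≠ 0) : Q a = 1 := by
  rcases c5_two_values hq (Q a) with h | h
  · exact absurd (hA a ha h) ha0
  · exact h

/-- **the block lemma**: over the field with two elements a non-degenerate 4-space of plus type is the orthogonal sum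
of two anisotropic planes, and these are its only anisotropic planes. -/
theorem c5_block [Fintype F] [FiniteDimensional F V] (hq : Fintype.card F = 2) {Q : QuadraticForm F V}
    (hV : ND (QuadraticMap.polarBilin Q) ⊤) {W : Submodule F V} (hW : ND (QuadraticMap.polarBilin Q) W)
    (hd : finrank F ↥W = 4) (hyp : Hyp Q W) :
    ∃ P P' : Submodule F V, P ≤ W ∧ P' ≤ W ∧ ND (QuadraticMap.polarBilin Q) P ∧
      ND (QuadraticMap.polarBilin Q) P' ∧ finrank F ↥P = 2 ∧ finrank F ↥P' = 2 ∧
      P' ≤ LinearMap.BilinForm.orthogonal (QuadraticMap.polarBilin Q) P ∧ P ⊔ P' = W ∧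
      C5Aniso Q P ∧ C5Aniso Q P' ∧
      ∀ A : Submodule F V, A ≤ W → finrank F ↥A = 2 → C5Aniso Q A → A = P ∨ A = P' := by
  have hrefl := pB_refl Q
  obtain ⟨x, y, hxW, hyW, hx, hy, hxy⟩ := c5_exists_aniso_pair hq hW hd
  obtain ⟨P, hP⟩ : ∃ P, P = pairSpan F x y := ⟨_, rfl⟩
  have hPW : P ≤ W := by rw [hP]; exact pairSpan_le hxW hyW
  have hPnd : ND (QuadraticMap.polarBilin Q) P := by rw [hP]; exact c5_nd_plane hq hxy
  have hPd : finrank F ↥P = 2 := by rw [hP]; exact c5_finrank_plane hq hxy
  have hPan : C5Aniso Q P := by rw [hP]; exact c5_aniso_plane hq hx hy hxy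
  obtain ⟨P', hP'⟩ : ∃ P', P' = LinearMap.BilinForm.orthogonal (QuadraticMap.polarBilin Q) P ⊓ W := ⟨_, rfl⟩
  have hP'W : P' ≤ W := by rw [hP']; exact inf_le_right
  have hP'nd : ND (QuadraticMap.polarBilin Q) P' := by rw [hP']; exact nd_perp_inf hrefl hPnd hW hPW
  have hP'd : finrank F ↥P' = 2 := by
    have := finrank_perp_inf hrefl hPnd hPW
    rw [← hP'] at this
    omega
  have hP'perp : P' ≤ LinearMap.BilinForm.orthogonal (QuadraticMap.polarBilin Q) P := by
    rw [hP']; exact inf_le_left
  have hsup : P ⊔ P' = W := by rw [hP']; exact sup_perp_inf hrefl hPnd hPW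
  have hnotP : ¬ Hyp Q P := not_hyp_of_aniso hPd hPan
  have hiff := hyp_sup_iff hV hPnd hP'nd hP'perp (by rw [hPd]; exact ⟨1, rfl⟩) (by rw [hP'd]; exact ⟨1, rfl⟩)
  rw [hsup] at hiff
  have hnotP' : ¬ Hyp Q P' := fun h => hnotP ((hiff.1 hyp).2 h)
  have hP'an : C5Aniso Q P' := by
    intro a ha hQa
    by_contra ha0
    apply hnotP'
    refine ⟨Submodule.span F {a}, ?_, ?_, ?_⟩
    · rw [Submodule.span_singleton_le_iff_mem]; exact ha
    · intro w hw
      obtain ⟨c, rfl⟩ := Submodule.mem_span_singleton.1 hw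
      rw [QuadraticMap.map_smul, hQa, smul_zero]
    · rw [finrank_span_singleton ha0, hP'd]
  refine ⟨P, P', hPW, hP'W, hPnd, hP'nd, hPd, hP'd, hP'perp, hsup, hPan, hP'an, ?_⟩
  intro A hAW hAd hAan
  -- every non-zero vector of `A` lies in `P` or in `P'`
  have key : ∀ a ∈ A, a ≠ 0 → a ∈ P ∨ a ∈ P' := by
    intro a ha ha0
    have haW : a ∈ P ⊔ P' := by rw [hsup]; exact hAW ha
    obtain ⟨p, hp, p', hp', rfl⟩ := Submodule.mem_sup.1 haW
    have hpol : QuadraticMap.polar Q p p' = 0 := mem_perp.1 (hP'perp hp') p hp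
    have hQa := c5_Q_eq_one hq hAan ha ha0
    rw [QuadraticMap.map_add Q, hpol, add_zero] at hQa
    by_cases hp0 : p = 0
    · right
      rw [hp0, zero_add]
      exact hp'
    · by_cases hp'0 : p' = 0
      · left
        rw [hp'0, add_zero]
        exact hp
      · exfalso
        rw [c5_Q_eq_one hq hPan hp hp0, c5_Q_eq_one hq hP'an hp' hp'0] at hQa
        have h2 := c5_two_eq_zero hq
        have : (1 : F) = 0 := by linear_combination h2 - hQa
        exact one_ne_zero this
  by_contra hcon
  push Not at hcon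
  obtain ⟨hne, hne'⟩ := hcon
  have hnle : ¬ A ≤ P := fun h => hne (Submodule.eq_of_le_of_finrank_eq h (by rw [hAd, hPd]))
  have hnle' : ¬ A ≤ P' := fun h => hne' (Submodule.eq_of_le_of_finrank_eq h (by rw [hAd, hP'd]))
  obtain ⟨a, haA, haP⟩ := SetLike.not_le_iff_exists.1 hnle
  obtain ⟨a', ha'A, ha'P'⟩ := SetLike.not_le_iff_exists.1 hnle'
  have ha0 : a ≠ 0 := fun h => haP (by rw [h]; exact P.zero_mem)
  have ha'0 : a' ≠ 0 := fun h => ha'P' (by rw [h]; exact P'.zero_mem)
  have haP' : a ∈ P' := (key a haA ha0).resolve_left haP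
  have ha'P : a' ∈ P := (key a' ha'A ha'0).resolve_right ha'P'
  have hs0 : a + a' ≠ 0 := by
    intro h
    apply haP
    have : a = -a' := eq_neg_of_add_eq_zero_left h
    rw [this]
    exact P.neg_mem ha'P
  rcases key (a + a') (A.add_mem haA ha'A) hs0 with h | h
  · apply haP
    have := P.sub_mem h ha'P
    rwa [add_sub_cancel_right] at this
  · apply ha'P'
    have := P'.sub_mem h haP'
    rwa [add_sub_cancel_left] at this

end Cfsg.Agent.Helper1.AschOm
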