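import Mathlib
import Cfsg.Prelude.Def_GeometricClasses
import Cfsg.Agent.Helper1.AschOm3C5A
import Cfsg.Agent.Helper3.AschCUV8a

/-!
# ASCH-OM round 2, piece C5 (helper1): isometric plus-type 4-spaces over the field with two elements

Each block is the orthogonal sum of exactly two anisotropic (minus-type) planes, so the decomposition refines
canonically to a decomposition into `2t` isometric minus-type planes, preserved by every isometry that preserves the
decomposition into 4-spaces.
-/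

set_option autoImplicit false

namespace Cfsg.Agent.Helper1.AschOm

open Cfsg Cfsg.Geo Cfsg.Agent.Lead.Asch Cfsg.Agent.Lead.AschO Cfsg.Agent.Lead.AschOm
open Module Cfsg.Agent.Helper7.QTy Cfsg.Agent.Helper7.SpOrd Cfsg.Agent.Helper8.QuadType
  Cfsg.Agent.Helper8.QuadForm Cfsg.Agent.Helper8.AschOm
open scoped MatrixGroups Matrix

variable {n : ℕ} {F : Type*} [Field F] [Fintype F]

/-- C5: isometric plus-type 4-spaces over the field with two elements: each block is the orthogonal sum of exactly two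
minus-type planes. -/
theorem c2_four_blocks_two (hq : Fintype.card F = 2) (Q : (Fin n → F) → F) (hQ : IsNondegenerateQuadraticForm Q)
    {t : ℕ} (D : Fin t → Submodule F (Fin n → F)) (hD : IsOrthogonalMDecomposition Q 4 D)
    (hplus : ∀ i, IsPlusTypeOn Q (D i)) {H : Subgroup (GL (Fin n) F)} (hHI : H ≤ isometryGroup F Q)
    (hle : H ≤ decompositionStabilizer D) :
    ∃ D' : Fin (2 * t) → Submodule F (Fin n → F), IsOrthogonalMDecomposition Q 2 D' ∧
      (∀ i, ¬ IsPlusTypeOn Q (D' i)) ∧ H ≤ decompositionStabilizer D' := by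
  classical
  obtain ⟨QF, hQF⟩ : ∃ QF, QF = toQF Q hQ := ⟨_, rfl⟩
  have hcoe : ∀ v, QF v = Q v := fun v => by rw [hQF]; rfl
  have hrefl := pB_refl QF
  have hV : ND (QuadraticMap.polarBilin QF) ⊤ := by rw [hQF]; exact nd_top_of_nondeg (toQF_nondeg Q hQ)
  have hndD : ∀ i, ND (QuadraticMap.polarBilin QF) (D i) := fun i => by
    rw [hQF]; exact (nd_iff_isNondegenerateOn Q hQ (D i)).2 (hD.decomp.nondegenerate i)
  have hhyp : ∀ i, Hyp QF (D i) := fun i => by rw [hQF]; exact hplus i
  have hblk := fun i => c5_block hq hV (hndD i) (hD.decomp.decomp.finrank_eq i) (hhyp i)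
  choose P P' hPW hP'W hPnd hP'nd hPd hP'd hperp hsup hPan hP'an huniq using hblk
  have hperp' : ∀ i, P i ≤ LinearMap.BilinForm.orthogonal (QuadraticMap.polarBilin QF) (P' i) := by
    intro i x hx
    rw [mem_perp]
    intro w hw
    exact hrefl _ _ (mem_perp.1 (hperp i hw) x hx)
  -- the family indexed by `Fin 2 × Fin t`
  obtain ⟨E, hE⟩ : ∃ E : Fin 2 × Fin t → Submodule F (Fin n → F), E = fun k => if k.1 = 0 then P k.2 else P' k.2 :=
    ⟨_, rfl⟩
  have hE0 : ∀ i, E (0, i) = P i := fun i => by rw [hE]; simp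
  have hE1 : ∀ i, E (1, i) = P' i := fun i => by rw [hE]; simp
  have hEcases : ∀ k : Fin 2 × Fin t, (E k = P k.2 ∧ k.1 = 0) ∨ (E k = P' k.2 ∧ k.1 = 1) := by
    rintro ⟨b, i⟩
    fin_cases b
    · exact Or.inl ⟨hE0 i, rfl⟩
    · exact Or.inr ⟨hE1 i, rfl⟩
  have hEW : ∀ k, E k ≤ D k.2 := by
    intro k
    rcases hEcases k with ⟨h, -⟩ | ⟨h, -⟩ <;> rw [h]
    · exact hPW _
    · exact hP'W _
  have hEnd : ∀ k, ND (QuadraticMap.polarBilin QF) (E k) := by
    intro k
    rcases hEcases k with ⟨h, -⟩ | ⟨h, -⟩ <;> rw [h]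
    · exact hPnd _
    · exact hP'nd _
  have hEd : ∀ k, finrank F ↥(E k) = 2 := by
    intro k
    rcases hEcases k with ⟨h, -⟩ | ⟨h, -⟩ <;> rw [h]
    · exact hPd _
    · exact hP'd _
  have hEan : ∀ k, C5Aniso QF (E k) := by
    intro k
    rcases hEcases k with ⟨h, -⟩ | ⟨h, -⟩ <;> rw [h]
    · exact hPan _
    · exact hP'an _
  have hDorth : ∀ i i', i ≠ i' → D i' ≤ LinearMap.BilinForm.orthogonal (QuadraticMap.polarBilin QF) (D i) := by
    intro i i' hii
    rw [hQF]
    exact (le_orth_iff_areOrthogonalFor Q hQ (D i) (D i')).2 (hD.decomp.orthogonal i i' hii)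
  have hEorth : ∀ k k', k ≠ k' → E k' ≤ LinearMap.BilinForm.orthogonal (QuadraticMap.polarBilin QF) (E k) := by
    intro k k' hkk
    by_cases hii : k.2 = k'.2
    · rcases hEcases k with ⟨h, hb⟩ | ⟨h, hb⟩ <;> rcases hEcases k' with ⟨h', hb'⟩ | ⟨h', hb'⟩
      · exact absurd (Prod.ext (hb.trans hb'.symm) hii) hkk
      · rw [h, h', hii]; exact hperp _
      · rw [h, h', hii]; exact hperp' _
      · exact absurd (Prod.ext (hb.trans hb'.symm) hii) hkk
    · intro x hx
      rw [mem_perp]
      intro w hw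
      exact mem_perp.1 (hDorth k.2 k'.2 hii (hEW k' hx)) w (hEW k hw)
  have hEne : ∀ k, E k ≠ ⊥ := by
    intro k h
    have := hEd k
    rw [h, finrank_bot] at this
    omega
  have hEinj : Function.Injective E := by
    intro k k' hkk
    by_contra hne
    have h1 := hEorth k k' hne
    rw [← hkk] at h1
    have hdisj := (nd_iff_disjoint hrefl).1 (hEnd k)
    exact hEne k (disjoint_self.1 (hdisj.mono_right h1))
  -- the family indexed by `Fin (2 * t)`
  obtain ⟨D', hD'⟩ : ∃ D' : Fin (2 * t) → Submodule F (Fin n → F), D' = fun j => E (finProdFinEquiv.symm j) :=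
    ⟨_, rfl⟩
  have hD'app : ∀ j, D' j = E (finProdFinEquiv.symm j) := fun j => by rw [hD']
  have hD'E : ∀ k, D' (finProdFinEquiv k) = E k := fun k => by rw [hD'app, Equiv.symm_apply_apply]
  have hD'inj : Function.Injective D' := by
    intro j j' h
    rw [hD'app, hD'app] at h
    exact finProdFinEquiv.symm.injective (hEinj h)
  have hD'orth : ∀ j j', j ≠ j' →
      D' j' ≤ LinearMap.BilinForm.orthogonal (QuadraticMap.polarBilin QF) (D' j) := by
    intro j j' hjj
    rw [hD'app, hD'app]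
    exact hEorth _ _ (fun h => hjj (finProdFinEquiv.symm.injective h))
  have hD'nd : ∀ j, ND (QuadraticMap.polarBilin QF) (D' j) := fun j => by rw [hD'app]; exact hEnd _
  have hD'd : ∀ j, finrank F ↥(D' j) = 2 := fun j => by rw [hD'app]; exact hEd _
  have hD'an : ∀ j, C5Aniso QF (D' j) := fun j => by rw [hD'app]; exact hEan _
  have hD'nothyp : ∀ j, ¬ Hyp QF (D' j) := fun j => not_hyp_of_aniso (hD'd j) (hD'an j)
  have hD'ndQ : ∀ j, IsNondegenerateOn (QuadraticMap.polar Q) (D' j) := fun j => by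
    have := hD'nd j
    rw [hQF] at this
    exact (nd_iff_isNondegenerateOn Q hQ (D' j)).1 this
  have hD'notplus : ∀ j, ¬ IsPlusTypeOn Q (D' j) := fun j h => by
    apply hD'nothyp j
    rw [hQF]
    exact h
  refine ⟨D', ⟨⟨⟨?_, by norm_num, hD'd, ?_, ?_⟩, hD'ndQ, ?_⟩, ?_⟩, hD'notplus, ?_⟩
  · have := hD.decomp.decomp.two_le
    omega
  · -- independence
    intro j
    refine disjoint_of_le_perp hrefl (hD'nd j) ?_
    exact iSup₂_le (fun k hk => hD'orth j k (fun h => hk h.symm))
  · -- the sum is everything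
    rw [eq_top_iff, ← hD.decomp.decomp.iSup_eq_top]
    refine iSup_le (fun i => ?_)
    rw [← hsup i]
    refine sup_le ?_ ?_
    · rw [← hE0 i, ← hD'E]
      exact le_iSup D' _
    · rw [← hE1 i, ← hD'E]
      exact le_iSup D' _
  · -- orthogonality
    intro j j' hjj
    have := hD'orth j j' hjj
    rw [hQF] at this
    exact (le_orth_iff_areOrthogonalFor Q hQ (D' j) (D' j')).1 this
  · -- pairwise isometric
    intro j j'
    refine isometric_of_same_type Q hQ (hD'ndQ j) (hD'ndQ j') (by rw [hD'd, hD'd]) (by rw [hD'd]; exact ⟨1, rfl⟩) ?_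
    exact ⟨fun h => absurd h (hD'notplus j), fun h => absurd h (hD'notplus j')⟩
  · -- the stabiliser
    intro g hg
    refine Cfsg.Agent.Helper3.AschCU.mem_decompositionStabilizer_of_exists hD'inj g ?_
    intro j
    obtain ⟨σ, hσ⟩ := hle hg
    have hiso := mem_isometryGroup_iff.1 (hHI hg)
    obtain ⟨k, hk⟩ : ∃ k, k = finProdFinEquiv.symm j := ⟨_, rfl⟩
    have hginj : Function.Injective (Matrix.toLin' (g : Matrix (Fin n) (Fin n) F)) := by
      intro v w hvw
      have := congrArg (Matrix.toLin' ((g⁻¹ : GL (Fin n) F) : Matrix (Fin n) (Fin n) F)) hvw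
      rw [Matrix.toLin'_apply, Matrix.toLin'_apply, Matrix.toLin'_apply, Matrix.toLin'_apply,
        Matrix.mulVec_mulVec, Matrix.mulVec_mulVec, ← Units.val_mul, inv_mul_cancel, Units.val_one,
        Matrix.one_mulVec, Matrix.one_mulVec] at this
      exact this
    obtain ⟨A, hA⟩ : ∃ A, A = (D' j).map (Matrix.toLin' (g : Matrix (Fin n) (Fin n) F)) := ⟨_, rfl⟩
    have hAW : A ≤ D (σ k.2) := by
      rw [hA, ← hσ, hD'app, ← hk]
      exact Submodule.map_mono (hEW k)
    have hAd : finrank F ↥A = 2 := by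
      rw [hA, ← hD'd j]
      exact (LinearEquiv.finrank_eq (Submodule.equivMapOfInjective _ hginj (D' j))).symm
    have hAan : C5Aniso QF A := by
      intro a ha hQa
      rw [hA] at ha
      obtain ⟨v, hv, rfl⟩ := ha
      rw [hcoe, Matrix.toLin'_apply, hiso, ← hcoe] at hQa
      rw [hD'an j v hv hQa, map_zero]
    rcases huniq (σ k.2) A hAW hAd hAan with h | h
    · exact ⟨finProdFinEquiv (0, σ k.2), by rw [← hA, h, hD'E, hE0]⟩
    · exact ⟨finProdFinEquiv (1, σ k.2), by rw [← hA, h, hD'E, hE1]⟩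

end Cfsg.Agent.Helper1.AschOm
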