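import Mathlib
import Cfsg.Prelude.Def_GeometricClasses
import Cfsg.Agent.Lead.AschBase
import Cfsg.Agent.Lead.AschOBase
import Cfsg.Agent.Helper3.AschForms
import Cfsg.Agent.Helper3.AschUSub
import Cfsg.Agent.Helper1.AschOSchur
import Cfsg.Agent.Helper1.AschOSub

/-!
# ASCH-OM, piece M4a (helper1): the subfield case with its rational structure, any `n ≥ 2`, any characteristic

`P ≤ O(Q)` absolutely irreducible and realisable over a proper subfield `F₀` (by `B`), normalised by `H`.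
Take `τ`, `F₁ ⊇ F₀` of prime index `r` (helper3's `exists_prime_fixed_subfield'`).  With `Q' = Q ∘ B⁻¹` and
`φ` its polar form, helper3's `twist_form` gives `c` with `φ^τ = c φ`; then `ψ = Q'^τ − c Q'` is additive,
`ψ(a u) = a² ψ(u)`, and invariant under the absolutely irreducible `B P B⁻¹`, hence zero
(`semiAdd_invariant_eq_zero`).  So `Q'(u)/d₀ ∈ F₁` for `u` over `F₁`, where `d₀ ≠ 0` is an entry of the Gram matrix
of `φ`: `Pm = B⁻¹`, `ζ = d₀⁻¹`.
-/

set_option autoImplicit false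
set_option linter.unusedVariables false
set_option linter.unusedSectionVars false

namespace Cfsg.Agent.Helper1.AschOm

open Cfsg Cfsg.Geo Cfsg.Agent.Lead.Asch Cfsg.Agent.Lead.AschO Cfsg.Agent.Helper3.Asch
  Cfsg.Agent.Helper3.AschU Cfsg.Agent.Helper1.AschO
open scoped MatrixGroups Matrix

variable {n : ℕ} {F : Type*} [Field F] [Fintype F]

/-- An additive map `ψ` with `ψ (a u) = a² ψ u`, invariant under an irreducible set of matrices in dimension at
least two, vanishes. -/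
theorem semiAdd_invariant_eq_zero (hn : 2 ≤ n) {S' : Set (Matrix (Fin n) (Fin n) F)}
    (hirr : ActsIrreducibly S') (ψ : (Fin n → F) → F) (hadd : ∀ u v, ψ (u + v) = ψ u + ψ v)
    (hsmul : ∀ (a : F) (u : Fin n → F), ψ (a • u) = a ^ 2 * ψ u)
    (hfix : ∀ s ∈ S', ∀ u, ψ (s *ᵥ u) = ψ u) : ∀ u, ψ u = 0 := by
  classical
  by_cases h2 : (2 : F) = 0
  swap
  · intro u
    have h1 : ψ ((2 : F) • u) = ψ u + ψ u := by rw [two_smul, hadd]
    rw [hsmul] at h1
    have h3 : (2 : F) * ψ u = 0 := by linear_combination h1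
    exact (mul_eq_zero.1 h3).resolve_left h2
  · have hchar : ringChar F = 2 :=
      CharP.ringChar_of_prime_eq_zero Nat.prime_two (by exact_mod_cast h2)
    have hz : ψ 0 = 0 := by
      have := hsmul 0 0
      rw [zero_smul] at this
      rw [this]; ring
    let K : Submodule F (Fin n → F) :=
      { carrier := {u | ψ u = 0}
        zero_mem' := hz
        add_mem' := fun {u v} hu hv => by
          show ψ (u + v) = 0
          rw [hadd, (hu : ψ u = 0), (hv : ψ v = 0), add_zero]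
        smul_mem' := fun a u hu => by
          show ψ (a • u) = 0
          rw [hsmul, (hu : ψ u = 0), mul_zero] }
    have hK : ∀ u, u ∈ K ↔ ψ u = 0 := fun u => Iff.rfl
    have hKinv : ∀ s ∈ S', K.map (Matrix.toLin' s) ≤ K := by
      rintro s hs _ ⟨u, hu, rfl⟩
      rw [hK, Matrix.toLin'_apply, hfix s hs]
      exact hu
    rcases hirr K hKinv with hbot | htop
    · exfalso
      obtain ⟨e₀, he₀⟩ : ∃ e₀ : Fin n → F, e₀ = Pi.single ⟨0, by omega⟩ 1 := ⟨_, rfl⟩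
      obtain ⟨e₁, he₁⟩ : ∃ e₁ : Fin n → F, e₁ = Pi.single ⟨1, by omega⟩ 1 := ⟨_, rfl⟩
      obtain ⟨l, hl⟩ := FiniteField.isSquare_of_char_two hchar (ψ e₁)
      obtain ⟨m, hm⟩ := FiniteField.isSquare_of_char_two hchar (ψ e₀)
      have h3 : ψ (l • e₀ + m • e₁) = 0 := by
        rw [hadd, hsmul, hsmul]
        have : l ^ 2 * ψ e₀ + m ^ 2 * ψ e₁ = 2 * (ψ e₀ * ψ e₁) := by
          rw [pow_two, pow_two, ← hl, ← hm]; ring
        rw [this, h2, zero_mul]
      have h4 : l • e₀ + m • e₁ ∈ K := (hK _).2 h3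
      rw [hbot, Submodule.mem_bot] at h4
      have h5 : l = 0 := by
        have := congrFun h4 ⟨0, by omega⟩
        rw [he₀, he₁] at this
        simpa [Pi.single_apply] using this
      have h6 : ψ e₁ = 0 := by rw [hl, h5, mul_zero]
      have h7 : e₁ ∈ K := (hK _).2 h6
      rw [hbot, Submodule.mem_bot] at h7
      have := congrFun h7 ⟨1, by omega⟩
      rw [he₁] at this
      simp at this
    · intro u
      have : u ∈ K := by rw [htop]; exact Submodule.mem_top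
      exact (hK u).1 this

/-- **M4a**: the subfield case with its rational structure (any `n ≥ 2`, any characteristic). -/
theorem subfield_orth_gen (hn : 2 ≤ n) (Q : (Fin n → F) → F) (hQ : IsNondegenerateQuadraticForm Q)
    {H P : Subgroup (GL (Fin n) F)} (hPI : P ≤ isometryGroup F Q) (hnz : Nzes H P)
    (hP : ActsAbsolutelyIrreducibly (matrixSet P)) (F₀ : Subfield F) (h0 : F₀ ≠ ⊤)
    (hr : RealisableOver F₀ (matrixSet P)) :
    ∃ (F₁ : Subfield F) (r : ℕ) (Pm : GL (Fin n) F) (ζ : F), r.Prime ∧ Fintype.card F = Nat.card F₁ ^ r ∧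
      ζ ≠ 0 ∧ IsQuadFormRationalStructure (fun v : Fin n → F => ζ * Q v) F₁ Pm ∧
      H ≤ subfieldSubgroup F₁ Pm := by
  classical
  obtain ⟨τ, F₁, r, hrp, hcard, hfix0, hmem, hfixF₁⟩ := exists_prime_fixed_subfield' F₀ h0
  obtain ⟨B, hB⟩ := hr
  obtain ⟨Bm, hBm⟩ : ∃ Bm : Matrix (Fin n) (Fin n) F, Bm = (B : Matrix (Fin n) (Fin n) F) := ⟨_, rfl⟩
  obtain ⟨Bi, hBi⟩ : ∃ Bi : Matrix (Fin n) (Fin n) F,
      Bi = ((B⁻¹ : GL (Fin n) F) : Matrix (Fin n) (Fin n) F) := ⟨_, rfl⟩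
  have hBiB : Bi * Bm = 1 := by
    rw [hBi, hBm, ← Units.val_mul, inv_mul_cancel, Units.val_one]
  have hBBi : Bm * Bi = 1 := by
    rw [hBi, hBm, ← Units.val_mul, mul_inv_cancel, Units.val_one]
  obtain ⟨S', hS'⟩ : ∃ S' : Set (Matrix (Fin n) (Fin n) F),
      S' = (fun s => Bm * s * Bi) '' matrixSet P := ⟨_, rfl⟩
  have hS'irr : ActsAbsolutelyIrreducibly S' := by
    rw [hS', hBm, hBi]; exact absIrr_conj hP B
  have hS'u : ∀ s ∈ S', ∃ t : Matrix (Fin n) (Fin n) F, s * t = 1 := by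
    rw [hS']
    rintro _ ⟨s, hs, rfl⟩
    obtain ⟨x, hx, rfl⟩ := mem_matrixSet_iff.1 hs
    refine ⟨Bm * ((x⁻¹ : GL (Fin n) F) : Matrix (Fin n) (Fin n) F) * Bi, ?_⟩
    have hxx : (x : Matrix (Fin n) (Fin n) F) * ((x⁻¹ : GL (Fin n) F) : Matrix (Fin n) (Fin n) F) = 1 := by
      rw [← Units.val_mul, mul_inv_cancel, Units.val_one]
    calc Bm * (x : Matrix (Fin n) (Fin n) F) * Bi * (Bm * ((x⁻¹ : GL (Fin n) F) : Matrix (Fin n) (Fin n) F) * Bi)
        = Bm * ((x : Matrix (Fin n) (Fin n) F) * ((Bi * Bm) *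
            ((x⁻¹ : GL (Fin n) F) : Matrix (Fin n) (Fin n) F))) * Bi := by
          simp only [Matrix.mul_assoc]
      _ = 1 := by rw [hBiB, Matrix.one_mul, hxx, Matrix.mul_one, hBBi]
  have hτS : ∀ s ∈ S', ∀ i j, τ (s i j) = s i j := by
    rw [hS']
    rintro _ ⟨s, hs, rfl⟩ i j
    rw [hBm, hBi]
    exact hfix0 _ (hB s hs i j)
  have hτS' : ∀ s ∈ S', ∀ i j, τ.symm (s i j) = s i j := by
    intro s hs i j
    rw [RingEquiv.symm_apply_eq]; exact (hτS s hs i j).symm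
  have hB' := hQ.polar_bilinear
  have hSq := IsSesq.of_bilinear hB'
  obtain ⟨φ, hφdef⟩ : ∃ φ : (Fin n → F) → (Fin n → F) → F,
      φ = fun u v => QuadraticMap.polar Q (Bi *ᵥ u) (Bi *ᵥ v) := ⟨_, rfl⟩
  have hφ : IsSesq (RingEquiv.refl F) φ := by
    rw [hφdef]
    refine ⟨?_, ?_, ?_, ?_⟩
    · intro x y v
      simp only [Matrix.mulVec_add, hSq.add_left]
    · intro c x v
      simp only [Matrix.mulVec_smul, hSq.smul_left]
    · intro v x y
      simp only [Matrix.mulVec_add, hSq.add_right]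
    · intro c v x
      simp only [Matrix.mulVec_smul, hSq.smul_right]
  have hBinj : ∀ v : Fin n → F, v ≠ 0 → Bi *ᵥ v ≠ 0 := by
    intro v hv h
    apply hv
    have := congrArg (fun x => Bm *ᵥ x) h
    simpa only [Matrix.mulVec_mulVec, hBBi, Matrix.one_mulVec, Matrix.mulVec_zero] using this
  have hnd : IsNondegenerateForm φ := by
    intro v hv
    have hnd0 := hQ.nondegenerate _ (hBinj v hv)
    rw [hφdef]
    constructor
    · obtain ⟨x, hx⟩ := hnd0.1
      refine ⟨Bm *ᵥ x, ?_⟩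
      simp only [Matrix.mulVec_mulVec, hBiB, Matrix.one_mulVec]
      exact hx
    · obtain ⟨x, hx⟩ := hnd0.2
      refine ⟨Bm *ᵥ x, ?_⟩
      simp only [Matrix.mulVec_mulVec, hBiB, Matrix.one_mulVec]
      exact hx
  have hconj : ∀ (x : GL (Fin n) F) (w : Fin n → F),
      Bi *ᵥ ((Bm * (x : Matrix (Fin n) (Fin n) F) * Bi) *ᵥ w) =
        (x : Matrix (Fin n) (Fin n) F) *ᵥ (Bi *ᵥ w) := by
    intro x w
    rw [Matrix.mulVec_mulVec, Matrix.mulVec_mulVec, ← Matrix.mul_assoc, ← Matrix.mul_assoc, hBiB,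
      Matrix.one_mul]
  have hfix : FixesForm S' φ := by
    rw [hS']
    rintro _ ⟨s, hs, rfl⟩ u v
    obtain ⟨x, hx, rfl⟩ := mem_matrixSet_iff.1 hs
    rw [hφdef]
    simp only
    rw [hconj, hconj, polar_mulVec_of_mem (hPI hx)]
  have hcore : ∀ h ∈ H, B * h * B⁻¹ ∈
      (Matrix.GeneralLinearGroup.map (F₁.subtype : F₁ →+* F)).range ⊔ scalars (Fin n) F :=
    fun h hh => subfield_core (by omega) hnz hP τ F₁ hmem B (fun s hs i j => hfix0 _ (hB s hs i j)) h hh
  -- the twist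
  obtain ⟨c, hc⟩ := twist_form (σ := RingEquiv.refl F) (τ := τ) (fun x => rfl) hφ hnd hS'irr hS'u hfix hτS
  -- the quadratic form itself
  obtain ⟨Q', hQ'def⟩ : ∃ Q' : (Fin n → F) → F, Q' = fun u => Q (Bi *ᵥ u) := ⟨_, rfl⟩
  have hQ'smul : ∀ (a : F) (u : Fin n → F), Q' (a • u) = a ^ 2 * Q' u := by
    intro a u
    rw [hQ'def]
    simp only [Matrix.mulVec_smul, hQ.smul]
  have hQ'polar : ∀ u v : Fin n → F, Q' (u + v) = Q' u + Q' v + φ u v := by
    intro u v
    rw [hQ'def, hφdef]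
    simp only [Matrix.mulVec_add]
    unfold QuadraticMap.polar
    ring
  have hQ'fix : ∀ s ∈ S', ∀ u, Q' (s *ᵥ u) = Q' u := by
    rw [hS']
    rintro _ ⟨s, hs, rfl⟩ u
    obtain ⟨x, hx, rfl⟩ := mem_matrixSet_iff.1 hs
    rw [hQ'def]
    simp only
    rw [hconj]
    exact (hPI hx) (Bi *ᵥ u) 0
  obtain ⟨ψ, hψdef⟩ : ∃ ψ : (Fin n → F) → F,
      ψ = fun u => τ (Q' (fun i => τ.symm (u i))) - c * Q' u := ⟨_, rfl⟩
  have hψadd : ∀ u v, ψ (u + v) = ψ u + ψ v := by
    intro u v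
    rw [hψdef]
    simp only
    have e1 : (fun i => τ.symm ((u + v) i)) = (fun i => τ.symm (u i)) + (fun i => τ.symm (v i)) := by
      funext i; simp
    rw [e1, hQ'polar, hQ'polar, map_add, map_add, hc u v]
    ring
  have hψsmul : ∀ (a : F) (u : Fin n → F), ψ (a • u) = a ^ 2 * ψ u := by
    intro a u
    rw [hψdef]
    simp only
    have e1 : (fun i => τ.symm ((a • u) i)) = τ.symm a • (fun i => τ.symm (u i)) := by
      funext i; simp
    rw [e1, hQ'smul, hQ'smul, map_mul, map_pow, RingEquiv.apply_symm_apply]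
    ring
  have hψfix : ∀ s ∈ S', ∀ u, ψ (s *ᵥ u) = ψ u := by
    intro s hs u
    rw [hψdef]
    simp only
    rw [map_mulVec_of_fixed τ.symm s (hτS' s hs) u, hQ'fix s hs, hQ'fix s hs]
  have hψ0 := semiAdd_invariant_eq_zero hn hS'irr.1 ψ hψadd hψsmul hψfix
  have hQval : ∀ u : Fin n → F, (∀ i, u i ∈ F₁) → τ (Q' u) = c * Q' u := by
    intro u hu
    have eu : (fun i => τ.symm (u i)) = u := by
      funext i
      rw [RingEquiv.symm_apply_eq, hfixF₁ _ (hu i)]
    have h1 := hψ0 u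
    rw [hψdef] at h1
    simp only at h1
    rw [eu, sub_eq_zero] at h1
    exact h1
  have hval : ∀ u v : Fin n → F, (∀ i, u i ∈ F₁) → (∀ i, v i ∈ F₁) → τ (φ u v) = c * φ u v := by
    intro u v hu hv
    have eu : (fun i => τ.symm (u i)) = u := by
      funext i
      rw [RingEquiv.symm_apply_eq, hfixF₁ _ (hu i)]
    have ev : (fun i => τ.symm (v i)) = v := by
      funext i
      rw [RingEquiv.symm_apply_eq, hfixF₁ _ (hv i)]
    have := hc u v
    rw [eu, ev] at this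
    exact this
  obtain ⟨i, j, hd0⟩ := exists_gram_ne_zero (by omega) hφ hnd
  obtain ⟨d₀, hd₀⟩ : ∃ d₀ : F, d₀ = φ (bv i) (bv j) := ⟨_, rfl⟩
  rw [← hd₀] at hd0
  have hτd : τ d₀ = c * d₀ := by
    rw [hd₀]; exact hval _ _ (bv_mem F₁ i) (bv_mem F₁ j)
  have hc0 : c ≠ 0 := by
    rintro rfl
    rw [zero_mul] at hτd
    exact hd0 ((map_eq_zero τ).1 hτd)
  refine ⟨F₁, r, B⁻¹, d₀⁻¹, hrp, hcard, inv_ne_zero hd0, ?_, ?_⟩
  · intro u hu
    show d₀⁻¹ * Q (((B⁻¹ : GL (Fin n) F) : Matrix (Fin n) (Fin n) F) *ᵥ u) ∈ F₁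
    have e1 : Q (((B⁻¹ : GL (Fin n) F) : Matrix (Fin n) (Fin n) F) *ᵥ u) = Q' u := by
      rw [hQ'def, hBi]
    rw [e1]
    apply hmem
    rw [map_mul, map_inv₀, hτd, hQval u hu]
    field_simp
  · apply le_subfieldSubgroup_of_conj F₁ B B⁻¹ hcore
    intro h
    group

end Cfsg.Agent.Helper1.AschOm
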