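import Mathlib
import Cfsg.Prelude.Def_GeometricClasses
import Cfsg.Agent.Lead.AschOmB
import Cfsg.Agent.Helper7.QTyB
import Cfsg.Agent.Helper1.AschONotSub

/-!
# ASCH-OM, piece M5e (helper1): `Ω(Q)` is not contained in a subfield group (`n ≥ 5`, any characteristic)

`Ω(Q)` is perfect (helper8's `SG_le_commutator`), commutators of a subfield group `P (GL(F₀) Z) P⁻¹` lie in
`P GL(F₀) P⁻¹`, and `Ω(Q)` contains the long root family `1 + b N`, `b ∈ F`, `N ≠ 0`
(lead's `longRoot_mem_omegaGL`, for a totally singular 2-space from helper7's `exists_ts_of_lt`); so `F₀ = F`.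
-/

set_option autoImplicit false
set_option linter.unusedVariables false
set_option linter.unusedSectionVars false

namespace Cfsg.Agent.Helper1.AschOm

open Cfsg Cfsg.Geo Cfsg.Agent.Helper8.QuadForm Cfsg.Agent.Helper8.SiegelGroup Cfsg.Agent.Helper7.OrthMax
  Cfsg.Agent.Lead.AschOm Cfsg.Agent.Helper1.AschO
open scoped MatrixGroups Matrix commutatorElement

variable {n : ℕ} {F : Type*} [Field F] [Fintype F]

/-- `Ω(Q)` is not contained in a subfield group, dimension at least five. -/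
theorem not_le_subfieldSubgroup_omega_five (hn : 5 ≤ n) (Q : (Fin n → F) → F)
    (hQ : IsNondegenerateQuadraticForm Q) (F₀ : Subfield F) (h0 : F₀ ≠ ⊤) (P : GL (Fin n) F) :
    ¬ omegaGL Q ≤ subfieldSubgroup F₀ P := by
  classical
  intro hle
  obtain ⟨Q', hQ'def⟩ : ∃ Q' : QuadraticForm F (Fin n → F), Q' = toQF Q hQ := ⟨_, rfl⟩
  have he : (⇑Q' : (Fin n → F) → F) = Q := by rw [hQ'def]; rfl
  have hQnd : (QuadraticMap.polarBilin Q').Nondegenerate := by
    rw [hQ'def]; exact toQF_polarBilin_nondegenerate Q hQ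
  have hQN : Nondeg Q' := (nondeg_iff Q').mp hQnd
  have h5 : 5 ≤ Fintype.card (Fin n) := by rw [Fintype.card_fin]; exact hn
  have hfr : Module.finrank F (Fin n → F) = n := Module.finrank_fin_fun F
  rw [← he] at hle
  have hΩ : omegaGL ⇑Q' = (SG Q').map (toGL Q') := by
    apply le_antisymm
    · intro g hg
      obtain ⟨k, hk, rfl⟩ := exists_toGL_eq Q' hQnd h5 hg
      exact ⟨k, hk, rfl⟩
    · rintro _ ⟨k, hk, rfl⟩
      exact toGL_mem_omegaGL Q' hQnd h5 hk
  have hperf : omegaGL ⇑Q' ≤ ⁅omegaGL ⇑Q', omegaGL ⇑Q'⁆ := by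
    rw [hΩ, ← Subgroup.map_commutator]
    exact Subgroup.map_mono (SG_le_commutator Q' hQN (by rw [hfr]; exact hn))
  have hle2 : omegaGL ⇑Q' ≤
      ((Matrix.GeneralLinearGroup.map (F₀.subtype : F₀ →+* F)).range).map (MulAut.conj P).toMonoidHom :=
    hperf.trans ((Subgroup.commutator_mono hle hle).trans (commutator_subfieldSubgroup_le F₀ P))
  -- a totally singular 2-space
  have hND : Cfsg.Agent.Helper7.SpOrd.ND (QuadraticMap.polarBilin Q') ⊤ := by
    intro u _ hu0
    by_contra hcon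
    push Not at hcon
    exact hu0 (hQN u (fun w => hcon w Submodule.mem_top))
  obtain ⟨L, -, hTS, hL2⟩ := Cfsg.Agent.Helper7.QTy.exists_ts_of_lt hND 2 ⊤ hND
    (by rw [finrank_top, hfr]; omega)
  have hLne : L ≠ ⊥ := by
    intro h
    rw [h, finrank_bot] at hL2
    omega
  obtain ⟨u, huL, hu0⟩ := Submodule.exists_mem_ne_zero_of_ne_bot hLne
  have hlt : Submodule.span F {u} < L := by
    refine lt_of_le_of_ne ((Submodule.span_singleton_le_iff_mem u L).2 huL) ?_
    intro h
    have h1 : Module.finrank F (Submodule.span F {u}) = 1 := finrank_span_singleton hu0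
    rw [h] at h1
    omega
  obtain ⟨z, hzL, hzu⟩ := SetLike.exists_of_lt hlt
  have hQu : Q u = 0 := by rw [← he]; exact hTS u huL
  have hQz : Q z = 0 := by rw [← he]; exact hTS z hzL
  have huz : QuadraticMap.polar Q u z = 0 := by
    unfold QuadraticMap.polar
    have h1 : Q (u + z) = 0 := by rw [← he]; exact hTS _ (L.add_mem huL hzL)
    rw [h1, hQu, hQz]; ring
  -- the long root family
  choose g hgΩ hgv using fun b : F => longRoot_mem_omegaGL h5 Q hQ u z hQu hQz huz b
  obtain ⟨N, hN⟩ : ∃ N : Matrix (Fin n) (Fin n) F,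
      N = ((g 1 : GL (Fin n) F) : Matrix (Fin n) (Fin n) F) - 1 := ⟨_, rfl⟩
  have hNv : ∀ x, N *ᵥ x = QuadraticMap.polar Q x z • u - QuadraticMap.polar Q x u • z := by
    intro x
    rw [hN, Matrix.sub_mulVec, hgv, Matrix.one_mulVec, one_smul, add_sub_cancel_left]
  have hgN : ∀ b, ((g b : GL (Fin n) F) : Matrix (Fin n) (Fin n) F) = 1 + b • N := by
    intro b
    apply Matrix.mulVec_injective
    funext x
    rw [hgv, Matrix.add_mulVec, Matrix.one_mulVec, Matrix.smul_mulVec, hNv]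
  have hN0 : N ≠ 0 := by
    intro h
    obtain ⟨⟨x, hx⟩, -⟩ := hQ.nondegenerate u hu0
    have h1 := hNv x
    rw [h, Matrix.zero_mulVec] at h1
    apply hzu
    have h3 : z = ((QuadraticMap.polar Q x u)⁻¹ * QuadraticMap.polar Q x z) • u := by
      have h4 : QuadraticMap.polar Q x u • z = QuadraticMap.polar Q x z • u := (sub_eq_zero.1 h1.symm).symm
      rw [mul_smul, ← h4, smul_smul, inv_mul_cancel₀ hx, one_smul]
    rw [h3]
    exact Submodule.smul_mem _ _ (Submodule.mem_span_singleton_self u)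
  have hgΩ' : ∀ b, g b ∈ omegaGL ⇑Q' := by
    intro b; rw [he]; exact hgΩ b
  exact h0 (subfield_eq_top_of_family F₀ P g N hN0 hgN (fun b => hle2 (hgΩ' b)))

/-- **M5e**: `Ω(Q)` is not contained in a subfield group (exact stub). -/
theorem not_le_subfieldSubgroup_omega_gen (hn : 8 ≤ n) (Q : (Fin n → F) → F)
    (hQ : IsNondegenerateQuadraticForm Q) (F₀ : Subfield F) (h0 : F₀ ≠ ⊤) (P : GL (Fin n) F) :
    ¬ omegaGL Q ≤ subfieldSubgroup F₀ P :=
  not_le_subfieldSubgroup_omega_five (by omega) Q hQ F₀ h0 P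

end Cfsg.Agent.Helper1.AschOm
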