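import Mathlib
import Cfsg.Prelude.Def_GeometricClasses
import Cfsg.Agent.Helper7.TnSpB

/-!
# ASCH-COMP-Sp, FORM-TENSOR part A (helper1): bilinear forms given by a Gram matrix

`formOfGram id M` is bilinear; symmetric / alternating / non-degenerate according to `M`.
In characteristic 2 the isotropic vectors of a symmetric matrix form a subspace, non-zero in dimension `≥ 2`
over a finite field.
-/

set_option autoImplicit false
set_option linter.unusedVariables false
set_option linter.unusedSectionVars false

namespace Cfsg.Agent.Helper1.AschSp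

open Cfsg Cfsg.Geo
open scoped MatrixGroups Matrix Kronecker

variable {F : Type*} [Field F] {k : ℕ}

/-- the bilinear form with Gram matrix `M` -/
theorem fog_eq (M : Matrix (Fin k) (Fin k) F) (x y : Fin k → F) :
    formOfGram id M x y = x ⬝ᵥ (M *ᵥ y) :=
  Cfsg.Agent.Helper7.TnSp.formOfGram_id M x y

theorem fog_bilinear (M : Matrix (Fin k) (Fin k) F) : IsBilinearForm (formOfGram id M) := by
  refine ⟨?_, ?_, ?_, ?_⟩
  · intro x y v
    rw [fog_eq, fog_eq, fog_eq, add_dotProduct]
  · intro c x v
    rw [fog_eq, fog_eq, smul_dotProduct, smul_eq_mul]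
  · intro v x y
    rw [fog_eq, fog_eq, fog_eq, Matrix.mulVec_add, dotProduct_add]
  · intro c v x
    rw [fog_eq, fog_eq, Matrix.mulVec_smul, dotProduct_smul, smul_eq_mul]

theorem fog_swap (M : Matrix (Fin k) (Fin k) F) (x y : Fin k → F) :
    formOfGram id M x y = formOfGram id Mᵀ y x := by
  rw [fog_eq, fog_eq, Matrix.mulVec_transpose, Matrix.dotProduct_mulVec, dotProduct_comm]

theorem fog_smul_mat (c : F) (M : Matrix (Fin k) (Fin k) F) (x y : Fin k → F) :
    formOfGram id (c • M) x y = c * formOfGram id M x y := by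
  rw [fog_eq, fog_eq, Matrix.smul_mulVec, dotProduct_smul, smul_eq_mul]

theorem fog_neg_mat (M : Matrix (Fin k) (Fin k) F) (x y : Fin k → F) :
    formOfGram id (-M) x y = - formOfGram id M x y := by
  rw [fog_eq, fog_eq, Matrix.neg_mulVec, dotProduct_neg]

theorem fog_symm {M : Matrix (Fin k) (Fin k) F} (hM : Mᵀ = M) (x y : Fin k → F) :
    formOfGram id M x y = formOfGram id M y x := by
  rw [fog_swap, hM]

theorem fog_skew {M : Matrix (Fin k) (Fin k) F} (hM : Mᵀ = -M) (x y : Fin k → F) :
    formOfGram id M x y = - formOfGram id M y x := by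
  rw [fog_swap, hM, fog_neg_mat]

theorem fog_single (M : Matrix (Fin k) (Fin k) F) (a b : Fin k) :
    formOfGram id M (Pi.single a 1) (Pi.single b 1) = M a b := by
  classical
  rw [fog_eq, Matrix.mulVec_single_one, single_one_dotProduct, Matrix.col_apply]

theorem fog_nondeg {M : Matrix (Fin k) (Fin k) F} (hM : IsUnit M.det) :
    IsNondegenerateForm (formOfGram id M) := by
  classical
  have key : ∀ (A : Matrix (Fin k) (Fin k) F), IsUnit A.det → ∀ v : Fin k → F, v ≠ 0 →
      ∃ x : Fin k → F, x ⬝ᵥ (A *ᵥ v) ≠ 0 := by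
    intro A hA v hv
    have h1 : A *ᵥ v ≠ 0 := by
      intro h0
      apply hv
      have hinj := (Matrix.mulVec_injective_iff_isUnit).2 ((Matrix.isUnit_iff_isUnit_det A).2 hA)
      apply hinj
      rw [h0, Matrix.mulVec_zero]
    obtain ⟨i, hi⟩ : ∃ i, (A *ᵥ v) i ≠ 0 := by
      by_contra hcon
      push Not at hcon
      exact h1 (funext hcon)
    exact ⟨Pi.single i 1, by rw [single_one_dotProduct]; exact hi⟩
  intro v hv
  constructor
  · obtain ⟨x, hx⟩ := key M hM v hv
    exact ⟨x, by rw [fog_eq]; exact hx⟩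
  · have hMt : IsUnit Mᵀ.det := by rw [Matrix.det_transpose]; exact hM
    obtain ⟨x, hx⟩ := key Mᵀ hMt v hv
    exact ⟨x, by rw [fog_swap, fog_eq]; exact hx⟩

/-- an alternating Gram matrix gives an alternating form -/
theorem fog_alt {M : Matrix (Fin k) (Fin k) F} (hM : Mᵀ = -M) (hdiag : ∀ a, M a a = 0)
    (x : Fin k → F) : formOfGram id M x x = 0 := by
  classical
  unfold formOfGram
  simp only [id]
  -- pair `(a, b)` with `(b, a)`
  have hsk : ∀ a b, M b a = - M a b := by
    intro a b
    have := congrFun (congrFun hM a) b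
    rwa [Matrix.transpose_apply, Matrix.neg_apply] at this
  rw [← Finset.sum_product']
  refine Finset.sum_involution (fun p _ => (p.2, p.1)) ?_ ?_ (fun _ _ => Finset.mem_univ _)
    (fun _ _ => rfl)
  · intro p _
    rw [hsk p.1 p.2]
    ring
  · intro p _ hp h
    apply hp
    have h1 : p.2 = p.1 := congrArg Prod.fst h
    rw [h1, hdiag, mul_zero, zero_mul]

theorem fog_symplectic {M : Matrix (Fin k) (Fin k) F} (hM : Mᵀ = -M) (hdiag : ∀ a, M a a = 0)
    (hu : IsUnit M.det) : IsSymplecticForm (formOfGram id M) :=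
  ⟨fog_bilinear M, fog_skew hM, fog_alt hM hdiag, fog_nondeg hu⟩

theorem fog_symmetric {M : Matrix (Fin k) (Fin k) F} (hM : Mᵀ = M) (hu : IsUnit M.det) :
    IsSymmetricForm (formOfGram id M) :=
  ⟨fog_bilinear M, fog_symm hM, fog_nondeg hu⟩

/-! ### characteristic 2: the isotropic vectors of a symmetric Gram matrix -/

/-- in characteristic 2 the isotropic vectors of a symmetric bilinear form are a subspace -/
def isoSub (h2 : (2 : F) = 0) (M : Matrix (Fin k) (Fin k) F) (hM : Mᵀ = M) : Submodule F (Fin k → F) where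
  carrier := {u | formOfGram id M u u = 0}
  add_mem' := by
    intro u v hu hv
    have hu' : formOfGram id M u u = 0 := hu
    have hv' : formOfGram id M v v = 0 := hv
    show formOfGram id M (u + v) (u + v) = 0
    have hb := fog_bilinear M
    rw [hb.add_left, hb.add_right, hb.add_right, hu', hv', fog_symm hM v u]
    have : formOfGram id M u v + formOfGram id M u v = 2 * formOfGram id M u v := by ring
    rw [zero_add, add_zero, this, h2, zero_mul]
  zero_mem' := by
    show formOfGram id M 0 0 = 0
    have := (fog_bilinear M).smul_left 0 0 0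
    rw [zero_smul, zero_mul] at this
    exact this
  smul_mem' := by
    intro c u hu
    have hu' : formOfGram id M u u = 0 := hu
    show formOfGram id M (c • u) (c • u) = 0
    rw [(fog_bilinear M).smul_left, (fog_bilinear M).smul_right, hu', mul_zero, mul_zero]

theorem mem_isoSub (h2 : (2 : F) = 0) (M : Matrix (Fin k) (Fin k) F) (hM : Mᵀ = M) (u : Fin k → F) :
    u ∈ isoSub h2 M hM ↔ formOfGram id M u u = 0 := Iff.rfl

/-- over a finite field of characteristic 2, a symmetric bilinear form in dimension `≥ 2` has a non-zero isotropic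
vector -/
theorem exists_iso [Fintype F] (h2 : (2 : F) = 0) (hk : 2 ≤ k) (M : Matrix (Fin k) (Fin k) F) (hM : Mᵀ = M) :
    ∃ u : Fin k → F, u ≠ 0 ∧ formOfGram id M u u = 0 := by
  classical
  haveI : CharP F 2 := CharTwo.of_one_ne_zero_of_two_eq_zero one_ne_zero h2
  haveI : Fact (Nat.Prime 2) := ⟨Nat.prime_two⟩
  let i0 : Fin k := ⟨0, by omega⟩
  let i1 : Fin k := ⟨1, by omega⟩
  have h01 : i0 ≠ i1 := by
    intro h
    have := congrArg Fin.val h
    simp [i0, i1] at this
  by_cases ha : M i0 i0 = 0
  · refine ⟨Pi.single i0 1, ?_, by rw [fog_single]; exact ha⟩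
    intro h
    have := congrFun h i0
    simp at this
  · -- `c² = M i1 i1 / M i0 i0`
    obtain ⟨c, hc⟩ : ∃ c : F, c ^ 2 = M i1 i1 / M i0 i0 := by
      have hsurj : Function.Surjective (frobenius F 2) :=
        (Finite.injective_iff_surjective).1 (frobenius_inj F 2)
      obtain ⟨c, hc⟩ := hsurj (M i1 i1 / M i0 i0)
      exact ⟨c, by rw [← hc, frobenius_def]⟩
    refine ⟨c • Pi.single i0 1 + Pi.single i1 1, ?_, ?_⟩
    · intro h
      have := congrFun h i1
      rw [Pi.add_apply, Pi.smul_apply, Pi.single_eq_of_ne h01.symm, smul_zero, zero_add, Pi.single_eq_same] at this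
      exact one_ne_zero this
    · have hb := fog_bilinear M
      rw [hb.add_left, hb.add_right, hb.add_right, hb.smul_left, hb.smul_left, hb.smul_right, hb.smul_right,
        fog_single, fog_single, fog_single, fog_single]
      have hsym : M i1 i0 = M i0 i1 := by
        have := congrFun (congrFun hM i0) i1
        rwa [Matrix.transpose_apply] at this
      rw [hsym]
      have e1 : c * (c * M i0 i0) = M i1 i1 := by
        have : c * (c * M i0 i0) = c ^ 2 * M i0 i0 := by ring
        rw [this, hc, div_mul_cancel₀ _ ha]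
      rw [e1]
      have : M i1 i1 + c * M i0 i1 + (c * M i0 i1 + M i1 i1) = 2 * (M i1 i1 + c * M i0 i1) := by ring
      rw [this, h2, zero_mul]

end Cfsg.Agent.Helper1.AschSp
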