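import Mathlib
import Cfsg.Prelude.Def_GeometricClasses
import Cfsg.Agent.Lead.AschBase
import Cfsg.Agent.Helper1.AschSpTensA
import Cfsg.Agent.Helper5.AschForm8
import Cfsg.Agent.Helper7.TnSpB

/-!
# ASCH-COMP-Sp, FORM-TENSOR part B (helper1): the shape of the two Gram factors of a symplectic form

`B ⊗ₖ G` skew-symmetric, `G` invariant under an absolutely irreducible set `R`: then `Gᵀ = c G`, `Bᵀ = -c B` with
`c = ± 1`.
-/

set_option autoImplicit false
set_option linter.unusedVariables false
set_option linter.unusedSectionVars false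

namespace Cfsg.Agent.Helper1.AschSp

open Cfsg Cfsg.Geo Cfsg.Agent.Lead.Asch
open scoped MatrixGroups Matrix Kronecker

variable {F : Type*} [Field F]

theorem fog_single' {κ : Type} [Fintype κ] [DecidableEq κ] (M : Matrix κ κ F) (a b : κ) :
    formOfGram id M (Pi.single a 1) (Pi.single b 1) = M a b := by
  rw [Cfsg.Agent.Helper7.TnSp.formOfGram_id, Matrix.mulVec_single_one, single_one_dotProduct, Matrix.col_apply]

/-- the sign pattern of the two factors of a skew-symmetric Kronecker product. -/
theorem kron_sign {d e : ℕ} (hd : 0 < d) {B : Matrix (Fin e) (Fin e) F} {G : Matrix (Fin d) (Fin d) F}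
    {R : Set (Matrix (Fin d) (Fin d) F)} (hR : ActsAbsolutelyIrreducibly R) (hRu : ∀ r ∈ R, IsUnit r.det)
    (hinv : ∀ r ∈ R, rᵀ * G * r = G) (hG : IsUnit G.det)
    (hskew : ∀ (a b : Fin e) (i j : Fin d), B a b * G i j = - (B b a * G j i)) :
    ∃ c : F, (c = 1 ∨ c = -1) ∧ Gᵀ = c • G ∧ Bᵀ = (-c) • B := by
  classical
  haveI : Nonempty (Fin d) := ⟨⟨0, hd⟩⟩
  have hG0 : G ≠ 0 := by
    rintro rfl
    rw [Matrix.det_zero] at hG
    exact not_isUnit_zero hG
  have hmapid : ∀ r : Matrix (Fin d) (Fin d) F, r.map (RingHom.id F) = r := by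
    intro r; ext i j; rfl
  have hI : ∀ r ∈ R, Cfsg.Agent.Helper5.AschF.GramInv (RingHom.id F) r G := by
    intro r hr
    unfold Cfsg.Agent.Helper5.AschF.GramInv
    rw [hmapid]
    exact hinv r hr
  have hI' : ∀ r ∈ R, Cfsg.Agent.Helper5.AschF.GramInv (RingHom.id F) r Gᵀ := by
    intro r hr
    unfold Cfsg.Agent.Helper5.AschF.GramInv
    rw [hmapid]
    have := congrArg Matrix.transpose (hinv r hr)
    rw [Matrix.transpose_mul, Matrix.transpose_mul, Matrix.transpose_transpose] at this
    rw [Matrix.mul_assoc]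
    exact this
  obtain ⟨c, hc⟩ := Cfsg.Agent.Helper5.AschF.gram_unique (RingHom.id F) hR hRu hI hI' hG0
  obtain ⟨i₀, j₀, hij⟩ : ∃ i j, G i j ≠ 0 := by
    by_contra hcon
    push Not at hcon
    exact hG0 (Matrix.ext hcon)
  have hent : ∀ i j, G j i = c * G i j := by
    intro i j
    have := congrFun (congrFun hc i) j
    rwa [Matrix.transpose_apply, Matrix.smul_apply, smul_eq_mul] at this
  have hcc : c * c = 1 := by
    have h1 := hent i₀ j₀
    have h2 := hent j₀ i₀
    rw [h1] at h2
    have h3 : (c * c - 1) * G i₀ j₀ = 0 := by linear_combination -h2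
    rcases mul_eq_zero.1 h3 with h | h
    · exact sub_eq_zero.1 h
    · exact absurd h hij
  have hc1 : c = 1 ∨ c = -1 := by
    have h3 : (c - 1) * (c + 1) = 0 := by linear_combination hcc
    rcases mul_eq_zero.1 h3 with h | h
    · exact Or.inl (sub_eq_zero.1 h)
    · exact Or.inr (eq_neg_of_add_eq_zero_left h)
  refine ⟨c, hc1, hc, ?_⟩
  ext a b
  rw [Matrix.transpose_apply, Matrix.smul_apply, smul_eq_mul]
  have h1 := hskew a b i₀ j₀
  rw [hent i₀ j₀] at h1
  -- B a b * g = - (B b a * (c * g))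
  have h2 : (B a b + c * B b a) * G i₀ j₀ = 0 := by linear_combination h1
  rcases mul_eq_zero.1 h2 with h | h
  · -- B a b = - c * B b a ; multiply by c
    have : B b a = -c * B a b := by linear_combination c * h - (B b a) * hcc
    exact this
  · exact absurd h hij

end Cfsg.Agent.Helper1.AschSp
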