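import Mathlib
import Cfsg.Prelude.Def_GeometricClasses
import Cfsg.Agent.Lead.AschBase
import Cfsg.Agent.Helper1.AschSpTensA
import Cfsg.Agent.Helper7.TnSpB

/-!
# ASCH-COMP-Sp, FORM-TENSOR part C (helper1): characteristic 2, a symmetric non-alternating first factor

If `f = f₁ ⊗ f₂` with `f₁` symmetric and not alternating in characteristic 2, a group of isometries of `f` inside the
tensor stabiliser leaves `P({u | f₁ u u = 0} ⊗ F^d)` invariant, so it is reducible.
-/

set_option autoImplicit false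
set_option linter.unusedVariables false
set_option linter.unusedSectionVars false

namespace Cfsg.Agent.Helper1.AschSp

open Cfsg Cfsg.Geo Cfsg.Agent.Lead.Asch Cfsg.Agent.Helper7.TnSp
open scoped MatrixGroups Matrix Kronecker

variable {F : Type*} [Field F]

/-- the `j`-th column of a Kronecker product applied to a vector -/
theorem kron_mulVec_col {d e : ℕ} (A : Matrix (Fin e) (Fin e) F) (C : Matrix (Fin d) (Fin d) F)
    (x : Fin e × Fin d → F) (j : Fin d) :
    (fun a => ((A ⊗ₖ C) *ᵥ x) (a, j)) = ∑ j', C j j' • (A *ᵥ fun a' => x (a', j')) := by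
  funext a
  rw [Finset.sum_apply]
  simp only [Matrix.mulVec, dotProduct, Matrix.kroneckerMap_apply, Fintype.sum_prod_type, Pi.smul_apply,
    smul_eq_mul, Finset.mul_sum]
  rw [Finset.sum_comm]
  refine Finset.sum_congr rfl fun j' _ => Finset.sum_congr rfl fun a' _ => ?_
  ring

/-- the subspace `U ⊗ F^d` of `F^(e × d)` -/
def colSub {d e : ℕ} (U : Submodule F (Fin e → F)) : Submodule F (Fin e × Fin d → F) where
  carrier := {x | ∀ j, (fun a => x (a, j)) ∈ U}
  add_mem' := by
    intro x y hx hy j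
    exact U.add_mem (hx j) (hy j)
  zero_mem' := fun j => U.zero_mem
  smul_mem' := by
    intro c x hx j
    exact U.smul_mem c (hx j)

theorem mem_colSub {d e : ℕ} (U : Submodule F (Fin e → F)) (x : Fin e × Fin d → F) :
    x ∈ colSub (d := d) U ↔ ∀ j, (fun a => x (a, j)) ∈ U := Iff.rfl

theorem kron_mem_colSub {d e : ℕ} (U : Submodule F (Fin e → F)) (A : Matrix (Fin e) (Fin e) F)
    (C : Matrix (Fin d) (Fin d) F) (hA : ∀ u ∈ U, A *ᵥ u ∈ U) {x : Fin e × Fin d → F}
    (hx : x ∈ colSub (d := d) U) : (A ⊗ₖ C) *ᵥ x ∈ colSub (d := d) U := by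
  intro j
  rw [kron_mulVec_col]
  exact U.sum_mem fun j' _ => U.smul_mem _ (hA _ (hx j'))

/-- the vector `u ⊗ e_j` -/
def colVec {d e : ℕ} (u : Fin e → F) (j0 : Fin d) : Fin e × Fin d → F :=
  fun p => if p.2 = j0 then u p.1 else 0

theorem colVec_col {d e : ℕ} (u : Fin e → F) (j0 j : Fin d) :
    (fun a => colVec u j0 (a, j)) = if j = j0 then u else 0 := by
  funext a
  unfold colVec
  by_cases h : j = j0
  · simp [h]
  · simp [h]

/-- **characteristic 2**: a symmetric, non-alternating first tensor factor makes the group reducible. -/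
theorem reducible_of_nonalt [Fintype F] (h2 : (2 : F) = 0) {n d e : ℕ} (he : 2 ≤ e) (hd : 0 < d)
    {f : (Fin n → F) → (Fin n → F) → F} {H : Subgroup (GL (Fin n) F)} (hfix : FixesForm (matrixSet H) f)
    (eqv : Fin n ≃ Fin e × Fin d) (P : GL (Fin n) F)
    {B : Matrix (Fin e) (Fin e) F} {G : Matrix (Fin d) (Fin d) F} (hBs : Bᵀ = B) (hBu : IsUnit B.det)
    (hGu : IsUnit G.det)
    (hS : IsTensorFormStructure id f (formOfGram id B) (formOfGram id G) eqv P)
    (hHt : H ≤ tensorProductSubgroup e d eqv P) (hna : ∃ a, B a a ≠ 0) :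
    ¬ ActsIrreducibly (matrixSet H) := by
  classical
  intro hirr
  haveI : NeZero e := ⟨by omega⟩
  haveI : NeZero d := ⟨by omega⟩
  obtain ⟨U, hU⟩ : ∃ U : Submodule F (Fin e → F), U = isoSub h2 B hBs := ⟨_, rfl⟩
  have hUmem : ∀ u, u ∈ U ↔ formOfGram id B u u = 0 := by
    intro u; rw [hU]; exact mem_isoSub h2 B hBs u
  let W : Submodule F (Fin n → F) := (colSub (d := d) U).map (coord eqv P).toLinearMap
  have hWinv : ∀ s ∈ matrixSet H, W.map (Matrix.toLin' s) ≤ W := by
    intro s hs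
    obtain ⟨h, hh, rfl⟩ := mem_matrixSet_iff.1 hs
    obtain ⟨A, C, hAC⟩ := kron_data_of_mem eqv P h (hHt hh)
    have hint : ∀ u, (h : Matrix (Fin n) (Fin n) F) *ᵥ coord eqv (1 * P) u =
        coord eqv (1 * P) (((A : Matrix (Fin e) (Fin e) F) ⊗ₖ (C : Matrix (Fin d) (Fin d) F)) *ᵥ u) := by
      intro u
      rw [one_mul]
      exact hAC u
    obtain ⟨ν, hν, hA, -⟩ := factors_similar (fog_bilinear B) (fog_bilinear G) (fog_nondeg hBu) (fog_nondeg hGu)
      eqv P h 1 hS (fun u v => by rw [Units.val_one, Matrix.one_mulVec, Matrix.one_mulVec])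
      (fun u v => hfix _ (coe_mem_matrixSet hh) u v) _ _ hint
    have hAU : ∀ u ∈ U, (A : Matrix (Fin e) (Fin e) F) *ᵥ u ∈ U := by
      intro u hu
      rw [hUmem] at hu ⊢
      rw [hA, hu, mul_zero]
    rintro _ ⟨_, ⟨x, hx, rfl⟩, rfl⟩
    refine ⟨((A : Matrix (Fin e) (Fin e) F) ⊗ₖ (C : Matrix (Fin d) (Fin d) F)) *ᵥ x,
      kron_mem_colSub U _ _ hAU hx, ?_⟩
    rw [Matrix.toLin'_apply]
    exact (hAC x).symm
  have hj0 : Fin d := ⟨0, hd⟩
  rcases hirr W hWinv with hW | hW
  · -- a non-zero isotropic vector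
    obtain ⟨u₀, hu₀, hiso⟩ := exists_iso h2 he B hBs
    have hx : colVec u₀ hj0 ∈ colSub (d := d) U := by
      intro j
      rw [colVec_col]
      by_cases h : j = hj0
      · rw [if_pos h, hUmem]; exact hiso
      · rw [if_neg h]; exact U.zero_mem
    have hmem : coord eqv P (colVec u₀ hj0) ∈ W := ⟨_, hx, rfl⟩
    rw [hW, Submodule.mem_bot] at hmem
    have h0 : colVec u₀ hj0 = 0 := by
      have := (coord eqv P).injective (hmem.trans (map_zero (coord eqv P)).symm)
      exact this
    apply hu₀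
    funext a
    have := congrFun h0 (a, hj0)
    simpa [colVec] using this
  · obtain ⟨a, ha⟩ := hna
    have hmem : coord eqv P (colVec (Pi.single a (1 : F)) hj0) ∈ W := by rw [hW]; exact Submodule.mem_top
    obtain ⟨x, hx, hxeq⟩ := hmem
    have hxx : x = colVec (Pi.single a (1 : F)) hj0 := (coord eqv P).injective hxeq
    have h1 := hx hj0
    rw [hxx, colVec_col, if_pos rfl, hUmem, fog_single] at h1
    exact ha h1

end Cfsg.Agent.Helper1.AschSp
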