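import Mathlib
import Cfsg.Prelude.Def_GeometricClasses
import Cfsg.Agent.Lead.AschBase
import Cfsg.Agent.Helper1.AschSpTensB
import Cfsg.Agent.Helper1.AschSpTensC
import Cfsg.Agent.Helper3.AschForms
import Cfsg.Agent.Helper5.AschForm5
import Cfsg.Agent.Helper5.AschForm7
import Cfsg.Agent.Helper5.AschForm9
import Cfsg.Agent.Helper5.AschHom4
import Cfsg.Agent.Helper6.AschCompCliff
import Cfsg.Agent.Helper8.SpEvenE
import Cfsg.Agent.Helper9.AschCompHom
import Cfsg.Agent.Helper9.AschCompTensor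
import Cfsg.Agent.Helper9.AschCompK

/-!
# ASCH-COMP-Sp pieces `SpPieces.clifford` and `SpPieces.tensorSwap` (helper1)

`tensor_form_symp` (FORM-TENSOR for a symplectic form): in the homogeneous case with `ρ` absolutely irreducible the form
is `f₁ ⊗ f₂` with one factor alternating and the other symmetric, and `q` is odd (for `¬ 4 ∣ n`).
`clifford_symp`: the form-aware Clifford theorem in the shape of `SpPieces.clifford` (extra hypotheses `0 < n`,
`¬ 4 ∣ n`).  `tensorSwap_symp`: the field `SpPieces.tensorSwap`.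
-/

set_option autoImplicit false
set_option linter.unusedVariables false
set_option linter.unusedSectionVars false

namespace Cfsg.Agent.Helper1.AschSp

open Cfsg Cfsg.Geo Cfsg.Agent.Lead.Asch
open scoped MatrixGroups Matrix Kronecker

variable {n : ℕ} {F : Type*} [Field F]

/-- **FORM-TENSOR (symplectic)** -/
theorem tensor_form_symp [Fintype F] (hn : 0 < n) (h4 : ¬ 4 ∣ n) {f : (Fin n → F) → (Fin n → F) → F}
    (hf : IsSymplecticForm f) {H N : Subgroup (GL (Fin n) F)} (hfix : FixesForm (matrixSet H) f)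
    (hH : ActsIrreducibly (matrixSet H)) (hNH : N ≤ H) {d e : ℕ} (hd : 2 ≤ d) (he : 2 ≤ e)
    (eqv : Fin n ≃ Fin e × Fin d) (P : GL (Fin n) F) (ρ : N →* GL (Fin d) F)
    (hρ : ∀ x : N, ((x : GL (Fin n) F) : Matrix (Fin n) (Fin n) F) * (P : Matrix (Fin n) (Fin n) F) =
      (P : Matrix (Fin n) (Fin n) F) * ((1 : Matrix (Fin e) (Fin e) F) ⊗ₖ
        ((ρ x : GL (Fin d) F) : Matrix (Fin d) (Fin d) F)).submatrix eqv eqv)
    (habs : ActsAbsolutelyIrreducibly
      (Set.range fun x : N => ((ρ x : GL (Fin d) F) : Matrix (Fin d) (Fin d) F)))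
    (hHt : H ≤ tensorProductSubgroup e d eqv P) :
    Odd (Fintype.card F) ∧ ∃ (f₁ : (Fin e → F) → (Fin e → F) → F) (f₂ : (Fin d → F) → (Fin d → F) → F),
      ((IsSymplecticForm f₁ ∧ IsSymmetricForm f₂) ∨ (IsSymmetricForm f₁ ∧ IsSymplecticForm f₂)) ∧
      IsTensorFormStructure id f f₁ f₂ eqv P := by
  classical
  have hfixN : FixesForm (matrixSet N) f := by
    intro s hs
    obtain ⟨x, hx, rfl⟩ := mem_matrixSet_iff.1 hs
    exact hfix _ (coe_mem_matrixSet (hNH hx))
  have hρu : ∀ x : N, IsUnit (((ρ x : GL (Fin d) F) : Matrix (Fin d) (Fin d) F)).det := fun x =>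
    (Matrix.isUnit_iff_isUnit_det _).1 (Units.isUnit (ρ x))
  obtain ⟨B, G, hB, hG, hinv, hform, hT⟩ :=
    Cfsg.Agent.Helper5.AschF.tensorFormStructure_of_matrix_form hn
      (Cfsg.Agent.Helper5.AschF.RForm.of_symplectic hf) (Cfsg.Agent.Helper5.AschF.isom_of_fixesForm hfixN) eqv P
      (fun x : N => ((ρ x : GL (Fin d) F) : Matrix (Fin d) (Fin d) F)) hρ hρu habs
  have hform' : ∀ x y : Fin e × Fin d → F,
      f ((P : Matrix (Fin n) (Fin n) F) *ᵥ (x ∘ eqv)) ((P : Matrix (Fin n) (Fin n) F) *ᵥ (y ∘ eqv)) =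
        formOfGram id (B ⊗ₖ G) x y := hform
  have hS : IsTensorFormStructure id f (formOfGram id B) (formOfGram id G) eqv P := hT
  -- invariance of `G`
  have hinv' : ∀ r ∈ (Set.range fun x : N => ((ρ x : GL (Fin d) F) : Matrix (Fin d) (Fin d) F)),
      rᵀ * G * r = G := by
    rintro _ ⟨x, rfl⟩
    have h1 := hinv x
    have h2 : (((ρ x : GL (Fin d) F) : Matrix (Fin d) (Fin d) F)).map (RingEquiv.refl F) =
        ((ρ x : GL (Fin d) F) : Matrix (Fin d) (Fin d) F) := by
      ext i j; rfl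
    rw [h2] at h1
    exact h1
  have hRu : ∀ r ∈ (Set.range fun x : N => ((ρ x : GL (Fin d) F) : Matrix (Fin d) (Fin d) F)),
      IsUnit r.det := by
    rintro _ ⟨x, rfl⟩
    exact hρu x
  -- entries
  have hentry : ∀ p q : Fin e × Fin d, f ((P : Matrix (Fin n) (Fin n) F) *ᵥ ((Pi.single p (1 : F)) ∘ eqv))
      ((P : Matrix (Fin n) (Fin n) F) *ᵥ ((Pi.single q (1 : F)) ∘ eqv)) = B p.1 q.1 * G p.2 q.2 := by
    intro p q
    rw [hform', fog_single', Matrix.kroneckerMap_apply]
  have hskew : ∀ (a b : Fin e) (i j : Fin d), B a b * G i j = - (B b a * G j i) := by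
    intro a b i j
    have h1 := hentry (a, i) (b, j)
    have h2 := hentry (b, j) (a, i)
    rw [hf.skew, h2] at h1
    exact h1.symm
  have hdiag : ∀ (a : Fin e) (i : Fin d), B a a * G i i = 0 := by
    intro a i
    have h1 := hentry (a, i) (a, i)
    rw [hf.alternating] at h1
    exact h1.symm
  obtain ⟨c, hc1, hGt, hBt⟩ := kron_sign (by omega : 0 < d) habs hRu hinv' hG hskew
  have hcard : n = e * d := by
    have := Fintype.card_congr eqv
    simpa using this
  by_cases h2 : (2 : F) = 0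
  · -- characteristic 2: impossible
    exfalso
    have hneg : ∀ x : F, -x = x := by
      intro x
      have : x + x = 0 := by
        have : x + x = 2 * x := by ring
        rw [this, h2, zero_mul]
      exact neg_eq_of_add_eq_zero_left this
    have hc : c = 1 := by
      rcases hc1 with h | h
      · exact h
      · rw [h, hneg]
    subst hc
    have hGs : Gᵀ = G := by rw [hGt, one_smul]
    have hBs : Bᵀ = B := by
      rw [hBt, hneg, one_smul]
    have hGn : Gᵀ = -G := by
      rw [hGs]; ext i j; rw [Matrix.neg_apply, hneg]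
    have hBn : Bᵀ = -B := by
      rw [hBs]; ext i j; rw [Matrix.neg_apply, hneg]
    -- `G` is alternating
    have hGalt : ∀ i, G i i = 0 := by
      let U : Submodule F (Fin d → F) := isoSub h2 G hGs
      have hUinv : ∀ r ∈ (Set.range fun x : N => ((ρ x : GL (Fin d) F) : Matrix (Fin d) (Fin d) F)),
          U.map (Matrix.toLin' r) ≤ U := by
        rintro r hr _ ⟨u, hu, rfl⟩
        have hu' : formOfGram id G u u = 0 := hu
        show formOfGram id G (Matrix.toLin' r u) (Matrix.toLin' r u) = 0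
        rw [Matrix.toLin'_apply, fog_eq, ← Cfsg.Agent.Helper7.TnSp.dot_transpose_mul_mul, hinv' r hr, ← fog_eq]
        exact hu'
      rcases habs.1 U hUinv with hU | hU
      · exfalso
        obtain ⟨u, hu0, hu⟩ := exists_iso h2 hd G hGs
        have : u ∈ U := hu
        rw [hU, Submodule.mem_bot] at this
        exact hu0 this
      · intro i
        have : (Pi.single i (1 : F) : Fin d → F) ∈ U := by rw [hU]; exact Submodule.mem_top
        have h1 : formOfGram id G (Pi.single i 1) (Pi.single i 1) = 0 := this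
        rwa [fog_single] at h1
    have hdeven : ¬ Odd d := fun hodd =>
      Cfsg.Agent.Helper3.Asch.no_symplectic_of_odd hodd _ (fog_symplectic hGn hGalt hG)
    by_cases hBalt : ∀ a, B a a = 0
    · have heeven : ¬ Odd e := fun hodd =>
        Cfsg.Agent.Helper3.Asch.no_symplectic_of_odd hodd _ (fog_symplectic hBn hBalt hB)
      rw [Nat.not_odd_iff_even] at hdeven heeven
      obtain ⟨d', hd'⟩ := hdeven
      obtain ⟨e', he'⟩ := heeven
      apply h4
      rw [hcard, hd', he']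
      exact ⟨e' * d', by ring⟩
    · push Not at hBalt
      exact reducible_of_nonalt h2 he (by omega) hfix eqv P hBs hB hG hS hHt hBalt hH
  · -- odd characteristic
    have hodd : Odd (Fintype.card F) := by
      by_contra hno
      exact h2 (Cfsg.Agent.Helper8.SpEven.two_eq_zero_of_not_odd_card hno)
    refine ⟨hodd, formOfGram id B, formOfGram id G, ?_, hS⟩
    have hhalf : ∀ x : F, x = -x → x = 0 := by
      intro x hx
      have h3 : 2 * x = 0 := by linear_combination hx
      rcases mul_eq_zero.1 h3 with h | h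
      · exact absurd h h2
      · exact h
    rcases hc1 with hc | hc
    · subst hc
      left
      have hGs : Gᵀ = G := by rw [hGt, one_smul]
      have hBn : Bᵀ = -B := by rw [hBt, neg_smul, one_smul]
      refine ⟨fog_symplectic hBn (fun a => ?_) hB, fog_symmetric hGs hG⟩
      apply hhalf
      have := congrFun (congrFun hBn a) a
      rwa [Matrix.transpose_apply, Matrix.neg_apply] at this
    · subst hc
      right
      have hGn : Gᵀ = -G := by rw [hGt, neg_smul, one_smul]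
      have hBs : Bᵀ = B := by rw [hBt, neg_neg, one_smul]
      refine ⟨fog_symmetric hBs hB, fog_symplectic hGn (fun i => ?_) hG⟩
      apply hhalf
      have := congrFun (congrFun hGn i) i
      rwa [Matrix.transpose_apply, Matrix.neg_apply] at this

/-- **`SpPieces.clifford`** (extra hypotheses `0 < n`, `¬ 4 ∣ n`). -/
theorem clifford_symp [Fintype F] (hn : 0 < n) (h4 : ¬ 4 ∣ n) (f : (Fin n → F) → (Fin n → F) → F)
    (hf : IsSymplecticForm f) {H N : Subgroup (GL (Fin n) F)} (hfix : FixesForm (matrixSet H) f)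
    (hH : ActsIrreducibly (matrixSet H)) (hNH : N ≤ H) (hnz : Nzes H N) :
    (∃ (t k : ℕ) (D : Fin t → Submodule F (Fin n → F)), IsNondegenerateMDecomposition f k D ∧ t * k = n ∧
      H ≤ decompositionStabilizer D) ∨
    (∃ (k : ℕ) (D : Fin 2 → Submodule F (Fin n → F)), IsMDecomposition k D ∧ 2 * k = n ∧
      (∀ i, IsTotallySingularFor f (D i)) ∧ H ≤ decompositionStabilizer D) ∨
    (∃ (r : ℕ) (K : Subalgebra F (Matrix (Fin n) (Fin n) F)), r.Prime ∧ r ∣ n ∧ IsFieldSubalgebra r K ∧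
      IsAdjointClosedFor f K ∧ H ≤ subalgebraNormalizer K) ∨
    (Odd (Fintype.card F) ∧ ∃ (n₁ n₂ : ℕ) (e : Fin n ≃ Fin n₁ × Fin n₂) (P : GL (Fin n) F)
      (f₁ : (Fin n₁ → F) → (Fin n₁ → F) → F) (f₂ : (Fin n₂ → F) → (Fin n₂ → F) → F), 2 ≤ n₁ ∧ 2 ≤ n₂ ∧
      ((IsSymplecticForm f₁ ∧ IsSymmetricForm f₂) ∨ (IsSymmetricForm f₁ ∧ IsSymplecticForm f₂)) ∧
      IsTensorFormStructure id f f₁ f₂ e P ∧ H ≤ tensorProductSubgroup n₁ n₂ e P) ∨
    N ≤ scalars (Fin n) F ∨ ActsAbsolutelyIrreducibly (matrixSet N) := by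
  rcases Cfsg.Agent.Helper5.AschF.clifford_symplectic hn hf hfix hH hNH hnz with
    ⟨t, m, D, hD, hle, -, -⟩ | ⟨m, D, hD, hts, hle, -, -⟩ | hhom
  · exact Or.inl ⟨t, m, D, hD, Cfsg.Agent.Helper6.AschComp.card_mul_of_isMDecomposition D hD.decomp, hle⟩
  · exact Or.inr (Or.inl ⟨m, D, hD, Cfsg.Agent.Helper6.AschComp.card_mul_of_isMDecomposition D hD, hts, hle⟩)
  have hfixN : FixesForm (matrixSet N) f := by
    intro s hs
    obtain ⟨x, hx, rfl⟩ := mem_matrixSet_iff.1 hs
    exact hfix _ (coe_mem_matrixSet (hNH hx))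
  rcases Cfsg.Agent.Helper5.AschF.field_of_fullyInv_form hn (Cfsg.Agent.Helper5.AschF.RForm.of_symplectic hf) hnz
    (Cfsg.Agent.Helper5.AschF.isom_of_fixesForm hfixN) hhom with hK | hct
  · exact Or.inr (Or.inr (Or.inl hK))
  obtain ⟨d, e, eqv, P, ρ, hd, he, hrel, hirr, hdvd⟩ := Cfsg.Agent.Helper5.Asch.homog_data hn hH hnz hhom
  have habs := Cfsg.Agent.Helper9.AschComp.rho_absIrred_of_centreTrivial he eqv P ρ hrel hirr hct
  have hcard : n = e * d := by
    have := Fintype.card_congr eqv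
    simpa using this
  by_cases hd1 : d = 1
  · subst hd1
    exact Or.inr (Or.inr (Or.inr (Or.inr (Or.inl
      (Cfsg.Agent.Helper9.AschComp.le_scalars_of_dim_one eqv P ρ hrel)))))
  by_cases he1 : e = 1
  · subst he1
    have hdn : d = n := by omega
    refine Or.inr (Or.inr (Or.inr (Or.inr (Or.inr
      (Cfsg.Agent.Helper9.AschComp.absIrred_of_dvd hn (fun X hX => ?_) hct)))))
    have h1 := hdvd X hX
    rw [hdn] at h1
    exact h1
  · have hHt : H ≤ tensorProductSubgroup e d eqv P := fun g hg =>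
      Cfsg.Agent.Helper9.AschComp.tensor_exit hn eqv P
        (fun x => ((ρ x : GL (Fin d) F) : Matrix (Fin d) (Fin d) F)) hrel habs (fun x hx => hnz g hg x hx)
    obtain ⟨hodd, f₁, f₂, h12, hT⟩ := tensor_form_symp hn h4 hf hfix hH hNH (by omega : 2 ≤ d) (by omega : 2 ≤ e)
      eqv P ρ hrel habs hHt
    exact Or.inr (Or.inr (Or.inr (Or.inl ⟨hodd, e, d, eqv, P, f₁, f₂, by omega, by omega, h12, hT, hHt⟩)))

/-! ### swapping the two tensor factors -/

theorem fog_kron_swap {n₁ n₂ : ℕ} (σ : F → F) (G₁ : Matrix (Fin n₁) (Fin n₁) F) (G₂ : Matrix (Fin n₂) (Fin n₂) F)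
    (x y : Fin n₂ × Fin n₁ → F) :
    formOfGram σ (G₁ ⊗ₖ G₂) (x ∘ Prod.swap) (y ∘ Prod.swap) = formOfGram σ (G₂ ⊗ₖ G₁) x y := by
  unfold formOfGram
  rw [← Equiv.sum_comp (Equiv.prodComm (Fin n₂) (Fin n₁))]
  apply Finset.sum_congr rfl
  intro a _
  rw [← Equiv.sum_comp (Equiv.prodComm (Fin n₂) (Fin n₁))]
  apply Finset.sum_congr rfl
  intro b _
  simp only [Equiv.prodComm_apply, Function.comp_apply, Prod.swap_swap, Matrix.kroneckerMap_apply,
    Prod.fst_swap, Prod.snd_swap]
  ring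

/-- **`SpPieces.tensorSwap`** -/
theorem tensorSwap_symp (f : (Fin n → F) → (Fin n → F) → F) (n₁ n₂ : ℕ) (e : Fin n ≃ Fin n₁ × Fin n₂)
    (P : GL (Fin n) F) (f₁ : (Fin n₁ → F) → (Fin n₁ → F) → F) (f₂ : (Fin n₂ → F) → (Fin n₂ → F) → F)
    (h : IsTensorFormStructure id f f₁ f₂ e P) :
    IsTensorFormStructure id f f₂ f₁ (e.trans (Equiv.prodComm (Fin n₁) (Fin n₂))) P ∧
    tensorProductSubgroup n₁ n₂ e P =
      tensorProductSubgroup n₂ n₁ (e.trans (Equiv.prodComm (Fin n₁) (Fin n₂))) P := by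
  refine ⟨?_, Cfsg.Agent.Helper9.AschCompK.tensorProductSubgroup_swap n₁ n₂ e P⟩
  obtain ⟨c, hc0, hc⟩ := h
  refine ⟨c, hc0, fun x y => ?_⟩
  have hx : ∀ z : Fin n₂ × Fin n₁ → F, z ∘ (e.trans (Equiv.prodComm (Fin n₁) (Fin n₂))) = (z ∘ Prod.swap) ∘ e := by
    intro z
    funext i
    rfl
  rw [hx, hx, hc, fog_kron_swap]

end Cfsg.Agent.Helper1.AschSp
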