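import Mathlib
import Cfsg.Prelude.Def_GeometricClasses
import Cfsg.Agent.Lead.AschBase
import Cfsg.Agent.Helper1.AschSpBase
import Cfsg.Agent.Helper1.AschSp12Base
import Cfsg.Agent.Helper1.AschSpTensB
import Cfsg.Agent.Helper1.AschSpCliff
import Cfsg.Agent.Helper2.AschRefl
import Cfsg.Agent.Helper2.TensorO3D
import Cfsg.Agent.Helper3.AschForms
import Cfsg.Agent.Helper5.AschForm5
import Cfsg.Agent.Helper5.AschForm7
import Cfsg.Agent.Helper5.AschForm9
import Cfsg.Agent.Helper5.AschHom4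
import Cfsg.Agent.Helper6.AschCompCliff
import Cfsg.Agent.Helper8.SpEvenE
import Cfsg.Agent.Helper8.AschSpTensE
import Cfsg.Agent.Helper9.AschCompHom
import Cfsg.Agent.Helper9.AschCompTensor

/-!
# ASCH-COMP-Sp, second round: the pieces `cliffordG`, `reducibleG`, `tensorN3` of `Sp12Pieces` (helper1)

`tensor_form_symp_gen`: FORM-TENSOR for a symplectic form, any `n`: for `q` odd one factor is symplectic and the other
symmetric; for `q` even the group fixes a quadratic form (helper8's `tensor_even_quadExit`).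
-/

set_option autoImplicit false
set_option linter.unusedVariables false
set_option linter.unusedSectionVars false

namespace Cfsg.Agent.Helper1.AschSp

open Cfsg Cfsg.Geo Cfsg.Agent.Lead.Asch
open scoped MatrixGroups Matrix Kronecker

variable {n : ℕ} {F : Type*} [Field F]

/-- **FORM-TENSOR (symplectic), any `n`** -/
theorem tensor_form_symp_gen [Fintype F] (hn : 0 < n) {f : (Fin n → F) → (Fin n → F) → F}
    (hf : IsSymplecticForm f) {H N : Subgroup (GL (Fin n) F)} (hfix : FixesForm (matrixSet H) f)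
    (hH : ActsIrreducibly (matrixSet H)) (hNH : N ≤ H) {d e : ℕ} (hd : 2 ≤ d) (he : 2 ≤ e)
    (eqv : Fin n ≃ Fin e × Fin d) (P : GL (Fin n) F) (ρ : N →* GL (Fin d) F)
    (hρ : ∀ x : N, ((x : GL (Fin n) F) : Matrix (Fin n) (Fin n) F) * (P : Matrix (Fin n) (Fin n) F) =
      (P : Matrix (Fin n) (Fin n) F) * ((1 : Matrix (Fin e) (Fin e) F) ⊗ₖ
        ((ρ x : GL (Fin d) F) : Matrix (Fin d) (Fin d) F)).submatrix eqv eqv)
    (habs : ActsAbsolutelyIrreducibly
      (Set.range fun x : N => ((ρ x : GL (Fin d) F) : Matrix (Fin d) (Fin d) F)))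
    (hHt : H ≤ tensorProductSubgroup e d eqv P) :
    (Odd (Fintype.card F) ∧ ∃ (f₁ : (Fin e → F) → (Fin e → F) → F) (f₂ : (Fin d → F) → (Fin d → F) → F),
      ((IsSymplecticForm f₁ ∧ IsSymmetricForm f₂) ∨ (IsSymmetricForm f₁ ∧ IsSymplecticForm f₂)) ∧
      IsTensorFormStructure id f f₁ f₂ eqv P) ∨
    (¬ Odd (Fintype.card F) ∧ QuadExit f H) := by
  classical
  have hfixN : FixesForm (matrixSet N) f := by
    intro s hs
    obtain ⟨x, hx, rfl⟩ := mem_matrixSet_iff.1 hs
    exact hfix _ (coe_mem_matrixSet (hNH hx))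
  have hρu : ∀ x : N, IsUnit (((ρ x : GL (Fin d) F) : Matrix (Fin d) (Fin d) F)).det := fun x =>
    (Matrix.isUnit_iff_isUnit_det _).1 (Units.isUnit (ρ x))
  obtain ⟨B, G, hB, hG, hinv, hform, hT⟩ :=
    Cfsg.Agent.Helper5.AschF.tensorFormStructure_of_matrix_form hn
      (Cfsg.Agent.Helper5.AschF.RForm.of_symplectic hf) (Cfsg.Agent.Helper5.AschF.isom_of_fixesForm hfixN) eqv P
      (fun x : N => ((ρ x : GL (Fin d) F) : Matrix (Fin d) (Fin d) F)) hρ hρu habs
  have hform' : ∀ x y : Fin e × Fin d → F,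
      f ((P : Matrix (Fin n) (Fin n) F) *ᵥ (x ∘ eqv)) ((P : Matrix (Fin n) (Fin n) F) *ᵥ (y ∘ eqv)) =
        formOfGram id (B ⊗ₖ G) x y := hform
  have hS : IsTensorFormStructure id f (formOfGram id B) (formOfGram id G) eqv P := hT
  by_cases h2 : (2 : F) = 0
  · right
    have hno : ¬ Odd (Fintype.card F) := by
      haveI : CharP F 2 := CharTwo.of_one_ne_zero_of_two_eq_zero one_ne_zero h2
      have h1 : ringChar F = 2 := ringChar.eq F 2
      have h3 := FiniteField.even_card_of_char_two h1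
      intro ho
      obtain ⟨c, hc⟩ := ho
      omega
    exact ⟨hno, Cfsg.Agent.Helper8.AschSp.tensor_even_quadExit h2 hf hH hfix he hd eqv P hHt B G hB hG hform'⟩
  · left
    have hinv' : ∀ r ∈ (Set.range fun x : N => ((ρ x : GL (Fin d) F) : Matrix (Fin d) (Fin d) F)),
        rᵀ * G * r = G := by
      rintro _ ⟨x, rfl⟩
      have h1 := hinv x
      have h3 : (((ρ x : GL (Fin d) F) : Matrix (Fin d) (Fin d) F)).map (RingEquiv.refl F) =
          ((ρ x : GL (Fin d) F) : Matrix (Fin d) (Fin d) F) := by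
        ext i j; rfl
      rw [h3] at h1
      exact h1
    have hRu : ∀ r ∈ (Set.range fun x : N => ((ρ x : GL (Fin d) F) : Matrix (Fin d) (Fin d) F)),
        IsUnit r.det := by
      rintro _ ⟨x, rfl⟩
      exact hρu x
    have hentry : ∀ p q : Fin e × Fin d, f ((P : Matrix (Fin n) (Fin n) F) *ᵥ ((Pi.single p (1 : F)) ∘ eqv))
        ((P : Matrix (Fin n) (Fin n) F) *ᵥ ((Pi.single q (1 : F)) ∘ eqv)) = B p.1 q.1 * G p.2 q.2 := by
      intro p q
      rw [hform', fog_single', Matrix.kroneckerMap_apply]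
    have hskew : ∀ (a b : Fin e) (i j : Fin d), B a b * G i j = - (B b a * G j i) := by
      intro a b i j
      have h1 := hentry (a, i) (b, j)
      have h3 := hentry (b, j) (a, i)
      rw [hf.skew, h3] at h1
      exact h1.symm
    obtain ⟨c, hc1, hGt, hBt⟩ := kron_sign (by omega : 0 < d) habs hRu hinv' hG hskew
    have hodd : Odd (Fintype.card F) := by
      by_contra hno
      exact h2 (Cfsg.Agent.Helper8.SpEven.two_eq_zero_of_not_odd_card hno)
    refine ⟨hodd, formOfGram id B, formOfGram id G, ?_, hS⟩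
    have hhalf : ∀ x : F, x = -x → x = 0 := by
      intro x hx
      have h3 : 2 * x = 0 := by linear_combination hx
      rcases mul_eq_zero.1 h3 with h | h
      · exact absurd h h2
      · exact h
    rcases hc1 with hc | hc
    · subst hc
      left
      have hGs : Gᵀ = G := by rw [hGt, one_smul]
      have hBn : Bᵀ = -B := by rw [hBt, neg_smul, one_smul]
      refine ⟨fog_symplectic hBn (fun a => ?_) hB, fog_symmetric hGs hG⟩
      apply hhalf
      have := congrFun (congrFun hBn a) a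
      rwa [Matrix.transpose_apply, Matrix.neg_apply] at this
    · subst hc
      right
      have hGn : Gᵀ = -G := by rw [hGt, neg_smul, one_smul]
      have hBs : Bᵀ = B := by rw [hBt, neg_neg, one_smul]
      refine ⟨fog_symmetric hBs hB, fog_symplectic hGn (fun i => ?_) hG⟩
      apply hhalf
      have := congrFun (congrFun hGn i) i
      rwa [Matrix.transpose_apply, Matrix.neg_apply] at this

/-- **`Sp12Pieces.cliffordG`** (extra hypothesis `0 < n`). -/
theorem clifford_symp_gen [Fintype F] (hn : 0 < n) (f : (Fin n → F) → (Fin n → F) → F)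
    (hf : IsSymplecticForm f) {H N : Subgroup (GL (Fin n) F)} (hfix : FixesForm (matrixSet H) f)
    (hH : ActsIrreducibly (matrixSet H)) (hNH : N ≤ H) (hnz : Nzes H N) :
    (∃ (t k : ℕ) (D : Fin t → Submodule F (Fin n → F)), IsNondegenerateMDecomposition f k D ∧ t * k = n ∧
      H ≤ decompositionStabilizer D) ∨
    (∃ (k : ℕ) (D : Fin 2 → Submodule F (Fin n → F)), IsMDecomposition k D ∧ 2 * k = n ∧
      (∀ i, IsTotallySingularFor f (D i)) ∧ H ≤ decompositionStabilizer D) ∨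
    (∃ (r : ℕ) (K : Subalgebra F (Matrix (Fin n) (Fin n) F)), r.Prime ∧ r ∣ n ∧ IsFieldSubalgebra r K ∧
      IsAdjointClosedFor f K ∧ H ≤ subalgebraNormalizer K) ∨
    (Odd (Fintype.card F) ∧ ∃ (n₁ n₂ : ℕ) (e : Fin n ≃ Fin n₁ × Fin n₂) (P : GL (Fin n) F)
      (f₁ : (Fin n₁ → F) → (Fin n₁ → F) → F) (f₂ : (Fin n₂ → F) → (Fin n₂ → F) → F), 2 ≤ n₁ ∧ 2 ≤ n₂ ∧
      ((IsSymplecticForm f₁ ∧ IsSymmetricForm f₂) ∨ (IsSymmetricForm f₁ ∧ IsSymplecticForm f₂)) ∧
      IsTensorFormStructure id f f₁ f₂ e P ∧ H ≤ tensorProductSubgroup n₁ n₂ e P) ∨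
    (¬ Odd (Fintype.card F) ∧ QuadExit f H) ∨
    N ≤ scalars (Fin n) F ∨ ActsAbsolutelyIrreducibly (matrixSet N) := by
  rcases Cfsg.Agent.Helper5.AschF.clifford_symplectic hn hf hfix hH hNH hnz with
    ⟨t, m, D, hD, hle, -, -⟩ | ⟨m, D, hD, hts, hle, -, -⟩ | hhom
  · exact Or.inl ⟨t, m, D, hD, Cfsg.Agent.Helper6.AschComp.card_mul_of_isMDecomposition D hD.decomp, hle⟩
  · exact Or.inr (Or.inl ⟨m, D, hD, Cfsg.Agent.Helper6.AschComp.card_mul_of_isMDecomposition D hD, hts, hle⟩)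
  have hfixN : FixesForm (matrixSet N) f := by
    intro s hs
    obtain ⟨x, hx, rfl⟩ := mem_matrixSet_iff.1 hs
    exact hfix _ (coe_mem_matrixSet (hNH hx))
  rcases Cfsg.Agent.Helper5.AschF.field_of_fullyInv_form hn (Cfsg.Agent.Helper5.AschF.RForm.of_symplectic hf) hnz
    (Cfsg.Agent.Helper5.AschF.isom_of_fixesForm hfixN) hhom with hK | hct
  · exact Or.inr (Or.inr (Or.inl hK))
  obtain ⟨d, e, eqv, P, ρ, hd, he, hrel, hirr, hdvd⟩ := Cfsg.Agent.Helper5.Asch.homog_data hn hH hnz hhom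
  have habs := Cfsg.Agent.Helper9.AschComp.rho_absIrred_of_centreTrivial he eqv P ρ hrel hirr hct
  have hcard : n = e * d := by
    have := Fintype.card_congr eqv
    simpa using this
  by_cases hd1 : d = 1
  · subst hd1
    exact Or.inr (Or.inr (Or.inr (Or.inr (Or.inr (Or.inl
      (Cfsg.Agent.Helper9.AschComp.le_scalars_of_dim_one eqv P ρ hrel))))))
  by_cases he1 : e = 1
  · subst he1
    have hdn : d = n := by omega
    refine Or.inr (Or.inr (Or.inr (Or.inr (Or.inr (Or.inr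
      (Cfsg.Agent.Helper9.AschComp.absIrred_of_dvd hn (fun X hX => ?_) hct))))))
    have h1 := hdvd X hX
    rw [hdn] at h1
    exact h1
  · have hHt : H ≤ tensorProductSubgroup e d eqv P := fun g hg =>
      Cfsg.Agent.Helper9.AschComp.tensor_exit hn eqv P
        (fun x => ((ρ x : GL (Fin d) F) : Matrix (Fin d) (Fin d) F)) hrel habs (fun x hx => hnz g hg x hx)
    rcases tensor_form_symp_gen hn hf hfix hH hNH (by omega : 2 ≤ d) (by omega : 2 ≤ e)
      eqv P ρ hrel habs hHt with ⟨hodd, f₁, f₂, h12, hT⟩ | hq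
    · exact Or.inr (Or.inr (Or.inr (Or.inl ⟨hodd, e, d, eqv, P, f₁, f₂, by omega, by omega, h12, hT, hHt⟩)))
    · exact Or.inr (Or.inr (Or.inr (Or.inr (Or.inl hq))))

/-- **`Sp12Pieces.tensorN3`** (extra hypothesis `0 < n₁` is automatic from `IsSymplecticForm f₁`... kept explicit). -/
theorem tensorN3_symp [Fintype F] (hq : Fintype.card F = 3) (f : (Fin n → F) → (Fin n → F) → F)
    (hf : IsSymplecticForm f) (n₁ : ℕ) (hn₁ : 0 < n₁) (e : Fin n ≃ Fin n₁ × Fin 3) (P : GL (Fin n) F)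
    (f₁ : (Fin n₁ → F) → (Fin n₁ → F) → F) (f₂ : (Fin 3 → F) → (Fin 3 → F) → F) (hf₁ : IsSymplecticForm f₁)
    (hf₂ : IsSymmetricForm f₂) (hT : IsTensorFormStructure id f f₁ f₂ e P) :
    ∃ D : Fin 3 → Submodule F (Fin n → F), IsNondegenerateMDecomposition f n₁ D ∧
      ∀ H : Subgroup (GL (Fin n) F), FixesForm (matrixSet H) f → H ≤ tensorProductSubgroup n₁ 3 e P →
        H ≤ decompositionStabilizer D := by
  obtain ⟨D, hD, hstab⟩ :=
    Cfsg.Agent.Helper2.TensorO3.tensor_three_le_decomp hq hn₁ f hf.bilinear e P f₁ f₂ hf₁ hf₂ hT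
  exact ⟨D, hD, fun H hfix hle g hg => hstab g (hle hg) (hfix _ ⟨g, hg, rfl⟩)⟩

/-- an element stabilizing `W` maps `W` onto `W` -/
theorem map_eq_of_mem_stab {W : Submodule F (Fin n → F)} {g : GL (Fin n) F}
    (hg : g ∈ subspaceStabilizer W) : W.map (Matrix.toLin' (g : Matrix (Fin n) (Fin n) F)) = W := by
  rw [mem_subspaceStabilizer_iff] at hg
  apply le_antisymm
  · rintro _ ⟨v, hv, rfl⟩
    rw [Matrix.toLin'_apply]
    exact (hg v).1 hv
  · intro w hw
    refine ⟨((g⁻¹ : GL (Fin n) F) : Matrix (Fin n) (Fin n) F) *ᵥ w, ?_, ?_⟩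
    · rw [SetLike.mem_coe, hg, Matrix.mulVec_mulVec, ← Units.val_mul, mul_inv_cancel, Units.val_one,
        Matrix.one_mulVec]
      exact hw
    · rw [Matrix.toLin'_apply, Matrix.mulVec_mulVec, ← Units.val_mul, mul_inv_cancel, Units.val_one,
        Matrix.one_mulVec]

/-- **`Sp12Pieces.reducibleG`**: the reducible case with the pair exit -/
theorem reducibleG_symp (f : (Fin n → F) → (Fin n → F) → F) (hf : IsSymplecticForm f)
    (H : Subgroup (GL (Fin n) F)) (hfix : FixesForm (matrixSet H) f) (hred : ¬ ActsIrreducibly (matrixSet H)) :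
    (∃ W : Submodule F (Fin n → F), W ≠ ⊥ ∧ IsTotallySingularFor f W ∧ H ≤ subspaceStabilizer W) ∨
    (∃ W : Submodule F (Fin n → F), W ≠ ⊥ ∧ IsNondegenerateOn f W ∧ 2 * Module.finrank F W < n ∧
      H ≤ subspaceStabilizer W) ∨
    (∃ (k : ℕ) (D : Fin 2 → Submodule F (Fin n → F)), IsNondegenerateMDecomposition f k D ∧ 2 * k = n ∧
      H ≤ decompositionStabilizer D) := by
  have hR := Cfsg.Agent.Helper2.AschRefl.Refl.of_symplectic hf
  obtain ⟨W, hW0, hW1, hWle, h | ⟨hP0, hP1, hPle, hinf, hsup, hsum, hndW, hndP⟩⟩ :=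
    Cfsg.Agent.Helper2.AschRefl.refl_reducible_aux hR hf.nondegenerate
      (fun g hg u v => hfix _ ⟨g, hg, rfl⟩ u v) hred
  · exact Or.inl ⟨W, hW0, h, hWle⟩
  rcases lt_trichotomy (2 * Module.finrank F W) n with hlt | heq | hgt
  · exact Or.inr (Or.inl ⟨W, hW0, hndW, hlt, hWle⟩)
  · have hpos : 0 < Module.finrank F W := by
      rcases Nat.eq_zero_or_pos (Module.finrank F W) with h0 | h0
      · exact absurd (Submodule.finrank_eq_zero.1 h0) hW0
      · exact h0
    refine Or.inr (Or.inr ⟨Module.finrank F W, ![W, Cfsg.Agent.Helper2.AschRefl.perp hR W],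
      Cfsg.Agent.Helper2.AschRefl.nondegDecomp_pair hR hpos hinf hsup rfl (by omega) hndW hndP, heq, ?_⟩)
    intro g hg
    refine ⟨1, fun i => ?_⟩
    fin_cases i
    · exact map_eq_of_mem_stab (hWle hg)
    · exact map_eq_of_mem_stab (hPle hg)
  · exact Or.inr (Or.inl ⟨Cfsg.Agent.Helper2.AschRefl.perp hR W, hP0, hndP, by omega, hPle⟩)

end Cfsg.Agent.Helper1.AschSp
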