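import Mathlib
import Cfsg.Prelude.Def_GeometricClasses
import Cfsg.Agent.Helper1.AschSp12Base
import Cfsg.Agent.Helper1.AschSp12Cliff
import Cfsg.Agent.Helper1.AschSpSub
import Cfsg.Agent.Helper1.AschSpAdj
import Cfsg.Agent.Helper1.AschSpCliff
import Cfsg.Agent.Helper2.AschSpA
import Cfsg.Agent.Helper5.AschSpU
import Cfsg.Agent.Helper8.AschSpDvd
import Cfsg.Agent.Helper8.AschSpEven
import Cfsg.Agent.Helper8.AschSpO2C

/-!
# ASCH-COMP-Sp, second round: all the pieces `Sp12Pieces n F` (helper1 collects; owners helper2, helper5, helper8, helper1)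
-/

set_option autoImplicit false

namespace Cfsg.Agent.Helper1.AschSp

open Cfsg Cfsg.Geo Cfsg.Agent.Lead.Asch
open scoped MatrixGroups Matrix Kronecker

/-- the pieces of the generic theorem for any `n > 0` -/
theorem sp12Pieces {n : ℕ} {F : Type*} [Field F] [Fintype F] (hn : 0 < n) : Sp12Pieces n F where
  reducibleG := reducibleG_symp
  evenRank := Cfsg.Agent.Helper2.AschSp.evenRank
  cliffordG := fun f hf {_ _} => clifford_symp_gen hn f hf
  adjOdd := fun _ hf r K hr hK hadj => adjOdd_symp hf r K hr hK hadj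
  altOfSelfAdj := Cfsg.Agent.Helper8.AschSp.altOfSelfAdj
  evenDecomp := Cfsg.Agent.Helper8.AschSp.evenDecomp
  evenPair := Cfsg.Agent.Helper8.AschSp.evenPair
  evenField := Cfsg.Agent.Helper8.AschSp.evenField
  tensorO2 := fun ho f hf n₁ e P f₁ f₂ hf₁ hf₂ hT H hfix hle => by
    have hn₁ : 0 < n₁ := by
      rcases Nat.eq_zero_or_pos n₁ with h | h
      · subst h
        exact ((e ⟨0, hn⟩).1).elim0
      · exact h
    exact Cfsg.Agent.Helper8.AschSp.tensor_O2_exit ho hf hfix n₁ hn₁ e P f₁ f₂ hf₁ hf₂ hT hle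
  tensorN3 := fun hq f hf n₁ e P f₁ f₂ hf₁ hf₂ hT => by
    have hn₁ : 0 < n₁ := by
      rcases Nat.eq_zero_or_pos n₁ with h | h
      · subst h
        exact ((e ⟨0, hn⟩).1).elim0
      · exact h
    exact tensorN3_symp hq f hf n₁ hn₁ e P f₁ f₂ hf₁ hf₂ hT
  tensorSwap := tensorSwap_symp
  subfield := subfield_symp
  quadOdd := quadOdd_symp hn
  quadEven := Cfsg.Agent.Helper8.AschSp.quadEven
  unitary := Cfsg.Agent.Helper5.AschSp.unitary hn

end Cfsg.Agent.Helper1.AschSp
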