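import Mathlib
import Cfsg.Prelude.Def_GeometricClasses
import Cfsg.Agent.Helper1.AschSp12Pieces
import Cfsg.Agent.Helper2.AschSpTr
import Cfsg.Agent.Helper6.AschGSpSlot
import Cfsg.Agent.Helper1.AschGSpDim
import Cfsg.Agent.Helper1.AschGSpDimTr

/-!
# ASCH-PP-Sp (helper1): the general theorem for subgroups of `spGL m F`, with the dimension recorded in class 6
-/

set_option autoImplicit false

namespace Cfsg.Agent.Helper1.AschPPSp

open Cfsg Cfsg.Geo
open scoped MatrixGroups Matrix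

/-- every subgroup of `Sp_2m(F)`, `m ≥ 2`, satisfies `GSpConclD` -/
theorem gspConclD_of_le {F : Type*} [Field F] [Fintype F] (m : ℕ) (hm : 2 ≤ m)
    (H : Subgroup (GL (Fin m ⊕ Fin m) F)) (hH : H ≤ spGL m F) : GSpConclD m (sympForm m F) H := by
  classical
  have hcard : Fintype.card (Fin m ⊕ Fin m) = 2 * m := by
    rw [Fintype.card_sum, Fintype.card_fin]; ring
  let e : (Fin m ⊕ Fin m) ≃ Fin (2 * m) := Fintype.equivFinOfCardEq hcard
  have htr := Cfsg.Agent.Helper2.AschSp.spTransport (F := F) m (2 * m)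
  have hmain := asch_gsp_dim
    (Cfsg.Agent.Helper1.AschSp.sp12Pieces (n := 2 * m) (F := F) (by omega))
    (Cfsg.Agent.Helper6.AschGSp.spPerfectCase (n := 2 * m) (F := F) (by omega)) rfl hm
    (Cfsg.Agent.Helper1.AschSp.reF e (Cfsg.sympForm m F)) (htr.symplectic e)
    (H.map (Cfsg.Geo.glReindex e : Matrix.GeneralLinearGroup (Fin m ⊕ Fin m) F ≃*
      Matrix.GeneralLinearGroup (Fin (2 * m)) F).toMonoidHom) (htr.fixes e H hH)
  exact gspConclD_of_map m e (Cfsg.sympForm m F) H hmain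

end Cfsg.Agent.Helper1.AschPPSp
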