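import Mathlib
import Cfsg.Prelude.Def_GeometricClasses
import Cfsg.Prelude.Def_LieClassical
import Cfsg.Agent.Helper7.Ex27UA
import Cfsg.Agent.Helper7.TensNMJ
import Cfsg.Agent.Helper8.GUOrder

/-!
# ASCH-PP-U (helper9 leads), sub-piece (a) of U23 (helper1): `GU_3(2)` normalises `3^{1+2} = ⟨ω, X, Z⟩`

Rows of a unitary `3 × 3` matrix over `F_4` have weight `1` or `3`, all the same: the matrix is monomial or has
no zero entry.  For `g ∈ GU_3(2)` the conjugate `x = g · diag(1, ω, ω²) · g⁻¹` is then diagonal or has zero diagonal,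
hence is monomial on the identity or on a `3`-cycle, with entries cube roots of unity and determinant one: `x ∈ R0`.
The shift is conjugate to `diag(1, ω, ω²)` by the Fourier matrix, which is unitary.
-/

set_option autoImplicit false
set_option linter.unusedVariables false
set_option linter.unusedSectionVars false

namespace Cfsg.Agent.Helper1.AschPPU

open Cfsg Cfsg.Geo Cfsg.Agent.Helper7.Ex27 Cfsg.Agent.Helper7.TensNM Cfsg.Agent.Helper7.Singer
open scoped MatrixGroups Matrix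

variable {F : Type*} [Field F] [Fintype F]

open Classical in
/-- the norm of an element of `F_4` -/
theorem nrm_F4 (hF : Fintype.card F = 2 ^ 2) (x : F) : x * x ^ 2 = if x = 0 then 0 else 1 := by
  split_ifs with h
  · rw [h]; ring
  · exact norm_F4 hF h

/-- a unit vector of `F_4^3` has weight one or three -/
theorem row_cases (hF : Fintype.card F = 2 ^ 2) (a : Fin 3 → F) (h : hermForm 3 F 2 a a = 1) :
    (∀ l, a l ≠ 0) ∨ ∃ k, ∀ l, a l ≠ 0 ↔ l = k := by
  have h11 : (1 : F) + 1 = 0 := by rw [one_add_one_eq_two]; exact two_eq_zero_F4 hF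
  unfold hermForm at h
  rw [Fin.sum_univ_three, nrm_F4 hF, nrm_F4 hF, nrm_F4 hF] at h
  by_cases h0 : a 0 = 0 <;> by_cases h1 : a 1 = 0 <;> by_cases h2 : a 2 = 0
  · rw [if_pos h0, if_pos h1, if_pos h2] at h
    simp at h
  · right; refine ⟨2, fun l => ?_⟩
    fin_cases l <;> simp [h0, h1, h2]
  · right; refine ⟨1, fun l => ?_⟩
    fin_cases l <;> simp [h0, h1, h2]
  · exfalso
    rw [if_pos h0, if_neg h1, if_neg h2, zero_add, h11] at h
    exact zero_ne_one h
  · right; refine ⟨0, fun l => ?_⟩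
    fin_cases l <;> simp [h0, h1, h2]
  · exfalso
    rw [if_neg h0, if_pos h1, if_neg h2, add_zero, h11] at h
    exact zero_ne_one h
  · exfalso
    rw [if_neg h0, if_neg h1, if_pos h2, add_zero, h11] at h
    exact zero_ne_one h
  · left
    intro l
    fin_cases l <;> assumption

/-- the Hermitian product with a vector of weight one -/
theorem herm_single {a : Fin 3 → F} {k : Fin 3} (hk : ∀ l, a l ≠ 0 ↔ l = k) (b : Fin 3 → F) :
    hermForm 3 F 2 a b = a k * (b k) ^ 2 := by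
  unfold hermForm
  rw [Finset.sum_eq_single k]
  · intro l _ hl
    have : a l = 0 := by
      by_contra hne
      exact hl ((hk l).1 hne)
    rw [this, zero_mul]
  · intro h; exact absurd (Finset.mem_univ k) h

/-- the rows are orthonormal -/
def RowsON (M : Matrix (Fin 3) (Fin 3) F) : Prop :=
  ∀ i j, hermForm 3 F 2 (M i) (M j) = if i = j then 1 else 0

/-- a matrix with orthonormal rows over `F_4` has no zero entry or is monomial -/
theorem full_or_mono (hF : Fintype.card F = 2 ^ 2) {M : Matrix (Fin 3) (Fin 3) F} (h : RowsON M) :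
    (∀ i j, M i j ≠ 0) ∨
      ∃ σ : Fin 3 → Fin 3, Function.Injective σ ∧ ∀ i j, M i j ≠ 0 ↔ j = σ i := by
  have hrow : ∀ i, (∀ l, M i l ≠ 0) ∨ ∃ k, ∀ l, M i l ≠ 0 ↔ l = k := fun i =>
    row_cases hF (M i) (by have := h i i; rwa [if_pos rfl] at this)
  by_cases hall : ∀ i, ∀ l, M i l ≠ 0
  · left; exact hall
  · right
    push Not at hall
    obtain ⟨i₀, l₀, h0⟩ := hall
    have hs0 : ∃ k, ∀ l, M i₀ l ≠ 0 ↔ l = k := (hrow i₀).resolve_left (fun hf => hf l₀ h0)
    have hs : ∀ i, ∃ k, ∀ l, M i l ≠ 0 ↔ l = k := by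
      intro i
      rcases hrow i with hf | hk
      · exfalso
        obtain ⟨k, hk⟩ := hs0
        have hne : i₀ ≠ i := by rintro rfl; exact hf l₀ h0
        have h1 := h i₀ i
        rw [if_neg hne, herm_single hk] at h1
        exact mul_ne_zero ((hk k).2 rfl) (pow_ne_zero 2 (hf k)) h1
      · exact hk
    choose σ hσ using hs
    refine ⟨σ, ?_, hσ⟩
    intro i j hij
    by_contra hne
    have h1 := h i j
    rw [if_neg hne, herm_single (hσ i)] at h1
    have h3 : M j (σ i) ≠ 0 := (hσ j (σ i)).2 hij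
    exact mul_ne_zero ((hσ i (σ i)).2 rfl) (pow_ne_zero 2 h3) h1

/-- the rows of a unitary matrix are orthonormal, and its inverse is its conjugate transpose -/
theorem rowsON_of_mem (hF : Fintype.card F = 2 ^ 2) {g : GL (Fin 3) F} (hg : g ∈ GU 3 F 2) :
    RowsON (g : Matrix (Fin 3) (Fin 3) F) ∧
      ((g⁻¹ : GL (Fin 3) F) : Matrix (Fin 3) (Fin 3) F) =
        ((g : Matrix (Fin 3) (Fin 3) F).map (· ^ 2))ᵀ := by
  have h1 := (Cfsg.Agent.Helper8.GUOrder.mem_GU_iff hF g).1 hg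
  have h2 : (g : Matrix (Fin 3) (Fin 3) F).map (· ^ 2) * (g : Matrix (Fin 3) (Fin 3) F)ᵀ = 1 :=
    mul_eq_one_comm.1 h1
  have h3 : (g : Matrix (Fin 3) (Fin 3) F) * ((g : Matrix (Fin 3) (Fin 3) F).map (· ^ 2))ᵀ = 1 := by
    have := congrArg Matrix.transpose h2
    rwa [Matrix.transpose_mul, Matrix.transpose_transpose, Matrix.transpose_one] at this
  refine ⟨fun i j => ?_, Units.inv_eq_of_mul_eq_one_right h3⟩
  have h4 := congrFun (congrFun h3 i) j
  rw [Matrix.mul_apply, Matrix.one_apply] at h4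
  rw [← h4]
  unfold hermForm
  refine Finset.sum_congr rfl fun k _ => ?_
  rw [Matrix.transpose_apply, Matrix.map_apply]

theorem Ym'_apply (i j : Fin 3) :
    (Ym' : Matrix (Fin 3) (Fin 3) F) i j = if j = (![1, 2, 0] : Fin 3 → Fin 3) i then 1 else 0 := by
  fin_cases i <;> fin_cases j <;> simp [Ym']

theorem Ym_apply (i j : Fin 3) :
    (Ym : Matrix (Fin 3) (Fin 3) F) i j = if j = (![2, 0, 1] : Fin 3 → Fin 3) i then 1 else 0 := by
  fin_cases i <;> fin_cases j <;> simp [Ym]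

theorem perm_cases : ∀ σ : Fin 3 → Fin 3, Function.Injective σ → ((∀ i, σ i = i) ∨ (∀ i, σ i ≠ i)) →
    σ = id ∨ σ = ![1, 2, 0] ∨ σ = ![2, 0, 1] := by
  decide

/-- a monomial matrix on the identity or on a `3`-cycle, of determinant one, lies in `R0` -/
theorem mono_mem_R0 (hF : Fintype.card F = 2 ^ 2) (ω : F) (hω : ω ^ 2 + ω + 1 = 0) (x : GL (Fin 3) F)
    (σ : Fin 3 → Fin 3) (hinj : Function.Injective σ)
    (hm : ∀ i j, (x : Matrix (Fin 3) (Fin 3) F) i j ≠ 0 ↔ j = σ i)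
    (hdet : (x : Matrix (Fin 3) (Fin 3) F).det = 1)
    (hc : (∀ i, σ i = i) ∨ (∀ i, σ i ≠ i)) : x ∈ R0 ω hω := by
  obtain ⟨e, he⟩ : ∃ e : Fin 3 → Fˣ, e = fun i =>
      Units.mk0 ((x : Matrix (Fin 3) (Fin 3) F) i (σ i)) ((hm i (σ i)).2 rfl) := ⟨_, rfl⟩
  have hev : ∀ i, ((e i : Fˣ) : F) = (x : Matrix (Fin 3) (Fin 3) F) i (σ i) := by
    intro i; rw [he]; rfl
  have he3 : ∀ i, e i ^ 3 = 1 := by
    intro i
    apply Units.ext
    rw [Units.val_pow_eq_pow_val, Units.val_one]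
    exact cube_F4 hF (e i).ne_zero
  have hz : ∀ i j, j ≠ σ i → (x : Matrix (Fin 3) (Fin 3) F) i j = 0 := by
    intro i j hj
    by_contra hne
    exact hj ((hm i j).1 hne)
  have hdiag : ((dg e : GL (Fin 3) F) : Matrix (Fin 3) (Fin 3) F).det = (e 0 : F) * e 1 * e 2 := by
    rw [dg_val, Matrix.det_diagonal, Fin.prod_univ_three]
  have hprod_of : (e 0 : F) * e 1 * e 2 = 1 → e 0 * e 1 * e 2 = 1 := by
    intro h
    apply Units.ext
    rw [Units.val_mul, Units.val_mul, h, Units.val_one]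
  rcases perm_cases σ hinj hc with hσ | hσ | hσ
  · -- diagonal
    have hx : x = dg e := by
      apply Units.ext
      rw [dg_val]
      ext i j
      by_cases hij : j = i
      · subst hij
        rw [Matrix.diagonal_apply_eq, hev, hσ]; rfl
      · rw [Matrix.diagonal_apply_ne _ (Ne.symm hij)]
        apply hz
        rw [hσ]; exact hij
    have hprod : (e 0 : F) * e 1 * e 2 = 1 := by rw [← hdiag, ← hx, hdet]
    rw [hx]
    exact dg_mem_R0 ω hω e he3 (hprod_of hprod)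
  · -- the pattern of `Ym * Ym`
    have hx : x = dg e * Yg * Yg := by
      apply Units.ext
      rw [Units.val_mul, Units.val_mul, dg_val, Yg_val, Matrix.mul_assoc, Ym_mul_Ym]
      ext i j
      rw [Matrix.diagonal_mul, Ym'_apply, ← hσ]
      by_cases hij : j = σ i
      · rw [if_pos hij, mul_one, hij, hev]
      · rw [if_neg hij, mul_zero, hz i j hij]
    have hprod : (e 0 : F) * e 1 * e 2 = 1 := by
      have h1 := congrArg (fun y : GL (Fin 3) F => (y : Matrix (Fin 3) (Fin 3) F).det) hx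
      rw [hdet, Units.val_mul, Units.val_mul, Matrix.det_mul, Matrix.det_mul, hdiag, Yg_val, Ym_det,
        mul_one, mul_one] at h1
      exact h1.symm
    rw [hx]
    exact Subgroup.mul_mem _ (Subgroup.mul_mem _ (dg_mem_R0 ω hω e he3 (hprod_of hprod)) (Yg_mem ω hω))
      (Yg_mem ω hω)
  · -- the pattern of `Ym`
    have hx : x = dg e * Yg := by
      apply Units.ext
      rw [Units.val_mul, dg_val, Yg_val]
      ext i j
      rw [Matrix.diagonal_mul, Ym_apply, ← hσ]
      by_cases hij : j = σ i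
      · rw [if_pos hij, mul_one, hij, hev]
      · rw [if_neg hij, mul_zero, hz i j hij]
    have hprod : (e 0 : F) * e 1 * e 2 = 1 := by
      have h1 := congrArg (fun y : GL (Fin 3) F => (y : Matrix (Fin 3) (Fin 3) F).det) hx
      rw [hdet, Units.val_mul, Matrix.det_mul, hdiag, Yg_val, Ym_det, mul_one] at h1
      exact h1.symm
    rw [hx]
    exact Subgroup.mul_mem _ (dg_mem_R0 ω hω e he3 (hprod_of hprod)) (Yg_mem ω hω)

theorem Xm_eq_diagonal (ω : F) : Xm ω = Matrix.diagonal ![1, ω, ω ^ 2] := by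
  ext i j
  fin_cases i <;> fin_cases j <;> simp [Xm]

/-- conjugates of `diag(1, ω, ω²)` under `GU_3(2)` lie in `R0` -/
theorem conj_Xg_mem (hF : Fintype.card F = 2 ^ 2) (ω : F) (hω : ω ^ 2 + ω + 1 = 0) (g : GL (Fin 3) F)
    (hg : g ∈ GU 3 F 2) : g * Xg ω hω * g⁻¹ ∈ R0 ω hω := by
  haveI : Fact (Fintype.card F = 2 ^ 2) := ⟨hF⟩
  have hωq : ω ^ (2 + 1) = 1 := omega_cube ω hω
  obtain ⟨x, hxdef⟩ : ∃ x : GL (Fin 3) F, x = g * Xg ω hω * g⁻¹ := ⟨_, rfl⟩
  have hx : x ∈ GU 3 F 2 := by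
    rw [hxdef]
    exact Subgroup.mul_mem _ (Subgroup.mul_mem _ hg (Xg_mem_GU ω hω hωq)) (Subgroup.inv_mem _ hg)
  obtain ⟨hMg, hginv⟩ := rowsON_of_mem hF hg
  obtain ⟨hMx, -⟩ := rowsON_of_mem hF hx
  obtain ⟨d, hd⟩ : ∃ d : Fin 3 → F, d = ![1, ω, ω ^ 2] := ⟨_, rfl⟩
  have hentry : ∀ i j, (x : Matrix (Fin 3) (Fin 3) F) i j =
      ∑ l, (g : Matrix (Fin 3) (Fin 3) F) i l * d l * ((g : Matrix (Fin 3) (Fin 3) F) j l) ^ 2 := by
    intro i j
    rw [hxdef, Units.val_mul, Units.val_mul, hginv, Xg_val, Xm_eq_diagonal, ← hd, Matrix.mul_apply]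
    refine Finset.sum_congr rfl fun l _ => ?_
    rw [Matrix.mul_diagonal, Matrix.transpose_apply, Matrix.map_apply]
  have hdet : (x : Matrix (Fin 3) (Fin 3) F).det = 1 := by
    rw [hxdef, Units.val_mul, Units.val_mul, Matrix.det_units_conj, Xg_val, Xm_det ω hω]
  have hdsum : d 0 + d 1 + d 2 = 0 := by
    rw [hd]
    simp only [Matrix.cons_val_zero, Matrix.cons_val_one, Matrix.cons_val_two, Matrix.head_cons,
      Matrix.tail_cons]
    linear_combination hω
  have key : ∃ σ' : Fin 3 → Fin 3, Function.Injective σ' ∧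
      (∀ i j, (x : Matrix (Fin 3) (Fin 3) F) i j ≠ 0 ↔ j = σ' i) ∧
      ((∀ i, σ' i = i) ∨ (∀ i, σ' i ≠ i)) := by
    rcases full_or_mono hF hMg with hfull | ⟨σ, hinj, hσ⟩
    · -- `g` has no zero entry: `x` has zero diagonal
      have hx0 : ∀ i, (x : Matrix (Fin 3) (Fin 3) F) i i = 0 := by
        intro i
        rw [hentry, Fin.sum_univ_three]
        have e : ∀ l, (g : Matrix (Fin 3) (Fin 3) F) i l * d l * ((g : Matrix (Fin 3) (Fin 3) F) i l) ^ 2
            = d l := by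
          intro l
          have := norm_F4 hF (hfull i l)
          linear_combination d l * this
        rw [e, e, e, hdsum]
      rcases full_or_mono hF hMx with hxf | ⟨σ', hinj', hσ'⟩
      · exact absurd (hx0 0) (hxf 0 0)
      · refine ⟨σ', hinj', hσ', Or.inr fun i hi => ?_⟩
        exact (hσ' i i).2 hi.symm (hx0 i)
    · -- `g` is monomial: `x` is diagonal
      have hx0 : ∀ i j, i ≠ j → (x : Matrix (Fin 3) (Fin 3) F) i j = 0 := by
        intro i j hij
        rw [hentry]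
        apply Finset.sum_eq_zero
        intro l _
        by_cases hl : l = σ i
        · have h1 : (g : Matrix (Fin 3) (Fin 3) F) j l = 0 := by
            by_contra hne
            have h2 := (hσ j l).1 hne
            exact hij (hinj (hl.symm.trans h2))
          rw [h1]; ring
        · have h1 : (g : Matrix (Fin 3) (Fin 3) F) i l = 0 := by
            by_contra hne
            exact hl ((hσ i l).1 hne)
          rw [h1]; ring
      rcases full_or_mono hF hMx with hxf | ⟨σ', hinj', hσ'⟩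
      · exact absurd (hx0 0 1 (by decide)) (hxf 0 1)
      · refine ⟨σ', hinj', hσ', Or.inl fun i => ?_⟩
        by_contra hne
        exact (hσ' i (σ' i)).2 rfl (hx0 i (σ' i) (Ne.symm hne))
  obtain ⟨σ', hinj', hσ', hc⟩ := key
  rw [← hxdef]
  exact mono_mem_R0 hF ω hω x σ' hinj' hσ' hdet hc

/-- the Fourier matrix -/
def Φm (ω : F) : Matrix (Fin 3) (Fin 3) F := !![1, 1, 1; 1, ω, ω ^ 2; 1, ω ^ 2, ω]

theorem Φm_mul (hF : Fintype.card F = 2 ^ 2) (ω : F) (hω : ω ^ 2 + ω + 1 = 0) : Φm ω * Φm (ω ^ 2) = 1 := by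
  have h2 := two_eq_zero_F4 hF
  ext i j
  fin_cases i <;> fin_cases j <;>
    simp [Φm, Matrix.mul_apply, Fin.sum_univ_three] <;>
    first
    | linear_combination h2
    | linear_combination hω
    | linear_combination (ω ^ 2 - ω + 1) * hω
    | linear_combination (ω ^ 3) * h2
    | linear_combination (ω ^ 3 + ω ^ 2) * h2 + (ω ^ 2 - ω + 1) * hω
    | linear_combination (ω + 1) * hω
    | linear_combination ω ^ 3 * (ω - 1) * hω + ω ^ 3 * h2
    | linear_combination (ω ^ 3 - ω + 1) * hω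

/-- the Fourier matrix as an element of `GL_3(F_4)` -/
def Φg (hF : Fintype.card F = 2 ^ 2) (ω : F) (hω : ω ^ 2 + ω + 1 = 0) : GL (Fin 3) F :=
  ⟨Φm ω, Φm (ω ^ 2), Φm_mul hF ω hω, mul_eq_one_comm.1 (Φm_mul hF ω hω)⟩

theorem Φg_mem_GU (hF : Fintype.card F = 2 ^ 2) (ω : F) (hω : ω ^ 2 + ω + 1 = 0) : Φg hF ω hω ∈ GU 3 F 2 := by
  rw [Cfsg.Agent.Helper8.GUOrder.mem_GU_iff hF]
  show (Φm ω)ᵀ * (Φm ω).map (· ^ 2) = 1
  have h1 : (Φm ω)ᵀ = Φm ω := by
    ext i j
    fin_cases i <;> fin_cases j <;> simp [Φm]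
  have h2 : (Φm ω).map (· ^ 2) = Φm (ω ^ 2) := by
    ext i j
    fin_cases i <;> fin_cases j <;> simp [Φm]
  rw [h1, h2]
  exact Φm_mul hF ω hω

theorem Xm_mul_Φm (ω : F) (hω : ω ^ 2 + ω + 1 = 0) : Xm ω * Φm ω = Φm ω * Ym := by
  ext i j
  fin_cases i <;> fin_cases j <;>
    simp [Xm, Φm, Ym, Matrix.mul_apply, Fin.sum_univ_three] <;>
    first
    | linear_combination (ω - 1) * hω
    | linear_combination ω * (ω - 1) * hω
    | ring

/-- conjugates of the shift under `GU_3(2)` lie in `R0` -/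
theorem conj_Yg_mem (hF : Fintype.card F = 2 ^ 2) (ω : F) (hω : ω ^ 2 + ω + 1 = 0) (g : GL (Fin 3) F)
    (hg : g ∈ GU 3 F 2) : g * Yg * g⁻¹ ∈ R0 ω hω := by
  have h0 : Xg ω hω * Φg hF ω hω = Φg hF ω hω * Yg := by
    apply Units.ext
    rw [Units.val_mul, Units.val_mul, Xg_val, Yg_val]
    exact Xm_mul_Φm ω hω
  have h1 : (Yg : GL (Fin 3) F) = (Φg hF ω hω)⁻¹ * Xg ω hω * Φg hF ω hω := by
    rw [mul_assoc, h0, ← mul_assoc, inv_mul_cancel, one_mul]
  have h2 : g * Yg * g⁻¹ = (g * (Φg hF ω hω)⁻¹) * Xg ω hω * (g * (Φg hF ω hω)⁻¹)⁻¹ := by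
    rw [h1]; group
  rw [h2]
  exact conj_Xg_mem hF ω hω _ (Subgroup.mul_mem _ hg (Subgroup.inv_mem _ (Φg_mem_GU hF ω hω)))

/-- **`GU_3(2)` normalises `3^{1+2} = ⟨ω, X, Z⟩`.** -/
theorem GU3_two_le_normalizer_R0 (hF : Fintype.card F = 2 ^ 2) (ω : F) (hω : ω ^ 2 + ω + 1 = 0) :
    GU 3 F 2 ≤ subgroupNormalizer (R0 ω hω) := fun g hg =>
  mem_normalizer_of_gens ω hω g (conj_Xg_mem hF ω hω g hg) (conj_Yg_mem hF ω hω g hg)

end Cfsg.Agent.Helper1.AschPPU
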