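import Mathlib
import Cfsg.Prelude.Def_GeometricClasses
import Cfsg.Agent.Helper4.AschTIE
import Cfsg.Agent.Helper1.AschPPUGU3

/-!
# ASCH-PP-U piece U23-B (helper1): a pure tensor preserving the standard Hermitian form on `F_4^(Fin 2 → Fin 3)` has
unitary factors
-/

set_option autoImplicit false

namespace Cfsg.Agent.Helper1.AschPPU

open Cfsg Cfsg.Geo Cfsg.Agent.Helper4.AschTI
open scoped MatrixGroups Matrix

variable {F : Type*} [Field F]

/-- the Gram matrix of the columns -/
def ubGram (A : Matrix (Fin 3) (Fin 3) F) : Matrix (Fin 3) (Fin 3) F := Aᵀ * A.map (· ^ 2)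

theorem ubGram_apply (A : Matrix (Fin 3) (Fin 3) F) (j l : Fin 3) :
    ubGram A j l = ∑ c, A c j * A c l ^ 2 := by
  unfold ubGram
  rw [Matrix.mul_apply]
  refine Finset.sum_congr rfl fun c _ => ?_
  rw [Matrix.transpose_apply, Matrix.map_apply]

theorem ub_two_eq_zero [Fintype F] (hF : Fintype.card F = 2 ^ 2) : (2 : F) = 0 := by
  have h := Cfsg.Agent.Helper7.Herm.add_pow_q hF (1 : F) 1
  linear_combination h

theorem ub_diag_val [Fintype F] (hF : Fintype.card F = 2 ^ 2) (A : Matrix (Fin 3) (Fin 3) F) (j : Fin 3) :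
    ubGram A j j = 0 ∨ ubGram A j j = 1 := by
  rw [ubGram_apply, Fin.sum_univ_three]
  simp only [nrm_F4 hF]
  have h2 := ub_two_eq_zero hF
  split_ifs
  · left; ring
  · right; ring
  · right; ring
  · left; linear_combination h2
  · right; ring
  · left; linear_combination h2
  · left; linear_combination h2
  · right; linear_combination h2

/-- **U23-B**: a pure tensor preserving the standard Hermitian form on `F_4^(Fin 2 → Fin 3)` has unitary factors. -/
theorem ptens_mem_GU_two [Fintype F] (hF : Fintype.card F = 2 ^ 2) (a : Fin 2 → GL (Fin 3) F)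
    (h : ∀ x y : (Fin 2 → Fin 3) → F,
      ∑ c, (((ptensGL a : GL (Fin 2 → Fin 3) F) : Matrix (Fin 2 → Fin 3) (Fin 2 → Fin 3) F) *ᵥ x) c *
        (((ptensGL a : GL (Fin 2 → Fin 3) F) : Matrix (Fin 2 → Fin 3) (Fin 2 → Fin 3) F) *ᵥ y) c ^ 2 =
      ∑ c, x c * y c ^ 2) :
    ∀ i, a i ∈ GU 3 F 2 := by
  classical
  have key : ∀ p r : Fin 2 → Fin 3,
      ∏ i, ubGram (a i : Matrix (Fin 3) (Fin 3) F) (p i) (r i) = if p = r then 1 else 0 := by
    intro p r
    have h1 := h (Pi.single p 1) (Pi.single r 1)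
    have hcol : ∀ (s c : Fin 2 → Fin 3),
        (((ptensGL a : GL (Fin 2 → Fin 3) F) : Matrix (Fin 2 → Fin 3) (Fin 2 → Fin 3) F) *ᵥ Pi.single s 1) c =
          ∏ i, (a i : Matrix (Fin 3) (Fin 3) F) (c i) (s i) := by
      intro s c
      rw [Matrix.mulVec_single_one]
      rfl
    simp only [hcol] at h1
    have hR : ∑ c, (Pi.single p (1 : F) : (Fin 2 → Fin 3) → F) c *
        (Pi.single r (1 : F) : (Fin 2 → Fin 3) → F) c ^ 2 = if p = r then 1 else 0 := by
      rw [Finset.sum_eq_single p]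
      · rw [Pi.single_eq_same, one_mul]
        by_cases hpr : p = r
        · subst hpr
          rw [Pi.single_eq_same, if_pos rfl, one_pow]
        · rw [Pi.single_eq_of_ne hpr, if_neg hpr]
          ring
      · intro c _ hc
        rw [Pi.single_eq_of_ne hc, zero_mul]
      · intro hp
        exact absurd (Finset.mem_univ p) hp
    rw [hR] at h1
    rw [← h1]
    simp only [ubGram_apply]
    rw [Finset.prod_univ_sum, Fintype.piFinset_univ]
    refine Finset.sum_congr rfl fun c _ => ?_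
    rw [Finset.prod_mul_distrib, Finset.prod_pow]
  have key2 : ∀ j l k m : Fin 3, ubGram (a 0 : Matrix (Fin 3) (Fin 3) F) j l *
      ubGram (a 1 : Matrix (Fin 3) (Fin 3) F) k m = if j = l ∧ k = m then 1 else 0 := by
    intro j l k m
    have h1 := key ![j, k] ![l, m]
    rw [Fin.prod_univ_two] at h1
    simp only [Matrix.cons_val_zero, Matrix.cons_val_one] at h1
    rw [h1]
    by_cases hc : j = l ∧ k = m
    · obtain ⟨rfl, rfl⟩ := hc
      rw [if_pos rfl, if_pos ⟨rfl, rfl⟩]
    · rw [if_neg hc, if_neg]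
      intro heq
      apply hc
      exact ⟨by simpa using congrFun heq 0, by simpa using congrFun heq 1⟩
  have h00 := key2 0 0 0 0
  rw [if_pos ⟨rfl, rfl⟩] at h00
  have hl : ubGram (a 0 : Matrix (Fin 3) (Fin 3) F) 0 0 = 1 := by
    rcases ub_diag_val hF (a 0 : Matrix (Fin 3) (Fin 3) F) 0 with h0 | h0
    · rw [h0, zero_mul] at h00
      exact absurd h00 zero_ne_one
    · exact h0
  have hm : ubGram (a 1 : Matrix (Fin 3) (Fin 3) F) 0 0 = 1 := by
    rw [hl, one_mul] at h00
    exact h00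
  have hA0 : ubGram (a 0 : Matrix (Fin 3) (Fin 3) F) = 1 := by
    ext j l
    have h1 := key2 j l 0 0
    rw [hm, mul_one] at h1
    rw [h1, Matrix.one_apply]
    by_cases hjl : j = l
    · rw [if_pos ⟨hjl, rfl⟩, if_pos hjl]
    · rw [if_neg (fun hh => hjl hh.1), if_neg hjl]
  have hA1 : ubGram (a 1 : Matrix (Fin 3) (Fin 3) F) = 1 := by
    ext k m
    have h1 := key2 0 0 k m
    rw [hl, one_mul] at h1
    rw [h1, Matrix.one_apply]
    by_cases hkm : k = m
    · rw [if_pos ⟨rfl, hkm⟩, if_pos hkm]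
    · rw [if_neg (fun hh => hkm hh.2), if_neg hkm]
  rw [Fin.forall_fin_two]
  exact ⟨(Cfsg.Agent.Helper8.GUOrder.mem_GU_iff hF (a 0)).2 hA0,
    (Cfsg.Agent.Helper8.GUOrder.mem_GU_iff hF (a 1)).2 hA1⟩

end Cfsg.Agent.Helper1.AschPPU
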