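import Mathlib
import Cfsg.Prelude.Def_GeometricClasses
import Cfsg.Prelude.Def_LieClassical
import Cfsg.Agent.Helper8.SLUa
import Cfsg.Agent.Helper8.GUOrder
import Cfsg.Agent.Helper6.BurnsidePQ
import Cfsg.Agent.Helper4.PrimeGraphSolvB

/-!
# ASCH-PP-U (helper9 leads), piece P5 (helper1): a perfect group of isometries of a 3-dimensional unitary form
over `F_4` is trivial

The isometry group of any unitary form is conjugate into `GU_3(2)` (helper8's `exists_herm_factor_gen`),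
`|GU_3(2)| = 2^3 · 3^4` (helper8's `card_GU`), Burnside's `p^a q^b` theorem (helper6).
-/

set_option autoImplicit false
set_option linter.unusedVariables false
set_option linter.unusedSectionVars false

namespace Cfsg.Agent.Helper1.AschPPU

open Cfsg Cfsg.Geo Cfsg.Agent.Helper8.SLU
open scoped MatrixGroups Matrix

variable {F : Type*} [Field F]

/-- the isometry group of a unitary form is conjugate into the standard general unitary group -/
theorem exists_conj_le_GU [Fintype F] {n : ℕ} (q : ℕ) (hF : Fintype.card F = q ^ 2)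
    (f₁ : (Fin n → F) → (Fin n → F) → F) (h₁ : IsUnitaryFormPow q f₁) (P₁ : Subgroup (GL (Fin n) F))
    (hfix : FixesForm (matrixSet P₁) f₁) :
    ∃ B : GL (Fin n) F, P₁.map (MulAut.conj B).toMonoidHom ≤ GU n F q := by
  classical
  haveI : Fact (Fintype.card F = q ^ 2) := ⟨hF⟩
  obtain ⟨P, hP⟩ := Cfsg.Agent.Helper8.HermReg.exists_herm_factor_gen (q := q) (gramMatrix f₁)
    (fun i j => gram_herm h₁ i j) (gram_det_ne_zero h₁)
  have hdet : P.det ≠ 0 := by
    intro h0
    apply gram_det_ne_zero h₁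
    rw [← hP, Matrix.det_mul, Matrix.det_transpose, h0, zero_mul]
  have hu : IsUnit P.det := isUnit_iff_ne_zero.mpr hdet
  obtain ⟨Pv, hPi⟩ : ∃ Pv : Matrix (Fin n) (Fin n) F, Pv = P⁻¹ := ⟨_, rfl⟩
  have e1 : P * Pv = 1 := by rw [hPi]; exact Matrix.mul_nonsing_inv P hu
  have e2 : Pv * P = 1 := by rw [hPi]; exact Matrix.nonsing_inv_mul P hu
  let B : GL (Fin n) F := ⟨P, Pv, e1, e2⟩
  have hBv : (B : Matrix (Fin n) (Fin n) F) = P := rfl
  have hBi : ((B⁻¹ : GL (Fin n) F) : Matrix (Fin n) (Fin n) F) = Pv := rfl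
  refine ⟨B, ?_⟩
  rintro _ ⟨g, hg, rfl⟩
  -- the Gram identity for `g`
  obtain ⟨X, hX⟩ : ∃ X : Matrix (Fin n) (Fin n) F, X = (g : Matrix (Fin n) (Fin n) F) := ⟨_, rfl⟩
  have hgram : Xᵀ * gramMatrix f₁ * X.map (· ^ q) = gramMatrix f₁ := by
    ext a b
    have h := hfix X ⟨g, hg, hX.symm⟩ (Pi.single a 1) (Pi.single b 1)
    rw [form_eq_sesq h₁, form_eq_sesq h₁, sesq_mulVec, sesq_single, sesq_single] at h
    exact h
  have t1 : Pvᵀ * Pᵀ = 1 := by rw [← Matrix.transpose_mul, e1, Matrix.transpose_one]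
  have s1 : P.map (· ^ q) * Pv.map (· ^ q) = 1 := by rw [← map_pow_mul, e1, map_pow_one]
  -- membership in `GU`
  show (MulAut.conj B) g ∈ GU n F q
  intro u v
  have hval : (Units.coeHom (Matrix (Fin n) (Fin n) F)) ((MulAut.conj B) g) = P * X * Pv := by
    rw [MulAut.conj_apply, Units.coeHom_apply, Units.val_mul, Units.val_mul, hBv, hBi, hX]
  rw [hval]
  have hherm : ∀ x y : Fin n → F, hermForm n F q x y = sesq (q := q) (1 : Matrix (Fin n) (Fin n) F) x y := by
    intro x y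
    unfold hermForm sesq
    refine Finset.sum_congr rfl fun a _ => ?_
    rw [Finset.sum_eq_single a]
    · rw [Matrix.one_apply_eq, mul_one]
    · intro b _ hb
      rw [Matrix.one_apply_ne (Ne.symm hb), mul_zero, zero_mul]
    · intro h; exact absurd (Finset.mem_univ a) h
  rw [hherm, hherm, sesq_mulVec]
  congr 1
  rw [Matrix.mul_one, map_pow_mul, map_pow_mul, Matrix.transpose_mul, Matrix.transpose_mul]
  calc Pvᵀ * (Xᵀ * Pᵀ) * (P.map (· ^ q) * X.map (· ^ q) * Pv.map (· ^ q))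
      = Pvᵀ * (Xᵀ * (Pᵀ * P.map (· ^ q)) * X.map (· ^ q)) * Pv.map (· ^ q) := by
        simp only [Matrix.mul_assoc]
    _ = Pvᵀ * (Pᵀ * P.map (· ^ q)) * Pv.map (· ^ q) := by rw [hP, hgram]
    _ = (Pvᵀ * Pᵀ) * (P.map (· ^ q) * Pv.map (· ^ q)) := by simp only [Matrix.mul_assoc]
    _ = 1 := by rw [t1, s1, Matrix.one_mul]

/-- **P5**: `GU_3(2)` is solvable: a perfect group of isometries of a 3-dimensional unitary form over `F_4` is
trivial. -/
theorem eq_bot_of_perfect_GU3_two [Fintype F] (hF : Fintype.card F = 2 ^ 2) (f₁ : (Fin 3 → F) → (Fin 3 → F) → F)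
    (h₁ : IsUnitaryFormPow 2 f₁) (P₁ : Subgroup (GL (Fin 3) F)) (hperf : ⁅P₁, P₁⁆ = P₁)
    (hfix : FixesForm (matrixSet P₁) f₁) : P₁ = ⊥ := by
  classical
  by_contra hne
  haveI : Finite (GL (Fin 3) F) := inferInstance
  obtain ⟨B, hB⟩ := exists_conj_le_GU 2 hF f₁ h₁ P₁ hfix
  have hcardGU : Nat.card (GU 3 F 2) = 2 ^ 3 * 3 ^ 4 := by
    rw [Cfsg.Agent.Helper8.GUOrder.card_GU hF 3]
    norm_num [Finset.prod_range_succ]
  have hdvd : Nat.card P₁ ∣ 2 ^ 3 * 3 ^ 4 := by
    have h1 : Nat.card (P₁.map (MulAut.conj B).toMonoidHom) = Nat.card P₁ :=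
      Subgroup.card_map_of_injective (MulAut.conj B).injective
    rw [← h1, ← hcardGU]
    exact Subgroup.card_dvd_of_le hB
  have hsolv : Group.IsSolvable P₁ :=
    Cfsg.Agent.Helper6.burnside_pq_aux 2 3 3 4 Nat.prime_two Nat.prime_three _ P₁ rfl hdvd
  have := Cfsg.Agent.Helper4.card_commutator_lt P₁ hsolv hne
  rw [hperf] at this
  exact lt_irrefl _ this

end Cfsg.Agent.Helper1.AschPPU
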