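import Mathlib
import Cfsg.Prelude.Def_GeometricClasses
import Cfsg.Agent.Lead.AschBase
import Cfsg.Agent.Lead.AschOBase
import Cfsg.Agent.Helper1.AschSpBase
import Cfsg.Agent.Helper1.AschSp12Base
import Cfsg.Agent.Helper1.AschSpMain
import Cfsg.Agent.Helper3.AschForms
import Cfsg.Agent.Helper4.AschPPC
import Cfsg.Agent.Helper6.AschCompSym

/-!
# ASCH-COMP-Sp, second round: the assembly for `Sp_12(q)` (helper1)

`asch_sp12`: the generic theorem on `Fin 12` for an abstract symplectic form and any group `H` of isometries, from the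
pieces `Sp12Pieces 12 F`.  `final12`: S5868 verbatim from the pieces, the transport and `NotSp 6 F`.
-/

set_option autoImplicit false

namespace Cfsg.Agent.Helper1.AschSp

open Cfsg Cfsg.Geo Cfsg.Agent.Lead.Asch
open scoped MatrixGroups Matrix Kronecker

variable {F : Type*} [Field F]

theorem not_prime_pow_twelve : ¬ ∃ r k : ℕ, r.Prime ∧ 12 = r ^ k := by
  rintro ⟨r, k, hr, h⟩
  have hk0 : k ≠ 0 := by
    rintro rfl
    simp at h
  have hr12 : r ∣ 12 := by rw [h]; exact dvd_pow_self r hk0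
  have h2 : (2 : ℕ) ∣ r ^ k := by rw [← h]; norm_num
  have h3 : (3 : ℕ) ∣ r ^ k := by rw [← h]; norm_num
  have e2 := (Nat.prime_dvd_prime_iff_eq Nat.prime_two hr).1 (Nat.prime_two.dvd_of_dvd_pow h2)
  have e3 := (Nat.prime_dvd_prime_iff_eq Nat.prime_three hr).1 (Nat.prime_three.dvd_of_dvd_pow h3)
  omega

theorem not_perfect_pow_twelve : ¬ ∃ d k : ℕ, 2 ≤ d ∧ 2 ≤ k ∧ 12 = d ^ k := by
  rintro ⟨d, k, hd, hk, h⟩
  have h1 : d ^ 2 ∣ 12 := by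
    rw [h]; exact pow_dvd_pow d hk
  have hd4 : d ≤ 3 := by
    by_contra hc
    have : 4 ≤ d := by omega
    have h16 : 16 ≤ d ^ 2 := by nlinarith
    have := Nat.le_of_dvd (by norm_num) h1
    omega
  interval_cases d
  · -- d = 2 : 12 = 2^k
    have h3 : (3 : ℕ) ∣ 2 ^ k := by rw [← h]; norm_num
    have := (Nat.prime_dvd_prime_iff_eq Nat.prime_three Nat.prime_two).1 (Nat.prime_three.dvd_of_dvd_pow h3)
    omega
  · have h2 : (2 : ℕ) ∣ 3 ^ k := by rw [← h]; norm_num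
    have := (Nat.prime_dvd_prime_iff_eq Nat.prime_two Nat.prime_three).1 (Nat.prime_two.dvd_of_dvd_pow h2)
    omega

/-- Aschbacher's theorem for groups of isometries of a symplectic form in dimension `12`. -/
theorem asch_sp12 [Fintype F] (hp : Sp12Pieces 12 F)
    (f : (Fin 12 → F) → (Fin 12 → F) → F) (hf : IsSymplecticForm f) (H : Subgroup (GL (Fin 12) F))
    (hfix : FixesForm (matrixSet H) f) : Sp12Concl f H := by
  have hq2 : 2 ≤ Fintype.card F := Fintype.one_lt_card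
  -- the exits
  have exitQ : ¬ Odd (Fintype.card F) → QuadExit f H → Sp12Concl f H := by
    rintro ho ⟨Q, hQ, hpol, hle⟩
    exact Or.inr (Or.inr (Or.inr (Or.inr (Or.inr (Or.inr (Or.inr (Or.inr (Or.inr (Or.inr (Or.inr (Or.inr
      (Or.inl ⟨ho, Q, hQ, hpol, hle⟩))))))))))))
  have exitD : ∀ (t k : ℕ) (D : Fin t → Submodule F (Fin 12 → F)), IsNondegenerateMDecomposition f k D →
      t * k = 12 → H ≤ decompositionStabilizer D → Sp12Concl f H := by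
    intro t k D hD htk hle
    have ht2 := hD.decomp.two_le
    have hev : Even k := by
      have h1 := hp.evenRank f hf (D ⟨0, by omega⟩) (hD.nondegenerate _)
      rwa [hD.decomp.finrank_eq] at h1
    obtain ⟨a, ha⟩ := hev
    have hta : t * a = 6 := by
      subst ha
      have : t * (a + a) = 2 * (t * a) := by ring
      omega
    have htd : t ∣ 6 := ⟨a, hta.symm⟩
    have ht6 : t ≤ 6 := Nat.le_of_dvd (by norm_num) htd
    have hcases : (t = 6 ∧ k = 2) ∨ (t = 3 ∧ k = 4) ∨ (t = 2 ∧ k = 6) := by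
      interval_cases t
      · right; right; exact ⟨rfl, by omega⟩
      · right; left; exact ⟨rfl, by omega⟩
      · omega
      · omega
      · left; exact ⟨rfl, by omega⟩
    rcases hcases with ⟨rfl, rfl⟩ | ⟨rfl, rfl⟩ | ⟨rfl, rfl⟩
    · by_cases hq : 3 ≤ Fintype.card F
      · exact Or.inr (Or.inr (Or.inl ⟨hq, D, hD, hle⟩))
      · have hq2' : Fintype.card F = 2 := by omega
        exact exitQ (by rw [hq2']; decide) (hp.evenDecomp hq2' f hf D hD H hfix hle)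
    · exact Or.inr (Or.inr (Or.inr (Or.inl ⟨D, hD, hle⟩)))
    · exact Or.inr (Or.inr (Or.inr (Or.inr (Or.inl ⟨D, hD, hle⟩))))
  have exitP : ∀ (k : ℕ) (D : Fin 2 → Submodule F (Fin 12 → F)), IsMDecomposition k D → 2 * k = 12 →
      (∀ i, IsTotallySingularFor f (D i)) → H ≤ decompositionStabilizer D → Sp12Concl f H := by
    intro k D hD h2k hts hle
    have hkm : k = 6 := by omega
    subst hkm
    by_cases ho : Odd (Fintype.card F)
    · exact Or.inr (Or.inr (Or.inr (Or.inr (Or.inr (Or.inl ⟨ho, D, hD, hts, hle⟩)))))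
    · exact exitQ ho (hp.evenPair ho f hf 6 D hD hts H hfix hle)
  -- Step 1: reducible
  by_cases hirr : ActsIrreducibly (matrixSet H)
  swap
  · rcases hp.reducibleG f hf H hfix hirr with ⟨W, h0, hts, hle⟩ | ⟨W, h0, hnd, hdim, hle⟩ | ⟨k, D, hD, h2k, hle⟩
    · exact Or.inl ⟨W, h0, hts, hle⟩
    · exact Or.inr (Or.inl ⟨W, h0, hnd, by omega, hle⟩)
    · exact exitD 2 k D hD h2k hle
  have exitK : ∀ (r : ℕ) (K : Subalgebra F (Matrix (Fin 12) (Fin 12) F)), r.Prime → r ∣ 12 →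
      IsFieldSubalgebra r K → IsAdjointClosedFor f K → H ≤ subalgebraNormalizer K → Sp12Concl f H := by
    intro r K hr hrn hK hadj hle
    have hr23 : r = 2 ∨ r = 3 := by
      have h12 : (12 : ℕ) = 2 * 2 * 3 := by norm_num
      rw [h12] at hrn
      rcases (Nat.Prime.dvd_mul hr).1 hrn with h | h
      · rcases (Nat.Prime.dvd_mul hr).1 h with h | h
        · left; exact (Nat.prime_dvd_prime_iff_eq hr Nat.prime_two).1 h
        · left; exact (Nat.prime_dvd_prime_iff_eq hr Nat.prime_two).1 h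
      · right; exact (Nat.prime_dvd_prime_iff_eq hr Nat.prime_three).1 h
    rcases hr23 with rfl | rfl
    · by_cases hsa : IsSelfAdjointFor f K
      · have halt := hp.altOfSelfAdj f hf H hfix hirr 2 K hK hsa hle
        exact Or.inr (Or.inr (Or.inr (Or.inr (Or.inr (Or.inr (Or.inl ⟨K, hK, hsa, halt, hle⟩))))))
      · by_cases ho : Odd (Fintype.card F)
        · exact Or.inr (Or.inr (Or.inr (Or.inr (Or.inr (Or.inr (Or.inr (Or.inr (Or.inl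
            ⟨ho, K, hK, hadj, hsa, hle⟩))))))))
        · exact exitQ ho (hp.evenField ho f hf K hK hadj hsa H hfix hle)
    · have hsa := hp.adjOdd f hf 3 K (by decide) hK hadj
      have halt := hp.altOfSelfAdj f hf H hfix hirr 3 K hK hsa hle
      exact Or.inr (Or.inr (Or.inr (Or.inr (Or.inr (Or.inr (Or.inr (Or.inl ⟨K, hK, hsa, halt, hle⟩)))))))
  have exitT : Odd (Fintype.card F) → ∀ (n₁ n₂ : ℕ) (e : Fin 12 ≃ Fin n₁ × Fin n₂) (P : GL (Fin 12) F)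
      (f₁ : (Fin n₁ → F) → (Fin n₁ → F) → F) (f₂ : (Fin n₂ → F) → (Fin n₂ → F) → F), 2 ≤ n₁ → 2 ≤ n₂ →
      ((IsSymplecticForm f₁ ∧ IsSymmetricForm f₂) ∨ (IsSymmetricForm f₁ ∧ IsSymplecticForm f₂)) →
      IsTensorFormStructure id f f₁ f₂ e P → H ≤ tensorProductSubgroup n₁ n₂ e P → Sp12Concl f H := by
    intro ho n₁ n₂ e P f₁ f₂ h1 h2 hforms hT hle
    have key : ∀ (k₁ k₂ : ℕ) (e' : Fin 12 ≃ Fin k₁ × Fin k₂) (g₁ : (Fin k₁ → F) → (Fin k₁ → F) → F)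
        (g₂ : (Fin k₂ → F) → (Fin k₂ → F) → F), 2 ≤ k₁ → 2 ≤ k₂ → IsSymplecticForm g₁ → IsSymmetricForm g₂ →
        IsTensorFormStructure id f g₁ g₂ e' P → H ≤ tensorProductSubgroup k₁ k₂ e' P → Sp12Concl f H := by
      intro k₁ k₂ e' g₁ g₂ hk1 hk2 hg1 hg2 hT' hle'
      have hcard : 12 = k₁ * k₂ := by
        have := Fintype.card_congr e'
        simpa using this
      have hev : ¬ Odd k₁ := fun ho' => Cfsg.Agent.Helper3.Asch.no_symplectic_of_odd ho' g₁ hg1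
      have hk1d : k₁ ∣ 12 := ⟨k₂, hcard⟩
      have hk1le : k₁ ≤ 12 := Nat.le_of_dvd (by norm_num) hk1d
      have hcases : (k₁ = 2 ∧ k₂ = 6) ∨ (k₁ = 4 ∧ k₂ = 3) ∨ (k₁ = 6 ∧ k₂ = 2) := by
        interval_cases k₁
        · left; exact ⟨rfl, by omega⟩
        · exact absurd (by decide : Odd 3) hev
        · right; left; exact ⟨rfl, by omega⟩
        · omega
        · right; right; exact ⟨rfl, by omega⟩
        · omega
        · omega
        · omega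
        · omega
        · omega
        · omega
      rcases hcases with ⟨rfl, rfl⟩ | ⟨rfl, rfl⟩ | ⟨rfl, rfl⟩
      · exact Or.inr (Or.inr (Or.inr (Or.inr (Or.inr (Or.inr (Or.inr (Or.inr (Or.inr (Or.inl
          ⟨ho, e', P, g₁, g₂, hg1, hg2, hT', hle'⟩)))))))))
      · by_cases h5 : 5 ≤ Fintype.card F
        · exact Or.inr (Or.inr (Or.inr (Or.inr (Or.inr (Or.inr (Or.inr (Or.inr (Or.inr (Or.inr (Or.inl
            ⟨ho, h5, e', P, g₁, g₂, hg1, hg2, hT', hle'⟩))))))))))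
        · have hq3 : Fintype.card F = 3 := by
            obtain ⟨c, hc⟩ := ho
            omega
          obtain ⟨D, hD, hDle⟩ := hp.tensorN3 hq3 f hf 4 e' P g₁ g₂ hg1 hg2 hT'
          exact Or.inr (Or.inr (Or.inr (Or.inl ⟨D, hD, hDle H hfix hle'⟩)))
      · rcases hp.tensorO2 ho f hf 6 e' P g₁ g₂ hg1 hg2 hT' H hfix hle' with ⟨D, hD, hts, hDle⟩ |
          ⟨K, hK, hadj, hnsa, hKle⟩
        · exact Or.inr (Or.inr (Or.inr (Or.inr (Or.inr (Or.inl ⟨ho, D, hD, hts, hDle⟩)))))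
        · exact Or.inr (Or.inr (Or.inr (Or.inr (Or.inr (Or.inr (Or.inr (Or.inr (Or.inl
            ⟨ho, K, hK, hadj, hnsa, hKle⟩))))))))
    rcases hforms with ⟨hf1, hf2⟩ | ⟨hf1, hf2⟩
    · exact key n₁ n₂ e f₁ f₂ h1 h2 hf1 hf2 hT hle
    · obtain ⟨hT', heq⟩ := hp.tensorSwap f _ _ e P f₁ f₂ hT
      rw [heq] at hle
      exact key n₂ n₁ _ f₂ f₁ h2 h1 hf2 hf1 hT' hle
  -- Step 2: Clifford
  by_cases hexit : Sp12Concl f H
  · exact hexit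
  have hall : ∀ M : Subgroup (GL (Fin 12) F), M ≤ H → Nzes H M →
      M ≤ scalars (Fin 12) F ∨ ActsAbsolutelyIrreducibly (matrixSet M) := by
    intro M hMH hMnz
    rcases hp.cliffordG f hf hfix hirr hMH hMnz with ⟨t, k, D, hD, htk, hle⟩ | ⟨k, D, hD, h2k, hts, hle⟩ |
      ⟨r, K, hr, hrn, hK, hadj, hle⟩ | ⟨ho, n₁, n₂, e, P, f₁, f₂, h1, h2, hforms, hT, hle⟩ | ⟨ho, hQ⟩ | h | h
    · exact absurd (exitD t k D hD htk hle) hexit
    · exact absurd (exitP k D hD h2k hts hle) hexit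
    · exact absurd (exitK r K hr hrn hK hadj hle) hexit
    · exact absurd (exitT ho n₁ n₂ e P f₁ f₂ h1 h2 hforms hT hle) hexit
    · exact absurd (exitQ ho hQ) hexit
    · exact Or.inl h
    · exact Or.inr h
  have hn2 : 2 ≤ 12 := by norm_num
  have hHns : ¬ H ≤ scalars (Fin 12) F := not_le_scalars_of_irred hn2 hirr
  obtain ⟨N, hNH, hNnz, hNns, hmin⟩ := exists_minimal hHns
  have hNabs : ActsAbsolutelyIrreducibly (matrixSet N) := (hall N hNH hNnz).resolve_left hNns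
  have hNfix : FixesForm (matrixSet N) f := fun s hs => hfix s (matrixSet_mono hNH hs)
  by_cases hperf : ⁅N, N⁆ = N
  · -- the perfect case
    obtain ⟨hsimp, hnab, hcent⟩ :=
      Cfsg.Agent.Helper4.AschP.perfect_case_pp hn2 not_perfect_pow_twelve hNH hNnz hNns hall hmin hperf
    by_cases hsub : ∃ F₀ : Subfield F, F₀ ≠ ⊤ ∧ RealisableOver F₀ (matrixSet N)
    · obtain ⟨F₀, h0, hr⟩ := hsub
      exact Or.inr (Or.inr (Or.inr (Or.inr (Or.inr (Or.inr (Or.inr (Or.inr (Or.inr (Or.inr (Or.inr (Or.inl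
        (hp.subfield f hf hNfix hNnz hNabs F₀ h0 hr))))))))))))
    by_cases hQ : ∃ Q : (Fin 12 → F) → F, IsNondegenerateQuadraticForm Q ∧ FixesQuadForm (matrixSet N) Q
    · obtain ⟨Q, hQ, hQfix⟩ := hQ
      by_cases ho : Odd (Fintype.card F)
      · exact absurd hQfix (hp.quadOdd ho f hf N hNfix hNabs Q hQ)
      · exact exitQ ho (hp.quadEven ho f hf hNfix hNnz hNabs Q hQ hQfix)
    by_cases hU : ∃ (σ : F ≃+* F) (g : (Fin 12 → F) → (Fin 12 → F) → F), IsUnitaryForm σ g ∧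
        FixesForm (matrixSet N) g
    · obtain ⟨σ, g, hg, hgfix⟩ := hU
      exact absurd (hp.unitary f hf N hNfix hNabs σ g hg hgfix) hsub
    · refine Or.inr (Or.inr (Or.inr (Or.inr (Or.inr (Or.inr (Or.inr (Or.inr (Or.inr (Or.inr (Or.inr (Or.inr
        (Or.inr ⟨N, ?_, hQ, hU⟩))))))))))))
      exact
        { le := hNH
          normal := hNnz
          perfect := hperf
          simple := hsimp
          nonabelian := hnab
          centralizer_scalar := hcent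
          absIrred := hNabs
          no_subfield := fun F₀ h0 hr => hsub ⟨F₀, h0, hr⟩ }
  · -- the symplectic-type case: impossible
    exfalso
    have hcomm : ⁅N, N⁆ ≤ scalars (Fin 12) F := by
      by_contra hc
      exact hperf (hmin _ (Subgroup.commutator_le_self N) (nzes_commutator hNnz) hc)
    obtain ⟨r, k, hr, hnrk⟩ :=
      Cfsg.Agent.Helper6.AschComp.symplectic_type_prime_pow hn2 hNH hNnz hNns hNabs hmin hcomm
    exact not_prime_pow_twelve ⟨r, k, hr, hnrk⟩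

/-- S5868 (`Sp_12`) from the pieces -/
theorem final12 {F : Type*} [Field F] [Fintype F] (hp : Sp12Pieces 12 F) (htr : SpTransport 6 12 F) (htc : Sp12TransportConcl F) (hnot : NotSp 6 F) (H : Subgroup (Matrix.GeneralLinearGroup (Fin 6 ⊕ Fin 6) F)) (hH : Cfsg.Geo.IsMaximalIn (Cfsg.spGL 6 F) H) :
    (∃ W : Submodule F (Fin 6 ⊕ Fin 6 → F), W ≠ ⊥ ∧ Cfsg.Geo.IsTotallySingularFor (Cfsg.sympForm 6 F) W ∧ H = Cfsg.Geo.subspaceStabilizer W ⊓ Cfsg.spGL 6 F) ∨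
    (∃ W : Submodule F (Fin 6 ⊕ Fin 6 → F), W ≠ ⊥ ∧ Cfsg.Geo.IsNondegenerateOn (Cfsg.sympForm 6 F) W ∧ Module.finrank F W < 6 ∧ H = Cfsg.Geo.subspaceStabilizer W ⊓ Cfsg.spGL 6 F) ∨
    (3 ≤ Fintype.card F ∧ ∃ D : Fin 6 → Submodule F (Fin 6 ⊕ Fin 6 → F), Cfsg.Geo.IsNondegenerateMDecomposition (Cfsg.sympForm 6 F) 2 D ∧ H = Cfsg.Geo.decompositionStabilizer D ⊓ Cfsg.spGL 6 F) ∨
    (∃ D : Fin 3 → Submodule F (Fin 6 ⊕ Fin 6 → F), Cfsg.Geo.IsNondegenerateMDecomposition (Cfsg.sympForm 6 F) 4 D ∧ H = Cfsg.Geo.decompositionStabilizer D ⊓ Cfsg.spGL 6 F) ∨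
    (∃ D : Fin 2 → Submodule F (Fin 6 ⊕ Fin 6 → F), Cfsg.Geo.IsNondegenerateMDecomposition (Cfsg.sympForm 6 F) 6 D ∧ H = Cfsg.Geo.decompositionStabilizer D ⊓ Cfsg.spGL 6 F) ∨
    (Odd (Fintype.card F) ∧ ∃ D : Fin 2 → Submodule F (Fin 6 ⊕ Fin 6 → F), Cfsg.Geo.IsMDecomposition 6 D ∧ (∀ i, Cfsg.Geo.IsTotallySingularFor (Cfsg.sympForm 6 F) (D i)) ∧ H = Cfsg.Geo.decompositionStabilizer D ⊓ Cfsg.spGL 6 F) ∨
    (∃ K : Subalgebra F (Matrix (Fin 6 ⊕ Fin 6) (Fin 6 ⊕ Fin 6) F), Cfsg.Geo.IsFieldSubalgebra 2 K ∧ Cfsg.Geo.IsSelfAdjointFor (Cfsg.sympForm 6 F) K ∧ (∀ k ∈ K, ∀ v : (Fin 6 ⊕ Fin 6 → F), (Cfsg.sympForm 6 F) (Matrix.mulVec k v) v = 0) ∧ H = Cfsg.Geo.subalgebraNormalizer K ⊓ Cfsg.spGL 6 F) ∨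
    (∃ K : Subalgebra F (Matrix (Fin 6 ⊕ Fin 6) (Fin 6 ⊕ Fin 6) F), Cfsg.Geo.IsFieldSubalgebra 3 K ∧ Cfsg.Geo.IsSelfAdjointFor (Cfsg.sympForm 6 F) K ∧ (∀ k ∈ K, ∀ v : (Fin 6 ⊕ Fin 6 → F), (Cfsg.sympForm 6 F) (Matrix.mulVec k v) v = 0) ∧ H = Cfsg.Geo.subalgebraNormalizer K ⊓ Cfsg.spGL 6 F) ∨
    (Odd (Fintype.card F) ∧ ∃ K : Subalgebra F (Matrix (Fin 6 ⊕ Fin 6) (Fin 6 ⊕ Fin 6) F), Cfsg.Geo.IsFieldSubalgebra 2 K ∧ Cfsg.Geo.IsAdjointClosedFor (Cfsg.sympForm 6 F) K ∧ ¬ Cfsg.Geo.IsSelfAdjointFor (Cfsg.sympForm 6 F) K ∧ H = Cfsg.Geo.subalgebraNormalizer K ⊓ Cfsg.spGL 6 F) ∨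
    (Odd (Fintype.card F) ∧ ∃ (e : (Fin 6 ⊕ Fin 6) ≃ Fin 2 × Fin 6) (P : Matrix.GeneralLinearGroup (Fin 6 ⊕ Fin 6) F) (f₁ : (Fin 2 → F) → (Fin 2 → F) → F) (f₂ : (Fin 6 → F) → (Fin 6 → F) → F), Cfsg.Geo.IsSymplecticForm f₁ ∧ Cfsg.Geo.IsSymmetricForm f₂ ∧ Cfsg.Geo.IsTensorFormStructure id (Cfsg.sympForm 6 F) f₁ f₂ e P ∧ H = Cfsg.Geo.tensorProductSubgroup 2 6 e P ⊓ Cfsg.spGL 6 F) ∨
    (Odd (Fintype.card F) ∧ 5 ≤ Fintype.card F ∧ ∃ (e : (Fin 6 ⊕ Fin 6) ≃ Fin 4 × Fin 3) (P : Matrix.GeneralLinearGroup (Fin 6 ⊕ Fin 6) F) (f₁ : (Fin 4 → F) → (Fin 4 → F) → F) (f₂ : (Fin 3 → F) → (Fin 3 → F) → F), Cfsg.Geo.IsSymplecticForm f₁ ∧ Cfsg.Geo.IsSymmetricForm f₂ ∧ Cfsg.Geo.IsTensorFormStructure id (Cfsg.sympForm 6 F) f₁ f₂ e P ∧ H = Cfsg.Geo.tensorProductSubgroup 4 3 e P ⊓ Cfsg.spGL 6 F) ∨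
    (∃ (F₀ : Subfield F) (r : ℕ) (P : Matrix.GeneralLinearGroup (Fin 6 ⊕ Fin 6) F) (ζ : F), r.Prime ∧ Fintype.card F = Nat.card F₀ ^ r ∧ ζ ≠ 0 ∧ Cfsg.Geo.IsFormRationalStructure (Cfsg.sympForm 6 F) F₀ ζ P ∧ H = Cfsg.Geo.subfieldSubgroup F₀ P ⊓ Cfsg.spGL 6 F) ∨
    (¬ Odd (Fintype.card F) ∧ ∃ Q : (Fin 6 ⊕ Fin 6 → F) → F, Cfsg.Geo.IsNondegenerateQuadraticForm Q ∧ (∀ u v : (Fin 6 ⊕ Fin 6 → F), QuadraticMap.polar Q u v = (Cfsg.sympForm 6 F) u v) ∧ H = Cfsg.Geo.quadSimilarityGroup Q ⊓ Cfsg.spGL 6 F) ∨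
    Cfsg.Geo.InSymplecticResidualClass H := by
  classical
  have hcard : Fintype.card (Fin 6 ⊕ Fin 6) = 12 := by
    simp only [Fintype.card_sum, Fintype.card_fin]
  let e : (Fin 6 ⊕ Fin 6) ≃ Fin 12 := Fintype.equivFinOfCardEq hcard
  have hcon : Sp12Concl (sympForm 6 F) H :=
    htc e H (asch_sp12 hp (reF e (sympForm 6 F)) (htr.symplectic e) _ (htr.fixes e H hH.1.le))
  have hfin : Module.finrank F (Fin 6 ⊕ Fin 6 → F) = 12 := by
    rw [Module.finrank_fintype_fun_eq_card, hcard]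
  have hne : ∃ u v : Fin 6 ⊕ Fin 6 → F, sympForm 6 F u v ≠ 0 := by
    have hS := htr.symplectic e
    have hv : (Pi.single (⟨0, by omega⟩ : Fin 12) (1 : F) : Fin 12 → F) ≠ 0 := by
      intro h
      have := congrFun h ⟨0, by omega⟩
      simp at this
    obtain ⟨⟨x, hx⟩, -⟩ := hS.nondegenerate _ hv
    exact ⟨_, _, hx⟩
  rcases hcon with ⟨W, h0, hts, hle⟩ | ⟨W, h0, hnd, hdim, hle⟩ | ⟨hq, D, hD, hle⟩ | ⟨D, hD, hle⟩ | ⟨D, hD, hle⟩ |
    ⟨ho, D, hD, hts, hle⟩ | ⟨K, hK, hsa, halt, hle⟩ | ⟨K, hK, hsa, halt, hle⟩ | ⟨ho, K, hK, hadj, hnsa, hle⟩ |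
    ⟨ho, e', P, f₁, f₂, hf₁, hf₂, hT, hle⟩ | ⟨ho, h5, e', P, f₁, f₂, hf₁, hf₂, hT, hle⟩ |
    ⟨F₀, r, P, ζ, hr, hc, hζ, hrat, hle⟩ | ⟨ho, Q, hQ, hpol, hle⟩ | hres
  · refine Or.inl ⟨W, h0, hts, Cfsg.Agent.Lead.AschO.eq_inf_of_le' hH hle (hnot.subspace W h0 ?_)⟩
    rintro rfl
    obtain ⟨u, v, huv⟩ := hne
    exact huv (hts u Submodule.mem_top v Submodule.mem_top)
  · refine Or.inr (Or.inl ⟨W, h0, hnd, hdim,
      Cfsg.Agent.Lead.AschO.eq_inf_of_le' hH hle (hnot.subspace W h0 ?_)⟩)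
    rintro rfl
    rw [finrank_top, hfin] at hdim
    omega
  · exact Or.inr (Or.inr (Or.inl ⟨hq, D, hD,
      Cfsg.Agent.Lead.AschO.eq_inf_of_le' hH hle (hnot.decomp 2 D hD.decomp)⟩))
  · exact Or.inr (Or.inr (Or.inr (Or.inl ⟨D, hD,
      Cfsg.Agent.Lead.AschO.eq_inf_of_le' hH hle (hnot.decomp 4 D hD.decomp)⟩)))
  · exact Or.inr (Or.inr (Or.inr (Or.inr (Or.inl ⟨D, hD,
      Cfsg.Agent.Lead.AschO.eq_inf_of_le' hH hle (hnot.decomp 6 D hD.decomp)⟩))))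
  · exact Or.inr (Or.inr (Or.inr (Or.inr (Or.inr (Or.inl ⟨ho, D, hD, hts,
      Cfsg.Agent.Lead.AschO.eq_inf_of_le' hH hle (hnot.decomp 6 D hD)⟩)))))
  · exact Or.inr (Or.inr (Or.inr (Or.inr (Or.inr (Or.inr (Or.inl ⟨K, hK, hsa, halt,
      Cfsg.Agent.Lead.AschO.eq_inf_of_le' hH hle (hnot.field 2 K (le_refl 2) hK)⟩))))))
  · exact Or.inr (Or.inr (Or.inr (Or.inr (Or.inr (Or.inr (Or.inr (Or.inl ⟨K, hK, hsa, halt,
      Cfsg.Agent.Lead.AschO.eq_inf_of_le' hH hle (hnot.field 3 K (by norm_num) hK)⟩)))))))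
  · exact Or.inr (Or.inr (Or.inr (Or.inr (Or.inr (Or.inr (Or.inr (Or.inr (Or.inl ⟨ho, K, hK, hadj, hnsa,
      Cfsg.Agent.Lead.AschO.eq_inf_of_le' hH hle (hnot.field 2 K (le_refl 2) hK)⟩))))))))
  · exact Or.inr (Or.inr (Or.inr (Or.inr (Or.inr (Or.inr (Or.inr (Or.inr (Or.inr (Or.inl
      ⟨ho, e', P, f₁, f₂, hf₁, hf₂, hT,
      Cfsg.Agent.Lead.AschO.eq_inf_of_le' hH hle (hnot.tensor 2 6 (le_refl 2) (by norm_num) e' P)⟩)))))))))
  · exact Or.inr (Or.inr (Or.inr (Or.inr (Or.inr (Or.inr (Or.inr (Or.inr (Or.inr (Or.inr (Or.inl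
      ⟨ho, h5, e', P, f₁, f₂, hf₁, hf₂, hT,
      Cfsg.Agent.Lead.AschO.eq_inf_of_le' hH hle (hnot.tensor 4 3 (by norm_num) (by norm_num) e' P)⟩))))))))))
  · exact Or.inr (Or.inr (Or.inr (Or.inr (Or.inr (Or.inr (Or.inr (Or.inr (Or.inr (Or.inr (Or.inr (Or.inl
      ⟨F₀, r, P, ζ, hr, hc, hζ, hrat,
      Cfsg.Agent.Lead.AschO.eq_inf_of_le' hH hle
        (hnot.subfield F₀ (subfield_ne_top_of_card F₀ r hr hc) P)⟩)))))))))))
  · exact Or.inr (Or.inr (Or.inr (Or.inr (Or.inr (Or.inr (Or.inr (Or.inr (Or.inr (Or.inr (Or.inr (Or.inr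
      (Or.inl ⟨ho, Q, hQ, hpol,
      Cfsg.Agent.Lead.AschO.eq_inf_of_le' hH hle (hnot.quad Q hQ hpol)⟩))))))))))))
  · exact Or.inr (Or.inr (Or.inr (Or.inr (Or.inr (Or.inr (Or.inr (Or.inr (Or.inr (Or.inr (Or.inr (Or.inr
      (Or.inr hres))))))))))))

end Cfsg.Agent.Helper1.AschSp
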