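import Mathlib
import Cfsg.Prelude.Def_GeometricClasses
import Cfsg.Agent.Helper1.AschSpBase
import Cfsg.Agent.Helper1.AschSp12Base
import Cfsg.Agent.Helper2.AschTrE

/-!
# ASCH-COMP-Sp, second round: transport of `Sp12Concl` along a bijection of index types
(helper1, from helper2's per-alternative pull-backs `Cfsg.Agent.Helper2.AschTr.pull_*`)
-/

set_option autoImplicit false

namespace Cfsg.Agent.Helper1.AschSp

open Cfsg Cfsg.Geo Cfsg.Agent.Helper2.AschTr
open scoped MatrixGroups Matrix Kronecker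

variable {F : Type*} [Field F] [Fintype F]

theorem sp12Concl_of_map {ι κ : Type} [Fintype ι] [DecidableEq ι] [Fintype κ] [DecidableEq κ] (e : ι ≃ κ)
    (f : (ι → F) → (ι → F) → F) (H : Subgroup (GL ι F))
    (h : Sp12Concl (pf e f) (H.map (glReindex e : GL ι F ≃* GL κ F).toMonoidHom)) : Sp12Concl f H := by
  rcases h with h | h | ⟨hq, h⟩ | h | h | ⟨ho, h⟩ | h | h | ⟨ho, h⟩ | ⟨ho, h⟩ | ⟨ho, h5, h⟩ | h | ⟨ho, h⟩ | h
  · exact Or.inl (pull_ts e h)
  · exact Or.inr (Or.inl (pull_nondegSub e (· < 6) h))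
  · exact Or.inr (Or.inr (Or.inl ⟨hq, pull_nondegDecomp e h⟩))
  · exact Or.inr (Or.inr (Or.inr (Or.inl (pull_nondegDecomp e h))))
  · exact Or.inr (Or.inr (Or.inr (Or.inr (Or.inl (pull_nondegDecomp e h)))))
  · exact Or.inr (Or.inr (Or.inr (Or.inr (Or.inr (Or.inl ⟨ho, pull_tsPair e h⟩)))))
  · exact Or.inr (Or.inr (Or.inr (Or.inr (Or.inr (Or.inr (Or.inl (pull_fieldSelfAdj e h)))))))
  · exact Or.inr (Or.inr (Or.inr (Or.inr (Or.inr (Or.inr (Or.inr (Or.inl (pull_fieldSelfAdj e h))))))))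
  · exact Or.inr (Or.inr (Or.inr (Or.inr (Or.inr (Or.inr (Or.inr (Or.inr (Or.inl
      ⟨ho, pull_fieldAdjClosed e h⟩))))))))
  · exact Or.inr (Or.inr (Or.inr (Or.inr (Or.inr (Or.inr (Or.inr (Or.inr (Or.inr (Or.inl
      ⟨ho, pull_tensor e id IsSymplecticForm IsSymmetricForm h⟩)))))))))
  · exact Or.inr (Or.inr (Or.inr (Or.inr (Or.inr (Or.inr (Or.inr (Or.inr (Or.inr (Or.inr (Or.inl
      ⟨ho, h5, pull_tensor e id IsSymplecticForm IsSymmetricForm h⟩))))))))))
  · exact Or.inr (Or.inr (Or.inr (Or.inr (Or.inr (Or.inr (Or.inr (Or.inr (Or.inr (Or.inr (Or.inr (Or.inl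
      (pull_subfield e h))))))))))))
  · exact Or.inr (Or.inr (Or.inr (Or.inr (Or.inr (Or.inr (Or.inr (Or.inr (Or.inr (Or.inr (Or.inr (Or.inr (Or.inl
      ⟨ho, pull_quad e h⟩))))))))))))
  · exact Or.inr (Or.inr (Or.inr (Or.inr (Or.inr (Or.inr (Or.inr (Or.inr (Or.inr (Or.inr (Or.inr (Or.inr (Or.inr
      (pull_residual e h)))))))))))))

/-- the transport of the conclusion for `Sp_12` -/
theorem sp12TransportConcl : Sp12TransportConcl F :=
  fun e H h => sp12Concl_of_map e (sympForm 6 F) H h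

end Cfsg.Agent.Helper1.AschSp
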