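import Mathlib

/-!
# S5787 piece (D-R), normalisation half (helper1)

`T X Y = X ⊗ Y` as a block matrix on `Fin 2 ⊕ Fin 2` (the block index is the second factor).  A matrix `g` with
`gᵀ Ĵ g = Ĵ` (`Ĵ = T J₂ 1`) commuting or anticommuting with `ρ̂ = T 1 ρ₂` is a pure tensor `T A w` with `w` a
similitude of the dot product, and conjugation by it preserves `{T X Y : X ∈ Q8set, Y ∈ D8set}`.
Valid over any field with `2 ≠ 0`.
-/

set_option autoImplicit false
set_option linter.unusedVariables false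
set_option linter.unusedSectionVars false

namespace Cfsg.Agent.Helper1.AschSp43

open Matrix

variable {F : Type*} [Field F]

/-- `J₂` -/
def J2 (F : Type*) [Field F] : Matrix (Fin 2) (Fin 2) F := !![0, 1; -1, 0]

/-- `ρ₂` -/
def rho2 (F : Type*) [Field F] : Matrix (Fin 2) (Fin 2) F := !![0, -1; 1, 0]

/-- `s = diag(1, -1)` -/
def smat (F : Type*) [Field F] : Matrix (Fin 2) (Fin 2) F := !![1, 0; 0, -1]

/-- the Kronecker product `X ⊗ Y` as a block matrix -/
def T (X Y : Matrix (Fin 2) (Fin 2) F) : Matrix (Fin 2 ⊕ Fin 2) (Fin 2 ⊕ Fin 2) F :=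
  Matrix.fromBlocks (Y 0 0 • X) (Y 0 1 • X) (Y 1 0 • X) (Y 1 1 • X)

theorem T_mul (X Y X' Y' : Matrix (Fin 2) (Fin 2) F) : T X Y * T X' Y' = T (X * X') (Y * Y') := by
  unfold T
  rw [Matrix.fromBlocks_multiply]
  simp only [Matrix.smul_mul, Matrix.mul_smul, smul_smul, ← add_smul, Matrix.mul_apply, Fin.sum_univ_two]
  congr 2 <;> ring

theorem T_one : T (1 : Matrix (Fin 2) (Fin 2) F) 1 = 1 := by
  unfold T
  simp [Matrix.fromBlocks_one]

theorem T_transpose (X Y : Matrix (Fin 2) (Fin 2) F) : (T X Y)ᵀ = T Xᵀ Yᵀ := by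
  unfold T
  rw [Matrix.fromBlocks_transpose]
  simp [Matrix.transpose_smul]

theorem T_smul_left (c : F) (X Y : Matrix (Fin 2) (Fin 2) F) : T (c • X) Y = c • T X Y := by
  unfold T
  rw [Matrix.fromBlocks_smul]
  simp only [smul_smul, mul_comm]

theorem T_smul_right (c : F) (X Y : Matrix (Fin 2) (Fin 2) F) : T X (c • Y) = c • T X Y := by
  unfold T
  rw [Matrix.fromBlocks_smul]
  simp only [smul_smul, Matrix.smul_apply, smul_eq_mul]

theorem Jhat_eq : (Matrix.fromBlocks !![0, 1; -1, 0] 0 0 !![0, 1; -1, 0] :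
    Matrix (Fin 2 ⊕ Fin 2) (Fin 2 ⊕ Fin 2) F) = T (J2 F) 1 := by
  unfold T J2
  simp

theorem rhohat_eq : (Matrix.fromBlocks 0 (-1) 1 0 : Matrix (Fin 2 ⊕ Fin 2) (Fin 2 ⊕ Fin 2) F) =
    T 1 (rho2 F) := by
  unfold T rho2
  simp

theorem J2_transpose : (J2 F)ᵀ = -J2 F := by
  unfold J2
  ext i j
  fin_cases i <;> fin_cases j <;> simp

theorem J2_mul_self : J2 F * J2 F = -1 := by
  unfold J2
  ext i j
  fin_cases i <;> fin_cases j <;> simp

theorem conj_J2 (X : Matrix (Fin 2) (Fin 2) F) : Xᵀ * J2 F * X = X.det • J2 F := by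
  unfold J2
  rw [Matrix.det_fin_two]
  ext i j
  fin_cases i <;> fin_cases j <;> simp [Matrix.mul_apply, Fin.sum_univ_two] <;> ring

theorem adjugate_eq_J2 (X : Matrix (Fin 2) (Fin 2) F) : X.adjugate = -(J2 F * Xᵀ * J2 F) := by
  unfold J2
  rw [Matrix.adjugate_fin_two]
  ext i j
  fin_cases i <;> fin_cases j <;>
    simp [Matrix.mul_apply, Fin.sum_univ_two, Matrix.vecMul, dotProduct]

theorem w_props (α β : F) :
    (!![α, -β; β, α] : Matrix (Fin 2) (Fin 2) F)ᵀ * !![α, -β; β, α] = (α ^ 2 + β ^ 2) • 1 ∧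
    (!![α, -β; β, α] : Matrix (Fin 2) (Fin 2) F) * (!![α, -β; β, α] : Matrix (Fin 2) (Fin 2) F)ᵀ =
      (α ^ 2 + β ^ 2) • 1 := by
  constructor <;> ext i j <;> fin_cases i <;> fin_cases j <;>
    simp [Matrix.mul_apply, Fin.sum_univ_two] <;> ring

theorem T_w (A : Matrix (Fin 2) (Fin 2) F) (α β : F) :
    T A !![α, -β; β, α] = Matrix.fromBlocks (α • A) (-(β • A)) (β • A) (α • A) := by
  unfold T
  simp

/-- a symplectic matrix commuting with `ρ̂` is a pure tensor -/
theorem pure_of_comm (h2 : (2 : F) ≠ 0) (g : Matrix (Fin 2 ⊕ Fin 2) (Fin 2 ⊕ Fin 2) F)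
    (hsp : gᵀ * T (J2 F) 1 * g = T (J2 F) 1) (hc : g * T 1 (rho2 F) = T 1 (rho2 F) * g) :
    ∃ (A w : Matrix (Fin 2) (Fin 2) F) (ν : F), g = T A w ∧ wᵀ * w = ν • 1 ∧ w * wᵀ = ν • 1 ∧
      A.det * ν = 1 := by
  obtain ⟨A, B, C, D, hg⟩ : ∃ A B C D, g = Matrix.fromBlocks A B C D :=
    ⟨_, _, _, _, (Matrix.fromBlocks_toBlocks g).symm⟩
  subst hg
  rw [← rhohat_eq, Matrix.fromBlocks_multiply, Matrix.fromBlocks_multiply, Matrix.fromBlocks_inj] at hc
  simp at hc
  obtain ⟨hB, hAD, -, -⟩ := hc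
  subst hB
  subst hAD
  rw [← Jhat_eq, Matrix.fromBlocks_transpose, Matrix.fromBlocks_multiply, Matrix.fromBlocks_multiply,
    Matrix.fromBlocks_inj] at hsp
  simp only [Matrix.mul_zero, add_zero, zero_add] at hsp
  obtain ⟨h11, h12, -, -⟩ := hsp
  have hJ : (!![0, 1; -1, 0] : Matrix (Fin 2) (Fin 2) F) = J2 F := rfl
  rw [hJ] at h11 h12
  -- the determinants
  have hdet : A.det + C.det = 1 := by
    rw [conj_J2, conj_J2, ← add_smul] at h11
    have := congrFun (congrFun h11 0) 1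
    simpa [J2] using this
  -- `M = Aᵀ J C` is a multiple of `J`
  obtain ⟨M, hM⟩ : ∃ M, M = Aᵀ * J2 F * C := ⟨_, rfl⟩
  have hM' : Cᵀ * J2 F * A = M := by
    rw [Matrix.mul_neg, ← hM] at h12
    exact (neg_add_eq_zero.1 h12).symm
  have hMt : Mᵀ = -M := by
    have : Mᵀ = Cᵀ * (J2 F)ᵀ * A := by
      rw [hM, Matrix.transpose_mul, Matrix.transpose_mul, Matrix.transpose_transpose, Matrix.mul_assoc]
    rw [this, J2_transpose, Matrix.mul_neg, Matrix.neg_mul, hM']
  obtain ⟨m, hm⟩ : ∃ m, m = M 0 1 := ⟨_, rfl⟩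
  have hMJ : M = m • J2 F := by
    have e00 := congrFun (congrFun hMt 0) 0
    have e11 := congrFun (congrFun hMt 1) 1
    have e01 := congrFun (congrFun hMt 0) 1
    simp only [Matrix.transpose_apply, Matrix.neg_apply] at e00 e11 e01
    have z00 : M 0 0 = 0 := by
      have : 2 * M 0 0 = 0 := by linear_combination e00
      rcases mul_eq_zero.1 this with h | h
      · exact absurd h h2
      · exact h
    have z11 : M 1 1 = 0 := by
      have : 2 * M 1 1 = 0 := by linear_combination e11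
      rcases mul_eq_zero.1 this with h | h
      · exact absurd h h2
      · exact h
    unfold J2
    ext i j
    fin_cases i <;> fin_cases j <;> simp [z00, z11, e01, hm]
  have hadjA : A.adjugate * C = m • 1 := by
    rw [adjugate_eq_J2, Matrix.neg_mul, Matrix.mul_assoc, Matrix.mul_assoc, ← Matrix.mul_assoc Aᵀ, ← hM, hMJ,
      Matrix.mul_smul, J2_mul_self]
    simp
  have hadjC : C.adjugate * A = m • 1 := by
    rw [adjugate_eq_J2, Matrix.neg_mul, Matrix.mul_assoc, Matrix.mul_assoc, ← Matrix.mul_assoc Cᵀ, hM', hMJ,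
      Matrix.mul_smul, J2_mul_self]
    simp
  have hAC : A.det • C = m • A := by
    have := congrArg (fun X => A * X) hadjA
    simp only [← Matrix.mul_assoc, Matrix.mul_adjugate, Matrix.smul_mul, Matrix.one_mul, Matrix.mul_smul,
      Matrix.mul_one] at this
    exact this
  have hCA : C.det • A = m • C := by
    have := congrArg (fun X => C * X) hadjC
    simp only [← Matrix.mul_assoc, Matrix.mul_adjugate, Matrix.smul_mul, Matrix.one_mul, Matrix.mul_smul,
      Matrix.mul_one] at this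
    exact this
  by_cases hA0 : A.det = 0
  · -- `A = m • C`
    have hC1 : C.det = 1 := by rw [hA0, zero_add] at hdet; exact hdet
    rw [hC1, one_smul] at hCA
    refine ⟨C, !![m, -1; 1, m], m ^ 2 + 1 ^ 2, ?_, (w_props _ _).1, (w_props _ _).2, ?_⟩
    · rw [T_w, one_smul, ← hCA]
    · have : A.det = m ^ 2 * C.det := by
        rw [hCA, Matrix.det_smul, Fintype.card_fin]
      rw [hC1, hA0] at this
      rw [hC1]
      linear_combination -this
  · -- `C = l • A`
    have hCl : C = (m / A.det) • A := by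
      rw [div_eq_inv_mul, ← smul_smul, ← hAC, smul_smul, inv_mul_cancel₀ hA0, one_smul]
    refine ⟨A, !![1, -(m / A.det); m / A.det, 1], 1 ^ 2 + (m / A.det) ^ 2, ?_, (w_props _ _).1,
      (w_props _ _).2, ?_⟩
    · rw [T_w, one_smul, ← hCl]
    · have : C.det = (m / A.det) ^ 2 * A.det := by
        conv_lhs => rw [hCl]
        rw [Matrix.det_smul, Fintype.card_fin]
      rw [this] at hdet
      linear_combination hdet

theorem smat_mul_self : smat F * smat F = 1 := by
  unfold smat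
  ext i j
  fin_cases i <;> fin_cases j <;> simp

theorem smat_transpose : (smat F)ᵀ = smat F := by
  unfold smat
  ext i j
  fin_cases i <;> fin_cases j <;> simp

theorem smat_rho2 : smat F * rho2 F = -(rho2 F * smat F) := by
  unfold smat rho2
  ext i j
  fin_cases i <;> fin_cases j <;> simp

theorem T_neg_right (X Y : Matrix (Fin 2) (Fin 2) F) : T X (-Y) = -T X Y := by
  have := T_smul_right (-1 : F) X Y
  rwa [neg_one_smul, neg_one_smul] at this

/-- a symplectic matrix commuting or anticommuting with `ρ̂` is a pure tensor -/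
theorem pure_of_comm_or_anti (h2 : (2 : F) ≠ 0) (g : Matrix (Fin 2 ⊕ Fin 2) (Fin 2 ⊕ Fin 2) F)
    (hsp : gᵀ * T (J2 F) 1 * g = T (J2 F) 1)
    (hc : g * T 1 (rho2 F) = T 1 (rho2 F) * g ∨ g * T 1 (rho2 F) = -(T 1 (rho2 F) * g)) :
    ∃ (A w : Matrix (Fin 2) (Fin 2) F) (ν : F), g = T A w ∧ wᵀ * w = ν • 1 ∧ w * wᵀ = ν • 1 ∧
      A.det * ν = 1 := by
  rcases hc with hc | hc
  · exact pure_of_comm h2 g hsp hc
  · have hs2 : T (1 : Matrix (Fin 2) (Fin 2) F) (smat F) * T 1 (smat F) = 1 := by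
      rw [T_mul, smat_mul_self, Matrix.one_mul, T_one]
    have hc' : (g * T 1 (smat F)) * T 1 (rho2 F) = T 1 (rho2 F) * (g * T 1 (smat F)) := by
      rw [Matrix.mul_assoc, T_mul, smat_rho2, T_neg_right, Matrix.mul_neg, Matrix.one_mul,
        ← Matrix.one_mul (1 : Matrix (Fin 2) (Fin 2) F), ← T_mul, ← Matrix.mul_assoc, hc, Matrix.neg_mul,
        neg_neg, Matrix.mul_assoc, Matrix.one_mul]
    have hsp' : (g * T 1 (smat F))ᵀ * T (J2 F) 1 * (g * T 1 (smat F)) = T (J2 F) 1 := by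
      rw [Matrix.transpose_mul, Matrix.mul_assoc, Matrix.mul_assoc, ← Matrix.mul_assoc (T (J2 F) 1),
        ← Matrix.mul_assoc gᵀ, ← Matrix.mul_assoc gᵀ, hsp, T_transpose, T_mul, T_mul, Matrix.transpose_one,
        Matrix.one_mul, Matrix.mul_one, Matrix.one_mul, smat_transpose, smat_mul_self]
    obtain ⟨A, w, ν, hg, hw1, hw2, hd⟩ := pure_of_comm h2 _ hsp' hc'
    refine ⟨A, w * smat F, ν, ?_, ?_, ?_, hd⟩
    · have : g = (g * T 1 (smat F)) * T 1 (smat F) := by rw [Matrix.mul_assoc, hs2, Matrix.mul_one]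
      rw [this, hg, T_mul, Matrix.mul_one]
    · rw [Matrix.transpose_mul, Matrix.mul_assoc, ← Matrix.mul_assoc wᵀ, hw1, Matrix.smul_mul, Matrix.one_mul,
        Matrix.mul_smul, smat_transpose, smat_mul_self]
    · rw [Matrix.transpose_mul, Matrix.mul_assoc, ← Matrix.mul_assoc (smat F), smat_transpose, smat_mul_self,
        Matrix.one_mul, hw2]

/-- the quaternion group `Q8 ≤ SL_2(3)`, as a set (over any field): determinant one, and `±1` or trace zero -/
def Q8set (F : Type*) [Field F] : Set (Matrix (Fin 2) (Fin 2) F) :=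
  {X | X.det = 1 ∧ (X = 1 ∨ X = -1 ∨ X.trace = 0)}

/-- the orthogonal group of the dot product on `F²` -/
def D8set (F : Type*) [Field F] : Set (Matrix (Fin 2) (Fin 2) F) := {Y | Yᵀ * Y = 1}

/-- conjugation by a pure tensor `T A w` (with `w` a similitude of the dot product, `det A · ν = 1`) preserves
`{T X Y : X ∈ Q8set, Y ∈ D8set}` -/
theorem conj_T (A w : Matrix (Fin 2) (Fin 2) F) (ν : F) (hw1 : wᵀ * w = ν • 1) (hw2 : w * wᵀ = ν • 1)
    (hd : A.det * ν = 1) (X : Matrix (Fin 2) (Fin 2) F) (hX : X ∈ Q8set F) (Y : Matrix (Fin 2) (Fin 2) F)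
    (hY : Y ∈ D8set F) :
    ∃ X' ∈ Q8set F, ∃ Y' ∈ D8set F, T A w * T X Y = T X' Y' * T A w := by
  refine ⟨ν • (A * X * A.adjugate), ?_, A.det • (w * Y * wᵀ), ?_, ?_⟩
  · obtain ⟨hdX, hX'⟩ := hX
    refine ⟨?_, ?_⟩
    · rw [Matrix.det_smul, Matrix.det_mul, Matrix.det_mul, Matrix.det_adjugate, hdX, Fintype.card_fin]
      simp only [Nat.add_one_sub_one, pow_one, mul_one]
      linear_combination (A.det * ν + 1) * hd
    · rcases hX' with h | h | h
      · left
        rw [h, Matrix.mul_one, Matrix.mul_adjugate, smul_smul, mul_comm, hd, one_smul]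
      · right; left
        rw [h, Matrix.mul_neg, Matrix.mul_one, Matrix.neg_mul, Matrix.mul_adjugate, smul_neg, smul_smul,
          mul_comm, hd, one_smul]
      · right; right
        rw [Matrix.trace_smul, Matrix.trace_mul_comm, ← Matrix.mul_assoc, Matrix.adjugate_mul,
          Matrix.smul_mul, Matrix.one_mul, Matrix.trace_smul, h, smul_zero, smul_zero]
  · show (A.det • (w * Y * wᵀ))ᵀ * (A.det • (w * Y * wᵀ)) = 1
    have hY' : Yᵀ * Y = 1 := hY
    rw [Matrix.transpose_smul, Matrix.transpose_mul, Matrix.transpose_mul, Matrix.transpose_transpose,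
      Matrix.smul_mul, Matrix.mul_smul, smul_smul]
    have : w * (Yᵀ * wᵀ) * (w * Y * wᵀ) = (ν * ν) • 1 := by
      calc w * (Yᵀ * wᵀ) * (w * Y * wᵀ) = w * Yᵀ * (wᵀ * w) * Y * wᵀ := by simp only [Matrix.mul_assoc]
        _ = ν • (w * (Yᵀ * Y) * wᵀ) := by
            rw [hw1]; simp only [Matrix.mul_smul, Matrix.smul_mul, Matrix.mul_one, Matrix.mul_assoc]
        _ = (ν * ν) • 1 := by rw [hY', Matrix.mul_one, hw2, smul_smul]
    rw [this, smul_smul]
    have : A.det * A.det * (ν * ν) = 1 := by linear_combination (A.det * ν + 1) * hd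
    rw [this, one_smul]
  · rw [T_mul, T_mul]
    congr 1
    · rw [Matrix.smul_mul, Matrix.mul_assoc, Matrix.adjugate_mul, Matrix.mul_smul, Matrix.mul_one, smul_smul,
        mul_comm, hd, one_smul]
    · rw [Matrix.smul_mul, Matrix.mul_assoc, hw1, Matrix.mul_smul, Matrix.mul_one, smul_smul, hd, one_smul]

/-- **normalisation**: a matrix preserving `Ĵ` and commuting or anticommuting with `ρ̂` conjugates
`{T X Y : X ∈ Q8set, Y ∈ D8set}` into itself -/
theorem normalises_std (h2 : (2 : F) ≠ 0) (g : Matrix (Fin 2 ⊕ Fin 2) (Fin 2 ⊕ Fin 2) F)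
    (hsp : gᵀ * Matrix.fromBlocks !![0, 1; -1, 0] 0 0 !![0, 1; -1, 0] * g =
      Matrix.fromBlocks !![0, 1; -1, 0] 0 0 !![0, 1; -1, 0])
    (hc : g * Matrix.fromBlocks 0 (-1) 1 0 = Matrix.fromBlocks 0 (-1) 1 0 * g ∨
      g * Matrix.fromBlocks 0 (-1) 1 0 = -(Matrix.fromBlocks 0 (-1) 1 0 * g))
    (X : Matrix (Fin 2) (Fin 2) F) (hX : X ∈ Q8set F) (Y : Matrix (Fin 2) (Fin 2) F) (hY : Y ∈ D8set F) :
    ∃ X' ∈ Q8set F, ∃ Y' ∈ D8set F, g * T X Y = T X' Y' * g := by
  rw [Jhat_eq] at hsp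
  rw [rhohat_eq] at hc
  obtain ⟨A, w, ν, hg, hw1, hw2, hd⟩ := pure_of_comm_or_anti h2 g hsp hc
  subst hg
  exact conj_T A w ν hw1 hw2 hd X hX Y hY

end Cfsg.Agent.Helper1.AschSp43
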