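import Mathlib
import Cfsg.Agent.Helper1.AschSp43N

/-!
# S5787 piece (D-R), enumerations over the field with three elements (helper1)

`Q8set F` and `D8set F` (see `AschSp43N`) are explicit lists of eight matrices each when `|F| = 3`.
-/

set_option autoImplicit false
set_option linter.unusedVariables false
set_option linter.unusedSectionVars false

namespace Cfsg.Agent.Helper1.AschSp43

open Matrix

set_option synthInstance.maxSize 2048 in
set_option synthInstance.maxHeartbeats 200000 in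
theorem q8_zmod : ∀ a b c d : ZMod 3, a * d - b * c = 1 →
    ((a = 1 ∧ b = 0 ∧ c = 0 ∧ d = 1) ∨ (a = -1 ∧ b = 0 ∧ c = 0 ∧ d = -1) ∨ a + d = 0) →
    (a = 1 ∧ b = 0 ∧ c = 0 ∧ d = 1) ∨ (a = -1 ∧ b = 0 ∧ c = 0 ∧ d = -1) ∨
    (a = 0 ∧ b = -1 ∧ c = 1 ∧ d = 0) ∨ (a = 0 ∧ b = 1 ∧ c = -1 ∧ d = 0) ∨
    (a = 1 ∧ b = 1 ∧ c = 1 ∧ d = -1) ∨ (a = -1 ∧ b = -1 ∧ c = -1 ∧ d = 1) ∨
    (a = -1 ∧ b = 1 ∧ c = 1 ∧ d = 1) ∨ (a = 1 ∧ b = -1 ∧ c = -1 ∧ d = -1) := by
  decide

set_option synthInstance.maxSize 2048 in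
set_option synthInstance.maxHeartbeats 200000 in
theorem d8_zmod : ∀ a b c d : ZMod 3, a * a + c * c = 1 → a * b + c * d = 0 → b * b + d * d = 1 →
    (a = 1 ∧ b = 0 ∧ c = 0 ∧ d = 1) ∨ (a = -1 ∧ b = 0 ∧ c = 0 ∧ d = -1) ∨
    (a = 1 ∧ b = 0 ∧ c = 0 ∧ d = -1) ∨ (a = -1 ∧ b = 0 ∧ c = 0 ∧ d = 1) ∨
    (a = 0 ∧ b = 1 ∧ c = 1 ∧ d = 0) ∨ (a = 0 ∧ b = -1 ∧ c = -1 ∧ d = 0) ∨
    (a = 0 ∧ b = 1 ∧ c = -1 ∧ d = 0) ∨ (a = 0 ∧ b = -1 ∧ c = 1 ∧ d = 0) := by
  decide

variable {F : Type*} [Field F] [Fintype F]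

theorem eq_of_entries (X : Matrix (Fin 2) (Fin 2) F) {a b c d : F} (h : X 0 0 = a ∧ X 0 1 = b ∧ X 1 0 = c ∧ X 1 1 = d) :
    X = !![a, b; c, d] := by
  obtain ⟨h1, h2, h3, h4⟩ := h
  rw [Matrix.eta_fin_two X, h1, h2, h3, h4]

theorem back_entries (e : ZMod 3 ≃+* F) {x y z w : F} {a b c d : ZMod 3}
    (h : e.symm x = a ∧ e.symm y = b ∧ e.symm z = c ∧ e.symm w = d) :
    x = e a ∧ y = e b ∧ z = e c ∧ w = e d := by
  obtain ⟨h1, h2, h3, h4⟩ := h
  exact ⟨(RingEquiv.symm_apply_eq e).1 h1, (RingEquiv.symm_apply_eq e).1 h2, (RingEquiv.symm_apply_eq e).1 h3,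
    (RingEquiv.symm_apply_eq e).1 h4⟩

/-- `Q8set` over the field with three elements: the eight elements -/
theorem q8_list (hq : Fintype.card F = 3) (X : Matrix (Fin 2) (Fin 2) F) (hX : X ∈ Q8set F) :
    X = !![1, 0; 0, 1] ∨ X = !![-1, 0; 0, -1] ∨ X = !![0, -1; 1, 0] ∨ X = !![0, 1; -1, 0] ∨
    X = !![1, 1; 1, -1] ∨ X = !![-1, -1; -1, 1] ∨ X = !![-1, 1; 1, 1] ∨ X = !![1, -1; -1, -1] := by
  obtain ⟨e⟩ : Nonempty (ZMod 3 ≃+* F) := ⟨ZMod.ringEquivOfPrime F Nat.prime_three hq⟩
  obtain ⟨hd, hc⟩ := hX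
  rw [Matrix.det_fin_two] at hd
  have h1 : e.symm (X 0 0) * e.symm (X 1 1) - e.symm (X 0 1) * e.symm (X 1 0) = 1 := by
    have := congrArg e.symm hd
    simpa using this
  have h2 : (e.symm (X 0 0) = 1 ∧ e.symm (X 0 1) = 0 ∧ e.symm (X 1 0) = 0 ∧ e.symm (X 1 1) = 1) ∨
      (e.symm (X 0 0) = -1 ∧ e.symm (X 0 1) = 0 ∧ e.symm (X 1 0) = 0 ∧ e.symm (X 1 1) = -1) ∨
      e.symm (X 0 0) + e.symm (X 1 1) = 0 := by
    rcases hc with h | h | h
    · left; rw [h]; simp
    · right; left; rw [h]; simp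
    · right; right
      rw [Matrix.trace_fin_two] at h
      have := congrArg e.symm h
      simpa using this
  have key := q8_zmod _ _ _ _ h1 h2
  rcases key with h | h | h | h | h | h | h | h
  · left; exact eq_of_entries X (by simpa using back_entries e h)
  · right; left; exact eq_of_entries X (by simpa using back_entries e h)
  · right; right; left; exact eq_of_entries X (by simpa using back_entries e h)
  · right; right; right; left; exact eq_of_entries X (by simpa using back_entries e h)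
  · right; right; right; right; left; exact eq_of_entries X (by simpa using back_entries e h)
  · right; right; right; right; right; left; exact eq_of_entries X (by simpa using back_entries e h)
  · right; right; right; right; right; right; left; exact eq_of_entries X (by simpa using back_entries e h)
  · right; right; right; right; right; right; right; exact eq_of_entries X (by simpa using back_entries e h)

/-- `D8set` over the field with three elements: the eight signed permutation matrices -/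
theorem d8_list (hq : Fintype.card F = 3) (Y : Matrix (Fin 2) (Fin 2) F) (hY : Y ∈ D8set F) :
    Y = !![1, 0; 0, 1] ∨ Y = !![-1, 0; 0, -1] ∨ Y = !![1, 0; 0, -1] ∨ Y = !![-1, 0; 0, 1] ∨
    Y = !![0, 1; 1, 0] ∨ Y = !![0, -1; -1, 0] ∨ Y = !![0, 1; -1, 0] ∨ Y = !![0, -1; 1, 0] := by
  obtain ⟨e⟩ : Nonempty (ZMod 3 ≃+* F) := ⟨ZMod.ringEquivOfPrime F Nat.prime_three hq⟩
  have hY' : Yᵀ * Y = 1 := hY
  have e00 := congrFun (congrFun hY' 0) 0
  have e01 := congrFun (congrFun hY' 0) 1
  have e11 := congrFun (congrFun hY' 1) 1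
  simp only [Matrix.mul_apply, Fin.sum_univ_two, Matrix.transpose_apply, Matrix.one_apply_eq] at e00 e01 e11
  rw [Matrix.one_apply_ne (by decide)] at e01
  have h1 : e.symm (Y 0 0) * e.symm (Y 0 0) + e.symm (Y 1 0) * e.symm (Y 1 0) = 1 := by
    have := congrArg e.symm e00
    simpa using this
  have h2 : e.symm (Y 0 0) * e.symm (Y 0 1) + e.symm (Y 1 0) * e.symm (Y 1 1) = 0 := by
    have := congrArg e.symm e01
    simpa using this
  have h3 : e.symm (Y 0 1) * e.symm (Y 0 1) + e.symm (Y 1 1) * e.symm (Y 1 1) = 1 := by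
    have := congrArg e.symm e11
    simpa using this
  have key := d8_zmod _ _ _ _ h1 h2 h3
  rcases key with h | h | h | h | h | h | h | h
  · left; exact eq_of_entries Y (by simpa using back_entries e h)
  · right; left; exact eq_of_entries Y (by simpa using back_entries e h)
  · right; right; left; exact eq_of_entries Y (by simpa using back_entries e h)
  · right; right; right; left; exact eq_of_entries Y (by simpa using back_entries e h)
  · right; right; right; right; left; exact eq_of_entries Y (by simpa using back_entries e h)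
  · right; right; right; right; right; left; exact eq_of_entries Y (by simpa using back_entries e h)
  · right; right; right; right; right; right; left; exact eq_of_entries Y (by simpa using back_entries e h)
  · right; right; right; right; right; right; right; exact eq_of_entries Y (by simpa using back_entries e h)

end Cfsg.Agent.Helper1.AschSp43
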