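import Mathlib

/-!
# S5787 piece (D-R): the abstract group `E32 = 2_-^{1+4} = Q8 ∘ D8` (helper1)

Triples `(a, t, u)`, `a ∈ ℤ/2`, `t, u ∈ (ℤ/2)²`, with
`(a, t, u) (a', t', u') = (a + a' + t₂t₁' + t₁t₁' + t₂t₂' + u₂u₁', t + t', u + u')`:
the `t`-part is the quaternion group (`I^{t₁} J^{t₂}`), the `u`-part the dihedral group (`s^{u₁} σ^{u₂}`).
-/

set_option autoImplicit false
set_option linter.unusedVariables false

namespace Cfsg.Agent.Helper1.AschSp43

/-- the group `2_-^{1+4}` as a set of triples -/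
@[ext] structure E32 where
  a : ZMod 2
  t : ZMod 2 × ZMod 2
  u : ZMod 2 × ZMod 2
deriving DecidableEq

namespace E32

/-- triples as a product -/
def equivProd : E32 ≃ ZMod 2 × (ZMod 2 × ZMod 2) × (ZMod 2 × ZMod 2) where
  toFun x := (x.a, x.t, x.u)
  invFun p := ⟨p.1, p.2.1, p.2.2⟩
  left_inv x := rfl
  right_inv p := rfl

instance : Fintype E32 := Fintype.ofEquiv _ equivProd.symm

/-- the cocycle -/
def coc (x y : E32) : ZMod 2 := x.t.2 * y.t.1 + x.t.1 * y.t.1 + x.t.2 * y.t.2 + x.u.2 * y.u.1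

instance : Mul E32 := ⟨fun x y => ⟨x.a + y.a + coc x y, x.t + y.t, x.u + y.u⟩⟩
instance : One E32 := ⟨⟨0, 0, 0⟩⟩
instance : Inv E32 := ⟨fun x => ⟨x.a + coc x x, x.t, x.u⟩⟩

theorem mul_def (x y : E32) : x * y = ⟨x.a + y.a + coc x y, x.t + y.t, x.u + y.u⟩ := rfl
theorem one_def : (1 : E32) = ⟨0, 0, 0⟩ := rfl
theorem inv_def (x : E32) : x⁻¹ = ⟨x.a + coc x x, x.t, x.u⟩ := rfl

instance : Group E32 :=
  Group.ofLeftAxioms
    (by
      intro x y z
      simp only [mul_def, coc, E32.mk.injEq, Prod.fst_add, Prod.snd_add]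
      refine ⟨by ring, add_assoc _ _ _, add_assoc _ _ _⟩)
    (by decide)
    (by decide)

theorem card_eq : Nat.card E32 = 32 := by
  rw [Nat.card_eq_fintype_card]
  decide

/-- the central involution -/
def z : E32 := ⟨1, 0, 0⟩

end E32

end Cfsg.Agent.Helper1.AschSp43
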