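import Mathlib
import Cfsg.Agent.Helper1.AschSp43N
import Cfsg.Agent.Helper1.AschSp43E
import Cfsg.Agent.Helper1.AschSp43G

/-!
# S5787 piece (D-R): the representation of `E32 = 2_-^{1+4}` on `F^4`, `|F| = 3` (helper1)

`rmat F (a, t, u) = (−1)^a • T (I^{t₁} J^{t₂}) (s^{u₁} σ^{u₂})`.  All identities are checked over `ZMod 3` by `decide`
and carried to `F` along a ring homomorphism.
-/

set_option autoImplicit false
set_option linter.unusedVariables false
set_option linter.unusedSectionVars false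

namespace Cfsg.Agent.Helper1.AschSp43

open Matrix

/-- the quaternion part `I^{t₁} J^{t₂}` -/
def Xm (R : Type*) [Field R] (t : ZMod 2 × ZMod 2) : Matrix (Fin 2) (Fin 2) R :=
  if t.1 = 0 then (if t.2 = 0 then !![1, 0; 0, 1] else !![1, 1; 1, -1]) else
    (if t.2 = 0 then !![0, -1; 1, 0] else !![-1, 1; 1, 1])

/-- the dihedral part `s^{u₁} σ^{u₂}` -/
def Ym (R : Type*) [Field R] (u : ZMod 2 × ZMod 2) : Matrix (Fin 2) (Fin 2) R :=
  if u.1 = 0 then (if u.2 = 0 then !![1, 0; 0, 1] else !![0, 1; 1, 0]) else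
    (if u.2 = 0 then !![1, 0; 0, -1] else !![0, 1; -1, 0])

/-- the sign `(−1)^a` -/
def sg (R : Type*) [Field R] (a : ZMod 2) : R := if a = 0 then 1 else -1

/-- the representation, as matrices -/
def rmat (R : Type*) [Field R] (x : E32) : Matrix (Fin 2 ⊕ Fin 2) (Fin 2 ⊕ Fin 2) R :=
  sg R x.a • T (Xm R x.t) (Ym R x.u)

set_option maxHeartbeats 4000000 in
theorem rmat0_mul : ∀ x y : E32, rmat (ZMod 3) (x * y) = rmat (ZMod 3) x * rmat (ZMod 3) y := by
  decide +kernel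

theorem rmat0_one : rmat (ZMod 3) 1 = 1 := by
  decide +kernel

set_option maxHeartbeats 4000000 in
theorem rmat0_inj : ∀ x y : E32, rmat (ZMod 3) x = rmat (ZMod 3) y → x = y := by
  decide +kernel

set_option maxHeartbeats 4000000 in
theorem rmat0_schur : ∀ i j k l : Fin 2 ⊕ Fin 2,
    ∑ x : E32, rmat (ZMod 3) x⁻¹ j i * rmat (ZMod 3) x k l = if k = i ∧ l = j then -1 else 0 := by
  decide +kernel

theorem rmat0_form : ∀ x : E32, (rmat (ZMod 3) x)ᵀ * T (J2 (ZMod 3)) 1 * rmat (ZMod 3) x = T (J2 (ZMod 3)) 1 := by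
  decide +kernel

theorem Xm0_det : ∀ t : ZMod 2 × ZMod 2,
    Xm (ZMod 3) t 0 0 * Xm (ZMod 3) t 1 1 - Xm (ZMod 3) t 0 1 * Xm (ZMod 3) t 1 0 = 1 := by
  decide

end Cfsg.Agent.Helper1.AschSp43
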