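import Mathlib
import Cfsg.Prelude.Def_GeometricClasses
import Cfsg.Prelude.Def_ClassicalGeometry
import Cfsg.Agent.Helper1.AschSp43R

/-!
# S5787 piece (D-R): the representation of `E32` over a field with three elements, and the group `R` (helper1)
-/

set_option autoImplicit false
set_option linter.unusedVariables false
set_option linter.unusedSectionVars false

namespace Cfsg.Agent.Helper1.AschSp43

open Matrix Cfsg Cfsg.Geo
open scoped MatrixGroups

section maps

variable {R S : Type*} [Field R] [Field S] (f : R →+* S)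

theorem sg_map (a : ZMod 2) : f (sg R a) = sg S a := by
  unfold sg
  split_ifs <;> simp

theorem Xm_map (t : ZMod 2 × ZMod 2) : (Xm R t).map f = Xm S t := by
  unfold Xm
  split_ifs <;> (ext i j; fin_cases i <;> fin_cases j <;> simp)

theorem Ym_map (u : ZMod 2 × ZMod 2) : (Ym R u).map f = Ym S u := by
  unfold Ym
  split_ifs <;> (ext i j; fin_cases i <;> fin_cases j <;> simp)

theorem T_map (X Y : Matrix (Fin 2) (Fin 2) R) : (T X Y).map f = T (X.map f) (Y.map f) := by
  unfold T
  rw [Matrix.fromBlocks_map]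
  congr 1 <;> (ext i j; simp)

theorem rmat_map (x : E32) : (rmat R x).map f = rmat S x := by
  unfold rmat
  rw [← sg_map f, ← Xm_map f, ← Ym_map f, ← T_map]
  ext i j
  simp

theorem J2_map : (J2 R).map f = J2 S := by
  unfold J2
  ext i j
  fin_cases i <;> fin_cases j <;> simp

end maps

section three

variable {F : Type*} [Field F]

theorem sg_add (a b : ZMod 2) : sg F (a + b) = sg F a * sg F b := by
  have h : ∀ c : ZMod 2, c = 0 ∨ c = 1 := by decide
  rcases h a with rfl | rfl <;> rcases h b with rfl | rfl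
  · simp [sg]
  · simp [sg]
  · simp [sg]
  · have : (1 : ZMod 2) + 1 = 0 := by decide
    simp [sg, this]

end three

section card3

variable {F : Type*} [Field F] [Fintype F]

theorem exists_hom3 (hq : Fintype.card F = 3) : Nonempty (ZMod 3 →+* F) :=
  ⟨((ZMod.ringEquivOfPrime F Nat.prime_three hq : ZMod 3 ≃+* F) : ZMod 3 →+* F)⟩

theorem rmat_mul (hq : Fintype.card F = 3) (x y : E32) : rmat F (x * y) = rmat F x * rmat F y := by
  obtain ⟨f⟩ := exists_hom3 hq
  rw [← rmat_map f, rmat0_mul, Matrix.map_mul, rmat_map, rmat_map]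

theorem rmat_one (hq : Fintype.card F = 3) : rmat F 1 = 1 := by
  obtain ⟨f⟩ := exists_hom3 hq
  rw [← rmat_map f, rmat0_one, Matrix.map_one _ (map_zero f) (map_one f)]

theorem rmat_inj (hq : Fintype.card F = 3) (x y : E32) (h : rmat F x = rmat F y) : x = y := by
  obtain ⟨f⟩ := exists_hom3 hq
  apply rmat0_inj
  rw [← rmat_map f, ← rmat_map f] at h
  exact Matrix.map_injective f.injective h

theorem rmat_form (hq : Fintype.card F = 3) (x : E32) :
    (rmat F x)ᵀ * T (J2 F) 1 * rmat F x = T (J2 F) 1 := by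
  obtain ⟨f⟩ := exists_hom3 hq
  have h := congrArg (fun M => M.map f) (rmat0_form x)
  simp only [Matrix.map_mul, Matrix.transpose_map, rmat_map, T_map, J2_map,
    Matrix.map_one _ (map_zero f) (map_one f)] at h
  exact h

theorem rmat_schur (hq : Fintype.card F = 3) (i j k l : Fin 2 ⊕ Fin 2) :
    ∑ x : E32, rmat F x⁻¹ j i * rmat F x k l = if k = i ∧ l = j then -1 else 0 := by
  obtain ⟨f⟩ := exists_hom3 hq
  have h := congrArg f (rmat0_schur i j k l)
  rw [map_sum] at h
  simp only [map_mul] at h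
  have e : ∀ (x : E32) (a b : Fin 2 ⊕ Fin 2), f (rmat (ZMod 3) x a b) = rmat F x a b := by
    intro x a b
    rw [← rmat_map f x, Matrix.map_apply]
  simp only [e] at h
  rw [h]
  split_ifs <;> simp

theorem sg_sq (a : ZMod 2) : sg F a * sg F a = 1 := by
  unfold sg
  split_ifs <;> simp

theorem Xm_det (hq : Fintype.card F = 3) (t : ZMod 2 × ZMod 2) : (Xm F t).det = 1 := by
  obtain ⟨f⟩ := exists_hom3 hq
  have h := congrArg f (Xm0_det t)
  have e : ∀ a b : Fin 2, f (Xm (ZMod 3) t a b) = Xm F t a b := by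
    intro a b
    rw [← Xm_map f t, Matrix.map_apply]
  rw [map_sub, map_mul, map_mul, map_one, e, e, e, e] at h
  rw [Matrix.det_fin_two, h]

theorem sgXm_mem (hq : Fintype.card F = 3) (a : ZMod 2) (t : ZMod 2 × ZMod 2) : sg F a • Xm F t ∈ Q8set F := by
  refine ⟨?_, ?_⟩
  · rw [Matrix.det_smul, Xm_det hq, Fintype.card_fin, mul_one, pow_two, sg_sq]
  · unfold Xm
    split_ifs with h1 h2 h2
    · have h11 : (!![1, 0; 0, 1] : Matrix (Fin 2) (Fin 2) F) = 1 := by
        ext i j; fin_cases i <;> fin_cases j <;> simp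
      rw [h11]
      unfold sg
      split_ifs
      · left; rw [one_smul]
      · right; left; rw [neg_one_smul]
    · right; right
      rw [Matrix.trace_smul, Matrix.trace_fin_two]
      simp
    · right; right
      rw [Matrix.trace_smul, Matrix.trace_fin_two]
      simp
    · right; right
      rw [Matrix.trace_smul, Matrix.trace_fin_two]
      simp

theorem Ym_mem (u : ZMod 2 × ZMod 2) : Ym F u ∈ D8set F := by
  show (Ym F u)ᵀ * Ym F u = 1
  unfold Ym
  split_ifs <;> (ext i j; fin_cases i <;> fin_cases j <;> simp [Matrix.mul_apply, Fin.sum_univ_two])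

theorem rmat_eq_T (x : E32) : rmat F x = T (sg F x.a • Xm F x.t) (Ym F x.u) := by
  unfold rmat
  rw [T_smul_left]

theorem q8_param (hq : Fintype.card F = 3) (X : Matrix (Fin 2) (Fin 2) F) (hX : X ∈ Q8set F) :
    ∃ (a : ZMod 2) (t : ZMod 2 × ZMod 2), X = sg F a • Xm F t := by
  have h10 : (1 : ZMod 2) ≠ 0 := by decide
  rcases q8_list hq X hX with h | h | h | h | h | h | h | h
  · exact ⟨0, (0, 0), by rw [h]; simp [sg, Xm]⟩
  · exact ⟨1, (0, 0), by rw [h]; simp [sg, Xm, h10]⟩
  · exact ⟨0, (1, 0), by rw [h]; simp [sg, Xm, h10]⟩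
  · exact ⟨1, (1, 0), by rw [h]; simp [sg, Xm, h10]⟩
  · exact ⟨0, (0, 1), by rw [h]; simp [sg, Xm, h10]⟩
  · exact ⟨1, (0, 1), by rw [h]; simp [sg, Xm, h10]⟩
  · exact ⟨0, (1, 1), by rw [h]; simp [sg, Xm, h10]⟩
  · exact ⟨1, (1, 1), by rw [h]; simp [sg, Xm, h10]⟩

theorem d8_param (hq : Fintype.card F = 3) (Y : Matrix (Fin 2) (Fin 2) F) (hY : Y ∈ D8set F) :
    ∃ (a : ZMod 2) (u : ZMod 2 × ZMod 2), Y = sg F a • Ym F u := by
  have h10 : (1 : ZMod 2) ≠ 0 := by decide
  rcases d8_list hq Y hY with h | h | h | h | h | h | h | h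
  · exact ⟨0, (0, 0), by rw [h]; simp [sg, Ym]⟩
  · exact ⟨1, (0, 0), by rw [h]; simp [sg, Ym, h10]⟩
  · exact ⟨0, (1, 0), by rw [h]; simp [sg, Ym, h10]⟩
  · exact ⟨1, (1, 0), by rw [h]; simp [sg, Ym, h10]⟩
  · exact ⟨0, (0, 1), by rw [h]; simp [sg, Ym, h10]⟩
  · exact ⟨1, (0, 1), by rw [h]; simp [sg, Ym, h10]⟩
  · exact ⟨0, (1, 1), by rw [h]; simp [sg, Ym, h10]⟩
  · exact ⟨1, (1, 1), by rw [h]; simp [sg, Ym, h10]⟩

/-- every `T X Y` with `X ∈ Q8set`, `Y ∈ D8set` is in the image of the representation -/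
theorem exists_rmat (hq : Fintype.card F = 3) (X : Matrix (Fin 2) (Fin 2) F) (hX : X ∈ Q8set F)
    (Y : Matrix (Fin 2) (Fin 2) F) (hY : Y ∈ D8set F) : ∃ x : E32, rmat F x = T X Y := by
  obtain ⟨a₁, t, rfl⟩ := q8_param hq X hX
  obtain ⟨a₂, u, rfl⟩ := d8_param hq Y hY
  refine ⟨⟨a₁ + a₂, t, u⟩, ?_⟩
  unfold rmat
  rw [T_smul_left, T_smul_right, smul_smul, sg_add]

/-- the matrices `rmat F x` span the matrix algebra -/
theorem span_rmat (hq : Fintype.card F = 3) : Submodule.span F (Set.range (rmat F)) = ⊤ := by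
  classical
  rw [eq_top_iff]
  intro N _
  rw [Matrix.matrix_eq_sum_single N]
  refine Submodule.sum_mem _ fun i _ => Submodule.sum_mem _ fun j _ => ?_
  have h1 : Matrix.single i j (N i j) = N i j • Matrix.single i j (1 : F) := by
    rw [Matrix.smul_single, smul_eq_mul, mul_one]
  rw [h1]
  refine Submodule.smul_mem _ _ ?_
  have h2 : Matrix.single i j (1 : F) = -∑ x : E32, rmat F x⁻¹ j i • rmat F x := by
    ext k l
    rw [Matrix.neg_apply, Matrix.sum_apply]
    simp only [Matrix.smul_apply, smul_eq_mul]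
    rw [rmat_schur hq i j k l, Matrix.single_apply]
    by_cases h : i = k ∧ j = l
    · rw [if_pos h, if_pos ⟨h.1.symm, h.2.symm⟩, neg_neg]
    · rw [if_neg h, if_neg (fun h' => h ⟨h'.1.symm, h'.2.symm⟩), neg_zero]
  rw [h2]
  refine Submodule.neg_mem _ (Submodule.sum_mem _ fun x _ => Submodule.smul_mem _ _ ?_)
  exact Submodule.subset_span ⟨x, rfl⟩

end card3

end Cfsg.Agent.Helper1.AschSp43
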