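import Mathlib
import Cfsg.Prelude.Def_GeometricClasses
import Cfsg.Prelude.Def_ClassicalGeometry
import Cfsg.Agent.Helper7.AbsIrredSpan
import Cfsg.Agent.Helper1.AschSp43S

/-!
# S5787 piece (D-R): `class6_of_normal_form` from the group theory of `E32` (helper1)

`R = P · ρ₀(E32) · P⁻¹`.  The group-theoretic class-6 data of the range of an injective homomorphism from `E32`
(helper9's `class6_range`) is taken as the hypothesis `R1Stmt F`.
-/

set_option autoImplicit false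
set_option linter.unusedVariables false
set_option linter.unusedSectionVars false

namespace Cfsg.Agent.Helper1.AschSp43

open Matrix Cfsg Cfsg.Geo
open scoped MatrixGroups

/-- the statement of helper9's `class6_range` on `GL (Fin 2 ⊕ Fin 2) F` -/
def R1Stmt (F' : Type*) [Field F'] : Prop :=
  ∀ ρ : E32 →* GL (Fin 2 ⊕ Fin 2) F', Function.Injective ρ →
    IsSymplecticTypeGroup 2 ρ.range ∧ Nat.card ρ.range = 32 ∧ Nat.card (Subgroup.center ρ.range) = 2 ∧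
      IsOfMinusType 2 ρ.range

variable {F : Type*} [Field F] [Fintype F]

local notation "MM" => Matrix (Fin 2 ⊕ Fin 2) (Fin 2 ⊕ Fin 2) F

/-- the representation as a monoid homomorphism into matrices -/
def rhom (hq : Fintype.card F = 3) : E32 →* MM where
  toFun := rmat F
  map_one' := rmat_one hq
  map_mul' := rmat_mul hq

/-- the representation into `GL` -/
def rGL (hq : Fintype.card F = 3) : E32 →* GL (Fin 2 ⊕ Fin 2) F := (rhom hq).toHomUnits

theorem rGL_val (hq : Fintype.card F = 3) (x : E32) : ((rGL hq x : GL (Fin 2 ⊕ Fin 2) F) : MM) = rmat F x := rfl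

/-- the representation conjugated by `P` -/
def rP (hq : Fintype.card F = 3) (P : GL (Fin 2 ⊕ Fin 2) F) : E32 →* GL (Fin 2 ⊕ Fin 2) F :=
  (MulAut.conj P).toMonoidHom.comp (rGL hq)

theorem rP_apply (hq : Fintype.card F = 3) (P : GL (Fin 2 ⊕ Fin 2) F) (x : E32) :
    rP hq P x = P * rGL hq x * P⁻¹ := rfl

theorem rP_val (hq : Fintype.card F = 3) (P : GL (Fin 2 ⊕ Fin 2) F) (x : E32) :
    ((rP hq P x : GL (Fin 2 ⊕ Fin 2) F) : MM) = (P : MM) * rmat F x * ((P⁻¹ : GL (Fin 2 ⊕ Fin 2) F) : MM) := by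
  rw [rP_apply, Units.val_mul, Units.val_mul, rGL_val]

theorem rP_injective (hq : Fintype.card F = 3) (P : GL (Fin 2 ⊕ Fin 2) F) : Function.Injective (rP hq P) := by
  intro x y h
  have h1 : rGL hq x = rGL hq y := (MulAut.conj P).injective h
  apply rmat_inj hq
  have := congrArg (fun g : GL (Fin 2 ⊕ Fin 2) F => (g : MM)) h1
  simpa [rGL_val] using this

theorem sympForm_mulVec_eq' (A : MM) (u v : Fin 2 ⊕ Fin 2 → F) :
    sympForm 2 F (A *ᵥ u) (A *ᵥ v) = u ⬝ᵥ ((Aᵀ * Matrix.J (Fin 2) F * A) *ᵥ v) := by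
  unfold sympForm
  rw [← mulVec_mulVec, ← mulVec_mulVec, dotProduct_comm, dotProduct_mulVec, dotProduct_comm,
    mulVec_transpose]

theorem eq_of_forall_dot {M M' : MM} (h : ∀ u v : Fin 2 ⊕ Fin 2 → F, u ⬝ᵥ (M *ᵥ v) = u ⬝ᵥ (M' *ᵥ v)) :
    M = M' := by
  classical
  ext i j
  have := h (Pi.single i 1) (Pi.single j 1)
  simpa using this

/-- the key conjugation step: a symplectic `g` (anti)commuting with `k₀` satisfies `g · ρ(x) = ρ(y) · g` -/
theorem conj_step (hq : Fintype.card F = 3) (P : GL (Fin 2 ⊕ Fin 2) F) (k₀ : MM)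
    (hP : (P : MM)ᵀ * Matrix.J (Fin 2) F * (P : MM) = Matrix.fromBlocks !![0, 1; -1, 0] 0 0 !![0, 1; -1, 0])
    (hk : k₀ * (P : MM) = (P : MM) * Matrix.fromBlocks 0 (-1) 1 0)
    (g : GL (Fin 2 ⊕ Fin 2) F) (hg : g ∈ spGL 2 F)
    (hc : (g : MM) * k₀ = k₀ * (g : MM) ∨ (g : MM) * k₀ = -(k₀ * (g : MM))) (x : E32) :
    ∃ y : E32, g * rP hq P x = rP hq P y * g := by
  have h2 : (2 : F) ≠ 0 := by
    intro h
    have h3 : (3 : F) = 0 := by
      have := Nat.cast_card_eq_zero F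
      rw [hq] at this
      exact_mod_cast this
    have : (1 : F) = 0 := by linear_combination h3 - h
    exact one_ne_zero this
  obtain ⟨Pm, hPm⟩ : ∃ Pm : MM, Pm = (P : MM) := ⟨_, rfl⟩
  obtain ⟨Pi, hPi⟩ : ∃ Pi : MM, Pi = ((P⁻¹ : GL (Fin 2 ⊕ Fin 2) F) : MM) := ⟨_, rfl⟩
  obtain ⟨gm, hgm⟩ : ∃ gm : MM, gm = (g : MM) := ⟨_, rfl⟩
  have hPP : Pm * Pi = 1 := by rw [hPm, hPi, ← Units.val_mul, mul_inv_cancel, Units.val_one]
  have hPiP : Pi * Pm = 1 := by rw [hPm, hPi, ← Units.val_mul, inv_mul_cancel, Units.val_one]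
  rw [← hPm] at hP hk
  rw [← hgm] at hc
  -- `g` preserves `J`
  have hgJ : gmᵀ * Matrix.J (Fin 2) F * gm = Matrix.J (Fin 2) F := by
    apply eq_of_forall_dot
    intro u v
    rw [← sympForm_mulVec_eq', hgm]
    exact hg u v
  -- `ρ̂ P⁻¹ = P⁻¹ k₀`
  have hk' : Matrix.fromBlocks 0 (-1) 1 0 * Pi = Pi * k₀ := by
    calc Matrix.fromBlocks 0 (-1) 1 0 * Pi = Pi * (Pm * Matrix.fromBlocks 0 (-1) 1 0) * Pi := by
          rw [← Matrix.mul_assoc, hPiP, Matrix.one_mul]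
      _ = Pi * k₀ := by rw [← hk, Matrix.mul_assoc, Matrix.mul_assoc, hPP, Matrix.mul_one]
  -- the matrix of `g` in the `P`-coordinates
  obtain ⟨g', hg'⟩ : ∃ g' : MM, g' = Pi * gm * Pm := ⟨_, rfl⟩
  have hgP : gm * Pm = Pm * g' := by
    rw [hg', ← Matrix.mul_assoc, ← Matrix.mul_assoc, hPP, Matrix.one_mul]
  have hPg : g' * Pi = Pi * gm := by
    rw [hg', Matrix.mul_assoc, hPP, Matrix.mul_one]
  have hsp : g'ᵀ * Matrix.fromBlocks !![0, 1; -1, 0] 0 0 !![0, 1; -1, 0] * g' =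
      Matrix.fromBlocks !![0, 1; -1, 0] 0 0 !![0, 1; -1, 0] := by
    have e1 : Piᵀ * (Pmᵀ * Matrix.J (Fin 2) F * Pm) * Pi = Matrix.J (Fin 2) F := by
      have : Piᵀ * Pmᵀ = 1 := by rw [← Matrix.transpose_mul, hPP, Matrix.transpose_one]
      calc Piᵀ * (Pmᵀ * Matrix.J (Fin 2) F * Pm) * Pi
          = (Piᵀ * Pmᵀ) * Matrix.J (Fin 2) F * (Pm * Pi) := by simp only [Matrix.mul_assoc]
        _ = Matrix.J (Fin 2) F := by rw [this, hPP, Matrix.one_mul, Matrix.mul_one]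
    rw [← hP]
    calc g'ᵀ * (Pmᵀ * Matrix.J (Fin 2) F * Pm) * g'
        = Pmᵀ * (gmᵀ * (Piᵀ * (Pmᵀ * Matrix.J (Fin 2) F * Pm) * Pi) * gm) * Pm := by
          rw [hg', Matrix.transpose_mul, Matrix.transpose_mul]
          simp only [Matrix.mul_assoc]
      _ = Pmᵀ * Matrix.J (Fin 2) F * Pm := by rw [e1, hgJ]
  have hc' : g' * Matrix.fromBlocks 0 (-1) 1 0 = Matrix.fromBlocks 0 (-1) 1 0 * g' ∨
      g' * Matrix.fromBlocks 0 (-1) 1 0 = -(Matrix.fromBlocks 0 (-1) 1 0 * g') := by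
    have e1 : g' * Matrix.fromBlocks 0 (-1) 1 0 = Pi * (gm * k₀) * Pm := by
      rw [hg', Matrix.mul_assoc, ← hk]
      simp only [Matrix.mul_assoc]
    have e2 : Matrix.fromBlocks 0 (-1) 1 0 * g' = Pi * (k₀ * gm) * Pm := by
      rw [hg', ← Matrix.mul_assoc, ← Matrix.mul_assoc, hk']
      simp only [Matrix.mul_assoc]
    rcases hc with h | h
    · left; rw [e1, e2, h]
    · right; rw [e1, e2, h, Matrix.mul_neg, Matrix.neg_mul]
  obtain ⟨X', hX', Y', hY', hconj⟩ := normalises_std h2 g' hsp hc' (sg F x.a • Xm F x.t)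
    (sgXm_mem hq x.a x.t) (Ym F x.u) (Ym_mem x.u)
  rw [← rmat_eq_T] at hconj
  obtain ⟨y, hy⟩ := exists_rmat hq X' hX' Y' hY'
  refine ⟨y, ?_⟩
  apply Units.ext
  rw [Units.val_mul, Units.val_mul, rP_val, rP_val, ← hPm, ← hPi, ← hgm]
  calc gm * (Pm * rmat F x * Pi) = (gm * Pm) * rmat F x * Pi := by simp only [Matrix.mul_assoc]
    _ = Pm * (g' * rmat F x) * Pi := by rw [hgP]; simp only [Matrix.mul_assoc]
    _ = Pm * rmat F y * (g' * Pi) := by rw [hconj, ← hy]; simp only [Matrix.mul_assoc]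
    _ = Pm * rmat F y * Pi * gm := by rw [hPg]; simp only [Matrix.mul_assoc]

/-- **(D-R)** from helper9's `class6_range` -/
theorem class6_of_normal_form' (hq : Fintype.card F = 3) (hR1 : R1Stmt F)
    (P : GL (Fin 2 ⊕ Fin 2) F) (k₀ : MM)
    (hP : (P : MM)ᵀ * Matrix.J (Fin 2) F * (P : MM) = Matrix.fromBlocks !![0, 1; -1, 0] 0 0 !![0, 1; -1, 0])
    (hk : k₀ * (P : MM) = (P : MM) * Matrix.fromBlocks 0 (-1) 1 0) :
    ∃ R : Subgroup (GL (Fin 2 ⊕ Fin 2) F), IsSymplecticTypeGroup 2 R ∧ ActsAbsolutelyIrreducibly (matrixSet R) ∧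
      FixesForm (matrixSet R) (sympForm 2 F) ∧ Nat.card R = 32 ∧ Nat.card (Subgroup.center R) = 2 ∧
      IsOfMinusType 2 R ∧
      ∀ g ∈ spGL 2 F, ((g : MM) * k₀ = k₀ * (g : MM) ∨ (g : MM) * k₀ = -(k₀ * (g : MM))) →
        g ∈ subgroupNormalizer R := by
  classical
  obtain ⟨hst, hcard, hcen, hminus⟩ := hR1 (rP hq P) (rP_injective hq P)
  obtain ⟨Pm, hPm⟩ : ∃ Pm : MM, Pm = (P : MM) := ⟨_, rfl⟩
  obtain ⟨Pi, hPi⟩ : ∃ Pi : MM, Pi = ((P⁻¹ : GL (Fin 2 ⊕ Fin 2) F) : MM) := ⟨_, rfl⟩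
  have hPP : Pm * Pi = 1 := by rw [hPm, hPi, ← Units.val_mul, mul_inv_cancel, Units.val_one]
  have hPiP : Pi * Pm = 1 := by rw [hPm, hPi, ← Units.val_mul, inv_mul_cancel, Units.val_one]
  refine ⟨(rP hq P).range, hst, ?_, ?_, hcard, hcen, hminus, ?_⟩
  · -- absolutely irreducible: the matrices span
    apply Cfsg.Agent.Helper7.AbsIrr.absIrred_of_span_eq_top'
    rw [eq_top_iff]
    intro N _
    let L : MM →ₗ[F] MM := (LinearMap.mulLeft F Pm).comp (LinearMap.mulRight F Pi)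
    have hL : ∀ X : MM, L X = Pm * (X * Pi) := fun X => rfl
    have hN : N = L (Pi * N * Pm) := by
      rw [hL]
      calc N = (Pm * Pi) * N * (Pm * Pi) := by rw [hPP, Matrix.one_mul, Matrix.mul_one]
        _ = Pm * (Pi * N * Pm * Pi) := by simp only [Matrix.mul_assoc]
    have hmem : Pi * N * Pm ∈ Submodule.span F (Set.range (rmat F)) := by
      rw [span_rmat hq]; exact Submodule.mem_top
    have h1 := Submodule.mem_map_of_mem (f := L) hmem
    rw [Submodule.map_span, ← hN] at h1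
    refine Submodule.span_mono ?_ h1
    rintro _ ⟨_, ⟨x, rfl⟩, rfl⟩
    refine ⟨rP hq P x, ⟨x, rfl⟩, ?_⟩
    show ((rP hq P x : GL (Fin 2 ⊕ Fin 2) F) : MM) = L (rmat F x)
    rw [rP_val, hL, ← hPm, ← hPi, Matrix.mul_assoc]
  · -- isometries
    rintro s ⟨g, ⟨x, rfl⟩, rfl⟩ u v
    rw [sympForm_mulVec_eq']
    have key : ((rP hq P x : GL (Fin 2 ⊕ Fin 2) F) : MM)ᵀ * Matrix.J (Fin 2) F *
        ((rP hq P x : GL (Fin 2 ⊕ Fin 2) F) : MM) = Matrix.J (Fin 2) F := by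
      rw [rP_val, ← hPm, ← hPi]
      have e1 : (rmat F x)ᵀ * (Pmᵀ * Matrix.J (Fin 2) F * Pm) * rmat F x = Pmᵀ * Matrix.J (Fin 2) F * Pm := by
        rw [hPm, hP, Jhat_eq]
        exact rmat_form hq x
      have e2 : Piᵀ * Pmᵀ = 1 := by rw [← Matrix.transpose_mul, hPP, Matrix.transpose_one]
      calc (Pm * rmat F x * Pi)ᵀ * Matrix.J (Fin 2) F * (Pm * rmat F x * Pi)
          = Piᵀ * ((rmat F x)ᵀ * (Pmᵀ * Matrix.J (Fin 2) F * Pm) * rmat F x) * Pi := by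
            rw [Matrix.transpose_mul, Matrix.transpose_mul]
            simp only [Matrix.mul_assoc]
        _ = (Piᵀ * Pmᵀ) * Matrix.J (Fin 2) F * (Pm * Pi) := by rw [e1]; simp only [Matrix.mul_assoc]
        _ = Matrix.J (Fin 2) F := by rw [e2, hPP, Matrix.one_mul, Matrix.mul_one]
    rw [key]
    rfl
  · -- the normaliser
    have key : ∀ g ∈ spGL 2 F, ((g : MM) * k₀ = k₀ * (g : MM) ∨ (g : MM) * k₀ = -(k₀ * (g : MM))) →
        ∀ h ∈ (rP hq P).range, g * h * g⁻¹ ∈ (rP hq P).range := by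
      rintro g hg hc _ ⟨x, rfl⟩
      obtain ⟨y, hy⟩ := conj_step hq P k₀ hP hk g hg hc x
      refine ⟨y, ?_⟩
      rw [hy, mul_assoc, mul_inv_cancel, mul_one]
    intro g hg hc
    show g ∈ Subgroup.normalizer ((rP hq P).range : Set (GL (Fin 2 ⊕ Fin 2) F))
    rw [Subgroup.mem_normalizer_iff]
    intro h
    constructor
    · exact key g hg hc h
    · intro hh
      have hgi : ((g⁻¹ : GL (Fin 2 ⊕ Fin 2) F) : MM) * (g : MM) = 1 := by
        rw [← Units.val_mul, inv_mul_cancel, Units.val_one]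
      have hgi' : (g : MM) * ((g⁻¹ : GL (Fin 2 ⊕ Fin 2) F) : MM) = 1 := by
        rw [← Units.val_mul, mul_inv_cancel, Units.val_one]
      have hc' : ((g⁻¹ : GL (Fin 2 ⊕ Fin 2) F) : MM) * k₀ = k₀ * ((g⁻¹ : GL (Fin 2 ⊕ Fin 2) F) : MM) ∨
          ((g⁻¹ : GL (Fin 2 ⊕ Fin 2) F) : MM) * k₀ = -(k₀ * ((g⁻¹ : GL (Fin 2 ⊕ Fin 2) F) : MM)) := by
        have e : ((g⁻¹ : GL (Fin 2 ⊕ Fin 2) F) : MM) * k₀ =
            ((g⁻¹ : GL (Fin 2 ⊕ Fin 2) F) : MM) * (k₀ * (g : MM)) * ((g⁻¹ : GL (Fin 2 ⊕ Fin 2) F) : MM) := by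
          rw [Matrix.mul_assoc, Matrix.mul_assoc, hgi', Matrix.mul_one]
        rcases hc with h' | h'
        · left
          rw [e, ← h', ← Matrix.mul_assoc, hgi, Matrix.one_mul]
        · right
          have h'' : k₀ * (g : MM) = -((g : MM) * k₀) := by rw [h', neg_neg]
          rw [e, h'', Matrix.mul_neg, Matrix.neg_mul, ← Matrix.mul_assoc, hgi, Matrix.one_mul]
      have := key g⁻¹ (Subgroup.inv_mem _ hg) hc' _ hh
      have e1 : g⁻¹ * (g * h * g⁻¹) * g⁻¹⁻¹ = h := by group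
      rwa [e1] at this

end Cfsg.Agent.Helper1.AschSp43
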