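import Mathlib
import Cfsg.Agent.Helper7.UTyE

/-!
# S5787 piece (D-NF) (helper1): normal form of a skew-adjoint square root of `-1` in `Sp_4(3)`

`k * k = -1`, `f(k u, v) = -f(u, k v)` for the standard alternating form `f` on `F^4`, `|F| = 3`: there is a basis
`(u₁, u₂, k u₁, k u₂)` with Gram matrix `diag(J₂, J₂)`.
-/

set_option autoImplicit false
set_option linter.unusedVariables false
set_option linter.unusedSectionVars false

namespace Cfsg.Agent.Helper1.AschSp43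

open Cfsg Cfsg.Geo Matrix Cfsg.Agent.Helper7.Symp

variable {F : Type*} [Field F] [Fintype F]

local notation "VV" => (Fin 2 ⊕ Fin 2 → F)
local notation "MM" => Matrix (Fin 2 ⊕ Fin 2) (Fin 2 ⊕ Fin 2) F

theorem three_eq_zero (hq : Fintype.card F = 3) : (3 : F) = 0 := by
  have h := Nat.cast_card_eq_zero F
  rw [hq] at h
  exact_mod_cast h

theorem two_ne_zero3 (hq : Fintype.card F = 3) : (2 : F) ≠ 0 := by
  intro h
  have h3 := three_eq_zero hq
  have : (1 : F) = 0 := by linear_combination h3 - h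
  exact one_ne_zero this

theorem tri (hq : Fintype.card F = 3) (x : F) : x = 0 ∨ x = 1 ∨ x = -1 := by
  by_cases hx : x = 0
  · exact Or.inl hx
  · right
    have h : x ^ 2 = 1 := by
      have := FiniteField.pow_card_sub_one_eq_one x hx
      rwa [hq] at this
    have h2 : (x - 1) * (x + 1) = 0 := by ring_nf; rw [h]; ring
    rcases mul_eq_zero.mp h2 with h3 | h3
    · left; exact sub_eq_zero.mp h3
    · right; exact eq_neg_of_add_eq_zero_left h3

theorem sq_add_sq_ne_zero (hq : Fintype.card F = 3) {p q : F} (hp : p ≠ 0) : p ^ 2 + q ^ 2 ≠ 0 := by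
  have h3 := three_eq_zero hq
  have h2 := two_ne_zero3 hq
  rcases tri hq p with h | h | h
  · exact absurd h hp
  · rcases tri hq q with h' | h' | h' <;> subst h <;> subst h' <;> intro h0
    · simp at h0
    · apply h2; linear_combination h0
    · apply h2; linear_combination h0
  · rcases tri hq q with h' | h' | h' <;> subst h <;> subst h' <;> intro h0
    · simp at h0
    · apply h2; linear_combination h0
    · apply h2; linear_combination h0

section kk

variable {k : Matrix (Fin 2 ⊕ Fin 2) (Fin 2 ⊕ Fin 2) F} (hsq : k * k = -1)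
  (hskew : ∀ u v : (Fin 2 ⊕ Fin 2 → F), sympForm 2 F (k *ᵥ u) v = - sympForm 2 F u (k *ᵥ v))

include hsq in
theorem kk_apply (v : VV) : k *ᵥ (k *ᵥ v) = -v := by
  rw [mulVec_mulVec, hsq, neg_mulVec, one_mulVec]

include hsq hskew in
theorem k_isom (u v : VV) : sympForm 2 F (k *ᵥ u) (k *ᵥ v) = sympForm 2 F u v := by
  rw [hskew, kk_apply hsq, sympForm_neg_right, neg_neg]

include hskew in
theorem k_left (u v : VV) : sympForm 2 F u (k *ᵥ v) = - sympForm 2 F (k *ᵥ u) v := by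
  rw [hskew, neg_neg]

include hsq hskew in
theorem norm_k (v : VV) : sympForm 2 F (k *ᵥ v) (k *ᵥ (k *ᵥ v)) = sympForm 2 F v (k *ᵥ v) :=
  k_isom hsq hskew v (k *ᵥ v)

include hsq hskew in
/-- two perpendicular vectors with opposite norms give an isotropic vector -/
theorem iso_of_pair (v w : VV) (hv : sympForm 2 F v (k *ᵥ v) ≠ 0) (h1 : sympForm 2 F v w = 0)
    (h2 : sympForm 2 F (k *ᵥ v) w = 0) (hn : sympForm 2 F w (k *ᵥ w) = - sympForm 2 F v (k *ᵥ v)) :
    v + w ≠ 0 ∧ sympForm 2 F (v + w) (k *ᵥ (v + w)) = 0 := by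
  constructor
  · intro h0
    have hw : w = -v := eq_neg_of_add_eq_zero_right h0
    apply hv
    rw [hw, sympForm_neg_right] at h2
    rw [k_left hskew]
    linear_combination h2
  · have e1 : sympForm 2 F v (k *ᵥ w) = 0 := by rw [k_left hskew, h2, neg_zero]
    have e2 : sympForm 2 F w (k *ᵥ v) = 0 := by rw [sympForm_swap, h2, neg_zero]
    rw [mulVec_add, sympForm_add_left, sympForm_add_right, sympForm_add_right, e1, e2, hn]
    ring

include hsq hskew in
theorem norm_add_k (w : VV) :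
    sympForm 2 F (w + k *ᵥ w) (k *ᵥ (w + k *ᵥ w)) = 2 * sympForm 2 F w (k *ᵥ w) := by
  have e1 : sympForm 2 F (k *ᵥ w) w = - sympForm 2 F w (k *ᵥ w) := sympForm_swap _ _
  rw [mulVec_add, kk_apply hsq, sympForm_add_left, sympForm_add_right, sympForm_add_right, sympForm_neg_right,
    sympForm_neg_right, sympForm_self, sympForm_self, e1]
  ring

include hsq hskew in
theorem exists_iso (hq : Fintype.card F = 3) : ∃ u : VV, u ≠ 0 ∧ sympForm 2 F u (k *ᵥ u) = 0 := by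
  classical
  have h3 := three_eq_zero hq
  obtain ⟨v, hv0⟩ : ∃ v : VV, v ≠ 0 := by
    refine ⟨Pi.single (Sum.inl 0) 1, ?_⟩
    intro h
    have := congrFun h (Sum.inl 0)
    simp at this
  by_cases hnv : sympForm 2 F v (k *ᵥ v) = 0
  · exact ⟨v, hv0, hnv⟩
  -- a non-zero vector perpendicular to `v` and `k v`
  let L : VV →ₗ[F] (Fin 2 → F) :=
    { toFun := fun w => ![sympForm 2 F v w, sympForm 2 F (k *ᵥ v) w]
      map_add' := by
        intro x y
        ext i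
        fin_cases i <;> simp [sympForm_add_right]
      map_smul' := by
        intro c x
        ext i
        fin_cases i <;> simp [sympForm_smul_right] }
  have hker : LinearMap.ker L ≠ ⊥ := by
    apply LinearMap.ker_ne_bot_of_finrank_lt
    rw [Module.finrank_fintype_fun_eq_card, Module.finrank_fintype_fun_eq_card]
    simp
  obtain ⟨w, hwL, hw0⟩ := (Submodule.ne_bot_iff _).1 hker
  rw [LinearMap.mem_ker] at hwL
  have h1 : sympForm 2 F v w = 0 := by
    have := congrFun hwL 0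
    simpa [L] using this
  have h2 : sympForm 2 F (k *ᵥ v) w = 0 := by
    have := congrFun hwL 1
    simpa [L] using this
  by_cases hnw : sympForm 2 F w (k *ᵥ w) = 0
  · exact ⟨w, hw0, hnw⟩
  have hcase : sympForm 2 F w (k *ᵥ w) = - sympForm 2 F v (k *ᵥ v) ∨
      sympForm 2 F w (k *ᵥ w) = sympForm 2 F v (k *ᵥ v) := by
    rcases tri hq (sympForm 2 F v (k *ᵥ v)) with h | h | h
    · exact absurd h hnv
    · rcases tri hq (sympForm 2 F w (k *ᵥ w)) with h' | h' | h'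
      · exact absurd h' hnw
      · right; rw [h, h']
      · left; rw [h, h']
    · rcases tri hq (sympForm 2 F w (k *ᵥ w)) with h' | h' | h'
      · exact absurd h' hnw
      · left; rw [h, h', neg_neg]
      · right; rw [h, h']
  rcases hcase with hc | hc
  · obtain ⟨ha, hb⟩ := iso_of_pair hsq hskew v w hnv h1 h2 hc
    exact ⟨v + w, ha, hb⟩
  · have h1' : sympForm 2 F v (w + k *ᵥ w) = 0 := by
      rw [sympForm_add_right, h1, k_left hskew, h2]; ring
    have h2' : sympForm 2 F (k *ᵥ v) (w + k *ᵥ w) = 0 := by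
      rw [sympForm_add_right, h2, k_isom hsq hskew, h1]; ring
    have hc' : sympForm 2 F (w + k *ᵥ w) (k *ᵥ (w + k *ᵥ w)) = - sympForm 2 F v (k *ᵥ v) := by
      rw [norm_add_k hsq hskew, hc]
      linear_combination (sympForm 2 F v (k *ᵥ v)) * h3
    obtain ⟨ha, hb⟩ := iso_of_pair hsq hskew v (w + k *ᵥ w) hnv h1' h2' hc'
    exact ⟨v + (w + k *ᵥ w), ha, hb⟩

include hsq hskew in
theorem exists_pair (hq : Fintype.card F = 3) : ∃ u₁ u₂ : VV, sympForm 2 F u₁ u₂ = 1 ∧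
    sympForm 2 F u₁ (k *ᵥ u₁) = 0 ∧ sympForm 2 F u₁ (k *ᵥ u₂) = 0 ∧ sympForm 2 F u₂ (k *ᵥ u₂) = 0 := by
  have h2 := two_ne_zero3 hq
  obtain ⟨u₁, hu0, hn1⟩ := exists_iso hsq hskew hq
  obtain ⟨x, hx⟩ := exists_sympForm_ne_zero hu0
  obtain ⟨p, hp⟩ : ∃ p, p = sympForm 2 F u₁ x := ⟨_, rfl⟩
  obtain ⟨q, hq'⟩ : ∃ q, q = sympForm 2 F u₁ (k *ᵥ x) := ⟨_, rfl⟩
  have hd : p ^ 2 + q ^ 2 ≠ 0 := sq_add_sq_ne_zero hq (by rw [hp]; exact hx)
  -- the second vector, before the last adjustment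
  obtain ⟨y, hy⟩ : ∃ y : VV, y = (p / (p ^ 2 + q ^ 2)) • x + (q / (p ^ 2 + q ^ 2)) • (k *ᵥ x) := ⟨_, rfl⟩
  have hky : k *ᵥ y = (p / (p ^ 2 + q ^ 2)) • (k *ᵥ x) - (q / (p ^ 2 + q ^ 2)) • x := by
    rw [hy, mulVec_add, mulVec_smul, mulVec_smul, kk_apply hsq, smul_neg, sub_eq_add_neg]
  have e1 : sympForm 2 F u₁ y = 1 := by
    rw [hy, sympForm_add_right, sympForm_smul_right, sympForm_smul_right, ← hp, ← hq']
    field_simp
  have e2 : sympForm 2 F u₁ (k *ᵥ y) = 0 := by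
    rw [hky, sympForm_sub_right, sympForm_smul_right, sympForm_smul_right, ← hp, ← hq']
    field_simp
    ring
  obtain ⟨c, hc⟩ : ∃ c, c = - sympForm 2 F y (k *ᵥ y) / 2 := ⟨_, rfl⟩
  refine ⟨u₁, y + c • (k *ᵥ u₁), ?_, hn1, ?_, ?_⟩
  · rw [sympForm_add_right, sympForm_smul_right, e1, hn1]; ring
  · rw [mulVec_add, mulVec_smul, kk_apply hsq, sympForm_add_right, sympForm_smul_right, sympForm_neg_right,
      sympForm_self, e2]
    ring
  · have e3 : sympForm 2 F y u₁ = -1 := by rw [sympForm_swap, e1]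
    have e4 : sympForm 2 F (k *ᵥ u₁) (k *ᵥ y) = 1 := by rw [k_isom hsq hskew, e1]
    have e5 : sympForm 2 F (k *ᵥ u₁) u₁ = 0 := by rw [sympForm_swap, hn1, neg_zero]
    rw [mulVec_add, mulVec_smul, kk_apply hsq, sympForm_add_left, sympForm_add_right, sympForm_add_right,
      sympForm_smul_left, sympForm_smul_left, sympForm_smul_right, sympForm_smul_right, sympForm_neg_right,
      sympForm_neg_right, e3, e4, e5, hc]
    field_simp
    ring

end kk

/-- the `(i, j)` entry of `Pᵀ J P` is the form on the columns of `P` -/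
theorem gram_entry (b : Fin 2 ⊕ Fin 2 → VV) (i j : Fin 2 ⊕ Fin 2) :
    ((Matrix.of fun a c => b c a : MM)ᵀ * Matrix.J (Fin 2) F * (Matrix.of fun a c => b c a : MM)) i j =
      sympForm 2 F (b i) (b j) := by
  unfold sympForm
  rw [Matrix.mul_assoc, Matrix.mul_apply]
  simp only [dotProduct, Matrix.transpose_apply, Matrix.of_apply, Matrix.mulVec, Matrix.mul_apply]

theorem exists_normal_form (hq : Fintype.card F = 3) (k : MM) (hsq : k * k = -1)
    (hskew : ∀ u v : VV, sympForm 2 F (k *ᵥ u) v = - sympForm 2 F u (k *ᵥ v)) :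
    ∃ P : GL (Fin 2 ⊕ Fin 2) F,
      (P : MM)ᵀ * Matrix.J (Fin 2) F * (P : MM) = Matrix.fromBlocks !![0, 1; -1, 0] 0 0 !![0, 1; -1, 0] ∧
      k * (P : MM) = (P : MM) * Matrix.fromBlocks 0 (-1) 1 0 := by
  classical
  obtain ⟨u₁, u₂, h12, h11, h1k2, h22⟩ := exists_pair hsq hskew hq
  obtain ⟨b, hb⟩ : ∃ b : Fin 2 ⊕ Fin 2 → VV, b = Sum.elim ![u₁, u₂] ![k *ᵥ u₁, k *ᵥ u₂] := ⟨_, rfl⟩
  obtain ⟨P₀, hP₀⟩ : ∃ P₀ : MM, P₀ = Matrix.of fun a c => b c a := ⟨_, rfl⟩
  have h21 : sympForm 2 F u₂ u₁ = -1 := by rw [sympForm_swap, h12]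
  have h2k1 : sympForm 2 F u₂ (k *ᵥ u₁) = 0 := by
    rw [k_left hskew, sympForm_swap, h1k2]; ring
  have hgram : P₀ᵀ * Matrix.J (Fin 2) F * P₀ = Matrix.fromBlocks !![0, 1; -1, 0] 0 0 !![0, 1; -1, 0] := by
    ext i j
    rw [hP₀, gram_entry, hb]
    rcases i with i | i <;> rcases j with j | j <;> fin_cases i <;> fin_cases j <;>
      simp [sympForm_self, h12, h21, h11, h1k2, h22, h2k1, k_isom hsq hskew, hskew]
  have hdet : IsUnit P₀.det := by
    have h1 := congrArg Matrix.det hgram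
    rw [Matrix.det_mul, Matrix.det_mul, Matrix.det_transpose, Matrix.det_fromBlocks_zero₂₁] at h1
    have h2 : (!![0, 1; -1, 0] : Matrix (Fin 2) (Fin 2) F).det = 1 := by
      rw [Matrix.det_fin_two_of]; ring
    rw [h2, mul_one] at h1
    apply isUnit_iff_ne_zero.2
    intro h0
    rw [h0] at h1
    simp at h1
  refine ⟨Matrix.GeneralLinearGroup.mk'' P₀ hdet, hgram, ?_⟩
  show k * P₀ = P₀ * Matrix.fromBlocks 0 (-1) 1 0
  ext i j
  rw [hP₀]
  rcases j with j | j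
  · rw [Matrix.mul_apply, Matrix.mul_apply, Fintype.sum_sum_type]
    rw [hb]
    fin_cases j <;> simp [Matrix.mulVec, dotProduct]
  · rw [Matrix.mul_apply, Matrix.mul_apply, Fintype.sum_sum_type]
    rw [hb]
    have e : ∀ v : VV, (∑ x, k i x * (k *ᵥ v) x) = - v i := by
      intro v
      have := congrFun (kk_apply hsq v) i
      simpa [Matrix.mulVec, dotProduct] using this
    fin_cases j
    · have := e u₁
      rw [Fintype.sum_sum_type, Fin.sum_univ_two, Fin.sum_univ_two] at this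
      simpa using this
    · have := e u₂
      rw [Fintype.sum_sum_type, Fin.sum_univ_two, Fin.sum_univ_two] at this
      simpa using this

/-- the statement of piece (D-R) (helper9's `class6_of_normal_form`) -/
def DRStmt (F' : Type*) [Field F'] [Fintype F'] : Prop :=
  ∀ (P : GL (Fin 2 ⊕ Fin 2) F') (k₀ : Matrix (Fin 2 ⊕ Fin 2) (Fin 2 ⊕ Fin 2) F'),
    (P : Matrix (Fin 2 ⊕ Fin 2) (Fin 2 ⊕ Fin 2) F')ᵀ * Matrix.J (Fin 2) F' * (P : Matrix (Fin 2 ⊕ Fin 2) (Fin 2 ⊕ Fin 2) F') =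
      Matrix.fromBlocks !![0, 1; -1, 0] 0 0 !![0, 1; -1, 0] →
    k₀ * (P : Matrix (Fin 2 ⊕ Fin 2) (Fin 2 ⊕ Fin 2) F') =
      (P : Matrix (Fin 2 ⊕ Fin 2) (Fin 2 ⊕ Fin 2) F') * Matrix.fromBlocks 0 (-1) 1 0 →
    ∃ R : Subgroup (GL (Fin 2 ⊕ Fin 2) F'), IsSymplecticTypeGroup 2 R ∧ ActsAbsolutelyIrreducibly (matrixSet R) ∧
      FixesForm (matrixSet R) (sympForm 2 F') ∧ Nat.card R = 32 ∧ Nat.card (Subgroup.center R) = 2 ∧
      IsOfMinusType 2 R ∧
      ∀ g ∈ spGL 2 F', ((g : Matrix (Fin 2 ⊕ Fin 2) (Fin 2 ⊕ Fin 2) F') * k₀ =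
            k₀ * (g : Matrix (Fin 2 ⊕ Fin 2) (Fin 2 ⊕ Fin 2) F') ∨
          (g : Matrix (Fin 2 ⊕ Fin 2) (Fin 2 ⊕ Fin 2) F') * k₀ =
            -(k₀ * (g : Matrix (Fin 2 ⊕ Fin 2) (Fin 2 ⊕ Fin 2) F'))) →
        g ∈ subgroupNormalizer R

/-- **(D)**: in `Sp_4(3)` the normaliser of an adjoint-closed, not self-adjoint quadratic field subalgebra
normalises a class-6 group `2_-^{1+4}`. -/
theorem adj_field_three (hq : Fintype.card F = 3) (hDR : DRStmt F) (K : Subalgebra F MM)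
    (hK : IsFieldSubalgebra 2 K) (hadj : IsAdjointClosedFor (sympForm 2 F) K)
    (hnsa : ¬ IsSelfAdjointFor (sympForm 2 F) K) :
    ∃ R : Subgroup (GL (Fin 2 ⊕ Fin 2) F), IsSymplecticTypeGroup 2 R ∧ ActsAbsolutelyIrreducibly (matrixSet R) ∧
      FixesForm (matrixSet R) (sympForm 2 F) ∧ Nat.card R = 32 ∧ Nat.card (Subgroup.center R) = 2 ∧
      IsOfMinusType 2 R ∧ subalgebraNormalizer K ⊓ spGL 2 F ≤ subgroupNormalizer R := by
  haveI : Nonempty (Fin 2 ⊕ Fin 2) := ⟨Sum.inl 0⟩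
  have h2 := two_ne_zero3 hq
  have hodd : Odd (Fintype.card F) := by rw [hq]; decide
  obtain ⟨δm, z, hmem, hnsq, hsq, hskew, hns, hdec⟩ :=
    Cfsg.Agent.Helper7.UTy.exists_delta hodd (le_refl 1 |>.trans (by norm_num : 1 ≤ 2)) K hK hadj hnsa
  have hKG : Cfsg.Agent.Helper7.UTy.KGen K δm z := ⟨hmem, hnsq, hsq, hns, hdec⟩
  have hz : z = -1 := by
    rcases tri hq z with h | h | h
    · exact absurd ⟨0, by rw [h]; ring⟩ hnsq
    · exact absurd ⟨1, by rw [h]; ring⟩ hnsq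
    · exact h
  have hsq' : δm * δm = -1 := by rw [hsq, hz, neg_smul, one_smul]
  obtain ⟨P, hP, hk⟩ := exists_normal_form hq δm hsq' hskew
  obtain ⟨R, h1, h2', h3, h4, h5, h6, h7⟩ := hDR P δm hP hk
  refine ⟨R, h1, h2', h3, h4, h5, h6, ?_⟩
  intro g hg
  obtain ⟨hgN, hgS⟩ := Subgroup.mem_inf.1 hg
  apply h7 g hgS
  have hinv : ((g⁻¹ : GL (Fin 2 ⊕ Fin 2) F) : MM) * (g : MM) = 1 := by
    rw [← Units.val_mul, inv_mul_cancel, Units.val_one]
  have hconj : (g : MM) * δm = ((g : MM) * δm * ((g⁻¹ : GL (Fin 2 ⊕ Fin 2) F) : MM)) * (g : MM) := by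
    rw [Matrix.mul_assoc, hinv, Matrix.mul_one]
  rcases (Cfsg.Agent.Helper7.UTy.mem_normalizer_iff h2 hKG g).1 hgN with h | h
  · left; rw [hconj, h]
  · right; rw [hconj, h, Matrix.neg_mul]

end Cfsg.Agent.Helper1.AschSp43
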