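import Mathlib
import Cfsg.Prelude.Def_GeometricClasses
import Cfsg.Agent.Lead.AschOBase
import Cfsg.Agent.Helper1.AschSp12Pieces
import Cfsg.Agent.Helper2.AschSpTr
import Cfsg.Agent.Helper6.AschGSpSlot
import Cfsg.Agent.Helper6.AschGSpD
import Cfsg.Agent.Helper7.AschNotSpB
import Cfsg.Agent.Helper7.AschNotSpN
import Cfsg.Agent.Helper1.AschSp43NF

/-!
# S5787 (helper1): the maximal subgroups of `Sp_4(q)`, `q` odd — the dispatch

From helper6's general theorem `asch_gsp_d` (with the dimension data), helper7's NOT-Sp lemmas, and the two `q = 3`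
pieces: (C) `ts_pair_three` (the stabiliser of a pair of t.s. planes stabilises a pair of non-degenerate planes)
and (D) `adj_field_three` (`GU_2(3).2 ≤ N(2_-^{1+4})`), both taken as hypotheses here.
-/

set_option autoImplicit false
set_option linter.unusedVariables false

namespace Cfsg.Agent.Helper1.AschSp43

open Cfsg Cfsg.Geo
open scoped MatrixGroups Matrix

/-- the statement of piece (C) -/
def TsPairThreeStmt (F' : Type*) [Field F'] [Fintype F'] : Prop :=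
  ∀ (D : Fin 2 → Submodule F' (Fin 2 ⊕ Fin 2 → F')), IsMDecomposition 2 D →
    (∀ i, IsTotallySingularFor (sympForm 2 F') (D i)) →
    ∃ D' : Fin 2 → Submodule F' (Fin 2 ⊕ Fin 2 → F'), IsNondegenerateMDecomposition (sympForm 2 F') 2 D' ∧
      decompositionStabilizer D ⊓ spGL 2 F' ≤ decompositionStabilizer D'

/-- every subgroup of `Sp_2m(F)`, `m ≥ 2`, satisfies helper6's `GSpConclD` -/
theorem gspConclD6_of_le {F : Type*} [Field F] [Fintype F] (m : ℕ) (hm : 2 ≤ m)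
    (H : Subgroup (GL (Fin m ⊕ Fin m) F)) (hH : H ≤ spGL m F) :
    Cfsg.Agent.Helper6.AschGSp.GSpConclD m (sympForm m F) H := by
  classical
  have hcard : Fintype.card (Fin m ⊕ Fin m) = 2 * m := by
    rw [Fintype.card_sum, Fintype.card_fin]; ring
  let e : (Fin m ⊕ Fin m) ≃ Fin (2 * m) := Fintype.equivFinOfCardEq hcard
  have htr := Cfsg.Agent.Helper2.AschSp.spTransport (F := F) m (2 * m)
  have hmain := Cfsg.Agent.Helper6.AschGSp.asch_gsp_d
    (Cfsg.Agent.Helper1.AschSp.sp12Pieces (n := 2 * m) (F := F) (by omega))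
    (Cfsg.Agent.Helper6.AschGSp.spPerfectCase (n := 2 * m) (F := F) (by omega)) rfl hm
    (Cfsg.Agent.Helper1.AschSp.reF e (Cfsg.sympForm m F)) (htr.symplectic e)
    (H.map (Cfsg.Geo.glReindex e : Matrix.GeneralLinearGroup (Fin m ⊕ Fin m) F ≃*
      Matrix.GeneralLinearGroup (Fin (2 * m)) F).toMonoidHom) (htr.fixes e H hH)
  exact Cfsg.Agent.Helper6.AschGSp.gspConclD_of_map m e (Cfsg.sympForm m F) H hmain

/-- S5787 from the pieces (C) and (D-R) -/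
theorem final_sp4_odd {F : Type*} [Field F] [Fintype F] (hC : Fintype.card F = 3 → TsPairThreeStmt F)
    (hDR : Fintype.card F = 3 → DRStmt F) (hodd : Odd (Fintype.card F))
    (H : Subgroup (Matrix.GeneralLinearGroup (Fin 2 ⊕ Fin 2) F)) (hH : Cfsg.Geo.IsMaximalIn (Cfsg.spGL 2 F) H) :
    (∃ W : Submodule F (Fin 2 ⊕ Fin 2 → F), W ≠ ⊥ ∧ Cfsg.Geo.IsTotallySingularFor (Cfsg.sympForm 2 F) W ∧ H = Cfsg.Geo.subspaceStabilizer W ⊓ Cfsg.spGL 2 F) ∨
    (∃ D : Fin 2 → Submodule F (Fin 2 ⊕ Fin 2 → F), Cfsg.Geo.IsNondegenerateMDecomposition (Cfsg.sympForm 2 F) 2 D ∧ H = Cfsg.Geo.decompositionStabilizer D ⊓ Cfsg.spGL 2 F) ∨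
    (5 ≤ Fintype.card F ∧ ∃ D : Fin 2 → Submodule F (Fin 2 ⊕ Fin 2 → F), Cfsg.Geo.IsMDecomposition 2 D ∧ (∀ i, Cfsg.Geo.IsTotallySingularFor (Cfsg.sympForm 2 F) (D i)) ∧ H = Cfsg.Geo.decompositionStabilizer D ⊓ Cfsg.spGL 2 F) ∨
    (∃ K : Subalgebra F (Matrix (Fin 2 ⊕ Fin 2) (Fin 2 ⊕ Fin 2) F), Cfsg.Geo.IsFieldSubalgebra 2 K ∧ Cfsg.Geo.IsSelfAdjointFor (Cfsg.sympForm 2 F) K ∧ (∀ k ∈ K, ∀ v : (Fin 2 ⊕ Fin 2 → F), (Cfsg.sympForm 2 F) (Matrix.mulVec k v) v = 0) ∧ H = Cfsg.Geo.subalgebraNormalizer K ⊓ Cfsg.spGL 2 F) ∨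
    (5 ≤ Fintype.card F ∧ ∃ K : Subalgebra F (Matrix (Fin 2 ⊕ Fin 2) (Fin 2 ⊕ Fin 2) F), Cfsg.Geo.IsFieldSubalgebra 2 K ∧ Cfsg.Geo.IsAdjointClosedFor (Cfsg.sympForm 2 F) K ∧ ¬ Cfsg.Geo.IsSelfAdjointFor (Cfsg.sympForm 2 F) K ∧ H = Cfsg.Geo.subalgebraNormalizer K ⊓ Cfsg.spGL 2 F) ∨
    (∃ (F₀ : Subfield F) (r : ℕ) (P : Matrix.GeneralLinearGroup (Fin 2 ⊕ Fin 2) F) (ζ : F), r.Prime ∧ Fintype.card F = Nat.card F₀ ^ r ∧ ζ ≠ 0 ∧ Cfsg.Geo.IsFormRationalStructure (Cfsg.sympForm 2 F) F₀ ζ P ∧ H = Cfsg.Geo.subfieldSubgroup F₀ P ⊓ Cfsg.spGL 2 F) ∨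
    (∃ (p : ℕ) (R : Subgroup (Matrix.GeneralLinearGroup (Fin 2 ⊕ Fin 2) F)), p.Prime ∧ Fintype.card F = p ∧ Cfsg.Geo.IsSymplecticTypeGroup 2 R ∧ Cfsg.Geo.ActsAbsolutelyIrreducibly (Cfsg.Geo.matrixSet R) ∧ R ≤ Cfsg.Geo.similarityGroup (Cfsg.sympForm 2 F) ∧ Nat.card R = 32 ∧ Nat.card (Subgroup.center R) = 2 ∧ Cfsg.Geo.IsOfMinusType 2 R ∧ H = Cfsg.Geo.subgroupNormalizer R ⊓ Cfsg.spGL 2 F) ∨
    Cfsg.Geo.InSymplecticResidualClass H := by
  classical
  have hnot := Cfsg.Agent.Helper7.AschSp.notSp (m := 2) (F := F) (le_refl 2)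
  have hq3 : 3 ≤ Fintype.card F := by
    have h2 : 2 ≤ Fintype.card F := Fintype.one_lt_card
    obtain ⟨c, hc⟩ := hodd
    omega
  have hq35 : Fintype.card F = 3 ∨ 5 ≤ Fintype.card F := by
    obtain ⟨c, hc⟩ := hodd
    omega
  have hne : ∃ u v : Fin 2 ⊕ Fin 2 → F, sympForm 2 F u v ≠ 0 := by
    have hv : (Pi.single (Sum.inl 0) (1 : F) : Fin 2 ⊕ Fin 2 → F) ≠ 0 := by
      intro h
      have := congrFun h (Sum.inl 0)
      simp at this
    obtain ⟨x, hx⟩ := Cfsg.Agent.Helper7.Symp.exists_sympForm_ne_zero hv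
    exact ⟨_, _, hx⟩
  -- the class-6 exit
  have exit6 : ∀ (R : Subgroup (GL (Fin 2 ⊕ Fin 2) F)) (p : ℕ), p.Prime → Fintype.card F = p →
      IsSymplecticTypeGroup 2 R → ActsAbsolutelyIrreducibly (matrixSet R) →
      FixesForm (matrixSet R) (sympForm 2 F) → Nat.card R = 32 → Nat.card (Subgroup.center R) = 2 →
      IsOfMinusType 2 R → H ≤ subgroupNormalizer R →
      ∃ (p : ℕ) (R : Subgroup (Matrix.GeneralLinearGroup (Fin 2 ⊕ Fin 2) F)), p.Prime ∧ Fintype.card F = p ∧ Cfsg.Geo.IsSymplecticTypeGroup 2 R ∧ Cfsg.Geo.ActsAbsolutelyIrreducibly (Cfsg.Geo.matrixSet R) ∧ R ≤ Cfsg.Geo.similarityGroup (Cfsg.sympForm 2 F) ∧ Nat.card R = 32 ∧ Nat.card (Subgroup.center R) = 2 ∧ Cfsg.Geo.IsOfMinusType 2 R ∧ H = Cfsg.Geo.subgroupNormalizer R ⊓ Cfsg.spGL 2 F := by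
    intro R p hp hFp hst habs hfixR hcR hcen hminus hle
    refine ⟨p, R, hp, hFp, hst, habs, ?_, hcR, hcen, hminus,
      Cfsg.Agent.Lead.AschO.eq_inf_of_le' hH hle
        (Cfsg.Agent.Helper7.AschSp.not_le_normalizer_class6_Sp (le_refl 2) (fun _ => hq3) R hst habs hfixR)⟩
    intro g hg
    refine ⟨1, fun u v => ?_⟩
    rw [Units.val_one, one_mul]
    exact hfixR _ ⟨g, hg, rfl⟩ u v
  rcases gspConclD6_of_le 2 (le_refl 2) H hH.1.le with
    ⟨W, h0, hts, hle⟩ | ⟨W, h0, hnd, hdim, hle⟩ | ⟨t, k, D, hD, htk, hev, hq2, hle⟩ | ⟨D, hq, hD, hts, hle⟩ |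
    ⟨F₀, r, P, ζ, hr, hcd, hζ, hrat, hle⟩ |
    ⟨R, p, k, hst, habs, hsim, hfixR, hp, hpo, hFp, hcR, hcen, hminus, hdim, hle⟩ | ⟨Q, hq, hQ, hpol, hle⟩ |
    ⟨r, K, hr, hrn, hK, hsa, halt, hle⟩ | ⟨K, hq, hK, hadj, hnsa, hle⟩ |
    ⟨n₁, n₂, e', P, f₁, f₂, hq, hn₁, hnn, hn₂, h₁, h₂, hT, hle⟩ | ⟨k, t, e', P, f₁, hq, ht, ht3, hq3', h₁, hT, hle⟩ |
    hres
  · refine Or.inl ⟨W, h0, hts, Cfsg.Agent.Lead.AschO.eq_inf_of_le' hH hle (hnot.subspace W h0 ?_)⟩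
    rintro rfl
    obtain ⟨u, v, huv⟩ := hne
    exact huv (hts u Submodule.mem_top v Submodule.mem_top)
  · -- a non-degenerate subspace of dimension `< 2`: impossible
    exfalso
    have hpos : 0 < Module.finrank F W := by
      rcases Nat.eq_zero_or_pos (Module.finrank F W) with h | h
      · exact absurd (Submodule.finrank_eq_zero.1 h) h0
      · exact h
    have h1 : Module.finrank F W = 1 := by omega
    obtain ⟨w, hw0, hspan⟩ := finrank_eq_one_iff'.1 h1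
    have hw0' : (w : Fin 2 ⊕ Fin 2 → F) ≠ 0 := fun h => hw0 (Subtype.ext h)
    obtain ⟨-, x, hx, hfx⟩ := hnd w w.2 hw0'
    obtain ⟨c, hc⟩ := hspan ⟨x, hx⟩
    have hxw : x = c • (w : Fin 2 ⊕ Fin 2 → F) := by
      have := congrArg Subtype.val hc
      simpa using this.symm
    apply hfx
    rw [hxw, Cfsg.Agent.Helper7.Symp.sympForm_smul_right, Cfsg.Agent.Helper7.Symp.sympForm_self, mul_zero]
  · -- a non-degenerate decomposition: `t = k = 2`
    have ht2 := hD.decomp.two_le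
    obtain ⟨a, ha⟩ := hev
    have hkpos := hD.decomp.pos
    have hk2 : k = 2 := by
      subst ha
      have : t * (a + a) = 2 * (t * a) := by ring
      have hta : t * a = 2 := by omega
      have ha1 : a = 1 := by
        rcases Nat.lt_or_ge a 2 with h | h
        · omega
        · nlinarith
      omega
    subst hk2
    have ht : t = 2 := by omega
    subst ht
    exact Or.inr (Or.inl ⟨D, hD, Cfsg.Agent.Lead.AschO.eq_inf_of_le' hH hle (hnot.decomp 2 D hD.decomp)⟩)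
  · -- a pair of totally singular planes
    rcases hq35 with h3 | h5
    · obtain ⟨D', hD', hle'⟩ := hC h3 D hD hts
      have hle'' : H ≤ decompositionStabilizer D' := fun g hg => hle' (Subgroup.mem_inf.2 ⟨hle hg, hH.1.le hg⟩)
      exact Or.inr (Or.inl ⟨D', hD',
        Cfsg.Agent.Lead.AschO.eq_inf_of_le' hH hle'' (hnot.decomp 2 D' hD'.decomp)⟩)
    · exact Or.inr (Or.inr (Or.inl ⟨h5, D, hD, hts,
        Cfsg.Agent.Lead.AschO.eq_inf_of_le' hH hle (hnot.decomp 2 D hD)⟩))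
  · exact Or.inr (Or.inr (Or.inr (Or.inr (Or.inr (Or.inl ⟨F₀, r, P, ζ, hr, hcd, hζ, hrat,
      Cfsg.Agent.Lead.AschO.eq_inf_of_le' hH hle
        (hnot.subfield F₀ (Cfsg.Agent.Lead.Asch.subfield_ne_top_of_card F₀ r hr hcd) P)⟩)))))
  · -- class 6: `k = 2`
    have hk : k = 2 := by
      have h4 : 2 ^ k = 2 ^ 2 := by rw [← hdim]; norm_num
      exact Nat.pow_right_injective (le_refl 2) h4
    subst hk
    exact Or.inr (Or.inr (Or.inr (Or.inr (Or.inr (Or.inr (Or.inl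
      (exit6 R p hp hFp hst habs hfixR (by rw [hcR]; norm_num) hcen hminus hle)))))))
  · exact absurd hodd hq
  · -- a self-adjoint field: `r = 2`
    have hr2 : r = 2 := by
      have h22 : r ∣ 2 ^ 2 := by norm_num; exact hrn
      exact (Nat.prime_dvd_prime_iff_eq hr Nat.prime_two).1 (hr.dvd_of_dvd_pow h22)
    subst hr2
    exact Or.inr (Or.inr (Or.inr (Or.inl ⟨K, hK, hsa, halt,
      Cfsg.Agent.Lead.AschO.eq_inf_of_le' hH hle (hnot.field 2 K (le_refl 2) hK)⟩)))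
  · -- an adjoint-closed, not self-adjoint field
    rcases hq35 with h3 | h5
    · obtain ⟨R, hst, habs, hfixR, hcR, hcen, hminus, hle'⟩ := adj_field_three h3 (hDR h3) K hK hadj hnsa
      have hle'' : H ≤ subgroupNormalizer R := fun g hg => hle' (Subgroup.mem_inf.2 ⟨hle hg, hH.1.le hg⟩)
      exact Or.inr (Or.inr (Or.inr (Or.inr (Or.inr (Or.inr (Or.inl
        (exit6 R 3 Nat.prime_three h3 hst habs hfixR hcR hcen hminus hle'')))))))
    · exact Or.inr (Or.inr (Or.inr (Or.inr (Or.inl ⟨h5, K, hK, hadj, hnsa,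
        Cfsg.Agent.Lead.AschO.eq_inf_of_le' hH hle (hnot.field 2 K (le_refl 2) hK)⟩))))
  · -- a tensor product `n₁ n₂ = 4`, `n₁ ≥ 2`, `n₂ ≥ 3`: impossible
    exfalso
    nlinarith
  · -- a tensor power `k ^ t = 4`, `t ≥ 3`: impossible
    exfalso
    have hcard : 4 = k ^ t := by
      have := Fintype.card_congr e'
      simpa using this
    rcases Nat.lt_or_ge k 2 with hk | hk
    · interval_cases k
      · rw [zero_pow (by omega)] at hcard; omega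
      · rw [one_pow] at hcard; omega
    · have : 2 ^ 3 ≤ k ^ t := (Nat.pow_le_pow_left hk 3).trans (Nat.pow_le_pow_right (by omega) ht3)
      omega
  · exact Or.inr (Or.inr (Or.inr (Or.inr (Or.inr (Or.inr (Or.inr hres))))))

end Cfsg.Agent.Helper1.AschSp43
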