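import Mathlib
import Cfsg.Prelude.Def_GeometricClasses

/-!
# Minus type for 2-groups of isometries of a symplectic form (helper1)

`isOfMinusType_of_symplectic`: a subgroup `N ≤ GL_n(F)`, `n = 2 ^ k`, `2 ≠ 0` in `F`, of isometries of a
non-degenerate alternating form, in which every non-scalar element is conjugate to its negative, has no
elementary abelian 2-subgroup of order `2 ^ (k + 1)`: `IsOfMinusType k N`.
-/

set_option autoImplicit false
set_option linter.unusedVariables false
set_option linter.unusedSectionVars false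

namespace Cfsg.Agent.Helper1.AschSp

open Cfsg Cfsg.Geo
open scoped MatrixGroups Matrix

section LemmaX

variable {F : Type*} [Field F] {V : Type*} [AddCommGroup V] [Module F V]

/-- Restriction of endomorphisms of `V` to a submodule `W`. -/
noncomputable def mtRes (W : Submodule F V) : Module.End F V →ₗ[F] (W →ₗ[F] V) :=
  LinearMap.lcomp F V W.subtype

lemma mtRes_apply (W : Submodule F V) (g : Module.End F V) (w : W) : mtRes W g w = g (w : V) := rfl

lemma mt_eq_neg_vec (h2 : (2 : F) ≠ 0) {x : V} (h : x = -x) : x = 0 := by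
  have h1 : (2 : F) • x = 0 := by rw [two_smul]; exact add_eq_zero_iff_eq_neg.2 h
  exact (smul_eq_zero.1 h1).resolve_left h2

lemma mt_eq_neg_scalar (h2 : (2 : F) ≠ 0) {c : F} (h : c = -c) : c = 0 :=
  mt_eq_neg_vec (V := F) h2 h

lemma mtRes_finrank_le [FiniteDimensional F V] (M : Submodule F (Module.End F V))
    {W Wp Wm : Submodule F V} (hp : Wp ≤ W) (hm : Wm ≤ W) (hsup : W ≤ Wp ⊔ Wm) :
    Module.finrank F (M.map (mtRes W)) ≤
      Module.finrank F (M.map (mtRes Wp)) + Module.finrank F (M.map (mtRes Wm)) := by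
  classical
  obtain ⟨Θ, hΘ⟩ : ∃ Θ : (W →ₗ[F] V) →ₗ[F] (Wp →ₗ[F] V) × (Wm →ₗ[F] V),
      Θ = LinearMap.prod (LinearMap.lcomp F V (Submodule.inclusion hp))
        (LinearMap.lcomp F V (Submodule.inclusion hm)) := ⟨_, rfl⟩
  have hΘ1 : ∀ (g : W →ₗ[F] V) (u : Wp), (Θ g).1 u = g ⟨u, hp u.2⟩ := by
    intro g u; rw [hΘ]; rfl
  have hΘ2 : ∀ (g : W →ₗ[F] V) (u : Wm), (Θ g).2 u = g ⟨u, hm u.2⟩ := by
    intro g u; rw [hΘ]; rfl
  have hinj : Function.Injective Θ := by
    rw [← LinearMap.ker_eq_bot, LinearMap.ker_eq_bot']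
    intro g hg
    have h1 : ∀ u : Wp, g ⟨u, hp u.2⟩ = 0 := fun u => by
      rw [← hΘ1, hg]; rfl
    have h2 : ∀ v : Wm, g ⟨v, hm v.2⟩ = 0 := fun v => by
      rw [← hΘ2, hg]; rfl
    ext w
    obtain ⟨u, hu, v, hv, huv⟩ := Submodule.mem_sup.1 (hsup w.2)
    have hw : w = (⟨u, hp hu⟩ : W) + ⟨v, hm hv⟩ := Subtype.ext huv.symm
    rw [hw, map_add, h1 ⟨u, hu⟩, h2 ⟨v, hv⟩]
    simp
  calc Module.finrank F (M.map (mtRes W))
      = Module.finrank F ((M.map (mtRes W)).map Θ) :=
        LinearEquiv.finrank_eq (Submodule.equivMapOfInjective Θ hinj _)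
    _ ≤ Module.finrank F (LinearMap.range
          (LinearMap.prodMap (M.map (mtRes Wp)).subtype (M.map (mtRes Wm)).subtype)) := by
        apply Submodule.finrank_mono
        rintro _ ⟨_, ⟨x, hx, rfl⟩, rfl⟩
        refine ⟨(⟨mtRes Wp x, Submodule.mem_map_of_mem hx⟩, ⟨mtRes Wm x, Submodule.mem_map_of_mem hx⟩), ?_⟩
        refine Prod.ext ?_ ?_
        · ext u
          rw [hΘ1]; rfl
        · ext u
          rw [hΘ2]; rfl
    _ ≤ Module.finrank F (↥(M.map (mtRes Wp)) × ↥(M.map (mtRes Wm))) := LinearMap.finrank_range_le _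
    _ = _ := Module.finrank_prod

/-- **Lemma X**: a set `S` of commuting involutions, self-adjoint for a non-degenerate alternating form on `W`,
spans (restricted to `W`) a space of dimension at most `dim W / 2`. -/
theorem mt_lemmaX [FiniteDimensional F V] (h2 : (2 : F) ≠ 0) (B : LinearMap.BilinForm F V)
    (hB : ∀ v, B v v = 0) (S : Set (Module.End F V))
    (hcomm : ∀ a ∈ S, ∀ b ∈ S, ∀ v, a (b v) = b (a v))
    (hinv : ∀ a ∈ S, ∀ v, a (a v) = v)
    (hadj : ∀ a ∈ S, ∀ u v, B (a u) v = B u (a v)) :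
    ∀ (d : ℕ) (W : Submodule F V), Module.finrank F W = d → (∀ a ∈ S, ∀ w ∈ W, a w ∈ W) →
      (∀ w ∈ W, (∀ w' ∈ W, B w w' = 0) → w = 0) →
      2 * Module.finrank F ((Submodule.span F S).map (mtRes W)) ≤ Module.finrank F W := by
  intro d
  induction d using Nat.strong_induction_on with
  | _ d ih =>
  intro W hd hinvW hnd
  by_cases hsc : ∀ a ∈ S, ∃ c : F, ∀ w ∈ W, a w = c • w
  · have hle : (Submodule.span F S).map (mtRes W) ≤ Submodule.span F {W.subtype} := by
      rw [Submodule.map_span]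
      refine Submodule.span_le.2 ?_
      rintro _ ⟨a, ha, rfl⟩
      obtain ⟨c, hc⟩ := hsc a ha
      have hac : mtRes W a = c • W.subtype := by
        ext w
        rw [mtRes_apply, LinearMap.smul_apply, Submodule.subtype_apply]; exact hc w w.2
      rw [hac]
      exact Submodule.smul_mem _ _ (Submodule.mem_span_singleton_self _)
    have h1 : Module.finrank F ((Submodule.span F S).map (mtRes W)) ≤ 1 := by
      refine (Submodule.finrank_mono hle).trans ?_
      exact (finrank_span_le_card _).trans (by simp)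
    rcases Nat.lt_or_ge (Module.finrank F W) 2 with hlt | hge
    · have h01 : Module.finrank F W = 0 ∨ Module.finrank F W = 1 := by omega
      rcases h01 with hW | hW
      · have h0 : Module.finrank F (W →ₗ[F] V) = 0 := by
          rw [Module.finrank_linearMap, hW, zero_mul]
        have h3 := Submodule.finrank_le ((Submodule.span F S).map (mtRes W))
        omega
      · exfalso
        obtain ⟨w, hw0, hw⟩ := finrank_eq_one_iff'.1 hW
        apply hw0
        have hz : (w : V) = 0 := hnd w w.2 (fun w' hw' => by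
          obtain ⟨c, hc⟩ := hw ⟨w', hw'⟩
          have hc' : w' = c • (w : V) := by
            have := congrArg Subtype.val hc
            simpa using this.symm
          rw [hc', map_smul, hB, smul_zero])
        exact Subtype.ext hz
    · omega
  · push Not at hsc
    obtain ⟨a, ha, hns⟩ := hsc
    have haa := hinv a ha
    obtain ⟨Wp, hWp⟩ : ∃ Wp : Submodule F V, Wp = W ⊓ LinearMap.ker (a - 1) := ⟨_, rfl⟩
    obtain ⟨Wm, hWm⟩ : ∃ Wm : Submodule F V, Wm = W ⊓ LinearMap.ker (a + 1) := ⟨_, rfl⟩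
    have memp : ∀ w, w ∈ Wp ↔ w ∈ W ∧ a w = w := by
      intro w
      rw [hWp, Submodule.mem_inf, LinearMap.mem_ker, LinearMap.sub_apply, Module.End.one_apply,
        sub_eq_zero]
    have memm : ∀ w, w ∈ Wm ↔ w ∈ W ∧ a w = -w := by
      intro w
      rw [hWm, Submodule.mem_inf, LinearMap.mem_ker, LinearMap.add_apply, Module.End.one_apply,
        add_eq_zero_iff_eq_neg]
    have hp : Wp ≤ W := fun w hw => ((memp w).1 hw).1
    have hm : Wm ≤ W := fun w hw => ((memm w).1 hw).1
    have h2' : (2 : F)⁻¹ * 2 = 1 := inv_mul_cancel₀ h2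
    have hsup : W ≤ Wp ⊔ Wm := by
      intro w hw
      have haw := hinvW a ha w hw
      refine Submodule.mem_sup.2 ⟨(2 : F)⁻¹ • (w + a w), ?_, (2 : F)⁻¹ • (w - a w), ?_, ?_⟩
      · refine (memp _).2 ⟨W.smul_mem _ (W.add_mem hw haw), ?_⟩
        rw [map_smul, map_add, haa, add_comm]
      · refine (memm _).2 ⟨W.smul_mem _ (W.sub_mem hw haw), ?_⟩
        rw [map_smul, map_sub, haa, ← smul_neg, neg_sub]
      · rw [← smul_add, add_add_sub_cancel, ← two_smul F w, smul_smul, h2', one_smul]
    have hinf : Wp ⊓ Wm = ⊥ := by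
      rw [eq_bot_iff]
      intro w hw
      obtain ⟨h1, h3⟩ := Submodule.mem_inf.1 hw
      have e1 := ((memp w).1 h1).2
      have e2 := ((memm w).1 h3).2
      exact (Submodule.mem_bot F).2 (mt_eq_neg_vec h2 (e1.symm.trans e2))
    have horth : ∀ u ∈ Wp, ∀ v ∈ Wm, B u v = 0 := by
      intro u hu v hv
      have e1 := ((memp u).1 hu).2
      have e2 := ((memm v).1 hv).2
      apply mt_eq_neg_scalar h2
      calc B u v = B (a u) v := by rw [e1]
        _ = B u (a v) := hadj a ha u v
        _ = - B u v := by rw [e2, map_neg]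
    have horth' : ∀ u ∈ Wp, ∀ v ∈ Wm, B v u = 0 := by
      intro u hu v hv
      have e1 := ((memp u).1 hu).2
      have e2 := ((memm v).1 hv).2
      apply mt_eq_neg_scalar h2
      calc B v u = B v (a u) := by rw [e1]
        _ = B (a v) u := (hadj a ha v u).symm
        _ = - B v u := by rw [e2, map_neg, LinearMap.neg_apply]
    have hndp : ∀ w ∈ Wp, (∀ w' ∈ Wp, B w w' = 0) → w = 0 := by
      intro w hw h
      apply hnd w (hp hw)
      intro w' hw'
      obtain ⟨u, hu, v, hv, rfl⟩ := Submodule.mem_sup.1 (hsup hw')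
      rw [map_add, h u hu, horth w hw v hv, add_zero]
    have hndm : ∀ w ∈ Wm, (∀ w' ∈ Wm, B w w' = 0) → w = 0 := by
      intro w hw h
      apply hnd w (hm hw)
      intro w' hw'
      obtain ⟨u, hu, v, hv, rfl⟩ := Submodule.mem_sup.1 (hsup hw')
      rw [map_add, h v hv, horth' u hu w hw, zero_add]
    have hinvp : ∀ b ∈ S, ∀ w ∈ Wp, b w ∈ Wp := by
      intro b hb w hw
      obtain ⟨h1, e1⟩ := (memp w).1 hw
      exact (memp _).2 ⟨hinvW b hb w h1, by rw [hcomm a ha b hb, e1]⟩
    have hinvm : ∀ b ∈ S, ∀ w ∈ Wm, b w ∈ Wm := by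
      intro b hb w hw
      obtain ⟨h1, e1⟩ := (memm w).1 hw
      exact (memm _).2 ⟨hinvW b hb w h1, by rw [hcomm a ha b hb, e1, map_neg]⟩
    have hdim : Module.finrank F Wp + Module.finrank F Wm = Module.finrank F W := by
      have h3 := Submodule.finrank_sup_add_finrank_inf_eq Wp Wm
      rw [hinf, finrank_bot, add_zero, le_antisymm (sup_le hp hm) hsup] at h3
      exact h3.symm
    have hpos_m : 0 < Module.finrank F Wm := by
      by_contra h0
      have hbot : Wm = ⊥ := Submodule.finrank_eq_zero.1 (Nat.eq_zero_of_not_pos h0)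
      obtain ⟨w, hw, hne⟩ := hns 1
      apply hne
      have h3 : w - a w ∈ Wm :=
        (memm _).2 ⟨W.sub_mem hw (hinvW a ha w hw), by rw [map_sub, haa, neg_sub]⟩
      rw [hbot, Submodule.mem_bot, sub_eq_zero] at h3
      rw [one_smul]; exact h3.symm
    have hpos_p : 0 < Module.finrank F Wp := by
      by_contra h0
      have hbot : Wp = ⊥ := Submodule.finrank_eq_zero.1 (Nat.eq_zero_of_not_pos h0)
      obtain ⟨w, hw, hne⟩ := hns (-1)
      apply hne
      have h3 : w + a w ∈ Wp :=
        (memp _).2 ⟨W.add_mem hw (hinvW a ha w hw), by rw [map_add, haa, add_comm]⟩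
      rw [hbot, Submodule.mem_bot, add_eq_zero_iff_neg_eq] at h3
      rw [neg_smul, one_smul]; exact h3.symm
    have ihp := ih (Module.finrank F Wp) (by omega) Wp rfl hinvp hndp
    have ihm := ih (Module.finrank F Wm) (by omega) Wm rfl hinvm hndm
    have h3 := mtRes_finrank_le (Submodule.span F S) hp hm hsup
    omega

/-- Lemma X for the whole space. -/
theorem mt_finrank_span_le [FiniteDimensional F V] (h2 : (2 : F) ≠ 0) (B : LinearMap.BilinForm F V)
    (hB : ∀ v, B v v = 0) (hnd : ∀ w, (∀ w', B w w' = 0) → w = 0) (S : Set (Module.End F V))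
    (hcomm : ∀ a ∈ S, ∀ b ∈ S, ∀ v, a (b v) = b (a v))
    (hinv : ∀ a ∈ S, ∀ v, a (a v) = v)
    (hadj : ∀ a ∈ S, ∀ u v, B (a u) v = B u (a v)) :
    2 * Module.finrank F (Submodule.span F S) ≤ Module.finrank F V := by
  have h := mt_lemmaX h2 B hB S hcomm hinv hadj _ ⊤ rfl (fun _ _ _ _ => Submodule.mem_top)
    (fun w _ h => hnd w (fun w' => h w' Submodule.mem_top))
  rw [finrank_top] at h
  have hinj : Function.Injective (mtRes (⊤ : Submodule F V)) := by
    intro g g' hgg
    ext v
    have := congrArg (fun z => z ⟨v, Submodule.mem_top⟩) hgg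
    simpa [mtRes_apply] using this
  rw [← LinearEquiv.finrank_eq (Submodule.equivMapOfInjective _ hinj (Submodule.span F S))] at h
  exact h

end LemmaX

section Main

variable {n : ℕ} {F : Type*} [Field F]

/-- The bilinear form of a symplectic two-argument form. -/
noncomputable def mtBil {f : (Fin n → F) → (Fin n → F) → F} (hf : IsSymplecticForm f) :
    LinearMap.BilinForm F (Fin n → F) :=
  LinearMap.mk₂ F f hf.bilinear.add_left
    (fun c x v => by rw [hf.bilinear.smul_left, smul_eq_mul]) hf.bilinear.add_right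
    (fun c v x => by rw [hf.bilinear.smul_right, smul_eq_mul])

lemma mtBil_apply {f : (Fin n → F) → (Fin n → F) → F} (hf : IsSymplecticForm f) (u v : Fin n → F) :
    mtBil hf u v = f u v := rfl

/-- A scalar involution is `± 1`. -/
lemma mt_scalar_invol (hn : 0 < n) {m : Matrix (Fin n) (Fin n) F} (hm : m * m = 1) {c : F}
    (hc : m = c • (1 : Matrix (Fin n) (Fin n) F)) : m = 1 ∨ m = -1 := by
  have h1 : c * c = 1 := by
    have := congrFun (congrFun hm ⟨0, hn⟩) ⟨0, hn⟩
    rw [hc] at this
    simpa using this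
  rcases mul_self_eq_one_iff.1 h1 with h | h
  · left; rw [hc, h, one_smul]
  · right; rw [hc, h, neg_smul, one_smul]

/-- **Minus type from a symplectic form**: `N ≤ GL_n(F)`, `n = 2 ^ k`, `2 ≠ 0`, fixing a symplectic form, with every
non-scalar element conjugate in `N` to its negative, has no elementary abelian 2-subgroup of order `2 ^ (k + 1)`. -/
theorem isOfMinusType_of_symplectic {k : ℕ} (hnk : n = 2 ^ k) (h2 : (2 : F) ≠ 0)
    {f : (Fin n → F) → (Fin n → F) → F} (hf : IsSymplecticForm f)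
    {N : Subgroup (GL (Fin n) F)} (hfix : FixesForm (matrixSet N) f)
    (hanti : ∀ a ∈ N, a ∉ scalars (Fin n) F → ∃ y ∈ N,
      ((y * a * y⁻¹ : GL (Fin n) F) : Matrix (Fin n) (Fin n) F) = - (a : Matrix (Fin n) (Fin n) F)) :
    IsOfMinusType k N := by
  classical
  intro A hAc hAinv
  rcases finite_or_infinite A with hfin | hinf
  swap
  · rw [Nat.card_eq_zero_of_infinite]; positivity
  have hn : 0 < n := by rw [hnk]; positivity
  have hnF : (n : F) ≠ 0 := by
    rw [hnk, Nat.cast_pow, Nat.cast_ofNat]; exact pow_ne_zero k h2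
  obtain ⟨mat, hmat⟩ : ∃ mat : A → Matrix (Fin n) (Fin n) F,
      mat = fun x : A => (x.1.1 : GL (Fin n) F).val := ⟨_, rfl⟩
  have mat_def : ∀ x : A, mat x = (x.1.1 : GL (Fin n) F).val := by
    intro x; rw [hmat]
  have mat_mul : ∀ x y : A, mat (x * y) = mat x * mat y := by
    intro x y; rw [hmat]; simp
  have mat_inj : Function.Injective mat := by
    intro x y hxy
    rw [hmat] at hxy
    exact Subtype.ext (Subtype.ext (Units.ext hxy))
  have mat_sq : ∀ x : A, mat x * mat x = 1 := by
    intro x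
    have h := hAinv x x.2
    rw [← mat_mul]
    have hx : x * x = 1 := Subtype.ext h
    rw [hx, hmat]; simp
  have mat_comm : ∀ x y : A, mat x * mat y = mat y * mat x := by
    intro x y
    rw [← mat_mul, ← mat_mul, hAc.is_comm.comm x y]
  have mat_memN : ∀ x : A, mat x ∈ matrixSet N := by
    intro x; rw [hmat]; exact ⟨((x : N) : GL (Fin n) F), (x : N).2, rfl⟩
  -- the scalar part
  obtain ⟨Z, hZ⟩ : ∃ Z : Subgroup A,
      Z = (scalars (Fin n) F).comap ((Subgroup.subtype N).comp (Subgroup.subtype A)) := ⟨_, rfl⟩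
  have memZ : ∀ x : A, x ∈ Z ↔ ((x : N) : GL (Fin n) F) ∈ scalars (Fin n) F := by
    intro x; rw [hZ, Subgroup.mem_comap]; rfl
  have hZpm : ∀ x : A, x ∈ Z → mat x = 1 ∨ mat x = -1 := by
    intro x hx
    obtain ⟨c, hc⟩ := (mem_scalars_iff _).1 ((memZ x).1 hx)
    exact mt_scalar_invol hn (mat_sq x) (c := (c : F)) (by rw [hmat]; exact hc)
  have hZcard : Nat.card Z ≤ 2 := by
    have hinj : Function.Injective (fun z : Z => decide (mat (z : A) = 1)) := by
      intro z z' hzz
      have hzz' : (mat (z : A) = 1) ↔ (mat (z' : A) = 1) := by simpa using hzz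
      apply Subtype.ext
      apply mat_inj
      by_cases h1 : mat (z : A) = 1
      · rw [h1, hzz'.1 h1]
      · have h3 : mat (z' : A) ≠ 1 := fun h => h1 (hzz'.2 h)
        rw [(hZpm _ z.2).resolve_left h1, (hZpm _ z'.2).resolve_left h3]
    have := Nat.card_le_card_of_injective _ hinj
    rwa [Nat.card_eq_fintype_card (α := Bool), Fintype.card_bool] at this
  -- the transversal
  haveI : Fintype (A ⧸ Z) := Fintype.ofFinite _
  obtain ⟨v, hv⟩ : ∃ v : A ⧸ Z → Matrix (Fin n) (Fin n) F, v = fun q => mat (Quotient.out q) := ⟨_, rfl⟩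
  have inv_self : ∀ x : A, x⁻¹ = x := by
    intro x
    have hx : x * x = 1 := Subtype.ext (hAinv x x.2)
    exact (eq_inv_of_mul_eq_one_left hx).symm
  have htr0 : ∀ x : A, x ∉ Z → Matrix.trace (mat x) = 0 := by
    intro x hx
    have hns : ((x : N) : GL (Fin n) F) ∉ scalars (Fin n) F := fun h => hx ((memZ x).2 h)
    obtain ⟨y, hy, hya⟩ := hanti _ (x : N).2 hns
    have h3 : Matrix.trace (mat x) = - Matrix.trace (mat x) := by
      have h4 := Matrix.trace_units_conj y (mat x)
      rw [← Matrix.trace_neg, ← h4]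
      congr 1
      rw [mat_def x, ← hya, Units.val_mul, Units.val_mul]
    exact mt_eq_neg_scalar h2 h3
  have htr : ∀ q₀ q : A ⧸ Z, Matrix.trace (mat (Quotient.out q₀) * v q) = if q = q₀ then (n : F) else 0 := by
    intro q₀ q
    rw [hv]
    by_cases hq : q = q₀
    · rw [if_pos hq, hq, mat_sq, Matrix.trace_one, Fintype.card_fin]
    · rw [if_neg hq, ← mat_mul]
      apply htr0
      intro hmem
      apply hq
      rw [← QuotientGroup.out_eq' q, ← QuotientGroup.out_eq' q₀]
      refine (QuotientGroup.eq.2 ?_).symm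
      rw [inv_self]; exact hmem
  have hli : LinearIndependent F v := by
    rw [Fintype.linearIndependent_iff]
    intro g hg q₀
    have h3 := congrArg (fun M => Matrix.trace (mat (Quotient.out q₀) * M)) hg
    simp only [Matrix.mul_sum, Matrix.trace_sum, Matrix.mul_smul, Matrix.trace_smul, htr, mul_zero,
      Matrix.trace_zero, smul_eq_mul, mul_ite, Finset.sum_ite_eq', Finset.mem_univ, if_true] at h3
    exact (mul_eq_zero.1 h3).resolve_right hnF
  -- Lemma X
  obtain ⟨S, hS⟩ : ∃ S : Set (Module.End F (Fin n → F)),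
      S = Set.range (fun x : A => Matrix.toLin' (mat x)) := ⟨_, rfl⟩
  have hX : 2 * Module.finrank F (Submodule.span F S) ≤ Module.finrank F (Fin n → F) := by
    refine mt_finrank_span_le h2 (mtBil hf) (fun v => hf.alternating v) ?_ S ?_ ?_ ?_
    · intro w hw
      by_contra hw0
      obtain ⟨x, hx⟩ := (hf.nondegenerate w hw0).2
      exact hx (hw x)
    · rw [hS]
      rintro _ ⟨x, rfl⟩ _ ⟨y, rfl⟩ u
      simp only [Matrix.toLin'_apply, Matrix.mulVec_mulVec, mat_comm x y]
    · rw [hS]
      rintro _ ⟨x, rfl⟩ u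
      simp only [Matrix.toLin'_apply, Matrix.mulVec_mulVec, mat_sq, Matrix.one_mulVec]
    · rw [hS]
      rintro _ ⟨x, rfl⟩ u w
      simp only [Matrix.toLin'_apply, mtBil_apply]
      have h3 := hfix (mat x) (mat_memN x) u (mat x *ᵥ w)
      rw [Matrix.mulVec_mulVec, mat_sq, Matrix.one_mulVec] at h3
      exact h3
  rw [Module.finrank_fin_fun] at hX
  have hli' : LinearIndependent F (fun q => Matrix.toLin' (v q)) :=
    hli.map' (Matrix.toLin' : Matrix (Fin n) (Fin n) F ≃ₗ[F] _).toLinearMap (LinearEquiv.ker _)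
  have hle : Submodule.span F (Set.range fun q => Matrix.toLin' (v q)) ≤ Submodule.span F S := by
    apply Submodule.span_mono
    rintro _ ⟨q, rfl⟩
    rw [hS, hv]
    exact ⟨Quotient.out q, rfl⟩
  have h5 := Submodule.finrank_mono hle
  rw [finrank_span_eq_card hli', ← Nat.card_eq_fintype_card] at h5
  have h6 := Subgroup.card_eq_card_quotient_mul_card_subgroup Z
  obtain ⟨P, hP⟩ : ∃ P, P = 2 ^ k := ⟨_, rfl⟩
  have h7 : 2 ^ (k + 1) = 2 * P := by rw [hP]; ring
  have h8 : 0 < P := by rw [hP]; positivity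
  rw [h7, h6]
  have hnP : n = P := by rw [hP]; exact hnk
  have h10 : 2 * Nat.card (A ⧸ Z) ≤ n := le_trans (Nat.mul_le_mul_left 2 h5) hX
  clear hX h5
  have h9 : Nat.card (A ⧸ Z) * Nat.card Z ≤ Nat.card (A ⧸ Z) * 2 := Nat.mul_le_mul_left _ hZcard
  omega

end Main

end Cfsg.Agent.Helper1.AschSp
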