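import Mathlib
import Cfsg.Prelude.Def_GeometricClasses
import Cfsg.Agent.Helper1.AschSpBase
import Cfsg.Agent.Helper1.AschSpSub
import Cfsg.Agent.Helper1.AschSpAdj
import Cfsg.Agent.Helper1.AschSpCliff
import Cfsg.Agent.Helper2.AschSpA
import Cfsg.Agent.Helper5.AschSpU
import Cfsg.Agent.Helper8.AschSpDvd
import Cfsg.Agent.Helper8.AschSpEven

/-!
# ASCH-COMP-Sp: all the pieces of the generic theorem (helper1 collects; owners: helper2, helper5, helper7, helper8, helper1)
-/

set_option autoImplicit false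

namespace Cfsg.Agent.Helper1.AschSp

open Cfsg Cfsg.Geo Cfsg.Agent.Lead.Asch
open scoped MatrixGroups Matrix Kronecker

/-- the pieces of the generic theorem, for `0 < n`, `¬ 4 ∣ n` -/
theorem spPieces {n : ℕ} {F : Type*} [Field F] [Fintype F] (hn : 0 < n) (h4 : ¬ 4 ∣ n) : SpPieces n F where
  reducible := Cfsg.Agent.Helper2.AschSp.reducible
  evenRank := Cfsg.Agent.Helper2.AschSp.evenRank
  clifford := fun f hf {_ _} => clifford_symp hn h4 f hf
  adjOdd := fun _ hf r K hr hK hadj => adjOdd_symp hf r K hr hK hadj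
  altOfSelfAdj := Cfsg.Agent.Helper8.AschSp.altOfSelfAdj
  dvdOfSelfAdj := Cfsg.Agent.Helper8.AschSp.dvdOfSelfAdj
  evenDecomp := Cfsg.Agent.Helper8.AschSp.evenDecomp
  evenPair := Cfsg.Agent.Helper8.AschSp.evenPair
  evenField := Cfsg.Agent.Helper8.AschSp.evenField
  tensor33 := Cfsg.Agent.Helper2.AschSp.tensor33
  tensorSwap := tensorSwap_symp
  subfield := subfield_symp
  quadOdd := quadOdd_symp hn
  quadEven := Cfsg.Agent.Helper8.AschSp.quadEven
  unitary := Cfsg.Agent.Helper5.AschSp.unitary hn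

end Cfsg.Agent.Helper1.AschSp
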