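import Mathlib
import Cfsg.Prelude.Def_GeometricClasses
import Cfsg.Agent.Lead.AschArith
import Cfsg.Agent.Helper3.AschUArith
import Cfsg.Agent.Helper3.AschUMain
import Cfsg.Agent.Helper7.AschNotSUA
import Cfsg.Agent.Helper7.AschNotSUB
import Cfsg.Agent.Helper7.AschNotSUC
import Cfsg.Agent.Helper7.AschNotSUF

/-!
# ASCH-PRIME-U at `n = 3`: `SU_3(q)`, `q ≥ 3` (helper1)

* `not_le_decompositionStabilizer_SU3`: `SU_3(q)`, `q ≥ 3`, does not permute the lines of an orthogonal frame;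
* `arithU3`: the arithmetic of the symplectic-type class;
* `final3`: `asch_prime_unitary` at `n = 3`, with the six exceptional non-maximal geometric subgroups at
  `q = 3, 5` taken as hypotheses.
-/

set_option autoImplicit false

namespace Cfsg.Agent.Helper1.AschU3

open Cfsg Cfsg.Geo Matrix Cfsg.Agent.Lead.Asch Cfsg.Agent.Helper3.AschU
open Cfsg.Agent.Helper7.Herm Cfsg.Agent.Helper8.GUOrder Cfsg.Agent.Helper8.SURoot
  Cfsg.Agent.Helper8.AutSU Cfsg.Agent.Helper7.SUSimp Cfsg.Agent.S5653 Cfsg.Agent.Helper7.AschU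
open scoped MatrixGroups Matrix

variable {F : Type*} [Field F] [Fintype F]

/-- an element of the fixed field other than `0` and `-1`. -/
theorem exists_fixed {q : ℕ} (hF : Fintype.card F = q ^ 2) (hq : 3 ≤ q) :
    ∃ t : F, t ^ q = t ∧ t ≠ 0 ∧ t ≠ -1 := by
  classical
  by_cases h2 : (2 : F) = 0
  · have hex : ∃ x : F, x ≠ 0 ∧ x ^ (q + 1) ≠ 1 := by
      by_contra hcon
      push Not at hcon
      have hsub : (Finset.univ.filter (fun x : F => x ≠ 0)) ⊆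
          (Polynomial.nthRoots (q + 1) (1 : F)).toFinset := by
        intro x hx
        rw [Finset.mem_filter] at hx
        rw [Multiset.mem_toFinset, Polynomial.mem_nthRoots (by omega)]
        exact hcon x hx.2
      have hcard : (Finset.univ.filter (fun x : F => x ≠ 0)).card = q ^ 2 - 1 := by
        rw [Finset.filter_ne' Finset.univ (0 : F), Finset.card_erase_of_mem (Finset.mem_univ _),
          Finset.card_univ, hF]
      have h3 : (Polynomial.nthRoots (q + 1) (1 : F)).toFinset.card ≤ q + 1 :=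
        (Multiset.toFinset_card_le _).trans (Polynomial.card_nthRoots _ _)
      have h4 := Finset.card_le_card hsub
      rw [hcard] at h4
      have h5 : q ^ 2 - 1 ≤ q + 1 := h4.trans h3
      have h6 : 3 * q ≤ q ^ 2 := by nlinarith
      omega
    obtain ⟨x, hx0, hx1⟩ := hex
    refine ⟨x ^ (q + 1), ?_, pow_ne_zero _ hx0, ?_⟩
    · rw [← pow_mul]
      have h1 : 1 ≤ q ^ 2 := Nat.one_le_pow _ _ (by omega)
      have h7 : (q + 1) * q = (q ^ 2 - 1) + (q + 1) := by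
        have : (q + 1) * q = q ^ 2 + q := by ring
        omega
      rw [h7, pow_add, ← hF, FiniteField.pow_card_sub_one_eq_one x hx0, one_mul]
    · intro h
      apply hx1
      rw [h]
      linear_combination -h2
  · exact ⟨1, one_pow q, one_ne_zero, fun h => h2 (by linear_combination h)⟩

/-- piece U7 at `n = 3`: `SU_3(q)`, `q ≥ 3`, does not permute the lines of an orthogonal frame. -/
theorem not_le_decompositionStabilizer_SU3 (q : ℕ) (hF : Fintype.card F = q ^ 2) (hq : 3 ≤ q)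
    (D : Fin 3 → Submodule F (Fin 3 → F))
    (hD : IsNondegenerateMDecomposition (hermForm 3 F q) 1 D) :
    ¬ GU 3 F q ⊓ specialLinear (Fin 3) F ≤ decompositionStabilizer D := by
  intro hle
  have : Fact (Fintype.card F = q ^ 2) := ⟨hF⟩
  choose u huD hu1 using fun a : Fin 3 =>
    exists_unit_vector q hF (hD.decomp.finrank_eq a) (hD.nondegenerate a)
  have hO : ∀ a b : Fin 3, a ≠ b → hermForm 3 F q (u a) (u b) = 0 := fun a b hab =>
    hD.orthogonal a b hab (u a) (huD a) (u b) (huD b)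
  obtain ⟨t, htq, ht0, ht1⟩ := exists_fixed hF hq
  obtain ⟨b, hb⟩ := exists_norm hF ht0 htq
  have hb0 : b ≠ 0 := by
    rintro rfl
    rw [zero_mul] at hb
    exact ht0 hb.symm
  have hc' : (-1 - t : F) ≠ 0 := by
    intro h
    apply ht1
    linear_combination -h
  have hcq : (-1 - t : F) ^ q = -1 - t := by
    have h1 : (-1 - t : F) = 0 - (1 + t) := by ring
    rw [h1, sub_pow_q hF, add_pow_q hF, one_pow, htq, zero_pow (by omega)]
  obtain ⟨c, hc⟩ := exists_norm hF hc' hcq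
  have hc0 : c ≠ 0 := by
    rintro rfl
    rw [zero_mul] at hc
    exact hc' hc.symm
  set p : Fin 3 → F := u 0 + b • u 1 + c • u 2 with hp_def
  have hR : ∀ v, hermForm 3 F q v p = hermForm 3 F q v (u 0) + b ^ q * hermForm 3 F q v (u 1) +
      c ^ q * hermForm 3 F q v (u 2) := by
    intro v
    rw [hp_def, hermForm_add_right hF, hermForm_add_right hF, hermForm_smul_right, hermForm_smul_right]
  have hL : ∀ v, hermForm 3 F q p v = hermForm 3 F q (u 0) v + b * hermForm 3 F q (u 1) v +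
      c * hermForm 3 F q (u 2) v := by
    intro v
    rw [hp_def, hermForm_add_left, hermForm_add_left, hermForm_smul_left, hermForm_smul_left]
  have hp : hermForm 3 F q p p = 0 := by
    rw [hL p, hR (u 0), hR (u 1), hR (u 2), hu1 0, hu1 1, hu1 2,
      hO 0 1 (by decide), hO 0 2 (by decide), hO 1 0 (by decide), hO 1 2 (by decide),
      hO 2 0 (by decide), hO 2 1 (by decide)]
    linear_combination hb + hc
  have hu0p : hermForm 3 F q (u 0) p = 1 := by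
    rw [hR (u 0), hu1 0, hO 0 1 (by decide), hO 0 2 (by decide)]
    ring
  obtain ⟨s, hs0, hs⟩ := exists_tz_ne_zero (F := F) (q := q)
  obtain ⟨σ, hσ⟩ := hle (toGL_mem (TU q p s))
  have hy : u 0 + s • p ∈ D (σ 0) := by
    rw [← hσ 0]
    refine ⟨u 0, huD 0, ?_⟩
    rw [Matrix.toLin'_apply]
    change mt (TU q p s) *ᵥ u 0 = _
    rw [TU_mulVec hp hs, hu0p, mul_one]
  have key : ∀ a : Fin 3, hermForm 3 F q (u 0 + s • p) (u a) ≠ 0 → a = σ 0 := by
    intro a hne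
    by_contra hja
    exact hne (hD.orthogonal (σ 0) a (Ne.symm hja) _ hy _ (huD a))
  have h1 : (1 : Fin 3) = σ 0 := by
    apply key
    rw [hermForm_add_left, hermForm_smul_left, hL (u 1), hu1 1, hO 0 1 (by decide),
      hO 2 1 (by decide)]
    simpa using mul_ne_zero hs0 hb0
  have h2 : (2 : Fin 3) = σ 0 := by
    apply key
    rw [hermForm_add_left, hermForm_smul_left, hL (u 2), hu1 2, hO 0 2 (by decide),
      hO 1 2 (by decide)]
    simpa using mul_ne_zero hs0 hc0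
  exact absurd (h1.trans h2.symm) (by decide)

/-- the side conditions `NotSU` at `n = 3`, `q ≥ 3`. -/
theorem notSU3 (q : ℕ) (hF : Fintype.card F = q ^ 2) (hq : 3 ≤ q) : NotSU 3 F q :=
  ⟨fun W h0 h1 => not_le_subspaceStabilizer_SU q hF (by norm_num) W h0 h1,
   fun D hD => not_le_decompositionStabilizer_SU3 q hF hq D hD,
   fun K hK => not_le_subalgebraNormalizer_SU q hF (by norm_num) K hK,
   fun F₁ h1 Pm => not_le_subfieldSubgroup_SU q hF (by norm_num) F₁ h1 Pm,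
   fun R hR hsol hns => not_le_normalizer_of_solvable_SU q hF (by norm_num) (by omega) R hR hsol hns⟩

/-- the arithmetic of the symplectic-type class at `n = 3`. -/
theorem arithU3 {p e q : ℕ} (hmf : IsMinimalFieldFor 3 p e F) (hnp : 3 ≠ p)
    (hF : Fintype.card F = q ^ 2) : p.Prime ∧ q = p ∧ p % 3 = 2 := by
  obtain ⟨hp, hchar, hcard, hdvd, hmin⟩ := hmf
  obtain ⟨a, rfl, rfl⟩ := q_eq_pow hp (hcard.symm.trans hF)
  have hcard1 : 1 < Fintype.card F := Fintype.one_lt_card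
  have ha0 : 0 < a := by
    rcases Nat.eq_zero_or_pos a with rfl | h
    · simp at hcard; omega
    · exact h
  have hle := exp_le (by norm_num) hp hnp (by omega) hmin
  have hpm : p % 3 ≠ 0 := by
    intro h0
    have : 3 ∣ p := Nat.dvd_of_mod_eq_zero h0
    exact hnp ((Nat.prime_dvd_prime_iff_eq (by norm_num) hp).1 this)
  have hlt : p % 3 < 3 := Nat.mod_lt _ (by norm_num)
  have hmin' : ∀ d : ℕ, 0 < d → d < 2 * a → ¬ (p % 3) ^ d % 3 = 1 % 3 := by
    intro d h0 h1 h2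
    exact hmin d h0 h1 (by rw [dvd_pow_sub_one_iff hp.pos, pow_mod_eq]; exact h2)
  have ha1 : a = 1 := by omega
  subst ha1
  refine ⟨hp, by simp, ?_⟩
  have h1 := hmin' 1 (by norm_num) (by norm_num)
  generalize p % 3 = b at *
  interval_cases b <;> simp_all

/-- `asch_prime_unitary` at `n = 3` for `q ≥ 3`, with the exceptional non-maximal geometric subgroups at
`q = 3, 5` as hypotheses. -/
theorem final3 (q : ℕ) (hF : Fintype.card F = q ^ 2) (hq : 3 ≤ q)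
    (hE1 : (q = 3 ∨ q = 5) → ∀ K : Subalgebra F (Matrix (Fin 3) (Fin 3) F), Cfsg.Geo.IsFieldSubalgebra 3 K →
      Cfsg.Geo.IsAdjointClosedFor (Cfsg.hermForm 3 F q) K →
      ¬ Cfsg.Geo.IsMaximalIn (Cfsg.GU 3 F q ⊓ Cfsg.Geo.specialLinear (Fin 3) F) (Cfsg.Geo.subalgebraNormalizer K ⊓ (Cfsg.GU 3 F q ⊓ Cfsg.Geo.specialLinear (Fin 3) F)))
    (hE2 : q = 3 → ∀ (F₀ : Subfield F) (P : Matrix.GeneralLinearGroup (Fin 3) F),
      Fintype.card F = Nat.card F₀ ^ 2 → Cfsg.Geo.IsFormRationalStructure (Cfsg.hermForm 3 F q) F₀ 1 P →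
      ∃ D : Fin 3 → Submodule F (Fin 3 → F), Cfsg.Geo.IsNondegenerateMDecomposition (Cfsg.hermForm 3 F q) 1 D ∧
        Cfsg.Geo.subfieldSubgroup F₀ P ⊓ (Cfsg.GU 3 F q ⊓ Cfsg.Geo.specialLinear (Fin 3) F) ≤ Cfsg.Geo.decompositionStabilizer D)
    (hE3 : q = 5 → ∀ D : Fin 3 → Submodule F (Fin 3 → F),
      Cfsg.Geo.IsNondegenerateMDecomposition (Cfsg.hermForm 3 F q) 1 D →
      ¬ Cfsg.Geo.IsMaximalIn (Cfsg.GU 3 F q ⊓ Cfsg.Geo.specialLinear (Fin 3) F) (Cfsg.Geo.decompositionStabilizer D ⊓ (Cfsg.GU 3 F q ⊓ Cfsg.Geo.specialLinear (Fin 3) F)))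
    (hE5 : q = 5 → ∀ (F₀ : Subfield F) (P : Matrix.GeneralLinearGroup (Fin 3) F),
      Fintype.card F = Nat.card F₀ ^ 2 → Cfsg.Geo.IsFormRationalStructure (Cfsg.hermForm 3 F q) F₀ 1 P →
      ¬ Cfsg.Geo.IsMaximalIn (Cfsg.GU 3 F q ⊓ Cfsg.Geo.specialLinear (Fin 3) F) (Cfsg.Geo.subfieldSubgroup F₀ P ⊓ (Cfsg.GU 3 F q ⊓ Cfsg.Geo.specialLinear (Fin 3) F)))
    (hE6 : q = 5 → ∀ R : Subgroup (Matrix.GeneralLinearGroup (Fin 3) F), Cfsg.Geo.IsSymplecticTypeGroup 3 R →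
      Cfsg.Geo.ActsAbsolutelyIrreducibly (Cfsg.Geo.matrixSet R) →
      R ≤ Cfsg.Geo.similarityGroup (Cfsg.hermForm 3 F q) → Nat.card R = 27 →
      Nat.card (Subgroup.center R) = 3 →
      ¬ Cfsg.Geo.IsMaximalIn (Cfsg.GU 3 F q ⊓ Cfsg.Geo.specialLinear (Fin 3) F) (Cfsg.Geo.subgroupNormalizer R ⊓ (Cfsg.GU 3 F q ⊓ Cfsg.Geo.specialLinear (Fin 3) F)))
    (H : Subgroup (Matrix.GeneralLinearGroup (Fin 3) F))
    (hH : Cfsg.Geo.IsMaximalIn (Cfsg.GU 3 F q ⊓ Cfsg.Geo.specialLinear (Fin 3) F) H) :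
    (∃ W : Submodule F (Fin 3 → F), W ≠ ⊥ ∧ Cfsg.Geo.IsTotallySingularFor (Cfsg.hermForm 3 F q) W ∧ H = Cfsg.Geo.subspaceStabilizer W ⊓ (Cfsg.GU 3 F q ⊓ Cfsg.Geo.specialLinear (Fin 3) F)) ∨
    (∃ W : Submodule F (Fin 3 → F), W ≠ ⊥ ∧ Cfsg.Geo.IsNondegenerateOn (Cfsg.hermForm 3 F q) W ∧ 2 * Module.finrank F W < 3 ∧ H = Cfsg.Geo.subspaceStabilizer W ⊓ (Cfsg.GU 3 F q ⊓ Cfsg.Geo.specialLinear (Fin 3) F)) ∨
    (q ≠ 5 ∧ ∃ D : Fin 3 → Submodule F (Fin 3 → F), Cfsg.Geo.IsNondegenerateMDecomposition (Cfsg.hermForm 3 F q) 1 D ∧ H = Cfsg.Geo.decompositionStabilizer D ⊓ (Cfsg.GU 3 F q ⊓ Cfsg.Geo.specialLinear (Fin 3) F)) ∨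
    (q ≠ 3 ∧ q ≠ 5 ∧ ∃ K : Subalgebra F (Matrix (Fin 3) (Fin 3) F), Cfsg.Geo.IsFieldSubalgebra 3 K ∧ Cfsg.Geo.IsAdjointClosedFor (Cfsg.hermForm 3 F q) K ∧ H = Cfsg.Geo.subalgebraNormalizer K ⊓ (Cfsg.GU 3 F q ⊓ Cfsg.Geo.specialLinear (Fin 3) F)) ∨
    (∃ (F₀ : Subfield F) (r : ℕ) (P : Matrix.GeneralLinearGroup (Fin 3) F), r.Prime ∧ Odd r ∧ Fintype.card F = Nat.card F₀ ^ r ∧ Cfsg.Geo.IsFormRationalStructure (Cfsg.hermForm 3 F q) F₀ 1 P ∧ H = Cfsg.Geo.subfieldSubgroup F₀ P ⊓ (Cfsg.GU 3 F q ⊓ Cfsg.Geo.specialLinear (Fin 3) F)) ∨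
    (Odd q ∧ 7 ≤ q ∧ ∃ (F₀ : Subfield F) (P : Matrix.GeneralLinearGroup (Fin 3) F), Fintype.card F = Nat.card F₀ ^ 2 ∧ Cfsg.Geo.IsFormRationalStructure (Cfsg.hermForm 3 F q) F₀ 1 P ∧ H = Cfsg.Geo.subfieldSubgroup F₀ P ⊓ (Cfsg.GU 3 F q ⊓ Cfsg.Geo.specialLinear (Fin 3) F)) ∨
    (∃ (p : ℕ) (R : Subgroup (Matrix.GeneralLinearGroup (Fin 3) F)), p.Prime ∧ q = p ∧ p % 3 = 2 ∧ 11 ≤ p ∧ Cfsg.Geo.IsSymplecticTypeGroup 3 R ∧ Cfsg.Geo.ActsAbsolutelyIrreducibly (Cfsg.Geo.matrixSet R) ∧ R ≤ Cfsg.Geo.similarityGroup (Cfsg.hermForm 3 F q) ∧ Nat.card R = 27 ∧ Nat.card (Subgroup.center R) = 3 ∧ H = Cfsg.Geo.subgroupNormalizer R ⊓ (Cfsg.GU 3 F q ⊓ Cfsg.Geo.specialLinear (Fin 3) F)) ∨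
    Cfsg.Geo.InUnitaryResidualClass H := by
  have hU7 := notSU3 q hF hq
  rcases asch_prime_unitary Nat.prime_three (by norm_num) q hF hU7 H hH with
    h | h | h | h | h | h | h | h
  · exact Or.inl h
  · exact Or.inr (Or.inl h)
  · obtain ⟨D, hD, hHD⟩ := h
    refine Or.inr (Or.inr (Or.inl ⟨?_, D, hD, hHD⟩))
    intro hq5
    exact hE3 hq5 D hD (hHD ▸ hH)
  · obtain ⟨K, hK, hadj, hHK⟩ := h
    refine Or.inr (Or.inr (Or.inr (Or.inl ⟨?_, ?_, K, hK, hadj, hHK⟩)))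
    · intro hq3
      exact hE1 (Or.inl hq3) K hK hadj (hHK ▸ hH)
    · intro hq5
      exact hE1 (Or.inr hq5) K hK hadj (hHK ▸ hH)
  · exact Or.inr (Or.inr (Or.inr (Or.inr (Or.inl h))))
  · obtain ⟨hodd, F₀, P, hc, hP, hHP⟩ := h
    by_cases h7 : 7 ≤ q
    · exact Or.inr (Or.inr (Or.inr (Or.inr (Or.inr (Or.inl ⟨hodd, h7, F₀, P, hc, hP, hHP⟩)))))
    · have hq35 : q = 3 ∨ q = 5 := by
        obtain ⟨k, hk⟩ := hodd
        omega
      rcases hq35 with hq3 | hq5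
      · obtain ⟨D, hD, hle⟩ := hE2 hq3 F₀ P hc hP
        refine Or.inr (Or.inr (Or.inl ⟨by omega, D, hD, ?_⟩))
        have h1 : H ≤ Cfsg.Geo.decompositionStabilizer D ⊓ (Cfsg.GU 3 F q ⊓ Cfsg.Geo.specialLinear (Fin 3) F) := by
          rw [hHP]
          exact le_inf hle inf_le_right
        rcases hH.2 _ h1 inf_le_right with h2 | h2
        · exact h2.symm
        · exfalso
          apply hU7.decomp D hD
          rw [← h2]
          exact inf_le_left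
      · exact absurd (hHP ▸ hH) (hE5 hq5 F₀ P hc hP)
  · obtain ⟨p, e, R, hnp, hmf, hst, habs, hRG, hcard, hcen, hHR⟩ := h
    obtain ⟨hp, hqp, hp3⟩ := arithU3 hmf hnp hF
    have hsim : R ≤ Cfsg.Geo.similarityGroup (Cfsg.hermForm 3 F q) :=
      (hRG.trans inf_le_left).trans (GU_le_similarityGroup q)
    have hc27 : Nat.card R = 27 := by rw [hcard]; norm_num
    refine Or.inr (Or.inr (Or.inr (Or.inr (Or.inr (Or.inr (Or.inl
      ⟨p, R, hp, hqp, hp3, ?_, hst, habs, hsim, hc27, hcen, hHR⟩))))))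
    by_contra h11
    have hp5 : p = 5 := by
      have h3p : 3 ≤ p := hqp ▸ hq
      have hlt : p < 11 := by omega
      interval_cases p <;> first | rfl | omega | (exfalso; revert hp; decide)
    exact hE6 (hqp.trans hp5) R hst habs hsim hc27 hcen (hHR ▸ hH)
  · exact Or.inr (Or.inr (Or.inr (Or.inr (Or.inr (Or.inr (Or.inr h))))))

end Cfsg.Agent.Helper1.AschU3
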