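import Mathlib

/-!
helper1: an abstract form of the "critical pair" argument of the amalgam method, as an induction on
word length.  `M`, `N` subgroups, `Y ≤ Q_M ⊴ M`, `Q_M ≤ Q_N ⊴ N`, `Q_N ≤ M`; if every conjugate
`Y^x` with `Y^x ≤ M` and `Y ≤ M^x` lies in `Q_M`, then all `⟨M, N⟩`-conjugates of `Y` lie in `Q_M`.
-/

set_option autoImplicit false

namespace Cfsg.Agent.Helper1.Asym

variable {G : Type*} [Group G]

theorem conj_mem_of_mem_normalizer {H : Subgroup G} {t q : G}
    (ht : t ∈ Subgroup.normalizer (H : Set G)) (hq : q ∈ H) : t * q * t⁻¹ ∈ H :=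
  (Subgroup.mem_normalizer_iff.mp ht q).mp hq

theorem amalgam_conj_mem_list (M N Y QM QN : Subgroup G)
    (hYQ : Y ≤ QM) (hQMM : QM ≤ M) (hMQM : M ≤ Subgroup.normalizer (QM : Set G))
    (hNQN : N ≤ Subgroup.normalizer (QN : Set G)) (hQMQN : QM ≤ QN) (hQNM : QN ≤ M)
    (h3 : ∀ x : G, (∀ y ∈ Y, x * y * x⁻¹ ∈ M) → (∀ y ∈ Y, x⁻¹ * y * x ∈ M) →
      ∀ y ∈ Y, x * y * x⁻¹ ∈ QM) :
    ∀ (k : ℕ) (l : List G), l.length = k → (∀ s ∈ l, s ∈ M ∨ s ∈ N) →
      ∀ y ∈ Y, l.prod * y * l.prod⁻¹ ∈ QM := by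
  intro k
  induction k using Nat.strong_induction_on with
  | _ k ih =>
    intro l hlk hl y hy
    -- a conjugate of an element of `Q_M` by a letter lies in `M`
    have hstep : ∀ t : G, (t ∈ M ∨ t ∈ N) → ∀ q ∈ QM, t * q * t⁻¹ ∈ M := by
      intro t ht q hq
      rcases ht with ht | ht
      · exact hQMM (conj_mem_of_mem_normalizer (hMQM ht) hq)
      · exact hQNM (conj_mem_of_mem_normalizer (hNQN ht) (hQMQN hq))
    -- weak statement for lists of length `k`
    have hweak : ∀ l' : List G, l'.length = k → (∀ s ∈ l', s ∈ M ∨ s ∈ N) →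
        ∀ y ∈ Y, l'.prod * y * l'.prod⁻¹ ∈ M := by
      intro l' hl'k hl' y hy
      cases l' with
      | nil => simpa using hQMM (hYQ hy)
      | cons t l'' =>
        have hlen : l''.length < k := by simp at hl'k; omega
        have h1 := ih _ hlen l'' rfl (fun s hs => hl' s (List.mem_cons_of_mem _ hs)) y hy
        have h2 := hstep t (hl' t (List.mem_cons_self)) _ h1
        have : (t :: l'').prod * y * (t :: l'').prod⁻¹ = t * (l''.prod * y * l''.prod⁻¹) * t⁻¹ := by
          rw [List.prod_cons]; group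
        rw [this]; exact h2
    cases l with
    | nil => simpa using hYQ hy
    | cons s l' =>
      have hlen : l'.length < k := by simp at hlk; omega
      have h1 : ∀ y ∈ Y, l'.prod * y * l'.prod⁻¹ ∈ QM :=
        ih _ hlen l' rfl (fun s hs => hl s (List.mem_cons_of_mem _ hs))
      have hconj : ∀ y : G, (s :: l').prod * y * (s :: l').prod⁻¹ =
          s * (l'.prod * y * l'.prod⁻¹) * s⁻¹ := by
        intro y; rw [List.prod_cons]; group
      rcases hl s (List.mem_cons_self) with hs | hs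
      · rw [hconj]
        exact conj_mem_of_mem_normalizer (hMQM hs) (h1 y hy)
      · -- `s ∈ N`
        apply h3 _ _ _ y hy
        · intro y hy
          exact hweak (s :: l') hlk hl y hy
        · intro y hy
          have hinv : ((s :: l').prod)⁻¹ = (((s :: l').map (·⁻¹)).reverse).prod := by
            rw [List.prod_inv_reverse]
          have h4 := hweak (((s :: l').map (·⁻¹)).reverse) (by simpa using hlk) (by
            intro t ht
            rw [List.mem_reverse, List.mem_map] at ht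
            obtain ⟨u, hu, rfl⟩ := ht
            rcases hl u hu with h | h
            · exact Or.inl (M.inv_mem h)
            · exact Or.inr (N.inv_mem h)) y hy
          rw [← hinv, inv_inv] at h4
          exact h4

/-- The "critical pair" argument: all `⟨M, N⟩`-conjugates of `Y` lie in `Q_M`. -/
theorem amalgam_conj_mem (M N Y QM QN : Subgroup G)
    (hYQ : Y ≤ QM) (hQMM : QM ≤ M) (hMQM : M ≤ Subgroup.normalizer (QM : Set G))
    (hNQN : N ≤ Subgroup.normalizer (QN : Set G)) (hQMQN : QM ≤ QN) (hQNM : QN ≤ M)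
    (h3 : ∀ x : G, (∀ y ∈ Y, x * y * x⁻¹ ∈ M) → (∀ y ∈ Y, x⁻¹ * y * x ∈ M) →
      ∀ y ∈ Y, x * y * x⁻¹ ∈ QM) :
    ∀ x ∈ M ⊔ N, ∀ y ∈ Y, x * y * x⁻¹ ∈ QM := by
  intro x hx y hy
  have hx' : x ∈ Subgroup.closure ((M : Set G) ∪ (N : Set G)) := by
    rw [Subgroup.closure_union, Subgroup.closure_eq, Subgroup.closure_eq]; exact hx
  have hx'' : x ∈ Submonoid.closure (((M : Set G) ∪ (N : Set G)) ∪ ((M : Set G) ∪ (N : Set G))⁻¹) := by
    rw [← Subgroup.closure_toSubmonoid]; exact hx'
  obtain ⟨l, hl, rfl⟩ := Submonoid.exists_list_of_mem_closure hx''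
  apply amalgam_conj_mem_list M N Y QM QN hYQ hQMM hMQM hNQN hQMQN hQNM h3 l.length l rfl _ y hy
  intro s hs
  rcases hl s hs with h | h
  · rcases h with h | h
    · exact Or.inl h
    · exact Or.inr h
  · rw [Set.mem_inv] at h
    rcases h with h | h
    · exact Or.inl (by simpa using M.inv_mem h)
    · exact Or.inr (by simpa using N.inv_mem h)

end Cfsg.Agent.Helper1.Asym
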