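import Mathlib
import Cfsg.Prelude.Def_Solvable
import Cfsg.Agent.Helper1.Basic
import Cfsg.Agent.Helper1.Cores
import Cfsg.Agent.Helper1.Coprime

set_option autoImplicit false

/-!
Brodkey's theorem.
-/

namespace Cfsg.Agent.Helper1

open scoped Pointwise

universe u

variable {G : Type u} [Group G] {p : ℕ} [Fact p.Prime]

/-- Sylow's theorem inside a subgroup `N` containing a Sylow subgroup `P₀` of `G`. -/
theorem exists_conj_le_sylow_of_le [Finite G] (N : Subgroup G) (P₀ : Sylow p G)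
    (hP₀ : (P₀ : Subgroup G) ≤ N) (U : Subgroup G) (hU : IsPGroup p U) (hUN : U ≤ N) :
    ∃ n ∈ N, MulAut.conj n • U ≤ (P₀ : Subgroup G) := by
  have hU' : IsPGroup p (U.subgroupOf N) := hU.comap_subtype
  obtain ⟨Q, hQ⟩ := hU'.exists_le_sylow
  obtain ⟨n, hn⟩ := MulAction.exists_smul_eq N Q (P₀.subtype hP₀)
  refine ⟨n, n.2, ?_⟩
  have h1 : MulAut.conj n • U.subgroupOf N ≤ MulAut.conj n • (Q : Subgroup N) := by
    intro x hx
    rw [mem_conj_smul] at hx ⊢
    exact hQ hx
  have h2 : MulAut.conj n • (Q : Subgroup N) = (P₀ : Subgroup G).subgroupOf N := by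
    rw [← Sylow.coe_subgroup_smul, hn, Sylow.coe_subtype]
  rw [h2] at h1
  have h3 := Subgroup.map_mono (f := N.subtype) h1
  rwa [map_conj_smul, Subgroup.map_subgroupOf_eq_of_le hUN,
    Subgroup.map_subgroupOf_eq_of_le hP₀] at h3

theorem sylow_isMulCommutative_of_sylow [Finite G] (S : Sylow p G) (hS : IsMulCommutative S)
    (P : Sylow p G) : IsMulCommutative P := by
  obtain ⟨g, rfl⟩ := MulAction.exists_smul_eq G S P
  change IsMulCommutative ((S : Subgroup G).map (MulAut.conj g).toMonoidHom)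
  infer_instance

/-- **Brodkey's theorem.** -/
theorem brodkey [Finite G] (S : Sylow p G) (hS : IsMulCommutative S)
    (hOp : Cfsg.pCore p G = ⊥) :
    ∃ g : G, (S : Subgroup G) ⊓ MulAut.conj g • (S : Subgroup G) = ⊥ := by
  obtain ⟨⟨P₀, Q₀⟩, hmin⟩ := Finite.exists_min
    (fun PQ : Sylow p G × Sylow p G => Nat.card ((PQ.1 : Subgroup G) ⊓ PQ.2 : Subgroup G))
  simp only at hmin
  set D := (P₀ : Subgroup G) ⊓ Q₀ with hD
  have hPc : IsMulCommutative P₀ := sylow_isMulCommutative_of_sylow S hS P₀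
  have hQc : IsMulCommutative Q₀ := sylow_isMulCommutative_of_sylow S hS Q₀
  have hPN : (P₀ : Subgroup G) ≤ Subgroup.normalizer (D : Set G) := by
    refine le_trans ?_ (Subgroup.centralizer_le_normalizer (D : Set G))
    exact (Subgroup.le_centralizer_iff_isMulCommutative.2 hPc).trans
      (Subgroup.centralizer_le (show (D : Set G) ⊆ (P₀ : Subgroup G) from inf_le_left))
  have hQN : (Q₀ : Subgroup G) ≤ Subgroup.normalizer (D : Set G) := by
    refine le_trans ?_ (Subgroup.centralizer_le_normalizer (D : Set G))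
    exact (Subgroup.le_centralizer_iff_isMulCommutative.2 hQc).trans
      (Subgroup.centralizer_le (show (D : Set G) ⊆ (Q₀ : Subgroup G) from inf_le_right))
  have hall : ∀ R : Sylow p G, D ≤ R := by
    intro R
    obtain ⟨n, hn, hle⟩ := exists_conj_le_sylow_of_le (Subgroup.normalizer (D : Set G)) P₀ hPN
      ((R : Subgroup G) ⊓ Subgroup.normalizer (D : Set G)) (R.isPGroup'.to_le inf_le_left)
      inf_le_right
    -- R' = n • R
    have h1 : ((n • R : Sylow p G) : Subgroup G) ⊓ Q₀ ≤ D := by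
      rw [Sylow.coe_subgroup_smul]
      intro x hx
      rw [Subgroup.mem_inf] at hx
      have hxN : x ∈ Subgroup.normalizer (D : Set G) := hQN hx.2
      have hx1 : x ∈ MulAut.conj n • ((R : Subgroup G) ⊓ Subgroup.normalizer (D : Set G)) := by
        have hx' := hx.1
        rw [mem_conj_smul] at hx' ⊢
        refine Subgroup.mem_inf.2 ⟨hx', ?_⟩
        exact Subgroup.mul_mem _ (Subgroup.mul_mem _ (Subgroup.inv_mem _ hn) hxN) hn
      exact Subgroup.mem_inf.2 ⟨hle hx1, hx.2⟩
    have h2 := hmin (n • R, Q₀)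
    simp only at h2
    have h3 : ((n • R : Sylow p G) : Subgroup G) ⊓ Q₀ = D := Subgroup.eq_of_le_of_card_ge h1 h2
    have h4 : D ≤ MulAut.conj n • (R : Subgroup G) := by
      rw [← h3, Sylow.coe_subgroup_smul]; exact inf_le_left
    intro d hd
    have hnd : n * d * n⁻¹ ∈ D := (Subgroup.mem_normalizer_iff.1 hn d).1 hd
    have := h4 hnd
    rw [mem_conj_smul] at this
    simpa [mul_assoc] using this
  have hDbot : D = ⊥ := by
    rw [eq_bot_iff, ← hOp, pCore_eq_iInf_sylow]
    exact le_iInf hall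
  obtain ⟨x, hx⟩ := MulAction.exists_smul_eq G S P₀
  obtain ⟨y, hy⟩ := MulAction.exists_smul_eq G S Q₀
  refine ⟨x⁻¹ * y, ?_⟩
  have h5 : (S : Subgroup G) ⊓ MulAut.conj (x⁻¹ * y) • (S : Subgroup G) =
      MulAut.conj x⁻¹ • D := by
    rw [hD, Subgroup.smul_inf, ← hx, ← hy, Sylow.coe_subgroup_smul, Sylow.coe_subgroup_smul,
      ← mul_smul, ← mul_smul, ← map_mul, ← map_mul, inv_mul_cancel, map_one, one_smul]
  rw [h5, hDbot]
  exact Subgroup.smul_bot _

end Cfsg.Agent.Helper1
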