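import Mathlib
import Cfsg.Agent.Helper1.Basic
import Cfsg.Agent.Helper1.Coprime
import Cfsg.Agent.Helper1.SylowInt

set_option autoImplicit false

/-!
Burnside's fusion lemma and relatives.
-/

namespace Cfsg.Agent.Helper1

open scoped Pointwise commutatorElement

universe u

variable {G : Type u} [Group G]

theorem sylow_conj_in_subgroup [Finite G] {p : ℕ} [Fact p.Prime] (M : Subgroup G)
    (P Q : Sylow p G) (hP : (P : Subgroup G) ≤ M) (hQ : (Q : Subgroup G) ≤ M) :
    ∃ c ∈ M, MulAut.conj c • (P : Subgroup G) = (Q : Subgroup G) := by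
  obtain ⟨k, hk, hk'⟩ := exists_conj_sylow_map M (P.subtype hP) (Q.subtype hQ)
  refine ⟨k, hk, ?_⟩
  rw [Sylow.coe_subtype, Sylow.coe_subtype, Subgroup.map_subgroupOf_eq_of_le hP,
    Subgroup.map_subgroupOf_eq_of_le hQ] at hk'
  exact hk'

theorem conjImg_mul (a b : G) (S : Set G) :
    (fun y => a * y * a⁻¹) '' ((fun y => b * y * b⁻¹) '' S) =
      (fun y => (a * b) * y * (a * b)⁻¹) '' S := by
  rw [Set.image_image]
  apply Set.image_congr
  intro y _
  group

theorem mem_set_normalizer_iff_conjImg {S : Set G} {g : G} :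
    g ∈ Subgroup.normalizer S ↔ (fun y => g * y * g⁻¹) '' S = S := by
  rw [Subgroup.mem_normalizer_iff_conj_image_eq]
  rfl

/-- Burnside's fusion lemma for invariant subsets. -/
theorem burnside_fusion_subsets [Finite G] {p : ℕ} [Fact p.Prime] (P : Sylow p G) (X Y : Set G)
    (hX : ∀ x ∈ P, (fun y => x * y * x⁻¹) '' X = X)
    (hY : ∀ x ∈ P, (fun y => x * y * x⁻¹) '' Y = Y) (g : G)
    (hg : (fun y => g * y * g⁻¹) '' X = Y) :
    ∃ n ∈ Subgroup.normalizer (P : Set G), (fun y => n * y * n⁻¹) '' X = Y := by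
  set M := Subgroup.normalizer Y with hM
  have hPM : (P : Subgroup G) ≤ M := fun x hx => mem_set_normalizer_iff_conjImg.2 (hY x hx)
  have hQM : ((g • P : Sylow p G) : Subgroup G) ≤ M := by
    intro y hy
    rw [Sylow.coe_subgroup_smul, mem_conj_smul] at hy
    apply mem_set_normalizer_iff_conjImg.2
    have hx := hX _ hy
    -- y = g (g⁻¹ y g) g⁻¹
    calc (fun z => y * z * y⁻¹) '' Y
        = (fun z => y * z * y⁻¹) '' ((fun z => g * z * g⁻¹) '' X) := by rw [hg]
      _ = (fun z => (y * g) * z * (y * g)⁻¹) '' X := conjImg_mul _ _ _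
      _ = (fun z => (g * (g⁻¹ * y * g)) * z * (g * (g⁻¹ * y * g))⁻¹) '' X := by
          have : y * g = g * (g⁻¹ * y * g) := by group
          rw [this]
      _ = (fun z => g * z * g⁻¹) '' ((fun z => (g⁻¹ * y * g) * z * (g⁻¹ * y * g)⁻¹) '' X) :=
          (conjImg_mul _ _ _).symm
      _ = Y := by rw [hx, hg]
  obtain ⟨c, hcM, hc⟩ := sylow_conj_in_subgroup M (g • P) P hQM hPM
  refine ⟨c * g, ?_, ?_⟩
  · show c * g ∈ Subgroup.normalizer ((P : Subgroup G) : Set G)
    apply mem_normalizer_of_conj_smul_eq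
    rw [map_mul, mul_smul, ← Sylow.coe_subgroup_smul]
    exact hc
  · rw [← conjImg_mul, hg]
    exact mem_set_normalizer_iff_conjImg.1 hcM

end Cfsg.Agent.Helper1
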