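import Mathlib
import Cfsg.Prelude.Def_LocalStructure
import Cfsg.Agent.Helper1.AsymA
import Cfsg.Agent.Helper1.Coprime
import Cfsg.Agent.Helper1.Brodkey
import Cfsg.Agent.Helper1.Fusion
import Cfsg.Agent.Helper5.PReducedRel
import Cfsg.Agent.Helper5.PClosedQuot
import Cfsg.Agent.Helper5.StrongEmb
import Cfsg.Agent.Helper2.Component
import Cfsg.Agent.Helper6.FrakNA
import Cfsg.Agent.Helper6.FrakNC

/-!
helper1: the asymmetric case (`Y_M` asymmetric in `G`, `M ∈ 𝔐_G(S)`): `N_G(L) ≤ N_G(O_p(M)) ≤ M†`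
for every `p`-subgroup `L ≥ O_p(M)`; `O_p(M)` weakly closed.
-/

set_option autoImplicit false

namespace Cfsg.Agent.Helper1.Asym

open Cfsg Cfsg.Agent.Helper5

variable {G : Type*} [Group G]

/-- The standing hypotheses, with the large subgroup `Q` hidden in `hdag`. -/
structure Setup (p : ℕ) [Fact p.Prime] (S : Sylow p G) (M : Subgroup G) : Prop where
  hSM : (S : Subgroup G) ≤ M
  hM : Cfsg.IsInFrakM p M
  hS1 : (S : Subgroup G) ≠ ⊥
  hasym : ¬ Cfsg.IsSymmetricIn (Cfsg.largestPReducedOf p M)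
  hdag : ∀ X I : Subgroup G, M ≤ X → I ≠ ⊥ → IsPGroup p ↥I → I ≤ X →
    X ≤ Subgroup.normalizer (I : Set G) →
    X ≤ M ⊔ Subgroup.centralizer (Cfsg.largestPReducedOf p M : Set G)

theorem setup_of_large [Finite G] {p : ℕ} [Fact p.Prime] (S : Sylow p G) (Q : Subgroup G)
    (hQp : IsPGroup p ↥Q) (hQ1 : Q ≠ ⊥) (hQS : Q ≤ (S : Subgroup G)) (hQ : Cfsg.IsLarge Q)
    (M : Subgroup G) (hSM : (S : Subgroup G) ≤ M) (hM : Cfsg.IsInFrakM p M)
    (hasym : ¬ Cfsg.IsSymmetricIn (Cfsg.largestPReducedOf p M)) : Setup p S M where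
  hSM := hSM
  hM := hM
  hS1 := by
    intro h
    apply hQ1
    rw [h] at hQS
    exact le_bot_iff.mp hQS
  hasym := hasym
  hdag := fun X I hMX hI1 hIp hIX hXI =>
    Cfsg.Agent.Helper6.FrakN.le_dagger_of_normalizes S Q hQp hQ1 hQ hSM hM X I hMX hI1 hIp hIX hXI

section

variable [Finite G] {p : ℕ} [Fact p.Prime] {S : Sylow p G} {M : Subgroup G}

theorem Setup.pRedIn (_h : Setup p S M) : PRedIn p M (Cfsg.largestPReducedOf p M) :=
  pRedIn_largestPReducedOf p M

theorem Setup.Y_le_M (h : Setup p S M) : Cfsg.largestPReducedOf p M ≤ M := h.pRedIn.1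

theorem Setup.M_le_normalizer_Y (h : Setup p S M) :
    M ≤ Subgroup.normalizer ((Cfsg.largestPReducedOf p M : Subgroup G) : Set G) := h.pRedIn.2.1

theorem Setup.B_le_S (h : Setup p S M) : Cfsg.pCoreOf p M ≤ (S : Subgroup G) :=
  pCoreOf_le_sylow S h.hSM

theorem Setup.B_le_M (h : Setup p S M) : Cfsg.pCoreOf p M ≤ M := h.B_le_S.trans h.hSM

theorem Setup.B_le_centralizer (h : Setup p S M) :
    Cfsg.pCoreOf p M ≤ Subgroup.centralizer (Cfsg.largestPReducedOf p M : Set G) :=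
  h.pRedIn.pCoreOf_le_centralizer

theorem Setup.M_le_normalizer_B (_h : Setup p S M) :
    M ≤ Subgroup.normalizer ((Cfsg.pCoreOf p M : Subgroup G) : Set G) :=
  Cfsg.Agent.Helper6.FrakN.le_normalizer_pCore_map_subtype p M

theorem Setup.isPGroup_B (_h : Setup p S M) : IsPGroup p ↥(Cfsg.pCoreOf p M) :=
  Cfsg.Agent.Helper6.FrakN.isPGroup_pCore_map_subtype p M

theorem Setup.Y_le_B (_h : Setup p S M) : Cfsg.largestPReducedOf p M ≤ Cfsg.pCoreOf p M :=
  largestPReducedOf_le_pCoreOf p M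

theorem Setup.Y_ne_bot (h : Setup p S M) : Cfsg.largestPReducedOf p M ≠ ⊥ :=
  Cfsg.Agent.Helper6.FrakN.largestPReducedOf_ne_bot S h.hSM
    (Cfsg.Agent.Helper6.FrakN.hasCharP_of_mem_charP h.hM.1) h.hS1

theorem Setup.B_ne_bot (h : Setup p S M) : Cfsg.pCoreOf p M ≠ ⊥ := by
  intro hb
  apply h.Y_ne_bot
  have := h.Y_le_B
  rw [hb] at this
  exact le_bot_iff.mp this

theorem Setup.dagger_le_normalizer_Y (h : Setup p S M) :
    M ⊔ Subgroup.centralizer (Cfsg.largestPReducedOf p M : Set G) ≤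
      Subgroup.normalizer ((Cfsg.largestPReducedOf p M : Subgroup G) : Set G) :=
  sup_le h.M_le_normalizer_Y (Subgroup.centralizer_le_normalizer _)

/-- every `p`-subgroup of `C_M(Y_M)` lies in `O_p(M)`. -/
theorem Setup.le_B_of_le_centralizer (h : Setup p S M) (D : Subgroup G)
    (hD : D ≤ M ⊓ Subgroup.centralizer (Cfsg.largestPReducedOf p M : Set G)) (hDp : IsPGroup p ↥D) :
    D ≤ Cfsg.pCoreOf p M := by
  have hP := h.pRedIn
  have hcl := h.hM.2.2.2.2.1
  obtain ⟨P, hPK, hPp, -, hmax⟩ := (isPClosed_iff_pClosedSub _).mp hcl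
  have hNC := normalizer_le_normalizer_centralizer (Cfsg.largestPReducedOf p M)
  have hMP : M ≤ Subgroup.normalizer (P : Set G) := by
    apply le_normalizer_of_conj_mem
    intro m hm x hx
    have hle : P.map (MulAut.conj m).toMonoidHom ≤ P := by
      apply hmax _ _ (hPp.map _)
      rw [map_conj_le_iff]
      intro y hy
      exact ⟨M.mul_mem (M.mul_mem hm (hPK hy).1) (M.inv_mem hm),
        (Subgroup.mem_normalizer_iff.mp (hNC (hP.2.1 hm)) y).mp (hPK hy).2⟩
    exact (map_conj_le_iff _ _ _).mp hle x hx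
  have hPM : P ≤ M := hPK.trans inf_le_left
  have h1 : P ≤ Cfsg.pCoreOf p M :=
    Cfsg.Agent.Helper6.FrakN.le_pCore_map_subtype M P hPM hPp hMP
  exact (hmax D hD hDp).trans h1

/-- the asymmetry hypothesis in the form used by the amalgam argument. -/
theorem Setup.conj_mem_B (h : Setup p S M) (x : G)
    (h1 : ∀ y ∈ Cfsg.largestPReducedOf p M, x * y * x⁻¹ ∈ M)
    (h2 : ∀ y ∈ Cfsg.largestPReducedOf p M, x⁻¹ * y * x ∈ M) :
    ∀ y ∈ Cfsg.largestPReducedOf p M, x * y * x⁻¹ ∈ Cfsg.pCoreOf p M := by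
  set Y := Cfsg.largestPReducedOf p M with hY
  have hYx : Y.map (MulAut.conj x).toMonoidHom ≤ M := (map_conj_le_iff _ _ _).mpr h1
  have c1 : ⁅Y, Y.map (MulAut.conj x).toMonoidHom⁆ ≤ Y := by
    rw [Subgroup.commutator_comm]
    exact Cfsg.Agent.Helper2.commutator_le_of_le_normalizer (hYx.trans h.M_le_normalizer_Y)
  have c2 : ⁅Y, Y.map (MulAut.conj x).toMonoidHom⁆ ≤ Y.map (MulAut.conj x).toMonoidHom := by
    apply Cfsg.Agent.Helper2.commutator_le_of_le_normalizer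
    rw [normalizer_map_conj]
    intro y hy
    rw [mem_map_conj_iff]
    exact h.M_le_normalizer_Y (h2 y hy)
  have c3 : ⁅Y, Y.map (MulAut.conj x).toMonoidHom⁆ = ⊥ := by
    by_contra hne
    exact h.hasym ⟨x, hne, le_inf c1 c2⟩
  have c4 : Y.map (MulAut.conj x).toMonoidHom ≤ Subgroup.centralizer (Y : Set G) := by
    rw [Subgroup.commutator_comm] at c3
    exact Subgroup.commutator_eq_bot_iff_le_centralizer.mp c3
  have hp : IsPGroup p ↥(Y.map (MulAut.conj x).toMonoidHom) :=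
    (h.isPGroup_B.to_le h.Y_le_B).map _
  have := h.le_B_of_le_centralizer _ (le_inf hYx c4) hp
  intro y hy
  exact this (conj_mem_map_conj _ x y hy)

end

end Cfsg.Agent.Helper1.Asym
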