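import Mathlib
import Cfsg.Agent.Helper1.AsymB

/-!
helper1: the asymmetric case: `N_G(L) ≤ N_G(O_p(M))` for `p`-subgroups `L ≥ O_p(M)`.
-/

set_option autoImplicit false

namespace Cfsg.Agent.Helper1.Asym

open Cfsg Cfsg.Agent.Helper5

variable {G : Type*} [Group G] [Finite G] {p : ℕ} [Fact p.Prime] {S : Sylow p G} {M : Subgroup G}

/-- `N_G(O_p(M)) ≤ M†`. -/
theorem Setup.normalizer_B_le_dagger (h : Setup p S M) :
    Subgroup.normalizer ((Cfsg.pCoreOf p M : Subgroup G) : Set G) ≤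
      M ⊔ Subgroup.centralizer (Cfsg.largestPReducedOf p M : Set G) :=
  h.hdag _ _ h.M_le_normalizer_B h.B_ne_bot h.isPGroup_B Subgroup.le_normalizer le_rfl

/-- Step 1: for a `p`-subgroup `L` with `O_p(M) ≤ L ≤ M`: `N_G(L) ≤ M†`. -/
theorem Setup.normalizer_le_dagger_of_le (h : Setup p S M) (L : Subgroup G)
    (hBL : Cfsg.pCoreOf p M ≤ L) (hLM : L ≤ M) :
    Subgroup.normalizer (L : Set G) ≤
      M ⊔ Subgroup.centralizer (Cfsg.largestPReducedOf p M : Set G) := by
  set Y := Cfsg.largestPReducedOf p M with hY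
  set B := Cfsg.pCoreOf p M with hB
  set X := M ⊔ Subgroup.normalizer (L : Set G) with hX
  have hconj := amalgam_conj_mem M (Subgroup.normalizer (L : Set G)) Y B L h.Y_le_B h.B_le_M
    h.M_le_normalizer_B le_rfl hBL hLM h.conj_mem_B
  set I := Subgroup.closure {z : G | ∃ x ∈ X, ∃ y ∈ Y, z = x * y * x⁻¹} with hI
  have hIB : I ≤ B := by
    rw [hI, Subgroup.closure_le]
    rintro z ⟨x, hx, y, hy, rfl⟩
    exact hconj x hx y hy
  have hYI : Y ≤ I := by
    intro y hy
    apply Subgroup.subset_closure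
    exact ⟨1, X.one_mem, y, hy, by simp⟩
  have hI1 : I ≠ ⊥ := by
    intro hb
    apply h.Y_ne_bot
    rw [hb] at hYI
    exact le_bot_iff.mp hYI
  have hIp : IsPGroup p ↥I := h.isPGroup_B.to_le hIB
  have hMX : M ≤ X := le_sup_left
  have hIX : I ≤ X := (hIB.trans h.B_le_M).trans hMX
  have hXI : X ≤ Subgroup.normalizer (I : Set G) := by
    apply le_normalizer_of_conj_mem
    intro k hk x hx
    induction hx using Subgroup.closure_induction with
    | mem z hz =>
      obtain ⟨x, hx, y, hy, rfl⟩ := hz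
      apply Subgroup.subset_closure
      exact ⟨k * x, X.mul_mem hk hx, y, hy, by group⟩
    | one => simp
    | mul a b _ _ iha ihb =>
      have : k * (a * b) * k⁻¹ = (k * a * k⁻¹) * (k * b * k⁻¹) := by group
      rw [this]; exact I.mul_mem iha ihb
    | inv a _ iha =>
      have : k * a⁻¹ * k⁻¹ = (k * a * k⁻¹)⁻¹ := by group
      rw [this]; exact I.inv_mem iha
  exact le_sup_right.trans (h.hdag X I hMX hI1 hIp hIX hXI)

/-- Step 1b: for a `p`-subgroup `L` with `O_p(M) ≤ L ≤ M`: `N_G(L) ≤ N_G(O_p(M))`. -/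
theorem Setup.normalizer_le_normalizer_B_of_le (h : Setup p S M) (L : Subgroup G)
    (hLp : IsPGroup p ↥L) (hBL : Cfsg.pCoreOf p M ≤ L) (hLM : L ≤ M) :
    Subgroup.normalizer (L : Set G) ≤ Subgroup.normalizer ((Cfsg.pCoreOf p M : Subgroup G) : Set G) := by
  intro x hx
  have hxd := h.normalizer_le_dagger_of_le L hBL hLM hx
  have hxY := h.dagger_le_normalizer_Y hxd
  have hxC := normalizer_le_normalizer_centralizer (Cfsg.largestPReducedOf p M) hxY
  have hBeq : Cfsg.pCoreOf p M = L ⊓ Subgroup.centralizer (Cfsg.largestPReducedOf p M : Set G) :=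
    le_antisymm (le_inf hBL h.B_le_centralizer)
      (h.le_B_of_le_centralizer _ (inf_le_inf_right _ hLM) (hLp.to_le inf_le_left))
  rw [hBeq]
  exact Cfsg.Agent.Helper6.FrakN.mem_normalizer_inf _ _ x hx hxC

/-- Step 2a: for a `p`-subgroup `L` with `O_p(M) ≤ L ≤ M†`: `N_G(L) ≤ N_G(O_p(M))`. -/
theorem Setup.normalizer_le_normalizer_B_of_le_dagger (h : Setup p S M) (L : Subgroup G)
    (hLp : IsPGroup p ↥L) (hBL : Cfsg.pCoreOf p M ≤ L)
    (hLd : L ≤ M ⊔ Subgroup.centralizer (Cfsg.largestPReducedOf p M : Set G)) :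
    Subgroup.normalizer (L : Set G) ≤ Subgroup.normalizer ((Cfsg.pCoreOf p M : Subgroup G) : Set G) := by
  set Y := Cfsg.largestPReducedOf p M with hY
  set B := Cfsg.pCoreOf p M with hB
  set C := Subgroup.centralizer (Y : Set G) with hC
  have hSd : (S : Subgroup G) ≤ M ⊔ C := h.hSM.trans le_sup_left
  obtain ⟨n, hn, hnL⟩ := Cfsg.Agent.Helper1.exists_conj_le_sylow_of_le (M ⊔ C) S hSd L hLp hLd
  have hnL' : ∀ x ∈ L, n * x * n⁻¹ ∈ (S : Subgroup G) := by
    intro x hx
    apply hnL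
    rw [Subgroup.mem_pointwise_smul_iff_inv_smul_mem]
    simpa [MulAut.smul_def, mul_assoc] using hx
  have hMC : M ≤ Subgroup.normalizer (C : Set G) :=
    h.M_le_normalizer_Y.trans (normalizer_le_normalizer_centralizer Y)
  have hn' : n⁻¹ ∈ C ⊔ M := by rw [sup_comm]; exact Subgroup.inv_mem _ hn
  obtain ⟨c', hc', m', hm', hnc⟩ := Cfsg.Agent.Helper1.mem_sup_of_le_normalizer hMC hn'
  -- `n = m'⁻¹ * c'⁻¹`
  set c := c'⁻¹ with hcdef
  have hc : c ∈ C := C.inv_mem hc'
  have hneq : n = m'⁻¹ * c := by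
    have : n = (n⁻¹)⁻¹ := by simp
    rw [this, hnc, mul_inv_rev]
  have hcL : ∀ x ∈ L, c * x * c⁻¹ ∈ M := by
    intro x hx
    have h1 := h.hSM (hnL' x hx)
    rw [hneq] at h1
    have h2 : c * x * c⁻¹ = m' * (m'⁻¹ * c * x * (m'⁻¹ * c)⁻¹) * m'⁻¹ := by group
    rw [h2]
    exact M.mul_mem (M.mul_mem hm' h1) (M.inv_mem hm')
  -- `c` normalizes `B`
  have hcB : c ∈ Subgroup.normalizer (B : Set G) := by
    apply mem_normalizer_of_conj_mem
    have hle : B.map (MulAut.conj c).toMonoidHom ≤ B := by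
      apply h.le_B_of_le_centralizer _ _ (h.isPGroup_B.map _)
      rw [map_conj_le_iff]
      intro b hb
      exact ⟨hcL b (hBL hb), C.mul_mem (C.mul_mem hc (h.B_le_centralizer hb)) (C.inv_mem hc)⟩
    exact (map_conj_le_iff _ _ _).mp hle
  set L' := L.map (MulAut.conj c).toMonoidHom with hL'
  have hL'M : L' ≤ M := (map_conj_le_iff _ _ _).mpr hcL
  have hL'p : IsPGroup p ↥L' := hLp.map _
  have hBL' : B ≤ L' := by
    intro b hb
    rw [hL', mem_map_conj_iff]
    apply hBL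
    have := (Subgroup.mem_normalizer_iff.mp (Subgroup.inv_mem _ hcB) b).mp hb
    simpa using this
  have key := h.normalizer_le_normalizer_B_of_le L' hL'p hBL' hL'M
  intro x hx
  have h1 : c * x * c⁻¹ ∈ Subgroup.normalizer (L' : Set G) := by
    rw [hL', normalizer_map_conj]
    exact conj_mem_map_conj _ c x hx
  have h2 := key h1
  have h3 : x = c⁻¹ * (c * x * c⁻¹) * c := by group
  rw [h3]
  exact Subgroup.mul_mem _ (Subgroup.mul_mem _ (Subgroup.inv_mem _ hcB) h2) hcB

/-- Step 2b: every `p`-subgroup containing `O_p(M)` normalizes it. -/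
theorem Setup.le_normalizer_B (h : Setup p S M) (L : Subgroup G)
    (hLp : IsPGroup p ↥L) (hBL : Cfsg.pCoreOf p M ≤ L) :
    L ≤ Subgroup.normalizer ((Cfsg.pCoreOf p M : Subgroup G) : Set G) := by
  set B := Cfsg.pCoreOf p M with hB
  set L1 := L ⊓ Subgroup.normalizer (B : Set G) with hL1
  have hL1L : L1 ≤ L := inf_le_left
  have hBL1 : B ≤ L1 := le_inf hBL Subgroup.le_normalizer
  have hL1d : L1 ≤ M ⊔ Subgroup.centralizer (Cfsg.largestPReducedOf p M : Set G) :=
    inf_le_right.trans h.normalizer_B_le_dagger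
  have key := h.normalizer_le_normalizer_B_of_le_dagger L1 (hLp.to_le hL1L) hBL1 hL1d
  by_contra hnot
  haveI : Group.IsNilpotent ↥L := hLp.isNilpotent
  have hnc := Group.normalizerCondition_of_isNilpotent (G := ↥L) (L1.subgroupOf L) (by
    rw [lt_top_iff_ne_top]
    intro htop
    apply hnot
    intro x hx
    have : (⟨x, hx⟩ : ↥L) ∈ L1.subgroupOf L := by rw [htop]; trivial
    exact (Subgroup.mem_subgroupOf.1 this).2)
  rw [← Subgroup.subgroupOf_normalizer_eq hL1L] at hnc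
  obtain ⟨x, hxN, hxL1⟩ := SetLike.exists_of_lt hnc
  apply hxL1
  rw [Subgroup.mem_subgroupOf]
  exact ⟨x.2, key (Subgroup.mem_subgroupOf.1 hxN)⟩

/-- (a): `N_G(L) ≤ N_G(O_p(M))` for every `p`-subgroup `L ≥ O_p(M)`. -/
theorem Setup.normalizer_le_normalizer_B (h : Setup p S M) (L : Subgroup G)
    (hLp : IsPGroup p ↥L) (hBL : Cfsg.pCoreOf p M ≤ L) :
    Subgroup.normalizer (L : Set G) ≤ Subgroup.normalizer ((Cfsg.pCoreOf p M : Subgroup G) : Set G) :=
  h.normalizer_le_normalizer_B_of_le_dagger L hLp hBL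
    ((h.le_normalizer_B L hLp hBL).trans h.normalizer_B_le_dagger)

end Cfsg.Agent.Helper1.Asym
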