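import Mathlib
import Cfsg.Agent.Helper1.AsymC

/-!
helper1: the asymmetric case: `O_p(M)` is weakly closed, `M† ∩ L` is parabolic in `L ≥ O_p(M)`,
`M` controls fusion in `Y_M`.
-/

set_option autoImplicit false

namespace Cfsg.Agent.Helper1.Asym

open Cfsg Cfsg.Agent.Helper5

open scoped Pointwise

variable {G : Type*} [Group G] [Finite G] {p : ℕ} [Fact p.Prime] {S : Sylow p G} {M : Subgroup G}

/-- (b): `O_p(M)` is weakly closed in `S` with respect to `G`. -/
theorem Setup.isWeaklyClosed (h : Setup p S M) :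
    Cfsg.IsWeaklyClosed (Cfsg.pCoreOf p M) (S : Subgroup G) := by
  set B := Cfsg.pCoreOf p M with hB
  refine ⟨h.B_le_S, ?_⟩
  intro g hg
  set B' := B.map (MulAut.conj g).toMonoidHom with hB'
  -- `S` normalizes `B'`
  have hS' : (S : Subgroup G).map (MulAut.conj g⁻¹).toMonoidHom ≤ Subgroup.normalizer (B : Set G) := by
    apply h.le_normalizer_B _ (S.2.map _)
    intro b hb
    rw [mem_map_conj_iff, inv_inv]
    exact hg (conj_mem_map_conj B g b hb)
  have hSB' : (S : Subgroup G) ≤ Subgroup.normalizer (B' : Set G) := by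
    intro s hs
    rw [hB', normalizer_map_conj, mem_map_conj_iff]
    apply hS'
    have := conj_mem_map_conj (S : Subgroup G) g⁻¹ s hs
    rwa [inv_inv] at this
  have hSB : (S : Subgroup G) ≤ Subgroup.normalizer (B : Set G) := h.le_normalizer_B _ S.2 h.B_le_S
  have hgSB' : ((g • S : Sylow p G) : Subgroup G) ≤ Subgroup.normalizer (B' : Set G) := by
    rw [Sylow.coe_subgroup_smul, ← map_conj_eq_smul, hB', normalizer_map_conj]
    exact Subgroup.map_mono hSB
  obtain ⟨c, hc, hcS⟩ := Cfsg.Agent.Helper1.sylow_conj_in_subgroup _ (g • S) S hgSB' hSB'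
  have hcg : c * g ∈ Subgroup.normalizer ((S : Subgroup G) : Set G) := by
    have hfix : (c * g) • S = S := by
      apply Sylow.ext
      rw [Sylow.coe_subgroup_smul, map_mul, mul_smul, ← Sylow.coe_subgroup_smul]
      exact hcS
    exact Sylow.smul_eq_iff_mem_normalizer.mp hfix
  have hcgB := h.normalizer_le_normalizer_B _ S.2 h.B_le_S hcg
  rw [mem_normalizer_iff_map_conj, ← map_conj_map_conj] at hcgB
  have hcB' := (mem_normalizer_iff_map_conj B' c).mp hc
  rw [← hB'] at hcgB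
  rw [← hcB', hcgB]

/-- a conjugate of `O_p(M)` inside a `p`-group containing `O_p(M)` equals `O_p(M)`. -/
theorem Setup.map_conj_eq_of_le_pgroup (h : Setup p S M) (P : Subgroup G) (hP : IsPGroup p ↥P)
    (hBP : Cfsg.pCoreOf p M ≤ P) (k : G)
    (hk : (Cfsg.pCoreOf p M).map (MulAut.conj k).toMonoidHom ≤ P) :
    (Cfsg.pCoreOf p M).map (MulAut.conj k).toMonoidHom = Cfsg.pCoreOf p M := by
  set B := Cfsg.pCoreOf p M with hB
  obtain ⟨n, -, hn⟩ := Cfsg.Agent.Helper1.exists_conj_le_sylow_of_le ⊤ S le_top P hP le_top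
  rw [← map_conj_eq_smul] at hn
  have hwc := h.isWeaklyClosed
  have h1 : B.map (MulAut.conj n).toMonoidHom = B :=
    hwc.2 n ((Subgroup.map_mono hBP).trans hn)
  have h2 : B.map (MulAut.conj (n * k)).toMonoidHom = B := by
    apply hwc.2
    rw [← map_conj_map_conj]
    exact (Subgroup.map_mono hk).trans hn
  rw [← map_conj_map_conj] at h2
  have h3 : (B.map (MulAut.conj k).toMonoidHom).map (MulAut.conj n).toMonoidHom =
      B.map (MulAut.conj n).toMonoidHom := by rw [h2, h1]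
  exact Subgroup.map_injective (MulAut.conj n).injective h3

/-- (c): `L ∩ M†` contains a Sylow `p`-subgroup of `L`, for `L ≥ O_p(M)`. -/
theorem Setup.isParabolic (h : Setup p S M) (L : Subgroup G) (hBL : Cfsg.pCoreOf p M ≤ L) :
    Cfsg.IsParabolic p ((L ⊓ (M ⊔ Subgroup.centralizer
      (Cfsg.largestPReducedOf p M : Set G))).subgroupOf L) := by
  set B := Cfsg.pCoreOf p M with hB
  have hBp : IsPGroup p ↥(B.subgroupOf L) := h.isPGroup_B.comap_subtype
  obtain ⟨T, hT⟩ := hBp.exists_le_sylow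
  refine ⟨T, ?_⟩
  have hTp : IsPGroup p ↥((T : Subgroup ↥L).map L.subtype) := T.2.map _
  have hBT : B ≤ (T : Subgroup ↥L).map L.subtype := by
    intro b hb
    exact ⟨⟨b, hBL hb⟩, hT (Subgroup.mem_subgroupOf.mpr hb), rfl⟩
  have hTN := (h.le_normalizer_B _ hTp hBT).trans h.normalizer_B_le_dagger
  intro t ht
  rw [Subgroup.mem_subgroupOf]
  exact ⟨t.2, hTN ⟨t, ht, rfl⟩⟩

/-- two conjugates of `O_p(M)` inside a subgroup `H` are conjugate in `H`. -/
theorem Setup.exists_conj_eq (h : Setup p S M) (H : Subgroup G) (hBH : Cfsg.pCoreOf p M ≤ H)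
    (g : G) (hg : (Cfsg.pCoreOf p M).map (MulAut.conj g).toMonoidHom ≤ H) :
    ∃ c ∈ H, (Cfsg.pCoreOf p M).map (MulAut.conj (c * g)).toMonoidHom = Cfsg.pCoreOf p M := by
  set B := Cfsg.pCoreOf p M with hB
  set B' := B.map (MulAut.conj g).toMonoidHom with hB'
  have hBp : IsPGroup p ↥(B.subgroupOf H) := h.isPGroup_B.comap_subtype
  have hB'p : IsPGroup p ↥(B'.subgroupOf H) := (h.isPGroup_B.map _).comap_subtype
  obtain ⟨P, hP⟩ := hBp.exists_le_sylow
  obtain ⟨P', hP'⟩ := hB'p.exists_le_sylow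
  obtain ⟨c, hc⟩ := MulAction.exists_smul_eq ↥H P' P
  refine ⟨c, c.2, ?_⟩
  apply h.map_conj_eq_of_le_pgroup ((P : Subgroup ↥H).map H.subtype) (P.2.map _)
  · intro b hb
    exact ⟨⟨b, hBH hb⟩, hP (Subgroup.mem_subgroupOf.mpr hb), rfl⟩
  · rw [map_conj_le_iff]
    intro b hb
    have hb' : g * b * g⁻¹ ∈ B' := conj_mem_map_conj B g b hb
    have h1 : (⟨g * b * g⁻¹, hg hb'⟩ : ↥H) ∈ (P' : Subgroup ↥H) :=
      hP' (Subgroup.mem_subgroupOf.mpr hb')
    have h2 : c * ⟨g * b * g⁻¹, hg hb'⟩ * c⁻¹ ∈ ((c • P' : Sylow p ↥H) : Subgroup ↥H) := by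
      rw [Sylow.coe_subgroup_smul]
      exact Cfsg.Agent.Helper1.conj_mem_conj_smul h1
    rw [hc] at h2
    refine ⟨_, h2, ?_⟩
    simp only [Subgroup.coe_subtype, Subgroup.coe_mul, Subgroup.coe_inv]
    group

/-- (d): `M` controls `G`-fusion of elements of `Y_M`. -/
theorem Setup.fusion (h : Setup p S M) (x : G) (hx : x ∈ Cfsg.largestPReducedOf p M) (g : G)
    (hgx : g * x * g⁻¹ ∈ Cfsg.largestPReducedOf p M) : ∃ m ∈ M, m * x * m⁻¹ = g * x * g⁻¹ := by
  set Y := Cfsg.largestPReducedOf p M with hY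
  set B := Cfsg.pCoreOf p M with hB
  set C := Subgroup.centralizer (Y : Set G) with hC
  set H := Subgroup.centralizer ({g * x * g⁻¹} : Set G) with hH
  have hBH : B ≤ H := by
    intro b hb
    rw [hH, Subgroup.mem_centralizer_iff]
    intro z hz
    rw [Set.mem_singleton_iff] at hz
    rw [hz]
    exact (Subgroup.mem_centralizer_iff.mp (h.B_le_centralizer hb)) _ hgx
  have hB'H : B.map (MulAut.conj g).toMonoidHom ≤ H := by
    rw [map_conj_le_iff]
    intro b hb
    rw [hH, Subgroup.mem_centralizer_iff]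
    intro z hz
    rw [Set.mem_singleton_iff] at hz
    rw [hz]
    have := (Subgroup.mem_centralizer_iff.mp (h.B_le_centralizer hb)) x hx
    calc g * x * g⁻¹ * (g * b * g⁻¹) = g * (x * b) * g⁻¹ := by group
      _ = g * (b * x) * g⁻¹ := by rw [this]
      _ = _ := by group
  obtain ⟨c, hc, hcg⟩ := h.exists_conj_eq H hBH g hB'H
  have hcgN : c * g ∈ Subgroup.normalizer (B : Set G) := (mem_normalizer_iff_map_conj B _).mpr hcg
  have hcgd := h.normalizer_B_le_dagger hcgN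
  have hMC : M ≤ Subgroup.normalizer (C : Set G) :=
    h.M_le_normalizer_Y.trans (normalizer_le_normalizer_centralizer Y)
  have hinv : (c * g)⁻¹ ∈ C ⊔ M := by rw [sup_comm]; exact Subgroup.inv_mem _ hcgd
  obtain ⟨c₁, hc₁, m, hm, he⟩ := Cfsg.Agent.Helper1.mem_sup_of_le_normalizer hMC hinv
  have hcg_eq : c * g = m⁻¹ * c₁⁻¹ := by
    have : c * g = ((c * g)⁻¹)⁻¹ := by simp
    rw [this, he, mul_inv_rev]
  refine ⟨m⁻¹, M.inv_mem hm, ?_⟩
  have h1 : c₁⁻¹ * x * (c₁⁻¹)⁻¹ = x := by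
    have := (Subgroup.mem_centralizer_iff.mp (C.inv_mem hc₁)) x hx
    rw [← this]; group
  have h2 : c * (g * x * g⁻¹) * c⁻¹ = g * x * g⁻¹ := by
    have := (Subgroup.mem_centralizer_iff.mp hc) (g * x * g⁻¹) (Set.mem_singleton _)
    rw [← this]; group
  calc m⁻¹ * x * m⁻¹⁻¹ = m⁻¹ * (c₁⁻¹ * x * (c₁⁻¹)⁻¹) * m⁻¹⁻¹ := by rw [h1]
    _ = (m⁻¹ * c₁⁻¹) * x * (m⁻¹ * c₁⁻¹)⁻¹ := by group
    _ = (c * g) * x * (c * g)⁻¹ := by rw [hcg_eq]
    _ = c * (g * x * g⁻¹) * c⁻¹ := by group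
    _ = _ := h2

end Cfsg.Agent.Helper1.Asym
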