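import Mathlib
import Cfsg.Agent.Helper2.Layer3
import Cfsg.Agent.Helper6.FrakNA

/-!
helper1: in a finite group `X` with `O_p(X) = 1`: `F*(X)` has no nontrivial normal `p`-subgroup,
and no nontrivial `p`-element of `X` centralizes `F*(X)`.
-/

set_option autoImplicit false

namespace Cfsg.Agent.Helper1.Asym

open Cfsg Cfsg.Agent.Helper5

variable {X : Type*} [Group X] [Finite X] {p : ℕ} [Fact p.Prime]

theorem pCore_top_map_le :
    (Cfsg.pCore p ↥(⊤ : Subgroup X)).map (⊤ : Subgroup X).subtype ≤ Cfsg.pCore p X := by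
  apply le_pCore
  · apply Subgroup.Normal.map inferInstance
    intro x
    exact ⟨⟨x, trivial⟩, rfl⟩
  · exact (isPGroup_pCore p).map _

/-- `F*(X)` has no nontrivial normal `p`-subgroup when `O_p(X) = 1`. -/
theorem genFit_normal_pSubgroup_eq_bot (hO : Cfsg.pCore p X = ⊥) (P : Subgroup X)
    (hPF : P ≤ Cfsg.generalizedFittingSubgroup X) (hP : IsPGroup p ↥P)
    (hFP : Cfsg.generalizedFittingSubgroup X ≤ Subgroup.normalizer (P : Set X)) : P = ⊥ := by
  have hn : (⊤ : Subgroup X) ≤
      Subgroup.normalizer ((Cfsg.generalizedFittingSubgroup X : Subgroup X) : Set X) := by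
    rw [Subgroup.normalizer_eq_top]
  have h1 := Cfsg.Agent.Helper6.FrakN.le_pCore_of_normal_in_normal (p := p) ⊤
    (Cfsg.generalizedFittingSubgroup X) P le_top hn hPF hP hFP
  have h2 := h1.trans pCore_top_map_le
  rw [hO] at h2
  exact le_bot_iff.mp h2

/-- a `p`-element centralizing `F*(X)` is trivial when `O_p(X) = 1`. -/
theorem eq_one_of_centralizes_genFit (hO : Cfsg.pCore p X = ⊥) (x : X) (k : ℕ)
    (hx : x ^ p ^ k = 1)
    (hc : x ∈ Subgroup.centralizer (Cfsg.generalizedFittingSubgroup X : Set X)) : x = 1 := by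
  have hxF : x ∈ Cfsg.generalizedFittingSubgroup X :=
    Cfsg.Agent.Helper2.centralizer_generalizedFittingSubgroup_le hc
  have hP : IsPGroup p ↥(Subgroup.zpowers x) := by
    apply IsPGroup.of_card (n := (Nat.factorization (orderOf x)) p)
    rw [Nat.card_zpowers]
    obtain ⟨j, -, hj⟩ := (Nat.dvd_prime_pow (Fact.out : p.Prime)).mp (orderOf_dvd_of_pow_eq_one hx)
    rw [hj]
    simp [(Fact.out : p.Prime).factorization_self]
  have hbot := genFit_normal_pSubgroup_eq_bot hO (Subgroup.zpowers x)
    (by rw [Subgroup.zpowers_le]; exact hxF) hP (by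
      intro f hf
      rw [Subgroup.mem_normalizer_iff]
      intro y
      have hcomm : ∀ z ∈ Subgroup.zpowers x, f * z * f⁻¹ = z := by
        intro z hz
        have h1 : x ∈ Subgroup.centralizer ({f} : Set X) := by
          rw [Subgroup.mem_centralizer_iff]
          intro g hg
          rw [Set.mem_singleton_iff] at hg
          rw [hg]
          exact Subgroup.mem_centralizer_iff.mp hc f hf
        have h2 : z ∈ Subgroup.centralizer ({f} : Set X) :=
          (Subgroup.zpowers_le.mpr h1) hz
        have h3 := Subgroup.mem_centralizer_iff.mp h2 f (Set.mem_singleton _)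
        rw [h3]; group
      constructor
      · intro hy; rw [hcomm y hy]; exact hy
      · intro hy
        have h4 := hcomm _ hy
        have h5 : f * y * f⁻¹ = y := by
          have : f * (f * y * f⁻¹) * f⁻¹ = f * y * f⁻¹ := h4
          have h6 : f⁻¹ * (f * (f * y * f⁻¹) * f⁻¹) * f = f⁻¹ * (f * y * f⁻¹) * f := by rw [this]
          simpa [mul_assoc] using h6
        rw [← h5]; exact hy)
  have : x ∈ Subgroup.zpowers x := Subgroup.mem_zpowers x
  rw [hbot, Subgroup.mem_bot] at this
  exact this

end Cfsg.Agent.Helper1.Asym
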