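import Mathlib
import Cfsg.Agent.Helper1.AsymE

/-!
helper1: the inverse image `F` in `X` of `F*(X/C)` (for `C ⊴ X ≤ G`), when `O_p(X/C) = 1`:
subgroups of `F` normalized by `F` which are `p`-groups modulo `C` lie in `C`; `p`-elements of `X`
centralizing `F` modulo `C` lie in `C`.
-/

set_option autoImplicit false

namespace Cfsg.Agent.Helper1.Asym

open Cfsg Cfsg.Agent.Helper5

variable {G : Type*} [Group G]

/-- the inverse image in `X` of `F*(X / C)`, as a subgroup of `G`. -/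
def fstar (X C : Subgroup G) [(C.subgroupOf X).Normal] : Subgroup G :=
  ((Cfsg.generalizedFittingSubgroup (↥X ⧸ C.subgroupOf X)).comap
    (QuotientGroup.mk' (C.subgroupOf X))).map X.subtype

section

variable (X C : Subgroup G) [hn : (C.subgroupOf X).Normal]

theorem mem_fstar_iff (g : G) : g ∈ fstar X C ↔ ∃ hg : g ∈ X,
    QuotientGroup.mk' (C.subgroupOf X) ⟨g, hg⟩ ∈
      Cfsg.generalizedFittingSubgroup (↥X ⧸ C.subgroupOf X) := by
  unfold fstar
  constructor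
  · rintro ⟨x, hx, rfl⟩
    exact ⟨x.2, hx⟩
  · rintro ⟨hg, h⟩
    exact ⟨⟨g, hg⟩, h, rfl⟩

theorem fstar_le : fstar X C ≤ X := by
  intro g hg
  obtain ⟨h, -⟩ := (mem_fstar_iff X C g).mp hg
  exact h

theorem inf_le_fstar : X ⊓ C ≤ fstar X C := by
  intro c hc
  rw [mem_fstar_iff]
  refine ⟨hc.1, ?_⟩
  have : QuotientGroup.mk' (C.subgroupOf X) ⟨c, hc.1⟩ = 1 := by
    rw [QuotientGroup.mk'_apply, QuotientGroup.eq_one_iff, Subgroup.mem_subgroupOf]
    exact hc.2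
  rw [this]
  exact Subgroup.one_mem _

theorem le_normalizer_fstar [Finite G] : X ≤ Subgroup.normalizer ((fstar X C : Subgroup G) : Set G) := by
  unfold fstar
  apply le_normalizer_map_subtype_of_normal
  haveI : (Cfsg.generalizedFittingSubgroup (↥X ⧸ C.subgroupOf X)).Normal := inferInstance
  infer_instance

variable [Finite G] {p : ℕ} [Fact p.Prime]

/-- a subgroup of `F` normalized by `F` which is a `p`-group modulo `C` lies in `C`. -/
theorem le_of_le_fstar (hO : Cfsg.pCore p (↥X ⧸ C.subgroupOf X) = ⊥) (D : Subgroup G)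
    (hDF : D ≤ fstar X C) (hFD : fstar X C ≤ Subgroup.normalizer (D : Set G))
    (hp : ∀ d ∈ D, ∃ k : ℕ, d ^ p ^ k ∈ C) : D ≤ C := by
  set π := QuotientGroup.mk' (C.subgroupOf X) with hπ
  set D' := (D.subgroupOf X).map π with hD'
  have hD'F : D' ≤ Cfsg.generalizedFittingSubgroup (↥X ⧸ C.subgroupOf X) := by
    rintro _ ⟨x, hx, rfl⟩
    obtain ⟨_, h⟩ := (mem_fstar_iff X C (x : G)).mp (hDF (Subgroup.mem_subgroupOf.mp hx))
    exact h
  have hD'p : IsPGroup p ↥D' := by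
    rintro ⟨_, ⟨x, hx, rfl⟩⟩
    obtain ⟨k, hk⟩ := hp (x : G) (Subgroup.mem_subgroupOf.mp hx)
    refine ⟨k, ?_⟩
    apply Subtype.ext
    rw [Subgroup.coe_pow, Subgroup.coe_one, ← map_pow, hπ, QuotientGroup.mk'_apply,
      QuotientGroup.eq_one_iff, Subgroup.mem_subgroupOf, Subgroup.coe_pow]
    exact hk
  have hFD' : Cfsg.generalizedFittingSubgroup (↥X ⧸ C.subgroupOf X) ≤
      Subgroup.normalizer (D' : Set (↥X ⧸ C.subgroupOf X)) := by
    intro f hf
    obtain ⟨f₀, rfl⟩ := QuotientGroup.mk'_surjective (C.subgroupOf X) f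
    have hf₀ : (f₀ : G) ∈ fstar X C := (mem_fstar_iff X C _).mpr ⟨f₀.2, hf⟩
    have aux : ∀ g : ↥X, (g : G) ∈ fstar X C → ∀ y ∈ D', π g * y * (π g)⁻¹ ∈ D' := by
      rintro g hg _ ⟨x, hx, rfl⟩
      refine ⟨g * x * g⁻¹, ?_, by simp⟩
      have hx' : (x : G) ∈ D := Subgroup.mem_subgroupOf.mp hx
      have h0 : ((g * x * g⁻¹ : ↥X) : G) ∈ D := by
        simp only [Subgroup.coe_mul, Subgroup.coe_inv]
        exact (Subgroup.mem_normalizer_iff.mp (hFD hg) _).mp hx'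
      exact Subgroup.mem_subgroupOf.mpr h0
    rw [Subgroup.mem_normalizer_iff]
    intro y
    constructor
    · exact aux f₀ hf₀ y
    · intro hy
      have h1 := aux f₀⁻¹ (by simpa using (fstar X C).inv_mem hf₀) _ hy
      have h2 : π f₀⁻¹ * (π f₀ * y * (π f₀)⁻¹) * (π f₀⁻¹)⁻¹ = y := by
        rw [map_inv]; group
      rwa [h2] at h1
  have hbot := genFit_normal_pSubgroup_eq_bot hO D' hD'F hD'p hFD'
  intro d hd
  have hdX : d ∈ X := fstar_le X C (hDF hd)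
  have h1 : π ⟨d, hdX⟩ ∈ D' := ⟨⟨d, hdX⟩, Subgroup.mem_subgroupOf.mpr hd, rfl⟩
  rw [hbot, Subgroup.mem_bot, hπ, QuotientGroup.mk'_apply, QuotientGroup.eq_one_iff,
    Subgroup.mem_subgroupOf] at h1
  exact h1

/-- a `p`-element of `X` centralizing `F` modulo `C` lies in `C`. -/
theorem mem_of_commutator_fstar (hO : Cfsg.pCore p (↥X ⧸ C.subgroupOf X) = ⊥) (e : G)
    (heX : e ∈ X) (k : ℕ) (hk : e ^ p ^ k ∈ C)
    (hcomm : ∀ f ∈ fstar X C, e * f * e⁻¹ * f⁻¹ ∈ C) : e ∈ C := by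
  set π := QuotientGroup.mk' (C.subgroupOf X) with hπ
  have h1 : π ⟨e, heX⟩ = 1 := by
    apply eq_one_of_centralizes_genFit hO (π ⟨e, heX⟩) k
    · rw [← map_pow, hπ, QuotientGroup.mk'_apply, QuotientGroup.eq_one_iff,
        Subgroup.mem_subgroupOf, Subgroup.coe_pow]
      exact hk
    · rw [Subgroup.mem_centralizer_iff]
      intro f hf
      obtain ⟨f₀, rfl⟩ := QuotientGroup.mk'_surjective (C.subgroupOf X) f
      have hf₀ : (f₀ : G) ∈ fstar X C := (mem_fstar_iff X C _).mpr ⟨f₀.2, hf⟩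
      have h2 := hcomm _ hf₀
      have h3 : π (⟨e, heX⟩ * f₀ * ⟨e, heX⟩⁻¹ * f₀⁻¹) = 1 := by
        rw [hπ, QuotientGroup.mk'_apply, QuotientGroup.eq_one_iff, Subgroup.mem_subgroupOf]
        simpa using h2
      rw [map_mul, map_mul, map_mul, map_inv, map_inv] at h3
      have h4 : π ⟨e, heX⟩ * π f₀ = (π ⟨e, heX⟩ * π f₀ * (π ⟨e, heX⟩)⁻¹ * (π f₀)⁻¹) *
          (π f₀ * π ⟨e, heX⟩) := by group
      rw [h3, one_mul] at h4
      exact h4.symm
  rw [hπ, QuotientGroup.mk'_apply, QuotientGroup.eq_one_iff, Subgroup.mem_subgroupOf] at h1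
  exact h1

/-- combination: `e ∈ X ∩ D`, `D` normalized by `H ≥ F`, `D` a `p`-group modulo `C`. -/
theorem mem_of_mem_normal (hO : Cfsg.pCore p (↥X ⧸ C.subgroupOf X) = ⊥) (H D : Subgroup G)
    (hFH : fstar X C ≤ H) (hHD : H ≤ Subgroup.normalizer (D : Set G))
    (hp : ∀ d ∈ D, ∃ k : ℕ, d ^ p ^ k ∈ C) (e : G) (heX : e ∈ X) (heD : e ∈ D) : e ∈ C := by
  obtain ⟨k, hk⟩ := hp e heD
  apply mem_of_commutator_fstar X C hO e heX k hk
  have hD1 : D ⊓ fstar X C ≤ C := by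
    apply le_of_le_fstar X C hO _ inf_le_right _ (fun d hd => hp d hd.1)
    intro f hf
    exact Cfsg.Agent.Helper6.FrakN.mem_normalizer_inf _ _ f (hHD (hFH hf)) (Subgroup.le_normalizer hf)
  intro f hf
  apply hD1
  constructor
  · have h1 : f * e⁻¹ * f⁻¹ ∈ D :=
      (Subgroup.mem_normalizer_iff.mp (hHD (hFH hf)) _).mp (D.inv_mem heD)
    have : e * f * e⁻¹ * f⁻¹ = e * (f * e⁻¹ * f⁻¹) := by group
    rw [this]; exact D.mul_mem heD h1
  · have h1 : e * f * e⁻¹ ∈ fstar X C :=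
      (Subgroup.mem_normalizer_iff.mp (le_normalizer_fstar X C heX) _).mp hf
    exact (fstar X C).mul_mem h1 ((fstar X C).inv_mem hf)

end

end Cfsg.Agent.Helper1.Asym
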