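import Mathlib
import Cfsg.Agent.Helper1.AsymD
import Cfsg.Agent.Helper1.AsymF

/-!
helper1: the asymmetric case: `Y_M ≤ Y_H` for `H` of characteristic `p` containing the inverse
image of `F*(M†/C_G(Y_M))`.
-/

set_option autoImplicit false

namespace Cfsg.Agent.Helper1.Asym

open Cfsg Cfsg.Agent.Helper5

variable {G : Type*} [Group G]

/-- the subgroup generated by the `X`-conjugates of `Y`. -/
def conjClosure (X Y : Subgroup G) : Subgroup G :=
  Subgroup.closure {z : G | ∃ x ∈ X, ∃ y ∈ Y, z = x * y * x⁻¹}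

theorem le_conjClosure (X Y : Subgroup G) : Y ≤ conjClosure X Y := by
  intro y hy
  apply Subgroup.subset_closure
  exact ⟨1, X.one_mem, y, hy, by simp⟩

theorem conjClosure_le (X Y K : Subgroup G) (h : ∀ x ∈ X, ∀ y ∈ Y, x * y * x⁻¹ ∈ K) :
    conjClosure X Y ≤ K := by
  unfold conjClosure
  rw [Subgroup.closure_le]
  rintro z ⟨x, hx, y, hy, rfl⟩
  exact h x hx y hy

theorem le_normalizer_conjClosure [Finite G] (X Y : Subgroup G) :
    X ≤ Subgroup.normalizer ((conjClosure X Y : Subgroup G) : Set G) := by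
  apply le_normalizer_of_conj_mem
  intro k hk x hx
  unfold conjClosure at hx ⊢
  induction hx using Subgroup.closure_induction with
  | mem z hz =>
    obtain ⟨x, hx, y, hy, rfl⟩ := hz
    apply Subgroup.subset_closure
    exact ⟨k * x, X.mul_mem hk hx, y, hy, by group⟩
  | one => simp
  | mul a b _ _ iha ihb =>
    have : k * (a * b) * k⁻¹ = (k * a * k⁻¹) * (k * b * k⁻¹) := by group
    rw [this]; exact Subgroup.mul_mem _ iha ihb
  | inv a _ iha =>
    have : k * a⁻¹ * k⁻¹ = (k * a * k⁻¹)⁻¹ := by group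
    rw [this]; exact Subgroup.inv_mem _ iha

theorem isElementaryAbelian_closure' {p : ℕ} (s : Set G) (hcomm : ∀ x ∈ s, ∀ y ∈ s, x * y = y * x)
    (hexp : ∀ x ∈ s, x ^ p = 1) : Cfsg.IsElementaryAbelian p (Subgroup.closure s) := by
  have hc : IsMulCommutative ↥(Subgroup.closure s) := Subgroup.isMulCommutative_closure hcomm
  refine ⟨hc, ?_⟩
  intro v hv
  induction hv using Subgroup.closure_induction with
  | mem y hy => exact hexp y hy
  | one => exact one_pow _
  | mul a b ha hb iha ihb =>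
    have hab : Commute a b := setLike_mul_comm ha hb
    rw [hab.mul_pow, iha, ihb, one_mul]
  | inv a _ iha => rw [inv_pow, iha, inv_one]

section

variable [Finite G] {p : ℕ} [Fact p.Prime] {S : Sylow p G} {M : Subgroup G}

theorem Setup.pRedIn_dagger (h : Setup p S M) :
    PRedIn p (M ⊔ Subgroup.centralizer (Cfsg.largestPReducedOf p M : Set G))
      (Cfsg.largestPReducedOf p M) := by
  have := pRedIn_largestPReducedOf p
    (M ⊔ Subgroup.centralizer (Cfsg.largestPReducedOf p M : Set G))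
  rw [← h.hM.2.2.2.1] at this
  exact this

theorem Setup.Y_le_centralizer (h : Setup p S M) :
    Cfsg.largestPReducedOf p M ≤ Subgroup.centralizer (Cfsg.largestPReducedOf p M : Set G) :=
  h.Y_le_B.trans h.B_le_centralizer

/-- `O_p(M† / C_G(Y_M)) = 1`. -/
theorem Setup.pCore_quot_eq_bot (h : Setup p S M)
    [hn : ((Subgroup.centralizer (Cfsg.largestPReducedOf p M : Set G)).subgroupOf
      (M ⊔ Subgroup.centralizer (Cfsg.largestPReducedOf p M : Set G))).Normal] :
    Cfsg.pCore p (↥(M ⊔ Subgroup.centralizer (Cfsg.largestPReducedOf p M : Set G)) ⧸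
      (Subgroup.centralizer (Cfsg.largestPReducedOf p M : Set G)).subgroupOf
        (M ⊔ Subgroup.centralizer (Cfsg.largestPReducedOf p M : Set G))) = ⊥ := by
  set Y := Cfsg.largestPReducedOf p M with hY
  set C := Subgroup.centralizer (Y : Set G) with hC
  set Md := M ⊔ C with hMd
  have hP := h.pRedIn_dagger
  set π := QuotientGroup.mk' (C.subgroupOf Md) with hπ
  set D := ((Cfsg.pCore p (↥Md ⧸ C.subgroupOf Md)).comap π).map Md.subtype with hD
  have hDle : D ≤ C := by
    apply hP.2.2.2 D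
    · rintro _ ⟨x, -, rfl⟩; exact x.2
    · apply le_normalizer_map_subtype_of_normal
      infer_instance
    · rintro _ ⟨x, hx, rfl⟩
      obtain ⟨k, hk⟩ := (isPGroup_pCore (G := ↥Md ⧸ C.subgroupOf Md) p) ⟨π x, hx⟩
      refine ⟨k, ?_⟩
      have hk' := congrArg Subtype.val hk
      rw [Subgroup.coe_pow, Subgroup.coe_one, ← map_pow, hπ, QuotientGroup.mk'_apply,
        QuotientGroup.eq_one_iff, Subgroup.mem_subgroupOf, Subgroup.coe_pow] at hk'
      exact hk'
  rw [eq_bot_iff]
  intro q hq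
  obtain ⟨x, rfl⟩ := QuotientGroup.mk'_surjective (C.subgroupOf Md) q
  have hxD : (x : G) ∈ D := ⟨x, hq, rfl⟩
  have hxC := hDle hxD
  rw [Subgroup.mem_bot, QuotientGroup.mk'_apply, QuotientGroup.eq_one_iff, Subgroup.mem_subgroupOf]
  exact hxC

/-- the asymmetric case: `Y_M ≤ Y_H` for `H` of characteristic `p` containing `F`. -/
theorem Setup.Y_le_Y_of_fstar_le (h : Setup p S M)
    [hn : ((Subgroup.centralizer (Cfsg.largestPReducedOf p M : Set G)).subgroupOf
      (M ⊔ Subgroup.centralizer (Cfsg.largestPReducedOf p M : Set G))).Normal]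
    (H : Subgroup G)
    (hFH : fstar (M ⊔ Subgroup.centralizer (Cfsg.largestPReducedOf p M : Set G))
      (Subgroup.centralizer (Cfsg.largestPReducedOf p M : Set G)) ≤ H)
    (hH : Subgroup.centralizer (Cfsg.pCore p ↥H : Set ↥H) ≤ Cfsg.pCore p ↥H) :
    Cfsg.largestPReducedOf p M ≤ Cfsg.largestPReducedOf p H := by
  classical
  set Y := Cfsg.largestPReducedOf p M with hY
  set B := Cfsg.pCoreOf p M with hB
  set C := Subgroup.centralizer (Y : Set G) with hC
  set Md := M ⊔ C with hMd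
  have hO := h.pCore_quot_eq_bot
  have hCF : C ≤ fstar Md C := (le_inf le_sup_right le_rfl).trans (inf_le_fstar Md C)
  have hCH : C ≤ H := hCF.trans hFH
  have hBH : B ≤ H := h.B_le_centralizer.trans hCH
  have hYH : Y ≤ H := h.Y_le_centralizer.trans hCH
  have hYel : Cfsg.IsElementaryAbelian p Y := h.pRedIn.2.2.1
  -- a Sylow subgroup of `H` containing `B`
  have hBpH : IsPGroup p ↥(B.subgroupOf H) := h.isPGroup_B.comap_subtype
  obtain ⟨T, hT⟩ := hBpH.exists_le_sylow
  set TG := (T : Subgroup ↥H).map H.subtype with hTG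
  have hBT : B ≤ TG := by
    intro b hb
    exact ⟨⟨b, hBH hb⟩, hT (Subgroup.mem_subgroupOf.mpr hb), rfl⟩
  have hTGd : TG ≤ Md := (h.le_normalizer_B TG (T.2.map _) hBT).trans h.normalizer_B_le_dagger
  -- `R = O_p(H)`
  set R := Cfsg.pCoreOf p H with hR
  have hRT : R ≤ TG := Subgroup.map_mono (pCore_le_sylow T)
  have hHR : H ≤ Subgroup.normalizer (R : Set G) :=
    Cfsg.Agent.Helper6.FrakN.le_normalizer_pCore_map_subtype p H
  have hRp : IsPGroup p ↥R := Cfsg.Agent.Helper6.FrakN.isPGroup_pCore_map_subtype p H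
  have hRC : R ≤ C := by
    intro r hr
    apply mem_of_mem_normal Md C hO H R hFH hHR _ r (hTGd (hRT hr)) hr
    intro d hd
    obtain ⟨k, hk⟩ := hRp ⟨d, hd⟩
    refine ⟨k, ?_⟩
    have hk' := congrArg Subtype.val hk
    rw [Subgroup.coe_pow, Subgroup.coe_one] at hk'
    rw [hk']; exact C.one_mem
  -- `Y ≤ R`
  have hYR : Y ≤ R := by
    have hrel := (Cfsg.Agent.Helper6.FrakN.hasCharP_iff_rel p H).mp hH
    intro y hy
    apply hrel
    have hyc : y ∈ Subgroup.centralizer ((Cfsg.pCoreOf p H : Subgroup G) : Set G) := by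
      rw [Subgroup.mem_centralizer_iff]
      intro r hr
      exact (Subgroup.mem_centralizer_iff.mp (hRC hr) y hy).symm
    exact ⟨hYH hy, hyc⟩
  -- `V = ⟨Y^H⟩`
  set V := conjClosure H Y with hV
  have hYV : Y ≤ V := le_conjClosure H Y
  have hHV : H ≤ Subgroup.normalizer (V : Set G) := le_normalizer_conjClosure H Y
  have hgenR : ∀ a ∈ H, ∀ y ∈ Y, a * y * a⁻¹ ∈ R := fun a ha y hy =>
    (Subgroup.mem_normalizer_iff.mp (hHR ha) y).mp (hYR hy)
  have hVR : V ≤ R := conjClosure_le H Y R hgenR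
  have hVH : V ≤ H := hVR.trans ((hRT.trans (by
    rintro _ ⟨t, -, rfl⟩; exact t.2)))
  have hgencent : ∀ a ∈ H, ∀ y ∈ Y, ∀ r ∈ R, (a * y * a⁻¹) * r = r * (a * y * a⁻¹) := by
    intro a ha y hy r hr
    have h1 : a⁻¹ * r * a⁻¹⁻¹ ∈ R :=
      (Subgroup.mem_normalizer_iff.mp (hHR (H.inv_mem ha)) r).mp hr
    have h2 := Subgroup.mem_centralizer_iff.mp (hRC h1) y hy
    calc a * y * a⁻¹ * r = a * (y * (a⁻¹ * r * a⁻¹⁻¹)) * a⁻¹ := by group
      _ = a * ((a⁻¹ * r * a⁻¹⁻¹) * y) * a⁻¹ := by rw [h2]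
      _ = _ := by group
  have hVel : Cfsg.IsElementaryAbelian p V := by
    apply isElementaryAbelian_closure'
    · rintro z ⟨a, ha, y, hy, rfl⟩ z' ⟨a', ha', y', hy', rfl⟩
      exact hgencent a ha y hy _ (hgenR a' ha' y' hy')
    · rintro z ⟨a, ha, y, hy, rfl⟩
      rw [conj_pow, hYel.2 y hy, mul_one, mul_inv_cancel]
  -- `V` is `p`-reduced in `H`
  have hPV : PRedIn p H V := by
    refine ⟨hVH, hHV, hVel, ?_⟩
    intro D hDH hHD hp
    set K := H ⊓ Subgroup.centralizer (V : Set G) with hK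
    have hHK : H ≤ Subgroup.normalizer (K : Set G) := fun x hx =>
      Cfsg.Agent.Helper6.FrakN.mem_normalizer_inf _ _ x (Subgroup.le_normalizer hx)
        (normalizer_le_normalizer_centralizer V (hHV hx))
    set D' := D ⊔ K with hD'
    have hD'H : D' ≤ H := sup_le hDH inf_le_left
    have hHD' : H ≤ Subgroup.normalizer (D' : Set G) := by
      intro x hx
      rw [mem_normalizer_iff_map_conj, hD', Subgroup.map_sup,
        (mem_normalizer_iff_map_conj D x).mp (hHD hx), (mem_normalizer_iff_map_conj K x).mp (hHK hx)]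
    have hCV : Subgroup.centralizer (V : Set G) ≤ C := Subgroup.centralizer_le hYV
    have hp' : ∀ d ∈ D', ∃ k : ℕ, d ^ p ^ k ∈ C := by
      intro d' hd'
      obtain ⟨d, hd, k₀, hk₀, rfl⟩ := Cfsg.Agent.Helper1.mem_sup_of_le_normalizer
        (N := D) (A := K) (inf_le_left.trans hHD) hd'
      obtain ⟨k, hk⟩ := hp d hd
      obtain ⟨c', hc', he⟩ := mul_pow_of_mem_normalizer K d k₀ (hHK (hDH hd)) hk₀ (p ^ k)
      refine ⟨k, ?_⟩
      rw [he]
      exact C.mul_mem (hCV hk) (hCV hc'.2)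
    -- the quotient `H / K`
    have hKn : (K.subgroupOf H).Normal :=
      (Subgroup.normal_subgroupOf_iff_le_normalizer inf_le_left).mpr hHK
    set πH := QuotientGroup.mk' (K.subgroupOf H) with hπH
    have hsurj : Function.Surjective πH := QuotientGroup.mk'_surjective _
    have hD'C : D' ≤ C := by
      intro d' hd'
      have hnorm : ((D'.subgroupOf H).map πH).Normal :=
        Subgroup.Normal.map ((Subgroup.normal_subgroupOf_iff_le_normalizer hD'H).mpr hHD') πH hsurj
      have hpg : IsPGroup p ↥((D'.subgroupOf H).map πH) := by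
        rintro ⟨_, ⟨x, hx, rfl⟩⟩
        have hx' : (x : G) ∈ D' := Subgroup.mem_subgroupOf.mp hx
        obtain ⟨d, hd, k₀, hk₀, hxe⟩ := Cfsg.Agent.Helper1.mem_sup_of_le_normalizer
          (N := D) (A := K) (inf_le_left.trans hHD) hx'
        obtain ⟨k, hk⟩ := hp d hd
        obtain ⟨c', hc', he⟩ := mul_pow_of_mem_normalizer K d k₀ (hHK (hDH hd)) hk₀ (p ^ k)
        refine ⟨k, ?_⟩
        apply Subtype.ext
        rw [Subgroup.coe_pow, Subgroup.coe_one, ← map_pow, hπH, QuotientGroup.mk'_apply,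
          QuotientGroup.eq_one_iff, Subgroup.mem_subgroupOf, Subgroup.coe_pow, hxe, he]
        have h1 : d ^ p ^ k ∈ K := ⟨H.pow_mem (hDH hd) _, hk⟩
        exact K.mul_mem h1 hc'
      have hle := (le_pCore hnorm hpg).trans (pCore_le_sylow (T.mapSurjective hsurj))
      have hmem : πH ⟨d', hD'H hd'⟩ ∈ (D'.subgroupOf H).map πH :=
        ⟨⟨d', hD'H hd'⟩, Subgroup.mem_subgroupOf.mpr hd', rfl⟩
      have h2 := hle hmem
      rw [Sylow.coe_mapSurjective] at h2
      obtain ⟨t, ht, hte⟩ := h2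
      have h3 : t⁻¹ * ⟨d', hD'H hd'⟩ ∈ K.subgroupOf H := by
        rw [← QuotientGroup.eq]; exact hte
      rw [Subgroup.mem_subgroupOf] at h3
      simp only [Subgroup.coe_mul, Subgroup.coe_inv] at h3
      have htTG : (t : G) ∈ TG := ⟨t, ht, rfl⟩
      have htD' : (t : G) ∈ D' := by
        have : (t : G) = d' * ((t : G)⁻¹ * d')⁻¹ := by group
        rw [this]
        exact D'.mul_mem hd' (D'.inv_mem (le_sup_right (a := D) h3))
      have htC : (t : G) ∈ C :=
        mem_of_mem_normal Md C hO H D' hFH hHD' hp' (t : G) (hTGd htTG) htD'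
      have : d' = (t : G) * ((t : G)⁻¹ * d') := by group
      rw [this]
      exact C.mul_mem htC (hCV h3.2)
    -- `D'` centralizes `V`
    have hVD' : V ≤ Subgroup.centralizer (D' : Set G) := by
      apply conjClosure_le
      intro a ha y hy
      rw [Subgroup.mem_centralizer_iff]
      intro d' hd'
      have h1 : a⁻¹ * d' * a⁻¹⁻¹ ∈ D' :=
        (Subgroup.mem_normalizer_iff.mp (hHD' (H.inv_mem ha)) d').mp hd'
      have h2 := Subgroup.mem_centralizer_iff.mp (hD'C h1) y hy
      calc d' * (a * y * a⁻¹) = a * ((a⁻¹ * d' * a⁻¹⁻¹) * y) * a⁻¹ := by group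
        _ = a * (y * (a⁻¹ * d' * a⁻¹⁻¹)) * a⁻¹ := by rw [h2]
        _ = _ := by group
    exact le_sup_left.trans (Subgroup.le_centralizer_iff.mp hVD')
  exact hYV.trans hPV.le_largestPReducedOf

end

end Cfsg.Agent.Helper1.Asym
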