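import Mathlib
import Cfsg.Agent.Helper1.AsymG
import Cfsg.Agent.Helper5.PResidual
import Cfsg.Agent.Helper5.PIrreducible

/-!
helper1: the asymmetric case: structure of the minimal subgroups `H ≥ O_p(M)` with
`Y_M ≰ O_p(H)` (the members of `ℌ_G(O_p(M))`, without the characteristic `p` condition).
-/

set_option autoImplicit false

namespace Cfsg.Agent.Helper1.Asym

open Cfsg Cfsg.Agent.Helper5

variable {G : Type*} [Group G]

/-- membership in `ℌ_G(O_p(M))` without the characteristic `p` condition. -/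
structure WeakH (p : ℕ) (M H : Subgroup G) : Prop where
  hBH : Cfsg.pCoreOf p M ≤ H
  hY : ¬ Cfsg.largestPReducedOf p M ≤ Cfsg.pCoreOf p H
  hmin : ∀ P : Subgroup G, Cfsg.pCoreOf p M ≤ P → P < H →
    Cfsg.largestPReducedOf p M ≤ Cfsg.pCoreOf p P

theorem weakH_of_isInFrakH {p : ℕ} {M H : Subgroup G} (hH : Cfsg.IsInFrakH p M H) :
    WeakH p M H := ⟨hH.2.1, hH.2.2.1, hH.2.2.2⟩

/-- `O^p(H)` lies in every subgroup `N` normalized by `H` with `H ≤ N P`, `P ≤ H` a `p`-group. -/
theorem pResidual_map_le_of_le_sup [Finite G] {p : ℕ} [Fact p.Prime] (H N P : Subgroup G)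
    (hHN : H ≤ Subgroup.normalizer (N : Set G)) (hPH : P ≤ H) (hP : IsPGroup p ↥P)
    (hsup : H ≤ N ⊔ P) : (Cfsg.pResidual p ↥H).map H.subtype ≤ N := by
  rw [map_subtype_pResidual, Subgroup.closure_le]
  rintro g ⟨hgH, hg⟩
  obtain ⟨n, hn, x, hx, rfl⟩ := Cfsg.Agent.Helper1.mem_sup_of_le_normalizer
    (N := N) (A := P) (hPH.trans hHN) (hsup hgH)
  obtain ⟨k, hk⟩ := hP ⟨x, hx⟩
  have hk' : x ^ p ^ k = 1 := by
    have := congrArg Subtype.val hk
    simpa using this
  have hxN : x ∈ Subgroup.normalizer (N : Set G) := hHN (hPH hx)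
  have hc : x⁻¹ * n * x⁻¹⁻¹ ∈ N :=
    (Subgroup.mem_normalizer_iff.mp (Subgroup.inv_mem _ hxN) n).mp hn
  have he : n * x = x * (x⁻¹ * n * x⁻¹⁻¹) := by group
  obtain ⟨c', hc', hpow⟩ := mul_pow_of_mem_normalizer N x _ hxN hc (p ^ k)
  have h1 : (n * x) ^ p ^ k ∈ N := by
    rw [he, hpow, hk', one_mul]; exact hc'
  have h2 : (n * x) ^ orderOf (n * x) ∈ N := by
    rw [pow_orderOf_eq_one]; exact N.one_mem
  exact mem_of_pow_mem_of_coprime N (n * x) _ _ (Nat.Coprime.pow_right k hg) h2 h1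

section

variable [Finite G] {p : ℕ} [Fact p.Prime] {S : Sylow p G} {M H : Subgroup G}

theorem WeakH.Y_le (h : Setup p S M) (w : WeakH p M H) : Cfsg.largestPReducedOf p M ≤ H :=
  h.Y_le_B.trans w.hBH

/-- a subgroup of `H` normalized by `H` and containing `O_p(M)` is `H`. -/
theorem WeakH.eq_of_normal (_h : Setup p S M) (w : WeakH p M H) (N : Subgroup G) (hNH : N ≤ H)
    (hHN : H ≤ Subgroup.normalizer (N : Set G)) (hBN : Cfsg.pCoreOf p M ≤ N) : N = H := by
  by_contra hne
  have hlt : N < H := lt_of_le_of_ne hNH hne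
  have h1 := w.hmin N hBN hlt
  apply w.hY
  refine h1.trans ?_
  apply Cfsg.Agent.Helper6.FrakN.le_pCore_map_subtype H _
    ((Cfsg.Agent.Helper6.FrakN.pCore_map_subtype_le p N).trans hNH)
    (Cfsg.Agent.Helper6.FrakN.isPGroup_pCore_map_subtype p N)
  exact hHN.trans (Cfsg.Agent.Helper6.FrakN.normalizer_le_normalizer_pCoreOf p N)

/-- a Sylow `p`-subgroup of `H` containing `O_p(M)`. -/
theorem WeakH.exists_sylow (h : Setup p S M) (w : WeakH p M H) :
    ∃ T : Sylow p ↥H, Cfsg.pCoreOf p M ≤ (T : Subgroup ↥H).map H.subtype ∧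
      (T : Subgroup ↥H).map H.subtype ≤
        Subgroup.normalizer ((Cfsg.pCoreOf p M : Subgroup G) : Set G) := by
  have hBpH : IsPGroup p ↥((Cfsg.pCoreOf p M).subgroupOf H) := h.isPGroup_B.comap_subtype
  obtain ⟨T, hT⟩ := hBpH.exists_le_sylow
  have hBT : Cfsg.pCoreOf p M ≤ (T : Subgroup ↥H).map H.subtype := by
    intro b hb
    exact ⟨⟨b, w.hBH hb⟩, hT (Subgroup.mem_subgroupOf.mpr hb), rfl⟩
  exact ⟨T, hBT, h.le_normalizer_B _ (T.2.map _) hBT⟩

theorem pResidual_map_le (p : ℕ) (H : Subgroup G) : (Cfsg.pResidual p ↥H).map H.subtype ≤ H := by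
  rintro _ ⟨x, -, rfl⟩; exact x.2

theorem le_normalizer_pResidual_map (p : ℕ) (H : Subgroup G) :
    H ≤ Subgroup.normalizer (((Cfsg.pResidual p ↥H).map H.subtype : Subgroup G) : Set G) :=
  le_normalizer_map_subtype_of_normal H _ inferInstance

theorem pResidual_map_sup_sylow (H : Subgroup G) (T : Sylow p ↥H) :
    (Cfsg.pResidual p ↥H).map H.subtype ⊔ (T : Subgroup ↥H).map H.subtype = H := by
  rw [← Subgroup.map_sup, pResidual_sup_sylow T, ← MonoidHom.range_eq_map, Subgroup.range_subtype]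

/-- (iv): `O^p(H) O_p(M) = H`. -/
theorem WeakH.pResidual_sup_B (h : Setup p S M) (w : WeakH p M H) :
    (Cfsg.pResidual p ↥H).map H.subtype ⊔ Cfsg.pCoreOf p M = H := by
  obtain ⟨T, hBT, hTN⟩ := w.exists_sylow h
  set R := (Cfsg.pResidual p ↥H).map H.subtype with hR
  set TG := (T : Subgroup ↥H).map H.subtype with hTG
  have hRT : R ⊔ TG = H := pResidual_map_sup_sylow H T
  have hTGH : TG ≤ H := by rw [← hRT]; exact le_sup_right
  apply w.eq_of_normal h _ (sup_le (pResidual_map_le p H) w.hBH) _ le_sup_right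
  have hRn : R ≤ Subgroup.normalizer ((R ⊔ Cfsg.pCoreOf p M : Subgroup G) : Set G) :=
    le_sup_left.trans Subgroup.le_normalizer
  have hTn : TG ≤ Subgroup.normalizer ((R ⊔ Cfsg.pCoreOf p M : Subgroup G) : Set G) := by
    intro t ht
    rw [mem_normalizer_iff_map_conj, Subgroup.map_sup,
      (mem_normalizer_iff_map_conj R t).mp (le_normalizer_pResidual_map p H (hTGH ht)),
      (mem_normalizer_iff_map_conj _ t).mp (hTN ht)]
  calc H = R ⊔ TG := hRT.symm
    _ ≤ _ := sup_le hRn hTn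

/-- (vi): the normal closure of `O_p(M)` in `H` is `H`. -/
theorem WeakH.normalClosure_B (h : Setup p S M) (w : WeakH p M H) :
    (Subgroup.normalClosure (((Cfsg.pCoreOf p M).subgroupOf H : Subgroup ↥H) : Set ↥H)).map
      H.subtype = H := by
  apply w.eq_of_normal h
  · rintro _ ⟨x, -, rfl⟩; exact x.2
  · exact le_normalizer_map_subtype_of_normal H _ Subgroup.normalClosure_normal
  · intro b hb
    exact ⟨⟨b, w.hBH hb⟩, Subgroup.subset_normalClosure (Subgroup.mem_subgroupOf.mpr hb), rfl⟩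

/-- (v): the normal closure of `Y_M` in `H` is `O^p(H) Y_M`. -/
theorem WeakH.pResidual_sup_Y (h : Setup p S M) (w : WeakH p M H) :
    (Cfsg.pResidual p ↥H).map H.subtype ⊔ Cfsg.largestPReducedOf p M =
      (Subgroup.normalClosure (((Cfsg.largestPReducedOf p M).subgroupOf H : Subgroup ↥H) :
        Set ↥H)).map H.subtype := by
  set Y := Cfsg.largestPReducedOf p M with hY
  set B := Cfsg.pCoreOf p M with hB
  set R := (Cfsg.pResidual p ↥H).map H.subtype with hR
  set NY := (Subgroup.normalClosure ((Y.subgroupOf H : Subgroup ↥H) : Set ↥H)).map H.subtype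
    with hNY
  have hYH : Y ≤ H := w.Y_le h
  have hNYH : NY ≤ H := by rintro _ ⟨x, -, rfl⟩; exact x.2
  have hHNY : H ≤ Subgroup.normalizer (NY : Set G) :=
    le_normalizer_map_subtype_of_normal H _ Subgroup.normalClosure_normal
  have hYNY : Y ≤ NY := by
    intro y hy
    exact ⟨⟨y, hYH hy⟩, Subgroup.subset_normalClosure (Subgroup.mem_subgroupOf.mpr hy), rfl⟩
  have hRB := w.pResidual_sup_B h
  have hBY : B ≤ Subgroup.normalizer (Y : Set G) := h.B_le_M.trans h.M_le_normalizer_Y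
  apply le_antisymm
  · -- `R ≤ NY` since `H = NY B`
    apply sup_le _ hYNY
    apply pResidual_map_le_of_le_sup H NY B hHNY w.hBH h.isPGroup_B
    by_contra hnot
    have hlt : NY ⊔ B < H := lt_of_le_of_ne (sup_le hNYH w.hBH) (fun he => hnot he.ge)
    have h1 := w.hmin (NY ⊔ B) le_sup_right hlt
    apply w.hY
    intro y hy
    have hmem : y ∈ Cfsg.pCoreOf p (NY ⊔ B) ⊓ NY := ⟨h1 hy, hYNY hy⟩
    refine Cfsg.Agent.Helper6.FrakN.le_pCore_of_normal_in_normal H NY
      (Cfsg.pCoreOf p (NY ⊔ B) ⊓ NY) hNYH hHNY inf_le_right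
      ((Cfsg.Agent.Helper6.FrakN.isPGroup_pCore_map_subtype p _).to_le inf_le_left) ?_ hmem
    intro x hx
    exact Cfsg.Agent.Helper6.FrakN.mem_normalizer_inf _ _ x
      (Cfsg.Agent.Helper6.FrakN.le_normalizer_pCore_map_subtype p _ (le_sup_left (b := B) hx))
      (Subgroup.le_normalizer hx)
  · -- `NY ≤ R Y` since `R Y` is normalized by `H = R B`
    have hnorm : H ≤ Subgroup.normalizer ((R ⊔ Y : Subgroup G) : Set G) := by
      have hRn : R ≤ Subgroup.normalizer ((R ⊔ Y : Subgroup G) : Set G) :=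
        le_sup_left.trans Subgroup.le_normalizer
      have hBn : B ≤ Subgroup.normalizer ((R ⊔ Y : Subgroup G) : Set G) := by
        intro b hb
        rw [mem_normalizer_iff_map_conj, Subgroup.map_sup,
          (mem_normalizer_iff_map_conj R b).mp (le_normalizer_pResidual_map p H (w.hBH hb)),
          (mem_normalizer_iff_map_conj Y b).mp (hBY hb)]
      calc H = R ⊔ B := hRB.symm
        _ ≤ _ := sup_le hRn hBn
    have hRYH : R ⊔ Y ≤ H := sup_le (pResidual_map_le p H) hYH
    have hn : ((R ⊔ Y).subgroupOf H).Normal :=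
      (Subgroup.normal_subgroupOf_iff_le_normalizer hRYH).mpr hnorm
    have hle : Subgroup.normalClosure ((Y.subgroupOf H : Subgroup ↥H) : Set ↥H) ≤
        (R ⊔ Y).subgroupOf H := by
      apply Subgroup.normalClosure_le_normal
      intro x hx
      exact Subgroup.mem_subgroupOf.mpr (le_sup_right (a := R) (Subgroup.mem_subgroupOf.mp hx))
    have := Subgroup.map_mono (f := H.subtype) hle
    rwa [Subgroup.map_subgroupOf_eq_of_le hRYH] at this

/-- (iii): `[O^p(H), Y_M] = O^p(H)`. -/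
theorem WeakH.commutator_pResidual_Y (h : Setup p S M) (w : WeakH p M H) :
    ⁅(Cfsg.pResidual p ↥H).map H.subtype, Cfsg.largestPReducedOf p M⁆ =
      (Cfsg.pResidual p ↥H).map H.subtype := by
  set Y := Cfsg.largestPReducedOf p M with hY
  set B := Cfsg.pCoreOf p M with hB
  set R := (Cfsg.pResidual p ↥H).map H.subtype with hR
  have hYH : Y ≤ H := w.Y_le h
  have hRH : R ≤ H := pResidual_map_le p H
  have hHR : H ≤ Subgroup.normalizer (R : Set G) := le_normalizer_pResidual_map p H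
  have hRB := w.pResidual_sup_B h
  have hBY : B ≤ Subgroup.normalizer (Y : Set G) := h.B_le_M.trans h.M_le_normalizer_Y
  have hYR : Y ≤ Subgroup.normalizer (R : Set G) := hYH.trans hHR
  have hKR : ⁅R, Y⁆ ≤ R := by
    rw [Subgroup.commutator_comm]
    exact Cfsg.Agent.Helper2.commutator_le_of_le_normalizer hYR
  apply le_antisymm hKR
  set K := ⁅R, Y⁆ with hK
  -- `K` is normalized by `H`
  have hRK : R ≤ Subgroup.normalizer (K : Set G) := Subgroup.normalizer_commutator_ge_left R Y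
  have hBK : B ≤ Subgroup.normalizer (K : Set G) := by
    intro b hb
    rw [mem_normalizer_iff_map_conj, hK, Subgroup.map_commutator,
      (mem_normalizer_iff_map_conj R b).mp (hHR (w.hBH hb)),
      (mem_normalizer_iff_map_conj Y b).mp (hBY hb)]
  have hHK : H ≤ Subgroup.normalizer (K : Set G) := by
    calc H = R ⊔ B := hRB.symm
      _ ≤ _ := sup_le hRK hBK
  -- `K Y` is normalized by `H`
  have hYK : Y ≤ Subgroup.normalizer (K : Set G) := hYH.trans hHK
  have hRKY : R ≤ Subgroup.normalizer ((K ⊔ Y : Subgroup G) : Set G) := by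
    intro r hr
    apply mem_normalizer_of_conj_mem
    intro x hx
    obtain ⟨k, hk, y, hy, rfl⟩ := Cfsg.Agent.Helper1.mem_sup_of_le_normalizer
      (N := K) (A := Y) hYK hx
    have h1 : r * k * r⁻¹ ∈ K := (Subgroup.mem_normalizer_iff.mp (hRK hr) k).mp hk
    have h2 : r * y * r⁻¹ * y⁻¹ ∈ K := Subgroup.commutator_mem_commutator hr hy
    have : r * (k * y) * r⁻¹ = (r * k * r⁻¹) * (r * y * r⁻¹ * y⁻¹) * y := by group
    rw [this]
    exact Subgroup.mul_mem _ (Subgroup.mem_sup_left (K.mul_mem h1 h2)) (Subgroup.mem_sup_right hy)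
  have hBKY : B ≤ Subgroup.normalizer ((K ⊔ Y : Subgroup G) : Set G) := by
    intro b hb
    rw [mem_normalizer_iff_map_conj, Subgroup.map_sup,
      (mem_normalizer_iff_map_conj K b).mp (hBK hb),
      (mem_normalizer_iff_map_conj Y b).mp (hBY hb)]
  have hHKY : H ≤ Subgroup.normalizer ((K ⊔ Y : Subgroup G) : Set G) := by
    calc H = R ⊔ B := hRB.symm
      _ ≤ _ := sup_le hRKY hBKY
  -- hence `R ≤ NY ≤ K Y`
  have hKYH : K ⊔ Y ≤ H := sup_le (hKR.trans hRH) hYH
  have hn : ((K ⊔ Y).subgroupOf H).Normal :=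
    (Subgroup.normal_subgroupOf_iff_le_normalizer hKYH).mpr hHKY
  have hle : Subgroup.normalClosure ((Y.subgroupOf H : Subgroup ↥H) : Set ↥H) ≤
      (K ⊔ Y).subgroupOf H := by
    apply Subgroup.normalClosure_le_normal
    intro x hx
    exact Subgroup.mem_subgroupOf.mpr (le_sup_right (a := K) (Subgroup.mem_subgroupOf.mp hx))
  have h1 := Subgroup.map_mono (f := H.subtype) hle
  rw [Subgroup.map_subgroupOf_eq_of_le hKYH, ← w.pResidual_sup_Y h] at h1
  -- `H ≤ K B`
  apply pResidual_map_le_of_le_sup H K B hHK w.hBH h.isPGroup_B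
  calc H = R ⊔ B := hRB.symm
    _ ≤ (K ⊔ Y) ⊔ B := sup_le_sup_right (le_sup_left.trans h1) B
    _ ≤ K ⊔ B := sup_le (sup_le le_sup_left (h.Y_le_B.trans le_sup_right)) le_sup_right

end

end Cfsg.Agent.Helper1.Asym
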