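import Mathlib
import Cfsg.Agent.Helper1.AsymH

/-!
helper1: the asymmetric case: Sylow subgroups of `H ∩ M†` are Sylow in `H`, for `H ≥ O_p(M)`;
`O_p(H) ≤ N_G(O_p(M)) ∩ N_G(Y_M)`.
-/

set_option autoImplicit false

namespace Cfsg.Agent.Helper1.Asym

open Cfsg Cfsg.Agent.Helper5

open scoped Pointwise

variable {G : Type*} [Group G] [Finite G] {p : ℕ} [Fact p.Prime] {S : Sylow p G} {M : Subgroup G}

/-- If some Sylow `p`-subgroup of `H` lies in `K ≤ H`, then every Sylow `p`-subgroup of `K` is a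
Sylow `p`-subgroup of `H`. -/
theorem sylow_of_sylow_le (H K : Subgroup G) (hKH : K ≤ H) (T₀ : Sylow p ↥H)
    (hT₀ : (T₀ : Subgroup ↥H) ≤ K.subgroupOf H) (T : Sylow p ↥K) :
    ∃ P : Sylow p ↥H, (P : Subgroup ↥H).map H.subtype = (T : Subgroup ↥K).map K.subtype := by
  set A := (T₀ : Subgroup ↥H).map H.subtype with hA
  have hAK : A ≤ K := by
    rintro _ ⟨t, ht, rfl⟩
    exact Subgroup.mem_subgroupOf.mp (hT₀ ht)
  have hAp : IsPGroup p ↥(A.subgroupOf K) := (T₀.2.map _).comap_subtype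
  obtain ⟨T', hT'⟩ := hAp.exists_le_sylow
  obtain ⟨k, hk⟩ := MulAction.exists_smul_eq ↥K T' T
  set hk' : ↥H := ⟨(k : G), hKH k.2⟩ with hhk'
  set TG := (T : Subgroup ↥K).map K.subtype with hTG
  have hTGH : TG ≤ H := by rintro _ ⟨t, -, rfl⟩; exact hKH t.2
  refine ⟨hk' • T₀, ?_⟩
  have hle : ((hk' • T₀ : Sylow p ↥H) : Subgroup ↥H) ≤ TG.subgroupOf H := by
    intro x hx
    rw [Sylow.coe_subgroup_smul, Cfsg.Agent.Helper1.mem_conj_smul] at hx
    rw [Subgroup.mem_subgroupOf]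
    -- `y = k⁻¹ x k ∈ T₀`, so `y ∈ A ≤ T'`, so `x = k y k⁻¹ ∈ T`
    have hyA : ((hk'⁻¹ * x * hk' : ↥H) : G) ∈ A := ⟨_, hx, rfl⟩
    have hyK : ((hk'⁻¹ * x * hk' : ↥H) : G) ∈ K := hAK hyA
    have hyT' : (⟨_, hyK⟩ : ↥K) ∈ (T' : Subgroup ↥K) := hT' (Subgroup.mem_subgroupOf.mpr hyA)
    have h2 : k * ⟨_, hyK⟩ * k⁻¹ ∈ ((k • T' : Sylow p ↥K) : Subgroup ↥K) := by
      rw [Sylow.coe_subgroup_smul]
      exact Cfsg.Agent.Helper1.conj_mem_conj_smul hyT'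
    rw [hk] at h2
    refine ⟨_, h2, ?_⟩
    simp only [Subgroup.coe_subtype, Subgroup.coe_mul, Subgroup.coe_inv, hhk']
    group
  have hp : IsPGroup p ↥(TG.subgroupOf H) := (T.2.map _).comap_subtype
  have heq := (hk' • T₀).is_maximal' hp hle
  rw [← heq, Subgroup.map_subgroupOf_eq_of_le hTGH]

/-- (i): every Sylow `p`-subgroup of `H ∩ M†` is a Sylow `p`-subgroup of `H`. -/
theorem Setup.sylow_inf_dagger (h : Setup p S M) (H : Subgroup G) (hBH : Cfsg.pCoreOf p M ≤ H)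
    (T : Sylow p ↥(H ⊓ (M ⊔ Subgroup.centralizer (Cfsg.largestPReducedOf p M : Set G)))) :
    ∃ P : Sylow p ↥H, (P : Subgroup ↥H).map H.subtype =
      (T : Subgroup ↥(H ⊓ (M ⊔ Subgroup.centralizer
        (Cfsg.largestPReducedOf p M : Set G)))).map
        (H ⊓ (M ⊔ Subgroup.centralizer (Cfsg.largestPReducedOf p M : Set G))).subtype := by
  obtain ⟨T₀, hT₀⟩ := h.isParabolic H hBH
  exact sylow_of_sylow_le H _ inf_le_left T₀ hT₀ T

/-- (ii): `O_p(H) ≤ N_G(O_p(M)) ∩ N_G(Y_M)` for `H ≥ O_p(M)`. -/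
theorem Setup.pCoreOf_le_normalizers (h : Setup p S M) (H : Subgroup G)
    (hBH : Cfsg.pCoreOf p M ≤ H) :
    Cfsg.pCoreOf p H ≤ Subgroup.normalizer ((Cfsg.pCoreOf p M : Subgroup G) : Set G) ⊓
      Subgroup.normalizer ((Cfsg.largestPReducedOf p M : Subgroup G) : Set G) := by
  have hBpH : IsPGroup p ↥((Cfsg.pCoreOf p M).subgroupOf H) := h.isPGroup_B.comap_subtype
  obtain ⟨T, hT⟩ := hBpH.exists_le_sylow
  have hBT : Cfsg.pCoreOf p M ≤ (T : Subgroup ↥H).map H.subtype := by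
    intro b hb
    exact ⟨⟨b, hBH hb⟩, hT (Subgroup.mem_subgroupOf.mpr hb), rfl⟩
  have hTN := h.le_normalizer_B _ (T.2.map _) hBT
  have hRT : Cfsg.pCoreOf p H ≤ (T : Subgroup ↥H).map H.subtype :=
    Subgroup.map_mono (pCore_le_sylow T)
  exact le_inf (hRT.trans hTN)
    ((hRT.trans hTN).trans (h.normalizer_B_le_dagger.trans h.dagger_le_normalizer_Y))

end Cfsg.Agent.Helper1.Asym
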