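import Mathlib
import Cfsg.Agent.Helper1.AsymI

/-!
helper1: general lemmas for the existence of members of `ℌ_G(O_p(M))` (asymmetric case):
`p'`-elements and central `p`-commutators; coprime action killing a nilpotent chain.
-/

set_option autoImplicit false

namespace Cfsg.Agent.Helper1.Asym

open Cfsg Cfsg.Agent.Helper5

open scoped Pointwise

variable {G : Type*} [Group G]

/-- an element that is both a `p`-element and a `p'`-element is trivial. -/
theorem eq_one_of_coprime_of_pow {p : ℕ} {z : G} {n k : ℕ} (hn : n.Coprime p) (h1 : z ^ n = 1)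
    (h2 : z ^ p ^ k = 1) : z = 1 := by
  have hd1 : orderOf z ∣ n := orderOf_dvd_of_pow_eq_one h1
  have hd2 : orderOf z ∣ p ^ k := orderOf_dvd_of_pow_eq_one h2
  have hc : n.Coprime (p ^ k) := Nat.Coprime.pow_right k hn
  have : orderOf z ∣ 1 := by
    have := Nat.dvd_gcd hd1 hd2
    rwa [hc.gcd_eq_one] at this
  exact orderOf_eq_one_iff.mp (Nat.dvd_one.mp this)

/-- if `e` is a `p'`-element and the commutator `e⁻¹ y⁻¹ e y` is a `p`-element commuting with `e`,
then `e` and `y` commute. -/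
theorem commute_of_coprime_commutator [Finite G] {p : ℕ} {e y : G} (he : (orderOf e).Coprime p)
    (hz : Commute e (e⁻¹ * y⁻¹ * e * y)) {k : ℕ} (hzp : (e⁻¹ * y⁻¹ * e * y) ^ p ^ k = 1) :
    Commute e y := by
  set z := e⁻¹ * y⁻¹ * e * y with hzdef
  have h1 : y⁻¹ * e * y = e * z := by rw [hzdef]; group
  have h2 : (y⁻¹ * e * y) ^ orderOf e = 1 := by
    have : (y⁻¹ * e * y) ^ orderOf e = y⁻¹ * e ^ orderOf e * y := by
      have := conj_pow (a := y⁻¹) (b := e) (i := orderOf e)
      rw [inv_inv] at this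
      exact this
    rw [this, pow_orderOf_eq_one]; group
  rw [h1, hz.mul_pow, pow_orderOf_eq_one, one_mul] at h2
  have hz1 : z = 1 := eq_one_of_coprime_of_pow he h2 hzp
  have : e⁻¹ * y⁻¹ * e * y = 1 := hz1
  have h3 : e * y = y * e := by
    calc e * y = y * e * (e⁻¹ * y⁻¹ * e * y) := by group
      _ = y * e := by rw [this, mul_one]
  exact h3

/-- a finite group all of whose `p'`-elements are trivial is a `p`-group. -/
theorem isPGroup_of_coprime_eq_one [Finite G] {p : ℕ} [Fact p.Prime] (K : Subgroup G)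
    (h : ∀ x ∈ K, (orderOf x).Coprime p → x = 1) : IsPGroup p ↥K := by
  intro x
  have hpos : orderOf (x : G) ≠ 0 := (orderOf_pos (x : G)).ne'
  obtain ⟨e, m, hm, hgm⟩ := Nat.exists_eq_pow_mul_and_not_dvd hpos p
    (Fact.out : p.Prime).one_lt.ne'
  refine ⟨e, ?_⟩
  apply Subtype.ext
  rw [Subgroup.coe_pow, Subgroup.coe_one]
  apply h _ (K.pow_mem x.2 _)
  rw [orderOf_pow, hgm]
  have hpe : 0 < p ^ e := pow_pos (Fact.out : p.Prime).pos e
  have : Nat.gcd (p ^ e * m) (p ^ e) = p ^ e := Nat.gcd_eq_right (dvd_mul_right _ _)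
  rw [this, Nat.mul_div_cancel_left m hpe]
  exact ((Fact.out : p.Prime).coprime_iff_not_dvd.mpr hm).symm

/-- coprime action: a `p'`-element `e` of a group `E` normalizing the `p`-group `Q` with
`[Q, E, E, E] = 1` centralizes `Q`. -/
theorem mem_centralizer_of_triple_commutator [Finite G] {p : ℕ} [Fact p.Prime] (Q E : Subgroup G)
    (hQp : IsPGroup p ↥Q) (hEQ : E ≤ Subgroup.normalizer (Q : Set G))
    (h3 : ⁅⁅⁅Q, E⁆, E⁆, E⁆ = ⊥) (e : G) (he : e ∈ E) (hcop : (orderOf e).Coprime p) :
    e ∈ Subgroup.centralizer (Q : Set G) := by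
  set A := Subgroup.zpowers e with hA
  have hAE : A ≤ E := by rw [hA, Subgroup.zpowers_le]; exact he
  have hAQ : A ≤ Subgroup.normalizer (Q : Set G) := hAE.trans hEQ
  have hcard : (Nat.card A).Coprime (Nat.card Q) := by
    rw [hA, Nat.card_zpowers]
    obtain ⟨k, hk⟩ := IsPGroup.iff_card.mp hQp
    rw [hk]
    exact Nat.Coprime.pow_right k hcop
  have hsolv : Group.IsSolvable ↥A := by
    rw [hA]
    haveI : IsMulCommutative ↥(Subgroup.zpowers e) := inferInstance
    infer_instance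
  have h1 := Cfsg.Agent.Helper1.coprime_commutator_commutator A Q hAQ hcard (Or.inl hsolv)
  have h2 : ⁅Q, A⁆ = ⊥ := by
    have : ⁅Q, A⁆ = ⁅⁅⁅Q, A⁆, A⁆, A⁆ := by rw [h1, h1]
    rw [this, eq_bot_iff, ← h3]
    exact Subgroup.commutator_mono (Subgroup.commutator_mono
      (Subgroup.commutator_mono le_rfl hAE) hAE) hAE
  have h4 : A ≤ Subgroup.centralizer (Q : Set G) := by
    rw [Subgroup.commutator_comm] at h2
    exact (Subgroup.commutator_eq_bot_iff_le_centralizer).mp h2
  exact h4 (Subgroup.mem_zpowers e)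

/-- a nontrivial normal subgroup of a finite `p`-group meets the centre nontrivially (relative
form): if the `p`-group `T` normalizes the nontrivial subgroup `Y ≤ T`, some nontrivial element
of `Y` centralizes `T`. -/
theorem exists_mem_centralizer_of_normalizes [Finite G] {p : ℕ} [hp : Fact p.Prime]
    (T Y : Subgroup G) (hT : IsPGroup p ↥T) (hYT : Y ≤ T)
    (hTY : T ≤ Subgroup.normalizer (Y : Set G)) (hY1 : Y ≠ ⊥) :
    ∃ b ∈ Y, b ≠ 1 ∧ b ∈ Subgroup.centralizer (T : Set G) := by
  haveI hn : (Y.subgroupOf T).Normal := (Subgroup.normal_subgroupOf_iff_le_normalizer hYT).mpr hTY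
  have hT' : IsPGroup p (ConjAct ↥T) := hT
  have hne : Y.subgroupOf T ≠ ⊥ := by
    intro h
    apply hY1
    rw [eq_bot_iff]
    intro y hy
    have : (⟨y, hYT hy⟩ : ↥T) ∈ Y.subgroupOf T := Subgroup.mem_subgroupOf.mpr hy
    rw [h, Subgroup.mem_bot] at this
    rw [Subgroup.mem_bot]
    exact congrArg Subtype.val this
  have hcard : p ∣ Nat.card ↥(Y.subgroupOf T) := by
    obtain ⟨k, hk⟩ := (hT.to_subgroup (Y.subgroupOf T)).exists_card_eq
    have hk0 : k ≠ 0 := by
      rintro rfl
      rw [pow_zero] at hk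
      exact hne (Subgroup.card_eq_one.1 hk)
    rw [hk]
    exact dvd_pow_self p hk0
  have h1 : (1 : ↥(Y.subgroupOf T)) ∈ MulAction.fixedPoints (ConjAct ↥T) ↥(Y.subgroupOf T) := by
    intro g
    exact smul_one g
  obtain ⟨b, hb, hbne⟩ := hT'.exists_fixed_point_of_prime_dvd_card_of_fixed_point
    ↥(Y.subgroupOf T) hcard h1
  refine ⟨((b : ↥T) : G), Subgroup.mem_subgroupOf.mp b.2, ?_, ?_⟩
  · intro h
    apply hbne
    apply Subtype.ext
    apply Subtype.ext
    exact h.symm
  · rw [Subgroup.mem_centralizer_iff]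
    intro g hg
    have h2 := hb (ConjAct.toConjAct (⟨g, hg⟩ : ↥T))
    have h3 := congrArg Subtype.val h2
    rw [ConjAct.Subgroup.val_conj_smul, ConjAct.smul_def, ConjAct.ofConjAct_toConjAct] at h3
    have h4 := congrArg Subtype.val h3
    simp only [Subgroup.coe_mul, Subgroup.coe_inv] at h4
    calc g * ((b : ↥T) : G) = g * ((b : ↥T) : G) * g⁻¹ * g := by group
      _ = ((b : ↥T) : G) * g := by rw [h4]

end Cfsg.Agent.Helper1.Asym
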