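import Mathlib
import Cfsg.Agent.Helper1.AsymJ

/-!
helper1: existence of members of `ℌ_G(O_p(M))` (asymmetric case), part 1: a subgroup of `C_G(Y_M)`
normalized by `O_p(M)` whose normal `p`-subgroups are central has no nontrivial `p'`-elements.
-/

set_option autoImplicit false

namespace Cfsg.Agent.Helper1.Asym

open Cfsg Cfsg.Agent.Helper5

open scoped Pointwise

variable {G : Type*} [Group G] [Finite G] {p : ℕ} [Fact p.Prime] {S : Sylow p G} {M : Subgroup G}

/-- `C_G(Y_M) ≤ N_G(Q)` for a large subgroup `Q ≤ S`. -/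
theorem Setup.centralizer_Y_le_normalizer_large (h : Setup p S M) (Q : Subgroup G)
    (hQS : Q ≤ (S : Subgroup G)) (hQ : Cfsg.IsLarge Q) :
    Subgroup.centralizer (Cfsg.largestPReducedOf p M : Set G) ≤
      Subgroup.normalizer (Q : Set G) := by
  set Y := Cfsg.largestPReducedOf p M with hY
  have hYS : Y ≤ (S : Subgroup G) := h.Y_le_B.trans h.B_le_S
  have hSY : (S : Subgroup G) ≤ Subgroup.normalizer (Y : Set G) := h.hSM.trans h.M_le_normalizer_Y
  obtain ⟨b, hbY, hb1, hbS⟩ := exists_mem_centralizer_of_normalizes (S : Subgroup G) Y S.2 hYS hSY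
    h.Y_ne_bot
  set U := Subgroup.zpowers b with hU
  have hUQ : U ≤ Subgroup.centralizer (Q : Set G) := by
    rw [hU, Subgroup.zpowers_le]
    exact Subgroup.centralizer_le hQS hbS
  have hU1 : U ≠ ⊥ := by
    rw [hU, Ne, Subgroup.zpowers_eq_bot]
    exact hb1
  have hNU := hQ.2 U hUQ hU1
  intro x hx
  apply hNU
  apply Subgroup.centralizer_le_normalizer
  rw [Subgroup.mem_centralizer_iff]
  intro u hu
  have huY : u ∈ Y := by
    have : U ≤ Y := by rw [hU, Subgroup.zpowers_le]; exact hbY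
    exact this hu
  exact (Subgroup.mem_centralizer_iff.mp hx) u huY

/-- Lemma A: a subgroup `E ≤ C_G(Y_M)` normalized by `O_p(M)`, all of whose normal `p`-subgroups are
central, has no nontrivial `p'`-elements. -/
theorem Setup.coprime_eq_one_of_le_centralizer (h : Setup p S M) (Q : Subgroup G)
    (hQp : IsPGroup p ↥Q) (hQS : Q ≤ (S : Subgroup G)) (hQ : Cfsg.IsLarge Q) (E : Subgroup G)
    (hEY : E ≤ Subgroup.centralizer (Cfsg.largestPReducedOf p M : Set G))
    (hBE : Cfsg.pCoreOf p M ≤ Subgroup.normalizer (E : Set G))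
    (hcen : ∀ N : Subgroup G, N ≤ E → IsPGroup p ↥N → E ≤ Subgroup.normalizer (N : Set G) →
      N ≤ Subgroup.centralizer (E : Set G))
    (e : G) (he : e ∈ E) (hcop : (orderOf e).Coprime p) : e = 1 := by
  set Y := Cfsg.largestPReducedOf p M with hY
  set B := Cfsg.pCoreOf p M with hB
  set C := Subgroup.centralizer (Y : Set G) with hC
  have hSY : (S : Subgroup G) ≤ Subgroup.normalizer (Y : Set G) := h.hSM.trans h.M_le_normalizer_Y
  have hEQ : E ≤ Subgroup.normalizer (Q : Set G) :=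
    hEY.trans (h.centralizer_Y_le_normalizer_large Q hQS hQ)
  have h1 : ⁅Q, E⁆ ≤ Q := Subgroup.le_normalizer_iff_commutator_le_left.1 hEQ
  have hQNC : Q ≤ Subgroup.normalizer (C : Set G) :=
    (hQS.trans hSY).trans (normalizer_le_normalizer_centralizer Y)
  have h2 : ⁅Q, E⁆ ≤ C := by
    rw [Subgroup.commutator_comm]
    exact (Subgroup.commutator_mono hEY le_rfl).trans
      (Subgroup.le_normalizer_iff_commutator_le_left.1 hQNC)
  have h3 : ⁅Q, E⁆ ≤ B :=
    h.le_B_of_le_centralizer _ (le_inf (h1.trans (hQS.trans h.hSM)) h2) (hQp.to_le h1)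
  have h4 : ⁅⁅Q, E⁆, E⁆ ≤ E := by
    rw [Subgroup.commutator_comm]
    exact (Subgroup.commutator_mono le_rfl h3).trans
      (Subgroup.le_normalizer_iff_commutator_le_left.1 hBE)
  have h5 : ⁅⁅Q, E⁆, E⁆ ≤ Q :=
    (Subgroup.le_normalizer_iff_commutator_le_left.1
      (Subgroup.normalizer_commutator_ge_right Q E)).trans h1
  have hNcen := hcen (E ⊓ Q) inf_le_left (hQp.to_le inf_le_right)
    (Cfsg.Agent.Helper1.le_normalizer_inf Subgroup.le_normalizer hEQ)
  have h6 : ⁅⁅⁅Q, E⁆, E⁆, E⁆ = ⊥ := by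
    rw [eq_bot_iff]
    calc ⁅⁅⁅Q, E⁆, E⁆, E⁆ ≤ ⁅E ⊓ Q, E⁆ := Subgroup.commutator_mono (le_inf h4 h5) le_rfl
      _ = ⊥ := (Subgroup.commutator_eq_bot_iff_le_centralizer).mpr hNcen
  have h7 := mem_centralizer_of_triple_commutator Q E hQp hEQ h6 e he hcop
  have h8 : e ∈ Q := hQ.1 h7
  obtain ⟨k, hk⟩ := hQp ⟨e, h8⟩
  have hk' : e ^ p ^ k = 1 := by
    have := congrArg Subtype.val hk
    simpa using this
  exact eq_one_of_coprime_of_pow hcop (pow_orderOf_eq_one e) hk'

end Cfsg.Agent.Helper1.Asym
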