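import Mathlib
import Cfsg.Agent.Helper1.AsymK

/-!
helper1: existence of members of `ℌ_G(O_p(M))` (asymmetric case), part 2: a minimal subgroup
`H ≥ O_p(M)` with `Y_M ≰ O_p(H)` inside a group of characteristic `p` has characteristic `p`.
-/

set_option autoImplicit false

namespace Cfsg.Agent.Helper1.Asym

open Cfsg Cfsg.Agent.Helper5

open scoped Pointwise

variable {G : Type*} [Group G]

/-- `C_H(O_p(H))` as a subgroup of `G`. -/
def cenCore (p : ℕ) (H : Subgroup G) : Subgroup G :=
  H ⊓ Subgroup.centralizer ((Cfsg.pCoreOf p H : Subgroup G) : Set G)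

/-- `O^p(C_H(O_p(H)))` as a subgroup of `G`. -/
def cenRes (p : ℕ) (H : Subgroup G) : Subgroup G :=
  Subgroup.closure {g : G | g ∈ cenCore p H ∧ (orderOf g).Coprime p}

theorem cenCore_le (p : ℕ) (H : Subgroup G) : cenCore p H ≤ H := inf_le_left

theorem cenRes_le (p : ℕ) (H : Subgroup G) : cenRes p H ≤ cenCore p H := by
  unfold cenRes
  rw [Subgroup.closure_le]
  rintro g ⟨hg, -⟩
  exact hg

theorem mem_cenRes {p : ℕ} {H : Subgroup G} {g : G} (hg : g ∈ cenCore p H)
    (hcop : (orderOf g).Coprime p) : g ∈ cenRes p H :=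
  Subgroup.subset_closure ⟨hg, hcop⟩

section

variable [Finite G]

theorem le_normalizer_cenCore (p : ℕ) (H : Subgroup G) :
    H ≤ Subgroup.normalizer ((cenCore p H : Subgroup G) : Set G) := by
  unfold cenCore
  apply Cfsg.Agent.Helper1.le_normalizer_inf Subgroup.le_normalizer
  exact (Cfsg.Agent.Helper6.FrakN.le_normalizer_pCore_map_subtype p H).trans
    (normalizer_le_normalizer_centralizer _)

theorem le_normalizer_cenRes (p : ℕ) (H : Subgroup G) :
    H ≤ Subgroup.normalizer ((cenRes p H : Subgroup G) : Set G) := by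
  apply le_normalizer_of_conj_mem
  intro k hk x hx
  unfold cenRes at hx ⊢
  induction hx using Subgroup.closure_induction with
  | mem y hy =>
    apply Subgroup.subset_closure
    refine ⟨?_, ?_⟩
    · have := (Subgroup.mem_normalizer_iff.mp (le_normalizer_cenCore p H hk) y).mp hy.1
      exact this
    · have : orderOf (k * y * k⁻¹) = orderOf y := MulEquiv.orderOf_eq (MulAut.conj k) y
      rw [this]; exact hy.2
  | one => simp
  | mul a b _ _ ha hb =>
    have : k * (a * b) * k⁻¹ = (k * a * k⁻¹) * (k * b * k⁻¹) := by group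
    rw [this]; exact Subgroup.mul_mem _ ha hb
  | inv a _ ha =>
    have : k * a⁻¹ * k⁻¹ = (k * a * k⁻¹)⁻¹ := by group
    rw [this]; exact Subgroup.inv_mem _ ha

variable {p : ℕ} [Fact p.Prime]

/-- every normal `p`-subgroup of `O^p(C_H(O_p(H)))` is central in it. -/
theorem cenRes_central (H : Subgroup G) (N : Subgroup G) (hN : N ≤ cenRes p H)
    (hNp : IsPGroup p ↥N) (hEN : cenRes p H ≤ Subgroup.normalizer (N : Set G)) :
    N ≤ Subgroup.centralizer ((cenRes p H : Subgroup G) : Set G) := by
  have hEH : cenRes p H ≤ H := (cenRes_le p H).trans (cenCore_le p H)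
  have h1 : N ≤ Cfsg.pCoreOf p H :=
    Cfsg.Agent.Helper6.FrakN.le_pCore_of_normal_in_normal H (cenRes p H) N hEH
      (le_normalizer_cenRes p H) hN hNp hEN
  intro n hn
  rw [Subgroup.mem_centralizer_iff]
  intro x hx
  have hx' : x ∈ Subgroup.centralizer ((Cfsg.pCoreOf p H : Subgroup G) : Set G) :=
    (cenRes_le p H hx).2
  exact ((Subgroup.mem_centralizer_iff.mp hx') n (h1 hn)).symm

/-- if `C_H(O_p(H))` is a `p`-group, `H` has characteristic `p`. -/
theorem hasCharP_of_cenRes_trivial (H : Subgroup G)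
    (h : ∀ x ∈ cenRes p H, (orderOf x).Coprime p → x = 1) :
    Subgroup.centralizer (Cfsg.pCore p ↥H : Set ↥H) ≤ Cfsg.pCore p ↥H := by
  rw [Cfsg.Agent.Helper6.FrakN.hasCharP_iff_rel]
  have hDp : IsPGroup p ↥(cenCore p H) := by
    apply isPGroup_of_coprime_eq_one
    intro x hx hcop
    exact h x (mem_cenRes hx hcop) hcop
  exact Cfsg.Agent.Helper6.FrakN.le_pCore_map_subtype H (cenCore p H) (cenCore_le p H) hDp
    (le_normalizer_cenCore p H)

end

end Cfsg.Agent.Helper1.Asym
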