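import Mathlib
import Cfsg.Agent.Helper1.AsymL

/-!
helper1: existence of members of `ℌ_G(O_p(M))` (asymmetric case), part 3: the two cases
`O^p(C_H(O_p(H))) O_p(M) < H` and `= H`.
-/

set_option autoImplicit false

namespace Cfsg.Agent.Helper1.Asym

open Cfsg Cfsg.Agent.Helper5

open scoped Pointwise

variable {G : Type*} [Group G] [Finite G] {p : ℕ} [Fact p.Prime] {S : Sylow p G}
  {M H : Subgroup G}

/-- Case 1: if `O^p(C_H(O_p(H))) O_p(M) < H` then `O^p(C_H(O_p(H)))` has no nontrivial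
`p'`-elements. -/
theorem WeakH.cenRes_trivial_of_lt (h : Setup p S M) (w : WeakH p M H) (Q : Subgroup G)
    (hQp : IsPGroup p ↥Q) (hQS : Q ≤ (S : Subgroup G)) (hQ : Cfsg.IsLarge Q)
    (hlt : cenRes p H ⊔ Cfsg.pCoreOf p M < H) :
    ∀ x ∈ cenRes p H, (orderOf x).Coprime p → x = 1 := by
  set Y := Cfsg.largestPReducedOf p M with hY
  set B := Cfsg.pCoreOf p M with hB
  set E := cenRes p H with hE
  set P := E ⊔ B with hP
  have hYH : Y ≤ H := w.Y_le h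
  have hHE : H ≤ Subgroup.normalizer (E : Set G) := le_normalizer_cenRes p H
  have hYP : Y ≤ Cfsg.pCoreOf p P := w.hmin P le_sup_right hlt
  have hEP : E ≤ P := le_sup_left
  have hPn : P ≤ Subgroup.normalizer ((Cfsg.pCoreOf p P : Subgroup G) : Set G) :=
    Cfsg.Agent.Helper6.FrakN.le_normalizer_pCore_map_subtype p P
  have hOp : IsPGroup p ↥(Cfsg.pCoreOf p P) :=
    Cfsg.Agent.Helper6.FrakN.isPGroup_pCore_map_subtype p P
  -- `N₁ = E ∩ O_p(P)` is central in `E`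
  have hN1 := cenRes_central H (E ⊓ Cfsg.pCoreOf p P) inf_le_left (hOp.to_le inf_le_right)
    (Cfsg.Agent.Helper1.le_normalizer_inf Subgroup.le_normalizer (hEP.trans hPn))
  -- `E` centralizes `Y`
  have hEY : E ≤ Subgroup.centralizer (Y : Set G) := by
    rw [hE]
    unfold cenRes
    rw [Subgroup.closure_le]
    rintro e ⟨heD, hcop⟩
    have heE : e ∈ E := mem_cenRes heD hcop
    rw [SetLike.mem_coe, Subgroup.mem_centralizer_iff]
    intro y hy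
    have hyE : y⁻¹ * e * y⁻¹⁻¹ ∈ E :=
      (Subgroup.mem_normalizer_iff.mp (hHE (H.inv_mem (hYH hy))) e).mp heE
    have hzE : e⁻¹ * y⁻¹ * e * y ∈ E := by
      have : e⁻¹ * y⁻¹ * e * y = e⁻¹ * (y⁻¹ * e * y⁻¹⁻¹) := by group
      rw [this]
      exact E.mul_mem (E.inv_mem heE) hyE
    have hzO : e⁻¹ * y⁻¹ * e * y ∈ Cfsg.pCoreOf p P := by
      have h1 : e⁻¹ * y⁻¹ * e⁻¹⁻¹ ∈ Cfsg.pCoreOf p P :=
        (Subgroup.mem_normalizer_iff.mp (hPn (P.inv_mem (hEP heE))) _).mp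
          (Subgroup.inv_mem _ (hYP hy))
      have : e⁻¹ * y⁻¹ * e * y = (e⁻¹ * y⁻¹ * e⁻¹⁻¹) * y := by group
      rw [this]
      exact Subgroup.mul_mem _ h1 (hYP hy)
    have hzc : Commute e (e⁻¹ * y⁻¹ * e * y) :=
      (Subgroup.mem_centralizer_iff.mp (hN1 ⟨hzE, hzO⟩)) e heE
    obtain ⟨k, hk⟩ := hOp ⟨_, hzO⟩
    have hk' : (e⁻¹ * y⁻¹ * e * y) ^ p ^ k = 1 := by
      have := congrArg Subtype.val hk
      simpa using this
    exact (commute_of_coprime_commutator hcop hzc hk').symm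
  exact fun x hx hcop => h.coprime_eq_one_of_le_centralizer Q hQp hQS hQ E hEY
    (w.hBH.trans hHE) (cenRes_central H) x hx hcop

/-- Case 2: `H = O^p(C_H(O_p(H))) O_p(M)` is impossible when `H` lies in a group `L` of
characteristic `p`. -/
theorem WeakH.false_of_le_sup (h : Setup p S M) (w : WeakH p M H) (L : Subgroup G) (hHL : H ≤ L)
    (hL : L ⊓ Subgroup.centralizer ((Cfsg.pCoreOf p L : Subgroup G) : Set G) ≤ Cfsg.pCoreOf p L)
    (hle : H ≤ cenRes p H ⊔ Cfsg.pCoreOf p M) : False := by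
  set Y := Cfsg.largestPReducedOf p M with hY
  set B := Cfsg.pCoreOf p M with hB
  set E := cenRes p H with hE
  set R := (Cfsg.pResidual p ↥H).map H.subtype with hR
  set R₀ := Cfsg.pCoreOf p L with hR₀
  have hYH : Y ≤ H := w.Y_le h
  have hRH : R ≤ H := pResidual_map_le p H
  have hHR : H ≤ Subgroup.normalizer (R : Set G) := le_normalizer_pResidual_map p H
  have hHE : H ≤ Subgroup.normalizer (E : Set G) := le_normalizer_cenRes p H
  have hRE : R ≤ E := pResidual_map_le_of_le_sup H E B hHE w.hBH h.isPGroup_B hle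
  have hRcen : R ≤ Subgroup.centralizer ((Cfsg.pCoreOf p H : Subgroup G) : Set G) :=
    fun r hr => (cenRes_le p H (hRE hr)).2
  have hLR₀ : L ≤ Subgroup.normalizer (R₀ : Set G) :=
    Cfsg.Agent.Helper6.FrakN.le_normalizer_pCore_map_subtype p L
  have hR₀p : IsPGroup p ↥R₀ := Cfsg.Agent.Helper6.FrakN.isPGroup_pCore_map_subtype p L
  have hHR₀ : H ≤ Subgroup.normalizer (R₀ : Set G) := hHL.trans hLR₀
  -- `R₀` normalizes `B` and `Y`
  have hBR₀p : IsPGroup p ↥(B ⊔ R₀) :=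
    IsPGroup.to_sup_of_normal_right' h.isPGroup_B hR₀p (w.hBH.trans hHR₀)
  have hR₀B : R₀ ≤ Subgroup.normalizer (B : Set G) :=
    le_sup_right.trans (h.le_normalizer_B (B ⊔ R₀) hBR₀p le_sup_left)
  have hR₀Y : R₀ ≤ Subgroup.normalizer (Y : Set G) :=
    hR₀B.trans (h.normalizer_B_le_dagger.trans h.dagger_le_normalizer_Y)
  -- `R₀ ∩ H ≤ O_p(H)`
  have hR₀H : R₀ ⊓ H ≤ Cfsg.pCoreOf p H :=
    Cfsg.Agent.Helper6.FrakN.le_pCore_map_subtype H (R₀ ⊓ H) inf_le_right (hR₀p.to_le inf_le_left)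
      (Cfsg.Agent.Helper1.le_normalizer_inf hHR₀ Subgroup.le_normalizer)
  -- `U₀ = C_{R₀}(R)` is normalized by `H`
  set U₀ := R₀ ⊓ Subgroup.centralizer (R : Set G) with hU₀
  have hHU₀ : H ≤ Subgroup.normalizer (U₀ : Set G) :=
    Cfsg.Agent.Helper1.le_normalizer_inf hHR₀ (hHR.trans (normalizer_le_normalizer_centralizer R))
  have hconjU₀ : ∀ g ∈ H, ∀ u ∈ U₀, g * u * g⁻¹ ∈ U₀ := fun g hg u hu =>
    (Subgroup.mem_normalizer_iff.mp (hHU₀ hg) u).mp hu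
  have hconjR₀ : ∀ g ∈ H, ∀ x ∈ R₀, g * x * g⁻¹ ∈ R₀ := fun g hg x hx =>
    (Subgroup.mem_normalizer_iff.mp (hHR₀ hg) x).mp hx
  -- the kernel of the action of `H` on the cosets of `U₀` in `R₀`
  let K : Subgroup G :=
    { carrier := {g | g ∈ H ∧ ∀ x ∈ R₀, x * g * x⁻¹ * g⁻¹ ∈ U₀}
      one_mem' := ⟨H.one_mem, fun x _ => by simp⟩
      mul_mem' := by
        rintro a b ⟨haH, ha⟩ ⟨hbH, hb⟩
        refine ⟨H.mul_mem haH hbH, fun x hx => ?_⟩
        have h1 := ha x hx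
        have h2 := hconjU₀ a haH _ (hb x hx)
        have : x * (a * b) * x⁻¹ * (a * b)⁻¹ =
            (x * a * x⁻¹ * a⁻¹) * (a * (x * b * x⁻¹ * b⁻¹) * a⁻¹) := by group
        rw [this]
        exact U₀.mul_mem h1 h2
      inv_mem' := by
        rintro a ⟨haH, ha⟩
        refine ⟨H.inv_mem haH, fun x hx => ?_⟩
        have h1 := hconjU₀ a⁻¹ (H.inv_mem haH) _ (U₀.inv_mem (ha x hx))
        have : x * a⁻¹ * x⁻¹ * a⁻¹⁻¹ = a⁻¹ * (x * a * x⁻¹ * a⁻¹)⁻¹ * a⁻¹⁻¹ := by group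
        rw [this]
        exact h1 }
  have hKmem : ∀ g, g ∈ K ↔ g ∈ H ∧ ∀ x ∈ R₀, x * g * x⁻¹ * g⁻¹ ∈ U₀ := fun g => Iff.rfl
  have hKconj : ∀ a ∈ H, ∀ g ∈ K, a * g * a⁻¹ ∈ K := by
    intro a haH g hg
    rw [hKmem] at hg ⊢
    refine ⟨H.mul_mem (H.mul_mem haH hg.1) (H.inv_mem haH), fun x hx => ?_⟩
    have hx' : a⁻¹ * x * a⁻¹⁻¹ ∈ R₀ := hconjR₀ a⁻¹ (H.inv_mem haH) x hx
    have h1 := hconjU₀ a haH _ (hg.2 _ hx')
    have : x * (a * g * a⁻¹) * x⁻¹ * (a * g * a⁻¹)⁻¹ =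
        a * ((a⁻¹ * x * a⁻¹⁻¹) * g * (a⁻¹ * x * a⁻¹⁻¹)⁻¹ * g⁻¹) * a⁻¹ := by group
    rw [this]
    exact h1
  have hYK : Y ≤ K := by
    intro y hy
    rw [hKmem]
    refine ⟨hYH hy, fun x hx => ?_⟩
    have h1 : x * y * x⁻¹ * y⁻¹ ∈ R₀ := by
      have := hconjR₀ y (hYH hy) x⁻¹ (R₀.inv_mem hx)
      have h2 : x * y * x⁻¹ * y⁻¹ = x * (y * x⁻¹ * y⁻¹) := by group
      rw [h2]
      exact R₀.mul_mem hx this
    have h2 : x * y * x⁻¹ * y⁻¹ ∈ Y :=
      Y.mul_mem ((Subgroup.mem_normalizer_iff.mp (hR₀Y hx) y).mp hy) (Y.inv_mem hy)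
    have h3 : x * y * x⁻¹ * y⁻¹ ∈ Cfsg.pCoreOf p H := hR₀H ⟨h1, hYH h2⟩
    refine ⟨h1, ?_⟩
    show x * y * x⁻¹ * y⁻¹ ∈ Subgroup.centralizer (R : Set G)
    rw [Subgroup.mem_centralizer_iff]
    intro r hr
    exact ((Subgroup.mem_centralizer_iff.mp (hRcen hr)) _ h3).symm
  have hRK : R ≤ K := by
    have hc := w.commutator_pResidual_Y h
    rw [← hR, ← hY] at hc
    rw [← hc, Subgroup.commutator_le]
    intro r hr y hy
    have h1 : r * y * r⁻¹ ∈ K := hKconj r (hRH hr) y (hYK hy)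
    exact K.mul_mem h1 (K.inv_mem (hYK hy))
  -- `[R₀, R, R] = 1`
  have h2 : ⁅⁅R₀, R⁆, R⁆ = ⊥ := by
    rw [Subgroup.commutator_eq_bot_iff_le_centralizer, Subgroup.commutator_le]
    intro x hx r hr
    exact (((hKmem r).mp (hRK hr)).2 x hx).2
  have h3 : ⁅⁅⁅R₀, R⁆, R⁆, R⁆ = ⊥ := by rw [h2, Subgroup.commutator_bot_left]
  -- every `p'`-element of `H` is trivial
  have hHp : IsPGroup p ↥H := by
    apply isPGroup_of_coprime_eq_one
    intro x hx hcop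
    have hxR : x ∈ R := by
      rw [hR, map_subtype_pResidual]
      exact Subgroup.subset_closure ⟨hx, hcop⟩
    have h4 := mem_centralizer_of_triple_commutator R₀ R hR₀p (hRH.trans hHR₀) h3 x hxR hcop
    have h5 : x ∈ R₀ := hL ⟨hHL hx, h4⟩
    obtain ⟨k, hk⟩ := hR₀p ⟨x, h5⟩
    have hk' : x ^ p ^ k = 1 := by
      have := congrArg Subtype.val hk
      simpa using this
    exact eq_one_of_coprime_of_pow hcop (pow_orderOf_eq_one x) hk'
  apply w.hY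
  exact hYH.trans (Cfsg.Agent.Helper6.FrakN.le_pCore_map_subtype H H le_rfl hHp
    Subgroup.le_normalizer)

end Cfsg.Agent.Helper1.Asym
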