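import Mathlib
import Cfsg.Agent.Helper1.AsymM
import Cfsg.Agent.Lead.LLemA

/-!
helper1: existence of members of `ℌ_G(O_p(M))` (asymmetric case), part 4: `O_p(M)` is a Sylow
`p`-subgroup of `C_G(Y_M)`; choice of a minimal `H`; assembly.
-/

set_option autoImplicit false

namespace Cfsg.Agent.Helper1.Asym

open Cfsg Cfsg.Agent.Helper5

open scoped Pointwise

variable {G : Type*} [Group G] [Finite G] {p : ℕ} [Fact p.Prime] {S : Sylow p G}
  {M : Subgroup G}

/-- `O_p(M)` is a maximal `p`-subgroup of `C_G(Y_M)`. -/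
theorem Setup.eq_B_of_le_centralizer (h : Setup p S M) (P : Subgroup G) (hP : IsPGroup p ↥P)
    (hBP : Cfsg.pCoreOf p M ≤ P)
    (hPC : P ≤ Subgroup.centralizer (Cfsg.largestPReducedOf p M : Set G)) :
    P = Cfsg.pCoreOf p M := by
  set Y := Cfsg.largestPReducedOf p M with hY
  set B := Cfsg.pCoreOf p M with hB
  set C := Subgroup.centralizer (Y : Set G) with hC
  set N := Subgroup.normalizer (Y : Set G) with hN
  have hSN : (S : Subgroup G) ≤ N := h.hSM.trans h.M_le_normalizer_Y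
  have hPN : P ≤ N := hPC.trans (Subgroup.centralizer_le_normalizer _)
  obtain ⟨n, hnN, hn⟩ := Cfsg.Agent.Helper1.exists_conj_le_sylow_of_le N S hSN P hP hPN
  have hnC : MulAut.conj n • P ≤ C := by
    intro x hx
    rw [Cfsg.Agent.Helper1.mem_conj_smul] at hx
    have h1 := (Subgroup.mem_normalizer_iff.mp
      (normalizer_le_normalizer_centralizer Y hnN) (n⁻¹ * x * n)).mp (hPC hx)
    have : n * (n⁻¹ * x * n) * n⁻¹ = x := by group
    rwa [this] at h1
  have hnp : IsPGroup p ↥(MulAut.conj n • P : Subgroup G) := by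
    rw [← map_conj_eq_smul]
    exact hP.map _
  have hle : MulAut.conj n • P ≤ B :=
    h.le_B_of_le_centralizer _ (le_inf (hn.trans h.hSM) hnC) hnp
  have hcard : Nat.card ↥P ≤ Nat.card ↥B := by
    rw [← Cfsg.Agent.Helper1.card_conj_smul n P]
    exact Subgroup.card_le_of_le hle
  exact (Subgroup.eq_of_le_of_card_ge hBP hcard).symm

/-- every `p`-subgroup `B` of `C` is conjugate under `C` into a given Sylow `p`-subgroup of `C`. -/
theorem exists_conj_mem_sylow_map (C B : Subgroup G) (hBC : B ≤ C) (hBp : IsPGroup p ↥B)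
    (T : Sylow p ↥C) :
    ∃ c ∈ C, ∀ b ∈ B, c⁻¹ * b * c ∈ (T : Subgroup ↥C).map C.subtype := by
  have hBp' : IsPGroup p ↥(B.subgroupOf C) := hBp.comap_subtype
  obtain ⟨T', hT'⟩ := hBp'.exists_le_sylow
  obtain ⟨c, hc⟩ := MulAction.exists_smul_eq ↥C T T'
  refine ⟨(c : G), c.2, ?_⟩
  intro b hb
  have hbC : b ∈ C := hBC hb
  have h1 : (⟨b, hbC⟩ : ↥C) ∈ (T' : Subgroup ↥C) := hT' (Subgroup.mem_subgroupOf.mpr hb)
  rw [← hc, Sylow.coe_subgroup_smul, Cfsg.Agent.Helper1.mem_conj_smul] at h1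
  exact ⟨_, h1, by simp⟩

/-- conjugates of subgroups of characteristic `p` have characteristic `p` (relative form). -/
theorem hasCharP_rel_map_conj (L : Subgroup G) (c : G)
    (hL : L ⊓ Subgroup.centralizer ((Cfsg.pCoreOf p L : Subgroup G) : Set G) ≤ Cfsg.pCoreOf p L) :
    L.map (MulAut.conj c).toMonoidHom ⊓ Subgroup.centralizer
      ((Cfsg.pCoreOf p (L.map (MulAut.conj c).toMonoidHom) : Subgroup G) : Set G) ≤
      Cfsg.pCoreOf p (L.map (MulAut.conj c).toMonoidHom) := by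
  rw [Cfsg.Agent.Lead.LLem.pCoreOf_map _ (MulAut.conj c).injective]
  rintro x ⟨⟨l, hl, rfl⟩, hx⟩
  refine ⟨l, hL ⟨hl, ?_⟩, rfl⟩
  change _ ∈ Subgroup.centralizer _ at hx
  show l ∈ Subgroup.centralizer _
  rw [Subgroup.mem_centralizer_iff] at hx ⊢
  intro u hu
  have h1 := hx (c * u * c⁻¹) ⟨u, hu, by simp⟩
  have h2 := congrArg (fun t => c⁻¹ * t * c) h1
  simp only [MulEquiv.coe_toMonoidHom, MulAut.conj_apply] at h2
  calc u * l = c⁻¹ * (c * u * c⁻¹ * (c * l * c⁻¹)) * c := by group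
    _ = c⁻¹ * (c * l * c⁻¹ * (c * u * c⁻¹)) * c := h2
    _ = l * u := by group

/-- existence of a member of `ℌ_G(O_p(M))` when `Y_M` is char-`p`-tall and asymmetric. -/
theorem Setup.exists_isInFrakH (h : Setup p S M) (Q : Subgroup G) (hQp : IsPGroup p ↥Q)
    (hQS : Q ≤ (S : Subgroup G)) (hQ : Cfsg.IsLarge Q)
    (htall : Cfsg.IsCharPTall p (Cfsg.largestPReducedOf p M)) :
    ∃ H : Subgroup G, Cfsg.IsInFrakH p M H := by
  obtain ⟨T, L, hTL, hLchar, hYL⟩ := htall
  obtain ⟨c, hcC, hc⟩ := exists_conj_mem_sylow_map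
    (Subgroup.centralizer (Cfsg.largestPReducedOf p M : Set G)) (Cfsg.pCoreOf p M)
    h.B_le_centralizer h.isPGroup_B T
  set Y := Cfsg.largestPReducedOf p M with hY
  set B := Cfsg.pCoreOf p M with hB
  set L' := L.map (MulAut.conj c).toMonoidHom with hL'
  have hBL' : B ≤ L' := by
    intro b hb
    refine ⟨c⁻¹ * b * c, hTL (hc b hb), ?_⟩
    simp only [MulEquiv.coe_toMonoidHom, MulAut.conj_apply]
    group
  have hL'char := hasCharP_rel_map_conj L c
    ((Cfsg.Agent.Helper6.FrakN.hasCharP_iff_rel p L).mp hLchar)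
  have hYL' : ¬ Y ≤ Cfsg.pCoreOf p L' := by
    intro hle
    apply hYL
    intro y hy
    have h1 := hle hy
    rw [hL', Cfsg.Agent.Lead.LLem.pCoreOf_map _ (MulAut.conj c).injective] at h1
    obtain ⟨u, hu, hu'⟩ := h1
    simp only [MulEquiv.coe_toMonoidHom, MulAut.conj_apply] at hu'
    have hcy : y * c = c * y := (Subgroup.mem_centralizer_iff.mp hcC) y hy
    have : u = y := by
      calc u = c⁻¹ * (c * u * c⁻¹) * c := by group
        _ = c⁻¹ * y * c := by rw [hu']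
        _ = c⁻¹ * (y * c) := by group
        _ = y := by rw [hcy]; group
    rw [this] at hu
    exact hu
  -- a minimal `H`
  let 𝒮 : Set (Subgroup G) := {P | B ≤ P ∧ P ≤ L' ∧ ¬ Y ≤ Cfsg.pCoreOf p P}
  have hne : 𝒮.Nonempty := ⟨L', hBL', le_rfl, hYL'⟩
  obtain ⟨H, ⟨hBH, hHL', hYH⟩, hmin⟩ := WellFounded.has_min wellFounded_lt 𝒮 hne
  have w : WeakH p M H := ⟨hBH, hYH, fun P hBP hPH => by
    by_contra hnot
    exact hmin P ⟨hBP, hPH.le.trans hHL', hnot⟩ hPH⟩
  refine ⟨H, ?_, w.hBH, w.hY, w.hmin⟩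
  by_cases hcase : H ≤ cenRes p H ⊔ B
  · exact (w.false_of_le_sup h L' hHL' hL'char hcase).elim
  · have hlt : cenRes p H ⊔ B < H :=
      lt_of_le_of_ne (sup_le ((cenRes_le p H).trans (cenCore_le p H)) hBH)
        (fun he => hcase he.ge)
    exact hasCharP_of_cenRes_trivial H (w.cenRes_trivial_of_lt h Q hQp hQS hQ hlt)

end Cfsg.Agent.Helper1.Asym
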