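import Mathlib
import Cfsg.Agent.Helper1.AsymN
import Cfsg.Agent.Helper1.Subnormal

/-!
helper1: an abstract criterion for `p`-irreducibility: a group minimal (over a `p`-subgroup `B̃`)
subject to `Y ≰ O_p`, whose `Y`-conjugates do not all lie in one `p`-subgroup.
-/

set_option autoImplicit false

namespace Cfsg.Agent.Helper1.Asym

open Cfsg Cfsg.Agent.Helper5

open scoped Pointwise

theorem isPIrreducible_of_min {X : Type*} [Group X] [Finite X] {p : ℕ} [Fact p.Prime]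
    (Bt Y : Subgroup X) (hBt : IsPGroup p ↥Bt) (hY : Y ≤ Bt)
    (hmin : ∀ P : Subgroup X, Bt ≤ P → P ≠ ⊤ → Y ≤ Cfsg.pCoreOf p P)
    (hnp : ∀ D : Subgroup X, IsPGroup p ↥D → (∀ g : X, ∀ y ∈ Y, g * y * g⁻¹ ∈ D) → False) :
    Cfsg.IsPIrreducible p X := by
  obtain ⟨T, hT⟩ := hBt.exists_le_sylow
  refine ⟨?_, ?_⟩
  · intro hcl
    have hTn : (T : Subgroup X).Normal := hcl T
    exact hnp T T.2 (fun g y hy => hTn.conj_mem y (hT (hY hy)) g)
  · intro N hN hNcl
    by_contra hRN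
    -- Step 1: `[N, Y] ≤ O_p(N)`
    have h1 : N ⊔ Bt ≠ ⊤ := by
      intro htop
      apply hRN
      apply pResidual_le_of_le_sup N Bt hBt
      rw [htop]; exact le_top
    have hY1 : Y ≤ Cfsg.pCoreOf p (N ⊔ Bt) := hmin _ le_sup_right h1
    have hO1n : N ⊔ Bt ≤ Subgroup.normalizer ((Cfsg.pCoreOf p (N ⊔ Bt) : Subgroup X) : Set X) :=
      Cfsg.Agent.Helper6.FrakN.le_normalizer_pCore_map_subtype p _
    have hNtop : Subgroup.normalizer (N : Set X) = ⊤ := Subgroup.normalizer_eq_top_iff.mpr hN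
    have hONn : (Cfsg.pCoreOf p N).Normal := by
      rw [← Subgroup.normalizer_eq_top_iff, eq_top_iff, ← hNtop]
      exact Cfsg.Agent.Helper6.FrakN.normalizer_le_normalizer_pCoreOf p N
    have hONp : IsPGroup p ↥(Cfsg.pCoreOf p N) :=
      Cfsg.Agent.Helper6.FrakN.isPGroup_pCore_map_subtype p N
    have hN₁ : N ⊓ Cfsg.pCoreOf p (N ⊔ Bt) ≤ Cfsg.pCoreOf p N := by
      apply Cfsg.Agent.Helper6.FrakN.le_pCore_map_subtype N _ inf_le_left
        ((Cfsg.Agent.Helper6.FrakN.isPGroup_pCore_map_subtype p _).to_le inf_le_right)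
      apply Cfsg.Agent.Helper1.le_normalizer_inf Subgroup.le_normalizer
      exact le_sup_left.trans hO1n
    have hcomm : ∀ n ∈ N, ∀ y ∈ Y, n * y * n⁻¹ * y⁻¹ ∈ Cfsg.pCoreOf p N := by
      intro n hn y hy
      apply hN₁
      constructor
      · have h2 : y * n⁻¹ * y⁻¹ ∈ N := hN.conj_mem _ (N.inv_mem hn) y
        have : n * y * n⁻¹ * y⁻¹ = n * (y * n⁻¹ * y⁻¹) := by group
        rw [this]
        exact N.mul_mem hn h2
      · have h2 : n * y * n⁻¹ ∈ Cfsg.pCoreOf p (N ⊔ Bt) :=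
          (Subgroup.mem_normalizer_iff.mp (hO1n (Subgroup.mem_sup_left hn)) y).mp (hY1 hy)
        exact Subgroup.mul_mem _ h2 (Subgroup.inv_mem _ (hY1 hy))
    -- Step 2: the Frattini argument
    obtain ⟨PN, hPN⟩ := Cfsg.Agent.Helper1.sylow_inf_subnormal p N hN.isSubnormal T
    have hfr := Sylow.normalizer_sup_eq_top PN
    have hmap : (PN : Subgroup ↥N).map N.subtype = (T : Subgroup X) ⊓ N := by
      rw [hPN, Subgroup.subgroupOf_map_subtype]
    rw [hmap] at hfr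
    set X₁ := Subgroup.normalizer (((T : Subgroup X) ⊓ N : Subgroup X) : Set X) with hX₁
    have hTX₁ : (T : Subgroup X) ≤ X₁ := by
      apply Cfsg.Agent.Helper1.le_normalizer_inf Subgroup.le_normalizer
      rw [hNtop]; exact le_top
    have hX₁ne : X₁ ≠ ⊤ := by
      intro htop
      apply hNcl
      have hTNn : ((T : Subgroup X) ⊓ N).Normal := Subgroup.normalizer_eq_top_iff.mp htop
      apply isPClosed_of_sylow_le_pCore PN
      have hPNn : (PN : Subgroup ↥N).Normal := by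
        rw [hPN]
        have : (T : Subgroup X).subgroupOf N = ((T : Subgroup X) ⊓ N).subgroupOf N := by
          rw [Subgroup.inf_subgroupOf_right]
        rw [this]
        exact hTNn.subgroupOf N
      exact le_pCore hPNn PN.2
    have hY2 : Y ≤ Cfsg.pCoreOf p X₁ := hmin X₁ (hT.trans hTX₁) hX₁ne
    have hO2n : X₁ ≤ Subgroup.normalizer ((Cfsg.pCoreOf p X₁ : Subgroup X) : Set X) :=
      Cfsg.Agent.Helper6.FrakN.le_normalizer_pCore_map_subtype p _
    -- Step 3: all conjugates of `Y` lie in the `p`-group `O_p(N) O_p(X₁)`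
    have hDp : IsPGroup p ↥(Cfsg.pCoreOf p N ⊔ Cfsg.pCoreOf p X₁) :=
      IsPGroup.to_sup_of_normal_left hONp
        (Cfsg.Agent.Helper6.FrakN.isPGroup_pCore_map_subtype p X₁)
    apply hnp _ hDp
    intro g y hy
    have hg : g ∈ X₁ ⊔ N := by rw [hfr]; trivial
    rw [← SetLike.mem_coe, Subgroup.mul_normal] at hg
    obtain ⟨x, hx, n, hn, rfl⟩ := Set.mem_mul.mp hg
    have h3 : x * (n * y * n⁻¹ * y⁻¹) * x⁻¹ ∈ Cfsg.pCoreOf p N :=
      hONn.conj_mem _ (hcomm n hn y hy) x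
    have h4 : x * y * x⁻¹ ∈ Cfsg.pCoreOf p X₁ :=
      (Subgroup.mem_normalizer_iff.mp (hO2n hx) y).mp (hY2 hy)
    have : x * n * y * (x * n)⁻¹ = (x * (n * y * n⁻¹ * y⁻¹) * x⁻¹) * (x * y * x⁻¹) := by group
    rw [this]
    exact Subgroup.mul_mem _ (Subgroup.mem_sup_left h3) (Subgroup.mem_sup_right h4)

end Cfsg.Agent.Helper1.Asym
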