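import Mathlib
import Cfsg.Agent.Helper1.AsymO

/-!
helper1: the asymmetric case: `X = H K` for `H` a minimal subgroup over `O_p(M)` with
`Y_M ≰ O_p(H)` and `K` a `p`-subgroup normalized by `H`: `K ≤ O_p(X)`, `H ⊴ X`,
`O^p(H) = O^p(X)`, `X` is `p`-irreducible; `N_G(Y_M) = M†`.
-/

set_option autoImplicit false

namespace Cfsg.Agent.Helper1.Asym

open Cfsg Cfsg.Agent.Helper5

open scoped Pointwise

variable {G : Type*} [Group G] [Finite G] {p : ℕ} [Fact p.Prime] {S : Sylow p G}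
  {M H : Subgroup G}

/-- `N_G(Y_M) = M†`. -/
theorem Setup.normalizer_Y_eq_dagger (h : Setup p S M) :
    Subgroup.normalizer ((Cfsg.largestPReducedOf p M : Subgroup G) : Set G) =
      M ⊔ Subgroup.centralizer (Cfsg.largestPReducedOf p M : Set G) :=
  le_antisymm
    (h.hdag _ _ h.M_le_normalizer_Y h.Y_ne_bot (h.isPGroup_B.to_le h.Y_le_B) Subgroup.le_normalizer
      le_rfl)
    h.dagger_le_normalizer_Y

/-- `K ≤ O_p(H K)` for a `p`-group `K` normalized by `H`. -/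
theorem le_pCoreOf_sup (H K : Subgroup G) (hKp : IsPGroup p ↥K)
    (hHK : H ≤ Subgroup.normalizer (K : Set G)) : K ≤ Cfsg.pCoreOf p (H ⊔ K) :=
  Cfsg.Agent.Helper6.FrakN.le_pCore_map_subtype (H ⊔ K) K le_sup_right hKp
    (sup_le hHK Subgroup.le_normalizer)

/-- `O_p(H K) ≤ N_G(O_p(M))`. -/
theorem WeakH.pCoreOf_sup_le_normalizer_B (h : Setup p S M) (w : WeakH p M H) (K : Subgroup G) :
    Cfsg.pCoreOf p (H ⊔ K) ≤ Subgroup.normalizer ((Cfsg.pCoreOf p M : Subgroup G) : Set G) :=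
  (h.pCoreOf_le_normalizers (H ⊔ K) (w.hBH.trans le_sup_left)).trans inf_le_left

/-- `H` is generated by its conjugates of `O_p(M)`. -/
theorem WeakH.conjClosure_B (h : Setup p S M) (w : WeakH p M H) :
    conjClosure H (Cfsg.pCoreOf p M) = H :=
  w.eq_of_normal h _
    (conjClosure_le _ _ _ (fun x hx y hy => H.mul_mem (H.mul_mem hx (w.hBH hy)) (H.inv_mem hx)))
    (le_normalizer_conjClosure H _) (le_conjClosure H _)

/-- `H K` normalizes `H`. -/
theorem WeakH.sup_le_normalizer (h : Setup p S M) (w : WeakH p M H) (K : Subgroup G)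
    (hKp : IsPGroup p ↥K) (hHK : H ≤ Subgroup.normalizer (K : Set G)) :
    H ⊔ K ≤ Subgroup.normalizer (H : Set G) := by
  set B := Cfsg.pCoreOf p M with hB
  have hKB : K ≤ Subgroup.normalizer (B : Set G) :=
    (le_pCoreOf_sup H K hKp hHK).trans (w.pCoreOf_sup_le_normalizer_B h K)
  have h1 : conjClosure (H ⊔ K) B ≤ H := by
    apply conjClosure_le
    intro x hx b hb
    obtain ⟨k, hk, a, ha, hxe⟩ := Cfsg.Agent.Helper1.mem_sup_of_le_normalizer
      (N := K) (A := H) hHK (by rw [sup_comm]; exact Subgroup.inv_mem _ hx)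
    have hx' : x = a⁻¹ * k⁻¹ := by
      have : x = (x⁻¹)⁻¹ := (inv_inv x).symm
      rw [this, hxe]; group
    have h2 : k⁻¹ * b * k⁻¹⁻¹ ∈ B :=
      (Subgroup.mem_normalizer_iff.mp (hKB (K.inv_mem hk)) b).mp hb
    have : x * b * x⁻¹ = a⁻¹ * (k⁻¹ * b * k⁻¹⁻¹) * a⁻¹⁻¹ := by rw [hx']; group
    rw [this]
    exact H.mul_mem (H.mul_mem (H.inv_mem ha) (w.hBH h2)) (H.inv_mem (H.inv_mem ha))
  have h2 : H ≤ conjClosure (H ⊔ K) B := by
    calc H = conjClosure H B := (w.conjClosure_B h).symm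
      _ ≤ conjClosure (H ⊔ K) B := by
        apply conjClosure_le
        intro x hx y hy
        apply Subgroup.subset_closure
        exact ⟨x, Subgroup.mem_sup_left hx, y, hy, rfl⟩
  have h3 : conjClosure (H ⊔ K) B = H := le_antisymm h1 h2
  have h4 := le_normalizer_conjClosure (H ⊔ K) B
  rwa [h3] at h4

/-- `O^p(H) = O^p(H K)`. -/
theorem WeakH.pResidual_sup_eq (h : Setup p S M) (w : WeakH p M H) (K : Subgroup G)
    (hKp : IsPGroup p ↥K) (hHK : H ≤ Subgroup.normalizer (K : Set G)) :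
    (Cfsg.pResidual p ↥H).map H.subtype =
      (Cfsg.pResidual p ↥(H ⊔ K : Subgroup G)).map (H ⊔ K).subtype := by
  have h1 : (Cfsg.pResidual p ↥(H ⊔ K : Subgroup G)).map (H ⊔ K).subtype ≤ H :=
    pResidual_map_le_of_le_sup (H ⊔ K) H K (w.sup_le_normalizer h K hKp hHK) le_sup_right hKp le_rfl
  rw [map_subtype_pResidual] at h1 ⊢
  rw [map_subtype_pResidual]
  apply le_antisymm
  · apply Subgroup.closure_mono
    rintro g ⟨hg, hcop⟩
    exact ⟨Subgroup.mem_sup_left hg, hcop⟩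
  · apply Subgroup.closure_mono
    rintro g ⟨hg, hcop⟩
    exact ⟨h1 (Subgroup.subset_closure ⟨hg, hcop⟩), hcop⟩

end Cfsg.Agent.Helper1.Asym
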