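import Mathlib
import Cfsg.Agent.Helper1.AsymP

/-!
helper1: the asymmetric case: `X = H K` is `p`-irreducible.
-/

set_option autoImplicit false

namespace Cfsg.Agent.Helper1.Asym

open Cfsg Cfsg.Agent.Helper5

open scoped Pointwise

variable {G : Type*} [Group G] [Finite G] {p : ℕ} [Fact p.Prime] {S : Sylow p G}
  {M H : Subgroup G}

/-- `H` is not a `p`-group; more precisely the `H`-conjugates of `Y_M` do not lie in a single
`p`-subgroup. -/
theorem WeakH.not_isPGroup_of_conj (h : Setup p S M) (w : WeakH p M H) (D : Subgroup G)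
    (hDp : IsPGroup p ↥D)
    (hD : ∀ x ∈ H, ∀ y ∈ Cfsg.largestPReducedOf p M, x * y * x⁻¹ ∈ D) : False := by
  set Y := Cfsg.largestPReducedOf p M with hY
  set B := Cfsg.pCoreOf p M with hB
  set R := (Cfsg.pResidual p ↥H).map H.subtype with hR
  have hRH : R ≤ H := pResidual_map_le p H
  have hHR : H ≤ Subgroup.normalizer (R : Set G) := le_normalizer_pResidual_map p H
  have hRD : R ≤ D := by
    have hc := w.commutator_pResidual_Y h
    rw [← hR, ← hY] at hc
    rw [← hc, Subgroup.commutator_le]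
    intro r hr y hy
    have h1 : r * y * r⁻¹ ∈ D := hD r (hRH hr) y hy
    have h2 : y ∈ D := by
      have := hD 1 H.one_mem y hy
      simpa using this
    exact D.mul_mem h1 (D.inv_mem h2)
  have hHp : IsPGroup p ↥H := by
    have h1 : IsPGroup p ↥(R ⊔ B) :=
      IsPGroup.to_sup_of_normal_left' (hDp.to_le hRD) h.isPGroup_B (w.hBH.trans hHR)
    have h2 := w.pResidual_sup_B h
    rw [← hR, ← hB] at h2
    rwa [h2] at h1
  apply w.hY
  exact (w.Y_le h).trans (Cfsg.Agent.Helper6.FrakN.le_pCore_map_subtype H H le_rfl hHp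
    Subgroup.le_normalizer)

/-- `H K` is `p`-irreducible. -/
theorem WeakH.isPIrreducible_sup (h : Setup p S M) (w : WeakH p M H) (K : Subgroup G)
    (hKp : IsPGroup p ↥K) (hHK : H ≤ Subgroup.normalizer (K : Set G)) :
    Cfsg.IsPIrreducible p ↥(H ⊔ K : Subgroup G) := by
  set Y := Cfsg.largestPReducedOf p M with hY
  set B := Cfsg.pCoreOf p M with hB
  set X := H ⊔ K with hX
  set P₀ := Cfsg.pCoreOf p X with hP₀
  have hHX : H ≤ X := le_sup_left
  have hBX : B ≤ X := w.hBH.trans hHX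
  have hP₀X : P₀ ≤ X := Cfsg.Agent.Helper6.FrakN.pCore_map_subtype_le p X
  have hXP₀ : X ≤ Subgroup.normalizer (P₀ : Set G) :=
    Cfsg.Agent.Helper6.FrakN.le_normalizer_pCore_map_subtype p X
  have hP₀p : IsPGroup p ↥P₀ := Cfsg.Agent.Helper6.FrakN.isPGroup_pCore_map_subtype p X
  have hKP₀ : K ≤ P₀ := le_pCoreOf_sup H K hKp hHK
  have hXH : X ≤ Subgroup.normalizer (H : Set G) := w.sup_le_normalizer h K hKp hHK
  have hBtp : IsPGroup p ↥(B ⊔ P₀) :=
    IsPGroup.to_sup_of_normal_right' h.isPGroup_B hP₀p (hBX.trans hXP₀)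
  have hBtX : B ⊔ P₀ ≤ X := sup_le hBX hP₀X
  apply isPIrreducible_of_min ((B ⊔ P₀).subgroupOf X) (Y.subgroupOf X) hBtp.comap_subtype
  · intro y hy
    rw [Subgroup.mem_subgroupOf] at hy ⊢
    exact Subgroup.mem_sup_left (h.Y_le_B hy)
  · intro P hBtP hPtop
    set P' := P.map X.subtype with hP'
    have hP'X : P' ≤ X := by rintro _ ⟨x, -, rfl⟩; exact x.2
    have hBtP' : B ⊔ P₀ ≤ P' := by
      intro b hb
      exact ⟨⟨b, hBtX hb⟩, hBtP (Subgroup.mem_subgroupOf.mpr hb), rfl⟩
    have hBH' : B ≤ P' ⊓ H := le_inf (le_sup_left.trans hBtP') w.hBH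
    have hlt : P' ⊓ H < H := by
      refine lt_of_le_of_ne inf_le_right ?_
      intro he
      apply hPtop
      have hHP' : H ≤ P' := by rw [← he]; exact inf_le_left
      have hXP' : X ≤ P' := sup_le hHP' (hKP₀.trans (le_sup_right.trans hBtP'))
      rw [eq_top_iff]
      intro x _
      obtain ⟨u, hu, hux⟩ := hXP' x.2
      have : u = x := Subtype.ext hux
      rwa [this] at hu
    have hY1 : Y ≤ Cfsg.pCoreOf p (P' ⊓ H) := w.hmin _ hBH' hlt
    have hY2 : Y ≤ Cfsg.pCoreOf p P' := by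
      refine hY1.trans ?_
      apply Cfsg.Agent.Helper6.FrakN.le_pCore_of_normal_in_normal P' (P' ⊓ H) _ inf_le_left
        (Cfsg.Agent.Helper1.le_normalizer_inf Subgroup.le_normalizer (hP'X.trans hXH))
        (Cfsg.Agent.Helper6.FrakN.pCore_map_subtype_le p _)
        (Cfsg.Agent.Helper6.FrakN.isPGroup_pCore_map_subtype p _)
        (Cfsg.Agent.Helper6.FrakN.le_normalizer_pCore_map_subtype p _)
    rw [hP', Cfsg.Agent.Lead.LLem.pCoreOf_map _ X.subtype_injective] at hY2
    intro y hy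
    obtain ⟨u, hu, huy⟩ := hY2 (Subgroup.mem_subgroupOf.mp hy)
    have : u = y := Subtype.ext huy
    rwa [this] at hu
  · intro D hDp hD
    apply w.not_isPGroup_of_conj h (D.map X.subtype) (hDp.map _)
    intro x hx y hy
    have hxX : x ∈ X := hHX hx
    have hyX : y ∈ X := hHX (w.Y_le h hy)
    have := hD ⟨x, hxX⟩ ⟨y, hyX⟩ (Subgroup.mem_subgroupOf.mpr hy)
    exact ⟨_, this, by simp⟩

end Cfsg.Agent.Helper1.Asym
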