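import Mathlib
import Cfsg.Prelude.Def_Solvable
import Cfsg.Agent.Helper1.Fitting
import Cfsg.Agent.Helper1.Fitting2

set_option autoImplicit false

/-!
Automorphisms of coprime order trivial on a self-centralizing normal subgroup.
-/

namespace Cfsg.Agent.Helper1

universe u

variable {G : Type u} [Group G]

theorem aut_eq_one_of_coprime_of_trivial_on_selfcentralizing [Finite G] (H : Subgroup G)
    (hH : H.Normal) (h3 : Subgroup.centralizer (H : Set G) ≤ H) (a : MulAut G)
    (ha : Nat.Coprime (orderOf a) (Nat.card G)) (h : ∀ x ∈ H, a x = x) : a = 1 := by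
  ext x
  show a x = x
  set y := x⁻¹ * a x with hy
  have hyC : y ∈ Subgroup.centralizer (H : Set G) := by
    rw [Subgroup.mem_centralizer_iff]
    intro k hk
    have h1 : a (x * k * x⁻¹) = x * k * x⁻¹ := h _ (hH.conj_mem k hk x)
    rw [map_mul, map_mul, map_inv, h k hk] at h1
    calc k * y = x⁻¹ * (x * k * x⁻¹) * a x := by rw [hy]; group
      _ = x⁻¹ * (a x * k * (a x)⁻¹) * a x := by rw [h1]
      _ = y * k := by rw [hy]; group
  have hyH : y ∈ H := h3 hyC
  have hay : a y = y := h y hyH
  have hax : a x = x * y := by rw [hy]; group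
  have hpow : ∀ k : ℕ, (a ^ k) x = x * y ^ k := by
    intro k
    induction k with
    | zero => simp
    | succ k ih =>
      rw [pow_succ', MulAut.mul_apply, ih, map_mul, map_pow, hay, hax, mul_assoc, ← pow_succ']
  have h4 := hpow (orderOf a)
  rw [pow_orderOf_eq_one, MulAut.one_apply] at h4
  have h5 : y ^ orderOf a = 1 := by
    have : x * y ^ orderOf a = x * 1 := by rw [← h4, mul_one]
    exact mul_left_cancel this
  have h6 : orderOf y ∣ orderOf a := orderOf_dvd_of_pow_eq_one h5
  have h7 : orderOf y ∣ Nat.card G := orderOf_dvd_natCard y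
  have h8 : orderOf y = 1 := Nat.eq_one_of_dvd_coprimes ha h6 h7
  have h9 : y = 1 := orderOf_eq_one_iff.1 h8
  rw [hax, h9, mul_one]

theorem not_coprime_of_trivial_on_fitting [Finite G] [Group.IsSolvable G] (σ : G ≃* G)
    (hσ : ∀ x ∈ Cfsg.fittingSubgroup G, σ x = x) (hne : σ ≠ MulEquiv.refl G) :
    ¬ (orderOf σ).Coprime (Nat.card G) := by
  intro hcop
  apply hne
  exact aut_eq_one_of_coprime_of_trivial_on_selfcentralizing (Cfsg.fittingSubgroup G)
    inferInstance centralizer_fittingSubgroup_le σ hcop hσ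

end Cfsg.Agent.Helper1
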