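import Mathlib

set_option autoImplicit false

/-!
Irreducibility of the even-weight permutation module of the alternating group of odd degree over
the field with two elements (a piece for the `B(T)`-block statements).
-/

namespace Cfsg.Agent.Helper1.BBIrr

open Equiv

variable {n : ℕ}

/-- the permutation action on vectors. -/
def act (σ : Perm (Fin n)) (v : Fin n → ZMod 2) : Fin n → ZMod 2 := fun i => v (σ⁻¹ i)

theorem act_add (σ : Perm (Fin n)) (v w : Fin n → ZMod 2) : act σ (v + w) = act σ v + act σ w := rfl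

theorem act_single (σ : Perm (Fin n)) (x : Fin n) :
    act σ (Pi.single x 1) = Pi.single (σ x) 1 := by
  funext y
  unfold act
  by_cases h : y = σ x
  · subst h
    rw [Perm.inv_eq_iff_eq.mpr rfl, Pi.single_eq_same, Pi.single_eq_same]
  · rw [Pi.single_eq_of_ne h, Pi.single_eq_of_ne]
    intro h'
    exact h (Perm.inv_eq_iff_eq.mp h')

theorem zmod2_cases (a : ZMod 2) : a = 0 ∨ a = 1 := by
  revert a; decide

/-- the three-cycle `a → b → c → a`. -/
def c3 (a b c : Fin n) : Perm (Fin n) := swap a b * swap b c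

theorem c3_mem {a b c : Fin n} (hab : a ≠ b) (hbc : b ≠ c) : c3 a b c ∈ alternatingGroup (Fin n) := by
  rw [Perm.mem_alternatingGroup, c3, Perm.sign_mul, Perm.sign_swap hab, Perm.sign_swap hbc]
  rfl

theorem c3_apply_a {a b c : Fin n} (hab : a ≠ b) (hac : a ≠ c) : c3 a b c a = b := by
  rw [c3, Perm.mul_apply, swap_apply_of_ne_of_ne hab hac, swap_apply_left]

theorem c3_apply_b {a b c : Fin n} (hac : a ≠ c) (hbc : b ≠ c) : c3 a b c b = c := by
  rw [c3, Perm.mul_apply, swap_apply_left, swap_apply_of_ne_of_ne hac.symm hbc.symm]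

theorem c3_apply_c {a b c : Fin n} : c3 a b c c = a := by
  rw [c3, Perm.mul_apply, swap_apply_right, swap_apply_right]

theorem c3_apply_of_ne {a b c x : Fin n} (ha : x ≠ a) (hb : x ≠ b) (hc : x ≠ c) :
    c3 a b c x = x := by
  rw [c3, Perm.mul_apply, swap_apply_of_ne_of_ne hb hc, swap_apply_of_ne_of_ne ha hb]

/-- the vector `e_a + e_b`. -/
def pairVec (a b : Fin n) : Fin n → ZMod 2 := Pi.single a 1 + Pi.single b 1

theorem act_pairVec (σ : Perm (Fin n)) (a b : Fin n) :
    act σ (pairVec a b) = pairVec (σ a) (σ b) := by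
  rw [pairVec, act_add, act_single, act_single, pairVec]

theorem pairVec_comm (a b : Fin n) : pairVec a b = pairVec b a := add_comm _ _

theorem pairVec_self (a : Fin n) : pairVec a a = 0 := by
  rw [pairVec]
  funext y
  exact CharTwo.add_self_eq_zero _

/-- every even-weight vector is a sum of vectors `e_a + e_x`. -/
theorem mem_of_pairVec_mem (M : AddSubgroup (Fin n → ZMod 2)) (a : Fin n)
    (h : ∀ x, pairVec a x ∈ M) (v : Fin n → ZMod 2) (hv : ∑ i, v i = 0) : v ∈ M := by
  have e : v = ∑ x, (if v x = 1 then pairVec a x else 0) := by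
    funext y
    rw [Finset.sum_apply]
    have h1 : ∀ x, (if v x = 1 then pairVec a x else 0) y
        = v x * (Pi.single a 1 : Fin n → ZMod 2) y + v x * (Pi.single x 1 : Fin n → ZMod 2) y := by
      intro x
      rcases zmod2_cases (v x) with h0 | h0
      · rw [h0]; simp
      · rw [h0]; simp [pairVec]
    simp_rw [h1]
    rw [Finset.sum_add_distrib, ← Finset.sum_mul, hv, zero_mul, zero_add]
    rw [Finset.sum_eq_single y]
    · rw [Pi.single_eq_same, mul_one]
    · intro b _ hb
      rw [Pi.single_eq_of_ne (Ne.symm hb), mul_zero]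
    · intro h; exact absurd (Finset.mem_univ y) h
  rw [e]
  apply AddSubgroup.sum_mem
  intro x _
  split_ifs
  · exact h x
  · exact M.zero_mem

theorem c3_inv_apply_b {a b c : Fin n} (hab : a ≠ b) (hac : a ≠ c) : (c3 a b c)⁻¹ b = a :=
  Perm.inv_eq_iff_eq.mpr (c3_apply_a hab hac).symm

theorem c3_inv_apply_c {a b c : Fin n} (hac : a ≠ c) (hbc : b ≠ c) : (c3 a b c)⁻¹ c = b :=
  Perm.inv_eq_iff_eq.mpr (c3_apply_b hac hbc).symm

theorem c3_inv_apply_a {a b c : Fin n} : (c3 a b c)⁻¹ a = c :=
  Perm.inv_eq_iff_eq.mpr c3_apply_c.symm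

theorem c3_inv_apply_of_ne {a b c x : Fin n} (ha : x ≠ a) (hb : x ≠ b) (hc : x ≠ c) :
    (c3 a b c)⁻¹ x = x :=
  Perm.inv_eq_iff_eq.mpr (c3_apply_of_ne ha hb hc).symm

/-- a nonzero even-weight vector in odd dimension has a coordinate `1`, a coordinate `0`, and there
is a third index. -/
theorem exists_one_zero (m : ℕ) (v : Fin (2 * m + 1) → ZMod 2) (hv0 : v ≠ 0)
    (hvs : ∑ i, v i = 0) :
    ∃ i j k : Fin (2 * m + 1), i ≠ j ∧ k ≠ i ∧ k ≠ j ∧ v i = 1 ∧ v j = 0 := by
  obtain ⟨i, hi⟩ := Function.ne_iff.mp hv0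
  have hi1 : v i = 1 := by
    rcases zmod2_cases (v i) with h | h
    · exact absurd h hi
    · exact h
  obtain ⟨j, hj⟩ : ∃ j, v j = 0 := by
    by_contra hcon
    push Not at hcon
    have hall : ∀ x, v x = 1 := by
      intro x
      rcases zmod2_cases (v x) with h | h
      · exact absurd h (hcon x)
      · exact h
    rw [Finset.sum_congr rfl (fun x _ => hall x), Finset.sum_const, Finset.card_univ,
      Fintype.card_fin, nsmul_eq_mul, mul_one] at hvs
    push_cast at hvs
    have h2 : (2 : ZMod 2) = 0 := by decide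
    rw [h2, zero_mul, zero_add] at hvs
    exact one_ne_zero hvs
  have hij : i ≠ j := by
    intro h
    rw [h, hj] at hi1
    exact zero_ne_one hi1
  have hm : 1 ≤ m := by
    by_contra hcon
    have hm0 : m = 0 := by omega
    subst hm0
    exact hij (Fin.ext (by have := i.isLt; have := j.isLt; omega))
  obtain ⟨k, hk⟩ : ∃ k : Fin (2 * m + 1), k ∉ ({i, j} : Finset (Fin (2 * m + 1))) := by
    have hlt : ({i, j} : Finset (Fin (2 * m + 1))).card
        < (Finset.univ : Finset (Fin (2 * m + 1))).card := by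
      rw [Finset.card_univ, Fintype.card_fin]
      have := Finset.card_le_two (a := i) (b := j)
      omega
    obtain ⟨k, -, hk⟩ := Finset.exists_mem_notMem_of_card_lt_card hlt
    exact ⟨k, hk⟩
  have hki : k ≠ i := by
    intro h; apply hk; rw [h]; exact Finset.mem_insert_self _ _
  have hkj : k ≠ j := by
    intro h; apply hk; rw [h]
    exact Finset.mem_insert_of_mem (Finset.mem_singleton_self _)
  exact ⟨i, j, k, hij, hki, hkj, hi1, hj⟩

/-- a vector fixed by the alternating group of odd degree and of even weight is zero. -/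
theorem eq_zero_of_fixed (m : ℕ) (v : Fin (2 * m + 1) → ZMod 2) (hvs : ∑ i, v i = 0)
    (hfix : ∀ σ ∈ alternatingGroup (Fin (2 * m + 1)), act σ v = v) : v = 0 := by
  by_contra hv0
  obtain ⟨i, j, k, hij, hki, hkj, hi1, hj⟩ := exists_one_zero m v hv0 hvs
  have h := congrFun (hfix _ (c3_mem hij hkj.symm)) j
  unfold act at h
  rw [c3_inv_apply_b hij hki.symm, hi1, hj] at h
  exact one_ne_zero h

/-- a nonzero invariant subgroup of the even-weight module contains a vector `e_a + e_b`. -/
theorem exists_pairVec_mem (m : ℕ) (M : AddSubgroup (Fin (2 * m + 1) → ZMod 2))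
    (hinv : ∀ σ ∈ alternatingGroup (Fin (2 * m + 1)), ∀ v ∈ M, act σ v ∈ M)
    (v : Fin (2 * m + 1) → ZMod 2) (hvM : v ∈ M) (hv0 : v ≠ 0) (hvs : ∑ i, v i = 0) :
    ∃ a b : Fin (2 * m + 1), a ≠ b ∧ pairVec a b ∈ M := by
  obtain ⟨i, j, k, hij, hki, hkj, hi1, hj⟩ := exists_one_zero m v hv0 hvs
  have hw : v + act (c3 i j k) v ∈ M :=
    M.add_mem hvM (hinv _ (c3_mem hij hkj.symm) v hvM)
  rcases zmod2_cases (v k) with hk0 | hk1
  · refine ⟨i, j, hij, ?_⟩
    have e : pairVec i j = v + act (c3 i j k) v := by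
      funext x
      show pairVec i j x = v x + v ((c3 i j k)⁻¹ x)
      by_cases hxi : x = i
      · rw [hxi, c3_inv_apply_a, hk0, hi1, pairVec, Pi.add_apply, Pi.single_eq_same,
          Pi.single_eq_of_ne hij]
      · by_cases hxj : x = j
        · rw [hxj, c3_inv_apply_b hij hki.symm, hi1, hj, pairVec, Pi.add_apply, Pi.single_eq_same,
            Pi.single_eq_of_ne hij.symm]
        · by_cases hxk : x = k
          · rw [hxk, c3_inv_apply_c hki.symm hkj.symm, hj, hk0, pairVec, Pi.add_apply,
              Pi.single_eq_of_ne hki, Pi.single_eq_of_ne hkj]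
          · rw [c3_inv_apply_of_ne hxi hxj hxk, pairVec, Pi.add_apply,
              Pi.single_eq_of_ne hxi, Pi.single_eq_of_ne hxj, CharTwo.add_self_eq_zero (v x),
              add_zero]
    rw [e]
    exact hw
  · refine ⟨j, k, hkj.symm, ?_⟩
    have e : pairVec j k = v + act (c3 i j k) v := by
      funext x
      show pairVec j k x = v x + v ((c3 i j k)⁻¹ x)
      by_cases hxi : x = i
      · rw [hxi, c3_inv_apply_a, hk1, hi1, pairVec, Pi.add_apply, Pi.single_eq_of_ne hij,
          Pi.single_eq_of_ne hki.symm, CharTwo.add_self_eq_zero (1 : ZMod 2), add_zero]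
      · by_cases hxj : x = j
        · rw [hxj, c3_inv_apply_b hij hki.symm, hi1, hj, pairVec, Pi.add_apply, Pi.single_eq_same,
            Pi.single_eq_of_ne hkj.symm, add_comm]
        · by_cases hxk : x = k
          · rw [hxk, c3_inv_apply_c hki.symm hkj.symm, hj, hk1, pairVec, Pi.add_apply,
              Pi.single_eq_of_ne hkj, Pi.single_eq_same, add_comm]
          · rw [c3_inv_apply_of_ne hxi hxj hxk, pairVec, Pi.add_apply,
              Pi.single_eq_of_ne hxj, Pi.single_eq_of_ne hxk, CharTwo.add_self_eq_zero (v x),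
              add_zero]
    rw [e]
    exact hw

/-- irreducibility of the even-weight module of the alternating group of odd degree. -/
theorem irr_even (m : ℕ) (M : AddSubgroup (Fin (2 * m + 1) → ZMod 2))
    (hinv : ∀ σ ∈ alternatingGroup (Fin (2 * m + 1)), ∀ v ∈ M, act σ v ∈ M)
    (v : Fin (2 * m + 1) → ZMod 2) (hvM : v ∈ M) (hv0 : v ≠ 0) (hvs : ∑ i, v i = 0)
    (w : Fin (2 * m + 1) → ZMod 2) (hw : ∑ i, w i = 0) : w ∈ M := by
  obtain ⟨a, b, hab, hM⟩ := exists_pairVec_mem m M hinv v hvM hv0 hvs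
  apply mem_of_pairVec_mem M a _ w hw
  intro x
  by_cases hxa : x = a
  · rw [hxa, pairVec_self]
    exact M.zero_mem
  · by_cases hxb : x = b
    · rw [hxb]; exact hM
    · have h := hinv _ (c3_mem (Ne.symm hxa) hxb) _ hM
      rw [act_pairVec, c3_apply_a (Ne.symm hxa) hab, c3_apply_c, pairVec_comm] at h
      exact h

end Cfsg.Agent.Helper1.BBIrr
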