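import Mathlib
import Cfsg.Prelude.Def_BaumannBlocks
import Cfsg.Agent.Helper1.BBIrrA

set_option autoImplicit false

/-!
Irreducibility of a section on which a subgroup acts as the alternating group of odd degree on its
even-weight permutation module.
-/

namespace Cfsg.Agent.Helper1.BBIrr

open Equiv

variable {G : Type*} [Group G]

/-- a section on which `E` acts as `Alt(2m+1)` on the even-weight module is `E`-irreducible. -/
theorem irr_of_actsAsOddPerm (m : ℕ) {E U U₀ : Subgroup G}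
    (h : Cfsg.ActsAsOddPermModuleOnSection (2 * m + 1) (alternatingGroup (Fin (2 * m + 1))) E U U₀)
    (X : Subgroup G) (h1 : U₀ ≤ X) (h2 : X ≤ U) (h3 : E ≤ Subgroup.normalizer (X : Set G)) :
    X = U₀ ∨ X = U := by
  obtain ⟨-, -, ρ, ψ, hρ, heven, hsurj, hker, hequiv⟩ := h
  -- the image of `X`
  let M : AddSubgroup (Fin (2 * m + 1) → ZMod 2) :=
    { carrier := {v | ∃ x : ↥U, (x : G) ∈ X ∧ Multiplicative.toAdd (ψ x) = v}
      zero_mem' := ⟨1, X.one_mem, by rw [map_one]; rfl⟩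
      add_mem' := by
        rintro _ _ ⟨x, hx, rfl⟩ ⟨y, hy, rfl⟩
        exact ⟨x * y, X.mul_mem hx hy, by rw [map_mul]; rfl⟩
      neg_mem' := by
        rintro _ ⟨x, hx, rfl⟩
        exact ⟨x⁻¹, X.inv_mem hx, by rw [map_inv]; rfl⟩ }
  have hMmem : ∀ v, v ∈ M ↔ ∃ x : ↥U, (x : G) ∈ X ∧ Multiplicative.toAdd (ψ x) = v := fun v => Iff.rfl
  have hinv : ∀ σ ∈ alternatingGroup (Fin (2 * m + 1)), ∀ v ∈ M, act σ v ∈ M := by
    intro σ hσ v hv
    rw [← hρ] at hσ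
    obtain ⟨e, rfl⟩ := hσ
    obtain ⟨x, hx, rfl⟩ := (hMmem v).mp hv
    obtain ⟨w, hw, hwψ⟩ := hequiv e x
    refine (hMmem _).mpr ⟨w, ?_, ?_⟩
    · rw [hw]
      exact (Subgroup.mem_normalizer_iff.mp (h3 e.2) _).mp hx
    · funext i
      exact hwψ i
  by_cases hall : ∀ x : ↥U, (x : G) ∈ X → ψ x = 1
  · left
    apply le_antisymm _ h1
    intro g hg
    exact (hker ⟨g, h2 hg⟩).mp (hall ⟨g, h2 hg⟩ hg)
  · right
    push Not at hall
    obtain ⟨x, hxX, hx1⟩ := hall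
    apply le_antisymm h2
    intro g hg
    have hv0 : Multiplicative.toAdd (ψ x) ≠ 0 := by
      intro h0
      apply hx1
      exact Multiplicative.toAdd.injective h0
    have hmem := irr_even m M hinv _ ((hMmem _).mpr ⟨x, hxX, rfl⟩) hv0 (heven x)
      (Multiplicative.toAdd (ψ ⟨g, hg⟩)) (heven ⟨g, hg⟩)
    obtain ⟨y, hyX, hy⟩ := (hMmem _).mp hmem
    have hψ : ψ (y⁻¹ * ⟨g, hg⟩) = 1 := by
      rw [map_mul, map_inv, Multiplicative.toAdd.injective hy, inv_mul_cancel]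
    have h4 := (hker _).mp hψ
    have h5 : g = (y : G) * ((y⁻¹ * ⟨g, hg⟩ : ↥U) : G) := by
      rw [Subgroup.coe_mul, Subgroup.coe_inv, ← mul_assoc, mul_inv_cancel, one_mul]
    rw [h5]
    exact X.mul_mem hyX (h1 h4)

/-- a section on which `E` acts as `Alt(2m+1)` on the even-weight module has no nonzero fixed
points. -/
theorem fixed_of_actsAsOddPerm (m : ℕ) {E U U₀ : Subgroup G}
    (h : Cfsg.ActsAsOddPermModuleOnSection (2 * m + 1) (alternatingGroup (Fin (2 * m + 1))) E U U₀)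
    (u : G) (hu : u ∈ U) (hfix : ∀ e ∈ E, e * u * e⁻¹ * u⁻¹ ∈ U₀) : u ∈ U₀ := by
  obtain ⟨-, hU0U, ρ, ψ, hρ, heven, hsurj, hker, hequiv⟩ := h
  rw [← hker ⟨u, hu⟩]
  apply Multiplicative.toAdd.injective
  apply eq_zero_of_fixed m _ (heven _)
  intro σ hσ
  rw [← hρ] at hσ
  obtain ⟨e, rfl⟩ := hσ
  obtain ⟨w, hw, hwψ⟩ := hequiv e ⟨u, hu⟩
  have h1 : ψ (w * ⟨u, hu⟩⁻¹) = 1 := by
    rw [hker]
    rw [Subgroup.coe_mul, Subgroup.coe_inv, hw]
    exact hfix e e.2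
  have h2 : ψ w = ψ ⟨u, hu⟩ := by
    rw [map_mul, map_inv, mul_inv_eq_one] at h1
    exact h1
  funext i
  unfold act
  rw [← hwψ i, h2]

end Cfsg.Agent.Helper1.BBIrr
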