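import Mathlib
import Cfsg.Agent.Helper4.L2pPSL

set_option autoImplicit false

/-!
Irreducibility (over the prime field) of the natural module of the derived group of `SL₂(F)`, for
every field `F`, including the fields with two and three elements.
-/

namespace Cfsg.Agent.Helper1.BBIrr

open Matrix
open scoped commutatorElement

variable {F : Type*} [Field F]

/-- a matrix of determinant one with prescribed first column. -/
theorem exists_sl2_firstCol (v : Fin 2 → F) (hv : v ≠ 0) :
    ∃ g : SpecialLinearGroup (Fin 2) F, (g : Matrix (Fin 2) (Fin 2) F).mulVec ![1, 0] = v := by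
  by_cases h0 : v 0 = 0
  · have h1 : v 1 ≠ 0 := by
      intro h1
      apply hv
      funext i
      fin_cases i
      · exact h0
      · exact h1
    refine ⟨⟨!![0, -(v 1)⁻¹; v 1, 0], ?_⟩, ?_⟩
    · rw [Matrix.det_fin_two_of]
      field_simp
      ring
    · funext i
      fin_cases i
      · simp [Matrix.mulVec, dotProduct, h0]
      · simp [Matrix.mulVec, dotProduct]
  · refine ⟨⟨!![v 0, 0; v 1, (v 0)⁻¹], ?_⟩, ?_⟩
    · rw [Matrix.det_fin_two_of]
      field_simp
      ring
    · funext i
      fin_cases i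
      · simp [Matrix.mulVec, dotProduct]
      · simp [Matrix.mulVec, dotProduct]

/-- the upper elementary transvection. -/
def aEl (F : Type*) [Field F] : SpecialLinearGroup (Fin 2) F :=
  ⟨!![1, 1; 0, 1], by simp [Matrix.det_fin_two_of]⟩

/-- the lower elementary transvection. -/
def bEl (F : Type*) [Field F] : SpecialLinearGroup (Fin 2) F :=
  ⟨!![1, 0; 1, 1], by simp [Matrix.det_fin_two_of]⟩

/-- the commutator of the two elementary transvections. -/
def cEl (F : Type*) [Field F] : SpecialLinearGroup (Fin 2) F := ⁅aEl F, bEl F⁆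

theorem cEl_mem : cEl F ∈ commutator (SpecialLinearGroup (Fin 2) F) := by
  rw [commutator_def]
  exact Subgroup.commutator_mem_commutator (Subgroup.mem_top _) (Subgroup.mem_top _)

theorem cEl_coe : ((cEl F : SpecialLinearGroup (Fin 2) F) : Matrix (Fin 2) (Fin 2) F)
    = !![3, -1; 1, 0] := by
  have ha : ((aEl F : SpecialLinearGroup (Fin 2) F) : Matrix (Fin 2) (Fin 2) F)
      = !![1, 1; 0, 1] := rfl
  have hb : ((bEl F : SpecialLinearGroup (Fin 2) F) : Matrix (Fin 2) (Fin 2) F)
      = !![1, 0; 1, 1] := rfl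
  rw [cEl, commutatorElement_def, Matrix.SpecialLinearGroup.coe_mul,
    Matrix.SpecialLinearGroup.coe_mul, Matrix.SpecialLinearGroup.coe_mul,
    Matrix.SpecialLinearGroup.coe_inv, Matrix.SpecialLinearGroup.coe_inv, ha, hb,
    Matrix.adjugate_fin_two_of, Matrix.adjugate_fin_two_of]
  ext i j
  fin_cases i <;> fin_cases j <;> simp [Matrix.mul_apply, Fin.sum_univ_two] <;> ring

/-- the case of the fields with two or three elements. -/
theorem irr_small (hB : ∀ x : F, x ≠ 0 → x ^ 2 = 1) (M : AddSubgroup (Fin 2 → F))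
    (hc : ∀ v ∈ M, (!![3, -1; 1, 0] : Matrix (Fin 2) (Fin 2) F).mulVec v ∈ M)
    (v : Fin 2 → F) (hvM : v ∈ M) (hv : v ≠ 0) (w : Fin 2 → F) : w ∈ M := by
  have htri : ∀ x : F, x = 0 ∨ x = 1 ∨ x = -1 := by
    intro x
    by_cases hx : x = 0
    · exact Or.inl hx
    · right
      have h := hB x hx
      have h2 : (x - 1) * (x + 1) = 0 := by ring_nf; rw [h]; ring
      rcases mul_eq_zero.mp h2 with h3 | h3
      · left; exact sub_eq_zero.mp h3
      · right; exact eq_neg_of_add_eq_zero_left h3
  have hsmul : ∀ α : F, ∀ m ∈ M, α • m ∈ M := by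
    intro α m hm
    rcases htri α with h | h | h
    · rw [h, zero_smul]; exact M.zero_mem
    · rw [h, one_smul]; exact hm
    · rw [h, neg_smul, one_smul]; exact M.neg_mem hm
  have h5 : (5 : F) ≠ 0 := by
    intro h5
    have h2 : (2 : F) ≠ 0 := by
      intro h2
      have : (5 : F) = 2 * 2 + 1 := by norm_num
      rw [this, h2] at h5
      simp at h5
    have h4 := hB 2 h2
    have h3 : (3 : F) = 0 := by
      have : (3 : F) = 2 ^ 2 - 1 := by norm_num
      rw [this, h4]; ring
    apply h2
    have : (2 : F) = 5 - 3 := by norm_num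
    rw [this, h5, h3]; ring
  have hd : (v 0) ^ 2 - 3 * v 0 * v 1 + (v 1) ^ 2 ≠ 0 := by
    by_cases hx : v 0 = 0
    · have hy : v 1 ≠ 0 := by
        intro hy
        apply hv
        funext i
        fin_cases i
        · exact hx
        · exact hy
      rw [hx, hB _ hy]
      simp
    · by_cases hy : v 1 = 0
      · rw [hy, hB _ hx]
        simp
      · rw [hB _ hx, hB _ hy]
        rcases htri (v 0) with h | h | h
        · exact absurd h hx
        · rcases htri (v 1) with h' | h' | h'
          · exact absurd h' hy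
          · rw [h, h']
            have : (1 : F) - 3 * 1 * 1 + 1 = -1 := by ring
            rw [this]
            exact neg_ne_zero.mpr one_ne_zero
          · rw [h, h']
            have : (1 : F) - 3 * 1 * -1 + 1 = 5 := by ring
            rw [this]
            exact h5
        · rcases htri (v 1) with h' | h' | h'
          · exact absurd h' hy
          · rw [h, h']
            have : (1 : F) - 3 * -1 * 1 + 1 = 5 := by ring
            rw [this]
            exact h5
          · rw [h, h']
            have : (1 : F) - 3 * -1 * -1 + 1 = -1 := by ring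
            rw [this]
            exact neg_ne_zero.mpr one_ne_zero
  have hcv := hc v hvM
  obtain ⟨d, hd_def⟩ : ∃ d : F, d = (v 0) ^ 2 - 3 * v 0 * v 1 + (v 1) ^ 2 := ⟨_, rfl⟩
  rw [← hd_def] at hd
  have e : w = ((w 0 * v 0 - (3 * v 0 - v 1) * w 1) / d) • v +
      ((v 0 * w 1 - v 1 * w 0) / d) • (!![3, -1; 1, 0] : Matrix (Fin 2) (Fin 2) F).mulVec v := by
    funext i
    fin_cases i
    · simp [Matrix.mulVec, dotProduct]
      field_simp
      rw [hd_def]
      ring
    · simp [Matrix.mulVec, dotProduct]
      field_simp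
      rw [hd_def]
      ring
  rw [e]
  exact M.add_mem (hsmul _ _ hvM) (hsmul _ _ hcv)

/-- the natural module of `SL₂(F)'` has no proper nonzero invariant additive subgroup. -/
theorem irr_sl2 (M : AddSubgroup (Fin 2 → F))
    (hinv : ∀ g ∈ commutator (SpecialLinearGroup (Fin 2) F), ∀ v ∈ M,
      (g : Matrix (Fin 2) (Fin 2) F).mulVec v ∈ M)
    (v : Fin 2 → F) (hvM : v ∈ M) (hv : v ≠ 0) (w : Fin 2 → F) : w ∈ M := by
  by_cases hA : ∃ x : F, x ≠ 0 ∧ x ^ 2 ≠ 1
  · have htop := Cfsg.Agent.Helper4.L2p.commutator_SL2_eq_top hA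
    by_cases hw : w = 0
    · rw [hw]; exact M.zero_mem
    · obtain ⟨g, hg⟩ := exists_sl2_firstCol v hv
      obtain ⟨g', hg'⟩ := exists_sl2_firstCol w hw
      have h1 := hinv (g' * g⁻¹) (by rw [htop]; trivial) v hvM
      have h2 : ((g' * g⁻¹ : SpecialLinearGroup (Fin 2) F) : Matrix (Fin 2) (Fin 2) F).mulVec v
          = w := by
        have h3 : ((g' * g⁻¹ : SpecialLinearGroup (Fin 2) F) : Matrix (Fin 2) (Fin 2) F) *
            (g : Matrix (Fin 2) (Fin 2) F) = (g' : Matrix (Fin 2) (Fin 2) F) := by
          have h4 := Matrix.SpecialLinearGroup.coe_mul (g' * g⁻¹) g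
          rw [inv_mul_cancel_right] at h4
          exact h4.symm
        rw [← hg, Matrix.mulVec_mulVec, h3, hg']
      rw [← h2]
      exact h1
  · push Not at hA
    apply irr_small hA M _ v hvM hv
    intro u hu
    have := hinv (cEl F) cEl_mem u hu
    rw [cEl_coe] at this
    exact this

/-- the natural module of `SL₂(F)'` has no nonzero fixed vector. -/
theorem eq_zero_of_fixed_sl2 (v : Fin 2 → F)
    (hfix : ∀ g ∈ commutator (SpecialLinearGroup (Fin 2) F),
      (g : Matrix (Fin 2) (Fin 2) F).mulVec v = v) : v = 0 := by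
  have h := hfix (cEl F) cEl_mem
  rw [cEl_coe] at h
  have h0 := congrFun h 0
  have h1 := congrFun h 1
  simp [Matrix.mulVec, dotProduct] at h0 h1
  have hv0 : v 0 = 0 := by
    rw [← h1] at h0
    linear_combination h0
  funext i
  fin_cases i
  · exact hv0
  · show v 1 = 0
    rw [← h1]
    exact hv0

end Cfsg.Agent.Helper1.BBIrr
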