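import Mathlib
import Cfsg.Prelude.Def_OddOrderLocal
import Cfsg.Prelude.Def_OddOrder
import Cfsg.Agent.Helper1.SylowInt
import Cfsg.Agent.Helper5.PPrimeCore

set_option autoImplicit false

/-!
Bender–Glauberman, Section 7 (the Transitivity Theorem), part 1: basic facts on `O_π`, on
`A`-invariant `π`-subgroups and the consequences of the transitivity hypothesis.
-/

namespace Cfsg.Agent.Helper1.BGT

open Cfsg Cfsg.Agent.Helper1
open scoped Pointwise

universe u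

/-- `O_π(X)` of a finite group is a `π`-group. -/
theorem piCore_isPi {X : Type u} [Group X] [Finite X] (π : Set ℕ) :
    ∀ p : ℕ, p.Prime → p ∣ Nat.card (Cfsg.piCore π X) → p ∈ π := by
  classical
  set S : Set (Subgroup X) :=
    {N : Subgroup X | N.Normal ∧ ∀ p : ℕ, p.Prime → p ∣ Nat.card N → p ∈ π} with hS
  have hSne : S.Nonempty := by
    refine ⟨⊥, inferInstance, ?_⟩
    intro p hp hd
    rw [Subgroup.card_bot] at hd
    exact absurd (Nat.dvd_one.mp hd) hp.ne_one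
  obtain ⟨M, hMS, hMmax⟩ := Set.exists_max_image S (fun N => Nat.card N) (Set.toFinite S) hSne
  have hle : ∀ N ∈ S, N ≤ M := by
    intro N hN
    haveI : N.Normal := hN.1
    haveI : M.Normal := hMS.1
    have hMN : M ⊔ N ∈ S := by
      refine ⟨inferInstance, ?_⟩
      intro p hp hd
      have hd2 := hd.trans (Cfsg.Agent.Helper5.card_sup_dvd_of_normal M N)
      rcases (Nat.Prime.dvd_mul hp).mp hd2 with h | h
      · exact hMS.2 p hp h
      · exact hN.2 p hp h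
    have h1 := hMmax _ hMN
    have h2 : M ⊔ N = M := (Subgroup.eq_of_le_of_card_ge le_sup_left h1).symm
    rw [← h2]; exact le_sup_right
  have : Cfsg.piCore π X = M := le_antisymm (sSup_le hle) (le_sSup hMS)
  rw [this]; exact hMS.2

variable {G : Type u} [Group G]

theorem piCoreOf_le (π : Set ℕ) (X : Subgroup G) : Cfsg.piCoreOf π X ≤ X :=
  Subgroup.map_subtype_le _

theorem piCoreOf_isPi [Finite G] (π : Set ℕ) (X : Subgroup G) :
    ∀ p : ℕ, p.Prime → p ∣ Nat.card (Cfsg.piCoreOf π X) → p ∈ π := by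
  intro p hp hd
  unfold Cfsg.piCoreOf at hd
  rw [Subgroup.card_map_of_injective (Subgroup.subtype_injective X)] at hd
  exact piCore_isPi π p hp hd

theorem le_piCoreOf {π : Set ℕ} {Y X : Subgroup G} (hYX : Y ≤ X)
    (hn : X ≤ Subgroup.normalizer (Y : Set G))
    (hπ : ∀ p : ℕ, p.Prime → p ∣ Nat.card Y → p ∈ π) : Y ≤ Cfsg.piCoreOf π X := by
  have hnorm : (Y.subgroupOf X).Normal := (Subgroup.normal_subgroupOf_iff_le_normalizer hYX).2 hn
  have h1 : Y.subgroupOf X ≤ Cfsg.piCore π X := by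
    apply le_sSup
    refine ⟨hnorm, ?_⟩
    rw [card_subgroupOf_of_le hYX]
    exact hπ
  intro y hy
  exact ⟨⟨y, hYX hy⟩, h1 (Subgroup.mem_subgroupOf.mpr hy), rfl⟩

theorem le_normalizer_piCoreOf [Finite G] (π : Set ℕ) (X : Subgroup G) :
    X ≤ Subgroup.normalizer ((Cfsg.piCoreOf π X : Subgroup G) : Set G) := by
  intro x hx
  apply Subgroup.mem_normalizer_fintype
  rintro _ ⟨o, ho, rfl⟩
  refine ⟨⟨x, hx⟩ * o * ⟨x, hx⟩⁻¹, (Cfsg.piCore_normal π ↥X).conj_mem o ho ⟨x, hx⟩, ?_⟩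
  simp

theorem normalizer_le_normalizer_piCoreOf [Finite G] (π : Set ℕ) (X : Subgroup G) :
    Subgroup.normalizer (X : Set G) ≤
      Subgroup.normalizer ((Cfsg.piCoreOf π X : Subgroup G) : Set G) := by
  intro g hg
  apply Subgroup.mem_normalizer_fintype
  intro n hn
  have hle : MulAut.conj g • Cfsg.piCoreOf π X ≤ Cfsg.piCoreOf π X := by
    apply le_piCoreOf
    · exact conj_smul_le_of_mem_normalizer (piCoreOf_le π X) hg
    · intro x hx
      apply Subgroup.mem_normalizer_fintype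
      intro y hy
      have hy' : g⁻¹ * y * g ∈ Cfsg.piCoreOf π X := mem_conj_smul.mp hy
      have hx' : g⁻¹ * x * g ∈ X := by
        have := (Subgroup.mem_normalizer_iff.mp (Subgroup.inv_mem _ hg) x).mp hx
        simpa using this
      have h1 := (Subgroup.mem_normalizer_iff.mp (le_normalizer_piCoreOf π X hx') _).mp hy'
      rw [SetLike.mem_coe, mem_conj_smul]
      have e : g⁻¹ * (x * y * x⁻¹) * g = g⁻¹ * x * g * (g⁻¹ * y * g) * (g⁻¹ * x * g)⁻¹ := by group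
      rw [e]; exact h1
    · intro p hp hd
      rw [card_conj_smul] at hd
      exact piCoreOf_isPi π X p hp hd
  exact hle (conj_mem_conj_smul hn)

/-! ### `π'`-groups and `q`-groups -/

theorem coprime_of_pi' {Y : Subgroup G} {n : ℕ}
    (h : ∀ p : ℕ, p.Prime → p ∣ Nat.card Y → p ∈ Cfsg.primesNotDvd n) :
    (Nat.card Y).Coprime n := by
  by_contra hc
  obtain ⟨p, hp, h1, h2⟩ := Nat.Prime.not_coprime_iff_dvd.mp hc
  exact (h p hp h1).2 h2

theorem pi'_of_coprime {Y : Subgroup G} {n : ℕ} (h : (Nat.card Y).Coprime n) :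
    ∀ p : ℕ, p.Prime → p ∣ Nat.card Y → p ∈ Cfsg.primesNotDvd n := by
  intro p hp hd
  refine ⟨hp, fun hn => ?_⟩
  exact (Nat.Prime.not_coprime_iff_dvd.mpr ⟨p, hp, hd, hn⟩) h

theorem isPGroup_of_pi_singleton [Finite G] {q : ℕ} (hq : q.Prime) {Y : Subgroup G}
    (h : ∀ p : ℕ, p.Prime → p ∣ Nat.card Y → p ∈ ({q} : Set ℕ)) : IsPGroup q Y := by
  haveI := Fact.mk hq
  rw [IsPGroup.iff_card]
  exact ⟨_, Nat.eq_prime_pow_of_unique_prime_dvd Nat.card_pos.ne' (fun hd hdvd => h _ hd hdvd)⟩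

theorem pi_singleton_of_isPGroup {q : ℕ} (hq : q.Prime) {Y : Subgroup G} (h : IsPGroup q Y)
    [Finite Y] : ∀ p : ℕ, p.Prime → p ∣ Nat.card Y → p ∈ ({q} : Set ℕ) := by
  haveI := Fact.mk hq
  obtain ⟨n, hn⟩ := IsPGroup.iff_card.mp h
  intro p hp hd
  rw [hn] at hd
  exact (Nat.prime_dvd_prime_iff_eq hp hq).mp (hp.dvd_of_dvd_pow hd)

/-- A `q`-group with `q ∤ |A|` is a `π(A)'`-group. -/
theorem pi'_of_isPGroup {q : ℕ} (hq : q.Prime) {Y : Subgroup G} [Finite Y] (h : IsPGroup q Y) {n : ℕ}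
    (hqn : ¬ q ∣ n) : ∀ p : ℕ, p.Prime → p ∣ Nat.card Y → p ∈ Cfsg.primesNotDvd n := by
  intro p hp hd
  have := pi_singleton_of_isPGroup hq h p hp hd
  rw [Set.mem_singleton_iff] at this
  rw [this]
  exact ⟨hq, hqn⟩

/-! ### Invariant subgroups -/

theorem mem_invSubgroups_top [Finite G] {q : ℕ} (hq : q.Prime) {A Y : Subgroup G} :
    Y ∈ Cfsg.invSubgroups ⊤ A {q} ↔ IsPGroup q Y ∧ A ≤ Subgroup.normalizer (Y : Set G) := by
  constructor
  · rintro ⟨-, h1, h2⟩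
    exact ⟨isPGroup_of_pi_singleton hq h1, h2⟩
  · rintro ⟨h1, h2⟩
    exact ⟨le_top, pi_singleton_of_isPGroup hq h1, h2⟩

theorem exists_max_ge [Finite G] {H A : Subgroup G} {π : Set ℕ} {Y : Subgroup G}
    (hY : Y ∈ Cfsg.invSubgroups H A π) : ∃ Q ∈ Cfsg.maxInvSubgroups H A π, Y ≤ Q := by
  obtain ⟨V, hYV, hVmax⟩ := (Set.toFinite (Cfsg.invSubgroups H A π)).exists_le_maximal hY
  refine ⟨V, ⟨hVmax.prop, ?_⟩, hYV⟩
  intro R hR hVR
  exact le_antisymm (hVmax.le_of_ge hR hVR) hVR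

theorem conj_smul_mem_invSubgroups_top {A Y : Subgroup G} {π : Set ℕ} {k : G}
    (hk : k ∈ Subgroup.centralizer (A : Set G)) (hY : Y ∈ Cfsg.invSubgroups ⊤ A π) :
    MulAut.conj k • Y ∈ Cfsg.invSubgroups ⊤ A π := by
  obtain ⟨-, h1, h2⟩ := hY
  refine ⟨le_top, ?_, ?_⟩
  · intro p hp hd
    rw [card_conj_smul] at hd
    exact h1 p hp hd
  · intro a ha
    rw [Subgroup.mem_normalizer_iff]
    intro y
    rw [mem_conj_smul, mem_conj_smul]
    have hak : a * k = k * a := Subgroup.mem_centralizer_iff.mp hk a ha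
    have hak' : k⁻¹ * a = a * k⁻¹ := by
      have : k⁻¹ * (a * k) * k⁻¹ = k⁻¹ * (k * a) * k⁻¹ := by rw [hak]
      have e1 : k⁻¹ * (a * k) * k⁻¹ = k⁻¹ * a := by group
      have e2 : k⁻¹ * (k * a) * k⁻¹ = a * k⁻¹ := by group
      rw [e1, e2] at this; exact this
    have e : k⁻¹ * (a * y * a⁻¹) * k = a * (k⁻¹ * y * k) * a⁻¹ := by
      have e3 : k⁻¹ * (a * y * a⁻¹) * k = (k⁻¹ * a) * y * (a⁻¹ * k) := by group
      have e4 : a⁻¹ * k = k * a⁻¹ := by
        have : a⁻¹ * (a * k) * a⁻¹ = a⁻¹ * (k * a) * a⁻¹ := by rw [hak]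
        have e5 : a⁻¹ * (a * k) * a⁻¹ = k * a⁻¹ := by group
        have e6 : a⁻¹ * (k * a) * a⁻¹ = a⁻¹ * k := by group
        rw [e5, e6] at this; exact this.symm
      rw [e3, hak', e4]; group
    rw [e]
    exact Subgroup.mem_normalizer_iff.mp (h2 ha) _

theorem conj_smul_mem_maxInvSubgroups_top {A Q : Subgroup G} {π : Set ℕ} {k : G}
    (hk : k ∈ Subgroup.centralizer (A : Set G)) (hQ : Q ∈ Cfsg.maxInvSubgroups ⊤ A π) :
    MulAut.conj k • Q ∈ Cfsg.maxInvSubgroups ⊤ A π := by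
  refine ⟨conj_smul_mem_invSubgroups_top hk hQ.1, ?_⟩
  intro R hR hle
  have hk' : k⁻¹ ∈ Subgroup.centralizer (A : Set G) := Subgroup.inv_mem _ hk
  have hR' := conj_smul_mem_invSubgroups_top hk' hR
  have hle' : Q ≤ MulAut.conj k⁻¹ • R := by
    intro x hx
    rw [mem_conj_smul]
    have := hle (conj_mem_conj_smul (g := k) hx)
    simpa using this
  have h1 := hQ.2 _ hR' hle'
  rw [← h1]
  ext x
  rw [mem_conj_smul, mem_conj_smul]
  simp [mul_assoc]

end Cfsg.Agent.Helper1.BGT
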