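import Mathlib
import Cfsg.Agent.Helper1.BGTa
import Cfsg.Agent.Lead.AlperinTame

set_option autoImplicit false

/-!
Bender–Glauberman, Section 7, part 2: Theorem 7.2 (`S1392`).
-/

namespace Cfsg.Agent.Helper1.BGT

open Cfsg Cfsg.Agent.Helper1
open scoped Pointwise

universe u

variable {G : Type u} [Group G]

/-- Conjugacy under a subgroup `K`. -/
def KConj (K Q₁ Q₂ : Subgroup G) : Prop := ∃ k ∈ K, Q₂ = MulAut.conj k • Q₁

theorem conj_smul_smul (a b : G) (Q : Subgroup G) :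
    MulAut.conj a • MulAut.conj b • Q = MulAut.conj (a * b) • Q := by
  rw [map_mul, mul_smul]

theorem KConj.refl (K Q : Subgroup G) : KConj K Q Q :=
  ⟨1, K.one_mem, by rw [map_one, one_smul]⟩

theorem KConj.symm {K Q₁ Q₂ : Subgroup G} (h : KConj K Q₁ Q₂) : KConj K Q₂ Q₁ := by
  obtain ⟨k, hk, rfl⟩ := h
  exact ⟨k⁻¹, K.inv_mem hk, by rw [conj_smul_smul, inv_mul_cancel, map_one, one_smul]⟩

theorem KConj.trans {K Q₁ Q₂ Q₃ : Subgroup G} (h1 : KConj K Q₁ Q₂) (h2 : KConj K Q₂ Q₃) :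
    KConj K Q₁ Q₃ := by
  obtain ⟨k, hk, rfl⟩ := h1
  obtain ⟨l, hl, rfl⟩ := h2
  exact ⟨l * k, K.mul_mem hl hk, by rw [conj_smul_smul]⟩

theorem KConj.of_mem {K Q : Subgroup G} {k : G} (hk : k ∈ K) : KConj K Q (MulAut.conj k • Q) :=
  ⟨k, hk, rfl⟩

theorem conj_smul_mono {k : G} {D Q : Subgroup G} (h : D ≤ Q) :
    MulAut.conj k • D ≤ MulAut.conj k • Q := by
  intro x hx
  rw [mem_conj_smul] at hx ⊢
  exact h hx

theorem conj_smul_ne_bot {k : G} {D : Subgroup G} (h : D ≠ ⊥) : MulAut.conj k • D ≠ ⊥ := by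
  intro hb
  apply h
  rw [eq_bot_iff]
  intro x hx
  have h1 : k * x * k⁻¹ ∈ MulAut.conj k • D := conj_mem_conj_smul hx
  rw [hb, Subgroup.mem_bot] at h1
  rw [Subgroup.mem_bot]
  have : x = k⁻¹ * (k * x * k⁻¹) * k := by group
  rw [this, h1]; group

variable [Finite G]

/-- The standing hypotheses of Section 7. -/
structure Hyp (A : Subgroup G) (q : ℕ) : Prop where
  simple : IsSimpleGroup G
  solv : ∀ H : Subgroup G, H ≠ ⊤ → Group.IsSolvable H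
  trans : Cfsg.TransitivityHypothesis A
  hq : q.Prime
  hqA : ¬ q ∣ Nat.card A

omit [Finite G] in
theorem Hyp.of (hG : Cfsg.IsMinSimpleOddOrder G) {A : Subgroup G}
    (hA : Cfsg.TransitivityHypothesis A) {q : ℕ} (hq : q.Prime) (hqA : ¬ q ∣ Nat.card A) :
    Hyp A q :=
  ⟨hG.2.1, hG.2.2.2, hA, hq, hqA⟩

variable {A : Subgroup G} {q : ℕ}

omit [Finite G] in
theorem Hyp.le_core (h : Hyp A q) {X Y : Subgroup G} (hX : X ≠ ⊤) (hAX : A ≤ X) (hYX : Y ≤ X)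
    (hY : ∀ p : ℕ, p.Prime → p ∣ Nat.card Y → p ∈ Cfsg.primesNotDvd (Nat.card A))
    (hAY : A ≤ Subgroup.normalizer (Y : Set G)) :
    Y ≤ Cfsg.piCoreOf (Cfsg.primesNotDvd (Nat.card A)) X := by
  rw [← h.trans.2.2 X hX hAX]
  exact le_sSup ⟨hYX, hY, hAY⟩

omit [Finite G] in
theorem Hyp.normalizer_ne_top (h : Hyp A q) {Y : Subgroup G} (hY : Y ≠ ⊥) (hY' : Y ≠ ⊤) :
    Subgroup.normalizer (Y : Set G) ≠ ⊤ := by
  intro htop
  haveI := h.simple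
  have hn : Y.Normal := Subgroup.normalizer_eq_top_iff.mp htop
  rcases hn.eq_bot_or_eq_top with h1 | h1
  · exact hY h1
  · exact hY' h1

/-- `K = O_{π'}(C_G(A))`. -/
noncomputable def KK (A : Subgroup G) : Subgroup G :=
  Cfsg.piCoreOf (Cfsg.primesNotDvd (Nat.card A)) (Subgroup.centralizer (A : Set G))

omit [Finite G] in
theorem KK_le_centralizer (A : Subgroup G) : KK A ≤ Subgroup.centralizer (A : Set G) :=
  piCoreOf_le _ _

theorem coprime_card_piCoreOf (A X : Subgroup G) :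
    (Nat.card A).Coprime (Nat.card (Cfsg.piCoreOf (Cfsg.primesNotDvd (Nat.card A)) X)) :=
  (coprime_of_pi' (piCoreOf_isPi _ X)).symm

/-- `C_{O_{π'}(X)}(A) ≤ K`. -/
theorem Hyp.inf_centralizer_le_KK (h : Hyp A q) (X : Subgroup G) :
    Cfsg.piCoreOf (Cfsg.primesNotDvd (Nat.card A)) X ⊓ Subgroup.centralizer (A : Set G) ≤ KK A := by
  set N := Subgroup.normalizer (A : Set G) with hN
  have hNtop : N ≠ ⊤ := h.normalizer_ne_top h.trans.1 h.trans.2.1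
  have hAN : A ≤ N := Subgroup.le_normalizer
  set D := Cfsg.piCoreOf (Cfsg.primesNotDvd (Nat.card A)) X ⊓ Subgroup.centralizer (A : Set G)
    with hD
  have hDN : D ≤ N := inf_le_right.trans (Subgroup.centralizer_le_normalizer _)
  have hDpi : ∀ p : ℕ, p.Prime → p ∣ Nat.card D → p ∈ Cfsg.primesNotDvd (Nat.card A) := by
    intro p hp hd
    exact piCoreOf_isPi _ X p hp (hd.trans (Subgroup.card_dvd_of_le inf_le_left))
  have hAD : A ≤ Subgroup.normalizer (D : Set G) := by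
    intro a ha
    apply Subgroup.mem_normalizer_fintype
    intro d hd
    have hd' : d ∈ Cfsg.piCoreOf (Cfsg.primesNotDvd (Nat.card A)) X ⊓
        Subgroup.centralizer (A : Set G) := hd
    have h1 : a * d = d * a := Subgroup.mem_centralizer_iff.mp (Subgroup.mem_inf.mp hd').2 a ha
    have : a * d * a⁻¹ = d := by rw [h1]; group
    rw [this]; exact hd
  have h1 : D ≤ Cfsg.piCoreOf (Cfsg.primesNotDvd (Nat.card A)) N :=
    h.le_core hNtop hAN hDN hDpi hAD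
  refine h1.trans ?_
  -- `O_{π'}(N_G(A)) ≤ K`
  set O := Cfsg.piCoreOf (Cfsg.primesNotDvd (Nat.card A)) N with hO
  have hON : O ≤ N := piCoreOf_le _ _
  have hNO : N ≤ Subgroup.normalizer (O : Set G) := le_normalizer_piCoreOf _ _
  have hbot : O ⊓ A = ⊥ := inf_eq_bot_of_coprime_card (coprime_card_piCoreOf A N).symm
  have hOC : O ≤ Subgroup.centralizer (A : Set G) := by
    intro o ho
    rw [Subgroup.mem_centralizer_iff]
    intro a ha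
    have h2 : a * o * a⁻¹ * o⁻¹ ∈ O ⊓ A := by
      refine Subgroup.mem_inf.mpr ⟨?_, ?_⟩
      · have := (Subgroup.mem_normalizer_iff.mp (hNO (hAN ha)) o).mp ho
        exact O.mul_mem this (O.inv_mem ho)
      · have := (Subgroup.mem_normalizer_iff.mp (hON ho) a⁻¹).mp (A.inv_mem ha)
        have e : a * o * a⁻¹ * o⁻¹ = a * (o * a⁻¹ * o⁻¹) := by group
        rw [e]
        exact A.mul_mem ha this
    rw [hbot, Subgroup.mem_bot] at h2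
    have : a * o = (a * o * a⁻¹ * o⁻¹) * (o * a) := by group
    rw [this, h2, one_mul]
  exact le_piCoreOf hOC ((Subgroup.centralizer_le_normalizer _).trans hNO) (piCoreOf_isPi _ N)

/-- The Sylow argument: two `A`-invariant `q`-subgroups of a proper subgroup `X ≥ A` can be moved
into a common maximal `A`-invariant `q`-subgroup, after conjugating one of them by an element of `K`. -/
theorem Hyp.transfer (h : Hyp A q) {X : Subgroup G} (hX : X ≠ ⊤) (hAX : A ≤ X) {D₁ D₂ : Subgroup G}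
    (hD₁X : D₁ ≤ X) (hD₂X : D₂ ≤ X) (hD₁ : IsPGroup q D₁) (hD₂ : IsPGroup q D₂)
    (hAD₁ : A ≤ Subgroup.normalizer (D₁ : Set G)) (hAD₂ : A ≤ Subgroup.normalizer (D₂ : Set G)) :
    ∃ c ∈ KK A, ∃ Q₃ ∈ Cfsg.maxInvSubgroups ⊤ A {q}, D₁ ≤ Q₃ ∧ MulAut.conj c • D₂ ≤ Q₃ := by
  haveI : Fact q.Prime := ⟨h.hq⟩
  set O := Cfsg.piCoreOf (Cfsg.primesNotDvd (Nat.card A)) X with hO
  have hD₁O : D₁ ≤ O := h.le_core hX hAX hD₁X (pi'_of_isPGroup h.hq hD₁ h.hqA) hAD₁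
  have hD₂O : D₂ ≤ O := h.le_core hX hAX hD₂X (pi'_of_isPGroup h.hq hD₂ h.hqA) hAD₂
  have hAO : A ≤ Subgroup.normalizer (O : Set G) := hAX.trans (le_normalizer_piCoreOf _ X)
  have hcop : (Nat.card A).Coprime (Nat.card O) := coprime_card_piCoreOf A X
  have hsolv : Group.IsSolvable A ∨ Group.IsSolvable O := Or.inl (h.solv A h.trans.2.1)
  obtain ⟨P₁, hD₁P₁, hAP₁⟩ := exists_invariant_sylow_ge (p := q) A O hAO hcop hsolv D₁ hD₁O hD₁ hAD₁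
  obtain ⟨P₂, hD₂P₂, hAP₂⟩ := exists_invariant_sylow_ge (p := q) A O hAO hcop hsolv D₂ hD₂O hD₂ hAD₂
  obtain ⟨c, hcA, hc⟩ := invariant_sylow_conj A O hAO hcop hsolv P₂ P₁ hAP₂ hAP₁
  have hcK : (c : G) ∈ KK A := h.inf_centralizer_le_KK X (Subgroup.mem_inf.mpr ⟨c.2, hcA⟩)
  have hSinv : (P₁ : Subgroup O).map O.subtype ∈ Cfsg.invSubgroups ⊤ A {q} :=
    (mem_invSubgroups_top h.hq).mpr ⟨P₁.2.map _, hAP₁⟩
  obtain ⟨Q₃, hQ₃, hSQ₃⟩ := exists_max_ge hSinv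
  refine ⟨(c : G), hcK, Q₃, hQ₃, hD₁P₁.trans hSQ₃, ?_⟩
  have h1 : MulAut.conj (c : G) • (P₂ : Subgroup O).map O.subtype = (P₁ : Subgroup O).map O.subtype := by
    rw [← hc]
    exact (sylow_smul_map O P₂ c).symm
  exact (conj_smul_mono hD₂P₂).trans (h1.le.trans hSQ₃)

/-- Theorem 7.2, first part: two maximal `A`-invariant `q`-subgroups meeting nontrivially are
conjugate under `K`. -/
theorem Hyp.conj_of_inf_ne_bot (h : Hyp A q) :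
    ∀ (n : ℕ) (Q₁ Q₂ : Subgroup G), Q₁ ∈ Cfsg.maxInvSubgroups ⊤ A {q} →
      Q₂ ∈ Cfsg.maxInvSubgroups ⊤ A {q} → Nat.card G - Nat.card ↥(Q₁ ⊓ Q₂) = n →
      Q₁ ⊓ Q₂ ≠ ⊥ → KConj (KK A) Q₁ Q₂ := by
  haveI : Fact q.Prime := ⟨h.hq⟩
  intro n
  induction n using Nat.strong_induction_on with
  | _ n ih =>
    intro Q₁ Q₂ h₁ h₂ hn hne
    by_cases heq : Q₁ = Q₂
    · rw [heq]; exact KConj.refl _ _
    obtain ⟨hQ₁q, hAQ₁⟩ := (mem_invSubgroups_top h.hq).mp h₁.1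
    obtain ⟨hQ₂q, hAQ₂⟩ := (mem_invSubgroups_top h.hq).mp h₂.1
    have hne₁ : Q₁ ⊓ Q₂ ≠ Q₁ := by
      intro he
      exact heq (h₁.2 Q₂ h₂.1 (inf_eq_left.mp he)).symm
    have hne₂ : Q₁ ⊓ Q₂ ≠ Q₂ := by
      intro he
      exact heq (h₂.2 Q₁ h₁.1 (inf_eq_right.mp he))
    have hQtop : Q₁ ⊓ Q₂ ≠ ⊤ := by
      intro he
      apply heq
      have e1 : Q₁ = ⊤ := top_le_iff.mp (he ▸ inf_le_left)
      have e2 : Q₂ = ⊤ := top_le_iff.mp (he ▸ inf_le_right)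
      rw [e1, e2]
    have hNtop := h.normalizer_ne_top hne hQtop
    have hAN : A ≤ Subgroup.normalizer ((Q₁ ⊓ Q₂ : Subgroup G) : Set G) := le_normalizer_inf hAQ₁ hAQ₂
    have hANN : A ≤ Subgroup.normalizer
        ((Subgroup.normalizer ((Q₁ ⊓ Q₂ : Subgroup G) : Set G) : Subgroup G) : Set G) :=
      hAN.trans Subgroup.le_normalizer
    have hc₁ := Cfsg.Agent.Lead.Alp.card_lt_inf_normalizer hQ₁q (inf_le_left : Q₁ ⊓ Q₂ ≤ Q₁) hne₁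
    have hc₂ := Cfsg.Agent.Lead.Alp.card_lt_inf_normalizer hQ₂q (inf_le_right : Q₁ ⊓ Q₂ ≤ Q₂) hne₂
    obtain ⟨c, hcK, Q₃, hQ₃, hR₁, hR₂⟩ := h.transfer hNtop hAN
      (inf_le_right : Q₁ ⊓ Subgroup.normalizer ((Q₁ ⊓ Q₂ : Subgroup G) : Set G) ≤ _)
      (inf_le_right : Q₂ ⊓ Subgroup.normalizer ((Q₁ ⊓ Q₂ : Subgroup G) : Set G) ≤ _)
      (hQ₁q.to_le inf_le_left) (hQ₂q.to_le inf_le_left)
      (le_normalizer_inf hAQ₁ hANN) (le_normalizer_inf hAQ₂ hANN)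
    have hcardG : ∀ Y : Subgroup G, Nat.card Y ≤ Nat.card G := fun Y => Subgroup.card_le_card_group Y
    have hpos : 0 < Nat.card ↥(Q₁ ⊓ Q₂) := Nat.card_pos
    -- `Q₁ ~ Q₃`
    have hle₁ : Q₁ ⊓ Subgroup.normalizer ((Q₁ ⊓ Q₂ : Subgroup G) : Set G) ≤ Q₁ ⊓ Q₃ :=
      le_inf inf_le_left hR₁
    have hcard₁ : Nat.card ↥(Q₁ ⊓ Q₂) < Nat.card ↥(Q₁ ⊓ Q₃) :=
      lt_of_lt_of_le hc₁ (Subgroup.card_le_of_le hle₁)
    have hne13 : Q₁ ⊓ Q₃ ≠ ⊥ := by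
      intro hb
      rw [hb, Subgroup.card_bot] at hcard₁
      omega
    have k₁ : KConj (KK A) Q₁ Q₃ :=
      ih (Nat.card G - Nat.card ↥(Q₁ ⊓ Q₃)) (by have := hcardG (Q₁ ⊓ Q₃); omega) Q₁ Q₃ h₁ hQ₃ rfl hne13
    -- `c Q₂ c⁻¹ ~ Q₃`
    have hcC : c ∈ Subgroup.centralizer (A : Set G) := KK_le_centralizer A hcK
    have h₂' : MulAut.conj c • Q₂ ∈ Cfsg.maxInvSubgroups ⊤ A {q} :=
      conj_smul_mem_maxInvSubgroups_top hcC h₂
    have hle₂ : MulAut.conj c • (Q₂ ⊓ Subgroup.normalizer ((Q₁ ⊓ Q₂ : Subgroup G) : Set G)) ≤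
        MulAut.conj c • Q₂ ⊓ Q₃ := le_inf (conj_smul_mono inf_le_left) hR₂
    have hcard₂ : Nat.card ↥(Q₁ ⊓ Q₂) < Nat.card ↥(MulAut.conj c • Q₂ ⊓ Q₃) := by
      refine lt_of_lt_of_le hc₂ ?_
      rw [← card_conj_smul c]
      exact Subgroup.card_le_of_le hle₂
    have hne23 : MulAut.conj c • Q₂ ⊓ Q₃ ≠ ⊥ := by
      intro hb
      rw [hb, Subgroup.card_bot] at hcard₂
      omega
    have k₂ : KConj (KK A) (MulAut.conj c • Q₂) Q₃ :=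
      ih (Nat.card G - Nat.card ↥(MulAut.conj c • Q₂ ⊓ Q₃))
        (by have := hcardG (MulAut.conj c • Q₂ ⊓ Q₃); omega) _ Q₃ h₂' hQ₃ rfl hne23
    exact k₁.trans (k₂.symm.trans (KConj.of_mem hcK).symm)

/-- Theorem 7.2. -/
theorem Hyp.thm72 (h : Hyp A q) {Q₁ Q₂ : Subgroup G} (h₁ : Q₁ ∈ Cfsg.maxInvSubgroups ⊤ A {q})
    (h₂ : Q₂ ∈ Cfsg.maxInvSubgroups ⊤ A {q}) {H : Subgroup G} (hH : H ≠ ⊤) (hAH : A ≤ H)
    (hH₁ : H ⊓ Q₁ ≠ ⊥) (hH₂ : H ⊓ Q₂ ≠ ⊥) : KConj (KK A) Q₁ Q₂ := by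
  obtain ⟨hQ₁q, hAQ₁⟩ := (mem_invSubgroups_top h.hq).mp h₁.1
  obtain ⟨hQ₂q, hAQ₂⟩ := (mem_invSubgroups_top h.hq).mp h₂.1
  have hAHn : A ≤ Subgroup.normalizer (H : Set G) := hAH.trans Subgroup.le_normalizer
  obtain ⟨c, hcK, Q₃, hQ₃, hR₁, hR₂⟩ := h.transfer hH hAH
    (inf_le_left : H ⊓ Q₁ ≤ H) (inf_le_left : H ⊓ Q₂ ≤ H)
    (hQ₁q.to_le inf_le_right) (hQ₂q.to_le inf_le_right)
    (le_normalizer_inf hAHn hAQ₁) (le_normalizer_inf hAHn hAQ₂)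
  have hne13 : Q₁ ⊓ Q₃ ≠ ⊥ := by
    intro hb
    apply hH₁
    rw [eq_bot_iff, ← hb]
    exact le_inf inf_le_right hR₁
  have k₁ : KConj (KK A) Q₁ Q₃ := h.conj_of_inf_ne_bot _ Q₁ Q₃ h₁ hQ₃ rfl hne13
  have hcC : c ∈ Subgroup.centralizer (A : Set G) := KK_le_centralizer A hcK
  have h₂' : MulAut.conj c • Q₂ ∈ Cfsg.maxInvSubgroups ⊤ A {q} :=
    conj_smul_mem_maxInvSubgroups_top hcC h₂
  have hne23 : MulAut.conj c • Q₂ ⊓ Q₃ ≠ ⊥ := by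
    intro hb
    apply conj_smul_ne_bot (k := c) hH₂
    rw [eq_bot_iff, ← hb]
    exact le_inf (conj_smul_mono inf_le_right) hR₂
  have k₂ : KConj (KK A) (MulAut.conj c • Q₂) Q₃ := h.conj_of_inf_ne_bot _ _ Q₃ h₂' hQ₃ rfl hne23
  exact k₁.trans (k₂.symm.trans (KConj.of_mem hcK).symm)

end Cfsg.Agent.Helper1.BGT
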