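import Mathlib
import Cfsg.Agent.Helper1.BGTb
import Cfsg.Agent.Helper2.GenHyper

set_option autoImplicit false

/-!
Bender–Glauberman, Section 7, part 3: Theorems 7.3 and 7.4 (`S1393`, `S1394`).
-/

namespace Cfsg.Agent.Helper1.BGT

open Cfsg Cfsg.Agent.Helper1
open scoped Pointwise

universe u

variable {G : Type u} [Group G] [Finite G] {A : Subgroup G} {q : ℕ}

omit [Finite G] in
/-- An elementary abelian subgroup of `Z(A)` of order larger than `p ^ k`, from the failure of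
`RankLE k`. -/
theorem exists_elementary_of_not_rankLE {Z : Subgroup G} {k : ℕ} (hZ : ¬ Cfsg.RankLE k ↥Z) :
    ∃ (p : ℕ) (_ : p.Prime) (B : Subgroup G), B ≤ Z ∧ Cfsg.IsElementaryAbelian p B ∧
      p ^ k < Nat.card B := by
  classical
  unfold Cfsg.RankLE at hZ
  rw [not_forall] at hZ
  obtain ⟨p, hZ⟩ := hZ
  rw [Classical.not_imp] at hZ
  obtain ⟨hp, hZ⟩ := hZ
  unfold Cfsg.PRankLE at hZ
  rw [not_forall] at hZ
  obtain ⟨B', hZ⟩ := hZ
  rw [Classical.not_imp] at hZ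
  obtain ⟨hc, hZ⟩ := hZ
  rw [Classical.not_imp] at hZ
  obtain ⟨he, hcard⟩ := hZ
  refine ⟨p, hp, B'.map Z.subtype, Subgroup.map_subtype_le _, ⟨?_, ?_⟩, ?_⟩
  · haveI := hc
    infer_instance
  · rintro _ ⟨a, ha, rfl⟩
    have := he a ha
    rw [← map_pow, this, map_one]
  · rw [Subgroup.card_map_of_injective (Subgroup.subtype_injective Z)]
    exact not_le.mp hcard

/-- Some hyperplane of `B` has nontrivial fixed points on `Q`. -/
theorem Hyp.exists_hyperplane (h : Hyp A q) {p : ℕ} (hp : p.Prime) {B : Subgroup G} (hBA : B ≤ A)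
    (hB : Cfsg.IsElementaryAbelian p B) (hB1 : 1 < Nat.card B) {Q : Subgroup G}
    (hQ : Q ∈ Cfsg.maxInvSubgroups ⊤ A {q}) (hQ1 : Q ≠ ⊥) :
    ∃ Bs : Subgroup G, Bs ≤ B ∧ Bs.relIndex B ≤ p ∧
      Q ⊓ Subgroup.centralizer (Bs : Set G) ≠ ⊥ := by
  haveI : Fact p.Prime := ⟨hp⟩
  obtain ⟨hQq, hAQ⟩ := (mem_invSubgroups_top h.hq).mp hQ.1
  have hpB : p ∣ Nat.card B := by
    have hBp : IsPGroup p B := Cfsg.Agent.Helper2.isPGroup_of_elementary hB
    obtain ⟨n, hn⟩ := IsPGroup.iff_card.mp hBp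
    rw [hn] at hB1 ⊢
    rcases Nat.eq_zero_or_pos n with h0 | h0
    · rw [h0, pow_zero] at hB1; omega
    · exact dvd_pow_self p h0.ne'
  have hpA : p ∣ Nat.card A := hpB.trans (Subgroup.card_dvd_of_le hBA)
  have hpQ : ¬ p ∣ Nat.card Q := by
    intro hd
    have := pi_singleton_of_isPGroup h.hq hQq p hp hd
    rw [Set.mem_singleton_iff] at this
    rw [this] at hpA
    exact h.hqA hpA
  have hgen := Cfsg.Agent.Helper2.le_iSup_hyperplane_centralizers p (Nat.card B) B Q rfl hB hpQ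
    (hBA.trans hAQ)
  by_contra hcon
  apply hQ1
  rw [eq_bot_iff]
  refine hgen.trans (iSup_le ?_)
  rintro ⟨Bs, hBs1, hBs2⟩
  by_contra hne
  apply hcon
  refine ⟨Bs, hBs1, hBs2, ?_⟩
  intro hb
  apply hne
  rw [hb]

/-- Two maximal `A`-invariant `q`-subgroups each containing a nonidentity element commuting with a
fixed nonidentity element `b ∈ Z(A)` are conjugate under `K`. -/
theorem Hyp.conj_of_commute (h : Hyp A q) {b : G} (hbA : b ∈ A)
    (hbZ : b ∈ Subgroup.centralizer (A : Set G)) (hb1 : b ≠ 1) {Q₁ Q₂ : Subgroup G}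
    (h₁ : Q₁ ∈ Cfsg.maxInvSubgroups ⊤ A {q}) (h₂ : Q₂ ∈ Cfsg.maxInvSubgroups ⊤ A {q})
    (hx₁ : Q₁ ⊓ Subgroup.centralizer ({b} : Set G) ≠ ⊥)
    (hx₂ : Q₂ ⊓ Subgroup.centralizer ({b} : Set G) ≠ ⊥) : KConj (KK A) Q₁ Q₂ := by
  have hz1 : Subgroup.zpowers b ≠ ⊥ := by
    intro hb
    exact hb1 (Subgroup.zpowers_eq_bot.mp hb)
  have hzA : Subgroup.zpowers b ≤ A := Subgroup.zpowers_le.mpr hbA
  have hztop : Subgroup.zpowers b ≠ ⊤ := by
    intro ht
    exact h.trans.2.1 (top_le_iff.mp (ht ▸ hzA))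
  have hH := h.normalizer_ne_top hz1 hztop
  have hcn : Subgroup.centralizer ({b} : Set G) ≤
      Subgroup.normalizer ((Subgroup.zpowers b : Subgroup G) : Set G) := by
    intro x hx
    have hxb : b * x = x * b := Subgroup.mem_centralizer_iff.mp hx b (Set.mem_singleton b)
    have hxz : x ∈ Subgroup.centralizer ((Subgroup.zpowers b : Subgroup G) : Set G) := by
      rw [Subgroup.mem_centralizer_iff]
      intro y hy
      obtain ⟨n, rfl⟩ := Subgroup.mem_zpowers_iff.mp hy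
      exact ((Commute.zpow_left (show Commute b x from hxb) n)).eq
    exact Subgroup.centralizer_le_normalizer _ hxz
  have hAH : A ≤ Subgroup.normalizer ((Subgroup.zpowers b : Subgroup G) : Set G) := by
    intro a ha
    apply hcn
    rw [Subgroup.mem_centralizer_iff]
    intro y hy
    rw [Set.mem_singleton_iff] at hy
    rw [hy]
    exact (Subgroup.mem_centralizer_iff.mp hbZ a ha).symm
  refine h.thm72 h₁ h₂ hH hAH ?_ ?_
  · intro hb
    apply hx₁
    rw [eq_bot_iff, ← hb]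
    exact le_inf (inf_le_right.trans hcn) inf_le_left
  · intro hb
    apply hx₂
    rw [eq_bot_iff, ← hb]
    exact le_inf (inf_le_right.trans hcn) inf_le_left

omit [Finite G] in
/-- A nontrivial subgroup contains a nonidentity element. -/
theorem exists_ne_one_of_one_lt_card {B : Subgroup G} (h : 1 < Nat.card B) : ∃ b ∈ B, b ≠ 1 := by
  by_contra hcon
  have : B = ⊥ := by
    rw [eq_bot_iff]
    intro x hx
    rw [Subgroup.mem_bot]
    by_contra hx1
    exact hcon ⟨x, hx, hx1⟩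
  rw [this, Subgroup.card_bot] at h
  omega

omit [Finite G] in
theorem centralizer_le_centralizer_singleton {Bs : Subgroup G} {b : G} (hb : b ∈ Bs) :
    Subgroup.centralizer (Bs : Set G) ≤ Subgroup.centralizer ({b} : Set G) :=
  Subgroup.centralizer_le (Set.singleton_subset_iff.mpr hb)

/-- Theorem 7.3 (the Transitivity Theorem). -/
theorem Hyp.thm73 (h : Hyp A q)
    (hZ : ¬ Cfsg.RankLE 2 ↥(A ⊓ Subgroup.centralizer (A : Set G))) {Q₁ Q₂ : Subgroup G}
    (h₁ : Q₁ ∈ Cfsg.maxInvSubgroups ⊤ A {q}) (h₂ : Q₂ ∈ Cfsg.maxInvSubgroups ⊤ A {q}) :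
    KConj (KK A) Q₁ Q₂ := by
  by_cases hQ₁ : Q₁ = ⊥
  · have : Q₂ = Q₁ := h₁.2 Q₂ h₂.1 (hQ₁ ▸ bot_le)
    rw [this]; exact KConj.refl _ _
  by_cases hQ₂ : Q₂ = ⊥
  · have : Q₁ = Q₂ := h₂.2 Q₁ h₁.1 (hQ₂ ▸ bot_le)
    rw [this]; exact KConj.refl _ _
  obtain ⟨p, hp, B, hBZ, hB, hBcard⟩ := exists_elementary_of_not_rankLE hZ
  have hBA : B ≤ A := hBZ.trans inf_le_left
  have hB1 : 1 < Nat.card B := lt_of_le_of_lt (Nat.one_le_pow _ _ hp.pos) hBcard
  obtain ⟨B₁, hB₁B, hB₁i, hB₁Q⟩ := h.exists_hyperplane hp hBA hB hB1 h₁ hQ₁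
  obtain ⟨B₂, hB₂B, hB₂i, hB₂Q⟩ := h.exists_hyperplane hp hBA hB hB1 h₂ hQ₂
  -- `B₁ ∩ B₂ ≠ 1`
  have hinf : 1 < Nat.card ↥(B₁ ⊓ B₂) := by
    have h1 : (B₁ ⊓ B₂).relIndex B ≤ p * p :=
      (Subgroup.relIndex_inf_le).trans (Nat.mul_le_mul hB₁i hB₂i)
    have h2 : Nat.card B = Nat.card ↥(B₁ ⊓ B₂) * (B₁ ⊓ B₂).relIndex B :=
      (relIndex_mul_card_of_le (inf_le_left.trans hB₁B)).symm.trans (mul_comm _ _)
    by_contra hle
    have h3 : Nat.card ↥(B₁ ⊓ B₂) = 1 := by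
      have : 0 < Nat.card ↥(B₁ ⊓ B₂) := Nat.card_pos
      omega
    rw [h3, one_mul] at h2
    rw [h2, pow_two] at hBcard
    omega
  obtain ⟨b, hb, hb1⟩ := exists_ne_one_of_one_lt_card hinf
  have hbB : b ∈ B := hB₁B (Subgroup.mem_inf.mp hb).1
  refine h.conj_of_commute (hBA hbB) (hBZ hbB).2 hb1 h₁ h₂ ?_ ?_
  · intro hbot
    apply hB₁Q
    rw [eq_bot_iff, ← hbot]
    exact inf_le_inf_left _ (centralizer_le_centralizer_singleton (Subgroup.mem_inf.mp hb).1)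
  · intro hbot
    apply hB₂Q
    rw [eq_bot_iff, ← hbot]
    exact inf_le_inf_left _ (centralizer_le_centralizer_singleton (Subgroup.mem_inf.mp hb).2)

/-- Theorem 7.4. -/
theorem Hyp.thm74 (h : Hyp A q)
    (hZ : ¬ Cfsg.RankLE 1 ↥(A ⊓ Subgroup.centralizer (A : Set G)))
    (hqC : q ∣ Nat.card (Subgroup.centralizer (A : Set G))) {Q₁ Q₂ : Subgroup G}
    (h₁ : Q₁ ∈ Cfsg.maxInvSubgroups ⊤ A {q}) (h₂ : Q₂ ∈ Cfsg.maxInvSubgroups ⊤ A {q}) :
    KConj (KK A) Q₁ Q₂ := by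
  haveI : Fact q.Prime := ⟨h.hq⟩
  -- an element of order `q` centralizing `A`
  obtain ⟨x, hx⟩ := exists_prime_orderOf_dvd_card' q hqC
  have hxo : orderOf (x : G) = q := by rw [Subgroup.orderOf_coe]; exact hx
  have hxC : (x : G) ∈ Subgroup.centralizer (A : Set G) := x.2
  have hx1 : (x : G) ≠ 1 := by
    intro he
    rw [he, orderOf_one] at hxo
    exact h.hq.one_lt.ne hxo
  have hQ₀q : IsPGroup q (Subgroup.zpowers (x : G)) := by
    rw [IsPGroup.iff_card]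
    exact ⟨1, by rw [Nat.card_zpowers, hxo, pow_one]⟩
  have hAQ₀ : A ≤ Subgroup.normalizer ((Subgroup.zpowers (x : G) : Subgroup G) : Set G) := by
    intro a ha
    apply Subgroup.centralizer_le_normalizer
    rw [Subgroup.mem_centralizer_iff]
    intro y hy
    obtain ⟨n, rfl⟩ := Subgroup.mem_zpowers_iff.mp hy
    have hc : Commute (x : G) a := (Subgroup.mem_centralizer_iff.mp hxC a ha).symm
    exact (hc.zpow_left n).eq
  obtain ⟨Q₃, hQ₃, hQ₀Q₃⟩ := exists_max_ge ((mem_invSubgroups_top h.hq).mpr ⟨hQ₀q, hAQ₀⟩)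
  have hxQ₃ : (x : G) ∈ Q₃ := hQ₀Q₃ (Subgroup.mem_zpowers _)
  have hne : ∀ Q ∈ Cfsg.maxInvSubgroups ⊤ A {q}, Q ≠ ⊥ := by
    intro Q hQ hb
    have : Q₃ = Q := hQ.2 Q₃ hQ₃.1 (hb ▸ bot_le)
    rw [this, hb, Subgroup.mem_bot] at hxQ₃
    exact hx1 hxQ₃
  obtain ⟨p, hp, B, hBZ, hB, hBcard⟩ := exists_elementary_of_not_rankLE hZ
  rw [pow_one] at hBcard
  have hBA : B ≤ A := hBZ.trans inf_le_left
  have hB1 : 1 < Nat.card B := lt_trans hp.one_lt hBcard
  have key : ∀ Q ∈ Cfsg.maxInvSubgroups ⊤ A {q}, KConj (KK A) Q Q₃ := by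
    intro Q hQ
    obtain ⟨Bs, hBsB, hBsi, hBsQ⟩ := h.exists_hyperplane hp hBA hB hB1 hQ (hne Q hQ)
    have hBs1 : 1 < Nat.card Bs := by
      have h2 : Nat.card B = Nat.card Bs * Bs.relIndex B :=
        (relIndex_mul_card_of_le hBsB).symm.trans (mul_comm _ _)
      by_contra hle
      have h3 : Nat.card Bs = 1 := by
        have : 0 < Nat.card Bs := Nat.card_pos
        omega
      rw [h3, one_mul] at h2
      omega
    obtain ⟨b, hb, hb1⟩ := exists_ne_one_of_one_lt_card hBs1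
    have hbB : b ∈ B := hBsB hb
    refine h.conj_of_commute (hBA hbB) (hBZ hbB).2 hb1 hQ hQ₃ ?_ ?_
    · intro hbot
      apply hBsQ
      rw [eq_bot_iff, ← hbot]
      exact inf_le_inf_left _ (centralizer_le_centralizer_singleton hb)
    · intro hbot
      have hmem : (x : G) ∈ Q₃ ⊓ Subgroup.centralizer ({b} : Set G) := by
        refine Subgroup.mem_inf.mpr ⟨hxQ₃, ?_⟩
        rw [Subgroup.mem_centralizer_iff]
        intro y hy
        rw [Set.mem_singleton_iff] at hy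
        rw [hy]
        exact Subgroup.mem_centralizer_iff.mp hxC b (hBA hbB)
      rw [hbot, Subgroup.mem_bot] at hmem
      exact hx1 hmem
  exact (key Q₁ h₁).trans (key Q₂ h₂).symm

end Cfsg.Agent.Helper1.BGT
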