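import Mathlib
import Cfsg.Agent.Helper1.BGTc
import Cfsg.Agent.Helper1.Transfer3
import Cfsg.Agent.Lead.SylowLemmas

set_option autoImplicit false

/-!
Bender–Glauberman, Section 7, part 4: the normal step of Theorem 7.5 (`S1395`): if `A ⊴ A₁`,
`A₁` a proper `π(A)`-subgroup, then the hypotheses and conclusions pass from `A` to `A₁`.
-/

namespace Cfsg.Agent.Helper1.BGT

open Cfsg Cfsg.Agent.Helper1
open scoped Pointwise

universe u

variable {G : Type u} [Group G]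

theorem conj_smul_mem_invSubgroups_top_of_normalizer {A Y : Subgroup G} {π : Set ℕ} {k : G}
    (hk : k ∈ Subgroup.normalizer (A : Set G)) (hY : Y ∈ Cfsg.invSubgroups ⊤ A π) :
    MulAut.conj k • Y ∈ Cfsg.invSubgroups ⊤ A π := by
  obtain ⟨-, h1, h2⟩ := hY
  refine ⟨le_top, ?_, ?_⟩
  · intro p hp hd
    rw [card_conj_smul] at hd
    exact h1 p hp hd
  · intro a ha
    rw [Subgroup.mem_normalizer_iff]
    intro y
    rw [mem_conj_smul, mem_conj_smul]
    have ha' : k⁻¹ * a * k ∈ A := by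
      have := (Subgroup.mem_normalizer_iff.mp (Subgroup.inv_mem _ hk) a).mp ha
      simpa using this
    have e : k⁻¹ * (a * y * a⁻¹) * k = (k⁻¹ * a * k) * (k⁻¹ * y * k) * (k⁻¹ * a * k)⁻¹ := by
      group
    rw [e]
    exact Subgroup.mem_normalizer_iff.mp (h2 ha') _

theorem conj_smul_mem_maxInvSubgroups_top_of_normalizer {A Q : Subgroup G} {π : Set ℕ} {k : G}
    (hk : k ∈ Subgroup.normalizer (A : Set G)) (hQ : Q ∈ Cfsg.maxInvSubgroups ⊤ A π) :
    MulAut.conj k • Q ∈ Cfsg.maxInvSubgroups ⊤ A π := by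
  refine ⟨conj_smul_mem_invSubgroups_top_of_normalizer hk hQ.1, ?_⟩
  intro R hR hle
  have hk' : k⁻¹ ∈ Subgroup.normalizer (A : Set G) := Subgroup.inv_mem _ hk
  have hR' := conj_smul_mem_invSubgroups_top_of_normalizer hk' hR
  have hle' : Q ≤ MulAut.conj k⁻¹ • R := by
    intro x hx
    rw [mem_conj_smul]
    have := hle (conj_mem_conj_smul (g := k) hx)
    simpa using this
  have h1 := hQ.2 _ hR' hle'
  rw [← h1]
  ext x
  rw [mem_conj_smul, mem_conj_smul]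
  simp [mul_assoc]

/-- A normal step `A ⊴ A₁` inside a proper `π(A)`-subgroup. -/
structure NStep (A A₁ : Subgroup G) : Prop where
  le : A ≤ A₁
  ne_top : A₁ ≠ ⊤
  norm : A₁ ≤ Subgroup.normalizer (A : Set G)
  pi : ∀ r : ℕ, r.Prime → r ∣ Nat.card A₁ → r ∣ Nat.card A

variable {A A₁ : Subgroup G} {q : ℕ}

theorem primesNotDvd_card_eq [Finite G] {A A₁ : Subgroup G} (hle : A ≤ A₁)
    (hpi : ∀ r : ℕ, r.Prime → r ∣ Nat.card A₁ → r ∣ Nat.card A) :
    Cfsg.primesNotDvd (Nat.card A₁) = Cfsg.primesNotDvd (Nat.card A) := by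
  ext r
  constructor
  · rintro ⟨hr, hn⟩
    exact ⟨hr, fun hd => hn (hd.trans (Subgroup.card_dvd_of_le hle))⟩
  · rintro ⟨hr, hn⟩
    exact ⟨hr, fun hd => hn (hpi r hr hd)⟩

theorem NStep.primes_eq [Finite G] (s : NStep A A₁) :
    Cfsg.primesNotDvd (Nat.card A₁) = Cfsg.primesNotDvd (Nat.card A) :=
  primesNotDvd_card_eq s.le s.pi

variable [Finite G]

theorem Hyp.step (h : Hyp A q) (s : NStep A A₁) : Hyp A₁ q := by
  refine ⟨h.simple, h.solv, ⟨?_, s.ne_top, ?_⟩, h.hq, fun hd => h.hqA (s.pi q h.hq hd)⟩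
  · intro hb
    apply h.trans.1
    rw [eq_bot_iff, ← hb]
    exact s.le
  · intro X hX hA₁X
    rw [s.primes_eq]
    apply le_antisymm
    · apply sSup_le
      intro Y hY
      exact h.le_core hX (s.le.trans hA₁X) hY.1 hY.2.1 (s.le.trans hY.2.2)
    · apply le_sSup
      exact ⟨piCoreOf_le _ _, piCoreOf_isPi _ _, hA₁X.trans (le_normalizer_piCoreOf _ _)⟩

theorem Hyp.step_KK (h : Hyp A q) (s : NStep A A₁) :
    KK A ⊓ Subgroup.centralizer (A₁ : Set G) = KK A₁ := by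
  have hCC : Subgroup.centralizer (A₁ : Set G) ≤ Subgroup.centralizer (A : Set G) :=
    Subgroup.centralizer_le s.le
  apply le_antisymm
  · unfold KK
    rw [s.primes_eq]
    apply le_piCoreOf inf_le_right
    · apply le_normalizer_inf
      · exact hCC.trans (le_normalizer_piCoreOf _ _)
      · exact Subgroup.le_normalizer
    · intro p hp hd
      exact piCoreOf_isPi _ _ p hp (hd.trans (Subgroup.card_dvd_of_le inf_le_left))
  · apply le_inf _ (KK_le_centralizer A₁)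
    have h1 : KK A₁ ≤ Cfsg.piCoreOf (Cfsg.primesNotDvd (Nat.card A))
        (Subgroup.centralizer (A₁ : Set G)) ⊓ Subgroup.centralizer (A : Set G) := by
      unfold KK
      rw [s.primes_eq]
      exact le_inf le_rfl ((piCoreOf_le _ _).trans hCC)
    exact h1.trans (h.inf_centralizer_le_KK _)

theorem NStep.le_normalizer_KK (s : NStep A A₁) :
    A₁ ≤ Subgroup.normalizer ((KK A : Subgroup G) : Set G) :=
  s.norm.trans ((Cfsg.Agent.Helper1.normalizer_le_normalizer_centralizer A).trans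
    (normalizer_le_normalizer_piCoreOf _ _))

theorem NStep.coprime (s : NStep A A₁) (X : Subgroup G) :
    (Nat.card A₁).Coprime (Nat.card (Cfsg.piCoreOf (Cfsg.primesNotDvd (Nat.card A)) X)) := by
  have := coprime_card_piCoreOf A₁ X
  rw [s.primes_eq] at this
  exact this

omit [Finite G] in
theorem bot_mem_invSubgroups_top (A : Subgroup G) (π : Set ℕ) :
    (⊥ : Subgroup G) ∈ Cfsg.invSubgroups ⊤ A π := by
  refine ⟨le_top, ?_, ?_⟩
  · intro p hp hd
    rw [Subgroup.card_bot] at hd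
    exact absurd (Nat.dvd_one.mp hd) hp.ne_one
  · intro a _
    rw [Subgroup.mem_normalizer_iff]
    intro x
    simp only [Subgroup.mem_bot]
    constructor
    · rintro rfl; group
    · intro hx
      have : x = a⁻¹ * (a * x * a⁻¹) * a := by group
      rw [this, hx]; group

/-- There is an `A₁`-invariant member of `И*(A; q)`. -/
theorem Hyp.step_exists (h : Hyp A q) (s : NStep A A₁)
    (htr : ∀ Q₁ ∈ Cfsg.maxInvSubgroups ⊤ A {q}, ∀ Q₂ ∈ Cfsg.maxInvSubgroups ⊤ A {q},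
      KConj (KK A) Q₁ Q₂) :
    ∃ Q ∈ Cfsg.maxInvSubgroups ⊤ A {q}, A₁ ≤ Subgroup.normalizer (Q : Set G) := by
  obtain ⟨P₀, hP₀, -⟩ := exists_max_ge (bot_mem_invSubgroups_top A {q})
  have hsolv : Group.IsSolvable A₁ ∨ Group.IsSolvable (KK A) := Or.inl (h.solv A₁ s.ne_top)
  obtain ⟨k, hk, hfix⟩ := glauberman_exists_subgroup A₁ (KK A) s.le_normalizer_KK
    (s.coprime _) hsolv P₀ (by
      intro a ha
      obtain ⟨k, hk, e⟩ := htr P₀ hP₀ _
        (conj_smul_mem_maxInvSubgroups_top_of_normalizer (s.norm ha) hP₀)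
      exact ⟨k, hk, e⟩)
  refine ⟨MulAut.conj k • P₀,
    conj_smul_mem_maxInvSubgroups_top (KK_le_centralizer A hk) hP₀, ?_⟩
  intro a ha
  exact mem_normalizer_of_conj_smul_eq (hfix a ha)

/-- `A₁`-invariant members of `И*(A; q)` are conjugate under `O_{π'}(C(A₁))`. -/
theorem Hyp.step_conj (h : Hyp A q) (s : NStep A A₁)
    (htr : ∀ Q₁ ∈ Cfsg.maxInvSubgroups ⊤ A {q}, ∀ Q₂ ∈ Cfsg.maxInvSubgroups ⊤ A {q},
      KConj (KK A) Q₁ Q₂) {Q₁ Q₂ : Subgroup G}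
    (h₁ : Q₁ ∈ Cfsg.maxInvSubgroups ⊤ A {q}) (h₂ : Q₂ ∈ Cfsg.maxInvSubgroups ⊤ A {q})
    (hn₁ : A₁ ≤ Subgroup.normalizer (Q₁ : Set G)) (hn₂ : A₁ ≤ Subgroup.normalizer (Q₂ : Set G)) :
    KConj (KK A₁) Q₁ Q₂ := by
  obtain ⟨k, hk, e⟩ := htr Q₁ h₁ Q₂ h₂
  have hsolv : Group.IsSolvable A₁ ∨ Group.IsSolvable (KK A) := Or.inl (h.solv A₁ s.ne_top)
  obtain ⟨c, hc, hc'⟩ := glauberman_conj_subgroup A₁ (KK A) s.le_normalizer_KK
    (s.coprime _) hsolv Q₁ Q₂ (fun a ha => conj_smul_eq_of_mem_normalizer (hn₁ ha))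
    (fun a ha => conj_smul_eq_of_mem_normalizer (hn₂ ha)) k hk e.symm
  rw [h.step_KK s] at hc
  exact ⟨c, hc, hc'.symm⟩

theorem Hyp.dvd_card_of_isPGroup_top (h : Hyp A q) (hG : IsPGroup q (⊤ : Subgroup G)) : False := by
  haveI := Fact.mk h.hq
  have hA : IsPGroup q A := hG.to_le le_top
  obtain ⟨n, hn⟩ := IsPGroup.iff_card.mp hA
  rcases Nat.eq_zero_or_pos n with h0 | h0
  · rw [h0, pow_zero] at hn
    exact h.trans.1 (Subgroup.card_eq_one.mp hn)
  · apply h.hqA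
    rw [hn]
    exact dvd_pow_self q h0.ne'

/-- `И*(A₁; q) ⊆ И*(A; q)`. -/
theorem Hyp.step_sub (h : Hyp A q) (s : NStep A A₁)
    (htr : ∀ Q₁ ∈ Cfsg.maxInvSubgroups ⊤ A {q}, ∀ Q₂ ∈ Cfsg.maxInvSubgroups ⊤ A {q},
      KConj (KK A) Q₁ Q₂) :
    Cfsg.maxInvSubgroups ⊤ A₁ {q} ⊆ Cfsg.maxInvSubgroups ⊤ A {q} := by
  haveI := Fact.mk h.hq
  intro Q hQ
  obtain ⟨hQq, hA₁Q⟩ := (mem_invSubgroups_top h.hq).mp hQ.1
  have hQinvA : Q ∈ Cfsg.invSubgroups ⊤ A {q} :=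
    (mem_invSubgroups_top h.hq).mpr ⟨hQq, s.le.trans hA₁Q⟩
  obtain ⟨Qs, hQs, hle⟩ := exists_max_ge hQinvA
  obtain ⟨hQsq, hAQs⟩ := (mem_invSubgroups_top h.hq).mp hQs.1
  by_cases hbot : Q = ⊥
  · obtain ⟨R, hR, hA₁R⟩ := h.step_exists s htr
    obtain ⟨hRq, -⟩ := (mem_invSubgroups_top h.hq).mp hR.1
    have hR' : R ∈ Cfsg.invSubgroups ⊤ A₁ {q} := (mem_invSubgroups_top h.hq).mpr ⟨hRq, hA₁R⟩
    have := hQ.2 R hR' (hbot ▸ bot_le)
    rw [← this]; exact hR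
  · have hQtop : Q ≠ ⊤ := by
      intro ht
      exact h.dvd_card_of_isPGroup_top (ht ▸ hQq)
    have hNtop := h.normalizer_ne_top hbot hQtop
    set N := Subgroup.normalizer (Q : Set G) with hN
    set O := Cfsg.piCoreOf (Cfsg.primesNotDvd (Nat.card A)) N with hO
    have hQO : Q ≤ O := le_piCoreOf Subgroup.le_normalizer le_rfl (pi'_of_isPGroup h.hq hQq h.hqA)
    have hA₁O : A₁ ≤ Subgroup.normalizer (O : Set G) := hA₁Q.trans (le_normalizer_piCoreOf _ N)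
    have hsolv : Group.IsSolvable A₁ ∨ Group.IsSolvable O := Or.inl (h.solv A₁ s.ne_top)
    obtain ⟨S, hQS, hA₁S⟩ := exists_invariant_sylow_ge (p := q) A₁ O hA₁O (s.coprime N) hsolv
      Q hQO hQq hA₁Q
    have hSinv : (S : Subgroup O).map O.subtype ∈ Cfsg.invSubgroups ⊤ A₁ {q} :=
      (mem_invSubgroups_top h.hq).mpr ⟨S.2.map _, hA₁S⟩
    have hSQ : (S : Subgroup O).map O.subtype = Q := hQ.2 _ hSinv hQS
    have hcardQ : Nat.card Q = q ^ (Nat.card O).factorization q := by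
      rw [← hSQ, card_map_subtype, S.card_eq_multiplicity]
    by_cases hne : Q = Qs
    · rw [hne]; exact hQs
    · exfalso
      have h1 : Nat.card Q < Nat.card (Qs ⊓ N : Subgroup G) :=
        Cfsg.Agent.Lead.Alp.card_lt_inf_normalizer hQsq hle hne
      have hAN : A ≤ N := s.le.trans hA₁Q
      have h2 : Qs ⊓ N ≤ O :=
        h.le_core hNtop hAN inf_le_right (pi'_of_isPGroup h.hq (hQsq.to_le inf_le_left) h.hqA)
          (le_normalizer_inf hAQs (hAN.trans Subgroup.le_normalizer))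
      have h3 := Cfsg.Agent.Lead.card_le_ppart_of_isPGroup (p := q) (hQsq.to_le inf_le_left) h2
      rw [← hcardQ] at h3
      omega

/-- Transitivity passes from `A` to `A₁`. -/
theorem Hyp.step_trans (h : Hyp A q) (s : NStep A A₁)
    (htr : ∀ Q₁ ∈ Cfsg.maxInvSubgroups ⊤ A {q}, ∀ Q₂ ∈ Cfsg.maxInvSubgroups ⊤ A {q},
      KConj (KK A) Q₁ Q₂) :
    ∀ Q₁ ∈ Cfsg.maxInvSubgroups ⊤ A₁ {q}, ∀ Q₂ ∈ Cfsg.maxInvSubgroups ⊤ A₁ {q},
      KConj (KK A₁) Q₁ Q₂ := by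
  intro Q₁ h₁ Q₂ h₂
  exact h.step_conj s htr (h.step_sub s htr h₁) (h.step_sub s htr h₂)
    ((mem_invSubgroups_top h.hq).mp h₁.1).2 ((mem_invSubgroups_top h.hq).mp h₂.1).2

end Cfsg.Agent.Helper1.BGT
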