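import Mathlib
import Cfsg.Agent.Helper1.Basic
import Cfsg.Agent.Helper1.Coprime
import Cfsg.Agent.Helper1.SubnormalComm
import Cfsg.Agent.Helper1.PQLemma

set_option autoImplicit false

namespace Cfsg.Agent.Helper1

open scoped commutatorElement Pointwise

universe u

variable {G : Type u} [Group G]

/-- If `G = KU` with `K` normal, then `G' ≤ K U'`. -/
theorem commutator_le_sup_commutator {K U : Subgroup G} [hKn : K.Normal] (hKU : K ⊔ U = ⊤) :
    commutator G ≤ K ⊔ ⁅U, U⁆ := by
  set T := K ⊔ ⁅U, U⁆ with hT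
  have hUK : U ≤ Subgroup.normalizer (K : Set G) := by
    rw [Subgroup.normalizer_eq_top]; exact le_top
  have hTn : T.Normal := by
    rw [← Subgroup.normalizer_eq_top_iff, eq_top_iff, ← hKU]
    apply sup_le
    · exact le_sup_left.trans Subgroup.le_normalizer
    · intro u hu
      exact mem_normalizer_sup (hUK hu)
        (le_normalizer_commutator Subgroup.le_normalizer Subgroup.le_normalizer hu)
  rw [commutator_def, Subgroup.commutator_le]
  intro g₁ _ g₂ _
  have hrep : ∀ g : G, ∃ u ∈ U, (QuotientGroup.mk' T) g = (QuotientGroup.mk' T) u := by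
    intro g
    have hg : g ∈ K ⊔ U := by rw [hKU]; trivial
    obtain ⟨k, hk, u, hu, rfl⟩ := mem_sup_of_le_normalizer hUK hg
    refine ⟨u, hu, ?_⟩
    rw [map_mul]
    have : (QuotientGroup.mk' T) k = 1 := by
      rw [QuotientGroup.mk'_apply, QuotientGroup.eq_one_iff]
      exact (le_sup_left : K ≤ T) hk
    rw [this, one_mul]
  obtain ⟨u₁, hu₁, e₁⟩ := hrep g₁
  obtain ⟨u₂, hu₂, e₂⟩ := hrep g₂
  have : (QuotientGroup.mk' T) ⁅g₁, g₂⁆ = 1 := by
    rw [map_commutatorElement, e₁, e₂, ← map_commutatorElement, QuotientGroup.mk'_apply,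
      QuotientGroup.eq_one_iff]
    exact (le_sup_right : ⁅U, U⁆ ≤ T) (Subgroup.commutator_mem_commutator hu₁ hu₂)
  rwa [QuotientGroup.mk'_apply, QuotientGroup.eq_one_iff] at this

/-- `G = KU`, `K` normal, `H ≤ U` of order prime to `|K|`; if `gHg⁻¹ ≤ U` then `g ∈ U C_K(H)`. -/
theorem exists_mul_of_conj_le [Finite G] [Group.IsSolvable G] (K U H : Subgroup G) [hKn : K.Normal]
    (hKU : K ⊔ U = ⊤) (hH : H ≤ U) (hcop : (Nat.card H).Coprime (Nat.card K)) (g : G)
    (hg : H.map (MulAut.conj g).toMonoidHom ≤ U) :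
    ∃ u ∈ U, ∃ c ∈ K ⊓ Subgroup.centralizer (H : Set G), g = u * c := by
  have hUK : U ≤ Subgroup.normalizer (K : Set G) := by
    rw [Subgroup.normalizer_eq_top]; exact le_top
  have hginv : g⁻¹ ∈ K ⊔ U := by rw [hKU]; trivial
  obtain ⟨k', hk', u', hu', hgk⟩ := mem_sup_of_le_normalizer hUK hginv
  set u := u'⁻¹ with hu
  set k := k'⁻¹ with hk
  have hgu : g = u * k := by
    have : g = (g⁻¹)⁻¹ := by group
    rw [this, hgk, mul_inv_rev]
  have huU : u ∈ U := U.inv_mem hu'
  have hkK : k ∈ K := K.inv_mem hk'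
  -- `k H k⁻¹ ≤ U`
  have hkH : ∀ h ∈ H, k * h * k⁻¹ ∈ U := by
    intro h hh
    have h1 : g * h * g⁻¹ ∈ U := hg ⟨h, hh, rfl⟩
    have h2 : k * h * k⁻¹ = u⁻¹ * (g * h * g⁻¹) * u := by rw [hgu]; group
    rw [h2]
    exact U.mul_mem (U.mul_mem (U.inv_mem huU) h1) huU
  set D := K ⊓ U with hD
  have hHD : H ≤ Subgroup.normalizer (D : Set G) := by
    apply le_normalizer_inf
    · exact hH.trans hUK
    · exact hH.trans Subgroup.le_normalizer
  set H₁ := MulAut.conj k • H with hH₁
  have hH₁le : H₁ ≤ D ⊔ H := by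
    intro x hx
    rw [hH₁, mem_conj_smul] at hx
    set h := k⁻¹ * x * k with hh
    have hx' : x = k * h * k⁻¹ := by rw [hh]; group
    have hxU : x ∈ U := by rw [hx']; exact hkH h hx
    have e : x = (x * h⁻¹) * h := by group
    rw [e]
    refine Subgroup.mul_mem _ ((le_sup_left : D ≤ D ⊔ H) ?_) ((le_sup_right : H ≤ D ⊔ H) hx)
    refine Subgroup.mem_inf.2 ⟨?_, U.mul_mem hxU (U.inv_mem (hH hx))⟩
    have e2 : x * h⁻¹ = k * (h * k⁻¹ * h⁻¹) := by rw [hx']; group
    rw [e2]
    exact K.mul_mem hkK (hKn.conj_mem _ (K.inv_mem hkK) h)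
  have hcard : Nat.card H₁ = Nat.card H := card_conj_smul k H
  have hcopD : (Nat.card D).Coprime (Nat.card H) :=
    Nat.Coprime.coprime_dvd_left (Subgroup.card_dvd_of_le inf_le_left) hcop.symm
  have hsolvD : Group.IsSolvable D := inferInstance
  obtain ⟨n, hn, hnH⟩ := sz_conj_internal D H H₁ hHD hH₁le hcard hcopD (Or.inl hsolvD)
  set c := n⁻¹ * k with hc
  have hcK : c ∈ K := K.mul_mem (K.inv_mem (Subgroup.mem_inf.1 hn).1) hkK
  have hcN : c ∈ Subgroup.normalizer (H : Set G) := by
    apply mem_normalizer_of_conj_smul_eq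
    rw [hc, map_mul, mul_smul, ← hH₁, ← hnH, ← mul_smul, ← map_mul, inv_mul_cancel, map_one,
      one_smul]
  have hdisj : K ⊓ H = ⊥ := inf_eq_bot_of_coprime_card hcop.symm
  have hcC : c ∈ Subgroup.centralizer (H : Set G) :=
    inf_normalizer_le_centralizer (hH.trans hUK) hdisj (Subgroup.mem_inf.2 ⟨hcK, hcN⟩)
  refine ⟨u * n, U.mul_mem huU (Subgroup.mem_inf.1 hn).2, c, Subgroup.mem_inf.2 ⟨hcK, hcC⟩, ?_⟩
  rw [hgu, hc]; group

theorem coprime_supplement_facts [Finite G] [Group.IsSolvable G] (K U H : Subgroup G) [hKn : K.Normal] (hKU : K ⊔ U = ⊤) (hH : H ≤ U) (hcop : (Nat.card H).Coprime (Nat.card K)) :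
    H ⊓ commutator G = H ⊓ ⁅U, U⁆ ∧
      Subgroup.normalizer (H : Set G) = (K ⊓ Subgroup.centralizer (H : Set G)) ⊔ (U ⊓ Subgroup.normalizer (H : Set G)) ∧
      ∀ g : G, H.map (MulAut.conj g).toMonoidHom ≤ U → ∃ u ∈ U, ∃ c ∈ K ⊓ Subgroup.centralizer (H : Set G), g = u * c := by
  have hUK : U ≤ Subgroup.normalizer (K : Set G) := by
    rw [Subgroup.normalizer_eq_top]; exact le_top
  refine ⟨?_, ?_, exists_mul_of_conj_le K U H hKU hH hcop⟩
  · apply le_antisymm
    · intro x hx
      obtain ⟨hxH, hxc⟩ := Subgroup.mem_inf.1 hx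
      refine Subgroup.mem_inf.2 ⟨hxH, ?_⟩
      have hxT := commutator_le_sup_commutator hKU hxc
      have hU'K : ⁅U, U⁆ ≤ Subgroup.normalizer (K : Set G) := by
        rw [Subgroup.normalizer_eq_top]; exact le_top
      obtain ⟨k, hk, u', hu', hxku⟩ := mem_sup_of_le_normalizer hU'K hxT
      have hU'U : ⁅U, U⁆ ≤ U := by
        rw [Subgroup.commutator_le]
        intro a ha b hb
        exact U.mul_mem (U.mul_mem (U.mul_mem ha hb) (U.inv_mem ha)) (U.inv_mem hb)
      have hxU : x ∈ U := hH hxH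
      have hkU : k ∈ U := by
        have : k = x * u'⁻¹ := by rw [hxku]; group
        rw [this]; exact U.mul_mem hxU (U.inv_mem (hU'U hu'))
      have hu'c : (⟨u', hU'U hu'⟩ : U) ∈ _root_.commutator U := by
        have h0 : u' ∈ (_root_.commutator U).map U.subtype := by
          rw [Subgroup.map_subtype_commutator]; exact hu'
        obtain ⟨y, hy, hyu⟩ := h0
        have : y = ⟨u', hU'U hu'⟩ := Subtype.ext hyu
        rw [← this]; exact hy
      have hof : Abelianization.of (⟨x, hxU⟩ : U) = Abelianization.of (⟨k, hkU⟩ : U) := by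
        have e : (⟨x, hxU⟩ : U) = ⟨k, hkU⟩ * ⟨u', hU'U hu'⟩ := Subtype.ext hxku
        rw [e, map_mul]
        have : Abelianization.of (⟨u', hU'U hu'⟩ : U) = 1 := by
          rw [← MonoidHom.mem_ker, Abelianization.ker_of]; exact hu'c
        rw [this, mul_one]
      have hkpow : k ^ Nat.card K = 1 := by
        have h0 : (⟨k, hk⟩ : K) ^ Nat.card K = 1 := pow_card_eq_one'
        have h1 := congrArg Subtype.val h0
        rw [Subgroup.coe_pow, Subgroup.coe_one] at h1
        exact h1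
      have hxpow : (⟨x, hxU⟩ : U) ^ Nat.card K ∈ _root_.commutator U := by
        rw [← Abelianization.ker_of, MonoidHom.mem_ker, map_pow, hof, ← map_pow]
        have : (⟨k, hkU⟩ : U) ^ Nat.card K = 1 := by
          apply Subtype.ext
          rw [Subgroup.coe_pow, Subgroup.coe_one]; exact hkpow
        rw [this, map_one]
      have hxpow' : x ^ Nat.card K ∈ ⁅U, U⁆ := by
        rw [← Subgroup.map_subtype_commutator]
        exact ⟨_, hxpow, by simp⟩
      have hord : (orderOf x).Coprime (Nat.card K) := by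
        apply Nat.Coprime.coprime_dvd_left _ hcop
        have := orderOf_dvd_natCard (⟨x, hxH⟩ : H)
        rwa [Subgroup.orderOf_mk] at this
      obtain ⟨m, hm⟩ := exists_pow_eq_self_of_coprime hord.symm
      rw [← hm]
      exact Subgroup.pow_mem _ hxpow' m
    · apply inf_le_inf_left
      rw [commutator_def]
      exact Subgroup.commutator_mono le_top le_top
  · apply le_antisymm
    · intro g hg
      have hgH : H.map (MulAut.conj g).toMonoidHom ≤ U := by
        rw [← conj_smul_eq_map, conj_smul_eq_of_mem_normalizer hg]; exact hH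
      obtain ⟨u, hu, c, hc, rfl⟩ := exists_mul_of_conj_le K U H hKU hH hcop g hgH
      have hcN : c ∈ Subgroup.normalizer (H : Set G) :=
        Subgroup.centralizer_le_normalizer _ (Subgroup.mem_inf.1 hc).2
      have huN : u ∈ Subgroup.normalizer (H : Set G) := by
        have : u = (u * c) * c⁻¹ := by group
        rw [this]
        exact Subgroup.mul_mem _ hg (Subgroup.inv_mem _ hcN)
      exact Subgroup.mul_mem _ ((le_sup_right : _ ≤ (K ⊓ Subgroup.centralizer (H : Set G)) ⊔ _)
        (Subgroup.mem_inf.2 ⟨hu, huN⟩)) ((le_sup_left : _ ≤ _ ⊔ (U ⊓ Subgroup.normalizer (H : Set G))) hc)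
    · apply sup_le
      · exact inf_le_right.trans (Subgroup.centralizer_le_normalizer _)
      · exact inf_le_right

end Cfsg.Agent.Helper1
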