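import Mathlib
import Cfsg.Agent.Helper1.BGTd
import Cfsg.Agent.Helper1.CoprimeSupp

set_option autoImplicit false

/-!
Bender–Glauberman, Section 7, part 5: Theorem 7.5 (`S1395`): the subnormal induction and the
statements about `N(P)`.
-/

namespace Cfsg.Agent.Helper1.BGT

open Cfsg Cfsg.Agent.Helper1
open scoped Pointwise

universe u

variable {G : Type u} [Group G]

/-- If `N = K M` with `K ⊴ N`, then `N' ≤ K M'`. -/
theorem commutator_le_sup_commutator_of_le_normalizer {N K M : Subgroup G} (hK : K ≤ N)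
    (hM : M ≤ N) (hNK : N ≤ Subgroup.normalizer (K : Set G)) (hsup : N ≤ K ⊔ M) :
    ⁅N, N⁆ ≤ K ⊔ ⁅M, M⁆ := by
  haveI : (K.subgroupOf N).Normal := (Subgroup.normal_subgroupOf_iff_le_normalizer hK).2 hNK
  have hKU : K.subgroupOf N ⊔ M.subgroupOf N = ⊤ := by
    rw [← Subgroup.subgroupOf_sup hK hM, Subgroup.subgroupOf_eq_top]
    exact hsup
  have h1 := Cfsg.Agent.Helper1.commutator_le_sup_commutator hKU
  have h2 := Subgroup.map_mono (f := N.subtype) h1
  rw [Subgroup.map_sup, Subgroup.map_commutator, Subgroup.map_subgroupOf_eq_of_le hK,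
    Subgroup.map_subgroupOf_eq_of_le hM, commutator_def, Subgroup.map_commutator,
    ← MonoidHom.range_eq_map, Subgroup.range_subtype] at h2
  exact h2

/-- If `x = k m` with `m ∈ L`, `k` normalizing `L`, and `x`, `k` of coprime orders, then
`x ∈ L`. -/
theorem mem_of_eq_mul_of_coprime {L : Subgroup G} {k m x : G}
    (hk : k ∈ Subgroup.normalizer (L : Set G)) (hm : m ∈ L) (hx : x = k * m) {a b : ℕ}
    (hab : a.Coprime b) (hxa : x ^ a = 1) (hkb : k ^ b = 1) : x ∈ L := by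
  have key : ∀ n : ℕ, (k ^ n)⁻¹ * x ^ n ∈ L := by
    intro n
    induction n with
    | zero => simp
    | succ n ih =>
      have h1 : k⁻¹ * ((k ^ n)⁻¹ * x ^ n) * k⁻¹⁻¹ ∈ L :=
        (Subgroup.mem_normalizer_iff.mp (Subgroup.inv_mem _ hk) _).mp ih
      have e : (k ^ (n + 1))⁻¹ * x ^ (n + 1) = (k⁻¹ * ((k ^ n)⁻¹ * x ^ n) * k⁻¹⁻¹) * m := by
        rw [pow_succ, pow_succ, hx]
        group
      rw [e]
      exact L.mul_mem h1 hm
  have hxb : x ^ b ∈ L := by
    have := key b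
    rwa [hkb, inv_one, one_mul] at this
  have hord : orderOf x ∣ a := orderOf_dvd_of_pow_eq_one hxa
  have hcop : b.Coprime (orderOf x) := (hab.coprime_dvd_left hord).symm
  obtain ⟨n, hn⟩ := exists_pow_eq_self_of_coprime hcop
  rw [← hn]
  exact L.pow_mem hxb n

variable [Finite G] {A : Subgroup G} {q : ℕ}

/-- Theorem 7.5, parts on `N(P)`. -/
theorem Hyp.normalizer_parts {P : Subgroup G} (h : Hyp P q)
    (htr : ∀ Q₁ ∈ Cfsg.maxInvSubgroups ⊤ P {q}, ∀ Q₂ ∈ Cfsg.maxInvSubgroups ⊤ P {q},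
      KConj (KK P) Q₁ Q₂) {Q : Subgroup G} (hQ : Q ∈ Cfsg.maxInvSubgroups ⊤ P {q}) :
    P ⊓ ⁅Subgroup.normalizer (P : Set G), Subgroup.normalizer (P : Set G)⁆ ≤
        ⁅Subgroup.normalizer (Q : Set G), Subgroup.normalizer (Q : Set G)⁆ ∧
      Subgroup.normalizer (P : Set G) =
        KK P ⊔ (Subgroup.normalizer (P : Set G) ⊓ Subgroup.normalizer (Q : Set G)) := by
  set N := Subgroup.normalizer (P : Set G) with hN
  set M := N ⊓ Subgroup.normalizer (Q : Set G) with hM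
  have hKN : KK P ≤ N := (KK_le_centralizer P).trans (Subgroup.centralizer_le_normalizer _)
  have hNK : N ≤ Subgroup.normalizer ((KK P : Subgroup G) : Set G) :=
    (Cfsg.Agent.Helper1.normalizer_le_normalizer_centralizer P).trans
      (normalizer_le_normalizer_piCoreOf _ _)
  have hPQ : P ≤ Subgroup.normalizer (Q : Set G) := ((mem_invSubgroups_top h.hq).mp hQ.1).2
  have hPM : P ≤ M := le_inf Subgroup.le_normalizer hPQ
  have hsup : N ≤ KK P ⊔ M := by
    intro g hg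
    have hgQ := conj_smul_mem_maxInvSubgroups_top_of_normalizer hg hQ
    obtain ⟨c, hc, e⟩ := htr Q hQ _ hgQ
    have hcg : c⁻¹ * g ∈ M := by
      refine Subgroup.mem_inf.mpr ⟨N.mul_mem (N.inv_mem (hKN hc)) hg, ?_⟩
      apply mem_normalizer_of_conj_smul_eq
      rw [← conj_smul_smul, e, conj_smul_smul, inv_mul_cancel, map_one, one_smul]
    have : g = c * (c⁻¹ * g) := by group
    rw [this]
    exact Subgroup.mul_mem_sup hc hcg
  have heq : N = KK P ⊔ M := le_antisymm hsup (sup_le hKN inf_le_left)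
  refine ⟨?_, heq⟩
  have hcomm : ⁅N, N⁆ ≤ KK P ⊔ ⁅M, M⁆ :=
    commutator_le_sup_commutator_of_le_normalizer hKN inf_le_left hNK hsup
  have hMM : M ≤ Subgroup.normalizer ((⁅M, M⁆ : Subgroup G) : Set G) :=
    le_normalizer_commutator Subgroup.le_normalizer Subgroup.le_normalizer
  have hMMle : ⁅M, M⁆ ≤ M := Subgroup.commutator_le_self M
  intro x hx
  obtain ⟨hxP, hxN⟩ := Subgroup.mem_inf.mp hx
  have hx' := hcomm hxN
  obtain ⟨k, hk, m, hm, e⟩ := mem_sup_of_le_normalizer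
    (hMMle.trans ((inf_le_left : M ≤ N).trans hNK)) hx'
  have hkM : k ∈ M := by
    have : k = x * m⁻¹ := by rw [e]; group
    rw [this]
    exact M.mul_mem (hPM hxP) (M.inv_mem (hMMle hm))
  have hxM : x ∈ ⁅M, M⁆ := by
    apply mem_of_eq_mul_of_coprime (hMM hkM) hm e (coprime_card_piCoreOf P (Subgroup.centralizer (P : Set G)))
    · have := pow_card_eq_one' (G := P) (x := ⟨x, hxP⟩)
      exact congrArg Subtype.val this
    · have := pow_card_eq_one' (G := KK P) (x := ⟨k, hk⟩)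
      exact congrArg Subtype.val this
  exact Subgroup.commutator_mono inf_le_right inf_le_right hxM

/-- Theorem 7.5: the subnormal induction. -/
theorem Hyp.subnormal_aux {P : Subgroup G} (hP : P ≠ ⊤) (H : Subgroup P) (hH : H.IsSubnormal) :
    ∀ A : Subgroup G, A ≤ P → A.subgroupOf P = H → Hyp A q →
      (∀ r : ℕ, r.Prime → r ∣ Nat.card P → r ∣ Nat.card A) →
      (∀ Q₁ ∈ Cfsg.maxInvSubgroups ⊤ A {q}, ∀ Q₂ ∈ Cfsg.maxInvSubgroups ⊤ A {q},
        KConj (KK A) Q₁ Q₂) →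
      Hyp P q ∧ KK A ⊓ Subgroup.centralizer (P : Set G) = KK P ∧
        (∀ Q₁ ∈ Cfsg.maxInvSubgroups ⊤ P {q}, ∀ Q₂ ∈ Cfsg.maxInvSubgroups ⊤ P {q},
          KConj (KK P) Q₁ Q₂) ∧
        Cfsg.maxInvSubgroups ⊤ P {q} ⊆ Cfsg.maxInvSubgroups ⊤ A {q} := by
  induction hH with
  | top =>
    intro A hAP he h hπ htr
    have hPA : P ≤ A := Subgroup.subgroupOf_eq_top.mp he
    have : A = P := le_antisymm hAP hPA
    subst this
    exact ⟨h, inf_eq_left.mpr (KK_le_centralizer A), htr, subset_rfl⟩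
  | step H K h_le hSubn hN ih =>
    intro A hAP he h hπ htr
    set A₁ := K.map P.subtype with hA₁
    have hA₁P : A₁ ≤ P := Subgroup.map_subtype_le K
    have hAA₁ : A ≤ A₁ := by
      intro a ha
      refine ⟨⟨a, hAP ha⟩, h_le ?_, rfl⟩
      rw [← he]
      exact Subgroup.mem_subgroupOf.mpr ha
    have hnorm : A₁ ≤ Subgroup.normalizer (A : Set G) := by
      rintro _ ⟨k, hk, rfl⟩
      apply Subgroup.mem_normalizer_fintype
      intro a ha
      have haH : (⟨a, hAP ha⟩ : P) ∈ H := by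
        rw [← he]; exact Subgroup.mem_subgroupOf.mpr ha
      have h1 := hN.conj_mem ⟨⟨a, hAP ha⟩, h_le haH⟩ (Subgroup.mem_subgroupOf.mpr haH) ⟨k, hk⟩
      have h2 : (k * ⟨a, hAP ha⟩ * k⁻¹ : P) ∈ H := Subgroup.mem_subgroupOf.mp h1
      rw [← he] at h2
      exact Subgroup.mem_subgroupOf.mp h2
    have s : NStep A A₁ :=
      ⟨hAA₁, fun ht => hP (top_le_iff.mp (ht ▸ hA₁P)), hnorm,
        fun r hr hd => hπ r hr (hd.trans (Subgroup.card_dvd_of_le hA₁P))⟩
    have he₁ : A₁.subgroupOf P = K := by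
      ext x
      rw [Subgroup.mem_subgroupOf]
      constructor
      · rintro ⟨y, hy, hyx⟩
        have : y = x := Subtype.ext hyx
        rw [← this]; exact hy
      · intro hx
        exact ⟨x, hx, rfl⟩
    obtain ⟨hP', hKK, htrP, hsub⟩ := ih A₁ hA₁P he₁ (h.step s)
      (fun r hr hd => (hπ r hr hd).trans (Subgroup.card_dvd_of_le hAA₁)) (h.step_trans s htr)
    refine ⟨hP', ?_, htrP, hsub.trans (h.step_sub s htr)⟩
    rw [← hKK, ← h.step_KK s, inf_assoc,
      inf_eq_right.mpr (Subgroup.centralizer_le hA₁P)]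

/-- Theorem 7.5. -/
theorem Hyp.thm75 (h : Hyp A q) {P : Subgroup G} (hP : P ≠ ⊤)
    (hPπ : ∀ r : ℕ, r.Prime → r ∣ Nat.card P → r ∣ Nat.card A) (hAP : A ≤ P)
    (hsn : (A.subgroupOf P).IsSubnormal)
    (htr : ∀ Q₁ ∈ Cfsg.maxInvSubgroups ⊤ A {q}, ∀ Q₂ ∈ Cfsg.maxInvSubgroups ⊤ A {q},
      KConj (KK A) Q₁ Q₂) :
    KK A ⊓ Subgroup.centralizer (P : Set G) =
        Cfsg.piCoreOf (Cfsg.primesNotDvd (Nat.card A)) (Subgroup.centralizer (P : Set G)) ∧
      (∀ Q₁ ∈ Cfsg.maxInvSubgroups ⊤ P {q}, ∀ Q₂ ∈ Cfsg.maxInvSubgroups ⊤ P {q},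
        KConj (Cfsg.piCoreOf (Cfsg.primesNotDvd (Nat.card A))
          (Subgroup.centralizer (P : Set G))) Q₁ Q₂) ∧
      Cfsg.maxInvSubgroups ⊤ P {q} ⊆ Cfsg.maxInvSubgroups ⊤ A {q} ∧
      ∀ Q ∈ Cfsg.maxInvSubgroups ⊤ P {q},
        P ⊓ ⁅Subgroup.normalizer (P : Set G), Subgroup.normalizer (P : Set G)⁆ ≤
          ⁅Subgroup.normalizer (Q : Set G), Subgroup.normalizer (Q : Set G)⁆ ∧
        Subgroup.normalizer (P : Set G) =
          Cfsg.piCoreOf (Cfsg.primesNotDvd (Nat.card A)) (Subgroup.centralizer (P : Set G)) ⊔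
            (Subgroup.normalizer (P : Set G) ⊓ Subgroup.normalizer (Q : Set G)) := by
  obtain ⟨hP', hKK, htrP, hsub⟩ := Hyp.subnormal_aux hP _ hsn A hAP rfl h hPπ htr
  have hprimes := primesNotDvd_card_eq hAP hPπ
  have hKKP : KK P =
      Cfsg.piCoreOf (Cfsg.primesNotDvd (Nat.card A)) (Subgroup.centralizer (P : Set G)) := by
    unfold KK
    rw [hprimes]
  rw [← hKKP]
  exact ⟨hKK, htrP, hsub, fun Q hQ => hP'.normalizer_parts htrP hQ⟩

end Cfsg.Agent.Helper1.BGT
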