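import Mathlib
import Cfsg.Prelude.Def_PLocal
import Cfsg.Prelude.Def_Local
import Cfsg.Agent.Helper1.OddQuadratic2

set_option autoImplicit false

/-!
Abelian normal subgroups of Sylow `p`-subgroups of solvable groups of odd order lie in
`O_{p',p}`.
-/

namespace Cfsg.Agent.Helper1
namespace OddGL2

universe u
open scoped commutatorElement Pointwise

theorem abelian_normal_le_pPrimePCore {G : Type u} [Group G] [Finite G] (hsol : Group.IsSolvable G)
    (hodd : Odd (Nat.card G)) (p : ℕ) [hpf : Fact p.Prime] (S : Sylow p G) (A : Subgroup G)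
    (hA : A ≤ (S : Subgroup G)) (hAc : IsMulCommutative A)
    (hAn : (S : Subgroup G) ≤ Subgroup.normalizer (A : Set G)) :
    A ≤ Cfsg.pPrimePCore p G := by
  by_cases hp : p = 2
  · -- trivial Sylow subgroup
    have h1 : Nat.card (S : Subgroup G) = 1 := by
      obtain ⟨k, hk⟩ := IsPGroup.iff_card.1 S.2
      have hdvd : Nat.card (S : Subgroup G) ∣ Nat.card G := Subgroup.card_subgroup_dvd_card _
      have hoddS : Odd (Nat.card (S : Subgroup G)) := Odd.of_dvd_nat hodd hdvd
      rw [hk, hp] at hoddS ⊢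
      rcases Nat.eq_zero_or_pos k with h0 | hpos
      · rw [h0, pow_zero]
      · exfalso
        have : Even (2 ^ k) := (Nat.even_pow' hpos.ne').2 even_two
        exact (Nat.not_even_iff_odd.2 hoddS) this
    have h2 : (S : Subgroup G) = ⊥ := Subgroup.card_eq_one.1 h1
    rw [h2, le_bot_iff] at hA
    rw [hA]; exact bot_le
  · haveI := hsol
    obtain ⟨π, hπ⟩ : ∃ π : G →* G ⧸ Cfsg.pPrimeCore p G, π = QuotientGroup.mk' _ := ⟨_, rfl⟩
    have hπs : Function.Surjective π := hπ ▸ QuotientGroup.mk'_surjective _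
    have hsol' : Group.IsSolvable (G ⧸ Cfsg.pPrimeCore p G) := inferInstance
    have hodd' : Odd (Nat.card (G ⧸ Cfsg.pPrimeCore p G)) :=
      Odd.of_dvd_nat hodd (Subgroup.card_quotient_dvd_card _)
    have hKb : Cfsg.pPrimeCore p (G ⧸ Cfsg.pPrimeCore p G) = ⊥ := pPrimeCore_quotient_pPrimeCore p
    have hcent := centralizer_pCore_le (G := G ⧸ Cfsg.pPrimeCore p G) p hKb
    haveI := Cfsg.Agent.Helper3.pCore_characteristic p (G ⧸ Cfsg.pPrimeCore p G)
    haveI hQn : (Cfsg.pCore p (G ⧸ Cfsg.pPrimeCore p G)).Normal :=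
      Subgroup.normal_of_characteristic _
    have hQp : IsPGroup p (Cfsg.pCore p (G ⧸ Cfsg.pPrimeCore p G)) := pCore_isPGroup p
    have hCp : IsPGroup p (Subgroup.centralizer
        (Cfsg.pCore p (G ⧸ Cfsg.pPrimeCore p G) : Set (G ⧸ Cfsg.pPrimeCore p G))) :=
      hQp.to_le hcent
    have hQS : Cfsg.pCore p (G ⧸ Cfsg.pPrimeCore p G) ≤ (S : Subgroup G).map π := by
      have := pCore_le_sylow (S.mapSurjective hπs)
      rwa [Sylow.coe_mapSurjective] at this
    have hSN : (S : Subgroup G).map π ≤ Subgroup.normalizer ((A.map π : Subgroup _) : Set _) :=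
      (Subgroup.map_mono hAn).trans (Subgroup.le_normalizer_map π)
    intro a ha
    have hgoal : π a ∈ Cfsg.pCore p (G ⧸ Cfsg.pPrimeCore p G) := by
      apply mem_pCore_of_quadratic hp hsol' hodd' _ hQp hCp
      refine quadratic_of_abelian_normalized _ (A.map π) ?_ (hQS.trans hSN) (π a)
        (Subgroup.mem_map_of_mem π ha)
      rintro _ ⟨x, hx, rfl⟩ _ ⟨y, hy, rfl⟩
      rw [← map_mul, ← map_mul]
      exact congrArg π (congrArg Subtype.val (hAc.is_comm.comm ⟨x, hx⟩ ⟨y, hy⟩))
    rw [hπ] at hgoal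
    exact hgoal

end OddGL2
end Cfsg.Agent.Helper1
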