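import Mathlib
import Cfsg.Agent.Helper1.BGTa
import Cfsg.Agent.Helper1.OddQuadratic3
import Cfsg.Agent.Helper1.AGa
import Cfsg.Agent.Helper2.SolvBalance
import Cfsg.Agent.Lead.SylowLemmas

set_option autoImplicit false

/-!
Bender–Glauberman, Section 7, preparation for Theorem 7.6 (`S1396`): the `p'`-core of a subgroup
viewed in the ambient group, `O_{p'}(C_X(T)) ≤ O_{p'}(X)` for a `p`-subgroup `T` of a solvable group,
`p`-stability in subgroup form, and central Sylow subgroups.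
-/

namespace Cfsg.Agent.Helper1.BGT

open Cfsg Cfsg.Agent.Helper1 Cfsg.Agent.Helper2 Cfsg.Agent.Helper5
open scoped Pointwise commutatorElement

universe u

section typeLevel

variable {H : Type u} [Group H] [Finite H]

/-- `O_{p'}(C_H(T)) ≤ O_{p'}(H)` for a `p`-subgroup `T` of a group without `p`-components. -/
theorem coreOf_centralizer_subgroup_le (p : ℕ) [hp : Fact p.Prime]
    (hL : Cfsg.pLayer p H = ⊥) (T : Subgroup H) (hT : IsPGroup p ↥T) :
    coreOf p (Subgroup.centralizer (T : Set H)) ≤ Cfsg.pPrimeCore p H := by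
  set O := Cfsg.pPrimeCore p H with hO
  set π := QuotientGroup.mk' O with hπ
  have hOc : (Nat.card O).Coprime p := card_pPrimeCore_coprime p
  have hchar : HasCharP p (H ⧸ O) := (pLayer_eq_bot_iff_hasCharP p).mp hL
  set Q := Cfsg.pCore p (H ⧸ O) with hQ
  have hQp : IsPGroup p ↥Q := isPGroup_pCore p
  set C := Subgroup.centralizer (T : Set H) with hC
  set D := coreOf p C with hD
  have hDcop : (Nat.card D).Coprime p := card_coreOf_coprime p C
  have hDC : D ≤ C := coreOf_le p C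
  have hDn : ∀ h ∈ C, ∀ d ∈ D, h * d * h⁻¹ ∈ D := by
    rintro h hh _ ⟨d, hd, rfl⟩
    have hn : (Cfsg.pPrimeCore p ↥C).Normal := Cfsg.pPrimeCore_normal p ↥C
    exact ⟨⟨h, hh⟩ * d * ⟨h, hh⟩⁻¹, hn.conj_mem d hd ⟨h, hh⟩, rfl⟩
  set B := T.map π with hB
  have hBp : IsPGroup p ↥B := hT.map π
  have hCB : C.map π = Subgroup.centralizer (B : Set (H ⧸ O)) := by
    rw [hC, hπ, map_centralizer_eq_of_coprime p O hOc _ hT]
  intro d hd
  have hdcop : (orderOf (π d)).Coprime p := by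
    have h1 : orderOf (π d) ∣ orderOf d := orderOf_map_dvd π d
    have h2 : orderOf d ∣ Nat.card D := Subgroup.orderOf_dvd_natCard D hd
    exact Nat.Coprime.coprime_dvd_left (h1.trans h2) hDcop
  have hdB : π d ∈ Subgroup.centralizer (B : Set (H ⧸ O)) := by
    rw [← hCB]; exact ⟨d, hDC hd, rfl⟩
  have hQn : ∀ g : H ⧸ O, g ∈ Subgroup.normalizer (Q : Set (H ⧸ O)) := by
    intro g
    rw [Subgroup.normalizer_eq_top]; trivial
  have hcent : ∀ r ∈ Q, r ∈ Subgroup.centralizer (B : Set (H ⧸ O)) → π d * r = r * π d := by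
    intro r hrQ hrB
    rw [← hCB] at hrB
    obtain ⟨h, hh, rfl⟩ := hrB
    have h1 : d * h * d⁻¹ * h⁻¹ ∈ D := by
      have h2 : h * d⁻¹ * h⁻¹ ∈ D := hDn h hh d⁻¹ (inv_mem hd)
      have h3 : d * h * d⁻¹ * h⁻¹ = d * (h * d⁻¹ * h⁻¹) := by group
      rw [h3]
      exact mul_mem hd h2
    have h4 : π (d * h * d⁻¹ * h⁻¹) ∈ Q := by
      have hQnorm : Q.Normal := Cfsg.pCore_normal p (H ⧸ O)
      have h5 : π d * π h * (π d)⁻¹ ∈ Q := hQnorm.conj_mem _ hrQ _
      have h6 : π (d * h * d⁻¹ * h⁻¹) = (π d * π h * (π d)⁻¹) * (π h)⁻¹ := by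
        simp only [map_mul, map_inv]
      rw [h6]
      exact mul_mem h5 (inv_mem hrQ)
    have h7 : π (d * h * d⁻¹ * h⁻¹) = 1 := by
      obtain ⟨k, hk⟩ := (IsPGroup.iff_orderOf.mp hQp) ⟨_, h4⟩
      rw [Subgroup.orderOf_mk] at hk
      have h8 : orderOf (π (d * h * d⁻¹ * h⁻¹)) ∣ Nat.card D :=
        (orderOf_map_dvd π _).trans (Subgroup.orderOf_dvd_natCard D h1)
      have h9 : (orderOf (π (d * h * d⁻¹ * h⁻¹))).Coprime p :=
        Nat.Coprime.coprime_dvd_left h8 hDcop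
      rw [hk] at h9
      have hk0 : k = 0 := by
        by_contra hk0
        have : p ∣ p ^ k := dvd_pow_self p hk0
        have h10 := Nat.Coprime.eq_one_of_dvd h9.symm this
        exact hp.out.one_lt.ne' h10
      rw [hk0, pow_zero] at hk
      exact orderOf_eq_one_iff.mp hk
    have h11 : π d * π h * (π d)⁻¹ * (π h)⁻¹ = 1 := by
      rw [← h7]; simp only [map_mul, map_inv]
    calc π d * π h = (π d * π h * (π d)⁻¹ * (π h)⁻¹) * π h * π d := by group
      _ = π h * π d := by rw [h11, one_mul]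
  have hall := thompson_AxB B hBp (π d) hdcop hdB Q hQp (hQn _) (fun b _ => hQn b) hcent
  have hdQ : π d ∈ Q := by
    apply hchar
    rw [Subgroup.mem_centralizer_iff]
    intro r hr
    exact (hall r hr).symm
  have h1 : π d = 1 := by
    obtain ⟨k, hk⟩ := (IsPGroup.iff_orderOf.mp hQp) ⟨_, hdQ⟩
    rw [Subgroup.orderOf_mk] at hk
    rw [hk] at hdcop
    have hk0 : k = 0 := by
      by_contra hk0
      have : p ∣ p ^ k := dvd_pow_self p hk0
      have h10 := Nat.Coprime.eq_one_of_dvd hdcop.symm this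
      exact hp.out.one_lt.ne' h10
    rw [hk0, pow_zero] at hk
    exact orderOf_eq_one_iff.mp hk
  rw [hπ, QuotientGroup.mk'_apply, QuotientGroup.eq_one_iff] at h1
  exact h1

/-- an element of `O_{p',p}(H)` of order prime to `p` lies in `O_{p'}(H)`. -/
theorem mem_pPrimeCore_of_mem_pPrimePCore (p : ℕ) [hp : Fact p.Prime] {d : H}
    (hd : d ∈ Cfsg.pPrimePCore p H) (hc : (orderOf d).Coprime p) : d ∈ Cfsg.pPrimeCore p H := by
  obtain ⟨k, hk⟩ := exists_pow_mem_of_mem_comap_pCore (Cfsg.pPrimeCore p H) hd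
  have hcop : (p ^ k).Coprime (orderOf d) := (Nat.Coprime.pow_right k hc).symm
  obtain ⟨m, hm⟩ := exists_pow_eq_self_of_coprime hcop
  rw [← hm]
  exact Subgroup.pow_mem _ hk m

end typeLevel

section subgroupLevel

variable {G : Type u} [Group G] [Finite G]

/-- the largest normal `p'`-subgroup contains every normal `p'`-subgroup (subgroup form). -/
theorem le_coreOf {p : ℕ} {N K : Subgroup G} (hNK : N ≤ K)
    (hn : K ≤ Subgroup.normalizer (N : Set G)) (hc : (Nat.card N).Coprime p) :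
    N ≤ coreOf p K := by
  have hnorm : (N.subgroupOf K).Normal := (Subgroup.normal_subgroupOf_iff_le_normalizer hNK).2 hn
  have h1 : N.subgroupOf K ≤ Cfsg.pPrimeCore p ↥K := by
    apply le_pPrimeCore hnorm
    rw [Cfsg.Agent.Lead.card_subgroupOf_of_le hNK]
    exact hc
  intro x hx
  exact ⟨⟨x, hNK hx⟩, h1 (by rw [Subgroup.mem_subgroupOf]; exact hx), rfl⟩

theorem le_normalizer_coreOf (p : ℕ) (K : Subgroup G) :
    K ≤ Subgroup.normalizer ((coreOf p K : Subgroup G) : Set G) := by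
  intro x hx
  apply Subgroup.mem_normalizer_fintype
  rintro _ ⟨o, ho, rfl⟩
  refine ⟨⟨x, hx⟩ * o * ⟨x, hx⟩⁻¹, (Cfsg.pPrimeCore_normal p ↥K).conj_mem o ho ⟨x, hx⟩, ?_⟩
  simp

/-- `O_{p'}(C_X(T)) ≤ O_{p'}(X)` for a `p`-subgroup `T` of a solvable subgroup `X`. -/
theorem coreOf_inf_centralizer_le_coreOf (p : ℕ) [hp : Fact p.Prime] (X T : Subgroup G)
    (hX : Group.IsSolvable X) (hTX : T ≤ X) (hT : IsPGroup p ↥T) :
    coreOf p (X ⊓ Subgroup.centralizer (T : Set G)) ≤ coreOf p X := by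
  set N := coreOf p (X ⊓ Subgroup.centralizer (T : Set G)) with hN
  have hNle : N ≤ X ⊓ Subgroup.centralizer (T : Set G) := coreOf_le p _
  have hNX : N ≤ X := hNle.trans inf_le_left
  have hNc : (Nat.card N).Coprime p := card_coreOf_coprime p _
  have hNn : X ⊓ Subgroup.centralizer (T : Set G) ≤ Subgroup.normalizer (N : Set G) :=
    le_normalizer_coreOf p _
  set T' : Subgroup ↥X := T.subgroupOf X with hT'
  have hT'p : IsPGroup p ↥T' := hT.comap_subtype
  set C' : Subgroup ↥X := Subgroup.centralizer (T' : Set ↥X) with hC'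
  have hC'val : ∀ c ∈ C', (c : G) ∈ X ⊓ Subgroup.centralizer (T : Set G) := by
    intro c hc
    refine ⟨c.2, Subgroup.mem_centralizer_iff.mpr ?_⟩
    intro t ht
    have h1 := (Subgroup.mem_centralizer_iff.mp hc) ⟨t, hTX ht⟩
      (by rw [SetLike.mem_coe, hT', Subgroup.mem_subgroupOf]; exact ht)
    exact congrArg Subtype.val h1
  have h1 : N.subgroupOf X ≤ coreOf p C' := by
    apply le_coreOf
    · intro n hn
      rw [Subgroup.mem_subgroupOf] at hn
      rw [hC', Subgroup.mem_centralizer_iff]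
      intro t ht
      rw [SetLike.mem_coe, hT', Subgroup.mem_subgroupOf] at ht
      apply Subtype.ext
      have := Subgroup.mem_centralizer_iff.mp (hNle hn).2 (t : G) ht
      simpa using this
    · intro c hc
      have hcn := hNn (hC'val c hc)
      rw [Subgroup.mem_normalizer_iff] at hcn ⊢
      intro n
      rw [Subgroup.mem_subgroupOf, Subgroup.mem_subgroupOf]
      simpa using hcn (n : G)
    · rw [Cfsg.Agent.Lead.card_subgroupOf_of_le hNX]; exact hNc
  have h2 : coreOf p C' ≤ Cfsg.pPrimeCore p ↥X :=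
    coreOf_centralizer_subgroup_le p (pLayer_eq_bot_of_isSolvable p) T' hT'p
  intro x hx
  exact ⟨⟨x, hNX hx⟩, h2 (h1 (by rw [Subgroup.mem_subgroupOf]; exact hx)), rfl⟩

/-- `O_{p',p}(X)` as a subgroup of the ambient group. -/
def ppCoreOf (p : ℕ) (X : Subgroup G) : Subgroup G := (Cfsg.pPrimePCore p ↥X).map X.subtype

omit [Finite G] in
theorem ppCoreOf_le (p : ℕ) (X : Subgroup G) : ppCoreOf p X ≤ X := Subgroup.map_subtype_le _

omit [Finite G] in
theorem le_normalizer_ppCoreOf (p : ℕ) (X : Subgroup G) :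
    X ≤ Subgroup.normalizer ((ppCoreOf p X : Subgroup G) : Set G) := by
  intro x hx
  rw [Subgroup.mem_normalizer_iff]
  haveI hn : (Cfsg.pPrimePCore p ↥X).Normal := Cfsg.Agent.Helper1.AG.pPrimePCore_normal'
  intro y
  constructor
  · rintro ⟨o, ho, rfl⟩
    exact ⟨⟨x, hx⟩ * o * ⟨x, hx⟩⁻¹, hn.conj_mem o ho ⟨x, hx⟩, by simp⟩
  · rintro ⟨o, ho, ho'⟩
    have hy : y = x⁻¹ * (o : G) * x := by
      have : (o : G) = x * y * x⁻¹ := ho'
      rw [this]; group
    have h2 := hn.conj_mem o ho ⟨x, hx⟩⁻¹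
    refine ⟨⟨x, hx⟩⁻¹ * o * (⟨x, hx⟩⁻¹)⁻¹, h2, ?_⟩
    rw [hy]; simp

/-- `p`-stability: an abelian normal subgroup of a Sylow `p`-subgroup of a solvable subgroup of odd
order lies in `O_{p',p}`. -/
theorem le_ppCoreOf_of_abelian_normal (p : ℕ) [hp : Fact p.Prime] (X S V : Subgroup G)
    (hX : Group.IsSolvable X) (hodd : Odd (Nat.card X)) (hSX : S ≤ X)
    (hS : Nat.card S = p ^ (Nat.card X).factorization p) (hVS : V ≤ S)
    (hVc : ∀ x ∈ V, ∀ y ∈ V, x * y = y * x) (hSV : S ≤ Subgroup.normalizer (V : Set G)) :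
    V ≤ ppCoreOf p X := by
  have hS' : Nat.card (S.subgroupOf X) = p ^ (Nat.card X).factorization p := by
    rw [Cfsg.Agent.Lead.card_subgroupOf_of_le hSX]; exact hS
  set S' : Sylow p ↥X := Sylow.ofCard (S.subgroupOf X) hS' with hS'def
  have hVX : V ≤ X := hVS.trans hSX
  have h1 : V.subgroupOf X ≤ (S' : Subgroup ↥X) := by
    intro v hv
    rw [Subgroup.mem_subgroupOf] at hv
    show v ∈ S.subgroupOf X
    rw [Subgroup.mem_subgroupOf]
    exact hVS hv
  have h2 : IsMulCommutative ↥(V.subgroupOf X) := by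
    refine ⟨⟨?_⟩⟩
    rintro ⟨a, ha⟩ ⟨b, hb⟩
    rw [Subgroup.mem_subgroupOf] at ha hb
    apply Subtype.ext
    apply Subtype.ext
    exact hVc _ ha _ hb
  have h3 : (S' : Subgroup ↥X) ≤ Subgroup.normalizer ((V.subgroupOf X : Subgroup ↥X) : Set ↥X) := by
    intro s hs
    have hs' : (s : G) ∈ S := by
      have : s ∈ S.subgroupOf X := hs
      rwa [Subgroup.mem_subgroupOf] at this
    have hsn := hSV hs'
    rw [Subgroup.mem_normalizer_iff] at hsn ⊢
    intro v
    rw [Subgroup.mem_subgroupOf, Subgroup.mem_subgroupOf]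
    simpa using hsn (v : G)
  have h4 := Cfsg.Agent.Helper1.OddGL2.abelian_normal_le_pPrimePCore hX hodd p S' (V.subgroupOf X)
    h1 h2 h3
  intro v hv
  exact ⟨⟨v, hVX hv⟩, h4 (by rw [Subgroup.mem_subgroupOf]; exact hv), rfl⟩

/-- a `p'`-subgroup of `O_{p',p}(X)` lies in `O_{p'}(X)`. -/
theorem le_coreOf_of_le_ppCoreOf (p : ℕ) [hp : Fact p.Prime] (X D : Subgroup G)
    (hD : D ≤ ppCoreOf p X) (hc : (Nat.card D).Coprime p) : D ≤ coreOf p X := by
  intro d hd
  obtain ⟨d', hd', rfl⟩ := hD hd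
  refine ⟨d', ?_, rfl⟩
  apply mem_pPrimeCore_of_mem_pPrimePCore p hd'
  have h1 : orderOf d' = orderOf (d' : G) := (Subgroup.orderOf_coe d').symm
  rw [h1]
  exact Nat.Coprime.coprime_dvd_left (Subgroup.orderOf_dvd_natCard D hd) hc

end subgroupLevel

end Cfsg.Agent.Helper1.BGT
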