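import Mathlib
import Cfsg.Agent.Helper1.BGTf
import Cfsg.Agent.Helper1.Coprime

set_option autoImplicit false

/-!
Bender–Glauberman, Section 7, preparation for Theorem 7.6 (`S1396`), part 2: coprime action
modulo `O_{p'}`, central Sylow subgroups, subgroups of index at most `p` in a `p`-group.
-/

namespace Cfsg.Agent.Helper1.BGT

open Cfsg Cfsg.Agent.Helper1 Cfsg.Agent.Helper2 Cfsg.Agent.Helper5
open scoped Pointwise commutatorElement

universe u

variable {G : Type u} [Group G] [Finite G]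

/-- If the `p`-subgroup `V ≤ O_{p',p}(X)` normalizes the `p'`-subgroup `Y ≤ X`, then
`Y = (Y ∩ O_{p'}(X)) C_Y(V)`. -/
theorem le_coreOf_sup_inf_centralizer (p : ℕ) [hp : Fact p.Prime] (X V Y : Subgroup G)
    (hVp : IsPGroup p ↥V) (hV : V ≤ ppCoreOf p X) (hYX : Y ≤ X)
    (hYc : (Nat.card Y).Coprime p) (hVY : V ≤ Subgroup.normalizer (Y : Set G)) :
    Y ≤ coreOf p X ⊔ (Y ⊓ Subgroup.centralizer (V : Set G)) := by
  have hcop : (Nat.card V).Coprime (Nat.card Y) := by
    obtain ⟨k, hk⟩ := IsPGroup.iff_card.mp hVp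
    rw [hk]
    exact (Nat.Coprime.pow_right k hYc).symm
  haveI : Group.IsNilpotent ↥V := hVp.isNilpotent
  have hsolv : Group.IsSolvable ↥V ∨ Group.IsSolvable ↥Y := Or.inl inferInstance
  have h1 := coprime_commutator_sup_centralizer V Y hVY hcop hsolv
  have hDY : ⁅Y, V⁆ ≤ Y := Subgroup.le_normalizer_iff_commutator_le_left.1 hVY
  have hDpp : ⁅Y, V⁆ ≤ ppCoreOf p X := by
    rw [Subgroup.commutator_le]
    intro y hy v hv
    have hvpp := hV hv
    have hyn := le_normalizer_ppCoreOf p X (hYX hy)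
    have h2 : y * v * y⁻¹ ∈ ppCoreOf p X := (Subgroup.mem_normalizer_iff.mp hyn v).mp hvpp
    rw [commutatorElement_def]
    exact Subgroup.mul_mem _ h2 (Subgroup.inv_mem _ hvpp)
  have hDc : (Nat.card ↥⁅Y, V⁆).Coprime p :=
    Nat.Coprime.coprime_dvd_left (Subgroup.card_dvd_of_le hDY) hYc
  have hDO : ⁅Y, V⁆ ≤ coreOf p X := le_coreOf_of_le_ppCoreOf p X _ hDpp hDc
  calc Y = ⁅Y, V⁆ ⊔ (Y ⊓ Subgroup.centralizer (V : Set G)) := h1.symm
    _ ≤ coreOf p X ⊔ (Y ⊓ Subgroup.centralizer (V : Set G)) := sup_le_sup_right hDO _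

/-- If `A` is a central Sylow `p`-subgroup of `M`, every `p'`-subgroup of `M` lies in
`O_{p'}(M)`. -/
theorem le_coreOf_of_central_sylow (p : ℕ) [hp : Fact p.Prime] (M A W : Subgroup G) (hAM : A ≤ M)
    (hA : Nat.card A = p ^ (Nat.card M).factorization p)
    (hMA : M ≤ Subgroup.centralizer (A : Set G)) (hWM : W ≤ M) (hW : (Nat.card W).Coprime p) :
    W ≤ coreOf p M := by
  have hA' : Nat.card (A.subgroupOf M) = p ^ (Nat.card M).factorization p := by
    rw [Cfsg.Agent.Lead.card_subgroupOf_of_le hAM]; exact hA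
  set A' : Sylow p ↥M := Sylow.ofCard (A.subgroupOf M) hA' with hA'def
  have hmemA' : ∀ a : ↥M, a ∈ (A' : Subgroup ↥M) ↔ (a : G) ∈ A := by
    intro a
    show a ∈ A.subgroupOf M ↔ _
    rw [Subgroup.mem_subgroupOf]
  have hcent : Subgroup.centralizer ((A' : Subgroup ↥M) : Set ↥M) = ⊤ := by
    rw [eq_top_iff]
    intro m _
    rw [Subgroup.mem_centralizer_iff]
    intro a ha
    apply Subtype.ext
    have h1 := Subgroup.mem_centralizer_iff.mp (hMA m.2) (a : G) ((hmemA' a).mp ha)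
    simpa using h1
  have hN : Subgroup.normalizer ((A' : Subgroup ↥M) : Set ↥M) ≤
      Subgroup.centralizer ((A' : Subgroup ↥M) : Set ↥M) := by
    rw [hcent]; exact le_top
  set f := MonoidHom.transferSylow A' hN with hf
  have hcompl : Subgroup.IsComplement' f.ker (A' : Subgroup ↥M) :=
    MonoidHom.ker_transferSylow_isComplement' A' hN
  have hkc : (Nat.card f.ker).Coprime p := by
    have h1 : (A' : Subgroup ↥M).index = Nat.card f.ker := hcompl.index_eq_card
    rw [← h1]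
    exact ((Nat.Prime.coprime_iff_not_dvd hp.out).mpr A'.not_dvd_index).symm
  have hker : f.ker ≤ Cfsg.pPrimeCore p ↥M := le_pPrimeCore inferInstance hkc
  intro w hw
  refine ⟨⟨w, hWM hw⟩, hker ?_, rfl⟩
  rw [MonoidHom.mem_ker]
  have h1 : orderOf (f ⟨w, hWM hw⟩) ∣ orderOf (⟨w, hWM hw⟩ : ↥M) := orderOf_map_dvd f _
  have h2 : orderOf (⟨w, hWM hw⟩ : ↥M) = orderOf w := by
    rw [← Subgroup.orderOf_coe]
  have h3 : orderOf w ∣ Nat.card W := Subgroup.orderOf_dvd_natCard W hw
  have h4 : (orderOf (f ⟨w, hWM hw⟩)).Coprime p :=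
    Nat.Coprime.coprime_dvd_left (h1.trans (h2 ▸ h3)) hW
  obtain ⟨k, hk⟩ := (IsPGroup.iff_orderOf.mp A'.2) (f ⟨w, hWM hw⟩)
  rw [hk] at h4
  have hk0 : k = 0 := by
    by_contra hk0
    have : p ∣ p ^ k := dvd_pow_self p hk0
    have h10 := Nat.Coprime.eq_one_of_dvd h4.symm this
    exact hp.out.one_lt.ne' h10
  rw [hk0, pow_zero] at hk
  exact orderOf_eq_one_iff.mp hk

/-- strict inclusions of subgroups of a `p`-group multiply the order by at least `p` -/
theorem mul_card_le_of_lt' {R : Type u} [Group R] [Finite R] {p : ℕ} [hp : Fact p.Prime]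
    (hR : IsPGroup p R) {A B : Subgroup R} (h : A < B) : p * Nat.card A ≤ Nat.card B := by
  obtain ⟨a, ha⟩ := IsPGroup.iff_card.1 (hR.to_subgroup A)
  obtain ⟨b, hb⟩ := IsPGroup.iff_card.1 (hR.to_subgroup B)
  have h1 : Nat.card A < Nat.card B := Cfsg.Agent.Helper1.card_lt_card_of_lt h
  rw [ha, hb] at h1 ⊢
  have h2 : a < b := (Nat.pow_lt_pow_iff_right hp.out.one_lt).1 h1
  calc p * p ^ a = p ^ (a + 1) := by ring
    _ ≤ p ^ b := Nat.pow_le_pow_right hp.out.pos h2

/-- A subgroup of index at most `p` of a `p`-group is normal. -/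
theorem le_normalizer_of_card_le_mul (p : ℕ) [hp : Fact p.Prime] (S R : Subgroup G)
    (hS : IsPGroup p ↥S) (hRS : R ≤ S) (hcard : Nat.card S ≤ p * Nat.card R) :
    S ≤ Subgroup.normalizer (R : Set G) := by
  by_cases hRS' : R = S
  · rw [hRS']; exact Subgroup.le_normalizer
  have hlt : R < S := lt_of_le_of_ne hRS hRS'
  -- work in `S`
  haveI : Group.IsNilpotent ↥S := hS.isNilpotent
  set R' : Subgroup ↥S := R.subgroupOf S with hR'
  have hR'lt : R' < ⊤ := by
    rw [lt_top_iff_ne_top]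
    intro h
    apply hRS'
    apply le_antisymm hRS
    intro s hs
    have : (⟨s, hs⟩ : ↥S) ∈ R' := by rw [h]; exact Subgroup.mem_top _
    rwa [hR', Subgroup.mem_subgroupOf] at this
  have hnc := normalizerCondition_of_isNilpotent (G := ↥S) R' hR'lt
  have hSp : IsPGroup p ↥S := hS
  have h1 : p * Nat.card R' ≤ Nat.card (Subgroup.normalizer (R' : Set ↥S)) :=
    mul_card_le_of_lt' (IsPGroup.of_equiv hSp (MulEquiv.refl _)) hnc
  have h2 : Nat.card R' = Nat.card R := Cfsg.Agent.Lead.card_subgroupOf_of_le hRS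
  have h3 : Nat.card (Subgroup.normalizer (R' : Set ↥S)) = Nat.card S := by
    apply le_antisymm (Subgroup.card_le_card_group _)
    rw [h2] at h1
    exact hcard.trans h1
  have h4 : Subgroup.normalizer (R' : Set ↥S) = ⊤ := Subgroup.eq_top_of_card_eq _ h3
  intro s hs
  have h5 : (⟨s, hs⟩ : ↥S) ∈ Subgroup.normalizer (R' : Set ↥S) := by
    rw [h4]; exact Subgroup.mem_top _
  rw [Subgroup.mem_normalizer_iff] at h5 ⊢
  intro r
  constructor
  · intro hr
    have := (h5 ⟨r, hRS hr⟩).mp (by rw [hR', Subgroup.mem_subgroupOf]; exact hr)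
    rw [hR', Subgroup.mem_subgroupOf] at this
    simpa using this
  · intro hr
    have hrS : r ∈ S := by
      have h6 : s * r * s⁻¹ ∈ S := hRS hr
      have h7 : r = s⁻¹ * (s * r * s⁻¹) * s := by group
      rw [h7]
      exact S.mul_mem (S.mul_mem (S.inv_mem hs) h6) hs
    have := (h5 ⟨r, hrS⟩).mpr (by rw [hR', Subgroup.mem_subgroupOf]; simpa using hr)
    rwa [hR', Subgroup.mem_subgroupOf] at this

end Cfsg.Agent.Helper1.BGT
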