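import Mathlib
import Cfsg.Agent.Helper1.BGTg

set_option autoImplicit false

/-!
Bender–Glauberman, Section 7, Theorem 7.6 (`S1396`), case of a normal self-centralizing subgroup
`A` of a Sylow `p`-subgroup `P`: every `A`-invariant `p'`-subgroup of `C_G(b)` lies in
`O_{p'}(C_G(b))`, for suitable `b ∈ A`.
-/

namespace Cfsg.Agent.Helper1.BGT

open Cfsg Cfsg.Agent.Helper1 Cfsg.Agent.Helper2 Cfsg.Agent.Helper5
open scoped Pointwise commutatorElement

universe u

variable {G : Type u} [Group G] [Finite G]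

/-- the centralizer of the cyclic group generated by `b`. -/
def Cb (b : G) : Subgroup G := Subgroup.centralizer ((Subgroup.zpowers b : Subgroup G) : Set G)

omit [Finite G] in
theorem mem_Cb_iff {b x : G} : x ∈ Cb b ↔ b * x = x * b := by
  unfold Cb
  rw [Cfsg.Agent.Helper2.centralizer_zpowers_eq, Subgroup.mem_centralizer_singleton_iff]
  exact eq_comm

omit [Finite G] in
theorem normalizer_le_normalizer_centralizer_aux (U : Subgroup G) :
    Subgroup.normalizer (U : Set G) ≤
      Subgroup.normalizer ((Subgroup.centralizer (U : Set G) : Subgroup G) : Set G) := by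
  have key : ∀ g ∈ Subgroup.normalizer (U : Set G), ∀ x ∈ Subgroup.centralizer (U : Set G),
      g * x * g⁻¹ ∈ Subgroup.centralizer (U : Set G) := by
    intro g hg x hx
    rw [Subgroup.mem_centralizer_iff] at hx ⊢
    intro u hu
    have hu' : g⁻¹ * u * g ∈ U := by
      have := (Subgroup.mem_normalizer_iff.mp (Subgroup.inv_mem _ hg) u).mp hu
      simpa using this
    have h1 := hx _ hu'
    calc u * (g * x * g⁻¹) = g * ((g⁻¹ * u * g) * x) * g⁻¹ := by group
      _ = g * (x * (g⁻¹ * u * g)) * g⁻¹ := by rw [h1]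
      _ = g * x * g⁻¹ * u := by group
  intro g hg
  rw [Subgroup.mem_normalizer_iff]
  intro x
  constructor
  · exact key g hg x
  · intro hx
    have := key g⁻¹ (Subgroup.inv_mem _ hg) _ hx
    have h2 : g⁻¹ * (g * x * g⁻¹) * g⁻¹⁻¹ = x := by group
    rwa [h2] at this

/-- The standing hypotheses: `A` is a normal self-centralizing subgroup of the Sylow `p`-subgroup `P`
of the minimal simple group `G` of odd order. -/
structure SCNHyp (p : ℕ) [Fact p.Prime] (A : Subgroup G) (P : Sylow p G) : Prop where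
  simple : IsSimpleGroup G
  ncomm : ¬ IsMulCommutative G
  solv : ∀ H : Subgroup G, H ≠ ⊤ → Group.IsSolvable H
  odd : Odd (Nat.card G)
  le : A ≤ (P : Subgroup G)
  norm : (P : Subgroup G) ≤ Subgroup.normalizer (A : Set G)
  self : (P : Subgroup G) ⊓ Subgroup.centralizer (A : Set G) = A
  comm : ∀ x ∈ A, ∀ y ∈ A, x * y = y * x

variable {p : ℕ} [hp : Fact p.Prime] {A : Subgroup G} {P : Sylow p G}

omit [Finite G] in
theorem SCNHyp.isPGroup (h : SCNHyp p A P) : IsPGroup p ↥A := P.2.to_le h.le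

omit [Finite G] in
theorem SCNHyp.le_centralizer (h : SCNHyp p A P) : A ≤ Subgroup.centralizer (A : Set G) := by
  intro a ha
  rw [Subgroup.mem_centralizer_iff]
  intro x hx
  exact h.comm x hx a ha

omit [Finite G] in
theorem SCNHyp.le_Cb (h : SCNHyp p A P) {b : G} (hb : b ∈ A) : A ≤ Cb b := by
  intro a ha
  rw [mem_Cb_iff]
  exact h.comm b hb a ha

omit [Finite G] in
theorem SCNHyp.Cb_ne_top (h : SCNHyp p A P) {b : G} (hb : b ≠ 1) : Cb b ≠ ⊤ := by
  intro htop
  haveI := h.simple
  have hbc : b ∈ Subgroup.center G := by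
    rw [Subgroup.mem_center_iff]
    intro x
    have : x ∈ Cb b := by rw [htop]; exact Subgroup.mem_top x
    exact (mem_Cb_iff.mp this).symm
  rcases (inferInstance : (Subgroup.center G).Normal).eq_bot_or_eq_top with h1 | h1
  · rw [h1, Subgroup.mem_bot] at hbc
    exact hb hbc
  · apply h.ncomm
    refine ⟨⟨fun x y => ?_⟩⟩
    have hx : x ∈ Subgroup.center G := by rw [h1]; exact Subgroup.mem_top x
    exact (Subgroup.mem_center_iff.mp hx y).symm

theorem SCNHyp.odd_card (h : SCNHyp p A P) (X : Subgroup G) : Odd (Nat.card X) :=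
  Odd.of_dvd_nat h.odd (Subgroup.card_subgroup_dvd_card X)

theorem SCNHyp.card_P (h : SCNHyp p A P) (M : Subgroup G) (hPM : (P : Subgroup G) ≤ M) :
    Nat.card (P : Subgroup G) = p ^ (Nat.card M).factorization p := by
  apply Cfsg.Agent.Lead.card_eq_ppart_of_le hPM (le_top : M ≤ ⊤) P.2
  rw [Subgroup.card_top]
  exact P.card_eq_multiplicity

/-- `A` is a Sylow `p`-subgroup of every subgroup of its centralizer containing it. -/
theorem SCNHyp.card_A (h : SCNHyp p A P) (M : Subgroup G) (hAM : A ≤ M)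
    (hMC : M ≤ Subgroup.centralizer (A : Set G)) :
    Nat.card A = p ^ (Nat.card M).factorization p := by
  have h1 : Nat.card ↥((P : Subgroup G) ⊓ Subgroup.centralizer (A : Set G)) =
      p ^ (Nat.card (Subgroup.centralizer (A : Set G))).factorization p := by
    apply Cfsg.Agent.Lead.card_inf_eq_ppart_of_normal (N := Subgroup.normalizer (A : Set G)) h.norm
      (Subgroup.centralizer_le_normalizer _)
      (normalizer_le_normalizer_centralizer_aux A) P.2
    exact h.card_P _ h.norm
  rw [h.self] at h1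
  exact Cfsg.Agent.Lead.card_eq_ppart_of_le hAM hMC h.isPGroup h1

/-- The central case: if `b ∈ A` is centralized by `P`, then every `A`-invariant `p'`-subgroup of
`C_G(b)` lies in `O_{p'}(C_G(b))`. -/
theorem SCNHyp.claim_central (h : SCNHyp p A P) {b : G} (hbA : b ∈ A) (hb1 : b ≠ 1)
    (hPb : (P : Subgroup G) ≤ Cb b) (Y : Subgroup G) (hY : Y ≤ Cb b)
    (hYc : (Nat.card Y).Coprime p) (hAY : A ≤ Subgroup.normalizer (Y : Set G)) :
    Y ≤ coreOf p (Cb b) := by
  set H := Cb b with hH
  have hHtop : H ≠ ⊤ := h.Cb_ne_top hb1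
  have hHsol : Group.IsSolvable H := h.solv H hHtop
  have hHodd : Odd (Nat.card H) := h.odd_card H
  have hApp : A ≤ ppCoreOf p H :=
    le_ppCoreOf_of_abelian_normal p H P A hHsol hHodd hPb (h.card_P H hPb) h.le h.comm h.norm
  have h1 := le_coreOf_sup_inf_centralizer p H A Y h.isPGroup hApp hY hYc hAY
  have hAH : A ≤ H := h.le.trans hPb
  set M := H ⊓ Subgroup.centralizer (A : Set G) with hM
  have h2 : Y ⊓ Subgroup.centralizer (A : Set G) ≤ coreOf p M := by
    apply le_coreOf_of_central_sylow p M A _ (le_inf hAH h.le_centralizer)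
      (h.card_A M (le_inf hAH h.le_centralizer) inf_le_right) inf_le_right
      (inf_le_inf_right _ hY)
    exact Nat.Coprime.coprime_dvd_left (Subgroup.card_dvd_of_le inf_le_left) hYc
  have h3 : coreOf p M ≤ coreOf p H :=
    coreOf_inf_centralizer_le_coreOf p H A hHsol hAH h.isPGroup
  exact h1.trans (sup_le le_rfl (h2.trans h3))

/-- The general case: if `b ∈ A` has at most `p` conjugates under `P` and `z ∈ A` is centralized
by `P`, then every `A`-invariant `p'`-subgroup of `C_G(b)` lies in `O_{p'}(C_G(b))`. -/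
theorem SCNHyp.claim_all (h : SCNHyp p A P) {b z : G} (hbA : b ∈ A) (hb1 : b ≠ 1)
    (hidx : Nat.card (P : Subgroup G) ≤ p * Nat.card ↥((P : Subgroup G) ⊓ Cb b))
    (hzA : z ∈ A) (hz1 : z ≠ 1) (hPz : (P : Subgroup G) ≤ Cb z)
    (Y : Subgroup G) (hY : Y ≤ Cb b)
    (hYc : (Nat.card Y).Coprime p) (hAY : A ≤ Subgroup.normalizer (Y : Set G)) :
    Y ≤ coreOf p (Cb b) := by
  by_cases hPb : (P : Subgroup G) ≤ Cb b
  · exact h.claim_central hbA hb1 hPb Y hY hYc hAY
  set H := Cb b with hH
  have hHtop : H ≠ ⊤ := h.Cb_ne_top hb1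
  have hHsol : Group.IsSolvable H := h.solv H hHtop
  have hHodd : Odd (Nat.card H) := h.odd_card H
  set P₀ := (P : Subgroup G) ⊓ H with hP₀
  have hP₀p : IsPGroup p ↥P₀ := P.2.to_le inf_le_left
  have hAH : A ≤ H := h.le_Cb hbA
  have hAP₀ : A ≤ P₀ := le_inf h.le hAH
  obtain ⟨S, hP₀S, hSH, hSp, hScard⟩ :=
    Cfsg.Agent.Lead.exists_le_card_eq_ppart hP₀p (inf_le_right : P₀ ≤ H)
  have hSP : Nat.card S ≤ Nat.card (P : Subgroup G) := by
    have h1 := Cfsg.Agent.Lead.card_le_ppart_of_isPGroup hSp (le_top : S ≤ ⊤)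
    rw [Subgroup.card_top, ← P.card_eq_multiplicity] at h1
    exact h1
  have hSn : S ≤ Subgroup.normalizer (P₀ : Set G) :=
    le_normalizer_of_card_le_mul p S P₀ hSp hP₀S (hSP.trans hidx)
  set V := P₀ ⊓ Subgroup.centralizer (P₀ : Set G) with hV
  have hVS : V ≤ S := inf_le_left.trans hP₀S
  have hVc : ∀ x ∈ V, ∀ y ∈ V, x * y = y * x := by
    intro x hx y hy
    exact (Subgroup.mem_centralizer_iff.mp hy.2 x hx.1)
  have hSV : S ≤ Subgroup.normalizer (V : Set G) :=
    le_normalizer_inf hSn (hSn.trans (normalizer_le_normalizer_centralizer_aux P₀))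
  have hVpp : V ≤ ppCoreOf p H :=
    le_ppCoreOf_of_abelian_normal p H S V hHsol hHodd hSH hScard hVS hVc hSV
  have hzV : z ∈ V := by
    refine ⟨⟨h.le hzA, hAH hzA⟩, Subgroup.mem_centralizer_iff.mpr ?_⟩
    intro x hx
    have := mem_Cb_iff.mp (hPz hx.1)
    exact this.symm
  have hzpp : Subgroup.zpowers z ≤ ppCoreOf p H := (Subgroup.zpowers_le.mpr hzV).trans hVpp
  have hzp : IsPGroup p ↥(Subgroup.zpowers z) := h.isPGroup.to_le (Subgroup.zpowers_le.mpr hzA)
  have hzY : Subgroup.zpowers z ≤ Subgroup.normalizer (Y : Set G) :=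
    (Subgroup.zpowers_le.mpr hzA).trans hAY
  have h1 := le_coreOf_sup_inf_centralizer p H (Subgroup.zpowers z) Y hzp hzpp hY hYc hzY
  -- the second step, inside `C_G(z)`
  set Y₂ := Y ⊓ Cb z with hY₂
  have hY₂c : (Nat.card Y₂).Coprime p :=
    Nat.Coprime.coprime_dvd_left (Subgroup.card_dvd_of_le inf_le_left) hYc
  have hAY₂ : A ≤ Subgroup.normalizer (Y₂ : Set G) :=
    le_normalizer_inf hAY ((h.le_Cb hzA).trans Subgroup.le_normalizer)
  have h2 : Y₂ ≤ coreOf p (Cb z) :=
    h.claim_central hzA hz1 hPz Y₂ inf_le_right hY₂c hAY₂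
  have hzH : Subgroup.zpowers z ≤ H := Subgroup.zpowers_le.mpr (hAH hzA)
  have h3 : coreOf p (Cb z) ⊓ H ≤ coreOf p (H ⊓ Cb z) := by
    apply le_coreOf
    · exact le_inf inf_le_right (inf_le_left.trans (coreOf_le p _))
    · exact le_normalizer_inf (inf_le_right.trans (le_normalizer_coreOf p _))
        (inf_le_left.trans Subgroup.le_normalizer)
    · exact Nat.Coprime.coprime_dvd_left (Subgroup.card_dvd_of_le inf_le_left)
        (card_coreOf_coprime p _)
  have h4 : coreOf p (H ⊓ Cb z) ≤ coreOf p H :=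
    coreOf_inf_centralizer_le_coreOf p H (Subgroup.zpowers z) hHsol hzH hzp
  have h5 : Y₂ ≤ coreOf p H :=
    (le_inf h2 (inf_le_left.trans hY)).trans (h3.trans h4)
  exact h1.trans (sup_le le_rfl h5)

end Cfsg.Agent.Helper1.BGT
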