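import Mathlib
import Cfsg.Prelude.Def_Transfer
import Cfsg.Agent.Helper1.OmegaOdd
import Cfsg.Agent.Helper5.AxB

set_option autoImplicit false

namespace Cfsg.Agent.Helper1

open scoped commutatorElement

universe u

variable {G : Type u} [Group G]

theorem centralizes_of_centralizes_order_p_in_centralizer [Finite G] (p : ℕ) [hp : Fact p.Prime]
    (hp2 : p ≠ 2) (H E A : Subgroup G) (hH : IsPGroup p H) (hE : E ≤ H)
    (hEe : Cfsg.IsElementaryAbelian p E)
    (hA : (A ≤ Subgroup.normalizer (H : Set G))) (hcop : (Nat.card A).Coprime p)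
    (hfix : ∀ x ∈ (H ⊓ Subgroup.centralizer (E : Set G)), orderOf x = p → A ≤ Subgroup.centralizer ({x} : Set G)) :
    A ≤ Subgroup.centralizer (H : Set G) := by
  obtain ⟨hEc, hEp⟩ := hEe
  have hEp' : IsPGroup p E := by
    intro e
    refine ⟨1, ?_⟩
    apply Subtype.ext
    rw [pow_one, Subgroup.coe_pow, Subgroup.coe_one]
    exact hEp e e.2
  have hEC : E ≤ Subgroup.centralizer (E : Set G) :=
    Subgroup.le_centralizer_iff_isMulCommutative.2 hEc
  have hAE : A ≤ Subgroup.centralizer (E : Set G) := by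
    intro a ha
    rw [Subgroup.mem_centralizer_iff]
    intro e he
    by_cases he1 : e = 1
    · rw [he1, mul_one, one_mul]
    · have hord : orderOf e = p := by
        have h1 : orderOf e ∣ p := orderOf_dvd_of_pow_eq_one (hEp e he)
        rcases (Nat.dvd_prime hp.out).1 h1 with h | h
        · rw [orderOf_eq_one_iff] at h; exact absurd h he1
        · exact h
      have := hfix e (Subgroup.mem_inf.2 ⟨hE he, hEC he⟩) hord ha
      exact (Subgroup.mem_centralizer_iff.1 this e rfl)
  intro a ha
  have haord : (orderOf a).Coprime p := by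
    apply Nat.Coprime.coprime_dvd_left _ hcop
    have := orderOf_dvd_natCard (⟨a, ha⟩ : A)
    rwa [Subgroup.orderOf_mk] at this
  set K := H ⊓ Subgroup.centralizer (E : Set G) with hK
  have hKp : IsPGroup p K := hH.to_le inf_le_left
  have haK : a ∈ Subgroup.normalizer (K : Set G) := by
    have key : ∀ b ∈ A, ∀ k ∈ K, b * k * b⁻¹ ∈ K := by
      intro b hb k hk
      obtain ⟨hkH, hkC⟩ := Subgroup.mem_inf.1 hk
      refine Subgroup.mem_inf.2 ⟨(Subgroup.mem_normalizer_iff.1 (hA hb) k).1 hkH, ?_⟩
      have hbC := hAE hb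
      exact Subgroup.mul_mem _ (Subgroup.mul_mem _ hbC hkC) (Subgroup.inv_mem _ hbC)
    rw [Subgroup.mem_normalizer_iff]
    intro k
    refine ⟨key a ha k, fun h => ?_⟩
    have := key a⁻¹ (A.inv_mem ha) _ h
    simpa [mul_assoc] using this
  have h1 : ∀ r ∈ K, a * r = r * a := by
    apply centralizes_of_centralizes_order_p hp2 a haord K hKp haK
    intro r hr ho
    exact (Subgroup.mem_centralizer_iff.1 (hfix r hr ho ha) r rfl).symm
  have h2 : ∀ r ∈ H, a * r = r * a := by
    apply Cfsg.Agent.Helper5.thompson_AxB E hEp' a haord (hAE ha) H hH (hA ha)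
      (hE.trans Subgroup.le_normalizer)
    intro r hr hrC
    exact h1 r (Subgroup.mem_inf.2 ⟨hr, hrC⟩)
  rw [Subgroup.mem_centralizer_iff]
  intro r hr
  exact (h2 r hr).symm

end Cfsg.Agent.Helper1
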