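import Mathlib
import Cfsg.Prelude.Def_Local
import Cfsg.Agent.Helper1.Basic
import Cfsg.Agent.Helper1.Coprime
import Cfsg.Agent.Helper1.Fitting
import Cfsg.Agent.Helper1.Hall
import Cfsg.Agent.Helper1.Cores
import Cfsg.Agent.Helper1.IterFocal
import Cfsg.Agent.Helper1.CoprimeSupp

set_option autoImplicit false

namespace Cfsg.Agent.Helper1

open Cfsg
open scoped commutatorElement Pointwise

universe u

variable {G : Type u} [Group G]

theorem upperPSeries_succ_even (p : ℕ) (n : ℕ) (hn : Even n) :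
    (upperPSeries p G (n + 1)).1 =
      (pPrimeCore p (G ⧸ (upperPSeries p G n).1)).comap (QuotientGroup.mk' _) := by
  rw [upperPSeries]
  simp only [hn, if_true]

theorem upperPSeries_succ_odd (p : ℕ) (n : ℕ) (hn : ¬ Even n) :
    (upperPSeries p G (n + 1)).1 =
      (pCore p (G ⧸ (upperPSeries p G n).1)).comap (QuotientGroup.mk' _) := by
  rw [upperPSeries]
  simp only [hn, if_false]

/-- Structure of groups of `p`-length at most one. -/
theorem exists_normal_of_pLengthLE_one [Finite G] (p : ℕ) [hp : Fact p.Prime]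
    (hpl : PLengthLE p 1 G) :
    ∃ K : Subgroup G, K.Normal ∧ (Nat.card K).Coprime p ∧
      ∀ S : Sylow p G, ((K ⊔ (S : Subgroup G) : Subgroup G)).Normal := by
  set U0 := (upperPSeries p G 0).1 with hU0
  set U1 := (upperPSeries p G 1).1 with hU1
  set U2 := (upperPSeries p G 2).1 with hU2
  have hU3 : (upperPSeries p G 3).1 = ⊤ := hpl
  have hU0bot : U0 = ⊥ := rfl
  have e1 : U1 = (pPrimeCore p (G ⧸ U0)).comap (QuotientGroup.mk' U0) :=
    upperPSeries_succ_even p 0 (by decide)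
  have e2 : U2 = (pCore p (G ⧸ U1)).comap (QuotientGroup.mk' U1) :=
    upperPSeries_succ_odd p 1 (by decide)
  have e3 : (upperPSeries p G 3).1 = (pPrimeCore p (G ⧸ U2)).comap (QuotientGroup.mk' U2) :=
    upperPSeries_succ_even p 2 (by decide)
  have hc1 : Nat.card U1 = Nat.card (pPrimeCore p (G ⧸ U0)) := by
    rw [e1, card_comap_mk']
    have : Nat.card U0 = 1 := by
      have : Nat.card (⊥ : Subgroup G) = 1 := Subgroup.card_bot
      exact this
    rw [this, mul_one]
  have hcop1 : (Nat.card U1).Coprime p := by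
    rw [hc1]; exact card_pPrimeCore_coprime p
  have hc2 : Nat.card U2 = Nat.card (pCore p (G ⧸ U1)) * Nat.card U1 := by
    rw [e2, card_comap_mk']
  obtain ⟨a, ha⟩ := IsPGroup.iff_card.1 (pCore_isPGroup (G := G ⧸ U1) p)
  have hidx : (U2.index).Coprime p := by
    rw [e3] at hU3
    have htop : pPrimeCore p (G ⧸ U2) = ⊤ := by
      apply Subgroup.comap_injective (QuotientGroup.mk'_surjective U2)
      rw [hU3, Subgroup.comap_top]
    have := card_pPrimeCore_coprime (G := G ⧸ U2) p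
    rw [htop, Subgroup.card_top, ← Subgroup.index_eq_card] at this
    exact this
  have hU12 : U1 ≤ U2 := by
    rw [e2]
    intro x hx
    rw [Subgroup.mem_comap, QuotientGroup.mk'_apply, (QuotientGroup.eq_one_iff x).2 hx]
    exact Subgroup.one_mem _
  refine ⟨U1, inferInstance, hcop1, fun S => ?_⟩
  have hSU2 : (S : Subgroup G) ≤ U2 := by
    apply le_of_coprime_card_index
    obtain ⟨k, hk⟩ := IsPGroup.iff_card.1 S.2
    rw [hk]
    exact Nat.Coprime.pow_left _ (Nat.Coprime.symm hidx)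
  have hSK : (S : Subgroup G) ≤ Subgroup.normalizer (U1 : Set G) := by
    rw [Subgroup.normalizer_eq_top]; exact le_top
  have hdisj : (S : Subgroup G) ⊓ U1 = ⊥ := by
    apply inf_eq_bot_of_coprime_card
    obtain ⟨k, hk⟩ := IsPGroup.iff_card.1 S.2
    rw [hk]
    exact Nat.Coprime.pow_left _ (Nat.Coprime.symm hcop1)
  have hcardsup : Nat.card (U1 ⊔ (S : Subgroup G) : Subgroup G) = Nat.card S * Nat.card U1 :=
    card_sup_of_le_normalizer hSK hdisj
  have heq : U1 ⊔ (S : Subgroup G) = U2 := by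
    apply Subgroup.eq_of_le_of_card_ge (sup_le hU12 hSU2)
    rw [hcardsup, hc2, ha]
    apply Nat.mul_le_mul_right
    apply Nat.le_of_dvd Nat.card_pos
    have h1 : p ^ a ∣ Nat.card G := by
      have : p ^ a ∣ Nat.card U2 := by rw [hc2, ha]; exact dvd_mul_right _ _
      exact this.trans (Subgroup.card_subgroup_dvd_card U2)
    rw [← (S : Subgroup G).card_mul_index] at h1
    exact Nat.Coprime.dvd_of_dvd_mul_right
      (Nat.Coprime.pow_left _ ((Nat.Prime.coprime_iff_not_dvd hp.out).2 S.not_dvd_index)) h1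
  rw [heq]
  infer_instance

/-- Relative form of `exists_mul_of_conj_le`. -/
theorem exists_mul_of_conj_le' [Finite G] [Group.IsSolvable G] (K U H : Subgroup G)
    (hUK : U ≤ Subgroup.normalizer (K : Set G)) (hH : H ≤ U)
    (hcop : (Nat.card H).Coprime (Nat.card K)) (g : G) (hgKU : g ∈ K ⊔ U)
    (hg : H.map (MulAut.conj g).toMonoidHom ≤ U) :
    ∃ u ∈ U, ∃ c ∈ K ⊓ Subgroup.centralizer (H : Set G), g = u * c := by
  have hginv : g⁻¹ ∈ K ⊔ U := Subgroup.inv_mem _ hgKU
  obtain ⟨k', hk', u', hu', hgk⟩ := mem_sup_of_le_normalizer hUK hginv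
  set u := u'⁻¹ with hu
  set k := k'⁻¹ with hk
  have hgu : g = u * k := by
    have : g = (g⁻¹)⁻¹ := by group
    rw [this, hgk, mul_inv_rev]
  have huU : u ∈ U := U.inv_mem hu'
  have hkK : k ∈ K := K.inv_mem hk'
  have hkH : ∀ h ∈ H, k * h * k⁻¹ ∈ U := by
    intro h hh
    have h1 : g * h * g⁻¹ ∈ U := hg ⟨h, hh, rfl⟩
    have h2 : k * h * k⁻¹ = u⁻¹ * (g * h * g⁻¹) * u := by rw [hgu]; group
    rw [h2]
    exact U.mul_mem (U.mul_mem (U.inv_mem huU) h1) huU
  set D := K ⊓ U with hD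
  have hHD : H ≤ Subgroup.normalizer (D : Set G) := by
    apply le_normalizer_inf
    · exact hH.trans hUK
    · exact hH.trans Subgroup.le_normalizer
  set H₁ := MulAut.conj k • H with hH₁
  have hH₁le : H₁ ≤ D ⊔ H := by
    intro x hx
    rw [hH₁, mem_conj_smul] at hx
    set h := k⁻¹ * x * k with hh
    have hx' : x = k * h * k⁻¹ := by rw [hh]; group
    have hxU : x ∈ U := by rw [hx']; exact hkH h hx
    have e : x = (x * h⁻¹) * h := by group
    rw [e]
    refine Subgroup.mul_mem _ ((le_sup_left : D ≤ D ⊔ H) ?_) ((le_sup_right : H ≤ D ⊔ H) hx)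
    refine Subgroup.mem_inf.2 ⟨?_, U.mul_mem hxU (U.inv_mem (hH hx))⟩
    have e2 : x * h⁻¹ = k * (h * k⁻¹ * h⁻¹) := by rw [hx']; group
    rw [e2]
    exact K.mul_mem hkK ((Subgroup.mem_normalizer_iff.1 (hUK (hH hx)) k⁻¹).1 (K.inv_mem hkK))
  have hcard : Nat.card H₁ = Nat.card H := card_conj_smul k H
  have hcopD : (Nat.card D).Coprime (Nat.card H) :=
    Nat.Coprime.coprime_dvd_left (Subgroup.card_dvd_of_le inf_le_left) hcop.symm
  have hsolvD : Group.IsSolvable D := inferInstance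
  obtain ⟨n, hn, hnH⟩ := sz_conj_internal D H H₁ hHD hH₁le hcard hcopD (Or.inl hsolvD)
  set c := n⁻¹ * k with hc
  have hcK : c ∈ K := K.mul_mem (K.inv_mem (Subgroup.mem_inf.1 hn).1) hkK
  have hcN : c ∈ Subgroup.normalizer (H : Set G) := by
    apply mem_normalizer_of_conj_smul_eq
    rw [hc, map_mul, mul_smul, ← hH₁, ← hnH, ← mul_smul, ← map_mul, inv_mul_cancel, map_one,
      one_smul]
  have hdisj : K ⊓ H = ⊥ := inf_eq_bot_of_coprime_card hcop.symm
  have hcC : c ∈ Subgroup.centralizer (H : Set G) :=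
    inf_normalizer_le_centralizer (hH.trans hUK) hdisj (Subgroup.mem_inf.2 ⟨hcK, hcN⟩)
  refine ⟨u * n, U.mul_mem huU (Subgroup.mem_inf.1 hn).2, c, Subgroup.mem_inf.2 ⟨hcK, hcC⟩, ?_⟩
  rw [hgu, hc]; group

end Cfsg.Agent.Helper1
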