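import Mathlib
import Cfsg.Agent.Helper1.PLength1
import Cfsg.Agent.Helper1.OmegaOdd2
import Cfsg.Agent.Helper1.Fitting2
import Cfsg.Agent.Helper1.ThompsonSub

set_option autoImplicit false

namespace Cfsg.Agent.Helper1

open Cfsg
open scoped commutatorElement Pointwise

universe u

variable {G : Type u} [Group G]

theorem le_pPrimeCore_of_normalized_by_maxEA [Finite G] [Group.IsSolvable G] (p : ℕ)
    [hp : Fact p.Prime] (hp2 : p ≠ 2) (hpl : Cfsg.PLengthLE p 1 G) (E L : Subgroup G)
    (hE : Cfsg.IsElementaryAbelian p E)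
    (hEmax : ∀ B : Subgroup G, Cfsg.IsElementaryAbelian p B → E ≤ B → B = E)
    (hL : (Nat.card L).Coprime p) (hEL : E ≤ Subgroup.normalizer (L : Set G)) :
    L ≤ Cfsg.pPrimeCore p G := by
  obtain ⟨K₁, hK₁n, hK₁cop, hK₁S⟩ := exists_normal_of_pLengthLE_one p hpl
  set K := Cfsg.pPrimeCore p G with hK
  have hK₁K : K₁ ≤ K := le_pPrimeCore hK₁n hK₁cop
  have hEp : IsPGroup p E := isElementaryAbelian_isPGroup hE
  obtain ⟨S, hES⟩ := hEp.exists_le_sylow
  have hKSn : (K ⊔ (S : Subgroup G) : Subgroup G).Normal := by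
    have h1 := hK₁S S
    have : K ⊔ (S : Subgroup G) = K ⊔ (K₁ ⊔ (S : Subgroup G)) := by
      rw [← sup_assoc, sup_eq_left.2 hK₁K]
    rw [this]
    infer_instance
  have hKcop : (Nat.card K).Coprime p := card_pPrimeCore_coprime p
  set π := QuotientGroup.mk' K with hπ
  have hπs : Function.Surjective π := QuotientGroup.mk'_surjective K
  have hker : ∀ x : G, π x = 1 ↔ x ∈ K := fun x => by
    rw [hπ, QuotientGroup.mk'_apply, QuotientGroup.eq_one_iff]
  set Sb := (S : Subgroup G).map π with hSb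
  have hSbp : IsPGroup p Sb := S.2.map π
  have hSbeq : Sb = (K ⊔ (S : Subgroup G)).map π := by
    rw [Subgroup.map_sup, hπ, QuotientGroup.map_mk'_self, bot_sup_eq]
  have hSbn : Sb.Normal := by
    rw [hSbeq]; exact hKSn.map π hπs
  obtain ⟨kS, hkS⟩ := IsPGroup.iff_card.1 S.2
  have hdisj : K ⊓ (S : Subgroup G) = ⊥ := by
    apply inf_eq_bot_of_coprime_card
    rw [hkS]; exact Nat.Coprime.pow_right _ hKcop
  have hinj : ∀ s ∈ (S : Subgroup G), π s = 1 → s = 1 := by
    intro s hs h1
    have : s ∈ K ⊓ (S : Subgroup G) := Subgroup.mem_inf.2 ⟨(hker s).1 h1, hs⟩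
    rwa [hdisj, Subgroup.mem_bot] at this
  set Eb := E.map π with hEb
  have hEbS : Eb ≤ Sb := Subgroup.map_mono hES
  have hEbe : Cfsg.IsElementaryAbelian p Eb := IsElementaryAbelian_map hE π
  set L₀ := L ⊓ Subgroup.centralizer (E : Set G) with hL₀
  set Lb := L₀.map π with hLb
  have hLbcop : (Nat.card Lb).Coprime p := by
    apply Nat.Coprime.coprime_dvd_left (Subgroup.card_map_dvd L₀ π)
    exact Nat.Coprime.coprime_dvd_left (Subgroup.card_dvd_of_le inf_le_left) hL
  have hfix : ∀ x ∈ (Sb ⊓ Subgroup.centralizer (Eb : Set (G ⧸ K))), orderOf x = p →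
      Lb ≤ Subgroup.centralizer ({x} : Set (G ⧸ K)) := by
    intro xb hxb hord
    obtain ⟨hxS, hxC⟩ := Subgroup.mem_inf.1 hxb
    obtain ⟨s, hs, rfl⟩ := hxS
    have hsE : ∀ e ∈ E, s * e = e * s := by
      intro e he
      have h1 : s * e * s⁻¹ * e⁻¹ ∈ (S : Subgroup G) :=
        Subgroup.mul_mem _ (Subgroup.mul_mem _ (Subgroup.mul_mem _ hs (hES he))
          (Subgroup.inv_mem _ hs)) (Subgroup.inv_mem _ (hES he))
      have h2 : π (s * e * s⁻¹ * e⁻¹) = 1 := by
        have hc := Subgroup.mem_centralizer_iff.1 hxC (π e) (Subgroup.mem_map_of_mem π he)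
        simp only [map_mul, map_inv]
        rw [← hc]; group
      have h3 := hinj _ h1 h2
      have : s * e = (s * e * s⁻¹ * e⁻¹) * (e * s) := by group
      rw [this, h3, one_mul]
    have hsp : s ^ p = 1 := by
      apply hinj _ (Subgroup.pow_mem _ hs p)
      rw [map_pow]
      have h0 := pow_orderOf_eq_one (π s)
      rwa [hord] at h0
    set B := E ⊔ Subgroup.zpowers s with hB
    have hBe : Cfsg.IsElementaryAbelian p B := by
      apply IsElementaryAbelian_sup hE (isElementaryAbelian_zpowers hsp)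
      rw [Subgroup.zpowers_le, Subgroup.mem_centralizer_iff]
      intro e he
      exact (hsE e he).symm
    have hBE := hEmax B hBe le_sup_left
    have hsE' : s ∈ E := by
      rw [← hBE]; exact (le_sup_right : Subgroup.zpowers s ≤ B) (Subgroup.mem_zpowers s)
    rintro _ ⟨l, hl, rfl⟩
    rw [Subgroup.mem_centralizer_iff]
    intro y hy
    rw [Set.mem_singleton_iff] at hy
    subst hy
    rw [← map_mul, ← map_mul, Subgroup.mem_centralizer_iff.1 (Subgroup.mem_inf.1 hl).2 s hsE']
  have hLbN : Lb ≤ Subgroup.normalizer (Sb : Set (G ⧸ K)) := by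
    rw [Subgroup.normalizer_eq_top]; exact le_top
  have h1 : Lb ≤ Subgroup.centralizer (Sb : Set (G ⧸ K)) :=
    centralizes_of_centralizes_order_p_in_centralizer p hp2 Sb Eb Lb hSbp hEbS hEbe hLbN hLbcop hfix
  have h2 : Cfsg.pCore p (G ⧸ K) ≤ Sb := by
    have := pCore_le_sylow (S.mapSurjective hπs)
    rwa [Sylow.coe_mapSurjective] at this
  have h3 : Lb ≤ Cfsg.pCore p (G ⧸ K) :=
    h1.trans ((Subgroup.centralizer_le h2).trans
      (centralizer_pCore_le p (pPrimeCore_quotient_pPrimeCore p)))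
  have hLbbot : Lb = ⊥ := by
    have h4 : Lb ⊓ Cfsg.pCore p (G ⧸ K) = ⊥ := by
      apply inf_eq_bot_of_coprime_card
      obtain ⟨k, hk⟩ := IsPGroup.iff_card.1 (pCore_isPGroup (G := G ⧸ K) p)
      rw [hk]; exact Nat.Coprime.pow_right _ hLbcop
    rw [← h4]; exact (inf_eq_left.2 h3).symm
  have hL₀K : L₀ ≤ K := by
    intro l hl
    rw [← hker]
    have : π l ∈ Lb := Subgroup.mem_map_of_mem π hl
    rwa [hLbbot, Subgroup.mem_bot] at this
  -- the commutator part
  have hcommK : ⁅L, E⁆ ≤ K := by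
    intro x hx
    have hxL : x ∈ L := (Subgroup.le_normalizer_iff_commutator_le_left.1 hEL) hx
    have hxKS : x ∈ K ⊔ (S : Subgroup G) := by
      have : ⁅L, E⁆ ≤ K ⊔ (S : Subgroup G) :=
        (Subgroup.commutator_mono le_top (hES.trans le_sup_right)).trans
          (Subgroup.commutator_le_right _ _)
      exact this hx
    have hπx : π x ∈ Sb := by rw [hSbeq]; exact Subgroup.mem_map_of_mem π hxKS
    obtain ⟨j, hj⟩ := hSbp ⟨π x, hπx⟩
    have hj' : (π x) ^ (p ^ j) = 1 := by
      have := congrArg Subtype.val hj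
      simpa using this
    have ho1 : orderOf (π x) ∣ p ^ j := orderOf_dvd_of_pow_eq_one hj'
    have ho2 : orderOf (π x) ∣ Nat.card L :=
      (orderOf_map_dvd π x).trans (by
        have := orderOf_dvd_natCard (⟨x, hxL⟩ : L)
        rwa [Subgroup.orderOf_mk] at this)
    have : orderOf (π x) = 1 :=
      Nat.eq_one_of_dvd_coprimes (Nat.Coprime.pow_right j hL).symm ho1 ho2
    rw [orderOf_eq_one_iff] at this
    exact (hker x).1 this
  have hEcop : (Nat.card E).Coprime (Nat.card L) := by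
    obtain ⟨k, hk⟩ := IsPGroup.iff_card.1 hEp
    rw [hk]; exact Nat.Coprime.pow_left _ hL.symm
  have hdec := coprime_commutator_sup_centralizer E L hEL hEcop (Or.inl inferInstance)
  rw [← hdec]
  exact sup_le hcommK hL₀K

end Cfsg.Agent.Helper1
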