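import Mathlib
import Cfsg.Prelude.Def_Transfer
import Cfsg.Agent.Helper1.CyclicMaxSub
import Cfsg.Agent.Helper1.Hall
import Cfsg.Agent.Helper5.PGroupCenter

set_option autoImplicit false

/-!
For odd `p`, a non-cyclic normal subgroup of a `p`-group contains a normal elementary abelian
subgroup of order `p²`.
-/

namespace Cfsg.Agent.Helper1

universe u

variable {R : Type u} [Group R] [Finite R]

/-- A nontrivial normal subgroup `S` of a `p`-group has an `R`-normal subgroup of index `p`. -/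
theorem exists_normal_index_p_in_normal {p : ℕ} [hp : Fact p.Prime] (hR : IsPGroup p R)
    (S : Subgroup R) [hSn : S.Normal] (hS : S ≠ ⊥) :
    ∃ M : Subgroup R, M.Normal ∧ M ≤ S ∧ Nat.card S = p * Nat.card M := by
  let 𝒯 : Set (Subgroup R) := {M | M.Normal ∧ M < S}
  have hbot : (⊥ : Subgroup R) ∈ 𝒯 := ⟨inferInstance, bot_lt_iff_ne_bot.2 hS⟩
  obtain ⟨M, -, hMmax⟩ := (Set.toFinite 𝒯).exists_le_maximal hbot
  obtain ⟨hMn, hMS⟩ : M ∈ 𝒯 := hMmax.prop
  refine ⟨M, hMn, hMS.le, ?_⟩
  have hQ : IsPGroup p (R ⧸ M) := hR.to_quotient M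
  set S' : Subgroup (R ⧸ M) := S.map (QuotientGroup.mk' M) with hS'
  haveI hS'n : S'.Normal := hSn.map _ (QuotientGroup.mk'_surjective M)
  have hS'ne : S' ≠ ⊥ := by
    intro h
    have h1 : S ≤ M := by
      have := (Subgroup.map_eq_bot_iff S).1 h
      rwa [QuotientGroup.ker_mk'] at this
    exact (lt_of_lt_of_le hMS h1).ne rfl
  obtain ⟨x, hxS', hx1, hxc⟩ := Cfsg.Agent.Helper5.exists_ne_one_mem_center_of_normal hQ S' hS'ne
  obtain ⟨k, hk⟩ := (IsPGroup.iff_orderOf.1 hQ) x
  have hk0 : k ≠ 0 := by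
    intro h0
    rw [h0, pow_zero, orderOf_eq_one_iff] at hk
    exact hx1 hk
  set y := x ^ p ^ (k - 1) with hy
  have hyord : orderOf y = p := by
    rw [hy, orderOf_pow_of_dvd (pow_ne_zero _ hp.out.ne_zero) (by rw [hk]; exact pow_dvd_pow p (by omega)),
      hk]
    have := Nat.pow_div (show k - 1 ≤ k by omega) hp.out.pos
    rw [this, show k - (k - 1) = 1 by omega, pow_one]
  have hyS' : y ∈ S' := Subgroup.pow_mem _ hxS' _
  have hyc : ∀ t, t * y = y * t := by
    intro t
    exact ((Commute.pow_right (hxc t) _)).eq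
  set T' : Subgroup (R ⧸ M) := Subgroup.zpowers y with hT'
  have hT'n : T'.Normal := by
    constructor
    intro n hn t
    obtain ⟨j, rfl⟩ := Subgroup.mem_zpowers_iff.1 hn
    have : t * y ^ j * t⁻¹ = y ^ j := by
      have hc : Commute t (y ^ j) := Commute.zpow_right (hyc t) j
      rw [hc.eq, mul_inv_cancel_right]
    rw [this]; exact Subgroup.zpow_mem _ (Subgroup.mem_zpowers y) j
  have hT'card : Nat.card T' = p := by rw [hT', Nat.card_zpowers, hyord]
  have hT'S' : T' ≤ S' := Subgroup.zpowers_le.2 hyS'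
  set T : Subgroup R := T'.comap (QuotientGroup.mk' M) with hT
  have hTn : T.Normal := hT'n.comap _
  have hMT : M ≤ T := by
    intro m hm
    rw [hT, Subgroup.mem_comap]
    have : QuotientGroup.mk' M m = 1 := (QuotientGroup.eq_one_iff m).2 hm
    rw [this]; exact Subgroup.one_mem _
  have hTS : T ≤ S := by
    have h1 : T ≤ S'.comap (QuotientGroup.mk' M) := Subgroup.comap_mono hT'S'
    rw [hS', Subgroup.comap_map_eq, QuotientGroup.ker_mk', sup_of_le_left hMS.le] at h1
    exact h1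
  have hTmap : T.map (QuotientGroup.mk' M) = T' :=
    Subgroup.map_comap_eq_self_of_surjective (QuotientGroup.mk'_surjective M) T'
  have hMneT : M ≠ T := by
    intro h
    have h1 : T' = ⊥ := by
      rw [← hTmap, ← h, Subgroup.map_eq_bot_iff, QuotientGroup.ker_mk']
    rw [h1, Subgroup.card_bot] at hT'card
    exact hp.out.one_lt.ne hT'card
  have hTeqS : T = S := by
    by_contra hne
    have hTlt : T < S := lt_of_le_of_ne hTS hne
    have := hMmax.2 (show T ∈ 𝒯 from ⟨hTn, hTlt⟩) hMT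
    exact hMneT (le_antisymm hMT this)
  have := card_map_mk'_mul_card M T hMT
  rw [hTmap, hT'card, hTeqS] at this
  exact this.symm

theorem exists_normal_elementary_p2_aux {p : ℕ} [hp : Fact p.Prime] (hp2 : p ≠ 2)
    (hR : IsPGroup p R) : ∀ (n : ℕ) (S : Subgroup R), S.Normal → Nat.card S = n → ¬ IsCyclic S →
      ∃ A : Subgroup R, A ≤ S ∧ A.Normal ∧ Cfsg.IsElementaryAbelian p A ∧ Nat.card A = p ^ 2 := by
  intro n
  induction n using Nat.strong_induction_on with
  | _ n ih =>
  intro S hSn hn hnc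
  have hSne : S ≠ ⊥ := by
    rintro rfl
    exact hnc inferInstance
  obtain ⟨M, hMn, hMS, hcard⟩ := exists_normal_index_p_in_normal hR S hSne
  by_cases hMc : IsCyclic M
  · -- `S` has a cyclic subgroup of index `p`
    have hSp : IsPGroup p S := hR.to_subgroup S
    have hCc : IsCyclic (M.subgroupOf S) :=
      isCyclic_of_surjective (Subgroup.subgroupOfEquivOfLe hMS).symm.toMonoidHom
        (Subgroup.subgroupOfEquivOfLe hMS).symm.surjective
    have hCi : (M.subgroupOf S).index = p := by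
      have h1 := (M.subgroupOf S).card_mul_index
      rw [card_subgroupOf_of_le hMS, hcard, mul_comm] at h1
      exact Nat.eq_of_mul_eq_mul_right Nat.card_pos h1
    obtain ⟨K, hK, hKcard, hKcomm⟩ := omega_of_cyclic_index_p hp2 hSp hnc _ hCc hCi
    refine ⟨K.map S.subtype, Subgroup.map_subtype_le _, ?_, ⟨?_, ?_⟩, ?_⟩
    · constructor
      rintro _ ⟨a, ha, rfl⟩ r
      have hmem : r * (a : R) * r⁻¹ ∈ S := hSn.conj_mem _ a.2 r
      refine ⟨⟨_, hmem⟩, ?_, rfl⟩
      have ha' : a ∈ (K : Set S) := ha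
      rw [hK] at ha'
      have hgoal : (⟨r * (a : R) * r⁻¹, hmem⟩ : S) ∈ (K : Set S) := by
        rw [hK]
        show (⟨r * (a : R) * r⁻¹, hmem⟩ : S) ^ p = 1
        apply Subtype.ext
        have h1 : ((a : R)) ^ p = 1 := by
          have := congrArg Subtype.val ha'
          simpa using this
        simp only [Subgroup.coe_pow, Subgroup.coe_one]
        rw [conj_pow, h1]; group
      exact hgoal
    · refine ⟨⟨fun a b => ?_⟩⟩
      obtain ⟨a₀, ha₀, ha⟩ := a.2
      obtain ⟨b₀, hb₀, hb⟩ := b.2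
      apply Subtype.ext
      have h1 := hKcomm a₀ ha₀ b₀ hb₀
      have h2 := congrArg Subtype.val h1
      simp only [Subgroup.coe_mul] at h2 ⊢
      rw [← ha, ← hb]
      exact h2
    · rintro _ ⟨a, ha, rfl⟩
      have ha' : a ∈ (K : Set S) := ha
      rw [hK] at ha'
      have := congrArg Subtype.val ha'
      simpa using this
    · rw [Subgroup.card_map_of_injective S.subtype_injective, hKcard]
  · have hlt : Nat.card M < n := by
      rw [← hn, hcard]
      have : 0 < Nat.card M := Nat.card_pos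
      have := hp.out.one_lt
      nlinarith
    obtain ⟨A, hAM, hAn, hAe, hAc⟩ := ih _ hlt M hMn rfl hMc
    exact ⟨A, hAM.trans hMS, hAn, hAe, hAc⟩

theorem exists_normal_elementary_p2 {p : ℕ} [hp : Fact p.Prime] (hp2 : p ≠ 2)
    (hR : IsPGroup p R) (S : Subgroup R) [hS : S.Normal] (hnc : ¬ IsCyclic S) :
    ∃ A : Subgroup R, A ≤ S ∧ A.Normal ∧ Cfsg.IsElementaryAbelian p A ∧ Nat.card A = p ^ 2 :=
  exists_normal_elementary_p2_aux hp2 hR _ S hS rfl hnc

end Cfsg.Agent.Helper1

namespace Cfsg.Agent.Helper1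

universe u

theorem exists_normal_elementary_p2_top {R : Type u} [Group R] [Finite R] {p : ℕ}
    [hp : Fact p.Prime] (hp2 : p ≠ 2) (hR : IsPGroup p R) (hnc : ¬ IsCyclic R) :
    ∃ A : Subgroup R, A.Normal ∧ Cfsg.IsElementaryAbelian p A ∧ Nat.card A = p ^ 2 := by
  have hnc' : ¬ IsCyclic (⊤ : Subgroup R) := by
    intro h
    exact hnc (isCyclic_of_surjective Subgroup.topEquiv.toMonoidHom Subgroup.topEquiv.surjective)
  obtain ⟨A, -, hAn, hAe, hAc⟩ := exists_normal_elementary_p2 hp2 hR ⊤ hnc'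
  exact ⟨A, hAn, hAe, hAc⟩

end Cfsg.Agent.Helper1
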