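import Mathlib
import Cfsg.Agent.Helper1.Basic
import Cfsg.Agent.Helper1.Hall
import Cfsg.Agent.Helper1.Nilp
import Cfsg.Agent.Helper1.NormalEA2
import Cfsg.Agent.Helper1.CyclicMaxOdd
import Cfsg.Agent.Helper5.PGroupCenter

set_option autoImplicit false

/-!
`|G| ≤ p^(a(a+1)/2)` for a `p`-group with a maximal normal abelian subgroup of order `p^a`.
-/

namespace Cfsg.Agent.Helper1

open scoped commutatorElement

universe u

variable {G : Type u} [Group G]

theorem commutator_le_of_normal_index_p [Finite G] {p : ℕ} [hp : Fact p.Prime]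
    (hG : IsPGroup p G) (B M : Subgroup G) [hBn : B.Normal] [hMn : M.Normal] (hMB : M ≤ B)
    (hcard : Nat.card B = p * Nat.card M) : ⁅B, (⊤ : Subgroup G)⁆ ≤ M := by
  have hQ : IsPGroup p (G ⧸ M) := hG.to_quotient M
  set B' : Subgroup (G ⧸ M) := B.map (QuotientGroup.mk' M) with hB'
  haveI hB'n : B'.Normal := hBn.map _ (QuotientGroup.mk'_surjective M)
  have hB'card : Nat.card B' = p := by
    have h1 := card_map_mk'_mul_card M B hMB
    rw [hcard] at h1
    exact Nat.eq_of_mul_eq_mul_right Nat.card_pos h1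
  have hB'ne : B' ≠ ⊥ := by
    intro h
    rw [h, Subgroup.card_bot] at hB'card
    exact hp.out.one_lt.ne hB'card
  obtain ⟨x, hxB', hx1, hxc⟩ := Cfsg.Agent.Helper5.exists_ne_one_mem_center_of_normal hQ B' hB'ne
  have hzp : Subgroup.zpowers x = B' := by
    apply Subgroup.eq_of_le_of_card_ge (Subgroup.zpowers_le.2 hxB')
    rw [hB'card, Nat.card_zpowers]
    have h1 : orderOf x ∣ p := by
      rw [← hB'card]
      have := orderOf_dvd_natCard (⟨x, hxB'⟩ : B')
      rwa [Subgroup.orderOf_mk] at this
    rcases (Nat.dvd_prime hp.out).1 h1 with h2 | h2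
    · exact absurd (orderOf_eq_one_iff.1 h2) hx1
    · exact h2.ge
  rw [Subgroup.commutator_le]
  intro b hb g _
  have h1 : (QuotientGroup.mk' M) b ∈ B' := Subgroup.mem_map_of_mem _ hb
  rw [← hzp] at h1
  obtain ⟨j, hj⟩ := Subgroup.mem_zpowers_iff.1 h1
  have h2 : (QuotientGroup.mk' M) ⁅b, g⁆ = 1 := by
    rw [map_commutatorElement, ← hj, commutatorElement_eq_one_iff_mul_comm]
    have hc : Commute ((QuotientGroup.mk' M) g) x := hxc _
    exact (hc.zpow_right j).eq.symm
  rwa [← MonoidHom.mem_ker, QuotientGroup.ker_mk'] at h2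

/-- the commutator hom `C(M) → M`, `g ↦ [g, x]` -/
theorem relIndex_centralizer_le [Finite G] {p : ℕ} (hp : p.Prime) (B M : Subgroup G)
    [hMc : IsMulCommutative M]
    (hMB : M ≤ B) (hcomm : ⁅B, (⊤ : Subgroup G)⁆ ≤ M) (hidx : M.relIndex B = p) :
    (Subgroup.centralizer (B : Set G)).relIndex (Subgroup.centralizer (M : Set G)) ≤
      Nat.card M := by
  -- pick `x ∈ B \\ M`
  obtain ⟨x, hxB, hxM⟩ : ∃ x ∈ B, x ∉ M := by
    by_contra hcon
    push Not at hcon
    have : B ≤ M := hcon
    rw [Subgroup.relIndex_eq_one.2 this] at hidx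
    exact hp.one_lt.ne hidx
  have hmem : ∀ g : G, ⁅g, x⁆ ∈ M := by
    intro g
    apply hcomm
    have h1 : ⁅x, g⁆ ∈ ⁅B, (⊤ : Subgroup G)⁆ :=
      Subgroup.commutator_mem_commutator hxB (Subgroup.mem_top g)
    have h2 := Subgroup.inv_mem _ h1
    rwa [commutatorElement_inv] at h2
  let φ : Subgroup.centralizer (M : Set G) →* M :=
    { toFun := fun g => ⟨⁅(g : G), x⁆, hmem g⟩
      map_one' := by
        apply Subtype.ext
        simp
      map_mul' := by
        intro g h
        apply Subtype.ext
        show ⁅(g : G) * (h : G), x⁆ = ⁅(g : G), x⁆ * ⁅(h : G), x⁆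
        have h1 : (g : G) * ⁅(h : G), x⁆ = ⁅(h : G), x⁆ * (g : G) :=
          (Subgroup.mem_centralizer_iff.1 g.2 _ (hmem h)).symm
        have h2 : ⁅(g : G), x⁆ * ⁅(h : G), x⁆ = ⁅(h : G), x⁆ * ⁅(g : G), x⁆ := by
          have := mul_comm' (⟨_, hmem g⟩ : M) ⟨_, hmem h⟩
          exact congrArg Subtype.val this
        rw [h2]
        have h3 : ⁅(g : G) * (h : G), x⁆ = ((g : G) * ⁅(h : G), x⁆) * x * (g : G)⁻¹ * x⁻¹ := by
          simp only [commutatorElement_def]; group
        rw [h3, h1]
        simp only [commutatorElement_def]; group }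
  have hker : φ.ker = (Subgroup.centralizer (B : Set G)).subgroupOf
      (Subgroup.centralizer (M : Set G)) := by
    ext g
    rw [MonoidHom.mem_ker, Subgroup.mem_subgroupOf]
    constructor
    · intro hg
      have hgx : ⁅(g : G), x⁆ = 1 := congrArg Subtype.val hg
      rw [commutatorElement_eq_one_iff_mul_comm] at hgx
      -- `C(g)` contains `M` and `x`, hence `B`
      have h1 : M ≤ Subgroup.centralizer ({(g : G)} : Set G) := by
        intro m hm
        rw [Subgroup.mem_centralizer_iff]
        intro y hy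
        rw [Set.mem_singleton_iff] at hy; subst hy
        exact (Subgroup.mem_centralizer_iff.1 g.2 m hm).symm
      have h2 : x ∈ Subgroup.centralizer ({(g : G)} : Set G) := by
        rw [Subgroup.mem_centralizer_iff]
        intro y hy
        rw [Set.mem_singleton_iff] at hy; subst hy
        exact hgx
      have h3 : B ≤ Subgroup.centralizer ({(g : G)} : Set G) := by
        have h4 : (M.subgroupOf B).index = p := hidx
        have h5 : (Subgroup.centralizer ({(g : G)} : Set G)).subgroupOf B = ⊤ := by
          apply eq_top_of_index_prime hp h4 (b := ⟨x, hxB⟩)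
          · intro y hy
            exact Subgroup.mem_subgroupOf.2 (h1 (Subgroup.mem_subgroupOf.1 hy))
          · exact Subgroup.mem_subgroupOf.2 h2
          · intro hx'
            exact hxM (Subgroup.mem_subgroupOf.1 hx')
        exact Subgroup.subgroupOf_eq_top.1 h5
      rw [Subgroup.mem_centralizer_iff]
      intro b hb
      have := Subgroup.mem_centralizer_iff.1 (h3 hb) (g : G) rfl
      exact this.symm
    · intro hg
      apply Subtype.ext
      show ⁅(g : G), x⁆ = 1
      rw [commutatorElement_eq_one_iff_mul_comm]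
      exact (Subgroup.mem_centralizer_iff.1 hg x hxB).symm
  have h1 : φ.ker.index = Nat.card φ.range := Subgroup.index_ker φ
  rw [Subgroup.relIndex, ← hker, h1]
  exact Subgroup.card_le_card_group φ.range

theorem index_centralizer_le [Finite G] {p : ℕ} [hp : Fact p.Prime] (hG : IsPGroup p G) :
    ∀ (b : ℕ) (B : Subgroup G), B.Normal → IsMulCommutative B → Nat.card B = p ^ b →
      (Subgroup.centralizer (B : Set G)).index ≤ p ^ (b * (b - 1) / 2) := by
  intro b
  induction b with
  | zero =>
    intro B _ _ hcard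
    rw [pow_zero] at hcard
    have : B = ⊥ := Subgroup.card_eq_one.1 hcard
    subst this
    have h0 : Subgroup.centralizer ((⊥ : Subgroup G) : Set G) = ⊤ := by
      rw [Subgroup.centralizer_eq_top_iff_subset]
      intro x hx
      rw [Subgroup.coe_bot, Set.mem_singleton_iff] at hx
      subst hx; exact Subgroup.one_mem _
    rw [h0, Subgroup.index_top]
    simp
  | succ b ih =>
    intro B hBn hBc hcard
    have hBne : B ≠ ⊥ := by
      intro h
      rw [h, Subgroup.card_bot] at hcard
      have := Nat.one_lt_pow (Nat.succ_ne_zero b) hp.out.one_lt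
      exact (ne_of_lt this) hcard
    obtain ⟨M, hMn, hMB, hMcard⟩ := exists_normal_index_p_in_normal hG B hBne
    have hMcard' : Nat.card M = p ^ b := by
      rw [hcard, pow_succ, mul_comm] at hMcard
      exact (Nat.eq_of_mul_eq_mul_left hp.out.pos hMcard).symm
    haveI hMc : IsMulCommutative M := by
      refine ⟨⟨fun x y => ?_⟩⟩
      apply Subtype.ext
      have := mul_comm' (⟨x, hMB x.2⟩ : B) ⟨y, hMB y.2⟩
      have h : (x : G) * (y : G) = (y : G) * (x : G) := congrArg Subtype.val this
      exact h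
    have hcomm := commutator_le_of_normal_index_p hG B M hMB hMcard
    have hidx : M.relIndex B = p := by
      have h1 := relIndex_mul_card_of_le hMB
      rw [hMcard] at h1
      exact Nat.eq_of_mul_eq_mul_right Nat.card_pos h1
    have h1 := relIndex_centralizer_le hp.out B M hMB hcomm hidx
    have h2 := ih M hMn hMc hMcard'
    have hle : Subgroup.centralizer (B : Set G) ≤ Subgroup.centralizer (M : Set G) :=
      Subgroup.centralizer_le hMB
    rw [← Subgroup.relIndex_mul_index hle]
    have h3 : (b + 1) * (b + 1 - 1) / 2 = b + b * (b - 1) / 2 := by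
      rw [Nat.add_sub_cancel]
      rcases Nat.eq_zero_or_pos b with rfl | hb
      · simp
      · obtain ⟨c, rfl⟩ : ∃ c, b = c + 1 := ⟨b - 1, by omega⟩
        rw [Nat.add_sub_cancel]
        have : (c + 1 + 1) * (c + 1) = 2 * (c + 1) + (c + 1) * c := by ring
        rw [this, Nat.mul_add_div (by norm_num)]
    rw [h3, pow_add]
    rw [hMcard'] at h1
    exact Nat.mul_le_mul h1 h2

theorem card_le_of_maximal_normal_abelian [Finite G] {p : ℕ} [hp : Fact p.Prime]
    (hG : IsPGroup p G) (A : Subgroup G) [A.Normal] (hA : IsMulCommutative A)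
    (hmax : ∀ B : Subgroup G, B.Normal → IsMulCommutative B → A ≤ B → B = A) (a : ℕ)
    (ha : Nat.card A = p ^ a) : Nat.card G ≤ p ^ (a * (a + 1) / 2) := by
  haveI := hG.isNilpotent
  have hC : Subgroup.centralizer (A : Set G) = A := centralizer_eq_of_maximal_abelian_normal A hmax
  have h1 := index_centralizer_le hG a A inferInstance hA ha
  rw [hC] at h1
  rw [← A.card_mul_index, ha]
  have h3 : a * (a + 1) / 2 = a + a * (a - 1) / 2 := by
    rcases Nat.eq_zero_or_pos a with rfl | hb
    · simp
    · obtain ⟨c, rfl⟩ : ∃ c, a = c + 1 := ⟨a - 1, by omega⟩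
      rw [Nat.add_sub_cancel]
      have : (c + 1) * (c + 1 + 1) = 2 * (c + 1) + (c + 1) * c := by ring
      rw [this, Nat.mul_add_div (by norm_num)]
  rw [h3, pow_add]
  exact Nat.mul_le_mul_left _ h1

end Cfsg.Agent.Helper1
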