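import Mathlib
import Cfsg.Agent.Helper1.Basic
import Cfsg.Agent.Helper1.Alperin
import Cfsg.Agent.Helper1.NormalEA2
import Cfsg.Agent.Helper1.MaxNormalAbelianBound

set_option autoImplicit false

/-!
For odd `p`, a `p`-group without normal elementary abelian subgroups of order `p ^ 3` has no
elementary abelian subgroups of order greater than `p ^ 2`.
-/

namespace Cfsg.Agent.Helper1

universe u

variable {P : Type u} [Group P]

theorem exists_normal_le_card [Finite P] {p : ℕ} [hp : Fact p.Prime] (hP : IsPGroup p P) :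
    ∀ (d k : ℕ) (S : Subgroup P), S.Normal → Nat.card S = p ^ (k + d) →
      ∃ M : Subgroup P, M.Normal ∧ M ≤ S ∧ Nat.card M = p ^ k := by
  intro d
  induction d with
  | zero => intro k S hSn hS; exact ⟨S, hSn, le_rfl, hS⟩
  | succ d ih =>
    intro k S hSn hS
    have hSne : S ≠ ⊥ := by
      intro hbot
      rw [hbot, Subgroup.card_bot] at hS
      have : 1 < p ^ (k + (d + 1)) := Nat.one_lt_pow (by omega) hp.out.one_lt
      omega
    obtain ⟨M, hMn, hMS, hMcard⟩ := exists_normal_index_p_in_normal hP S hSne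
    have hM : Nat.card M = p ^ (k + d) := by
      have h1 : p * Nat.card M = p * p ^ (k + d) := by
        rw [← hMcard, hS, ← pow_succ']; rfl
      exact Nat.eq_of_mul_eq_mul_left hp.out.pos h1
    obtain ⟨M', hM'n, hM'M, hM'card⟩ := ih k M hMn hM
    exact ⟨M', hM'n, hM'M.trans hMS, hM'card⟩

theorem prank_le_two [Finite P] {p : ℕ} [hp : Fact p.Prime] (hp2 : p ≠ 2) (hP : IsPGroup p P)
    (h : ∀ A : Subgroup P, A.Normal → IsMulCommutative A → (∀ a ∈ A, a ^ p = 1) →
      Nat.card A ≠ p ^ 3)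
    (E : Subgroup P) (hE : IsMulCommutative E) (hEe : ∀ e ∈ E, e ^ p = 1) :
    Nat.card E ≤ p ^ 2 := by
  classical
  let 𝒜 : Set (Subgroup P) := {A | A.Normal ∧ IsMulCommutative A ∧ ∀ a ∈ A, a ^ p = 1}
  have hbot : (⊥ : Subgroup P) ∈ 𝒜 := by
    refine ⟨inferInstance, ?_, ?_⟩
    · constructor; constructor
      rintro ⟨a, ha⟩ ⟨b, hb⟩
      apply Subtype.ext
      rw [Subgroup.mem_bot] at ha hb
      show a * b = b * a
      rw [ha, hb]
    · intro a ha
      rw [Subgroup.mem_bot] at ha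
      rw [ha, one_pow]
  obtain ⟨A, -, hAmax⟩ := (Set.toFinite 𝒜).exists_le_maximal hbot
  obtain ⟨hAn, hAc, hAe⟩ : A ∈ 𝒜 := hAmax.prop
  haveI := hAn
  have hmax : ∀ B : Subgroup P, B.Normal → IsMulCommutative B → (∀ b ∈ B, b ^ p ^ 1 = 1) →
      A ≤ B → B = A := by
    intro B hBn hBc hBe hAB
    have hB : B ∈ 𝒜 := ⟨hBn, hBc, fun b hb => by simpa using hBe b hb⟩
    exact le_antisymm (hAmax.le_of_ge hB hAB) hAB
  have halp : ∀ x ∈ Subgroup.centralizer (A : Set P), x ^ p = 1 → x ∈ A := by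
    intro x hx hxp
    exact alperin_omega hP 1 (by simpa using hp2) A hAc (fun a ha => by simpa using hAe a ha)
      hmax x hx (by simpa using hxp)
  obtain ⟨k, hk⟩ := IsPGroup.iff_card.1 (hP.to_subgroup A)
  have hk2 : k ≤ 2 := by
    by_contra hk3
    rw [not_le] at hk3
    obtain ⟨M, hMn, hMA, hMcard⟩ := exists_normal_le_card hP (k - 3) 3 A hAn
      (by rw [hk]; congr 1; omega)
    refine h M hMn ?_ (fun a ha => hAe a (hMA ha)) hMcard
    constructor; constructor
    rintro ⟨a, ha⟩ ⟨b, hb⟩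
    apply Subtype.ext
    show a * b = b * a
    exact congrArg Subtype.val (hAc.is_comm.comm ⟨a, hMA ha⟩ ⟨b, hMA hb⟩)
  set C := Subgroup.centralizer (A : Set P) with hC
  haveI hCn : C.Normal := Subgroup.normal_centralizer
  have hE0 : E ⊓ C ≤ A := fun x hx => halp x hx.2 (hEe x hx.1)
  have hidx : C.index ≤ p := by
    have h1 := index_centralizer_le hP k A hAn hAc hk
    have h2 : k * (k - 1) / 2 ≤ 1 := by interval_cases k <;> simp
    calc C.index ≤ p ^ (k * (k - 1) / 2) := h1
      _ ≤ p ^ 1 := Nat.pow_le_pow_right hp.out.pos h2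
      _ = p := pow_one p
  have hr : C.relIndex E ≤ p := by
    have h1 : C.relIndex E ∣ C.index := Subgroup.relIndex_dvd_index_of_normal C E
    exact (Nat.le_of_dvd (Nat.pos_of_ne_zero Subgroup.index_ne_zero_of_finite) h1).trans hidx
  have hcardE : C.relIndex E * Nat.card (E ⊓ C : Subgroup P) = Nat.card E := by
    rw [← Subgroup.inf_relIndex_left E C]  
    exact relIndex_mul_card_of_le inf_le_left
  obtain ⟨j, hj⟩ := IsPGroup.iff_card.1 (hP.to_subgroup (E ⊓ C))
  have hjk : p ^ j ≤ p ^ k := by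
    rw [← hj, ← hk]; exact Subgroup.card_le_of_le hE0
  by_cases hEC : E ≤ C
  · have h1 : E ⊓ C = E := inf_eq_left.2 hEC
    rw [h1] at hj
    rw [hj]
    exact hjk.trans (Nat.pow_le_pow_right hp.out.pos hk2)
  · have hj1 : j ≤ 1 := by
      by_contra hj2
      rw [not_le] at hj2
      have hjk' : j ≤ k := (Nat.pow_le_pow_iff_right hp.out.one_lt).1 hjk
      have hjk2 : j = k := by omega
      have hEA : E ⊓ C = A := by
        apply Subgroup.eq_of_le_of_card_ge hE0
        rw [hj, hk, hjk2]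
      apply hEC
      intro e he
      rw [hC, Subgroup.mem_centralizer_iff]
      intro a ha
      have haE : a ∈ E := by
        have : a ∈ E ⊓ C := by rw [hEA]; exact ha
        exact this.1
      exact congrArg Subtype.val (hE.is_comm.comm ⟨a, haE⟩ ⟨e, he⟩)
    rw [← hcardE, hj]
    calc C.relIndex E * p ^ j ≤ p * p ^ 1 :=
          Nat.mul_le_mul hr (Nat.pow_le_pow_right hp.out.pos hj1)
      _ = p ^ 2 := by ring

end Cfsg.Agent.Helper1
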