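import Mathlib
import Cfsg.Agent.Helper1.BGTh
import Cfsg.Agent.Helper1.PRankTwo
import Cfsg.Agent.Helper1.PLength1c
import Cfsg.Agent.Helper2.GenHyper

set_option autoImplicit false

/-!
Bender–Glauberman, Section 7, Theorem 7.6 (`S1396`): the transitivity hypothesis holds for a normal
self-centralizing subgroup of rank at least two of a Sylow subgroup, and for `Ω₁(C_G(A))` when all
proper subgroups have `p`-length one.
-/

namespace Cfsg.Agent.Helper1.BGT

open Cfsg Cfsg.Agent.Helper1 Cfsg.Agent.Helper2 Cfsg.Agent.Helper5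
open scoped Pointwise commutatorElement

universe u

variable {G : Type u} [Group G] [Finite G]

/-- `O_{π'}` for `π' = ` the primes not dividing a power of `p` is `O_{p'}`. -/
theorem piCore_eq_pPrimeCore {H : Type u} [Group H] [Finite H] (p n : ℕ) [hp : Fact p.Prime]
    (hn : ∀ q : ℕ, q.Prime → (q ∣ n ↔ q = p)) :
    Cfsg.piCore (Cfsg.primesNotDvd n) H = Cfsg.pPrimeCore p H := by
  unfold Cfsg.piCore Cfsg.pPrimeCore
  congr 1
  ext N
  simp only [Set.mem_setOf_eq]
  constructor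
  · rintro ⟨hN, h⟩
    refine ⟨hN, ?_⟩
    rw [Nat.coprime_comm, Nat.Prime.coprime_iff_not_dvd hp.out]
    intro hd
    exact (h p hp.out hd).2 ((hn p hp.out).mpr rfl)
  · rintro ⟨hN, h⟩
    refine ⟨hN, fun q hq hd => ⟨hq, fun hqn => ?_⟩⟩
    have hqp := (hn q hq).mp hqn
    subst hqp
    exact (Nat.Prime.coprime_iff_not_dvd hq).mp h.symm hd

theorem piCoreOf_eq_coreOf (p n : ℕ) [hp : Fact p.Prime]
    (hn : ∀ q : ℕ, q.Prime → (q ∣ n ↔ q = p)) (K : Subgroup G) :
    Cfsg.piCoreOf (Cfsg.primesNotDvd n) K = coreOf p K := by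
  unfold Cfsg.piCoreOf coreOf
  rw [piCore_eq_pPrimeCore p n hn]

/-- prime divisors of the order of a nontrivial `p`-group -/
theorem dvd_card_iff_of_isPGroup {p : ℕ} [hp : Fact p.Prime] {A : Subgroup G} (hA : IsPGroup p ↥A)
    (hA1 : A ≠ ⊥) : ∀ q : ℕ, q.Prime → (q ∣ Nat.card A ↔ q = p) := by
  obtain ⟨k, hk⟩ := IsPGroup.iff_card.mp hA
  have hk0 : k ≠ 0 := by
    rintro rfl
    rw [pow_zero] at hk
    exact hA1 (Subgroup.card_eq_one.mp hk)
  intro q hq
  rw [hk]
  constructor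
  · intro hd
    exact (Nat.prime_dvd_prime_iff_eq hq hp.out).mp (hq.dvd_of_dvd_pow hd)
  · rintro rfl
    exact dvd_pow_self q hk0

omit [Finite G] in
/-- an element of a normal subgroup of order `p²` of a `p`-group `P` has at most `p` conjugates
under `P`. -/
theorem card_le_mul_card_inf_Cb (p : ℕ) [hp : Fact p.Prime] (P B : Subgroup G) [Finite ↥P]
    [Finite ↥B] (hP : IsPGroup p ↥P)
    (hBn : P ≤ Subgroup.normalizer (B : Set G)) (hBcard : Nat.card B = p ^ 2) {b : G}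
    (hbB : b ∈ B) (hb1 : b ≠ 1) :
    Nat.card P ≤ p * Nat.card ↥(P ⊓ Cb b) := by
  classical
  letI act : MulAction ↥P G :=
    MulAction.compHom G ((MulAut.conj : G →* MulAut G).comp P.subtype)
  have hsmul : ∀ (g : ↥P) (x : G), g • x = (g : G) * x * (g : G)⁻¹ := fun g x => rfl
  set stab := MulAction.stabilizer ↥P b with hstab
  have h1 : stab.index = (MulAction.orbit ↥P b).ncard := MulAction.index_stabilizer ↥P b
  have h2 : stab = (P ⊓ Cb b).subgroupOf P := by
    ext g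
    rw [MulAction.mem_stabilizer_iff, hsmul, Subgroup.mem_subgroupOf, Subgroup.mem_inf,
      mem_Cb_iff]
    constructor
    · intro h
      refine ⟨g.2, ?_⟩
      calc b * (g : G) = ((g : G) * b * (g : G)⁻¹) * g := by rw [h]
        _ = g * b := by group
    · rintro ⟨-, h⟩
      calc (g : G) * b * (g : G)⁻¹ = (b * g) * (g : G)⁻¹ := by rw [h]
        _ = b := by group
  have h3 : (MulAction.orbit ↥P b).ncard ≤ p ^ 2 - 1 := by
    have hsub : MulAction.orbit ↥P b ⊆ ((B : Set G) \ {1}) := by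
      rintro _ ⟨g, rfl⟩
      show g • b ∈ _
      rw [hsmul]
      refine ⟨(Subgroup.mem_normalizer_iff.mp (hBn g.2) b).mp hbB, ?_⟩
      intro h
      rw [Set.mem_singleton_iff] at h
      apply hb1
      have h' : b = (g : G)⁻¹ * ((g : G) * b * (g : G)⁻¹) * g := by group
      rw [h', h]; group
    have hfin : ((B : Set G) \ {1}).Finite := (Set.toFinite (B : Set G)).diff
    have hB' : (B : Set G).ncard = p ^ 2 := by
      rw [← hBcard]
      exact (Nat.card_coe_set_eq (B : Set G)).symm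
    calc (MulAction.orbit ↥P b).ncard ≤ ((B : Set G) \ {1}).ncard :=
          Set.ncard_le_ncard hsub hfin
      _ = (B : Set G).ncard - 1 :=
          Set.ncard_sdiff_singleton_of_mem (B.one_mem)
      _ = p ^ 2 - 1 := by rw [hB']
  have h4 : Nat.card P = (MulAction.orbit ↥P b).ncard * Nat.card ↥(P ⊓ Cb b) := by
    rw [← h1, ← Cfsg.Agent.Lead.card_subgroupOf_of_le (inf_le_left : P ⊓ Cb b ≤ P), ← h2]
    exact (Subgroup.index_mul_card stab).symm
  obtain ⟨a, ha⟩ := IsPGroup.iff_card.mp hP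
  have h5 : (MulAction.orbit ↥P b).ncard ∣ p ^ a := by
    rw [← ha, h4]; exact dvd_mul_right _ _
  obtain ⟨j, -, hj⟩ := (Nat.dvd_prime_pow hp.out).mp h5
  have h6 : j ≤ 1 := by
    by_contra hcon
    have hcon' : 2 ≤ j := by omega
    have h8 : p ^ 2 ≤ p ^ j := Nat.pow_le_pow_right hp.out.pos hcon'
    have h7 : 0 < p ^ 2 := pow_pos hp.out.pos 2
    rw [hj] at h3
    omega
  rw [h4, hj]
  apply Nat.mul_le_mul_right
  calc p ^ j ≤ p ^ 1 := Nat.pow_le_pow_right hp.out.pos h6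
    _ = p := pow_one p

variable {p : ℕ} [hp : Fact p.Prime] {A : Subgroup G} {P : Sylow p G}

theorem SCNHyp.ne_bot (_h : SCNHyp p A P) (hr : ¬ Cfsg.PRankLE p 1 ↥A) : A ≠ ⊥ := by
  rintro rfl
  apply hr
  intro E _ _
  have : Nat.card E = 1 := by
    haveI : Subsingleton ↥(⊥ : Subgroup G) := inferInstance
    haveI : Subsingleton ↥E := inferInstance
    exact Nat.card_unique
  rw [this]
  exact Nat.one_le_pow _ _ hp.out.pos

/-- a normal elementary abelian subgroup of order `p²` of `P` inside `A`. -/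
theorem SCNHyp.exists_normal_elementary (h : SCNHyp p A P) (hr : ¬ Cfsg.PRankLE p 1 ↥A) :
    ∃ B : Subgroup G, B ≤ A ∧ Cfsg.IsElementaryAbelian p B ∧ Nat.card B = p ^ 2 ∧
      (P : Subgroup G) ≤ Subgroup.normalizer (B : Set G) := by
  unfold Cfsg.PRankLE at hr
  push Not at hr
  obtain ⟨E₀, hE₀c, hE₀e, hE₀card⟩ := hr
  -- `E = Ω₁(A)`
  let E : Subgroup G :=
    { carrier := {a | a ∈ A ∧ a ^ p = 1}
      one_mem' := ⟨A.one_mem, one_pow p⟩
      mul_mem' := by
        rintro x y ⟨hx, hxp⟩ ⟨hy, hyp⟩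
        refine ⟨A.mul_mem hx hy, ?_⟩
        have hc : Commute x y := h.comm x hx y hy
        rw [hc.mul_pow, hxp, hyp, one_mul]
      inv_mem' := by
        rintro x ⟨hx, hxp⟩
        exact ⟨A.inv_mem hx, by rw [inv_pow, hxp, inv_one]⟩ }
  have hEmem : ∀ x, x ∈ E ↔ x ∈ A ∧ x ^ p = 1 := fun x => Iff.rfl
  have hEA : E ≤ A := fun x hx => hx.1
  have hEP : E ≤ (P : Subgroup G) := hEA.trans h.le
  have hEn : (P : Subgroup G) ≤ Subgroup.normalizer (E : Set G) := by
    apply Cfsg.Agent.Helper2.le_normalizer_of_conj_mem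
    intro g hg x hx
    refine ⟨(Subgroup.mem_normalizer_iff.mp (h.norm hg) x).mp hx.1, ?_⟩
    rw [conj_pow, hx.2, mul_one, mul_inv_cancel]
  have hEp : IsPGroup p ↥E := P.2.to_le hEP
  obtain ⟨m, hm⟩ := IsPGroup.iff_card.mp hEp
  have hE₀E : E₀.map A.subtype ≤ E := by
    rintro _ ⟨a, ha, rfl⟩
    refine ⟨a.2, ?_⟩
    have := hE₀e a ha
    have h2 := congrArg Subtype.val this
    simpa using h2
  have hcardE : p < Nat.card E := by
    have h1 : Nat.card (E₀.map A.subtype) = Nat.card E₀ :=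
      Subgroup.card_map_of_injective A.subtype_injective
    have h2 := Subgroup.card_le_of_le hE₀E
    rw [h1] at h2
    rw [pow_one] at hE₀card
    exact lt_of_lt_of_le hE₀card h2
  have hm2 : 2 ≤ m := by
    by_contra hcon
    have hm1 : m ≤ 1 := by omega
    rw [hm] at hcardE
    have : p ^ m ≤ p ^ 1 := Nat.pow_le_pow_right hp.out.pos hm1
    rw [pow_one] at this
    omega
  have hSn : (E.subgroupOf (P : Subgroup G)).Normal :=
    (Subgroup.normal_subgroupOf_iff_le_normalizer hEP).2 hEn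
  have hScard : Nat.card (E.subgroupOf (P : Subgroup G)) = p ^ (2 + (m - 2)) := by
    rw [Cfsg.Agent.Lead.card_subgroupOf_of_le hEP, hm]
    congr 1; omega
  obtain ⟨M, hMn, hMS, hMcard⟩ :=
    exists_normal_le_card (P := ↥(P : Subgroup G)) P.2 (m - 2) 2 _ hSn hScard
  refine ⟨M.map (P : Subgroup G).subtype, ?_, ?_, ?_, ?_⟩
  · rintro _ ⟨x, hx, rfl⟩
    have := hMS hx
    rw [Subgroup.mem_subgroupOf] at this
    exact hEA this
  · have hBE : M.map (P : Subgroup G).subtype ≤ E := by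
      rintro _ ⟨x, hx, rfl⟩
      have := hMS hx
      rwa [Subgroup.mem_subgroupOf] at this
    refine ⟨⟨⟨?_⟩⟩, fun b hb => (hBE hb).2⟩
    rintro ⟨x, hx⟩ ⟨y, hy⟩
    apply Subtype.ext
    exact h.comm x (hBE hx).1 y (hBE hy).1
  · rw [Subgroup.card_map_of_injective (Subgroup.subtype_injective _)]
    exact hMcard
  · apply Cfsg.Agent.Helper2.le_normalizer_of_conj_mem
    rintro g hg _ ⟨x, hx, rfl⟩
    exact ⟨⟨g, hg⟩ * x * ⟨g, hg⟩⁻¹, hMn.conj_mem x hx ⟨g, hg⟩, by simp⟩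

/-- a nontrivial element of `A` centralized by `P`. -/
theorem SCNHyp.exists_central (h : SCNHyp p A P) (hA1 : A ≠ ⊥) :
    ∃ z ∈ A, z ≠ 1 ∧ (P : Subgroup G) ≤ Cb z := by
  haveI : Nontrivial ↥(P : Subgroup G) := by
    rw [Subgroup.nontrivial_iff_ne_bot]
    intro hb
    apply hA1
    rw [eq_bot_iff, ← hb]
    exact h.le
  haveI := P.2.center_nontrivial
  obtain ⟨z', hz'⟩ := exists_ne (1 : ↥(Subgroup.center ↥(P : Subgroup G)))
  have hzc : ∀ x : ↥(P : Subgroup G), x * (z' : ↥(P : Subgroup G)) = (z' : ↥(P : Subgroup G)) * x :=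
    fun x => (Subgroup.mem_center_iff.mp z'.2 x)
  have hzc' : ∀ x ∈ (P : Subgroup G), x * ((z' : ↥(P : Subgroup G)) : G) =
      ((z' : ↥(P : Subgroup G)) : G) * x := by
    intro x hx
    have := congrArg Subtype.val (hzc ⟨x, hx⟩)
    simpa using this
  refine ⟨((z' : ↥(P : Subgroup G)) : G), ?_, ?_, ?_⟩
  · rw [← h.self]
    refine ⟨(z' : ↥(P : Subgroup G)).2, Subgroup.mem_centralizer_iff.mpr ?_⟩
    intro a ha
    exact hzc' a (h.le ha)
  · intro h1
    apply hz'
    apply Subtype.ext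
    apply Subtype.ext
    simpa using h1
  · intro x hx
    rw [mem_Cb_iff]
    exact (hzc' x hx).symm

/-- the main step: `A`-invariant `p'`-subgroups of a proper subgroup `X ≥ A` lie in `O_{p'}(X)`. -/
theorem SCNHyp.le_coreOf_of_invariant (h : SCNHyp p A P) (hr : ¬ Cfsg.PRankLE p 1 ↥A)
    (X : Subgroup G) (hX : X ≠ ⊤) (hAX : A ≤ X) (Y : Subgroup G) (hYX : Y ≤ X)
    (hYc : (Nat.card Y).Coprime p) (hAY : A ≤ Subgroup.normalizer (Y : Set G)) :
    Y ≤ coreOf p X := by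
  have hA1 : A ≠ ⊥ := h.ne_bot hr
  obtain ⟨B, hBA, hBel, hBcard, hBn⟩ := h.exists_normal_elementary hr
  obtain ⟨z, hzA, hz1, hPz⟩ := h.exists_central hA1
  have hXsol : Group.IsSolvable X := h.solv X hX
  have hpY : ¬ p ∣ Nat.card Y := (Nat.Prime.coprime_iff_not_dvd hp.out).mp hYc.symm
  have hgen := Cfsg.Agent.Helper2.le_iSup_hyperplane_centralizers p (Nat.card B) B Y rfl hBel hpY
    (hBA.trans hAY)
  refine hgen.trans (iSup_le ?_)
  rintro ⟨B₁, hB₁B, hB₁idx⟩
  have hB₁ : B₁ ≠ ⊥ := by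
    rintro rfl
    rw [Subgroup.relIndex_bot_left, hBcard] at hB₁idx
    have h1 : p * 2 ≤ p * p := Nat.mul_le_mul_left p hp.out.two_le
    have h2 : 0 < p := hp.out.pos
    nlinarith
  obtain ⟨⟨b, hbB₁⟩, hb1'⟩ := (Subgroup.ne_bot_iff_exists_ne_one).mp hB₁
  have hb1 : b ≠ 1 := fun hb => hb1' (Subtype.ext hb)
  have hbB : b ∈ B := hB₁B hbB₁
  have hbA : b ∈ A := hBA hbB
  have hidx := card_le_mul_card_inf_Cb p (P : Subgroup G) B P.2 hBn hBcard hbB hb1
  set Y₁ := Y ⊓ Cb b with hY₁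
  have hle : Y ⊓ Subgroup.centralizer ((B₁ : Subgroup G) : Set G) ≤ Y₁ := by
    apply inf_le_inf_left
    unfold Cb
    apply Subgroup.centralizer_le
    exact SetLike.coe_subset_coe.mpr (Subgroup.zpowers_le.mpr hbB₁)
  refine hle.trans ?_
  have hY₁c : (Nat.card Y₁).Coprime p :=
    Nat.Coprime.coprime_dvd_left (Subgroup.card_dvd_of_le inf_le_left) hYc
  have hAY₁ : A ≤ Subgroup.normalizer (Y₁ : Set G) :=
    le_normalizer_inf hAY ((h.le_Cb hbA).trans Subgroup.le_normalizer)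
  have h1 : Y₁ ≤ coreOf p (Cb b) :=
    h.claim_all hbA hb1 hidx hzA hz1 hPz Y₁ inf_le_right hY₁c hAY₁
  have hbX : Subgroup.zpowers b ≤ X := Subgroup.zpowers_le.mpr (hAX hbA)
  have hbp : IsPGroup p ↥(Subgroup.zpowers b) := h.isPGroup.to_le (Subgroup.zpowers_le.mpr hbA)
  have h3 : coreOf p (Cb b) ⊓ X ≤ coreOf p (X ⊓ Cb b) := by
    apply le_coreOf
    · exact le_inf inf_le_right (inf_le_left.trans (coreOf_le p _))
    · exact le_normalizer_inf (inf_le_right.trans (le_normalizer_coreOf p _))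
        (inf_le_left.trans Subgroup.le_normalizer)
    · exact Nat.Coprime.coprime_dvd_left (Subgroup.card_dvd_of_le inf_le_left)
        (card_coreOf_coprime p _)
  have h4 : coreOf p (X ⊓ Cb b) ≤ coreOf p X :=
    coreOf_inf_centralizer_le_coreOf p X (Subgroup.zpowers b) hXsol hbX hbp
  exact (le_inf h1 (inf_le_left.trans hYX)).trans (h3.trans h4)

/-- the transitivity hypothesis from "`A`-invariant `p'`-subgroups lie in `O_{p'}`" -/
theorem transitivityHypothesis_of_le_coreOf (hAp : IsPGroup p ↥A) (hA1 : A ≠ ⊥) (hAtop : A ≠ ⊤)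
    (hmain : ∀ X : Subgroup G, X ≠ ⊤ → A ≤ X → ∀ Y : Subgroup G, Y ≤ X → (Nat.card Y).Coprime p →
      A ≤ Subgroup.normalizer (Y : Set G) → Y ≤ coreOf p X) :
    Cfsg.TransitivityHypothesis A := by
  have hn := dvd_card_iff_of_isPGroup hAp hA1
  refine ⟨hA1, hAtop, ?_⟩
  intro X hX hAX
  apply le_antisymm
  · apply sSup_le
    rintro Y ⟨hYX, hYπ, hAY⟩
    rw [piCoreOf_eq_coreOf p _ hn]
    apply hmain X hX hAX Y hYX _ hAY
    rw [Nat.coprime_comm, Nat.Prime.coprime_iff_not_dvd hp.out]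
    intro hd
    exact (hYπ p hp.out hd).2 ((hn p hp.out).mpr rfl)
  · apply le_sSup
    exact ⟨piCoreOf_le _ X, piCoreOf_isPi _ X, hAX.trans (le_normalizer_piCoreOf _ X)⟩

/-- Theorem 7.6, the `SCN₂` case. -/
theorem transitivityHypothesis_of_scn (hG : Cfsg.IsMinSimpleOddOrder G) (hAc : IsMulCommutative ↥A)
    (hscn : Cfsg.IsSCN (P : Subgroup G) A) (hr : ¬ Cfsg.PRankLE p 1 ↥A) :
    Cfsg.TransitivityHypothesis A := by
  have hcomm : ∀ x ∈ A, ∀ y ∈ A, x * y = y * x := by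
    intro x hx y hy
    have := hAc.is_comm.comm ⟨x, hx⟩ ⟨y, hy⟩
    exact congrArg Subtype.val this
  have h : SCNHyp p A P :=
    ⟨hG.2.1, hG.2.2.1, hG.2.2.2, hG.1, hscn.1, hscn.2.1, hscn.2.2, hcomm⟩
  have hA1 : A ≠ ⊥ := h.ne_bot hr
  have hAtop : A ≠ ⊤ := by
    rintro rfl
    apply h.ncomm
    refine ⟨⟨fun x y => ?_⟩⟩
    exact hcomm x (Subgroup.mem_top x) y (Subgroup.mem_top y)
  exact transitivityHypothesis_of_le_coreOf h.isPGroup hA1 hAtop
    (fun X hX hAX Y hYX hYc hAY => h.le_coreOf_of_invariant hr X hX hAX Y hYX hYc hAY)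

/-- Theorem 7.6, the `p`-length one case. -/
theorem transitivityHypothesis_of_pLength (hG : Cfsg.IsMinSimpleOddOrder G)
    (hpG : p ∣ Nat.card G) (hAp : IsPGroup p ↥A) (hAc : IsMulCommutative ↥A)
    (hΩ : ∀ x ∈ Subgroup.centralizer (A : Set G), x ^ p = 1 ↔ x ∈ A)
    (hpl : ∀ H : Subgroup G, H ≠ ⊤ → Cfsg.PLengthLE p 1 ↥H) :
    Cfsg.TransitivityHypothesis A := by
  have hcomm : ∀ x ∈ A, ∀ y ∈ A, x * y = y * x := by
    intro x hx y hy
    have := hAc.is_comm.comm ⟨x, hx⟩ ⟨y, hy⟩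
    exact congrArg Subtype.val this
  have hAC : A ≤ Subgroup.centralizer (A : Set G) := by
    intro a ha
    rw [Subgroup.mem_centralizer_iff]
    intro x hx
    exact hcomm x hx a ha
  have hp2 : p ≠ 2 := by
    rintro rfl
    exact (Nat.not_even_iff_odd.2 hG.1) (even_iff_two_dvd.2 hpG)
  have hA1 : A ≠ ⊥ := by
    rintro rfl
    obtain ⟨x, hx⟩ := exists_prime_orderOf_dvd_card' p hpG
    have hxC : x ∈ Subgroup.centralizer (((⊥ : Subgroup G) : Subgroup G) : Set G) := by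
      rw [Subgroup.mem_centralizer_iff]
      intro y hy
      rw [SetLike.mem_coe, Subgroup.mem_bot] at hy
      rw [hy, one_mul, mul_one]
    have h1 : x ^ p = 1 := by rw [← hx]; exact pow_orderOf_eq_one x
    have h2 := (hΩ x hxC).mp h1
    rw [Subgroup.mem_bot] at h2
    rw [h2, orderOf_one] at hx
    exact hp.out.one_lt.ne hx
  have hAtop : A ≠ ⊤ := by
    rintro rfl
    apply hG.2.2.1
    refine ⟨⟨fun x y => ?_⟩⟩
    exact hcomm x (Subgroup.mem_top x) y (Subgroup.mem_top y)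
  apply transitivityHypothesis_of_le_coreOf hAp hA1 hAtop
  intro X hX hAX Y hYX hYc hAY
  haveI : Group.IsSolvable ↥X := hG.2.2.2 X hX
  set E : Subgroup ↥X := A.subgroupOf X with hE
  set L : Subgroup ↥X := Y.subgroupOf X with hL
  have hEel : Cfsg.IsElementaryAbelian p E := by
    refine ⟨⟨⟨?_⟩⟩, ?_⟩
    · rintro ⟨a, ha⟩ ⟨b, hb⟩
      rw [hE, Subgroup.mem_subgroupOf] at ha hb
      apply Subtype.ext
      apply Subtype.ext
      exact hcomm _ ha _ hb
    · intro a ha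
      rw [hE, Subgroup.mem_subgroupOf] at ha
      apply Subtype.ext
      have := (hΩ (a : G) (hAC ha)).mpr ha
      simpa using this
  have hEmax : ∀ B : Subgroup ↥X, Cfsg.IsElementaryAbelian p B → E ≤ B → B = E := by
    intro B hB hEB
    apply le_antisymm _ hEB
    intro x hx
    rw [hE, Subgroup.mem_subgroupOf]
    have hxC : (x : G) ∈ Subgroup.centralizer (A : Set G) := by
      rw [Subgroup.mem_centralizer_iff]
      intro a ha
      have haB : (⟨a, hAX ha⟩ : ↥X) ∈ B := hEB (by rw [hE, Subgroup.mem_subgroupOf]; exact ha)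
      have := hB.1.is_comm.comm ⟨⟨a, hAX ha⟩, haB⟩ ⟨x, hx⟩
      have h2 := congrArg (fun t : ↥B => ((t : ↥X) : G)) this
      simpa using h2
    apply (hΩ (x : G) hxC).mp
    have := hB.2 x hx
    have h2 := congrArg Subtype.val this
    simpa using h2
  have hLc : (Nat.card L).Coprime p := by
    rw [hL, Cfsg.Agent.Lead.card_subgroupOf_of_le hYX]; exact hYc
  have hEL : E ≤ Subgroup.normalizer (L : Set ↥X) := by
    intro a ha
    rw [hE, Subgroup.mem_subgroupOf] at ha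
    have han := hAY ha
    rw [Subgroup.mem_normalizer_iff] at han ⊢
    intro y
    rw [hL, Subgroup.mem_subgroupOf, Subgroup.mem_subgroupOf]
    simpa using han (y : G)
  have hres := le_pPrimeCore_of_normalized_by_maxEA p hp2 (hpl X hX) E L hEel hEmax hLc hEL
  intro y hy
  exact ⟨⟨y, hYX hy⟩, hres (by rw [hL, Subgroup.mem_subgroupOf]; exact hy), rfl⟩

end Cfsg.Agent.Helper1.BGT
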