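import Mathlib
import Cfsg.Prelude.Def_OddOrderLocal

set_option autoImplicit false

/-!
The Puig series of a subgroup, formulated inside an ambient group.
-/

namespace Cfsg.Agent.Helper1
namespace Puig

universe u

variable {G : Type u} [Group G]

/-- `L_H(X)`: generated by the abelian subgroups of `H` normalized by `X`. -/
def stepIn (H X : Subgroup G) : Subgroup G :=
  sSup {A : Subgroup G | A ≤ H ∧ IsMulCommutative A ∧ X ≤ Subgroup.normalizer (A : Set G)}

/-- the Puig series of `H` -/
def seqIn (H : Subgroup G) : ℕ → Subgroup G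
  | 0 => ⊥
  | n + 1 => stepIn H (seqIn H n)

theorem stepIn_le (H X : Subgroup G) : stepIn H X ≤ H :=
  sSup_le fun _ hA => hA.1

theorem le_stepIn {H X A : Subgroup G} (hAH : A ≤ H) (hA : IsMulCommutative A)
    (hX : X ≤ Subgroup.normalizer (A : Set G)) : A ≤ stepIn H X :=
  le_sSup ⟨hAH, hA, hX⟩

theorem stepIn_anti (H : Subgroup G) {X Y : Subgroup G} (h : X ≤ Y) : stepIn H Y ≤ stepIn H X :=
  sSup_le fun _ hA => le_stepIn hA.1 hA.2.1 (h.trans hA.2.2)

theorem stepIn_mono_left {H K : Subgroup G} (h : H ≤ K) (X : Subgroup G) :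
    stepIn H X ≤ stepIn K X :=
  sSup_le fun _ hA => le_stepIn (hA.1.trans h) hA.2.1 hA.2.2

theorem stepIn_eq_of_le {H K X : Subgroup G} (hHK : H ≤ K) (h : stepIn K X ≤ H) :
    stepIn K X = stepIn H X := by
  apply le_antisymm _ (stepIn_mono_left hHK X)
  apply sSup_le
  intro A hA
  exact le_stepIn ((le_stepIn hA.1 hA.2.1 hA.2.2).trans h) hA.2.1 hA.2.2

/-- even terms of the Puig series -/
def ev (H : Subgroup G) : ℕ → Subgroup G
  | 0 => ⊥
  | n + 1 => stepIn H (stepIn H (ev H n))

/-- odd terms of the Puig series -/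
def od (H : Subgroup G) (n : ℕ) : Subgroup G := stepIn H (ev H n)

theorem ev_succ (H : Subgroup G) (n : ℕ) : ev H (n + 1) = stepIn H (od H n) := rfl

theorem seqIn_even_odd (H : Subgroup G) (n : ℕ) :
    seqIn H (2 * n) = ev H n ∧ seqIn H (2 * n + 1) = od H n := by
  induction n with
  | zero => exact ⟨rfl, rfl⟩
  | succ n ih =>
    have e1 : 2 * (n + 1) = (2 * n + 1) + 1 := by ring
    have h1 : seqIn H (2 * (n + 1)) = ev H (n + 1) := by
      rw [e1]
      show stepIn H (seqIn H (2 * n + 1)) = stepIn H (od H n)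
      rw [ih.2]
    refine ⟨h1, ?_⟩
    show stepIn H (seqIn H (2 * (n + 1))) = stepIn H (ev H (n + 1))
    rw [h1]

theorem od_le (H : Subgroup G) (n : ℕ) : od H n ≤ H := stepIn_le H _

/-- the basic chain `L_{2n} ≤ L_{2n+2} ≤ L_{2n+3} ≤ L_{2n+1}` -/
theorem chain (H : Subgroup G) (n : ℕ) :
    ev H n ≤ ev H (n + 1) ∧ ev H (n + 1) ≤ od H (n + 1) ∧ od H (n + 1) ≤ od H n := by
  induction n with
  | zero =>
    have h01 : ev H 0 ≤ ev H 1 := bot_le
    have h2 : od H 1 ≤ od H 0 := stepIn_anti H h01
    have h3 : ev H 1 ≤ od H 0 := by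
      show stepIn H (od H 0) ≤ stepIn H ⊥
      exact stepIn_anti H bot_le
    exact ⟨h01, stepIn_anti H h3, h2⟩
  | succ n ih =>
    obtain ⟨h1, h2, h3⟩ := ih
    have a1 : ev H (n + 1) ≤ ev H (n + 2) := stepIn_anti H h3
    have a2 : od H (n + 2) ≤ od H (n + 1) := stepIn_anti H a1
    have a3 : ev H (n + 2) ≤ od H (n + 1) := stepIn_anti H h2
    exact ⟨a1, stepIn_anti H a3, a2⟩

theorem even_mono (H : Subgroup G) : Monotone (ev H) :=
  monotone_nat_of_le_succ fun n => (chain H n).1

theorem odd_anti (H : Subgroup G) : Antitone (od H) :=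
  antitone_nat_of_succ_le fun n => (chain H n).2.2

theorem even_le_odd (H : Subgroup G) (m n : ℕ) : ev H m ≤ od H n := by
  have h1 : ev H m ≤ ev H (max m n + 1) :=
    (even_mono H (le_max_left m n)).trans (chain H _).1
  have h2 : od H (max m n + 1) ≤ od H n :=
    (chain H _).2.2.trans (odd_anti H (le_max_right m n))
  exact h1.trans ((chain H _).2.1.trans h2)

/-- `L_*(H)` -/
def lower (H : Subgroup G) : Subgroup G := ⨆ n : ℕ, ev H n

/-- `L(H)` -/
def upper (H : Subgroup G) : Subgroup G := ⨅ n : ℕ, od H n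

theorem lower_le_upper (H : Subgroup G) : lower H ≤ upper H :=
  iSup_le fun m => le_iInf fun n => even_le_odd H m n

theorem upper_le (H : Subgroup G) : upper H ≤ H :=
  (iInf_le _ 0).trans (od_le H _)

theorem lower_le (H : Subgroup G) : lower H ≤ H := (lower_le_upper H).trans (upper_le H)

theorem ev_le_lower (H : Subgroup G) (n : ℕ) : ev H n ≤ lower H := le_iSup (ev H) n

theorem upper_le_od (H : Subgroup G) (n : ℕ) : upper H ≤ od H n := iInf_le (od H) n

/-- stabilization -/
theorem exists_stable [Finite G] (H : Subgroup G) :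
    ∃ N : ℕ, lower H = ev H N ∧ upper H = od H N ∧ ev H (N + 1) = ev H N := by
  obtain ⟨N, hN⟩ := WellFoundedGT.monotone_chain_condition ⟨_, even_mono H⟩
  have hN' : ∀ m, N ≤ m → ev H N = ev H m := hN
  have hodd : ∀ m, N ≤ m → od H N = od H m := by
    intro m hm
    show stepIn H (ev H N) = stepIn H (ev H m)
    rw [hN' m hm]
  refine ⟨N, ?_, ?_, (hN' (N + 1) (Nat.le_succ N)).symm⟩
  · apply le_antisymm
    · apply iSup_le
      intro m
      rcases le_total m N with h | h
      · exact even_mono H h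
      · exact (hN' m h).symm.le
    · exact le_iSup (ev H) N
  · apply le_antisymm
    · exact iInf_le (od H) N
    · apply le_iInf
      intro m
      rcases le_total m N with h | h
      · exact odd_anti H h
      · exact (hodd m h).le

theorem stepIn_lower [Finite G] (H : Subgroup G) : stepIn H (lower H) = upper H := by
  obtain ⟨N, h1, h2, -⟩ := exists_stable H
  rw [h1, h2]; rfl

theorem stepIn_upper [Finite G] (H : Subgroup G) : stepIn H (upper H) = lower H := by
  obtain ⟨N, h1, h2, h3⟩ := exists_stable H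
  rw [h1, h2, ← h3]; rfl

/-- if `L(K) ≤ H ≤ K` then `L(H) = L(K)` and `L_*(H) = L_*(K)` -/
theorem upper_eq_of_le [Finite G] {H K : Subgroup G} (hHK : H ≤ K) (h : upper K ≤ H) :
    upper H = upper K ∧ lower H = lower K := by
  have hstep : stepIn K (lower K) = stepIn H (lower K) :=
    stepIn_eq_of_le hHK (by rw [stepIn_lower]; exact h)
  -- first: `L_{2n}(H) ≤ L_*(K)` and `L(K) ≤ L_{2n+1}(H)`
  have hA : ∀ n, ev H n ≤ lower K ∧ upper K ≤ od H n := by
    intro n
    induction n with
    | zero =>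
      refine ⟨bot_le, ?_⟩
      show upper K ≤ stepIn H ⊥
      rw [← stepIn_lower K, hstep]
      exact stepIn_anti H bot_le
    | succ n ih =>
      have h1 : ev H (n + 1) ≤ lower K := by
        rw [ev_succ, ← stepIn_upper K]
        exact (stepIn_anti H ih.2).trans (stepIn_mono_left hHK _)
      refine ⟨h1, ?_⟩
      show upper K ≤ stepIn H (ev H (n + 1))
      rw [← stepIn_lower K, hstep]
      exact stepIn_anti H h1
  -- second: `L_{2n}(K) ≤ L_{2n}(H)` and `L_{2n+1}(H) ≤ L_{2n+1}(K)`
  have hB : ∀ n, ev K n ≤ ev H n ∧ od H n ≤ od K n := by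
    intro n
    induction n with
    | zero =>
      exact ⟨bot_le, stepIn_mono_left hHK _⟩
    | succ n ih =>
      have h1 : ev K (n + 1) ≤ ev H (n + 1) := by
        rw [ev_succ, ev_succ]
        have hle : stepIn K (od K n) ≤ H :=
          ((ev_le_lower K (n + 1)).trans (lower_le_upper K)).trans h
        rw [stepIn_eq_of_le hHK hle]
        exact stepIn_anti H ih.2
      refine ⟨h1, ?_⟩
      show stepIn H (ev H (n + 1)) ≤ stepIn K (ev K (n + 1))
      exact (stepIn_anti H h1).trans (stepIn_mono_left hHK _)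
  constructor
  · apply le_antisymm
    · exact le_iInf fun n => (iInf_le _ n).trans (hB n).2
    · exact le_iInf fun n => (hA n).2
  · apply le_antisymm
    · exact iSup_le fun n => (hA n).1
    · exact iSup_le fun n => (hB n).1.trans (ev_le_lower H n)

end Puig
end Cfsg.Agent.Helper1
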