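import Mathlib
import Cfsg.Prelude.Def_OddOrderLocal
import Cfsg.Agent.Helper1.Puig

set_option autoImplicit false

/-!
Functoriality of the Puig series under injective homomorphisms, and the bridge to the
definitions `Cfsg.puigSeq`, `Cfsg.puigSubgroup`, `Cfsg.puigLower`.
-/

namespace Cfsg.Agent.Helper1
namespace Puig

universe u v

variable {G : Type u} [Group G] {G' : Type v} [Group G']

theorem stepIn_map (f : G →* G') (hf : Function.Injective f) (H X : Subgroup G) :
    (stepIn H X).map f = stepIn (H.map f) (X.map f) := by
  apply le_antisymm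
  · rw [Subgroup.map_le_iff_le_comap]
    apply sSup_le
    rintro A ⟨hAH, hAc, hXA⟩
    rw [← Subgroup.map_le_iff_le_comap]
    refine le_stepIn (Subgroup.map_mono hAH) ?_
      ((Subgroup.map_mono hXA).trans (Subgroup.le_normalizer_map f))
    exact Subgroup.map_isMulCommutative A f
  · apply sSup_le
    rintro B ⟨hBH, hBc, hXB⟩
    have hBr : B ≤ f.range := hBH.trans (Subgroup.map_le_range f H)
    have hmap : (B.comap f).map f = B := Subgroup.map_comap_eq_self hBr
    rw [← hmap]
    apply Subgroup.map_mono
    refine le_stepIn ?_ ?_ ?_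
    · intro x hx
      obtain ⟨h, hh, hfx⟩ := hBH (Subgroup.mem_comap.1 hx)
      rwa [← hf hfx]
    · refine ⟨⟨fun x y => ?_⟩⟩
      apply Subtype.ext
      apply hf
      have := hBc.is_comm.comm ⟨f x, x.2⟩ ⟨f y, y.2⟩
      have h2 := congrArg Subtype.val this
      simpa using h2
    · intro a ha
      have h1 : f a ∈ Subgroup.normalizer (B : Set G') := hXB (Subgroup.mem_map_of_mem f ha)
      rw [Subgroup.mem_normalizer_iff] at h1 ⊢
      intro x
      rw [Subgroup.mem_comap, Subgroup.mem_comap, h1 (f x), map_mul, map_mul, map_inv]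

theorem ev_map (f : G →* G') (hf : Function.Injective f) (H : Subgroup G) (n : ℕ) :
    (ev H n).map f = ev (H.map f) n := by
  induction n with
  | zero => exact Subgroup.map_bot f
  | succ n ih =>
    show (stepIn H (stepIn H (ev H n))).map f = stepIn (H.map f) (stepIn (H.map f) (ev (H.map f) n))
    rw [stepIn_map f hf, stepIn_map f hf, ih]

theorem od_map (f : G →* G') (hf : Function.Injective f) (H : Subgroup G) (n : ℕ) :
    (od H n).map f = od (H.map f) n := by
  show (stepIn H (ev H n)).map f = stepIn (H.map f) (ev (H.map f) n)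
  rw [stepIn_map f hf, ev_map f hf]

theorem upper_map (f : G →* G') (hf : Function.Injective f) (H : Subgroup G) :
    (upper H).map f = upper (H.map f) := by
  unfold upper
  rw [Subgroup.map_iInf f hf]
  congr 1
  funext n
  exact od_map f hf H n

theorem lower_map (f : G →* G') (hf : Function.Injective f) (H : Subgroup G) :
    (lower H).map f = lower (H.map f) := by
  unfold lower
  rw [Subgroup.map_iSup]
  congr 1
  funext n
  exact ev_map f hf H n

/-- `L(T)` is normal for `T` normal -/
theorem upper_normal (T : Subgroup G) [hT : T.Normal] : (upper T).Normal := by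
  constructor
  intro x hx g
  have h1 : T.map (MulAut.conj g).toMonoidHom = T := by
    have := Subgroup.Normal.conj_smul_eq_self g T
    rwa [Subgroup.pointwise_smul_def] at this
  have h2 := upper_map (MulAut.conj g).toMonoidHom (MulAut.conj g).injective T
  rw [h1] at h2
  rw [← h2]
  exact ⟨x, hx, rfl⟩

theorem od_normal (T : Subgroup G) [hT : T.Normal] (n : ℕ) : (od T n).Normal := by
  constructor
  intro x hx g
  have h1 : T.map (MulAut.conj g).toMonoidHom = T := by
    have := Subgroup.Normal.conj_smul_eq_self g T
    rwa [Subgroup.pointwise_smul_def] at this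
  have h2 := od_map (MulAut.conj g).toMonoidHom (MulAut.conj g).injective T n
  rw [h1] at h2
  rw [← h2]
  exact ⟨x, hx, rfl⟩

/-! ### bridge to the definitions -/

theorem puigStep_eq (X : Subgroup G) : Cfsg.puigStep X = stepIn ⊤ X := by
  unfold Cfsg.puigStep stepIn
  congr 1
  ext A
  simp

theorem puigSeq_eq (n : ℕ) : Cfsg.puigSeq G n = seqIn (⊤ : Subgroup G) n := by
  induction n with
  | zero => rfl
  | succ n ih =>
    show Cfsg.puigStep (Cfsg.puigSeq G n) = stepIn ⊤ (seqIn ⊤ n)
    rw [puigStep_eq, ih]

theorem puigSubgroup_eq : Cfsg.puigSubgroup G = upper (⊤ : Subgroup G) := by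
  unfold Cfsg.puigSubgroup upper
  congr 1
  funext n
  rw [puigSeq_eq, (seqIn_even_odd _ n).2]

theorem puigLower_eq : Cfsg.puigLower G = lower (⊤ : Subgroup G) := by
  unfold Cfsg.puigLower lower
  congr 1
  funext n
  rw [puigSeq_eq, (seqIn_even_odd _ n).1]

theorem map_top_subtype (H : Subgroup G) : (⊤ : Subgroup ↥H).map H.subtype = H := by
  rw [← MonoidHom.range_eq_map, Subgroup.range_subtype]

theorem puigSubgroup_map_subtype (H : Subgroup G) :
    (Cfsg.puigSubgroup ↥H).map H.subtype = upper H := by
  rw [puigSubgroup_eq, upper_map _ (Subgroup.subtype_injective H), map_top_subtype]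

theorem puigLower_map_subtype (H : Subgroup G) :
    (Cfsg.puigLower ↥H).map H.subtype = lower H := by
  rw [puigLower_eq, lower_map _ (Subgroup.subtype_injective H), map_top_subtype]

end Puig
end Cfsg.Agent.Helper1
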