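import Mathlib
import Cfsg.Prelude.Def_OddOrderLocal
import Cfsg.Agent.Helper1.Puig2
import Cfsg.Agent.Helper1.Nilp
import Cfsg.Agent.Helper1.OddQuadratic2

set_option autoImplicit false

/-!
Puig subgroups of a Sylow subgroup and of `O_p(G)` in a solvable group of odd order.
-/

namespace Cfsg.Agent.Helper1
namespace Puig

universe u

variable {G : Type u} [Group G]

theorem exists_self_centralizing [Finite G] (T : Subgroup G) (hT : Group.IsNilpotent T) :
    ∃ A₀ : Subgroup G, A₀ ≤ T ∧ IsMulCommutative A₀ ∧ T ≤ Subgroup.normalizer (A₀ : Set G) ∧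
      T ⊓ Subgroup.centralizer (A₀ : Set G) ≤ A₀ := by
  haveI := hT
  let 𝒮 : Set (Subgroup ↥T) := {A | A.Normal ∧ IsMulCommutative A}
  have hbot : (⊥ : Subgroup ↥T) ∈ 𝒮 := ⟨inferInstance, inferInstance⟩
  obtain ⟨A', -, hmax⟩ := (Set.toFinite 𝒮).exists_le_maximal hbot
  obtain ⟨hA'n, hA'c⟩ : A' ∈ 𝒮 := hmax.prop
  haveI := hA'n
  haveI := hA'c
  have hC := centralizer_eq_of_maximal_abelian_normal A' (fun M hMn hMc hle =>
    (hmax.eq_of_le ⟨hMn, hMc⟩ hle).symm)
  refine ⟨A'.map T.subtype, Subgroup.map_subtype_le _, Subgroup.map_isMulCommutative A' _, ?_, ?_⟩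
  · have key : ∀ t ∈ T, ∀ x ∈ A'.map T.subtype, t * x * t⁻¹ ∈ A'.map T.subtype := by
      rintro t ht _ ⟨y, hy, rfl⟩
      exact ⟨⟨t, ht⟩ * y * ⟨t, ht⟩⁻¹, hA'n.conj_mem y hy ⟨t, ht⟩, rfl⟩
    intro t ht
    rw [Subgroup.mem_normalizer_iff]
    intro x
    refine ⟨key t ht x, fun h => ?_⟩
    have := key t⁻¹ (inv_mem ht) _ h
    simpa [mul_assoc] using this
  · rintro x ⟨hxT, hxC⟩
    have h1 : (⟨x, hxT⟩ : ↥T) ∈ Subgroup.centralizer (A' : Set ↥T) := by
      rw [Subgroup.mem_centralizer_iff]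
      intro y hy
      apply Subtype.ext
      exact Subgroup.mem_centralizer_iff.1 hxC (y : G) ⟨y, hy, rfl⟩
    rw [hC] at h1
    exact ⟨⟨x, hxT⟩, h1, rfl⟩

theorem self_centralizing_od [Finite G] (T : Subgroup G) (hT : Group.IsNilpotent T) (n : ℕ) :
    T ⊓ Subgroup.centralizer (od T n : Set G) ≤ od T n := by
  obtain ⟨A₀, hA₀T, hA₀c, hTA₀, hCA₀⟩ := exists_self_centralizing T hT
  have h1 : A₀ ≤ ev T 1 := le_stepIn hA₀T hA₀c ((od_le T 0).trans hTA₀)
  have h2 : A₀ ≤ od T n := h1.trans (even_le_odd T 1 n)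
  refine le_trans ?_ (hCA₀.trans h2)
  exact inf_le_inf_left T (Subgroup.centralizer_le h2)

theorem ev_one_le_lower (T : Subgroup G) : ev T 1 ≤ lower T := ev_le_lower T 1

/-- abelian normal subgroups of `S` lie in `L_*(S)` -/
theorem le_lower_of_normal_abelian (S D : Subgroup G) (hDS : D ≤ S) (hDc : IsMulCommutative D)
    (hSD : S ≤ Subgroup.normalizer (D : Set G)) : D ≤ lower S :=
  (le_stepIn hDS hDc ((od_le S 0).trans hSD)).trans (ev_le_lower S 1)

theorem puig_chain [Finite G] (hsol : Group.IsSolvable G) (hodd : Odd (Nat.card G)) (p : ℕ)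
    [hpf : Fact p.Prime] (hp : p ≠ 2) (hO : Cfsg.pPrimeCore p G = ⊥) (S : Sylow p G) :
    lower (S : Subgroup G) ≤ lower (Cfsg.pCore p G) ∧
      lower (Cfsg.pCore p G) ≤ upper (Cfsg.pCore p G) ∧
      upper (Cfsg.pCore p G) ≤ upper (S : Subgroup G) := by
  haveI := Cfsg.Agent.Helper3.pCore_characteristic p G
  haveI hTn : (Cfsg.pCore p G).Normal := Subgroup.normal_of_characteristic _
  have hTp : IsPGroup p (Cfsg.pCore p G) := pCore_isPGroup p
  have hTS : Cfsg.pCore p G ≤ (S : Subgroup G) := pCore_le_sylow S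
  have hTnil : Group.IsNilpotent (Cfsg.pCore p G) := hTp.isNilpotent
  have key : ∀ n, ev (S : Subgroup G) n ≤ ev (Cfsg.pCore p G) n ∧
      od (Cfsg.pCore p G) n ≤ od (S : Subgroup G) n := by
    intro n
    induction n with
    | zero => exact ⟨bot_le, stepIn_mono_left hTS _⟩
    | succ n ih =>
      have h1 : ev (S : Subgroup G) (n + 1) ≤ ev (Cfsg.pCore p G) (n + 1) := by
        rw [ev_succ, ev_succ]
        refine (stepIn_anti _ ih.2).trans ?_
        apply sSup_le
        rintro A ⟨hAS, hAc, hPA⟩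
        haveI := od_normal (Cfsg.pCore p G) n
        have hPp : IsPGroup p (od (Cfsg.pCore p G) n) := hTp.to_le (od_le _ n)
        have h2 := (OddGL2.abelian_normalized_le_pCore hsol hodd p hp (od (Cfsg.pCore p G) n) hPp
          {A} (by
            intro B hB
            rw [Set.mem_singleton_iff] at hB
            subst hB
            exact ⟨hAc, S.2.to_le hAS, hPA⟩)).2 hO (self_centralizing_od _ hTnil n)
        rw [sSup_singleton] at h2
        exact le_stepIn h2 hAc hPA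
      refine ⟨h1, ?_⟩
      show stepIn (Cfsg.pCore p G) (ev (Cfsg.pCore p G) (n + 1)) ≤
        stepIn (S : Subgroup G) (ev (S : Subgroup G) (n + 1))
      exact (stepIn_anti _ h1).trans (stepIn_mono_left hTS _)
  refine ⟨?_, lower_le_upper _, ?_⟩
  · exact iSup_le fun n => (key n).1.trans (ev_le_lower _ n)
  · exact le_iInf fun n => (upper_le_od _ n).trans (key n).2

end Puig
end Cfsg.Agent.Helper1
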