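import Mathlib
import Cfsg.Prelude.Def_OddOrderLocal
import Cfsg.Agent.Helper1.Puig3

set_option autoImplicit false

/-!
Puig's theorem: `Z(L(S))` is normal in a solvable group of odd order with `O_{p'}(G) = 1`.
-/

namespace Cfsg.Agent.Helper1
namespace Puig

universe u

/-- `Z(L(H))` -/
def zl {G : Type u} [Group G] (H : Subgroup G) : Subgroup G :=
  upper H ⊓ Subgroup.centralizer (upper H : Set G)

section basic
variable {G : Type u} [Group G]

theorem zl_le_upper (H : Subgroup G) : zl H ≤ upper H := inf_le_left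

theorem zl_le (H : Subgroup G) : zl H ≤ H := (zl_le_upper H).trans (upper_le H)

theorem zl_comm (H : Subgroup G) : IsMulCommutative (zl H) := by
  refine ⟨⟨fun x y => ?_⟩⟩
  apply Subtype.ext
  have hx : (x : G) ∈ Subgroup.centralizer (upper H : Set G) := x.2.2
  exact (Subgroup.mem_centralizer_iff.1 hx (y : G) y.2.1).symm

theorem upper_le_centralizer_zl (H : Subgroup G) :
    upper H ≤ Subgroup.centralizer (zl H : Set G) := by
  intro u hu
  rw [Subgroup.mem_centralizer_iff]
  intro z hz
  exact (Subgroup.mem_centralizer_iff.1 hz.2 u hu).symm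

theorem zl_le_lower [Finite G] (S : Subgroup G) : zl S ≤ lower S := by
  rw [← stepIn_upper S]
  exact le_stepIn (zl_le S) (zl_comm S)
    ((upper_le_centralizer_zl S).trans (Subgroup.centralizer_le_normalizer _))

theorem zl_normal_of_normal (T : Subgroup G) [T.Normal] : (zl T).Normal := by
  haveI := upper_normal T
  unfold zl
  infer_instance

theorem zl_map_subtype (N : Subgroup G) (H : Subgroup ↥N) :
    (zl H).map N.subtype = zl (H.map N.subtype) := by
  unfold zl
  rw [Cfsg.Agent.Lead.ZJ.map_inf_centralizer N (upper H), upper_map _ (Subgroup.subtype_injective N)]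

theorem coprime_relIndex_normal [Finite G] {p : ℕ} [hpf : Fact p.Prime] (S : Sylow p G)
    (K : Subgroup G) [K.Normal] : ((S : Subgroup G).relIndex K).Coprime p := by
  have e1 : Nat.card ↥((S : Subgroup G) ⊔ K) = K.relIndex (S : Subgroup G) * Nat.card K := by
    rw [← relIndex_mul_card_of_le (le_sup_right : K ≤ (S : Subgroup G) ⊔ K),
      Subgroup.relIndex_sup_right]
  have e2 : Nat.card ↥((S : Subgroup G) ⊔ K) =
      (S : Subgroup G).relIndex ((S : Subgroup G) ⊔ K) * Nat.card (S : Subgroup G) :=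
    (relIndex_mul_card_of_le (le_sup_left : (S : Subgroup G) ≤ (S : Subgroup G) ⊔ K)).symm
  have e3 : Nat.card (S : Subgroup G) =
      K.relIndex (S : Subgroup G) * Nat.card ↥(K ⊓ (S : Subgroup G)) := by
    rw [← Subgroup.inf_relIndex_right K (S : Subgroup G)]
    exact (relIndex_mul_card_of_le (inf_le_right : K ⊓ (S : Subgroup G) ≤ S)).symm
  have e4 : Nat.card K =
      (S : Subgroup G).relIndex K * Nat.card ↥(K ⊓ (S : Subgroup G)) := by
    rw [← Subgroup.inf_relIndex_right (S : Subgroup G) K, inf_comm]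
    exact (relIndex_mul_card_of_le (inf_le_left : K ⊓ (S : Subgroup G) ≤ K)).symm
  have hpos : 0 < K.relIndex (S : Subgroup G) * Nat.card ↥(K ⊓ (S : Subgroup G)) := by
    rw [← e3]; exact Nat.card_pos
  have heq : (S : Subgroup G).relIndex ((S : Subgroup G) ⊔ K) = (S : Subgroup G).relIndex K := by
    have h1 : (S : Subgroup G).relIndex ((S : Subgroup G) ⊔ K) *
        (K.relIndex (S : Subgroup G) * Nat.card ↥(K ⊓ (S : Subgroup G))) =
        (S : Subgroup G).relIndex K *
          (K.relIndex (S : Subgroup G) * Nat.card ↥(K ⊓ (S : Subgroup G))) := by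
      calc (S : Subgroup G).relIndex ((S : Subgroup G) ⊔ K) *
            (K.relIndex (S : Subgroup G) * Nat.card ↥(K ⊓ (S : Subgroup G)))
          = (S : Subgroup G).relIndex ((S : Subgroup G) ⊔ K) * Nat.card (S : Subgroup G) := by
            rw [← e3]
        _ = K.relIndex (S : Subgroup G) * Nat.card K := by rw [← e2, e1]
        _ = K.relIndex (S : Subgroup G) *
            ((S : Subgroup G).relIndex K * Nat.card ↥(K ⊓ (S : Subgroup G))) := by rw [← e4]
        _ = _ := by ring
    exact Nat.eq_of_mul_eq_mul_right hpos h1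
  have hdvd : (S : Subgroup G).relIndex K ∣ (S : Subgroup G).index := by
    rw [← heq]; exact Subgroup.relIndex_dvd_index_of_le le_sup_left
  rw [Nat.coprime_comm, Nat.Prime.coprime_iff_not_dvd hpf.out]
  intro h3
  exact S.not_dvd_index (h3.trans hdvd)

theorem le_normalizer_map_subtype_of_normal (N : Subgroup G) (W : Subgroup ↥N) [hW : W.Normal] :
    N ≤ Subgroup.normalizer ((W.map N.subtype : Subgroup G) : Set G) := by
  have key : ∀ t ∈ N, ∀ x ∈ W.map N.subtype, t * x * t⁻¹ ∈ W.map N.subtype := by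
    rintro t ht _ ⟨y, hy, rfl⟩
    exact ⟨⟨t, ht⟩ * y * ⟨t, ht⟩⁻¹, hW.conj_mem y hy ⟨t, ht⟩, rfl⟩
  intro t ht
  rw [Subgroup.mem_normalizer_iff]
  intro x
  refine ⟨key t ht x, fun h => ?_⟩
  have := key t⁻¹ (inv_mem ht) _ h
  simpa [mul_assoc] using this

theorem zl_map_equiv {G' : Type u} [Group G'] (e : G ≃* G') (H : Subgroup G) :
    (zl H).map e.toMonoidHom = zl (H.map e.toMonoidHom) := by
  unfold zl
  rw [Subgroup.map_inf _ _ _ e.injective, ThompsonRed.centralizer_map_equiv',
    upper_map e.toMonoidHom e.injective]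

theorem normalizer_le_normalizer_zl (H : Subgroup G) :
    Subgroup.normalizer (H : Set G) ≤ Subgroup.normalizer (zl H : Set G) := by
  intro g hg
  have h1 : H.map (MulAut.conj g).toMonoidHom = H :=
    (Subgroup.mem_normalizer_iff_map_conj_eq (H := H)).1 hg
  have h2 := zl_map_equiv (MulAut.conj g) H
  rw [h1] at h2
  rw [Subgroup.mem_normalizer_iff_map_conj_eq]
  exact h2

end basic

theorem zl_normal_aux : ∀ (n : ℕ) (G : Type u) [Group G] [Finite G], Nat.card G = n →
    Group.IsSolvable G → Odd (Nat.card G) → ∀ (p : ℕ) [Fact p.Prime], p ≠ 2 →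
    Cfsg.pPrimeCore p G = ⊥ → ∀ S : Sylow p G, (zl (S : Subgroup G)).Normal := by
  intro n
  induction n using Nat.strong_induction_on with
  | _ n ih =>
  intro G _ _ hcard hsol hodd p hpf hp hO S
  haveI := hsol
  haveI := Cfsg.Agent.Helper3.pCore_characteristic p G
  haveI hTn : (Cfsg.pCore p G).Normal := Subgroup.normal_of_characteristic _
  have hTp : IsPGroup p (Cfsg.pCore p G) := pCore_isPGroup p
  have hTS : Cfsg.pCore p G ≤ (S : Subgroup G) := pCore_le_sylow S
  have hcent : Subgroup.centralizer (Cfsg.pCore p G : Set G) ≤ Cfsg.pCore p G :=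
    centralizer_pCore_le p hO
  obtain ⟨hch1, hch2, hch3⟩ := puig_chain hsol hodd p hp hO S
  -- `D = Z(L(T))`
  obtain ⟨D, hD⟩ : ∃ D : Subgroup G, D = zl (Cfsg.pCore p G) := ⟨_, rfl⟩
  haveI hDn : D.Normal := hD ▸ zl_normal_of_normal _
  have hDc : IsMulCommutative D := hD ▸ zl_comm _
  have hDT : D ≤ Cfsg.pCore p G := hD ▸ zl_le _
  have hDp : IsPGroup p D := hTp.to_le hDT
  -- `Z ≤ D`
  have hZD : zl (S : Subgroup G) ≤ D := by
    rw [hD]
    refine le_inf (((zl_le_lower _).trans hch1).trans hch2) ?_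
    exact (inf_le_right : zl (S : Subgroup G) ≤ _).trans (Subgroup.centralizer_le hch3)
  -- `L(S) ≤ K`
  have hDlow : D ≤ lower (S : Subgroup G) :=
    le_lower_of_normal_abelian _ D (hDT.trans hTS) hDc
      (le_top.trans (Subgroup.normalizer_eq_top_iff.2 hDn).ge)
  obtain ⟨K, hK⟩ : ∃ K : Subgroup G, K = (Cfsg.pCore p (G ⧸ Subgroup.centralizer (D : Set G))).comap
      (QuotientGroup.mk' (Subgroup.centralizer (D : Set G))) := ⟨_, rfl⟩
  haveI hKn : K.Normal := by
    haveI := Cfsg.Agent.Helper3.pCore_characteristic p (G ⧸ Subgroup.centralizer (D : Set G))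
    haveI : (Cfsg.pCore p (G ⧸ Subgroup.centralizer (D : Set G))).Normal :=
      Subgroup.normal_of_characteristic _
    rw [hK]; infer_instance
  have hLK : upper (S : Subgroup G) ≤ K := by
    have h1 := (OddGL2.abelian_normalized_le_pCore hsol hodd p hp D hDp
      {A : Subgroup G | A ≤ (S : Subgroup G) ∧ IsMulCommutative A ∧
        lower (S : Subgroup G) ≤ Subgroup.normalizer (A : Set G)} (by
        rintro B ⟨hBS, hBc, hBn⟩
        exact ⟨hBc, S.2.to_le hBS, hDlow.trans hBn⟩)).1
    rw [Subgroup.map_le_iff_le_comap] at h1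
    rw [hK, ← stepIn_lower]
    exact h1
  have hCK : Subgroup.centralizer (D : Set G) ≤ K := by
    intro c hc
    rw [hK, Subgroup.mem_comap]
    have : (QuotientGroup.mk' (Subgroup.centralizer (D : Set G))) c = 1 :=
      (QuotientGroup.eq_one_iff c).2 hc
    rw [this]; exact Subgroup.one_mem _
  have hTK : Cfsg.pCore p G ≤ K := by
    intro t ht
    rw [hK, Subgroup.mem_comap]
    have h1 : (Cfsg.pCore p G).map (QuotientGroup.mk' (Subgroup.centralizer (D : Set G))) ≤
        Cfsg.pCore p (G ⧸ Subgroup.centralizer (D : Set G)) :=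
      le_pCore (hTn.map _ (QuotientGroup.mk'_surjective _)) (hTp.map _)
    exact h1 (Subgroup.mem_map_of_mem _ ht)
  -- `S₁ = S ∩ K`
  obtain ⟨S₁, hS₁⟩ : ∃ S₁ : Subgroup G, S₁ = (S : Subgroup G) ⊓ K := ⟨_, rfl⟩
  have hS₁S : S₁ ≤ (S : Subgroup G) := hS₁ ▸ inf_le_left
  have hS₁K : S₁ ≤ K := hS₁ ▸ inf_le_right
  have hrel : (S₁.relIndex K).Coprime p := by
    have h1 : S₁.relIndex K = (S : Subgroup G).relIndex K := by
      rw [hS₁, Subgroup.inf_relIndex_right]
    rw [h1]
    exact coprime_relIndex_normal S K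
  -- `K = S₁ C`
  have hKle : K ≤ S₁ ⊔ Subgroup.centralizer (D : Set G) := by
    have h1 : (S₁ ⊔ Subgroup.centralizer (D : Set G)).relIndex K ∣ S₁.relIndex K :=
      Subgroup.relIndex_dvd_of_le_left K le_sup_left
    have h2 : (S₁ ⊔ Subgroup.centralizer (D : Set G)).relIndex K ∣
        (Subgroup.centralizer (D : Set G)).relIndex K :=
      Subgroup.relIndex_dvd_of_le_left K le_sup_right
    have h3 : (Subgroup.centralizer (D : Set G)).relIndex K =
        Nat.card (Cfsg.pCore p (G ⧸ Subgroup.centralizer (D : Set G))) := by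
      have := Subgroup.relIndex_ker (K := K) (QuotientGroup.mk' (Subgroup.centralizer (D : Set G)))
      rw [QuotientGroup.ker_mk'] at this
      rw [this, hK, Subgroup.map_comap_eq_self_of_surjective (QuotientGroup.mk'_surjective _)]
    obtain ⟨k, hk⟩ := IsPGroup.iff_card.1
      (pCore_isPGroup (G := G ⧸ Subgroup.centralizer (D : Set G)) p)
    rw [h3, hk] at h2
    have h4 : (S₁ ⊔ Subgroup.centralizer (D : Set G)).relIndex K = 1 := by
      have hc1 : ((S₁ ⊔ Subgroup.centralizer (D : Set G)).relIndex K).Coprime p :=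
        Nat.Coprime.coprime_dvd_left h1 hrel
      exact Nat.Coprime.eq_one_of_dvd (Nat.Coprime.pow_right k hc1) h2
    exact Subgroup.relIndex_eq_one.1 h4
  -- `K` normalizes `Z`
  have hSZ : (S : Subgroup G) ≤ Subgroup.normalizer (zl (S : Subgroup G) : Set G) :=
    Subgroup.le_normalizer.trans (normalizer_le_normalizer_zl _)
  have hKZ : K ≤ Subgroup.normalizer (zl (S : Subgroup G) : Set G) := by
    refine hKle.trans (sup_le (hS₁S.trans hSZ) ?_)
    exact (Subgroup.centralizer_le hZD).trans (Subgroup.centralizer_le_normalizer _)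
  -- Frattini argument
  have hpg : IsPGroup p (S₁.subgroupOf K) :=
    (S.2.to_le hS₁S).comap_of_injective K.subtype K.subtype_injective
  have hidx : ¬ p ∣ (S₁.subgroupOf K).index := by
    intro h
    exact (Nat.Prime.coprime_iff_not_dvd hpf.out).1 hrel.symm h
  have hfr := Sylow.normalizer_sup_eq_top (hpg.toSylow hidx)
  have hQ : ((hpg.toSylow hidx : Sylow p K) : Subgroup K).map K.subtype = S₁ := by
    change (S₁.subgroupOf K).map K.subtype = S₁
    rw [Subgroup.subgroupOf_map_subtype]; exact inf_eq_left.2 hS₁K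
  rw [hQ] at hfr
  suffices hsuff : Subgroup.normalizer (S₁ : Set G) ≤
      Subgroup.normalizer (zl (S : Subgroup G) : Set G) by
    rw [← Subgroup.normalizer_eq_top_iff, eq_top_iff, ← hfr]
    exact sup_le hsuff hKZ
  by_cases hN : Subgroup.normalizer (S₁ : Set G) = ⊤
  · -- `S₁ = T`, `L(S) ≤ T`
    have hS₁n : S₁.Normal := Subgroup.normalizer_eq_top_iff.1 hN
    have hS₁T : S₁ ≤ Cfsg.pCore p G := le_pCore hS₁n (S.2.to_le hS₁S)
    have hLT : upper (S : Subgroup G) ≤ Cfsg.pCore p G :=
      (hS₁ ▸ le_inf (upper_le _) hLK : upper (S : Subgroup G) ≤ S₁).trans hS₁T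
    have heq := (upper_eq_of_le hTS hLT).1
    have hzz : zl (S : Subgroup G) = D := by
      rw [hD]; unfold zl; rw [heq]
    rw [hzz]
    exact le_top.trans (Subgroup.normalizer_eq_top_iff.2 hDn).ge
  · -- induction in `N₁ = N(S₁)`
    obtain ⟨N₁, hN₁⟩ : ∃ N₁ : Subgroup G, N₁ = Subgroup.normalizer (S₁ : Set G) := ⟨_, rfl⟩
    rw [← hN₁] at hN ⊢
    have hSN : (S : Subgroup G) ≤ N₁ := by
      rw [hN₁, hS₁]; exact le_normalizer_inf_normal _ K
    have hTN : Cfsg.pCore p G ≤ N₁ := hTS.trans hSN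
    have hlt : Nat.card ↥N₁ < n := by
      rw [← hcard, ← Subgroup.card_top (G := G)]
      exact card_lt_card_of_lt (lt_top_iff_ne_top.2 hN)
    have hsolN : Group.IsSolvable ↥N₁ := inferInstance
    have hoddN : Odd (Nat.card ↥N₁) := Odd.of_dvd_nat hodd (Subgroup.card_subgroup_dvd_card _)
    have hON : Cfsg.pPrimeCore p ↥N₁ = ⊥ := by
      obtain ⟨O, hOdef⟩ : ∃ O : Subgroup G, O = (Cfsg.pPrimeCore p ↥N₁).map N₁.subtype := ⟨_, rfl⟩
      have hOcard : (Nat.card O).Coprime p := by
        rw [hOdef, Subgroup.card_map_of_injective N₁.subtype_injective]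
        exact card_pPrimeCore_coprime p
      have hON₁ : N₁ ≤ Subgroup.normalizer (O : Set G) := by
        haveI : (Cfsg.pPrimeCore p ↥N₁).Normal := Subgroup.normal_of_characteristic _
        rw [hOdef]; exact le_normalizer_map_subtype_of_normal N₁ _
      have hdisj : Cfsg.pCore p G ⊓ O = ⊥ := by
        apply inf_eq_bot_of_coprime_card
        obtain ⟨k, hk⟩ := IsPGroup.iff_card.1 hTp
        rw [hk]; exact (Nat.Coprime.pow_right k hOcard).symm
      have hOC : O ≤ Subgroup.centralizer (Cfsg.pCore p G : Set G) := by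
        intro o ho
        rw [Subgroup.mem_centralizer_iff]
        intro t ht
        have h1 : t * o * t⁻¹ * o⁻¹ ∈ Cfsg.pCore p G ⊓ O := by
          refine ⟨?_, ?_⟩
          · have := hTn.conj_mem t⁻¹ (inv_mem ht) o
            have h2 := Subgroup.mul_mem _ ht this
            simpa [mul_assoc] using h2
          · exact O.mul_mem ((Subgroup.mem_normalizer_iff.1 (hON₁ (hTN ht)) o).1 ho) (O.inv_mem ho)
        rw [hdisj, Subgroup.mem_bot] at h1
        have h3 := congrArg (· * (o * t)) h1
        simpa [mul_assoc] using h3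
      have hOT : O ≤ Cfsg.pCore p G ⊓ O := le_inf (hOC.trans hcent) le_rfl
      rw [hdisj, le_bot_iff, hOdef] at hOT
      exact (Subgroup.map_eq_bot_iff_of_injective _ N₁.subtype_injective).1 hOT
    have hZn := ih (Nat.card ↥N₁) hlt ↥N₁ rfl hsolN hoddN p hp hON (S.subtype hSN)
    rw [Sylow.coe_subtype] at hZn
    have h1 := zl_map_subtype N₁ ((S : Subgroup G).subgroupOf N₁)
    rw [Subgroup.subgroupOf_map_subtype, inf_eq_left.2 hSN] at h1
    rw [← h1]
    exact le_normalizer_map_subtype_of_normal N₁ _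

end Puig
end Cfsg.Agent.Helper1
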