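import Mathlib
import Cfsg.Prelude.Def_OddOrderLocal
import Cfsg.Agent.Helper1.Puig4
import Cfsg.Agent.Helper1.ThompsonFactorQuot

set_option autoImplicit false

/-!
Puig's theorem: `G = O_{p'}(G) N_G(Z(L(S)))` for solvable groups of odd order.
-/

namespace Cfsg.Agent.Helper1
namespace Puig

universe u

open ThompsonRed

theorem map_center_subtype {R : Type u} [Group R] (L : Subgroup R) :
    (Subgroup.center ↥L).map L.subtype = L ⊓ Subgroup.centralizer (L : Set R) := by
  ext x
  constructor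
  · rintro ⟨y, hy, rfl⟩
    refine Subgroup.mem_inf.2 ⟨y.2, ?_⟩
    rw [Subgroup.mem_centralizer_iff]
    intro h hh
    have := Subgroup.mem_center_iff.1 hy ⟨h, hh⟩
    exact congrArg Subtype.val this
  · intro hx
    obtain ⟨hxL, hxC⟩ := Subgroup.mem_inf.1 hx
    refine ⟨⟨x, hxL⟩, ?_, rfl⟩
    rw [SetLike.mem_coe, Subgroup.mem_center_iff]
    intro h
    apply Subtype.ext
    exact Subgroup.mem_centralizer_iff.1 hxC (h : R) h.2

theorem puigZ_eq (R : Type u) [Group R] :
    (Subgroup.center ↥(Cfsg.puigSubgroup R)).map (Cfsg.puigSubgroup R).subtype =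
      zl (⊤ : Subgroup R) := by
  rw [map_center_subtype, puigSubgroup_eq]
  rfl

/-- the functor `R ↦ Z(L(R))` -/
def puigZFunctor : CharFunctor.{u} where
  W := fun R _ => (Subgroup.center ↥(Cfsg.puigSubgroup R)).map (Cfsg.puigSubgroup R).subtype
  map_equiv := by
    intro R R' _ _ e
    rw [puigZ_eq, puigZ_eq, zl_map_equiv e, Subgroup.map_top_of_surjective _ e.surjective]

theorem puigZFunctor_of {G : Type u} [Group G] (S : Subgroup G) :
    puigZFunctor.of S = zl S := by
  unfold CharFunctor.of puigZFunctor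
  show ((Subgroup.center ↥(Cfsg.puigSubgroup ↥S)).map (Cfsg.puigSubgroup ↥S).subtype).map
    S.subtype = zl S
  rw [puigZ_eq, zl_map_subtype, map_top_subtype]

theorem puig_factorization {G : Type u} [Group G] [Finite G] (hsol : Group.IsSolvable G)
    (hodd : Odd (Nat.card G)) (p : ℕ) [hpf : Fact p.Prime] (hp : p ≠ 2) (S : Sylow p G) :
    Cfsg.pPrimeCore p G ⊔ Subgroup.normalizer (puigZFunctor.of (S : Subgroup G) : Set G) = ⊤ ∧
      (Cfsg.pPrimeCore p G = ⊥ → (puigZFunctor.of (S : Subgroup G)).Normal) := by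
  haveI := hsol
  have hKcop : (Nat.card (Cfsg.pPrimeCore p G)).Coprime p := card_pPrimeCore_coprime p
  have hπs : Function.Surjective (QuotientGroup.mk' (Cfsg.pPrimeCore p G)) :=
    QuotientGroup.mk'_surjective _
  have hKb : Cfsg.pPrimeCore p (G ⧸ Cfsg.pPrimeCore p G) = ⊥ := pPrimeCore_quotient_pPrimeCore p
  have hsol' : Group.IsSolvable (G ⧸ Cfsg.pPrimeCore p G) := inferInstance
  have hodd' : Odd (Nat.card (G ⧸ Cfsg.pPrimeCore p G)) :=
    Odd.of_dvd_nat hodd (Subgroup.card_quotient_dvd_card _)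
  have hn := zl_normal_aux _ (G ⧸ Cfsg.pPrimeCore p G) rfl hsol' hodd' p hp hKb
    (S.mapSurjective hπs)
  rw [Sylow.coe_mapSurjective, ← puigZFunctor_of] at hn
  have hdisj : (S : Subgroup G) ⊓ (QuotientGroup.mk' (Cfsg.pPrimeCore p G)).ker = ⊥ := by
    rw [QuotientGroup.ker_mk']
    apply inf_eq_bot_of_coprime_card
    obtain ⟨k, hk⟩ := IsPGroup.iff_card.1 S.2
    rw [hk]; exact (Nat.Coprime.pow_right k hKcop).symm
  rw [puigZFunctor.of_map _ _ hdisj] at hn
  have hZp : IsPGroup p (puigZFunctor.of (S : Subgroup G)) := S.2.to_le (puigZFunctor.of_le _)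
  have hmain : Cfsg.pPrimeCore p G ⊔
      Subgroup.normalizer (puigZFunctor.of (S : Subgroup G) : Set G) = ⊤ := by
    rw [eq_top_iff]
    intro g _
    have hg : (QuotientGroup.mk' (Cfsg.pPrimeCore p G)) g ∈ Subgroup.normalizer
        (((puigZFunctor.of (S : Subgroup G)).map
          (QuotientGroup.mk' (Cfsg.pPrimeCore p G)) : Subgroup (G ⧸ Cfsg.pPrimeCore p G)) :
          Set (G ⧸ Cfsg.pPrimeCore p G)) := by
      rw [Subgroup.normalizer_eq_top_iff.2 hn]; exact Subgroup.mem_top _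
    obtain ⟨n, hn', hng⟩ := normalizer_map_mk'_le (Cfsg.pPrimeCore p G) _ hZp hKcop hg
    have h1 : g * n⁻¹ ∈ Cfsg.pPrimeCore p G := by
      rw [← QuotientGroup.eq_one_iff, QuotientGroup.mk_mul, QuotientGroup.mk_inv]
      have : (QuotientGroup.mk n : G ⧸ Cfsg.pPrimeCore p G) = QuotientGroup.mk g := hng
      rw [this, mul_inv_cancel]
    have : g = (g * n⁻¹) * n := by group
    rw [this]
    exact Subgroup.mul_mem_sup h1 hn'
  refine ⟨hmain, ?_⟩
  intro hbot
  rw [hbot, bot_sup_eq] at hmain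
  exact Subgroup.normalizer_eq_top_iff.1 hmain

end Puig
end Cfsg.Agent.Helper1
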