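import Mathlib
import Cfsg.Agent.Helper5.FrattiniLe
import Cfsg.Agent.Helper5.PGroupCenter

set_option autoImplicit false

/-!
Thompson's critical subgroup of a finite `p`-group.
-/

namespace Cfsg.Agent.Helper1

universe u

variable {P : Type u} [Group P]

/-- The subgroup of elements of `C` which are central of order dividing `p` modulo `A`. -/
def critSub (p : ℕ) (A C : Subgroup P) [A.Normal] : Subgroup P where
  carrier := {x | x ∈ C ∧ (∀ g : P, (g * x)⁻¹ * (x * g) ∈ A) ∧ x ^ p ∈ A}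
  one_mem' := by
    refine ⟨C.one_mem, fun g => ?_, ?_⟩
    · simp
    · simp
  mul_mem' := by
    rintro x y ⟨hxC, hxc, hxp⟩ ⟨hyC, hyc, hyp⟩
    have hcomm : ∀ (x : P), (∀ g : P, (g * x)⁻¹ * (x * g) ∈ A) →
        ∀ g : P, (QuotientGroup.mk g : P ⧸ A) * QuotientGroup.mk x =
          QuotientGroup.mk x * QuotientGroup.mk g := by
      intro x hx g
      rw [← QuotientGroup.mk_mul, ← QuotientGroup.mk_mul, QuotientGroup.eq]
      exact hx g
    refine ⟨C.mul_mem hxC hyC, fun g => ?_, ?_⟩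
    · rw [← QuotientGroup.eq, QuotientGroup.mk_mul, QuotientGroup.mk_mul, QuotientGroup.mk_mul,
        ← mul_assoc, hcomm x hxc g, mul_assoc, hcomm y hyc g, ← mul_assoc, QuotientGroup.mk_mul]
    · rw [← QuotientGroup.eq_one_iff, QuotientGroup.mk_pow, QuotientGroup.mk_mul]
      have hc : Commute (QuotientGroup.mk x : P ⧸ A) (QuotientGroup.mk y) := (hcomm y hyc x)
      rw [hc.mul_pow, ← QuotientGroup.mk_pow, ← QuotientGroup.mk_pow,
        (QuotientGroup.eq_one_iff _).2 hxp, (QuotientGroup.eq_one_iff _).2 hyp, one_mul]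
  inv_mem' := by
    rintro x ⟨hxC, hxc, hxp⟩
    refine ⟨C.inv_mem hxC, fun g => ?_, ?_⟩
    · have h1 := hxc (x⁻¹ * g)
      have h2 : (x⁻¹ * g * x)⁻¹ * (x * (x⁻¹ * g)) = x⁻¹ * g⁻¹ * x * g := by group
      rw [h2] at h1
      -- conjugate by `x` and invert
      have hn : A.Normal := inferInstance
      have h3 := hn.conj_mem _ h1 x
      have h4 := A.inv_mem h3
      have e : (x * (x⁻¹ * g⁻¹ * x * g) * x⁻¹)⁻¹ = (g * x⁻¹)⁻¹ * (x⁻¹ * g) := by group
      rw [e] at h4
      exact h4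
    · rw [inv_pow]; exact A.inv_mem hxp

theorem mem_critSub {p : ℕ} {A C : Subgroup P} [A.Normal] {x : P} :
    x ∈ critSub p A C ↔ x ∈ C ∧ (∀ g : P, (g * x)⁻¹ * (x * g) ∈ A) ∧ x ^ p ∈ A := Iff.rfl

theorem critSub_characteristic (p : ℕ) (A C : Subgroup P) [hA : A.Characteristic]
    [hC : C.Characteristic] : (critSub p A C).Characteristic := by
  rw [Subgroup.characteristic_iff_comap_le]
  intro φ x hx
  rw [Subgroup.mem_comap, mem_critSub] at hx
  obtain ⟨hxC, hxc, hxp⟩ := hx
  have hAφ := Subgroup.characteristic_iff_comap_eq.1 hA φ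
  have hCφ := Subgroup.characteristic_iff_comap_eq.1 hC φ
  rw [mem_critSub]
  refine ⟨?_, fun g => ?_, ?_⟩
  · rw [← hCφ]; exact hxC
  · rw [← hAφ, Subgroup.mem_comap]
    have := hxc (φ g)
    simpa using this
  · rw [← hAφ, Subgroup.mem_comap]
    simpa using hxp

theorem inf_characteristic (H K : Subgroup P) [hH : H.Characteristic] [hK : K.Characteristic] :
    (H ⊓ K).Characteristic := by
  rw [Subgroup.characteristic_iff_comap_le]
  intro φ x hx
  rw [Subgroup.mem_comap] at hx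
  have hHφ := Subgroup.characteristic_iff_comap_eq.1 hH φ
  have hKφ := Subgroup.characteristic_iff_comap_eq.1 hK φ
  refine Subgroup.mem_inf.2 ⟨?_, ?_⟩
  · rw [← hHφ]; exact hx.1
  · rw [← hKφ]; exact hx.2

theorem exists_critical_subgroup [Finite P] {p : ℕ} [hp : Fact p.Prime] (hP : IsPGroup p P) :
    ∃ H : Subgroup P, H.Characteristic ∧
      (frattini H).map H.subtype ≤ Subgroup.centralizer (H : Set P) ∧
      ⁅H, (⊤ : Subgroup P)⁆ ≤ H ⊓ Subgroup.centralizer (H : Set P) ∧
      Subgroup.centralizer (H : Set P) ≤ H := by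
  let 𝒜 : Set (Subgroup P) := {A | A.Characteristic ∧ ∀ a ∈ A, ∀ b ∈ A, a * b = b * a}
  have hbot : (⊥ : Subgroup P) ∈ 𝒜 := by
    refine ⟨Subgroup.botCharacteristic, ?_⟩
    intro a ha b hb
    rw [Subgroup.mem_bot] at ha hb
    rw [ha, hb]
  obtain ⟨A, -, hAmax⟩ := (Set.toFinite 𝒜).exists_le_maximal hbot
  obtain ⟨hAchar, hAab⟩ : A ∈ 𝒜 := hAmax.prop
  have hAn : A.Normal := inferInstance
  obtain ⟨C, hCdef⟩ : ∃ C : Subgroup P, C = Subgroup.centralizer (A : Set P) := ⟨_, rfl⟩
  have hCchar : C.Characteristic := by rw [hCdef]; infer_instance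
  have hAC : A ≤ C := by
    intro a ha
    rw [hCdef, Subgroup.mem_centralizer_iff]
    exact fun b hb => hAab b hb a ha
  obtain ⟨H, hHdef⟩ : ∃ H : Subgroup P, H = critSub p A C := ⟨_, rfl⟩
  have hHchar : H.Characteristic := by rw [hHdef]; exact critSub_characteristic p A C
  have hmemH : ∀ x : P, x ∈ H ↔ x ∈ C ∧ (∀ g : P, (g * x)⁻¹ * (x * g) ∈ A) ∧ x ^ p ∈ A := by
    intro x; rw [hHdef]; exact mem_critSub
  have hAH : A ≤ H := by
    intro a ha
    rw [hmemH]
    refine ⟨hAC ha, fun g => ?_, A.pow_mem ha p⟩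
    have : (g * a)⁻¹ * (a * g) = a⁻¹ * (g⁻¹ * a * g⁻¹⁻¹) := by group
    rw [this]
    exact A.mul_mem (A.inv_mem ha) (hAn.conj_mem a ha g⁻¹)
  have hHC : H ≤ C := fun x hx => ((hmemH x).1 hx).1
  have hAZ : A ≤ Subgroup.centralizer (H : Set P) := by
    intro a ha
    rw [Subgroup.mem_centralizer_iff]
    intro h hh
    have := hHC hh
    rw [hCdef, Subgroup.mem_centralizer_iff] at this
    exact (this a ha).symm
  have hZ : H ⊓ Subgroup.centralizer (H : Set P) = A := by
    have hZchar : (H ⊓ Subgroup.centralizer (H : Set P)).Characteristic :=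
      inf_characteristic _ _
    have hZab : ∀ a ∈ H ⊓ Subgroup.centralizer (H : Set P),
        ∀ b ∈ H ⊓ Subgroup.centralizer (H : Set P), a * b = b * a := by
      intro a ha b hb
      exact Subgroup.mem_centralizer_iff.1 hb.2 a ha.1
    exact le_antisymm (hAmax.2 (show _ ∈ 𝒜 from ⟨hZchar, hZab⟩) (le_inf hAH hAZ))
      (le_inf hAH hAZ)
  have hcommA : ∀ x ∈ H, ∀ g : P, x * g * x⁻¹ * g⁻¹ ∈ A := by
    intro x hx g
    have := ((hmemH _).1 (H.inv_mem hx)).2.1 g⁻¹
    have e : (g⁻¹ * x⁻¹)⁻¹ * (x⁻¹ * g⁻¹) = x * g * x⁻¹ * g⁻¹ := by group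
    rwa [e] at this
  refine ⟨H, hHchar, ?_, ?_, ?_⟩
  · have h1 : frattini H ≤ A.subgroupOf H := by
      apply Cfsg.Agent.Helper5.frattini_le_of_forall (p := p)
      · intro x
        rw [Subgroup.mem_subgroupOf]
        simpa using ((hmemH _).1 x.2).2.2
      · intro x y
        rw [Subgroup.mem_subgroupOf]
        simpa using hcommA x x.2 y
    calc (frattini H).map H.subtype ≤ (A.subgroupOf H).map H.subtype := Subgroup.map_mono h1
      _ ≤ A := by rw [Subgroup.map_subgroupOf_eq_of_le hAH]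
      _ ≤ Subgroup.centralizer (H : Set P) := hAZ
  · rw [hZ, Subgroup.commutator_le]
    intro x hx g _
    rw [commutatorElement_def]
    exact hcommA x hx g
  · by_contra hnot
    obtain ⟨Q', hQ'def⟩ : ∃ Q' : Subgroup P, Q' = Subgroup.centralizer (H : Set P) := ⟨_, rfl⟩
    rw [← hQ'def] at hnot
    have hQ'n : Q'.Normal := by
      have : Q'.Characteristic := by rw [hQ'def]; infer_instance
      infer_instance
    have hQp : IsPGroup p (P ⧸ A) := hP.to_quotient A
    have hQ'bn : (Q'.map (QuotientGroup.mk' A)).Normal :=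
      hQ'n.map _ (QuotientGroup.mk'_surjective A)
    have hne : Q'.map (QuotientGroup.mk' A) ≠ ⊥ := by
      intro h
      apply hnot
      have h1 : Q' ≤ A := by
        have := (Subgroup.map_eq_bot_iff Q').1 h
        rwa [QuotientGroup.ker_mk'] at this
      exact h1.trans hAH
    obtain ⟨z, hzQ, hz1, hzc⟩ :=
      Cfsg.Agent.Helper5.exists_ne_one_mem_center_of_normal hQp _ hne
    obtain ⟨k, hk⟩ := (IsPGroup.iff_orderOf.1 hQp) z
    have hk0 : k ≠ 0 := by
      intro h0
      rw [h0, pow_zero, orderOf_eq_one_iff] at hk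
      exact hz1 hk
    obtain ⟨y, hydef⟩ : ∃ y, y = z ^ p ^ (k - 1) := ⟨_, rfl⟩
    have hyord : orderOf y = p := by
      rw [hydef, orderOf_pow_of_dvd (pow_ne_zero _ hp.out.ne_zero)
        (by rw [hk]; exact pow_dvd_pow p (by omega)), hk]
      have := Nat.pow_div (show k - 1 ≤ k by omega) hp.out.pos
      rw [this, show k - (k - 1) = 1 by omega, pow_one]
    have hyQ : y ∈ Q'.map (QuotientGroup.mk' A) := by
      rw [hydef]; exact Subgroup.pow_mem _ hzQ _
    have hyc : ∀ t, t * y = y * t := by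
      intro t
      rw [hydef]
      exact ((Commute.pow_right (hzc t) _)).eq
    obtain ⟨q, hqQ', hqy⟩ := hyQ
    have hqH : q ∈ H := by
      rw [hmemH]
      refine ⟨?_, fun g => ?_, ?_⟩
      · rw [hCdef]
        have hle : Subgroup.centralizer (H : Set P) ≤ Subgroup.centralizer (A : Set P) :=
          Subgroup.centralizer_le (show (A : Set P) ⊆ (H : Set P) from hAH)
        rw [hQ'def] at hqQ'
        exact hle hqQ'
      · rw [← QuotientGroup.eq, QuotientGroup.mk_mul, QuotientGroup.mk_mul]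
        have hq' : (QuotientGroup.mk q : P ⧸ A) = y := hqy
        rw [hq']
        exact hyc _
      · rw [← QuotientGroup.eq_one_iff, QuotientGroup.mk_pow]
        have hq' : (QuotientGroup.mk q : P ⧸ A) = y := hqy
        rw [hq', ← hyord, pow_orderOf_eq_one]
    have hqA : q ∈ A := by
      rw [← hZ]
      refine Subgroup.mem_inf.2 ⟨hqH, ?_⟩
      rw [← hQ'def]; exact hqQ'
    have hy1 : y = 1 := by
      rw [← hqy]
      exact (QuotientGroup.eq_one_iff q).2 hqA
    rw [hy1, orderOf_one] at hyord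
    exact hp.out.one_lt.ne hyord

end Cfsg.Agent.Helper1
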