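import Mathlib
import Cfsg.Prelude.Def_CaseTheorems
import Cfsg.Agent.Helper1.Basic
import Cfsg.Agent.Helper1.PGroup
import Cfsg.Agent.Helper1.CriticalSubgroup
import Cfsg.Agent.Helper1.CritAut
import Cfsg.Agent.Helper1.OmegaOdd
import Cfsg.Agent.S3771

set_option autoImplicit false

/-!
Automorphisms of `p`-groups of rank at most two (`p` odd): prime divisors of the order of the
automorphism group.
-/

namespace Cfsg.Agent.Helper1.Rank2Aut

universe u

variable {R : Type u} [Group R]

/-- Counting lemma: an automorphism of prime order `q` fixing `N` pointwise and leaving `M`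
invariant has a fixed point in `M \ N` if `q ∤ |M| - |N|`. -/
theorem exists_fixed_of_not_dvd [Finite R] {q : ℕ} [hq : Fact q.Prime] (a : MulAut R)
    (ha : a ^ q = 1) (N M : Subgroup R) (hNM : N ≤ M) (hMa : ∀ x ∈ M, a x ∈ M)
    (hNa : ∀ x ∈ N, a x = x) (hdvd : ¬ q ∣ Nat.card M - Nat.card N) :
    ∃ y ∈ M, y ∉ N ∧ a y = y := by
  classical
  let S := {x : R // x ∈ M ∧ x ∉ N}
  haveI : Fintype S := Fintype.ofFinite S
  have hS : ∀ x : R, x ∈ M ∧ x ∉ N → a x ∈ M ∧ a x ∉ N := by
    rintro x ⟨hxM, hxN⟩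
    refine ⟨hMa x hxM, fun h => hxN ?_⟩
    have h1 := hNa (a x) h
    have h2 : a x = x := a.injective h1
    rw [← h2]; exact h
  let f : Function.End S := fun x => ⟨a x.1, hS x.1 x.2⟩
  have hpow : ∀ n : ℕ, ∀ x : S, ((f ^ n) x).1 = (a ^ n) x.1 := by
    intro n
    induction n with
    | zero => intro x; rfl
    | succ n ih =>
      intro x
      rw [pow_succ', pow_succ']
      show a ((f ^ n) x).1 = a ((a ^ n) x.1)
      rw [ih]
  have hf : f ^ q ^ 1 = 1 := by
    funext x
    apply Subtype.ext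
    rw [pow_one, hpow, ha]
    rfl
  have hmod := Equiv.Perm.card_fixedPoints_modEq (p := q) (n := 1) hf
  have hcard : Fintype.card S = Nat.card M - Nat.card N := by
    rw [← Nat.card_eq_fintype_card]
    have h1 : Nat.card S = ((M : Set R) \ (N : Set R)).ncard := by
      rw [← Nat.card_coe_set_eq]
      rfl
    rw [h1, Set.ncard_sdiff (by exact_mod_cast hNM), ← Nat.card_coe_set_eq,
      ← Nat.card_coe_set_eq]
    rfl
  by_contra hcon
  push Not at hcon
  have hempty : Fintype.card ↥(Function.fixedPoints f) = 0 := by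
    rw [Fintype.card_eq_zero_iff]
    constructor
    rintro ⟨x, hx⟩
    have h1 : (f x).1 = x.1 := congrArg Subtype.val hx
    exact hcon x.1 x.2.1 x.2.2 h1
  rw [hempty, hcard] at hmod
  exact hdvd (Nat.modEq_zero_iff_dvd.1 hmod)

/-- arithmetic: `q ∤ p^i (p^j - 1)` for `j ∈ {1, 2}` when `q ∤ p^2 - 1`, `q ≠ p`. -/
theorem not_dvd_sub {p q : ℕ} (hp : p.Prime) (hq : q.Prime) (hqp : q ≠ p) (hnd : ¬ q ∣ p ^ 2 - 1)
    (i j : ℕ) (hj : j = 1 ∨ j = 2) : ¬ q ∣ p ^ (i + j) - p ^ i := by
  intro h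
  have h1 : p ^ (i + j) - p ^ i = p ^ i * (p ^ j - 1) := by
    rw [pow_add, Nat.mul_sub, mul_one]
  rw [h1] at h
  rcases (Nat.Prime.dvd_mul hq).1 h with h2 | h2
  · have := (Nat.prime_dvd_prime_iff_eq hq hp).1 (hq.dvd_of_dvd_pow h2)
    exact hqp this
  · apply hnd
    rcases hj with rfl | rfl
    · rw [pow_one] at h2
      have : p ^ 2 - 1 = (p - 1) * (p + 1) := by
        have h1p : 1 ≤ p := hp.one_lt.le
        obtain ⟨k, rfl⟩ : ∃ k, p = k + 1 := ⟨p - 1, by omega⟩
        simp only [Nat.add_sub_cancel]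
        have : (k + 1) ^ 2 = k * (k + 1 + 1) + 1 := by ring
        rw [this, Nat.add_sub_cancel]
      rw [this]
      exact Dvd.dvd.mul_right h2 _
    · exact h2

theorem prime_dvd_card_aut [Finite R] {p : ℕ} [hp : Fact p.Prime] (hp2 : p ≠ 2) (hR : IsPGroup p R)
    (hrk : Cfsg.PRankLE p 2 R) (q : ℕ) (hq : q.Prime) (hqp : q ≠ p)
    (hdvd : q ∣ Nat.card (MulAut R)) : q ∣ p ^ 2 - 1 := by
  haveI : Fact q.Prime := ⟨hq⟩
  by_contra hnd
  obtain ⟨a, ha⟩ := exists_prime_orderOf_dvd_card' q hdvd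
  have haq : a ^ q = 1 := ha ▸ pow_orderOf_eq_one a
  have hacop : (orderOf a).Coprime p := by
    rw [ha]; exact (Nat.coprime_primes hq hp.out).2 hqp
  have ha1 : a ≠ 1 := by
    intro h
    rw [h, orderOf_one] at ha
    exact hq.one_lt.ne ha
  -- critical subgroup
  obtain ⟨C, hCchar, h1, h2, h3⟩ := exists_critical_subgroup hR
  have hCn : C.Normal := inferInstance
  have haC : ∀ x, x ∈ C → a x ∈ C := by
    intro x hx
    have := (Subgroup.characteristic_iff_le_comap.1 hCchar) a hx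
    exact this
  have hFC : frattini ↥C ≤ Subgroup.center ↥C := by
    intro x hx
    rw [Subgroup.mem_center_iff]
    intro y
    have hx' : (x : R) ∈ Subgroup.centralizer (C : Set R) := h1 ⟨x, hx, rfl⟩
    apply Subtype.ext
    exact (Subgroup.mem_centralizer_iff.1 hx' y y.2)
  have hCp : IsPGroup p ↥C := hR.to_subgroup C
  have hpowmul : ∀ x y : ↥C, (x * y) ^ p = x ^ p * y ^ p :=
    mul_pow_prime_of_frattini_le_center hp2 hCp hFC
  -- `D = Ω₁(C)`
  let D : Subgroup R :=
    { carrier := {x | x ∈ C ∧ x ^ p = 1}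
      one_mem' := ⟨C.one_mem, one_pow p⟩
      mul_mem' := by
        rintro x y ⟨hx, hxp⟩ ⟨hy, hyp⟩
        refine ⟨C.mul_mem hx hy, ?_⟩
        have h := congrArg (fun z : ↥C => (z : R)) (hpowmul ⟨x, hx⟩ ⟨y, hy⟩)
        simp only [Subgroup.coe_pow, Subgroup.coe_mul] at h
        rw [h, hxp, hyp, one_mul]
      inv_mem' := by
        rintro x ⟨hx, hxp⟩
        exact ⟨C.inv_mem hx, by rw [inv_pow, hxp, inv_one]⟩ }
  have hDmem : ∀ x, x ∈ D ↔ x ∈ C ∧ x ^ p = 1 := fun x => Iff.rfl
  have hDC : D ≤ C := fun x hx => hx.1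
  have hDexp : ∀ x ∈ D, x ^ p = 1 := fun x hx => hx.2
  have haD : ∀ x ∈ D, a x ∈ D := fun x hx =>
    ⟨haC x hx.1, by rw [← map_pow, hx.2, map_one]⟩
  have hDp : IsPGroup p ↥D := hR.to_subgroup D
  have hrkD : ∀ A : Subgroup R, A ≤ D → (∀ x ∈ A, ∀ y ∈ A, x * y = y * x) → Nat.card A ≤ p ^ 2 := by
    intro A hAD hAc
    apply hrk A
    · refine ⟨⟨?_⟩⟩
      rintro ⟨x, hx⟩ ⟨y, hy⟩
      exact Subtype.ext (hAc x hx y hy)
    · intro x hx
      exact hDexp x (hAD hx)
  have hDcard : Nat.card D ≤ p ^ 3 := by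
    apply Cfsg.Agent.S3771.result hDp
    · intro A hAc hAe
      have h4 := hrkD (A.map D.subtype) (Subgroup.map_subtype_le A) (by
        rintro _ ⟨x, hx, rfl⟩ _ ⟨y, hy, rfl⟩
        have := hAc.is_comm.comm ⟨x, hx⟩ ⟨y, hy⟩
        have h5 := congrArg (fun z : ↥A => ((z : ↥D) : R)) this
        simpa using h5)
      rwa [Nat.card_congr (A.equivMapOfInjective D.subtype D.subtype_injective).toEquiv]
    · intro x
      apply Subtype.ext
      exact hDexp x x.2
  -- it suffices to show that `a` is trivial on `D`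
  suffices hD : ∀ x ∈ D, a x = x by
    apply ha1
    apply aut_trivial_of_trivial_on_selfcentralizing hR C hCn h3 a hacop
    -- induction on the exponent
    have key : ∀ n : ℕ, ∀ x ∈ C, x ^ p ^ n = 1 → a x = x := by
      intro n
      induction n with
      | zero =>
        intro x _ hx
        rw [pow_zero, pow_one] at hx
        rw [hx, map_one]
      | succ n ih =>
        intro x hxC hx
        have hxp : a (x ^ p) = x ^ p := by
          apply ih (x ^ p) (C.pow_mem hxC p)
          rw [← pow_mul, ← pow_succ']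
          exact hx
        -- `y = x⁻¹ * a x ∈ D`
        set y := x⁻¹ * a x with hy
        have hyC : y ∈ C := C.mul_mem (C.inv_mem hxC) (haC x hxC)
        have hyp : y ^ p = 1 := by
          have h := congrArg (fun z : ↥C => (z : R))
            (hpowmul ⟨x⁻¹, C.inv_mem hxC⟩ ⟨a x, haC x hxC⟩)
          simp only [Subgroup.coe_pow, Subgroup.coe_mul] at h
          rw [hy, h, ← map_pow, hxp, inv_pow, inv_mul_cancel]
        have hay : a y = y := hD y ⟨hyC, hyp⟩
        have hax : a x = x * y := by rw [hy]; group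
        have hpow : ∀ k : ℕ, (a ^ k) x = x * y ^ k := by
          intro k
          induction k with
          | zero => simp
          | succ k ih =>
            rw [pow_succ', MulAut.mul_apply, ih, map_mul, map_pow, hay, hax, mul_assoc,
              ← pow_succ']
        have h4 := hpow q
        rw [haq, MulAut.one_apply] at h4
        have h5 : y ^ q = 1 := by
          have : x * y ^ q = x * 1 := by rw [← h4, mul_one]
          exact mul_left_cancel this
        have h6 : orderOf y ∣ q := orderOf_dvd_of_pow_eq_one h5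
        have h7 : orderOf y ∣ p := orderOf_dvd_of_pow_eq_one hyp
        have h8 : orderOf y = 1 :=
          Nat.eq_one_of_dvd_coprimes ((Nat.coprime_primes hq hp.out).2 hqp) h6 h7
        have h9 : y = 1 := orderOf_eq_one_iff.1 h8
        rw [hax, h9, mul_one]
    intro x hx
    obtain ⟨n, hn⟩ := hR x
    exact key n x hx hn
  by_cases hDbot : D = ⊥
  · intro x hx
    rw [hDbot, Subgroup.mem_bot] at hx
    rw [hx, map_one]
  have hp1 : 1 < p := hp.out.one_lt
  -- powers of `a` preserve `D`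
  have haDk : ∀ k : ℕ, ∀ x ∈ D, (a ^ k) x ∈ D := by
    intro k
    induction k with
    | zero => intro x hx; simpa using hx
    | succ k ih =>
      intro x hx
      rw [pow_succ', MulAut.mul_apply]
      exact haD _ (ih x hx)
  have hainv : ∀ x ∈ D, ∃ x' ∈ D, a x' = x := by
    intro x hx
    refine ⟨(a ^ (q - 1)) x, haDk _ x hx, ?_⟩
    rw [← MulAut.mul_apply, ← pow_succ', Nat.sub_add_cancel hq.one_lt.le, haq, MulAut.one_apply]
  -- the fixed points
  let F : Subgroup R :=
    { carrier := {x | x ∈ D ∧ a x = x}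
      one_mem' := ⟨D.one_mem, map_one a⟩
      mul_mem' := by
        rintro x y ⟨hx, hax⟩ ⟨hy, hay⟩
        exact ⟨D.mul_mem hx hy, by rw [map_mul, hax, hay]⟩
      inv_mem' := by
        rintro x ⟨hx, hax⟩
        exact ⟨D.inv_mem hx, by rw [map_inv, hax]⟩ }
  have hFD : F ≤ D := fun x hx => hx.1
  have hFa : ∀ x ∈ F, a x = x := fun x hx => hx.2
  -- the centre of `D`
  set Z : Subgroup R := (Subgroup.center ↥D).map D.subtype with hZ
  have hZD : Z ≤ D := Subgroup.map_subtype_le _
  have hZcomm : ∀ z ∈ Z, ∀ d ∈ D, d * z = z * d := by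
    rintro _ ⟨z, hz, rfl⟩ d hd
    have := Subgroup.mem_center_iff.1 hz ⟨d, hd⟩
    exact congrArg (fun w : ↥D => (w : R)) this
  have hZmem : ∀ z ∈ D, (∀ d ∈ D, d * z = z * d) → z ∈ Z := by
    intro z hz h
    refine ⟨⟨z, hz⟩, ?_, rfl⟩
    show (⟨z, hz⟩ : ↥D) ∈ Subgroup.center ↥D
    rw [Subgroup.mem_center_iff]
    intro d
    exact Subtype.ext (h d d.2)
  have haZ : ∀ z ∈ Z, a z ∈ Z := by
    intro z hz
    apply hZmem (a z) (haD z (hZD hz))
    intro d hd
    obtain ⟨d', hd', rfl⟩ := hainv d hd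
    rw [← map_mul, ← map_mul, hZcomm z hz d' hd']
  have hZne : Z ≠ ⊥ := by
    haveI : Nontrivial ↥D := (Subgroup.nontrivial_iff_ne_bot D).2 hDbot
    haveI := hDp.center_nontrivial
    obtain ⟨c, hc⟩ := exists_ne (1 : Subgroup.center ↥D)
    intro hbot
    apply hc
    have h4 : ((c : ↥D) : R) ∈ Z := ⟨c, c.2, rfl⟩
    rw [hbot, Subgroup.mem_bot] at h4
    apply Subtype.ext
    apply Subtype.ext
    exact h4
  have hZle : Nat.card Z ≤ p ^ 2 := by
    apply hrkD Z hZD
    intro x hx y hy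
    exact hZcomm y hy x (hZD hx)
  obtain ⟨j, hj⟩ := IsPGroup.iff_card.1 (hR.to_subgroup Z)
  have hj1 : j = 1 ∨ j = 2 := by
    have hj0 : j ≠ 0 := by
      intro h0
      rw [h0, pow_zero] at hj
      exact hZne (Subgroup.card_eq_one.1 hj)
    have hj2 : j ≤ 2 := by
      rw [hj] at hZle
      exact (Nat.pow_le_pow_iff_right hp1).1 hZle
    omega
  -- a fixed point in `Z`
  obtain ⟨y, hyZ, hy1, hay⟩ := exists_fixed_of_not_dvd a haq ⊥ Z bot_le haZ
    (by intro x hx; rw [Subgroup.mem_bot] at hx; rw [hx, map_one])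
    (by
      have := not_dvd_sub hp.out hq hqp hnd 0 j hj1
      rw [Subgroup.card_bot, hj]
      simpa using this)
  have hyF : y ∈ F := ⟨hZD hyZ, hay⟩
  have hFne : F ≠ ⊥ := by
    intro hbot
    apply hy1
    rw [← hbot]
    exact hyF
  -- `F = D`
  obtain ⟨i, hi⟩ := IsPGroup.iff_card.1 (hR.to_subgroup F)
  obtain ⟨n, hn⟩ := IsPGroup.iff_card.1 hDp
  have hi0 : i ≠ 0 := by
    intro h0
    rw [h0, pow_zero] at hi
    exact hFne (Subgroup.card_eq_one.1 hi)
  have hn3 : n ≤ 3 := by
    rw [hn] at hDcard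
    exact (Nat.pow_le_pow_iff_right hp1).1 hDcard
  have hin : i ≤ n := by
    have := Subgroup.card_le_of_le hFD
    rw [hi, hn] at this
    exact (Nat.pow_le_pow_iff_right hp1).1 this
  by_cases hlt : i = n
  · have hFeq : F = D := by
      apply Subgroup.eq_of_le_of_card_ge hFD
      rw [hi, hn, hlt]
    intro x hx
    exact hFa x (hFeq ▸ hx)
  · exfalso
    obtain ⟨y', hy'D, hy'F, hay'⟩ := exists_fixed_of_not_dvd a haq F D hFD haD hFa
      (by
        have hj' : n - i = 1 ∨ n - i = 2 := by omega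
        have := not_dvd_sub hp.out hq hqp hnd i (n - i) hj'
        rw [hi, hn]
        have e : i + (n - i) = n := by omega
        rwa [e] at this)
    exact hy'F ⟨hy'D, hay'⟩

theorem lt_of_dvd_sq_sub_one {p q : ℕ} (hp : p.Prime) (hp2 : p ≠ 2) (hq : q.Prime)
    (h : q ∣ p ^ 2 - 1) : q < p := by
  have hp3 : 3 ≤ p := by
    have := hp.two_le
    omega
  have hodd : p % 2 = 1 := by
    rcases hp.eq_two_or_odd with h2 | h2
    · exact absurd h2 hp2
    · exact h2
  have e : p ^ 2 - 1 = (p - 1) * (p + 1) := by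
    obtain ⟨k, rfl⟩ : ∃ k, p = k + 1 := ⟨p - 1, by omega⟩
    simp only [Nat.add_sub_cancel]
    have : (k + 1) ^ 2 = k * (k + 1 + 1) + 1 := by ring
    rw [this, Nat.add_sub_cancel]
  rw [e] at h
  rcases (Nat.Prime.dvd_mul hq).1 h with h1 | h1
  · have := Nat.le_of_dvd (by omega) h1
    omega
  · obtain ⟨k, hk⟩ := h1
    have hk0 : k ≠ 0 := by
      rintro rfl
      omega
    have hk1 : k ≠ 1 := by
      rintro rfl
      rw [mul_one] at hk
      -- `q = p + 1` is even, so `q = 2`
      have h2 : 2 ∣ q := by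
        rw [← hk]
        omega
      have := (Nat.prime_dvd_prime_iff_eq Nat.prime_two hq).1 h2
      omega
    have hk2 : 2 ≤ k := by omega
    have : q * 2 ≤ q * k := Nat.mul_le_mul_left q hk2
    omega

end Cfsg.Agent.Helper1.Rank2Aut
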