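import Mathlib
import Cfsg.Prelude.Def_Local
import Cfsg.Agent.Helper1.Cores
import Cfsg.Agent.Helper1.Fitting
import Cfsg.Agent.Helper1.Fitting2
import Cfsg.Agent.Helper1.OddGL2
import Cfsg.Agent.Helper1.OddGL2B

set_option autoImplicit false

/-!
Solvable subgroups of odd order of `GL(2, E)`, `E` a field of odd characteristic `p`:
the derived subgroup has exponent dividing `p`.
-/

namespace Cfsg.Agent.Helper1

namespace OddGL2

open Matrix
open scoped commutatorElement

section abstract

universe u

variable {Γ : Type u} [Group Γ]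

/-- A finite solvable group in which `a` commuting with `g a g⁻¹` forces `g a g⁻¹ = a` is
abelian. -/
theorem comm_of_solvable_of_hK [Finite Γ] [Group.IsSolvable Γ]
    (hK : ∀ a g : Γ, Commute a (g * a * g⁻¹) → g * a * g⁻¹ = a) (a g : Γ) : g * a * g⁻¹ = a := by
  set F := Cfsg.fittingSubgroup Γ with hF
  haveI hFn : F.Normal := inferInstance
  haveI hFnil : Group.IsNilpotent F := fittingSubgroup_isNilpotent
  have hFab : ∀ x y : ↥F, y * x * y⁻¹ = x := by
    apply comm_of_nilpotent_of_hK
    intro x y hc
    apply Subtype.ext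
    have h1 : Commute (x : Γ) ((y : Γ) * (x : Γ) * (y : Γ)⁻¹) := congrArg Subtype.val hc.eq
    exact hK (x : Γ) (y : Γ) h1
  have hFcen : ∀ x ∈ F, ∀ y : Γ, y * x * y⁻¹ = x := by
    intro x hx y
    apply hK
    have hmem : y * x * y⁻¹ ∈ F := hFn.conj_mem x hx y
    have h1 := hFab ⟨y * x * y⁻¹, hmem⟩ ⟨x, hx⟩
    have h2 : x * (y * x * y⁻¹) * x⁻¹ = y * x * y⁻¹ := congrArg Subtype.val h1
    show x * (y * x * y⁻¹) = y * x * y⁻¹ * x
    calc x * (y * x * y⁻¹) = (x * (y * x * y⁻¹) * x⁻¹) * x := by group
      _ = y * x * y⁻¹ * x := by rw [h2]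
  have htop : Subgroup.centralizer (F : Set Γ) = ⊤ := by
    rw [eq_top_iff]
    intro y _
    rw [Subgroup.mem_centralizer_iff]
    intro x hx
    have := hFcen x hx y
    calc x * y = (y * x * y⁻¹) * y := by rw [this]
      _ = y * x := by group
  have hle : (⊤ : Subgroup Γ) ≤ F := htop ▸ centralizer_fittingSubgroup_le
  exact hFcen a (hle (Subgroup.mem_top a)) g

end abstract

variable {E : Type*} [Field E]

/-- a matrix of determinant one fixing a nonzero vector is unipotent -/
theorem pow_char_eq_one_of_fix_det {p : ℕ} [hp : Fact p.Prime] [CharP E p]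
    (X : Matrix (Fin 2) (Fin 2) E) (v : Fin 2 → E) (hv : v ≠ 0) (hXv : X.mulVec v = v)
    (hdet : X.det = 1) : X ^ p = 1 := by
  have hch := cayley_hamilton_two X
  have htr : X.trace = 2 := by
    have h1 := congrArg (fun M : Matrix (Fin 2) (Fin 2) E => M.mulVec v) hch
    simp only [← Matrix.mulVec_mulVec, hXv, Matrix.sub_mulVec, Matrix.smul_mulVec,
      Matrix.one_mulVec, hdet, one_smul] at h1
    -- `v = tr • v - v`
    have h2 : (X.trace - 2) • v = 0 := by
      rw [sub_smul, two_smul]
      have : X.trace • v = v + v := by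
        calc X.trace • v = (X.trace • v - v) + v := by abel
          _ = v + v := by rw [← h1]
      rw [this, sub_self]
    rcases smul_eq_zero.1 h2 with h3 | h3
    · exact sub_eq_zero.1 h3
    · exact absurd h3 hv
  set N := X - 1 with hN
  have hNN : N * N = 0 := by
    rw [hN, sub_mul, mul_sub, mul_one, one_mul, hch, htr, hdet, two_smul, one_smul]
    abel
  have hXN : X = (1 : E) • (1 : Matrix (Fin 2) (Fin 2) E) + N := by
    rw [hN, one_smul]; abel
  obtain ⟨m, hm⟩ := Nat.exists_eq_succ_of_ne_zero hp.out.ne_zero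
  have h1 := pow_succ_smul_one_add_nilp (1 : E) N hNN m
  rw [← hXN] at h1
  rw [hm, Nat.succ_eq_add_one, h1, ← Nat.succ_eq_add_one, ← hm, CharP.cast_eq_zero E p]
  simp

/-- The derived subgroup of a solvable subgroup of odd order of `GL(2, E)` has exponent
dividing `p`. -/
theorem commutator_pow_char {p : ℕ} [hp : Fact p.Prime] [CharP E p] (hp2 : p ≠ 2)
    (L : Subgroup (GL (Fin 2) E)) [Finite L] (hsol : Group.IsSolvable L)
    (hodd : Odd (Nat.card L)) : ∀ x ∈ ⁅L, L⁆, x ^ p = 1 := by
  by_cases hpL : p ∣ Nat.card L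
  · obtain ⟨v, hv0, hv⟩ := exists_invariant_line_of_odd hp2 L hodd hpL
    -- commutators fix `v` and have determinant one
    have key : ∀ x ∈ ⁅L, L⁆, (x : Matrix (Fin 2) (Fin 2) E).mulVec v = v ∧
        (x : Matrix (Fin 2) (Fin 2) E).det = 1 := by
      intro x hx
      rw [Subgroup.commutator_def] at hx
      induction hx using Subgroup.closure_induction with
      | mem x hx =>
        obtain ⟨g, hg, h, hh, rfl⟩ := hx
        obtain ⟨c, hc⟩ := hv g hg
        obtain ⟨d, hd⟩ := hv h hh
        have hginv : ((g⁻¹ : GL (Fin 2) E) : Matrix (Fin 2) (Fin 2) E).mulVec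
            ((g : Matrix (Fin 2) (Fin 2) E).mulVec v) = v := by
          rw [Matrix.mulVec_mulVec, ← Units.val_mul, inv_mul_cancel, Units.val_one,
            Matrix.one_mulVec]
        have hhinv : ((h⁻¹ : GL (Fin 2) E) : Matrix (Fin 2) (Fin 2) E).mulVec
            ((h : Matrix (Fin 2) (Fin 2) E).mulVec v) = v := by
          rw [Matrix.mulVec_mulVec, ← Units.val_mul, inv_mul_cancel, Units.val_one,
            Matrix.one_mulVec]
        have hc0 : c ≠ 0 := by
          rintro rfl
          rw [hc, zero_smul, Matrix.mulVec_zero] at hginv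
          exact hv0 hginv.symm
        have hd0 : d ≠ 0 := by
          rintro rfl
          rw [hd, zero_smul, Matrix.mulVec_zero] at hhinv
          exact hv0 hhinv.symm
        have hgi : ((g⁻¹ : GL (Fin 2) E) : Matrix (Fin 2) (Fin 2) E).mulVec v = c⁻¹ • v := by
          have h' := hginv
          rw [hc, Matrix.mulVec_smul] at h'
          calc ((g⁻¹ : GL (Fin 2) E) : Matrix (Fin 2) (Fin 2) E).mulVec v
              = c⁻¹ • (c • ((g⁻¹ : GL (Fin 2) E) : Matrix (Fin 2) (Fin 2) E).mulVec v) := by
                rw [smul_smul, inv_mul_cancel₀ hc0, one_smul]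
            _ = c⁻¹ • v := by rw [h']
        have hhi : ((h⁻¹ : GL (Fin 2) E) : Matrix (Fin 2) (Fin 2) E).mulVec v = d⁻¹ • v := by
          have h' := hhinv
          rw [hd, Matrix.mulVec_smul] at h'
          calc ((h⁻¹ : GL (Fin 2) E) : Matrix (Fin 2) (Fin 2) E).mulVec v
              = d⁻¹ • (d • ((h⁻¹ : GL (Fin 2) E) : Matrix (Fin 2) (Fin 2) E).mulVec v) := by
                rw [smul_smul, inv_mul_cancel₀ hd0, one_smul]
            _ = d⁻¹ • v := by rw [h']
        refine ⟨?_, ?_⟩
        · rw [commutatorElement_def, Units.val_mul, Units.val_mul, Units.val_mul,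
            ← Matrix.mulVec_mulVec, ← Matrix.mulVec_mulVec, ← Matrix.mulVec_mulVec]
          simp only [Matrix.mulVec_smul, hc, hd, hgi, hhi, smul_smul]
          have e : d⁻¹ * (c⁻¹ * (d * c)) = 1 := by field_simp
          first
            | rw [e, one_smul]
            | (convert one_smul E v using 2; field_simp)
        · have hdg : ((g⁻¹ : GL (Fin 2) E) : Matrix (Fin 2) (Fin 2) E).det *
              (g : Matrix (Fin 2) (Fin 2) E).det = 1 := by
            rw [← Matrix.det_mul, ← Units.val_mul, inv_mul_cancel, Units.val_one, Matrix.det_one]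
          have hdh : ((h⁻¹ : GL (Fin 2) E) : Matrix (Fin 2) (Fin 2) E).det *
              (h : Matrix (Fin 2) (Fin 2) E).det = 1 := by
            rw [← Matrix.det_mul, ← Units.val_mul, inv_mul_cancel, Units.val_one, Matrix.det_one]
          rw [commutatorElement_def, Units.val_mul, Units.val_mul, Units.val_mul,
            Matrix.det_mul, Matrix.det_mul, Matrix.det_mul]
          linear_combination ((h : Matrix (Fin 2) (Fin 2) E).det *
            ((h⁻¹ : GL (Fin 2) E) : Matrix (Fin 2) (Fin 2) E).det) * hdg + hdh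
      | one => exact ⟨by simp, by simp⟩
      | mul x y _ _ hx hy =>
        refine ⟨?_, ?_⟩
        · rw [Units.val_mul, ← Matrix.mulVec_mulVec, hy.1, hx.1]
        · rw [Units.val_mul, Matrix.det_mul, hx.2, hy.2, one_mul]
      | inv x _ hx =>
        refine ⟨?_, ?_⟩
        · have h1 : ((x⁻¹ : GL (Fin 2) E) : Matrix (Fin 2) (Fin 2) E).mulVec
              ((x : Matrix (Fin 2) (Fin 2) E).mulVec v) = v := by
            rw [Matrix.mulVec_mulVec, ← Units.val_mul, inv_mul_cancel, Units.val_one,
              Matrix.one_mulVec]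
          rw [hx.1] at h1
          exact h1
        · have h1 : ((x⁻¹ : GL (Fin 2) E) : Matrix (Fin 2) (Fin 2) E).det *
              (x : Matrix (Fin 2) (Fin 2) E).det = 1 := by
            rw [← Matrix.det_mul, ← Units.val_mul, inv_mul_cancel, Units.val_one, Matrix.det_one]
          rw [hx.2, mul_one] at h1
          exact h1
    intro x hx
    obtain ⟨h1, h2⟩ := key x hx
    apply Units.ext
    rw [Units.val_pow_eq_pow_val, Units.val_one]
    exact pow_char_eq_one_of_fix_det _ v hv0 h1 h2
  · have hcopL : (Nat.card L).Coprime p :=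
      ((Nat.Prime.coprime_iff_not_dvd hp.out).2 hpL).symm
    have hK : ∀ a g : L, Commute a (g * a * g⁻¹) → g * a * g⁻¹ = a := by
      intro a g hc
      have ha : (orderOf a).Coprime p :=
        Nat.Coprime.coprime_dvd_left (orderOf_dvd_natCard a) hcopL
      by_cases hsc : ∃ c : E, ((a : GL (Fin 2) E) : Matrix (Fin 2) (Fin 2) E) = c • 1
      · obtain ⟨c, hc'⟩ := hsc
        apply Subtype.ext
        apply Units.ext
        show ((g : GL (Fin 2) E) : Matrix (Fin 2) (Fin 2) E) * (a : GL (Fin 2) E) *
          ((g⁻¹ : L) : GL (Fin 2) E) = (a : GL (Fin 2) E)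
        rw [hc', mul_smul_comm, mul_one, smul_mul_assoc, ← Units.val_mul]
        simp
      · push Not at hsc
        have h1 := lemmaK_GL hp2 (a : GL (Fin 2) E) (g : GL (Fin 2) E) hsc
          (by rw [Subgroup.orderOf_coe]; exact ha)
          (by
            rw [Subgroup.orderOf_coe]
            exact Odd.of_dvd_nat hodd (orderOf_dvd_natCard g))
          (by
            have := congrArg (fun z : L => (z : GL (Fin 2) E)) hc.eq
            exact this)
        exact Subtype.ext h1
    haveI := hsol
    have hab := comm_of_solvable_of_hK hK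
    have hbot : ⁅L, L⁆ = ⊥ := by
      rw [Subgroup.commutator_eq_bot_iff_le_centralizer]
      intro y hy
      rw [Subgroup.mem_centralizer_iff]
      intro x hx
      have h1 := hab ⟨x, hx⟩ ⟨y, hy⟩
      have h2 : y * x * y⁻¹ = x := congrArg (fun z : L => (z : GL (Fin 2) E)) h1
      calc x * y = (y * x * y⁻¹) * y := by rw [h2]
        _ = y * x := by group
    intro x hx
    rw [hbot, Subgroup.mem_bot] at hx
    rw [hx, one_pow]

end OddGL2

end Cfsg.Agent.Helper1
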