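import Mathlib
import Cfsg.Prelude.Def_CaseTheorems
import Cfsg.Agent.Helper1.Basic
import Cfsg.Agent.Helper1.PGroup
import Cfsg.Agent.Helper1.CriticalSubgroup
import Cfsg.Agent.Helper1.CritAut
import Cfsg.Agent.Helper1.OmegaOdd
import Cfsg.Agent.Helper1.AutPlumbing
import Cfsg.Agent.Helper1.GL2Rep
import Cfsg.Agent.Helper1.OddGL2C
import Cfsg.Agent.S3771

set_option autoImplicit false

/-!
Odd-order solvable groups of automorphisms of a `p`-group of rank at most two (`p` odd): the
`p'`-elements of the derived subgroup are trivial.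
-/

namespace Cfsg.Agent.Helper1.Rank2Key

open Cfsg.Agent.Helper1.AutPlumbing

open scoped commutatorElement

universe u

variable {R : Type u} [Group R]

/-- `Ω₁` of a critical subgroup: characteristic, of exponent `p`, of order at most `p^3` in rank
at most two, and faithful for `p'`-automorphisms. -/
theorem exists_omega_critical [Finite R] {p : ℕ} [hp : Fact p.Prime] (hp2 : p ≠ 2)
    (hR : IsPGroup p R) :
    ∃ D : Subgroup R, D.Characteristic ∧ (∀ x ∈ D, x ^ p = 1) ∧
      (Cfsg.PRankLE p 2 R → Nat.card D ≤ p ^ 3) ∧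
      (∀ a : MulAut R, (orderOf a).Coprime p → (∀ x ∈ D, a x = x) → a = 1) := by
  obtain ⟨C, hCchar, h1, h2, h3⟩ := exists_critical_subgroup hR
  have hCn : C.Normal := inferInstance
  have haC : ∀ a : MulAut R, ∀ x, x ∈ C → a x ∈ C := by
    intro a x hx
    have := (Subgroup.characteristic_iff_le_comap.1 hCchar) a hx
    exact this
  have hFC : frattini ↥C ≤ Subgroup.center ↥C := by
    intro x hx
    rw [Subgroup.mem_center_iff]
    intro y
    have hx' : (x : R) ∈ Subgroup.centralizer (C : Set R) := h1 ⟨x, hx, rfl⟩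
    apply Subtype.ext
    exact (Subgroup.mem_centralizer_iff.1 hx' y y.2)
  have hCp : IsPGroup p ↥C := hR.to_subgroup C
  have hpowmul : ∀ x y : ↥C, (x * y) ^ p = x ^ p * y ^ p :=
    mul_pow_prime_of_frattini_le_center hp2 hCp hFC
  -- `D = Ω₁(C)`
  let D : Subgroup R :=
    { carrier := {x | x ∈ C ∧ x ^ p = 1}
      one_mem' := ⟨C.one_mem, one_pow p⟩
      mul_mem' := by
        rintro x y ⟨hx, hxp⟩ ⟨hy, hyp⟩
        refine ⟨C.mul_mem hx hy, ?_⟩
        have h := congrArg (fun z : ↥C => (z : R)) (hpowmul ⟨x, hx⟩ ⟨y, hy⟩)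
        simp only [Subgroup.coe_pow, Subgroup.coe_mul] at h
        rw [h, hxp, hyp, one_mul]
      inv_mem' := by
        rintro x ⟨hx, hxp⟩
        exact ⟨C.inv_mem hx, by rw [inv_pow, hxp, inv_one]⟩ }
  have hDmem : ∀ x, x ∈ D ↔ x ∈ C ∧ x ^ p = 1 := fun x => Iff.rfl
  have hDC : D ≤ C := fun x hx => hx.1
  have hDexp : ∀ x ∈ D, x ^ p = 1 := fun x hx => hx.2
  have haD : ∀ a : MulAut R, ∀ x ∈ D, a x ∈ D := fun a x hx =>
    ⟨haC a x hx.1, by rw [← map_pow, hx.2, map_one]⟩
  have hDp : IsPGroup p ↥D := hR.to_subgroup D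
  refine ⟨D, ?_, hDexp, ?_, ?_⟩
  · rw [Subgroup.characteristic_iff_le_comap]
    intro a x hx
    exact haD a x hx
  · intro hrk
    have hrkD : ∀ A : Subgroup R, A ≤ D → (∀ x ∈ A, ∀ y ∈ A, x * y = y * x) →
        Nat.card A ≤ p ^ 2 := by
      intro A hAD hAc
      apply hrk A
      · refine ⟨⟨?_⟩⟩
        rintro ⟨x, hx⟩ ⟨y, hy⟩
        exact Subtype.ext (hAc x hx y hy)
      · intro x hx
        exact hDexp x (hAD hx)
    apply Cfsg.Agent.S3771.result hDp
    · intro A hAc hAe
      have h4 := hrkD (A.map D.subtype) (Subgroup.map_subtype_le A) (by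
        rintro _ ⟨x, hx, rfl⟩ _ ⟨y, hy, rfl⟩
        have := hAc.is_comm.comm ⟨x, hx⟩ ⟨y, hy⟩
        have h5 := congrArg (fun z : ↥A => ((z : ↥D) : R)) this
        simpa using h5)
      rwa [Nat.card_congr (A.equivMapOfInjective D.subtype D.subtype_injective).toEquiv]
    · intro x
      apply Subtype.ext
      exact hDexp x x.2
  · intro a hacop hD
    apply aut_trivial_of_trivial_on_selfcentralizing hR C hCn h3 a hacop
    -- induction on the exponent
    have key : ∀ n : ℕ, ∀ x ∈ C, x ^ p ^ n = 1 → a x = x := by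
      intro n
      induction n with
      | zero =>
        intro x _ hx
        rw [pow_zero, pow_one] at hx
        rw [hx, map_one]
      | succ n ih =>
        intro x hxC hx
        have hxp : a (x ^ p) = x ^ p := by
          apply ih (x ^ p) (C.pow_mem hxC p)
          rw [← pow_mul, ← pow_succ']
          exact hx
        -- `y = x⁻¹ * a x ∈ D`
        set y := x⁻¹ * a x with hy
        have hyC : y ∈ C := C.mul_mem (C.inv_mem hxC) (haC a x hxC)
        have hyp : y ^ p = 1 := by
          have h := congrArg (fun z : ↥C => (z : R))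
            (hpowmul ⟨x⁻¹, C.inv_mem hxC⟩ ⟨a x, haC a x hxC⟩)
          simp only [Subgroup.coe_pow, Subgroup.coe_mul] at h
          rw [hy, h, ← map_pow, hxp, inv_pow, inv_mul_cancel]
        have hay : a y = y := hD y ⟨hyC, hyp⟩
        have hax : a x = x * y := by rw [hy]; group
        have hpow : ∀ k : ℕ, (a ^ k) x = x * y ^ k := by
          intro k
          induction k with
          | zero => simp
          | succ k ih =>
            rw [pow_succ', MulAut.mul_apply, ih, map_mul, map_pow, hay, hax, mul_assoc,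
              ← pow_succ']
        have h4 := hpow (orderOf a)
        rw [pow_orderOf_eq_one, MulAut.one_apply] at h4
        have h5 : y ^ orderOf a = 1 := by
          have : x * y ^ orderOf a = x * 1 := by rw [← h4, mul_one]
          exact mul_left_cancel this
        have h6 : orderOf y ∣ orderOf a := orderOf_dvd_of_pow_eq_one h5
        have h7 : orderOf y ∣ p := orderOf_dvd_of_pow_eq_one hyp
        have h8 : orderOf y = 1 := Nat.eq_one_of_dvd_coprimes hacop h6 h7
        have h9 : y = 1 := orderOf_eq_one_iff.1 h8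
        rw [hax, h9, mul_one]
    intro x hx
    obtain ⟨n, hn⟩ := hR x
    exact key n x hx hn

/-- `exists_GL2_rep` for a group known to be commutative -/
theorem exists_GL2_rep' {V : Type*} [Group V] [Finite V] {p : ℕ} [hp : Fact p.Prime]
    (hcomm : ∀ a b : V, a * b = b * a)
    (hexp : ∀ v : V, v ^ p = 1) (hcard : Nat.card V = p ^ 2) :
    ∃ Φ : MulAut V →* GL (Fin 2) (ZMod p), Function.Injective Φ := by
  letI : CommGroup V := { ‹Group V› with mul_comm := hcomm }
  exact Cfsg.Agent.Helper1.GL2Rep.exists_GL2_rep hexp hcard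

/-- automorphisms of a cyclic group commute -/
theorem mulAut_comm_of_isCyclic {V : Type*} [Group V] [IsCyclic V] (a b : MulAut V) :
    a * b = b * a := by
  apply (IsCyclic.mulAutMulEquiv V).injective
  rw [map_mul, map_mul, mul_comm]

/-- a homomorphism to a group in which the image of `X` is commutative kills `⁅X, X⁆` -/
theorem map_commutator_eq_one {A B : Type*} [Group A] [Group B] (f : A →* B) (X : Subgroup A)
    (hc : ∀ a ∈ X, ∀ b ∈ X, f a * f b = f b * f a) : ∀ y ∈ ⁅X, X⁆, f y = 1 := by
  have h1 : ⁅X, X⁆ ≤ f.ker := by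
    rw [Subgroup.commutator_le]
    intro a ha b hb
    rw [MonoidHom.mem_ker, commutatorElement_def, map_mul, map_mul, map_mul, map_inv, map_inv,
      hc a ha b hb]
    group
  intro y hy
  exact MonoidHom.mem_ker.1 (h1 hy)

/-- **Key theorem** (external form): for a solvable group `X` of odd order of automorphisms of a
`p`-group of rank at most two (`p` odd), the `p'`-elements of `⁅X, X⁆` are trivial. -/
theorem commutator_coprime_eq_one [Finite R] {p : ℕ} [hp : Fact p.Prime] (hp2 : p ≠ 2)
    (hR : IsPGroup p R) (hrk : Cfsg.PRankLE p 2 R) (X : Subgroup (MulAut R))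
    (hsol : Group.IsSolvable X) (hodd : Odd (Nat.card X)) :
    ∀ y ∈ ⁅X, X⁆, (orderOf y).Coprime p → y = 1 := by
  obtain ⟨D, hDchar, hDexp, hDcard, hDfaith⟩ := exists_omega_critical hp2 hR
  have hDcard := hDcard hrk
  haveI := hDchar
  have hDp : IsPGroup p ↥D := hR.to_subgroup D
  set ρ : MulAut R →* MulAut ↥D := restrictAut D with hρ
  haveI hΦn : (frattini ↥D).Normal := inferInstance
  set θ : MulAut ↥D →* MulAut (↥D ⧸ frattini ↥D) :=
    quotAut (frattini ↥D) frattini_characteristic with hθ
  -- the quotient `V` is commutative of exponent `p`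
  have hVcomm : ∀ a b : ↥D ⧸ frattini ↥D, a * b = b * a := by
    intro a b
    induction a using QuotientGroup.induction_on with | _ a => ?_
    induction b using QuotientGroup.induction_on with | _ b => ?_
    rw [← QuotientGroup.mk_mul, ← QuotientGroup.mk_mul, QuotientGroup.eq]
    have h2 : (a * b)⁻¹ * (b * a) = ⁅b⁻¹, a⁻¹⁆ := by
      rw [commutatorElement_def]; group
    rw [h2]
    exact (IsPGroup.commutator_le_frattini hDp) (Subgroup.commutator_mem_commutator
        (Subgroup.mem_top _) (Subgroup.mem_top _))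
  have hVexp : ∀ v : ↥D ⧸ frattini ↥D, v ^ p = 1 := by
    intro v
    induction v using QuotientGroup.induction_on with | _ v => ?_
    rw [← QuotientGroup.mk_pow]
    have : v ^ p = 1 := Subtype.ext (hDexp v.1 v.2)
    rw [this]; rfl
  have hVp : IsPGroup p (↥D ⧸ frattini ↥D) := hDp.to_quotient _
  obtain ⟨j, hj⟩ := hVp.exists_card_eq
  have hp1 : 1 < p := hp.out.one_lt
  -- `|V| ≤ p ^ 2`
  have hVcard : Nat.card (↥D ⧸ frattini ↥D) ≤ p ^ 2 := by
    have hmul : Nat.card (↥D ⧸ frattini ↥D) * Nat.card (frattini ↥D) = Nat.card ↥D := by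
      exact (Subgroup.card_eq_card_quotient_mul_card_subgroup _).symm
    by_cases hab : ∀ x ∈ D, ∀ y ∈ D, x * y = y * x
    · have h1 : Nat.card D ≤ p ^ 2 := by
        apply hrk D
        · refine ⟨⟨?_⟩⟩
          rintro ⟨x, hx⟩ ⟨y, hy⟩
          exact Subtype.ext (hab x hx y hy)
        · exact hDexp
      have h2 : Nat.card (↥D ⧸ frattini ↥D) ≤ Nat.card ↥D := by
        rw [← hmul]
        exact Nat.le_mul_of_pos_right _ Nat.card_pos
      exact h2.trans h1
    · have hne : frattini ↥D ≠ ⊥ := by
        intro hbot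
        apply hab
        intro x hx y hy
        have h1 : ⁅(⟨x, hx⟩ : ↥D), ⟨y, hy⟩⁆ ∈ frattini ↥D :=
          (IsPGroup.commutator_le_frattini hDp) (Subgroup.commutator_mem_commutator
            (Subgroup.mem_top _) (Subgroup.mem_top _))
        rw [hbot, Subgroup.mem_bot, commutatorElement_eq_one_iff_mul_comm] at h1
        exact congrArg Subtype.val h1
      have hΦp : IsPGroup p (frattini ↥D) := hDp.to_subgroup _
      obtain ⟨k, hk⟩ := hΦp.exists_card_eq
      have hk0 : k ≠ 0 := by
        rintro rfl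
        rw [pow_zero] at hk
        exact hne (Subgroup.card_eq_one.1 hk)
      have h1 : p ≤ Nat.card (frattini ↥D) := by
        rw [hk]
        calc p = p ^ 1 := (pow_one p).symm
          _ ≤ p ^ k := Nat.pow_le_pow_right hp.out.pos (Nat.one_le_iff_ne_zero.2 hk0)
      have h2 : Nat.card (↥D ⧸ frattini ↥D) * p ≤ p ^ 2 * p := by
        calc Nat.card (↥D ⧸ frattini ↥D) * p
            ≤ Nat.card (↥D ⧸ frattini ↥D) * Nat.card (frattini ↥D) := Nat.mul_le_mul_left _ h1
          _ = Nat.card ↥D := hmul
          _ ≤ p ^ 3 := hDcard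
          _ = p ^ 2 * p := by ring
      exact Nat.le_of_mul_le_mul_right h2 hp.out.pos
  have hj2 : j ≤ 2 := by
    rw [hj] at hVcard
    exact (Nat.pow_le_pow_iff_right hp1).1 hVcard
  -- the image of `⁅X, X⁆` in `Aut V` consists of `p`-elements
  have hpow : ∀ y ∈ ⁅X, X⁆, (θ (ρ y)) ^ p = 1 := by
    by_cases hj2' : j = 2
    · rw [hj2'] at hj
      obtain ⟨Ψ, hΨ⟩ := exists_GL2_rep' hVcomm hVexp hj
      set f : MulAut R →* GL (Fin 2) (ZMod p) := Ψ.comp (θ.comp ρ) with hf
      set L : Subgroup (GL (Fin 2) (ZMod p)) := X.map f with hL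
      have hLsol : Group.IsSolvable L := by
        have hsurj : Function.Surjective (f.subgroupMap X) := f.subgroupMap_surjective X
        exact Group.isSolvable_of_surjective hsurj
      have hLodd : Odd (Nat.card L) := by
        have hdvd : Nat.card L ∣ Nat.card X := Subgroup.card_map_dvd X f
        exact Odd.of_dvd_nat hodd hdvd
      have hcomm := OddGL2.commutator_pow_char hp2 L hLsol hLodd
      intro y hy
      have hfy : f y ∈ ⁅L, L⁆ := by
        rw [hL, ← Subgroup.map_commutator]
        exact Subgroup.mem_map_of_mem f hy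
      have h1 := hcomm (f y) hfy
      apply hΨ
      rw [map_pow, map_one]
      exact h1
    · have hj1 : j ≤ 1 := by omega
      haveI : IsCyclic (↥D ⧸ frattini ↥D) := by
        rcases Nat.le_one_iff_eq_zero_or_eq_one.1 hj1 with h0 | h1
        · rw [h0, pow_zero] at hj
          haveI : Subsingleton (↥D ⧸ frattini ↥D) := (Nat.card_eq_one_iff_unique.1 hj).1
          exact isCyclic_of_subsingleton
        · rw [h1, pow_one] at hj
          exact isCyclic_of_prime_card hj
      intro y hy
      have := map_commutator_eq_one (θ.comp ρ) X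
        (fun a _ b _ => mulAut_comm_of_isCyclic _ _) y hy
      rw [MonoidHom.comp_apply] at this
      rw [this, one_pow]
  intro y hy hycop
  -- `θ (ρ y) = 1`
  have h1 : θ (ρ y) = 1 := by
    have h2 : orderOf (θ (ρ y)) ∣ p := orderOf_dvd_of_pow_eq_one (hpow y hy)
    have h3 : orderOf (θ (ρ y)) ∣ orderOf y :=
      (orderOf_map_dvd θ (ρ y)).trans (orderOf_map_dvd ρ y)
    exact orderOf_eq_one_iff.1 (Nat.eq_one_of_dvd_coprimes hycop h3 h2)
  -- `ρ y = 1`
  have h2 : ρ y = 1 := by
    apply eq_one_of_trivial_mod_frattini hDp (ρ y)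
      (hycop.coprime_dvd_left (orderOf_map_dvd ρ y))
    intro x
    have h3 : θ (ρ y) (QuotientGroup.mk x) = QuotientGroup.mk x := by rw [h1]; rfl
    rw [hθ, quotAut_mk] at h3
    exact QuotientGroup.eq.1 h3.symm
  apply hDfaith y hycop
  intro x hx
  have h3 : ρ y ⟨x, hx⟩ = ⟨x, hx⟩ := by rw [h2]; rfl
  have h4 := congrArg Subtype.val h3
  rwa [hρ, restrictAut_apply] at h4

end Cfsg.Agent.Helper1.Rank2Key
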