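import Mathlib
import Cfsg.Prelude.Def_CaseTheorems
import Cfsg.Agent.Helper1.Rank2Key

set_option autoImplicit false

/-!
Internal form of the key theorem on odd-order solvable groups acting on `p`-groups of rank at most
two, and the structure of solvable groups of odd order of `p`-rank at most two.
-/

namespace Cfsg.Agent.Helper1.Rank2Struct

open Cfsg.Agent.Helper1.Rank2Key

universe u

variable {G : Type u} [Group G]

/-- a subgroup of a finite group whose `p'`-elements are trivial is a `p`-group -/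
theorem isPGroup_of_coprime_trivial [Finite G] {p : ℕ} [hp : Fact p.Prime] (H : Subgroup G)
    (h : ∀ z ∈ H, (orderOf z).Coprime p → z = 1) : IsPGroup p ↥H := by
  intro g
  have hpos : orderOf (g : G) ≠ 0 := (orderOf_pos (g : G)).ne'
  obtain ⟨k, m, hm, hkm⟩ := Nat.exists_eq_pow_mul_and_not_dvd hpos p hp.out.ne_one
  refine ⟨k, ?_⟩
  apply Subtype.ext
  rw [Subgroup.coe_pow, Subgroup.coe_one]
  apply h _ (H.pow_mem g.2 _)
  have h1 : ((g : G) ^ p ^ k) ^ m = 1 := by
    rw [← pow_mul, ← hkm, pow_orderOf_eq_one]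
  have h2 : orderOf ((g : G) ^ p ^ k) ∣ m := orderOf_dvd_of_pow_eq_one h1
  have h3 : m.Coprime p := ((Nat.Prime.coprime_iff_not_dvd hp.out).2 hm).symm
  exact h3.coprime_dvd_left h2

/-- **Key theorem** (internal form). -/
theorem commutator_coprime_le_centralizer [Finite G] {p : ℕ} [hp : Fact p.Prime] (hp2 : p ≠ 2)
    (R A : Subgroup G) (hR : IsPGroup p R) (hr : Cfsg.PRankLE p 2 R)
    (hA : A ≤ Subgroup.normalizer (R : Set G)) (hAs : Group.IsSolvable A)
    (hAodd : Odd (Nat.card A)) :
    ∀ z ∈ ⁅A, A⁆, (orderOf z).Coprime p → z ∈ Subgroup.centralizer (R : Set G) := by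
  set φ : Subgroup.normalizer (R : Set G) →* MulAut R := R.normalizerMonoidHom with hφ
  set ψ : A →* MulAut R := φ.comp (Subgroup.inclusion hA) with hψ
  set X : Subgroup (MulAut R) := ψ.range with hX
  have hXsol : Group.IsSolvable X :=
    Group.isSolvable_of_surjective ψ.rangeRestrict_surjective
  have hXodd : Odd (Nat.card X) := by
    have hdvd : Nat.card X ∣ Nat.card A := Subgroup.card_range_dvd ψ
    exact Odd.of_dvd_nat hAodd hdvd
  have key := commutator_coprime_eq_one hp2 hR hr X hXsol hXodd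
  intro z hz hzcop
  -- lift `z` to `A`
  have hcomm : ⁅A, A⁆ = Subgroup.map A.subtype ⁅(⊤ : Subgroup A), (⊤ : Subgroup A)⁆ := by
    rw [Subgroup.map_commutator, ← MonoidHom.range_eq_map, Subgroup.range_subtype]
  rw [hcomm] at hz
  obtain ⟨w, hw, rfl⟩ := hz
  have h1 : ψ w ∈ ⁅X, X⁆ := by
    rw [hX, MonoidHom.range_eq_map, ← Subgroup.map_commutator]
    exact Subgroup.mem_map_of_mem ψ hw
  have h2 : orderOf (ψ w) ∣ orderOf (A.subtype w) := by
    rw [orderOf_injective A.subtype A.subtype_injective w]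
    exact orderOf_map_dvd ψ w
  have h3 : ψ w = 1 := key (ψ w) h1 (hzcop.coprime_dvd_left h2)
  have h4 : Subgroup.inclusion hA w ∈ φ.ker := h3
  rw [hφ, Subgroup.normalizerMonoidHom_ker, Subgroup.mem_subgroupOf] at h4
  exact h4

end Cfsg.Agent.Helper1.Rank2Struct
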