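import Mathlib
import Cfsg.Prelude.Def_CaseTheorems
import Cfsg.Prelude.Def_Solvable
import Cfsg.Agent.Helper1.Rank2Struct
import Cfsg.Agent.Helper1.Rank2Aut
import Cfsg.Agent.Helper1.Hall
import Cfsg.Agent.Helper1.Fitting
import Cfsg.Agent.Helper1.Fitting2
import Cfsg.Agent.Helper1.Cores
import Cfsg.Agent.Helper1.PNilpBasic
import Cfsg.Prelude.Def_Local
import Cfsg.Prelude.Def_Transfer

set_option autoImplicit false

/-!
Structure of solvable groups of odd order and `p`-rank at most two.
-/

namespace Cfsg.Agent.Helper1.Rank2Struct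

open Cfsg.Agent.Helper1

universe u

variable {G : Type u} [Group G]

/-- rank bounds pass to subgroups -/
theorem pRankLE_subgroup {p k : ℕ} (h : Cfsg.PRankLE p k G) (H : Subgroup G) :
    Cfsg.PRankLE p k ↥H := by
  intro A hAc hAe
  have h1 := h (A.map H.subtype) (by
    refine ⟨⟨?_⟩⟩
    rintro ⟨_, x, hx, rfl⟩ ⟨_, y, hy, rfl⟩
    apply Subtype.ext
    have := hAc.is_comm.comm ⟨x, hx⟩ ⟨y, hy⟩
    have h5 := congrArg (fun z : ↥A => ((z : ↥H) : G)) this
    simpa using h5) (by
    rintro _ ⟨x, hx, rfl⟩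
    have := hAe x hx
    have h5 := congrArg (fun z : ↥H => (z : G)) this
    simpa using h5)
  rwa [Nat.card_congr (A.equivMapOfInjective H.subtype H.subtype_injective).toEquiv]

/-- an element of a `p`-subgroup lying in a subgroup of order prime to `p` is trivial -/
theorem eq_one_of_mem_pGroup_of_mem_coprime [Finite G] {p : ℕ} [hp : Fact p.Prime]
    {S K : Subgroup G} (hS : IsPGroup p S) (hK : (Nat.card K).Coprime p) {x : G} (hxS : x ∈ S)
    (hxK : x ∈ K) : x = 1 := by
  obtain ⟨n, hn⟩ := hS ⟨x, hxS⟩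
  have hn' : x ^ p ^ n = 1 := by
    have := congrArg Subtype.val hn
    simpa using this
  have h1 : orderOf x ∣ p ^ n := orderOf_dvd_of_pow_eq_one hn'
  have h2 : orderOf x ∣ Nat.card K := by
    have := orderOf_dvd_natCard (⟨x, hxK⟩ : ↥K)
    rwa [← orderOf_injective K.subtype K.subtype_injective] at this
  have h3 : (Nat.card K).Coprime (p ^ n) := Nat.Coprime.pow_right n hK
  exact orderOf_eq_one_iff.1 (Nat.eq_one_of_dvd_coprimes h3 h2 h1)

/-- rank bounds pass to quotients by normal subgroups of order prime to `p` -/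
theorem pRankLE_quotient_of_coprime [Finite G] {p k : ℕ} [hp : Fact p.Prime]
    (h : Cfsg.PRankLE p k G) (K : Subgroup G) [K.Normal] (hK : (Nat.card K).Coprime p) :
    Cfsg.PRankLE p k (G ⧸ K) := by
  intro A hAc hAe
  set π := QuotientGroup.mk' K with hπ
  set E := A.comap π with hE
  have hEcard : Nat.card E = Nat.card A * Nat.card K := card_comap_mk' K A
  have hAp : IsPGroup p A := by
    intro a
    refine ⟨1, ?_⟩
    apply Subtype.ext
    rw [pow_one, Subgroup.coe_pow]
    exact hAe a a.2
  obtain ⟨a, ha⟩ := IsPGroup.iff_card.1 hAp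
  obtain ⟨S⟩ : Nonempty (Sylow p ↥E) := inferInstance
  set S' : Subgroup G := (S : Subgroup ↥E).map E.subtype with hS'
  have hS'E : S' ≤ E := Subgroup.map_subtype_le _
  have hS'p : IsPGroup p S' := S.2.map E.subtype
  have hS'card : Nat.card S' = Nat.card (S : Subgroup ↥E) :=
    (Nat.card_congr ((S : Subgroup ↥E).equivMapOfInjective E.subtype
      E.subtype_injective).toEquiv).symm
  -- `|A| ≤ |S'|`
  have hle : Nat.card A ≤ Nat.card S' := by
    rw [hS'card]
    have h1 : Nat.card (S : Subgroup ↥E) * (S : Subgroup ↥E).index = Nat.card ↥E :=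
      Subgroup.card_mul_index _
    have h2 : p ^ a ∣ Nat.card (S : Subgroup ↥E) * (S : Subgroup ↥E).index := by
      rw [h1, hEcard, ha]
      exact dvd_mul_right _ _
    have h3 : (p ^ a).Coprime (S : Subgroup ↥E).index := by
      apply Nat.Coprime.pow_left
      exact (Nat.Prime.coprime_iff_not_dvd hp.out).2 S.not_dvd_index
    rw [ha]
    exact Nat.le_of_dvd Nat.card_pos (h3.dvd_of_dvd_mul_right h2)
  refine hle.trans (h S' ?_ ?_)
  · refine ⟨⟨?_⟩⟩
    rintro ⟨x, hx⟩ ⟨y, hy⟩
    apply Subtype.ext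
    show x * y = y * x
    have hxA : π x ∈ A := hS'E hx
    have hyA : π y ∈ A := hS'E hy
    have h1 : π x * π y = π y * π x := by
      have := hAc.is_comm.comm ⟨π x, hxA⟩ ⟨π y, hyA⟩
      exact congrArg Subtype.val this
    have h2 : x * y * (y * x)⁻¹ ∈ K := by
      rw [← QuotientGroup.ker_mk' K, MonoidHom.mem_ker, map_mul, map_inv, map_mul, map_mul, h1,
        mul_inv_cancel]
    have h3 : x * y * (y * x)⁻¹ ∈ S' :=
      S'.mul_mem (S'.mul_mem hx hy) (S'.inv_mem (S'.mul_mem hy hx))
    have h4 := eq_one_of_mem_pGroup_of_mem_coprime hS'p hK h3 h2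
    exact mul_inv_eq_one.1 h4
  · intro x hx
    have hxA : π x ∈ A := hS'E hx
    have h2 : x ^ p ∈ K := by
      rw [← QuotientGroup.ker_mk' K, MonoidHom.mem_ker, map_pow]
      exact hAe _ hxA
    exact eq_one_of_mem_pGroup_of_mem_coprime hS'p hK (S'.pow_mem hx p) h2

/-- Main structural lemma: in a solvable group of odd order and `p`-rank at most two with
`O_{p'}(G) = 1`, the derived subgroup lies in `O_p(G)` and all prime divisors of the order are
at most `p`. -/
theorem structure_of_pPrimeCore_eq_bot [Finite G] [Group.IsSolvable G] (hodd : Odd (Nat.card G))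
    {p : ℕ} [hp : Fact p.Prime] (hp2 : p ≠ 2) (hr : Cfsg.PRankLE p 2 G)
    (hbot : Cfsg.pPrimeCore p G = ⊥) :
    commutator G ≤ Cfsg.pCore p G ∧ ∀ q : ℕ, q.Prime → q ∣ Nat.card G → q ≤ p := by
  set P := Cfsg.pCore p G with hP
  have hPn : P.Normal := inferInstance
  have hPp : IsPGroup p P := pCore_isPGroup p
  have hCP : Subgroup.centralizer (P : Set G) ≤ P := centralizer_pCore_le p hbot
  have hrP : Cfsg.PRankLE p 2 ↥P := pRankLE_subgroup hr P
  have hnorm : (⊤ : Subgroup G) ≤ Subgroup.normalizer (P : Set G) := by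
    rw [Subgroup.normalizer_eq_top]
  have htopsol : Group.IsSolvable (⊤ : Subgroup G) := inferInstance
  have htopodd : Odd (Nat.card (⊤ : Subgroup G)) := by rw [Subgroup.card_top]; exact hodd
  have key := commutator_coprime_le_centralizer hp2 P ⊤ hPp hrP hnorm htopsol htopodd
  have htriv : ∀ z ∈ commutator G, (orderOf z).Coprime p → z = 1 := by
    intro z hz hzcop
    have h1 : z ∈ P := hCP (key z hz hzcop)
    have h2 : (Nat.card (Subgroup.zpowers z)).Coprime p := by
      rw [Nat.card_zpowers]; exact hzcop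
    exact eq_one_of_mem_pGroup_of_mem_coprime hPp h2 h1 (Subgroup.mem_zpowers z)
  have hcp : IsPGroup p ↥(commutator G) := isPGroup_of_coprime_trivial _ htriv
  refine ⟨le_pCore inferInstance hcp, ?_⟩
  intro q hq hqdvd
  by_cases hqp : q = p
  · exact hqp.le
  haveI : Fact q.Prime := ⟨hq⟩
  obtain ⟨x, hx⟩ := exists_prime_orderOf_dvd_card' q hqdvd
  set φ : Subgroup.normalizer (P : Set G) →* MulAut P := P.normalizerMonoidHom with hφ
  set x' : Subgroup.normalizer (P : Set G) := ⟨x, hnorm (Subgroup.mem_top x)⟩ with hx'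
  have hox' : orderOf x' = q := by
    rw [← hx, ← orderOf_injective (Subgroup.normalizer (P : Set G)).subtype
      (Subgroup.subtype_injective _) x']
    rfl
  have hφx : φ x' ≠ 1 := by
    intro h1
    have h4 : x' ∈ φ.ker := h1
    rw [hφ, Subgroup.normalizerMonoidHom_ker, Subgroup.mem_subgroupOf] at h4
    have h5 : x ∈ P := hCP h4
    have h6 : (Nat.card (Subgroup.zpowers x)).Coprime p := by
      rw [Nat.card_zpowers, hx]; exact (Nat.coprime_primes hq hp.out).2 hqp
    have h7 := eq_one_of_mem_pGroup_of_mem_coprime hPp h6 h5 (Subgroup.mem_zpowers x)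
    rw [h7, orderOf_one] at hx
    exact hq.one_lt.ne hx
  have h1 : orderOf (φ x') ∣ q := by
    rw [← hox']; exact orderOf_map_dvd φ x'
  have h2 : orderOf (φ x') = q := by
    rcases (Nat.dvd_prime hq).1 h1 with h | h
    · exact absurd (orderOf_eq_one_iff.1 h) hφx
    · exact h
  have h3 : q ∣ Nat.card (MulAut ↥P) := by
    rw [← h2]; exact orderOf_dvd_natCard _
  have h4 := Rank2Aut.prime_dvd_card_aut hp2 hPp hrP q hq hqp h3
  exact (Rank2Aut.lt_of_dvd_sq_sub_one hp.out hp2 hq h4).le

/-- the full structure statement -/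
theorem odd_solvable_rank_two_structure [Finite G] [Group.IsSolvable G] (hodd : Odd (Nat.card G))
    (p : ℕ) [hp : Fact p.Prime] (hpG : p ∣ Nat.card G) (hr : Cfsg.PRankLE p 2 G) :
    (∀ q : ℕ, q.Prime → q ∣ (Cfsg.pPrimeCore p G).index → q ≤ p) ∧
      ((p = 3 ∨ ∀ q : ℕ, q.Prime → q ∣ Nat.card G → p ≤ q) → Cfsg.HasNormalPComplement p G) ∧
      Cfsg.HasNormalPComplement p ↥(commutator G) ∧
      (∀ L : Subgroup ↥(commutator G), (Nat.card L).Coprime p →
        L ≤ Cfsg.pPrimeCore p ↥(commutator G)) ∧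
      commutator G ≤ Cfsg.pPrimePCore p G ∧ ((Cfsg.pPrimePCore p G).index).Coprime p := by
  have hp2 : p ≠ 2 := by
    rintro rfl
    exact (Nat.not_even_iff_odd.2 hodd) (even_iff_two_dvd.2 hpG)
  set K := Cfsg.pPrimeCore p G with hK
  have hKcop : (Nat.card K).Coprime p := card_pPrimeCore_coprime p
  set π := QuotientGroup.mk' K with hπ
  have hπs : Function.Surjective π := QuotientGroup.mk'_surjective K
  have hQodd : Odd (Nat.card (G ⧸ K)) := by
    have hdvd : Nat.card (G ⧸ K) ∣ Nat.card G := by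
      rw [← Subgroup.index_eq_card]; exact Subgroup.index_dvd_card K
    exact Odd.of_dvd_nat hodd hdvd
  have hQr : Cfsg.PRankLE p 2 (G ⧸ K) := pRankLE_quotient_of_coprime hr K hKcop
  have hQbot : Cfsg.pPrimeCore p (G ⧸ K) = ⊥ := pPrimeCore_quotient_pPrimeCore p
  obtain ⟨hB1, hB2⟩ := structure_of_pPrimeCore_eq_bot hQodd hp2 hQr hQbot
  set Pb := Cfsg.pCore p (G ⧸ K) with hPb
  have hPbp : IsPGroup p Pb := pCore_isPGroup p
  -- image of the derived subgroup
  have hmapcomm : (commutator G).map π ≤ Pb := by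
    rw [commutator_def, Subgroup.map_commutator]
    exact (Subgroup.commutator_mono le_top le_top).trans hB1
  have hmapp : IsPGroup p ((commutator G).map π) := hPbp.to_le hmapcomm
  have hidx : K.index = Nat.card (G ⧸ K) := Subgroup.index_eq_card K
  -- (1)
  have c1 : ∀ q : ℕ, q.Prime → q ∣ K.index → q ≤ p := by
    intro q hq hqd
    rw [hidx] at hqd
    exact hB2 q hq hqd
  -- the normal `p`-complement of `G'`
  set M : Subgroup ↥(commutator G) := K.subgroupOf (commutator G) with hM
  have hMn : M.Normal := inferInstance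
  have hMcop : (Nat.card M).Coprime p := by
    have h1 : Nat.card M ∣ Nat.card K := by
      rw [hM, Cfsg.Agent.Helper1.card_subgroupOf]
      exact Subgroup.card_dvd_of_le inf_le_left
    exact hKcop.coprime_dvd_left h1
  have hMidx : ∃ k : ℕ, M.index = p ^ k := by
    obtain ⟨k, hk⟩ := IsPGroup.iff_card.1 hmapp
    refine ⟨k, ?_⟩
    rw [← hk, hM]
    show K.relIndex (commutator G) = _
    have := Subgroup.relIndex_ker (K := commutator G) π
    rwa [hπ, QuotientGroup.ker_mk'] at this
  refine ⟨c1, ?_, ?_, ?_, ?_, ?_⟩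
  · -- (2)
    intro hcase
    rw [hasNormalPComplement_iff_exists]
    refine ⟨K, inferInstance, hKcop, ?_⟩
    have hall : ∀ {q : ℕ}, q.Prime → q ∣ K.index → q = p := by
      intro q hq hqd
      have hqp := c1 q hq hqd
      have hqG : q ∣ Nat.card G := hqd.trans (Subgroup.index_dvd_card K)
      rcases hcase with h3 | hmin
      · have hq2 : q ≠ 2 := by
          rintro rfl
          exact (Nat.not_even_iff_odd.2 hodd) (even_iff_two_dvd.2 hqG)
        have := hq.two_le
        omega
      · exact le_antisymm hqp (hmin q hq hqG)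
    have hne : K.index ≠ 0 := Subgroup.index_ne_zero_of_finite
    exact ⟨_, Nat.eq_prime_pow_of_unique_prime_dvd hne hall⟩
  · -- (3)
    rw [hasNormalPComplement_iff_exists]
    exact ⟨M, hMn, hMcop, hMidx⟩
  · -- (4)
    intro L hL
    refine le_trans ?_ (le_pPrimeCore hMn hMcop)
    intro l hl
    rw [hM, Subgroup.mem_subgroupOf, ← QuotientGroup.ker_mk' K, MonoidHom.mem_ker]
    have h1 : π (l : G) ∈ (commutator G).map π := Subgroup.mem_map_of_mem π l.2
    have h2 : orderOf (π (l : G)) ∣ Nat.card L := by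
      have h3 : orderOf (π (l : G)) ∣ orderOf (l : G) := orderOf_map_dvd π _
      have h4 : orderOf (l : G) = orderOf l :=
        orderOf_injective (commutator G).subtype (Subgroup.subtype_injective _) l
      have h5 : orderOf l = orderOf (⟨l, hl⟩ : ↥L) :=
        orderOf_injective L.subtype (Subgroup.subtype_injective _) ⟨l, hl⟩
      rw [h4, h5] at h3
      exact h3.trans (orderOf_dvd_natCard _)
    have h6 : (Nat.card (Subgroup.zpowers (π (l : G)))).Coprime p := by
      rw [Nat.card_zpowers]; exact hL.coprime_dvd_left h2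
    exact eq_one_of_mem_pGroup_of_mem_coprime hmapp h6 h1 (Subgroup.mem_zpowers _)
  · -- (5)
    intro g hg
    show g ∈ (Cfsg.pCore p (G ⧸ Cfsg.pPrimeCore p G)).comap
      (QuotientGroup.mk' (Cfsg.pPrimeCore p G))
    rw [Subgroup.mem_comap]
    exact hmapcomm (Subgroup.mem_map_of_mem π hg)
  · -- (6)
    have h1 : (Cfsg.pPrimePCore p G).index = Pb.index := by
      show ((Cfsg.pCore p (G ⧸ Cfsg.pPrimeCore p G)).comap
        (QuotientGroup.mk' (Cfsg.pPrimeCore p G))).index = _
      exact Subgroup.index_comap_of_surjective _ hπs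
    rw [h1]
    obtain ⟨S⟩ : Nonempty (Sylow p (G ⧸ K)) := inferInstance
    have hPbS : Pb ≤ S := pCore_le_sylow S
    have hSn : (S : Subgroup (G ⧸ K)).Normal := by
      constructor
      intro n hn g
      have h2 : g * n * g⁻¹ = (g * n * g⁻¹ * n⁻¹) * n := by group
      rw [h2]
      apply Subgroup.mul_mem _ _ hn
      apply hPbS
      apply hB1
      rw [commutator_def]
      exact Subgroup.commutator_mem_commutator (Subgroup.mem_top g) (Subgroup.mem_top n)
    have hSPb : (S : Subgroup (G ⧸ K)) ≤ Pb := le_pCore hSn S.2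
    have heq : Pb = S := le_antisymm hPbS hSPb
    rw [heq]
    exact ((Nat.Prime.coprime_iff_not_dvd hp.out).2 S.not_dvd_index).symm

end Cfsg.Agent.Helper1.Rank2Struct
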