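import Mathlib
import Cfsg.Agent.Helper1.BGTi
import Cfsg.Agent.Helper1.Puig5
import Cfsg.Agent.Helper1.Rank2Struct2
import Cfsg.Agent.Helper2.SylowExact

set_option autoImplicit false

/-!
Bender–Glauberman, Section 9 (the Uniqueness Theorem), generic preparation: invariant `p'`-subgroups
under a Sylow subgroup, generation by Sylow subgroups, the Puig and Frattini factorizations in
subgroup form, `p`-length one for `p`-rank at most two.
-/

namespace Cfsg.Agent.Helper1.BGU

open Cfsg Cfsg.Agent.Helper1 Cfsg.Agent.Helper2 Cfsg.Agent.Helper1.BGT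
open scoped Pointwise commutatorElement

universe u

section typeLevel

variable {X : Type u} [Group X] [Finite X]

/-- In a solvable group, a `p'`-subgroup normalized by a Sylow `p`-subgroup lies in `O_{p'}`. -/
theorem le_pPrimeCore_of_sylow_invariant [Group.IsSolvable X] (p : ℕ) [hp : Fact p.Prime]
    (S : Sylow p X) (Y : Subgroup X) (hYc : (Nat.card Y).Coprime p)
    (hSY : (S : Subgroup X) ≤ Subgroup.normalizer (Y : Set X)) : Y ≤ Cfsg.pPrimeCore p X := by
  set N := Cfsg.pPrimeCore p X with hN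
  have hπs : Function.Surjective (QuotientGroup.mk' N) := QuotientGroup.mk'_surjective N
  have hO : Cfsg.pPrimeCore p (X ⧸ N) = ⊥ := pPrimeCore_quotient_pPrimeCore p
  have hcent : Subgroup.centralizer (Cfsg.pCore p (X ⧸ N) : Set (X ⧸ N)) ≤ Cfsg.pCore p (X ⧸ N) :=
    centralizer_pCore_le p hO
  haveI := Cfsg.Agent.Helper3.pCore_characteristic p (X ⧸ N)
  haveI hTn : (Cfsg.pCore p (X ⧸ N)).Normal := Subgroup.normal_of_characteristic _
  have hTp : IsPGroup p (Cfsg.pCore p (X ⧸ N)) := pCore_isPGroup p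
  have hTS : Cfsg.pCore p (X ⧸ N) ≤ ((S.mapSurjective hπs : Sylow p (X ⧸ N)) : Subgroup (X ⧸ N)) :=
    pCore_le_sylow _
  rw [Sylow.coe_mapSurjective] at hTS
  have hTY : Cfsg.pCore p (X ⧸ N) ≤
      Subgroup.normalizer ((Y.map (QuotientGroup.mk' N) : Subgroup (X ⧸ N)) : Set (X ⧸ N)) :=
    hTS.trans ((Subgroup.map_mono hSY).trans (Subgroup.le_normalizer_map _))
  have hYbc : (Nat.card (Y.map (QuotientGroup.mk' N))).Coprime p :=
    Nat.Coprime.coprime_dvd_left (Subgroup.card_map_dvd _ _) hYc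
  have hcop : (Nat.card (Cfsg.pCore p (X ⧸ N))).Coprime (Nat.card (Y.map (QuotientGroup.mk' N))) := by
    obtain ⟨k, hk⟩ := IsPGroup.iff_card.mp hTp
    rw [hk]
    exact (Nat.Coprime.pow_right k hYbc).symm
  have hint : Cfsg.pCore p (X ⧸ N) ⊓ Y.map (QuotientGroup.mk' N) = ⊥ :=
    inf_eq_bot_of_coprime_card hcop
  have hcomm : ⁅Cfsg.pCore p (X ⧸ N), Y.map (QuotientGroup.mk' N)⁆ ≤
      Cfsg.pCore p (X ⧸ N) ⊓ Y.map (QuotientGroup.mk' N) := by
    apply le_inf
    · exact Subgroup.commutator_le_left _ _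
    · exact Subgroup.le_normalizer_iff_commutator_le_right.mp hTY
  rw [hint, le_bot_iff, Subgroup.commutator_eq_bot_iff_le_centralizer] at hcomm
  have hYC : Y.map (QuotientGroup.mk' N) ≤
      Subgroup.centralizer (Cfsg.pCore p (X ⧸ N) : Set (X ⧸ N)) :=
    Subgroup.le_centralizer_iff.mp hcomm
  have hYbot : Y.map (QuotientGroup.mk' N) = ⊥ := by
    rw [eq_bot_iff, ← hint]
    exact le_inf (hYC.trans hcent) le_rfl
  intro y hy
  have h1 : (QuotientGroup.mk' N) y ∈ Y.map (QuotientGroup.mk' N) := ⟨y, hy, rfl⟩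
  rw [hYbot, Subgroup.mem_bot] at h1
  exact (QuotientGroup.eq_one_iff y).mp h1

end typeLevel

variable {G : Type u} [Group G] [Finite G]

/-- Subgroup form: a `p'`-subgroup of the solvable subgroup `X` normalized by a Sylow `p`-subgroup
of `X` lies in `O_{p'}(X)`. -/
theorem le_coreOf_of_sylow_invariant (p : ℕ) [hp : Fact p.Prime] (X S Y : Subgroup G)
    (hX : Group.IsSolvable X) (hSX : S ≤ X) (hS : Nat.card S = p ^ (Nat.card X).factorization p)
    (hYX : Y ≤ X) (hYc : (Nat.card Y).Coprime p) (hSY : S ≤ Subgroup.normalizer (Y : Set G)) :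
    Y ≤ coreOf p X := by
  haveI := hX
  have hS' : Nat.card (S.subgroupOf X) = p ^ (Nat.card X).factorization p := by
    rw [Cfsg.Agent.Lead.card_subgroupOf_of_le hSX]; exact hS
  have h1 : Y.subgroupOf X ≤ Cfsg.pPrimeCore p ↥X := by
    apply le_pPrimeCore_of_sylow_invariant p (Sylow.ofCard (S.subgroupOf X) hS')
    · rw [Cfsg.Agent.Lead.card_subgroupOf_of_le hYX]; exact hYc
    · intro s hs
      have hs' : (s : G) ∈ S := by
        have : s ∈ S.subgroupOf X := hs
        rwa [Subgroup.mem_subgroupOf] at this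
      have hsn := hSY hs'
      rw [Subgroup.mem_normalizer_iff] at hsn ⊢
      intro v
      rw [Subgroup.mem_subgroupOf, Subgroup.mem_subgroupOf]
      simpa using hsn (v : G)
  intro y hy
  exact ⟨⟨y, hYX hy⟩, h1 (by rw [Subgroup.mem_subgroupOf]; exact hy), rfl⟩

/-- A subgroup all of whose prime-power parts are realized inside `K` lies in `K`. -/
theorem le_of_forall_sylow_le {Y K : Subgroup G}
    (h : ∀ q : ℕ, q.Prime → q ∣ Nat.card Y → ∃ S : Subgroup G, S ≤ Y ∧ S ≤ K ∧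
      Nat.card S = q ^ (Nat.card Y).factorization q) : Y ≤ K := by
  have hdvd : Nat.card Y ∣ Nat.card ↥(Y ⊓ K) := by
    rw [← Nat.factorization_le_iff_dvd Nat.card_pos.ne' Nat.card_pos.ne']
    intro q
    by_cases hq : q.Prime
    · by_cases hqY : q ∣ Nat.card Y
      · obtain ⟨S, hSY, hSK, hS⟩ := h q hq hqY
        have h1 : Nat.card S ∣ Nat.card ↥(Y ⊓ K) := Subgroup.card_dvd_of_le (le_inf hSY hSK)
        rw [hS] at h1
        exact (hq.pow_dvd_iff_le_factorization Nat.card_pos.ne').mp h1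
      · rw [Nat.factorization_eq_zero_of_not_dvd hqY]; exact Nat.zero_le _
    · rw [Nat.factorization_eq_zero_of_not_prime _ hq]; exact Nat.zero_le _
  have hle : Nat.card ↥(Y ⊓ K) ≤ Nat.card Y := Subgroup.card_le_of_le inf_le_left
  have heq : Nat.card ↥(Y ⊓ K) = Nat.card Y :=
    le_antisymm hle (Nat.le_of_dvd Nat.card_pos hdvd)
  have : Y ⊓ K = Y := Subgroup.eq_of_le_of_card_ge inf_le_left heq.ge
  exact inf_eq_left.mp this

/-- The normalizer condition in a `p`-group, in subgroup form. -/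
theorem exists_normalizing_of_lt {p : ℕ} [hp : Fact p.Prime] {P S : Subgroup G}
    (hS : IsPGroup p S) (hlt : P < S) :
    ∃ x ∈ S, x ∉ P ∧ x ∈ Subgroup.normalizer (P : Set G) := by
  haveI : Group.IsNilpotent ↥S := hS.isNilpotent
  have hnc := Group.normalizerCondition_of_isNilpotent (G := ↥S)
  have hlt' : P.subgroupOf S < ⊤ := by
    rw [lt_top_iff_ne_top]
    intro htop
    rw [Subgroup.subgroupOf_eq_top] at htop
    exact (not_le_of_gt hlt) htop
  have h1 := hnc (P.subgroupOf S) hlt'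
  obtain ⟨x, hxn, hxP⟩ := SetLike.exists_of_lt h1
  refine ⟨(x : G), x.2, ?_, ?_⟩
  · intro hx
    apply hxP
    rw [Subgroup.mem_subgroupOf]; exact hx
  · rw [Subgroup.mem_normalizer_iff] at hxn
    apply Subgroup.mem_normalizer_fintype
    intro n hn
    have hnS : n ∈ S := hlt.le hn
    have := (hxn ⟨n, hnS⟩).mp (by rw [Subgroup.mem_subgroupOf]; exact hn)
    rw [Subgroup.mem_subgroupOf] at this
    simpa using this

/-- A `p`-subgroup of `M` of order the `p`-part of `|M|` whose normalizer lies in `M` is a Sylow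
`p`-subgroup of the whole group. -/
theorem card_eq_ppart_top_of_normalizer_le {p : ℕ} [hp : Fact p.Prime] {P M : Subgroup G}
    (hP : IsPGroup p P) (hPM : P ≤ M) (hcard : Nat.card P = p ^ (Nat.card M).factorization p)
    (hN : Subgroup.normalizer (P : Set G) ≤ M) :
    Nat.card P = p ^ (Nat.card G).factorization p := by
  obtain ⟨S, hPS, -, hSp, hScard⟩ := Cfsg.Agent.Lead.exists_le_card_eq_ppart hP (le_top : P ≤ ⊤)
  rw [Subgroup.card_top] at hScard
  by_cases hPS' : P = S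
  · rw [hPS']; exact hScard
  · exfalso
    obtain ⟨x, hxS, hxP, hxn⟩ := exists_normalizing_of_lt hSp (lt_of_le_of_ne hPS hPS')
    have hQS : P ⊔ Subgroup.zpowers x ≤ S := sup_le hPS (by rw [Subgroup.zpowers_le]; exact hxS)
    have hQp : IsPGroup p ↥(P ⊔ Subgroup.zpowers x) := hSp.to_le hQS
    have hQM : P ⊔ Subgroup.zpowers x ≤ M :=
      sup_le hPM (by rw [Subgroup.zpowers_le]; exact hN hxn)
    have h1 := Cfsg.Agent.Lead.card_le_ppart_of_isPGroup hQp hQM
    rw [← hcard] at h1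
    have h2 : P = P ⊔ Subgroup.zpowers x := Subgroup.eq_of_le_of_card_ge le_sup_left h1
    apply hxP
    rw [h2]
    exact (le_sup_right : Subgroup.zpowers x ≤ P ⊔ Subgroup.zpowers x) (Subgroup.mem_zpowers x)

/-- Puig's factorization in subgroup form. -/
theorem exists_mul_puig (p : ℕ) [hp : Fact p.Prime] (hp2 : p ≠ 2) (X R : Subgroup G)
    (hX : Group.IsSolvable X) (hodd : Odd (Nat.card X)) (hRX : R ≤ X)
    (hR : Nat.card R = p ^ (Nat.card X).factorization p) :
    ∀ x ∈ X, ∃ a ∈ coreOf p X, ∃ y ∈ X ⊓ Subgroup.normalizer (Puig.zl R : Set G), x = a * y := by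
  haveI := hX
  have hR' : Nat.card (R.subgroupOf X) = p ^ (Nat.card X).factorization p := by
    rw [Cfsg.Agent.Lead.card_subgroupOf_of_le hRX]; exact hR
  have hfac := (Puig.puig_factorization hX hodd p hp2 (Sylow.ofCard (R.subgroupOf X) hR')).1
  rw [Puig.puigZFunctor_of, Sylow.coe_ofCard] at hfac
  have hz : (Puig.zl (R.subgroupOf X)).map X.subtype = Puig.zl R := by
    rw [Puig.zl_map_subtype, Subgroup.subgroupOf_map_subtype, inf_eq_left.mpr hRX]
  intro x hx
  have hx' : (⟨x, hx⟩ : ↥X) ∈ Cfsg.pPrimeCore p ↥X ⊔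
      Subgroup.normalizer (Puig.zl (R.subgroupOf X) : Set ↥X) := by
    rw [hfac]; exact Subgroup.mem_top _
  rw [← SetLike.mem_coe, Subgroup.normal_mul] at hx'
  obtain ⟨a, ha, y, hy, hxy⟩ := hx'
  refine ⟨(a : G), ⟨a, ha, rfl⟩, (y : G), ⟨y.2, ?_⟩, ?_⟩
  · rw [← hz]
    exact Subgroup.le_normalizer_map X.subtype ⟨y, hy, rfl⟩
  · have := congrArg Subtype.val hxy
    simpa using this.symm

/-- The Frattini factorization `X = O_{p'}(X) N_X(R ∩ O_{p',p}(X))` in subgroup form. -/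
theorem exists_mul_frattini (p : ℕ) [hp : Fact p.Prime] (X R : Subgroup G) (hRX : R ≤ X)
    (hR : Nat.card R = p ^ (Nat.card X).factorization p) :
    ∀ x ∈ X, ∃ a ∈ coreOf p X,
      ∃ y ∈ X ⊓ Subgroup.normalizer ((R ⊓ ppCoreOf p X : Subgroup G) : Set G), x = a * y := by
  have hR' : Nat.card (R.subgroupOf X) = p ^ (Nat.card X).factorization p := by
    rw [Cfsg.Agent.Lead.card_subgroupOf_of_le hRX]; exact hR
  haveI : (Cfsg.pPrimePCore p ↥X).Normal := Cfsg.Agent.Helper1.AG.pPrimePCore_normal'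
  intro x hx
  obtain ⟨a, ha, y, hy, hxy⟩ := Cfsg.Agent.Helper1.AG.frattini_factor
    (Sylow.ofCard (R.subgroupOf X) hR') (Cfsg.pPrimePCore p ↥X) (Cfsg.pPrimeCore p ↥X)
    (Cfsg.Agent.Helper1.AG.pPrimePCore_le_sup _) ⟨x, hx⟩
  rw [Sylow.coe_ofCard] at hy
  have hmap : (R.subgroupOf X ⊓ Cfsg.pPrimePCore p ↥X).map X.subtype = R ⊓ ppCoreOf p X := by
    rw [Subgroup.map_inf _ _ _ X.subtype_injective, Subgroup.subgroupOf_map_subtype,
      inf_eq_left.mpr hRX]
    rfl
  refine ⟨(a : G), ⟨a, ha, rfl⟩, (y : G), ⟨y.2, ?_⟩, ?_⟩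
  · rw [← hmap]
    exact Subgroup.le_normalizer_map X.subtype ⟨y, hy, rfl⟩
  · have := congrArg Subtype.val hxy
    simpa using this

/-- `Z(L(T)) ≠ 1` for a nontrivial `p`-group `T`. -/
theorem zl_ne_bot {p : ℕ} [hp : Fact p.Prime] {T : Subgroup G} (hT : IsPGroup p T) (hT1 : T ≠ ⊥) :
    Puig.zl T ≠ ⊥ := by
  haveI : Nontrivial ↥T := (Subgroup.nontrivial_iff_ne_bot T).mpr hT1
  haveI hc : Nontrivial (Subgroup.center ↥T) := hT.center_nontrivial
  obtain ⟨z, hz⟩ := exists_ne (1 : Subgroup.center ↥T)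
  have hzT : ((z : ↥T) : G) ∈ T := (z : ↥T).2
  have hzc : ∀ t ∈ T, t * ((z : ↥T) : G) = ((z : ↥T) : G) * t := by
    intro t ht
    have := Subgroup.mem_center_iff.mp z.2 ⟨t, ht⟩
    exact congrArg Subtype.val this
  have hzup : ((z : ↥T) : G) ∈ Puig.upper T := by
    unfold Puig.upper
    rw [Subgroup.mem_iInf]
    intro n
    apply Puig.self_centralizing_od T hT.isNilpotent n
    refine ⟨hzT, Subgroup.mem_centralizer_iff.mpr ?_⟩
    intro u hu
    exact hzc u (Puig.od_le T n hu)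
  have hzcen : ((z : ↥T) : G) ∈ Subgroup.centralizer (Puig.upper T : Set G) := by
    rw [Subgroup.mem_centralizer_iff]
    intro u hu
    exact hzc u (Puig.upper_le T hu)
  intro hbot
  have hmem : ((z : ↥T) : G) ∈ Puig.zl T := ⟨hzup, hzcen⟩
  rw [hbot, Subgroup.mem_bot] at hmem
  apply hz
  apply Subtype.ext
  apply Subtype.ext
  exact hmem

/-- `p`-length one for `p`-rank at most two: a Sylow `p`-subgroup lies in `O_{p',p}`. -/
theorem sylow_le_ppCoreOf_of_rank_two (p : ℕ) [hp : Fact p.Prime] (X R : Subgroup G)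
    (hX : Group.IsSolvable X) (hodd : Odd (Nat.card X)) (hr : Cfsg.PRankLE p 2 ↥X)
    (hRX : R ≤ X) (hR : Nat.card R = p ^ (Nat.card X).factorization p)
    (hpX : p ∣ Nat.card X) : R ≤ ppCoreOf p X := by
  haveI := hX
  have hR' : Nat.card (R.subgroupOf X) = p ^ (Nat.card X).factorization p := by
    rw [Cfsg.Agent.Lead.card_subgroupOf_of_le hRX]; exact hR
  have h := (Cfsg.Agent.Helper1.Rank2Struct.odd_solvable_rank_two_structure hodd p hpX hr).2.2.2.2.2
  haveI : (Cfsg.pPrimePCore p ↥X).Normal := Cfsg.Agent.Helper1.AG.pPrimePCore_normal'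
  have h2 := Cfsg.Agent.Helper2.SylowExact.sylow_le_of_normal_of_coprime_index (Cfsg.pPrimePCore p ↥X) h
    (Sylow.ofCard (R.subgroupOf X) hR')
  intro r hr'
  refine ⟨⟨r, hRX hr'⟩, h2 ?_, rfl⟩
  show _ ∈ R.subgroupOf X
  rw [Subgroup.mem_subgroupOf]
  exact hr'

end Cfsg.Agent.Helper1.BGU
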