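import Mathlib
import Cfsg.Prelude.Def_CaseTheorems
import Cfsg.Prelude.Def_Solvable
import Cfsg.Prelude.Def_OddOrderLocal
import Cfsg.Agent.Helper1.Rank2Struct2

set_option autoImplicit false

/-!
Solvable groups of odd order whose Fitting subgroup has rank at most two: the derived subgroup is
nilpotent.
-/

namespace Cfsg.Agent.Helper1.Rank2Fitting

open Cfsg.Agent.Helper1 Cfsg.Agent.Helper1.Rank2Struct

universe u

variable {G : Type u} [Group G]

/-- rank bounds pass to smaller subgroups -/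
theorem pRankLE_of_le {p k : ℕ} {H K : Subgroup G} (hHK : H ≤ K) (h : Cfsg.PRankLE p k ↥K) :
    Cfsg.PRankLE p k ↥H := by
  intro A hAc hAe
  have h1 := h (A.map (Subgroup.inclusion hHK)) (by
    refine ⟨⟨?_⟩⟩
    rintro ⟨_, x, hx, rfl⟩ ⟨_, y, hy, rfl⟩
    apply Subtype.ext
    have := hAc.is_comm.comm ⟨x, hx⟩ ⟨y, hy⟩
    have h5 := congrArg (fun z : ↥A => Subgroup.inclusion hHK (z : ↥H)) this
    simpa using h5) (by
    rintro _ ⟨x, hx, rfl⟩
    have := hAe x hx
    rw [← map_pow, this, map_one])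
  rwa [Nat.card_congr (A.equivMapOfInjective (Subgroup.inclusion hHK)
    (Subgroup.inclusion_injective hHK)).toEquiv]

/-- a subgroup containing a Sylow `r`-subgroup for every prime `r` is everything -/
theorem eq_top_of_forall_sylow_le {D : Type*} [Group D] [Finite D] (M : Subgroup D)
    (h : ∀ (r : ℕ) [Fact r.Prime], ∃ R : Sylow r D, (R : Subgroup D) ≤ M) : M = ⊤ := by
  apply Subgroup.eq_top_of_card_eq
  apply Nat.dvd_antisymm (Subgroup.card_subgroup_dvd_card M)
  rw [Nat.dvd_iff_prime_pow_dvd_dvd]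
  intro r k hr hk
  haveI := Fact.mk hr
  obtain ⟨R, hR⟩ := h r
  have h1 : Nat.card R = r ^ (Nat.card D).factorization r := R.card_eq_multiplicity
  have h2 : r ^ k ∣ Nat.card R := by
    rw [h1]
    exact pow_dvd_pow r ((hr.pow_dvd_iff_le_factorization Nat.card_pos.ne').1 hk)
  exact h2.trans (Subgroup.card_dvd_of_le hR)

/-- a `q`-subgroup of a normal subgroup all of whose Sylow `q`-subgroups are normal lies in
`O_q(G)` -/
theorem le_pCore_of_le_normal_of_sylow_normal [Finite G] {q : ℕ} [Fact q.Prime] (N : Subgroup G)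
    [N.Normal] (hN : ∀ P : Sylow q ↥N, (P : Subgroup ↥N).Normal) (Y : Subgroup G)
    (hY : IsPGroup q ↥Y) (hYN : Y ≤ N) : Y ≤ Cfsg.pCore q G := by
  have hY' : IsPGroup q ↥(Y.subgroupOf N) := hY.comap_subtype
  obtain ⟨P, hP⟩ := hY'.exists_le_sylow
  haveI : (P : Subgroup N).Normal := hN P
  haveI : (P : Subgroup N).Characteristic := Sylow.characteristic_of_normal P inferInstance
  have hPn : ((P : Subgroup N).map N.subtype).Normal :=
    ConjAct.normal_of_characteristic_of_normal
  have hPp : IsPGroup q ↥((P : Subgroup N).map N.subtype) := P.2.map _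
  refine le_trans ?_ (le_pCore hPn hPp)
  intro y hy
  exact ⟨⟨y, hYN hy⟩, hP (by rw [Subgroup.mem_subgroupOf]; exact hy), rfl⟩

/-- a `q`-subgroup of the Fitting subgroup lies in `O_q(G)` -/
theorem le_pCore_of_le_fitting [Finite G] {q : ℕ} [Fact q.Prime] (Y : Subgroup G)
    (hY : IsPGroup q ↥Y) (hYF : Y ≤ Cfsg.fittingSubgroup G) : Y ≤ Cfsg.pCore q G := by
  apply le_pCore_of_le_normal_of_sylow_normal (Cfsg.fittingSubgroup G) _ Y hY hYF
  intro P
  haveI hnil : Group.IsNilpotent ↥(Cfsg.fittingSubgroup G) := fittingSubgroup_isNilpotent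
  infer_instance

/-- in a group of odd order `O_2(G) = 1` -/
theorem pCore_two_eq_bot [Finite G] (hodd : Odd (Nat.card G)) : Cfsg.pCore 2 G = ⊥ := by
  haveI : Fact (Nat.Prime 2) := ⟨Nat.prime_two⟩
  have h1 : IsPGroup 2 (Cfsg.pCore 2 G) := pCore_isPGroup 2
  obtain ⟨k, hk⟩ := IsPGroup.iff_card.1 h1
  have h2 : Nat.card (Cfsg.pCore 2 G) ∣ Nat.card G := Subgroup.card_subgroup_dvd_card _
  have h3 : Odd (Nat.card (Cfsg.pCore 2 G)) := Odd.of_dvd_nat hodd h2
  rw [hk] at h3
  have hk0 : k = 0 := by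
    by_contra hk0
    exact (Nat.not_even_iff_odd.2 h3) ((Nat.even_pow' hk0).2 even_two)
  rw [hk0, pow_zero] at hk
  exact Subgroup.card_eq_one.1 hk

/-- `O_q(G)` has rank at most two if the Fitting subgroup has -/
theorem pRankLE_pCore [Finite G] (hF : Cfsg.RankLE 2 ↥(Cfsg.fittingSubgroup G)) (q : ℕ)
    [hq : Fact q.Prime] : Cfsg.PRankLE q 2 ↥(Cfsg.pCore q G) := by
  have h1 : Cfsg.pCore q G ≤ Cfsg.fittingSubgroup G :=
    le_fittingSubgroup inferInstance (pCore_isPGroup q).isNilpotent
  exact pRankLE_of_le h1 (hF q hq.out)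

/-- **K1**: the `q'`-elements of `G'` centralize `O_q(G)`. -/
theorem commutator_coprime_le_centralizer_pCore [Finite G] [Group.IsSolvable G]
    (hodd : Odd (Nat.card G)) (hF : Cfsg.RankLE 2 ↥(Cfsg.fittingSubgroup G)) (q : ℕ)
    [hq : Fact q.Prime] :
    ∀ z ∈ commutator G, (orderOf z).Coprime q →
      z ∈ Subgroup.centralizer (Cfsg.pCore q G : Set G) := by
  by_cases hq2 : q = 2
  · subst hq2
    intro z _ _
    rw [pCore_two_eq_bot hodd, Subgroup.coe_bot, Subgroup.centralizer_eq_top_iff_subset.2]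
    · exact Subgroup.mem_top z
    · intro x hx
      rw [Set.mem_singleton_iff] at hx
      rw [hx]
      exact Subgroup.one_mem _
  have hnorm : (⊤ : Subgroup G) ≤ Subgroup.normalizer (Cfsg.pCore q G : Set G) := by
    rw [Subgroup.normalizer_eq_top]
  have htopsol : Group.IsSolvable (⊤ : Subgroup G) := inferInstance
  have htopodd : Odd (Nat.card (⊤ : Subgroup G)) := by rw [Subgroup.card_top]; exact hodd
  exact commutator_coprime_le_centralizer hq2 (Cfsg.pCore q G) ⊤ (pCore_isPGroup q)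
    (pRankLE_pCore hF q) hnorm htopsol htopodd

/-- **K2**: elements all of whose prime divisors exceed `q` centralize `O_q(G)`. -/
theorem mem_centralizer_pCore_of_large_primes [Finite G] (hodd : Odd (Nat.card G))
    (hF : Cfsg.RankLE 2 ↥(Cfsg.fittingSubgroup G)) (q : ℕ) [hq : Fact q.Prime] (x : G)
    (hx : ∀ r : ℕ, r.Prime → r ∣ orderOf x → q < r) :
    x ∈ Subgroup.centralizer (Cfsg.pCore q G : Set G) := by
  by_cases hq2 : q = 2
  · subst hq2
    rw [pCore_two_eq_bot hodd, Subgroup.coe_bot, Subgroup.centralizer_eq_top_iff_subset.2]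
    · exact Subgroup.mem_top x
    · intro y hy
      rw [Set.mem_singleton_iff] at hy
      rw [hy]
      exact Subgroup.one_mem _
  set P := Cfsg.pCore q G with hP
  have hnorm : (⊤ : Subgroup G) ≤ Subgroup.normalizer (P : Set G) := by
    rw [Subgroup.normalizer_eq_top]
  set φ : Subgroup.normalizer (P : Set G) →* MulAut P := P.normalizerMonoidHom with hφ
  set x' : Subgroup.normalizer (P : Set G) := ⟨x, hnorm (Subgroup.mem_top x)⟩ with hx'
  have hox' : orderOf x' = orderOf x := by
    rw [← orderOf_injective (Subgroup.normalizer (P : Set G)).subtype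
      (Subgroup.subtype_injective _) x']
    rfl
  by_cases ha : φ x' = 1
  · have h4 : x' ∈ φ.ker := ha
    rw [hφ, Subgroup.normalizerMonoidHom_ker, Subgroup.mem_subgroupOf] at h4
    exact h4
  · exfalso
    have hord : orderOf (φ x') ≠ 1 := fun h1 => ha (orderOf_eq_one_iff.1 h1)
    obtain ⟨r, hr, hrdvd⟩ := Nat.exists_prime_and_dvd hord
    have h1 : orderOf (φ x') ∣ orderOf x := by
      rw [← hox']; exact orderOf_map_dvd φ x'
    have hqr : q < r := hx r hr (hrdvd.trans h1)
    have h3 : r ∣ Nat.card (MulAut ↥P) := hrdvd.trans (orderOf_dvd_natCard _)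
    have h4 := Rank2Aut.prime_dvd_card_aut hq2 (pCore_isPGroup q) (pRankLE_pCore hF q) r hr
      hqr.ne' h3
    have h5 := Rank2Aut.lt_of_dvd_sq_sub_one hq.out hq2 hr h4
    omega

/-- elements of a `q`-subgroup have order prime to any other prime -/
theorem coprime_orderOf_of_mem_pGroup {q : ℕ} {Y : Subgroup G} (hY : IsPGroup q ↥Y) {y : G}
    (hy : y ∈ Y) (hq : q.Prime) {r : ℕ} (hr : r.Prime) (hrq : r ≠ q) : (orderOf y).Coprime r := by
  obtain ⟨k, hk⟩ := hY ⟨y, hy⟩
  have hk' : y ^ q ^ k = 1 := by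
    have := congrArg Subtype.val hk
    simpa using this
  have h1 : orderOf y ∣ q ^ k := orderOf_dvd_of_pow_eq_one hk'
  have h2 : (q ^ k).Coprime r := Nat.Coprime.pow_left k ((Nat.coprime_primes hq hr).2 hrq.symm)
  exact h2.coprime_dvd_left h1

/-- an element centralizing every `O_s(G)` lies in the Fitting subgroup (solvable case) -/
theorem mem_fittingSubgroup_of_forall_mem_centralizer_pCore [Finite G] [Group.IsSolvable G]
    (x : G) (h : ∀ s : Nat.Primes, x ∈ Subgroup.centralizer (Cfsg.pCore (s : ℕ) G : Set G)) :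
    x ∈ Cfsg.fittingSubgroup G := by
  apply centralizer_fittingSubgroup_le
  have h1 : Cfsg.fittingSubgroup G ≤ Subgroup.centralizer (Subgroup.zpowers x : Set G) := by
    rw [fittingSubgroup_eq_fitJoin]
    unfold fitJoin
    apply iSup_le
    intro s
    rw [Subgroup.le_centralizer_iff, Subgroup.zpowers_le]
    exact h s
  rw [Subgroup.le_centralizer_iff] at h1
  exact h1 (Subgroup.mem_zpowers x)

/-- **(a)** every `q`-subgroup of `G'` lies in `O_q(G)` -/
theorem le_pCore_of_le_commutator [Finite G] [Group.IsSolvable G]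
    (hodd : Odd (Nat.card G)) (hF : Cfsg.RankLE 2 ↥(Cfsg.fittingSubgroup G)) (q : ℕ)
    [hq : Fact q.Prime] (Y : Subgroup G) (hY : IsPGroup q ↥Y) (hYH : Y ≤ commutator G) :
    Y ≤ Cfsg.pCore q G := by
  set H := commutator G with hH
  set Cq : Subgroup G := ⨅ (r : Nat.Primes), ⨅ (_ : (r : ℕ) ≠ q),
    Subgroup.centralizer (Cfsg.pCore (r : ℕ) G : Set G) with hCq
  have hCqn : Cq.Normal := by
    apply Subgroup.normal_iInf_normal
    intro r
    apply Subgroup.normal_iInf_normal
    intro _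
    infer_instance
  have hmemCq : ∀ x : G, x ∈ Cq ↔ ∀ r : Nat.Primes, (r : ℕ) ≠ q →
      x ∈ Subgroup.centralizer (Cfsg.pCore (r : ℕ) G : Set G) := by
    intro x
    rw [hCq]
    simp only [Subgroup.mem_iInf]
  set D : Subgroup G := H ⊓ Cq with hD
  haveI hDn : D.Normal := inferInstance
  -- `q`-subgroups of `H` lie in `D`
  have hYD : Y ≤ D := by
    intro y hy
    refine ⟨hYH hy, ?_⟩
    show y ∈ Cq
    rw [hmemCq]
    intro r hrq
    haveI : Fact (r : ℕ).Prime := ⟨r.2⟩
    exact commutator_coprime_le_centralizer_pCore hodd hF r y (hYH hy)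
      (coprime_orderOf_of_mem_pGroup hY hy hq.out r.2 hrq)
  apply le_pCore_of_le_normal_of_sylow_normal D _ Y hY hYD
  intro P
  rw [← Subgroup.normalizer_eq_top_iff]
  apply eq_top_of_forall_sylow_le
  intro r hrP
  by_cases hrq : r = q
  · subst hrq
    exact ⟨P, Subgroup.le_normalizer⟩
  · obtain ⟨R⟩ : Nonempty (Sylow r ↥D) := inferInstance
    refine ⟨R, ?_⟩
    have hRp : IsPGroup r ↥((R : Subgroup ↥D).map D.subtype) := R.2.map _
    have hRF : (R : Subgroup ↥D).map D.subtype ≤ Cfsg.pCore r G := by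
      apply le_pCore_of_le_fitting _ hRp
      intro x hx
      have hxD : x ∈ D := Subgroup.map_subtype_le _ hx
      apply mem_fittingSubgroup_of_forall_mem_centralizer_pCore
      intro s
      by_cases hsq : (s : ℕ) = q
      · haveI : Fact (s : ℕ).Prime := ⟨s.2⟩
        apply commutator_coprime_le_centralizer_pCore hodd hF s x hxD.1
        rw [hsq]
        exact coprime_orderOf_of_mem_pGroup hRp hx hrP.out hq.out (Ne.symm hrq)
      · exact (hmemCq x).1 hxD.2 s hsq
    refine le_trans ?_ (Subgroup.centralizer_le_normalizer _)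
    intro x hx
    rw [Subgroup.mem_centralizer_iff]
    intro y hy
    apply Subtype.ext
    rw [Subgroup.coe_mul, Subgroup.coe_mul]
    have hxr : (x : G) ∈ Cfsg.pCore r G := hRF ⟨x, hx, rfl⟩
    have hyC : (y : G) ∈ Cq := y.2.2
    have := (hmemCq (y : G)).1 hyC ⟨r, hrP.out⟩ hrq
    exact ((Subgroup.mem_centralizer_iff.1 this) (x : G) hxr).symm

theorem pCore_le_fittingSubgroup [Finite G] (q : ℕ) [Fact q.Prime] :
    Cfsg.pCore q G ≤ Cfsg.fittingSubgroup G :=
  le_fittingSubgroup inferInstance (pCore_isPGroup q).isNilpotent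

/-- **(a)** the derived subgroup lies in the Fitting subgroup -/
theorem commutator_le_fittingSubgroup [Finite G] [Group.IsSolvable G]
    (hodd : Odd (Nat.card G)) (hF : Cfsg.RankLE 2 ↥(Cfsg.fittingSubgroup G)) :
    commutator G ≤ Cfsg.fittingSubgroup G := by
  have h1 : (Cfsg.fittingSubgroup G).subgroupOf (commutator G) = ⊤ := by
    apply eq_top_of_forall_sylow_le
    intro r hr
    obtain ⟨R⟩ : Nonempty (Sylow r ↥(commutator G)) := inferInstance
    refine ⟨R, ?_⟩
    intro x hx
    rw [Subgroup.mem_subgroupOf]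
    have h2 : (R : Subgroup ↥(commutator G)).map (commutator G).subtype ≤ Cfsg.pCore r G :=
      le_pCore_of_le_commutator hodd hF r _ (R.2.map _) (Subgroup.map_subtype_le _)
    exact pCore_le_fittingSubgroup r (h2 ⟨x, hx, rfl⟩)
  exact Subgroup.subgroupOf_eq_top.1 h1

end Cfsg.Agent.Helper1.Rank2Fitting
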