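import Mathlib
import Cfsg.Prelude.Def_CaseTheorems
import Cfsg.Prelude.Def_Transfer
import Cfsg.Agent.Helper1.Basic
import Cfsg.Agent.Helper1.Nilp
import Cfsg.Agent.Helper1.PRankTwo
import Cfsg.Agent.Helper1.MaxNormalAbelianBound

set_option autoImplicit false

/-!
Bender–Glauberman Lemma 5.2-type result: in a `p`-group of odd order and rank at least 3, a normal
elementary abelian subgroup of order `p ^ 2` lies in a member of `SCN₃`.
-/

namespace Cfsg.Agent.Helper1.SCN3

open scoped Pointwise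

universe u

variable {R : Type u} [Group R]

/-- The join of two commuting elementary abelian subgroups (one normal) is elementary abelian. -/
theorem elementary_sup {p : ℕ} {E D : Subgroup R} [hEn : E.Normal]
    (hE : Cfsg.IsElementaryAbelian p E) (hD : Cfsg.IsElementaryAbelian p D)
    (hDE : D ≤ Subgroup.centralizer (E : Set R)) : Cfsg.IsElementaryAbelian p (E ⊔ D) := by
  obtain ⟨hEc, hEe⟩ := hE
  obtain ⟨hDc, hDe⟩ := hD
  have hmem : ∀ x ∈ E ⊔ D, ∃ e ∈ E, ∃ d ∈ D, x = e * d := by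
    intro x hx
    rw [← SetLike.mem_coe, Subgroup.normal_mul, Set.mem_mul] at hx
    obtain ⟨e, he, d, hd, rfl⟩ := hx
    exact ⟨e, he, d, hd, rfl⟩
  have hcomm : ∀ e ∈ E, ∀ d ∈ D, e * d = d * e := by
    intro e he d hd
    exact (Subgroup.mem_centralizer_iff.1 (hDE hd) e he)
  have hEE : ∀ e ∈ E, ∀ e' ∈ E, e * e' = e' * e := by
    intro e he e' he'
    have := hEc.is_comm.comm ⟨e, he⟩ ⟨e', he'⟩
    exact congrArg Subtype.val this
  have hDD : ∀ d ∈ D, ∀ d' ∈ D, d * d' = d' * d := by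
    intro d hd d' hd'
    have := hDc.is_comm.comm ⟨d, hd⟩ ⟨d', hd'⟩
    exact congrArg Subtype.val this
  refine ⟨⟨⟨?_⟩⟩, ?_⟩
  · rintro ⟨x, hx⟩ ⟨y, hy⟩
    apply Subtype.ext
    show x * y = y * x
    obtain ⟨e, he, d, hd, rfl⟩ := hmem x hx
    obtain ⟨e', he', d', hd', rfl⟩ := hmem y hy
    calc e * d * (e' * d') = e * (d * e') * d' := by group
      _ = e * (e' * d) * d' := by rw [hcomm e' he' d hd]
      _ = (e * e') * (d * d') := by group
      _ = (e' * e) * (d' * d) := by rw [hEE e he e' he', hDD d hd d' hd']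
      _ = e' * (e * d') * d := by group
      _ = e' * (d' * e) * d := by rw [hcomm e he d' hd']
      _ = e' * d' * (e * d) := by group
  · intro x hx
    obtain ⟨e, he, d, hd, rfl⟩ := hmem x hx
    have hc : Commute e d := hcomm e he d hd
    rw [hc.mul_pow, hEe e he, hDe d hd, one_mul]

theorem exists_scn3 [Finite R] (p : ℕ) [hp : Fact p.Prime] (hp2 : p ≠ 2) (hR : IsPGroup p R)
    (hr : ¬ Cfsg.PRankLE p 2 R)
    (E : Subgroup R) [hEn : E.Normal] (hE : Cfsg.IsElementaryAbelian p E)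
    (hE2 : Nat.card E = p ^ 2) :
    ∃ A : Subgroup R, E ≤ A ∧ A.Normal ∧ Subgroup.centralizer (A : Set R) = A ∧
      ¬ Cfsg.PRankLE p 2 A := by
  haveI := hR.isNilpotent
  -- a normal elementary abelian subgroup of order `p ^ 3`
  obtain ⟨B₀, hB₀n, hB₀c, hB₀e, hB₀card⟩ : ∃ B₀ : Subgroup R, B₀.Normal ∧ IsMulCommutative B₀ ∧
      (∀ a ∈ B₀, a ^ p = 1) ∧ Nat.card B₀ = p ^ 3 := by
    by_contra hcon
    push Not at hcon
    apply hr
    intro A hAc hAe
    exact prank_le_two hp2 hR (fun B hBn hBc hBe => hcon B hBn hBc hBe) A hAc hAe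
  set C := Subgroup.centralizer (E : Set R) with hC
  have hCn : C.Normal := inferInstance
  have hEc : IsMulCommutative E := hE.1
  have hCidx : C.index ≤ p := by
    have := index_centralizer_le hR 2 E hEn hEc hE2
    simpa using this
  set D := B₀ ⊓ C with hD
  have hDn : D.Normal := inferInstance
  have hDcard : p ^ 2 ≤ Nat.card D := by
    have h1 : C.relIndex B₀ ∣ C.index := Subgroup.relIndex_dvd_index_of_normal C B₀
    have hpos : 0 < C.index := Nat.pos_of_ne_zero (Subgroup.index_ne_zero_of_finite)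
    have h2 : C.relIndex B₀ ≤ p := (Nat.le_of_dvd hpos h1).trans hCidx
    have h3 : Nat.card D * C.relIndex B₀ = Nat.card B₀ := by
      have := relIndex_mul_card_of_le (inf_le_left : B₀ ⊓ C ≤ B₀)
      rw [inf_comm, Subgroup.inf_relIndex_right, inf_comm, mul_comm] at this
      exact this
    by_contra hlt
    push Not at hlt
    have h4 : Nat.card D * C.relIndex B₀ ≤ Nat.card D * p := Nat.mul_le_mul_left _ h2
    have h5 : Nat.card D * p < p ^ 2 * p := Nat.mul_lt_mul_of_pos_right hlt hp.out.pos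
    rw [h3, hB₀card] at h4
    have : p ^ 2 * p = p ^ 3 := by ring
    omega
  have hDel : Cfsg.IsElementaryAbelian p D := by
    refine ⟨⟨⟨?_⟩⟩, fun a ha => hB₀e a ha.1⟩
    rintro ⟨x, hx⟩ ⟨y, hy⟩
    apply Subtype.ext
    have := hB₀c.is_comm.comm ⟨x, hx.1⟩ ⟨y, hy.1⟩
    exact congrArg (fun z : ↥B₀ => (z : R)) this
  have hDC : D ≤ C := inf_le_right
  have hDE : ¬ D ≤ E := by
    intro hle
    have hDeq : D = E := by
      apply Subgroup.eq_of_le_of_card_ge hle
      rw [hE2]; exact hDcard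
    have hEB₀ : E ≤ B₀ := hDeq ▸ inf_le_left
    have hB₀C : B₀ ≤ C := by
      intro b hb
      rw [hC, Subgroup.mem_centralizer_iff]
      intro e he
      have := hB₀c.is_comm.comm ⟨e, hEB₀ he⟩ ⟨b, hb⟩
      exact congrArg Subtype.val this
    have hDB₀ : D = B₀ := inf_eq_left.2 hB₀C
    have : Nat.card B₀ = Nat.card E := by rw [← hDB₀, hDeq]
    rw [hB₀card, hE2] at this
    have h1 : 1 < p := hp.out.one_lt
    have := Nat.pow_right_injective h1 this
    omega
  set B := E ⊔ D with hB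
  have hBn : B.Normal := inferInstance
  have hBel : Cfsg.IsElementaryAbelian p B := elementary_sup hE hDel hDC
  have hEB : E < B := by
    refine lt_of_le_of_ne le_sup_left ?_
    intro heq
    apply hDE
    rw [heq]
    exact le_sup_right
  have hBcard : p ^ 2 < Nat.card B := hE2 ▸ card_lt_card_of_lt hEB
  -- maximal normal abelian subgroup containing `B`
  let 𝒜 : Set (Subgroup R) := {M | M.Normal ∧ IsMulCommutative M ∧ B ≤ M}
  have hB𝒜 : B ∈ 𝒜 := ⟨hBn, hBel.1, le_rfl⟩
  obtain ⟨A, hBA, hAmax⟩ := (Set.toFinite 𝒜).exists_le_maximal hB𝒜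
  obtain ⟨hAn, hAc, -⟩ : A ∈ 𝒜 := hAmax.prop
  have hcent : Subgroup.centralizer (A : Set R) = A := by
    apply centralizer_eq_of_maximal_abelian_normal A
    intro M hMn hMc hAM
    exact le_antisymm (hAmax.2 ⟨hMn, hMc, hBA.trans hAM⟩ hAM) hAM
  refine ⟨A, hEB.le.trans hBA, hAn, hcent, ?_⟩
  intro hrank
  have h1 : IsMulCommutative (B.subgroupOf A) := by
    refine ⟨⟨?_⟩⟩
    rintro ⟨x, hx⟩ ⟨y, hy⟩
    apply Subtype.ext
    apply Subtype.ext
    have := hBel.1.is_comm.comm ⟨x.1, hx⟩ ⟨y.1, hy⟩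
    exact congrArg (fun z : ↥B => (z : R)) this
  have h2 : ∀ a ∈ B.subgroupOf A, a ^ p = 1 := by
    intro a ha
    apply Subtype.ext
    exact hBel.2 a.1 ha
  have h3 := hrank (B.subgroupOf A) h1 h2
  rw [Nat.card_congr (Subgroup.subgroupOfEquivOfLe hBA).toEquiv] at h3
  omega

end Cfsg.Agent.Helper1.SCN3
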