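import Mathlib
import Cfsg.Agent.Helper1.BGUa
import Cfsg.Agent.Helper1.SCN3
import Cfsg.Agent.Helper1.BGTe
import Cfsg.Agent.Helper1.Rank2Fitting
import Cfsg.Agent.Helper2.RankEmb
import Cfsg.Agent.Helper2.GenHyper

set_option autoImplicit false

/-!
Bender–Glauberman, Section 9: minimal simple groups of odd order, existence of `SCN₃`, and the
consequence of the transitivity theorems used in Lemma 9.1: if every `P`-invariant `p'`-subgroup lies
in `K` (with `P` a Sylow `p`-subgroup and `A ∈ SCN₃(P)`), then every `A`-invariant `p'`-subgroup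
lies in `K`.
-/

namespace Cfsg.Agent.Helper1.BGU

open Cfsg Cfsg.Agent.Helper1 Cfsg.Agent.Helper2 Cfsg.Agent.Helper1.BGT
open scoped Pointwise commutatorElement

universe u

variable {G : Type u} [Group G] [Finite G]

theorem exists_coatom_ge {X : Subgroup G} (hX : X ≠ ⊤) : ∃ M : Subgroup G, IsCoatom M ∧ X ≤ M :=
  (eq_top_or_exists_le_coatom X).resolve_left hX

omit [Finite G] in
theorem normalizer_ne_top_of_simple (hG : Cfsg.IsMinSimpleOddOrder G) {Y : Subgroup G}
    (hY : Y ≠ ⊥) (hY' : Y ≠ ⊤) : Subgroup.normalizer (Y : Set G) ≠ ⊤ := by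
  intro htop
  haveI := hG.2.1
  have hn : Y.Normal := Subgroup.normalizer_eq_top_iff.mp htop
  rcases hn.eq_bot_or_eq_top with h1 | h1
  · exact hY h1
  · exact hY' h1

omit [Finite G] in
/-- A maximal subgroup is the full normalizer of each of its nontrivial normal subgroups. -/
theorem normalizer_eq_of_coatom (hG : Cfsg.IsMinSimpleOddOrder G) {M N : Subgroup G}
    (hM : IsCoatom M) (hMN : M ≤ Subgroup.normalizer (N : Set G)) (hN1 : N ≠ ⊥) (hNtop : N ≠ ⊤) :
    Subgroup.normalizer (N : Set G) = M := by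
  have h := normalizer_ne_top_of_simple hG hN1 hNtop
  by_contra hne
  exact h (hM.2 _ (lt_of_le_of_ne hMN (Ne.symm hne)))

/-- A minimal simple group of odd order is not a `p`-group. -/
theorem sylow_ne_top (hG : Cfsg.IsMinSimpleOddOrder G) (p : ℕ) [hp : Fact p.Prime]
    (P : Subgroup G) (hP : IsPGroup p P) : P ≠ ⊤ := by
  rintro rfl
  haveI := hG.2.1
  have hGp : IsPGroup p G := by
    intro g
    obtain ⟨k, hk⟩ := hP ⟨g, Subgroup.mem_top g⟩
    exact ⟨k, by simpa using congrArg Subtype.val hk⟩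
  haveI : Nontrivial G := IsSimpleGroup.toNontrivial
  haveI hc : Nontrivial (Subgroup.center G) := hGp.center_nontrivial
  rcases (inferInstance : (Subgroup.center G).Normal).eq_bot_or_eq_top with h1 | h1
  · obtain ⟨z, hz⟩ := exists_ne (1 : Subgroup.center G)
    have hall : ∀ x ∈ Subgroup.center G, x = 1 := by
      intro x hx
      rw [h1, Subgroup.mem_bot] at hx
      exact hx
    apply hz
    apply Subtype.ext
    exact hall z z.2
  · apply hG.2.2.1
    refine ⟨⟨fun x y => ?_⟩⟩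
    have hx : x ∈ Subgroup.center G := by rw [h1]; exact Subgroup.mem_top x
    exact (Subgroup.mem_center_iff.mp hx y).symm

/-- The `p`-rank of a group is the `p`-rank of a Sylow `p`-subgroup. -/
theorem pRankLE_of_sylow {p k : ℕ} [hp : Fact p.Prime] (P : Sylow p G)
    (h : Cfsg.PRankLE p k ↥(P : Subgroup G)) : Cfsg.PRankLE p k G := by
  intro E hEc hEe
  have hEp : IsPGroup p ↥E := isPGroup_of_elementary ⟨hEc, hEe⟩
  obtain ⟨g, hg⟩ := Cfsg.Agent.Lead.exists_conj_le_sylow P E hEp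
  let f : ↥E →* ↥(P : Subgroup G) :=
    { toFun := fun x => ⟨g * (x : G) * g⁻¹, hg ⟨(x : G), x.2, rfl⟩⟩
      map_one' := by apply Subtype.ext; simp
      map_mul' := by intro x y; apply Subtype.ext; simp }
  have hf : Function.Injective f := by
    intro x y hxy
    have h1 : g * (x : G) * g⁻¹ = g * (y : G) * g⁻¹ := congrArg Subtype.val hxy
    apply Subtype.ext
    have h2 : (x : G) = g⁻¹ * (g * (x : G) * g⁻¹) * g := by group
    rw [h2, h1]; group
  have h2 := pRankLE_of_injective p k f hf h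
  have h3 := h2 ⊤ (by
    refine ⟨⟨fun x y => ?_⟩⟩
    apply Subtype.ext
    apply Subtype.ext
    have := hEc.is_comm.comm (x : ↥E) (y : ↥E)
    exact congrArg Subtype.val this) (by
    intro a _
    apply Subtype.ext
    rw [Subgroup.coe_pow, Subgroup.coe_one]
    exact hEe a a.2)
  rwa [Subgroup.card_top] at h3

/-- A cyclic group has `p`-rank at most one. -/
theorem pRankLE_one_of_isCyclic {R : Type u} [Group R] [Finite R] (hc : IsCyclic R) (p : ℕ)
    [hp : Fact p.Prime] : Cfsg.PRankLE p 1 R := by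
  intro E _ hEe
  haveI : IsCyclic ↥E := Subgroup.isCyclic E
  obtain ⟨x, hx⟩ := IsCyclic.exists_generator (α := ↥E)
  have h1 : Nat.card ↥E = orderOf x := by
    rw [← Nat.card_zpowers x]
    have : Subgroup.zpowers x = ⊤ := (Subgroup.eq_top_iff' _).mpr hx
    rw [this, Subgroup.card_top]
  have h2 : x ^ p = 1 := by
    apply Subtype.ext
    rw [Subgroup.coe_pow, Subgroup.coe_one]
    exact hEe x x.2
  rw [h1, pow_one]
  exact Nat.le_of_dvd hp.out.pos (orderOf_dvd_of_pow_eq_one h2)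

/-- Existence of a member of `SCN₃(P)` when the `p`-rank is at least three. -/
theorem exists_scn3_sylow (p : ℕ) [hp : Fact p.Prime] (hp2 : p ≠ 2) (P : Sylow p G)
    (hr : ¬ Cfsg.PRankLE p 2 G) :
    ∃ A : Subgroup G, Cfsg.IsSCN (P : Subgroup G) A ∧ IsMulCommutative ↥A ∧
      ¬ Cfsg.PRankLE p 2 ↥A := by
  have hrP : ¬ Cfsg.PRankLE p 2 ↥(P : Subgroup G) := fun h => hr (pRankLE_of_sylow P h)
  have hPp : IsPGroup p ↥(P : Subgroup G) := P.2
  have hnc : ¬ IsCyclic ↥(P : Subgroup G) := by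
    intro hc
    apply hrP
    intro E hEc hEe
    have := pRankLE_one_of_isCyclic hc p E hEc hEe
    exact this.trans (Nat.pow_le_pow_right hp.out.pos (by norm_num))
  obtain ⟨E, hEn, hEel, hEcard⟩ := exists_normal_elementary_p2_top hp2 hPp hnc
  haveI := hEn
  obtain ⟨A₀, -, hA₀n, hA₀c, hA₀r⟩ := Cfsg.Agent.Helper1.SCN3.exists_scn3 p hp2 hPp hrP E hEel hEcard
  haveI := hA₀n
  have hA₀comm : IsMulCommutative ↥A₀ := by
    refine ⟨⟨fun x y => ?_⟩⟩
    apply Subtype.ext
    have hy : (y : ↥(P : Subgroup G)) ∈ Subgroup.centralizer (A₀ : Set ↥(P : Subgroup G)) := by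
      rw [hA₀c]; exact y.2
    rw [Subgroup.coe_mul, Subgroup.coe_mul]
    exact (Subgroup.mem_centralizer_iff.mp hy (x : ↥(P : Subgroup G)) x.2)
  refine ⟨A₀.map (P : Subgroup G).subtype, ⟨Subgroup.map_subtype_le _,
    Puig.le_normalizer_map_subtype_of_normal _ A₀, ?_⟩, Subgroup.map_isMulCommutative A₀ _, ?_⟩
  · ext x
    constructor
    · rintro ⟨hxP, hxC⟩
      have h1 : (⟨x, hxP⟩ : ↥(P : Subgroup G)) ∈
          Subgroup.centralizer (A₀ : Set ↥(P : Subgroup G)) := by
        rw [Subgroup.mem_centralizer_iff]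
        intro y hy
        apply Subtype.ext
        exact Subgroup.mem_centralizer_iff.mp hxC (y : G) ⟨y, hy, rfl⟩
      rw [hA₀c] at h1
      exact ⟨⟨x, hxP⟩, h1, rfl⟩
    · rintro ⟨y, hy, rfl⟩
      refine ⟨y.2, Subgroup.mem_centralizer_iff.mpr ?_⟩
      rintro _ ⟨z, hz, rfl⟩
      have := hA₀comm.is_comm.comm ⟨z, hz⟩ ⟨y, hy⟩
      have h2 := congrArg (fun w : ↥A₀ => ((w : ↥(P : Subgroup G)) : G)) this
      simpa using h2
  · intro h
    apply hA₀r
    exact pRankLE_of_injective p 2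
      (Subgroup.equivMapOfInjective A₀ (P : Subgroup G).subtype
        (Subgroup.subtype_injective _)).toMonoidHom
      (Subgroup.equivMapOfInjective A₀ (P : Subgroup G).subtype
        (Subgroup.subtype_injective _)).injective h

/-- Consequence of the transitivity theorems 7.3, 7.5 and 7.6: if `A ∈ SCN₃(P)` and every
`P`-invariant `p'`-subgroup of `G` lies in `K`, then every `A`-invariant `p'`-subgroup lies in `K`. -/
theorem invariant_le_of_scn3 (hG : Cfsg.IsMinSimpleOddOrder G) (p : ℕ) [hp : Fact p.Prime]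
    (P : Sylow p G) {A : Subgroup G} (hscn : Cfsg.IsSCN (P : Subgroup G) A)
    (hAc : IsMulCommutative ↥A) (hr3 : ¬ Cfsg.PRankLE p 2 ↥A) (K : Subgroup G)
    (hK : ∀ Y : Subgroup G, (Nat.card Y).Coprime p →
      (P : Subgroup G) ≤ Subgroup.normalizer (Y : Set G) → Y ≤ K) :
    ∀ Y : Subgroup G, (Nat.card Y).Coprime p → A ≤ Subgroup.normalizer (Y : Set G) → Y ≤ K := by
  have hr1 : ¬ Cfsg.PRankLE p 1 ↥A := by
    intro h
    apply hr3
    intro E hEc hEe
    exact (h E hEc hEe).trans (Nat.pow_le_pow_right hp.out.pos (by norm_num))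
  have hA : Cfsg.TransitivityHypothesis A := transitivityHypothesis_of_scn hG hAc hscn hr1
  have hAp : IsPGroup p ↥A := P.2.to_le hscn.1
  have hA1 : A ≠ ⊥ := hA.1
  have hdvd := dvd_card_iff_of_isPGroup hAp hA1
  have hpA : p ∣ Nat.card A := (hdvd p hp.out).mpr rfl
  have hAC : A ≤ Subgroup.centralizer (A : Set G) := by
    intro a ha
    rw [Subgroup.mem_centralizer_iff]
    intro x hx
    have := hAc.is_comm.comm ⟨x, hx⟩ ⟨a, ha⟩
    exact congrArg Subtype.val this
  have hZ : ¬ Cfsg.RankLE 2 ↥(A ⊓ Subgroup.centralizer (A : Set G)) := by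
    intro h
    apply hr3
    exact Cfsg.Agent.Helper1.Rank2Fitting.pRankLE_of_le (le_inf le_rfl hAC) (h p hp.out)
  have hPtop : (P : Subgroup G) ≠ ⊤ := sylow_ne_top hG p _ P.2
  have hPπ : ∀ r : ℕ, r.Prime → r ∣ Nat.card (P : Subgroup G) → r ∣ Nat.card A := by
    intro r hr hd
    obtain ⟨k, hk⟩ := IsPGroup.iff_card.mp P.2
    rw [hk] at hd
    have : r = p := (Nat.prime_dvd_prime_iff_eq hr hp.out).mp (hr.dvd_of_dvd_pow hd)
    rw [this]; exact hpA
  have hsn : (A.subgroupOf (P : Subgroup G)).IsSubnormal :=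
    ((Subgroup.normal_subgroupOf_iff_le_normalizer hscn.1).mpr hscn.2.1).isSubnormal
  -- `KK A ≤ K`
  have hKK : KK A ≤ K := by
    apply hK
    · have h1 : (Nat.card (KK A)).Coprime (Nat.card A) := coprime_of_pi' (piCoreOf_isPi _ _)
      exact Nat.Coprime.coprime_dvd_right hpA h1
    · exact hscn.2.1.trans ((normalizer_le_normalizer_centralizer_aux A).trans
        (normalizer_le_normalizer_piCoreOf _ _))
  -- the case of `q`-subgroups
  have hqclaim : ∀ q : ℕ, q.Prime → q ≠ p → ∀ Y : Subgroup G, IsPGroup q ↥Y →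
      A ≤ Subgroup.normalizer (Y : Set G) → Y ≤ K := by
    intro q hq hqp Y hYq hAY
    have hqA : ¬ q ∣ Nat.card A := fun hd => hqp ((hdvd q hq).mp hd)
    have h : Hyp A q := Hyp.of hG hA hq hqA
    have htr : ∀ Q₁ ∈ Cfsg.maxInvSubgroups ⊤ A {q}, ∀ Q₂ ∈ Cfsg.maxInvSubgroups ⊤ A {q},
        KConj (KK A) Q₁ Q₂ := fun Q₁ h₁ Q₂ h₂ => h.thm73 hZ h₁ h₂
    have h75 := (h.thm75 hPtop hPπ hscn.1 hsn htr).2.2.1
    obtain ⟨Q₁, hQ₁, -⟩ := exists_max_ge (bot_mem_invSubgroups_top (P : Subgroup G) {q})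
    have hQ₁A : Q₁ ∈ Cfsg.maxInvSubgroups ⊤ A {q} := h75 hQ₁
    obtain ⟨hQ₁q, hQ₁P⟩ := (mem_invSubgroups_top hq).mp hQ₁.1
    have hQ₁K : Q₁ ≤ K := by
      apply hK _ _ hQ₁P
      haveI := Fact.mk hq
      obtain ⟨k, hk⟩ := IsPGroup.iff_card.mp hQ₁q
      rw [hk]
      exact Nat.Coprime.pow_left k ((Nat.coprime_primes hq hp.out).mpr hqp)
    obtain ⟨Q₂, hQ₂, hYQ₂⟩ := exists_max_ge ((mem_invSubgroups_top hq).mpr ⟨hYq, hAY⟩)
    obtain ⟨k, hk, hkQ⟩ := htr Q₁ hQ₁A Q₂ hQ₂
    have hQ₂K : Q₂ ≤ K := by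
      intro x hx
      rw [hkQ, mem_conj_smul] at hx
      have h1 := hQ₁K hx
      have h2 : x = k * (k⁻¹ * x * k) * k⁻¹ := by group
      rw [h2]
      exact K.mul_mem (K.mul_mem (hKK hk) h1) (K.inv_mem (hKK hk))
    exact hYQ₂.trans hQ₂K
  intro Y hYc hAY
  apply le_of_forall_sylow_le
  intro q hq hqY
  have hqp : q ≠ p := by
    rintro rfl
    exact (Nat.Prime.coprime_iff_not_dvd hq).mp hYc.symm hqY
  haveI := Fact.mk hq
  haveI : Group.IsNilpotent ↥A := hAp.isNilpotent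
  have hcop : (Nat.card A).Coprime (Nat.card Y) := by
    obtain ⟨k, hk⟩ := IsPGroup.iff_card.mp hAp
    rw [hk]
    exact (Nat.Coprime.pow_right k hYc).symm
  obtain ⟨S, hS⟩ := exists_invariant_sylow (p := q) A Y hAY hcop (Or.inl inferInstance)
  refine ⟨(S : Subgroup ↥Y).map Y.subtype, Subgroup.map_subtype_le _, ?_, ?_⟩
  · exact hqclaim q hq hqp _ (S.2.map _) hS
  · rw [card_map_subtype]
    exact S.card_eq_multiplicity

end Cfsg.Agent.Helper1.BGU
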