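import Mathlib
import Cfsg.Agent.Helper1.BGUb

set_option autoImplicit false

/-!
Bender–Glauberman, Lemma 9.1 and Corollary 9.2 (`S1398`): a noncyclic elementary abelian
`p`-subgroup `B` of a maximal subgroup `M` such that `M` contains every `B`-invariant `p'`-subgroup
(or the centralizer of every non-identity element of `B`) lies in no other maximal subgroup.
-/

namespace Cfsg.Agent.Helper1.BGU

open Cfsg Cfsg.Agent.Helper1 Cfsg.Agent.Helper2 Cfsg.Agent.Helper1.BGT
open scoped Pointwise commutatorElement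

universe u

variable {G : Type u} [Group G] [Finite G]

/-- If `g⁻¹ V g ≤ W ≤ N(K)` then `V` normalizes `gKg⁻¹`. -/
theorem le_normalizer_conj_smul_of {g : G} {V W K : Subgroup G}
    (hg : ∀ x ∈ V, g⁻¹ * x * g ∈ W) (hWK : W ≤ Subgroup.normalizer (K : Set G)) :
    V ≤ Subgroup.normalizer ((MulAut.conj g • K : Subgroup G) : Set G) := by
  intro x hx
  apply Subgroup.mem_normalizer_fintype
  intro n hn
  have hn' : g⁻¹ * n * g ∈ K := mem_conj_smul.mp hn
  have h1 := (Subgroup.mem_normalizer_iff.mp (hWK (hg x hx)) _).mp hn'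
  rw [SetLike.mem_coe, mem_conj_smul]
  have e : g⁻¹ * (x * n * x⁻¹) * g = g⁻¹ * x * g * (g⁻¹ * n * g) * (g⁻¹ * x * g)⁻¹ := by group
  rw [e]; exact h1

/-- Hypothesis (a) implies hypothesis (b) of Lemma 9.1. -/
theorem le_of_centralizers_le (p : ℕ) [hp : Fact p.Prime] {B M : Subgroup G}
    (hBe : Cfsg.IsElementaryAbelian p B) (hBnc : ¬ IsCyclic ↥B)
    (ha : ∀ b ∈ B, b ≠ 1 → Subgroup.centralizer ({b} : Set G) ≤ M) :
    ∀ Y : Subgroup G, (Nat.card Y).Coprime p → B ≤ Subgroup.normalizer (Y : Set G) → Y ≤ M := by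
  intro Y hYc hBY
  have hpY : ¬ p ∣ Nat.card Y := (Nat.Prime.coprime_iff_not_dvd hp.out).mp hYc.symm
  have hgen := le_iSup_hyperplane_centralizers p (Nat.card B) B Y rfl hBe hpY hBY
  refine hgen.trans (iSup_le ?_)
  rintro ⟨B₁, hB₁B, hB₁i⟩
  have hB₁ : B₁ ≠ ⊥ := by
    rintro rfl
    rw [Subgroup.relIndex_bot_left] at hB₁i
    apply hBnc
    have hBp : IsPGroup p ↥B := isPGroup_of_elementary hBe
    obtain ⟨k, hk⟩ := IsPGroup.iff_card.mp hBp
    apply isCyclic_of_card_dvd_prime (p := p)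
    rw [hk] at hB₁i ⊢
    have hk1 : k ≤ 1 := by
      by_contra hlt
      push Not at hlt
      have h2 : p ^ 2 ≤ p ^ k := Nat.pow_le_pow_right hp.out.pos hlt
      have h3 : p < p ^ 2 := by
        have := hp.out.one_lt
        nlinarith
      omega
    calc p ^ k ∣ p ^ 1 := pow_dvd_pow p hk1
      _ = p := pow_one p
  obtain ⟨b, hb1⟩ := (Subgroup.ne_bot_iff_exists_ne_one).mp hB₁
  have hbB₁ : (b : G) ∈ B₁ := b.2
  have hb1' : (b : G) ≠ 1 := fun h => hb1 (Subtype.ext h)
  exact inf_le_right.trans ((Subgroup.centralizer_le (Set.singleton_subset_iff.mpr hbB₁)).trans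
    (ha b (hB₁B hbB₁) hb1'))

/-- Lemma 9.1, main form. -/
theorem unique_of_invariant_le (hG : Cfsg.IsMinSimpleOddOrder G) {M : Subgroup G}
    (hM : IsCoatom M) (p : ℕ) [hp : Fact p.Prime] {B : Subgroup G} (hBM : B ≤ M)
    (hBe : Cfsg.IsElementaryAbelian p B) (hBnc : ¬ IsCyclic ↥B)
    (hb : ∀ Y : Subgroup G, (Nat.card Y).Coprime p → B ≤ Subgroup.normalizer (Y : Set G) → Y ≤ M) :
    ∀ H : Subgroup G, IsCoatom H → B ≤ H → H = M := by
  classical
  by_contra hcon
  push Not at hcon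
  have h𝒮ne : {H : Subgroup G | IsCoatom H ∧ B ≤ H ∧ H ≠ M}.Nonempty := by
    obtain ⟨H, h1, h2, h3⟩ := hcon
    exact ⟨H, h1, h2, h3⟩
  obtain ⟨H, hH𝒮, hHmax⟩ := Set.exists_max_image {H : Subgroup G | IsCoatom H ∧ B ≤ H ∧ H ≠ M}
    (fun H => (Nat.card ↥(H ⊓ M)).factorization p) (Set.toFinite _) h𝒮ne
  obtain ⟨hHco, hBH, hHM⟩ := hH𝒮
  have hodd : ∀ X : Subgroup G, Odd (Nat.card X) := fun X =>
    Odd.of_dvd_nat hG.1 (Subgroup.card_subgroup_dvd_card X)
  have hsolv := hG.2.2.2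
  have hBp : IsPGroup p ↥B := isPGroup_of_elementary hBe
  have hB1 : B ≠ ⊥ := by
    rintro rfl
    exact hBnc inferInstance
  have hp2 : p ≠ 2 := by
    rintro rfl
    obtain ⟨k, hk⟩ := IsPGroup.iff_card.mp hBp
    have hk0 : k ≠ 0 := by
      rintro rfl
      rw [pow_zero] at hk
      exact hB1 (Subgroup.card_eq_one.mp hk)
    have h2 : 2 ∣ Nat.card B := by rw [hk]; exact dvd_pow_self 2 hk0
    exact (Nat.not_even_iff_odd.mpr (hodd B)) (even_iff_two_dvd.mpr h2)
  -- `R` and `P`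
  obtain ⟨R, hBR, hRHM, hRp, hRcard⟩ :=
    Cfsg.Agent.Lead.exists_le_card_eq_ppart hBp (le_inf hBH hBM)
  obtain ⟨P, hRP, hPM, hPp, hPcard⟩ :=
    Cfsg.Agent.Lead.exists_le_card_eq_ppart hRp (hRHM.trans inf_le_right)
  have hR1 : R ≠ ⊥ := fun h => hB1 (le_bot_iff.mp (h ▸ hBR))
  have hP1 : P ≠ ⊥ := fun h => hR1 (le_bot_iff.mp (h ▸ hRP))
  have hMtop : M ≠ ⊤ := hM.1
  have hHtop : H ≠ ⊤ := hHco.1
  have hMsol : Group.IsSolvable ↥M := hsolv M hMtop
  have hHsol : Group.IsSolvable ↥H := hsolv H hHtop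
  obtain ⟨K, hKdef⟩ : ∃ K : Subgroup G, K = coreOf p M := ⟨_, rfl⟩
  have hKc : (Nat.card K).Coprime p := hKdef ▸ card_coreOf_coprime p M
  have hKM : K ≤ M := hKdef ▸ coreOf_le p M
  have hMK : M ≤ Subgroup.normalizer (K : Set G) := hKdef ▸ le_normalizer_coreOf p M
  -- (i) `P`-invariant `p'`-subgroups lie in `K`
  have hi : ∀ Y : Subgroup G, (Nat.card Y).Coprime p →
      P ≤ Subgroup.normalizer (Y : Set G) → Y ≤ K := by
    intro Y hYc hPY
    have hYM : Y ≤ M := hb Y hYc ((hBR.trans hRP).trans hPY)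
    rw [hKdef]
    exact le_coreOf_of_sylow_invariant p M P Y hMsol hPM hPcard hYM hYc hPY
  have hcoreM : ∀ X : Subgroup G, B ≤ X → coreOf p X ≤ M := fun X hBX =>
    hb _ (card_coreOf_coprime p X) (hBX.trans (le_normalizer_coreOf p X))
  -- `N_G(Z(L(P))) = M` if `K = 1`
  have hzlP : K = ⊥ → Subgroup.normalizer (Puig.zl P : Set G) = M := by
    intro hK
    apply normalizer_eq_of_coatom hG hM _ (zl_ne_bot hPp hP1)
      (ne_top_of_le_ne_top hMtop ((Puig.zl_le P).trans hPM))
    intro m hm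
    obtain ⟨a, ha, y, hy, rfl⟩ := exists_mul_puig p hp2 M P hMsol (hodd M) hPM hPcard m hm
    rw [← hKdef, hK, Subgroup.mem_bot] at ha
    rw [ha, one_mul]; exact hy.2
  -- `N_G(K) = M` if `K ≠ 1`
  have hNK : K ≠ ⊥ → Subgroup.normalizer (K : Set G) = M := fun hK =>
    normalizer_eq_of_coatom hG hM hMK hK (ne_top_of_le_ne_top hMtop hKM)
  have hconjK : ∀ g : G, MulAut.conj g • K ≤ K → g ∈ Subgroup.normalizer (K : Set G) := by
    intro g hg
    apply Subgroup.mem_normalizer_fintype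
    intro n hn
    exact hg (conj_mem_conj_smul hn)
  have hconjc : ∀ g : G, (Nat.card ↥(MulAut.conj g • K)).Coprime p := by
    intro g
    rw [card_conj_smul]; exact hKc
  -- (ii) `N_G(P) ≤ M`
  have hNP : Subgroup.normalizer (P : Set G) ≤ M := by
    by_cases hK : K = ⊥
    · rw [← hzlP hK]; exact Puig.normalizer_le_normalizer_zl P
    · rw [← hNK hK]
      intro g hg
      apply hconjK
      apply hi _ (hconjc g)
      apply le_normalizer_conj_smul_of (W := P) _ (hPM.trans hMK)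
      intro x hx
      have := (Subgroup.mem_normalizer_iff.mp (Subgroup.inv_mem _ hg) x).mp hx
      rwa [inv_inv] at this
  -- (iii) `P` is a Sylow subgroup of `G`
  have hPG : Nat.card P = p ^ (Nat.card G).factorization p :=
    card_eq_ppart_top_of_normalizer_le hPp hPM hPcard hNP
  have hcoreH : coreOf p H ≤ M := hcoreM H hBH
  have hfinish : H ≤ M → False := fun hle => hHM ((hHco.le_iff_eq hMtop).mp hle).symm
  by_cases hRP' : R = P
  · -- the case `R = P`
    have hPH : P ≤ H := by rw [← hRP']; exact hRHM.trans inf_le_left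
    have hPHcard : Nat.card P = p ^ (Nat.card H).factorization p :=
      Cfsg.Agent.Lead.card_eq_ppart_of_le hPH le_top hPp (by rw [Subgroup.card_top]; exact hPG)
    apply hfinish
    by_cases hK : K = ⊥
    · intro h hh
      obtain ⟨a, ha, y, hy, rfl⟩ := exists_mul_puig p hp2 H P hHsol (hodd H) hPH hPHcard h hh
      exact M.mul_mem (hcoreH ha) (by rw [← hzlP hK]; exact hy.2)
    · intro h hh
      obtain ⟨a, ha, y, hy, rfl⟩ := exists_mul_frattini p H P hPH hPHcard h hh
      refine M.mul_mem (hcoreH ha) ?_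
      rw [← hNK hK]
      apply hconjK
      have hVy : ∀ x ∈ P ⊓ ppCoreOf p H, y⁻¹ * x * y ∈ P := by
        intro x hx
        have := (Subgroup.mem_normalizer_iff.mp (Subgroup.inv_mem _ hy.2) x).mp hx
        rw [inv_inv] at this
        exact this.1
      have hVn : P ⊓ ppCoreOf p H ≤
          Subgroup.normalizer ((MulAut.conj y • K : Subgroup G) : Set G) :=
        le_normalizer_conj_smul_of hVy (hPM.trans hMK)
      by_cases hr : Cfsg.PRankLE p 2 G
      · -- `p`-length one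
        have hpH : p ∣ Nat.card H := by
          obtain ⟨k, hk⟩ := IsPGroup.iff_card.mp hPp
          have hk0 : k ≠ 0 := by
            rintro rfl
            rw [pow_zero] at hk
            exact hP1 (Subgroup.card_eq_one.mp hk)
          have h1 : p ∣ Nat.card P := by rw [hk]; exact dvd_pow_self p hk0
          exact h1.trans (Subgroup.card_dvd_of_le hPH)
        have hPpp : P ≤ ppCoreOf p H :=
          sylow_le_ppCoreOf_of_rank_two p H P hHsol (hodd H)
            (Cfsg.Agent.Helper1.Rank2Struct.pRankLE_subgroup hr H) hPH hPHcard hpH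
        have hVP : P ⊓ ppCoreOf p H = P := inf_eq_left.mpr hPpp
        rw [hVP] at hVn
        exact hi _ (hconjc y) hVn
      · -- transitivity
        have hcoe : ((Sylow.ofCard P hPG : Sylow p G) : Subgroup G) = P := Sylow.coe_ofCard _ _
        obtain ⟨A, hscn, hAc, hA3⟩ := exists_scn3_sylow p hp2 (Sylow.ofCard P hPG) hr
        have hAinv := invariant_le_of_scn3 hG p (Sylow.ofCard P hPG) hscn hAc hA3 K
          (by rw [hcoe]; exact hi)
        rw [hcoe] at hscn
        have hcomm : ∀ x ∈ A, ∀ y ∈ A, x * y = y * x := by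
          intro x hx y hy
          have := hAc.is_comm.comm ⟨x, hx⟩ ⟨y, hy⟩
          exact congrArg Subtype.val this
        have hAV : A ≤ P ⊓ ppCoreOf p H :=
          le_inf hscn.1 (le_ppCoreOf_of_abelian_normal p H P A hHsol (hodd H) hPH hPHcard
            hscn.1 hcomm hscn.2.1)
        exact hAinv _ (hconjc y) (hAV.trans hVn)
  · -- the case `R < P`
    have hlt : R < P := lt_of_le_of_ne hRP hRP'
    obtain ⟨x₀, hx₀P, hx₀R, hx₀n⟩ := exists_normalizing_of_lt hPp hlt
    have hR₁P : R ⊔ Subgroup.zpowers x₀ ≤ P :=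
      sup_le hRP (by rw [Subgroup.zpowers_le]; exact hx₀P)
    have hR₁p : IsPGroup p ↥(R ⊔ Subgroup.zpowers x₀) := hPp.to_le hR₁P
    have hR₁N : R ⊔ Subgroup.zpowers x₀ ≤ Subgroup.normalizer (R : Set G) :=
      sup_le Subgroup.le_normalizer (by rw [Subgroup.zpowers_le]; exact hx₀n)
    have hR₁card : Nat.card R < Nat.card ↥(R ⊔ Subgroup.zpowers x₀) := by
      by_contra hle
      push Not at hle
      have h2 : R = R ⊔ Subgroup.zpowers x₀ := Subgroup.eq_of_le_of_card_ge le_sup_left hle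
      apply hx₀R
      rw [h2]
      exact (le_sup_right : Subgroup.zpowers x₀ ≤ R ⊔ Subgroup.zpowers x₀)
        (Subgroup.mem_zpowers x₀)
    have hkey : ∀ C : Subgroup G, C ≠ ⊥ → C ≠ ⊤ →
        Subgroup.normalizer (R : Set G) ≤ Subgroup.normalizer (C : Set G) →
        Subgroup.normalizer (C : Set G) ≤ M := by
      intro C hC1 hCtop hRC
      obtain ⟨D, hD, hND⟩ := exists_coatom_ge (normalizer_ne_top_of_simple hG hC1 hCtop)
      by_cases hDM : D = M
      · rw [← hDM]; exact hND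
      · exfalso
        have hBD : B ≤ D := hBR.trans (Subgroup.le_normalizer.trans (hRC.trans hND))
        have hmax : (Nat.card ↥(D ⊓ M)).factorization p ≤ (Nat.card ↥(H ⊓ M)).factorization p :=
          hHmax D ⟨hD, hBD, hDM⟩
        have hR₁DM : R ⊔ Subgroup.zpowers x₀ ≤ D ⊓ M :=
          le_inf (hR₁N.trans (hRC.trans hND)) (hR₁P.trans hPM)
        have h1 := Cfsg.Agent.Lead.card_le_ppart_of_isPGroup hR₁p hR₁DM
        have h2 : p ^ (Nat.card ↥(D ⊓ M)).factorization p ≤
            p ^ (Nat.card ↥(H ⊓ M)).factorization p := Nat.pow_le_pow_right hp.out.pos hmax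
        rw [← hRcard] at h2
        omega
    have hRtop : R ≠ ⊤ := ne_top_of_le_ne_top hMtop (hRHM.trans inf_le_right)
    have hNR : Subgroup.normalizer (R : Set G) ≤ M := hkey R hR1 hRtop le_rfl
    have hNZ : Subgroup.normalizer (Puig.zl R : Set G) ≤ M :=
      hkey (Puig.zl R) (zl_ne_bot hRp hR1) (ne_top_of_le_ne_top hRtop (Puig.zl_le R))
        (Puig.normalizer_le_normalizer_zl R)
    have hRH : R ≤ H := hRHM.trans inf_le_left
    have hRHcard : Nat.card R = p ^ (Nat.card H).factorization p := by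
      obtain ⟨S, hRS, hSH, hSp, hScard⟩ := Cfsg.Agent.Lead.exists_le_card_eq_ppart hRp hRH
      by_cases hRS' : R = S
      · rw [hRS']; exact hScard
      · exfalso
        obtain ⟨x, hxS, hxR, hxn⟩ := exists_normalizing_of_lt hSp (lt_of_le_of_ne hRS hRS')
        have hQ : R ⊔ Subgroup.zpowers x ≤ H ⊓ M :=
          sup_le hRHM (by rw [Subgroup.zpowers_le]; exact ⟨hSH hxS, hNR hxn⟩)
        have hQp : IsPGroup p ↥(R ⊔ Subgroup.zpowers x) :=
          hSp.to_le (sup_le hRS (by rw [Subgroup.zpowers_le]; exact hxS))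
        have h1 := Cfsg.Agent.Lead.card_le_ppart_of_isPGroup hQp hQ
        rw [← hRcard] at h1
        have h2 : R = R ⊔ Subgroup.zpowers x := Subgroup.eq_of_le_of_card_ge le_sup_left h1
        apply hxR
        rw [h2]
        exact (le_sup_right : Subgroup.zpowers x ≤ R ⊔ Subgroup.zpowers x)
          (Subgroup.mem_zpowers x)
    apply hfinish
    intro h hh
    obtain ⟨a, ha, y, hy, rfl⟩ := exists_mul_puig p hp2 H R hHsol (hodd H) hRH hRHcard h hh
    exact M.mul_mem (hcoreH ha) (hNZ hy.2)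

/-- Bender–Glauberman Lemma 9.1 and Corollary 9.2. -/
theorem inUniqueMaximal_of_noncyclic (hG : Cfsg.IsMinSimpleOddOrder G) (M : Subgroup G)
    (hM : IsCoatom M) (p : ℕ) [hp : Fact p.Prime] (B : Subgroup G) (hBM : B ≤ M)
    (hBe : Cfsg.IsElementaryAbelian p B) (hBnc : ¬ IsCyclic ↥B)
    (h : (∀ b ∈ B, b ≠ 1 → Subgroup.centralizer ({b} : Set G) ≤ M) ∨
      ∀ Y ∈ Cfsg.invSubgroups ⊤ B (Cfsg.primesNotDvd p), Y ≤ M) :
    Cfsg.InUniqueMaximal B := by
  have hb : ∀ Y : Subgroup G, (Nat.card Y).Coprime p →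
      B ≤ Subgroup.normalizer (Y : Set G) → Y ≤ M := by
    rcases h with ha | hb
    · exact le_of_centralizers_le p hBe hBnc ha
    · intro Y hYc hBY
      exact hb Y ⟨le_top, pi'_of_coprime hYc, hBY⟩
  refine ⟨M, ⟨hM, hBM⟩, ?_⟩
  rintro H ⟨hH, hBH⟩
  exact unique_of_invariant_le hG hM p hBM hBe hBnc hb H hH hBH

end Cfsg.Agent.Helper1.BGU
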