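import Mathlib
import Cfsg.Agent.Helper1.BGUc

set_option autoImplicit false

/-!
Bender–Glauberman, Lemma 9.3 (`S1399`): a subgroup of rank at least two centralizing a uniqueness
subgroup is a uniqueness subgroup.
-/

namespace Cfsg.Agent.Helper1.BGU

open Cfsg Cfsg.Agent.Helper1 Cfsg.Agent.Helper2 Cfsg.Agent.Helper1.BGT
open scoped Pointwise commutatorElement

universe u

variable {G : Type u} [Group G] [Finite G]

omit [Finite G] in
theorem centralizer_singleton_ne_top (hG : Cfsg.IsMinSimpleOddOrder G) {b : G} (hb : b ≠ 1) :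
    Subgroup.centralizer ({b} : Set G) ≠ ⊤ := by
  intro htop
  haveI := hG.2.1
  have hbc : b ∈ Subgroup.center G := by
    rw [Subgroup.mem_center_iff]
    intro x
    have hx : x ∈ Subgroup.centralizer ({b} : Set G) := by rw [htop]; exact Subgroup.mem_top x
    exact (Subgroup.mem_centralizer_iff.mp hx b rfl).symm
  have hall : ∀ x ∈ Subgroup.center G, Subgroup.center G = ⊥ → x = 1 := by
    intro x hx h1
    rw [h1, Subgroup.mem_bot] at hx
    exact hx
  rcases (inferInstance : (Subgroup.center G).Normal).eq_bot_or_eq_top with h1 | h1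
  · exact hb (hall b hbc h1)
  · apply hG.2.2.1
    refine ⟨⟨fun x y => ?_⟩⟩
    have hx : x ∈ Subgroup.center G := by rw [h1]; exact Subgroup.mem_top x
    exact (Subgroup.mem_center_iff.mp hx y).symm

/-- A minimal simple group has more than one maximal subgroup: the trivial subgroup is not a
uniqueness subgroup. -/
theorem not_inUniqueMaximal_bot (hG : Cfsg.IsMinSimpleOddOrder G) :
    ¬ Cfsg.InUniqueMaximal (⊥ : Subgroup G) := by
  rintro ⟨M, ⟨hM, -⟩, huniq⟩
  obtain ⟨g, hg⟩ : ∃ g : G, g ∉ M := by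
    by_contra hcon
    push Not at hcon
    exact hM.1 (eq_top_iff.mpr fun x _ => hcon x)
  have hz : Subgroup.zpowers g = ⊤ := by
    by_contra hne
    obtain ⟨D, hD, hle⟩ := exists_coatom_ge hne
    have hDM : D = M := huniq D ⟨hD, bot_le⟩
    apply hg
    rw [← hDM]
    exact hle (Subgroup.mem_zpowers g)
  apply hG.2.2.1
  refine ⟨⟨fun x y => ?_⟩⟩
  have hx : x ∈ Subgroup.zpowers g := by rw [hz]; exact Subgroup.mem_top x
  have hy : y ∈ Subgroup.zpowers g := by rw [hz]; exact Subgroup.mem_top y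
  obtain ⟨i, rfl⟩ := Subgroup.mem_zpowers_iff.mp hx
  obtain ⟨j, rfl⟩ := Subgroup.mem_zpowers_iff.mp hy
  exact (Commute.zpow_zpow (Commute.refl g) i j).eq

/-- The unique maximal subgroup containing a uniqueness subgroup contains its normalizer. -/
theorem normalizer_le_of_unique (hG : Cfsg.IsMinSimpleOddOrder G) {L M : Subgroup G}
    (hM : IsCoatom M) (hLM : L ≤ M) (huniq : ∀ H : Subgroup G, IsCoatom H ∧ L ≤ H → H = M) :
    Subgroup.normalizer (L : Set G) ≤ M := by
  have hL1 : L ≠ ⊥ := by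
    rintro rfl
    exact not_inUniqueMaximal_bot hG ⟨M, ⟨hM, bot_le⟩, huniq⟩
  have hLtop : L ≠ ⊤ := ne_top_of_le_ne_top hM.1 hLM
  obtain ⟨D, hD, hND⟩ := exists_coatom_ge (normalizer_ne_top_of_simple hG hL1 hLtop)
  have hDM : D = M := huniq D ⟨hD, Subgroup.le_normalizer.trans hND⟩
  rw [← hDM]; exact hND

/-- Bender–Glauberman Lemma 9.3. -/
theorem cent_uniq (hG : Cfsg.IsMinSimpleOddOrder G) (L K : Subgroup G)
    (hL : Cfsg.InUniqueMaximal L) (hK : K ≤ Subgroup.centralizer (L : Set G))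
    (hKr : ¬ Cfsg.RankLE 1 ↥K) : Cfsg.InUniqueMaximal K := by
  obtain ⟨M, ⟨hM, hLM⟩, huniq⟩ := hL
  unfold Cfsg.RankLE at hKr
  push Not at hKr
  obtain ⟨p, hp, hKp⟩ := hKr
  haveI := Fact.mk hp
  unfold Cfsg.PRankLE at hKp
  push Not at hKp
  obtain ⟨E₀, hE₀c, hE₀e, hE₀card⟩ := hKp
  -- `E`, the image of `E₀` in `G`
  have hEK : E₀.map K.subtype ≤ K := Subgroup.map_subtype_le _
  have hEe : Cfsg.IsElementaryAbelian p (E₀.map K.subtype) := by
    refine ⟨Subgroup.map_isMulCommutative E₀ _, ?_⟩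
    rintro _ ⟨x, hx, rfl⟩
    have := hE₀e x hx
    rw [← map_pow, this, map_one]
  have hEcard : p < Nat.card (E₀.map K.subtype) := by
    rw [Subgroup.card_map_of_injective K.subtype_injective]
    rw [pow_one] at hE₀card
    exact hE₀card
  have hEnc : ¬ IsCyclic ↥(E₀.map K.subtype) := by
    intro hc
    have h1 := pRankLE_one_of_isCyclic hc p ⊤ (by
      refine ⟨⟨fun x y => ?_⟩⟩
      apply Subtype.ext
      apply Subtype.ext
      have := hEe.1.is_comm.comm (x : ↥(E₀.map K.subtype)) (y : ↥(E₀.map K.subtype))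
      exact congrArg Subtype.val this) (by
      intro a _
      apply Subtype.ext
      rw [Subgroup.coe_pow, Subgroup.coe_one]
      exact hEe.2 a a.2)
    rw [Subgroup.card_top, pow_one] at h1
    omega
  have hcent : ∀ b ∈ E₀.map K.subtype, b ≠ 1 → Subgroup.centralizer ({b} : Set G) ≤ M := by
    intro b hb hb1
    obtain ⟨D, hD, hCD⟩ := exists_coatom_ge (centralizer_singleton_ne_top hG hb1)
    have hLC : L ≤ Subgroup.centralizer ({b} : Set G) := by
      intro l hl
      rw [Subgroup.mem_centralizer_iff]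
      intro x hx
      rw [Set.mem_singleton_iff] at hx
      subst hx
      exact (Subgroup.mem_centralizer_iff.mp (hK (hEK hb)) l hl).symm
    have hDM : D = M := huniq D ⟨hD, hLC.trans hCD⟩
    rw [← hDM]; exact hCD
  have hE1 : E₀.map K.subtype ≠ ⊥ := by
    rintro h
    rw [h, Subgroup.card_bot] at hEcard
    have := hp.one_lt
    omega
  obtain ⟨b, hb1⟩ := (Subgroup.ne_bot_iff_exists_ne_one).mp hE1
  have hb1' : (b : G) ≠ 1 := fun h => hb1 (Subtype.ext h)
  have hEM : E₀.map K.subtype ≤ M := by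
    refine le_trans ?_ (hcent b b.2 hb1')
    intro x hx
    rw [Subgroup.mem_centralizer_iff]
    intro y hy
    rw [Set.mem_singleton_iff] at hy
    subst hy
    have := hEe.1.is_comm.comm b ⟨x, hx⟩
    exact congrArg Subtype.val this
  obtain ⟨M', -, hM'⟩ := inUniqueMaximal_of_noncyclic hG M hM p _ hEM hEe hEnc (Or.inl hcent)
  have hM'M : M = M' := hM' M ⟨hM, hEM⟩
  have hKM : K ≤ M :=
    hK.trans ((Subgroup.centralizer_le_normalizer _).trans (normalizer_le_of_unique hG hM hLM huniq))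
  refine ⟨M, ⟨hM, hKM⟩, ?_⟩
  rintro H ⟨hH, hKH⟩
  rw [hM'M]
  exact hM' H ⟨hH, hEK.trans hKH⟩

end Cfsg.Agent.Helper1.BGU
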