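import Mathlib
import Cfsg.Agent.Helper1.BGUd

set_option autoImplicit false

/-!
Bender–Glauberman, Lemma 9.4 (`S1400`): if some abelian `p`-subgroup of rank at least three is a
uniqueness subgroup, then so is every noncyclic `p`-subgroup whose centralizer has `p`-rank at
least three.
-/

namespace Cfsg.Agent.Helper1.BGU

open Cfsg Cfsg.Agent.Helper1 Cfsg.Agent.Helper2 Cfsg.Agent.Helper1.BGT
open scoped Pointwise commutatorElement

universe u

variable {G : Type u} [Group G]

/-- `X` contains an elementary abelian `p`-subgroup of order greater than `p ^ k`. -/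
def HasEA (p k : ℕ) (X : Subgroup G) : Prop :=
  ∃ F : Subgroup G, F ≤ X ∧ Cfsg.IsElementaryAbelian p F ∧ p ^ k < Nat.card F

theorem hasEA_of_not_pRankLE {p k : ℕ} {X : Subgroup G} (h : ¬ Cfsg.PRankLE p k ↥X) :
    HasEA p k X := by
  unfold Cfsg.PRankLE at h
  push Not at h
  obtain ⟨E₀, hE₀c, hE₀e, hE₀card⟩ := h
  refine ⟨E₀.map X.subtype, Subgroup.map_subtype_le _,
    ⟨Subgroup.map_isMulCommutative E₀ _, ?_⟩, ?_⟩
  · rintro _ ⟨x, hx, rfl⟩
    have := hE₀e x hx
    rw [← map_pow, this, map_one]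
  · rw [Subgroup.card_map_of_injective X.subtype_injective]; exact hE₀card

theorem not_pRankLE_of_hasEA {p k : ℕ} {X : Subgroup G} (h : HasEA p k X) :
    ¬ Cfsg.PRankLE p k ↥X := by
  obtain ⟨F, hFX, hFe, hFcard⟩ := h
  intro hr
  have h1 := hr (F.subgroupOf X) (by
    refine ⟨⟨fun x y => ?_⟩⟩
    apply Subtype.ext
    apply Subtype.ext
    have hx : ((x : ↥X) : G) ∈ F := Subgroup.mem_subgroupOf.mp x.2
    have hy : ((y : ↥X) : G) ∈ F := Subgroup.mem_subgroupOf.mp y.2
    have := hFe.1.is_comm.comm ⟨_, hx⟩ ⟨_, hy⟩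
    have h' := congrArg Subtype.val this
    simpa using h') (by
    intro a ha
    apply Subtype.ext
    rw [Subgroup.coe_pow, Subgroup.coe_one]
    exact hFe.2 _ (Subgroup.mem_subgroupOf.mp ha))
  rw [Cfsg.Agent.Lead.card_subgroupOf_of_le hFX] at h1
  omega

theorem not_rankLE_of_hasEA {p k : ℕ} (hp : p.Prime) {X : Subgroup G} (h : HasEA p k X) :
    ¬ Cfsg.RankLE k ↥X := fun hr => not_pRankLE_of_hasEA h (hr p hp)

theorem HasEA.mono {p k : ℕ} {X Y : Subgroup G} (h : HasEA p k X) (hXY : X ≤ Y) : HasEA p k Y := by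
  obtain ⟨F, hFX, hFe, hFcard⟩ := h
  exact ⟨F, hFX.trans hXY, hFe, hFcard⟩

variable [Finite G]

/-- Conjugates of maximal subgroups are maximal. -/
theorem isCoatom_conj_smul (g : G) {M : Subgroup G} (hM : IsCoatom M) :
    IsCoatom (MulAut.conj g • M) := by
  have h := ((MulAut.conj g).mapSubgroup.isCoatom_iff M).mpr hM
  exact h

/-- Uniqueness subgroups are closed under conjugation. -/
theorem inUniqueMaximal_conj_smul (g : G) {L : Subgroup G} (hL : Cfsg.InUniqueMaximal L) :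
    Cfsg.InUniqueMaximal (MulAut.conj g • L) := by
  obtain ⟨M, ⟨hM, hLM⟩, huniq⟩ := hL
  refine ⟨MulAut.conj g • M, ⟨isCoatom_conj_smul g hM, ?_⟩, ?_⟩
  · exact Subgroup.pointwise_smul_le_pointwise_smul_iff.mpr hLM
  · rintro H ⟨hH, hLH⟩
    have h1 : IsCoatom (MulAut.conj g⁻¹ • H) := isCoatom_conj_smul g⁻¹ hH
    have h2 : L ≤ MulAut.conj g⁻¹ • H := by
      have := Subgroup.pointwise_smul_le_pointwise_smul_iff (a := MulAut.conj g⁻¹).mpr hLH
      rw [map_inv, inv_smul_smul] at this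
      rw [map_inv]
      exact this
    have h3 := huniq _ ⟨h1, h2⟩
    rw [← h3, map_inv, smul_inv_smul]

/-- Lemma 9.3 in the form used below. -/
theorem cent_uniq' (hG : Cfsg.IsMinSimpleOddOrder G) {p : ℕ} (hp : p.Prime) {L K : Subgroup G}
    (hL : Cfsg.InUniqueMaximal L) (hK : K ≤ Subgroup.centralizer (L : Set G))
    (hKr : HasEA p 1 K) : Cfsg.InUniqueMaximal K :=
  cent_uniq hG L K hL hK (not_rankLE_of_hasEA hp hKr)

/-- A noncyclic Sylow `p`-subgroup (`p` odd) has a normal elementary abelian subgroup `E` of order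
`p ^ 2`, and every subgroup `F` of the Sylow subgroup satisfies `|F| ≤ p |C_F(E)|`. -/
theorem exists_normal_rank_two (p : ℕ) [hp : Fact p.Prime] (hp2 : p ≠ 2) (S : Sylow p G)
    (hnc : ¬ IsCyclic ↥(S : Subgroup G)) :
    ∃ E : Subgroup G, E ≤ (S : Subgroup G) ∧ Cfsg.IsElementaryAbelian p E ∧ Nat.card E = p ^ 2 ∧
      ∀ F : Subgroup G, F ≤ (S : Subgroup G) →
        Nat.card F ≤ p * Nat.card ↥(F ⊓ Subgroup.centralizer (E : Set G)) := by
  have hSp : IsPGroup p ↥(S : Subgroup G) := S.2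
  obtain ⟨E', hE'n, hE'el, hE'card⟩ := exists_normal_elementary_p2_top hp2 hSp hnc
  haveI := hE'n
  haveI : IsMulCommutative ↥E' := hE'el.1
  refine ⟨E'.map (S : Subgroup G).subtype, Subgroup.map_subtype_le _,
    ⟨Subgroup.map_isMulCommutative E' _, ?_⟩, ?_, ?_⟩
  · rintro _ ⟨x, hx, rfl⟩
    have := hE'el.2 x hx
    rw [← map_pow, this, map_one]
  · rw [Subgroup.card_map_of_injective (Subgroup.subtype_injective _)]; exact hE'card
  · intro F hFS
    have hCidx : (Subgroup.centralizer (E' : Set ↥(S : Subgroup G))).index ≤ p := by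
      have := index_centralizer_le hSp 2 E' hE'n hE'el.1 hE'card
      simpa using this
    have h1 : (Subgroup.centralizer (E' : Set ↥(S : Subgroup G))).relIndex
        (F.subgroupOf (S : Subgroup G)) ∣
        (Subgroup.centralizer (E' : Set ↥(S : Subgroup G))).index :=
      Subgroup.relIndex_dvd_index_of_normal _ _
    have hpos : 0 < (Subgroup.centralizer (E' : Set ↥(S : Subgroup G))).index :=
      Nat.pos_of_ne_zero Subgroup.index_ne_zero_of_finite
    have h2 : (Subgroup.centralizer (E' : Set ↥(S : Subgroup G))).relIndex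
        (F.subgroupOf (S : Subgroup G)) ≤ p := (Nat.le_of_dvd hpos h1).trans hCidx
    have h3 : Nat.card ↥(F.subgroupOf (S : Subgroup G) ⊓
        Subgroup.centralizer (E' : Set ↥(S : Subgroup G))) *
        (Subgroup.centralizer (E' : Set ↥(S : Subgroup G))).relIndex
          (F.subgroupOf (S : Subgroup G)) = Nat.card (F.subgroupOf (S : Subgroup G)) := by
      have := relIndex_mul_card_of_le (inf_le_left :
        F.subgroupOf (S : Subgroup G) ⊓ Subgroup.centralizer (E' : Set ↥(S : Subgroup G)) ≤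
          F.subgroupOf (S : Subgroup G))
      rw [inf_comm, Subgroup.inf_relIndex_right, inf_comm, mul_comm] at this
      exact this
    have h4 : (F.subgroupOf (S : Subgroup G) ⊓
        Subgroup.centralizer (E' : Set ↥(S : Subgroup G))).map (S : Subgroup G).subtype ≤
        F ⊓ Subgroup.centralizer ((E'.map (S : Subgroup G).subtype : Subgroup G) : Set G) := by
      rintro _ ⟨x, ⟨hxF, hxC⟩, rfl⟩
      refine ⟨Subgroup.mem_subgroupOf.mp hxF, Subgroup.mem_centralizer_iff.mpr ?_⟩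
      rintro _ ⟨e, he, rfl⟩
      have := Subgroup.mem_centralizer_iff.mp hxC e he
      exact congrArg Subtype.val this
    have h5 : Nat.card ↥(F.subgroupOf (S : Subgroup G) ⊓
        Subgroup.centralizer (E' : Set ↥(S : Subgroup G))) ≤
        Nat.card ↥(F ⊓ Subgroup.centralizer
          ((E'.map (S : Subgroup G).subtype : Subgroup G) : Set G)) := by
      rw [← Subgroup.card_map_of_injective (Subgroup.subtype_injective (S : Subgroup G))]
      exact Subgroup.card_le_of_le h4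
    rw [← Cfsg.Agent.Lead.card_subgroupOf_of_le hFS, ← h3]
    calc Nat.card ↥(F.subgroupOf (S : Subgroup G) ⊓
          Subgroup.centralizer (E' : Set ↥(S : Subgroup G))) *
          (Subgroup.centralizer (E' : Set ↥(S : Subgroup G))).relIndex
            (F.subgroupOf (S : Subgroup G))
        ≤ Nat.card ↥(F.subgroupOf (S : Subgroup G) ⊓
          Subgroup.centralizer (E' : Set ↥(S : Subgroup G))) * p := Nat.mul_le_mul_left _ h2
      _ = p * Nat.card ↥(F.subgroupOf (S : Subgroup G) ⊓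
          Subgroup.centralizer (E' : Set ↥(S : Subgroup G))) := mul_comm _ _
      _ ≤ _ := Nat.mul_le_mul_left _ h5

/-- centralizing is symmetric -/
theorem le_centralizer_symm {X Y : Subgroup G} (h : X ≤ Subgroup.centralizer (Y : Set G)) :
    Y ≤ Subgroup.centralizer (X : Set G) := by
  intro y hy
  rw [Subgroup.mem_centralizer_iff]
  intro x hx
  exact (Subgroup.mem_centralizer_iff.mp (h hx) y hy).symm

/-- If `X` is an abelian subgroup of the Sylow subgroup `S` with an elementary abelian subgroup of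
order greater than `p²`, then `X ∩ C(E)` has an elementary abelian subgroup of order greater than
`p`. -/
theorem hasEA_inf_centralizer {p : ℕ} [hp : Fact p.Prime] {S E X : Subgroup G} (hXS : X ≤ S)
    (hE : ∀ F : Subgroup G, F ≤ S →
      Nat.card F ≤ p * Nat.card ↥(F ⊓ Subgroup.centralizer (E : Set G)))
    (hX : HasEA p 2 X) : HasEA p 1 (X ⊓ Subgroup.centralizer (E : Set G)) := by
  obtain ⟨F, hFX, hFe, hFcard⟩ := hX
  refine ⟨F ⊓ Subgroup.centralizer (E : Set G), inf_le_inf_right _ hFX,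
    isElementaryAbelian_of_le hFe inf_le_left, ?_⟩
  have h1 := hE F (hFX.trans hXS)
  rw [pow_one]
  by_contra hle
  push Not at hle
  have h2 : p * Nat.card ↥(F ⊓ Subgroup.centralizer (E : Set G)) ≤ p * p :=
    Nat.mul_le_mul_left _ hle
  have h3 : p ^ 2 = p * p := by ring
  omega

/-- The first step of Lemma 9.4: every abelian `p`-subgroup of rank at least three is a uniqueness
subgroup as soon as one of them is. -/
theorem uniq_of_abelian_rank3 (hG : Cfsg.IsMinSimpleOddOrder G) (p : ℕ) [hp : Fact p.Prime]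
    {A A₁ : Subgroup G} (hAp : IsPGroup p ↥A) (hAc : IsMulCommutative ↥A) (hA3 : HasEA p 2 A)
    (hAU : Cfsg.InUniqueMaximal A) (hA₁p : IsPGroup p ↥A₁) (hA₁c : IsMulCommutative ↥A₁)
    (hA₁3 : HasEA p 2 A₁) : Cfsg.InUniqueMaximal A₁ := by
  obtain ⟨S, hA₁S⟩ := hA₁p.exists_le_sylow
  have hodd : ∀ X : Subgroup G, Odd (Nat.card X) := fun X =>
    Odd.of_dvd_nat hG.1 (Subgroup.card_subgroup_dvd_card X)
  -- `p ≠ 2`
  obtain ⟨F₁, hF₁A, hF₁e, hF₁card⟩ := hA₁3
  have hp2 : p ≠ 2 := by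
    rintro rfl
    have hF₁p : IsPGroup 2 ↥F₁ := isPGroup_of_elementary hF₁e
    obtain ⟨k, hk⟩ := IsPGroup.iff_card.mp hF₁p
    have hk0 : k ≠ 0 := by
      rintro rfl
      rw [pow_zero] at hk
      rw [hk] at hF₁card
      norm_num at hF₁card
    have h2 : 2 ∣ Nat.card F₁ := by rw [hk]; exact dvd_pow_self 2 hk0
    exact (Nat.not_even_iff_odd.mpr (hodd F₁)) (even_iff_two_dvd.mpr h2)
  -- `S` is not cyclic
  have hnc : ¬ IsCyclic ↥(S : Subgroup G) := by
    intro hc
    have h1 := pRankLE_one_of_isCyclic hc p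
    have h2 : HasEA p 1 (S : Subgroup G) := by
      refine ⟨F₁, hF₁A.trans hA₁S, hF₁e, lt_trans ?_ hF₁card⟩
      exact Nat.pow_lt_pow_right hp.out.one_lt (by norm_num)
    exact not_pRankLE_of_hasEA h2 h1
  obtain ⟨E, hES, hEe, hEcard, hEF⟩ := exists_normal_rank_two p hp2 S hnc
  -- conjugate `A` into `S`
  obtain ⟨g, hg⟩ := Cfsg.Agent.Lead.exists_conj_le_sylow S A hAp
  have hA'S : MulAut.conj g • A ≤ (S : Subgroup G) := hg
  have hA'U : Cfsg.InUniqueMaximal (MulAut.conj g • A) := inUniqueMaximal_conj_smul g hAU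
  have hA'c : ∀ x ∈ MulAut.conj g • A, ∀ y ∈ MulAut.conj g • A, x * y = y * x := by
    intro x hx y hy
    rw [mem_conj_smul] at hx hy
    have := hAc.is_comm.comm ⟨_, hx⟩ ⟨_, hy⟩
    have h1 : g⁻¹ * x * g * (g⁻¹ * y * g) = g⁻¹ * y * g * (g⁻¹ * x * g) :=
      congrArg Subtype.val this
    have e1 : x * y = g * (g⁻¹ * x * g * (g⁻¹ * y * g)) * g⁻¹ := by group
    have e2 : y * x = g * (g⁻¹ * y * g * (g⁻¹ * x * g)) * g⁻¹ := by group
    rw [e1, e2, h1]
  have hA'3 : HasEA p 2 (MulAut.conj g • A) := by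
    obtain ⟨F, hFA, hFe, hFcard⟩ := hA3
    refine ⟨MulAut.conj g • F, Subgroup.pointwise_smul_le_pointwise_smul_iff.mpr hFA, ⟨?_, ?_⟩, ?_⟩
    · refine ⟨⟨fun x y => ?_⟩⟩
      apply Subtype.ext
      exact hA'c _ (Subgroup.pointwise_smul_le_pointwise_smul_iff.mpr hFA x.2) _
        (Subgroup.pointwise_smul_le_pointwise_smul_iff.mpr hFA y.2)
    · intro x hx
      rw [mem_conj_smul] at hx
      have h1 := hFe.2 _ hx
      have e : (g⁻¹ * x * g) ^ p = g⁻¹ * x ^ p * g := by
        have := conj_pow (a := g⁻¹) (b := x) (i := p)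
        rwa [inv_inv] at this
      rw [e] at h1
      have e2 : x ^ p = g * (g⁻¹ * x ^ p * g) * g⁻¹ := by group
      rw [e2, h1]; group
    · rw [card_conj_smul]; exact hFcard
  -- the chain of uniqueness subgroups
  have hcentA' : MulAut.conj g • A ≤ Subgroup.centralizer ((MulAut.conj g • A : Subgroup G) : Set G) := by
    intro x hx
    rw [Subgroup.mem_centralizer_iff]
    intro y hy
    exact hA'c y hy x hx
  have h1 : Cfsg.InUniqueMaximal (MulAut.conj g • A ⊓ Subgroup.centralizer (E : Set G)) :=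
    cent_uniq' hG hp.out hA'U (inf_le_left.trans hcentA') (hasEA_inf_centralizer hA'S hEF hA'3)
  have hE1 : HasEA p 1 E := by
    refine ⟨E, le_rfl, hEe, ?_⟩
    rw [hEcard]
    exact Nat.pow_lt_pow_right hp.out.one_lt (by norm_num)
  have h2 : Cfsg.InUniqueMaximal E :=
    cent_uniq' hG hp.out h1 (le_centralizer_symm inf_le_right) hE1
  have h3 : Cfsg.InUniqueMaximal (A₁ ⊓ Subgroup.centralizer (E : Set G)) :=
    cent_uniq' hG hp.out h2 inf_le_right
      (hasEA_inf_centralizer hA₁S hEF ⟨F₁, hF₁A, hF₁e, hF₁card⟩)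
  have hcentA₁ : A₁ ≤ Subgroup.centralizer ((A₁ ⊓ Subgroup.centralizer (E : Set G) : Subgroup G) : Set G) := by
    intro x hx
    rw [Subgroup.mem_centralizer_iff]
    intro y hy
    have := hA₁c.is_comm.comm ⟨y, hy.1⟩ ⟨x, hx⟩
    exact congrArg Subtype.val this
  refine cent_uniq' hG hp.out h3 hcentA₁ ⟨F₁, hF₁A, hF₁e, lt_trans ?_ hF₁card⟩
  exact Nat.pow_lt_pow_right hp.out.one_lt (by norm_num)

/-- Bender–Glauberman Lemma 9.4. -/
theorem any_cent_rank3 (hG : Cfsg.IsMinSimpleOddOrder G) (p : ℕ) [hp : Fact p.Prime]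
    (A B : Subgroup G) (hAp : IsPGroup p ↥A) (hAc : IsMulCommutative ↥A)
    (hA3 : ¬ Cfsg.PRankLE p 2 ↥A) (hAU : Cfsg.InUniqueMaximal A) (hBp : IsPGroup p ↥B)
    (hBnc : ¬ IsCyclic ↥B) (hB3 : ¬ Cfsg.PRankLE p 2 ↥(Subgroup.centralizer (B : Set G))) :
    Cfsg.InUniqueMaximal B := by
  have hodd : ∀ X : Subgroup G, Odd (Nat.card X) := fun X =>
    Odd.of_dvd_nat hG.1 (Subgroup.card_subgroup_dvd_card X)
  obtain ⟨E₃, hE₃C, hE₃e, hE₃card⟩ := hasEA_of_not_pRankLE hB3
  have hE₃U : Cfsg.InUniqueMaximal E₃ :=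
    uniq_of_abelian_rank3 hG p hAp hAc (hasEA_of_not_pRankLE hA3) hAU
      (isPGroup_of_elementary hE₃e) hE₃e.1 ⟨E₃, le_rfl, hE₃e, hE₃card⟩
  -- `p ≠ 2`
  have hB1 : B ≠ ⊥ := by
    rintro rfl
    exact hBnc inferInstance
  have hp2 : p ≠ 2 := by
    rintro rfl
    obtain ⟨k, hk⟩ := IsPGroup.iff_card.mp hBp
    have hk0 : k ≠ 0 := by
      rintro rfl
      rw [pow_zero] at hk
      exact hB1 (Subgroup.card_eq_one.mp hk)
    have h2 : 2 ∣ Nat.card B := by rw [hk]; exact dvd_pow_self 2 hk0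
    exact (Nat.not_even_iff_odd.mpr (hodd B)) (even_iff_two_dvd.mpr h2)
  -- `B` has rank at least two
  obtain ⟨E', -, hE'el, hE'card⟩ := exists_normal_elementary_p2_top hp2 hBp hBnc
  have hB2 : HasEA p 1 B := by
    haveI : IsMulCommutative ↥E' := hE'el.1
    refine ⟨E'.map B.subtype, Subgroup.map_subtype_le _,
      ⟨Subgroup.map_isMulCommutative E' _, ?_⟩, ?_⟩
    · rintro _ ⟨x, hx, rfl⟩
      have := hE'el.2 x hx
      rw [← map_pow, this, map_one]
    · rw [Subgroup.card_map_of_injective B.subtype_injective, hE'card]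
      exact Nat.pow_lt_pow_right hp.out.one_lt (by norm_num)
  exact cent_uniq' hG hp.out hE₃U (le_centralizer_symm hE₃C) hB2

end Cfsg.Agent.Helper1.BGU
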