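import Mathlib
import Cfsg.Agent.Helper1.BGUe
import Cfsg.Agent.Helper1.Rank2Fitting
import Cfsg.Agent.Helper1.Fitting2
import Cfsg.Agent.Helper4.SubnormalPRad
import Cfsg.Agent.Helper5.AxB

set_option autoImplicit false

/-!
Bender–Glauberman, Section 8: basic facts on `O_r(M)` and `F(M)` for a subgroup `M`, as subgroups
of the ambient group.
-/

namespace Cfsg.Agent.Helper1.BGV

open Cfsg Cfsg.Agent.Helper1 Cfsg.Agent.Helper2 Cfsg.Agent.Helper1.BGT Cfsg.Agent.Helper1.BGU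
open scoped Pointwise commutatorElement

universe u

variable {G : Type u} [Group G]

/-- elements of two subgroups with trivial intersection, each normalizing the other subgroup,
commute -/
theorem commute_of_mem_normalizer_of_disjoint {A B : Subgroup G} (hd : A ⊓ B = ⊥) {x y : G}
    (hx : x ∈ A) (hy : y ∈ B) (hxB : x ∈ Subgroup.normalizer (B : Set G))
    (hyA : y ∈ Subgroup.normalizer (A : Set G)) : x * y = y * x := by
  have h1 : x * y * x⁻¹ * y⁻¹ ∈ A ⊓ B := by
    constructor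
    · have : y * x⁻¹ * y⁻¹ ∈ A := (Subgroup.mem_normalizer_iff.mp hyA x⁻¹).mp (A.inv_mem hx)
      have e : x * y * x⁻¹ * y⁻¹ = x * (y * x⁻¹ * y⁻¹) := by group
      rw [e]; exact A.mul_mem hx this
    · have : x * y * x⁻¹ ∈ B := (Subgroup.mem_normalizer_iff.mp hxB y).mp hy
      exact B.mul_mem this (B.inv_mem hy)
  rw [hd, Subgroup.mem_bot] at h1
  have e : x * y = (x * y * x⁻¹ * y⁻¹) * (y * x) := by group
  rw [e, h1, one_mul]

/-- subgroups normalizing each other with trivial intersection commute -/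
theorem commute_of_normalize_of_disjoint {A B : Subgroup G}
    (hAB : A ≤ Subgroup.normalizer (B : Set G)) (hBA : B ≤ Subgroup.normalizer (A : Set G))
    (hd : A ⊓ B = ⊥) {x y : G} (hx : x ∈ A) (hy : y ∈ B) : x * y = y * x :=
  commute_of_mem_normalizer_of_disjoint hd hx hy (hAB hx) (hBA hy)

/-- `O_r(M)` as a subgroup of the ambient group. -/
def pcoreOf (r : ℕ) (M : Subgroup G) : Subgroup G := (Cfsg.pCore r ↥M).map M.subtype

theorem pCoreOf_le (r : ℕ) (M : Subgroup G) : pcoreOf r M ≤ M := Subgroup.map_subtype_le _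

theorem pCoreOf_isPGroup (r : ℕ) [Fact r.Prime] (M : Subgroup G) :
    IsPGroup r ↥(pcoreOf r M) := (pCore_isPGroup r).map _

theorem fittingOf_le (M : Subgroup G) : Cfsg.fittingOf M ≤ M := Subgroup.map_subtype_le _

variable [Finite G]

theorem le_normalizer_map_subtype {M : Subgroup G} (N : Subgroup ↥M) [hN : N.Normal] :
    M ≤ Subgroup.normalizer ((N.map M.subtype : Subgroup G) : Set G) := by
  intro x hx
  apply Subgroup.mem_normalizer_fintype
  rintro _ ⟨o, ho, rfl⟩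
  exact ⟨⟨x, hx⟩ * o * ⟨x, hx⟩⁻¹, hN.conj_mem o ho ⟨x, hx⟩, by simp⟩

theorem le_normalizer_pCoreOf (r : ℕ) (M : Subgroup G) :
    M ≤ Subgroup.normalizer ((pcoreOf r M : Subgroup G) : Set G) :=
  le_normalizer_map_subtype (Cfsg.pCore r ↥M)

theorem le_pCoreOf {r : ℕ} {M R : Subgroup G} (hRM : R ≤ M) (hRp : IsPGroup r ↥R)
    (hn : M ≤ Subgroup.normalizer (R : Set G)) : R ≤ pcoreOf r M :=
  Cfsg.Agent.Helper4.SubnormalPRad.le_coreOf hRM hRp hn

theorem isPGroup_card_coprime {r t : ℕ} [hr : Fact r.Prime] (ht : t.Prime) (hrt : r ≠ t)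
    {A : Subgroup G} (hA : IsPGroup r ↥A) : (Nat.card A).Coprime t := by
  obtain ⟨k, hk⟩ := IsPGroup.iff_card.mp hA
  rw [hk]
  exact Nat.Coprime.pow_left k ((Nat.coprime_primes hr.out ht).mpr hrt)

theorem isPGroup_card_coprime_card {r t : ℕ} [hr : Fact r.Prime] [ht : Fact t.Prime] (hrt : r ≠ t)
    {A B : Subgroup G} (hA : IsPGroup r ↥A) (hB : IsPGroup t ↥B) :
    (Nat.card A).Coprime (Nat.card B) := by
  obtain ⟨k, hk⟩ := IsPGroup.iff_card.mp hB
  rw [hk]
  exact Nat.Coprime.pow_right k (isPGroup_card_coprime ht.out hrt hA)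

theorem dvd_card_of_isPGroup_ne_bot {r : ℕ} [hr : Fact r.Prime] {P : Subgroup G}
    (hP : IsPGroup r ↥P) (hne : P ≠ ⊥) : r ∣ Nat.card P := by
  obtain ⟨k, hk⟩ := IsPGroup.iff_card.mp hP
  have hk0 : k ≠ 0 := by
    rintro rfl
    rw [pow_zero] at hk
    exact hne (Subgroup.card_eq_one.mp hk)
  rw [hk]; exact dvd_pow_self r hk0

/-- `O_r(M)` and `O_t(M)` commute for `r ≠ t`. -/
theorem commute_pCoreOf {r t : ℕ} [hr : Fact r.Prime] [ht : Fact t.Prime] (hrt : r ≠ t)
    (M : Subgroup G) {x y : G} (hx : x ∈ pcoreOf r M) (hy : y ∈ pcoreOf t M) :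
    x * y = y * x := by
  apply commute_of_normalize_of_disjoint ((pCoreOf_le r M).trans (le_normalizer_pCoreOf t M))
    ((pCoreOf_le t M).trans (le_normalizer_pCoreOf r M)) _ hx hy
  exact (Subgroup.disjoint_of_coprime_natCard
    (isPGroup_card_coprime_card hrt (pCoreOf_isPGroup r M) (pCoreOf_isPGroup t M))).eq_bot

theorem le_normalizer_fittingOf (M : Subgroup G) :
    M ≤ Subgroup.normalizer ((Cfsg.fittingOf M : Subgroup G) : Set G) :=
  le_normalizer_map_subtype (Cfsg.fittingSubgroup ↥M)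

theorem pCoreOf_le_fittingOf (r : ℕ) [Fact r.Prime] (M : Subgroup G) :
    pcoreOf r M ≤ Cfsg.fittingOf M :=
  Subgroup.map_mono (Cfsg.Agent.Helper1.Rank2Fitting.pCore_le_fittingSubgroup r)

/-- a `q`-subgroup of `F(M)` lies in `O_q(M)`. -/
theorem le_pCoreOf_of_le_fittingOf {q : ℕ} [Fact q.Prime] {M Y : Subgroup G} (hY : IsPGroup q ↥Y)
    (hYF : Y ≤ Cfsg.fittingOf M) : Y ≤ pcoreOf q M := by
  have hYM : Y ≤ M := hYF.trans (fittingOf_le M)
  have h1 : Y.subgroupOf M ≤ Cfsg.fittingSubgroup ↥M := by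
    intro y hy
    rw [Subgroup.mem_subgroupOf] at hy
    obtain ⟨f, hf, hfy⟩ := hYF hy
    have : f = y := Subtype.ext hfy
    rw [← this]; exact hf
  have h2 := Cfsg.Agent.Helper1.Rank2Fitting.le_pCore_of_le_fitting (Y.subgroupOf M)
    hY.comap_subtype h1
  intro y hy
  exact ⟨⟨y, hYM hy⟩, h2 (Subgroup.mem_subgroupOf.mpr hy), rfl⟩

/-- `C_M(F(M)) ≤ F(M)` for solvable `M`. -/
theorem inf_centralizer_fittingOf_le (M : Subgroup G) (hsol : Group.IsSolvable ↥M) :
    M ⊓ Subgroup.centralizer ((Cfsg.fittingOf M : Subgroup G) : Set G) ≤ Cfsg.fittingOf M := by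
  rintro x ⟨hxM, hxC⟩
  haveI := hsol
  have h1 : (⟨x, hxM⟩ : ↥M) ∈ Subgroup.centralizer (Cfsg.fittingSubgroup ↥M : Set ↥M) := by
    rw [Subgroup.mem_centralizer_iff]
    intro f hf
    apply Subtype.ext
    exact Subgroup.mem_centralizer_iff.mp hxC (f : G) ⟨f, hf, rfl⟩
  exact ⟨⟨x, hxM⟩, centralizer_fittingSubgroup_le h1, rfl⟩

theorem fittingOf_eq_iSup (M : Subgroup G) :
    Cfsg.fittingOf M = ⨆ r : Nat.Primes, pcoreOf (r : ℕ) M := by
  unfold Cfsg.fittingOf pcoreOf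
  rw [fittingSubgroup_eq_fitJoin]
  unfold fitJoin
  rw [Subgroup.map_iSup]

theorem fittingOf_le_of_forall {M K : Subgroup G}
    (h : ∀ r : ℕ, r.Prime → pcoreOf r M ≤ K) : Cfsg.fittingOf M ≤ K := by
  rw [fittingOf_eq_iSup]
  exact iSup_le (fun r => h r r.2)

/-- an element centralizing every `O_r(M)` centralizes `F(M)`. -/
theorem mem_centralizer_fittingOf {M : Subgroup G} {x : G}
    (h : ∀ r : ℕ, r.Prime → ∀ y ∈ pcoreOf r M, x * y = y * x) :
    x ∈ Subgroup.centralizer ((Cfsg.fittingOf M : Subgroup G) : Set G) := by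
  have h1 : Cfsg.fittingOf M ≤ Subgroup.centralizer ({x} : Set G) := by
    apply fittingOf_le_of_forall
    intro r hr y hy
    rw [Subgroup.mem_centralizer_iff]
    intro z hz
    rw [Set.mem_singleton_iff] at hz
    rw [hz]; exact h r hr y hy
  rw [Subgroup.mem_centralizer_iff]
  intro f hf
  exact (Subgroup.mem_centralizer_iff.mp (h1 hf) x rfl).symm

/-- primes dividing `|F(M)|` have nontrivial `O_r(M)`. -/
theorem pCoreOf_ne_bot_of_dvd {r : ℕ} [hr : Fact r.Prime] {M : Subgroup G}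
    (h : r ∣ Nat.card (Cfsg.fittingOf M)) : pcoreOf r M ≠ ⊥ := by
  obtain ⟨x, hx⟩ := exists_prime_orderOf_dvd_card' r h
  have hxo : orderOf (x : G) = r := by rw [Subgroup.orderOf_coe]; exact hx
  have hZ : IsPGroup r (Subgroup.zpowers (x : G)) := by
    rw [IsPGroup.iff_card]
    exact ⟨1, by rw [Nat.card_zpowers, hxo, pow_one]⟩
  have hle := le_pCoreOf_of_le_fittingOf hZ ((Subgroup.zpowers_le).mpr x.2)
  intro hbot
  rw [hbot] at hle
  have h1 : (x : G) = 1 := (Subgroup.mem_bot).mp (hle (Subgroup.mem_zpowers _))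
  rw [h1, orderOf_one] at hxo
  exact hr.out.one_lt.ne hxo

end Cfsg.Agent.Helper1.BGV
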