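import Mathlib
import Cfsg.Agent.Helper1.BGVa

set_option autoImplicit false

/-!
Bender–Glauberman, Section 8: the subgroup `A ≤ F(M)` of Theorem 8.1 and Hypothesis 7.1 for it when
`F(M)` is not of prime power order.
-/

namespace Cfsg.Agent.Helper1.BGV

open Cfsg Cfsg.Agent.Helper1 Cfsg.Agent.Helper2 Cfsg.Agent.Helper1.BGT Cfsg.Agent.Helper1.BGU
open scoped Pointwise commutatorElement

universe u

variable {G : Type u} [Group G] [Finite G]

/-! ### intersections of `p'`-cores -/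

/-- the intersection of the `O_{r'}(X)`, `r ∈ σ` -/
def Kc (σ : Set ℕ) (X : Subgroup G) : Subgroup G := X ⊓ ⨅ r ∈ σ, coreOf r X

omit [Finite G] in
theorem Kc_le (σ : Set ℕ) (X : Subgroup G) : Kc σ X ≤ X := inf_le_left

omit [Finite G] in
theorem Kc_le_coreOf {σ : Set ℕ} {r : ℕ} (hr : r ∈ σ) (X : Subgroup G) : Kc σ X ≤ coreOf r X :=
  inf_le_right.trans (iInf₂_le r hr)

omit [Finite G] in
theorem le_Kc {σ : Set ℕ} {X N : Subgroup G} (hNX : N ≤ X) (h : ∀ r ∈ σ, N ≤ coreOf r X) :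
    N ≤ Kc σ X := le_inf hNX (le_iInf₂ h)

theorem le_normalizer_Kc (σ : Set ℕ) (X : Subgroup G) :
    X ≤ Subgroup.normalizer ((Kc σ X : Subgroup G) : Set G) := by
  intro x hx
  apply Subgroup.mem_normalizer_fintype
  intro n hn
  have hn' : n ∈ Kc σ X := hn
  refine ⟨X.mul_mem (X.mul_mem hx (Kc_le σ X hn')) (X.inv_mem hx), ?_⟩
  show x * n * x⁻¹ ∈ ⨅ r ∈ σ, coreOf r X
  rw [Subgroup.mem_iInf]; intro r
  rw [Subgroup.mem_iInf]; intro hr
  have h1 : n ∈ coreOf r X := Kc_le_coreOf hr X hn'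
  exact (Subgroup.mem_normalizer_iff.mp (le_normalizer_coreOf r X hx) n).mp h1

/-- a subgroup lying in `O_{p'}(X)` for every prime `p` dividing `n` is a `π(n)'`-group -/
theorem pi'_of_forall_le_coreOf {N X : Subgroup G} {n : ℕ}
    (h : ∀ p : ℕ, p.Prime → p ∣ n → N ≤ coreOf p X) :
    ∀ p : ℕ, p.Prime → p ∣ Nat.card N → p ∈ Cfsg.primesNotDvd n := by
  intro p hp hd
  refine ⟨hp, fun hn => ?_⟩
  have h1 : (Nat.card N).Coprime p :=
    Nat.Coprime.coprime_dvd_left (Subgroup.card_dvd_of_le (h p hp hn)) (card_coreOf_coprime p X)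
  exact (Nat.Prime.coprime_iff_not_dvd hp).mp h1.symm hd

/-- the centre of a nontrivial `r`-subgroup is nontrivial -/
theorem center_inf_ne_bot {r : ℕ} [hr : Fact r.Prime] {P : Subgroup G} (hP : IsPGroup r ↥P)
    (hne : P ≠ ⊥) : P ⊓ Subgroup.centralizer (P : Set G) ≠ ⊥ := by
  haveI : Nontrivial ↥P := (Subgroup.nontrivial_iff_ne_bot _).mpr hne
  have h1 := hP.bot_lt_center
  obtain ⟨a, ha⟩ := (Subgroup.ne_bot_iff_exists_ne_one).mp h1.ne'
  intro hbot
  apply ha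
  apply Subtype.ext
  apply Subtype.ext
  have hz : ((a : ↥P) : G) ∈ P ⊓ Subgroup.centralizer (P : Set G) := by
    refine ⟨(a : ↥P).2, Subgroup.mem_centralizer_iff.mpr ?_⟩
    intro y hy
    have := Subgroup.mem_center_iff.mp a.2 ⟨y, hy⟩
    exact congrArg Subtype.val this
  rw [hbot, Subgroup.mem_bot] at hz
  exact hz

/-! ### the subgroup `A` -/

/-- The standing hypotheses of Theorem 8.1 on `A ≤ F(M)`. -/
structure Good (M A : Subgroup G) : Prop where
  min : Cfsg.IsMinSimpleOddOrder G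
  coatom : IsCoatom M
  le : A ≤ Cfsg.fittingOf M
  cent : ∀ r : ℕ, r.Prime →
    pcoreOf r M ⊓ Subgroup.centralizer ((A ⊓ pcoreOf r M : Subgroup G) : Set G) ≤ A

variable {M A : Subgroup G}

omit [Finite G] in
theorem Good.leM (h : Good M A) : A ≤ M := h.le.trans (fittingOf_le M)

omit [Finite G] in
theorem Good.solvable (h : Good M A) : Group.IsSolvable ↥M := h.min.2.2.2 M h.coatom.1

omit [Finite G] in
theorem Good.center_le (h : Good M A) {r : ℕ} (hr : r.Prime) :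
    pcoreOf r M ⊓ Subgroup.centralizer ((pcoreOf r M : Subgroup G) : Set G) ≤ A ⊓ pcoreOf r M := by
  intro z hz
  refine ⟨h.cent r hr ⟨hz.1, ?_⟩, hz.1⟩
  exact Subgroup.centralizer_le (SetLike.coe_subset_coe.mpr inf_le_right) hz.2

theorem Good.inf_ne_bot (h : Good M A) {r : ℕ} [hr : Fact r.Prime] (hne : pcoreOf r M ≠ ⊥) :
    A ⊓ pcoreOf r M ≠ ⊥ := by
  intro hb
  apply center_inf_ne_bot (pCoreOf_isPGroup r M) hne
  rw [eq_bot_iff, ← hb]
  exact h.center_le hr.out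

theorem Good.dvd_card (h : Good M A) {r : ℕ} [hr : Fact r.Prime] (hne : pcoreOf r M ≠ ⊥) :
    r ∣ Nat.card A :=
  (dvd_card_of_isPGroup_ne_bot ((pCoreOf_isPGroup r M).to_le inf_le_right)
    (h.inf_ne_bot hne)).trans (Subgroup.card_dvd_of_le inf_le_left)

theorem Good.pcoreOf_ne_bot (h : Good M A) {r : ℕ} [hr : Fact r.Prime] (hd : r ∣ Nat.card A) :
    pcoreOf r M ≠ ⊥ :=
  pCoreOf_ne_bot_of_dvd (hd.trans (Subgroup.card_dvd_of_le h.le))

theorem Good.dvd_card_of_dvd_fitting (h : Good M A) {r : ℕ} (hr : r.Prime)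
    (hd : r ∣ Nat.card (Cfsg.fittingOf M)) : r ∣ Nat.card A := by
  haveI := Fact.mk hr
  exact h.dvd_card (pCoreOf_ne_bot_of_dvd hd)

/-- `C_G(A_r) ≤ M`. -/
theorem Good.centralizer_le (h : Good M A) {r : ℕ} [hr : Fact r.Prime] (hne : pcoreOf r M ≠ ⊥) :
    Subgroup.centralizer ((A ⊓ pcoreOf r M : Subgroup G) : Set G) ≤ M := by
  obtain ⟨Z, hZ⟩ : ∃ Z : Subgroup G,
      Z = pcoreOf r M ⊓ Subgroup.centralizer ((pcoreOf r M : Subgroup G) : Set G) := ⟨_, rfl⟩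
  have hMZ : M ≤ Subgroup.normalizer (Z : Set G) := by
    rw [hZ]
    exact le_normalizer_inf (le_normalizer_pCoreOf r M)
      ((le_normalizer_pCoreOf r M).trans (normalizer_le_normalizer_centralizer_aux _))
  have hZ1 : Z ≠ ⊥ := hZ ▸ center_inf_ne_bot (pCoreOf_isPGroup r M) hne
  have hZtop : Z ≠ ⊤ :=
    ne_top_of_le_ne_top h.coatom.1 (hZ ▸ inf_le_left.trans (pCoreOf_le r M))
  have hN := normalizer_eq_of_coatom h.min h.coatom hMZ hZ1 hZtop
  have hZA : Z ≤ A ⊓ pcoreOf r M := hZ ▸ h.center_le hr.out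
  exact ((Subgroup.centralizer_le (SetLike.coe_subset_coe.mpr hZA)).trans
    (Subgroup.centralizer_le_normalizer _)).trans (le_of_eq hN)

/-- `A`-invariant `π'`-subgroups of `M` are trivial. -/
theorem Good.eq_bot_of_invariant (h : Good M A) {Y : Subgroup G} (hYM : Y ≤ M)
    (hcop : (Nat.card Y).Coprime (Nat.card A)) (hAY : A ≤ Subgroup.normalizer (Y : Set G)) :
    Y = ⊥ := by
  have hYF : Y ≤ Cfsg.fittingOf M := by
    intro y hy
    apply inf_centralizer_fittingOf_le M h.solvable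
    refine ⟨hYM hy, mem_centralizer_fittingOf ?_⟩
    intro r hr x hx
    haveI := Fact.mk hr
    by_cases hne : pcoreOf r M = ⊥
    · rw [hne, Subgroup.mem_bot] at hx
      rw [hx, mul_one, one_mul]
    have hrA : r ∣ Nat.card A := h.dvd_card hne
    have hYr : (Nat.card Y).Coprime r := Nat.Coprime.coprime_dvd_right hrA hcop
    have hyo : (orderOf y).Coprime r :=
      Nat.Coprime.coprime_dvd_left (Subgroup.orderOf_dvd_natCard Y hy) hYr
    have hYP : Y ⊓ pcoreOf r M = ⊥ := by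
      apply (Subgroup.disjoint_of_coprime_natCard _).eq_bot
      obtain ⟨k, hk⟩ := IsPGroup.iff_card.mp (pCoreOf_isPGroup r M)
      rw [hk]; exact Nat.Coprime.pow_right k hYr
    have hyM : y ∈ Subgroup.normalizer ((pcoreOf r M : Subgroup G) : Set G) :=
      le_normalizer_pCoreOf r M (hYM hy)
    have hyB : y ∈ Subgroup.centralizer ((A ⊓ pcoreOf r M : Subgroup G) : Set G) := by
      rw [Subgroup.mem_centralizer_iff]
      intro b hb
      exact (commute_of_mem_normalizer_of_disjoint hYP hy hb.2 hyM (hAY hb.1)).symm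
    have hAxB := Cfsg.Agent.Helper5.thompson_AxB (A ⊓ pcoreOf r M)
      ((pCoreOf_isPGroup r M).to_le inf_le_right) y hyo hyB (pcoreOf r M) (pCoreOf_isPGroup r M)
      hyM (inf_le_left.trans (h.leM.trans (le_normalizer_pCoreOf r M))) ?_ x hx
    · exact hAxB
    · intro z hz hzB
      have hzA : z ∈ A := h.cent r hr ⟨hz, hzB⟩
      exact (Subgroup.mem_centralizer_iff.mp hyB z ⟨hzA, hz⟩).symm
  by_contra hne
  have hcard : Nat.card Y ≠ 1 := fun h1 => hne (Subgroup.card_eq_one.mp h1)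
  obtain ⟨p, hp, hpY⟩ := Nat.exists_prime_and_dvd hcard
  have hpF : p ∣ Nat.card (Cfsg.fittingOf M) := hpY.trans (Subgroup.card_dvd_of_le hYF)
  have hpA : p ∣ Nat.card A := h.dvd_card_of_dvd_fitting hp hpF
  exact (Nat.Prime.not_coprime_iff_dvd.mpr ⟨p, hp, hpY, hpA⟩) hcop

/-- `A_r ≤ O_{q'}(H)` for `r ≠ q`. -/
theorem Good.inf_le_coreOf (h : Good M A) {H : Subgroup G} (hH : H ≠ ⊤) (hAH : A ≤ H) {q r : ℕ}
    [hq : Fact q.Prime] [hr : Fact r.Prime] (hqne : pcoreOf q M ≠ ⊥) (hrq : r ≠ q) :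
    A ⊓ pcoreOf r M ≤ coreOf q H := by
  have hHsol : Group.IsSolvable ↥H := h.min.2.2.2 H hH
  have hAqH : A ⊓ pcoreOf q M ≤ H := inf_le_left.trans hAH
  have hAqp : IsPGroup q ↥(A ⊓ pcoreOf q M) := (pCoreOf_isPGroup q M).to_le inf_le_right
  have h1 : coreOf q (H ⊓ Subgroup.centralizer ((A ⊓ pcoreOf q M : Subgroup G) : Set G)) ≤
      coreOf q H := coreOf_inf_centralizer_le_coreOf q H _ hHsol hAqH hAqp
  refine le_trans ?_ h1
  obtain ⟨K₀, hK₀⟩ : ∃ K₀ : Subgroup G,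
      K₀ = H ⊓ Subgroup.centralizer ((A ⊓ pcoreOf q M : Subgroup G) : Set G) := ⟨_, rfl⟩
  rw [← hK₀]
  have hK₀M : K₀ ≤ M := hK₀ ▸ inf_le_right.trans (h.centralizer_le hqne)
  have h2 : pcoreOf r M ⊓ K₀ ≤ coreOf q K₀ := by
    apply le_coreOf inf_le_right
    · exact le_normalizer_inf (hK₀M.trans (le_normalizer_pCoreOf r M)) Subgroup.le_normalizer
    · exact isPGroup_card_coprime hq.out hrq ((pCoreOf_isPGroup r M).to_le inf_le_left)
  refine le_trans ?_ h2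
  intro a ha
  refine ⟨ha.2, ?_⟩
  rw [hK₀]
  refine ⟨hAH ha.1, Subgroup.mem_centralizer_iff.mpr ?_⟩
  intro b hb
  exact commute_pCoreOf hrq.symm M hb.2 ha.2

/-- Hypothesis 7.1 for `A` when two primes divide `|A|`: the main inclusion. -/
theorem Good.le_piCoreOf_of_invariant (h : Good M A) {q₀ r₀ : ℕ} (hq₀ : q₀.Prime) (hr₀ : r₀.Prime)
    (hne : q₀ ≠ r₀) (hq₀A : q₀ ∣ Nat.card A) (hr₀A : r₀ ∣ Nat.card A) {X : Subgroup G} (hX : X ≠ ⊤)
    (hAX : A ≤ X) {Y : Subgroup G} (hYX : Y ≤ X) (hcop : (Nat.card Y).Coprime (Nat.card A))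
    (hAY : A ≤ Subgroup.normalizer (Y : Set G)) :
    Y ≤ Cfsg.piCoreOf (Cfsg.primesNotDvd (Nat.card A)) X := by
  have hXsol : Group.IsSolvable ↥X := h.min.2.2.2 X hX
  have hmain : ∀ q : ℕ, q.Prime → q ∣ Nat.card A → Y ≤ coreOf q X := by
    intro q hq hqA
    haveI := Fact.mk hq
    obtain ⟨r, hr, hrA, hrq⟩ : ∃ r : ℕ, r.Prime ∧ r ∣ Nat.card A ∧ r ≠ q := by
      by_cases h1 : q₀ = q
      · exact ⟨r₀, hr₀, hr₀A, fun h2 => hne (h1.trans h2.symm)⟩
      · exact ⟨q₀, hq₀, hq₀A, h1⟩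
    haveI := Fact.mk hr
    have hqne : pcoreOf q M ≠ ⊥ := h.pcoreOf_ne_bot hqA
    have hrne : pcoreOf r M ≠ ⊥ := h.pcoreOf_ne_bot hrA
    have hArN : A ⊓ pcoreOf r M ≤ coreOf q X := h.inf_le_coreOf hX hAX hqne hrq
    have hArY : A ⊓ pcoreOf r M ≤ Subgroup.normalizer (Y : Set G) := inf_le_left.trans hAY
    have hcop' : (Nat.card ↥(A ⊓ pcoreOf r M)).Coprime (Nat.card Y) :=
      (Nat.Coprime.coprime_dvd_right (Subgroup.card_dvd_of_le inf_le_left) hcop).symm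
    have hsplit := coprime_commutator_sup_centralizer (A ⊓ pcoreOf r M) Y hArY hcop'
      (Or.inr (isSolvable_of_le hYX hXsol))
    have hfix : Y ⊓ Subgroup.centralizer ((A ⊓ pcoreOf r M : Subgroup G) : Set G) = ⊥ := by
      apply h.eq_bot_of_invariant (inf_le_right.trans (h.centralizer_le hrne))
      · exact Nat.Coprime.coprime_dvd_left (Subgroup.card_dvd_of_le inf_le_left) hcop
      · apply le_normalizer_inf hAY
        have hAAr : A ≤ Subgroup.normalizer ((A ⊓ pcoreOf r M : Subgroup G) : Set G) :=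
          le_normalizer_inf Subgroup.le_normalizer (h.leM.trans (le_normalizer_pCoreOf r M))
        exact hAAr.trans (normalizer_le_normalizer_centralizer_aux _)
    rw [hfix, sup_bot_eq] at hsplit
    rw [← hsplit, Subgroup.commutator_le]
    intro y hy a ha
    rw [commutatorElement_def]
    have hyn := le_normalizer_coreOf q X (hYX hy)
    have h1 : y * a * y⁻¹ ∈ coreOf q X := (Subgroup.mem_normalizer_iff.mp hyn a).mp (hArN ha)
    exact (coreOf q X).mul_mem h1 ((coreOf q X).inv_mem (hArN ha))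
  have hYI : Y ≤ Kc {q | q.Prime ∧ q ∣ Nat.card A} X :=
    le_Kc hYX (fun r hr => hmain r hr.1 hr.2)
  refine hYI.trans (le_piCoreOf (Kc_le _ _) (le_normalizer_Kc _ _) ?_)
  exact pi'_of_forall_le_coreOf
    (fun p hp hpA => Kc_le_coreOf (σ := {q | q.Prime ∧ q ∣ Nat.card A}) ⟨hp, hpA⟩ X)

/-- Hypothesis 7.1 for `A` when two primes divide `|A|`. -/
theorem Good.transitivityHypothesis (h : Good M A) {q₀ r₀ : ℕ} (hq₀ : q₀.Prime) (hr₀ : r₀.Prime)
    (hne : q₀ ≠ r₀) (hq₀A : q₀ ∣ Nat.card A) (hr₀A : r₀ ∣ Nat.card A) :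
    Cfsg.TransitivityHypothesis A := by
  have hA1 : A ≠ ⊥ := by
    rintro rfl
    rw [Subgroup.card_bot] at hq₀A
    exact hq₀.one_lt.ne' (Nat.dvd_one.mp hq₀A)
  have hAtop : A ≠ ⊤ := ne_top_of_le_ne_top h.coatom.1 h.leM
  refine ⟨hA1, hAtop, ?_⟩
  intro X hX hAX
  apply le_antisymm
  · apply sSup_le
    rintro Y ⟨hYX, hYπ, hAY⟩
    exact h.le_piCoreOf_of_invariant hq₀ hr₀ hne hq₀A hr₀A hX hAX hYX (coprime_of_pi' hYπ) hAY
  · apply le_sSup
    exact ⟨piCoreOf_le _ X, piCoreOf_isPi _ X, hAX.trans (le_normalizer_piCoreOf _ X)⟩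

end Cfsg.Agent.Helper1.BGV
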