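import Mathlib
import Cfsg.Agent.Helper1.BGVb
import Cfsg.Agent.Helper4.FittingChar
import Cfsg.Agent.Helper3.CoprimeHall
import Cfsg.Agent.Helper1.FrattiniAct

set_option autoImplicit false

/-!
Bender–Glauberman, Section 8: under Hypothesis 7.1 the subgroup `A` of Theorem 8.1 normalizes no
nontrivial `π(A)'`-subgroup.
-/

namespace Cfsg.Agent.Helper1.BGV

open Cfsg Cfsg.Agent.Helper1 Cfsg.Agent.Helper2 Cfsg.Agent.Helper1.BGT Cfsg.Agent.Helper1.BGU
open scoped Pointwise commutatorElement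

universe u

variable {G : Type u} [Group G] [Finite G]

theorem fittingOf_isNilpotent (M : Subgroup G) : Group.IsNilpotent ↥(Cfsg.fittingOf M) := by
  haveI : Group.IsNilpotent ↥(Cfsg.fittingSubgroup ↥M) := fittingSubgroup_isNilpotent
  exact nilpotent_of_mulEquiv
    ((Cfsg.fittingSubgroup ↥M).equivMapOfInjective M.subtype M.subtype_injective)

/-- a nontrivial solvable subgroup has a nontrivial `O_q`. -/
theorem exists_pcoreOf_ne_bot {Y : Subgroup G} (hsol : Group.IsSolvable ↥Y) (hne : Y ≠ ⊥) :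
    ∃ q : ℕ, q.Prime ∧ pcoreOf q Y ≠ ⊥ := by
  by_contra hcon
  push Not at hcon
  have h1 : Cfsg.fittingOf Y ≤ ⊥ := fittingOf_le_of_forall (fun r hr => (hcon r hr).le)
  have h2 := inf_centralizer_fittingOf_le Y hsol
  rw [le_bot_iff] at h1
  rw [h1] at h2
  apply hne
  rw [eq_bot_iff]
  intro y hy
  apply h2
  refine ⟨hy, Subgroup.mem_centralizer_iff.mpr ?_⟩
  intro z hz
  rw [SetLike.mem_coe, Subgroup.mem_bot] at hz
  rw [hz, one_mul, mul_one]

theorem normalizer_le_normalizer_pcoreOf (q : ℕ) (Y : Subgroup G) :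
    Subgroup.normalizer (Y : Set G) ≤
      Subgroup.normalizer ((pcoreOf q Y : Subgroup G) : Set G) := by
  haveI := Cfsg.Agent.Helper3.pCore_characteristic q ↥Y
  exact le_normalizer_map_of_characteristic Y (Cfsg.pCore q ↥Y)

variable {M A : Subgroup G}

/-- Under Hypothesis 7.1 and `m(Z(A)) ≥ 3`, `A` normalizes no nontrivial `q`-subgroup for
`q ∉ π(A)`. -/
theorem Good.invariant_isPGroup_eq_bot (h : Good M A) (htrans : Cfsg.TransitivityHypothesis A)
    (hZ : ¬ Cfsg.RankLE 2 ↥(A ⊓ Subgroup.centralizer (A : Set G))) {q : ℕ} (hq : q.Prime)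
    (hqA : ¬ q ∣ Nat.card A) {Y : Subgroup G} (hYq : IsPGroup q ↥Y)
    (hAY : A ≤ Subgroup.normalizer (Y : Set G)) : Y = ⊥ := by
  haveI := Fact.mk hq
  obtain ⟨F, hF⟩ : ∃ F : Subgroup G, F = Cfsg.fittingOf M := ⟨_, rfl⟩
  have hyp : Hyp A q := Hyp.of h.min htrans hq hqA
  have htr : ∀ Q₁ ∈ Cfsg.maxInvSubgroups ⊤ A {q}, ∀ Q₂ ∈ Cfsg.maxInvSubgroups ⊤ A {q},
      KConj (KK A) Q₁ Q₂ := fun Q₁ h₁ Q₂ h₂ => hyp.thm73 hZ h₁ h₂
  have hFM : F ≤ M := hF ▸ fittingOf_le M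
  have hAF : A ≤ F := hF ▸ h.le
  have hFtop : F ≠ ⊤ := ne_top_of_le_ne_top h.coatom.1 hFM
  have hFπ : ∀ r : ℕ, r.Prime → r ∣ Nat.card F → r ∣ Nat.card A := by
    intro r hr hd
    rw [hF] at hd
    exact h.dvd_card_of_dvd_fitting hr hd
  have hsn : (A.subgroupOf F).IsSubnormal := by
    haveI : Group.IsNilpotent ↥F := hF ▸ fittingOf_isNilpotent M
    exact Cfsg.Agent.Helper4.isSubnormal_of_normalizerCondition
      Group.normalizerCondition_of_isNilpotent _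
  obtain ⟨-, -, hsub, hnorm⟩ := hyp.thm75 hFtop hFπ hAF hsn htr
  obtain ⟨Q, hQ, -⟩ := exists_max_ge (bot_mem_invSubgroups_top F {q})
  have hQA : Q ∈ Cfsg.maxInvSubgroups ⊤ A {q} := hsub hQ
  obtain ⟨hQq, hFQ⟩ := (mem_invSubgroups_top hq).mp hQ.1
  have hA1 : A ≠ ⊥ := htrans.1
  have hF1 : F ≠ ⊥ := fun hb => hA1 (le_bot_iff.mp (hb ▸ hAF))
  have hMF : M ≤ Subgroup.normalizer (F : Set G) := hF ▸ le_normalizer_fittingOf M
  have hNF : Subgroup.normalizer (F : Set G) = M :=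
    normalizer_eq_of_coatom h.min h.coatom hMF hF1 hFtop
  have hCF : Subgroup.centralizer (F : Set G) ≤ F := by
    intro x hx
    have hxM : x ∈ M := by
      rw [← hNF]; exact Subgroup.centralizer_le_normalizer _ hx
    rw [hF] at hx ⊢
    exact inf_centralizer_fittingOf_le M h.solvable ⟨hxM, hx⟩
  have hO : Cfsg.piCoreOf (Cfsg.primesNotDvd (Nat.card A)) (Subgroup.centralizer (F : Set G)) =
      ⊥ := by
    by_contra hne
    have hcard : Nat.card ↥(Cfsg.piCoreOf (Cfsg.primesNotDvd (Nat.card A))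
        (Subgroup.centralizer (F : Set G))) ≠ 1 := fun h1 => hne (Subgroup.card_eq_one.mp h1)
    obtain ⟨p, hp, hpd⟩ := Nat.exists_prime_and_dvd hcard
    have h1 := piCoreOf_isPi _ _ p hp hpd
    have h2 : p ∣ Nat.card F :=
      hpd.trans (Subgroup.card_dvd_of_le ((piCoreOf_le _ _).trans hCF))
    exact h1.2 (hFπ p hp h2)
  have hMQ : M ≤ Subgroup.normalizer (Q : Set G) := by
    have h1 := (hnorm Q hQ).2
    rw [hNF, hO, bot_sup_eq] at h1
    exact (le_of_eq h1).trans inf_le_right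
  have hQ1 : Q = ⊥ := by
    by_contra hQne
    have hQtop : Q ≠ ⊤ := sylow_ne_top h.min q Q hQq
    have hNQ := normalizer_eq_of_coatom h.min h.coatom hMQ hQne hQtop
    have hQM : Q ≤ M := by
      rw [← hNQ]; exact Subgroup.le_normalizer
    have hQF : Q ≤ F := by
      rw [hF]
      exact (le_pCoreOf hQM hQq hMQ).trans (pCoreOf_le_fittingOf q M)
    exact hqA (hFπ q hq ((dvd_card_of_isPGroup_ne_bot hQq hQne).trans
      (Subgroup.card_dvd_of_le hQF)))
  have hYinv : Y ∈ Cfsg.invSubgroups ⊤ A {q} := (mem_invSubgroups_top hq).mpr ⟨hYq, hAY⟩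
  have h3 := hQA.2 Y hYinv (hQ1 ▸ bot_le)
  rw [h3, hQ1]

/-- Under Hypothesis 7.1 and `m(Z(A)) ≥ 3`, `A` normalizes no nontrivial `π(A)'`-subgroup. -/
theorem Good.invariant_eq_bot (h : Good M A) (htrans : Cfsg.TransitivityHypothesis A)
    (hZ : ¬ Cfsg.RankLE 2 ↥(A ⊓ Subgroup.centralizer (A : Set G))) {Y : Subgroup G}
    (hcop : (Nat.card Y).Coprime (Nat.card A)) (hAY : A ≤ Subgroup.normalizer (Y : Set G)) :
    Y = ⊥ := by
  by_contra hne
  have hA1 : A ≠ ⊥ := htrans.1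
  have hYtop : Y ≠ ⊤ := by
    rintro rfl
    have h1 : Nat.card A ∣ Nat.card (⊤ : Subgroup G) := Subgroup.card_dvd_of_le le_top
    have h2 : Nat.card A = 1 := Nat.eq_one_of_dvd_coprimes hcop.symm dvd_rfl h1
    exact hA1 (Subgroup.card_eq_one.mp h2)
  have hYsol : Group.IsSolvable ↥Y := h.min.2.2.2 Y hYtop
  obtain ⟨q, hq, hqne⟩ := exists_pcoreOf_ne_bot hYsol hne
  haveI := Fact.mk hq
  have hqY : q ∣ Nat.card Y :=
    (dvd_card_of_isPGroup_ne_bot (pCoreOf_isPGroup q Y) hqne).trans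
      (Subgroup.card_dvd_of_le (pCoreOf_le q Y))
  have hqA : ¬ q ∣ Nat.card A := fun hd =>
    (Nat.Prime.not_coprime_iff_dvd.mpr ⟨q, hq, hqY, hd⟩) hcop
  exact hqne (h.invariant_isPGroup_eq_bot htrans hZ hq hqA (pCoreOf_isPGroup q Y)
    (hAY.trans (normalizer_le_normalizer_pcoreOf q Y)))

/-- `O_{π'}(X) = 1` for every subgroup `X` containing `A`. -/
theorem Good.piCoreOf_eq_bot (h : Good M A) (htrans : Cfsg.TransitivityHypothesis A)
    (hZ : ¬ Cfsg.RankLE 2 ↥(A ⊓ Subgroup.centralizer (A : Set G))) {X : Subgroup G}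
    (hAX : A ≤ X) : Cfsg.piCoreOf (Cfsg.primesNotDvd (Nat.card A)) X = ⊥ :=
  h.invariant_eq_bot htrans hZ (coprime_of_pi' (piCoreOf_isPi _ X))
    (hAX.trans (le_normalizer_piCoreOf _ X))

end Cfsg.Agent.Helper1.BGV
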