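import Mathlib
import Cfsg.Agent.Helper1.BGVc
import Cfsg.Agent.Lead.SelfCentP2

set_option autoImplicit false

/-!
Bender–Glauberman, Section 8: the last step of Theorem 8.1(a).
-/

namespace Cfsg.Agent.Helper1.BGV

open Cfsg Cfsg.Agent.Helper1 Cfsg.Agent.Helper2 Cfsg.Agent.Helper1.BGT Cfsg.Agent.Helper1.BGU
open scoped Pointwise commutatorElement

universe u

variable {G : Type u} [Group G] [Finite G]

/-- the primes dividing `n` other than `q` -/
def sig (n q : ℕ) : Set ℕ := {r | r.Prime ∧ r ∣ n ∧ r ≠ q}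

omit [Finite G] in
theorem centralizer_le_of_le {X Y : Subgroup G} (h : X ≤ Y) :
    Subgroup.centralizer (Y : Set G) ≤ Subgroup.centralizer (X : Set G) :=
  Subgroup.centralizer_le (SetLike.coe_subset_coe.mpr h)

theorem normalizer_le_normalizer_coreOf (q : ℕ) (Y : Subgroup G) :
    Subgroup.normalizer (Y : Set G) ≤
      Subgroup.normalizer ((coreOf q Y : Subgroup G) : Set G) := by
  haveI := Cfsg.Agent.Lead.SelfCentP2.pPrimeCore_char q ↥Y
  exact le_normalizer_map_of_characteristic Y (Cfsg.pPrimeCore q ↥Y)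

/-- a nontrivial solvable subgroup with `O_{r'} = 1` has `O_r ≠ 1`. -/
theorem pcoreOf_ne_bot_of_coreOf_eq_bot {r : ℕ} [hr : Fact r.Prime] {K : Subgroup G}
    (hsol : Group.IsSolvable ↥K) (hK : K ≠ ⊥) (hc : coreOf r K = ⊥) : pcoreOf r K ≠ ⊥ := by
  intro hb
  haveI := hsol
  have h1 : Cfsg.pPrimeCore r ↥K = ⊥ :=
    (Subgroup.map_eq_bot_iff_of_injective _ (Subgroup.subtype_injective K)).mp hc
  have h2 : Cfsg.pCore r ↥K = ⊥ :=
    (Subgroup.map_eq_bot_iff_of_injective _ (Subgroup.subtype_injective K)).mp hb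
  have h3 := centralizer_pCore_le (G := ↥K) r h1
  rw [h2] at h3
  apply hK
  rw [eq_bot_iff]
  intro k hk
  have h4 : (⟨k, hk⟩ : ↥K) ∈ Subgroup.centralizer (((⊥ : Subgroup ↥K) : Subgroup ↥K) : Set ↥K) := by
    rw [Subgroup.mem_centralizer_iff]
    intro z hz
    rw [SetLike.mem_coe, Subgroup.mem_bot] at hz
    rw [hz, one_mul, mul_one]
  have h5 := h3 h4
  rw [Subgroup.mem_bot] at h5
  rw [Subgroup.mem_bot]
  exact congrArg Subtype.val h5

variable {A : Subgroup G}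

/-- `O_{(π - q)'}(X) ∩ O_{q'}(X) = 1` if `O_{π'}(X) = 1`. -/
theorem Kc_inf_coreOf_eq_bot {X : Subgroup G}
    (hO : Cfsg.piCoreOf (Cfsg.primesNotDvd (Nat.card A)) X = ⊥) (q : ℕ) :
    Kc (sig (Nat.card A) q) X ⊓ coreOf q X = ⊥ := by
  rw [eq_bot_iff, ← hO]
  apply le_piCoreOf (inf_le_left.trans (Kc_le _ _))
    (le_normalizer_inf (le_normalizer_Kc _ X) (le_normalizer_coreOf q X))
  apply pi'_of_forall_le_coreOf (X := X)
  intro p hp hpA
  by_cases hpq : p = q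
  · rw [hpq]; exact inf_le_right
  · exact inf_le_left.trans (Kc_le_coreOf (σ := sig (Nat.card A) q) ⟨hp, hpA, hpq⟩ X)

theorem Kc_le_centralizer_coreOf {X : Subgroup G}
    (hO : Cfsg.piCoreOf (Cfsg.primesNotDvd (Nat.card A)) X = ⊥) (q : ℕ) :
    Kc (sig (Nat.card A) q) X ≤ Subgroup.centralizer ((coreOf q X : Subgroup G) : Set G) := by
  intro x hx
  rw [Subgroup.mem_centralizer_iff]
  intro y hy
  exact (commute_of_normalize_of_disjoint ((Kc_le _ X).trans (le_normalizer_coreOf q X))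
    ((coreOf_le q X).trans (le_normalizer_Kc _ X)) (Kc_inf_coreOf_eq_bot hO q) hx hy).symm

theorem coreOf_le_centralizer_Kc {X : Subgroup G}
    (hO : Cfsg.piCoreOf (Cfsg.primesNotDvd (Nat.card A)) X = ⊥) (q : ℕ) :
    coreOf q X ≤ Subgroup.centralizer ((Kc (sig (Nat.card A) q) X : Subgroup G) : Set G) := by
  intro y hy
  rw [Subgroup.mem_centralizer_iff]
  intro x hx
  exact commute_of_normalize_of_disjoint ((Kc_le _ X).trans (le_normalizer_coreOf q X))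
    ((coreOf_le q X).trans (le_normalizer_Kc _ X)) (Kc_inf_coreOf_eq_bot hO q) hx hy

variable {M : Subgroup G}

/-- `A_q ≤ O_{(π - q)'}(X)`. -/
theorem Good.inf_le_Kc (h : Good M A) {X : Subgroup G} (hX : X ≠ ⊤) (hAX : A ≤ X) {q : ℕ}
    [hq : Fact q.Prime] : A ⊓ pcoreOf q M ≤ Kc (sig (Nat.card A) q) X := by
  apply le_Kc (inf_le_left.trans hAX)
  rintro r ⟨hr, hrA, hrq⟩
  haveI := Fact.mk hr
  exact h.inf_le_coreOf hX hAX (h.pcoreOf_ne_bot hrA) (Ne.symm hrq)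

/-- `O_{q'}(X) ≤ M`. -/
theorem Good.coreOf_le (h : Good M A) {X : Subgroup G} (hX : X ≠ ⊤) (hAX : A ≤ X)
    (hO : Cfsg.piCoreOf (Cfsg.primesNotDvd (Nat.card A)) X = ⊥) {q : ℕ} [hq : Fact q.Prime]
    (hqA : q ∣ Nat.card A) : coreOf q X ≤ M :=
  ((coreOf_le_centralizer_Kc hO q).trans (centralizer_le_of_le (h.inf_le_Kc hX hAX))).trans
    (h.centralizer_le (h.pcoreOf_ne_bot hqA))

/-- `O_{(π - q)'}(X) ≤ M`. -/
theorem Good.Kc_le (h : Good M A) {X : Subgroup G} (hX : X ≠ ⊤) (hAX : A ≤ X)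
    (hO : Cfsg.piCoreOf (Cfsg.primesNotDvd (Nat.card A)) X = ⊥) {q r : ℕ} [hq : Fact q.Prime]
    [hr : Fact r.Prime] (hqA : q ∣ Nat.card A) (hrA : r ∣ Nat.card A) (hrq : r ≠ q) :
    Kc (sig (Nat.card A) q) X ≤ M :=
  ((Kc_le_centralizer_coreOf hO q).trans
    (centralizer_le_of_le (h.inf_le_coreOf hX hAX (h.pcoreOf_ne_bot hqA) hrq))).trans
    (h.centralizer_le (h.pcoreOf_ne_bot hrA))

theorem pcoreOf_le_Kc (H : Subgroup G) (n r : ℕ) [hr : Fact r.Prime] :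
    pcoreOf r H ≤ Kc (sig n r) H := by
  apply le_Kc (pCoreOf_le r H)
  rintro t ⟨ht, -, htr⟩
  exact le_coreOf (pCoreOf_le r H) (le_normalizer_pCoreOf r H)
    (isPGroup_card_coprime ht (Ne.symm htr) (pCoreOf_isPGroup r H))

theorem pcoreOf_le_coreOf (H : Subgroup G) {q r : ℕ} [hr : Fact r.Prime] (hq : q.Prime)
    (hrq : r ≠ q) : pcoreOf r H ≤ coreOf q H :=
  le_coreOf (pCoreOf_le r H) (le_normalizer_pCoreOf r H)
    (isPGroup_card_coprime hq hrq (pCoreOf_isPGroup r H))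

/-- `O_r(H) ≠ 1` for `r ∈ π`. -/
theorem Good.pcoreOf_ne_bot' (h : Good M A) {H : Subgroup G} (hH : H ≠ ⊤) (hAH : A ≤ H)
    (hO : Cfsg.piCoreOf (Cfsg.primesNotDvd (Nat.card A)) H = ⊥) {r : ℕ} [hr : Fact r.Prime]
    (hrA : r ∣ Nat.card A) : pcoreOf r H ≠ ⊥ := by
  obtain ⟨K₁, hK₁⟩ : ∃ K₁ : Subgroup G, K₁ = Kc (sig (Nat.card A) r) H := ⟨_, rfl⟩
  have hK₁H : K₁ ≤ H := hK₁ ▸ BGV.Kc_le _ H
  have hHK₁ : H ≤ Subgroup.normalizer (K₁ : Set G) := hK₁ ▸ le_normalizer_Kc _ H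
  have hK₁ne : K₁ ≠ ⊥ := by
    intro hb
    apply h.inf_ne_bot (h.pcoreOf_ne_bot hrA)
    rw [eq_bot_iff, ← hb, hK₁]
    exact h.inf_le_Kc hH hAH
  have hK₁sol : Group.IsSolvable ↥K₁ := isSolvable_of_le hK₁H (h.min.2.2.2 H hH)
  have hcore : coreOf r K₁ = ⊥ := by
    rw [eq_bot_iff, ← hO]
    apply le_piCoreOf ((Helper2.coreOf_le r K₁).trans hK₁H)
      (hHK₁.trans (normalizer_le_normalizer_coreOf r K₁))
    apply pi'_of_forall_le_coreOf (X := H)
    intro p hp hpA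
    by_cases hpr : p = r
    · rw [hpr]
      exact le_coreOf ((Helper2.coreOf_le r K₁).trans hK₁H)
        (hHK₁.trans (normalizer_le_normalizer_coreOf r K₁)) (card_coreOf_coprime r K₁)
    · refine (Helper2.coreOf_le r K₁).trans ?_
      rw [hK₁]
      exact Kc_le_coreOf (σ := sig (Nat.card A) r) ⟨hp, hpA, hpr⟩ H
  have h1 := pcoreOf_ne_bot_of_coreOf_eq_bot hK₁sol hK₁ne hcore
  have h2 : pcoreOf r K₁ ≤ pcoreOf r H :=
    le_pCoreOf ((pCoreOf_le r K₁).trans hK₁H) (pCoreOf_isPGroup r K₁)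
      (hHK₁.trans (normalizer_le_normalizer_pcoreOf r K₁))
  intro hb
  exact h1 (le_bot_iff.mp (hb ▸ h2))

/-- The last step of Theorem 8.1(a): `M` is the only maximal subgroup containing `A`. -/
theorem Good.eq_of_coatom (h : Good M A) (htrans : Cfsg.TransitivityHypothesis A)
    (hZ : ¬ Cfsg.RankLE 2 ↥(A ⊓ Subgroup.centralizer (A : Set G))) {q r₀ : ℕ} (hq : q.Prime)
    (hr₀ : r₀.Prime) (hne : r₀ ≠ q) (hqA : q ∣ Nat.card A) (hr₀A : r₀ ∣ Nat.card A)
    {H : Subgroup G} (hH : IsCoatom H) (hAH : A ≤ H) : H = M := by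
  haveI := Fact.mk hq
  haveI := Fact.mk hr₀
  have hMtop : M ≠ ⊤ := h.coatom.1
  have hHtop : H ≠ ⊤ := hH.1
  have hMsol : Group.IsSolvable ↥M := h.solvable
  have hHsol : Group.IsSolvable ↥H := h.min.2.2.2 H hHtop
  have hOM := h.piCoreOf_eq_bot htrans hZ h.leM
  have hOH := h.piCoreOf_eq_bot htrans hZ hAH
  obtain ⟨KH, hKH⟩ : ∃ K : Subgroup G, K = Kc (sig (Nat.card A) q) H := ⟨_, rfl⟩
  obtain ⟨KM, hKM⟩ : ∃ K : Subgroup G, K = Kc (sig (Nat.card A) q) M := ⟨_, rfl⟩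
  -- `N(O_r(H)) = H`
  have hND : ∀ r : ℕ, r.Prime → r ∣ Nat.card A →
      Subgroup.centralizer ((pcoreOf r H : Subgroup G) : Set G) ≤ H := by
    intro r hr hrA
    haveI := Fact.mk hr
    have h1 := normalizer_eq_of_coatom h.min hH (le_normalizer_pCoreOf r H)
      (h.pcoreOf_ne_bot' hHtop hAH hOH hrA)
      (ne_top_of_le_ne_top hHtop (pCoreOf_le r H))
    exact (Subgroup.centralizer_le_normalizer _).trans (le_of_eq h1)
  -- `O_r(H) ≤ M`
  have hDM : ∀ r : ℕ, r.Prime → r ∣ Nat.card A → pcoreOf r H ≤ M := by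
    intro r hr hrA
    haveI := Fact.mk hr
    by_cases hrq : r = q
    · subst hrq
      exact (pcoreOf_le_Kc H (Nat.card A) r).trans (h.Kc_le hHtop hAH hOH hrA hr₀A hne)
    · exact (pcoreOf_le_Kc H (Nat.card A) r).trans
        (h.Kc_le hHtop hAH hOH hrA hqA (Ne.symm hrq))
  have hKHM : KH ≤ M := hKH ▸ h.Kc_le hHtop hAH hOH hqA hr₀A hne
  have hKHH : KH ≤ H := hKH ▸ BGV.Kc_le _ H
  have hHKH : H ≤ Subgroup.normalizer (KH : Set G) := hKH ▸ le_normalizer_Kc _ H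
  have hMKM : M ≤ Subgroup.normalizer (KM : Set G) := hKM ▸ le_normalizer_Kc _ M
  have hKHc : KH ≤ Subgroup.centralizer ((coreOf q H : Subgroup G) : Set G) :=
    hKH ▸ Kc_le_centralizer_coreOf hOH q
  have hKMc : KM ≤ Subgroup.centralizer ((coreOf q M : Subgroup G) : Set G) :=
    hKM ▸ Kc_le_centralizer_coreOf hOM q
  -- `KH ≤ KM`
  have h1 : KH ≤ KM := by
    rw [hKM]
    apply le_Kc hKHM
    rintro r ⟨hr, hrA, hrq⟩
    haveI := Fact.mk hr
    have hDr := hDM r hr hrA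
    refine le_trans ?_ (coreOf_inf_centralizer_le_coreOf r M (pcoreOf r H) hMsol hDr
      (pCoreOf_isPGroup r H))
    apply le_coreOf
    · exact le_inf hKHM (hKHc.trans (centralizer_le_of_le (pcoreOf_le_coreOf H hq hrq)))
    · exact (inf_le_right.trans (hND r hr hrA)).trans hHKH
    · have : KH ≤ coreOf r H := hKH ▸ Kc_le_coreOf (σ := sig (Nat.card A) q) ⟨hr, hrA, hrq⟩ H
      exact Nat.Coprime.coprime_dvd_left (Subgroup.card_dvd_of_le this) (card_coreOf_coprime r H)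
  -- `O_{r₀}(H) ≤ O_{q'}(M)`
  have h2 : pcoreOf r₀ H ≤ coreOf q M := by
    have hDq := hDM q hq hqA
    refine le_trans ?_ (coreOf_inf_centralizer_le_coreOf q M (pcoreOf q H) hMsol hDq
      (pCoreOf_isPGroup q H))
    apply le_coreOf
    · refine le_inf (hDM r₀ hr₀ hr₀A) ?_
      have h3 : pcoreOf q H ≤ KH := hKH ▸ pcoreOf_le_Kc H (Nat.card A) q
      have h4 : coreOf q H ≤ Subgroup.centralizer ((KH : Subgroup G) : Set G) :=
        hKH ▸ coreOf_le_centralizer_Kc hOH q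
      exact (pcoreOf_le_coreOf H hq hne).trans (h4.trans (centralizer_le_of_le h3))
    · exact (inf_le_right.trans (hND q hq hqA)).trans (le_normalizer_pCoreOf r₀ H)
    · exact isPGroup_card_coprime hq hne (pCoreOf_isPGroup r₀ H)
  -- `KM ≤ H`
  have h3 : KM ≤ H := (hKMc.trans (centralizer_le_of_le h2)).trans (hND r₀ hr₀ hr₀A)
  -- `KM ≤ KH`
  have h4 : KM ≤ KH := by
    rw [hKH]
    apply le_Kc h3
    rintro r ⟨hr, hrA, hrq⟩
    haveI := Fact.mk hr
    have hArH : A ⊓ pcoreOf r M ≤ H := inf_le_left.trans hAH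
    refine le_trans ?_ (coreOf_inf_centralizer_le_coreOf r H (A ⊓ pcoreOf r M) hHsol hArH
      ((pCoreOf_isPGroup r M).to_le inf_le_right))
    apply le_coreOf
    · refine le_inf h3 (hKMc.trans (centralizer_le_of_le ?_))
      exact h.inf_le_coreOf hMtop h.leM (h.pcoreOf_ne_bot hqA) hrq
    · exact (inf_le_right.trans (h.centralizer_le (h.pcoreOf_ne_bot hrA))).trans hMKM
    · have : KM ≤ coreOf r M := hKM ▸ Kc_le_coreOf (σ := sig (Nat.card A) q) ⟨hr, hrA, hrq⟩ M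
      exact Nat.Coprime.coprime_dvd_left (Subgroup.card_dvd_of_le this) (card_coreOf_coprime r M)
  -- conclusion
  have h5 : KH = KM := le_antisymm h1 h4
  have hKne : KH ≠ ⊥ := by
    intro hb
    apply h.inf_ne_bot (h.pcoreOf_ne_bot hqA)
    rw [eq_bot_iff, ← hb, hKH]
    exact h.inf_le_Kc hHtop hAH
  have hKtop : KH ≠ ⊤ := ne_top_of_le_ne_top hMtop hKHM
  have h6 := normalizer_eq_of_coatom h.min hH hHKH hKne hKtop
  have h7 := normalizer_eq_of_coatom h.min h.coatom (h5 ▸ hMKM) hKne hKtop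
  rw [← h6, h7]

end Cfsg.Agent.Helper1.BGV
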