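import Mathlib
import Cfsg.Agent.Helper1.BGVe

set_option autoImplicit false

/-!
Bender–Glauberman, Theorem 8.1 (`S1397`).
-/

namespace Cfsg.Agent.Helper1.BGV

open Cfsg Cfsg.Agent.Helper1 Cfsg.Agent.Helper2 Cfsg.Agent.Helper1.BGT Cfsg.Agent.Helper1.BGU
open scoped Pointwise commutatorElement

universe u

variable {G : Type u} [Group G] [Finite G]

theorem pPrimePCore_le_pCore_of_pPrimeCore_eq_bot {X : Type u} [Group X] [Finite X] (p : ℕ)
    [hp : Fact p.Prime] (h : Cfsg.pPrimeCore p X = ⊥) : Cfsg.pPrimePCore p X ≤ Cfsg.pCore p X := by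
  have hn : (Cfsg.pPrimePCore p X).Normal := Cfsg.Agent.Helper1.AG.pPrimePCore_normal'
  apply le_pCore hn
  unfold Cfsg.pPrimePCore
  apply (pCore_isPGroup p).comap_of_ker_isPGroup
  rw [QuotientGroup.ker_mk', h]
  exact IsPGroup.of_bot

theorem ppCoreOf_le_pcoreOf {p : ℕ} [hp : Fact p.Prime] {M : Subgroup G} (h : coreOf p M = ⊥) :
    ppCoreOf p M ≤ pcoreOf p M := by
  have h1 : Cfsg.pPrimeCore p ↥M = ⊥ :=
    (Subgroup.map_eq_bot_iff_of_injective _ (Subgroup.subtype_injective M)).mp h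
  exact Subgroup.map_mono (pPrimePCore_le_pCore_of_pPrimeCore_eq_bot p h1)

/-- if `F(M)` is a `p`-group then `O_{p'}(M) = 1`. -/
theorem coreOf_eq_bot_of_isPGroup_fittingOf {M : Subgroup G} (hsol : Group.IsSolvable ↥M) {p : ℕ}
    [hp : Fact p.Prime] (hF : IsPGroup p ↥(Cfsg.fittingOf M)) : coreOf p M = ⊥ := by
  have hd : coreOf p M ⊓ Cfsg.fittingOf M = ⊥ := by
    apply (Subgroup.disjoint_of_coprime_natCard _).eq_bot
    obtain ⟨k, hk⟩ := IsPGroup.iff_card.mp hF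
    rw [hk]
    exact Nat.Coprime.pow_right k (card_coreOf_coprime p M)
  have hle : coreOf p M ≤ Cfsg.fittingOf M := by
    intro y hy
    apply inf_centralizer_fittingOf_le M hsol
    refine ⟨Helper2.coreOf_le p M hy, Subgroup.mem_centralizer_iff.mpr ?_⟩
    intro x hx
    exact (commute_of_normalize_of_disjoint
      ((Helper2.coreOf_le p M).trans (le_normalizer_fittingOf M))
      ((fittingOf_le M).trans (le_normalizer_coreOf p M)) hd hy hx).symm
  rw [eq_bot_iff, ← hd]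
  exact le_inf le_rfl hle

theorem not_dvd_index_of_card_eq {p : ℕ} [hp : Fact p.Prime] {P : Subgroup G}
    (h : Nat.card P = p ^ (Nat.card G).factorization p) : ¬ p ∣ P.index := by
  intro hd
  obtain ⟨m, hm⟩ := hd
  obtain ⟨v, hv⟩ : ∃ v : ℕ, v = (Nat.card G).factorization p := ⟨_, rfl⟩
  rw [← hv] at h
  have h1 := Subgroup.card_mul_index P
  rw [h, hm] at h1
  have h2 : p ^ (v + 1) ∣ Nat.card G := ⟨m, by rw [← h1, pow_succ]; ring⟩
  rw [hv] at h2
  exact Nat.pow_succ_factorization_not_dvd Nat.card_pos.ne' hp.out h2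

/-- Theorem 8.1(a). -/
theorem thm81a (hG : Cfsg.IsMinSimpleOddOrder G) (M : Subgroup G) (hM : IsCoatom M) (p : ℕ)
    [hp : Fact p.Prime] (A₀ : Subgroup G) (hA₀ : A₀ ≤ Cfsg.fittingOf M)
    (hA₀e : Cfsg.IsElementaryAbelian p A₀) (hA₀3 : p ^ 3 ≤ Nat.card A₀)
    (hnp : ¬ IsPGroup p ↥(Cfsg.fittingOf M)) :
    Cfsg.InUniqueMaximal (Cfsg.fittingOf M ⊓ Subgroup.centralizer (A₀ : Set G)) := by
  obtain ⟨A, hA⟩ : ∃ A : Subgroup G,
      A = Cfsg.fittingOf M ⊓ Subgroup.centralizer (A₀ : Set G) := ⟨_, rfl⟩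
  rw [← hA]
  have hA₀p : IsPGroup p ↥A₀ := isPGroup_of_elementary hA₀e
  have hA₀P : A₀ ≤ pcoreOf p M := le_pCoreOf_of_le_fittingOf hA₀p hA₀
  have hA₀c : A₀ ≤ Subgroup.centralizer (A₀ : Set G) := by
    intro x hx
    rw [Subgroup.mem_centralizer_iff]
    intro y hy
    have := hA₀e.1.is_comm.comm ⟨y, hy⟩ ⟨x, hx⟩
    exact congrArg Subtype.val this
  have hA₀A : A₀ ≤ A := hA ▸ le_inf hA₀ hA₀c
  have good : Good M A := by
    refine ⟨hG, hM, hA ▸ inf_le_left, ?_⟩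
    rintro r hr z ⟨hzP, hzC⟩
    haveI := Fact.mk hr
    rw [hA]
    refine ⟨pCoreOf_le_fittingOf r M hzP, ?_⟩
    by_cases hrp : r = p
    · subst hrp
      exact centralizer_le_of_le (le_inf hA₀A hA₀P) hzC
    · refine Subgroup.mem_centralizer_iff.mpr ?_
      intro a ha
      exact commute_pCoreOf (Ne.symm hrp) M (hA₀P ha) hzP
  have hZ : ¬ Cfsg.RankLE 2 ↥(A ⊓ Subgroup.centralizer (A : Set G)) := by
    apply not_rankLE_of_hasEA hp.out
    refine ⟨A₀, le_inf hA₀A (le_centralizer_symm (hA ▸ inf_le_right)), hA₀e, ?_⟩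
    exact lt_of_lt_of_le (Nat.pow_lt_pow_right hp.out.one_lt (by norm_num)) hA₀3
  -- the primes
  have hA₀1 : A₀ ≠ ⊥ := by
    rintro rfl
    rw [Subgroup.card_bot] at hA₀3
    have := Nat.one_lt_pow (n := 3) (by norm_num) hp.out.one_lt
    omega
  have hpA : p ∣ Nat.card A :=
    (dvd_card_of_isPGroup_ne_bot hA₀p hA₀1).trans (Subgroup.card_dvd_of_le hA₀A)
  obtain ⟨q, hq, hqF, hqp⟩ : ∃ q : ℕ, q.Prime ∧ q ∣ Nat.card (Cfsg.fittingOf M) ∧ q ≠ p := by
    by_contra hcon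
    push Not at hcon
    apply hnp
    rw [IsPGroup.iff_card]
    exact ⟨_, Nat.eq_prime_pow_of_unique_prime_dvd Nat.card_pos.ne'
      (fun {d} hd hdvd => hcon d hd hdvd)⟩
  have hqA : q ∣ Nat.card A := good.dvd_card_of_dvd_fitting hq hqF
  have htrans : Cfsg.TransitivityHypothesis A :=
    good.transitivityHypothesis hp.out hq (Ne.symm hqp) hpA hqA
  refine ⟨M, ⟨hM, good.leM⟩, ?_⟩
  rintro H ⟨hH, hAH⟩
  exact good.eq_of_coatom htrans hZ hp.out hq hqp hpA hqA hH hAH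

/-- Theorem 8.1(b). -/
theorem thm81b (hG : Cfsg.IsMinSimpleOddOrder G) (M : Subgroup G) (hM : IsCoatom M) (p : ℕ)
    [hp : Fact p.Prime] (A₀ : Subgroup G) (hA₀ : A₀ ≤ Cfsg.fittingOf M)
    (hA₀e : Cfsg.IsElementaryAbelian p A₀) (hA₀3 : p ^ 3 ≤ Nat.card A₀)
    (hFp : IsPGroup p ↥(Cfsg.fittingOf M)) (P : Sylow p ↥M) :
    ¬ p ∣ ((P : Subgroup ↥M).map M.subtype).index ∧
      ∀ A : Subgroup G, Cfsg.IsSCN ((P : Subgroup ↥M).map M.subtype) A →
        ¬ Cfsg.PRankLE p 2 ↥A → A ≤ Cfsg.fittingOf M ∧ Cfsg.InUniqueMaximal A := by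
  have hodd : ∀ X : Subgroup G, Odd (Nat.card X) := fun X =>
    Odd.of_dvd_nat hG.1 (Subgroup.card_subgroup_dvd_card X)
  have hMtop : M ≠ ⊤ := hM.1
  have hMsol : Group.IsSolvable ↥M := hG.2.2.2 M hMtop
  have hA₀p : IsPGroup p ↥A₀ := isPGroup_of_elementary hA₀e
  have hA₀1 : A₀ ≠ ⊥ := by
    rintro rfl
    rw [Subgroup.card_bot] at hA₀3
    have := Nat.one_lt_pow (n := 3) (by norm_num) hp.out.one_lt
    omega
  have hp2 : p ≠ 2 := by
    rintro rfl
    have h2 : 2 ∣ Nat.card A₀ := dvd_card_of_isPGroup_ne_bot hA₀p hA₀1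
    exact (Nat.not_even_iff_odd.mpr (hodd A₀)) (even_iff_two_dvd.mpr h2)
  obtain ⟨P', hP'⟩ : ∃ P' : Subgroup G, P' = (P : Subgroup ↥M).map M.subtype := ⟨_, rfl⟩
  rw [← hP']
  have hP'M : P' ≤ M := hP' ▸ Subgroup.map_subtype_le _
  have hP'p : IsPGroup p ↥P' := hP' ▸ P.2.map _
  have hP'card : Nat.card P' = p ^ (Nat.card M).factorization p := by
    rw [hP', Subgroup.card_map_of_injective (Subgroup.subtype_injective M)]
    exact P.card_eq_multiplicity
  have hcore : coreOf p M = ⊥ := coreOf_eq_bot_of_isPGroup_fittingOf hMsol hFp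
  have hFP : Cfsg.fittingOf M ≤ pcoreOf p M := le_pCoreOf_of_le_fittingOf hFp le_rfl
  have hOP' : pcoreOf p M ≤ P' := hP' ▸ Subgroup.map_mono (pCore_le_sylow P)
  have hP'1 : P' ≠ ⊥ := fun hb => hA₀1 (le_bot_iff.mp (hb ▸ (hA₀.trans (hFP.trans hOP'))))
  have hMzl : M ≤ Subgroup.normalizer (Puig.zl P' : Set G) := by
    intro m hm
    obtain ⟨a, ha, y, hy, rfl⟩ := exists_mul_puig p hp2 M P' hMsol (hodd M) hP'M hP'card m hm
    rw [hcore, Subgroup.mem_bot] at ha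
    rw [ha, one_mul]; exact hy.2
  have hNzl : Subgroup.normalizer (Puig.zl P' : Set G) = M :=
    normalizer_eq_of_coatom hG hM hMzl (zl_ne_bot hP'p hP'1)
      (ne_top_of_le_ne_top hMtop ((Puig.zl_le P').trans hP'M))
  have hNP : Subgroup.normalizer (P' : Set G) ≤ M :=
    (Puig.normalizer_le_normalizer_zl P').trans (le_of_eq hNzl)
  have hP'G : Nat.card P' = p ^ (Nat.card G).factorization p :=
    card_eq_ppart_top_of_normalizer_le hP'p hP'M hP'card hNP
  refine ⟨not_dvd_index_of_card_eq hP'G, ?_⟩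
  intro A hscn hA3
  have hAp : IsPGroup p ↥A := hP'p.to_le hscn.1
  have hAC : A ≤ Subgroup.centralizer (A : Set G) := by
    intro a ha
    have : a ∈ P' ⊓ Subgroup.centralizer (A : Set G) := by rw [hscn.2.2]; exact ha
    exact this.2
  have hcomm : ∀ x ∈ A, ∀ y ∈ A, x * y = y * x := by
    intro x hx y hy
    exact (Subgroup.mem_centralizer_iff.mp (hAC hx) y hy).symm
  have hAc : IsMulCommutative ↥A := by
    refine ⟨⟨fun x y => ?_⟩⟩
    apply Subtype.ext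
    exact hcomm x x.2 y y.2
  have hAO : A ≤ pcoreOf p M :=
    (le_ppCoreOf_of_abelian_normal p M P' A hMsol (hodd M) hP'M hP'card hscn.1 hcomm
      hscn.2.1).trans (ppCoreOf_le_pcoreOf hcore)
  have hAF : A ≤ Cfsg.fittingOf M := hAO.trans (pCoreOf_le_fittingOf p M)
  refine ⟨hAF, ?_⟩
  have hA1 : A ≠ ⊥ := by
    rintro rfl
    apply hA3
    intro E _ _
    have : Nat.card E = 1 := by
      haveI : Subsingleton ↥(⊥ : Subgroup G) := inferInstance
      exact Nat.card_eq_one_iff_unique.mpr ⟨inferInstance, ⟨1⟩⟩  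
    rw [this]
    exact Nat.one_le_pow _ _ hp.out.pos
  have hcoe : ((Sylow.ofCard P' hP'G : Sylow p G) : Subgroup G) = P' := Sylow.coe_ofCard _ _
  have hr1 : ¬ Cfsg.PRankLE p 1 ↥A := by
    intro h1
    apply hA3
    intro E hEc hEe
    exact (h1 E hEc hEe).trans (Nat.pow_le_pow_right hp.out.pos (by norm_num))
  have htrans : Cfsg.TransitivityHypothesis A :=
    transitivityHypothesis_of_scn (P := Sylow.ofCard P' hP'G) hG hAc (by rw [hcoe]; exact hscn)
      hr1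
  have good : Good M A := by
    refine ⟨hG, hM, hAF, ?_⟩
    rintro r hr z ⟨hzP, hzC⟩
    haveI := Fact.mk hr
    by_cases hrp : r = p
    · subst hrp
      have h1 : A ⊓ pcoreOf r M = A := inf_eq_left.mpr hAO
      rw [h1] at hzC
      have : z ∈ P' ⊓ Subgroup.centralizer (A : Set G) := ⟨hOP' hzP, hzC⟩
      rw [hscn.2.2] at this
      exact this
    · have h1 : Nat.card ↥(pcoreOf r M) = 1 := by
        have h2 : IsPGroup p ↥(pcoreOf r M) := hFp.to_le (pCoreOf_le_fittingOf r M)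
        have h3 := isPGroup_card_coprime_card hrp (pCoreOf_isPGroup r M) h2
        exact (Nat.coprime_self _).mp h3
      have h2 : pcoreOf r M = ⊥ := Subgroup.card_eq_one.mp h1
      have hz1 : z = 1 := by
        have h3 := hzP
        rw [h2] at h3
        exact Subgroup.mem_bot.mp h3
      rw [hz1]; exact A.one_mem
  have hZ : ¬ Cfsg.RankLE 2 ↥(A ⊓ Subgroup.centralizer (A : Set G)) := by
    intro h
    apply hA3
    exact Cfsg.Agent.Helper1.Rank2Fitting.pRankLE_of_le (le_inf le_rfl hAC) (h p hp.out)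
  have hinv : ∀ Y : Subgroup G, (Nat.card Y).Coprime p →
      A ≤ Subgroup.normalizer (Y : Set G) → Y ≤ M := by
    intro Y hYc hAY
    have hcop : (Nat.card Y).Coprime (Nat.card A) := by
      obtain ⟨k, hk⟩ := IsPGroup.iff_card.mp hAp
      rw [hk]; exact Nat.Coprime.pow_right k hYc
    rw [good.invariant_eq_bot htrans hZ hcop hAY]
    exact bot_le
  have huniq := unique_of_invariant_le_pgroup hG hM p good.leM hAp hA1 hinv
  exact ⟨M, ⟨hM, good.leM⟩, fun H hH => huniq H hH.1 hH.2⟩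

/-- Bender–Glauberman Theorem 8.1. -/
theorem thm81 (hG : Cfsg.IsMinSimpleOddOrder G) (M : Subgroup G) (hM : IsCoatom M) (p : ℕ)
    [hp : Fact p.Prime] (A₀ : Subgroup G) (hA₀ : A₀ ≤ Cfsg.fittingOf M)
    (hA₀e : Cfsg.IsElementaryAbelian p A₀) (hA₀3 : p ^ 3 ≤ Nat.card A₀) :
    (¬ IsPGroup p ↥(Cfsg.fittingOf M) →
        Cfsg.InUniqueMaximal (Cfsg.fittingOf M ⊓ Subgroup.centralizer (A₀ : Set G))) ∧
      (IsPGroup p ↥(Cfsg.fittingOf M) → ∀ P : Sylow p M,
        ¬ p ∣ ((P : Subgroup M).map M.subtype).index ∧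
        ∀ A : Subgroup G, Cfsg.IsSCN ((P : Subgroup M).map M.subtype) A →
          ¬ Cfsg.PRankLE p 2 ↥A → A ≤ Cfsg.fittingOf M ∧ Cfsg.InUniqueMaximal A) :=
  ⟨thm81a hG M hM p A₀ hA₀ hA₀e hA₀3, fun hFp P => thm81b hG M hM p A₀ hA₀ hA₀e hA₀3 hFp P⟩

end Cfsg.Agent.Helper1.BGV
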