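import Mathlib
import Cfsg.Prelude
import Cfsg.Agent.Helper1.BGVf

set_option autoImplicit false

/-! Bender–Glauberman Lemma 9.5. -/

namespace Cfsg.Agent.Helper1.BGV

open Cfsg.Agent.Helper1.BGT Cfsg.Agent.Helper1.BGU Cfsg.Agent.Helper2

universe u
variable {G : Type u} [Group G]

theorem not_pRankLE_type_of_hasEA {p k : ℕ} {X : Subgroup G} (h : HasEA p k X) :
    ¬ Cfsg.PRankLE p k G := by
  obtain ⟨F, _, hFe, hFcard⟩ := h
  intro hr
  have := hr F hFe.1 hFe.2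
  omega

theorem pow_succ_le_card_of_lt {p k : ℕ} [hp : Fact p.Prime] {F : Subgroup G}
    (hFp : IsPGroup p ↥F) [Finite ↥F] (h : p ^ k < Nat.card F) : p ^ (k + 1) ≤ Nat.card F := by
  obtain ⟨n, hn⟩ := IsPGroup.iff_card.mp hFp
  rw [hn] at h ⊢
  have hlt : k < n := (Nat.pow_lt_pow_iff_right hp.out.one_lt).mp h
  exact Nat.pow_le_pow_right hp.out.pos hlt

variable [Finite G]

/-- Bender–Glauberman Lemma 9.5. -/
theorem lemma95 (hG : Cfsg.IsMinSimpleOddOrder G) (M : Subgroup G) (hM : IsCoatom M) (p : ℕ)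
    [hp : Fact p.Prime] (hF : ¬ Cfsg.PRankLE p 2 ↥(Cfsg.fittingOf M))
    (A : Subgroup G) (hAp : IsPGroup p ↥A) (hAc : IsMulCommutative ↥A)
    (hA3 : ¬ Cfsg.PRankLE p 2 ↥A) : Cfsg.InUniqueMaximal A := by
  have hodd : ∀ X : Subgroup G, Odd (Nat.card X) := fun X =>
    Odd.of_dvd_nat hG.1 (Subgroup.card_subgroup_dvd_card X)
  obtain ⟨A₀, hA₀, hA₀e, hA₀card⟩ := hasEA_of_not_pRankLE hF
  have hA₀p : IsPGroup p ↥A₀ := isPGroup_of_elementary hA₀e
  have hA₀3 : p ^ 3 ≤ Nat.card A₀ := pow_succ_le_card_of_lt hA₀p hA₀card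
  have hA₀ea2 : HasEA p 2 A₀ := ⟨A₀, le_rfl, hA₀e, hA₀card⟩
  have hA₀ea1 : HasEA p 1 A₀ :=
    ⟨A₀, le_rfl, hA₀e, lt_trans (Nat.pow_lt_pow_right hp.out.one_lt (by norm_num)) hA₀card⟩
  haveI : IsMulCommutative ↥A₀ := hA₀e.1
  have h81 := thm81 hG M hM p A₀ hA₀ hA₀e hA₀3
  have hA₀U : Cfsg.InUniqueMaximal A₀ ∨ ∃ B : Subgroup G, IsPGroup p ↥B ∧ IsMulCommutative ↥B ∧
      HasEA p 2 B ∧ Cfsg.InUniqueMaximal B := by
    by_cases hFp : IsPGroup p ↥(Cfsg.fittingOf M)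
    · right
      have hb := h81.2 hFp default
      obtain ⟨P', hP'⟩ : ∃ P' : Subgroup G,
        P' = ((default : Sylow p ↥M) : Subgroup ↥M).map M.subtype := ⟨_, rfl⟩
      rw [← hP'] at hb
      have hP'p : IsPGroup p ↥P' := hP' ▸ (default : Sylow p ↥M).2.map _
      have hA₀1 : A₀ ≠ ⊥ := by
        rintro rfl
        rw [Subgroup.card_bot] at hA₀3
        have := Nat.one_lt_pow (n := 3) (by norm_num) hp.out.one_lt
        omega
      have hp2 : p ≠ 2 := by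
        rintro rfl
        have h2 : 2 ∣ Nat.card A₀ := dvd_card_of_isPGroup_ne_bot hA₀p hA₀1
        exact (Nat.not_even_iff_odd.mpr (hodd A₀)) (even_iff_two_dvd.mpr h2)
      have hcoe : ((hP'p.toSylow hb.1 : Sylow p G) : Subgroup G) = P' :=
        IsPGroup.toSylow_coe hP'p hb.1
      obtain ⟨B, hBscn, hBc, hB3⟩ := exists_scn3_sylow p hp2 (hP'p.toSylow hb.1)
        (not_pRankLE_type_of_hasEA hA₀ea2)
      rw [hcoe] at hBscn
      exact ⟨B, hP'p.to_le hBscn.1, hBc, hasEA_of_not_pRankLE hB3, (hb.2 B hBscn hB3).2⟩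
    · left
      have h1 := h81.1 hFp
      refine cent_uniq' hG hp.out h1 ?_ hA₀ea1
      exact le_centralizer_symm inf_le_right
  rcases hA₀U with h | ⟨B, hBp, hBc, hB3, hBU⟩
  · exact uniq_of_abelian_rank3 hG p hA₀p hA₀e.1 hA₀ea2 h hAp hAc (hasEA_of_not_pRankLE hA3)
  · exact uniq_of_abelian_rank3 hG p hBp hBc hB3 hBU hAp hAc (hasEA_of_not_pRankLE hA3)

end Cfsg.Agent.Helper1.BGV
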