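import Mathlib
import Cfsg.Agent.Lead.ConjFamily
import Cfsg.Agent.Lead.SylowLemmas

set_option autoImplicit false

/-!
Control of strong fusion from a normal subgroup: chain bookkeeping and a Sylow lemma for a
normal subgroup `Y` of `K` with `Y / C` a `p`-group.
-/

namespace Cfsg.Agent.Helper1
namespace NF

open Cfsg Cfsg.Agent.Lead

variable {G : Type*} [Group G]

/-- `x = c * h` with `c` centralizing `A` and `h ∈ H`. -/
def CFact (H : Subgroup G) (A : Set G) (x : G) : Prop :=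
  ∃ c ∈ Subgroup.centralizer A, ∃ h ∈ H, x = c * h

theorem CFact.mono {H : Subgroup G} {A B : Set G} {x : G} (h : CFact H B x) (hAB : A ⊆ B) :
    CFact H A x := by
  obtain ⟨c, hc, h', hh', rfl⟩ := h
  exact ⟨c, Subgroup.centralizer_le hAB hc, h', hh', rfl⟩

/-- chains whose links factorize, factorize -/
theorem cfact_of_chain {H : Subgroup G} {𝓕 : Set (Subgroup G)} {m : ℕ}
    (hgood : ∀ T ∈ 𝓕, m ≤ Nat.card T → ∀ x ∈ Subgroup.normalizer (T : Set G),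
      CFact H (T : Set G) x)
    {A : Set G} {g : G} (hch : ConjChain 𝓕 A g)
    (hA : ∀ T : Subgroup G, A ⊆ T → m ≤ Nat.card T) : CFact H A g := by
  induction hch with
  | nil A => exact ⟨1, Subgroup.one_mem _, 1, Subgroup.one_mem _, by simp⟩
  | cons A T x g hT hx hAT _ ih =>
    obtain ⟨c₁, hc₁, h₁, hh₁, rfl⟩ := hgood T hT (hA T hAT) x hx
    have hA' : ∀ T' : Subgroup G, conjR (c₁ * h₁) A ⊆ T' → m ≤ Nat.card T' := by
      intro T' hT'
      have h1 : A ⊆ ((T'.map (MulAut.conj (c₁ * h₁)).toMonoidHom : Subgroup G) : Set G) := by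
        intro a ha
        have h2 : (c₁ * h₁)⁻¹ * a * (c₁ * h₁) ∈ T' := hT' ⟨a, ha, rfl⟩
        refine ⟨_, h2, ?_⟩
        simp only [MulEquiv.coe_toMonoidHom, MulAut.conj_apply]
        group
      have := hA _ h1
      rwa [card_map_conj] at this
    obtain ⟨c₂, hc₂, h₂, hh₂, rfl⟩ := ih hA'
    have hc₁A : c₁ ∈ Subgroup.centralizer A := Subgroup.centralizer_le hAT hc₁
    refine ⟨c₁ * (h₁ * c₂ * h₁⁻¹), ?_, h₁ * h₂, H.mul_mem hh₁ hh₂, by group⟩
    refine Subgroup.mul_mem _ hc₁A ?_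
    rw [Subgroup.mem_centralizer_iff]
    intro a ha
    have h1 : (c₁ * h₁)⁻¹ * a * (c₁ * h₁) ∈ conjR (c₁ * h₁) A := ⟨a, ha, rfl⟩
    have h2 := Subgroup.mem_centralizer_iff.1 hc₂ _ h1
    have h3 := Subgroup.mem_centralizer_iff.1 hc₁A a ha
    have e1 : (c₁ * h₁)⁻¹ * a * (c₁ * h₁) = h₁⁻¹ * a * h₁ := by
      have : (c₁ * h₁)⁻¹ * a * (c₁ * h₁) = h₁⁻¹ * (c₁⁻¹ * (a * c₁)) * h₁ := by group
      rw [this, h3]; group
    rw [e1] at h2
    calc a * (h₁ * c₂ * h₁⁻¹) = h₁ * ((h₁⁻¹ * a * h₁) * c₂) * h₁⁻¹ := by group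
      _ = h₁ * (c₂ * (h₁⁻¹ * a * h₁)) * h₁⁻¹ := by rw [h2]
      _ = h₁ * c₂ * h₁⁻¹ * a := by group

variable [Finite G] {p : ℕ} [hp : Fact p.Prime]

/-- Let `Y ⊴ K`, `C ⊴ Y` with `Y / C` a `p`-group, and `T` a "Sylow" subgroup of `K`. Every
`p`-subgroup of `Y` is conjugate into `T` by an element of `C`. -/
theorem exists_conj_le_of_pgroup_quotient {K Y C T B : Subgroup G}
    (hYK : Y ≤ K) (hKY : K ≤ Subgroup.normalizer (Y : Set G)) (hCY : C ≤ Y)
    (hYC : Y ≤ Subgroup.normalizer (C : Set G))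
    (hpow : ∀ y ∈ Y, ∃ m : ℕ, y ^ p ^ m ∈ C)
    (hTK : T ≤ K) (hTp : IsPGroup p T)
    (hTcard : Nat.card T = p ^ (Nat.card K).factorization p)
    (hBY : B ≤ Y) (hBp : IsPGroup p B) :
    ∃ c ∈ C, B.map (MulAut.conj c).toMonoidHom ≤ T := by
  have hcardTY : Nat.card ↥(T ⊓ Y) = p ^ (Nat.card Y).factorization p :=
    card_inf_eq_ppart_of_normal hTK hYK hKY hTp hTcard
  obtain ⟨y, hyY, hy⟩ := exists_conj_le_of_card_eq_ppart (p := p) (inf_le_right : T ⊓ Y ≤ Y)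
    hcardTY hBY hBp
  -- `Y = C (T ⊓ Y)`
  have hcard' : Nat.card ((T ⊓ Y).subgroupOf Y) = p ^ (Nat.card Y).factorization p := by
    rw [card_subgroupOf_of_le inf_le_right]; exact hcardTY
  obtain ⟨T', hT'⟩ : ∃ T' : Sylow p Y, (T' : Subgroup Y) = (T ⊓ Y).subgroupOf Y :=
    ⟨Sylow.ofCard _ hcard', rfl⟩
  haveI hCn : (C.subgroupOf Y).Normal :=
    (Subgroup.normal_subgroupOf_iff_le_normalizer hCY).2 hYC
  have hq : IsPGroup p (↥Y ⧸ C.subgroupOf Y) := by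
    intro x
    induction x using QuotientGroup.induction_on with
    | H z =>
      obtain ⟨m, hm⟩ := hpow z.1 z.2
      refine ⟨m, ?_⟩
      rw [← QuotientGroup.mk_pow, QuotientGroup.eq_one_iff, Subgroup.mem_subgroupOf]
      simpa using hm
  have htop : (T' : Subgroup Y) ⊔ C.subgroupOf Y = ⊤ := by
    rw [← Subgroup.index_eq_one]
    obtain ⟨k, hk⟩ := IsPGroup.iff_card.mp hq
    have h1 : ((T' : Subgroup Y) ⊔ C.subgroupOf Y).index ∣ (T' : Subgroup Y).index :=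
      Subgroup.index_dvd_of_le le_sup_left
    have h2 : ((T' : Subgroup Y) ⊔ C.subgroupOf Y).index ∣ (C.subgroupOf Y).index :=
      Subgroup.index_dvd_of_le le_sup_right
    rw [Subgroup.index_eq_card (C.subgroupOf Y), hk] at h2
    have h3 : ¬ p ∣ ((T' : Subgroup Y) ⊔ C.subgroupOf Y).index :=
      fun h => T'.not_dvd_index (h.trans h1)
    have h4 : Nat.Coprime ((T' : Subgroup Y) ⊔ C.subgroupOf Y).index p :=
      ((Nat.Prime.coprime_iff_not_dvd hp.out).2 h3).symm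
    exact (Nat.Coprime.pow_right k h4).eq_one_of_dvd h2
  have hmem : (⟨y, hyY⟩ : Y) ∈ (T' : Subgroup Y) ⊔ C.subgroupOf Y := by
    rw [htop]; exact Subgroup.mem_top _
  obtain ⟨t, ht, c, hc, htc⟩ := Subgroup.mem_sup_of_normal_right.mp hmem
  rw [hT', Subgroup.mem_subgroupOf] at ht
  rw [Subgroup.mem_subgroupOf] at hc
  have hy' : y = (t : G) * (c : G) := by
    have := congrArg Subtype.val htc
    simpa using this.symm
  refine ⟨c, hc, ?_⟩
  rintro _ ⟨b, hb, rfl⟩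
  have h1 : y * b * y⁻¹ ∈ T ⊓ Y := hy ⟨b, hb, by simp⟩
  have h2 : (t : G)⁻¹ * (y * b * y⁻¹) * (t : G) ∈ T ⊓ Y :=
    Subgroup.mul_mem _ (Subgroup.mul_mem _ (Subgroup.inv_mem _ ht) h1) ht
  have e : (MulAut.conj (c : G)).toMonoidHom b = (t : G)⁻¹ * (y * b * y⁻¹) * (t : G) := by
    simp only [MulEquiv.coe_toMonoidHom, MulAut.conj_apply]
    rw [hy']; group
  rw [e]
  exact h2.1

end NF
end Cfsg.Agent.Helper1
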