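import Mathlib
import Cfsg.Agent.Helper1.NFa
import Cfsg.Agent.Helper1.FSC
import Cfsg.Agent.Helper1.Basic
import Cfsg.Agent.Helper1.Coprime
import Cfsg.Agent.Lead.AlperinTame

set_option autoImplicit false

/-!
Control of strong fusion from a normal subgroup: the local step at a fully normalized subgroup
`U` not containing `W`.
-/

namespace Cfsg.Agent.Helper1
namespace NF

open Cfsg Cfsg.Agent.Lead

variable {G : Type*} [Group G]

theorem conj_mem_centralizer_of_mem_normalizer {U : Subgroup G} {k c : G}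
    (hk : k ∈ Subgroup.normalizer (U : Set G)) (hc : c ∈ Subgroup.centralizer (U : Set G)) :
    k * c * k⁻¹ ∈ Subgroup.centralizer (U : Set G) := by
  rw [Subgroup.mem_centralizer_iff]
  intro u hu
  have hu' : k⁻¹ * u * k ∈ U := by
    have := (Subgroup.mem_normalizer_iff.mp (Subgroup.inv_mem _ hk) u).mp hu
    simpa using this
  have h1 := Subgroup.mem_centralizer_iff.1 hc _ hu'
  calc u * (k * c * k⁻¹) = k * ((k⁻¹ * u * k) * c) * k⁻¹ := by group
    _ = k * (c * (k⁻¹ * u * k)) * k⁻¹ := by rw [h1]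
    _ = k * c * k⁻¹ * u := by group

theorem normalizer_le_normalizer_centralizer [Finite G] (U : Subgroup G) :
    Subgroup.normalizer (U : Set G) ≤
      Subgroup.normalizer ((Subgroup.centralizer (U : Set G) : Subgroup G) : Set G) := by
  intro k hk
  apply mem_normalizer_of_conj_mem_of_finite
  intro c hc
  exact conj_mem_centralizer_of_mem_normalizer hk hc

theorem mem_sup_centralizer_iff {H U : Subgroup G} (hH : H ≤ Subgroup.normalizer (U : Set G))
    [Finite G] {y : G} :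
    y ∈ H ⊔ Subgroup.centralizer (U : Set G) ↔
      ∃ w ∈ H, ∃ c ∈ Subgroup.centralizer (U : Set G), y = w * c := by
  have hLE : H ≤ Subgroup.normalizer
      ((Subgroup.centralizer (U : Set G) : Subgroup G) : Set G) :=
    hH.trans (normalizer_le_normalizer_centralizer U)
  rw [← SetLike.mem_coe, Subgroup.coe_mul_of_left_le_normalizer_right _ _ hLE, Set.mem_mul]
  constructor
  · rintro ⟨w, hw, c, hc, rfl⟩
    exact ⟨w, hw, c, hc, rfl⟩
  · rintro ⟨w, hw, c, hc, rfl⟩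
    exact ⟨w, hw, c, hc, rfl⟩

variable [Finite G] {p : ℕ} [hp : Fact p.Prime]

/-- the normal subgroup `Y` of `N_G(U)` -/
def ySub (W U U₀ : Subgroup G) : Subgroup G :=
  FT.stabGroup U₀ U ⊓
    ((W ⊓ Subgroup.normalizer (U₀ : Set G)) ⊔ Subgroup.centralizer (U₀ : Set G))

theorem mem_ySub {W U U₀ : Subgroup G} {y : G} :
    y ∈ ySub W U U₀ ↔ (y ∈ Subgroup.normalizer (U : Set G) ∧
      ∀ u ∈ U, u⁻¹ * (y⁻¹ * u * y) ∈ U₀) ∧
      ∃ w ∈ W ⊓ Subgroup.normalizer (U₀ : Set G), ∃ c ∈ Subgroup.centralizer (U₀ : Set G),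
        y = w * c := by
  unfold ySub
  rw [Subgroup.mem_inf, FT.mem_stabGroup, mem_sup_centralizer_iff inf_le_right]

/-- a `p`-power of every element of `Y` centralizes `U` -/
theorem ySub_pow {W U U₀ : Subgroup G} (hW : IsPGroup p W) (hU₀ : IsPGroup p U₀) {y : G}
    (hy : y ∈ ySub W U U₀) : ∃ m : ℕ, y ^ p ^ m ∈ Subgroup.centralizer (U : Set G) := by
  have hy' := mem_ySub.1 hy
  obtain ⟨⟨-, -⟩, w, hw, c, hc, rfl⟩ := hy'
  have hwN := hw.2
  -- powers
  have hpw : ∀ n : ℕ, ∃ c' ∈ Subgroup.centralizer (U₀ : Set G), (w * c) ^ n = w ^ n * c' := by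
    intro n
    induction n with
    | zero => exact ⟨1, Subgroup.one_mem _, by simp⟩
    | succ n ih =>
      obtain ⟨c', hc', e⟩ := ih
      refine ⟨w⁻¹ * c' * w * c, ?_, ?_⟩
      · refine Subgroup.mul_mem _ ?_ hc
        have := conj_mem_centralizer_of_mem_normalizer (Subgroup.inv_mem _ hwN) hc'
        simpa using this
      · rw [pow_succ, e, pow_succ]; group
  obtain ⟨a, ha⟩ := hW ⟨w, hw.1⟩
  have ha' : w ^ p ^ a = 1 := by
    have := congrArg Subtype.val ha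
    simpa using this
  obtain ⟨c', hc', e⟩ := hpw (p ^ a)
  rw [ha', one_mul] at e
  obtain ⟨b, hb⟩ := IsPGroup.iff_card.mp hU₀
  refine ⟨a + b, ?_⟩
  have hy1 : (w * c) ^ p ^ a ∈ FT.stabGroup U₀ U :=
    Subgroup.pow_mem _ (Subgroup.mem_inf.1 hy).1 _
  rw [pow_add, pow_mul, Subgroup.mem_centralizer_iff]
  intro t ht
  have hq := hy1.2 t ht
  have hcent : (w * c) ^ p ^ a ∈ Subgroup.centralizer (U₀ : Set G) := e ▸ hc'
  have h1 := FT.stab_pow_conj U₀ ((w * c) ^ p ^ a) hcent t hq (p ^ b)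
  have h2 : (t⁻¹ * (((w * c) ^ p ^ a)⁻¹ * t * (w * c) ^ p ^ a)) ^ p ^ b = 1 := by
    have := pow_card_eq_one' (G := ↥U₀) (x := ⟨_, hq⟩)
    rw [hb] at this
    have h3 := congrArg Subtype.val this
    simpa using h3
  rw [h2, mul_one] at h1
  have h4 := congrArg (((w * c) ^ p ^ a) ^ p ^ b * ·) h1
  simp only [mul_assoc, mul_inv_cancel_left] at h4
  exact h4

/-- The local step. -/
theorem good_of_larger (N : Subgroup G) [hN : N.Normal] (P : Sylow p G) (W : Subgroup G)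
    (hWN : W ≤ N) (hWP : W ≤ (P : Subgroup G))
    (hPW : (P : Subgroup G) ≤ Subgroup.normalizer (W : Set G))
    (hctrl : ∀ B : Subgroup G, B ≤ (P : Subgroup G) ⊓ N → ∀ g : G,
      B.map (MulAut.conj g).toMonoidHom ≤ (P : Subgroup G) ⊓ N →
      ∃ h ∈ Subgroup.normalizer (W : Set G), ∃ c ∈ Subgroup.centralizer (B : Set G), g = h * c)
    (U : Subgroup G) (hUP : U ≤ (P : Subgroup G))
    (hUsyl : ¬ p ∣ ((P : Subgroup G) ⊓ Subgroup.normalizer (U : Set G)).relIndex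
        (Subgroup.normalizer (U : Set G)))
    (hWU : ¬ W ≤ U)
    (hlarger : ∀ A' : Subgroup G, A' ≤ (P : Subgroup G) → Nat.card U < Nat.card A' →
      ∀ k : G, conjR k (A' : Set G) ⊆ (P : Subgroup G) →
        CFact (Subgroup.normalizer (W : Set G)) (A' : Set G) k) :
    ∀ k ∈ Subgroup.normalizer (U : Set G),
      CFact (Subgroup.normalizer (W : Set G)) (U : Set G) k := by
  obtain ⟨K, hK⟩ : ∃ K, K = Subgroup.normalizer (U : Set G) := ⟨_, rfl⟩
  obtain ⟨U₀, hU₀⟩ : ∃ U₀, U₀ = U ⊓ N := ⟨_, rfl⟩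
  obtain ⟨C, hC⟩ : ∃ C, C = Subgroup.centralizer (U : Set G) := ⟨_, rfl⟩
  obtain ⟨Y, hY⟩ : ∃ Y, Y = ySub W U U₀ := ⟨_, rfl⟩
  obtain ⟨B, hB⟩ : ∃ B, B = W ⊓ K := ⟨_, rfl⟩
  rw [← hK] at hUsyl ⊢
  have hWp : IsPGroup p W := P.2.to_le hWP
  have hU₀U : U₀ ≤ U := hU₀ ▸ inf_le_left
  have hU₀N : U₀ ≤ N := hU₀ ▸ inf_le_right
  have hU₀p : IsPGroup p U₀ := P.2.to_le (hU₀U.trans hUP)
  have hU₀PN : U₀ ≤ (P : Subgroup G) ⊓ N := le_inf (hU₀U.trans hUP) hU₀N
  -- `K` normalizes `U₀`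
  have hKconjU : ∀ k ∈ K, ∀ u ∈ U, k * u * k⁻¹ ∈ U := by
    intro k hk u hu
    rw [hK] at hk
    exact (Subgroup.mem_normalizer_iff.mp hk u).mp hu
  have hKconjU₀ : ∀ k ∈ K, ∀ u ∈ U₀, k * u * k⁻¹ ∈ U₀ := by
    intro k hk u hu
    rw [hU₀] at hu ⊢
    exact ⟨hKconjU k hk u hu.1, hN.conj_mem u hu.2 k⟩
  have hKU₀ : K ≤ Subgroup.normalizer (U₀ : Set G) := by
    intro k hk
    apply mem_normalizer_of_conj_mem_of_finite
    exact hKconjU₀ k hk
  have hCK : C ≤ K := by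
    rw [hC, hK]; exact Subgroup.centralizer_le_normalizer _
  have hCU₀ : C ≤ Subgroup.centralizer (U₀ : Set G) := by
    rw [hC]; exact Subgroup.centralizer_le hU₀U
  -- basic properties of `Y`
  have hYK : Y ≤ K := by
    intro y hy
    rw [hY] at hy
    rw [hK]
    exact (mem_ySub.1 hy).1.1
  have hCY : C ≤ Y := by
    intro c hc
    rw [hY, mem_ySub]
    refine ⟨⟨hK ▸ hCK hc, ?_⟩, 1, Subgroup.one_mem _, c, hCU₀ hc, by simp⟩
    intro u hu
    have h1 : c⁻¹ ∈ Subgroup.centralizer (U : Set G) := Subgroup.inv_mem _ (hC ▸ hc)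
    have h2 := Subgroup.mem_centralizer_iff.1 h1 u hu
    have : u⁻¹ * (c⁻¹ * u * c) = 1 := by
      rw [← h2]; group
    rw [this]; exact Subgroup.one_mem _
  have hYC : Y ≤ Subgroup.normalizer (C : Set G) := by
    rw [hC]
    exact (hYK.trans (le_of_eq hK)).trans (normalizer_le_normalizer_centralizer U)
  have hpow : ∀ y ∈ Y, ∃ m : ℕ, y ^ p ^ m ∈ C := by
    intro y hy
    rw [hC]
    exact ySub_pow hWp hU₀p (hY ▸ hy)
  have hBK : B ≤ K := hB ▸ inf_le_right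
  have hBW : B ≤ W := hB ▸ inf_le_left
  have hBp : IsPGroup p B := hWp.to_le hBW
  have hBY : B ≤ Y := by
    intro w hw
    have hwK : w ∈ K := hBK hw
    have hwW : w ∈ W := hBW hw
    rw [hY, mem_ySub]
    refine ⟨⟨hK ▸ hwK, ?_⟩, w, ⟨hwW, hKU₀ hwK⟩, 1, Subgroup.one_mem _, by simp⟩
    intro u hu
    rw [hU₀]
    constructor
    · have h1 : w⁻¹ * u * w ∈ U := by
        have := hKconjU w⁻¹ (Subgroup.inv_mem _ hwK) u hu
        simpa using this
      exact U.mul_mem (U.inv_mem hu) h1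
    · have h1 : u⁻¹ * w⁻¹ * u ∈ N := by
        have := hN.conj_mem w⁻¹ (N.inv_mem (hWN hwW)) u⁻¹
        simpa using this
      have : u⁻¹ * (w⁻¹ * u * w) = (u⁻¹ * w⁻¹ * u) * w := by group
      rw [this]
      exact N.mul_mem h1 (hWN hwW)
  -- `K` normalizes `Y`
  have hKY : K ≤ Subgroup.normalizer (Y : Set G) := by
    intro k hk
    apply mem_normalizer_of_conj_mem_of_finite
    intro y hy
    rw [hY] at hy ⊢
    obtain ⟨⟨hyK, hystab⟩, w, hw, c, hc, rfl⟩ := mem_ySub.1 hy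
    have hkN : k ∈ Subgroup.normalizer (U : Set G) := hK ▸ hk
    rw [mem_ySub]
    refine ⟨⟨?_, ?_⟩, ?_⟩
    · exact Subgroup.mul_mem _ (Subgroup.mul_mem _ hkN hyK) (Subgroup.inv_mem _ hkN)
    · intro u hu
      have hu' : k⁻¹ * u * k ∈ U := by
        have := hKconjU k⁻¹ (Subgroup.inv_mem _ hk) u hu
        simpa using this
      have h1 := hystab _ hu'
      have h2 := hKconjU₀ k hk _ h1
      have e : k * ((k⁻¹ * u * k)⁻¹ * ((w * c)⁻¹ * (k⁻¹ * u * k) * (w * c))) * k⁻¹ =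
          u⁻¹ * ((k * (w * c) * k⁻¹)⁻¹ * u * (k * (w * c) * k⁻¹)) := by group
      rwa [e] at h2
    · -- decompose `k`
      have hkU₀map : U₀.map (MulAut.conj k).toMonoidHom ≤ (P : Subgroup G) ⊓ N := by
        rintro _ ⟨u, hu, rfl⟩
        exact hU₀PN (hKconjU₀ k hk u hu)
      obtain ⟨h, hh, c₀, hc₀, hkhc⟩ := hctrl U₀ hU₀PN k hkU₀map
      have hkN₀ : k ∈ Subgroup.normalizer (U₀ : Set G) := hKU₀ hk
      have hc₀N : c₀ ∈ Subgroup.normalizer (U₀ : Set G) :=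
        Subgroup.centralizer_le_normalizer _ hc₀
      have hhN₀ : h ∈ Subgroup.normalizer (U₀ : Set G) := by
        have : h = k * c₀⁻¹ := by rw [hkhc]; group
        rw [this]
        exact Subgroup.mul_mem _ hkN₀ (Subgroup.inv_mem _ hc₀N)
      refine ⟨h * w * h⁻¹, ⟨?_, ?_⟩, h * (w⁻¹ * c₀ * w * c₀⁻¹) * h⁻¹ * (k * c * k⁻¹), ?_, ?_⟩
      · exact (Subgroup.mem_normalizer_iff.mp hh w).mp hw.1
      · exact Subgroup.mul_mem _ (Subgroup.mul_mem _ hhN₀ hw.2) (Subgroup.inv_mem _ hhN₀)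
      · refine Subgroup.mul_mem _ ?_ (conj_mem_centralizer_of_mem_normalizer hkN₀ hc)
        apply conj_mem_centralizer_of_mem_normalizer hhN₀
        refine Subgroup.mul_mem _ ?_ (Subgroup.inv_mem _ hc₀)
        have := conj_mem_centralizer_of_mem_normalizer (Subgroup.inv_mem _ hw.2) hc₀
        simpa using this
      · rw [hkhc]; group
  -- an element of `W ⊓ K` outside `U`
  have hBU : ¬ B ≤ U := by
    intro hle
    apply hWU
    have hUW : U ≤ Subgroup.normalizer (W : Set G) := hUP.trans hPW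
    obtain ⟨L, hL⟩ : ∃ L, L = W ⊔ U := ⟨_, rfl⟩
    have hLP : L ≤ (P : Subgroup G) := hL ▸ sup_le hWP hUP
    have hLp : IsPGroup p L := P.2.to_le hLP
    by_contra hWU'
    have hne : U ≠ L := by
      intro h
      apply hWU'
      rw [h, hL]; exact le_sup_left
    have hlt := Cfsg.Agent.Lead.Alp.card_lt_inf_normalizer hLp (hL ▸ le_sup_right : U ≤ L) hne
    have hsub : L ⊓ Subgroup.normalizer (U : Set G) ≤ U := by
      intro x hx
      have hxL : x ∈ W ⊔ U := hL ▸ hx.1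
      obtain ⟨n, hn, a, ha, rfl⟩ := Cfsg.Agent.Helper1.mem_sup_of_le_normalizer hUW hxL
      have hnK : n ∈ K := by
        rw [hK]
        have : n = (n * a) * a⁻¹ := by group
        rw [this]
        exact Subgroup.mul_mem _ hx.2 (Subgroup.inv_mem _ (Subgroup.le_normalizer ha))
      have hnB : n ∈ B := hB ▸ ⟨hn, hnK⟩
      exact U.mul_mem (hle hnB) ha
    exact absurd (Subgroup.card_le_of_le hsub) (not_le.2 hlt)
  obtain ⟨A', hA'⟩ : ∃ A', A' = U ⊔ B := ⟨_, rfl⟩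
  have hBP : B ≤ (P : Subgroup G) := hBW.trans hWP
  have hA'P : A' ≤ (P : Subgroup G) := hA' ▸ sup_le hUP hBP
  have hUA' : U ≤ A' := hA' ▸ le_sup_left
  have hcardA' : Nat.card U < Nat.card A' := by
    apply Cfsg.Agent.Helper1.card_lt_card_of_lt
    refine lt_of_le_of_ne hUA' ?_
    intro h
    apply hBU
    rw [h, hA']; exact le_sup_right
  -- the Sylow subgroup of `K`
  have hTp : IsPGroup p ((P : Subgroup G) ⊓ K : Subgroup G) := P.2.to_le inf_le_left
  have hTcard := card_eq_ppart_of_relIndex (inf_le_right) hTp hUsyl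
  intro k hk
  obtain ⟨Tk, hTk⟩ : ∃ Tk, Tk = ((P : Subgroup G) ⊓ K).map (MulAut.conj k).toMonoidHom :=
    ⟨_, rfl⟩
  have hTkK : Tk ≤ K := by
    rw [hTk]
    rintro _ ⟨t, ht, rfl⟩
    exact K.mul_mem (K.mul_mem hk ht.2) (K.inv_mem hk)
  have hTkp : IsPGroup p Tk := hTk ▸ hTp.map _
  have hTkcard : Nat.card Tk = p ^ (Nat.card K).factorization p := by
    rw [hTk, card_map_conj]; exact hTcard
  obtain ⟨c, hcC, hcB⟩ := exists_conj_le_of_pgroup_quotient hYK hKY hCY hYC hpow hTkK hTkp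
    hTkcard hBY hBp
  have hcU : c ∈ Subgroup.centralizer (U : Set G) := hC ▸ hcC
  -- `k' = c⁻¹ k` conjugates `A'` into `P`
  have hk' : conjR (c⁻¹ * k) (A' : Set G) ⊆ (P : Subgroup G) := by
    rw [conjR_coe]
    have hle : A'.map (MulAut.conj (c⁻¹ * k)⁻¹).toMonoidHom ≤ (P : Subgroup G) := by
      rw [hA', Subgroup.map_sup]
      apply sup_le
      · rintro _ ⟨u, hu, rfl⟩
        have h1 := Subgroup.mem_centralizer_iff.1 hcU u hu
        have e : (MulAut.conj (c⁻¹ * k)⁻¹).toMonoidHom u = k⁻¹ * u * k := by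
          simp only [MulEquiv.coe_toMonoidHom, MulAut.conj_apply]
          have : (c⁻¹ * k)⁻¹ * u * (c⁻¹ * k)⁻¹⁻¹ = k⁻¹ * (c * u) * c⁻¹ * k := by group
          rw [this, ← h1]; group
        rw [e]
        apply hUP
        have := hKconjU k⁻¹ (K.inv_mem hk) u hu
        simpa using this
      · rintro _ ⟨b, hb, rfl⟩
        have h1 : c * b * c⁻¹ ∈ Tk := hcB ⟨b, hb, by simp⟩
        rw [hTk] at h1
        obtain ⟨t, ht, hte⟩ := h1
        have e : (MulAut.conj (c⁻¹ * k)⁻¹).toMonoidHom b = t := by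
          simp only [MulEquiv.coe_toMonoidHom, MulAut.conj_apply] at hte ⊢
          have : (c⁻¹ * k)⁻¹ * b * (c⁻¹ * k)⁻¹⁻¹ = k⁻¹ * (c * b * c⁻¹) * k := by group
          rw [this, ← hte]; group
        rw [e]
        exact ht.1
    exact hle
  obtain ⟨c₂, hc₂, h₂, hh₂, hk2⟩ := hlarger A' hA'P hcardA' (c⁻¹ * k) hk'
  refine ⟨c * c₂, Subgroup.mul_mem _ hcU (Subgroup.centralizer_le (by exact_mod_cast hUA') hc₂),
    h₂, hh₂, ?_⟩
  rw [mul_assoc, ← hk2]; group

end NF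
end Cfsg.Agent.Helper1
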