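import Mathlib
import Cfsg.Agent.Helper1.NFb
import Cfsg.Agent.Lead.FamilyTransfer

set_option autoImplicit false

/-!
Control of strong fusion from a normal subgroup: the core theorem.  If `W ≤ P ∩ N` is normalized
by `P` and `N_G(W)` controls strong fusion in `P ∩ N` with respect to `G`, then `N_G(W)` controls
strong fusion in `P`.
-/

namespace Cfsg.Agent.Helper1
namespace NF

open Cfsg Cfsg.Agent.Lead

variable {G : Type*} [Group G] [Finite G] {p : ℕ} [hp : Fact p.Prime]

theorem control_core (N : Subgroup G) [hN : N.Normal] (P : Sylow p G) (W : Subgroup G)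
    (hWN : W ≤ N) (hWP : W ≤ (P : Subgroup G))
    (hPW : (P : Subgroup G) ≤ Subgroup.normalizer (W : Set G))
    (hctrl : ∀ B : Subgroup G, B ≤ (P : Subgroup G) ⊓ N → ∀ g : G,
      B.map (MulAut.conj g).toMonoidHom ≤ (P : Subgroup G) ⊓ N →
      ∃ h ∈ Subgroup.normalizer (W : Set G), ∃ c ∈ Subgroup.centralizer (B : Set G), g = h * c) :
    ∀ A : Subgroup G, A ≤ (P : Subgroup G) → ∀ g : G,
      A.map (MulAut.conj g).toMonoidHom ≤ (P : Subgroup G) →
      ∃ h ∈ Subgroup.normalizer (W : Set G), ∃ c ∈ Subgroup.centralizer (A : Set G),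
        g = h * c := by
  obtain ⟨𝓕, h𝓕def⟩ : ∃ 𝓕 : Set (Subgroup G), 𝓕 = {U | U ≤ (P : Subgroup G) ∧
      ¬ p ∣ ((P : Subgroup G) ⊓ Subgroup.normalizer (U : Set G)).relIndex
        (Subgroup.normalizer (U : Set G))} := ⟨_, rfl⟩
  have h𝓕 : ∀ U ∈ 𝓕, U ≤ (P : Subgroup G) := by
    intro U hU
    rw [h𝓕def] at hU
    exact hU.1
  have hfam : ∀ T : Subgroup G, T ≤ (P : Subgroup G) → ∃ U ∈ 𝓕,
      (∃ g : G, T.map (MulAut.conj g).toMonoidHom = U) ∧
      ¬ p ∣ ((P : Subgroup G) ⊓ Subgroup.normalizer ((U : Subgroup G) : Set G)).relIndex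
        (Subgroup.normalizer ((U : Subgroup G) : Set G)) := by
    intro T hT
    obtain ⟨g, hle, hsyl⟩ := exists_fullyNormalized_conj P T hT
    refine ⟨_, ?_, ⟨g, rfl⟩, hsyl⟩
    rw [h𝓕def]
    exact ⟨hle, hsyl⟩
  have hchain := conjChain_of_family P 𝓕 h𝓕 hfam
  have hW0 : W ≤ (P : Subgroup G) ⊓ N := le_inf hWP hWN
  have main : ∀ n : ℕ, ∀ U ∈ 𝓕, Nat.card (P : Subgroup G) - Nat.card U = n →
      ∀ k ∈ Subgroup.normalizer (U : Set G),
        CFact (Subgroup.normalizer (W : Set G)) (U : Set G) k := by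
    intro n
    induction n using Nat.strong_induction_on with
    | _ n ih =>
      intro U hU hn
      have hUP : U ≤ (P : Subgroup G) := h𝓕 U hU
      have hUsyl : ¬ p ∣ ((P : Subgroup G) ⊓ Subgroup.normalizer (U : Set G)).relIndex
          (Subgroup.normalizer (U : Set G)) := by
        rw [h𝓕def] at hU
        exact hU.2
      by_cases hWU : W ≤ U
      · intro k hk
        have hmap : W.map (MulAut.conj k).toMonoidHom ≤ (P : Subgroup G) ⊓ N := by
          rintro _ ⟨w, hw, rfl⟩
          refine ⟨hUP ((Subgroup.mem_normalizer_iff.mp hk w).mp (hWU hw)), ?_⟩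
          exact hN.conj_mem w (hWN hw) k
        obtain ⟨h, hh, c, hc, rfl⟩ := hctrl W hW0 k hmap
        refine ⟨1, Subgroup.one_mem _, h * c, ?_, by simp⟩
        exact Subgroup.mul_mem _ hh (Subgroup.centralizer_le_normalizer _ hc)
      · apply good_of_larger N P W hWN hWP hPW hctrl U hUP hUsyl hWU
        intro A' hA'P hcard k hk
        have hch := hchain A' k hA'P hk
        apply cfact_of_chain (m := Nat.card U + 1) ?_ hch
        · intro T hT
          have := Subgroup.card_le_of_le (show A' ≤ T from hT)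
          omega
        · intro T hT hcardT x hx
          have hTP := Subgroup.card_le_of_le (h𝓕 T hT)
          apply ih (Nat.card (P : Subgroup G) - Nat.card T) (by omega) T hT rfl x hx
  intro A hA g hg
  have hconj : conjR g⁻¹ (A : Set G) ⊆ (P : Subgroup G) := by
    rw [conjR_eq_map_conj_inv]
    exact hg
  have hch := hchain A g⁻¹ hA hconj
  have hfact : CFact (Subgroup.normalizer (W : Set G)) (A : Set G) g⁻¹ := by
    apply cfact_of_chain (m := 0) ?_ hch (fun _ _ => Nat.zero_le _)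
    intro T hT _ x hx
    exact main _ T hT rfl x hx
  obtain ⟨c, hc, h, hh, e⟩ := hfact
  refine ⟨h⁻¹, Subgroup.inv_mem _ hh, c⁻¹, Subgroup.inv_mem _ hc, ?_⟩
  have : g = (g⁻¹)⁻¹ := (inv_inv g).symm
  rw [this, e]; group

end NF
end Cfsg.Agent.Helper1
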