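import Mathlib
import Cfsg.Agent.Helper1.NFc
import Cfsg.Agent.Lead.FusionNormalSub

set_option autoImplicit false

/-!
Control of strong fusion from a normal subgroup `N`: if `V ≤ P ∩ N` and `N_N(V)` controls strong
fusion in `P ∩ N` with respect to `N`, then the normalizer of the subgroup `W` generated by the
`N_G(P ∩ N)`-conjugates of `V` controls strong fusion in `P` with respect to `G`.
-/

namespace Cfsg.Agent.Helper1
namespace NF

open Cfsg Cfsg.Agent.Lead

variable {G : Type*} [Group G] [Finite G] {p : ℕ} [hp : Fact p.Prime]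

/-- `N_N(V')` controls strong fusion in `R` with respect to `N`. -/
def Ctl (N R V' : Subgroup G) : Prop :=
  ∀ A : Subgroup G, A ≤ R → ∀ n ∈ N, A.map (MulAut.conj n).toMonoidHom ≤ R →
    ∃ h ∈ N ⊓ Subgroup.normalizer (V' : Set G), ∃ c ∈ N ⊓ Subgroup.centralizer (A : Set G),
      n = h * c

omit [Finite G] in
theorem conj_mem_of_mem_normalizer {R : Subgroup G} {x r : G}
    (hx : x ∈ Subgroup.normalizer (R : Set G)) (hr : r ∈ R) : x * r * x⁻¹ ∈ R :=
  (Subgroup.mem_normalizer_iff.mp hx r).mp hr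

omit [Finite G] in
theorem conj_inv_mem_of_mem_normalizer {R : Subgroup G} {x r : G}
    (hx : x ∈ Subgroup.normalizer (R : Set G)) (hr : r ∈ R) : x⁻¹ * r * x ∈ R := by
  have := (Subgroup.mem_normalizer_iff.mp (Subgroup.inv_mem _ hx) r).mp hr
  simpa using this

/-- conjugating the controlling subgroup by an element of `N_G(R)` -/
theorem Ctl.conj {N R V : Subgroup G} [hN : N.Normal] (h : Ctl N R V) {x : G}
    (hx : x ∈ Subgroup.normalizer (R : Set G)) :
    Ctl N R (V.map (MulAut.conj x).toMonoidHom) := by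
  intro A hA n hn hAn
  have hA' : A.map (MulAut.conj x⁻¹).toMonoidHom ≤ R := by
    rintro _ ⟨a, ha, rfl⟩
    have := conj_inv_mem_of_mem_normalizer hx (hA ha)
    simpa using this
  have hn' : x⁻¹ * n * x ∈ N := by
    have := hN.conj_mem n hn x⁻¹
    simpa using this
  have hAn' : (A.map (MulAut.conj x⁻¹).toMonoidHom).map
      (MulAut.conj (x⁻¹ * n * x)).toMonoidHom ≤ R := by
    rintro _ ⟨_, ⟨a, ha, rfl⟩, rfl⟩
    have h1 : n * a * n⁻¹ ∈ R := hAn ⟨a, ha, by simp⟩
    have h2 := conj_inv_mem_of_mem_normalizer hx h1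
    have e : (MulAut.conj (x⁻¹ * n * x)).toMonoidHom ((MulAut.conj x⁻¹).toMonoidHom a) =
        x⁻¹ * (n * a * n⁻¹) * x := by
      simp only [MulEquiv.coe_toMonoidHom, MulAut.conj_apply]; group
    rw [e]; exact h2
  obtain ⟨h', hh', c', hc', e⟩ := h _ hA' _ hn' hAn'
  refine ⟨x * h' * x⁻¹, ⟨hN.conj_mem h' hh'.1 x, ?_⟩, x * c' * x⁻¹, ⟨hN.conj_mem c' hc'.1 x, ?_⟩, ?_⟩
  · apply mem_normalizer_of_conj_mem_of_finite
    rintro _ ⟨v, hv, rfl⟩
    have h1 : h' * v * h'⁻¹ ∈ V := conj_mem_of_mem_normalizer hh'.2 hv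
    refine ⟨_, h1, ?_⟩
    simp only [MulEquiv.coe_toMonoidHom, MulAut.conj_apply]; group
  · show x * c' * x⁻¹ ∈ Subgroup.centralizer (A : Set G)
    rw [Subgroup.mem_centralizer_iff]
    intro a ha
    have h1 : x⁻¹ * a * x ∈ A.map (MulAut.conj x⁻¹).toMonoidHom := ⟨a, ha, by simp⟩
    have h2 := Subgroup.mem_centralizer_iff.1 hc'.2 _ h1
    calc a * (x * c' * x⁻¹) = x * ((x⁻¹ * a * x) * c') * x⁻¹ := by group
      _ = x * (c' * (x⁻¹ * a * x)) * x⁻¹ := by rw [h2]
      _ = x * c' * x⁻¹ * a := by group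
  · have : n = x * (x⁻¹ * n * x) * x⁻¹ := by group
    rw [this, e]; group

omit [Finite G] in
/-- simultaneous control for a finite set of controlling subgroups -/
theorem ctl_finset {N R : Subgroup G} (s : Finset (Subgroup G))
    (hs : ∀ V' ∈ s, V' ≤ R ∧ Ctl N R V') :
    ∀ A : Subgroup G, A ≤ R → ∀ n ∈ N, A.map (MulAut.conj n).toMonoidHom ≤ R →
      ∃ h ∈ N, (∀ V' ∈ s, h ∈ Subgroup.normalizer (V' : Set G)) ∧
        ∃ c ∈ N ⊓ Subgroup.centralizer (A : Set G), n = h * c := by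
  classical
  induction s using Finset.induction_on with
  | empty =>
    intro A _ n hn _
    exact ⟨n, hn, fun V' hV' => absurd hV' (Finset.notMem_empty _), 1, Subgroup.one_mem _, by simp⟩
  | insert V₁ s hV₁ ih =>
    intro A hA n hn hAn
    have hs' : ∀ V' ∈ s, V' ≤ R ∧ Ctl N R V' := fun V' hV' => hs V' (Finset.mem_insert_of_mem hV')
    obtain ⟨h, hh, hhs, c, hc, rfl⟩ := ih hs' A hA n hn hAn
    obtain ⟨hV₁R, hV₁ctl⟩ := hs V₁ (Finset.mem_insert_self _ _)
    obtain ⟨B, hB⟩ : ∃ B : Subgroup G, B = A ⊔ ⨆ V' ∈ s, V' := ⟨_, rfl⟩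
    have hBR : B ≤ R := by
      rw [hB]
      refine sup_le hA (iSup₂_le fun V' hV' => (hs' V' hV').1)
    have hBh : B.map (MulAut.conj h).toMonoidHom ≤ R := by
      rw [hB, Subgroup.map_sup, Subgroup.map_iSup]
      refine sup_le ?_ (iSup_le fun V' => ?_)
      · rintro _ ⟨a, ha, rfl⟩
        have h1 : (h * c) * a * (h * c)⁻¹ ∈ R := hAn ⟨a, ha, rfl⟩
        have h2 := Subgroup.mem_centralizer_iff.1 hc.2 a ha
        have e : (MulAut.conj h).toMonoidHom a = (h * c) * a * (h * c)⁻¹ := by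
          show h * a * h⁻¹ = (h * c) * a * (h * c)⁻¹
          calc h * a * h⁻¹ = h * (a * c) * c⁻¹ * h⁻¹ := by group
            _ = h * (c * a) * c⁻¹ * h⁻¹ := by rw [h2]
            _ = (h * c) * a * (h * c)⁻¹ := by group
        rw [e]; exact h1
      · rw [Subgroup.map_iSup]
        refine iSup_le fun hV' => ?_
        rintro _ ⟨v, hv, rfl⟩
        exact (hs' V' hV').1 (conj_mem_of_mem_normalizer (hhs V' hV') hv)
    obtain ⟨h₁, hh₁, c₁, hc₁, e⟩ := hV₁ctl B hBR h hh hBh
    have hAB : A ≤ B := hB ▸ le_sup_left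
    refine ⟨h₁, hh₁.1, ?_, c₁ * c, ⟨N.mul_mem hc₁.1 hc.1, ?_⟩, ?_⟩
    · intro V' hV'
      rcases Finset.mem_insert.1 hV' with rfl | hV'
      · exact hh₁.2
      · have hV'B : V' ≤ B := by
          rw [hB]
          exact le_sup_of_le_right (le_iSup₂_of_le V' hV' le_rfl)
        have h1 : c₁ ∈ Subgroup.normalizer (V' : Set G) :=
          Subgroup.centralizer_le_normalizer _
            (Subgroup.centralizer_le (by exact_mod_cast hV'B) hc₁.2)
        have : h₁ = h * c₁⁻¹ := by rw [e]; group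
        rw [this]
        exact Subgroup.mul_mem _ (hhs V' hV') (Subgroup.inv_mem _ h1)
    · exact Subgroup.mul_mem _ (Subgroup.centralizer_le (by exact_mod_cast hAB) hc₁.2) hc.2
    · rw [e]; group

/-- The theorem: control of strong fusion passes from a normal subgroup to the group. -/
theorem control_of_normal (N : Subgroup G) [hN : N.Normal] (P : Sylow p G) (V : Subgroup G)
    (hV : V ≤ (P : Subgroup G) ⊓ N)
    (hctrl : ∀ A : Subgroup G, A ≤ (P : Subgroup G) ⊓ N → ∀ n ∈ N,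
      A.map (MulAut.conj n).toMonoidHom ≤ (P : Subgroup G) ⊓ N →
      ∃ h ∈ N ⊓ Subgroup.normalizer (V : Set G), ∃ c ∈ N ⊓ Subgroup.centralizer (A : Set G),
        n = h * c)
    (W : Subgroup G)
    (hW : W = Subgroup.closure (⋃ x ∈ Subgroup.normalizer
      (((P : Subgroup G) ⊓ N : Subgroup G) : Set G),
      ((V.map (MulAut.conj x).toMonoidHom : Subgroup G) : Set G))) :
    ∀ A : Subgroup G, A ≤ (P : Subgroup G) → ∀ g : G,
      A.map (MulAut.conj g).toMonoidHom ≤ (P : Subgroup G) →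
      ∃ h ∈ Subgroup.normalizer (W : Set G), ∃ c ∈ Subgroup.centralizer (A : Set G),
        g = h * c := by
  classical
  obtain ⟨R, hR⟩ : ∃ R, R = (P : Subgroup G) ⊓ N := ⟨_, rfl⟩
  rw [← hR] at hV hctrl hW
  have hctlV : Ctl N R V := hctrl
  -- the conjugates
  have hVx : ∀ x ∈ Subgroup.normalizer (R : Set G), V.map (MulAut.conj x).toMonoidHom ≤ R := by
    rintro x hx _ ⟨v, hv, rfl⟩
    exact conj_mem_of_mem_normalizer hx (hV hv)
  have hVxW : ∀ x ∈ Subgroup.normalizer (R : Set G), V.map (MulAut.conj x).toMonoidHom ≤ W := by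
    intro x hx y hy
    rw [hW]
    apply Subgroup.subset_closure
    exact Set.mem_biUnion hx hy
  have hWR : W ≤ R := by
    rw [hW, Subgroup.closure_le]
    intro y hy
    obtain ⟨x, hx, hy⟩ := Set.mem_iUnion₂.1 hy
    exact hVx x hx hy
  -- a criterion for normalizing `W`
  have hnormW : ∀ h : G, (∀ x ∈ Subgroup.normalizer (R : Set G), ∀ y ∈
      V.map (MulAut.conj x).toMonoidHom, h * y * h⁻¹ ∈ W) →
      h ∈ Subgroup.normalizer (W : Set G) := by
    intro h hh
    apply mem_normalizer_of_conj_mem_of_finite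
    intro y hy
    rw [hW] at hy
    induction hy using Subgroup.closure_induction with
    | mem y hy =>
      obtain ⟨x, hx, hy⟩ := Set.mem_iUnion₂.1 hy
      exact hh x hx y hy
    | one => simp
    | mul y z _ _ hy hz =>
      have : h * (y * z) * h⁻¹ = (h * y * h⁻¹) * (h * z * h⁻¹) := by group
      rw [this]; exact W.mul_mem hy hz
    | inv y _ hy =>
      have : h * y⁻¹ * h⁻¹ = (h * y * h⁻¹)⁻¹ := by group
      rw [this]; exact W.inv_mem hy
  have hNRW : Subgroup.normalizer (R : Set G) ≤ Subgroup.normalizer (W : Set G) := by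
    intro z hz
    apply hnormW
    rintro x hx _ ⟨v, hv, rfl⟩
    apply hVxW (z * x) (Subgroup.mul_mem _ hz hx)
    refine ⟨v, hv, ?_⟩
    simp only [MulEquiv.coe_toMonoidHom, MulAut.conj_apply]; group
  have hPNR : (P : Subgroup G) ≤ Subgroup.normalizer (R : Set G) := by
    rw [hR]; exact Cfsg.Agent.Helper1.le_normalizer_inf_normal _ _
  -- simultaneous control
  obtain ⟨s, hs⟩ : ∃ s : Finset (Subgroup G), ∀ V' : Subgroup G, V' ∈ s ↔
      ∃ x ∈ Subgroup.normalizer (R : Set G), V' = V.map (MulAut.conj x).toMonoidHom := by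
    refine ⟨(Set.toFinite {V' : Subgroup G | ∃ x ∈ Subgroup.normalizer (R : Set G),
      V' = V.map (MulAut.conj x).toMonoidHom}).toFinset, fun V' => ?_⟩
    simp only [Set.Finite.mem_toFinset, Set.mem_ofPred_eq]
  have hsgood : ∀ V' ∈ s, V' ≤ R ∧ Ctl N R V' := by
    intro V' hV'
    obtain ⟨x, hx, rfl⟩ := (hs V').1 hV'
    exact ⟨hVx x hx, hctlV.conj hx⟩
  have hsim := ctl_finset s hsgood
  have hctlW : ∀ B : Subgroup G, B ≤ R → ∀ g : G, B.map (MulAut.conj g).toMonoidHom ≤ R →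
      ∃ h ∈ Subgroup.normalizer (W : Set G), ∃ c ∈ Subgroup.centralizer (B : Set G),
        g = h * c := by
    intro B hB g hBg
    obtain ⟨x, hx, n, hn, rfl⟩ := Fusion.frattini_decomp p P N g
    rw [← hR] at hx
    have hBn : B.map (MulAut.conj n).toMonoidHom ≤ R := by
      rintro _ ⟨b, hb, rfl⟩
      have h1 : (x * n) * b * (x * n)⁻¹ ∈ R := hBg ⟨b, hb, rfl⟩
      have h2 := conj_inv_mem_of_mem_normalizer hx h1
      have e : (MulAut.conj n).toMonoidHom b = x⁻¹ * ((x * n) * b * (x * n)⁻¹) * x := by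
        simp only [MulEquiv.coe_toMonoidHom, MulAut.conj_apply]; group
      rw [e]; exact h2
    obtain ⟨h, -, hhs, c, hc, rfl⟩ := hsim B hB n hn hBn
    refine ⟨x * h, Subgroup.mul_mem _ (hNRW hx) ?_, c, hc.2, by group⟩
    apply hnormW
    intro x' hx' y hy
    apply hVxW x' hx'
    exact conj_mem_of_mem_normalizer (hhs _ ((hs _).2 ⟨x', hx', rfl⟩)) hy
  have hWN : W ≤ N := hWR.trans (hR ▸ inf_le_right)
  have hWP : W ≤ (P : Subgroup G) := hWR.trans (hR ▸ inf_le_left)
  have hPW : (P : Subgroup G) ≤ Subgroup.normalizer (W : Set G) := hPNR.trans hNRW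
  rw [hR] at hctlW
  exact control_core N P W hWN hWP hPW hctlW

end NF
end Cfsg.Agent.Helper1
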