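import Mathlib
import Cfsg.Agent.Helper1.NFc

set_option autoImplicit false

/-!
Control of strong fusion: an induction skeleton over fully normalized subgroups, and lifting
control through a central `p`-subgroup.
-/

namespace Cfsg.Agent.Helper1
namespace NF

open Cfsg Cfsg.Agent.Lead

variable {G : Type*} [Group G] [Finite G] {p : ℕ} [hp : Fact p.Prime]

/-- the induction skeleton: it suffices to factorize the normalizers of fully normalized
subgroups, assuming factorization for all larger subgroups -/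
theorem control_of_step (P : Sylow p G) (H : Subgroup G)
    (hstep : ∀ U : Subgroup G, U ≤ (P : Subgroup G) →
      ¬ p ∣ ((P : Subgroup G) ⊓ Subgroup.normalizer (U : Set G)).relIndex
        (Subgroup.normalizer (U : Set G)) →
      (∀ A' : Subgroup G, A' ≤ (P : Subgroup G) → Nat.card U < Nat.card A' →
        ∀ k : G, conjR k (A' : Set G) ⊆ (P : Subgroup G) → CFact H (A' : Set G) k) →
      ∀ k ∈ Subgroup.normalizer (U : Set G), CFact H (U : Set G) k) :
    ∀ A : Subgroup G, A ≤ (P : Subgroup G) → ∀ g : G,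
      A.map (MulAut.conj g).toMonoidHom ≤ (P : Subgroup G) →
      ∃ h ∈ H, ∃ c ∈ Subgroup.centralizer (A : Set G), g = h * c := by
  obtain ⟨𝓕, h𝓕def⟩ : ∃ 𝓕 : Set (Subgroup G), 𝓕 = {U | U ≤ (P : Subgroup G) ∧
      ¬ p ∣ ((P : Subgroup G) ⊓ Subgroup.normalizer (U : Set G)).relIndex
        (Subgroup.normalizer (U : Set G))} := ⟨_, rfl⟩
  have h𝓕 : ∀ U ∈ 𝓕, U ≤ (P : Subgroup G) := by
    intro U hU
    rw [h𝓕def] at hU
    exact hU.1
  have hfam : ∀ T : Subgroup G, T ≤ (P : Subgroup G) → ∃ U ∈ 𝓕,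
      (∃ g : G, T.map (MulAut.conj g).toMonoidHom = U) ∧
      ¬ p ∣ ((P : Subgroup G) ⊓ Subgroup.normalizer ((U : Subgroup G) : Set G)).relIndex
        (Subgroup.normalizer ((U : Subgroup G) : Set G)) := by
    intro T hT
    obtain ⟨g, hle, hsyl⟩ := exists_fullyNormalized_conj P T hT
    refine ⟨_, ?_, ⟨g, rfl⟩, hsyl⟩
    rw [h𝓕def]
    exact ⟨hle, hsyl⟩
  have hchain := conjChain_of_family P 𝓕 h𝓕 hfam
  have main : ∀ n : ℕ, ∀ U ∈ 𝓕, Nat.card (P : Subgroup G) - Nat.card U = n →
      ∀ k ∈ Subgroup.normalizer (U : Set G), CFact H (U : Set G) k := by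
    intro n
    induction n using Nat.strong_induction_on with
    | _ n ih =>
      intro U hU hn
      have hUP : U ≤ (P : Subgroup G) := h𝓕 U hU
      have hUsyl : ¬ p ∣ ((P : Subgroup G) ⊓ Subgroup.normalizer (U : Set G)).relIndex
          (Subgroup.normalizer (U : Set G)) := by
        rw [h𝓕def] at hU
        exact hU.2
      apply hstep U hUP hUsyl
      intro A' hA'P hcard k hk
      have hch := hchain A' k hA'P hk
      apply cfact_of_chain (m := Nat.card U + 1) ?_ hch
      · intro T hT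
        have := Subgroup.card_le_of_le (show A' ≤ T from hT)
        omega
      · intro T hT hcardT x hx
        have hTP := Subgroup.card_le_of_le (h𝓕 T hT)
        apply ih (Nat.card (P : Subgroup G) - Nat.card T) (by omega) T hT rfl x hx
  intro A hA g hg
  have hconj : conjR g⁻¹ (A : Set G) ⊆ (P : Subgroup G) := by
    rw [conjR_eq_map_conj_inv]
    exact hg
  have hch := hchain A g⁻¹ hA hconj
  have hfact : CFact H (A : Set G) g⁻¹ := by
    apply cfact_of_chain (m := 0) ?_ hch (fun _ _ => Nat.zero_le _)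
    intro T hT _ x hx
    exact main _ T hT rfl x hx
  obtain ⟨c, hc, h, hh, e⟩ := hfact
  refine ⟨h⁻¹, Subgroup.inv_mem _ hh, c⁻¹, Subgroup.inv_mem _ hc, ?_⟩
  have : g = (g⁻¹)⁻¹ := (inv_inv g).symm
  rw [this, e]; group

/-- Lifting control of strong fusion through a central `p`-subgroup. -/
theorem central_lift (Zc : Subgroup G) [hZn : Zc.Normal] (hZc : Zc ≤ Subgroup.center G)
    (hZp : IsPGroup p Zc) (S : Sylow p G) (V : Subgroup G) (hZV : Zc ≤ V)
    (hSV : (S : Subgroup G) ≤ Subgroup.normalizer (V : Set G))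
    (hbar : ∀ Ab : Subgroup (G ⧸ Zc), Ab ≤ (S : Subgroup G).map (QuotientGroup.mk' Zc) →
      ∀ gb : G ⧸ Zc, Ab.map (MulAut.conj gb).toMonoidHom ≤
        (S : Subgroup G).map (QuotientGroup.mk' Zc) →
      ∃ hb ∈ Subgroup.normalizer ((V.map (QuotientGroup.mk' Zc) : Subgroup (G ⧸ Zc)) :
          Set (G ⧸ Zc)),
        ∃ cb ∈ Subgroup.centralizer (Ab : Set (G ⧸ Zc)), gb = hb * cb) :
    ∀ A : Subgroup G, A ≤ (S : Subgroup G) → ∀ g : G,
      A.map (MulAut.conj g).toMonoidHom ≤ (S : Subgroup G) →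
      ∃ h ∈ Subgroup.normalizer (V : Set G), ∃ c ∈ Subgroup.centralizer (A : Set G),
        g = h * c := by
  have hZS : Zc ≤ (S : Subgroup G) := hZp.le_sylow_of_normal S
  have hcomm : ∀ z ∈ Zc, ∀ x : G, x * z = z * x := by
    intro z hz x
    exact (Subgroup.mem_center_iff.1 (hZc hz) x)
  apply control_of_step S
  intro U hUS hUsyl hlarger k hk
  by_cases hZU : Zc ≤ U
  · -- the direct case
    obtain ⟨hb, hhb, cb, hcb, e⟩ := hbar (U.map (QuotientGroup.mk' Zc)) (Subgroup.map_mono hUS)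
      (QuotientGroup.mk' Zc k) (by
        rintro _ ⟨_, ⟨u, hu, rfl⟩, rfl⟩
        refine ⟨k * u * k⁻¹, hUS ((Subgroup.mem_normalizer_iff.mp hk u).mp hu), ?_⟩
        simp)
    obtain ⟨x, rfl⟩ := QuotientGroup.mk'_surjective Zc hb
    obtain ⟨c, hc⟩ : ∃ c, c = x⁻¹ * k := ⟨_, rfl⟩
    have hcb' : cb = QuotientGroup.mk' Zc c := by
      rw [hc, map_mul, map_inv, e]; group
    -- `x` normalizes `V`
    have hxV : x ∈ Subgroup.normalizer (V : Set G) := by
      apply mem_normalizer_of_conj_mem_of_finite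
      intro v hv
      have h1 : QuotientGroup.mk' Zc x * QuotientGroup.mk' Zc v * (QuotientGroup.mk' Zc x)⁻¹ ∈
          V.map (QuotientGroup.mk' Zc) :=
        (Subgroup.mem_normalizer_iff.mp hhb _).mp ⟨v, hv, rfl⟩
      obtain ⟨v', hv', hv'e⟩ := h1
      have h2 : v'⁻¹ * (x * v * x⁻¹) ∈ Zc := by
        rw [← QuotientGroup.eq_one_iff, ← QuotientGroup.mk'_apply, map_mul, map_inv, hv'e]
        simp only [map_mul, map_inv]
        group
      have : x * v * x⁻¹ = v' * (v'⁻¹ * (x * v * x⁻¹)) := by group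
      rw [this]
      exact V.mul_mem hv' (hZV h2)
    -- `c` stabilizes `U ≥ Zc ≥ 1`
    have hcstab : ∀ u ∈ U, u⁻¹ * (c⁻¹ * u * c) ∈ Zc := by
      intro u hu
      rw [← QuotientGroup.eq_one_iff, ← QuotientGroup.mk'_apply]
      have h1 := Subgroup.mem_centralizer_iff.1 hcb _ ⟨u, hu, rfl⟩
      rw [hcb'] at h1
      simp only [map_mul, map_inv]
      rw [mul_assoc, h1]
      group
    have hcN : c ∈ Subgroup.normalizer (U : Set G) := by
      have h1 : c⁻¹ ∈ Subgroup.normalizer (U : Set G) := by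
        apply mem_normalizer_of_conj_mem_of_finite
        intro u hu
        have h2 := hZU (hcstab u hu)
        have : c⁻¹ * u * c⁻¹⁻¹ = u * (u⁻¹ * (c⁻¹ * u * c)) := by group
        rw [this]
        exact U.mul_mem hu h2
      simpa using Subgroup.inv_mem _ h1
    have hcd : c ∈ FT.stabGroup Zc U := ⟨hcN, hcstab⟩
    obtain ⟨z, hz, s, hs, hczs⟩ := FT.stab_mem_centralizer_mul S Zc hZp
      (fun y => ⟨0, by
        rw [Subgroup.mem_centralizer_iff]
        intro t ht
        exact (hcomm t ht _).symm⟩) U hUsyl c hcd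
    have hxN : x ∈ Subgroup.normalizer (U : Set G) := by
      have : x = k * c⁻¹ := by rw [hc]; group
      rw [this]
      exact Subgroup.mul_mem _ hk (Subgroup.inv_mem _ hcN)
    refine ⟨x * z * x⁻¹, conj_mem_centralizer_of_mem_normalizer hxN hz, x * s,
      Subgroup.mul_mem _ hxV (hSV hs.1), ?_⟩
    have : k = x * c := by rw [hc]; group
    rw [this, hczs]; group
  · -- enlarge `U` by `Zc`
    obtain ⟨U₁, hU₁⟩ : ∃ U₁, U₁ = U ⊔ Zc := ⟨_, rfl⟩
    have hUU₁ : U ≤ U₁ := hU₁ ▸ le_sup_left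
    have hU₁S : U₁ ≤ (S : Subgroup G) := hU₁ ▸ sup_le hUS hZS
    have hcard : Nat.card U < Nat.card U₁ := by
      apply Cfsg.Agent.Helper1.card_lt_card_of_lt
      refine lt_of_le_of_ne hUU₁ ?_
      intro h
      apply hZU
      rw [h, hU₁]; exact le_sup_right
    have hkU₁ : conjR k (U₁ : Set G) ⊆ (S : Subgroup G) := by
      rw [conjR_coe]
      have hle : U₁.map (MulAut.conj k⁻¹).toMonoidHom ≤ (S : Subgroup G) := by
        rw [hU₁, Subgroup.map_sup]
        apply sup_le
        · rintro _ ⟨u, hu, rfl⟩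
          exact hUS ((Subgroup.mem_normalizer_iff.mp (Subgroup.inv_mem _ hk) u).mp hu)
        · rintro _ ⟨z, hz, rfl⟩
          exact hZS (hZn.conj_mem z hz k⁻¹)
      exact hle
    exact (hlarger U₁ hU₁S hcard k hkU₁).mono (by exact_mod_cast hUU₁)

end NF
end Cfsg.Agent.Helper1
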