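import Mathlib
import Cfsg.Prelude.Def_PLocal

set_option autoImplicit false

/-!
`Z(J(P))` (abelian version) commutes with group isomorphisms, across universes.
-/

namespace Cfsg.Agent.Helper1
namespace ZJFus

section

variable {S : Type*} [Group S] {S' : Type*} [Group S']

theorem isMulCommutative_map' (η : S ≃* S') (A : Subgroup S) (hA : IsMulCommutative A) :
    IsMulCommutative (A.map η.toMonoidHom) := by
  refine ⟨⟨?_⟩⟩
  rintro ⟨_, x, hx, rfl⟩ ⟨_, y, hy, rfl⟩
  apply Subtype.ext
  have := congrArg Subtype.val (mul_comm' (⟨x, hx⟩ : A) ⟨y, hy⟩)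
  show η x * η y = η y * η x
  rw [← map_mul, ← map_mul]
  exact congrArg η this

theorem thompsonSubgroupA_map_le' (η : S ≃* S') :
    (Cfsg.thompsonSubgroupA S).map η.toMonoidHom ≤ Cfsg.thompsonSubgroupA S' := by
  rw [Subgroup.map_le_iff_le_comap]
  apply sSup_le
  intro A hA
  rw [← Subgroup.map_le_iff_le_comap]
  apply le_sSup
  refine ⟨isMulCommutative_map' η A hA.1, ?_⟩
  intro B hB
  have h0 : Nat.card (A.map η.toMonoidHom) = Nat.card A :=
    Subgroup.card_map_of_injective η.injective
  rw [h0]
  have h1 := hA.2 (B.map η.symm.toMonoidHom) (isMulCommutative_map' η.symm B hB)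
  have h2 : Nat.card (B.map η.symm.toMonoidHom) = Nat.card B :=
    Subgroup.card_map_of_injective η.symm.injective
  rwa [h2] at h1

theorem thompsonSubgroupA_map' (η : S ≃* S') :
    (Cfsg.thompsonSubgroupA S).map η.toMonoidHom = Cfsg.thompsonSubgroupA S' := by
  apply le_antisymm (thompsonSubgroupA_map_le' η)
  have h := thompsonSubgroupA_map_le' η.symm
  intro x hx
  exact ⟨η.symm x, h ⟨x, hx, rfl⟩, by simp⟩

theorem centralizer_map' (η : S ≃* S') (K : Subgroup S) :
    (Subgroup.centralizer (K : Set S)).map η.toMonoidHom =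
      Subgroup.centralizer ((K.map η.toMonoidHom : Subgroup S') : Set S') := by
  ext y
  constructor
  · rintro ⟨x, hx, rfl⟩
    rw [Subgroup.mem_centralizer_iff]
    rintro _ ⟨k, hk, rfl⟩
    have := Subgroup.mem_centralizer_iff.1 hx k hk
    show η k * η x = η x * η k
    rw [← map_mul, ← map_mul, this]
  · intro hy
    refine ⟨η.symm y, ?_, by simp⟩
    rw [SetLike.mem_coe, Subgroup.mem_centralizer_iff]
    intro k hk
    have := Subgroup.mem_centralizer_iff.1 hy (η k) ⟨k, hk, rfl⟩
    apply η.injective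
    rw [map_mul, map_mul]
    simpa using this

theorem thompsonSubgroupAOf_map' (η : S ≃* S') (T : Subgroup S) :
    Cfsg.thompsonSubgroupAOf (T.map η.toMonoidHom) =
      (Cfsg.thompsonSubgroupAOf T).map η.toMonoidHom := by
  unfold Cfsg.thompsonSubgroupAOf
  rw [← thompsonSubgroupA_map' (Subgroup.equivMapOfInjective T η.toMonoidHom η.injective),
    Subgroup.map_map, Subgroup.map_map]
  congr 1

theorem centerThompsonAOf_map' (η : S ≃* S') (T : Subgroup S) :
    Cfsg.centerThompsonAOf (T.map η.toMonoidHom) =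
      (Cfsg.centerThompsonAOf T).map η.toMonoidHom := by
  unfold Cfsg.centerThompsonAOf
  rw [Subgroup.map_inf _ _ _ η.injective, centralizer_map', thompsonSubgroupAOf_map']

end

end ZJFus
end Cfsg.Agent.Helper1
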