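import Mathlib
import Cfsg.Agent.Helper1.NFd
import Cfsg.Agent.Helper1.NFf
import Cfsg.Agent.Helper1.ZJFusMap
import Cfsg.Agent.Helper1.ZJFusQdA

set_option autoImplicit false

/-!
Control of strong fusion: transport from a subgroup to the ambient group, and the passage from
`Cfsg.ControlsStrongFusion` to control in a prescribed Sylow subgroup.
-/

namespace Cfsg.Agent.Helper1
namespace NF

open Cfsg Cfsg.Agent.Lead

variable {G : Type*} [Group G] [Finite G] {p : ℕ} [hp : Fact p.Prime]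

omit [Finite G] in
/-- transport of control from the group `↥H` to relative control in `G` -/
theorem ctl_of_subtype (H : Subgroup G) (S' X' : Subgroup ↥H)
    (h : ∀ A : Subgroup ↥H, A ≤ S' → ∀ g : ↥H, A.map (MulAut.conj g).toMonoidHom ≤ S' →
      ∃ h ∈ Subgroup.normalizer (X' : Set ↥H), ∃ c ∈ Subgroup.centralizer (A : Set ↥H),
        g = h * c) :
    Ctl H (S'.map H.subtype) (X'.map H.subtype) := by
  intro A hA n hn hAn
  have hAH : A ≤ H := hA.trans (Subgroup.map_subtype_le _)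
  have h1 : A.subgroupOf H ≤ S' := by
    intro a ha
    obtain ⟨s, hs, hsa⟩ := hA (Subgroup.mem_subgroupOf.1 ha)
    have : s = a := Subtype.ext hsa
    exact this ▸ hs
  have h2 : (A.subgroupOf H).map (MulAut.conj (⟨n, hn⟩ : ↥H)).toMonoidHom ≤ S' := by
    rintro _ ⟨a, ha, rfl⟩
    have h3 : n * (a : G) * n⁻¹ ∈ S'.map H.subtype :=
      hAn ⟨a, Subgroup.mem_subgroupOf.1 ha, rfl⟩
    obtain ⟨s, hs, hsa⟩ := h3
    have : s = (MulAut.conj (⟨n, hn⟩ : ↥H)).toMonoidHom a := by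
      apply Subtype.ext
      rw [← Subgroup.subtype_apply, hsa]
      simp
    exact this ▸ hs
  obtain ⟨h', hh', c', hc', e⟩ := h _ h1 ⟨n, hn⟩ h2
  refine ⟨h', ⟨h'.2, Subgroup.le_normalizer_map H.subtype ⟨h', hh', rfl⟩⟩, c', ⟨c'.2, ?_⟩, ?_⟩
  · show (c' : G) ∈ Subgroup.centralizer (A : Set G)
    rw [Subgroup.mem_centralizer_iff]
    intro a ha
    have := Subgroup.mem_centralizer_iff.1 hc' ⟨a, hAH ha⟩ (Subgroup.mem_subgroupOf.2 ha)
    exact congrArg Subtype.val this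
  · exact congrArg Subtype.val e

theorem sylow_card_ppart (T : Sylow p G) {M : Subgroup G} (h : (T : Subgroup G) ≤ M) :
    Nat.card (T : Subgroup G) = p ^ (Nat.card M).factorization p := by
  apply card_eq_ppart_of_le h le_top T.2
  rw [Subgroup.card_top]
  exact T.card_eq_multiplicity

/-- from `Cfsg.ControlsStrongFusion` to control in a prescribed Sylow subgroup -/
theorem control_of_controlsStrongFusion (T : Sylow p G) (U : Subgroup G)
    (hTU : (T : Subgroup G) ≤ Subgroup.normalizer (U : Set G))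
    (h : Cfsg.ControlsStrongFusion p U) :
    ∀ A : Subgroup G, A ≤ (T : Subgroup G) → ∀ g : G,
      A.map (MulAut.conj g).toMonoidHom ≤ (T : Subgroup G) →
      ∃ h ∈ Subgroup.normalizer (U : Set G), ∃ c ∈ Subgroup.centralizer (A : Set G),
        g = h * c := by
  obtain ⟨T', hUT', hctl⟩ := h
  have hT'U : (T' : Subgroup G) ≤ Subgroup.normalizer (U : Set G) := by
    intro t ht
    apply mem_normalizer_of_conj_mem_of_finite
    intro u hu
    obtain ⟨x, hx, hxe⟩ := (hctl (U : Set G) hUT').2 t (by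
      rintro _ ⟨u, hu, rfl⟩
      exact Subgroup.mul_mem _ (Subgroup.mul_mem _ ht (hUT' hu)) (Subgroup.inv_mem _ ht))
    rw [hxe u hu]
    exact (Subgroup.mem_normalizer_iff.mp hx u).mp hu
  obtain ⟨y, hyN, hy⟩ := exists_conj_le_of_card_eq_ppart (p := p) hTU (sylow_card_ppart T hTU)
    hT'U T'.2
  have hyeq : (T' : Subgroup G).map (MulAut.conj y).toMonoidHom = (T : Subgroup G) := by
    apply Subgroup.eq_of_le_of_card_ge hy
    rw [card_map_conj, sylow_card_ppart T le_top, sylow_card_ppart T' le_top]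
  have hTy : ∀ t ∈ (T : Subgroup G), y⁻¹ * t * y ∈ (T' : Subgroup G) := by
    intro t ht
    rw [← hyeq] at ht
    obtain ⟨t', ht', rfl⟩ := ht
    simp only [MulEquiv.coe_toMonoidHom, MulAut.conj_apply]
    have : y⁻¹ * (y * t' * y⁻¹) * y = t' := by group
    rw [this]; exact ht'
  intro A hA g hg
  have hA₀ : (fun a => y⁻¹ * a * y) '' (A : Set G) ⊆ (T' : Subgroup G) := by
    rintro _ ⟨a, ha, rfl⟩
    exact hTy a (hA ha)
  obtain ⟨x, hx, hxe⟩ := (hctl _ hA₀).2 (y⁻¹ * g * y) (by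
    rintro _ ⟨_, ⟨a, ha, rfl⟩, rfl⟩
    have h1 : g * a * g⁻¹ ∈ (T : Subgroup G) := hg ⟨a, ha, rfl⟩
    have h2 := hTy _ h1
    have e : y⁻¹ * g * y * (y⁻¹ * a * y) * (y⁻¹ * g * y)⁻¹ = y⁻¹ * (g * a * g⁻¹) * y := by group
    show y⁻¹ * g * y * (y⁻¹ * a * y) * (y⁻¹ * g * y)⁻¹ ∈ (T' : Subgroup G)
    rw [e]; exact h2)
  refine ⟨y * x * y⁻¹, Subgroup.mul_mem _ (Subgroup.mul_mem _ hyN hx) (Subgroup.inv_mem _ hyN),
    (y * x * y⁻¹)⁻¹ * g, ?_, by group⟩
  rw [Subgroup.mem_centralizer_iff]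
  intro a ha
  have h1 := hxe (y⁻¹ * a * y) ⟨a, ha, rfl⟩
  have h2 : g * a * g⁻¹ = (y * x * y⁻¹) * a * (y * x * y⁻¹)⁻¹ := by
    have e1 : g * a * g⁻¹ = y * (y⁻¹ * g * y * (y⁻¹ * a * y) * (y⁻¹ * g * y)⁻¹) * y⁻¹ := by group
    rw [e1, h1]; group
  calc a * ((y * x * y⁻¹)⁻¹ * g)
      = (y * x * y⁻¹)⁻¹ * ((y * x * y⁻¹) * a * (y * x * y⁻¹)⁻¹) * g := by group
    _ = (y * x * y⁻¹)⁻¹ * (g * a * g⁻¹) * g := by rw [h2]
    _ = (y * x * y⁻¹)⁻¹ * g * a := by group

end NF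
end Cfsg.Agent.Helper1
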