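import Mathlib
import Cfsg.Agent.Helper1.NFg

set_option autoImplicit false

/-!
A normal `p`-subgroup `Q` of a `Qd(p)`-free group that is not centric in a Sylow subgroup `P`
can be enlarged: there is `W ≤ C_P(Q)`, `W ≰ Q`, normalized by `P`, whose normalizer controls
strong fusion in `P`.
-/

namespace Cfsg.Agent.Helper1
namespace NF

open Cfsg Cfsg.Agent.Lead

variable {G : Type*} [Group G] [Finite G] {p : ℕ} [hp : Fact p.Prime]

theorem centerThompsonAOf_le {X : Type*} [Group X] (T : Subgroup X) :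
    Cfsg.centerThompsonAOf T ≤ T := by
  intro x hx
  obtain ⟨y, -, rfl⟩ := hx.1
  exact y.2

theorem le_normalizer_centerThompsonAOf {X : Type*} [Group X] (T : Subgroup X) :
    T ≤ Subgroup.normalizer ((Cfsg.centerThompsonAOf T : Subgroup X) : Set X) := by
  intro t ht
  have h1 : T.map (MulAut.conj t).toMonoidHom = T := by
    ext x
    constructor
    · rintro ⟨y, hy, rfl⟩
      exact T.mul_mem (T.mul_mem ht hy) (T.inv_mem ht)
    · intro hx
      exact ⟨t⁻¹ * x * t, T.mul_mem (T.mul_mem (T.inv_mem ht) hx) ht, by simp [mul_assoc]⟩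
  have h2 := ZJFus.centerThompsonAOf_map' (MulAut.conj t) T
  rw [h1] at h2
  rw [Subgroup.mem_normalizer_iff]
  intro x
  constructor
  · intro hx
    rw [h2]
    exact ⟨x, hx, rfl⟩
  · intro hx
    rw [h2] at hx
    obtain ⟨y, hy, hye⟩ := hx
    have : y = x := by
      apply (MulAut.conj t).injective
      simpa using hye
    exact this ▸ hy

theorem centerThompsonAOf_ne_bot {X : Type*} [Group X] [Finite X] (T : Subgroup X)
    (hT : IsPGroup p T) (hne : T ≠ ⊥) : Cfsg.centerThompsonAOf T ≠ ⊥ := by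
  intro h
  rw [← ZJFus.inducedFunctor_zjW] at h
  have h1 : ZJFus.zjW ↥T = ⊥ := by
    have h2 : (ZJFus.zjW ↥T).map T.subtype = ⊥ := h
    rwa [Subgroup.map_eq_bot_iff_of_injective _ T.subtype_injective] at h2
  haveI : Nontrivial ↥T := (Subgroup.nontrivial_iff_ne_bot T).2 hne
  exact (ZJFus.zjW_isCharPFunctor (p := p)).1 ↥T hT inferInstance h1

/-- The enlargement lemma. -/
theorem exists_control_of_not_centric (hp2 : p ≠ 2) (hqd : ¬ Cfsg.Involves ↥(Cfsg.qd p) G)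
    (P : Sylow p G) (Q : Subgroup G) [hQn : Q.Normal] (hQp : IsPGroup p Q)
    (hne : ¬ ((P : Subgroup G) ⊓ Subgroup.centralizer (Q : Set G) ≤ Q)) :
    ∃ W : Subgroup G, W ≤ (P : Subgroup G) ⊓ Subgroup.centralizer (Q : Set G) ∧ ¬ W ≤ Q ∧
      (P : Subgroup G) ≤ Subgroup.normalizer (W : Set G) ∧
      ∀ A : Subgroup G, A ≤ (P : Subgroup G) → ∀ g : G,
        A.map (MulAut.conj g).toMonoidHom ≤ (P : Subgroup G) →
        ∃ h ∈ Subgroup.normalizer (W : Set G), ∃ c ∈ Subgroup.centralizer (A : Set G),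
          g = h * c := by
  obtain ⟨L, hL⟩ : ∃ L, L = Subgroup.centralizer (Q : Set G) := ⟨_, rfl⟩
  haveI hLn : L.Normal := by rw [hL]; infer_instance
  rw [← hL] at hne ⊢
  obtain ⟨Z, hZ⟩ : ∃ Z, Z = Q ⊓ L := ⟨_, rfl⟩
  have hZQ : Z ≤ Q := hZ ▸ inf_le_left
  have hZL : Z ≤ L := hZ ▸ inf_le_right
  have hQP : Q ≤ (P : Subgroup G) := hQp.le_sylow_of_normal P
  have hZPL : Z ≤ (P : Subgroup G) ⊓ L := le_inf (hZQ.trans hQP) hZL
  -- the Sylow subgroup of `L`
  have hPLcard : Nat.card ↥((P : Subgroup G) ⊓ L) = p ^ (Nat.card L).factorization p :=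
    card_inf_eq_ppart_of_normal (le_top : (P : Subgroup G) ≤ ⊤) le_top
      (by rw [Subgroup.normalizer_eq_top]) P.2 (sylow_card_ppart P le_top)
  obtain ⟨S', hS'⟩ :=
    (exists_sylow_eq_subgroupOf_iff L ((P : Subgroup G) ⊓ L) inf_le_right).2 hPLcard
  have hS'map : (S' : Subgroup ↥L).map L.subtype = (P : Subgroup G) ⊓ L := by
    rw [hS', Subgroup.subgroupOf_map_subtype, inf_assoc, inf_idem]
  -- the central subgroup
  have hZcentral : Z.subgroupOf L ≤ Subgroup.center ↥L := by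
    intro z hz
    rw [Subgroup.mem_center_iff]
    intro l
    apply Subtype.ext
    rw [Subgroup.coe_mul, Subgroup.coe_mul]
    have h1 : (l : G) ∈ Subgroup.centralizer (Q : Set G) := hL ▸ l.2
    exact (Subgroup.mem_centralizer_iff.1 h1 _ (hZQ (Subgroup.mem_subgroupOf.1 hz))).symm
  haveI hZcn : (Z.subgroupOf L).Normal := by
    refine ⟨fun z hz l => ?_⟩
    have := (Subgroup.mem_center_iff.1 (hZcentral hz) l)
    rw [this, mul_inv_cancel_right]
    exact hz
  have hZcp : IsPGroup p (Z.subgroupOf L) := (hQp.to_le hZQ).comap_subtype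
  have hZcS' : Z.subgroupOf L ≤ (S' : Subgroup ↥L) := by
    rw [hS']
    intro z hz
    exact Subgroup.mem_subgroupOf.2 (hZPL (Subgroup.mem_subgroupOf.1 hz))
  obtain ⟨π, hπ⟩ : ∃ π : ↥L →* ↥L ⧸ Z.subgroupOf L, π = QuotientGroup.mk' (Z.subgroupOf L) :=
    ⟨_, rfl⟩
  have hπsurj : Function.Surjective π := hπ ▸ QuotientGroup.mk'_surjective _
  obtain ⟨Tb, hTb⟩ : ∃ Tb : Sylow p (↥L ⧸ Z.subgroupOf L),
      (Tb : Subgroup (↥L ⧸ Z.subgroupOf L)) = (S' : Subgroup ↥L).map π :=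
    ⟨S'.mapSurjective hπsurj, Sylow.coe_mapSurjective hπsurj S'⟩
  have hctl := ZJFus.controls_of_qd_free hp2 hqd L Z Tb
  obtain ⟨Ub, hUb⟩ : ∃ Ub, Ub = Cfsg.centerThompsonAOf (Tb : Subgroup (↥L ⧸ Z.subgroupOf L)) :=
    ⟨_, rfl⟩
  rw [← hUb] at hctl
  have hUbT : Ub ≤ (Tb : Subgroup (↥L ⧸ Z.subgroupOf L)) := hUb ▸ centerThompsonAOf_le _
  have hTUb : (Tb : Subgroup (↥L ⧸ Z.subgroupOf L)) ≤ Subgroup.normalizer (Ub : Set _) :=
    hUb ▸ le_normalizer_centerThompsonAOf _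
  have hbar := control_of_controlsStrongFusion Tb Ub hTUb hctl
  -- the preimage
  obtain ⟨V', hV'⟩ : ∃ V' : Subgroup ↥L, V' = Ub.comap π := ⟨_, rfl⟩
  have hV'map : V'.map π = Ub := by
    rw [hV', Subgroup.map_comap_eq_self_of_surjective hπsurj]
  have hZV' : Z.subgroupOf L ≤ V' := by
    intro z hz
    rw [hV', Subgroup.mem_comap, hπ, QuotientGroup.mk'_apply,
      (QuotientGroup.eq_one_iff z).2 hz]
    exact Subgroup.one_mem _
  have hS'V' : (S' : Subgroup ↥L) ≤ Subgroup.normalizer (V' : Set ↥L) := by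
    intro s hs
    apply mem_normalizer_of_conj_mem_of_finite
    intro v hv
    rw [hV', Subgroup.mem_comap] at hv ⊢
    rw [map_mul, map_mul, map_inv]
    have h1 : π s ∈ (Tb : Subgroup (↥L ⧸ Z.subgroupOf L)) := by
      rw [hTb]; exact ⟨s, hs, rfl⟩
    exact (Subgroup.mem_normalizer_iff.mp (hTUb h1) _).mp hv
  have hV'S' : V' ≤ (S' : Subgroup ↥L) := by
    intro v hv
    rw [hV', Subgroup.mem_comap] at hv
    have h1 := hUbT hv
    rw [hTb] at h1
    obtain ⟨s, hs, hse⟩ := h1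
    have h2 : s⁻¹ * v ∈ Z.subgroupOf L := by
      rw [← QuotientGroup.eq_one_iff, ← QuotientGroup.mk'_apply, ← hπ, map_mul, map_inv, hse]
      group
    have : v = s * (s⁻¹ * v) := by group
    rw [this]
    exact Subgroup.mul_mem _ hs (hZcS' h2)
  subst hπ
  have hlift := central_lift (Z.subgroupOf L) hZcentral hZcp S' V' hZV' hS'V' (by
    rw [← hTb, hV'map]
    exact hbar)
  have hctlL := ctl_of_subtype L (S' : Subgroup ↥L) V' hlift
  rw [hS'map] at hctlL
  obtain ⟨V, hV⟩ : ∃ V, V = V'.map L.subtype := ⟨_, rfl⟩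
  rw [← hV] at hctlL
  have hVPL : V ≤ (P : Subgroup G) ⊓ L := by
    rw [hV, ← hS'map]
    exact Subgroup.map_mono hV'S'
  obtain ⟨W, hW⟩ : ∃ W, W = Subgroup.closure (⋃ x ∈ Subgroup.normalizer
      (((P : Subgroup G) ⊓ L : Subgroup G) : Set G),
      ((V.map (MulAut.conj x).toMonoidHom : Subgroup G) : Set G)) := ⟨_, rfl⟩
  have hcontrol := control_of_normal L P V hVPL hctlL W hW
  have hWPL : W ≤ (P : Subgroup G) ⊓ L := by
    rw [hW, Subgroup.closure_le]
    intro y hy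
    simp only [Set.mem_iUnion] at hy
    obtain ⟨x, hx, hy⟩ := hy
    obtain ⟨v, hv, rfl⟩ := hy
    exact conj_mem_of_mem_normalizer hx (hVPL hv)
  have hVW : V ≤ W := by
    intro v hv
    rw [hW]
    apply Subgroup.subset_closure
    simp only [Set.mem_iUnion]
    exact ⟨1, Subgroup.one_mem _, ⟨v, hv, by simp⟩⟩
  refine ⟨W, hWPL, ?_, ?_, hcontrol⟩
  · -- `W ≰ Q`
    intro hWQ
    apply hne
    have hVZ : V ≤ Z := by
      rw [hZ]
      exact le_inf (hVW.trans hWQ) (hVPL.trans inf_le_right)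
    have hV'Z : V' ≤ Z.subgroupOf L := by
      intro v hv
      rw [Subgroup.mem_subgroupOf]
      exact hVZ (hV ▸ ⟨v, hv, rfl⟩)
    have hUbbot : Ub = ⊥ := by
      rw [← hV'map, eq_bot_iff]
      rintro _ ⟨v, hv, rfl⟩
      rw [Subgroup.mem_bot, QuotientGroup.mk'_apply]
      exact (QuotientGroup.eq_one_iff v).2 (hV'Z hv)
    have hTbbot : (Tb : Subgroup (↥L ⧸ Z.subgroupOf L)) = ⊥ := by
      by_contra h
      exact centerThompsonAOf_ne_bot (p := p) _ Tb.2 h (hUb ▸ hUbbot)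
    intro x hx
    have hxL : x ∈ L := hx.2
    have h1 : (⟨x, hxL⟩ : ↥L) ∈ (S' : Subgroup ↥L) := by
      rw [hS']; exact Subgroup.mem_subgroupOf.2 hx
    have h2 : QuotientGroup.mk' (Z.subgroupOf L) ⟨x, hxL⟩ ∈
        (Tb : Subgroup (↥L ⧸ Z.subgroupOf L)) := by
      rw [hTb]; exact ⟨_, h1, rfl⟩
    rw [hTbbot, Subgroup.mem_bot, QuotientGroup.mk'_apply, QuotientGroup.eq_one_iff,
      Subgroup.mem_subgroupOf] at h2
    exact hZQ h2
  · -- `P` normalizes `W`
    intro x hx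
    have hWP : W ≤ (P : Subgroup G) := hWPL.trans inf_le_left
    obtain ⟨h, hh, c, hc, rfl⟩ := hcontrol W hWP x (by
      rintro _ ⟨w, hw, rfl⟩
      exact Subgroup.mul_mem _ (Subgroup.mul_mem _ hx (hWP hw)) (Subgroup.inv_mem _ hx))
    exact Subgroup.mul_mem _ hh (Subgroup.centralizer_le_normalizer _ hc)

end NF
end Cfsg.Agent.Helper1
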