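import Mathlib
import Cfsg.Prelude
import Cfsg.Agent.Helper1.ZJFusQdA
import Cfsg.Agent.Helper1.BGVg
import Cfsg.Agent.Helper1.NFh

set_option autoImplicit false

/-!
Bender–Glauberman, towards Lemma 9.5 (uniqueness for `SCN₃`): control of fusion and transfer by
`N(Z(J(P)))` in a group of odd order.
-/

namespace Cfsg.Agent.Helper1.BGW

open Cfsg Cfsg.Agent.Helper1 Cfsg.Agent.Helper1.FT Cfsg.Agent.Lead Cfsg.Agent.Helper5.TF
open scoped commutatorElement Pointwise

universe u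

/-- the matrix `diag(-1, -1, 1)` -/
def negDiag (p : ℕ) : Matrix (Fin 3) (Fin 3) (ZMod p) := Matrix.diagonal ![-1, -1, 1]

theorem negDiag_det (p : ℕ) : (negDiag p).det = 1 := by
  simp [negDiag, Matrix.det_diagonal, Fin.prod_univ_three]

/-- `Qd(p)` has even order for odd `p`. -/
theorem two_dvd_card_qd (p : ℕ) [hp : Fact p.Prime] (hp2 : p ≠ 2) :
    2 ∣ Nat.card ↥(Cfsg.qd p) := by
  set g : Matrix.SpecialLinearGroup (Fin 3) (ZMod p) := ⟨negDiag p, negDiag_det p⟩ with hg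
  have hmem : g ∈ Cfsg.qd p := by
    apply Subgroup.subset_closure
    refine ⟨?_, ?_, ?_⟩ <;> simp [hg, negDiag, Matrix.diagonal]
  have hsq : g * g = 1 := by
    apply Subtype.ext
    show negDiag p * negDiag p = 1
    unfold negDiag
    rw [Matrix.diagonal_mul_diagonal]
    ext i j
    fin_cases i <;> fin_cases j <;> simp [Matrix.diagonal, Matrix.one_apply]
  have hne : g ≠ 1 := by
    intro h1
    have h2 := congrArg (fun M : Matrix.SpecialLinearGroup (Fin 3) (ZMod p) =>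
      (M : Matrix (Fin 3) (Fin 3) (ZMod p)) 0 0) h1
    simp [hg, negDiag, Matrix.diagonal] at h2
    have h3 : (2 : ZMod p) = 0 := by
      have : (1 : ZMod p) + 1 = 0 := by
        nth_rewrite 1 [← h2]; ring
      rw [← this]; ring
    have h4 : ((2 : ℕ) : ZMod p) = 0 := by exact_mod_cast h3
    rw [ZMod.natCast_eq_zero_iff] at h4
    exact hp2 ((Nat.prime_dvd_prime_iff_eq hp.out Nat.prime_two).mp h4)
  have hord : orderOf (⟨g, hmem⟩ : ↥(Cfsg.qd p)) = 2 := by
    apply orderOf_eq_prime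
    · apply Subtype.ext
      simpa [pow_two] using hsq
    · intro h1
      exact hne (congrArg Subtype.val h1)
  rw [← hord]
  exact orderOf_dvd_natCard _

/-- A finite group of odd order is `Qd(p)`-free for odd `p`. -/
theorem not_involves_qd_of_odd {G : Type u} [Group G] [Finite G] (hodd : Odd (Nat.card G))
    (p : ℕ) [hp : Fact p.Prime] (hp2 : p ≠ 2) : ¬ Cfsg.Involves ↥(Cfsg.qd p) G := by
  rintro ⟨K, R, hn, ⟨e⟩⟩
  have h1 : Nat.card (↥K ⧸ R.subgroupOf K) = Nat.card ↥(Cfsg.qd p) := Nat.card_congr e.toEquiv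
  have h2 : Nat.card (↥K ⧸ R.subgroupOf K) ∣ Nat.card K :=
    Subgroup.card_quotient_dvd_card (R.subgroupOf K)
  have h3 : 2 ∣ Nat.card G :=
    ((h1 ▸ two_dvd_card_qd p hp2).trans h2).trans (Subgroup.card_subgroup_dvd_card K)
  exact (Nat.not_even_iff_odd.mpr hodd) (even_iff_two_dvd.mpr h3)

section control

variable {G : Type u} [Group G] [Finite G] {p : ℕ} [hp : Fact p.Prime]

/-- `Z(J)` controls strong fusion (family form) in a `Qd(p)`-free group. -/
theorem zj_family (hp2 : p ≠ 2) (hqd : ¬ Cfsg.Involves ↥(Cfsg.qd p) G) :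
    Cfsg.FamilyControlsStrongFusionIn p (ind {ZJFus.zjW} G) ⊤ := by
  have hW : Cfsg.IsCharPFunctor.{u} p (ZJFus.zjW) := ZJFus.zjW_isCharPFunctor
  have h𝓦 : ∀ W' ∈ ({ZJFus.zjW} : Set (∀ (Q : Type u) [Group Q], Subgroup Q)),
      Cfsg.IsCharPFunctor.{u} p W' := by
    rintro W' rfl; exact hW
  apply sf_induction (G := G) {ZJFus.zjW} h𝓦 ?_ (Nat.card G) G rfl (isSectionOf_refl G)
  intro X _ _ hsecX hpc _ _
  obtain ⟨K', R', hn, ⟨e⟩⟩ := exists_equiv_of_isSectionOf hsecX
  have hloc : Loc1969 p (ZJFus.zjW) (↥K' ⧸ R'.subgroupOf K') := by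
    intro T'
    have hfree : ¬ Cfsg.Involves ↥(Cfsg.qd p) (K' ⧸ R'.subgroupOf K') :=
      QuadFree.not_involves_section hqd K' R'
    have hst := QuadFree.isNormalizerPStable_of_qd_free hp2 hfree
    have h1 := (Cfsg.Agent.S3079.result hp2 T' (T' : Subgroup (K' ⧸ R'.subgroupOf K'))
      ⟨le_rfl, fun x _ g hg => hg⟩ hst (PC.of_equiv e.symm hpc)).1
    rw [ZJFus.inducedFunctor_zjW]
    exact h1
  have h1 := Loc1969.of_equiv hW e hloc
  have S : Sylow p X := default
  apply top_of_sfs S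
  intro A g hA hAg
  have hmem : Cfsg.inducedFunctor (G := X) (ZJFus.zjW) ∈ ind {ZJFus.zjW} X :=
    ⟨ZJFus.zjW, rfl, rfl⟩
  refine FRel.step hmem ?_ hA hAg
  have hN : Subgroup.normalizer
      ((Cfsg.inducedFunctor (G := X) (ZJFus.zjW) (S : Subgroup X) : Subgroup X) :
      Set X) = ⊤ := Subgroup.normalizer_eq_top_iff.mpr (h1 S)
  rw [hN]
  exact Subgroup.mem_top g

/-- `N(Z(J(P)))` controls strong fusion in the Sylow `p`-subgroup `P` of a group of odd order. -/
theorem zj_controls (hodd : Odd (Nat.card G)) (hp2 : p ≠ 2) (P : Sylow p G) (A : Set G)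
    (hA : A ⊆ ((P : Subgroup G) : Set G)) :
    Cfsg.ControlsStrongFusionOf
      (Subgroup.normalizer ((Cfsg.centerThompsonAOf (P : Subgroup G) : Subgroup G) : Set G))
      (P : Subgroup G) A := by
  have hW : Cfsg.IsCharPFunctor.{u} p (ZJFus.zjW) := ZJFus.zjW_isCharPFunctor
  have h𝓦 : ∀ W' ∈ ({ZJFus.zjW} : Set (∀ (Q : Type u) [Group Q], Subgroup Q)),
      Cfsg.IsCharPFunctor.{u} p W' := by
    rintro W' rfl; exact hW
  have h := zj_family (G := G) hp2 (not_involves_qd_of_odd hodd p hp2)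
  have hsfs := sfs_of_top (ind_isConj h𝓦 G) h P
  refine ⟨hA, fun g hg => ?_⟩
  have hAg : conjR g⁻¹ A ⊆ (P : Subgroup G) := by
    rintro _ ⟨a, ha, rfl⟩
    have := hg ⟨a, ha, rfl⟩
    simpa using this
  obtain ⟨g', hch, hag⟩ := hsfs A g⁻¹ hA hAg
  have hg'N : g' ∈ Subgroup.normalizer
      ((Cfsg.inducedFunctor (G := G) (ZJFus.zjW) (P : Subgroup G) : Subgroup G) :
        Set G) := by
    apply FChain_mem_of_steps _ _ hch
    rintro x ⟨V, ⟨W', hW', rfl⟩, hx⟩
    have : W' = ZJFus.zjW := hW'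
    subst this
    exact (Subgroup.mem_inf.mp hx).2
  rw [ZJFus.inducedFunctor_zjW] at hg'N
  refine ⟨g'⁻¹, Subgroup.inv_mem _ hg'N, fun a ha => ?_⟩
  have := hag a ha
  rw [inv_inv] at this ⊢
  exact this.symm

end control

section transfer

open Cfsg.Agent.Helper1.BGT Cfsg.Agent.Helper1.BGU Cfsg.Agent.Helper1.BGV

variable {G : Type u} [Group G] [Finite G] {p : ℕ} [hp : Fact p.Prime]

omit [Finite G] in
/-- A minimal simple group of odd order is perfect. -/
theorem commutator_eq_top_of_min (hG : Cfsg.IsMinSimpleOddOrder G) : commutator G = ⊤ := by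
  haveI := hG.2.1
  rcases (inferInstance : (commutator G).Normal).eq_bot_or_eq_top with h | h
  · exfalso
    apply hG.2.2.1
    rw [commutator_eq_bot_iff_center_eq_top] at h
    refine ⟨⟨fun a b => ?_⟩⟩
    have hb : b ∈ Subgroup.center G := h ▸ Subgroup.mem_top b
    exact Subgroup.mem_center_iff.mp hb a
  · exact h

/-- `P ≤ N(Z(J(P)))'`. -/
theorem sylow_le_commutator_normalizer_zj (hG : Cfsg.IsMinSimpleOddOrder G) (hp2 : p ≠ 2)
    (P : Sylow p G) :
    (P : Subgroup G) ≤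
      ⁅Subgroup.normalizer ((Cfsg.centerThompsonAOf (P : Subgroup G) : Subgroup G) : Set G),
        Subgroup.normalizer ((Cfsg.centerThompsonAOf (P : Subgroup G) : Subgroup G) : Set G)⁆ := by
  set L := Subgroup.normalizer ((Cfsg.centerThompsonAOf (P : Subgroup G) : Subgroup G) : Set G)
    with hL
  have hPL : (P : Subgroup G) ≤ L := NF.le_normalizer_centerThompsonAOf _
  have h1 : (P : Subgroup G) = Subgroup.focalSubgroup (P : Subgroup G) := by
    rw [← Subgroup.commutator_inf_eq_focalSubgroup, commutator_eq_top_of_min hG, top_inf_eq]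
  rw [h1, Subgroup.focalSubgroup_def, Subgroup.closure_le]
  rintro g ⟨hgP, x, hxP, u, rfl⟩
  have hx' : u * x⁻¹ * u⁻¹ ∈ (P : Subgroup G) := by
    have : u * x⁻¹ * u⁻¹ = x⁻¹ * ⁅x, u⁆ := by
      rw [commutatorElement_def]; group
    rw [this]
    exact Subgroup.mul_mem _ (Subgroup.inv_mem _ hxP) hgP
  have hc := zj_controls hG.1 hp2 P {x⁻¹} (by
    intro y hy
    rw [Set.mem_singleton_iff] at hy
    rw [hy]
    exact Subgroup.inv_mem _ hxP)
  obtain ⟨n, hn, hne⟩ := hc.2 u (by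
    rintro _ ⟨a, ha, rfl⟩
    rw [Set.mem_singleton_iff] at ha
    rw [ha]
    exact hx')
  have h2 := hne x⁻¹ rfl
  have h3 : ⁅x, u⁆ = ⁅x, n⁆ := by
    rw [commutatorElement_def, commutatorElement_def, mul_assoc, mul_assoc, ← mul_assoc u, h2]
    group
  rw [h3]
  exact Subgroup.commutator_mem_commutator (hPL hxP) hn

end transfer

end Cfsg.Agent.Helper1.BGW
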