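import Mathlib
import Cfsg.Prelude
import Cfsg.Agent.Helper1.BGWa

set_option autoImplicit false

/-!
Bender–Glauberman, towards Lemma 9.5: the standing context `A ∈ SCN₃(P)` and the transfer step
`A ≤ N(Q)'` for `Q` a maximal `P`-invariant `q`-subgroup.
-/

namespace Cfsg.Agent.Helper1.BGW

open Cfsg Cfsg.Agent.Helper1 Cfsg.Agent.Helper2 Cfsg.Agent.Helper1.BGT Cfsg.Agent.Helper1.BGU
  Cfsg.Agent.Helper1.BGV
open scoped commutatorElement Pointwise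

universe u

variable {G : Type u} [Group G] [Finite G]

/-- The standing context: `A ∈ SCN₃(P)` in a minimal simple group of odd order. -/
structure Ctx (p : ℕ) [Fact p.Prime] (P : Sylow p G) (A : Subgroup G) : Prop where
  min : Cfsg.IsMinSimpleOddOrder G
  scn : Cfsg.IsSCN (P : Subgroup G) A
  comm : IsMulCommutative ↥A
  r3 : ¬ Cfsg.PRankLE p 2 ↥A

variable {p : ℕ} [hp : Fact p.Prime] {P : Sylow p G} {A : Subgroup G}

theorem Ctx.odd (c : Ctx p P A) (X : Subgroup G) : Odd (Nat.card X) :=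
  Odd.of_dvd_nat c.min.1 (Subgroup.card_subgroup_dvd_card X)

theorem Ctx.isPGroup (c : Ctx p P A) : IsPGroup p ↥A := P.2.to_le c.scn.1

theorem Ctx.r1 (c : Ctx p P A) : ¬ Cfsg.PRankLE p 1 ↥A := by
  intro h
  apply c.r3
  intro E hEc hEe
  exact (h E hEc hEe).trans (Nat.pow_le_pow_right hp.out.pos (by norm_num))

theorem Ctx.trans (c : Ctx p P A) : Cfsg.TransitivityHypothesis A :=
  transitivityHypothesis_of_scn c.min c.comm c.scn c.r1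

theorem Ctx.ne_bot (c : Ctx p P A) : A ≠ ⊥ := c.trans.1

theorem Ctx.dvd (c : Ctx p P A) : ∀ q : ℕ, q.Prime → (q ∣ Nat.card A ↔ q = p) :=
  dvd_card_iff_of_isPGroup c.isPGroup c.ne_bot

theorem Ctx.p_ne_two (c : Ctx p P A) : p ≠ 2 := by
  rintro rfl
  have h2 : 2 ∣ Nat.card A := (c.dvd 2 Nat.prime_two).mpr rfl
  exact (Nat.not_even_iff_odd.mpr (c.odd A)) (even_iff_two_dvd.mpr h2)

theorem Ctx.mul_comm (c : Ctx p P A) : ∀ x ∈ A, ∀ y ∈ A, x * y = y * x := by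
  intro x hx y hy
  have := c.comm.is_comm.comm ⟨x, hx⟩ ⟨y, hy⟩
  exact congrArg Subtype.val this

theorem Ctx.le_centralizer (c : Ctx p P A) : A ≤ Subgroup.centralizer (A : Set G) := by
  intro a ha
  rw [Subgroup.mem_centralizer_iff]
  intro x hx
  exact c.mul_comm x hx a ha

theorem Ctx.hZ (c : Ctx p P A) : ¬ Cfsg.RankLE 2 ↥(A ⊓ Subgroup.centralizer (A : Set G)) := by
  intro h
  apply c.r3
  exact Cfsg.Agent.Helper1.Rank2Fitting.pRankLE_of_le (le_inf le_rfl c.le_centralizer)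
    (h p hp.out)

theorem Ctx.not_dvd (c : Ctx p P A) {q : ℕ} (hq : q.Prime) (hqp : q ≠ p) : ¬ q ∣ Nat.card A :=
  fun hd => hqp ((c.dvd q hq).mp hd)

theorem Ctx.hyp (c : Ctx p P A) {q : ℕ} (hq : q.Prime) (hqp : q ≠ p) : Hyp A q :=
  Hyp.of c.min c.trans hq (c.not_dvd hq hqp)

/-- Thompson transitivity for `A`. -/
theorem Ctx.htr (c : Ctx p P A) {q : ℕ} (hq : q.Prime) (hqp : q ≠ p) :
    ∀ Q₁ ∈ Cfsg.maxInvSubgroups ⊤ A {q}, ∀ Q₂ ∈ Cfsg.maxInvSubgroups ⊤ A {q},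
      KConj (KK A) Q₁ Q₂ :=
  fun _ h₁ _ h₂ => (c.hyp hq hqp).thm73 c.hZ h₁ h₂

theorem Ctx.sylow_ne_top (c : Ctx p P A) : (P : Subgroup G) ≠ ⊤ :=
  Cfsg.Agent.Helper1.BGU.sylow_ne_top c.min p _ P.2

theorem Ctx.card_P (_c : Ctx p P A) (M : Subgroup G) (hPM : (P : Subgroup G) ≤ M) :
    Nat.card (P : Subgroup G) = p ^ (Nat.card M).factorization p := by
  apply Cfsg.Agent.Lead.card_eq_ppart_of_le hPM (le_top : M ≤ ⊤) P.2
  rw [Subgroup.card_top]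
  exact P.card_eq_multiplicity

/-- `KK A = O_{p'}(C_G(A))`. -/
theorem Ctx.KK_eq (c : Ctx p P A) : KK A = coreOf p (Subgroup.centralizer (A : Set G)) :=
  piCoreOf_eq_coreOf p _ c.dvd _

/-- Theorem 7.5 for a `p`-subgroup `P₁ ≥ A`. -/
theorem Ctx.thm75 (c : Ctx p P A) {q : ℕ} (hq : q.Prime) (hqp : q ≠ p) {P₁ : Subgroup G}
    (hP₁ : IsPGroup p ↥P₁) (hAP₁ : A ≤ P₁) :
    (∀ Q₁ ∈ Cfsg.maxInvSubgroups ⊤ P₁ {q}, ∀ Q₂ ∈ Cfsg.maxInvSubgroups ⊤ P₁ {q},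
        KConj (KK A ⊓ Subgroup.centralizer (P₁ : Set G)) Q₁ Q₂) ∧
      Cfsg.maxInvSubgroups ⊤ P₁ {q} ⊆ Cfsg.maxInvSubgroups ⊤ A {q} ∧
      ∀ Q ∈ Cfsg.maxInvSubgroups ⊤ P₁ {q},
        P₁ ⊓ ⁅Subgroup.normalizer (P₁ : Set G), Subgroup.normalizer (P₁ : Set G)⁆ ≤
          ⁅Subgroup.normalizer (Q : Set G), Subgroup.normalizer (Q : Set G)⁆ ∧
        Subgroup.normalizer (P₁ : Set G) =
          (KK A ⊓ Subgroup.centralizer (P₁ : Set G)) ⊔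
            (Subgroup.normalizer (P₁ : Set G) ⊓ Subgroup.normalizer (Q : Set G)) := by
  have hP₁top : P₁ ≠ ⊤ := Cfsg.Agent.Helper1.BGU.sylow_ne_top c.min p _ hP₁
  have hpA : p ∣ Nat.card A := (c.dvd p hp.out).mpr rfl
  have hP₁π : ∀ r : ℕ, r.Prime → r ∣ Nat.card P₁ → r ∣ Nat.card A := by
    intro r hr hd
    obtain ⟨k, hk⟩ := IsPGroup.iff_card.mp hP₁
    rw [hk] at hd
    have : r = p := (Nat.prime_dvd_prime_iff_eq hr hp.out).mp (hr.dvd_of_dvd_pow hd)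
    rw [this]; exact hpA
  have hsn : (A.subgroupOf P₁).IsSubnormal := by
    haveI : Group.IsNilpotent ↥P₁ := hP₁.isNilpotent
    exact Cfsg.Agent.Helper4.isSubnormal_of_normalizerCondition
      Group.normalizerCondition_of_isNilpotent _
  obtain ⟨h1, h2, h3, h4⟩ := (c.hyp hq hqp).thm75 hP₁top hP₁π hAP₁ hsn (c.htr hq hqp)
  rw [← h1] at h2 h4
  exact ⟨h2, h3, h4⟩

/-- A maximal `P`-invariant `q`-subgroup is a maximal `P₁`-invariant `q`-subgroup for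
`A ≤ P₁ ≤ P`. -/
theorem Ctx.mem_maxInv_of_le (c : Ctx p P A) {q : ℕ} (hq : q.Prime) (hqp : q ≠ p)
    {Q : Subgroup G} (hQ : Q ∈ Cfsg.maxInvSubgroups ⊤ (P : Subgroup G) {q}) {P₁ : Subgroup G}
    (hAP₁ : A ≤ P₁) (hP₁P : P₁ ≤ (P : Subgroup G)) :
    Q ∈ Cfsg.maxInvSubgroups ⊤ P₁ {q} := by
  have hQA : Q ∈ Cfsg.maxInvSubgroups ⊤ A {q} :=
    (c.thm75 hq hqp P.2 c.scn.1).2.1 hQ
  obtain ⟨hQq, hPQ⟩ := (mem_invSubgroups_top hq).mp hQ.1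
  refine ⟨(mem_invSubgroups_top hq).mpr ⟨hQq, hP₁P.trans hPQ⟩, ?_⟩
  intro R hR hQR
  obtain ⟨hRq, hP₁R⟩ := (mem_invSubgroups_top hq).mp hR
  exact hQA.2 R ((mem_invSubgroups_top hq).mpr ⟨hRq, hAP₁.trans hP₁R⟩) hQR

/-- The transfer step: `A ≤ N(Q)'` for `Q` a maximal `P`-invariant `q`-subgroup. -/
theorem Ctx.le_commutator_normalizer (c : Ctx p P A) {q : ℕ} (hq : q.Prime) (hqp : q ≠ p)
    {Q : Subgroup G} (hQ : Q ∈ Cfsg.maxInvSubgroups ⊤ (P : Subgroup G) {q}) :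
    A ≤ ⁅Subgroup.normalizer (Q : Set G), Subgroup.normalizer (Q : Set G)⁆ := by
  have hp2 := c.p_ne_two
  obtain ⟨Z, hZ⟩ : ∃ Z : Subgroup G, Z = Cfsg.centerThompsonAOf (P : Subgroup G) := ⟨_, rfl⟩
  obtain ⟨L, hL⟩ : ∃ L : Subgroup G, L = Subgroup.normalizer (Z : Set G) := ⟨_, rfl⟩
  have hP1 : (P : Subgroup G) ≠ ⊥ := fun h => c.ne_bot (le_bot_iff.mp (h ▸ c.scn.1))
  have hZ1 : Z ≠ ⊥ := hZ ▸ NF.centerThompsonAOf_ne_bot _ P.2 hP1
  have hZtop : Z ≠ ⊤ :=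
    ne_top_of_le_ne_top c.sylow_ne_top (hZ ▸ NF.centerThompsonAOf_le _)
  have hLtop : L ≠ ⊤ := hL ▸ normalizer_ne_top_of_simple c.min hZ1 hZtop
  have hLsol : Group.IsSolvable ↥L := c.min.2.2.2 L hLtop
  have hPL : (P : Subgroup G) ≤ L := by
    rw [hL, hZ]; exact NF.le_normalizer_centerThompsonAOf _
  have hPcard := c.card_P L hPL
  have hPLL : (P : Subgroup G) ≤ ⁅L, L⁆ := by
    rw [hL, hZ]; exact sylow_le_commutator_normalizer_zj c.min hp2 P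
  obtain ⟨P₁, hP₁⟩ : ∃ P₁ : Subgroup G, P₁ = (P : Subgroup G) ⊓ ppCoreOf p L := ⟨_, rfl⟩
  have hAP₁ : A ≤ P₁ := hP₁ ▸ le_inf c.scn.1
    (le_ppCoreOf_of_abelian_normal p L P A hLsol (c.odd L) hPL hPcard c.scn.1 c.mul_comm
      c.scn.2.1)
  have hP₁P : P₁ ≤ (P : Subgroup G) := hP₁ ▸ inf_le_left
  have hP₁p : IsPGroup p ↥P₁ := P.2.to_le hP₁P
  obtain ⟨N₁, hN₁⟩ : ∃ N₁ : Subgroup G, N₁ = L ⊓ Subgroup.normalizer (P₁ : Set G) := ⟨_, rfl⟩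
  have hPN₁ : (P : Subgroup G) ≤ N₁ := by
    rw [hN₁, hP₁]
    exact le_inf hPL (le_normalizer_inf Subgroup.le_normalizer
      (hPL.trans (le_normalizer_ppCoreOf p L)))
  have hOL : coreOf p L ≤ L := Cfsg.Agent.Helper2.coreOf_le p L
  have hLO : L ≤ Subgroup.normalizer ((coreOf p L : Subgroup G) : Set G) :=
    le_normalizer_coreOf p L
  have hN₁L : N₁ ≤ L := hN₁ ▸ inf_le_left
  have hsup : L ≤ coreOf p L ⊔ N₁ := by
    intro x hx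
    obtain ⟨a, ha, y, hy, rfl⟩ := exists_mul_frattini p L P hPL hPcard x hx
    rw [← hP₁, ← hN₁] at hy
    exact Subgroup.mul_mem_sup ha hy
  have hcomm : ⁅L, L⁆ ≤ coreOf p L ⊔ ⁅N₁, N₁⁆ :=
    commutator_le_sup_commutator_of_le_normalizer hOL hN₁L hLO hsup
  have hNN : N₁ ≤ Subgroup.normalizer ((⁅N₁, N₁⁆ : Subgroup G) : Set G) :=
    le_normalizer_commutator Subgroup.le_normalizer Subgroup.le_normalizer
  have hNNle : ⁅N₁, N₁⁆ ≤ N₁ := Subgroup.commutator_le_self N₁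
  have hcop : (Nat.card (P : Subgroup G)).Coprime (Nat.card ↥(coreOf p L)) := by
    obtain ⟨k, hk⟩ := IsPGroup.iff_card.mp P.2
    rw [hk]
    exact Nat.Coprime.pow_left k ((Cfsg.Agent.Helper2.card_coreOf_coprime p L).symm)
  have hPN : (P : Subgroup G) ≤ ⁅N₁, N₁⁆ := by
    intro x hxP
    have hx' := hcomm (hPLL hxP)
    obtain ⟨k, hk, m, hm, e⟩ := mem_sup_of_le_normalizer
      (hNNle.trans (hN₁L.trans hLO)) hx'
    have hkN : k ∈ N₁ := by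
      have : k = x * m⁻¹ := by rw [e]; group
      rw [this]
      exact N₁.mul_mem (hPN₁ hxP) (N₁.inv_mem (hNNle hm))
    apply mem_of_eq_mul_of_coprime (hNN hkN) hm e hcop
    · have := pow_card_eq_one' (G := (P : Subgroup G)) (x := ⟨x, hxP⟩)
      exact congrArg Subtype.val this
    · have := pow_card_eq_one' (G := coreOf p L) (x := ⟨k, hk⟩)
      exact congrArg Subtype.val this
  have hQ₁ : Q ∈ Cfsg.maxInvSubgroups ⊤ P₁ {q} := c.mem_maxInv_of_le hq hqp hQ hAP₁ hP₁P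
  have h75 := ((c.thm75 hq hqp hP₁p hAP₁).2.2 Q hQ₁).1
  intro a ha
  apply h75
  refine ⟨hAP₁ ha, ?_⟩
  exact Subgroup.commutator_mono (hN₁ ▸ inf_le_right) (hN₁ ▸ inf_le_right)
    (hPN (c.scn.1 ha))

end Cfsg.Agent.Helper1.BGW
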