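import Mathlib
import Cfsg.Agent.Helper1.Basic
import Cfsg.Agent.Helper1.Hall
import Cfsg.Agent.Helper1.HallExtra
import Cfsg.Agent.Helper1.Coprime

set_option autoImplicit false

/-!
Products of normal Hall subgroups of the factors of a factorized solvable group.
-/

namespace Cfsg.Agent.Helper1

open scoped Pointwise

universe u

variable {G : Type u} [Group G]

theorem coprime_div_lcm {a b ra rb : ℕ} (ha : 0 < a) (hb : 0 < b)
    (hra : ra * a = Nat.lcm a b) (hrb : rb * b = Nat.lcm a b) : ra.Coprime rb := by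
  have hm : 0 < Nat.lcm a b := Nat.lcm_pos ha hb
  set d := Nat.gcd ra rb with hd
  obtain ⟨ra', hra'⟩ : d ∣ ra := Nat.gcd_dvd_left _ _
  obtain ⟨rb', hrb'⟩ : d ∣ rb := Nat.gcd_dvd_right _ _
  have hdpos : 0 < d := by
    rcases Nat.eq_zero_or_pos d with h | h
    · rw [hra', h, zero_mul, zero_mul] at hra
      omega
    · exact h
  -- k = ra' * a = rb' * b is a common multiple
  have h1 : d * (ra' * a) = Nat.lcm a b := by rw [← hra, hra']; ring
  have h2 : d * (rb' * b) = Nat.lcm a b := by rw [← hrb, hrb']; ring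
  have h3 : ra' * a = rb' * b := Nat.eq_of_mul_eq_mul_left hdpos (h1.trans h2.symm)
  have h4 : Nat.lcm a b ∣ ra' * a := Nat.lcm_dvd (Dvd.intro_left _ rfl) (h3 ▸ Dvd.intro_left _ rfl)
  rw [← h1] at h4
  have hk : 0 < ra' * a := by
    rcases Nat.eq_zero_or_pos (ra' * a) with h | h
    · rw [h, mul_zero] at h1; omega
    · exact h
  have h5 : d * (ra' * a) ≤ ra' * a := Nat.le_of_dvd hk h4
  have h6 : d = 1 := by
    by_contra hne
    have : 2 ≤ d := by omega
    nlinarith
  exact h6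

/-- the core: `A B` is a (Hall) subgroup. -/
theorem hall_mul_hall [Finite G] [Group.IsSolvable G] (H K A B : Subgroup G)
    (hHK : ∀ g : G, ∃ h ∈ H, ∃ k ∈ K, g = h * k)
    (hAH : H ≤ Subgroup.normalizer (A : Set G)) (hBK : K ≤ Subgroup.normalizer (B : Set G))
    (hAh : (Nat.card A).Coprime A.index) (hBh : (Nat.card B).Coprime B.index) :
    ∃ T : Subgroup G, (T : Set G) = (A : Set G) * (B : Set G) := by
  set a := Nat.card A with ha
  set b := Nat.card B with hb
  have hapos : 0 < a := Nat.card_pos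
  have hbpos : 0 < b := Nat.card_pos
  set m := Nat.lcm a b with hm
  have hmN : m ∣ Nat.card G :=
    Nat.lcm_dvd (Subgroup.card_subgroup_dvd_card A) (Subgroup.card_subgroup_dvd_card B)
  obtain ⟨n, hn⟩ := hmN
  have hnA : n ∣ A.index := by
    obtain ⟨c, hc⟩ : a ∣ m := Nat.dvd_lcm_left a b
    have h1 : a * A.index = a * (c * n) := by
      rw [A.card_mul_index, hn, hc]; ring
    exact Dvd.intro_left c (Nat.eq_of_mul_eq_mul_left hapos h1).symm
  have hnB : n ∣ B.index := by
    obtain ⟨c, hc⟩ : b ∣ m := Nat.dvd_lcm_right a b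
    have h1 : b * B.index = b * (c * n) := by
      rw [B.card_mul_index, hn, hc]; ring
    exact Dvd.intro_left c (Nat.eq_of_mul_eq_mul_left hbpos h1).symm
  have han : a.Coprime n := Nat.Coprime.coprime_dvd_right hnA hAh
  have hbn : b.Coprime n := Nat.Coprime.coprime_dvd_right hnB hBh
  have hmn : m.Coprime n :=
    Nat.Coprime.coprime_dvd_left (Nat.lcm_dvd_mul a b) (Nat.Coprime.mul_left han hbn)
  obtain ⟨hC, hD⟩ := hallProp_of_solvable (Nat.card G) G rfl m n hn hmn
  obtain ⟨T₁, hT₁, hAT₁⟩ := hD A han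
  obtain ⟨T₂, hT₂, hBT₂⟩ := hD B hbn
  obtain ⟨g, hg⟩ := hC T₁ T₂ hT₁ hT₂
  obtain ⟨h, hh, k, hk, hgk⟩ := hHK g⁻¹
  have hg' : g = k⁻¹ * h⁻¹ := by
    rw [← inv_inv g, hgk]; group
  set T := MulAut.conj h⁻¹ • T₁ with hT
  have hT' : T = MulAut.conj k • T₂ := by
    rw [← hg, hg', hT, ← mul_smul, ← map_mul]
    congr 2
    group
  have hAT : A ≤ T := by
    have h1 : MulAut.conj h⁻¹ • A = A :=
      conj_smul_eq_of_mem_normalizer (hAH (H.inv_mem hh))
    rw [← h1, hT]
    exact conj_smul_mono hAT₁ _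
  have hBT : B ≤ T := by
    have h1 : MulAut.conj k • B = B := conj_smul_eq_of_mem_normalizer (hBK hk)
    rw [← h1, hT']
    exact conj_smul_mono hBT₂ _
  have hTm : Nat.card T = m := by rw [hT, card_conj_smul, hT₁]
  have hcop : (A.relIndex T).Coprime (B.relIndex T) := by
    apply coprime_div_lcm hapos hbpos
    · rw [relIndex_mul_card_of_le hAT, hTm]
    · rw [relIndex_mul_card_of_le hBT, hTm]
  exact ⟨T, (coe_mul_eq_of_coprime_relIndex hAT hBT hcop).symm⟩

/-- conjugates of the two normal Hall subgroups still have a subgroup as product set -/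
theorem hall_conj_mul_hall_conj [Finite G] [Group.IsSolvable G] (H K A B : Subgroup G)
    (hHK : ∀ g : G, ∃ h ∈ H, ∃ k ∈ K, g = h * k)
    (hA : A ≤ H) (hAn : (A.subgroupOf H).Normal) (hB : B ≤ K) (hBn : (B.subgroupOf K).Normal)
    (hAh : (Nat.card A).Coprime A.index) (hBh : (Nat.card B).Coprime B.index) (x y : G) :
    ∃ S : Subgroup G, (S : Set G) =
      ((MulAut.conj x • A : Subgroup G) : Set G) * ((MulAut.conj y • B : Subgroup G) : Set G) := by
  have hAH := (Subgroup.normal_subgroupOf_iff_le_normalizer hA).1 hAn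
  have hBK := (Subgroup.normal_subgroupOf_iff_le_normalizer hB).1 hBn
  obtain ⟨T, hT⟩ := hall_mul_hall H K A B hHK hAH hBK hAh hBh
  obtain ⟨h, hh, k, hk, hxy⟩ := hHK (x⁻¹ * y)
  have hz : x * h = y * k⁻¹ := by
    have : y = x * (h * k) := by rw [← hxy]; group
    rw [this]; group
  have h1 : MulAut.conj x • A = MulAut.conj (x * h) • A := by
    rw [map_mul, mul_smul, conj_smul_eq_of_mem_normalizer (hAH hh)]
  have h2 : MulAut.conj y • B = MulAut.conj (x * h) • B := by
    rw [hz, map_mul, mul_smul, conj_smul_eq_of_mem_normalizer (hBK (K.inv_mem hk))]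
  refine ⟨MulAut.conj (x * h) • T, ?_⟩
  rw [h1, h2]
  generalize x * h = z
  ext g
  constructor
  · intro hg
    have h3 : z⁻¹ * g * z ∈ (T : Set G) := mem_conj_smul.1 hg
    rw [hT] at h3
    obtain ⟨a, ha, b, hb, hab⟩ := h3
    replace hab : a * b = z⁻¹ * g * z := hab
    refine ⟨z * a * z⁻¹, conj_mem_conj_smul ha, z * b * z⁻¹, conj_mem_conj_smul hb, ?_⟩
    have h4 : z * a * z⁻¹ * (z * b * z⁻¹) = z * (a * b) * z⁻¹ := by group
    show z * a * z⁻¹ * (z * b * z⁻¹) = g
    rw [h4, hab]; group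
  · rintro ⟨a', ha', b', hb', rfl⟩
    apply mem_conj_smul.2
    have h3 : z⁻¹ * (a' * b') * z = (z⁻¹ * a' * z) * (z⁻¹ * b' * z) := by group
    show z⁻¹ * (a' * b') * z ∈ T
    rw [h3]
    show _ ∈ (T : Set G)
    rw [hT]
    exact Set.mul_mem_mul (mem_conj_smul.1 ha') (mem_conj_smul.1 hb')

end Cfsg.Agent.Helper1
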