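import Mathlib
import Cfsg.Agent.Helper1.Basic

set_option autoImplicit false

/-!
Sylow subgroups of a factorized group `G = HK`.
-/

namespace Cfsg.Agent.Helper1

open scoped Pointwise

universe u

variable {G : Type u} [Group G]

theorem stabilizer_one_coset (H K : Subgroup G) :
    MulAction.stabilizer K ((1 : G) : G ⧸ H) = H.subgroupOf K := by
  ext k
  rw [MulAction.mem_stabilizer_iff, Subgroup.mem_subgroupOf]
  change (((k : G) * 1 : G) : G ⧸ H) = ((1 : G) : G ⧸ H) ↔ _
  rw [mul_one, eq_comm, QuotientGroup.eq, inv_one, one_mul]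

/-- If `|K : H ∩ K| = |G : H|` then `G = HK`. -/
theorem exists_mul_of_relIndex_eq_index [Finite G] (H K : Subgroup G)
    (h2 : H.relIndex K = H.index) : ∀ g : G, ∃ x ∈ H, ∃ y ∈ K, g = x * y := by
  have horb : (MulAction.orbit K ((1 : G) : G ⧸ H)).ncard = Nat.card (G ⧸ H) := by
    rw [← MulAction.index_stabilizer, stabilizer_one_coset]
    exact h2
  have huniv : MulAction.orbit K ((1 : G) : G ⧸ H) = Set.univ :=
    (Set.eq_univ_iff_ncard _).2 horb
  intro g
  have hg : ((g⁻¹ : G) : G ⧸ H) ∈ MulAction.orbit K ((1 : G) : G ⧸ H) := by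
    rw [huniv]; trivial
  obtain ⟨k, hk⟩ := hg
  have hk' : (((k : G) * 1 : G) : G ⧸ H) = ((g⁻¹ : G) : G ⧸ H) := hk
  rw [mul_one, QuotientGroup.eq] at hk'
  refine ⟨((k : G)⁻¹ * g⁻¹)⁻¹, H.inv_mem hk', (k : G)⁻¹, K.inv_mem k.2, ?_⟩
  group

/-- If `G = KH` (as sets) then `|K : H ∩ K| = |G : H|`. -/
theorem relIndex_eq_index_of_forall_mul [Finite G] (H K : Subgroup G)
    (h : ∀ g : G, ∃ k ∈ K, ∃ x ∈ H, g = k * x) : H.relIndex K = H.index := by
  have huniv : MulAction.orbit K ((1 : G) : G ⧸ H) = Set.univ := by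
    rw [Set.eq_univ_iff_forall]
    intro c
    obtain ⟨g, rfl⟩ := QuotientGroup.mk_surjective c
    obtain ⟨k, hk, x, hx, rfl⟩ := h g
    refine ⟨⟨k, hk⟩, ?_⟩
    change (((k : G) * 1 : G) : G ⧸ H) = ((k * x : G) : G ⧸ H)
    rw [mul_one, QuotientGroup.eq]
    have : k⁻¹ * (k * x) = x := by group
    rw [this]; exact hx
  have h1 := MulAction.index_stabilizer K ((1 : G) : G ⧸ H)
  rw [stabilizer_one_coset, huniv, Set.ncard_univ] at h1
  rw [Subgroup.index_eq_card]
  exact h1

theorem card_mul_card_inf_of_forall_mul [Finite G] (H K : Subgroup G)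
    (h : ∀ g : G, ∃ k ∈ K, ∃ x ∈ H, g = k * x) :
    Nat.card G * Nat.card (H ⊓ K : Subgroup G) = Nat.card H * Nat.card K := by
  have h1 := relIndex_eq_index_of_forall_mul H K h
  have h2 : H.index * Nat.card H = Nat.card G := H.index_mul_card
  have h3 : (H ⊓ K).relIndex K * Nat.card (H ⊓ K : Subgroup G) = Nat.card K :=
    relIndex_mul_card_of_le inf_le_right
  rw [Subgroup.inf_relIndex_right, h1] at h3
  rw [← h2, ← h3]
  ring

theorem sylow_prod_numeric {p g h k i d : ℕ} (hp : p.Prime) (hg : g ≠ 0) (hh : h ≠ 0)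
    (hk : k ≠ 0) (hi : i ≠ 0) (hcount : g * i = h * k) (hd : p ^ d ∣ i)
    (hle : p ^ h.factorization p * p ^ k.factorization p ≤ p ^ g.factorization p * p ^ d) :
    p ^ h.factorization p * p ^ k.factorization p = p ^ g.factorization p * p ^ d := by
  have h1 : g.factorization p + i.factorization p = h.factorization p + k.factorization p := by
    have := congrArg (fun n => n.factorization p) hcount
    simp only [Nat.factorization_mul hg hi, Nat.factorization_mul hh hk, Finsupp.add_apply] at this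
    exact this
  have h2 : d ≤ i.factorization p := (hp.pow_dvd_iff_le_factorization hi).1 hd
  rw [← pow_add, ← pow_add] at hle ⊢
  have h3 : h.factorization p + k.factorization p ≤ g.factorization p + d :=
    (Nat.pow_le_pow_iff_right hp.one_lt).1 hle
  congr 1
  omega

theorem coe_mul_eq_of_card [Finite G] {P Q R : Subgroup G} (hP : P ≤ R) (hQ : Q ≤ R)
    (hcard : Nat.card P * Nat.card Q = Nat.card R * Nat.card (P ⊓ Q : Subgroup G)) :
    (R : Set G) = (P : Set G) * (Q : Set G) := by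
  have h1 : P.relIndex R * Nat.card P = Nat.card R := relIndex_mul_card_of_le hP
  have h2 : (P ⊓ Q).relIndex Q * Nat.card (P ⊓ Q : Subgroup G) = Nat.card Q :=
    relIndex_mul_card_of_le inf_le_right
  rw [Subgroup.inf_relIndex_right] at h2
  have h3 : P.relIndex Q = P.relIndex R := by
    have hpos : 0 < Nat.card (P ⊓ Q : Subgroup G) * Nat.card P :=
      Nat.mul_pos Nat.card_pos Nat.card_pos
    apply Nat.eq_of_mul_eq_mul_right hpos
    calc P.relIndex Q * (Nat.card (P ⊓ Q : Subgroup G) * Nat.card P)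
        = (P.relIndex Q * Nat.card (P ⊓ Q : Subgroup G)) * Nat.card P := by ring
      _ = Nat.card P * Nat.card Q := by rw [h2]; ring
      _ = Nat.card R * Nat.card (P ⊓ Q : Subgroup G) := hcard
      _ = P.relIndex R * (Nat.card (P ⊓ Q : Subgroup G) * Nat.card P) := by rw [← h1]; ring
  have h4 : (P.subgroupOf R).relIndex (Q.subgroupOf R) = (P.subgroupOf R).index := by
    rw [Subgroup.relIndex_subgroupOf hQ, h3]
    rfl
  have h5 := exists_mul_of_relIndex_eq_index (P.subgroupOf R) (Q.subgroupOf R) h4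
  apply Set.Subset.antisymm
  · intro r hr
    obtain ⟨x, hx, y, hy, hxy⟩ := h5 ⟨r, hr⟩
    rw [Subgroup.mem_subgroupOf] at hx hy
    have : r = (x : G) * (y : G) := congrArg Subtype.val hxy
    rw [this]
    exact Set.mul_mem_mul hx hy
  · rintro _ ⟨x, hx, y, hy, rfl⟩
    exact R.mul_mem (hP hx) (hQ hy)

theorem exists_sylow_prod [Finite G] (H K : Subgroup G)
    (hHK : ∀ g : G, ∃ h ∈ H, ∃ k ∈ K, g = h * k) (p : ℕ) [hp : Fact p.Prime] :
    ∃ (P : Sylow p H) (Q : Sylow p K) (R : Sylow p G),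
      ((R : Subgroup G) : Set G) =
        (((P : Subgroup H).map H.subtype : Subgroup G) : Set G) *
          (((Q : Subgroup K).map K.subtype : Subgroup G) : Set G) := by
  -- `G = KH` too
  have hKH : ∀ g : G, ∃ k ∈ K, ∃ x ∈ H, g = k * x := by
    intro g
    obtain ⟨h, hh, k, hk, hg⟩ := hHK g⁻¹
    refine ⟨k⁻¹, K.inv_mem hk, h⁻¹, H.inv_mem hh, ?_⟩
    rw [← mul_inv_rev, ← hg, inv_inv]
  obtain P₀ : Sylow p H := default
  obtain Q₀ : Sylow p K := default
  have hP₀ : IsPGroup p ((P₀ : Subgroup H).map H.subtype) := P₀.2.map _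
  have hQ₀ : IsPGroup p ((Q₀ : Subgroup K).map K.subtype) := Q₀.2.map _
  obtain ⟨R₁, hR₁⟩ := hP₀.exists_le_sylow
  obtain ⟨R₂, hR₂⟩ := hQ₀.exists_le_sylow
  obtain ⟨g, hg⟩ := MulAction.exists_smul_eq G R₁ R₂
  obtain ⟨k, hk, h, hh, rfl⟩ := hKH g
  refine ⟨(⟨h, hh⟩ : H) • P₀, (⟨k, hk⟩ : K)⁻¹ • Q₀, h • R₁, ?_⟩
  obtain ⟨PG, hPG⟩ : ∃ PG : Subgroup G,
      PG = (((⟨h, hh⟩ : H) • P₀ : Sylow p H) : Subgroup H).map H.subtype := ⟨_, rfl⟩
  obtain ⟨QG, hQG⟩ : ∃ QG : Subgroup G,
      QG = (((⟨k, hk⟩ : K)⁻¹ • Q₀ : Sylow p K) : Subgroup K).map K.subtype := ⟨_, rfl⟩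
  rw [← hPG, ← hQG]
  have hPG' : PG = MulAut.conj h • (P₀ : Subgroup H).map H.subtype := by
    rw [hPG, Sylow.coe_subgroup_smul, map_conj_smul]; rfl
  have hQG' : QG = MulAut.conj k⁻¹ • (Q₀ : Subgroup K).map K.subtype := by
    rw [hQG, Sylow.coe_subgroup_smul, map_conj_smul]; rfl
  have hRco : ((h • R₁ : Sylow p G) : Subgroup G) = MulAut.conj h • (R₁ : Subgroup G) :=
    Sylow.coe_subgroup_smul
  have hPR : PG ≤ ((h • R₁ : Sylow p G) : Subgroup G) := by
    rw [hPG', hRco]
    exact Subgroup.pointwise_smul_le_pointwise_smul_iff.2 hR₁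
  have hR₂' : ((h • R₁ : Sylow p G) : Subgroup G) = MulAut.conj k⁻¹ • (R₂ : Subgroup G) := by
    rw [← hg, ← Sylow.coe_subgroup_smul, smul_smul, inv_mul_cancel_left]
  have hQR : QG ≤ ((h • R₁ : Sylow p G) : Subgroup G) := by
    rw [hQG', hR₂']
    exact Subgroup.pointwise_smul_le_pointwise_smul_iff.2 hR₂
  have hPGH : PG ≤ H := hPG ▸ Subgroup.map_subtype_le _
  have hQGK : QG ≤ K := hQG ▸ Subgroup.map_subtype_le _
  have hPGcard : Nat.card PG = p ^ (Nat.card H).factorization p := by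
    rw [hPG, Subgroup.card_map_of_injective H.subtype_injective, Sylow.card_eq_multiplicity]
  have hQGcard : Nat.card QG = p ^ (Nat.card K).factorization p := by
    rw [hQG, Subgroup.card_map_of_injective K.subtype_injective, Sylow.card_eq_multiplicity]
  have hRcard : Nat.card ((h • R₁ : Sylow p G) : Subgroup G) =
      p ^ (Nat.card G).factorization p := Sylow.card_eq_multiplicity _
  have hDp : IsPGroup p (PG ⊓ QG : Subgroup G) :=
    ((h • R₁ : Sylow p G).2.to_le (inf_le_left.trans hPR))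
  obtain ⟨d, hd⟩ := IsPGroup.iff_card.1 hDp
  have hdvd : p ^ d ∣ Nat.card (H ⊓ K : Subgroup G) := by
    rw [← hd]
    exact Subgroup.card_dvd_of_le (inf_le_inf hPGH hQGK)
  have hle : Nat.card PG * Nat.card QG ≤
      Nat.card ((h • R₁ : Sylow p G) : Subgroup G) * Nat.card (PG ⊓ QG : Subgroup G) := by
    have h1 : PG.relIndex (h • R₁ : Sylow p G) * Nat.card PG = Nat.card _ :=
      relIndex_mul_card_of_le hPR
    have h2 : QG.relIndex (h • R₁ : Sylow p G) * Nat.card QG = Nat.card _ :=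
      relIndex_mul_card_of_le hQR
    have h3 : (PG ⊓ QG).relIndex (h • R₁ : Sylow p G) * Nat.card (PG ⊓ QG : Subgroup G) =
        Nat.card _ := relIndex_mul_card_of_le (inf_le_left.trans hPR)
    have h4 := Subgroup.relIndex_inf_le (H := PG) (K := QG)
      (L := ((h • R₁ : Sylow p G) : Subgroup G))
    have hpos : 0 < (PG ⊓ QG).relIndex (h • R₁ : Sylow p G) := by
      rcases Nat.eq_zero_or_pos ((PG ⊓ QG).relIndex (h • R₁ : Sylow p G)) with h0 | h0
      · rw [h0, zero_mul] at h3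
        exact absurd h3.symm Nat.card_pos.ne'
      · exact h0
    apply Nat.le_of_mul_le_mul_left _ hpos
    calc (PG ⊓ QG).relIndex (h • R₁ : Sylow p G) * (Nat.card PG * Nat.card QG)
        ≤ (PG.relIndex (h • R₁ : Sylow p G) * QG.relIndex (h • R₁ : Sylow p G)) *
            (Nat.card PG * Nat.card QG) := Nat.mul_le_mul_right _ h4
      _ = (PG.relIndex (h • R₁ : Sylow p G) * Nat.card PG) *
            (QG.relIndex (h • R₁ : Sylow p G) * Nat.card QG) := by ring
      _ = Nat.card ((h • R₁ : Sylow p G) : Subgroup G) *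
            ((PG ⊓ QG).relIndex (h • R₁ : Sylow p G) * Nat.card (PG ⊓ QG : Subgroup G)) := by
          rw [h1, h2, h3]
      _ = (PG ⊓ QG).relIndex (h • R₁ : Sylow p G) *
            (Nat.card ((h • R₁ : Sylow p G) : Subgroup G) * Nat.card (PG ⊓ QG : Subgroup G)) := by
          ring
  have hcount := card_mul_card_inf_of_forall_mul H K hKH
  apply coe_mul_eq_of_card hPR hQR
  rw [hPGcard, hQGcard, hRcard, hd]
  rw [hPGcard, hQGcard, hRcard, hd] at hle
  exact sylow_prod_numeric hp.out Nat.card_pos.ne' Nat.card_pos.ne' Nat.card_pos.ne'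
    Nat.card_pos.ne' hcount hdvd hle

end Cfsg.Agent.Helper1
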