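import Mathlib
import Cfsg.Agent.Helper1.HallProduct
import Cfsg.Agent.Helper1.SylowProd

set_option autoImplicit false

/-!
Consequences of the Kegel–Wielandt theorem, stated conditionally on it (`H564`):
products of nilpotent subgroups of coprime orders.
-/

namespace Cfsg.Agent.Helper1.KWCond

open scoped Pointwise

universe u

/-- The Kegel–Wielandt statement in universe `u`. -/
def H564 : Prop := ∀ (G : Type u) [Group G] [Finite G] (A B : Subgroup G),
  Group.IsNilpotent A → Group.IsNilpotent B →
  (∀ g : G, ∃ a ∈ A, ∃ b ∈ B, g = a * b) → Group.IsSolvable G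

variable {G : Type u} [Group G]

theorem factor_swap {A B : Subgroup G} (hAB : ∀ g : G, ∃ a ∈ A, ∃ b ∈ B, g = a * b) :
    ∀ g : G, ∃ b ∈ B, ∃ a ∈ A, g = b * a := by
  intro g
  obtain ⟨a, ha, b, hb, h⟩ := hAB g⁻¹
  refine ⟨b⁻¹, B.inv_mem hb, a⁻¹, A.inv_mem ha, ?_⟩
  rw [← mul_inv_rev, ← h, inv_inv]

theorem card_eq_mul_of_coprime [Finite G] (A B : Subgroup G)
    (hcop : (Nat.card A).Coprime (Nat.card B))
    (hAB : ∀ g : G, ∃ a ∈ A, ∃ b ∈ B, g = a * b) :
    Nat.card G = Nat.card A * Nat.card B := by
  have h1 := card_mul_card_inf_of_forall_mul B A hAB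
  have h2 : Nat.card (B ⊓ A : Subgroup G) = 1 := by
    have h3 : Nat.card (B ⊓ A : Subgroup G) ∣ Nat.card A :=
      Subgroup.card_dvd_of_le inf_le_right
    have h4 : Nat.card (B ⊓ A : Subgroup G) ∣ Nat.card B :=
      Subgroup.card_dvd_of_le inf_le_left
    exact Nat.eq_one_of_dvd_coprimes hcop h3 h4
  rw [h2, mul_one] at h1
  rw [h1, mul_comm]

theorem sylow_map_hall [Finite G] (A B : Subgroup G)
    (hcop : (Nat.card A).Coprime (Nat.card B))
    (hAB : ∀ g : G, ∃ a ∈ A, ∃ b ∈ B, g = a * b) (p : ℕ) [hp : Fact p.Prime] (P : Sylow p A) :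
    (Nat.card ((P : Subgroup A).map A.subtype)).Coprime
      ((P : Subgroup A).map A.subtype).index := by
  have hcard : Nat.card ((P : Subgroup A).map A.subtype) = Nat.card (P : Subgroup A) :=
    Subgroup.card_map_of_injective A.subtype_injective
  rw [hcard]
  by_cases hpA : p ∣ Nat.card A
  · -- `p ∤ |B|`
    have hpB : ¬ p ∣ Nat.card B := by
      intro h
      have := Nat.dvd_gcd hpA h
      rw [hcop] at this
      exact hp.out.one_lt.ne' (Nat.dvd_one.1 this)
    have hidx : ((P : Subgroup A).map A.subtype).index = (P : Subgroup A).index * Nat.card B := by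
      have h1 : ((P : Subgroup A).map A.subtype).index *
          Nat.card ((P : Subgroup A).map A.subtype) = Nat.card G := Subgroup.index_mul_card _
      have h2 : (P : Subgroup A).index * Nat.card (P : Subgroup A) = Nat.card A :=
        Subgroup.index_mul_card _
      rw [hcard, card_eq_mul_of_coprime A B hcop hAB, ← h2] at h1
      have hpos : 0 < Nat.card (P : Subgroup A) := Nat.card_pos
      apply Nat.eq_of_mul_eq_mul_right hpos
      rw [h1]; ring
    rw [hidx, P.card_eq_multiplicity]
    apply Nat.Coprime.pow_left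
    rw [Nat.Prime.coprime_iff_not_dvd hp.out]
    intro h
    rcases (Nat.Prime.dvd_mul hp.out).1 h with h | h
    · exact P.not_dvd_index h
    · exact hpB h
  · rw [P.card_eq_multiplicity, Nat.factorization_eq_zero_of_not_dvd hpA, pow_zero]
    exact Nat.coprime_one_left _

theorem le_normalizer_sylow_map [Finite G] (A : Subgroup G) (hA : Group.IsNilpotent A)
    (p : ℕ) [hp : Fact p.Prime] (P : Sylow p A) :
    A ≤ Subgroup.normalizer (((P : Subgroup A).map A.subtype : Subgroup G) : Set G) := by
  haveI : (P : Subgroup A).Normal :=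
    Sylow.normal_of_normalizerCondition Group.normalizerCondition_of_isNilpotent P
  have hle : (P : Subgroup A).map A.subtype ≤ A := Subgroup.map_subtype_le _
  rw [← Subgroup.normal_subgroupOf_iff_le_normalizer hle]
  have : ((P : Subgroup A).map A.subtype).subgroupOf A = (P : Subgroup A) := by
    ext x
    rw [Subgroup.mem_subgroupOf]
    constructor
    · rintro ⟨y, hy, hxy⟩
      have : y = x := Subtype.ext hxy
      rwa [← this]
    · intro hx
      exact ⟨x, hx, rfl⟩
  rw [this]
  infer_instance

/-- S0563 conditional on Kegel–Wielandt. -/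
theorem coprime_nilpotent_product (h564 : H564.{u}) [Finite G] (A B : Subgroup G)
    (hA : Group.IsNilpotent A) (hB : Group.IsNilpotent B)
    (hcop : (Nat.card A).Coprime (Nat.card B))
    (hAB : ∀ g : G, ∃ a ∈ A, ∃ b ∈ B, g = a * b) :
    Group.IsSolvable G ∧ ∀ (p q : ℕ) [Fact p.Prime] [Fact q.Prime] (P : Sylow p A)
      (Q : Sylow q B), ∃ S : Subgroup G, (S : Set G) =
        (((P : Subgroup A).map A.subtype : Subgroup G) : Set G) *
          (((Q : Subgroup B).map B.subtype : Subgroup G) : Set G) := by
  have hsol : Group.IsSolvable G := h564 G A B hA hB hAB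
  refine ⟨hsol, ?_⟩
  intro p q _ _ P Q
  haveI := hsol
  exact hall_mul_hall A B _ _ hAB (le_normalizer_sylow_map A hA p P)
    (le_normalizer_sylow_map B hB q Q) (sylow_map_hall A B hcop hAB p P)
    (sylow_map_hall B A hcop.symm (factor_swap hAB) q Q)

end Cfsg.Agent.Helper1.KWCond
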