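import Mathlib
import Cfsg.Agent.Helper1.KWCondA
import Cfsg.Agent.Helper1.CoreFree
import Cfsg.Agent.Helper1.FTD

set_option autoImplicit false

/-!
S0565 conditional on the Kegel–Wielandt theorem (`H564`): in a product of two nilpotent
subgroups, not both the whole group, one factor lies in a proper normal subgroup.
-/

namespace Cfsg.Agent.Helper1.KWCond

open scoped Pointwise

universe u

variable {G : Type u} [Group G]

/-- a nontrivial normal subgroup of a finite `p`-group meets the centre nontrivially -/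
theorem normal_inf_center_ne_bot {Q : Type*} [Group Q] [Finite Q] {p : ℕ} [hp : Fact p.Prime]
    (hQ : IsPGroup p Q) (M : Subgroup Q) [hM : M.Normal] (hMne : M ≠ ⊥) :
    ∃ b ∈ M, b ≠ 1 ∧ ∀ g : Q, g * b = b * g := by
  have hQ' : IsPGroup p (ConjAct Q) := hQ
  have hcard : p ∣ Nat.card M := by
    obtain ⟨k, hk⟩ := (hQ.to_subgroup M).exists_card_eq
    have hk0 : k ≠ 0 := by
      rintro rfl
      rw [pow_zero] at hk
      exact hMne (Subgroup.card_eq_one.1 hk)
    rw [hk]
    exact dvd_pow_self p hk0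
  have h1 : (1 : M) ∈ MulAction.fixedPoints (ConjAct Q) M := by
    intro g
    exact smul_one g
  obtain ⟨b, hb, hne⟩ := hQ'.exists_fixed_point_of_prime_dvd_card_of_fixed_point M hcard h1
  refine ⟨(b : Q), b.2, ?_, ?_⟩
  · intro h
    apply hne
    exact (Subtype.ext h).symm
  · intro g
    have h2 := hb (ConjAct.toConjAct g)
    have h3 := congrArg Subtype.val h2
    rw [ConjAct.Subgroup.val_conj_smul, ConjAct.smul_def, ConjAct.ofConjAct_toConjAct] at h3
    calc g * b = g * b * g⁻¹ * g := by group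
      _ = b * g := by rw [h3]

theorem normal_of_sup_eq_top {X A N : Subgroup G}
    (hA : A ≤ Subgroup.normalizer (X : Set G)) (hN : N ≤ Subgroup.normalizer (X : Set G))
    (h : A ⊔ N = ⊤) : X.Normal := by
  apply Subgroup.normalizer_eq_top_iff.1
  rw [eq_top_iff, ← h]
  exact sup_le hA hN

theorem quot_step [Finite G] (A B : Subgroup G) (hA : Group.IsNilpotent A)
    (hB : Group.IsNilpotent B) (hAB : ∀ g : G, ∃ a ∈ A, ∃ b ∈ B, g = a * b)
    (K : Subgroup G) [K.Normal]
    (ih : ∀ (A' B' : Subgroup (G ⧸ K)), Group.IsNilpotent A' → Group.IsNilpotent B' →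
      (∀ g, ∃ a ∈ A', ∃ b ∈ B', g = a * b) → (A' ≠ ⊤ ∨ B' ≠ ⊤) →
      ∃ N : Subgroup (G ⧸ K), N.Normal ∧ N ≠ ⊤ ∧ (A' ≤ N ∨ B' ≤ N)) :
    (∃ N : Subgroup G, N.Normal ∧ N ≠ ⊤ ∧ (A ≤ N ∨ B ≤ N)) ∨ (A ⊔ K = ⊤ ∧ B ⊔ K = ⊤) := by
  set π := QuotientGroup.mk' K with hπdef
  have hπ : Function.Surjective π := QuotientGroup.mk'_surjective K
  have hA' : Group.IsNilpotent (A.map π) := by
    haveI := hA
    exact Group.nilpotent_of_surjective (π.subgroupMap A) (π.subgroupMap_surjective A)
  have hB' : Group.IsNilpotent (B.map π) := by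
    haveI := hB
    exact Group.nilpotent_of_surjective (π.subgroupMap B) (π.subgroupMap_surjective B)
  have hAB' : ∀ g, ∃ a ∈ A.map π, ∃ b ∈ B.map π, g = a * b := by
    intro g
    obtain ⟨x, rfl⟩ := hπ g
    obtain ⟨a, ha, b, hb, rfl⟩ := hAB x
    exact ⟨π a, Subgroup.mem_map_of_mem _ ha, π b, Subgroup.mem_map_of_mem _ hb, map_mul _ _ _⟩
  by_cases h : A.map π ≠ ⊤ ∨ B.map π ≠ ⊤
  · left
    obtain ⟨N', hN'n, hN't, hN'⟩ := ih _ _ hA' hB' hAB' h
    refine ⟨N'.comap π, hN'n.comap π, ?_, ?_⟩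
    · intro htop
      apply hN't
      rw [← Subgroup.map_comap_eq_self_of_surjective hπ N', htop, ← MonoidHom.range_eq_map,
        MonoidHom.range_eq_top.2 hπ]
    · rcases hN' with h | h
      · exact Or.inl (Subgroup.map_le_iff_le_comap.1 h)
      · exact Or.inr (Subgroup.map_le_iff_le_comap.1 h)
  · right
    rw [not_or, not_not, not_not] at h
    have hsup : ∀ X : Subgroup G, X.map π = ⊤ → X ⊔ K = ⊤ := by
      intro X hX
      have := Subgroup.comap_map_eq π X
      rw [hX, Subgroup.comap_top, QuotientGroup.ker_mk'] at this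
      exact this.symm
    exact ⟨hsup A h.1, hsup B h.2⟩

/-- a nilpotent supplement of an abelian minimal normal `p`-subgroup containing no nontrivial
normal subgroup of `G` is a `p'`-complement. -/
theorem compl_card [Finite G] {p : ℕ} [hp : Fact p.Prime] (N : Subgroup G) [hNn : N.Normal]
    (hNne : N ≠ ⊥) (hNp : IsPGroup p N) (hNc : IsMulCommutative N)
    (hNmin : ∀ K : Subgroup G, K.Normal → K ≤ N → K = ⊥ ∨ K = N)
    (X : Subgroup G) (hX : Group.IsNilpotent X) (hXN : X ⊔ N = ⊤)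
    (hcf : ∀ K : Subgroup G, K.Normal → K ≤ X → K = ⊥) :
    Nat.card G = Nat.card X * Nat.card N ∧ ¬ p ∣ Nat.card X := by
  have hNcent : N ≤ Subgroup.centralizer (N : Set G) :=
    Subgroup.le_centralizer_iff_isMulCommutative.2 hNc
  have hcomm : ∀ a ∈ N, ∀ b ∈ N, a * b = b * a := by
    intro a ha b hb
    exact (Subgroup.mem_centralizer_iff.1 (hNcent hb) a ha)
  -- factorization
  have hfac : ∀ g : G, ∃ x ∈ X, ∃ n ∈ N, g = x * n := by
    intro g
    have hg : g ∈ X ⊔ N := by rw [hXN]; trivial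
    have h1 : g ∈ ((X ⊔ N : Subgroup G) : Set G) := hg
    rw [Subgroup.mul_normal] at h1
    obtain ⟨x, hx, n, hn, rfl⟩ := h1
    exact ⟨x, hx, n, hn, rfl⟩
  -- normality criterion
  have hnormal : ∀ Y : Subgroup G, (∀ x ∈ X, ∀ y ∈ Y, x * y * x⁻¹ ∈ Y) →
      (∀ n ∈ N, ∀ y ∈ Y, n * y * n⁻¹ = y) → Y.Normal := by
    intro Y h1 h2
    constructor
    intro y hy g
    obtain ⟨x, hx, n, hn, rfl⟩ := hfac g
    have : x * n * y * (x * n)⁻¹ = x * (n * y * n⁻¹) * x⁻¹ := by group
    rw [this, h2 n hn y hy]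
    exact h1 x hx y hy
  -- `X ⊓ N = ⊥`
  have h1 : X ⊓ N = ⊥ := by
    apply hcf _ _ inf_le_left
    apply hnormal
    · intro x hx y hy
      exact ⟨X.mul_mem (X.mul_mem hx hy.1) (X.inv_mem hx), hNn.conj_mem y hy.2 x⟩
    · intro n hn y hy
      rw [hcomm n hn y hy.2]; group
  -- `X ⊓ C(N) = ⊥`
  have h2 : X ⊓ Subgroup.centralizer (N : Set G) = ⊥ := by
    apply hcf _ _ inf_le_left
    apply hnormal
    · intro x hx y hy
      refine Subgroup.mem_inf.2 ⟨X.mul_mem (X.mul_mem hx hy.1) (X.inv_mem hx), ?_⟩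
      rw [Subgroup.mem_centralizer_iff]
      intro m hm
      have hm' : x⁻¹ * m * x ∈ N := by
        have := hNn.conj_mem m hm x⁻¹
        rwa [inv_inv] at this
      have h3 := Subgroup.mem_centralizer_iff.1 hy.2 _ hm'
      calc m * (x * y * x⁻¹) = x * ((x⁻¹ * m * x) * y) * x⁻¹ := by group
        _ = x * (y * (x⁻¹ * m * x)) * x⁻¹ := by rw [h3]
        _ = x * y * x⁻¹ * m := by group
    · intro n hn y hy
      have h3 := Subgroup.mem_centralizer_iff.1 hy.2 n hn
      rw [h3]; group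
  -- the Sylow `p`-subgroup of `X`
  obtain ⟨P⟩ : Nonempty (Sylow p X) := inferInstance
  set P' : Subgroup G := (P : Subgroup X).map X.subtype with hP'
  have hP'X : P' ≤ X := Subgroup.map_subtype_le _
  have hP'norm : X ≤ Subgroup.normalizer (P' : Set G) := le_normalizer_sylow_map X hX p P
  have hP'p : IsPGroup p P' := P.2.map _
  -- `F = N ⊓ C(P')`
  have hF : N ⊓ Subgroup.centralizer (P' : Set G) = N := by
    have hFn : (N ⊓ Subgroup.centralizer (P' : Set G)).Normal := by
      apply hnormal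
      · intro x hx y hy
        refine Subgroup.mem_inf.2 ⟨hNn.conj_mem y hy.1 x, ?_⟩
        rw [Subgroup.mem_centralizer_iff]
        intro m hm
        have hm' : x⁻¹ * m * x ∈ P' := by
          have h3 := (Subgroup.mem_normalizer_iff.1 (hP'norm (X.inv_mem hx)) m).1 hm
          rwa [inv_inv] at h3
        have h3 := Subgroup.mem_centralizer_iff.1 hy.2 _ hm'
        calc m * (x * y * x⁻¹) = x * ((x⁻¹ * m * x) * y) * x⁻¹ := by group
          _ = x * (y * (x⁻¹ * m * x)) * x⁻¹ := by rw [h3]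
          _ = x * y * x⁻¹ * m := by group
      · intro n hn y hy
        rw [hcomm n hn y hy.1]; group
    rcases hNmin _ hFn inf_le_left with h | h
    · exfalso
      -- nontrivial fixed point
      haveI : (N.subgroupOf (P' ⊔ N)).Normal := hNn.subgroupOf _
      have hQ : IsPGroup p (P' ⊔ N : Subgroup G) := hP'p.to_sup_of_normal_right hNp
      have hMne : N.subgroupOf (P' ⊔ N) ≠ ⊥ := by
        intro h0
        rw [Subgroup.subgroupOf_eq_bot] at h0
        apply hNne
        rw [← le_bot_iff, ← h0.eq_bot]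
        exact le_inf le_rfl le_sup_right
      obtain ⟨b, hbN, hb1, hbc⟩ := normal_inf_center_ne_bot hQ (N.subgroupOf (P' ⊔ N)) hMne
      have hbF : (b : G) ∈ N ⊓ Subgroup.centralizer (P' : Set G) := by
        refine Subgroup.mem_inf.2 ⟨Subgroup.mem_subgroupOf.1 hbN, ?_⟩
        rw [Subgroup.mem_centralizer_iff]
        intro m hm
        have := hbc ⟨m, (le_sup_left : P' ≤ P' ⊔ N) hm⟩
        exact congrArg Subtype.val this
      rw [h, Subgroup.mem_bot] at hbF
      exact hb1 (Subtype.ext hbF)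
    · exact h
  have hP'bot : P' = ⊥ := by
    rw [← le_bot_iff, ← h2]
    refine le_inf hP'X ?_
    intro y hy
    rw [Subgroup.mem_centralizer_iff]
    intro n hn
    have hn' : n ∈ N ⊓ Subgroup.centralizer (P' : Set G) := by rw [hF]; exact hn
    exact (Subgroup.mem_centralizer_iff.1 hn'.2 y hy).symm
  constructor
  · have h3 := card_mul_card_inf_of_forall_mul N X hfac
    rw [inf_comm, h1, Subgroup.card_bot, mul_one, mul_comm] at h3
    exact h3
  · intro hpX
    have h3 : Nat.card (P : Subgroup X) = 1 := by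
      have h4 : Nat.card P' = Nat.card (P : Subgroup X) :=
        Subgroup.card_map_of_injective X.subtype_injective
      rw [← h4, hP'bot, Subgroup.card_bot]
    rw [P.card_eq_multiplicity] at h3
    have h5 : 0 < (Nat.card X).factorization p :=
      hp.out.factorization_pos_of_dvd Nat.card_pos.ne' hpX
    have := Nat.one_lt_pow h5.ne' hp.out.one_lt
    omega

theorem eq_top_of_mul_conj {A : Subgroup G} (g : G)
    (h : ∀ x : G, ∃ a ∈ A, ∃ b ∈ (MulAut.conj g • A : Subgroup G), x = a * b) : A = ⊤ := by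
  have hg : g ∈ A := by
    obtain ⟨a, ha, b, hb, hab⟩ := h g⁻¹
    rw [mem_conj_smul] at hb
    have h1 : g = a⁻¹ * (g⁻¹ * b * g)⁻¹ := by
      have : b = a⁻¹ * g⁻¹ := by rw [hab]; group
      rw [this]; group
    rw [h1]
    exact A.mul_mem (A.inv_mem ha) (A.inv_mem hb)
  have hA : MulAut.conj g • A = A := conj_smul_eq_of_mem_normalizer (Subgroup.le_normalizer hg)
  rw [eq_top_iff]
  intro x _
  obtain ⟨a, ha, b, hb, rfl⟩ := h x
  rw [hA] at hb
  exact A.mul_mem ha hb

theorem proper_normal_aux (h564 : H564.{u}) : ∀ (n : ℕ) (G : Type u) [Group G] [Finite G],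
    Nat.card G = n → ∀ (A B : Subgroup G), Group.IsNilpotent A → Group.IsNilpotent B →
    (∀ g : G, ∃ a ∈ A, ∃ b ∈ B, g = a * b) → (A ≠ ⊤ ∨ B ≠ ⊤) →
    ∃ N : Subgroup G, N.Normal ∧ N ≠ ⊤ ∧ (A ≤ N ∨ B ≤ N) := by
  intro n
  induction n using Nat.strong_induction_on with
  | _ n ih =>
  intro G _ _ hn A B hA hB hAB hproper
  by_cases hnil : Group.IsNilpotent G
  · have key : ∀ X : Subgroup G, X ≠ ⊤ → ∃ N : Subgroup G, N.Normal ∧ N ≠ ⊤ ∧ X ≤ N := by
      intro X hX
      obtain ⟨M, hM, hXM⟩ := (eq_top_or_exists_le_coatom X).resolve_left hX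
      exact ⟨M, Subgroup.NormalizerCondition.normal_of_coatom _
        Group.normalizerCondition_of_isNilpotent hM, hM.1, hXM⟩
    rcases hproper with h | h
    · obtain ⟨N, h1, h2, h3⟩ := key A h
      exact ⟨N, h1, h2, Or.inl h3⟩
    · obtain ⟨N, h1, h2, h3⟩ := key B h
      exact ⟨N, h1, h2, Or.inr h3⟩
  · by_contra hcon
    have hsol : Group.IsSolvable G := h564 G A B hA hB hAB
    haveI : Nontrivial G := by
      by_contra hnt
      rw [not_nontrivial_iff_subsingleton] at hnt
      exact hnil inferInstance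
    have htop : ∀ X : Subgroup G, Group.IsNilpotent X → X ≠ ⊤ := by
      intro X hX h
      apply hnil
      rw [h] at hX
      exact Group.nilpotent_of_mulEquiv (Subgroup.topEquiv : (⊤ : Subgroup G) ≃* G)
    have hK : ∀ K : Subgroup G, K.Normal → K ≠ ⊥ → A ⊔ K = ⊤ ∧ B ⊔ K = ⊤ := by
      intro K hKn hKne
      haveI := hKn
      have hlt : Nat.card (G ⧸ K) < n := hn ▸ FT.card_quotient_lt hKne
      rcases quot_step A B hA hB hAB K
        (fun A' B' => ih (Nat.card (G ⧸ K)) hlt (G ⧸ K) rfl A' B') with h | h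
      · exact absurd h hcon
      · exact h
    have hcfA : ∀ K : Subgroup G, K.Normal → K ≤ A → K = ⊥ := by
      intro K hKn hKA
      by_contra hKne
      have := (hK K hKn hKne).1
      rw [sup_eq_left.2 hKA] at this
      exact htop A hA this
    have hcfB : ∀ K : Subgroup G, K.Normal → K ≤ B → K = ⊥ := by
      intro K hKn hKB
      by_contra hKne
      have := (hK K hKn hKne).2
      rw [sup_eq_left.2 hKB] at this
      exact htop B hB this
    obtain ⟨p, hp, N, hNn, hNne, hNp, hNc, hNmin⟩ := exists_minimal_normal_abelian G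
    haveI := hp
    haveI := hNn
    obtain ⟨hAN, hBN⟩ := hK N hNn hNne
    obtain ⟨hcA, hpA⟩ := compl_card N hNne hNp hNc hNmin A hA hAN hcfA
    obtain ⟨hcB, hpB⟩ := compl_card N hNne hNp hNc hNmin B hB hBN hcfB
    have hNpos : 0 < Nat.card N := Nat.card_pos
    have hAB_card : Nat.card B = Nat.card A := by
      apply Nat.eq_of_mul_eq_mul_right hNpos
      rw [← hcA, ← hcB]
    have hcop : (Nat.card A).Coprime (Nat.card N) := by
      obtain ⟨k, hk⟩ := hNp.exists_card_eq
      rw [hk]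
      apply Nat.Coprime.pow_right
      exact ((Nat.Prime.coprime_iff_not_dvd hp.out).2 hpA).symm
    haveI := hsol
    obtain ⟨hC, -⟩ := hallProp_of_solvable (Nat.card G) G rfl (Nat.card A) (Nat.card N) hcA hcop
    obtain ⟨g, hg⟩ := hC A B rfl hAB_card
    apply htop A hA
    apply eq_top_of_mul_conj g
    rw [hg]
    exact hAB

/-- S0565 conditional on Kegel–Wielandt. -/
theorem proper_normal_of_nilpotent_product (h564 : H564.{u}) [Finite G] (A B : Subgroup G)
    (hA : Group.IsNilpotent A) (hB : Group.IsNilpotent B)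
    (hAB : ∀ g : G, ∃ a ∈ A, ∃ b ∈ B, g = a * b) (hproper : A ≠ ⊤ ∨ B ≠ ⊤) :
    ∃ N : Subgroup G, N.Normal ∧ N ≠ ⊤ ∧ (A ≤ N ∨ B ≤ N) :=
  proper_normal_aux h564 (Nat.card G) G rfl A B hA hB hAB hproper

end Cfsg.Agent.Helper1.KWCond
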