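import Mathlib
import Cfsg.Prelude
import Cfsg.Agent.Helper1.BGWb
import Cfsg.Agent.Helper1.Class2
import Cfsg.Agent.Helper1.PQLemma
import Cfsg.Agent.Helper1.KWCondB
import Cfsg.Agent.Helper1.NormalEA2
import Cfsg.Agent.Helper1.MaxNormalAbelianBound
import Cfsg.Agent.Helper1.SubnormalComm

set_option autoImplicit false

/-!
Bender–Glauberman, towards Lemma 9.5: general lemmas on `p`-groups and cyclic groups.
-/

namespace Cfsg.Agent.Helper1.BGW

open Cfsg Cfsg.Agent.Helper1 Cfsg.Agent.Helper2 Cfsg.Agent.Helper1.BGT Cfsg.Agent.Helper1.BGU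
  Cfsg.Agent.Helper1.BGV
open scoped commutatorElement Pointwise

universe u

variable {G : Type u} [Group G] [Finite G]

/-- Two subgroups of index at most `p` in a group of order greater than `p²` meet nontrivially. -/
theorem exists_ne_one_mem_inf_of_relIndex_le {p : ℕ} {B B₁ B₂ : Subgroup G}
    (hBcard : p ^ 2 < Nat.card B) (hB₁B : B₁ ≤ B) (hB₁i : B₁.relIndex B ≤ p)
    (hB₂i : B₂.relIndex B ≤ p) : ∃ b ∈ B₁ ⊓ B₂, b ≠ 1 := by
  have hinf : 1 < Nat.card ↥(B₁ ⊓ B₂) := by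
    have h1 : (B₁ ⊓ B₂).relIndex B ≤ p * p :=
      (Subgroup.relIndex_inf_le).trans (Nat.mul_le_mul hB₁i hB₂i)
    have h2 : Nat.card B = Nat.card ↥(B₁ ⊓ B₂) * (B₁ ⊓ B₂).relIndex B :=
      (relIndex_mul_card_of_le (inf_le_left.trans hB₁B)).symm.trans (mul_comm _ _)
    by_contra hle
    have h3 : Nat.card ↥(B₁ ⊓ B₂) = 1 := by
      have : 0 < Nat.card ↥(B₁ ⊓ B₂) := Nat.card_pos
      omega
    rw [h3, one_mul] at h2
    rw [h2, pow_two] at hBcard
    omega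
  obtain ⟨b, hb, hb1⟩ := exists_ne_one_of_one_lt_card hinf
  exact ⟨b, hb, hb1⟩

/-- In a cyclic group, divisibility of orders of subgroups implies inclusion. -/
theorem le_of_card_dvd_of_isCyclic {C H K : Subgroup G} (hC : IsCyclic ↥C) (hH : H ≤ C)
    (hK : K ≤ C) (hd : Nat.card H ∣ Nat.card K) : H ≤ K := by
  classical
  haveI : Fintype ↥C := Fintype.ofFinite _
  intro x hx
  have hxK : (⟨x, hH hx⟩ : ↥C) ^ Nat.card K = 1 := by
    apply Subtype.ext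
    rw [Subgroup.coe_pow, Subgroup.coe_one]
    obtain ⟨m, hm⟩ := hd
    have h1 : x ^ Nat.card H = 1 := by
      have := pow_card_eq_one' (G := H) (x := ⟨x, hx⟩)
      exact congrArg Subtype.val this
    rw [hm, pow_mul, h1, one_pow]
  have hcardle := IsCyclic.card_pow_eq_one_le (α := ↥C) (n := Nat.card K) Nat.card_pos
  have hsub : (Finset.univ.filter (fun a : ↥C => a ∈ K.subgroupOf C)) ⊆
      Finset.univ.filter (fun a : ↥C => a ^ Nat.card K = 1) := by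
    intro a ha
    rw [Finset.mem_filter] at ha ⊢
    refine ⟨Finset.mem_univ _, ?_⟩
    have haK : (a : G) ∈ K := Subgroup.mem_subgroupOf.mp ha.2
    apply Subtype.ext
    rw [Subgroup.coe_pow, Subgroup.coe_one]
    have := pow_card_eq_one' (G := K) (x := ⟨a, haK⟩)
    exact congrArg Subtype.val this
  have hcardK : (Finset.univ.filter (fun a : ↥C => a ∈ K.subgroupOf C)).card = Nat.card K := by
    rw [← Cfsg.Agent.Lead.card_subgroupOf_of_le hK, Nat.card_eq_fintype_card,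
      Fintype.card_subtype]
  have heq := Finset.eq_of_subset_of_card_le hsub (by rw [hcardK]; exact hcardle)
  have hmem : (⟨x, hH hx⟩ : ↥C) ∈ Finset.univ.filter (fun a : ↥C => a ∈ K.subgroupOf C) := by
    rw [heq, Finset.mem_filter]
    exact ⟨Finset.mem_univ _, hxK⟩
  rw [Finset.mem_filter] at hmem
  exact Subgroup.mem_subgroupOf.mp hmem.2

/-- In a cyclic group, the elements of order dividing the prime `t` lie in the subgroup
generated by any element of order `t`. -/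
theorem mem_zpowers_of_isCyclic {t : ℕ} [ht : Fact t.Prime] {Z : Subgroup G} (hZ : IsCyclic ↥Z)
    {z₀ z : G} (hz₀ : z₀ ∈ Z) (hz₀1 : z₀ ≠ 1) (hz₀t : z₀ ^ t = 1) (hz : z ∈ Z) (hzt : z ^ t = 1) :
    z ∈ Subgroup.zpowers z₀ := by
  have h : Subgroup.zpowers z ≤ Subgroup.zpowers z₀ :=
    le_of_card_dvd_of_isCyclic hZ (Subgroup.zpowers_le.mpr hz) (Subgroup.zpowers_le.mpr hz₀) (by
      rw [Nat.card_zpowers, Nat.card_zpowers, orderOf_eq_prime hz₀t hz₀1]
      exact orderOf_dvd_of_pow_eq_one hzt)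
  exact h (Subgroup.mem_zpowers z)

omit [Finite G] in
/-- The commutator subgroup of a group normalizing a cyclic group centralizes it. -/
theorem commutator_le_centralizer_zpowers {N : Subgroup G} {z₀ : G}
    (hN : N ≤ Subgroup.normalizer ((Subgroup.zpowers z₀ : Subgroup G) : Set G)) :
    ⁅N, N⁆ ≤ Subgroup.centralizer ((Subgroup.zpowers z₀ : Subgroup G) : Set G) := by
  have hpow : ∀ n ∈ N, ∃ a : ℤ, n * z₀ * n⁻¹ = z₀ ^ a := by
    intro n hn
    have := (Subgroup.mem_normalizer_iff.mp (hN hn) z₀).mp (Subgroup.mem_zpowers z₀)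
    obtain ⟨a, ha⟩ := Subgroup.mem_zpowers_iff.mp this
    exact ⟨a, ha.symm⟩
  have hkey : ∀ n ∈ N, ∀ m ∈ N, Commute ⁅n, m⁆ z₀ := by
    intro n hn m hm
    obtain ⟨a, ha⟩ := hpow n⁻¹ (N.inv_mem hn)
    obtain ⟨b, hb⟩ := hpow m⁻¹ (N.inv_mem hm)
    rw [inv_inv] at ha hb
    -- `(n⁻¹ m⁻¹) z₀ (n⁻¹ m⁻¹)⁻¹ = (m⁻¹ n⁻¹) z₀ (m⁻¹ n⁻¹)⁻¹`
    have h1 : n⁻¹ * (m⁻¹ * z₀ * m) * n = z₀ ^ (a * b) := by
      rw [hb]
      have : n⁻¹ * z₀ ^ b * n = (n⁻¹ * z₀ * n) ^ b := by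
        have := map_zpow (MulAut.conj n⁻¹) z₀ b
        simp only [MulAut.conj_apply, inv_inv] at this
        exact this
      rw [this, ha, ← zpow_mul]
    have h2 : m⁻¹ * (n⁻¹ * z₀ * n) * m = z₀ ^ (a * b) := by
      rw [ha]
      have : m⁻¹ * z₀ ^ a * m = (m⁻¹ * z₀ * m) ^ a := by
        have := map_zpow (MulAut.conj m⁻¹) z₀ a
        simp only [MulAut.conj_apply, inv_inv] at this
        exact this
      rw [this, hb, ← zpow_mul, mul_comm]
    have h3 : n⁻¹ * (m⁻¹ * z₀ * m) * n = m⁻¹ * (n⁻¹ * z₀ * n) * m := h1.trans h2.symm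
    change ⁅n, m⁆ * z₀ = z₀ * ⁅n, m⁆
    rw [commutatorElement_def]
    have h4 : z₀ = m * (n * (m⁻¹ * (n⁻¹ * z₀ * n) * m) * n⁻¹) * m⁻¹ := by
      rw [← h3]; group
    calc n * m * n⁻¹ * m⁻¹ * z₀
        = n * m * n⁻¹ * m⁻¹ * (m * (n * (m⁻¹ * (n⁻¹ * z₀ * n) * m) * n⁻¹) * m⁻¹) := by rw [← h4]
      _ = z₀ * (n * m * n⁻¹ * m⁻¹) := by group
  rw [Subgroup.commutator_le]
  intro n hn m hm
  rw [Subgroup.mem_centralizer_iff]
  intro h hh
  obtain ⟨k, rfl⟩ := Subgroup.mem_zpowers_iff.mp hh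
  exact ((hkey n hn m hm).zpow_right k).eq.symm

/-- If `E` is a normal abelian subgroup of order `t²` of the `t`-group `Q`, then every subgroup
`F` of `Q` satisfies `|F| ≤ t |C_F(E)|`. -/
theorem card_le_mul_card_inf_centralizer {t : ℕ} [ht : Fact t.Prime] {Q E : Subgroup G}
    (hQ : IsPGroup t ↥Q) (hEQ : E ≤ Q) (hQE : Q ≤ Subgroup.normalizer (E : Set G))
    (hEc : IsMulCommutative ↥E) (hEcard : Nat.card E = t ^ 2) :
    ∀ F : Subgroup G, F ≤ Q →
      Nat.card F ≤ t * Nat.card ↥(F ⊓ Subgroup.centralizer (E : Set G)) := by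
  obtain ⟨E', hE'⟩ : ∃ E' : Subgroup ↥Q, E' = E.subgroupOf Q := ⟨_, rfl⟩
  have hE'n : E'.Normal := hE' ▸ (Subgroup.normal_subgroupOf_iff_le_normalizer hEQ).2 hQE
  have hE'c : IsMulCommutative ↥E' := by
    refine ⟨⟨fun x y => ?_⟩⟩
    apply Subtype.ext
    apply Subtype.ext
    have hx' : (x : ↥Q) ∈ E.subgroupOf Q := by rw [← hE']; exact x.2
    have hy' : (y : ↥Q) ∈ E.subgroupOf Q := by rw [← hE']; exact y.2
    have hx : ((x : ↥Q) : G) ∈ E := Subgroup.mem_subgroupOf.mp hx'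
    have hy : ((y : ↥Q) : G) ∈ E := Subgroup.mem_subgroupOf.mp hy'
    have := hEc.is_comm.comm ⟨_, hx⟩ ⟨_, hy⟩
    change ((x : ↥Q) : G) * ((y : ↥Q) : G) = ((y : ↥Q) : G) * ((x : ↥Q) : G)
    exact congrArg Subtype.val this
  have hE'card : Nat.card E' = t ^ 2 := by
    rw [hE', Cfsg.Agent.Lead.card_subgroupOf_of_le hEQ]; exact hEcard
  intro F hFQ
  have hCidx : (Subgroup.centralizer (E' : Set ↥Q)).index ≤ t := by
    have := index_centralizer_le hQ 2 E' hE'n hE'c hE'card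
    simpa using this
  have h1 : (Subgroup.centralizer (E' : Set ↥Q)).relIndex (F.subgroupOf Q) ∣
      (Subgroup.centralizer (E' : Set ↥Q)).index :=
    Subgroup.relIndex_dvd_index_of_normal _ _
  have hpos : 0 < (Subgroup.centralizer (E' : Set ↥Q)).index :=
    Nat.pos_of_ne_zero Subgroup.index_ne_zero_of_finite
  have h2 : (Subgroup.centralizer (E' : Set ↥Q)).relIndex (F.subgroupOf Q) ≤ t :=
    (Nat.le_of_dvd hpos h1).trans hCidx
  have h3 : Nat.card ↥(F.subgroupOf Q ⊓ Subgroup.centralizer (E' : Set ↥Q)) *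
      (Subgroup.centralizer (E' : Set ↥Q)).relIndex (F.subgroupOf Q) =
        Nat.card (F.subgroupOf Q) := by
    have := relIndex_mul_card_of_le (inf_le_left :
      F.subgroupOf Q ⊓ Subgroup.centralizer (E' : Set ↥Q) ≤ F.subgroupOf Q)
    rw [inf_comm, Subgroup.inf_relIndex_right, inf_comm, mul_comm] at this
    exact this
  have h4 : (F.subgroupOf Q ⊓ Subgroup.centralizer (E' : Set ↥Q)).map Q.subtype ≤
      F ⊓ Subgroup.centralizer (E : Set G) := by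
    rintro _ ⟨x, ⟨hxF, hxC⟩, rfl⟩
    refine ⟨Subgroup.mem_subgroupOf.mp hxF, Subgroup.mem_centralizer_iff.mpr ?_⟩
    intro e he
    have heE' : (⟨e, hEQ he⟩ : ↥Q) ∈ E' := by rw [hE']; exact Subgroup.mem_subgroupOf.mpr he
    have := Subgroup.mem_centralizer_iff.mp hxC _ heE'
    exact congrArg Subtype.val this
  have h5 : Nat.card ↥(F.subgroupOf Q ⊓ Subgroup.centralizer (E' : Set ↥Q)) ≤
      Nat.card ↥(F ⊓ Subgroup.centralizer (E : Set G)) := by
    rw [← Subgroup.card_map_of_injective (Subgroup.subtype_injective Q)]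
    exact Subgroup.card_le_of_le h4
  rw [← Cfsg.Agent.Lead.card_subgroupOf_of_le hFQ, ← h3]
  calc Nat.card ↥(F.subgroupOf Q ⊓ Subgroup.centralizer (E' : Set ↥Q)) *
        (Subgroup.centralizer (E' : Set ↥Q)).relIndex (F.subgroupOf Q)
      ≤ Nat.card ↥(F.subgroupOf Q ⊓ Subgroup.centralizer (E' : Set ↥Q)) * t :=
        Nat.mul_le_mul_left _ h2
    _ = t * Nat.card ↥(F.subgroupOf Q ⊓ Subgroup.centralizer (E' : Set ↥Q)) := mul_comm _ _
    _ ≤ _ := Nat.mul_le_mul_left _ h5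

/-- A noncyclic `t`-group (`t` odd) has a normal elementary abelian subgroup of order `t²`. -/
theorem exists_normal_ea2 {t : ℕ} [ht : Fact t.Prime] (ht2 : t ≠ 2) {Q : Subgroup G}
    (hQ : IsPGroup t ↥Q) (hnc : ¬ IsCyclic ↥Q) :
    ∃ E : Subgroup G, E ≤ Q ∧ Cfsg.IsElementaryAbelian t E ∧ Nat.card E = t ^ 2 ∧
      Q ≤ Subgroup.normalizer (E : Set G) := by
  obtain ⟨E', hE'n, hE'el, hE'card⟩ := exists_normal_elementary_p2_top ht2 hQ hnc
  haveI := hE'n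
  haveI : IsMulCommutative ↥E' := hE'el.1
  have hmapQ : E'.map Q.subtype ≤ Q := Subgroup.map_subtype_le _
  refine ⟨E'.map Q.subtype, hmapQ, ⟨Subgroup.map_isMulCommutative E' _, ?_⟩, ?_, ?_⟩
  · rintro _ ⟨x, hx, rfl⟩
    have := hE'el.2 x hx
    rw [← map_pow, this, map_one]
  · rw [Subgroup.card_map_of_injective (Subgroup.subtype_injective _)]; exact hE'card
  · rw [← Subgroup.normal_subgroupOf_iff_le_normalizer hmapQ]
    have : (E'.map Q.subtype).subgroupOf Q = E' := by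
      ext x
      rw [Subgroup.mem_subgroupOf]
      constructor
      · rintro ⟨y, hy, hyx⟩
        have : y = x := Subtype.ext hyx
        rw [← this]; exact hy
      · intro hx
        exact ⟨x, hx, rfl⟩
    rw [this]; exact hE'n

/-- A normal subgroup of order at most `t` of a `t`-group is central. -/
theorem le_centralizer_of_card_le {t : ℕ} [ht : Fact t.Prime] {Q N : Subgroup G}
    (hQ : IsPGroup t ↥Q) (hNQ : N ≤ Q) (hQN : Q ≤ Subgroup.normalizer (N : Set G))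
    (hcard : Nat.card N ≤ t) : N ≤ Subgroup.centralizer (Q : Set G) := by
  by_cases hN : N = ⊥
  · rw [hN]; exact bot_le
  have hlt := commutator_lt_of_isPGroup (hQ.to_le hNQ) hQ hQN hN
  have h1 : Nat.card ↥⁅N, Q⁆ < t := lt_of_lt_of_le (card_lt_card_of_lt hlt) hcard
  obtain ⟨k, hk⟩ := IsPGroup.iff_card.mp (hQ.to_le (hlt.le.trans hNQ))
  have hk0 : k = 0 := by
    by_contra hne
    have : t ≤ t ^ k := Nat.le_self_pow hne t
    omega
  rw [hk0, pow_zero] at hk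
  have hbot : ⁅N, Q⁆ = ⊥ := Subgroup.card_eq_one.mp hk
  exact Subgroup.commutator_eq_bot_iff_le_centralizer.mp hbot

/-- If `E` is a normal subgroup of order `t²` of the `t`-group `Q` then `[E, Q] ≤ Z(Q)`. -/
theorem commutator_le_center_of_card {t : ℕ} [ht : Fact t.Prime] {Q E : Subgroup G}
    (hQ : IsPGroup t ↥Q) (hEQ : E ≤ Q) (hQE : Q ≤ Subgroup.normalizer (E : Set G))
    (hEcard : Nat.card E = t ^ 2) : ⁅E, Q⁆ ≤ Q ⊓ Subgroup.centralizer (Q : Set G) := by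
  have hE1 : E ≠ ⊥ := by
    rintro rfl
    rw [Subgroup.card_bot] at hEcard
    have := Nat.one_lt_pow (n := 2) (by norm_num) ht.out.one_lt
    omega
  have hlt := commutator_lt_of_isPGroup (hQ.to_le hEQ) hQ hQE hE1
  have hNQ : ⁅E, Q⁆ ≤ Q := hlt.le.trans hEQ
  have h1 : Nat.card ↥⁅E, Q⁆ < t ^ 2 := hEcard ▸ card_lt_card_of_lt hlt
  obtain ⟨k, hk⟩ := IsPGroup.iff_card.mp (hQ.to_le hNQ)
  have hk1 : k < 2 := by
    rw [hk] at h1
    exact (Nat.pow_lt_pow_iff_right ht.out.one_lt).mp h1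
  have hcard : Nat.card ↥⁅E, Q⁆ ≤ t := by
    rw [hk]
    calc t ^ k ≤ t ^ 1 := Nat.pow_le_pow_right ht.out.pos (by omega)
      _ = t := pow_one t
  refine le_inf hNQ (le_centralizer_of_card_le hQ hNQ ?_ hcard)
  exact le_normalizer_commutator hQE Subgroup.le_normalizer

omit [Finite G] in
/-- The subgroup `Ω₁` of the second centre relative to a central subgroup `Z₁` of exponent `t`. -/
theorem exists_omega {t : ℕ} [ht : Fact t.Prime] (ht2 : t ≠ 2) {Q Z₁ : Subgroup G}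
    (hZ₁c : Z₁ ≤ Subgroup.centralizer (Q : Set G)) (hZ₁t : ∀ z ∈ Z₁, z ^ t = 1) :
    ∃ Ω : Subgroup G, ∀ x, x ∈ Ω ↔ x ∈ Q ∧ x ^ t = 1 ∧ ∀ g ∈ Q, ⁅x, g⁆ ∈ Z₁ := by
  have hcen : ∀ z ∈ Z₁, ∀ g ∈ Q, g * z = z * g := fun z hz g hg =>
    Subgroup.mem_centralizer_iff.mp (hZ₁c hz) g hg
  refine ⟨{ carrier := {x | x ∈ Q ∧ x ^ t = 1 ∧ ∀ g ∈ Q, ⁅x, g⁆ ∈ Z₁}
            mul_mem' := ?_
            one_mem' := ?_
            inv_mem' := ?_ }, fun x => Iff.rfl⟩
  · rintro x y ⟨hxQ, hxt, hxc⟩ ⟨hyQ, hyt, hyc⟩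
    refine ⟨Q.mul_mem hxQ hyQ, ?_, ?_⟩
    · have hcZ : ⁅y, x⁆ ∈ Z₁ := hyc x hxQ
      have hcQ : ⁅y, x⁆ ∈ Q := by
        rw [commutatorElement_def]
        exact Q.mul_mem (Q.mul_mem (Q.mul_mem hyQ hxQ) (Q.inv_mem hyQ)) (Q.inv_mem hxQ)
      have hc : ∀ z : ↥Q, Commute (⟨⁅y, x⁆, hcQ⟩ : ↥Q) z := by
        intro z
        apply Subtype.ext
        exact (hcen _ hcZ z z.2).symm
      have hyx : (⟨y, hyQ⟩ : ↥Q) * ⟨x, hxQ⟩ = ⟨⁅y, x⁆, hcQ⟩ * ⟨x, hxQ⟩ * ⟨y, hyQ⟩ := by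
        apply Subtype.ext
        simp [commutatorElement_def]
      have h1 := mul_pow_of_central hc hyx t
      have hdvd : t ∣ t.choose 2 := by
        apply ht.out.dvd_choose_self (by norm_num)
        have := ht.out.two_le
        omega
      obtain ⟨k, hk⟩ := hdvd
      have h2 := congrArg Subtype.val h1
      simp only [Subgroup.coe_pow, Subgroup.coe_mul] at h2
      rw [h2, hxt, hyt, hk, pow_mul, hZ₁t _ hcZ, one_pow, one_mul, one_mul]
    · intro g hg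
      have h1 : ⁅x * y, g⁆ = x * ⁅y, g⁆ * x⁻¹ * ⁅x, g⁆ := by
        simp only [commutatorElement_def]; group
      have h2 : x * ⁅y, g⁆ * x⁻¹ = ⁅y, g⁆ := by
        rw [hcen _ (hyc g hg) x hxQ]; group
      rw [h1, h2]
      exact Z₁.mul_mem (hyc g hg) (hxc g hg)
  · refine ⟨Q.one_mem, one_pow t, fun g _ => ?_⟩
    rw [commutatorElement_one_left]; exact Z₁.one_mem
  · rintro x ⟨hxQ, hxt, hxc⟩
    refine ⟨Q.inv_mem hxQ, by rw [inv_pow, hxt, inv_one], fun g hg => ?_⟩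
    have h1 : ⁅x⁻¹, g⁆ = x⁻¹ * ⁅x, g⁆⁻¹ * x := by
      simp only [commutatorElement_def]; group
    have h2 : x⁻¹ * ⁅x, g⁆⁻¹ * x = ⁅x, g⁆⁻¹ := by
      have := hcen _ (Z₁.inv_mem (hxc g hg)) x⁻¹ (Q.inv_mem hxQ)
      rw [this]; group
    rw [h1, h2]
    exact Z₁.inv_mem (hxc g hg)

/-- `Z₁ ⟨x⟩` is a normal elementary abelian subgroup of order `t²` of `Q`. -/
theorem sup_zpowers_props {t : ℕ} [ht : Fact t.Prime] {Q : Subgroup G} {z₀ x : G}
    (hz₀Q : z₀ ∈ Q) (hz₀c : z₀ ∈ Subgroup.centralizer (Q : Set G)) (hz₀1 : z₀ ≠ 1)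
    (hz₀t : z₀ ^ t = 1) (hxQ : x ∈ Q) (hxt : x ^ t = 1) (hxZ : x ∉ Subgroup.zpowers z₀)
    (hxc : ∀ g ∈ Q, ⁅x, g⁆ ∈ Subgroup.zpowers z₀) :
    Subgroup.zpowers z₀ ⊔ Subgroup.zpowers x ≤ Q ∧
      Cfsg.IsElementaryAbelian t (Subgroup.zpowers z₀ ⊔ Subgroup.zpowers x) ∧
      Nat.card ↥(Subgroup.zpowers z₀ ⊔ Subgroup.zpowers x) = t ^ 2 ∧
      Q ≤ Subgroup.normalizer ((Subgroup.zpowers z₀ ⊔ Subgroup.zpowers x : Subgroup G) : Set G) := by
  have hzx : Commute z₀ x := (Subgroup.mem_centralizer_iff.mp hz₀c x hxQ).symm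
  have hx1 : x ≠ 1 := fun h => hxZ (h ▸ Subgroup.one_mem _)
  have hxN : Subgroup.zpowers x ≤
      Subgroup.normalizer ((Subgroup.zpowers z₀ : Subgroup G) : Set G) := by
    refine le_trans ?_ (Subgroup.centralizer_le_normalizer _)
    rw [Subgroup.zpowers_le, Subgroup.mem_centralizer_iff]
    intro h hh
    obtain ⟨k, rfl⟩ := Subgroup.mem_zpowers_iff.mp hh
    exact (hzx.zpow_left k).eq
  have hEQ : Subgroup.zpowers z₀ ⊔ Subgroup.zpowers x ≤ Q :=
    sup_le (Subgroup.zpowers_le.mpr hz₀Q) (Subgroup.zpowers_le.mpr hxQ)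
  have hdecomp : ∀ e ∈ Subgroup.zpowers z₀ ⊔ Subgroup.zpowers x, ∃ i j : ℤ, e = z₀ ^ i * x ^ j := by
    intro e he
    obtain ⟨n, hn, a, ha, rfl⟩ := mem_sup_of_le_normalizer hxN he
    obtain ⟨i, rfl⟩ := Subgroup.mem_zpowers_iff.mp hn
    obtain ⟨j, rfl⟩ := Subgroup.mem_zpowers_iff.mp ha
    exact ⟨i, j, rfl⟩
  have hcomm : ∀ a ∈ Subgroup.zpowers z₀ ⊔ Subgroup.zpowers x,
      ∀ b ∈ Subgroup.zpowers z₀ ⊔ Subgroup.zpowers x, a * b = b * a := by
    intro a ha b hb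
    obtain ⟨i, j, rfl⟩ := hdecomp a ha
    obtain ⟨k, l, rfl⟩ := hdecomp b hb
    have h1 : Commute (z₀ ^ i) (x ^ l) := (hzx.zpow_left i).zpow_right l
    have h2 : Commute (z₀ ^ k) (x ^ j) := (hzx.zpow_left k).zpow_right j
    have h3 : Commute (z₀ ^ i) (z₀ ^ k) := (Commute.refl z₀).zpow_zpow i k
    have h4 : Commute (x ^ j) (x ^ l) := (Commute.refl x).zpow_zpow j l
    calc z₀ ^ i * x ^ j * (z₀ ^ k * x ^ l) = z₀ ^ i * (x ^ j * z₀ ^ k) * x ^ l := by group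
      _ = z₀ ^ i * (z₀ ^ k * x ^ j) * x ^ l := by rw [h2.eq]
      _ = (z₀ ^ i * z₀ ^ k) * (x ^ j * x ^ l) := by group
      _ = (z₀ ^ k * z₀ ^ i) * (x ^ l * x ^ j) := by rw [h3.eq, h4.eq]
      _ = z₀ ^ k * (z₀ ^ i * x ^ l) * x ^ j := by group
      _ = z₀ ^ k * (x ^ l * z₀ ^ i) * x ^ j := by rw [h1.eq]
      _ = z₀ ^ k * x ^ l * (z₀ ^ i * x ^ j) := by group
  refine ⟨hEQ, ⟨⟨⟨fun a b => Subtype.ext (hcomm a a.2 b b.2)⟩⟩, ?_⟩, ?_, ?_⟩
  · intro e he
    obtain ⟨i, j, rfl⟩ := hdecomp e he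
    have h1 : Commute (z₀ ^ i) (x ^ j) := (hzx.zpow_left i).zpow_right j
    rw [h1.mul_pow, ← zpow_natCast, ← zpow_natCast, ← zpow_mul, ← zpow_mul, mul_comm i,
      mul_comm j, zpow_mul, zpow_mul, zpow_natCast, zpow_natCast, hz₀t, hxt, one_zpow, one_zpow,
      one_mul]
  · have hdisj : Subgroup.zpowers x ⊓ Subgroup.zpowers z₀ = ⊥ := by
      rw [eq_bot_iff]
      intro y hy
      rw [Subgroup.mem_bot]
      by_contra hy1
      exact hxZ (Subgroup.zpowers_le.mpr hy.2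
        (mem_zpowers_of_mem_zpowers_prime hxt hy.1 hy1))
    rw [card_sup_of_le_normalizer hxN hdisj, Nat.card_zpowers, Nat.card_zpowers,
      orderOf_eq_prime hz₀t hz₀1, orderOf_eq_prime hxt hx1, pow_two]
  · apply le_normalizer_of_forall_conj_mem
    intro g hg e he
    obtain ⟨i, j, rfl⟩ := hdecomp e he
    have h1 : g * (z₀ ^ i * x ^ j) * g⁻¹ = (g * z₀ * g⁻¹) ^ i * (g * x * g⁻¹) ^ j := by
      rw [conj_zpow, conj_zpow]; group
    have h2 : g * z₀ * g⁻¹ = z₀ := by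
      rw [Subgroup.mem_centralizer_iff.mp hz₀c g hg]; group
    have h3 : g * x * g⁻¹ = ⁅x, g⁆⁻¹ * x := by
      rw [commutatorElement_def]; group
    rw [h1, h2, h3]
    apply Subgroup.mul_mem
    · exact Subgroup.zpow_mem _ (Subgroup.mem_sup_left (Subgroup.mem_zpowers z₀)) i
    · apply Subgroup.zpow_mem
      exact Subgroup.mul_mem _ (Subgroup.mem_sup_left (Subgroup.inv_mem _ (hxc g hg)))
        (Subgroup.mem_sup_right (Subgroup.mem_zpowers x))

omit [Finite G] in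
theorem le_centralizer_of_elementary {t : ℕ} {E : Subgroup G} (hE : Cfsg.IsElementaryAbelian t E) :
    E ≤ Subgroup.centralizer (E : Set G) := by
  intro a ha
  rw [Subgroup.mem_centralizer_iff]
  intro x hx
  have := hE.1.is_comm.comm ⟨x, hx⟩ ⟨a, ha⟩
  exact congrArg Subtype.val this

/-- A normal elementary abelian subgroup of order `t²` of a `t`-group `Q` containing an elementary
abelian uniqueness subgroup of order at least `t³` is a uniqueness subgroup. -/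
theorem inUniqueMaximal_of_normal_ea2 (hG : Cfsg.IsMinSimpleOddOrder G) {t : ℕ}
    [ht : Fact t.Prime] {Q E₀ E : Subgroup G} (hQ : IsPGroup t ↥Q) (hE₀Q : E₀ ≤ Q)
    (hE₀e : Cfsg.IsElementaryAbelian t E₀) (hE₀card : t ^ 2 < Nat.card E₀)
    (hE₀U : Cfsg.InUniqueMaximal E₀) (hEQ : E ≤ Q)
    (hQE : Q ≤ Subgroup.normalizer (E : Set G)) (hEe : Cfsg.IsElementaryAbelian t E)
    (hEcard : Nat.card E = t ^ 2) : Cfsg.InUniqueMaximal E := by
  have hbound := card_le_mul_card_inf_centralizer hQ hEQ hQE hEe.1 hEcard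
  have h1 : HasEA t 1 (E₀ ⊓ Subgroup.centralizer (E : Set G)) :=
    hasEA_inf_centralizer hE₀Q hbound ⟨E₀, le_rfl, hE₀e, hE₀card⟩
  have h2 : Cfsg.InUniqueMaximal (E₀ ⊓ Subgroup.centralizer (E : Set G)) :=
    cent_uniq' hG ht.out hE₀U (inf_le_left.trans (le_centralizer_of_elementary hE₀e)) h1
  have hE1 : HasEA t 1 E := by
    refine ⟨E, le_rfl, hEe, ?_⟩
    rw [hEcard]
    exact Nat.pow_lt_pow_right ht.out.one_lt (by norm_num)
  exact cent_uniq' hG ht.out h2 (le_centralizer_symm inf_le_right) hE1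

/-- A noncyclic `t`-group (`t` odd) contains an elementary abelian subgroup of order `t²`. -/
theorem hasEA_one_of_not_isCyclic {t : ℕ} [ht : Fact t.Prime] (ht2 : t ≠ 2) {Z : Subgroup G}
    (hZ : IsPGroup t ↥Z) (hnc : ¬ IsCyclic ↥Z) : HasEA t 1 Z := by
  obtain ⟨E, hEZ, hEe, hEcard, -⟩ := exists_normal_ea2 ht2 hZ hnc
  refine ⟨E, hEZ, hEe, ?_⟩
  rw [hEcard]
  exact Nat.pow_lt_pow_right ht.out.one_lt (by norm_num)

end Cfsg.Agent.Helper1.BGW
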