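import Mathlib
import Cfsg.Prelude
import Cfsg.Agent.Helper1.BGWc

set_option autoImplicit false

/-!
Bender–Glauberman, towards Lemma 9.5: the case of a cyclic centre.
-/

namespace Cfsg.Agent.Helper1.BGW

open Cfsg Cfsg.Agent.Helper1 Cfsg.Agent.Helper2 Cfsg.Agent.Helper1.BGT Cfsg.Agent.Helper1.BGU
  Cfsg.Agent.Helper1.BGV
open scoped commutatorElement Pointwise

universe u

variable {G : Type u} [Group G] [Finite G]

variable {p : ℕ} [hp : Fact p.Prime] {P : Sylow p G} {A : Subgroup G}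

theorem Ctx.prime_ne_two (c : Ctx p P A) {t : ℕ} {X : Subgroup G} (hX : IsPGroup t ↥X)
    (hX1 : X ≠ ⊥) : t ≠ 2 := by
  rintro rfl
  obtain ⟨k, hk⟩ := IsPGroup.iff_card.mp hX
  have hk0 : k ≠ 0 := by
    rintro rfl
    rw [pow_zero] at hk
    exact hX1 (Subgroup.card_eq_one.mp hk)
  have h2 : 2 ∣ Nat.card X := by rw [hk]; exact dvd_pow_self 2 hk0
  exact (Nat.not_even_iff_odd.mpr (c.odd X)) (even_iff_two_dvd.mpr h2)

/-- A nontrivial `t`-group has a central element of order `t`. -/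
theorem exists_central_of_order {t : ℕ} [ht : Fact t.Prime] {Q : Subgroup G} (hQ : IsPGroup t ↥Q)
    (hQ1 : Q ≠ ⊥) :
    ∃ z₀ ∈ Q ⊓ Subgroup.centralizer (Q : Set G), z₀ ≠ 1 ∧ z₀ ^ t = 1 := by
  haveI : Nontrivial ↥Q := (Subgroup.nontrivial_iff_ne_bot Q).mpr hQ1
  haveI := hQ.center_nontrivial
  have hZ : IsPGroup t ↥(Subgroup.center ↥Q) := hQ.to_subgroup _
  obtain ⟨k, hk⟩ := IsPGroup.iff_card.mp hZ
  have hk0 : k ≠ 0 := by
    rintro rfl
    rw [pow_zero] at hk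
    have := Finite.one_lt_card (α := ↥(Subgroup.center ↥Q))
    omega
  have hdvd : t ∣ Nat.card ↥(Subgroup.center ↥Q) := by rw [hk]; exact dvd_pow_self t hk0
  obtain ⟨z, hz⟩ := exists_prime_orderOf_dvd_card' t hdvd
  refine ⟨((z : ↥Q) : G), ⟨(z : ↥Q).2, ?_⟩, ?_, ?_⟩
  · refine Subgroup.mem_centralizer_iff.mpr ?_
    intro g hg
    have := Subgroup.mem_center_iff.mp z.2 ⟨g, hg⟩
    exact congrArg Subtype.val this
  · intro h
    have h1 : z = 1 := by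
      apply Subtype.ext; apply Subtype.ext; exact h
    rw [h1, orderOf_one] at hz
    exact ht.out.one_lt.ne hz
  · have h1 : z ^ t = 1 := by rw [← hz]; exact pow_orderOf_eq_one z
    have h2 := congrArg (fun w : ↥(Subgroup.center ↥Q) => ((w : ↥Q) : G)) h1
    simpa using h2

omit [Finite G] in
/-- The normalizer of `Q` normalizes `Z(Q)`. -/
theorem conj_mem_center_of_mem_normalizer {Q : Subgroup G} {n z : G}
    (hn : n ∈ Subgroup.normalizer (Q : Set G))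
    (hz : z ∈ Q ⊓ Subgroup.centralizer (Q : Set G)) :
    n * z * n⁻¹ ∈ Q ⊓ Subgroup.centralizer (Q : Set G) := by
  refine ⟨(Subgroup.mem_normalizer_iff.mp hn z).mp hz.1, ?_⟩
  refine Subgroup.mem_centralizer_iff.mpr ?_
  intro q hq
  have hq' : n⁻¹ * q * n ∈ Q := by
    have := (Subgroup.mem_normalizer_iff.mp (Subgroup.inv_mem _ hn) q).mp hq
    rwa [inv_inv] at this
  have h1 := Subgroup.mem_centralizer_iff.mp hz.2 _ hq'
  calc q * (n * z * n⁻¹) = n * (n⁻¹ * q * n * z) * n⁻¹ := by group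
    _ = n * (z * (n⁻¹ * q * n)) * n⁻¹ := by rw [h1]
    _ = n * z * n⁻¹ * q := by group

/-- Case II: if the centre of a suitable maximal `P`-invariant `t`-subgroup is cyclic, then `A`
is a uniqueness subgroup. -/
theorem Ctx.unique_of_cyclic_center (c : Ctx p P A) {t : ℕ} [ht : Fact t.Prime] (htp : t ≠ p)
    {Q : Subgroup G} (hQ : Q ∈ Cfsg.maxInvSubgroups ⊤ (P : Subgroup G) {t})
    {E₀ : Subgroup G} (hE₀Q : E₀ ≤ Q) (hE₀e : Cfsg.IsElementaryAbelian t E₀)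
    (hE₀card : t ^ 2 < Nat.card E₀) (hE₀U : Cfsg.InUniqueMaximal E₀)
    (hcyc : IsCyclic ↥(Q ⊓ Subgroup.centralizer (Q : Set G))) :
    Cfsg.InUniqueMaximal A := by
  obtain ⟨hQt, hPQ⟩ := (mem_invSubgroups_top ht.out).mp hQ.1
  have hAQ : A ≤ Subgroup.normalizer (Q : Set G) := c.scn.1.trans hPQ
  have hE₀1 : E₀ ≠ ⊥ := by
    rintro rfl
    rw [Subgroup.card_bot] at hE₀card
    have := Nat.one_le_pow 2 t ht.out.pos
    omega
  have hQ1 : Q ≠ ⊥ := fun h => hE₀1 (le_bot_iff.mp (h ▸ hE₀Q))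
  have ht2 : t ≠ 2 := c.prime_ne_two hQt hQ1
  -- the central subgroup `Z₁` of order `t`
  obtain ⟨z₀, hz₀Z, hz₀1, hz₀t⟩ := exists_central_of_order hQt hQ1
  have hCU : ∀ z ∈ Q ⊓ Subgroup.centralizer (Q : Set G), z ^ t = 1 → z ∈ Subgroup.zpowers z₀ :=
    fun z hz hzt => mem_zpowers_of_isCyclic hcyc hz₀Z hz₀1 hz₀t hz hzt
  have hZ₁t : ∀ z ∈ Subgroup.zpowers z₀, z ^ t = 1 := by
    intro z hz
    obtain ⟨k, rfl⟩ := Subgroup.mem_zpowers_iff.mp hz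
    rw [← zpow_natCast, ← zpow_mul, _root_.mul_comm k (t : ℤ), zpow_mul, zpow_natCast, hz₀t, one_zpow]
  have hZ₁Q : Subgroup.zpowers z₀ ≤ Q := Subgroup.zpowers_le.mpr hz₀Z.1
  have hZ₁c : Subgroup.zpowers z₀ ≤ Subgroup.centralizer (Q : Set G) :=
    Subgroup.zpowers_le.mpr hz₀Z.2
  -- `N(Q)` normalizes `Z₁`, so `A ≤ N(Q)'` centralizes it
  have hNZ₁ : Subgroup.normalizer (Q : Set G) ≤
      Subgroup.normalizer ((Subgroup.zpowers z₀ : Subgroup G) : Set G) := by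
    apply le_normalizer_of_forall_conj_mem
    intro n hn e he
    have heZ : e ∈ Q ⊓ Subgroup.centralizer (Q : Set G) := ⟨hZ₁Q he, hZ₁c he⟩
    apply hCU _ (conj_mem_center_of_mem_normalizer hn heZ)
    rw [conj_pow, hZ₁t e he]; group
  have hAZ₁ : A ≤ Subgroup.centralizer ((Subgroup.zpowers z₀ : Subgroup G) : Set G) :=
    (c.le_commutator_normalizer ht.out htp hQ).trans (commutator_le_centralizer_zpowers hNZ₁)
  -- `Q` is not cyclic
  have hnc : ¬ IsCyclic ↥Q := by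
    intro hc
    have h1 := pRankLE_one_of_isCyclic hc t
    have h2 : HasEA t 1 Q :=
      ⟨E₀, hE₀Q, hE₀e, lt_trans (Nat.pow_lt_pow_right ht.out.one_lt (by norm_num)) hE₀card⟩
    exact not_pRankLE_of_hasEA h2 h1
  -- a normal elementary abelian subgroup `E⁰` of order `t²`, and `x₀ ∈ E⁰ ∖ Z₁`
  obtain ⟨E', hE'Q, hE'e, hE'card, hQE'⟩ := exists_normal_ea2 ht2 hQt hnc
  have hcommZ := commutator_le_center_of_card hQt hE'Q hQE' hE'card
  have hcommE : ⁅E', Q⁆ ≤ E' := Subgroup.le_normalizer_iff_commutator_le_left.1 hQE'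
  obtain ⟨x₀, hx₀E, hx₀Z⟩ : ∃ x₀ ∈ E', x₀ ∉ Subgroup.zpowers z₀ := by
    by_contra hcon
    push Not at hcon
    have hle : E' ≤ Subgroup.zpowers z₀ := hcon
    have h1 := Subgroup.card_le_of_le hle
    rw [hE'card, Nat.card_zpowers, orderOf_eq_prime hz₀t hz₀1, pow_two] at h1
    have := ht.out.one_lt
    nlinarith
  have hx₀c : ∀ g ∈ Q, ⁅x₀, g⁆ ∈ Subgroup.zpowers z₀ := by
    intro g hg
    have hmem : ⁅x₀, g⁆ ∈ ⁅E', Q⁆ := Subgroup.commutator_mem_commutator hx₀E hg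
    exact hCU _ (hcommZ hmem) (hE'e.2 _ (hcommE hmem))
  -- the subgroup `Ω`
  obtain ⟨Ω, hΩ⟩ := exists_omega ht2 hZ₁c hZ₁t
  have hx₀Ω : x₀ ∈ Ω := (hΩ x₀).mpr ⟨hE'Q hx₀E, hE'e.2 _ hx₀E, hx₀c⟩
  have hΩQ : Ω ≤ Q := fun x hx => ((hΩ x).mp hx).1
  have hpΩ : ¬ p ∣ Nat.card Ω := by
    intro hd
    obtain ⟨k, hk⟩ := IsPGroup.iff_card.mp (hQt.to_le hΩQ)
    rw [hk] at hd
    exact htp ((Nat.prime_dvd_prime_iff_eq hp.out ht.out).mp (hp.out.dvd_of_dvd_pow hd)).symm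
  have hAΩ : A ≤ Subgroup.normalizer (Ω : Set G) := by
    apply le_normalizer_of_forall_conj_mem
    intro a ha x hx
    obtain ⟨hxQ, hxt, hxc⟩ := (hΩ x).mp hx
    rw [hΩ]
    refine ⟨(Subgroup.mem_normalizer_iff.mp (hAQ ha) x).mp hxQ, ?_, ?_⟩
    · rw [conj_pow, hxt]; group
    · intro g hg
      have hg' : a⁻¹ * g * a ∈ Q := by
        have := (Subgroup.mem_normalizer_iff.mp (Subgroup.inv_mem _ (hAQ ha)) g).mp hg
        rwa [inv_inv] at this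
      have h1 : ⁅a * x * a⁻¹, g⁆ = a * ⁅x, a⁻¹ * g * a⁆ * a⁻¹ := by
        simp only [commutatorElement_def]; group
      have h2 := hxc _ hg'
      have h3 := Subgroup.mem_centralizer_iff.mp (hAZ₁ ha) _ h2
      rw [h1, ← h3]
      have : ⁅x, a⁻¹ * g * a⁆ * a * a⁻¹ = ⁅x, a⁻¹ * g * a⁆ := by group
      rw [this]; exact h2
  -- generation by centralizers of hyperplanes
  obtain ⟨A₃, hA₃A, hA₃e, hA₃card⟩ := hasEA_of_not_pRankLE c.r3
  have hgen := le_iSup_hyperplane_centralizers p (Nat.card A₃) A₃ Ω rfl hA₃e hpΩ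
    (hA₃A.trans hAΩ)
  obtain ⟨B₁, x, hxΩC, hxZ⟩ : ∃ B₁ : {B : Subgroup G // B ≤ A₃ ∧ B.relIndex A₃ ≤ p},
      ∃ x ∈ Ω ⊓ Subgroup.centralizer ((B₁ : Subgroup G) : Set G), x ∉ Subgroup.zpowers z₀ := by
    by_contra hcon
    push Not at hcon
    have hle : (⨆ B : {B : Subgroup G // B ≤ A₃ ∧ B.relIndex A₃ ≤ p},
        Ω ⊓ Subgroup.centralizer ((B : Subgroup G) : Set G)) ≤ Subgroup.zpowers z₀ :=
      iSup_le fun B x hx => hcon B x hx
    exact hx₀Z (hle (hgen hx₀Ω))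
  obtain ⟨B₁, hB₁A₃, hB₁i⟩ := B₁
  obtain ⟨hxQ, hxt, hxc⟩ := (hΩ x).mp hxΩC.1
  obtain ⟨hEQ, hEe, hEcard, hQE⟩ :=
    sup_zpowers_props hz₀Z.1 hz₀Z.2 hz₀1 hz₀t hxQ hxt hxZ hxc
  have hEU := inUniqueMaximal_of_normal_ea2 c.min hQt hE₀Q hE₀e hE₀card hE₀U hEQ hQE hEe hEcard
  -- `B₁` centralizes `E`
  have hB₁A : B₁ ≤ A := hB₁A₃.trans hA₃A
  have hB₁E : B₁ ≤ Subgroup.centralizer
      ((Subgroup.zpowers z₀ ⊔ Subgroup.zpowers x : Subgroup G) : Set G) := by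
    refine le_trans (le_inf (hB₁A.trans hAZ₁) ?_) (inf_centralizer_le_centralizer_sup _ _)
    apply le_centralizer_symm
    rw [Subgroup.zpowers_le]
    exact hxΩC.2
  have hB₁ea : HasEA p 1 B₁ := by
    refine ⟨B₁, le_rfl, isElementaryAbelian_of_le hA₃e hB₁A₃, ?_⟩
    have h1 := relIndex_mul_card_of_le hB₁A₃
    rw [pow_one]
    by_contra hle
    push Not at hle
    have h2 : B₁.relIndex A₃ * Nat.card B₁ ≤ p * p := Nat.mul_le_mul hB₁i hle
    rw [h1] at h2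
    rw [pow_two] at hA₃card
    omega
  have hB₁U := cent_uniq' c.min hp.out hEU hB₁E hB₁ea
  have hAB₁ : A ≤ Subgroup.centralizer (B₁ : Set G) :=
    c.le_centralizer.trans (Subgroup.centralizer_le hB₁A)
  have hAea : HasEA p 1 A :=
    ⟨A₃, hA₃A, hA₃e, lt_trans (Nat.pow_lt_pow_right hp.out.one_lt (by norm_num)) hA₃card⟩
  exact cent_uniq' c.min hp.out hB₁U hAB₁ hAea

end Cfsg.Agent.Helper1.BGW
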