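import Mathlib
import Cfsg.Prelude
import Cfsg.Agent.Helper1.BGWd

set_option autoImplicit false

/-!
Bender–Glauberman, towards Lemma 9.5: the case of a noncyclic centre.
-/

namespace Cfsg.Agent.Helper1.BGW

open Cfsg Cfsg.Agent.Helper1 Cfsg.Agent.Helper2 Cfsg.Agent.Helper1.BGT Cfsg.Agent.Helper1.BGU
  Cfsg.Agent.Helper1.BGV
open scoped commutatorElement Pointwise

universe u

variable {G : Type u} [Group G] [Finite G]

/-- `Q` is a maximal `P`-invariant `t`-subgroup with noncyclic centre, and `M` is the only maximal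
subgroup containing `Z(Q)`. -/
structure Good (p : ℕ) (P : Sylow p G) (t : ℕ) (Q M : Subgroup G) : Prop where
  prime : t.Prime
  ne : t ≠ p
  max : Q ∈ Cfsg.maxInvSubgroups ⊤ (P : Subgroup G) {t}
  coatom : IsCoatom M
  le : Q ≤ M
  uniq : ∀ H : Subgroup G, IsCoatom H → Q ⊓ Subgroup.centralizer (Q : Set G) ≤ H → H = M
  ncyc : ¬ IsCyclic ↥(Q ⊓ Subgroup.centralizer (Q : Set G))

variable {p : ℕ} [hp : Fact p.Prime] {P : Sylow p G} {A : Subgroup G}

omit [Finite G] hp in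
theorem Good.ne_bot {t : ℕ} {Q M : Subgroup G} (g : Good p P t Q M) : Q ≠ ⊥ := by
  intro h
  apply g.ncyc
  have : Q ⊓ Subgroup.centralizer (Q : Set G) = ⊥ := by rw [h, bot_inf_eq]
  rw [this]
  infer_instance

/-- Anchoring: normalizers of nontrivial subgroups of conjugates of `Q` under `M` lie in `M`. -/
theorem Good.anchor (c : Ctx p P A) {t : ℕ} {Q M : Subgroup G} (g : Good p P t Q M) {k : G}
    (hk : k ∈ M) {X : Subgroup G} (hX : X ≤ MulAut.conj k • Q) (hX1 : X ≠ ⊥) :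
    Subgroup.normalizer (X : Set G) ≤ M := by
  have hkQM : MulAut.conj k • Q ≤ M := by
    have := Subgroup.pointwise_smul_le_pointwise_smul_iff (a := MulAut.conj k).mpr g.le
    rwa [Subgroup.conj_smul_eq_self_of_mem hk] at this
  have hXtop : X ≠ ⊤ := ne_top_of_le_ne_top g.coatom.1 (hX.trans hkQM)
  obtain ⟨H, hH, hNH⟩ := exists_coatom_ge (normalizer_ne_top_of_simple c.min hX1 hXtop)
  -- `k • Z(Q) ≤ C(X) ≤ H`
  have h1 : MulAut.conj k • (Q ⊓ Subgroup.centralizer (Q : Set G)) ≤ H := by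
    intro z hz
    rw [mem_conj_smul] at hz
    apply hNH
    apply Subgroup.centralizer_le_normalizer
    rw [Subgroup.mem_centralizer_iff]
    intro x hx
    have hx' : k⁻¹ * x * k ∈ Q := by
      have := hX hx
      rwa [mem_conj_smul] at this
    have h2 := Subgroup.mem_centralizer_iff.mp hz.2 _ hx'
    calc x * z = k * (k⁻¹ * x * k * (k⁻¹ * z * k)) * k⁻¹ := by group
      _ = k * (k⁻¹ * z * k * (k⁻¹ * x * k)) * k⁻¹ := by rw [h2]
      _ = z * x := by group
  have h3 : Q ⊓ Subgroup.centralizer (Q : Set G) ≤ MulAut.conj k⁻¹ • H := by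
    intro z hz
    rw [mem_conj_smul, inv_inv]
    apply h1
    rw [mem_conj_smul]
    have : k⁻¹ * (k * z * k⁻¹) * k = z := by group
    rw [this]; exact hz
  have h4 := g.uniq _ (Cfsg.Agent.Helper1.BGU.isCoatom_conj_smul k⁻¹ hH) h3
  have h5 : H = MulAut.conj k • M := by
    rw [← h4, smul_smul, ← map_mul, mul_inv_cancel, map_one, one_smul]
  rw [Subgroup.conj_smul_eq_self_of_mem hk] at h5
  rw [← h5]; exact hNH

theorem Good.anchor' (c : Ctx p P A) {t : ℕ} {Q M : Subgroup G} (g : Good p P t Q M)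
    {X : Subgroup G} (hX : X ≤ Q) (hX1 : X ≠ ⊥) : Subgroup.normalizer (X : Set G) ≤ M := by
  apply g.anchor c M.one_mem (k := 1) _ hX1
  rw [map_one, one_smul]; exact hX

/-- `C_G(A) ≤ M`. -/
theorem Good.centralizer_le (c : Ctx p P A) {t : ℕ} {Q M : Subgroup G} (g : Good p P t Q M) :
    Subgroup.centralizer (A : Set G) ≤ M := by
  haveI ht : Fact t.Prime := ⟨g.prime⟩
  obtain ⟨hQt, hPQ⟩ := (mem_invSubgroups_top g.prime).mp g.max.1
  have hAQ : A ≤ Subgroup.normalizer (Q : Set G) := c.scn.1.trans hPQ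
  have ht2 : t ≠ 2 := c.prime_ne_two hQt g.ne_bot
  obtain ⟨Z, hZ⟩ : ∃ Z : Subgroup G, Z = Q ⊓ Subgroup.centralizer (Q : Set G) := ⟨_, rfl⟩
  have hZQ : Z ≤ Q := hZ ▸ inf_le_left
  have hZC : Z ≤ Subgroup.centralizer (Q : Set G) := hZ ▸ inf_le_right
  have hZt : IsPGroup t ↥Z := hQt.to_le hZQ
  have hAZ : A ≤ Subgroup.normalizer (Z : Set G) := by
    apply le_normalizer_of_forall_conj_mem
    intro a ha z hz
    rw [hZ] at hz ⊢
    exact conj_mem_center_of_mem_normalizer (hAQ ha) hz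
  have hpZ : ¬ p ∣ Nat.card Z := by
    intro hd
    obtain ⟨k, hk⟩ := IsPGroup.iff_card.mp hZt
    rw [hk] at hd
    exact g.ne ((Nat.prime_dvd_prime_iff_eq hp.out g.prime).mp (hp.out.dvd_of_dvd_pow hd)).symm
  obtain ⟨A₃, hA₃A, hA₃e, hA₃card⟩ := hasEA_of_not_pRankLE c.r3
  have hgen := le_iSup_hyperplane_centralizers p (Nat.card A₃) A₃ Z rfl hA₃e hpZ
    (hA₃A.trans hAZ)
  obtain ⟨a, haA₃, ha1, hanc⟩ : ∃ a ∈ A₃, a ≠ 1 ∧
      ¬ IsCyclic ↥(Z ⊓ Subgroup.centralizer ({a} : Set G)) := by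
    by_contra hcon
    push Not at hcon
    haveI hne : Nonempty {B : Subgroup G // B ≤ A₃ ∧ B.relIndex A₃ ≤ p} :=
      ⟨⟨A₃, le_rfl, by rw [Subgroup.relIndex_self]; exact hp.out.one_le⟩⟩
    obtain ⟨B₀, hB₀max⟩ := Finite.exists_max
      (fun B : {B : Subgroup G // B ≤ A₃ ∧ B.relIndex A₃ ≤ p} =>
        Nat.card ↥(Z ⊓ Subgroup.centralizer ((B : Subgroup G) : Set G)))
    have hle : ∀ B : {B : Subgroup G // B ≤ A₃ ∧ B.relIndex A₃ ≤ p},
        Z ⊓ Subgroup.centralizer ((B : Subgroup G) : Set G) ≤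
          Z ⊓ Subgroup.centralizer ((B₀ : Subgroup G) : Set G) := by
      intro B
      obtain ⟨b, hb, hb1⟩ :=
        exists_ne_one_mem_inf_of_relIndex_le hA₃card B.2.1 B.2.2 B₀.2.2
      have hcyc := hcon b (B.2.1 hb.1) hb1
      have h1 : Z ⊓ Subgroup.centralizer ((B : Subgroup G) : Set G) ≤
          Z ⊓ Subgroup.centralizer ({b} : Set G) :=
        inf_le_inf_left _ (Subgroup.centralizer_le (Set.singleton_subset_iff.mpr hb.1))
      have h2 : Z ⊓ Subgroup.centralizer ((B₀ : Subgroup G) : Set G) ≤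
          Z ⊓ Subgroup.centralizer ({b} : Set G) :=
        inf_le_inf_left _ (Subgroup.centralizer_le (Set.singleton_subset_iff.mpr hb.2))
      apply le_of_card_dvd_of_isCyclic hcyc h1 h2
      obtain ⟨i, hi⟩ := IsPGroup.iff_card.mp (hZt.to_le
        (inf_le_left : Z ⊓ Subgroup.centralizer ((B : Subgroup G) : Set G) ≤ Z))
      obtain ⟨j, hj⟩ := IsPGroup.iff_card.mp (hZt.to_le
        (inf_le_left : Z ⊓ Subgroup.centralizer ((B₀ : Subgroup G) : Set G) ≤ Z))
      have h3 := hB₀max B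
      simp only [hi, hj] at h3
      rw [hi, hj]
      exact pow_dvd_pow t ((Nat.pow_le_pow_iff_right g.prime.one_lt).mp h3)
    have hZle : Z ≤ Z ⊓ Subgroup.centralizer ((B₀ : Subgroup G) : Set G) :=
      hgen.trans (iSup_le hle)
    obtain ⟨b, hb, hb1⟩ :=
      exists_ne_one_mem_inf_of_relIndex_le hA₃card B₀.2.1 B₀.2.2 B₀.2.2
    haveI hcyc := hcon b (B₀.2.1 hb.1) hb1
    have h4 : Z ≤ Z ⊓ Subgroup.centralizer ({b} : Set G) :=
      hZle.trans (inf_le_inf_left _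
        (Subgroup.centralizer_le (Set.singleton_subset_iff.mpr hb.1)))
    exact g.ncyc (hZ ▸ Subgroup.isCyclic_of_le h4)
  have hWea : HasEA t 1 (Z ⊓ Subgroup.centralizer ({a} : Set G)) :=
    hasEA_one_of_not_isCyclic ht2 (hZt.to_le inf_le_left) hanc
  have hZU : Cfsg.InUniqueMaximal Z :=
    ⟨M, ⟨g.coatom, hZQ.trans g.le⟩, fun H hH => g.uniq H hH.1 (hZ ▸ hH.2)⟩
  have hWZ : Z ⊓ Subgroup.centralizer ({a} : Set G) ≤ Subgroup.centralizer (Z : Set G) :=
    inf_le_left.trans (hZC.trans (Subgroup.centralizer_le hZQ))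
  have hWU := cent_uniq' c.min g.prime hZU hWZ hWea
  obtain ⟨H, hH, hCH⟩ := exists_coatom_ge (centralizer_singleton_ne_top c.min ha1)
  have hHM : H = M := hWU.unique ⟨hH, inf_le_right.trans hCH⟩
    ⟨g.coatom, (inf_le_left.trans hZQ).trans g.le⟩
  rw [← hHM]
  exact (Subgroup.centralizer_le (Set.singleton_subset_iff.mpr (hA₃A haA₃))).trans hCH

end Cfsg.Agent.Helper1.BGW
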