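import Mathlib
import Cfsg.Prelude
import Cfsg.Agent.Helper1.BGWe
import Cfsg.Agent.Helper3.CoprimeHall
import Cfsg.Agent.Helper1.SZ

set_option autoImplicit false

/-!
Bender–Glauberman, towards Lemma 9.5: the two-subgroup argument.
-/

namespace Cfsg.Agent.Helper1.BGW

open Cfsg Cfsg.Agent.Helper1 Cfsg.Agent.Helper2 Cfsg.Agent.Helper1.BGT Cfsg.Agent.Helper1.BGU
  Cfsg.Agent.Helper1.BGV
open scoped commutatorElement Pointwise

universe u

variable {G : Type u} [Group G] [Finite G]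

/-- A nontrivial solvable subgroup has a nontrivial normal `q`-subgroup for some prime `q`. -/
theorem exists_normal_pgroup_sub {H : Subgroup G} (hsol : Group.IsSolvable ↥H) (hH : H ≠ ⊥) :
    ∃ (q : ℕ) (_ : Fact q.Prime) (N : Subgroup G), N ≤ H ∧ N ≠ ⊥ ∧ IsPGroup q ↥N ∧
      H ≤ Subgroup.normalizer (N : Set G) := by
  haveI := hsol
  haveI : Nontrivial ↥H := (Subgroup.nontrivial_iff_ne_bot H).mpr hH
  obtain ⟨q, hq, N', hN'n, hN'1, hN'q, -, -⟩ := exists_normal_pgroup_of_solvable ↥H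
  haveI := hN'n
  refine ⟨q, hq, N'.map H.subtype, Subgroup.map_subtype_le _, ?_, hN'q.map _,
    le_normalizer_map_subtype N'⟩
  intro h
  apply hN'1
  rw [eq_bot_iff]
  intro x hx
  have h1 : (x : G) ∈ N'.map H.subtype := ⟨x, hx, rfl⟩
  rw [h, Subgroup.mem_bot] at h1
  rw [Subgroup.mem_bot]
  exact Subtype.ext h1

variable {p : ℕ} [hp : Fact p.Prime] {P : Sylow p G} {A : Subgroup G}

/-- An `A`-invariant subgroup with a nontrivial normal `t`-subgroup lies in `M`. -/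
theorem Good.le_of_normal_ne_bot (c : Ctx p P A) {t : ℕ} {Q M : Subgroup G}
    (g : Good p P t Q M) {H N : Subgroup G} (hAH : A ≤ Subgroup.normalizer (H : Set G))
    (hNH : N ≤ H) (hN1 : N ≠ ⊥) (hNt : IsPGroup t ↥N)
    (hHN : H ≤ Subgroup.normalizer (N : Set G)) : H ≤ M := by
  have hle : N ≤ Cfsg.piCoreOf {t} H :=
    le_piCoreOf hNH hHN (pi_singleton_of_isPGroup g.prime hNt)
  have hO1 : Cfsg.piCoreOf {t} H ≠ ⊥ := fun h => hN1 (le_bot_iff.mp (h ▸ hle))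
  have hOt : IsPGroup t ↥(Cfsg.piCoreOf {t} H) :=
    isPGroup_of_pi_singleton g.prime (piCoreOf_isPi {t} H)
  have hAO : A ≤ Subgroup.normalizer ((Cfsg.piCoreOf {t} H : Subgroup G) : Set G) :=
    hAH.trans (normalizer_le_normalizer_piCoreOf {t} H)
  have hinv : Cfsg.piCoreOf {t} H ∈ Cfsg.invSubgroups ⊤ A {t} :=
    (mem_invSubgroups_top g.prime).mpr ⟨hOt, hAO⟩
  obtain ⟨Q₁, hQ₁, hOQ₁⟩ := exists_max_ge hinv
  have hQA : Q ∈ Cfsg.maxInvSubgroups ⊤ A {t} :=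
    (c.thm75 g.prime g.ne P.2 c.scn.1).2.1 g.max
  obtain ⟨k, hk, hkQ⟩ := c.htr g.prime g.ne Q hQA Q₁ hQ₁
  have hkM : k ∈ M := g.centralizer_le c (KK_le_centralizer A hk)
  have h1 := g.anchor c hkM (hkQ ▸ hOQ₁) hO1
  exact (le_normalizer_piCoreOf {t} H).trans h1

/-- The basic step of the two-subgroup argument. -/
theorem Good.step (c : Ctx p P A) {t s : ℕ} {Q R M M₂ : Subgroup G} (g₁ : Good p P t Q M)
    (g₂ : Good p P s R M₂) {b : G} (hbA : b ∈ A) (hb1 : b ≠ 1) {X Y : Subgroup G}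
    (hXQ : X ≤ Q) (hXb : X ≤ Subgroup.centralizer ({b} : Set G))
    (hAX : A ≤ Subgroup.normalizer (X : Set G))
    (hYR : Y ≤ R) (hYb : Y ≤ Subgroup.centralizer ({b} : Set G))
    (hAY : A ≤ Subgroup.normalizer (Y : Set G)) : Y ≤ M ∨ X ≤ M₂ := by
  by_cases hX1 : X = ⊥
  · right; rw [hX1]; exact bot_le
  obtain ⟨hQt, hPQ⟩ := (mem_invSubgroups_top g₁.prime).mp g₁.max.1
  obtain ⟨hRs, hPR⟩ := (mem_invSubgroups_top g₂.prime).mp g₂.max.1
  have hCM := g₁.centralizer_le c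
  obtain ⟨C, hC⟩ : ∃ C : Subgroup G, C = Subgroup.centralizer ({b} : Set G) := ⟨_, rfl⟩
  have hCtop : C ≠ ⊤ := hC ▸ centralizer_singleton_ne_top c.min hb1
  have hCsol : Group.IsSolvable ↥C := c.min.2.2.2 C hCtop
  have hAC : A ≤ C := by
    rw [hC]
    exact c.le_centralizer.trans (Subgroup.centralizer_le (Set.singleton_subset_iff.mpr hbA))
  obtain ⟨Θ, hΘ⟩ : ∃ Θ : Subgroup G,
      Θ = Cfsg.piCoreOf (Cfsg.primesNotDvd (Nat.card A)) C := ⟨_, rfl⟩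
  have hΘC : Θ ≤ C := hΘ ▸ piCoreOf_le _ _
  have hAΘ : A ≤ Subgroup.normalizer (Θ : Set G) :=
    hAC.trans (hΘ ▸ le_normalizer_piCoreOf _ C)
  have hcop : (Nat.card A).Coprime (Nat.card Θ) := hΘ ▸ coprime_card_piCoreOf A C
  have hΘsol : Group.IsSolvable ↥Θ := isSolvable_of_le hΘC hCsol
  have hXt := pi_singleton_of_isPGroup g₁.prime (hQt.to_le hXQ)
  have hYs := pi_singleton_of_isPGroup g₂.prime (hRs.to_le hYR)
  have hXπ : ∀ r : ℕ, r.Prime → r ∣ Nat.card X → r ∈ Cfsg.primesNotDvd (Nat.card A) := by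
    intro r hr hd
    have h1 := hXt r hr hd
    rw [Set.mem_singleton_iff] at h1
    exact ⟨hr, c.not_dvd hr (h1 ▸ g₁.ne)⟩
  have hYπ : ∀ r : ℕ, r.Prime → r ∣ Nat.card Y → r ∈ Cfsg.primesNotDvd (Nat.card A) := by
    intro r hr hd
    have h1 := hYs r hr hd
    rw [Set.mem_singleton_iff] at h1
    exact ⟨hr, c.not_dvd hr (h1 ▸ g₂.ne)⟩
  have hXΘ : X ≤ Θ :=
    hΘ ▸ (c.hyp g₁.prime g₁.ne).le_core hCtop hAC (hC ▸ hXb) hXπ hAX
  have hYΘ : Y ≤ Θ :=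
    hΘ ▸ (c.hyp g₁.prime g₁.ne).le_core hCtop hAC (hC ▸ hYb) hYπ hAY
  have hXts : ∀ r : ℕ, r.Prime → r ∣ Nat.card X → r ∈ ({t, s} : Set ℕ) :=
    fun r hr hd => Or.inl (hXt r hr hd)
  have hYts : ∀ r : ℕ, r.Prime → r ∣ Nat.card Y → r ∈ ({t, s} : Set ℕ) :=
    fun r hr hd => Or.inr (hYs r hr hd)
  obtain ⟨H, hH, hAH, hXH⟩ := Cfsg.Agent.Helper3.exists_invariant_hall_ge A Θ hAΘ hcop hΘsol
    {t, s} X hXΘ hAX hXts
  obtain ⟨H', hH', hAH', hYH'⟩ := Cfsg.Agent.Helper3.exists_invariant_hall_ge A Θ hAΘ hcop hΘsol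
    {t, s} Y hYΘ hAY hYts
  obtain ⟨c', hc', hconj⟩ := Cfsg.Agent.Helper3.invariant_hall_conj A Θ hAΘ hcop hΘsol {t, s}
    H H' hH hAH hH' hAH'
  have hH1 : H ≠ ⊥ := fun h => hX1 (le_bot_iff.mp (h ▸ hXH))
  have hHsol : Group.IsSolvable ↥H := isSolvable_of_le (hH.1.trans hΘC) hCsol
  obtain ⟨q, hq, N, hNH, hN1, hNq, hHN⟩ := exists_normal_pgroup_sub hHsol hH1
  have hqts : q ∈ ({t, s} : Set ℕ) := hH.2.1 q hq.out
    (dvd_trans (dvd_card_of_isPGroup_ne_bot hNq hN1) (Subgroup.card_dvd_of_le hNH))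
  rcases hqts with hqt | hqs
  · left
    have hHM : H ≤ M := g₁.le_of_normal_ne_bot c hAH hNH hN1 (hqt ▸ hNq) hHN
    intro y hy
    have h1 : y ∈ MulAut.conj c' • H := hconj ▸ hYH' hy
    rw [mem_conj_smul] at h1
    have hc'M : c' ∈ M := hCM hc'.2
    have h2 : y = c' * (c'⁻¹ * y * c') * c'⁻¹ := by group
    rw [h2]
    exact M.mul_mem (M.mul_mem hc'M (hHM h1)) (M.inv_mem hc'M)
  · right
    rw [Set.mem_singleton_iff] at hqs
    have hHM₂ : H ≤ M₂ := g₂.le_of_normal_ne_bot c hAH hNH hN1 (hqs ▸ hNq) hHN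
    exact hXH.trans hHM₂

/-- The two-subgroup argument: all the maximal subgroups coincide. -/
theorem Good.eq (c : Ctx p P A) {t s : ℕ} {Q R M M₂ : Subgroup G} (g₁ : Good p P t Q M)
    (g₂ : Good p P s R M₂) : M = M₂ := by
  haveI ht : Fact t.Prime := ⟨g₁.prime⟩
  haveI hs : Fact s.Prime := ⟨g₂.prime⟩
  obtain ⟨hQt, hPQ⟩ := (mem_invSubgroups_top g₁.prime).mp g₁.max.1
  obtain ⟨hRs, hPR⟩ := (mem_invSubgroups_top g₂.prime).mp g₂.max.1
  have hAQ : A ≤ Subgroup.normalizer (Q : Set G) := c.scn.1.trans hPQ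
  have hAR : A ≤ Subgroup.normalizer (R : Set G) := c.scn.1.trans hPR
  have hpQ : ¬ p ∣ Nat.card Q := by
    intro hd
    obtain ⟨k, hk⟩ := IsPGroup.iff_card.mp hQt
    rw [hk] at hd
    exact g₁.ne ((Nat.prime_dvd_prime_iff_eq hp.out g₁.prime).mp (hp.out.dvd_of_dvd_pow hd)).symm
  have hpR : ¬ p ∣ Nat.card R := by
    intro hd
    obtain ⟨k, hk⟩ := IsPGroup.iff_card.mp hRs
    rw [hk] at hd
    exact g₂.ne ((Nat.prime_dvd_prime_iff_eq hp.out g₂.prime).mp (hp.out.dvd_of_dvd_pow hd)).symm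
  obtain ⟨A₃, hA₃A, hA₃e, hA₃card⟩ := hasEA_of_not_pRankLE c.r3
  have hgenQ := le_iSup_hyperplane_centralizers p (Nat.card A₃) A₃ Q rfl hA₃e hpQ
    (hA₃A.trans hAQ)
  have hgenR := le_iSup_hyperplane_centralizers p (Nat.card A₃) A₃ R rfl hA₃e hpR
    (hA₃A.trans hAR)
  have hAC : ∀ B : Subgroup G, B ≤ A₃ →
      A ≤ Subgroup.normalizer ((Subgroup.centralizer (B : Set G) : Subgroup G) : Set G) :=
    fun B hB => (c.le_centralizer.trans (Subgroup.centralizer_le (hB.trans hA₃A))).trans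
      Subgroup.le_normalizer
  have hstep : ∀ B B' : {B : Subgroup G // B ≤ A₃ ∧ B.relIndex A₃ ≤ p},
      R ⊓ Subgroup.centralizer ((B' : Subgroup G) : Set G) ≤ M ∨
        Q ⊓ Subgroup.centralizer ((B : Subgroup G) : Set G) ≤ M₂ := by
    intro B B'
    obtain ⟨b, hb, hb1⟩ := exists_ne_one_mem_inf_of_relIndex_le hA₃card B.2.1 B.2.2 B'.2.2
    have hbA : b ∈ A := hA₃A (B.2.1 hb.1)
    exact g₁.step c g₂ hbA hb1 inf_le_left
      (inf_le_right.trans (Subgroup.centralizer_le (Set.singleton_subset_iff.mpr hb.1)))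
      (le_normalizer_inf hAQ (hAC B B.2.1)) inf_le_left
      (inf_le_right.trans (Subgroup.centralizer_le (Set.singleton_subset_iff.mpr hb.2)))
      (le_normalizer_inf hAR (hAC B' B'.2.1))
  by_cases hRM : R ≤ M
  · exact g₂.uniq M g₁.coatom (inf_le_left.trans hRM)
  · obtain ⟨B', hB'⟩ : ∃ B' : {B : Subgroup G // B ≤ A₃ ∧ B.relIndex A₃ ≤ p},
        ¬ R ⊓ Subgroup.centralizer ((B' : Subgroup G) : Set G) ≤ M := by
      by_contra hcon
      push Not at hcon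
      exact hRM (hgenR.trans (iSup_le hcon))
    have hQM₂ : Q ≤ M₂ := hgenQ.trans (iSup_le fun B => (hstep B B').resolve_left hB')
    exact (g₁.uniq M₂ g₂.coatom (inf_le_left.trans hQM₂)).symm

end Cfsg.Agent.Helper1.BGW
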