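import Mathlib
import Cfsg.Prelude
import Cfsg.Agent.Helper1.BGWf
import Cfsg.Agent.Helper2.RankEmb

set_option autoImplicit false

/-!
Bender–Glauberman, Lemma 9.5: assembly.
-/

namespace Cfsg.Agent.Helper1.BGW

open Cfsg Cfsg.Agent.Helper1 Cfsg.Agent.Helper2 Cfsg.Agent.Helper1.BGT Cfsg.Agent.Helper1.BGU
  Cfsg.Agent.Helper1.BGV
open scoped commutatorElement Pointwise

universe u

variable {G : Type u} [Group G] [Finite G]

/-- If `F(M)` has rank at most two then `M' ≤ F(M)` (subgroup form). -/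
theorem commutator_le_fittingOf {M : Subgroup G} (hsol : Group.IsSolvable ↥M)
    (hodd : Odd (Nat.card M)) (hF : Cfsg.RankLE 2 ↥(Cfsg.fittingOf M)) :
    ⁅M, M⁆ ≤ Cfsg.fittingOf M := by
  haveI := hsol
  have hF' : Cfsg.RankLE 2 ↥(Cfsg.fittingSubgroup ↥M) := by
    intro r hr
    exact pRankLE_of_injective r 2
      ((Cfsg.fittingSubgroup ↥M).equivMapOfInjective M.subtype M.subtype_injective).toMonoidHom
      (MulEquiv.injective _) (hF r hr)
  have h := Cfsg.Agent.Helper1.Rank2Fitting.commutator_le_fittingSubgroup hodd hF'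
  rw [← Subgroup.map_subtype_commutator]
  exact Subgroup.map_mono h

variable {p : ℕ} [hp : Fact p.Prime] {P : Sylow p G} {A : Subgroup G}

/-- For each nontrivial maximal `P`-invariant `q`-subgroup `Q_q` and each maximal subgroup `M`
containing `N(Q_q)`: either `A` is a uniqueness subgroup or `M` is "good". -/
theorem Ctx.good_or_unique (c : Ctx p P A) {q : ℕ} (hq : q.Prime) (hqp : q ≠ p)
    {Qq : Subgroup G} (hQq : Qq ∈ Cfsg.maxInvSubgroups ⊤ (P : Subgroup G) {q})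
    {M : Subgroup G} (hM : IsCoatom M) (hNM : Subgroup.normalizer (Qq : Set G) ≤ M) :
    Cfsg.InUniqueMaximal A ∨ ∃ (t : ℕ) (Q : Subgroup G), Good p P t Q M := by
  obtain ⟨-, hPQq⟩ := (mem_invSubgroups_top hq).mp hQq.1
  have hPM : (P : Subgroup G) ≤ M := hPQq.trans hNM
  have hAM' : A ≤ ⁅M, M⁆ :=
    (c.le_commutator_normalizer hq hqp hQq).trans (Subgroup.commutator_mono hNM hNM)
  have hMsol : Group.IsSolvable ↥M := c.min.2.2.2 M hM.1
  obtain ⟨A₃, hA₃A, hA₃e, hA₃card⟩ := hasEA_of_not_pRankLE c.r3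
  by_cases hrk : Cfsg.RankLE 2 ↥(Cfsg.fittingOf M)
  · exfalso
    have h1 := commutator_le_fittingOf hMsol (c.odd M) hrk
    have h2 : HasEA p 2 (Cfsg.fittingOf M) := ⟨A₃, hA₃A.trans (hAM'.trans h1), hA₃e, hA₃card⟩
    exact not_pRankLE_of_hasEA h2 (hrk p hp.out)
  · unfold Cfsg.RankLE at hrk
    push Not at hrk
    obtain ⟨r, hr, hF⟩ := hrk
    haveI hrf : Fact r.Prime := ⟨hr⟩
    by_cases hrp : r = p
    · subst hrp
      left
      exact lemma95 c.min M hM r hF A c.isPGroup c.comm c.r3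
    · obtain ⟨E₀, hE₀F, hE₀e, hE₀card⟩ := hasEA_of_not_pRankLE hF
      have hE₀r : IsPGroup r ↥E₀ := isPGroup_of_elementary hE₀e
      have hE₀M : E₀ ≤ M := hE₀F.trans (fittingOf_le M)
      have hE₀O : E₀ ≤ pcoreOf r M := le_pCoreOf_of_le_fittingOf hE₀r hE₀F
      have hOinv : pcoreOf r M ∈ Cfsg.invSubgroups ⊤ (P : Subgroup G) {r} :=
        (mem_invSubgroups_top hr).mpr
          ⟨pCoreOf_isPGroup r M, hPM.trans (le_normalizer_pCoreOf r M)⟩
      obtain ⟨Q, hQ, hOQ⟩ := exists_max_ge hOinv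
      obtain ⟨hQr, hPQ⟩ := (mem_invSubgroups_top hr).mp hQ.1
      have hE₀Q : E₀ ≤ Q := hE₀O.trans hOQ
      have hE₀U : Cfsg.InUniqueMaximal E₀ :=
        lemma95 c.min M hM r hF E₀ hE₀r hE₀e.1
          (not_pRankLE_of_hasEA ⟨E₀, le_rfl, hE₀e, hE₀card⟩)
      by_cases hcyc : IsCyclic ↥(Q ⊓ Subgroup.centralizer (Q : Set G))
      · left
        exact c.unique_of_cyclic_center hrp hQ hE₀Q hE₀e hE₀card hE₀U hcyc
      · right
        have hE₀1 : E₀ ≠ ⊥ := by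
          rintro rfl
          rw [Subgroup.card_bot] at hE₀card
          have := Nat.one_le_pow 2 r hr.pos
          omega
        have hQ1 : Q ≠ ⊥ := fun h => hE₀1 (le_bot_iff.mp (h ▸ hE₀Q))
        have hr2 : r ≠ 2 := c.prime_ne_two hQr hQ1
        have hQtop : Q ≠ ⊤ := Cfsg.Agent.Helper1.BGU.sylow_ne_top c.min r Q hQr
        obtain ⟨H, hH, hQH⟩ := exists_coatom_ge hQtop
        have hHM : H = M := hE₀U.unique ⟨hH, hE₀Q.trans hQH⟩ ⟨hM, hE₀M⟩
        have hQM : Q ≤ M := hHM ▸ hQH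
        have hZea : HasEA r 1 (Q ⊓ Subgroup.centralizer (Q : Set G)) :=
          hasEA_one_of_not_isCyclic hr2 (hQr.to_le inf_le_left) hcyc
        have hZU : Cfsg.InUniqueMaximal (Q ⊓ Subgroup.centralizer (Q : Set G)) :=
          cent_uniq' c.min hr hE₀U (inf_le_right.trans (Subgroup.centralizer_le hE₀Q)) hZea
        refine ⟨r, Q, ⟨hr, hrp, hQ, hM, hQM, ?_, hcyc⟩⟩
        intro H' hH' hZH'
        exact hZU.unique ⟨hH', hZH'⟩ ⟨hM, inf_le_left.trans hQM⟩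

/-- The final step: if all maximal `P`-invariant `p'`-subgroups of prime power order lie in `M`,
then `A` is a uniqueness subgroup. -/
theorem Ctx.unique_of_le (c : Ctx p P A) {M : Subgroup G} (hM : IsCoatom M)
    (hPM : (P : Subgroup G) ≤ M)
    (hQM : ∀ q : ℕ, q.Prime → q ≠ p →
      ∀ Q ∈ Cfsg.maxInvSubgroups ⊤ (P : Subgroup G) {q}, Q ≤ M) :
    Cfsg.InUniqueMaximal A := by
  have hK : ∀ Y : Subgroup G, (Nat.card Y).Coprime p →
      (P : Subgroup G) ≤ Subgroup.normalizer (Y : Set G) → Y ≤ M := by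
    intro Y hYc hPY
    apply le_of_forall_sylow_le
    intro q hq hqY
    have hqp : q ≠ p := by
      rintro rfl
      exact (Nat.Prime.coprime_iff_not_dvd hq).mp hYc.symm hqY
    haveI := Fact.mk hq
    haveI : Group.IsNilpotent ↥(P : Subgroup G) := P.2.isNilpotent
    have hcop : (Nat.card (P : Subgroup G)).Coprime (Nat.card Y) := by
      obtain ⟨k, hk⟩ := IsPGroup.iff_card.mp P.2
      rw [hk]
      exact (Nat.Coprime.pow_right k hYc).symm
    obtain ⟨S, hS⟩ := exists_invariant_sylow (p := q) (P : Subgroup G) Y hPY hcop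
      (Or.inl inferInstance)
    refine ⟨(S : Subgroup ↥Y).map Y.subtype, Subgroup.map_subtype_le _, ?_, ?_⟩
    · obtain ⟨Q₂, hQ₂, hSQ₂⟩ := exists_max_ge
        ((mem_invSubgroups_top hq).mpr ⟨S.2.map _, hS⟩)
      exact hSQ₂.trans (hQM q hq hqp Q₂ hQ₂)
    · rw [card_map_subtype]
      exact S.card_eq_multiplicity
  have hA := invariant_le_of_scn3 c.min p P c.scn c.comm c.r3 M hK
  have huniq := unique_of_invariant_le_pgroup c.min hM p (c.scn.1.trans hPM) c.isPGroup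
    c.ne_bot hA
  exact ⟨M, ⟨hM, c.scn.1.trans hPM⟩, fun H hH => huniq H hH.1 hH.2⟩

/-- Bender–Glauberman Lemma 9.5 (in context form). -/
theorem Ctx.unique (c : Ctx p P A) : Cfsg.InUniqueMaximal A := by
  by_contra hnot
  have hex : ∀ q : ℕ, ∃ Q : Subgroup G, Q ∈ Cfsg.maxInvSubgroups ⊤ (P : Subgroup G) {q} := by
    intro q
    obtain ⟨Q, hQ, -⟩ := exists_max_ge (bot_mem_invSubgroups_top (P : Subgroup G) {q})
    exact ⟨Q, hQ⟩
  choose Qf hQf using hex
  have hconj : ∀ q : ℕ, q.Prime → q ≠ p →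
      ∀ Q₂ ∈ Cfsg.maxInvSubgroups ⊤ (P : Subgroup G) {q},
        KConj (KK A ⊓ Subgroup.centralizer ((P : Subgroup G) : Set G)) (Qf q) Q₂ :=
    fun q hq hqp Q₂ hQ₂ => (c.thm75 hq hqp P.2 c.scn.1).1 (Qf q) (hQf q) Q₂ hQ₂
  have hgood : ∀ q : ℕ, q.Prime → q ≠ p → Qf q ≠ ⊥ →
      ∃ (M : Subgroup G) (t : ℕ) (Q : Subgroup G), Good p P t Q M ∧
        Subgroup.normalizer ((Qf q : Subgroup G) : Set G) ≤ M := by
    intro q hq hqp hQ1
    haveI := Fact.mk hq
    have hQtop : Qf q ≠ ⊤ :=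
      Cfsg.Agent.Helper1.BGU.sylow_ne_top c.min q _ ((mem_invSubgroups_top hq).mp (hQf q).1).1
    obtain ⟨M, hM, hNM⟩ := exists_coatom_ge (normalizer_ne_top_of_simple c.min hQ1 hQtop)
    obtain ⟨t, Q, g⟩ := (c.good_or_unique hq hqp (hQf q) hM hNM).resolve_left hnot
    exact ⟨M, t, Q, g, hNM⟩
  by_cases hall : ∀ q : ℕ, q.Prime → q ≠ p → Qf q = ⊥
  · obtain ⟨M, hM, hPM⟩ := exists_coatom_ge c.sylow_ne_top
    apply hnot
    apply c.unique_of_le hM hPM
    intro q hq hqp Q₂ hQ₂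
    obtain ⟨k, -, hk⟩ := hconj q hq hqp Q₂ hQ₂
    rw [hk, hall q hq hqp, Subgroup.smul_bot]
    exact bot_le
  · push Not at hall
    obtain ⟨q₀, hq₀, hq₀p, hQ₀⟩ := hall
    obtain ⟨M, t₀, Q₀, g₀, hNM⟩ := hgood q₀ hq₀ hq₀p hQ₀
    obtain ⟨-, hPQ₀⟩ := (mem_invSubgroups_top hq₀).mp (hQf q₀).1
    apply hnot
    apply c.unique_of_le g₀.coatom (hPQ₀.trans hNM)
    intro q hq hqp Q₂ hQ₂
    obtain ⟨k, hkK, hk⟩ := hconj q hq hqp Q₂ hQ₂
    have hkM : k ∈ M := g₀.centralizer_le c (KK_le_centralizer A hkK.1)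
    have hQfM : Qf q ≤ M := by
      by_cases hQ1 : Qf q = ⊥
      · rw [hQ1]; exact bot_le
      · obtain ⟨M', t, Q, g, hNM'⟩ := hgood q hq hqp hQ1
        have hMM' : M = M' := g₀.eq c g
        rw [hMM']
        exact Subgroup.le_normalizer.trans hNM'
    intro x hx
    rw [hk, mem_conj_smul] at hx
    have h2 : x = k * (k⁻¹ * x * k) * k⁻¹ := by group
    rw [h2]
    exact M.mul_mem (M.mul_mem hkM (hQfM hx)) (M.inv_mem hkM)

end Cfsg.Agent.Helper1.BGW
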