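import Mathlib
import Cfsg.Prelude
import Cfsg.Agent.Helper1.BGWg

set_option autoImplicit false

/-!
Bender–Glauberman, Theorem 9.6.
-/

namespace Cfsg.Agent.Helper1.BGW

open Cfsg Cfsg.Agent.Helper1 Cfsg.Agent.Helper2 Cfsg.Agent.Helper1.BGT Cfsg.Agent.Helper1.BGU
  Cfsg.Agent.Helper1.BGV
open scoped commutatorElement Pointwise

universe u

variable {G : Type u} [Group G] [Finite G]

/-- Every elementary abelian subgroup of order at least `p³` is a uniqueness subgroup. -/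
theorem inUniqueMaximal_of_rank3 (hG : Cfsg.IsMinSimpleOddOrder G) {p : ℕ} [hp : Fact p.Prime]
    {A : Subgroup G} (hAe : Cfsg.IsElementaryAbelian p A) (hAcard : p ^ 2 < Nat.card A) :
    Cfsg.InUniqueMaximal A := by
  have hAp : IsPGroup p ↥A := isPGroup_of_elementary hAe
  have hp2 : p ≠ 2 := by
    rintro rfl
    obtain ⟨k, hk⟩ := IsPGroup.iff_card.mp hAp
    have hk0 : k ≠ 0 := by
      rintro rfl
      rw [pow_zero] at hk
      rw [hk] at hAcard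
      norm_num at hAcard
    have h2 : 2 ∣ Nat.card A := by rw [hk]; exact dvd_pow_self 2 hk0
    have hodd : Odd (Nat.card A) := Odd.of_dvd_nat hG.1 (Subgroup.card_subgroup_dvd_card A)
    exact (Nat.not_even_iff_odd.mpr hodd) (even_iff_two_dvd.mpr h2)
  obtain ⟨P⟩ : Nonempty (Sylow p G) := inferInstance
  have hr : ¬ Cfsg.PRankLE p 2 G :=
    not_pRankLE_type_of_hasEA (X := A) ⟨A, le_rfl, hAe, hAcard⟩
  obtain ⟨A', hscn, hcomm, hr3⟩ := exists_scn3_sylow p hp2 P hr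
  have hA'U : Cfsg.InUniqueMaximal A' := (Ctx.mk hG hscn hcomm hr3).unique
  exact uniq_of_abelian_rank3 hG p (P.2.to_le hscn.1) hcomm (hasEA_of_not_pRankLE hr3) hA'U
    hAp hAe.1 ⟨A, le_rfl, hAe, hAcard⟩

/-- Bender–Glauberman Theorem 9.6. -/
theorem thm96 (hG : Cfsg.IsMinSimpleOddOrder G) (K : Subgroup G) (hK : K ≠ ⊤)
    (hK2 : ¬ Cfsg.RankLE 1 ↥K)
    (hK3 : ¬ Cfsg.RankLE 2 ↥K ∨ ¬ Cfsg.RankLE 2 ↥(Subgroup.centralizer (K : Set G))) :
    Cfsg.InUniqueMaximal K := by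
  rcases hK3 with h3 | h3
  · unfold Cfsg.RankLE at h3
    push Not at h3
    obtain ⟨q, hq, hKq⟩ := h3
    haveI := Fact.mk hq
    obtain ⟨A, hAK, hAe, hAcard⟩ := hasEA_of_not_pRankLE hKq
    obtain ⟨M, ⟨hM, hAM⟩, huniq⟩ := inUniqueMaximal_of_rank3 hG hAe hAcard
    obtain ⟨H, hH, hKH⟩ := exists_coatom_ge hK
    have hHM : H = M := huniq H ⟨hH, hAK.trans hKH⟩
    exact ⟨M, ⟨hM, hHM ▸ hKH⟩, fun H' hH' => huniq H' ⟨hH'.1, hAK.trans hH'.2⟩⟩
  · unfold Cfsg.RankLE at h3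
    push Not at h3
    obtain ⟨q, hq, hKq⟩ := h3
    haveI := Fact.mk hq
    obtain ⟨A, hAC, hAe, hAcard⟩ := hasEA_of_not_pRankLE hKq
    have hAU := inUniqueMaximal_of_rank3 hG hAe hAcard
    exact cent_uniq hG A K hAU (le_centralizer_symm hAC) hK2

end Cfsg.Agent.Helper1.BGW
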