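import Mathlib
import Cfsg.Prelude
import Cfsg.Agent.Helper1.BGWh
import Cfsg.Agent.Helper1.Rank2Struct2

set_option autoImplicit false

/-!
Bender–Glauberman, Section 10: Theorem 10.1 (`S1404`).
-/

namespace Cfsg.Agent.Helper1.BGX

open Cfsg Cfsg.Agent.Helper1 Cfsg.Agent.Helper2 Cfsg.Agent.Helper1.BGT Cfsg.Agent.Helper1.BGU
  Cfsg.Agent.Helper1.BGV Cfsg.Agent.Helper1.BGW
open scoped commutatorElement Pointwise

universe u

variable {G : Type u} [Group G] [Finite G]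

/-- In a solvable group of odd order and `p`-rank at most two, every `p`-subgroup lies in
`O_{p',p}`. -/
theorem le_ppCoreOf_of_rank2 {N S : Subgroup G} (hsol : Group.IsSolvable ↥N)
    (hodd : Odd (Nat.card N)) {p : ℕ} [hp : Fact p.Prime] (hr : Cfsg.PRankLE p 2 ↥N)
    (hSN : S ≤ N) (hSp : IsPGroup p ↥S) : S ≤ ppCoreOf p N := by
  haveI := hsol
  by_cases hS1 : S = ⊥
  · rw [hS1]; exact bot_le
  have hpN : p ∣ Nat.card N :=
    dvd_trans (dvd_card_of_isPGroup_ne_bot hSp hS1) (Subgroup.card_dvd_of_le hSN)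
  have h := (Cfsg.Agent.Helper1.Rank2Struct.odd_solvable_rank_two_structure hodd p hpN hr).2.2.2.2.2
  haveI : (Cfsg.pPrimePCore p ↥N).Normal := Cfsg.Agent.Helper1.AG.pPrimePCore_normal'
  have hle : S.subgroupOf N ≤ Cfsg.pPrimePCore p ↥N := by
    apply le_of_coprime_card_index
    rw [Cfsg.Agent.Lead.card_subgroupOf_of_le hSN]
    obtain ⟨k, hk⟩ := IsPGroup.iff_card.mp hSp
    rw [hk]
    exact Nat.Coprime.pow_left k h.symm
  intro x hx
  exact ⟨⟨x, hSN hx⟩, hle (Subgroup.mem_subgroupOf.mpr hx), rfl⟩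

/-- `p ∈ σ(M)` unpacked. -/
theorem exists_sylow_of_mem_sigma {M : Subgroup G} {p : ℕ} [hp : Fact p.Prime]
    (h : p ∈ Cfsg.sigma M) :
    ∃ P : Subgroup G, P ≤ M ∧ IsPGroup p ↥P ∧ Nat.card P = p ^ (Nat.card M).factorization p ∧
      Nat.card P = p ^ (Nat.card G).factorization p ∧ Subgroup.normalizer (P : Set G) ≤ M := by
  obtain ⟨-, -, P₀, hP₀⟩ := h
  have hPM : (P₀ : Subgroup ↥M).map M.subtype ≤ M := Subgroup.map_subtype_le _
  have hPp : IsPGroup p ↥((P₀ : Subgroup ↥M).map M.subtype) := P₀.2.map _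
  have hcard : Nat.card ↥((P₀ : Subgroup ↥M).map M.subtype) =
      p ^ (Nat.card M).factorization p := by
    rw [Subgroup.card_map_of_injective M.subtype_injective]
    exact P₀.card_eq_multiplicity
  exact ⟨_, hPM, hPp, hcard, card_eq_ppart_top_of_normalizer_le hPp hPM hcard hP₀, hP₀⟩

/-- The transitivity property of Theorem 10.1(a). -/
def Trans (M X : Subgroup G) : Prop :=
  ∀ g : G, (∀ x ∈ X, g * x * g⁻¹ ∈ M) →
    ∃ m ∈ M, ∃ c ∈ Subgroup.centralizer (X : Set G), g = m * c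

omit [Finite G] in
theorem map_conj_le_iff {X M : Subgroup G} {g : G} :
    X.map (MulAut.conj g).toMonoidHom ≤ M ↔ ∀ x ∈ X, g * x * g⁻¹ ∈ M := by
  constructor
  · intro h x hx
    exact h ⟨x, hx, rfl⟩
  · rintro h _ ⟨x, hx, rfl⟩
    exact h x hx

omit [Finite G] in
/-- `Trans` is invariant under conjugation by elements of `M`. -/
theorem Trans.of_conj {M X : Subgroup G} {m₀ : G} (hm₀ : m₀ ∈ M)
    (h : Trans M (X.map (MulAut.conj m₀).toMonoidHom)) : Trans M X := by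
  intro g hg
  have h1 : ∀ y ∈ X.map (MulAut.conj m₀).toMonoidHom, (g * m₀⁻¹) * y * (g * m₀⁻¹)⁻¹ ∈ M := by
    rintro _ ⟨x, hx, rfl⟩
    have : g * m₀⁻¹ * (MulAut.conj m₀).toMonoidHom x * (g * m₀⁻¹)⁻¹ = g * x * g⁻¹ := by
      simp only [MulEquiv.coe_toMonoidHom, MulAut.conj_apply]; group
    rw [this]; exact hg x hx
  obtain ⟨m, hm, c', hc', e⟩ := h _ h1
  refine ⟨m * m₀, M.mul_mem hm hm₀, m₀⁻¹ * c' * m₀, ?_, ?_⟩
  · rw [Subgroup.mem_centralizer_iff] at hc' ⊢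
    intro x hx
    have h2 := hc' (m₀ * x * m₀⁻¹) ⟨x, hx, rfl⟩
    calc x * (m₀⁻¹ * c' * m₀) = m₀⁻¹ * (m₀ * x * m₀⁻¹ * c') * m₀ := by group
      _ = m₀⁻¹ * (c' * (m₀ * x * m₀⁻¹)) * m₀ := by rw [h2]
      _ = m₀⁻¹ * c' * m₀ * x := by group
  · have : g = (g * m₀⁻¹) * m₀ := by group
    rw [this, e]; group

/-- The standing context: `P` is a Sylow `p`-subgroup of the maximal subgroup `M` with
`N_G(P) ≤ M`. -/
structure SigCtx (M : Subgroup G) (p : ℕ) (P : Subgroup G) : Prop where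
  min : Cfsg.IsMinSimpleOddOrder G
  coatom : IsCoatom M
  le : P ≤ M
  pgroup : IsPGroup p ↥P
  cardM : Nat.card P = p ^ (Nat.card M).factorization p
  cardG : Nat.card P = p ^ (Nat.card G).factorization p
  norm : Subgroup.normalizer (P : Set G) ≤ M

variable {M : Subgroup G} {p : ℕ} [hp : Fact p.Prime] {P : Subgroup G}

omit [Finite G] hp in
theorem centralizer_le_of_le {X Y : Subgroup G} (h : X ≤ Y) :
    Subgroup.centralizer (Y : Set G) ≤ Subgroup.centralizer (X : Set G) :=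
  Subgroup.centralizer_le h

/-- `Trans M X` when `X` has the order of a Sylow `p`-subgroup. -/
theorem SigCtx.trans_sylow (c : SigCtx M p P) {X : Subgroup G} (hXM : X ≤ M)
    (hXp : IsPGroup p ↥X) (hcard : Nat.card X = Nat.card P) : Trans M X := by
  intro g hg
  -- `g X g⁻¹` is a Sylow `p`-subgroup of `M`
  obtain ⟨X', hX'⟩ : ∃ X' : Subgroup G, X' = X.map (MulAut.conj g).toMonoidHom := ⟨_, rfl⟩
  have hX'M : X' ≤ M := hX' ▸ map_conj_le_iff.mpr hg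
  have hX'p : IsPGroup p ↥X' := hX' ▸ hXp.map _
  have hX'card : Nat.card X' = Nat.card P := by
    rw [hX', Subgroup.card_map_of_injective (MulAut.conj g).injective]; exact hcard
  -- conjugate `P` into `X'` inside `M`
  obtain ⟨m, hm, hmP⟩ := Cfsg.Agent.Lead.exists_conj_le_of_card_eq_ppart hX'M
    (hX'card.trans c.cardM) c.le c.pgroup
  have heq : P.map (MulAut.conj m).toMonoidHom = X' := by
    apply Subgroup.eq_of_le_of_card_ge hmP
    rw [Subgroup.card_map_of_injective (MulAut.conj m).injective, hX'card]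
  -- likewise conjugate `P` onto `X` inside `M`
  obtain ⟨m', hm', hm'P⟩ := Cfsg.Agent.Lead.exists_conj_le_of_card_eq_ppart hXM
    (hcard.trans c.cardM) c.le c.pgroup
  have heq' : P.map (MulAut.conj m').toMonoidHom = X := by
    apply Subgroup.eq_of_le_of_card_ge hm'P
    rw [Subgroup.card_map_of_injective (MulAut.conj m').injective, hcard]
  -- `m⁻¹ g m'` normalizes `P`
  have hn : m⁻¹ * g * m' ∈ Subgroup.normalizer (P : Set G) := by
    apply Subgroup.mem_normalizer_fintype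
    intro x hx
    have h1 : m' * x * m'⁻¹ ∈ X := heq' ▸ ⟨x, hx, rfl⟩
    have h2 : g * (m' * x * m'⁻¹) * g⁻¹ ∈ X' := hX' ▸ ⟨_, h1, rfl⟩
    rw [← heq] at h2
    obtain ⟨y, hy, hyx⟩ := h2
    have h3 : m * y * m⁻¹ = g * (m' * x * m'⁻¹) * g⁻¹ := hyx
    have h4 : m⁻¹ * g * m' * x * (m⁻¹ * g * m')⁻¹ = y := by
      have : y = m⁻¹ * (m * y * m⁻¹) * m := by group
      rw [this, h3]; group
    rw [h4]; exact hy
  have hnM := c.norm hn
  refine ⟨g, ?_, 1, Subgroup.one_mem _, (mul_one g).symm⟩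
  have : g = m * (m⁻¹ * g * m') * m'⁻¹ := by group
  rw [this]
  exact M.mul_mem (M.mul_mem hm hnM) (M.inv_mem hm')

omit [Finite G] in
theorem isElementaryAbelian_map {p : ℕ} {E : Subgroup G} (hE : Cfsg.IsElementaryAbelian p E)
    (f : G →* G) : Cfsg.IsElementaryAbelian p (E.map f) := by
  haveI := hE.1
  refine ⟨Subgroup.map_isMulCommutative E f, ?_⟩
  rintro _ ⟨x, hx, rfl⟩
  rw [← map_pow, hE.2 x hx, map_one]

/-- A normal `p`-subgroup of `N` is centralized by `O_{p'}(N)`. -/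
theorem coreOf_le_centralizer_of_normal {N X : Subgroup G} (hXN : X ≤ N)
    (hNX : N ≤ Subgroup.normalizer (X : Set G)) (hXp : IsPGroup p ↥X) :
    coreOf p N ≤ Subgroup.centralizer (X : Set G) := by
  have hcop : (Nat.card X).Coprime (Nat.card ↥(coreOf p N)) := by
    obtain ⟨k, hk⟩ := IsPGroup.iff_card.mp hXp
    rw [hk]
    exact Nat.Coprime.pow_left k (card_coreOf_coprime p N).symm
  have hd : X ⊓ coreOf p N = ⊥ := inf_eq_bot_of_coprime_card hcop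
  intro a ha
  rw [Subgroup.mem_centralizer_iff]
  intro x hx
  exact commute_of_normalize_of_disjoint (hXN.trans (le_normalizer_coreOf p N))
    ((Cfsg.Agent.Helper2.coreOf_le p N).trans hNX) hd hx ha

/-- The inductive step of Theorem 10.1(a) for subgroups of `P`. -/
theorem SigCtx.trans_step (c : SigCtx M p P) {X : Subgroup G} (hXP : X ≤ P) (hX1 : X ≠ ⊥)
    (IH : ∀ Y : Subgroup G, Y ≤ M → IsPGroup p ↥Y → Nat.card X < Nat.card Y → Trans M Y) :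
    Trans M X := by
  by_cases hXeq : X = P
  · exact c.trans_sylow (hXeq ▸ c.le) (hXeq ▸ c.pgroup) (by rw [hXeq])
  have hlt : X < P := lt_of_le_of_ne hXP hXeq
  have hXM : X ≤ M := hXP.trans c.le
  have hXp : IsPGroup p ↥X := c.pgroup.to_le hXP
  have hXtop : X ≠ ⊤ := ne_top_of_le_ne_top c.coatom.1 hXM
  obtain ⟨N, hN⟩ : ∃ N : Subgroup G, N = Subgroup.normalizer (X : Set G) := ⟨_, rfl⟩
  have hNtop : N ≠ ⊤ := hN ▸ normalizer_ne_top_of_simple c.min hX1 hXtop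
  have hNsol : Group.IsSolvable ↥N := c.min.2.2.2 N hNtop
  have hNodd : Odd (Nat.card N) := Odd.of_dvd_nat c.min.1 (Subgroup.card_subgroup_dvd_card N)
  have hXN : X ≤ N := hN ▸ Subgroup.le_normalizer
  have hNX : N ≤ Subgroup.normalizer (X : Set G) := hN ▸ le_rfl
  have hCN : Subgroup.centralizer (X : Set G) ≤ N := hN ▸ Subgroup.centralizer_le_normalizer _
  -- Step 1: a Sylow `p`-subgroup `S'` of `N` inside `M`
  obtain ⟨y₀, hy₀P, hy₀X, hy₀N⟩ := exists_normalizing_of_lt c.pgroup hlt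
  obtain ⟨R₁, hR₁⟩ : ∃ R₁ : Subgroup G, R₁ = P ⊓ N := ⟨_, rfl⟩
  have hXR₁ : X ≤ R₁ := hR₁ ▸ le_inf hXP hXN
  have hR₁P : R₁ ≤ P := hR₁ ▸ inf_le_left
  have hR₁N : R₁ ≤ N := hR₁ ▸ inf_le_right
  have hy₀R₁ : y₀ ∈ R₁ := by rw [hR₁, hN]; exact ⟨hy₀P, hy₀N⟩
  have hR₁lt : Nat.card X < Nat.card R₁ :=
    card_lt_card_of_lt (lt_of_le_of_ne hXR₁ (fun h => hy₀X (h ▸ hy₀R₁)))
  have hR₁M : R₁ ≤ M := hR₁P.trans c.le
  have hR₁p : IsPGroup p ↥R₁ := c.pgroup.to_le hR₁P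
  obtain ⟨S₀, hR₁S₀, hS₀N, hS₀p, hS₀card⟩ := Cfsg.Agent.Lead.exists_le_card_eq_ppart hR₁p hR₁N
  obtain ⟨h, hh⟩ := Cfsg.Agent.Lead.exists_conj_le_sylow (Sylow.ofCard P c.cardG) S₀ hS₀p
  have hh' : ∀ s ∈ S₀, h * s * h⁻¹ ∈ P := fun s hs => hh ⟨s, hs, rfl⟩
  obtain ⟨m₀, hm₀, c₀, hc₀, e₀⟩ := IH R₁ hR₁M hR₁p hR₁lt h
    (fun r hr => c.le (hh' r (hR₁S₀ hr)))
  have hc₀X : c₀ ∈ Subgroup.centralizer (X : Set G) := Subgroup.centralizer_le hXR₁ hc₀
  have hc₀N : c₀ ∈ N := hCN hc₀X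
  obtain ⟨S', hS'⟩ : ∃ S' : Subgroup G, S' = S₀.map (MulAut.conj c₀).toMonoidHom := ⟨_, rfl⟩
  have hS'M : S' ≤ M := by
    rw [hS']
    rintro _ ⟨s, hs, rfl⟩
    have h1 := c.le (hh' s hs)
    rw [e₀] at h1
    have h2 : (MulAut.conj c₀).toMonoidHom s = m₀⁻¹ * (m₀ * c₀ * s * (m₀ * c₀)⁻¹) * m₀ := by
      simp only [MulEquiv.coe_toMonoidHom, MulAut.conj_apply]; group
    rw [h2]
    exact M.mul_mem (M.mul_mem (M.inv_mem hm₀) h1) hm₀
  have hS'N : S' ≤ N := by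
    rw [hS']
    rintro _ ⟨s, hs, rfl⟩
    simp only [MulEquiv.coe_toMonoidHom, MulAut.conj_apply]
    exact N.mul_mem (N.mul_mem hc₀N (hS₀N hs)) (N.inv_mem hc₀N)
  have hS'p : IsPGroup p ↥S' := hS' ▸ hS₀p.map _
  have hS'c : Nat.card S' = Nat.card S₀ := by
    rw [hS', Subgroup.card_map_of_injective (MulAut.conj c₀).injective]
  have hS'card : Nat.card S' = p ^ (Nat.card N).factorization p := hS'c.trans hS₀card
  have hXS' : X ≤ S' := by
    intro x hx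
    rw [hS']
    refine ⟨x, hR₁S₀ (hXR₁ hx), ?_⟩
    simp only [MulEquiv.coe_toMonoidHom, MulAut.conj_apply]
    rw [← Subgroup.mem_centralizer_iff.mp hc₀X x hx]; group
  have hS'lt : Nat.card X < Nat.card S' :=
    lt_of_lt_of_le hR₁lt (hS'c ▸ Subgroup.card_le_of_le hR₁S₀)
  -- Claim A: `N ⊆ M C(X)`
  have hA : ∀ n ∈ N, ∃ m ∈ M, ∃ c' ∈ Subgroup.centralizer (X : Set G), n = m * c' := by
    intro n hn
    by_cases hr : Cfsg.PRankLE p 2 ↥N
    · have hS'pp : S' ≤ ppCoreOf p N := le_ppCoreOf_of_rank2 hNsol hNodd hr hS'N hS'p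
      obtain ⟨a, ha, y, hy, e⟩ := exists_mul_frattini p N S' hS'N hS'card n hn
      rw [inf_eq_left.mpr hS'pp] at hy
      have haC : a ∈ Subgroup.centralizer (X : Set G) :=
        coreOf_le_centralizer_of_normal hXN hNX hXp ha
      obtain ⟨m, hm, c', hc', e'⟩ := IH S' hS'M hS'p hS'lt y
        (fun s hs => hS'M ((Subgroup.mem_normalizer_iff.mp hy.2 s).mp hs))
      have hc'X : c' ∈ Subgroup.centralizer (X : Set G) := Subgroup.centralizer_le hXS' hc'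
      have hmN : m ∈ N := by
        have : m = y * c'⁻¹ := by rw [e']; group
        rw [this]
        exact N.mul_mem hy.1 (N.inv_mem (hCN hc'X))
      refine ⟨m, hm, m⁻¹ * a * m * c', ?_, ?_⟩
      · apply Subgroup.mul_mem _ _ hc'X
        have hmNC := normalizer_le_normalizer_centralizer_aux X (hNX (N.inv_mem hmN))
        have := (Subgroup.mem_normalizer_iff.mp hmNC a).mp haC
        rwa [inv_inv] at this
      · rw [e, e']; group
    · obtain ⟨E, hEN, hEe, hEcard⟩ := hasEA_of_not_pRankLE hr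
      obtain ⟨n₁, hn₁, hE'⟩ := Cfsg.Agent.Lead.exists_conj_le_of_card_eq_ppart hS'N hS'card hEN
        (isPGroup_of_elementary hEe)
      have hE'e := isElementaryAbelian_map hEe (MulAut.conj n₁).toMonoidHom
      have hE'card : p ^ 2 < Nat.card ↥(E.map (MulAut.conj n₁).toMonoidHom) := by
        rw [Subgroup.card_map_of_injective (MulAut.conj n₁).injective]; exact hEcard
      have hE'U := inUniqueMaximal_of_rank3 c.min hE'e hE'card
      obtain ⟨H, hH, hNH⟩ := exists_coatom_ge hNtop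
      have hHM : H = M := hE'U.unique ⟨hH, (hE'.trans hS'N).trans hNH⟩
        ⟨c.coatom, hE'.trans hS'M⟩
      exact ⟨n, hHM ▸ hNH hn, 1, Subgroup.one_mem _, (mul_one n).symm⟩
  -- the general case
  intro g hg
  obtain ⟨X', hX'⟩ : ∃ X' : Subgroup G, X' = X.map (MulAut.conj g).toMonoidHom := ⟨_, rfl⟩
  have hX'M : X' ≤ M := hX' ▸ map_conj_le_iff.mpr hg
  have hX'p : IsPGroup p ↥X' := hX' ▸ hXp.map _
  obtain ⟨m₁, hm₁, hm₁P⟩ :=
    Cfsg.Agent.Lead.exists_conj_le_of_card_eq_ppart c.le c.cardM hX'M hX'p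
  obtain ⟨g₁, hg₁⟩ : ∃ g₁ : G, g₁ = m₁ * g := ⟨_, rfl⟩
  obtain ⟨X₁, hX₁⟩ : ∃ X₁ : Subgroup G, X₁ = X.map (MulAut.conj g₁).toMonoidHom := ⟨_, rfl⟩
  have hX₁mem : ∀ x ∈ X, g₁ * x * g₁⁻¹ ∈ X₁ := fun x hx => hX₁ ▸ ⟨x, hx, rfl⟩
  have hX₁P : X₁ ≤ P := by
    rw [hX₁]
    rintro _ ⟨x, hx, rfl⟩
    have h1 : (MulAut.conj m₁).toMonoidHom ((MulAut.conj g).toMonoidHom x) ∈ P :=
      hm₁P ⟨_, hX' ▸ ⟨x, hx, rfl⟩, rfl⟩
    have h2 : (MulAut.conj g₁).toMonoidHom x =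
        (MulAut.conj m₁).toMonoidHom ((MulAut.conj g).toMonoidHom x) := by
      simp only [MulEquiv.coe_toMonoidHom, MulAut.conj_apply, hg₁]; group
    rw [h2]; exact h1
  have hX₁card : Nat.card X₁ = Nat.card X := by
    rw [hX₁, Subgroup.card_map_of_injective (MulAut.conj g₁).injective]
  have hX₁lt : X₁ < P := by
    refine lt_of_le_of_ne hX₁P (fun h => ?_)
    have h1 := card_lt_card_of_lt hlt
    rw [← hX₁card, h] at h1
    exact lt_irrefl _ h1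
  obtain ⟨y₁, hy₁P, hy₁X, hy₁N⟩ := exists_normalizing_of_lt c.pgroup hX₁lt
  obtain ⟨Q₁, hQ₁⟩ : ∃ Q₁ : Subgroup G, Q₁ = P ⊓ Subgroup.normalizer (X₁ : Set G) := ⟨_, rfl⟩
  have hX₁Q₁ : X₁ ≤ Q₁ := hQ₁ ▸ le_inf hX₁P Subgroup.le_normalizer
  have hQ₁P : Q₁ ≤ P := hQ₁ ▸ inf_le_left
  have hQ₁M : Q₁ ≤ M := hQ₁P.trans c.le
  have hQ₁p : IsPGroup p ↥Q₁ := c.pgroup.to_le hQ₁P
  have hy₁Q₁ : y₁ ∈ Q₁ := by rw [hQ₁]; exact ⟨hy₁P, hy₁N⟩
  have hQ₁lt : Nat.card X < Nat.card Q₁ := by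
    rw [← hX₁card]
    exact card_lt_card_of_lt (lt_of_le_of_ne hX₁Q₁ (fun h => hy₁X (h ▸ hy₁Q₁)))
  obtain ⟨T, hT⟩ : ∃ T : Subgroup G, T = Q₁.map (MulAut.conj g₁⁻¹).toMonoidHom := ⟨_, rfl⟩
  have hTN : T ≤ N := by
    rw [hT, hN]
    rintro _ ⟨q, hq, rfl⟩
    have hqN : q ∈ Subgroup.normalizer (X₁ : Set G) := (hQ₁ ▸ hq : q ∈ P ⊓ _).2
    apply Subgroup.mem_normalizer_fintype
    intro x hx
    have h1 := (Subgroup.mem_normalizer_iff.mp hqN _).mp (hX₁mem x hx)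
    rw [hX₁] at h1
    obtain ⟨x', hx', e⟩ := h1
    have e' : g₁ * x' * g₁⁻¹ = q * (g₁ * x * g₁⁻¹) * q⁻¹ := e
    have : (MulAut.conj g₁⁻¹).toMonoidHom q * x * ((MulAut.conj g₁⁻¹).toMonoidHom q)⁻¹ = x' := by
      simp only [MulEquiv.coe_toMonoidHom, MulAut.conj_apply, inv_inv]
      have : x' = g₁⁻¹ * (g₁ * x' * g₁⁻¹) * g₁ := by group
      rw [this, e']; group
    rw [this]; exact hx'
  have hTp : IsPGroup p ↥T := hT ▸ hQ₁p.map _
  obtain ⟨n, hn, hnT⟩ := Cfsg.Agent.Lead.exists_conj_le_of_card_eq_ppart hS'N hS'card hTN hTp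
  obtain ⟨m₂, hm₂, c₂, hc₂, e₂⟩ := IH Q₁ hQ₁M hQ₁p hQ₁lt (n * g₁⁻¹) (by
    intro q hq
    have h1 : (MulAut.conj n).toMonoidHom ((MulAut.conj g₁⁻¹).toMonoidHom q) ∈ S' :=
      hnT ⟨_, hT ▸ ⟨q, hq, rfl⟩, rfl⟩
    have h2 : n * g₁⁻¹ * q * (n * g₁⁻¹)⁻¹ =
        (MulAut.conj n).toMonoidHom ((MulAut.conj g₁⁻¹).toMonoidHom q) := by
      simp only [MulEquiv.coe_toMonoidHom, MulAut.conj_apply]; group
    rw [h2]; exact hS'M h1)
  obtain ⟨m₃, hm₃, c₄, hc₄, e₃⟩ := hA n hn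
  have hc₃ : g₁⁻¹ * c₂⁻¹ * g₁ ∈ Subgroup.centralizer (X : Set G) := by
    rw [Subgroup.mem_centralizer_iff]
    intro x hx
    have h1 := Subgroup.mem_centralizer_iff.mp (Subgroup.inv_mem _ hc₂) _
      (hX₁Q₁ (hX₁mem x hx))
    calc x * (g₁⁻¹ * c₂⁻¹ * g₁) = g₁⁻¹ * (g₁ * x * g₁⁻¹ * c₂⁻¹) * g₁ := by group
      _ = g₁⁻¹ * (c₂⁻¹ * (g₁ * x * g₁⁻¹)) * g₁ := by rw [h1]
      _ = g₁⁻¹ * c₂⁻¹ * g₁ * x := by group
  refine ⟨m₁⁻¹ * m₂⁻¹ * m₃, M.mul_mem (M.mul_mem (M.inv_mem hm₁) (M.inv_mem hm₂)) hm₃,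
    c₄ * (g₁⁻¹ * c₂⁻¹ * g₁), Subgroup.mul_mem _ hc₄ hc₃, ?_⟩
  calc g = m₁⁻¹ * g₁ := by rw [hg₁]; group
    _ = m₁⁻¹ * (m₂⁻¹ * (m₂ * c₂) * c₂⁻¹ * g₁) := by group
    _ = m₁⁻¹ * (m₂⁻¹ * (n * g₁⁻¹) * c₂⁻¹ * g₁) := by rw [e₂]
    _ = m₁⁻¹ * (m₂⁻¹ * (m₃ * c₄ * g₁⁻¹) * c₂⁻¹ * g₁) := by rw [← e₃]
    _ = m₁⁻¹ * m₂⁻¹ * m₃ * (c₄ * (g₁⁻¹ * c₂⁻¹ * g₁)) := by group

/-- Bender–Glauberman Theorem 10.1(a). -/
theorem SigCtx.trans (c : SigCtx M p P) :
    ∀ X : Subgroup G, X ≤ M → IsPGroup p ↥X → X ≠ ⊥ → Trans M X := by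
  suffices h : ∀ k : ℕ, ∀ X : Subgroup G, X ≤ M → IsPGroup p ↥X → X ≠ ⊥ →
      Nat.card P - Nat.card X = k → Trans M X from
    fun X hXM hXp hX1 => h _ X hXM hXp hX1 rfl
  intro k
  induction k using Nat.strong_induction_on with
  | _ k ih =>
  intro X hXM hXp hX1 hk
  have hXle : Nat.card X ≤ Nat.card P := by
    rw [c.cardM]; exact Cfsg.Agent.Lead.card_le_ppart_of_isPGroup hXp hXM
  have IH : ∀ Y : Subgroup G, Y ≤ M → IsPGroup p ↥Y → Nat.card X < Nat.card Y → Trans M Y := by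
    intro Y hYM hYp hlt
    have hYle : Nat.card Y ≤ Nat.card P := by
      rw [c.cardM]; exact Cfsg.Agent.Lead.card_le_ppart_of_isPGroup hYp hYM
    have hY1 : Y ≠ ⊥ := by
      rintro rfl
      rw [Subgroup.card_bot] at hlt
      have : 0 < Nat.card X := Nat.card_pos
      omega
    exact ih (Nat.card P - Nat.card Y) (by omega) Y hYM hYp hY1 rfl
  obtain ⟨m₀, hm₀, hm₀P⟩ :=
    Cfsg.Agent.Lead.exists_conj_le_of_card_eq_ppart c.le c.cardM hXM hXp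
  apply Trans.of_conj hm₀
  have hcard : Nat.card ↥(X.map (MulAut.conj m₀).toMonoidHom) = Nat.card X :=
    Subgroup.card_map_of_injective (MulAut.conj m₀).injective
  apply c.trans_step hm₀P
  · intro h
    apply hX1
    rw [h, Subgroup.card_bot] at hcard
    exact Subgroup.card_eq_one.mp hcard.symm
  · intro Y hYM hYp hlt
    rw [hcard] at hlt
    exact IH Y hYM hYp hlt

/-- Bender–Glauberman Theorem 10.1(c): `N(X) = N_M(X) C(X)`. -/
theorem SigCtx.normalizer_eq (c : SigCtx M p P) {X : Subgroup G} (hXM : X ≤ M)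
    (hXp : IsPGroup p ↥X) (hX1 : X ≠ ⊥) :
    Subgroup.normalizer (X : Set G) =
      (M ⊓ Subgroup.normalizer (X : Set G)) ⊔ Subgroup.centralizer (X : Set G) := by
  apply le_antisymm
  · intro n hn
    obtain ⟨m, hm, c', hc', e⟩ := c.trans X hXM hXp hX1 n
      (fun x hx => hXM ((Subgroup.mem_normalizer_iff.mp hn x).mp hx))
    have hc'N : c' ∈ Subgroup.normalizer (X : Set G) :=
      Subgroup.centralizer_le_normalizer _ hc'
    have hmN : m ∈ Subgroup.normalizer (X : Set G) := by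
      have : m = n * c'⁻¹ := by rw [e]; group
      rw [this]
      exact Subgroup.mul_mem _ hn (Subgroup.inv_mem _ hc'N)
    rw [e]
    exact Subgroup.mul_mem_sup ⟨hm, hmN⟩ hc'
  · exact sup_le inf_le_right (Subgroup.centralizer_le_normalizer _)

/-- Building the context from `p ∈ σ(M)`. -/
theorem exists_sigCtx (hG : Cfsg.IsMinSimpleOddOrder G) {M : Subgroup G} (hM : IsCoatom M)
    {p : ℕ} [hp : Fact p.Prime] (h : p ∈ Cfsg.sigma M) : ∃ P : Subgroup G, SigCtx M p P := by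
  obtain ⟨P, hPM, hPp, hcM, hcG, hN⟩ := exists_sylow_of_mem_sigma h
  exact ⟨P, hG, hM, hPM, hPp, hcM, hcG, hN⟩

end Cfsg.Agent.Helper1.BGX
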