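import Mathlib
import Cfsg.Agent.Helper1.Basic
import Cfsg.Agent.Helper1.Coprime
import Cfsg.Agent.Helper1.Hall
import Cfsg.Agent.Helper1.CoreFree
import Cfsg.Agent.Helper1.MinNormal

set_option autoImplicit false

/-!
Carter subgroups of finite solvable groups: existence and conjugacy.
-/

namespace Cfsg.Agent.Helper1

open scoped Pointwise

universe u

variable {G : Type u} [Group G]

/-- nilpotent and self-normalizing -/
def IsCarter (C : Subgroup G) : Prop :=
  Group.IsNilpotent C ∧ Subgroup.normalizer (C : Set G) = C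

theorem IsCarter.eq_top_of_isNilpotent [Group.IsNilpotent G] {C : Subgroup G} (hC : IsCarter C) :
    C = ⊤ :=
  normalizerCondition_iff_only_full_group_self_normalizing.1
    Group.normalizerCondition_of_isNilpotent C hC.2

theorem isCarter_top_of_isNilpotent [Group.IsNilpotent G] : IsCarter (⊤ : Subgroup G) := by
  refine ⟨?_, ?_⟩
  · exact Group.nilpotent_of_mulEquiv (Subgroup.topEquiv (G := G)).symm
  · exact Subgroup.normalizer_eq_top _

theorem IsCarter.conj {C : Subgroup G} (hC : IsCarter C) (g : G) :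
    IsCarter (MulAut.conj g • C) := by
  refine ⟨?_, ?_⟩
  · haveI := hC.1
    exact Group.nilpotent_of_mulEquiv (Subgroup.equivSMul (MulAut.conj g) C)
  · rw [normalizer_conj_smul, hC.2]

theorem IsCarter.subgroupOf {C H : Subgroup G} (hC : IsCarter C) (hCH : C ≤ H) :
    IsCarter (C.subgroupOf H) := by
  refine ⟨?_, ?_⟩
  · haveI := hC.1
    exact Group.nilpotent_of_mulEquiv (Subgroup.subgroupOfEquivOfLe hCH).symm
  · rw [← Subgroup.subgroupOf_normalizer_eq hCH, hC.2]

/-- conjugacy of Carter subgroups in a group -/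
def CarterConj (G : Type u) [Group G] : Prop :=
  ∀ C D : Subgroup G, IsCarter C → IsCarter D → ∃ g : G, MulAut.conj g • C = D

/-- `N_G(CM) = CM` for a Carter subgroup `C` and normal `M`, given conjugacy in proper subgroups -/
theorem IsCarter.normalizer_sup (hconj : ∀ H : Subgroup G, H ≠ ⊤ → CarterConj H)
    {C : Subgroup G} (hC : IsCarter C) (M : Subgroup G) [M.Normal] :
    Subgroup.normalizer ((C ⊔ M : Subgroup G) : Set G) = C ⊔ M := by
  apply le_antisymm _ Subgroup.le_normalizer
  intro x hx
  set L := C ⊔ M with hL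
  by_cases hLtop : L = ⊤
  · rw [hLtop]; exact Subgroup.mem_top x
  have hCL : C ≤ L := le_sup_left
  have hxL : MulAut.conj x • L = L := conj_smul_eq_of_mem_normalizer hx
  have hCxL : MulAut.conj x • C ≤ L := by
    rw [← hxL]
    exact Subgroup.pointwise_smul_le_pointwise_smul_iff.2 hCL
  obtain ⟨y, hy⟩ := hconj L hLtop _ _ (hC.subgroupOf hCL) ((hC.conj x).subgroupOf hCxL)
  -- transfer to `G`
  have hy' : MulAut.conj (y : G) • C = MulAut.conj x • C := by
    have h1 := congrArg (Subgroup.map L.subtype) hy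
    rw [Subgroup.map_subgroupOf_eq_of_le hCxL] at h1
    rw [← h1]
    ext z
    rw [mem_conj_smul]
    constructor
    · intro hz
      refine ⟨⟨z, ?_⟩, ?_, rfl⟩
      · have h2 : z = (y : G) * ((y : G)⁻¹ * z * (y : G)) * (y : G)⁻¹ := by group
        rw [h2]
        exact L.mul_mem (L.mul_mem y.2 (hCL hz)) (L.inv_mem y.2)
      · rw [SetLike.mem_coe, mem_conj_smul]
        exact Subgroup.mem_subgroupOf.2 hz
    · rintro ⟨w, hw, rfl⟩
      rw [SetLike.mem_coe, mem_conj_smul] at hw
      exact Subgroup.mem_subgroupOf.1 hw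
  have h3 : x⁻¹ * (y : G) ∈ Subgroup.normalizer (C : Set G) := by
    apply mem_normalizer_of_conj_smul_eq
    rw [map_mul, mul_smul, hy', ← mul_smul, ← map_mul, inv_mul_cancel, map_one, one_smul]
  rw [hC.2] at h3
  have h4 : x = (y : G) * (x⁻¹ * (y : G))⁻¹ := by group
  rw [h4]
  exact L.mul_mem y.2 (L.inv_mem (hCL h3))

/-- the image of a Carter subgroup in a quotient -/
theorem IsCarter.map_mk' (hconj : ∀ H : Subgroup G, H ≠ ⊤ → CarterConj H)
    {C : Subgroup G} (hC : IsCarter C) (N : Subgroup G) [N.Normal] :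
    IsCarter (C.map (QuotientGroup.mk' N)) := by
  refine ⟨?_, ?_⟩
  · haveI := hC.1
    exact Group.nilpotent_of_surjective ((QuotientGroup.mk' N).subgroupMap C)
      ((QuotientGroup.mk' N).subgroupMap_surjective C)
  · apply Subgroup.comap_injective (QuotientGroup.mk'_surjective N)
    rw [Subgroup.comap_normalizer_eq_of_surjective _ (QuotientGroup.mk'_surjective N),
      QuotientGroup.comap_map_mk', sup_comm, hC.normalizer_sup hconj N]

theorem inf_normal_of_sup_eq_top {C N : Subgroup G} [N.Normal] (hNab : IsMulCommutative N)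
    (h : C ⊔ N = ⊤) : (C ⊓ N).Normal := by
  apply normal_of_sup_le_normalizer h
  · exact le_normalizer_inf Subgroup.le_normalizer (le_normalizer_of_normal C N)
  · exact abelian_le_normalizer_of_le hNab inf_le_right

/-- Frattini argument modulo a normal subgroup with nilpotent quotient -/
theorem sylow_normalizer_sup_eq_top_of_quotient_nilpotent [Finite G] (N : Subgroup G) [N.Normal]
    [hnil : Group.IsNilpotent (G ⧸ N)] {q : ℕ} [hq : Fact q.Prime] (P : Sylow q G) :
    Subgroup.normalizer ((P : Subgroup G) : Set G) ⊔ N = ⊤ := by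
  obtain ⟨S'⟩ : Nonempty (Sylow q (G ⧸ N)) := inferInstance
  have hS'n : (S' : Subgroup (G ⧸ N)).Normal :=
    Sylow.normal_of_normalizerCondition Group.normalizerCondition_of_isNilpotent S'
  set L := (S' : Subgroup (G ⧸ N)).comap (QuotientGroup.mk' N) with hL
  haveI hLn : L.Normal := hS'n.comap _
  have hNL : N ≤ L := by
    intro x hx
    rw [hL, Subgroup.mem_comap]
    have : (QuotientGroup.mk' N) x = 1 := by
      rw [← MonoidHom.mem_ker, QuotientGroup.ker_mk']; exact hx
    rw [this]; exact Subgroup.one_mem _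
  have hPL : (P : Subgroup G) ≤ L := by
    rw [hL, ← Subgroup.map_le_iff_le_comap]
    have hpg : IsPGroup q ((P : Subgroup G).map (QuotientGroup.mk' N)) := P.2.map _
    obtain ⟨S'', hS''⟩ := hpg.exists_le_sylow
    haveI := Sylow.unique_of_normal S' hS'n
    rw [Subsingleton.elim S' S'']
    exact hS''
  have hfr := Sylow.normalizer_sup_eq_top' P hPL
  have hLPN : L ≤ (P : Subgroup G) ⊔ N := by
    rw [← Subgroup.relIndex_eq_one]
    set d := ((P : Subgroup G) ⊔ N).relIndex L with hd
    have h1 : d ∣ N.relIndex L := Subgroup.relIndex_dvd_of_le_left L le_sup_right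
    have h2 : d ∣ (P : Subgroup G).index :=
      (Subgroup.relIndex_dvd_of_le_left L le_sup_left).trans
        (Subgroup.relIndex_dvd_index_of_le hPL)
    have h3 : N.relIndex L = Nat.card (S' : Subgroup (G ⧸ N)) := by
      have h4 := relIndex_mul_card_of_le hNL
      rw [hL, card_comap_mk'] at h4
      exact Nat.eq_of_mul_eq_mul_right Nat.card_pos h4
    obtain ⟨k, hk⟩ := IsPGroup.iff_card.1 S'.2
    rw [h3, hk] at h1
    obtain ⟨j, -, hj⟩ := (Nat.dvd_prime_pow hq.out).1 h1
    rcases Nat.eq_zero_or_pos j with rfl | hjpos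
    · rw [hj, pow_zero]
    · exfalso
      apply P.not_dvd_index
      refine dvd_trans ?_ h2
      rw [hj]
      exact dvd_pow_self q hjpos.ne'
  rw [eq_top_iff, ← hfr]
  apply sup_le le_sup_left
  exact hLPN.trans (sup_le (Subgroup.le_normalizer.trans le_sup_left) le_sup_right)

/-- existence when `G/N` is nilpotent but `G` is not -/
theorem exists_carter_of_quotient_nilpotent [Finite G] (N : Subgroup G) [hNn : N.Normal]
    [hnil : Group.IsNilpotent (G ⧸ N)] (hNab : IsMulCommutative N)
    (hmin : ∀ K : Subgroup G, K.Normal → K ≤ N → K = ⊥ ∨ K = N)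
    (hG : ¬ Group.IsNilpotent G) : ∃ C : Subgroup G, IsCarter C := by
  have h1 : ¬ ∀ (p : ℕ) (_hp : Fact p.Prime) (P : Sylow p G), (↑P : Subgroup G).Normal := by
    intro h
    exact hG ((Group.isNilpotent_of_finite_tfae (G := G)).out 3 0 |>.1 h)
  push Not at h1
  obtain ⟨q, hq, P, hP⟩ := h1
  set C := Subgroup.normalizer ((P : Subgroup G) : Set G) with hC
  have hsup : C ⊔ N = ⊤ := sylow_normalizer_sup_eq_top_of_quotient_nilpotent N P
  have hCtop : C ≠ ⊤ := by
    intro h
    exact hP (Subgroup.normalizer_eq_top_iff.1 h)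
  have hinf : C ⊓ N = ⊥ := by
    have hn := inf_normal_of_sup_eq_top hNab hsup
    rcases hmin _ hn inf_le_right with h | h
    · exact h
    · exfalso
      apply hCtop
      rw [eq_top_iff, ← hsup]
      exact sup_le le_rfl (h ▸ inf_le_left)
  refine ⟨C, ?_, Sylow.normalizer_normalizer P⟩
  apply Subgroup.isNilpotent_of_ker_le_center ((QuotientGroup.mk' N).comp C.subtype)
  intro x hx
  rw [MonoidHom.mem_ker, MonoidHom.comp_apply, ← MonoidHom.mem_ker, QuotientGroup.ker_mk'] at hx
  have hx1 : (x : G) ∈ C ⊓ N := ⟨x.2, hx⟩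
  rw [hinf, Subgroup.mem_bot] at hx1
  have : x = 1 := Subtype.ext hx1
  rw [this]; exact Subgroup.one_mem _

theorem sylow_normal_of_quotient_nilpotent_of_pgroup [Finite G] (N : Subgroup G) [N.Normal]
    [hnil : Group.IsNilpotent (G ⧸ N)] {r : ℕ} [hr : Fact r.Prime] (hN : IsPGroup r N)
    (R : Sylow r G) : (R : Subgroup G).Normal := by
  obtain ⟨S'⟩ : Nonempty (Sylow r (G ⧸ N)) := inferInstance
  have hS'n : (S' : Subgroup (G ⧸ N)).Normal :=
    Sylow.normal_of_normalizerCondition Group.normalizerCondition_of_isNilpotent S'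
  set L := (S' : Subgroup (G ⧸ N)).comap (QuotientGroup.mk' N) with hL
  haveI hLn : L.Normal := hS'n.comap _
  have hLp : IsPGroup r L := by
    obtain ⟨k, hk⟩ := IsPGroup.iff_card.1 S'.2
    obtain ⟨j, hj⟩ := IsPGroup.iff_card.1 hN
    apply IsPGroup.of_card (n := k + j)
    rw [hL, card_comap_mk', hk, hj, pow_add]
  have hRL : (R : Subgroup G) ≤ L := by
    rw [hL, ← Subgroup.map_le_iff_le_comap]
    have hpg : IsPGroup r ((R : Subgroup G).map (QuotientGroup.mk' N)) := R.2.map _
    obtain ⟨S'', hS''⟩ := hpg.exists_le_sylow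
    haveI := Sylow.unique_of_normal S' hS'n
    rw [Subsingleton.elim S' S'']
    exact hS''
  have := R.is_maximal' hLp hRL
  rw [← this]
  exact hLn

/-- in the complemented case, a Carter subgroup is the normalizer of a Sylow subgroup -/
theorem IsCarter.eq_normalizer_sylow [Finite G] (N : Subgroup G) [hNn : N.Normal]
    (hNab : IsMulCommutative N)
    (hmin : ∀ K : Subgroup G, K.Normal → K ≤ N → K = ⊥ ∨ K = N)
    {r : ℕ} [hr : Fact r.Prime] (hrN : ¬ r ∣ Nat.card N) (R₀ : Sylow r G)
    (hR₀ : ¬ (R₀ : Subgroup G).Normal) {C : Subgroup G} (hC : IsCarter C)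
    (hsup : C ⊔ N = ⊤) (hinf : C ⊓ N = ⊥) :
    ∃ Q : Sylow r G, Subgroup.normalizer ((Q : Subgroup G) : Set G) = C := by
  haveI := hC.1
  obtain ⟨Q'⟩ : Nonempty (Sylow r C) := inferInstance
  set Cr := (Q' : Subgroup C).map C.subtype with hCr
  have hcardG : Nat.card N * Nat.card C = Nat.card G :=
    (isComplement'_of_sup_inf N C hsup hinf).card_mul_card
  have hcardCr : Nat.card Cr = r ^ (Nat.card G).factorization r := by
    rw [hCr, Subgroup.card_map_of_injective C.subtype_injective, Q'.card_eq_multiplicity,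
      ← hcardG, Nat.factorization_mul Nat.card_pos.ne' Nat.card_pos.ne',
      Finsupp.add_apply, Nat.factorization_eq_zero_of_not_dvd hrN, zero_add]
  set Q : Sylow r G := Sylow.ofCard Cr hcardCr with hQ
  have hQcoe : (Q : Subgroup G) = Cr := Sylow.coe_ofCard Cr hcardCr
  refine ⟨Q, ?_⟩
  rw [hQcoe]
  set H := Subgroup.normalizer (Cr : Set G) with hH
  have hCH : C ≤ H := by
    have hQ'n : (Q' : Subgroup C).Normal :=
      Sylow.normal_of_normalizerCondition Group.normalizerCondition_of_isNilpotent Q'
    have h1 := Subgroup.le_normalizer_map (H := (Q' : Subgroup C)) C.subtype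
    rw [Subgroup.normalizer_eq_top_iff.2 hQ'n, ← MonoidHom.range_eq_map,
      Subgroup.range_subtype] at h1
    exact h1
  have hHtop : H ≠ ⊤ := by
    intro h
    have hQn : (Q : Subgroup G).Normal := by
      rw [hQcoe]; exact Subgroup.normalizer_eq_top_iff.1 h
    haveI := Sylow.unique_of_normal Q hQn
    apply hR₀
    rw [Subsingleton.elim R₀ Q]
    exact hQn
  have hHsup : H ⊔ N = ⊤ := by
    rw [eq_top_iff, ← hsup]
    exact sup_le_sup_right hCH N
  have hHinf : H ⊓ N = ⊥ := by
    have hn := inf_normal_of_sup_eq_top hNab hHsup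
    rcases hmin _ hn inf_le_right with h | h
    · exact h
    · exfalso
      apply hHtop
      rw [eq_top_iff, ← hHsup]
      exact sup_le le_rfl (h ▸ inf_le_left)
  have hcardH : Nat.card N * Nat.card H = Nat.card G :=
    (isComplement'_of_sup_inf N H hHsup hHinf).card_mul_card
  symm
  apply Subgroup.eq_of_le_of_card_ge hCH
  have := Nat.eq_of_mul_eq_mul_left Nat.card_pos (hcardH.trans hcardG.symm)
  exact this.le

/-- conjugacy in the complemented case -/
theorem carterConj_of_sup_eq_top [Finite G] (N : Subgroup G) [hNn : N.Normal]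
    (hNab : IsMulCommutative N) {p : ℕ} [hp : Fact p.Prime] (hNp : IsPGroup p N)
    (hmin : ∀ K : Subgroup G, K.Normal → K ≤ N → K = ⊥ ∨ K = N)
    (hG : ¬ Group.IsNilpotent G) {C D : Subgroup G} (hC : IsCarter C) (hD : IsCarter D)
    (hCsup : C ⊔ N = ⊤) (hDsup : D ⊔ N = ⊤) : ∃ g : G, MulAut.conj g • C = D := by
  have hne_top : ∀ {X : Subgroup G}, IsCarter X → X ≠ ⊤ := by
    intro X hX h
    apply hG
    haveI := hX.1
    rw [h] at this
    exact Group.nilpotent_of_mulEquiv (Subgroup.topEquiv (G := G))
  have hinf : ∀ {X : Subgroup G}, IsCarter X → X ⊔ N = ⊤ → X ⊓ N = ⊥ := by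
    intro X hX hXsup
    have hn := inf_normal_of_sup_eq_top hNab hXsup
    rcases hmin _ hn inf_le_right with h | h
    · exact h
    · exfalso
      apply hne_top hX
      rw [eq_top_iff, ← hXsup]
      exact sup_le le_rfl (h ▸ inf_le_left)
  -- `G/N` is nilpotent
  haveI hnil : Group.IsNilpotent (G ⧸ N) := by
    haveI := hC.1
    apply Group.nilpotent_of_surjective ((QuotientGroup.mk' N).comp C.subtype)
    intro q
    obtain ⟨g, rfl⟩ := QuotientGroup.mk'_surjective N q
    have hg : g ∈ N ⊔ C := by rw [sup_comm, hCsup]; exact Subgroup.mem_top g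
    obtain ⟨n, hn, c, hc, rfl⟩ := mem_sup_of_le_normalizer (le_normalizer_of_normal C N) hg
    refine ⟨⟨c, hc⟩, ?_⟩
    rw [MonoidHom.comp_apply, map_mul]
    have : (QuotientGroup.mk' N) n = 1 := by
      rw [← MonoidHom.mem_ker, QuotientGroup.ker_mk']; exact hn
    rw [this, one_mul]
    rfl
  have h1 : ¬ ∀ (p : ℕ) (_hp : Fact p.Prime) (P : Sylow p G), (↑P : Subgroup G).Normal := by
    intro h
    exact hG ((Group.isNilpotent_of_finite_tfae (G := G)).out 3 0 |>.1 h)
  push Not at h1
  obtain ⟨r, hr, R₀, hR₀⟩ := h1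
  have hrN : ¬ r ∣ Nat.card N := by
    intro hdvd
    obtain ⟨k, hk⟩ := IsPGroup.iff_card.1 hNp
    rw [hk] at hdvd
    have hrp : r = p := (Nat.prime_dvd_prime_iff_eq hr.out hp.out).1 (hr.out.dvd_of_dvd_pow hdvd)
    subst hrp
    exact hR₀ (sylow_normal_of_quotient_nilpotent_of_pgroup N hNp R₀)
  obtain ⟨QC, hQC⟩ := hC.eq_normalizer_sylow N hNab hmin hrN R₀ hR₀ hCsup (hinf hC hCsup)
  obtain ⟨QD, hQD⟩ := hD.eq_normalizer_sylow N hNab hmin hrN R₀ hR₀ hDsup (hinf hD hDsup)
  obtain ⟨g, hg⟩ := MulAction.exists_smul_eq G QC QD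
  refine ⟨g, ?_⟩
  have h2 : ((g • QC : Sylow r G) : Subgroup G) = MulAut.conj g • (QC : Subgroup G) := rfl
  rw [← hQC, ← hQD, ← normalizer_conj_smul, ← h2, hg]

theorem conj_smul_of_subgroupOf {A B L : Subgroup G} (hA : A ≤ L) (hB : B ≤ L) (y : L)
    (h : MulAut.conj y • A.subgroupOf L = B.subgroupOf L) : MulAut.conj (y : G) • A = B := by
  have h1 := congrArg (Subgroup.map L.subtype) h
  rw [Subgroup.map_subgroupOf_eq_of_le hB, map_conj_smul,
    Subgroup.map_subgroupOf_eq_of_le hA] at h1
  exact h1

theorem eq_top_of_self_normalizing_of_quotient_nilpotent {X Y : Type*} [Group X] [Group Y]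
    [Group.IsNilpotent Y] (φ : X →* Y) (hφ : Function.Surjective φ) (L : Subgroup X)
    (hker : φ.ker ≤ L) (hL : Subgroup.normalizer (L : Set X) = L) : L = ⊤ := by
  have h1 : Subgroup.comap φ (Subgroup.map φ L) = L := by
    rw [Subgroup.comap_map_eq, sup_eq_left.2 hker]
  have h2 : Subgroup.normalizer ((L.map φ : Subgroup Y) : Set Y) = L.map φ := by
    apply Subgroup.comap_injective hφ
    rw [Subgroup.comap_normalizer_eq_of_surjective _ hφ, h1, hL]
  have h3 : L.map φ = ⊤ :=
    normalizerCondition_iff_only_full_group_self_normalizing.1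
      Group.normalizerCondition_of_isNilpotent _ h2
  rw [← h1, h3, Subgroup.comap_top]

theorem card_lt_of_ne_top [Finite G] {H : Subgroup G} (hH : H ≠ ⊤) : Nat.card H < Nat.card G :=
  lt_of_le_of_ne (Subgroup.card_le_card_group H) (fun h => hH ((Subgroup.card_eq_iff_eq_top H).1 h))

theorem carter_aux : ∀ (n : ℕ) (G : Type u) [Group G] [Finite G] [Group.IsSolvable G],
    Nat.card G ≤ n → (∃ C : Subgroup G, IsCarter C) ∧ CarterConj G := by
  intro n
  induction n with
  | zero =>
    intro G _ _ _ h
    have := Nat.card_pos (α := G)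
    omega
  | succ n ih =>
    intro G _ _ _ hcard
    by_cases hnil : Group.IsNilpotent G
    · refine ⟨⟨⊤, isCarter_top_of_isNilpotent⟩, ?_⟩
      intro C D hC hD
      refine ⟨1, ?_⟩
      rw [hC.eq_top_of_isNilpotent, hD.eq_top_of_isNilpotent, map_one, one_smul]
    haveI : Nontrivial G := by
      by_contra h
      rw [not_nontrivial_iff_subsingleton] at h
      exact hnil inferInstance
    obtain ⟨p, hp, N, hNn, hN1, hNp, hNab, hmin⟩ := exists_minimal_normal_abelian G
    have hcardQ : Nat.card (G ⧸ N) ≤ n := by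
      have h1 : Nat.card (G ⧸ N) * Nat.card N = Nat.card G := by
        rw [← Subgroup.index_eq_card, Subgroup.index_mul_card]
      have h2 : 1 < Nat.card N := (Subgroup.one_lt_card_iff_ne_bot N).2 hN1
      have h3 := Nat.card_pos (α := G ⧸ N)
      have : Nat.card (G ⧸ N) < Nat.card G := by nlinarith
      omega
    obtain ⟨⟨K', hK'⟩, hconjQ⟩ := ih (G ⧸ N) hcardQ
    have hsub : ∀ H : Subgroup G, H ≠ ⊤ → (∃ C : Subgroup H, IsCarter C) ∧ CarterConj H := by
      intro H hH
      apply ih H
      have := card_lt_of_ne_top hH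
      omega
    have hconj : ∀ H : Subgroup G, H ≠ ⊤ → CarterConj H := fun H hH => (hsub H hH).2
    constructor
    · -- existence
      set K := K'.comap (QuotientGroup.mk' N) with hK
      by_cases hKtop : K = ⊤
      · have hK'top : K' = ⊤ := by
          apply Subgroup.comap_injective (QuotientGroup.mk'_surjective N)
          rw [← hK, hKtop, Subgroup.comap_top]
        haveI : Group.IsNilpotent (G ⧸ N) := by
          have h1 := hK'.1
          rw [hK'top] at h1
          exact Group.nilpotent_of_mulEquiv Subgroup.topEquiv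
        exact exists_carter_of_quotient_nilpotent N hNab hmin hnil
      · obtain ⟨⟨C', hC'⟩, -⟩ := hsub K hKtop
        have hconjK : ∀ H' : Subgroup K, H' ≠ ⊤ → CarterConj H' := by
          intro H' hH'
          apply (ih H' _).2
          have h1 := card_lt_of_ne_top hH'
          have h2 := card_lt_of_ne_top hKtop
          omega
        have hNK : N ≤ K := by
          intro x hx
          rw [hK, Subgroup.mem_comap]
          have : (QuotientGroup.mk' N) x = 1 := by
            rw [← MonoidHom.mem_ker, QuotientGroup.ker_mk']; exact hx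
          rw [this]; exact Subgroup.one_mem _
        set M := N.subgroupOf K with hM
        haveI hMn : M.Normal := Subgroup.Normal.subgroupOf hNn K
        have hself := hC'.normalizer_sup hconjK M
        -- `K / N` is nilpotent
        set φ := (QuotientGroup.mk' N).subgroupComap K' with hφ
        have hφs : Function.Surjective φ :=
          (QuotientGroup.mk' N).subgroupComap_surjective_of_surjective K'
            (QuotientGroup.mk'_surjective N)
        haveI := hK'.1
        have hkerφ : φ.ker ≤ C' ⊔ M := by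
          intro x hx
          apply Subgroup.mem_sup_right
          rw [hM, Subgroup.mem_subgroupOf]
          rw [MonoidHom.mem_ker] at hx
          have h1 : (QuotientGroup.mk' N) (x : G) = 1 := by
            have := congrArg Subtype.val hx
            exact this
          rwa [← MonoidHom.mem_ker, QuotientGroup.ker_mk'] at h1
        have htop : C' ⊔ M = ⊤ :=
          eq_top_of_self_normalizing_of_quotient_nilpotent φ hφs _ hkerφ hself
        set C := C'.map K.subtype with hC
        have hCK : C ≤ K := Subgroup.map_subtype_le _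
        have hCN : C ⊔ N = K := by
          have h1 := congrArg (Subgroup.map K.subtype) htop
          rw [Subgroup.map_sup, hM, Subgroup.map_subgroupOf_eq_of_le hNK,
            ← MonoidHom.range_eq_map, Subgroup.range_subtype] at h1
          exact h1
        have hCsub : C.subgroupOf K = C' :=
          Subgroup.comap_map_eq_self_of_injective K.subtype_injective C'
        refine ⟨C, ?_, ?_⟩
        · haveI := hC'.1
          exact Group.nilpotent_of_mulEquiv (C'.equivMapOfInjective K.subtype K.subtype_injective)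
        · apply le_antisymm _ Subgroup.le_normalizer
          intro x hx
          have hxK : x ∈ K := by
            have h1 : x ∈ Subgroup.normalizer (K : Set G) := by
              rw [← hCN]
              apply mem_normalizer_of_conj_smul_eq
              rw [Subgroup.smul_sup, conj_smul_eq_of_mem_normalizer hx,
                conj_smul_eq_of_mem_normalizer (le_normalizer_of_normal ⊤ N (Subgroup.mem_top x))]
            have h2 : (QuotientGroup.mk' N) x ∈ Subgroup.normalizer (K' : Set (G ⧸ N)) := by
              have h3 := Subgroup.le_normalizer_map (H := K) (QuotientGroup.mk' N)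
                (Subgroup.mem_map_of_mem _ h1)
              rwa [hK, Subgroup.map_comap_eq_self_of_surjective
                (QuotientGroup.mk'_surjective N)] at h3
            rw [hK'.2] at h2
            exact h2
          have h4 : (⟨x, hxK⟩ : K) ∈ Subgroup.normalizer ((C.subgroupOf K : Subgroup K) : Set K) := by
            rw [← Subgroup.subgroupOf_normalizer_eq hCK]
            exact Subgroup.mem_subgroupOf.2 hx
          rw [hCsub, hC'.2] at h4
          exact ⟨⟨x, hxK⟩, h4, rfl⟩
    · -- conjugacy
      intro C D hC hD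
      obtain ⟨qg, hqg⟩ := hconjQ _ _ (hC.map_mk' hconj N) (hD.map_mk' hconj N)
      obtain ⟨g, rfl⟩ := QuotientGroup.mk'_surjective N qg
      set C₁ := MulAut.conj g • C with hC₁
      have hC₁c : IsCarter C₁ := hC.conj g
      suffices h : ∃ h : G, MulAut.conj h • C₁ = D by
        obtain ⟨h, hh⟩ := h
        refine ⟨h * g, ?_⟩
        rw [map_mul, mul_smul, ← hC₁, hh]
      have hsupeq : C₁ ⊔ N = D ⊔ N := by
        have h1 : C₁.map (QuotientGroup.mk' N) = D.map (QuotientGroup.mk' N) := by
          rw [hC₁, map_conj_smul]; exact hqg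
        have h2 := congrArg (Subgroup.comap (QuotientGroup.mk' N)) h1
        rw [QuotientGroup.comap_map_mk', QuotientGroup.comap_map_mk', sup_comm, sup_comm N] at h2
        exact h2
      by_cases hKtop : C₁ ⊔ N = ⊤
      · exact carterConj_of_sup_eq_top N hNab hNp hmin hnil hC₁c hD hKtop (hsupeq ▸ hKtop)
      · have hC₁K : C₁ ≤ C₁ ⊔ N := le_sup_left
        have hDK : D ≤ C₁ ⊔ N := hsupeq ▸ le_sup_left
        obtain ⟨y, hy⟩ := hconj _ hKtop _ _ (hC₁c.subgroupOf hC₁K) (hD.subgroupOf hDK)
        exact ⟨(y : G), conj_smul_of_subgroupOf hC₁K hDK y hy⟩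

/-- **Carter subgroups**: existence and conjugacy in finite solvable groups. -/
theorem carter_subgroups (G : Type u) [Group G] [Finite G] [Group.IsSolvable G] :
    (∃ C : Subgroup G, Group.IsNilpotent C ∧ Subgroup.normalizer (C : Set G) = C) ∧
    ∀ C D : Subgroup G, Group.IsNilpotent C → Subgroup.normalizer (C : Set G) = C →
      Group.IsNilpotent D → Subgroup.normalizer (D : Set G) = D →
        ∃ g : G, MulAut.conj g • C = D := by
  obtain ⟨⟨C, hC⟩, hconj⟩ := carter_aux (Nat.card G) G le_rfl
  exact ⟨⟨C, hC.1, hC.2⟩, fun C D h1 h2 h3 h4 => hconj C D ⟨h1, h2⟩ ⟨h3, h4⟩⟩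

end Cfsg.Agent.Helper1
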