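import Mathlib
import Cfsg.Prelude.Def_SolvableStructure
import Cfsg.Agent.Helper1.Basic
import Cfsg.Agent.Helper1.Coprime
import Cfsg.Agent.Helper1.Glauberman
import Cfsg.Agent.Helper1.NilpCoprime
import Cfsg.Agent.Helper1.MinNonNilp
import Cfsg.Agent.Helper1.CoreFree
import Cfsg.Agent.Helper1.Carter

set_option autoImplicit false

/-!
Wielandt's theorem: if `G` has a nilpotent Hall `π`-subgroup `H`, every `π`-subgroup lies in a
conjugate of `H`.
-/

namespace Cfsg.Agent.Helper1

open scoped Pointwise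

universe u

variable {G : Type u} [Group G]

/-- decomposition of a nilpotent subgroup at a prime -/
theorem nilpotent_decomp [Finite G] (H : Subgroup G) (hH : Group.IsNilpotent H) (p : ℕ)
    [hp : Fact p.Prime] :
    ∃ P Q : Subgroup G, P ≤ H ∧ Q ≤ H ∧ IsPGroup p P ∧ (Nat.card Q).Coprime p ∧
      Nat.card P * Nat.card Q = Nat.card H ∧ Q ≤ Subgroup.centralizer (P : Set G) ∧
      Nat.card P = p ^ (Nat.card H).factorization p := by
  obtain ⟨P'⟩ : Nonempty (Sylow p H) := inferInstance
  have hP'n : (P' : Subgroup H).Normal :=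
    Sylow.normal_of_normalizerCondition Group.normalizerCondition_of_isNilpotent P'
  set P := (P' : Subgroup H).map H.subtype with hP
  have hPH : P ≤ H := Subgroup.map_subtype_le _
  have hPsub : P.subgroupOf H = (P' : Subgroup H) :=
    Subgroup.comap_map_eq_self_of_injective H.subtype_injective _
  have hHP : H ≤ Subgroup.normalizer (P : Set G) := by
    rw [← Subgroup.normal_subgroupOf_iff_le_normalizer hPH, hPsub]; exact hP'n
  have hPcard : Nat.card P = p ^ (Nat.card H).factorization p := by
    rw [hP, Subgroup.card_map_of_injective H.subtype_injective]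
    exact P'.card_eq_multiplicity
  have hPp : IsPGroup p P := P'.2.map _
  have hidx : P.relIndex H = (P' : Subgroup H).index := by
    rw [Subgroup.relIndex, hPsub]
  have hcop : (Nat.card P).Coprime (P.relIndex H) := by
    rw [hPcard, hidx]
    apply Nat.Coprime.pow_left
    rw [Nat.Prime.coprime_iff_not_dvd hp.out]
    exact P'.not_dvd_index
  obtain ⟨Q, hQH, hQcard⟩ := exists_complement_internal H P hPH hHP hcop
  have hQcop : (Nat.card Q).Coprime p := by
    rw [hQcard, hidx, Nat.coprime_comm, Nat.Prime.coprime_iff_not_dvd hp.out]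
    exact P'.not_dvd_index
  refine ⟨P, Q, hPH, hQH, hPp, hQcop, ?_, ?_, hPcard⟩
  · rw [hQcard, mul_comm]; exact relIndex_mul_card_of_le hPH
  · intro y hy
    rw [Subgroup.mem_centralizer_iff]
    intro x hx
    have hox : orderOf x ∣ Nat.card P := by
      have := orderOf_dvd_natCard (⟨x, hx⟩ : P)
      rwa [Subgroup.orderOf_mk] at this
    have hoy : orderOf y ∣ Nat.card Q := by
      have := orderOf_dvd_natCard (⟨y, hy⟩ : Q)
      rwa [Subgroup.orderOf_mk] at this
    have hc : (orderOf x).Coprime (orderOf y) := by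
      apply Nat.Coprime.coprime_dvd_left hox
      apply Nat.Coprime.coprime_dvd_right hoy
      rw [hPcard]
      exact Nat.Coprime.pow_left _ hQcop.symm
    have h1 := commute_of_coprime_orderOf (⟨x, hPH hx⟩ : H) ⟨y, hQH hy⟩ (by
      rw [Subgroup.orderOf_mk, Subgroup.orderOf_mk]; exact hc)
    exact congrArg Subtype.val h1

theorem exists_normal_sylow_of_proper_nilpotent (X : Type u) [Group X] [Finite X] [Nontrivial X]
    (h : ∀ M : Subgroup X, M ≠ ⊤ → Group.IsNilpotent M) :
    ∃ (q : ℕ) (_ : Fact q.Prime) (Q : Sylow q X),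
      (Q : Subgroup X).Normal ∧ (Q : Subgroup X) ≠ ⊥ := by
  by_cases hnil : Group.IsNilpotent X
  · obtain ⟨q, hq, hqd⟩ := Nat.exists_prime_and_dvd (Finite.one_lt_card (α := X)).ne'
    haveI := Fact.mk hq
    obtain ⟨Q⟩ : Nonempty (Sylow q X) := inferInstance
    refine ⟨q, ⟨hq⟩, Q,
      Sylow.normal_of_normalizerCondition Group.normalizerCondition_of_isNilpotent Q, ?_⟩
    intro hbot
    have h1 := Q.card_eq_multiplicity
    rw [hbot, Subgroup.card_bot] at h1
    have h2 : 0 < (Nat.card X).factorization q :=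
      hq.factorization_pos_of_dvd Nat.card_pos.ne' hqd
    have := Nat.one_lt_pow h2.ne' hq.one_lt
    omega
  · obtain ⟨p, q, hp, hq, hpq, P, Q, hPc, hQn, hPQ⟩ := minNonNilp_structure ⟨hnil, h⟩
    refine ⟨q, ⟨hq⟩, Q, hQn, ?_⟩
    intro hbot
    rw [hbot, sup_bot_eq] at hPQ
    apply hnil
    haveI : IsCyclic (⊤ : Subgroup X) := hPQ ▸ hPc
    haveI : IsCyclic X :=
      isCyclic_of_surjective (Subgroup.topEquiv : (⊤ : Subgroup X) ≃* X)
        (Subgroup.topEquiv : (⊤ : Subgroup X) ≃* X).surjective
    letI := IsCyclic.commGroup (α := X)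
    exact CommGroup.isNilpotent

theorem isNilpotent_of_le {A B : Subgroup G} (hAB : A ≤ B) (hB : Group.IsNilpotent B) :
    Group.IsNilpotent A :=
  Group.nilpotent_of_mulEquiv (Subgroup.subgroupOfEquivOfLe hAB)

theorem wielandt_aux : ∀ (n : ℕ) (G : Type u) [Group G] [Finite G] (H K : Subgroup G),
    Group.IsNilpotent H → (Nat.card H).Coprime H.index →
    (∀ p : ℕ, p.Prime → p ∣ Nat.card K → p ∣ Nat.card H) → Nat.card K ≤ n →
    ∃ x : G, K ≤ MulAut.conj x • H := by
  intro n
  induction n with
  | zero =>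
    intro G _ _ H K _ _ _ h
    have := Nat.card_pos (α := K)
    omega
  | succ n ih =>
    intro G _ _ H K hH hHall hpi hcard
    by_cases hK1 : K = ⊥
    · exact ⟨1, hK1 ▸ bot_le⟩
    haveI : Nontrivial K := (Subgroup.nontrivial_iff_ne_bot K).2 hK1
    have hprop : ∀ M : Subgroup K, M ≠ ⊤ → Group.IsNilpotent M := by
      intro M hM
      set M₀ := M.map K.subtype with hM₀
      have hcardM : Nat.card M₀ ≤ n := by
        rw [hM₀, Subgroup.card_map_of_injective K.subtype_injective]
        have := card_lt_of_ne_top hM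
        omega
      have hpiM : ∀ p : ℕ, p.Prime → p ∣ Nat.card M₀ → p ∣ Nat.card H := fun p hp hd =>
        hpi p hp (hd.trans (Subgroup.card_dvd_of_le (Subgroup.map_subtype_le M)))
      obtain ⟨x, hx⟩ := ih G H M₀ hH hHall hpiM hcardM
      have h1 : Group.IsNilpotent (MulAut.conj x • H : Subgroup G) :=
        Group.nilpotent_of_mulEquiv (Subgroup.equivSMul (MulAut.conj x) H)
      have h2 : Group.IsNilpotent M₀ := isNilpotent_of_le hx h1
      exact Group.nilpotent_of_mulEquiv
        (M.equivMapOfInjective K.subtype K.subtype_injective).symm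
    obtain ⟨q, hq, Q', hQ'n, hQ'1⟩ := exists_normal_sylow_of_proper_nilpotent K hprop
    set P₁ := (Q' : Subgroup K).map K.subtype with hP₁
    have hP₁K : P₁ ≤ K := Subgroup.map_subtype_le _
    have hP₁sub : P₁.subgroupOf K = (Q' : Subgroup K) :=
      Subgroup.comap_map_eq_self_of_injective K.subtype_injective _
    have hKP₁ : K ≤ Subgroup.normalizer (P₁ : Set G) := by
      rw [← Subgroup.normal_subgroupOf_iff_le_normalizer hP₁K, hP₁sub]; exact hQ'n
    have hP₁p : IsPGroup q P₁ := Q'.2.map _
    have hP₁card : Nat.card P₁ = q ^ (Nat.card K).factorization q := by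
      rw [hP₁, Subgroup.card_map_of_injective K.subtype_injective]
      exact Q'.card_eq_multiplicity
    have hP₁1 : 1 < Nat.card P₁ := by
      rw [hP₁, Subgroup.card_map_of_injective K.subtype_injective]
      exact (Subgroup.one_lt_card_iff_ne_bot _).2 hQ'1
    have hqK : q ∣ Nat.card K := by
      by_contra hnd
      rw [hP₁card, Nat.factorization_eq_zero_of_not_dvd hnd, pow_zero] at hP₁1
      omega
    have hqH : q ∣ Nat.card H := hpi q hq.out hqK
    obtain ⟨PH, QH, hPH, hQH, hPHp, hQHcop, hmul, hcent, hPHcard⟩ := nilpotent_decomp H hH q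
    -- `PH` is a Sylow subgroup of `G`
    have hqidx : ¬ q ∣ H.index := by
      intro hd
      have := Nat.eq_one_of_dvd_coprimes hHall hqH hd
      exact hq.out.one_lt.ne' this
    have hPHcardG : Nat.card PH = q ^ (Nat.card G).factorization q := by
      rw [hPHcard, ← H.card_mul_index,
        Nat.factorization_mul Nat.card_pos.ne' Subgroup.index_ne_zero_of_finite,
        Finsupp.add_apply, Nat.factorization_eq_zero_of_not_dvd hqidx, add_zero]
    set SG : Sylow q G := Sylow.ofCard PH hPHcardG with hSG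
    have hSGcoe : (SG : Subgroup G) = PH := Sylow.coe_ofCard PH hPHcardG
    obtain ⟨S, hS⟩ := hP₁p.exists_le_sylow
    obtain ⟨g, hg⟩ := MulAction.exists_smul_eq G S SG
    set K₁ := MulAut.conj g • K with hK₁
    set P₂ := MulAut.conj g • P₁ with hP₂
    have hP₂PH : P₂ ≤ PH := by
      rw [← hSGcoe, ← hg]
      exact Subgroup.pointwise_smul_le_pointwise_smul_iff.2 hS
    suffices hsuff : ∃ y : G, K₁ ≤ MulAut.conj y • H by
      obtain ⟨y, hy⟩ := hsuff
      refine ⟨g⁻¹ * y, ?_⟩
      rw [map_mul, mul_smul, ← Subgroup.pointwise_smul_le_pointwise_smul_iff (a := MulAut.conj g),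
        ← mul_smul, ← map_mul, mul_inv_cancel, map_one, one_smul]
      exact hy
    have hP₂K₁ : P₂ ≤ K₁ := Subgroup.pointwise_smul_le_pointwise_smul_iff.2 hP₁K
    have hK₁P₂ : K₁ ≤ Subgroup.normalizer (P₂ : Set G) := by
      rw [hP₂, normalizer_conj_smul]
      exact Subgroup.pointwise_smul_le_pointwise_smul_iff.2 hKP₁
    have hcardK₁ : Nat.card K₁ = Nat.card K := card_conj_smul g K
    have hcardP₂ : Nat.card P₂ = Nat.card P₁ := card_conj_smul g P₁
    have hrel : P₂.relIndex K₁ * Nat.card P₂ = Nat.card K₁ := relIndex_mul_card_of_le hP₂K₁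
    have hrelcop : (P₂.relIndex K₁).Coprime q := by
      rw [Nat.coprime_comm, Nat.Prime.coprime_iff_not_dvd hq.out]
      intro hd
      have h1 : q ^ ((Nat.card K).factorization q + 1) ∣ Nat.card K := by
        have h2 : Nat.card K = P₂.relIndex K₁ * q ^ (Nat.card K).factorization q := by
          rw [← hP₁card, ← hcardP₂, hrel, hcardK₁]
        obtain ⟨t, ht⟩ := hd
        refine ⟨t, ?_⟩
        calc Nat.card K = P₂.relIndex K₁ * q ^ (Nat.card K).factorization q := h2
          _ = q ^ ((Nat.card K).factorization q + 1) * t := by rw [ht, pow_succ]; ring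
      exact Nat.pow_succ_factorization_not_dvd Nat.card_pos.ne' hq.out h1
    have hcop2 : (Nat.card P₂).Coprime (P₂.relIndex K₁) := by
      rw [hcardP₂, hP₁card]
      exact Nat.Coprime.pow_left _ hrelcop.symm
    obtain ⟨Q₁, hQ₁K, hQ₁card⟩ := exists_complement_internal K₁ P₂ hP₂K₁ hK₁P₂ hcop2
    set L := Subgroup.normalizer (P₂ : Set G) with hL
    have hQ₁L : Q₁ ≤ L := hQ₁K.trans hK₁P₂
    have hQHL : QH ≤ L :=
      hcent.trans ((Subgroup.centralizer_le hP₂PH).trans (Subgroup.centralizer_le_normalizer _))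
    -- `K₁ = P₂ Q₁`
    have hdisj : Q₁ ⊓ P₂ = ⊥ := by
      rw [eq_bot_iff]
      intro x hx
      rw [Subgroup.mem_bot]
      have h1 : orderOf x ∣ Nat.card Q₁ := by
        have := orderOf_dvd_natCard (⟨x, hx.1⟩ : Q₁)
        rwa [Subgroup.orderOf_mk] at this
      have h2 : orderOf x ∣ Nat.card P₂ := by
        have := orderOf_dvd_natCard (⟨x, hx.2⟩ : P₂)
        rwa [Subgroup.orderOf_mk] at this
      rw [hQ₁card] at h1
      have := Nat.eq_one_of_dvd_coprimes hcop2 h2 h1
      exact orderOf_eq_one_iff.1 this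
    have hK₁eq : P₂ ⊔ Q₁ = K₁ := by
      apply Subgroup.eq_of_le_of_card_ge (sup_le hP₂K₁ hQ₁K)
      rw [card_sup_of_le_normalizer hQ₁L hdisj, hQ₁card, hrel]
    -- induction hypothesis in `L`
    have hQHnil : Group.IsNilpotent QH := isNilpotent_of_le hQH hH
    have hH'nil : Group.IsNilpotent (QH.subgroupOf L) :=
      Group.nilpotent_of_mulEquiv (Subgroup.subgroupOfEquivOfLe hQHL).symm
    have hPHQH : (Nat.card QH).Coprime (Nat.card PH) := by
      rw [hPHcard]; exact Nat.Coprime.pow_right _ hQHcop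
    have hH'hall : (Nat.card (QH.subgroupOf L)).Coprime (QH.subgroupOf L).index := by
      rw [card_subgroupOf_of_le hQHL]
      have h1 : (QH.subgroupOf L).index ∣ QH.index := Subgroup.relIndex_dvd_index_of_le hQHL
      apply Nat.Coprime.coprime_dvd_right h1
      have h2 : QH.index = H.index * Nat.card PH := by
        have h3 := QH.card_mul_index
        have h4 := H.card_mul_index
        rw [← hmul] at h4
        have h5 : Nat.card QH * QH.index = Nat.card QH * (H.index * Nat.card PH) := by
          rw [h3, ← h4]; ring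
        exact Nat.eq_of_mul_eq_mul_left Nat.card_pos h5
      rw [h2]
      apply Nat.Coprime.mul_right _ hPHQH
      exact Nat.Coprime.coprime_dvd_left (Dvd.intro_left _ hmul) hHall
    have hK'pi : ∀ p : ℕ, p.Prime → p ∣ Nat.card (Q₁.subgroupOf L) →
        p ∣ Nat.card (QH.subgroupOf L) := by
      intro p hp hd
      rw [card_subgroupOf_of_le hQ₁L] at hd
      rw [card_subgroupOf_of_le hQHL]
      have h1 : p ∣ Nat.card K := by
        rw [← hcardK₁]; exact hd.trans (Subgroup.card_dvd_of_le hQ₁K)
      have h2 : p ∣ Nat.card PH * Nat.card QH := by rw [hmul]; exact hpi p hp h1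
      rcases (Nat.Prime.dvd_mul hp).1 h2 with h3 | h3
      · exfalso
        rw [hPHcard] at h3
        have hpq : p = q := (Nat.prime_dvd_prime_iff_eq hp hq.out).1 (hp.dvd_of_dvd_pow h3)
        subst hpq
        rw [hQ₁card] at hd
        exact (Nat.Prime.coprime_iff_not_dvd hp).1 hrelcop.symm hd
      · exact h3
    have hK'card : Nat.card (Q₁.subgroupOf L) ≤ n := by
      rw [card_subgroupOf_of_le hQ₁L, hQ₁card]
      have h1 : 1 < Nat.card P₂ := by rw [hcardP₂]; exact hP₁1
      have h2 : 0 < P₂.relIndex K₁ := by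
        rcases Nat.eq_zero_or_pos (P₂.relIndex K₁) with h0 | h0
        · rw [h0, zero_mul] at hrel
          have := Nat.card_pos (α := K₁)
          omega
        · exact h0
      have h3 : P₂.relIndex K₁ < Nat.card K₁ := by
        rw [← hrel]; nlinarith
      omega
    obtain ⟨c, hc⟩ := ih L (QH.subgroupOf L) (Q₁.subgroupOf L) hH'nil hH'hall hK'pi hK'card
    have hQ₁c : Q₁ ≤ MulAut.conj (c : G) • QH := by
      have h1 := Subgroup.map_mono (f := L.subtype) hc
      rwa [Subgroup.map_subgroupOf_eq_of_le hQ₁L, map_conj_smul,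
        Subgroup.map_subgroupOf_eq_of_le hQHL] at h1
    refine ⟨(c : G), ?_⟩
    rw [← hK₁eq]
    apply sup_le
    · have h1 : MulAut.conj (c : G) • P₂ = P₂ := conj_smul_eq_of_mem_normalizer c.2
      rw [← h1]
      exact Subgroup.pointwise_smul_le_pointwise_smul_iff.2 (hP₂PH.trans hPH)
    · exact hQ₁c.trans (Subgroup.pointwise_smul_le_pointwise_smul_iff.2 hQH)

/-- **Wielandt**: a nilpotent Hall subgroup contains a conjugate of every `π`-subgroup. -/
theorem wielandt_nilpotent_hall [Finite G] (H K : Subgroup G) (hH : Group.IsNilpotent H)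
    (hHall : (Nat.card H).Coprime H.index)
    (hK : ∀ p : ℕ, p.Prime → p ∣ Nat.card K → p ∣ Nat.card H) :
    ∃ x : G, K ≤ MulAut.conj x • H :=
  wielandt_aux (Nat.card K) G H K hH hHall hK le_rfl

end Cfsg.Agent.Helper1
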