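import Mathlib
import Cfsg.Prelude
import Cfsg.Agent.Helper1.BGXa
import Cfsg.Agent.Helper1.WielandtNilpHall

set_option autoImplicit false

/-!
Bender–Glauberman, Section 10: Theorem 10.2 (`S1405`).
-/

namespace Cfsg.Agent.Helper1.BGX

open Cfsg Cfsg.Agent.Helper1 Cfsg.Agent.Helper2 Cfsg.Agent.Helper1.BGT Cfsg.Agent.Helper1.BGU
  Cfsg.Agent.Helper1.BGV Cfsg.Agent.Helper1.BGW
open scoped commutatorElement Pointwise

universe u

section generic

variable {H : Type u} [Group H] [Finite H]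

/-- `O_π(H / O_π(H)) = 1`. -/
theorem piCore_quotient_eq_bot (π : Set ℕ) :
    Cfsg.piCore π (H ⧸ Cfsg.piCore π H) = ⊥ := by
  have hpre : (Cfsg.piCore π (H ⧸ Cfsg.piCore π H)).comap
      (QuotientGroup.mk' (Cfsg.piCore π H)) ≤ Cfsg.piCore π H := by
    apply le_sSup
    refine ⟨inferInstance, ?_⟩
    intro q hq hd
    rw [card_comap_mk'] at hd
    rcases (Nat.Prime.dvd_mul hq).mp hd with h | h
    · exact piCore_isPi π q hq h
    · exact piCore_isPi π q hq h
  rw [eq_bot_iff]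
  intro x hx
  obtain ⟨y, rfl⟩ := QuotientGroup.mk'_surjective (Cfsg.piCore π H) x
  have h1 : y ∈ (Cfsg.piCore π (H ⧸ Cfsg.piCore π H)).comap
      (QuotientGroup.mk' (Cfsg.piCore π H)) := hx
  rw [Subgroup.mem_bot]
  exact (QuotientGroup.eq_one_iff y).mpr (hpre h1)

/-- If `O_π(K) = 1` then `F(K)` has no `π`-elements. -/
theorem not_dvd_card_fittingSubgroup {K : Type u} [Group K] [Finite K] {π : Set ℕ}
    (hK : Cfsg.piCore π K = ⊥) {r : ℕ} (hr : r.Prime) (hrπ : r ∈ π) :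
    ¬ r ∣ Nat.card (Cfsg.fittingSubgroup K) := by
  intro hd
  haveI := Fact.mk hr
  obtain ⟨x, hx⟩ := exists_prime_orderOf_dvd_card' r hd
  have hxo : orderOf (x : K) = r := by rw [Subgroup.orderOf_coe]; exact hx
  have hZ : IsPGroup r (Subgroup.zpowers (x : K)) := by
    apply IsPGroup.of_card (n := 1)
    rw [Nat.card_zpowers, hxo, pow_one]
  have h1 : Subgroup.zpowers (x : K) ≤ Cfsg.pCore r K :=
    Cfsg.Agent.Helper1.Rank2Fitting.le_pCore_of_le_fitting _ hZ
      (Subgroup.zpowers_le.mpr x.2)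
  have h2 : Cfsg.pCore r K ≤ Cfsg.piCore π K := by
    apply le_sSup
    refine ⟨inferInstance, ?_⟩
    intro q hq hd
    obtain ⟨k, hk⟩ := IsPGroup.iff_card.mp (pCore_isPGroup (G := K) r)
    rw [hk] at hd
    have : q = r := (Nat.prime_dvd_prime_iff_eq hq hr).mp (hq.dvd_of_dvd_pow hd)
    rw [this]; exact hrπ
  have h3 : (x : K) ∈ (⊥ : Subgroup K) := hK ▸ h2 (h1 (Subgroup.mem_zpowers _))
  rw [Subgroup.mem_bot] at h3
  rw [h3, orderOf_one] at hxo
  exact hr.one_lt.ne hxo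

/-- The structure of `H / O_π(H)` when `H` is solvable of odd order and has `q`-rank at most two
for all primes `q ∉ π`. -/
theorem quotient_piCore_structure [Group.IsSolvable H] (hodd : Odd (Nat.card H)) (π : Set ℕ)
    (hπ : ∀ q : ℕ, q.Prime → q ∉ π → Cfsg.PRankLE q 2 H) :
    commutator (H ⧸ Cfsg.piCore π H) ≤ Cfsg.fittingSubgroup (H ⧸ Cfsg.piCore π H) ∧
      ∀ r : ℕ, r.Prime → r ∈ π → ¬ r ∣ Nat.card (Cfsg.fittingSubgroup (H ⧸ Cfsg.piCore π H)) := by
  have hbot := piCore_quotient_eq_bot (H := H) π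
  have hF := fun r hr hrπ => not_dvd_card_fittingSubgroup hbot (r := r) hr hrπ
  have hoddQ : Odd (Nat.card (H ⧸ Cfsg.piCore π H)) := by
    apply Odd.of_dvd_nat hodd
    rw [← Subgroup.index_eq_card]
    exact Subgroup.index_dvd_card _
  refine ⟨?_, hF⟩
  apply Cfsg.Agent.Helper1.Rank2Fitting.commutator_le_fittingSubgroup hoddQ
  intro q hq
  haveI := Fact.mk hq
  by_cases hqπ : q ∈ π
  · intro E hEc hEe
    have hEp : IsPGroup q ↥E := by
      intro g
      refine ⟨1, ?_⟩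
      rw [pow_one]
      apply Subtype.ext
      rw [Subgroup.coe_pow, Subgroup.coe_one]
      exact hEe g g.2
    obtain ⟨k, hk⟩ := IsPGroup.iff_card.mp hEp
    have hk0 : k = 0 := by
      by_contra hne
      apply hF q hq hqπ
      have h1 : q ∣ Nat.card E := by rw [hk]; exact dvd_pow_self q hne
      exact h1.trans (Subgroup.card_subgroup_dvd_card E)
    rw [hk, hk0, pow_zero]
    exact Nat.one_le_pow 2 q hq.pos
  · apply Cfsg.Agent.Helper1.Rank2Struct.pRankLE_subgroup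
    apply Cfsg.Agent.Helper1.Rank2Struct.pRankLE_quotient_of_coprime (hπ q hq hqπ)
    rw [Nat.coprime_comm, Nat.Prime.coprime_iff_not_dvd hq]
    intro hd
    exact hqπ (piCore_isPi π q hq hd)

/-- A `p`-subgroup of `H'` with `p ∈ π` lies in `O_π(H)`. -/
theorem le_piCore_of_le_commutator [Group.IsSolvable H] (hodd : Odd (Nat.card H)) (π : Set ℕ)
    (hπ : ∀ q : ℕ, q.Prime → q ∉ π → Cfsg.PRankLE q 2 H) {p : ℕ} [hp : Fact p.Prime]
    (hpπ : p ∈ π) {S : Subgroup H} (hS : IsPGroup p ↥S) (hSc : S ≤ commutator H) :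
    S ≤ Cfsg.piCore π H := by
  obtain ⟨h1, h2⟩ := quotient_piCore_structure hodd π hπ
  intro x hx
  rw [← QuotientGroup.eq_one_iff]
  -- the image of `S` is a `p`-subgroup of `F(H / O_π(H))`
  have hle : S.map (QuotientGroup.mk' (Cfsg.piCore π H)) ≤
      Cfsg.fittingSubgroup (H ⧸ Cfsg.piCore π H) := by
    refine le_trans ?_ h1
    rintro _ ⟨y, hy, rfl⟩
    have hyc := hSc hy
    rw [commutator_def] at hyc ⊢
    have := Subgroup.mem_map_of_mem (QuotientGroup.mk' (Cfsg.piCore π H)) hyc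
    rw [Subgroup.map_commutator] at this
    exact Subgroup.commutator_mono le_top le_top this
  have hSp : IsPGroup p ↥(S.map (QuotientGroup.mk' (Cfsg.piCore π H))) := hS.map _
  obtain ⟨k, hk⟩ := IsPGroup.iff_card.mp hSp
  have hk0 : k = 0 := by
    by_contra hne
    apply h2 p hp.out hpπ
    have h3 : p ∣ Nat.card ↥(S.map (QuotientGroup.mk' (Cfsg.piCore π H))) := by
      rw [hk]; exact dvd_pow_self p hne
    exact h3.trans (Subgroup.card_dvd_of_le hle)
  rw [hk0, pow_zero] at hk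
  have hbot := Subgroup.card_eq_one.mp hk
  have hmem : (QuotientGroup.mk' (Cfsg.piCore π H)) x ∈
      S.map (QuotientGroup.mk' (Cfsg.piCore π H)) := ⟨x, hx, rfl⟩
  rw [hbot, Subgroup.mem_bot] at hmem
  exact hmem

end generic

variable {G : Type u} [Group G] [Finite G]

/-- A subgroup of `M` containing a uniqueness subgroup of `M` is itself "anchored" at `M`. -/
theorem normalizer_le_of_unique_le (hG : Cfsg.IsMinSimpleOddOrder G) {M E Y : Subgroup G}
    (hM : IsCoatom M) (hEU : Cfsg.InUniqueMaximal E) (hEM : E ≤ M) (hEY : E ≤ Y) (hY1 : Y ≠ ⊥)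
    (hYtop : Y ≠ ⊤) : Subgroup.normalizer (Y : Set G) ≤ M := by
  obtain ⟨H, hH, hNH⟩ := exists_coatom_ge (normalizer_ne_top_of_simple hG hY1 hYtop)
  have hHM : H = M := hEU.unique ⟨hH, (hEY.trans Subgroup.le_normalizer).trans hNH⟩ ⟨hM, hEM⟩
  rw [← hHM]; exact hNH

/-- The data attached to a prime in `α(M)`. -/
theorem exists_sylow_of_mem_alpha (hG : Cfsg.IsMinSimpleOddOrder G) {M : Subgroup G}
    (hM : IsCoatom M) {p : ℕ} [hp : Fact p.Prime] (h : p ∈ Cfsg.alpha M) :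
    ∃ P : Subgroup G, P ≠ ⊥ ∧ SigCtx M p P ∧ P ≤ ⁅M, M⁆ ∧
      (∀ H : Subgroup G, IsCoatom H → P ≤ H → H = M) ∧ ¬ Cfsg.PRankLE p 2 ↥P := by
  obtain ⟨E, hEM, hEe, hEcard⟩ := hasEA_of_not_pRankLE h.2
  have hEU := inUniqueMaximal_of_rank3 hG hEe hEcard
  have hEp : IsPGroup p ↥E := isPGroup_of_elementary hEe
  obtain ⟨P, hEP, hPM, hPp, hPcard⟩ := Cfsg.Agent.Lead.exists_le_card_eq_ppart hEp hEM
  have hE1 : E ≠ ⊥ := by
    rintro rfl
    rw [Subgroup.card_bot] at hEcard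
    have := Nat.one_le_pow 2 p hp.out.pos
    omega
  have hP1 : P ≠ ⊥ := fun h => hE1 (le_bot_iff.mp (h ▸ hEP))
  have hPtop : P ≠ ⊤ := ne_top_of_le_ne_top hM.1 hPM
  have huniq : ∀ H : Subgroup G, IsCoatom H → P ≤ H → H = M := fun H hH hPH =>
    hEU.unique ⟨hH, hEP.trans hPH⟩ ⟨hM, hEM⟩
  have hNP : Subgroup.normalizer (P : Set G) ≤ M :=
    normalizer_le_of_unique_le hG hM hEU hEM hEP hP1 hPtop
  have hcardG := card_eq_ppart_top_of_normalizer_le hPp hPM hPcard hNP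
  have hp2 : p ≠ 2 := by
    rintro rfl
    obtain ⟨k, hk⟩ := IsPGroup.iff_card.mp hPp
    have hk0 : k ≠ 0 := by
      rintro rfl
      rw [pow_zero] at hk
      exact hP1 (Subgroup.card_eq_one.mp hk)
    have h2 : 2 ∣ Nat.card P := by rw [hk]; exact dvd_pow_self 2 hk0
    have hodd : Odd (Nat.card P) := Odd.of_dvd_nat hG.1 (Subgroup.card_subgroup_dvd_card P)
    exact (Nat.not_even_iff_odd.mpr hodd) (even_iff_two_dvd.mpr h2)
  -- the transfer step
  have htr := sylow_le_commutator_normalizer_zj hG hp2 (Sylow.ofCard P hcardG)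
  rw [Sylow.coe_ofCard] at htr
  have hZ1 : Cfsg.centerThompsonAOf P ≠ ⊥ := NF.centerThompsonAOf_ne_bot _ hPp hP1
  have hZtop : Cfsg.centerThompsonAOf P ≠ ⊤ :=
    ne_top_of_le_ne_top hPtop (NF.centerThompsonAOf_le _)
  obtain ⟨H, hH, hLH⟩ := exists_coatom_ge (normalizer_ne_top_of_simple hG hZ1 hZtop)
  have hHM : H = M := huniq H hH ((NF.le_normalizer_centerThompsonAOf P).trans hLH)
  have hLM : Subgroup.normalizer ((Cfsg.centerThompsonAOf P : Subgroup G) : Set G) ≤ M :=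
    hHM ▸ hLH
  refine ⟨P, hP1, ⟨hG, hM, hPM, hPp, hPcard, hcardG, hNP⟩,
    htr.trans (Subgroup.commutator_mono hLM hLM), huniq, ?_⟩
  exact not_pRankLE_of_hasEA ⟨E, hEP, hEe, hEcard⟩

omit [Finite G] in
theorem pRankLE_of_not_mem_alpha {M : Subgroup G} {q : ℕ} (hq : q.Prime)
    (h : q ∉ Cfsg.alpha M) : Cfsg.PRankLE q 2 ↥M := by
  by_contra hcon
  exact h ⟨hq, hcon⟩

/-- `α(M) ⊆ σ(M)`. -/
theorem alpha_subset_sigma (hG : Cfsg.IsMinSimpleOddOrder G) {M : Subgroup G}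
    (hM : IsCoatom M) : Cfsg.alpha M ⊆ Cfsg.sigma M := by
  intro p hp
  haveI := Fact.mk hp.1
  obtain ⟨P, hP1, c, -, -, -⟩ := exists_sylow_of_mem_alpha hG hM hp
  have hcard : Nat.card (P.subgroupOf M) = p ^ (Nat.card M).factorization p := by
    rw [Cfsg.Agent.Lead.card_subgroupOf_of_le c.le]; exact c.cardM
  refine ⟨hp.1, ?_, Sylow.ofCard (P.subgroupOf M) hcard, ?_⟩
  · exact (dvd_card_of_isPGroup_ne_bot c.pgroup hP1).trans (Subgroup.card_dvd_of_le c.le)
  · rw [Sylow.coe_ofCard, Subgroup.map_subgroupOf_eq_of_le c.le]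
    exact c.norm

/-- Sylow subgroups for primes in `α(M)` lie in `M_α`. -/
theorem le_alphaCore (hG : Cfsg.IsMinSimpleOddOrder G) {M : Subgroup G} (hM : IsCoatom M)
    {p : ℕ} [hp : Fact p.Prime] (hpα : p ∈ Cfsg.alpha M) {S : Subgroup G} (hSM : S ≤ M)
    (hSp : IsPGroup p ↥S) : S.subgroupOf M ≤ Cfsg.piCore (Cfsg.alpha M) ↥M := by
  haveI : Group.IsSolvable ↥M := hG.2.2.2 M hM.1
  have hodd : Odd (Nat.card M) := Odd.of_dvd_nat hG.1 (Subgroup.card_subgroup_dvd_card M)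
  obtain ⟨P, hP1, c, hPc, -, -⟩ := exists_sylow_of_mem_alpha hG hM hpα
  -- first for `P`
  have hP : P.subgroupOf M ≤ Cfsg.piCore (Cfsg.alpha M) ↥M := by
    apply le_piCore_of_le_commutator hodd (Cfsg.alpha M)
      (fun q hq hqα => pRankLE_of_not_mem_alpha hq hqα) hpα c.pgroup.comap_subtype
    intro x hx
    have h1 : (x : G) ∈ ⁅M, M⁆ := hPc (Subgroup.mem_subgroupOf.mp hx)
    rw [← Subgroup.map_subtype_commutator] at h1
    obtain ⟨y, hy, hyx⟩ := h1
    have : y = x := Subtype.ext hyx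
    rw [← this]; exact hy
  -- then for conjugates
  obtain ⟨m, hm, hmS⟩ := Cfsg.Agent.Lead.exists_conj_le_of_card_eq_ppart c.le c.cardM hSM hSp
  intro x hx
  have hxS : (x : G) ∈ S := Subgroup.mem_subgroupOf.mp hx
  have h1 : m * (x : G) * m⁻¹ ∈ P := hmS ⟨_, hxS, rfl⟩
  have h2 : (⟨m, hm⟩ : ↥M) * x * (⟨m, hm⟩ : ↥M)⁻¹ ∈ P.subgroupOf M := by
    rw [Subgroup.mem_subgroupOf]; exact h1
  have h3 := hP h2
  have h4 := (Cfsg.piCore_normal (Cfsg.alpha M) ↥M).conj_mem _ h3 (⟨m, hm⟩ : ↥M)⁻¹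
  have h5 : (⟨m, hm⟩ : ↥M)⁻¹ * ((⟨m, hm⟩ : ↥M) * x * (⟨m, hm⟩ : ↥M)⁻¹) * (⟨m, hm⟩ : ↥M)⁻¹⁻¹ = x := by
    group
  rw [h5] at h4
  exact h4

omit [Finite G] in
theorem relIndex_map_subtype {M : Subgroup G} (K : Subgroup ↥M) :
    (K.map M.subtype).relIndex M = K.index := by
  unfold Subgroup.relIndex Subgroup.subgroupOf
  rw [Subgroup.comap_map_eq_self_of_injective M.subtype_injective]

/-- Bender–Glauberman Theorem 10.2. -/
theorem thm102 (hG : Cfsg.IsMinSimpleOddOrder G) (M : Subgroup G) (hM : IsCoatom M) :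
    Cfsg.IsPiHallOf (Cfsg.alpha M) (Cfsg.alphaCore M) M ∧
      Cfsg.IsPiHall (Cfsg.alpha M) (Cfsg.alphaCore M) ∧
      Cfsg.alphaCore M ≤ Cfsg.sigmaCore M ∧
      Cfsg.RankLE 2 (↥M ⧸ Cfsg.piCore (Cfsg.alpha M) ↥M) ∧
      Group.IsNilpotent ↥((commutator ↥M).map
        (QuotientGroup.mk' (Cfsg.piCore (Cfsg.alpha M) ↥M))) := by
  haveI : Group.IsSolvable ↥M := hG.2.2.2 M hM.1
  have hodd : Odd (Nat.card M) := Odd.of_dvd_nat hG.1 (Subgroup.card_subgroup_dvd_card M)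
  have hprimes : ∀ q : ℕ, q.Prime → q ∣ Nat.card (Cfsg.alphaCore M) → q ∈ Cfsg.alpha M := by
    intro q hq hd
    unfold Cfsg.alphaCore at hd
    rw [Subgroup.card_map_of_injective M.subtype_injective] at hd
    exact piCore_isPi _ q hq hd
  -- the index of `O_α(M)` in `M` is an `α'`-number
  have hidx : ∀ q : ℕ, q.Prime → q ∈ Cfsg.alpha M →
      ¬ q ∣ (Cfsg.piCore (Cfsg.alpha M) ↥M).index := by
    intro q hq hqα hd
    haveI := Fact.mk hq
    obtain ⟨P, hP1, c, -, -, -⟩ := exists_sylow_of_mem_alpha hG hM hqα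
    have hle := le_alphaCore hG hM hqα c.le c.pgroup
    have h1 : q ∣ (P.subgroupOf M).index := hd.trans (Subgroup.index_dvd_of_le hle)
    have hcard : Nat.card (P.subgroupOf M) = q ^ (Nat.card M).factorization q := by
      rw [Cfsg.Agent.Lead.card_subgroupOf_of_le c.le]; exact c.cardM
    have := (Sylow.ofCard (P.subgroupOf M) hcard).not_dvd_index
    rw [Sylow.coe_ofCard] at this
    exact this h1
  obtain ⟨hcomm, hFα⟩ := quotient_piCore_structure hodd (Cfsg.alpha M)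
    (fun q hq hqα => pRankLE_of_not_mem_alpha (M := M) hq hqα)
  refine ⟨⟨Subgroup.map_subtype_le _, hprimes, ?_⟩, ⟨hprimes, ?_⟩, ?_, ?_, ?_⟩
  · intro q hq hqα
    unfold Cfsg.alphaCore
    rw [relIndex_map_subtype]
    exact hidx q hq hqα
  · intro q hq hqα hd
    haveI := Fact.mk hq
    obtain ⟨P, hP1, c, -, -, -⟩ := exists_sylow_of_mem_alpha hG hM hqα
    have hle : P ≤ Cfsg.alphaCore M := by
      intro x hx
      exact ⟨⟨x, c.le hx⟩, le_alphaCore hG hM hqα c.le c.pgroup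
        (Subgroup.mem_subgroupOf.mpr hx), rfl⟩
    have h1 : q ∣ P.index := hd.trans (Subgroup.index_dvd_of_le hle)
    have := (Sylow.ofCard P c.cardG).not_dvd_index
    rw [Sylow.coe_ofCard] at this
    exact this h1
  · unfold Cfsg.alphaCore Cfsg.sigmaCore
    apply Subgroup.map_mono
    apply sSup_le_sSup
    rintro N ⟨hN, hNπ⟩
    exact ⟨hN, fun q hq hd => alpha_subset_sigma hG hM (hNπ q hq hd)⟩
  · intro q hq
    haveI := Fact.mk hq
    by_cases hqα : q ∈ Cfsg.alpha M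
    · intro E hEc hEe
      have hEp : IsPGroup q ↥E := by
        intro g
        refine ⟨1, ?_⟩
        rw [pow_one]
        apply Subtype.ext
        rw [Subgroup.coe_pow, Subgroup.coe_one]
        exact hEe g g.2
      obtain ⟨k, hk⟩ := IsPGroup.iff_card.mp hEp
      have hk0 : k = 0 := by
        by_contra hne
        apply hidx q hq hqα
        have h1 : q ∣ Nat.card E := by rw [hk]; exact dvd_pow_self q hne
        rw [Subgroup.index_eq_card]
        exact h1.trans (Subgroup.card_subgroup_dvd_card E)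
      rw [hk, hk0, pow_zero]
      exact Nat.one_le_pow 2 q hq.pos
    · apply Cfsg.Agent.Helper1.Rank2Struct.pRankLE_quotient_of_coprime
        (pRankLE_of_not_mem_alpha hq hqα)
      rw [Nat.coprime_comm, Nat.Prime.coprime_iff_not_dvd hq]
      intro hd
      exact hqα (piCore_isPi _ q hq hd)
  · have hle : (commutator ↥M).map (QuotientGroup.mk' (Cfsg.piCore (Cfsg.alpha M) ↥M)) ≤
        Cfsg.fittingSubgroup (↥M ⧸ Cfsg.piCore (Cfsg.alpha M) ↥M) := by
      refine le_trans ?_ hcomm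
      rw [commutator_def, Subgroup.map_commutator, commutator_def]
      exact Subgroup.commutator_mono le_top le_top
    exact isNilpotent_of_le hle fittingSubgroup_isNilpotent

end Cfsg.Agent.Helper1.BGX
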