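import Mathlib
import Cfsg.Prelude.Def_CaseTheorems
import Cfsg.Prelude.Def_Transfer
import Cfsg.Agent.Helper1.Basic
import Cfsg.Agent.Helper1.Nilp
import Cfsg.Agent.Helper1.Class2
import Cfsg.Agent.Helper1.PRankTwo
import Cfsg.Agent.Helper1.MaxNormalAbelianBound
import Cfsg.Agent.Helper1.SCN3

set_option autoImplicit false

/-!
Bender–Glauberman Lemma 5.3-type result: maximal elementary abelian subgroups of order `p ^ 2`
in `p`-groups of rank at least three (`p` odd).
-/

namespace Cfsg.Agent.Helper1.SCN3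

open scoped Pointwise commutatorElement

universe u

variable {R : Type u} [Group R]

/-- The join of two commuting elementary abelian subgroups is elementary abelian. -/
theorem elementary_sup_of_le_centralizer {p : ℕ} {E D : Subgroup R}
    (hE : Cfsg.IsElementaryAbelian p E) (hD : Cfsg.IsElementaryAbelian p D)
    (hDE : D ≤ Subgroup.centralizer (E : Set R)) : Cfsg.IsElementaryAbelian p (E ⊔ D) := by
  obtain ⟨hEc, hEe⟩ := hE
  obtain ⟨hDc, hDe⟩ := hD
  have hDN : D ≤ Subgroup.normalizer (E : Set R) := hDE.trans (Subgroup.centralizer_le_normalizer _)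
  have hmem : ∀ x ∈ E ⊔ D, ∃ e ∈ E, ∃ d ∈ D, x = e * d := by
    intro x hx
    rw [← SetLike.mem_coe, Subgroup.coe_mul_of_right_le_normalizer_left E D hDN, Set.mem_mul] at hx
    obtain ⟨e, he, d, hd, rfl⟩ := hx
    exact ⟨e, he, d, hd, rfl⟩
  have hcomm : ∀ e ∈ E, ∀ d ∈ D, e * d = d * e := by
    intro e he d hd
    exact (Subgroup.mem_centralizer_iff.1 (hDE hd) e he)
  have hEE : ∀ e ∈ E, ∀ e' ∈ E, e * e' = e' * e := by
    intro e he e' he'
    have := hEc.is_comm.comm ⟨e, he⟩ ⟨e', he'⟩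
    exact congrArg (fun z : ↥E => (z : R)) this
  have hDD : ∀ d ∈ D, ∀ d' ∈ D, d * d' = d' * d := by
    intro d hd d' hd'
    have := hDc.is_comm.comm ⟨d, hd⟩ ⟨d', hd'⟩
    exact congrArg (fun z : ↥D => (z : R)) this
  refine ⟨⟨⟨?_⟩⟩, ?_⟩
  · rintro ⟨x, hx⟩ ⟨y, hy⟩
    apply Subtype.ext
    show x * y = y * x
    obtain ⟨e, he, d, hd, rfl⟩ := hmem x hx
    obtain ⟨e', he', d', hd', rfl⟩ := hmem y hy
    calc e * d * (e' * d') = e * (d * e') * d' := by group
      _ = e * (e' * d) * d' := by rw [hcomm e' he' d hd]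
      _ = (e * e') * (d * d') := by group
      _ = (e' * e) * (d' * d) := by rw [hEE e he e' he', hDD d hd d' hd']
      _ = e' * (e * d') * d := by group
      _ = e' * (d' * e) * d := by rw [hcomm e he d' hd']
      _ = e' * d' * (e * d) := by group
  · intro x hx
    obtain ⟨e, he, d, hd, rfl⟩ := hmem x hx
    have hc : Commute e d := hcomm e he d hd
    rw [hc.mul_pow, hEe e he, hDe d hd, one_mul]

theorem elementary_zpowers {p : ℕ} {x : R} (hx : x ^ p = 1) :
    Cfsg.IsElementaryAbelian p (Subgroup.zpowers x) := by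
  refine ⟨inferInstance, ?_⟩
  intro a ha
  obtain ⟨k, rfl⟩ := Subgroup.mem_zpowers_iff.1 ha
  rw [← zpow_natCast, ← zpow_mul, mul_comm, zpow_mul, zpow_natCast, hx, one_zpow]

/-- In a maximal elementary abelian subgroup, every element of order dividing `p` of the
centralizer lies in the subgroup. -/
theorem mem_of_centralizes_of_maximal {p : ℕ} {E : Subgroup R} (hE : Cfsg.IsElementaryAbelian p E)
    (hEmax : ∀ B : Subgroup R, Cfsg.IsElementaryAbelian p B → E ≤ B → B = E)
    {x : R} (hxC : x ∈ Subgroup.centralizer (E : Set R)) (hx : x ^ p = 1) : x ∈ E := by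
  have h1 : Subgroup.zpowers x ≤ Subgroup.centralizer (E : Set R) :=
    (Subgroup.zpowers_le).2 hxC
  have h2 := elementary_sup_of_le_centralizer hE (elementary_zpowers hx) h1
  have h3 := hEmax _ h2 le_sup_left
  rw [← h3]
  exact Subgroup.mem_sup_right (Subgroup.mem_zpowers x)

/-- `Ω₁(Z₂(R))` has exponent `p` and lies in `Z₂(R)` (`p` odd). -/
theorem omega_z2 {p : ℕ} [hp : Fact p.Prime] (hp2 : p ≠ 2) {w : R}
    (hw : w ∈ Subgroup.closure {x : R | x ∈ Subgroup.upperCentralSeries R 2 ∧ x ^ p = 1}) :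
    w ∈ Subgroup.upperCentralSeries R 2 ∧ w ^ p = 1 := by
  induction hw using Subgroup.closure_induction with
  | mem x hx => exact hx
  | one => exact ⟨Subgroup.one_mem _, one_pow p⟩
  | mul x y _ _ hx hy =>
    refine ⟨Subgroup.mul_mem _ hx.1 hy.1, ?_⟩
    have hcen : ∀ z, Commute ⁅y, x⁆ z := by
      intro z
      have h1 := (Subgroup.mem_upperCentralSeries_succ_iff.1 hy.1) x
      rw [Subgroup.upperCentralSeries_one, Subgroup.mem_center_iff] at h1
      have h2 := h1 z
      rw [commutatorElement_def]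
      exact h2.symm
    have hyx : y * x = ⁅y, x⁆ * x * y := by simp [commutatorElement_def]
    rw [mul_pow_of_central hcen hyx p, hx.2, hy.2, one_mul, one_mul]
    have hdvd : p ∣ p.choose 2 := by
      apply hp.out.dvd_choose_self (by norm_num)
      have := hp.out.two_le
      omega
    obtain ⟨k, hk⟩ := hdvd
    have hc : ⁅y, x⁆ ^ p = 1 := by
      rw [← commutator_pow_left_of_central hcen, hy.2, commutatorElement_one_left]
    rw [hk, pow_mul, hc, one_pow]
  | inv x _ hx => exact ⟨Subgroup.inv_mem _ hx.1, by rw [inv_pow, hx.2, inv_one]⟩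

/-- `Ω₁(Z(R))` has exponent `p` and is central. -/
theorem omega_z1 {p : ℕ} {z : R}
    (hz : z ∈ Subgroup.closure {x : R | x ∈ Subgroup.center R ∧ x ^ p = 1}) :
    z ∈ Subgroup.center R ∧ z ^ p = 1 := by
  induction hz using Subgroup.closure_induction with
  | mem x hx => exact hx
  | one => exact ⟨Subgroup.one_mem _, one_pow p⟩
  | mul x y _ _ hx hy =>
    refine ⟨Subgroup.mul_mem _ hx.1 hy.1, ?_⟩
    have hc : Commute x y := (Subgroup.mem_center_iff.1 hx.1 y).symm
    rw [hc.mul_pow, hx.2, hy.2, one_mul]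
  | inv x _ hx => exact ⟨Subgroup.inv_mem _ hx.1, by rw [inv_pow, hx.2, inv_one]⟩

/-- `[Ω₁(Z₂(R)), R] ≤ Ω₁(Z(R))`. -/
theorem commutator_omega_z2 {p : ℕ} [hp : Fact p.Prime] (hp2 : p ≠ 2) {w : R}
    (hw : w ∈ Subgroup.closure {x : R | x ∈ Subgroup.upperCentralSeries R 2 ∧ x ^ p = 1})
    (r : R) : ⁅w, r⁆ ∈ Subgroup.closure {x : R | x ∈ Subgroup.center R ∧ x ^ p = 1} := by
  obtain ⟨hw2, hwp⟩ := omega_z2 hp2 hw
  apply Subgroup.subset_closure
  have h1 := (Subgroup.mem_upperCentralSeries_succ_iff.1 hw2) r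
  rw [Subgroup.upperCentralSeries_one] at h1
  have h1' : ⁅w, r⁆ ∈ Subgroup.center R := by rwa [commutatorElement_def]
  refine ⟨h1', ?_⟩
  have hcen : ∀ z, Commute ⁅w, r⁆ z := fun z => (Subgroup.mem_center_iff.1 h1' z).symm
  rw [← commutator_pow_left_of_central hcen, hwp, commutatorElement_one_left]

theorem maximal_rank_two [Finite R] (p : ℕ) [hp : Fact p.Prime] (hp2 : p ≠ 2) (hR : IsPGroup p R)
    (hr : ¬ Cfsg.PRankLE p 2 R)
    (E : Subgroup R) (hE : Cfsg.IsElementaryAbelian p E) (hE2 : Nat.card E = p ^ 2)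
    (hEmax : ∀ B : Subgroup R, Cfsg.IsElementaryAbelian p B → E ≤ B → B = E) :
    ¬ E ≤ Subgroup.centralizer ((Subgroup.closure {x : R | x ∈ Subgroup.upperCentralSeries R 2 ∧ x ^ p = 1} : Subgroup R) : Set R) ∧
      Nat.card ↥(Subgroup.closure {x : R | x ∈ Subgroup.center R ∧ x ^ p = 1}) = p ∧
      (Cfsg.IsElementaryAbelian p (Subgroup.closure {x : R | x ∈ Subgroup.upperCentralSeries R 2 ∧ x ^ p = 1}) ∧
        Nat.card ↥(Subgroup.closure {x : R | x ∈ Subgroup.upperCentralSeries R 2 ∧ x ^ p = 1}) = p ^ 2) ∧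
      (Subgroup.centralizer ((Subgroup.closure {x : R | x ∈ Subgroup.upperCentralSeries R 2 ∧ x ^ p = 1} : Subgroup R) : Set R)).Characteristic ∧
      (Subgroup.centralizer ((Subgroup.closure {x : R | x ∈ Subgroup.upperCentralSeries R 2 ∧ x ^ p = 1} : Subgroup R) : Set R)).index = p := by
  haveI := hR.isNilpotent
  set W := Subgroup.closure {x : R | x ∈ Subgroup.upperCentralSeries R 2 ∧ x ^ p = 1} with hW
  set Z := Subgroup.closure {x : R | x ∈ Subgroup.center R ∧ x ^ p = 1} with hZ
  have hp1 : 1 < p := hp.out.one_lt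
  -- `W` and `Z` are characteristic
  have hWchar : W.Characteristic := by
    rw [Subgroup.characteristic_iff_le_comap]
    intro φ
    rw [hW, Subgroup.closure_le]
    rintro x ⟨hx2, hxp⟩
    show φ x ∈ Subgroup.closure _
    apply Subgroup.subset_closure
    refine ⟨?_, by rw [← map_pow, hxp, map_one]⟩
    have hch : (Subgroup.upperCentralSeries R 2).Characteristic := inferInstance
    have := (Subgroup.characteristic_iff_le_comap.1 hch) φ hx2
    exact this
  have hWn : W.Normal := inferInstance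
  have hZW : Z ≤ W := by
    rw [hZ, Subgroup.closure_le]
    rintro x ⟨hxc, hxp⟩
    apply Subgroup.subset_closure
    refine ⟨?_, hxp⟩
    have : Subgroup.upperCentralSeries R 1 ≤ Subgroup.upperCentralSeries R 2 :=
      Subgroup.upperCentralSeries_mono R (by norm_num)
    apply this
    rw [Subgroup.upperCentralSeries_one]
    exact hxc
  -- `Z ≤ E`
  have hZE : Z ≤ E := by
    intro z hz
    obtain ⟨hzc, hzp⟩ := omega_z1 hz
    apply mem_of_centralizes_of_maximal hE hEmax _ hzp
    exact Subgroup.center_le_centralizer _ hzc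
  -- `Z ≠ ⊥`
  have hRnt : Nontrivial R := by
    have h1 : 1 < Nat.card E := by rw [hE2]; exact Nat.one_lt_pow (by norm_num) hp1
    have h2 : Nat.card E ≤ Nat.card R := Subgroup.card_le_card_group E
    exact Finite.one_lt_card_iff_nontrivial.1 (lt_of_lt_of_le h1 h2)
  have hZne : Z ≠ ⊥ := by
    haveI := hR.center_nontrivial
    obtain ⟨c, hc⟩ := exists_ne (1 : Subgroup.center R)
    have hc1 : (c : R) ≠ 1 := fun h => hc (Subtype.ext h)
    obtain ⟨k, hk⟩ := hR (c : R)
    -- minimal such `k`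
    classical
    have hex : ∃ k, (c : R) ^ p ^ k = 1 := ⟨k, hk⟩
    set k₀ := Nat.find hex with hk₀
    have hk₀spec : (c : R) ^ p ^ k₀ = 1 := Nat.find_spec hex
    have hk₀pos : k₀ ≠ 0 := by
      intro h0
      rw [h0, pow_zero, pow_one] at hk₀spec
      exact hc1 hk₀spec
    obtain ⟨j, hj⟩ := Nat.exists_eq_succ_of_ne_zero hk₀pos
    have hjlt : j < k₀ := by omega
    have hjne : (c : R) ^ p ^ j ≠ 1 := Nat.find_min hex hjlt
    intro hbot
    apply hjne
    have hmem : (c : R) ^ p ^ j ∈ Z := by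
      apply Subgroup.subset_closure
      refine ⟨Subgroup.pow_mem _ c.2 _, ?_⟩
      rw [← pow_mul, ← pow_succ]
      have : j + 1 = k₀ := hj.symm
      rw [this]
      exact hk₀spec
    rw [hbot, Subgroup.mem_bot] at hmem
    exact hmem
  -- an elementary abelian subgroup of order `> p ^ 2`
  obtain ⟨A₀, hA₀c, hA₀e, hA₀card⟩ : ∃ A₀ : Subgroup R, IsMulCommutative A₀ ∧
      (∀ a ∈ A₀, a ^ p = 1) ∧ p ^ 2 < Nat.card A₀ := by
    by_contra hcon
    push Not at hcon
    exact hr (fun A hAc hAe => hcon A hAc hAe)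
  -- `Z ≠ E`
  have hZneE : Z ≠ E := by
    intro heq
    have hEcen : E ≤ Subgroup.center R := by
      intro e he
      rw [← heq] at he
      exact (omega_z1 he).1
    have hA₀E : ¬ A₀ ≤ E := by
      intro hle
      have := Subgroup.card_le_of_le hle
      omega
    obtain ⟨x, hxA, hxE⟩ := SetLike.not_le_iff_exists.1 hA₀E
    apply hxE
    apply mem_of_centralizes_of_maximal hE hEmax _ (hA₀e x hxA)
    rw [Subgroup.mem_centralizer_iff]
    intro e he
    exact (Subgroup.mem_center_iff.1 (hEcen he) x).symm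
  have hZcard : Nat.card Z = p := by
    have h1 : Nat.card Z ∣ p ^ 2 := hE2 ▸ Subgroup.card_dvd_of_le hZE
    obtain ⟨k, hk2, hk⟩ := (Nat.dvd_prime_pow hp.out).1 h1
    interval_cases k
    · exfalso
      rw [pow_zero] at hk
      exact hZne (Subgroup.card_eq_one.1 hk)
    · rw [hk, pow_one]
    · exfalso
      apply hZneE
      apply Subgroup.eq_of_le_of_card_ge hZE
      rw [hE2, hk]
  -- `E ≰ W`
  have hWZ : ∀ w ∈ W, ∀ r : R, ⁅w, r⁆ ∈ Z := fun w hw r => commutator_omega_z2 hp2 hw r
  have hEW : ¬ E ≤ W := by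
    intro hle
    have hEn : E.Normal := by
      refine ⟨fun e he r => ?_⟩
      have h1 : ⁅e, r⁆ ∈ Z := hWZ e (hle he) r
      have h2 : ⁅r, e⁆ ∈ E := by
        have := Subgroup.inv_mem _ (hZE h1)
        rwa [commutatorElement_inv] at this
      have h3 : r * e * r⁻¹ = ⁅r, e⁆ * e := by
        rw [commutatorElement_def]; group
      rw [h3]
      exact E.mul_mem h2 he
    obtain ⟨A, hEA, hAn, hAcent, hArank⟩ := exists_scn3 p hp2 hR hr E hE hE2
    apply hArank
    intro A₁ hA₁c hA₁e
    -- `A` is abelian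
    have hAab : ∀ a ∈ A, ∀ b ∈ A, a * b = b * a := by
      intro a ha b hb
      have : b ∈ Subgroup.centralizer (A : Set R) := by rw [hAcent]; exact hb
      exact (Subgroup.mem_centralizer_iff.1 this a ha)
    set D := A₁.map A.subtype with hD
    have hDA : D ≤ A := Subgroup.map_subtype_le _
    have hDel : Cfsg.IsElementaryAbelian p D := by
      refine ⟨⟨⟨?_⟩⟩, ?_⟩
      · rintro ⟨x, hx⟩ ⟨y, hy⟩
        apply Subtype.ext
        exact hAab x (hDA hx) y (hDA hy)
      · rintro _ ⟨a, ha, rfl⟩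
        have := hA₁e a ha
        show ((a : R)) ^ p = 1
        have h := congrArg (fun z : ↥A => (z : R)) this
        simpa using h
    have hDcent : D ≤ Subgroup.centralizer (E : Set R) := by
      intro d hd
      rw [Subgroup.mem_centralizer_iff]
      intro e he
      exact hAab e (hEA he) d (hDA hd)
    have h4 := elementary_sup_of_le_centralizer hE hDel hDcent
    have h5 := hEmax _ h4 le_sup_left
    have hDE : D ≤ E := by
      rw [← h5]; exact le_sup_right
    have h6 : Nat.card D = Nat.card A₁ :=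
      (Nat.card_congr (A₁.equivMapOfInjective A.subtype A.subtype_injective).toEquiv).symm
    rw [← h6, ← hE2]
    exact Subgroup.card_le_of_le hDE
  -- `W ⊓ E = Z`
  have hWEZ : W ⊓ E = Z := by
    symm
    apply Subgroup.eq_of_le_of_card_ge (le_inf hZW hZE)
    have h1 : Nat.card (W ⊓ E : Subgroup R) ∣ p ^ 2 := hE2 ▸ Subgroup.card_dvd_of_le inf_le_right
    obtain ⟨k, hk2, hk⟩ := (Nat.dvd_prime_pow hp.out).1 h1
    interval_cases k
    · rw [hk, hZcard, pow_zero]; exact hp1.le
    · rw [hk, hZcard, pow_one]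
    · exfalso
      apply hEW
      have : W ⊓ E = E := by
        apply Subgroup.eq_of_le_of_card_ge inf_le_right
        rw [hE2, hk]
      rw [← this]
      exact inf_le_left
  have hCW : ∀ w ∈ W, w ∈ Subgroup.centralizer (E : Set R) → w ∈ Z := by
    intro w hw hwC
    have h1 := mem_of_centralizes_of_maximal hE hEmax hwC (omega_z2 hp2 hw).2
    rw [← hWEZ]
    exact ⟨hw, h1⟩
  have hZcen : ∀ z ∈ Z, ∀ r : R, z * r = r * z := by
    intro z hz r
    exact (Subgroup.mem_center_iff.1 (omega_z1 hz).1 r).symm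
  -- pick `e ∈ E \ Z`
  obtain ⟨e, heE, heZ⟩ : ∃ e ∈ E, e ∉ Z := by
    by_contra hcon
    push Not at hcon
    exact hZneE (le_antisymm hZE hcon)
  have hker : ∀ w ∈ W, ⁅w, e⁆ = 1 → w ∈ Z := by
    intro w hw hwe
    apply hCW w hw
    rw [commutatorElement_eq_one_iff_mul_comm] at hwe
    set K := E ⊓ Subgroup.centralizer ({w} : Set R) with hK
    have hZK : Z ≤ K := by
      refine le_inf hZE ?_
      intro z hz
      rw [Subgroup.mem_centralizer_iff]
      intro y hy
      rw [Set.mem_singleton_iff] at hy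
      subst hy
      exact (hZcen z hz y).symm
    have heK : e ∈ K := by
      refine ⟨heE, ?_⟩
      show e ∈ Subgroup.centralizer ({w} : Set R)
      rw [Subgroup.mem_centralizer_iff]
      intro y hy
      rw [Set.mem_singleton_iff] at hy
      subst hy
      exact hwe
    have hKE : K = E := by
      apply Subgroup.eq_of_le_of_card_ge inf_le_left
      have h1 : Nat.card K ∣ p ^ 2 := hE2 ▸ Subgroup.card_dvd_of_le inf_le_left
      obtain ⟨k, hk2, hk⟩ := (Nat.dvd_prime_pow hp.out).1 h1
      have hlt : Nat.card Z < Nat.card K := by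
        apply card_lt_card_of_lt
        refine lt_of_le_of_ne hZK ?_
        intro heq
        exact heZ (heq ▸ heK)
      rw [hZcard, hk] at hlt
      have hk1 : 1 < k := by
        by_contra hle
        push Not at hle
        have : p ^ k ≤ p ^ 1 := Nat.pow_le_pow_right hp.out.pos hle
        rw [pow_one] at this
        omega
      have hk2' : k = 2 := by omega
      rw [hE2, hk, hk2']
    intro x hx
    have : x ∈ K := hKE ▸ hx
    have h2 := Subgroup.mem_centralizer_iff.1 this.2 w rfl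
    exact h2.symm
  have hWcard_le : Nat.card W ≤ p ^ 2 := by
    let φ : W →* Z :=
      { toFun := fun w => ⟨⁅(w : R), e⁆, hWZ w w.2 e⟩
        map_one' := by
          apply Subtype.ext
          simp
        map_mul' := by
          intro g h
          apply Subtype.ext
          show ⁅(g : R) * (h : R), e⁆ = ⁅(g : R), e⁆ * ⁅(h : R), e⁆
          have h1 : (g : R) * ⁅(h : R), e⁆ = ⁅(h : R), e⁆ * (g : R) :=
            (hZcen _ (hWZ h h.2 e) g).symm
          have h2 : ⁅(g : R), e⁆ * ⁅(h : R), e⁆ = ⁅(h : R), e⁆ * ⁅(g : R), e⁆ :=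
            (hZcen _ (hWZ h h.2 e) _).symm
          rw [h2]
          have h3 : ⁅(g : R) * (h : R), e⁆ = ((g : R) * ⁅(h : R), e⁆) * e * (g : R)⁻¹ * e⁻¹ := by
            simp only [commutatorElement_def]; group
          rw [h3, h1]
          simp only [commutatorElement_def]; group }
    have hkerle : φ.ker ≤ Z.subgroupOf W := by
      intro w hw
      rw [MonoidHom.mem_ker] at hw
      rw [Subgroup.mem_subgroupOf]
      exact hker w w.2 (congrArg (fun z : ↥Z => (z : R)) hw)
    have h1 : Nat.card φ.ker ≤ p := by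
      have := Subgroup.card_le_of_le hkerle
      rwa [card_subgroupOf_of_le hZW, hZcard] at this
    have h2 : Nat.card φ.range ≤ p := hZcard ▸ Subgroup.card_le_card_group φ.range
    have h3 : φ.ker.index * Nat.card φ.ker = Nat.card W := Subgroup.index_mul_card _
    rw [Subgroup.index_ker] at h3
    rw [← h3, pow_two]
    exact Nat.mul_le_mul h2 h1
  -- a normal subgroup of order `p ^ 2` inside `W`
  obtain ⟨B₀, hB₀n, hB₀c, hB₀e, hB₀card⟩ : ∃ B₀ : Subgroup R, B₀.Normal ∧ IsMulCommutative B₀ ∧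
      (∀ a ∈ B₀, a ^ p = 1) ∧ Nat.card B₀ = p ^ 3 := by
    by_contra hcon
    push Not at hcon
    apply hr
    intro A hAc hAe
    exact prank_le_two hp2 hR (fun B hBn hBc hBe => hcon B hBn hBc hBe) A hAc hAe
  obtain ⟨B₁, hB₁n, hB₁B₀, hB₁card⟩ := exists_normal_le_card hR 1 2 B₀ hB₀n hB₀card
  obtain ⟨B₂, hB₂n, hB₂B₁, hB₂card⟩ := exists_normal_le_card hR 1 1 B₁ hB₁n hB₁card
  have hc1 : ⁅B₁, (⊤ : Subgroup R)⁆ ≤ B₂ := by
    apply commutator_le_of_normal_index_p hR B₁ B₂ hB₂B₁
    rw [hB₁card, hB₂card]; ring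
  have hc2 : ⁅B₂, (⊤ : Subgroup R)⁆ ≤ ⊥ := by
    apply commutator_le_of_normal_index_p hR B₂ ⊥ bot_le
    rw [hB₂card, Subgroup.card_bot]; ring
  have hB₂cen : B₂ ≤ Subgroup.center R := by
    intro c hc
    rw [Subgroup.mem_center_iff]
    intro z
    have h1 : ⁅c, z⁆ ∈ ⁅B₂, (⊤ : Subgroup R)⁆ :=
      Subgroup.commutator_mem_commutator hc (Subgroup.mem_top z)
    have h2 := hc2 h1
    rw [Subgroup.mem_bot, commutatorElement_eq_one_iff_mul_comm] at h2
    exact h2.symm
  have hB₁W : B₁ ≤ W := by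
    intro b hb
    apply Subgroup.subset_closure
    refine ⟨?_, hB₀e b (hB₁B₀ hb)⟩
    rw [Subgroup.mem_upperCentralSeries_succ_iff]
    intro y
    rw [Subgroup.upperCentralSeries_one]
    apply hB₂cen
    apply hc1
    have := Subgroup.commutator_mem_commutator hb (Subgroup.mem_top y)
    rwa [commutatorElement_def] at this
  have hWcard : Nat.card W = p ^ 2 := by
    apply le_antisymm hWcard_le
    rw [← hB₁card]
    exact Subgroup.card_le_of_le hB₁W
  have hWB₁ : B₁ = W := by
    apply Subgroup.eq_of_le_of_card_ge hB₁W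
    rw [hWcard, hB₁card]
  have hWel : Cfsg.IsElementaryAbelian p W := by
    refine ⟨⟨⟨?_⟩⟩, fun w hw => (omega_z2 hp2 hw).2⟩
    rintro ⟨x, hx⟩ ⟨y, hy⟩
    apply Subtype.ext
    have hx' : x ∈ B₀ := hB₁B₀ (hWB₁ ▸ hx)
    have hy' : y ∈ B₀ := hB₁B₀ (hWB₁ ▸ hy)
    have := hB₀c.is_comm.comm ⟨x, hx'⟩ ⟨y, hy'⟩
    exact congrArg (fun z : ↥B₀ => (z : R)) this
  have hET : ¬ E ≤ Subgroup.centralizer (W : Set R) := by
    intro hle
    have hWZ' : W ≤ Z := by
      intro w hw
      apply hCW w hw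
      rw [Subgroup.mem_centralizer_iff]
      intro x hx
      exact (Subgroup.mem_centralizer_iff.1 (hle hx) w hw).symm
    have := Subgroup.card_le_of_le hWZ'
    rw [hWcard, hZcard] at this
    have : p * p ≤ p * 1 := by rw [← pow_two]; omega
    have := Nat.le_of_mul_le_mul_left this hp.out.pos
    omega
  have hTchar : (Subgroup.centralizer (W : Set R)).Characteristic := inferInstance
  have hTidx : (Subgroup.centralizer (W : Set R)).index = p := by
    have h1 := index_centralizer_le hR 2 W hWn hWel.1 hWcard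
    have h1' : (Subgroup.centralizer (W : Set R)).index ≤ p := by simpa using h1
    obtain ⟨n, hn⟩ := IsPGroup.iff_card.1 hR
    have h2 : (Subgroup.centralizer (W : Set R)).index ∣ p ^ n :=
      hn ▸ Subgroup.index_dvd_card _
    obtain ⟨k, hkn, hk⟩ := (Nat.dvd_prime_pow hp.out).1 h2
    have hk0 : k ≠ 0 := by
      intro h0
      rw [h0, pow_zero, Subgroup.index_eq_one] at hk
      apply hET
      rw [hk]
      exact le_top
    have hk1 : k ≤ 1 := by
      by_contra hlt
      push Not at hlt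
      have : p ^ 2 ≤ p ^ k := Nat.pow_le_pow_right hp.out.pos hlt
      rw [← hk] at this
      have : p * p ≤ p * 1 := by rw [← pow_two]; omega
      have := Nat.le_of_mul_le_mul_left this hp.out.pos
      omega
    have : k = 1 := by omega
    rw [hk, this, pow_one]
  exact ⟨hET, hZcard, ⟨hWel, hWcard⟩, hTchar, hTidx⟩

end Cfsg.Agent.Helper1.SCN3
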