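import Mathlib
import Cfsg.Prelude
import Cfsg.Agent.Helper1.BGXb
import Cfsg.Agent.Helper1.SylowInt
import Cfsg.Agent.Helper1.OmegaOdd2
import Cfsg.Agent.Helper1.SCN3b

set_option autoImplicit false

/-!
Bender–Glauberman, Section 10: Lemma 10.3 (`S1406`).
-/

namespace Cfsg.Agent.Helper1.BGX

open Cfsg Cfsg.Agent.Helper1 Cfsg.Agent.Helper2 Cfsg.Agent.Helper1.BGT Cfsg.Agent.Helper1.BGU
  Cfsg.Agent.Helper1.BGV Cfsg.Agent.Helper1.BGW
open scoped commutatorElement Pointwise

universe u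

variable {G : Type u} [Group G] [Finite G]

/-- Primes dividing `|M_α|` lie in `α(M)`. -/
theorem mem_alpha_of_dvd_card_alphaCore {M : Subgroup G} {q : ℕ} (hq : q.Prime)
    (hd : q ∣ Nat.card (Cfsg.alphaCore M)) : q ∈ Cfsg.alpha M := by
  unfold Cfsg.alphaCore at hd
  rw [Subgroup.card_map_of_injective M.subtype_injective] at hd
  exact piCore_isPi _ q hq hd

/-- A Sylow `p`-subgroup of `M_α` (`p ∈ α(M)`) has the full `p`-part of `|M|` as its order. -/
theorem card_sylow_alphaCore (hG : Cfsg.IsMinSimpleOddOrder G) {M : Subgroup G} (hM : IsCoatom M)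
    {p : ℕ} [hp : Fact p.Prime] (hpα : p ∈ Cfsg.alpha M) (P : Sylow p ↥(Cfsg.alphaCore M)) :
    Nat.card ((P : Subgroup ↥(Cfsg.alphaCore M)).map (Cfsg.alphaCore M).subtype) =
      p ^ (Nat.card M).factorization p := by
  rw [Subgroup.card_map_of_injective (Subgroup.subtype_injective _), P.card_eq_multiplicity]
  obtain ⟨⟨hKM, -, hidx⟩, -⟩ := thm102 hG M hM
  have h1 : Nat.card (Cfsg.alphaCore M) * (Cfsg.alphaCore M).relIndex M = Nat.card M := by
    rw [← Cfsg.Agent.Lead.card_subgroupOf_of_le hKM]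
    exact Subgroup.card_mul_index _
  have h2 : ((Cfsg.alphaCore M).relIndex M).factorization p = 0 :=
    Nat.factorization_eq_zero_of_not_dvd (hidx p hp.out hpα)
  have hK0 : Nat.card (Cfsg.alphaCore M) ≠ 0 := Nat.card_pos.ne'
  have hI0 : (Cfsg.alphaCore M).relIndex M ≠ 0 := by
    intro h0
    rw [h0, mul_zero] at h1
    exact Nat.card_pos.ne' h1.symm
  rw [← h1, Nat.factorization_mul hK0 hI0, Finsupp.add_apply, h2, add_zero]

/-- Bender–Glauberman Lemma 10.3. -/
theorem lemma103 (hG : Cfsg.IsMinSimpleOddOrder G)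
    (M : Subgroup G) (hM : IsCoatom M) (X : Subgroup G) (hXM : X ≤ M)
    (hXα : ∀ p : ℕ, p.Prime → p ∣ Nat.card X → p ∉ Cfsg.alpha M)
    (hr : ¬ Cfsg.RankLE 1 ↥(Cfsg.alphaCore M ⊓ Subgroup.centralizer (X : Set G))) :
    Cfsg.InUniqueMaximal (M ⊓ Subgroup.centralizer (X : Set G)) := by
  haveI : Group.IsSolvable ↥M := hG.2.2.2 M hM.1
  -- it suffices to find a uniqueness subgroup inside `C_M(X)`
  suffices h : ∃ E : Subgroup G, Cfsg.InUniqueMaximal E ∧ E ≤ M ⊓ Subgroup.centralizer (X : Set G) by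
    obtain ⟨E, hEU, hE⟩ := h
    exact ⟨M, ⟨hM, inf_le_left⟩, fun H hH =>
      hEU.unique ⟨hH.1, hE.trans hH.2⟩ ⟨hM, hE.trans inf_le_left⟩⟩
  unfold Cfsg.RankLE at hr
  push Not at hr
  obtain ⟨p, hp, hrp⟩ := hr
  haveI := Fact.mk hp
  obtain ⟨B, hBle, hBe, hBcard⟩ := hasEA_of_not_pRankLE hrp
  rw [pow_one] at hBcard
  have hBK : B ≤ Cfsg.alphaCore M := hBle.trans inf_le_left
  have hBX : B ≤ Subgroup.centralizer (X : Set G) := hBle.trans inf_le_right
  have hBp : IsPGroup p ↥B := isPGroup_of_elementary hBe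
  have hKM : Cfsg.alphaCore M ≤ M := Subgroup.map_subtype_le _
  have hB1 : B ≠ ⊥ := by
    rintro rfl
    rw [Subgroup.card_bot] at hBcard
    exact absurd hBcard (by have := hp.one_lt; omega)
  have hpα : p ∈ Cfsg.alpha M := by
    apply mem_alpha_of_dvd_card_alphaCore hp
    exact (dvd_card_of_isPGroup_ne_bot hBp hB1).trans (Subgroup.card_dvd_of_le hBK)
  -- coprime action of `X` on `M_α`
  have hXN : X ≤ Subgroup.normalizer ((Cfsg.alphaCore M : Subgroup G) : Set G) :=
    hXM.trans (le_normalizer_piCoreOf (Cfsg.alpha M) M)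
  have hcop : (Nat.card X).Coprime (Nat.card (Cfsg.alphaCore M)) := by
    apply Nat.coprime_of_dvd
    intro q hq hqX hqK
    exact hXα q hq hqX (mem_alpha_of_dvd_card_alphaCore hq hqK)
  have hKsol : Group.IsSolvable ↥(Cfsg.alphaCore M) := isSolvable_of_le hKM inferInstance
  have hXB : X ≤ Subgroup.normalizer (B : Set G) :=
    (le_centralizer_symm hBX).trans (Subgroup.centralizer_le_normalizer _)
  obtain ⟨P, hBP, hXP⟩ := exists_invariant_sylow_ge (p := p) X (Cfsg.alphaCore M) hXN hcop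
    (Or.inr hKsol) B hBK hBp hXB
  obtain ⟨P', hP'⟩ : ∃ P' : Subgroup G,
    P' = (P : Subgroup ↥(Cfsg.alphaCore M)).map (Cfsg.alphaCore M).subtype := ⟨_, rfl⟩
  rw [← hP'] at hBP hXP
  have hP'K : P' ≤ Cfsg.alphaCore M := by rw [hP']; exact Subgroup.map_subtype_le _
  have hP'M : P' ≤ M := hP'K.trans hKM
  have hP'p : IsPGroup p ↥P' := by rw [hP']; exact P.2.map _
  have hP'card : Nat.card P' = p ^ (Nat.card M).factorization p := by
    rw [hP']; exact card_sylow_alphaCore hG hM hpα P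
  -- a rank 3 elementary abelian subgroup of `P'`
  obtain ⟨E, hEM, hEe, hEcard⟩ := hasEA_of_not_pRankLE hpα.2
  obtain ⟨m, hm, hmE⟩ := Cfsg.Agent.Lead.exists_conj_le_of_card_eq_ppart hP'M hP'card hEM
    (isPGroup_of_elementary hEe)
  have hE'e : Cfsg.IsElementaryAbelian p (E.map (MulAut.conj m).toMonoidHom) :=
    isElementaryAbelian_map hEe _
  have hE'card : p ^ 2 < Nat.card (E.map (MulAut.conj m).toMonoidHom) := by
    rw [Cfsg.Agent.Lead.card_map_conj]; exact hEcard
  have hE'U := inUniqueMaximal_of_rank3 hG hE'e hE'card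
  have hp2 : p ≠ 2 := by
    rintro rfl
    have h2 : 2 ∣ Nat.card B := dvd_card_of_isPGroup_ne_bot hBp hB1
    have hodd : Odd (Nat.card B) := Odd.of_dvd_nat hG.1 (Subgroup.card_subgroup_dvd_card B)
    exact (Nat.not_even_iff_odd.mpr hodd) (even_iff_two_dvd.mpr h2)
  by_cases hmax : ∀ B₁ : Subgroup G, Cfsg.IsElementaryAbelian p B₁ → B ≤ B₁ → B₁ ≤ P' → B₁ = B
  · -- `B` is a maximal elementary abelian subgroup of `P'`: then `X` centralizes `P'`
    have hfix : ∀ x ∈ (P' ⊓ Subgroup.centralizer (B : Set G)), orderOf x = p →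
        X ≤ Subgroup.centralizer ({x} : Set G) := by
      intro x hx hox
      have hxp : x ^ p = 1 := by rw [← hox]; exact pow_orderOf_eq_one x
      have hze : Cfsg.IsElementaryAbelian p (Subgroup.zpowers x) := SCN3.elementary_zpowers hxp
      have hzc : Subgroup.zpowers x ≤ Subgroup.centralizer (B : Set G) := by
        rw [Subgroup.zpowers_le]; exact hx.2
      have hsup := SCN3.elementary_sup_of_le_centralizer hBe hze hzc
      have hsupP : B ⊔ Subgroup.zpowers x ≤ P' :=
        sup_le hBP (by rw [Subgroup.zpowers_le]; exact hx.1)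
      have heq := hmax _ hsup le_sup_left hsupP
      have hxB : x ∈ B := by
        rw [← heq]; exact (le_sup_right : Subgroup.zpowers x ≤ _) (Subgroup.mem_zpowers x)
      intro y hy
      rw [Subgroup.mem_centralizer_iff]
      intro z hz
      rw [Set.mem_singleton_iff] at hz
      subst hz
      exact (Subgroup.mem_centralizer_iff.mp (hBX hxB) y hy).symm
    have hcopp : (Nat.card X).Coprime p := by
      apply Nat.Coprime.coprime_dvd_right _ hcop
      exact (dvd_card_of_isPGroup_ne_bot hBp hB1).trans (Subgroup.card_dvd_of_le hBK)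
    have hXC : X ≤ Subgroup.centralizer (P' : Set G) :=
      centralizes_of_centralizes_order_p_in_centralizer p hp2 P' B X hP'p hBP hBe hXP hcopp hfix
    exact ⟨_, hE'U, le_inf (hmE.trans hP'M) (hmE.trans (le_centralizer_symm hXC))⟩
  · push Not at hmax
    obtain ⟨B₁, hB₁e, hBB₁, hB₁P, hne⟩ := hmax
    have hlt : B < B₁ := lt_of_le_of_ne hBB₁ (Ne.symm hne)
    have hB₁card : p ^ 2 < Nat.card B₁ := by
      have h1 : Nat.card B < Nat.card B₁ := card_lt_card_of_lt hlt
      obtain ⟨k, hk⟩ := IsPGroup.iff_card.mp hBp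
      have hk2 : 2 ≤ k := by
        by_contra hcon
        have : k ≤ 1 := by omega
        have := Nat.pow_le_pow_right hp.pos this
        rw [pow_one] at this
        omega
      have := Nat.pow_le_pow_right hp.pos hk2
      omega
    have hB₁U := inUniqueMaximal_of_rank3 hG hB₁e hB₁card
    have hBC : B ≤ Subgroup.centralizer (B₁ : Set G) :=
      hBB₁.trans (Subgroup.le_centralizer_iff_isMulCommutative.2 hB₁e.1)
    have hBU : Cfsg.InUniqueMaximal B :=
      cent_uniq' hG hp hB₁U hBC ⟨B, le_rfl, hBe, by rw [pow_one]; exact hBcard⟩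
    exact ⟨B, hBU, le_inf (hBK.trans hKM) hBX⟩

end Cfsg.Agent.Helper1.BGX
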