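import Mathlib
import Cfsg.Prelude
import Cfsg.Agent.Helper1.BGXc

set_option autoImplicit false

/-!
Bender–Glauberman, Section 10: Lemma 10.4 (`S1407`).
-/

namespace Cfsg.Agent.Helper1.BGX

open Cfsg Cfsg.Agent.Helper1 Cfsg.Agent.Helper2 Cfsg.Agent.Helper1.BGT Cfsg.Agent.Helper1.BGU
  Cfsg.Agent.Helper1.BGV Cfsg.Agent.Helper1.BGW
open scoped commutatorElement Pointwise

universe u

section generic

variable {G : Type u} [Group G]

/-- The image in `G` of the centre of a subgroup `H`. -/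
theorem mem_map_center_iff {H : Subgroup G} {z : G} :
    z ∈ (Subgroup.center ↥H).map H.subtype ↔ z ∈ H ∧ ∀ y ∈ H, y * z = z * y := by
  constructor
  · rintro ⟨w, hw, rfl⟩
    refine ⟨w.2, fun y hy => ?_⟩
    have := Subgroup.mem_center_iff.mp hw ⟨y, hy⟩
    exact congrArg Subtype.val this
  · rintro ⟨hz, hc⟩
    refine ⟨⟨z, hz⟩, ?_, rfl⟩
    show (⟨z, hz⟩ : ↥H) ∈ Subgroup.center ↥H
    rw [Subgroup.mem_center_iff]
    intro y
    exact Subtype.ext (hc y y.2)

/-- The image in `G` of the centre of a subgroup `P` of a subgroup `M`. -/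
theorem mem_map_map_center_iff {M : Subgroup G} {P : Subgroup ↥M} {z : G} :
    z ∈ ((Subgroup.center ↥P).map P.subtype).map M.subtype ↔
      z ∈ P.map M.subtype ∧ ∀ y ∈ P.map M.subtype, y * z = z * y := by
  constructor
  · rintro ⟨w, hw, rfl⟩
    obtain ⟨hwP, hc⟩ := mem_map_center_iff.mp hw
    refine ⟨⟨w, hwP, rfl⟩, ?_⟩
    rintro _ ⟨y, hy, rfl⟩
    exact congrArg Subtype.val (hc y hy)
  · rintro ⟨⟨w, hwP, rfl⟩, hc⟩
    refine ⟨w, mem_map_center_iff.mpr ⟨hwP, fun y hy => ?_⟩, rfl⟩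
    exact Subtype.ext (hc y ⟨y, hy, rfl⟩)

theorem centralizer_zpowers_eq (x : G) :
    Subgroup.centralizer ((Subgroup.zpowers x : Subgroup G) : Set G) =
      Subgroup.centralizer ({x} : Set G) := by
  ext y
  constructor
  · intro hy
    rw [Subgroup.mem_centralizer_iff] at hy ⊢
    intro z hz
    rw [Set.mem_singleton_iff] at hz
    subst hz
    exact hy z (Subgroup.mem_zpowers z)
  · intro hy
    rw [Subgroup.mem_centralizer_iff] at hy ⊢
    intro z hz
    obtain ⟨k, rfl⟩ := Subgroup.mem_zpowers_iff.mp hz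
    have h1 : Commute x y := hy x rfl
    exact (h1.zpow_left k).eq

end generic

variable {G : Type u} [Group G] [Finite G]

/-- If `x ∈ M` has prime order `p ∉ α(M)` and `C_{M_α}(x)` is not a Z-group, then `M` is the
unique maximal subgroup containing `C_G(x)`. -/
theorem centralizer_le_and_unique_of_not_isZGroup (hG : Cfsg.IsMinSimpleOddOrder G)
    (M : Subgroup G) (hM : IsCoatom M) {p : ℕ} [hp : Fact p.Prime] (hpα : p ∉ Cfsg.alpha M)
    {x : G} (hxM : x ∈ M) (hox : orderOf x = p)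
    (hnz : ¬ IsZGroup ↥(Cfsg.alphaCore M ⊓ Subgroup.centralizer ({x} : Set G))) :
    Subgroup.centralizer ({x} : Set G) ≤ M ∧
      ∀ L : Subgroup G, IsCoatom L → Subgroup.centralizer ({x} : Set G) ≤ L → L = M := by
  have hodd : ∀ X : Subgroup G, Odd (Nat.card X) := fun X =>
    Odd.of_dvd_nat hG.1 (Subgroup.card_subgroup_dvd_card X)
  have hx1 : x ≠ 1 := by
    rintro rfl
    rw [orderOf_one] at hox
    exact hp.out.one_lt.ne hox
  obtain ⟨H, hH⟩ : ∃ H : Subgroup G,
    H = Cfsg.alphaCore M ⊓ Subgroup.centralizer ({x} : Set G) := ⟨_, rfl⟩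
  rw [← hH] at hnz
  have hr : ¬ Cfsg.RankLE 1 ↥H := by
    rw [isZGroup_iff] at hnz
    push Not at hnz
    obtain ⟨q, hq, S, hS⟩ := hnz
    haveI := Fact.mk hq
    have hq2 : q ≠ 2 := by
      rintro rfl
      apply hS
      have h1 : Nat.card ↥(S : Subgroup ↥H) = 1 := by
        obtain ⟨k, hk⟩ := IsPGroup.iff_card.mp S.2
        have hodd' : Odd (Nat.card ↥(S : Subgroup ↥H)) :=
          Odd.of_dvd_nat (hodd H) (Subgroup.card_subgroup_dvd_card _)
        rcases Nat.eq_zero_or_pos k with rfl | hk0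
        · rw [hk, pow_zero]
        · exfalso
          rw [hk] at hodd'
          have : Even (2 ^ k) := (Nat.even_pow.mpr ⟨even_two, hk0.ne'⟩)
          exact (Nat.not_even_iff_odd.mpr hodd') this
      haveI : Subsingleton ↥(S : Subgroup ↥H) := (Nat.card_eq_one_iff_unique.mp h1).1
      exact isCyclic_of_subsingleton
    have hSp : IsPGroup q ↥((S : Subgroup ↥H).map H.subtype) := S.2.map _
    have hnc : ¬ IsCyclic ↥((S : Subgroup ↥H).map H.subtype) := by
      intro hc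
      apply hS
      have e : ↥(S : Subgroup ↥H) ≃* ↥((S : Subgroup ↥H).map H.subtype) :=
        (S : Subgroup ↥H).equivMapOfInjective H.subtype H.subtype_injective
      exact isCyclic_of_surjective e.symm.toMonoidHom e.symm.surjective
    have hea := (hasEA_one_of_not_isCyclic hq2 hSp hnc).mono (Subgroup.map_subtype_le _)
    exact not_rankLE_of_hasEA hq hea
  have hXM : Subgroup.zpowers x ≤ M := by rw [Subgroup.zpowers_le]; exact hxM
  have hXα : ∀ q : ℕ, q.Prime → q ∣ Nat.card (Subgroup.zpowers x) → q ∉ Cfsg.alpha M := by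
    intro q hq hd
    rw [Nat.card_zpowers, hox] at hd
    rw [(Nat.prime_dvd_prime_iff_eq hq hp.out).mp hd]
    exact hpα
  rw [hH, ← centralizer_zpowers_eq] at hr
  have hU := lemma103 hG M hM (Subgroup.zpowers x) hXM hXα hr
  rw [centralizer_zpowers_eq] at hU
  obtain ⟨D, hD, hCD⟩ := exists_coatom_ge (centralizer_singleton_ne_top hG hx1)
  have hDM : D = M := hU.unique ⟨hD, inf_le_right.trans hCD⟩ ⟨hM, inf_le_left⟩
  refine ⟨hDM ▸ hCD, fun L hL hCL => ?_⟩
  exact hU.unique ⟨hL, inf_le_right.trans hCL⟩ ⟨hM, inf_le_left⟩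

/-- Bender–Glauberman Lemma 10.4. -/
theorem lemma104 (hG : Cfsg.IsMinSimpleOddOrder G)
    (M : Subgroup G) (hM : IsCoatom M) (p : ℕ) [hp : Fact p.Prime]
    (hpM : p ∣ Nat.card M) (hpσ : p ∉ Cfsg.sigma M) (P : Sylow p M) :
    ∃ x : G, x ∈ ((Subgroup.center ↥(P : Subgroup M)).map (P : Subgroup M).subtype).map M.subtype ∧
      orderOf x = p ∧
      IsZGroup ↥(Cfsg.alphaCore M ⊓ Subgroup.centralizer ({x} : Set G)) ∧
      ¬ (Subgroup.centralizer ({x} : Set G) ≤ M ∧
        ∀ L : Subgroup G, IsCoatom L → Subgroup.centralizer ({x} : Set G) ≤ L → L = M) := by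
  have hpα : p ∉ Cfsg.alpha M := fun h => hpσ (alpha_subset_sigma hG hM h)
  -- an element of order `p` in `Z(P)`
  haveI : Nontrivial ↥(P : Subgroup M) := by
    rw [Subgroup.nontrivial_iff_ne_bot]
    exact P.ne_bot_of_dvd_card hpM
  haveI : Nontrivial ↥(Subgroup.center ↥(P : Subgroup M)) := P.2.center_nontrivial
  have hZp : IsPGroup p ↥(Subgroup.center ↥(P : Subgroup M)) := P.2.to_subgroup _
  have hZ1 : Subgroup.center ↥(P : Subgroup M) ≠ ⊥ := by
    rw [← Subgroup.nontrivial_iff_ne_bot]; infer_instance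
  obtain ⟨z, hz⟩ := exists_prime_orderOf_dvd_card' p (dvd_card_of_isPGroup_ne_bot hZp hZ1)
  obtain ⟨x₀, hx₀⟩ : ∃ x₀ : G, x₀ = (((z : ↥(P : Subgroup M)) : ↥M) : G) := ⟨_, rfl⟩
  have hox₀ : orderOf x₀ = p := by
    rw [hx₀, Subgroup.orderOf_coe, Subgroup.orderOf_coe, Subgroup.orderOf_coe]; exact hz
  have hx₀Z : x₀ ∈ ((Subgroup.center ↥(P : Subgroup M)).map (P : Subgroup M).subtype).map
      M.subtype := ⟨(z : ↥(P : Subgroup M)), ⟨z, z.2, rfl⟩, hx₀.symm⟩
  obtain ⟨Q, hQ⟩ : ∃ Q : Subgroup G, Q = (P : Subgroup M).map M.subtype := ⟨_, rfl⟩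
  have hQM : Q ≤ M := by rw [hQ]; exact Subgroup.map_subtype_le _
  have hnN : ¬ Subgroup.normalizer (Q : Set G) ≤ M := by
    intro h
    rw [hQ] at h
    exact hpσ ⟨hp.out, hpM, P, h⟩
  obtain ⟨g, hgN, hgM⟩ := SetLike.not_le_iff_exists.mp hnN
  obtain ⟨x₁, hx₁⟩ : ∃ x₁ : G, x₁ = g * x₀ * g⁻¹ := ⟨_, rfl⟩
  have hox₁ : orderOf x₁ = p := by
    rw [hx₁, ← hox₀]
    exact orderOf_injective (MulAut.conj g).toMonoidHom (MulAut.conj g).injective x₀
  have hx₀' := mem_map_map_center_iff.mp hx₀Z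
  rw [← hQ] at hx₀'
  have hx₁Z : x₁ ∈ ((Subgroup.center ↥(P : Subgroup M)).map (P : Subgroup M).subtype).map
      M.subtype := by
    rw [mem_map_map_center_iff, ← hQ]
    refine ⟨?_, fun y hy => ?_⟩
    · rw [hx₁]; exact (Subgroup.mem_normalizer_iff.mp hgN x₀).mp hx₀'.1
    · have hy' : g⁻¹ * y * g ∈ Q := by
        have := (Subgroup.mem_normalizer_iff.mp (inv_mem hgN) y).mp hy
        rwa [inv_inv] at this
      have hc := hx₀'.2 _ hy'
      rw [hx₁]
      calc y * (g * x₀ * g⁻¹) = g * ((g⁻¹ * y * g) * x₀) * g⁻¹ := by group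
        _ = g * (x₀ * (g⁻¹ * y * g)) * g⁻¹ := by rw [hc]
        _ = g * x₀ * g⁻¹ * y := by group
  -- each candidate is either good or has `C_G(x) ≤ M` with `M` unique
  have key : ∀ x : G,
      x ∈ ((Subgroup.center ↥(P : Subgroup M)).map (P : Subgroup M).subtype).map M.subtype →
      orderOf x = p →
      (IsZGroup ↥(Cfsg.alphaCore M ⊓ Subgroup.centralizer ({x} : Set G)) ∧
        ¬ (Subgroup.centralizer ({x} : Set G) ≤ M ∧
          ∀ L : Subgroup G, IsCoatom L → Subgroup.centralizer ({x} : Set G) ≤ L → L = M)) ∨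
      (Subgroup.centralizer ({x} : Set G) ≤ M ∧
          ∀ L : Subgroup G, IsCoatom L → Subgroup.centralizer ({x} : Set G) ≤ L → L = M) := by
    intro x hxZ hox
    have hxM : x ∈ M := by
      have := (mem_map_map_center_iff.mp hxZ).1
      rw [← hQ] at this
      exact hQM this
    by_cases hz : IsZGroup ↥(Cfsg.alphaCore M ⊓ Subgroup.centralizer ({x} : Set G))
    · by_cases h2 : (Subgroup.centralizer ({x} : Set G) ≤ M ∧
          ∀ L : Subgroup G, IsCoatom L → Subgroup.centralizer ({x} : Set G) ≤ L → L = M)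
      · exact Or.inr h2
      · exact Or.inl ⟨hz, h2⟩
    · exact Or.inr (centralizer_le_and_unique_of_not_isZGroup hG M hM hpα hxM hox hz)
  rcases key x₀ hx₀Z hox₀ with h0 | h0
  · exact ⟨x₀, hx₀Z, hox₀, h0.1, h0.2⟩
  rcases key x₁ hx₁Z hox₁ with h1 | h1
  · exact ⟨x₁, hx₁Z, hox₁, h1.1, h1.2⟩
  exfalso
  have hM' : IsCoatom (MulAut.conj g • M) := Cfsg.Agent.Helper1.BGU.isCoatom_conj_smul g hM
  have hCM' : Subgroup.centralizer ({x₁} : Set G) ≤ MulAut.conj g • M := by
    intro y hy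
    rw [Subgroup.mem_pointwise_smul_iff_inv_smul_mem, MulAut.smul_def, MulAut.conj_inv_apply]
    apply h0.1
    rw [Subgroup.mem_centralizer_iff] at hy ⊢
    intro w hw
    rw [Set.mem_singleton_iff] at hw
    subst hw
    have hc := hy x₁ rfl
    rw [hx₁] at hc
    calc w * (g⁻¹ * y * g) = g⁻¹ * ((g * w * g⁻¹) * y) * g := by group
      _ = g⁻¹ * (y * (g * w * g⁻¹)) * g := by rw [hc]
      _ = g⁻¹ * y * g * w := by group
  have hM'M : MulAut.conj g • M = M := h1.2 _ hM' hCM'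
  have hM1 : M ≠ ⊥ := by
    rintro rfl
    rw [Subgroup.card_bot] at hpM
    exact hp.out.one_lt.ne' (Nat.dvd_one.mp hpM)
  have hNM : Subgroup.normalizer (M : Set G) = M :=
    normalizer_eq_of_coatom hG hM Subgroup.le_normalizer hM1 hM.1
  apply hgM
  rw [← hNM]
  apply Subgroup.mem_normalizer_fintype
  intro n hn
  have h3 : g * n * g⁻¹ ∈ MulAut.conj g • M := ⟨n, hn, rfl⟩
  rw [hM'M] at h3
  exact h3

end Cfsg.Agent.Helper1.BGX
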