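import Mathlib
import Cfsg.Prelude
import Cfsg.Agent.Helper1.BGXd

set_option autoImplicit false

/-!
Bender–Glauberman, Section 10: Lemma 10.5 (`S1408`).
-/

namespace Cfsg.Agent.Helper1.BGX

open Cfsg Cfsg.Agent.Helper1 Cfsg.Agent.Helper2 Cfsg.Agent.Helper1.BGT Cfsg.Agent.Helper1.BGU
  Cfsg.Agent.Helper1.BGV Cfsg.Agent.Helper1.BGW
open scoped commutatorElement Pointwise

universe u

variable {G : Type u} [Group G] [Finite G]

/-- Second half of Bender–Glauberman Lemma 10.5. -/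
theorem lemma105_max (hG : Cfsg.IsMinSimpleOddOrder G)
    (M : Subgroup G) (hM : IsCoatom M) (p : ℕ) [hp : Fact p.Prime] (hpσ : p ∉ Cfsg.sigma M)
    (hr2 : Cfsg.PRankLE p 2 M) (A : Subgroup G) (hAM : A ≤ M)
    (hAe : Cfsg.IsElementaryAbelian p A) (hAcard : Nat.card A = p ^ 2)
    (B : Subgroup G) (hBe : Cfsg.IsElementaryAbelian p B) (hAB : A ≤ B) : B = A := by
  by_contra hne
  have hlt : A < B := lt_of_le_of_ne hAB (Ne.symm hne)
  have hBcard : p ^ 2 < Nat.card B := by rw [← hAcard]; exact card_lt_card_of_lt hlt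
  have hBU := inUniqueMaximal_of_rank3 hG hBe hBcard
  have hAC : A ≤ Subgroup.centralizer (B : Set G) :=
    hAB.trans (Subgroup.le_centralizer_iff_isMulCommutative.2 hBe.1)
  have hA1 : HasEA p 1 A := ⟨A, le_rfl, hAe, by
    rw [hAcard]; exact Nat.pow_lt_pow_right hp.out.one_lt (by norm_num)⟩
  have hAU : Cfsg.InUniqueMaximal A := cent_uniq' hG hp.out hBU hAC hA1
  have hAp : IsPGroup p ↥A := isPGroup_of_elementary hAe
  have hA1' : A ≠ ⊥ := by
    rintro rfl
    rw [Subgroup.card_bot] at hAcard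
    have := Nat.one_lt_pow (n := 2) (by norm_num) hp.out.one_lt
    omega
  have hpM : p ∣ Nat.card M :=
    (dvd_card_of_isPGroup_ne_bot hAp hA1').trans (Subgroup.card_dvd_of_le hAM)
  -- a Sylow `p`-subgroup of `M` containing `A`
  have hAp' : IsPGroup p ↥(A.subgroupOf M) := hAp.comap_subtype
  obtain ⟨P, hP⟩ := hAp'.exists_le_sylow
  have hAP : A ≤ (P : Subgroup M).map M.subtype := by
    intro a ha
    exact ⟨⟨a, hAM ha⟩, hP (Subgroup.mem_subgroupOf.mpr ha), rfl⟩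
  obtain ⟨x, hxZ, hox, -, hnot⟩ := lemma104 hG M hM p hpM hpσ P
  obtain ⟨hxP, hxc⟩ := mem_map_map_center_iff.mp hxZ
  have hxM : x ∈ M := Subgroup.map_subtype_le _ hxP
  have hx1 : x ≠ 1 := by
    rintro rfl
    rw [orderOf_one] at hox
    exact hp.out.one_lt.ne hox
  -- `x ∈ A`
  have hxp : x ^ p = 1 := by rw [← hox]; exact pow_orderOf_eq_one x
  have hze : Cfsg.IsElementaryAbelian p (Subgroup.zpowers x) := SCN3.elementary_zpowers hxp
  have hzc : Subgroup.zpowers x ≤ Subgroup.centralizer (A : Set G) := by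
    rw [Subgroup.zpowers_le, Subgroup.mem_centralizer_iff]
    intro a ha
    exact hxc a (hAP ha)
  have hsup := SCN3.elementary_sup_of_le_centralizer hAe hze hzc
  have hsupM : A ⊔ Subgroup.zpowers x ≤ M := sup_le hAM (by rw [Subgroup.zpowers_le]; exact hxM)
  have hsupcard : Nat.card ↥(A ⊔ Subgroup.zpowers x) ≤ p ^ 2 := by
    by_contra hcon
    push Not at hcon
    exact not_pRankLE_of_hasEA ⟨_, hsupM, hsup, hcon⟩ hr2
  have hsupeq : A = A ⊔ Subgroup.zpowers x :=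
    Subgroup.eq_of_le_of_card_ge le_sup_left (by rw [hAcard]; exact hsupcard)
  have hxA : x ∈ A := by
    rw [hsupeq]; exact (le_sup_right : Subgroup.zpowers x ≤ _) (Subgroup.mem_zpowers x)
  have hAC' : A ≤ Subgroup.centralizer ({x} : Set G) := by
    intro a ha
    rw [Subgroup.mem_centralizer_iff]
    intro z hz
    rw [Set.mem_singleton_iff] at hz
    subst hz
    haveI := hAe.1
    exact congrArg Subtype.val (mul_comm' (⟨z, hxA⟩ : ↥A) ⟨a, ha⟩)
  apply hnot
  obtain ⟨D, hD, hCD⟩ := exists_coatom_ge (centralizer_singleton_ne_top hG hx1)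
  have hDM : D = M := hAU.unique ⟨hD, hAC'.trans hCD⟩ ⟨hM, hAM⟩
  exact ⟨hDM ▸ hCD, fun L hL hCL => hAU.unique ⟨hL, hAC'.trans hCL⟩ ⟨hM, hAM⟩⟩

/-- Bender–Glauberman Lemma 10.5. -/
theorem lemma105 (hG : Cfsg.IsMinSimpleOddOrder G)
    (M : Subgroup G) (hM : IsCoatom M) (p : ℕ) [hp : Fact p.Prime] (hpσ : p ∉ Cfsg.sigma M)
    (hr2 : Cfsg.PRankLE p 2 M) (hr1 : ¬ Cfsg.PRankLE p 1 M) :
    ¬ Cfsg.IsIdealPrime p G ∧ ∀ A : Subgroup G, A ≤ M → Cfsg.IsElementaryAbelian p A →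
      Nat.card A = p ^ 2 →
        ∀ B : Subgroup G, Cfsg.IsElementaryAbelian p B → A ≤ B → B = A := by
  refine ⟨?_, fun A hAM hAe hAcard B hBe hAB =>
    lemma105_max hG M hM p hpσ hr2 A hAM hAe hAcard B hBe hAB⟩
  rintro ⟨-, -, hideal⟩
  obtain ⟨A, hAM, hAe, hAcard⟩ := hasEA_of_not_pRankLE hr1
  rw [pow_one] at hAcard
  have hAp : IsPGroup p ↥A := isPGroup_of_elementary hAe
  have hAcard2 : Nat.card A = p ^ 2 := by
    have hle : Nat.card A ≤ p ^ 2 := by
      by_contra hcon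
      push Not at hcon
      exact not_pRankLE_of_hasEA ⟨_, hAM, hAe, hcon⟩ hr2
    obtain ⟨k, hk⟩ := IsPGroup.iff_card.mp hAp
    rw [hk] at hAcard hle ⊢
    have h1 : 1 < k := by
      by_contra hcon
      have : k ≤ 1 := by omega
      have := Nat.pow_le_pow_right hp.out.pos this
      rw [pow_one] at this
      omega
    have h2 : k ≤ 2 := (Nat.pow_le_pow_iff_right hp.out.one_lt).mp hle
    have : k = 2 := by omega
    rw [this]
  obtain ⟨S, hAS⟩ := hAp.exists_le_sylow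
  obtain ⟨B, -, hBe, hlt⟩ := hideal S A hAS hAe hAcard2
  have := lemma105_max hG M hM p hpσ hr2 A hAM hAe hAcard2 B hBe hlt.le
  exact hlt.ne this.symm

end Cfsg.Agent.Helper1.BGX
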