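import Mathlib
import Cfsg.Prelude
import Cfsg.Agent.Helper1.BGXe

set_option autoImplicit false

/-!
Bender–Glauberman, Section 10: Lemma 10.6 (`S1409`).
-/

namespace Cfsg.Agent.Helper1.BGX

open Cfsg Cfsg.Agent.Helper1 Cfsg.Agent.Helper2 Cfsg.Agent.Helper1.BGT Cfsg.Agent.Helper1.BGU
  Cfsg.Agent.Helper1.BGV Cfsg.Agent.Helper1.BGW
open scoped commutatorElement Pointwise

universe u

variable {G : Type u} [Group G] [Finite G]

theorem card_eq_sq_of_lt_of_le {p : ℕ} [hp : Fact p.Prime] {A : Subgroup G} (hAp : IsPGroup p ↥A)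
    (h1 : p < Nat.card A) (h2 : Nat.card A ≤ p ^ 2) : Nat.card A = p ^ 2 := by
  obtain ⟨k, hk⟩ := IsPGroup.iff_card.mp hAp
  rw [hk] at h1 h2 ⊢
  have h3 : 1 < k := by
    by_contra hcon
    have : k ≤ 1 := by omega
    have := Nat.pow_le_pow_right hp.out.pos this
    rw [pow_one] at this
    omega
  have h4 : k ≤ 2 := (Nat.pow_le_pow_iff_right hp.out.one_lt).mp h2
  have : k = 2 := by omega
  rw [this]

/-- Elementary abelian subgroups of a subgroup of `p`-rank at most `k`. -/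
theorem card_le_of_pRankLE {p k : ℕ} {M F : Subgroup G} (hr : Cfsg.PRankLE p k M) (hFM : F ≤ M)
    (hFe : Cfsg.IsElementaryAbelian p F) : Nat.card F ≤ p ^ k := by
  by_contra hcon
  push Not at hcon
  exact not_pRankLE_of_hasEA ⟨_, hFM, hFe, hcon⟩ hr

theorem isElementaryAbelian_of_card_eq_prime {p : ℕ} [hp : Fact p.Prime] {X : Subgroup G}
    (hX : Nat.card X = p) : Cfsg.IsElementaryAbelian p X := by
  haveI : IsCyclic ↥X := isCyclic_of_prime_card hX
  refine ⟨⟨⟨fun a b => ?_⟩⟩, fun a ha => ?_⟩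
  · obtain ⟨g, hg⟩ := IsCyclic.exists_generator (α := ↥X)
    obtain ⟨i, rfl⟩ := Subgroup.mem_zpowers_iff.mp (hg a)
    obtain ⟨j, rfl⟩ := Subgroup.mem_zpowers_iff.mp (hg b)
    exact (Commute.zpow_zpow (Commute.refl g) i j).eq
  · have h1 : (⟨a, ha⟩ : ↥X) ^ Nat.card X = 1 := pow_card_eq_one'
    rw [hX] at h1
    exact congrArg Subtype.val h1

/-- Bender–Glauberman Lemma 10.6. -/
theorem lemma106 (hG : Cfsg.IsMinSimpleOddOrder G)
    (M : Subgroup G) (hM : IsCoatom M) (p : ℕ) [hp : Fact p.Prime] (hpσ : p ∉ Cfsg.sigma M)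
    (X : Subgroup G) (hX : Nat.card X = p)
    (hNX : Subgroup.normalizer (X : Set G) ≤ M) :
    (Cfsg.PRankLE p 2 M ∧ ¬ Cfsg.PRankLE p 1 M) ∧ ¬ Cfsg.IsIdealPrime p G ∧
      ∃ A : Subgroup G, Cfsg.IsElementaryAbelian p A ∧ Nat.card A = p ^ 2 ∧ X ≤ A := by
  have hXM : X ≤ M := Subgroup.le_normalizer.trans hNX
  have hXp : IsPGroup p ↥X := IsPGroup.of_card (n := 1) (by rw [hX, pow_one])
  have hXe : Cfsg.IsElementaryAbelian p X := isElementaryAbelian_of_card_eq_prime hX
  have hpα : p ∉ Cfsg.alpha M := fun h => hpσ (alpha_subset_sigma hG hM h)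
  have hr2 : Cfsg.PRankLE p 2 M := pRankLE_of_not_mem_alpha hp.out hpα
  have hpM : p ∣ Nat.card M := by rw [← hX]; exact Subgroup.card_dvd_of_le hXM
  have hp2 : p ≠ 2 := by
    rintro rfl
    have hodd : Odd (Nat.card X) := Odd.of_dvd_nat hG.1 (Subgroup.card_subgroup_dvd_card X)
    rw [hX] at hodd
    exact absurd hodd (by decide)
  obtain ⟨T, hXT, hTM, hTp, hTcard⟩ := Cfsg.Agent.Lead.exists_le_card_eq_ppart hXp hXM
  have hX1 : X ≠ ⊥ := by
    rintro rfl
    rw [Subgroup.card_bot] at hX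
    exact hp.out.one_lt.ne hX
  have hT1 : T ≠ ⊥ := fun h => hX1 (le_bot_iff.mp (h ▸ hXT))
  have hr1 : ¬ Cfsg.PRankLE p 1 M := by
    intro hr1
    have hTc : IsCyclic ↥T := by
      by_contra hnc
      exact not_pRankLE_of_hasEA ((hasEA_one_of_not_isCyclic hp2 hTp hnc).mono hTM) hr1
    have hNT : Subgroup.normalizer (T : Set G) ≤ Subgroup.normalizer (X : Set G) := by
      intro g hg
      apply Subgroup.mem_normalizer_fintype
      intro n hn
      have hX'T : X.map (MulAut.conj g).toMonoidHom ≤ T := by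
        rintro _ ⟨y, hy, rfl⟩
        exact (Subgroup.mem_normalizer_iff.mp hg y).mp (hXT hy)
      have hle := le_of_card_dvd_of_isCyclic hTc hX'T hXT (by
        rw [Cfsg.Agent.Lead.card_map_conj])
      exact hle ⟨n, hn, rfl⟩
    have hcard : Nat.card (T.subgroupOf M) = p ^ (Nat.card M).factorization p := by
      rw [Cfsg.Agent.Lead.card_subgroupOf_of_le hTM]; exact hTcard
    apply hpσ
    refine ⟨hp.out, hpM, Sylow.ofCard (T.subgroupOf M) hcard, ?_⟩
    rw [Sylow.coe_ofCard, Subgroup.map_subgroupOf_eq_of_le hTM]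
    exact hNT.trans hNX
  refine ⟨⟨hr2, hr1⟩, (lemma105 hG M hM p hpσ hr2 hr1).1, ?_⟩
  obtain ⟨z₀, hz₀, hz₀1, hz₀p⟩ := exists_central_of_order hTp hT1
  have hze : Cfsg.IsElementaryAbelian p (Subgroup.zpowers z₀) := SCN3.elementary_zpowers hz₀p
  have hzC : Subgroup.zpowers z₀ ≤ Subgroup.centralizer (T : Set G) := by
    rw [Subgroup.zpowers_le]; exact hz₀.2
  by_cases hzX : z₀ ∈ X
  · -- `X = ⟨z₀⟩` is central in `T`
    have hXz : X = Subgroup.zpowers z₀ := by
      symm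
      apply Subgroup.eq_of_le_of_card_ge (by rw [Subgroup.zpowers_le]; exact hzX)
      rw [Nat.card_zpowers, orderOf_eq_prime hz₀p hz₀1, hX]
    have hXC : X ≤ Subgroup.centralizer (T : Set G) := by rw [hXz]; exact hzC
    obtain ⟨E, hEM, hEe, hEcard⟩ := hasEA_of_not_pRankLE hr1
    rw [pow_one] at hEcard
    have hEp : IsPGroup p ↥E := isPGroup_of_elementary hEe
    have hEcard2 : Nat.card E = p ^ 2 :=
      card_eq_sq_of_lt_of_le hEp hEcard (card_le_of_pRankLE hr2 hEM hEe)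
    obtain ⟨m, hm, hmE⟩ := Cfsg.Agent.Lead.exists_conj_le_of_card_eq_ppart hTM hTcard hEM hEp
    have hE'e : Cfsg.IsElementaryAbelian p (E.map (MulAut.conj m).toMonoidHom) :=
      isElementaryAbelian_map hEe _
    have hE'card : Nat.card (E.map (MulAut.conj m).toMonoidHom) = p ^ 2 := by
      rw [Cfsg.Agent.Lead.card_map_conj]; exact hEcard2
    have hE'C : E.map (MulAut.conj m).toMonoidHom ≤ Subgroup.centralizer (X : Set G) :=
      hmE.trans (le_centralizer_symm hXC)
    have hsup := SCN3.elementary_sup_of_le_centralizer hXe hE'e hE'C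
    have hsupM : X ⊔ E.map (MulAut.conj m).toMonoidHom ≤ M := sup_le hXM (hmE.trans hTM)
    have hsupcard := card_le_of_pRankLE hr2 hsupM hsup
    have heq : E.map (MulAut.conj m).toMonoidHom = X ⊔ E.map (MulAut.conj m).toMonoidHom :=
      Subgroup.eq_of_le_of_card_ge le_sup_right (by rw [hE'card]; exact hsupcard)
    refine ⟨_, hE'e, hE'card, ?_⟩
    rw [heq]; exact le_sup_left
  · have hzCX : Subgroup.zpowers z₀ ≤ Subgroup.centralizer (X : Set G) :=
      hzC.trans (Subgroup.centralizer_le hXT)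
    have hsup := SCN3.elementary_sup_of_le_centralizer hXe hze hzCX
    have hsupM : X ⊔ Subgroup.zpowers z₀ ≤ M :=
      sup_le hXM ((Subgroup.zpowers_le.mpr hz₀.1).trans hTM)
    have hsupcard := card_le_of_pRankLE hr2 hsupM hsup
    have hlt : X < X ⊔ Subgroup.zpowers z₀ := by
      refine lt_of_le_of_ne le_sup_left ?_
      intro heq
      apply hzX
      rw [heq]
      exact (le_sup_right : Subgroup.zpowers z₀ ≤ _) (Subgroup.mem_zpowers z₀)
    have h1 : p < Nat.card ↥(X ⊔ Subgroup.zpowers z₀) := by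
      rw [← hX]; exact card_lt_card_of_lt hlt
    exact ⟨_, hsup, card_eq_sq_of_lt_of_le (isPGroup_of_elementary hsup) h1 hsupcard, le_sup_left⟩

end Cfsg.Agent.Helper1.BGX
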