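import Mathlib
import Cfsg.Agent.Helper1.CoprimeSupp

set_option autoImplicit false

/-!
If a normal Hall subgroup `H` with complement `R` lies in the derived subgroup, then `[H, R] = H`.
-/

namespace Cfsg.Agent.Helper1

open scoped commutatorElement Pointwise

universe u

variable {G : Type u} [Group G]

/-- If `D` and `R` commute elementwise then `(DR)' ≤ D' R'`. -/
theorem commutator_sup_le_of_le_centralizer {D R : Subgroup G}
    (h : R ≤ Subgroup.centralizer (D : Set G)) :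
    ⁅D ⊔ R, D ⊔ R⁆ ≤ ⁅D, D⁆ ⊔ ⁅R, R⁆ := by
  have hRN : R ≤ Subgroup.normalizer (D : Set G) := h.trans (Subgroup.centralizer_le_normalizer _)
  have hc : ∀ r ∈ R, ∀ d ∈ D, d * r = r * d := fun r hr d hd =>
    Subgroup.mem_centralizer_iff.mp (h hr) d hd
  rw [Subgroup.commutator_le]
  intro a ha b hb
  obtain ⟨d₁, hd₁, r₁, hr₁, rfl⟩ := mem_sup_of_le_normalizer hRN ha
  obtain ⟨d₂, hd₂, r₂, hr₂, rfl⟩ := mem_sup_of_le_normalizer hRN hb
  have e : ⁅d₁ * r₁, d₂ * r₂⁆ = ⁅d₁, d₂⁆ * ⁅r₁, r₂⁆ := by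
    have h1 : r₁ * d₂ = d₂ * r₁ := (hc r₁ hr₁ d₂ hd₂).symm
    have h2 : (r₁ * r₂ * r₁⁻¹) * d₁⁻¹ = d₁⁻¹ * (r₁ * r₂ * r₁⁻¹) :=
      (hc _ (R.mul_mem (R.mul_mem hr₁ hr₂) (R.inv_mem hr₁)) _ (D.inv_mem hd₁)).symm
    have h3 : (r₁ * r₂ * r₁⁻¹ * r₂⁻¹) * d₂⁻¹ = d₂⁻¹ * (r₁ * r₂ * r₁⁻¹ * r₂⁻¹) :=
      (hc _ (R.mul_mem (R.mul_mem (R.mul_mem hr₁ hr₂) (R.inv_mem hr₁)) (R.inv_mem hr₂)) _
        (D.inv_mem hd₂)).symm
    simp only [commutatorElement_def]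
    calc d₁ * r₁ * (d₂ * r₂) * (d₁ * r₁)⁻¹ * (d₂ * r₂)⁻¹
        = d₁ * (r₁ * d₂) * r₂ * r₁⁻¹ * d₁⁻¹ * r₂⁻¹ * d₂⁻¹ := by group
      _ = d₁ * (d₂ * r₁) * r₂ * r₁⁻¹ * d₁⁻¹ * r₂⁻¹ * d₂⁻¹ := by rw [h1]
      _ = d₁ * d₂ * ((r₁ * r₂ * r₁⁻¹) * d₁⁻¹) * r₂⁻¹ * d₂⁻¹ := by group
      _ = d₁ * d₂ * (d₁⁻¹ * (r₁ * r₂ * r₁⁻¹)) * r₂⁻¹ * d₂⁻¹ := by rw [h2]
      _ = d₁ * d₂ * d₁⁻¹ * ((r₁ * r₂ * r₁⁻¹ * r₂⁻¹) * d₂⁻¹) := by group
      _ = d₁ * d₂ * d₁⁻¹ * (d₂⁻¹ * (r₁ * r₂ * r₁⁻¹ * r₂⁻¹)) := by rw [h3]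
      _ = d₁ * d₂ * d₁⁻¹ * d₂⁻¹ * (r₁ * r₂ * r₁⁻¹ * r₂⁻¹) := by group
  rw [e]
  exact Subgroup.mul_mem _
    ((le_sup_left : ⁅D, D⁆ ≤ _) (Subgroup.commutator_mem_commutator hd₁ hd₂))
    ((le_sup_right : ⁅R, R⁆ ≤ _) (Subgroup.commutator_mem_commutator hr₁ hr₂))

theorem commutator_self_le' (D : Subgroup G) : ⁅D, D⁆ ≤ D :=
  Subgroup.commutator_le.mpr fun a ha b hb => by
    rw [commutatorElement_def]
    exact D.mul_mem (D.mul_mem (D.mul_mem ha hb) (D.inv_mem ha)) (D.inv_mem hb)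

/-- A perfect solvable subgroup is trivial. -/
theorem eq_bot_of_commutator_eq_self {D : Subgroup G} (hsol : Group.IsSolvable ↥D)
    (h : ⁅D, D⁆ = D) : D = ⊥ := by
  by_contra hne
  haveI : Nontrivial ↥D := (Subgroup.nontrivial_iff_ne_bot D).mpr hne
  have hlt := IsSolvable.commutator_lt_top_of_nontrivial ↥D
  have h1 : (commutator ↥D).map D.subtype = D := by
    rw [Subgroup.map_subtype_commutator]; exact h
  have h2 : commutator ↥D = ⊤ := by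
    apply Subgroup.map_injective D.subtype_injective
    rw [h1, ← MonoidHom.range_eq_map, Subgroup.range_subtype]
  exact hlt.ne h2

/-- If the normal Hall subgroup `H` with complement `R` lies in `G'`, then `[H, R] = H`. -/
theorem commutator_eq_of_le_commutator [Finite G] (H R : Subgroup G) [hHn : H.Normal]
    (hsup : H ⊔ R = ⊤) (hinf : H ⊓ R = ⊥) (hcop : (Nat.card H).Coprime (Nat.card R))
    (hsol : Group.IsSolvable ↥H) (hH : H ≤ commutator G) : ⁅H, R⁆ = H := by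
  have hN_le : ⁅H, R⁆ ≤ H := Subgroup.commutator_le_left H R
  apply le_antisymm hN_le
  obtain ⟨N, hN⟩ : ∃ N : Subgroup G, N = ⁅H, R⁆ := ⟨_, rfl⟩
  rw [← hN] at hN_le ⊢
  haveI hNn : N.Normal := by
    rw [hN, ← Subgroup.normalizer_eq_top_iff, eq_top_iff, ← hsup]
    exact sup_le (Subgroup.normalizer_commutator_ge_left H R)
      (Subgroup.normalizer_commutator_ge_right H R)
  have hRN : R ≤ Subgroup.normalizer (H : Set G) := by
    rw [Subgroup.normalizer_eq_top]; exact le_top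
  have hdecomp : N ⊔ (H ⊓ Subgroup.centralizer (R : Set G)) = H := by
    rw [hN]; exact coprime_commutator_sup_centralizer R H hRN hcop.symm (Or.inr hsol)
  -- the key step
  have step : ∀ D : Subgroup G, D ≤ H ⊓ Subgroup.centralizer (R : Set G) → H ≤ N ⊔ D →
      H ≤ N ⊔ ⁅D, D⁆ := by
    intro D hDC hHD
    have hDH : D ≤ H := hDC.trans inf_le_left
    have hRD : R ≤ Subgroup.centralizer (D : Set G) := by
      intro r hr
      rw [Subgroup.mem_centralizer_iff]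
      intro d hd
      exact (Subgroup.mem_centralizer_iff.mp (hDC hd).2 r hr).symm
    have htop : N ⊔ (D ⊔ R) = ⊤ := by
      rw [eq_top_iff, ← hsup, ← sup_assoc]
      exact sup_le_sup_right hHD R
    have h1 : commutator G ≤ N ⊔ ⁅D ⊔ R, D ⊔ R⁆ := commutator_le_sup_commutator htop
    have h2 : commutator G ≤ N ⊔ (⁅D, D⁆ ⊔ ⁅R, R⁆) :=
      h1.trans (sup_le_sup_left (commutator_sup_le_of_le_centralizer hRD) N)
    intro x hx
    have hx' := h2 (hH hx)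
    have hYN : ⁅D, D⁆ ⊔ ⁅R, R⁆ ≤ Subgroup.normalizer (N : Set G) := by
      rw [Subgroup.normalizer_eq_top]; exact le_top
    obtain ⟨n, hn, y, hy, rfl⟩ := mem_sup_of_le_normalizer hYN hx'
    have hyH : y ∈ H := by
      have : y = n⁻¹ * (n * y) := by group
      rw [this]
      exact H.mul_mem (H.inv_mem (hN_le hn)) hx
    have hRR : ⁅R, R⁆ ≤ Subgroup.normalizer ((⁅D, D⁆ : Subgroup G) : Set G) := by
      have hRD' : R ≤ Subgroup.normalizer (D : Set G) :=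
        hRD.trans (Subgroup.centralizer_le_normalizer _)
      exact (commutator_self_le' R).trans (le_normalizer_commutator hRD' hRD')
    obtain ⟨d', hd', r', hr', rfl⟩ := mem_sup_of_le_normalizer hRR hy
    have hd'H : d' ∈ H := hDH (commutator_self_le' D hd')
    have hr'R : r' ∈ R := commutator_self_le' R hr'
    have hr'H : r' ∈ H := by
      have : r' = d'⁻¹ * (d' * r') := by group
      rw [this]
      exact H.mul_mem (H.inv_mem hd'H) hyH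
    have hr'1 : r' = 1 := by
      have : r' ∈ H ⊓ R := ⟨hr'H, hr'R⟩
      rw [hinf, Subgroup.mem_bot] at this
      exact this
    rw [hr'1, mul_one]
    exact Subgroup.mul_mem _ ((le_sup_left : N ≤ _) hn) ((le_sup_right : ⁅D, D⁆ ≤ _) hd')
  -- minimal `D`
  let 𝒟 : Set (Subgroup G) := {D | D ≤ H ⊓ Subgroup.centralizer (R : Set G) ∧ H ≤ N ⊔ D}
  have hC𝒟 : H ⊓ Subgroup.centralizer (R : Set G) ∈ 𝒟 := ⟨le_rfl, hdecomp.ge⟩
  obtain ⟨D, -, hDmin⟩ := (Set.toFinite 𝒟).exists_le_minimal hC𝒟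
  obtain ⟨hDC, hHD⟩ : D ∈ 𝒟 := hDmin.prop
  have hD' : ⁅D, D⁆ ∈ 𝒟 := ⟨(commutator_self_le' D).trans hDC, step D hDC hHD⟩
  have hDeq : ⁅D, D⁆ = D :=
    le_antisymm (commutator_self_le' D) (hDmin.le_of_le hD' (commutator_self_le' D))
  have hDbot : D = ⊥ :=
    eq_bot_of_commutator_eq_self (isSolvable_of_le (hDC.trans inf_le_left) hsol) hDeq
  rw [hDbot, sup_bot_eq] at hHD
  exact hHD

end Cfsg.Agent.Helper1
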