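import Mathlib
import Cfsg.Prelude
import Cfsg.Agent.Helper1.BGXf
import Cfsg.Agent.Helper1.HallComm
import Cfsg.Agent.Helper1.Rank2Struct2
import Cfsg.Agent.Helper3.PLen

set_option autoImplicit false

/-!
Bender–Glauberman, Section 10: Corollary 10.7(a) (`S1410`), modulo Theorem 3.6 (`S1444`).
-/

namespace Cfsg.Agent.Helper1.BGX

open Cfsg Cfsg.Agent.Helper1 Cfsg.Agent.Helper2 Cfsg.Agent.Helper1.BGT Cfsg.Agent.Helper1.BGU
  Cfsg.Agent.Helper1.BGV Cfsg.Agent.Helper1.BGW Cfsg.Agent.Helper3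
open scoped commutatorElement Pointwise

universe u

/-- The statement of Bender–Glauberman Theorem 3.6 (`S1444`) in universe `u`. -/
def Thm36 : Prop :=
  ∀ (X : Type u) [Group X] [Finite X] [Group.IsSolvable X], Odd (Nat.card X) →
    ∀ (H R R₀ : Subgroup X) [H.Normal], (Nat.card H).Coprime H.index →
      Subgroup.IsComplement' H R → R₀ ≤ R → (Nat.card R₀).Prime →
      IsZGroup ↥(H ⊓ Subgroup.centralizer (R₀ : Set X)) →
      ∀ (p : ℕ) [Fact p.Prime], Cfsg.PLengthLE p 1 ↥⁅H, R⁆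

section generic

variable {X : Type u} [Group X] [Finite X]

/-- If `|X : O_{p',p}(X)|` is prime to `p` then `X` has `p`-length at most one. -/
theorem pLengthLE_one_of_index_coprime (p : ℕ) [hp : Fact p.Prime]
    (h : ((Cfsg.pPrimePCore p X).index).Coprime p) : Cfsg.PLengthLE p 1 X := by
  have h1 : Cfsg.pPrimeCore p X ≤ PLen.U p X 1 := by
    apply PLen.ascent p 0
    rw [PLen.U_zero, Subgroup.relIndex_bot_left]
    unfold PLen.Good
    rw [if_pos (by decide)]
    exact card_pPrimeCore_coprime p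
  have h2 : Cfsg.pPrimePCore p X ≤ PLen.U p X 2 := by
    haveI : (Cfsg.pPrimePCore p X).Normal := by unfold Cfsg.pPrimePCore; infer_instance
    apply PLen.ascent p 1
    have hg : PLen.Good p 1 ((Cfsg.pPrimeCore p X).relIndex (Cfsg.pPrimePCore p X)) := by
      unfold PLen.Good
      rw [if_neg (by decide)]
      unfold Cfsg.pPrimePCore
      rw [PLen.relIndex_comap_mk']
      exact IsPGroup.iff_card.1 Cfsg.Agent.Helper4.pCore_isPGroup
    exact PLen.good_of_dvd hp.out hg (Subgroup.relIndex_dvd_of_le_left _ h1)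
  rw [PLen.pLengthLE_iff]
  apply top_le_iff.1
  apply PLen.ascent p 2
  have hg : PLen.Good p 2 (Cfsg.pPrimePCore p X).index := by
    unfold PLen.Good
    rw [if_pos (by decide)]
    exact h
  refine PLen.good_of_dvd hp.out hg ?_
  rw [Subgroup.relIndex_top_right]
  exact Subgroup.index_dvd_of_le h2

/-- Solvable groups of odd order and `p`-rank at most two have `p`-length at most one. -/
theorem pLengthLE_one_of_pRankLE_two [Group.IsSolvable X] (hodd : Odd (Nat.card X)) (p : ℕ)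
    [hp : Fact p.Prime] (hr : Cfsg.PRankLE p 2 X) : Cfsg.PLengthLE p 1 X := by
  by_cases hpX : p ∣ Nat.card X
  · obtain ⟨-, -, -, -, -, hidx⟩ :=
      Rank2Struct.odd_solvable_rank_two_structure hodd p hpX hr
    exact pLengthLE_one_of_index_coprime p hidx
  · exact PLen.pLengthLE_mono p (Nat.zero_le 1)
      (PLen.pLengthLE_zero_of_coprime p ((Nat.Prime.coprime_iff_not_dvd hp.out).mpr hpX).symm)

end generic

variable {G : Type u} [Group G] [Finite G]

variable {M : Subgroup G} {p : ℕ} [hp : Fact p.Prime] {P : Subgroup G}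

/-- For `p ∈ σ(M)`, the Sylow `p`-subgroups of `M` lie in `M'`. -/
theorem SigCtx.le_commutator (c : SigCtx M p P) : P ≤ ⁅M, M⁆ := by
  have hG := c.min
  obtain ⟨S, hS⟩ : ∃ S : Sylow p G, (S : Subgroup G) = P :=
    ⟨Sylow.ofCard P c.cardG, Sylow.coe_ofCard _ _⟩
  have h1 : P = Subgroup.focalSubgroup P := by
    rw [← hS, ← Subgroup.commutator_inf_eq_focalSubgroup, commutator_eq_top_of_min hG, top_inf_eq]
  rw [h1, Subgroup.focalSubgroup_def, Subgroup.closure_le]
  rintro g ⟨hgP, x, hxP, u, rfl⟩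
  by_cases hx1 : x = 1
  · subst hx1
    rw [commutatorElement_one_left]
    exact Subgroup.one_mem _
  have hx' : u * x⁻¹ * u⁻¹ ∈ P := by
    have : u * x⁻¹ * u⁻¹ = x⁻¹ * ⁅x, u⁆ := by
      rw [commutatorElement_def]; group
    rw [this]
    exact Subgroup.mul_mem _ (Subgroup.inv_mem _ hxP) hgP
  have hXP : Subgroup.zpowers x⁻¹ ≤ P := by
    rw [Subgroup.zpowers_le]; exact Subgroup.inv_mem _ hxP
  have hX1 : Subgroup.zpowers x⁻¹ ≠ ⊥ := by
    intro h
    rw [Subgroup.zpowers_eq_bot, inv_eq_one] at h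
    exact hx1 h
  obtain ⟨m, hm, c', hc', e⟩ := c.trans (Subgroup.zpowers x⁻¹) (hXP.trans c.le)
    (c.pgroup.to_le hXP) hX1 u (by
      intro y hy
      obtain ⟨k, rfl⟩ := Subgroup.mem_zpowers_iff.mp hy
      rw [← conj_zpow]
      exact c.le (Subgroup.zpow_mem _ hx' k))
  have hcx : c' * x⁻¹ = x⁻¹ * c' :=
    (Subgroup.mem_centralizer_iff.mp hc' x⁻¹ (Subgroup.mem_zpowers _)).symm
  have h3 : ⁅x, u⁆ = ⁅x, m⁆ := by
    rw [e, commutatorElement_def, commutatorElement_def]
    calc x * (m * c') * x⁻¹ * (m * c')⁻¹ = x * m * (c' * x⁻¹) * c'⁻¹ * m⁻¹ := by group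
      _ = x * m * (x⁻¹ * c') * c'⁻¹ * m⁻¹ := by rw [hcx]
      _ = x * m * x⁻¹ * m⁻¹ := by group
  rw [h3]
  exact Subgroup.commutator_mem_commutator (c.le hxP) hm

omit hp in
theorem SigCtx.not_dvd_relIndex [hp : Fact p.Prime] (c : SigCtx M p P) : ¬ p ∣ P.relIndex M := by
  have hcard : Nat.card (P.subgroupOf M) = p ^ (Nat.card M).factorization p := by
    rw [Cfsg.Agent.Lead.card_subgroupOf_of_le c.le]; exact c.cardM
  have := (Sylow.ofCard (P.subgroupOf M) hcard).not_dvd_index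
  rw [Sylow.coe_ofCard] at this
  exact this

/-- Not every prime divisor of `|M|` lies in `σ(M)`. -/
theorem exists_prime_not_mem_sigma (hG : Cfsg.IsMinSimpleOddOrder G) {M : Subgroup G}
    (hM : IsCoatom M) (hM1 : M ≠ ⊥) :
    ∃ q : ℕ, q.Prime ∧ q ∣ Nat.card M ∧ q ∉ Cfsg.sigma M := by
  by_contra hcon
  push Not at hcon
  have hle : M ≤ ⁅M, M⁆ := by
    rw [← Subgroup.relIndex_eq_one]
    by_contra hne
    obtain ⟨q, hq, hqd⟩ := Nat.exists_prime_and_dvd hne
    have hqM : q ∣ Nat.card M := hqd.trans (Subgroup.relIndex_dvd_card _ _)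
    haveI := Fact.mk hq
    obtain ⟨P, c⟩ := exists_sigCtx hG hM (hcon q hq hqM)
    have h1 : (⁅M, M⁆ : Subgroup G).relIndex M ∣ P.relIndex M :=
      Subgroup.relIndex_dvd_of_le_left M c.le_commutator
    exact c.not_dvd_relIndex (hqd.trans h1)
  have hsol : Group.IsSolvable ↥M := hG.2.2.2 M hM.1
  have : ⁅M, M⁆ = M := le_antisymm (commutator_self_le' M) hle
  exact hM1 (eq_bot_of_commutator_eq_self hsol this)

/-- `M_α ≤ M'`. -/
theorem alphaCore_le_commutator (hG : Cfsg.IsMinSimpleOddOrder G) {M : Subgroup G}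
    (hM : IsCoatom M) : Cfsg.alphaCore M ≤ ⁅M, M⁆ := by
  have hKM : Cfsg.alphaCore M ≤ M := Subgroup.map_subtype_le _
  rw [← Subgroup.relIndex_eq_one]
  by_contra hne
  obtain ⟨q, hq, hqd⟩ := Nat.exists_prime_and_dvd hne
  have hqK : q ∣ Nat.card (Cfsg.alphaCore M) := hqd.trans (Subgroup.relIndex_dvd_card _ _)
  have hqα := mem_alpha_of_dvd_card_alphaCore hq hqK
  haveI := Fact.mk hq
  obtain ⟨P, hP1, c, hPc, -, -⟩ := exists_sylow_of_mem_alpha hG hM hqα
  have hPK : P ≤ Cfsg.alphaCore M := by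
    intro x hx
    exact ⟨⟨x, c.le hx⟩, le_alphaCore hG hM hqα c.le c.pgroup
      (Subgroup.mem_subgroupOf.mpr hx), rfl⟩
  have h1 : (⁅M, M⁆ : Subgroup G).relIndex (Cfsg.alphaCore M) ∣ P.relIndex (Cfsg.alphaCore M) :=
    Subgroup.relIndex_dvd_of_le_left _ hPc
  have h2 : P.relIndex (Cfsg.alphaCore M) ∣ P.relIndex M :=
    Dvd.intro _ (Subgroup.relIndex_mul_relIndex P (Cfsg.alphaCore M) M hPK hKM)
  exact c.not_dvd_relIndex ((hqd.trans h1).trans h2)

/-- Maximal subgroups have `p`-length one (modulo Theorem 3.6). -/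
theorem pLengthLE_one_coatom (h36 : Thm36.{u}) (hG : Cfsg.IsMinSimpleOddOrder G) {M : Subgroup G}
    (hM : IsCoatom M) (p : ℕ) [hp : Fact p.Prime] : Cfsg.PLengthLE p 1 ↥M := by
  haveI : Group.IsSolvable ↥M := hG.2.2.2 M hM.1
  have hodd : Odd (Nat.card M) := Odd.of_dvd_nat hG.1 (Subgroup.card_subgroup_dvd_card M)
  by_cases hpα : p ∈ Cfsg.alpha M
  swap
  · exact pLengthLE_one_of_pRankLE_two hodd p (pRankLE_of_not_mem_alpha hp.out hpα)
  obtain ⟨K, hK⟩ : ∃ K : Subgroup ↥M, K = Cfsg.piCore (Cfsg.alpha M) ↥M := ⟨_, rfl⟩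
  haveI hKn : K.Normal := by rw [hK]; infer_instance
  obtain ⟨⟨-, -, hidx⟩, -⟩ := thm102 hG M hM
  have hKmap : K.map M.subtype = Cfsg.alphaCore M := by rw [hK]; rfl
  have hidx' : ∀ q : ℕ, q.Prime → q ∈ Cfsg.alpha M → ¬ q ∣ K.index := by
    intro q hq hqα
    rw [← relIndex_map_subtype, hKmap]
    exact hidx q hq hqα
  have hprimes' : ∀ q : ℕ, q.Prime → q ∣ Nat.card K → q ∈ Cfsg.alpha M := by
    rw [hK]; exact piCore_isPi _
  have hHall : (Nat.card K).Coprime K.index :=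
    Nat.coprime_of_dvd (fun q hq h1 h2 => hidx' q hq (hprimes' q hq h1) h2)
  obtain ⟨R, hR⟩ := Subgroup.exists_right_complement'_of_coprime hHall
  have hM1 : M ≠ ⊥ := by
    rintro rfl
    apply hpα.2
    intro A _ _
    have : Nat.card A = 1 := by
      haveI : Subsingleton ↥(⊥ : Subgroup G) := inferInstance
      exact Nat.card_unique
    rw [this]
    exact Nat.one_le_pow _ _ hp.out.pos
  obtain ⟨q, hq, hqM, hqσ⟩ := exists_prime_not_mem_sigma hG hM hM1
  haveI := Fact.mk hq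
  have hqα : q ∉ Cfsg.alpha M := fun h => hqσ (alpha_subset_sigma hG hM h)
  obtain ⟨Q₀⟩ : Nonempty (Sylow q ↥R) := inferInstance
  obtain ⟨Q, hQ⟩ : ∃ Q : Subgroup ↥M, Q = (Q₀ : Subgroup ↥R).map R.subtype := ⟨_, rfl⟩
  have hQR : Q ≤ R := by rw [hQ]; exact Subgroup.map_subtype_le _
  have hQcard : Nat.card Q = q ^ (Nat.card ↥M).factorization q := by
    rw [hQ, Subgroup.card_map_of_injective R.subtype_injective, Q₀.card_eq_multiplicity]
    have h1 : Nat.card K * Nat.card R = Nat.card ↥M := hR.card_mul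
    have h2 : (Nat.card K).factorization q = 0 :=
      Nat.factorization_eq_zero_of_not_dvd (fun h => hqα (hprimes' q hq h))
    rw [← h1, Nat.factorization_mul Nat.card_pos.ne' Nat.card_pos.ne', Finsupp.add_apply, h2,
      zero_add]
  obtain ⟨x, hxZ, hox, hZ, -⟩ := lemma104 hG M hM q hqM hqσ (Sylow.ofCard Q hQcard)
  obtain ⟨⟨y, hyQ, rfl⟩, -⟩ := mem_map_map_center_iff.mp hxZ
  rw [Sylow.coe_ofCard] at hyQ
  have hR₀R : Subgroup.zpowers y ≤ R := by rw [Subgroup.zpowers_le]; exact hQR hyQ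
  have hoy : orderOf y = q := by rw [← hox]; exact (Subgroup.orderOf_coe y).symm
  have hR₀p : (Nat.card (Subgroup.zpowers y)).Prime := by
    rw [Nat.card_zpowers, hoy]; exact hq
  have hZ' : IsZGroup ↥(K ⊓ Subgroup.centralizer ((Subgroup.zpowers y : Subgroup ↥M) : Set ↥M)) := by
    let f : ↥(K ⊓ Subgroup.centralizer ((Subgroup.zpowers y : Subgroup ↥M) : Set ↥M)) →*
        ↥(Cfsg.alphaCore M ⊓ Subgroup.centralizer ({M.subtype y} : Set G)) :=
      { toFun := fun w => ⟨((w : ↥M) : G), by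
          refine ⟨?_, ?_⟩
          · rw [← hKmap]; exact ⟨(w : ↥M), w.2.1, rfl⟩
          · refine Subgroup.mem_centralizer_iff.mpr ?_
            intro z hz
            rw [Set.mem_singleton_iff] at hz
            subst hz
            have := Subgroup.mem_centralizer_iff.mp w.2.2 y (Subgroup.mem_zpowers y)
            exact congrArg Subtype.val this⟩
        map_one' := rfl
        map_mul' := fun _ _ => rfl }
    have hf : Function.Injective f := by
      intro a b hab
      have h1 : ((a : ↥M) : G) = ((b : ↥M) : G) := by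
        have := congrArg Subtype.val hab
        exact this
      exact Subtype.ext (Subtype.ext h1)
    exact IsZGroup.of_injective (f := f) hf
  have hpl := h36 ↥M hodd K R (Subgroup.zpowers y) hHall hR hR₀R hR₀p hZ' p
  have hKcomm : K ≤ commutator ↥M := by
    intro w hw
    have h1 : (w : G) ∈ Cfsg.alphaCore M := by rw [← hKmap]; exact ⟨w, hw, rfl⟩
    have h2 := alphaCore_le_commutator hG hM h1
    rw [← Subgroup.map_subtype_commutator] at h2
    obtain ⟨v, hv, hvw⟩ := h2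
    rw [← Subtype.ext hvw]; exact hv
  have hcopKR : (Nat.card K).Coprime (Nat.card R) := by
    rw [← hR.symm.index_eq_card]; exact hHall
  have hKR : ⁅K, R⁆ = K := commutator_eq_of_le_commutator K R hR.sup_eq_top
    (disjoint_iff.mp hR.disjoint) hcopKR inferInstance hKcomm
  rw [hKR] at hpl
  have hb : Cfsg.PLengthLE p 0 (↥M ⧸ K) := by
    apply PLen.pLengthLE_zero_of_coprime p
    rw [← Subgroup.index_eq_card]
    exact ((Nat.Prime.coprime_iff_not_dvd hp.out).mpr (hidx' p hp.out hpα)).symm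
  exact PLen.pLengthLE_add p K hpl hb

/-- Bender–Glauberman Corollary 10.7(a) (modulo Theorem 3.6). -/
theorem cor107a (h36 : Thm36.{u}) (hG : Cfsg.IsMinSimpleOddOrder G) (p : ℕ) [hp : Fact p.Prime]
    (H₀ : Subgroup G) (hH₀ : H₀ ≠ ⊤) : Cfsg.PLengthLE p 1 ↥H₀ := by
  obtain ⟨M, hM, hH₀M⟩ := exists_coatom_ge hH₀
  have h := pLengthLE_one_coatom h36 hG hM p
  have h1 := PLen.pLengthLE_subgroup p (H₀.subgroupOf M) h
  exact PLen.pLengthLE_of_mulEquiv p (Subgroup.subgroupOfEquivOfLe hH₀M) h1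

end Cfsg.Agent.Helper1.BGX
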