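import Mathlib
import Cfsg.Agent.Helper1.PLength1

set_option autoImplicit false

namespace Cfsg.Agent.Helper1

open Cfsg
open scoped commutatorElement Pointwise

universe u

variable {G : Type u} [Group G]

/-- Frattini argument for a normal `p'`-subgroup `K` with `KS` normal. -/
theorem sup_normalizer_eq_top_of_sup_normal [Finite G] [Group.IsSolvable G] {p : ℕ} [Fact p.Prime]
    (K : Subgroup G) [hKn : K.Normal] (hKcop : (Nat.card K).Coprime p) (S : Sylow p G)
    (hKS : (K ⊔ (S : Subgroup G) : Subgroup G).Normal) :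
    K ⊔ Subgroup.normalizer ((S : Subgroup G) : Set G) = ⊤ := by
  rw [eq_top_iff]
  intro g _
  have hSK : (S : Subgroup G) ≤ Subgroup.normalizer (K : Set G) := by
    rw [Subgroup.normalizer_eq_top]; exact le_top
  obtain ⟨k, hk⟩ := IsPGroup.iff_card.1 S.2
  have hcop : (Nat.card K).Coprime (Nat.card (S : Subgroup G)) := by
    rw [hk]; exact Nat.Coprime.pow_right _ hKcop
  have hB : MulAut.conj g • (S : Subgroup G) ≤ K ⊔ (S : Subgroup G) := by
    intro x hx
    rw [mem_conj_smul] at hx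
    have : x = g * (g⁻¹ * x * g) * g⁻¹ := by group
    rw [this]
    exact hKS.conj_mem _ ((le_sup_right : (S : Subgroup G) ≤ _) hx) g
  obtain ⟨n, hn, hnS⟩ := sz_conj_internal K (S : Subgroup G) (MulAut.conj g • (S : Subgroup G))
    hSK hB (card_conj_smul g _) hcop (Or.inl inferInstance)
  have hmem : n⁻¹ * g ∈ Subgroup.normalizer ((S : Subgroup G) : Set G) := by
    apply mem_normalizer_of_conj_smul_eq
    rw [map_mul, mul_smul, ← hnS, ← mul_smul, ← map_mul, inv_mul_cancel, map_one, one_smul]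
  have : g = n * (n⁻¹ * g) := by group
  rw [this]
  exact Subgroup.mul_mem _ ((le_sup_left : K ≤ _) hn) ((le_sup_right : _ ≤ K ⊔ _) hmem)

theorem pLength_one_facts [Finite G] [Group.IsSolvable G] (p : ℕ) [hp : Fact p.Prime] (hpl : Cfsg.PLengthLE p 1 G) (S : Sylow p G) :
    ((S : Subgroup G) ≤ commutator G → (S : Subgroup G) ≤ ⁅Subgroup.normalizer ((S : Subgroup G) : Set G), Subgroup.normalizer ((S : Subgroup G) : Set G)⁆) ∧
      (∀ (Y : Set G) (x : G), Y ⊆ (S : Subgroup G) → (fun y => x * y * x⁻¹) '' Y ⊆ (S : Subgroup G) →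
        ∃ g ∈ Subgroup.normalizer ((S : Subgroup G) : Set G), ∃ c ∈ Subgroup.centralizer Y, g * c = x) ∧
      ∀ Q : Subgroup G, IsPGroup p Q → ∃ x ∈ Subgroup.centralizer ((Q ⊓ (S : Subgroup G) : Subgroup G) : Set G), Q.map (MulAut.conj x).toMonoidHom ≤ (S : Subgroup G) := by
  obtain ⟨K, hKn, hKcop, hKS⟩ := exists_normal_of_pLengthLE_one p hpl
  have hKSn := hKS S
  set U := Subgroup.normalizer ((S : Subgroup G) : Set G) with hU
  have hKU : K ⊔ U = ⊤ := sup_normalizer_eq_top_of_sup_normal K hKcop S hKSn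
  have hSU : (S : Subgroup G) ≤ U := Subgroup.le_normalizer
  have hcop_of_le : ∀ H : Subgroup G, H ≤ (S : Subgroup G) → (Nat.card H).Coprime (Nat.card K) := by
    intro H hH
    obtain ⟨k, hk⟩ := IsPGroup.iff_card.1 (S.2.to_le hH)
    rw [hk]
    exact Nat.Coprime.pow_left _ (Nat.Coprime.symm hKcop)
  have hNK : ∀ X : Subgroup G, X ≤ Subgroup.normalizer (K : Set G) := by
    intro X
    rw [Subgroup.normalizer_eq_top]; exact le_top
  refine ⟨?_, ?_, ?_⟩
  · intro hSc s hs
    have h1 := (coprime_supplement_facts K U (S : Subgroup G) hKU hSU (hcop_of_le _ le_rfl)).1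
    have h2 : s ∈ (S : Subgroup G) ⊓ commutator G := Subgroup.mem_inf.2 ⟨hs, hSc hs⟩
    rw [h1] at h2
    exact (Subgroup.mem_inf.1 h2).2
  · intro Y x hY hxY
    set H := Subgroup.closure Y with hH
    have hHS : H ≤ (S : Subgroup G) := (Subgroup.closure_le _).2 hY
    have hmap : H.map (MulAut.conj x).toMonoidHom ≤ U := by
      rw [Subgroup.map_le_iff_le_comap, hH, Subgroup.closure_le]
      intro y hy
      have : x * y * x⁻¹ ∈ (S : Subgroup G) := hxY ⟨y, hy, rfl⟩
      exact hSU this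
    obtain ⟨u, hu, c, hc, hxuc⟩ := exists_mul_of_conj_le K U H hKU (hHS.trans hSU)
      (hcop_of_le H hHS) x hmap
    refine ⟨u, hu, c, ?_, hxuc.symm⟩
    exact Subgroup.centralizer_le (Subgroup.subset_closure) (Subgroup.mem_inf.1 hc).2
  · intro Q hQ
    obtain ⟨kq, hkq⟩ := IsPGroup.iff_card.1 hQ
    have hQcop : (Nat.card Q).Coprime (Nat.card K) := by
      rw [hkq]; exact Nat.Coprime.pow_left _ (Nat.Coprime.symm hKcop)
    have hQle : Q ≤ K ⊔ (S : Subgroup G) := by
      apply le_of_coprime_card_index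
      rw [hkq]
      apply Nat.Coprime.pow_left
      have h1 : (K ⊔ (S : Subgroup G) : Subgroup G).index ∣ (S : Subgroup G).index :=
        Subgroup.index_dvd_of_le le_sup_right
      exact Nat.Coprime.coprime_dvd_right h1
        ((Nat.Prime.coprime_iff_not_dvd hp.out).2 S.not_dvd_index)
    set L := K ⊔ Q with hL
    set S₁ := L ⊓ (S : Subgroup G) with hS₁
    have hS₁S : S₁ ≤ (S : Subgroup G) := inf_le_right
    have hQle' : Q ≤ K ⊔ S₁ := by
      intro q hq
      obtain ⟨k, hk, s, hs, rfl⟩ := mem_sup_of_le_normalizer (hNK _) (hQle hq)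
      have hsL : s ∈ L := by
        have : s = k⁻¹ * (k * s) := by group
        rw [this]
        exact Subgroup.mul_mem _ ((le_sup_left : K ≤ L) (K.inv_mem hk)) ((le_sup_right : Q ≤ L) hq)
      exact Subgroup.mul_mem _ ((le_sup_left : K ≤ _) hk)
        ((le_sup_right : S₁ ≤ K ⊔ S₁) (Subgroup.mem_inf.2 ⟨hsL, hs⟩))
    have hLeq : K ⊔ S₁ = L := le_antisymm (sup_le le_sup_left inf_le_left) (sup_le le_sup_left hQle')
    have hcard : Nat.card Q = Nat.card S₁ := by
      have h1 : Nat.card (K ⊔ Q : Subgroup G) = Nat.card Q * Nat.card K :=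
        card_sup_of_le_normalizer (hNK Q) (inf_eq_bot_of_coprime_card hQcop)
      have h2 : Nat.card (K ⊔ S₁ : Subgroup G) = Nat.card S₁ * Nat.card K :=
        card_sup_of_le_normalizer (hNK S₁) (inf_eq_bot_of_coprime_card (hcop_of_le S₁ hS₁S))
      rw [hLeq, hL, h1] at h2
      exact Nat.eq_of_mul_eq_mul_right Nat.card_pos h2
    obtain ⟨n, hn, hnS⟩ := sz_conj_internal K S₁ Q (hNK S₁) hQle' hcard
      (hcop_of_le S₁ hS₁S).symm (Or.inl inferInstance)
    set D := Q ⊓ (S : Subgroup G) with hD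
    have hDS₁ : D ≤ S₁ :=
      le_inf (inf_le_left.trans le_sup_right) inf_le_right
    have hconj : ∀ q ∈ Q, n⁻¹ * q * n ∈ S₁ := by
      intro q hq
      rw [← hnS, mem_conj_smul] at hq
      exact hq
    have hmap : D.map (MulAut.conj n⁻¹).toMonoidHom ≤ S₁ := by
      rintro _ ⟨d, hd, rfl⟩
      have := hconj d (Subgroup.mem_inf.1 hd).1
      simpa using this
    obtain ⟨u, hu, c, hc, hnuc⟩ := exists_mul_of_conj_le' K S₁ D (hNK S₁) hDS₁
      (hcop_of_le D inf_le_right) n⁻¹ ((le_sup_left : K ≤ K ⊔ S₁) (K.inv_mem hn)) hmap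
    refine ⟨c, (Subgroup.mem_inf.1 hc).2, ?_⟩
    rintro _ ⟨q, hq, rfl⟩
    have hc' : c = u⁻¹ * n⁻¹ := by rw [hnuc]; group
    have e : (MulAut.conj c).toMonoidHom q = u⁻¹ * (n⁻¹ * q * n) * u := by
      simp only [MulEquiv.coe_toMonoidHom, MulAut.conj_apply]
      rw [hc']; group
    rw [e]
    exact Subgroup.mul_mem _ (Subgroup.mul_mem _ (Subgroup.inv_mem _ (hS₁S hu))
      (hS₁S (hconj q hq))) (hS₁S hu)

end Cfsg.Agent.Helper1
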