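import Mathlib
import Cfsg.Prelude
import Cfsg.Agent.Helper1.BGXg
import Cfsg.Agent.Helper1.PLength1b

set_option autoImplicit false

/-!
Bender–Glauberman, Section 10: Corollary 10.7(b) (`S1411`), modulo `p`-length one.
-/

namespace Cfsg.Agent.Helper1.BGX

open Cfsg Cfsg.Agent.Helper1 Cfsg.Agent.Helper2 Cfsg.Agent.Helper1.BGT Cfsg.Agent.Helper1.BGU
  Cfsg.Agent.Helper1.BGV Cfsg.Agent.Helper1.BGW Cfsg.Agent.Helper3
open scoped commutatorElement Pointwise

universe u

variable {G : Type u} [Group G] [Finite G]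

/-- The hypothesis that every proper subgroup has `p`-length one (Corollary 10.7(a)). -/
def PL1 (G : Type u) [Group G] : Prop :=
  ∀ (p : ℕ) [Fact p.Prime] (H : Subgroup G), H ≠ ⊤ → Cfsg.PLengthLE p 1 ↥H

theorem pl1_of_thm36 (h36 : Thm36.{u}) (hG : Cfsg.IsMinSimpleOddOrder G) : PL1 G :=
  fun p _ H hH => cor107a h36 hG p H hH

/-- A nontrivial Sylow subgroup of `G` gives a `σ`-context. -/
theorem exists_sigCtx_of_sylow (hG : Cfsg.IsMinSimpleOddOrder G) {p : ℕ} [hp : Fact p.Prime]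
    (P : Sylow p G) (hP1 : (P : Subgroup G) ≠ ⊥) :
    ∃ M : Subgroup G, SigCtx M p (P : Subgroup G) := by
  have hPtop : (P : Subgroup G) ≠ ⊤ := Cfsg.Agent.Helper1.BGU.sylow_ne_top hG p _ P.2
  obtain ⟨M, hM, hNM⟩ := exists_coatom_ge (normalizer_ne_top_of_simple hG hP1 hPtop)
  have hPM : (P : Subgroup G) ≤ M := Subgroup.le_normalizer.trans hNM
  have hcG : Nat.card (P : Subgroup G) = p ^ (Nat.card G).factorization p :=
    P.card_eq_multiplicity
  have hcM : Nat.card (P : Subgroup G) = p ^ (Nat.card M).factorization p := by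
    apply Cfsg.Agent.Lead.card_eq_ppart_of_le hPM (le_top : M ≤ ⊤) P.2
    rw [Subgroup.card_top]; exact hcG
  exact ⟨M, hG, hM, hPM, P.2, hcM, hcG, hNM⟩

variable {M : Subgroup G} {p : ℕ} [hp : Fact p.Prime] {P : Subgroup G}

/-- `P ≤ N(P)'` for Sylow subgroups in the `σ`-context. -/
theorem SigCtx.le_commutator_normalizer (c : SigCtx M p P) (hpl : PL1 G) :
    P ≤ ⁅Subgroup.normalizer (P : Set G), Subgroup.normalizer (P : Set G)⁆ := by
  have hG := c.min
  haveI : Group.IsSolvable ↥M := hG.2.2.2 M c.coatom.1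
  have hcard : Nat.card (P.subgroupOf M) = p ^ (Nat.card M).factorization p := by
    rw [Cfsg.Agent.Lead.card_subgroupOf_of_le c.le]; exact c.cardM
  obtain ⟨S, hS⟩ : ∃ S : Sylow p ↥M, (S : Subgroup ↥M) = P.subgroupOf M :=
    ⟨Sylow.ofCard (P.subgroupOf M) hcard, Sylow.coe_ofCard _ _⟩
  obtain ⟨h1, -, -⟩ := pLength_one_facts p (hpl p M c.coatom.1) S
  have hSc : (S : Subgroup ↥M) ≤ commutator ↥M := by
    rw [hS]
    intro w hw
    have h2 := c.le_commutator (Subgroup.mem_subgroupOf.mp hw)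
    rw [← Subgroup.map_subtype_commutator] at h2
    obtain ⟨v, hv, hvw⟩ := h2
    rw [← Subtype.ext hvw]; exact hv
  have h2 := h1 hSc
  have hNle : (Subgroup.normalizer ((S : Subgroup ↥M) : Set ↥M)).map M.subtype ≤
      Subgroup.normalizer (P : Set G) := by
    rintro _ ⟨n, hn, rfl⟩
    apply Subgroup.mem_normalizer_fintype
    intro y hy
    have hy' : (⟨y, c.le hy⟩ : ↥M) ∈ (S : Subgroup ↥M) := by
      rw [hS]; exact Subgroup.mem_subgroupOf.mpr hy
    have h3 := (Subgroup.mem_normalizer_iff.mp hn ⟨y, c.le hy⟩).mp hy'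
    rw [hS] at h3
    exact Subgroup.mem_subgroupOf.mp h3
  intro x hx
  have hx' : (⟨x, c.le hx⟩ : ↥M) ∈ (S : Subgroup ↥M) := by
    rw [hS]; exact Subgroup.mem_subgroupOf.mpr hx
  have h3 := h2 hx'
  have h4 : x ∈ (⁅Subgroup.normalizer ((S : Subgroup ↥M) : Set ↥M),
      Subgroup.normalizer ((S : Subgroup ↥M) : Set ↥M)⁆).map M.subtype := ⟨_, h3, rfl⟩
  rw [Subgroup.map_commutator] at h4
  exact Subgroup.commutator_mono hNle hNle h4

/-- Bender–Glauberman Corollary 10.7(b). -/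
theorem cor107b (hG : Cfsg.IsMinSimpleOddOrder G) (hpl : PL1 G) (p : ℕ) [hp : Fact p.Prime]
    (P : Sylow p G) (V : Subgroup G)
    (hV : Cfsg.IsComplIn (P : Subgroup G) V (Subgroup.normalizer ((P : Subgroup G) : Set G))) :
    (P : Subgroup G) = ⁅(P : Subgroup G), V⁆ ∧
      (P : Subgroup G) ≤ ⁅Subgroup.normalizer ((P : Subgroup G) : Set G),
        Subgroup.normalizer ((P : Subgroup G) : Set G)⁆ := by
  by_cases hP1 : (P : Subgroup G) = ⊥
  · rw [hP1]
    exact ⟨(Subgroup.commutator_bot_left V).symm, bot_le⟩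
  obtain ⟨M, c⟩ := exists_sigCtx_of_sylow hG P hP1
  have hPN' := c.le_commutator_normalizer hpl
  refine ⟨?_, hPN'⟩
  obtain ⟨N, hN⟩ : ∃ N : Subgroup G, N = Subgroup.normalizer ((P : Subgroup G) : Set G) :=
    ⟨_, rfl⟩
  rw [← hN] at hV hPN'
  obtain ⟨hPN, hVN, hinf, hprod⟩ := hV
  have hNtop : N ≠ ⊤ := by
    rw [hN]
    exact normalizer_ne_top_of_simple hG hP1 (Cfsg.Agent.Helper1.BGU.sylow_ne_top hG p _ P.2)
  haveI : Group.IsSolvable ↥N := hG.2.2.2 N hNtop
  haveI hPn : ((P : Subgroup G).subgroupOf N).Normal := by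
    rw [hN]; exact Subgroup.normal_in_normalizer
  have hinf' : ((P : Subgroup G).subgroupOf N) ⊓ (V.subgroupOf N) = ⊥ := by
    rw [eq_bot_iff]
    intro w hw
    have h1 : (w : G) ∈ (P : Subgroup G) ⊓ V :=
      ⟨Subgroup.mem_subgroupOf.mp hw.1, Subgroup.mem_subgroupOf.mp hw.2⟩
    rw [hinf, Subgroup.mem_bot] at h1
    rw [Subgroup.mem_bot]; exact Subtype.ext h1
  have hsup' : ((P : Subgroup G).subgroupOf N) ⊔ (V.subgroupOf N) = ⊤ := by
    rw [eq_top_iff]
    intro w _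
    obtain ⟨a, ha, b, hb, e⟩ := hprod w w.2
    have : w = ⟨a, hPN ha⟩ * ⟨b, hVN hb⟩ := Subtype.ext e
    rw [this]
    exact Subgroup.mul_mem_sup (Subgroup.mem_subgroupOf.mpr ha) (Subgroup.mem_subgroupOf.mpr hb)
  have hc : Subgroup.IsComplement' ((P : Subgroup G).subgroupOf N) (V.subgroupOf N) := by
    apply Subgroup.isComplement'_of_disjoint_and_mul_eq_univ (disjoint_iff.mpr hinf')
    rw [← Subgroup.normal_mul, hsup']; rfl
  have hcardP : Nat.card ((P : Subgroup G).subgroupOf N) = p ^ (Nat.card ↥N).factorization p := by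
    rw [Cfsg.Agent.Lead.card_subgroupOf_of_le hPN]
    apply Cfsg.Agent.Lead.card_eq_ppart_of_le hPN (le_top : N ≤ ⊤) P.2
    rw [Subgroup.card_top]; exact P.card_eq_multiplicity
  have hnd : ¬ p ∣ ((P : Subgroup G).subgroupOf N).index := by
    have := (Sylow.ofCard _ hcardP).not_dvd_index
    rw [Sylow.coe_ofCard] at this
    exact this
  have hcop : (Nat.card ((P : Subgroup G).subgroupOf N)).Coprime (Nat.card (V.subgroupOf N)) := by
    rw [← hc.symm.index_eq_card, hcardP]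
    exact Nat.Coprime.pow_left _ ((Nat.Prime.coprime_iff_not_dvd hp.out).mpr hnd)
  have hPc : (P : Subgroup G).subgroupOf N ≤ commutator ↥N := by
    intro w hw
    have h2 := hPN' (Subgroup.mem_subgroupOf.mp hw)
    rw [← Subgroup.map_subtype_commutator] at h2
    obtain ⟨v, hv, hvw⟩ := h2
    rw [← Subtype.ext hvw]; exact hv
  have hKR := commutator_eq_of_le_commutator _ _ hsup' hinf' hcop inferInstance hPc
  have h5 := congrArg (Subgroup.map N.subtype) hKR
  rw [Subgroup.map_commutator, Subgroup.map_subgroupOf_eq_of_le hPN,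
    Subgroup.map_subgroupOf_eq_of_le hVN] at h5
  exact h5.symm

end Cfsg.Agent.Helper1.BGX
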