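import Mathlib
import Cfsg.Agent.S3769
import Cfsg.Agent.Helper1.BGVc
import Cfsg.Agent.Helper1.Coprime
import Cfsg.Agent.Helper1.SylowInt

set_option autoImplicit false

/-!
Bender–Glauberman, Section 3 ("prime action"): a `q`-group `Q` and a group `R₀` of prime order `r`
normalizing `Q` act on a normal `ℓ`-subgroup `L` with `C_L(R₀) = 1`; then `[R₀, Q]` centralizes `L`.
-/

namespace Cfsg.Agent.Helper1.BGPrimeAct

open Cfsg
open scoped Pointwise commutatorElement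

universe u

variable {G : Type u} [Group G]

/-- `Ω₁(Z(L))` as a subgroup of `G`. -/
def omegaZ (ℓ : ℕ) (L : Subgroup G) : Subgroup G where
  carrier := {z | z ∈ L ∧ (∀ y ∈ L, y * z = z * y) ∧ z ^ ℓ = 1}
  mul_mem' := by
    rintro a b ⟨ha, hac, hap⟩ ⟨hb, hbc, hbp⟩
    refine ⟨L.mul_mem ha hb, ?_, ?_⟩
    · intro y hy
      rw [← mul_assoc, hac y hy, mul_assoc, hbc y hy, mul_assoc]
    · have hab : Commute a b := (hac b hb).symm
      rw [hab.mul_pow, hap, hbp, one_mul]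
  one_mem' := ⟨L.one_mem, fun y _ => by rw [mul_one, one_mul], one_pow ℓ⟩
  inv_mem' := by
    rintro a ⟨ha, hac, hap⟩
    refine ⟨L.inv_mem ha, ?_, by rw [inv_pow, hap, inv_one]⟩
    intro y hy
    have h := hac y hy
    calc y * a⁻¹ = a⁻¹ * (a * y) * a⁻¹ := by group
      _ = a⁻¹ * (y * a) * a⁻¹ := by rw [h]
      _ = a⁻¹ * y := by group

theorem mem_omegaZ {ℓ : ℕ} {L : Subgroup G} {z : G} :
    z ∈ omegaZ ℓ L ↔ z ∈ L ∧ (∀ y ∈ L, y * z = z * y) ∧ z ^ ℓ = 1 := Iff.rfl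

theorem omegaZ_le (ℓ : ℕ) (L : Subgroup G) : omegaZ ℓ L ≤ L := fun _ hz => hz.1

theorem omegaZ_isElementaryAbelian (ℓ : ℕ) (L : Subgroup G) :
    Cfsg.IsElementaryAbelian ℓ (omegaZ ℓ L) := by
  refine ⟨⟨⟨fun a b => ?_⟩⟩, fun a ha => ha.2.2⟩
  apply Subtype.ext
  exact (b.2.2.1 (a : G) a.2.1)

instance omegaZ_normal (ℓ : ℕ) (L : Subgroup G) [hL : L.Normal] : (omegaZ ℓ L).Normal := by
  constructor
  rintro z ⟨hz, hzc, hzp⟩ g
  refine ⟨hL.conj_mem z hz g, ?_, ?_⟩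
  · intro y hy
    have h1 : g⁻¹ * y * g ∈ L := by
      have := hL.conj_mem y hy g⁻¹
      rwa [inv_inv] at this
    have h2 := hzc _ h1
    calc y * (g * z * g⁻¹) = g * ((g⁻¹ * y * g) * z) * g⁻¹ := by group
      _ = g * (z * (g⁻¹ * y * g)) * g⁻¹ := by rw [h2]
      _ = g * z * g⁻¹ * y := by group
  · rw [conj_pow, hzp, mul_one, mul_inv_cancel]

theorem omegaZ_ne_bot [Finite G] {ℓ : ℕ} [hℓ : Fact ℓ.Prime] {L : Subgroup G} (hL : IsPGroup ℓ ↥L)
    (hne : L ≠ ⊥) : omegaZ ℓ L ≠ ⊥ := by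
  have h1 := Cfsg.Agent.Helper1.BGV.center_inf_ne_bot hL hne
  have h2 : ℓ ∣ Nat.card ↥(L ⊓ Subgroup.centralizer (L : Set G)) :=
    Cfsg.Agent.Helper1.BGV.dvd_card_of_isPGroup_ne_bot (hL.to_le inf_le_left) h1
  obtain ⟨z, hz⟩ := exists_prime_orderOf_dvd_card' ℓ h2
  intro hbot
  have hzmem : (z : G) ∈ omegaZ ℓ L := by
    refine ⟨z.2.1, ?_, ?_⟩
    · intro y hy
      exact (Subgroup.mem_centralizer_iff.mp z.2.2 y hy)
    · have : z ^ ℓ = 1 := by rw [← hz]; exact pow_orderOf_eq_one z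
      have h3 := congrArg (fun w : ↥(L ⊓ Subgroup.centralizer (L : Set G)) => (w : G)) this
      simpa using h3
  rw [hbot, Subgroup.mem_bot] at hzmem
  have hz1 : z = 1 := Subtype.ext hzmem
  rw [hz1, orderOf_one] at hz
  exact hℓ.out.ne_one hz.symm

/-- an element acting trivially on `Z` and on `L/Z`, of order prime to the exponent `ℓ` of `Z`,
centralizes `L`. -/
theorem commute_of_trivial_on_factors {ℓ : ℕ} {L : Subgroup G} {d : G}
    (hdZ : ∀ z ∈ omegaZ ℓ L, d * z = z * d)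
    (hdL : ∀ y ∈ L, y⁻¹ * (d * y * d⁻¹) ∈ omegaZ ℓ L)
    (hcop : (orderOf d).Coprime ℓ) : ∀ y ∈ L, d * y = y * d := by
  intro y hy
  obtain ⟨z, hz⟩ : ∃ z, z = y⁻¹ * (d * y * d⁻¹) := ⟨_, rfl⟩
  have hzZ : z ∈ omegaZ ℓ L := hz ▸ hdL y hy
  have hdy : d * y * d⁻¹ = y * z := by rw [hz]; group
  have hdz : d * z * d⁻¹ = z := by rw [hdZ z hzZ]; group
  have hpow : ∀ n : ℕ, d ^ n * y * (d ^ n)⁻¹ = y * z ^ n := by
    intro n
    induction n with
    | zero => simp
    | succ n ih =>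
      have hzn : d * z ^ n * d⁻¹ = z ^ n := by
        rw [← conj_pow, hdz]
      calc d ^ (n + 1) * y * (d ^ (n + 1))⁻¹ = d * (d ^ n * y * (d ^ n)⁻¹) * d⁻¹ := by
            rw [pow_succ']; group
        _ = d * (y * z ^ n) * d⁻¹ := by rw [ih]
        _ = (d * y * d⁻¹) * (d * z ^ n * d⁻¹) := by group
        _ = y * z * z ^ n := by rw [hdy, hzn]
        _ = y * z ^ (n + 1) := by rw [pow_succ', mul_assoc]
  have h1 := hpow (orderOf d)
  rw [pow_orderOf_eq_one, one_mul, inv_one, mul_one] at h1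
  have h2 : z ^ orderOf d = 1 := by
    have : y * 1 = y * z ^ orderOf d := by rw [mul_one]; exact h1
    exact (mul_left_cancel this).symm
  have h3 : orderOf z ∣ orderOf d := orderOf_dvd_of_pow_eq_one h2
  have h4 : orderOf z ∣ ℓ := orderOf_dvd_of_pow_eq_one hzZ.2.2
  have h5 : orderOf z = 1 := Nat.eq_one_of_dvd_coprimes hcop h3 h4
  have h6 : z = 1 := orderOf_eq_one_iff.1 h5
  rw [h6, mul_one] at hdy
  calc d * y = d * y * d⁻¹ * d := by group
    _ = y * d := by rw [hdy]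

/-- the image of `L` in `G ⧸ Z` is smaller than `L` when `1 ≠ Z ≤ L`. -/
theorem card_map_mk_lt [Finite G] (Z L : Subgroup G) [Z.Normal] (hZL : Z ≤ L) (hZ : Z ≠ ⊥) :
    Nat.card (L.map (QuotientGroup.mk' Z)) < Nat.card L := by
  have h1 : (L.map (QuotientGroup.mk' Z)).index = L.index :=
    Subgroup.index_map_eq L (QuotientGroup.mk'_surjective Z) (by rw [QuotientGroup.ker_mk']; exact hZL)
  have h2 := (L.map (QuotientGroup.mk' Z)).card_mul_index
  have h3 := L.card_mul_index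
  have h4 := Subgroup.card_eq_card_quotient_mul_card_subgroup Z
  rw [h1] at h2
  have hidx : 0 < L.index := Nat.pos_of_ne_zero (Subgroup.index_ne_zero_of_finite)
  have hZ2 : 2 ≤ Nat.card Z := by
    have h5 : Nat.card Z ≠ 1 := fun h => hZ (Subgroup.card_eq_one.mp h)
    have h6 : 0 < Nat.card Z := Nat.card_pos
    omega
  have h7 : Nat.card (L.map (QuotientGroup.mk' Z)) * Nat.card Z * L.index = Nat.card L * L.index := by
    rw [h3, h4, ← h2]; ring
  have h8 : Nat.card (L.map (QuotientGroup.mk' Z)) * Nat.card Z = Nat.card L :=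
    Nat.eq_of_mul_eq_mul_right hidx h7
  have h9 : 0 < Nat.card (L.map (QuotientGroup.mk' Z)) := Nat.card_pos
  nlinarith

theorem relIndex_sup_eq [Finite G] {Q R₀ : Subgroup G} (hRQ : R₀ ≤ Subgroup.normalizer (Q : Set G))
    (hdisj : R₀ ⊓ Q = ⊥) : Q.relIndex (Q ⊔ R₀) = Nat.card R₀ := by
  have h1 := Subgroup.relIndex_mul_relIndex (⊥ : Subgroup G) Q (Q ⊔ R₀) bot_le le_sup_left
  rw [Subgroup.relIndex_bot_left, Subgroup.relIndex_bot_left,
    Cfsg.Agent.Helper1.card_sup_of_le_normalizer hRQ hdisj, mul_comm] at h1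
  exact Nat.eq_of_mul_eq_mul_right Nat.card_pos h1

theorem commutator_le_centralizer_aux {ℓ q r : ℕ} (hℓ : ℓ.Prime) (hq : q.Prime) (hr : r.Prime)
    (hℓq : ℓ ≠ q) (hℓr : ℓ ≠ r) (hqr : q ≠ r) :
    ∀ n : ℕ, ∀ (G : Type u) [Group G] [Finite G] [Group.IsSolvable G], Odd (Nat.card G) →
      ∀ (L Q R₀ : Subgroup G), L.Normal → IsPGroup ℓ ↥L → IsPGroup q ↥Q → Nat.card R₀ = r →
        R₀ ≤ Subgroup.normalizer (Q : Set G) → L ⊓ Subgroup.centralizer (R₀ : Set G) = ⊥ →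
        Nat.card L = n → ⁅R₀, Q⁆ ≤ Subgroup.centralizer (L : Set G) := by
  intro n
  induction n using Nat.strong_induction_on with
  | _ n ih =>
    intro G _ _ _ hodd L Q R₀ hLn hL hQ hR₀ hRQ hfix hcard
    haveI := hLn
    haveI : Fact ℓ.Prime := ⟨hℓ⟩
    haveI : Fact q.Prime := ⟨hq⟩
    haveI : Fact r.Prime := ⟨hr⟩
    by_cases hL1 : L = ⊥
    · intro d _
      rw [Subgroup.mem_centralizer_iff]
      intro z hz
      rw [hL1, SetLike.mem_coe, Subgroup.mem_bot] at hz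
      rw [hz, one_mul, mul_one]
    obtain ⟨Z, hZdef⟩ : ∃ Z, Z = omegaZ ℓ L := ⟨_, rfl⟩
    haveI hZn : Z.Normal := hZdef ▸ omegaZ_normal ℓ L
    have hZL : Z ≤ L := hZdef ▸ omegaZ_le ℓ L
    have hZ1 : Z ≠ ⊥ := hZdef ▸ omegaZ_ne_bot hL hL1
    have hR₀p : IsPGroup r ↥R₀ := IsPGroup.of_card (n := 1) (by rw [hR₀, pow_one])
    have hRQd : R₀ ⊓ Q = ⊥ :=
      (Subgroup.disjoint_of_coprime_natCard
        (Cfsg.Agent.Helper1.BGV.isPGroup_card_coprime_card hqr.symm hR₀p hQ)).eq_bot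
    have hDQ : ⁅R₀, Q⁆ ≤ Q := by
      rw [Subgroup.commutator_comm]
      exact Subgroup.le_normalizer_iff_commutator_le_left.1 hRQ
    -- `[R₀, Q]` centralizes `Z`
    have hDZ : ⁅R₀, Q⁆ ≤ Subgroup.centralizer (Z : Set G) := by
      have hcardS : Nat.card (Q ⊔ R₀ : Subgroup G) = Nat.card R₀ * Nat.card Q :=
        Cfsg.Agent.Helper1.card_sup_of_le_normalizer hRQ hRQd
      obtain ⟨a, ha⟩ := IsPGroup.iff_card.mp hQ
      apply Cfsg.Agent.S3769.result (Q ⊔ R₀) inferInstance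
        (Odd.of_dvd_nat hodd (Subgroup.card_subgroup_dvd_card _)) Z hℓ
        (hZdef ▸ omegaZ_isElementaryAbelian ℓ L) ?_ ?_ Q R₀ le_sup_left ?_ ?_ le_sup_right
        (hR₀.symm ▸ hr) (by rw [inf_comm]; exact hRQd) rfl ?_
      · rw [hcardS, hR₀, ha]
        intro hd
        rcases (Nat.Prime.dvd_mul hℓ).mp hd with h | h
        · exact hℓr ((Nat.prime_dvd_prime_iff_eq hℓ hr).mp h)
        · exact hℓq ((Nat.prime_dvd_prime_iff_eq hℓ hq).mp (hℓ.dvd_of_dvd_pow h))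
      · rw [Subgroup.normalizer_eq_top_iff.mpr hZn]; exact le_top
      · exact sup_le Subgroup.le_normalizer hRQ
      · rw [relIndex_sup_eq hRQ hRQd, hR₀, ha]
        exact Nat.Coprime.pow_left a ((Nat.coprime_primes hq hr).mpr hqr)
      · rw [eq_bot_iff, ← hfix]
        exact inf_le_inf_right _ hZL
    -- the quotient
    obtain ⟨π, hπ⟩ : ∃ π : G →* G ⧸ Z, π = QuotientGroup.mk' Z := ⟨_, rfl⟩
    have hπs : Function.Surjective π := hπ ▸ QuotientGroup.mk'_surjective Z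
    have hker : π.ker = Z := by rw [hπ, QuotientGroup.ker_mk']
    have hlt : Nat.card (L.map π) < n := by
      rw [← hcard, hπ]; exact card_map_mk_lt Z L hZL hZ1
    have hoddq : Odd (Nat.card (G ⧸ Z)) :=
      Odd.of_dvd_nat hodd (Subgroup.card_quotient_dvd_card Z)
    have hR₀π : Nat.card (R₀.map π) = r := by
      have h1 : Nat.card (R₀.map π) ∣ r := hR₀ ▸ Subgroup.card_map_dvd R₀ π
      rcases (Nat.dvd_prime hr).mp h1 with h | h
      · exfalso
        have h2 : R₀.map π = ⊥ := Subgroup.card_eq_one.mp h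
        have h3 : R₀ ≤ Z := by
          rw [← hker]
          intro x hx
          rw [MonoidHom.mem_ker]
          have : π x ∈ R₀.map π := Subgroup.mem_map_of_mem π hx
          rw [h2, Subgroup.mem_bot] at this
          exact this
        have h4 : R₀ ≤ L ⊓ Subgroup.centralizer (R₀ : Set G) := by
          refine le_inf (h3.trans hZL) ?_
          have hcyc : IsCyclic ↥R₀ := isCyclic_of_prime_card (hR₀ ▸ rfl : Nat.card ↥R₀ = r)
          intro x hx
          rw [Subgroup.mem_centralizer_iff]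
          intro y hy
          haveI := hcyc
          have := (IsCyclic.isMulCommutative (α := ↥R₀)).is_comm.comm ⟨y, hy⟩ ⟨x, hx⟩
          exact congrArg Subtype.val this
        rw [hfix, le_bot_iff] at h4
        rw [h4, Subgroup.card_bot] at hR₀
        exact hr.one_lt.ne' hR₀.symm
      · exact h
    have hfixq : L.map π ⊓ Subgroup.centralizer ((R₀.map π : Subgroup (G ⧸ Z)) : Set (G ⧸ Z)) = ⊥ := by
      rw [eq_bot_iff]
      rintro _ ⟨⟨y, hy, rfl⟩, hyc⟩
      rw [Subgroup.mem_bot]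
      have hfix' : ∀ a ∈ R₀, a * y * a⁻¹ * y⁻¹ ∈ Z := by
        intro a ha
        rw [← hker, MonoidHom.mem_ker, map_mul, map_mul, map_mul, map_inv, map_inv]
        have := Subgroup.mem_centralizer_iff.mp hyc (π a) (Subgroup.mem_map_of_mem π ha)
        rw [this]; group
      have hcop : (Nat.card R₀).Coprime (Nat.card L) :=
        Cfsg.Agent.Helper1.BGV.isPGroup_card_coprime_card hℓr.symm hR₀p hL
      obtain ⟨c, hc, hyc'⟩ := Cfsg.Agent.Helper1.coprime_fixed_coset R₀ L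
        ((Subgroup.normalizer_eq_top_iff.mpr hLn).symm ▸ le_top) hcop
        (Or.inl inferInstance)
        Z hZL ((Subgroup.normalizer_eq_top_iff.mpr hZn).symm ▸ le_top)
        ((Subgroup.normalizer_eq_top_iff.mpr hZn).symm ▸ le_top) y hy hfix'
      rw [hfix, Subgroup.mem_bot] at hc
      rw [hc, mul_one] at hyc'
      have : y ∈ π.ker := by rw [hker]; simpa using Z.inv_mem hyc'
      exact MonoidHom.mem_ker.mp this
    have hIH := ih (Nat.card (L.map π)) hlt (G ⧸ Z) hoddq (L.map π) (Q.map π) (R₀.map π)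
      (Subgroup.Normal.map hLn π hπs) (hL.map π) (hQ.map π) hR₀π
      ((Subgroup.map_mono hRQ).trans (Subgroup.le_normalizer_map π)) hfixq rfl
    rw [← Subgroup.map_commutator] at hIH
    -- conclude
    intro d hd
    rw [Subgroup.mem_centralizer_iff]
    intro y hy
    have hdq : IsPGroup q ↥(Subgroup.zpowers d) := hQ.to_le ((Subgroup.zpowers_le).mpr (hDQ hd))
    have hcop : (orderOf d).Coprime ℓ := by
      rw [← Nat.card_zpowers]
      exact Cfsg.Agent.Helper1.BGV.isPGroup_card_coprime hℓ hℓq.symm hdq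
    have key := commute_of_trivial_on_factors (ℓ := ℓ) (L := L) (d := d) ?_ ?_ hcop y hy
    · exact key.symm
    · intro z hz
      have := Subgroup.mem_centralizer_iff.mp (hDZ hd) z (hZdef ▸ hz)
      exact this.symm
    · intro y' hy'
      rw [← hZdef, ← hker, MonoidHom.mem_ker, map_mul, map_inv, map_mul, map_mul, map_inv]
      have := Subgroup.mem_centralizer_iff.mp (hIH (Subgroup.mem_map_of_mem π hd)) (π y')
        (Subgroup.mem_map_of_mem π hy')
      rw [← this]; group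

/-- **Lemma T**: `[R₀, Q]` centralizes the normal `ℓ`-subgroup `L` when `C_L(R₀) = 1`. -/
theorem commutator_le_centralizer [Finite G] [Group.IsSolvable G] (hodd : Odd (Nat.card G))
    {ℓ q r : ℕ} (hℓ : ℓ.Prime) (hq : q.Prime) (hr : r.Prime)
    (hℓq : ℓ ≠ q) (hℓr : ℓ ≠ r) (hqr : q ≠ r) (L Q R₀ : Subgroup G) [hLn : L.Normal]
    (hL : IsPGroup ℓ ↥L) (hQ : IsPGroup q ↥Q) (hR₀ : Nat.card R₀ = r)
    (hRQ : R₀ ≤ Subgroup.normalizer (Q : Set G))
    (hfix : L ⊓ Subgroup.centralizer (R₀ : Set G) = ⊥) :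
    ⁅R₀, Q⁆ ≤ Subgroup.centralizer (L : Set G) :=
  commutator_le_centralizer_aux hℓ hq hr hℓq hℓr hqr _ G hodd L Q R₀ hLn hL hQ hR₀ hRQ hfix rfl

/-- a coprime action that is trivial on `F(K)` is trivial on the solvable group `K`. -/
theorem le_centralizer_of_le_centralizer_fittingOf [Finite G] (A K : Subgroup G)
    (hAK : A ≤ Subgroup.normalizer (K : Set G)) (hcop : (Nat.card A).Coprime (Nat.card K))
    (hsol : Group.IsSolvable ↥K)
    (hAF : A ≤ Subgroup.centralizer ((Cfsg.fittingOf K : Subgroup G) : Set G)) :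
    A ≤ Subgroup.centralizer (K : Set G) := by
  obtain ⟨F, hF⟩ : ∃ F, F = Cfsg.fittingOf K := ⟨_, rfl⟩
  rw [← hF] at hAF
  have hFK : F ≤ K := hF ▸ Cfsg.Agent.Helper1.BGV.fittingOf_le K
  have hKF : K ≤ Subgroup.normalizer (F : Set G) :=
    hF ▸ Cfsg.Agent.Helper1.BGV.le_normalizer_fittingOf K
  have h1 : ⁅A, F⁆ = ⊥ := Subgroup.commutator_eq_bot_iff_le_centralizer.mpr hAF
  have h1' : ⁅F, A⁆ = ⊥ := by rw [Subgroup.commutator_comm]; exact h1
  have h2 : ⁅⁅A, F⁆, K⁆ = ⊥ := by rw [h1, Subgroup.commutator_bot_left]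
  have h3 : ⁅⁅F, K⁆, A⁆ = ⊥ := by
    rw [eq_bot_iff, ← h1']
    apply Subgroup.commutator_mono _ le_rfl
    exact Subgroup.le_normalizer_iff_commutator_le_left.1 hKF
  have h4 : ⁅⁅K, A⁆, F⁆ = ⊥ := Subgroup.commutator_commutator_eq_bot_of_rotate h2 h3
  have h5 : ⁅K, A⁆ ≤ K := Subgroup.le_normalizer_iff_commutator_le_left.1 hAK
  have h6 : ⁅K, A⁆ ≤ F := by
    have h7 : ⁅K, A⁆ ≤ Subgroup.centralizer (F : Set G) :=
      Subgroup.commutator_eq_bot_iff_le_centralizer.mp h4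
    rw [hF]
    exact (le_inf h5 (hF ▸ h7)).trans
      (Cfsg.Agent.Helper1.BGV.inf_centralizer_fittingOf_le K hsol)
  have h8 : ⁅⁅K, A⁆, A⁆ = ⊥ := by
    rw [eq_bot_iff, ← h1']
    exact Subgroup.commutator_mono h6 le_rfl
  rw [Cfsg.Agent.Helper1.coprime_commutator_commutator A K hAK hcop (Or.inr hsol)] at h8
  rw [Subgroup.commutator_comm] at h8
  exact Subgroup.commutator_eq_bot_iff_le_centralizer.mp h8

end Cfsg.Agent.Helper1.BGPrimeAct
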