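import Mathlib
import Cfsg.Prelude
import Cfsg.Agent.Helper1.BGXh

set_option autoImplicit false

/-!
Bender–Glauberman, Section 10: Corollary 10.7(d), (e), (f) (`S1413`), modulo `p`-length one.
-/

namespace Cfsg.Agent.Helper1.BGX

open Cfsg Cfsg.Agent.Helper1 Cfsg.Agent.Helper2 Cfsg.Agent.Helper1.BGT Cfsg.Agent.Helper1.BGU
  Cfsg.Agent.Helper1.BGV Cfsg.Agent.Helper1.BGW Cfsg.Agent.Helper3
open scoped commutatorElement Pointwise

universe u

section generic

variable {G : Type u} [Group G]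

theorem map_conj_eq_of_eq_mul {Q : Subgroup G} {x g c : G}
    (hc : c ∈ Subgroup.centralizer (Q : Set G)) (e : x = g * c) :
    Q.map (MulAut.conj x).toMonoidHom = Q.map (MulAut.conj g).toMonoidHom := by
  have key : ∀ z ∈ Q, x * z * x⁻¹ = g * z * g⁻¹ := by
    intro z hz
    have h1 : z * c = c * z := Subgroup.mem_centralizer_iff.mp hc z hz
    rw [e]
    calc g * c * z * (g * c)⁻¹ = g * (c * z) * c⁻¹ * g⁻¹ := by group
      _ = g * (z * c) * c⁻¹ * g⁻¹ := by rw [h1]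
      _ = g * z * g⁻¹ := by group
  ext w
  constructor
  · rintro ⟨z, hz, rfl⟩
    exact ⟨z, hz, (key z hz).symm⟩
  · rintro ⟨z, hz, rfl⟩
    exact ⟨z, hz, key z hz⟩

theorem mem_normalizer_of_map_conj_eq [Finite G] {Q : Subgroup G} {g : G}
    (h : Q.map (MulAut.conj g).toMonoidHom = Q) : g ∈ Subgroup.normalizer (Q : Set G) := by
  apply Subgroup.mem_normalizer_fintype
  intro n hn
  have : g * n * g⁻¹ ∈ Q.map (MulAut.conj g).toMonoidHom := ⟨n, hn, rfl⟩
  rw [h] at this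
  exact this

theorem map_conj_eq_of_mem_normalizer' {Q : Subgroup G} {g : G}
    (h : g ∈ Subgroup.normalizer (Q : Set G)) : Q.map (MulAut.conj g).toMonoidHom = Q := by
  ext w
  constructor
  · rintro ⟨z, hz, rfl⟩
    exact (Subgroup.mem_normalizer_iff.mp h z).mp hz
  · intro hw
    refine ⟨g⁻¹ * w * g, ?_, ?_⟩
    · have := (Subgroup.mem_normalizer_iff.mp (Subgroup.inv_mem _ h) w).mp hw
      rwa [inv_inv] at this
    · simp only [MulEquiv.coe_toMonoidHom, MulAut.conj_apply]; group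

end generic

variable {G : Type u} [Group G] [Finite G]

variable {M : Subgroup G} {p : ℕ} [hp : Fact p.Prime] {P : Subgroup G}

/-- Fusion inside `M` is controlled by `N(P)` (a consequence of `p`-length one). -/
theorem SigCtx.fusion (c : SigCtx M p P) (hpl : PL1 G) {Q : Subgroup G} (hQP : Q ≤ P)
    {m : G} (hm : m ∈ M) (h : ∀ y ∈ Q, m * y * m⁻¹ ∈ P) :
    ∃ g ∈ Subgroup.normalizer (P : Set G), ∃ c' ∈ Subgroup.centralizer (Q : Set G), g * c' = m := by
  have hG := c.min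
  haveI : Group.IsSolvable ↥M := hG.2.2.2 M c.coatom.1
  have hcard : Nat.card (P.subgroupOf M) = p ^ (Nat.card M).factorization p := by
    rw [Cfsg.Agent.Lead.card_subgroupOf_of_le c.le]; exact c.cardM
  obtain ⟨S, hS⟩ : ∃ S : Sylow p ↥M, (S : Subgroup ↥M) = P.subgroupOf M :=
    ⟨Sylow.ofCard (P.subgroupOf M) hcard, Sylow.coe_ofCard _ _⟩
  obtain ⟨-, h2, -⟩ := pLength_one_facts p (hpl p M c.coatom.1) S
  obtain ⟨g, hg, c', hc', e⟩ := h2 ((Q.subgroupOf M : Subgroup ↥M) : Set ↥M) ⟨m, hm⟩ (by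
      intro y hy
      rw [SetLike.mem_coe, hS]
      exact Subgroup.mem_subgroupOf.mpr (hQP (Subgroup.mem_subgroupOf.mp hy))) (by
      rintro _ ⟨y, hy, rfl⟩
      rw [SetLike.mem_coe, hS]
      exact Subgroup.mem_subgroupOf.mpr (h _ (Subgroup.mem_subgroupOf.mp hy)))
  refine ⟨(g : G), ?_, (c' : G), ?_, congrArg Subtype.val e⟩
  · apply Subgroup.mem_normalizer_fintype
    intro y hy
    have hy' : (⟨y, c.le hy⟩ : ↥M) ∈ (S : Subgroup ↥M) := by
      rw [hS]; exact Subgroup.mem_subgroupOf.mpr hy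
    have h3 := (Subgroup.mem_normalizer_iff.mp hg ⟨y, c.le hy⟩).mp hy'
    rw [hS] at h3
    exact Subgroup.mem_subgroupOf.mp h3
  · refine Subgroup.mem_centralizer_iff.mpr ?_
    intro y hy
    have := Subgroup.mem_centralizer_iff.mp hc' ⟨y, c.le (hQP hy)⟩
      (Subgroup.mem_subgroupOf.mpr hy)
    exact congrArg Subtype.val this

/-- Bender–Glauberman Corollary 10.7(d). -/
theorem SigCtx.cor107d (c : SigCtx M p P) (hpl : PL1 G) (Q : Subgroup G) (x : G) (hQP : Q ≤ P)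
    (hx : Q.map (MulAut.conj x).toMonoidHom ≤ P) :
    ∃ y ∈ Subgroup.normalizer (P : Set G),
      Q.map (MulAut.conj x).toMonoidHom = Q.map (MulAut.conj y).toMonoidHom := by
  by_cases hQ1 : Q = ⊥
  · subst hQ1
    exact ⟨1, Subgroup.one_mem _, by rw [Subgroup.map_bot, Subgroup.map_bot]⟩
  obtain ⟨m, hm, c₁, hc₁, e₁⟩ := c.trans Q (hQP.trans c.le) (c.pgroup.to_le hQP) hQ1 x
    (fun y hy => c.le (hx ⟨y, hy, rfl⟩))
  have h1 := map_conj_eq_of_eq_mul hc₁ e₁
  obtain ⟨g, hg, c₂, hc₂, e₂⟩ := c.fusion hpl hQP hm (by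
    intro y hy
    have : m * y * m⁻¹ ∈ Q.map (MulAut.conj m).toMonoidHom := ⟨y, hy, rfl⟩
    rw [← h1] at this
    exact hx this)
  exact ⟨g, hg, h1.trans (map_conj_eq_of_eq_mul hc₂ e₂.symm)⟩

/-- Weak closure: a subgroup of `P` normal in `N(P)` is normalized by every `g` with
`Q^g ≤ P`. -/
theorem SigCtx.mem_normalizer_of_map_conj_le (c : SigCtx M p P) (hpl : PL1 G) {Q : Subgroup G}
    (hQP : Q ≤ P) (hN : Subgroup.normalizer (P : Set G) ≤ Subgroup.normalizer (Q : Set G))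
    {g : G} (hg : Q.map (MulAut.conj g).toMonoidHom ≤ P) :
    g ∈ Subgroup.normalizer (Q : Set G) := by
  obtain ⟨y, hy, e⟩ := c.cor107d hpl Q g hQP hg
  rw [map_conj_eq_of_mem_normalizer' (hN hy)] at e
  exact mem_normalizer_of_map_conj_eq e

/-- Bender–Glauberman Corollary 10.7(f). -/
theorem SigCtx.cor107f (c : SigCtx M p P) (hpl : PL1 G) (R Q : Subgroup G) (hR : IsPGroup p ↥R)
    (hQ : Q ≤ P ⊓ R)
    (hN : Subgroup.normalizer (P : Set G) ≤ Subgroup.normalizer (Q : Set G)) :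
    Subgroup.normalizer (R : Set G) ≤ Subgroup.normalizer (Q : Set G) := by
  obtain ⟨g, hg⟩ := Cfsg.Agent.Lead.exists_conj_le_sylow (Sylow.ofCard P c.cardG) R hR
  rw [Sylow.coe_ofCard] at hg
  have hQP : Q ≤ P := hQ.trans inf_le_left
  have hQR : Q ≤ R := hQ.trans inf_le_right
  have h1 : g ∈ Subgroup.normalizer (Q : Set G) :=
    c.mem_normalizer_of_map_conj_le hpl hQP hN ((Subgroup.map_mono hQR).trans hg)
  intro n hn
  have h2 : g * n ∈ Subgroup.normalizer (Q : Set G) := by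
    apply c.mem_normalizer_of_map_conj_le hpl hQP hN
    rintro _ ⟨z, hz, rfl⟩
    have hz' : n * z * n⁻¹ ∈ R := (Subgroup.mem_normalizer_iff.mp hn z).mp (hQR hz)
    have : (MulAut.conj (g * n)).toMonoidHom z = g * (n * z * n⁻¹) * g⁻¹ := by
      simp only [MulEquiv.coe_toMonoidHom, MulAut.conj_apply]; group
    rw [this]
    exact hg ⟨_, hz', rfl⟩
  have : n = g⁻¹ * (g * n) := by group
  rw [this]
  exact Subgroup.mul_mem _ (Subgroup.inv_mem _ h1) h2

/-- Bender–Glauberman Corollary 10.7(e). -/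
theorem SigCtx.cor107e (c : SigCtx M p P) (hpl : PL1 G) (Q : Subgroup G) (hQP : Q ≤ P) :
    ¬ p ∣ (P ⊓ Subgroup.normalizer (Q : Set G)).relIndex (Subgroup.normalizer (Q : Set G)) := by
  obtain ⟨L, hL⟩ : ∃ L : Subgroup G, L = Subgroup.normalizer (Q : Set G) := ⟨_, rfl⟩
  rw [← hL]
  have hDL : P ⊓ L ≤ L := inf_le_right
  have hDp : IsPGroup p ↥(P ⊓ L) := c.pgroup.to_le inf_le_left
  have hQD : Q ≤ P ⊓ L := le_inf hQP (by rw [hL]; exact Subgroup.le_normalizer)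
  obtain ⟨S, hDS, hSL, hSp, hScard⟩ := Cfsg.Agent.Lead.exists_le_card_eq_ppart hDp hDL
  obtain ⟨g, hg⟩ := Cfsg.Agent.Lead.exists_conj_le_sylow (Sylow.ofCard P c.cardG) S hSp
  rw [Sylow.coe_ofCard] at hg
  obtain ⟨y, hy, e⟩ := c.cor107d hpl Q g hQP ((Subgroup.map_mono (hQD.trans hDS)).trans hg)
  -- `n = y⁻¹ g ∈ N(Q)`
  have hn : y⁻¹ * g ∈ L := by
    rw [hL]
    apply Subgroup.mem_normalizer_fintype
    intro z hz
    have h1 : g * z * g⁻¹ ∈ Q.map (MulAut.conj y).toMonoidHom := by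
      rw [← e]; exact ⟨z, hz, rfl⟩
    obtain ⟨w, hw, hwz⟩ := h1
    have : y⁻¹ * g * z * (y⁻¹ * g)⁻¹ = w := by
      have h2 : y * w * y⁻¹ = g * z * g⁻¹ := hwz
      calc y⁻¹ * g * z * (y⁻¹ * g)⁻¹ = y⁻¹ * (g * z * g⁻¹) * y := by group
        _ = y⁻¹ * (y * w * y⁻¹) * y := by rw [h2]
        _ = w := by group
    rw [this]; exact hw
  have hle : S.map (MulAut.conj (y⁻¹ * g)).toMonoidHom ≤ P ⊓ L := by
    rintro _ ⟨s, hs, rfl⟩
    refine ⟨?_, ?_⟩
    · have h1 : g * s * g⁻¹ ∈ P := hg ⟨s, hs, rfl⟩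
      have h2 := (Subgroup.mem_normalizer_iff.mp (Subgroup.inv_mem _ hy) _).mp h1
      have : (MulAut.conj (y⁻¹ * g)).toMonoidHom s = y⁻¹ * (g * s * g⁻¹) * y⁻¹⁻¹ := by
        simp only [MulEquiv.coe_toMonoidHom, MulAut.conj_apply]; group
      rw [this]; exact h2
    · have : (MulAut.conj (y⁻¹ * g)).toMonoidHom s = (y⁻¹ * g) * s * (y⁻¹ * g)⁻¹ := rfl
      rw [this]
      exact L.mul_mem (L.mul_mem hn (hSL hs)) (L.inv_mem hn)
  have hcard : Nat.card S ≤ Nat.card ↥(P ⊓ L) := by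
    rw [← Cfsg.Agent.Lead.card_map_conj S (y⁻¹ * g)]
    exact Nat.card_le_card_of_injective _ (Subgroup.inclusion_injective hle)
  have hDS' : P ⊓ L = S := Subgroup.eq_of_le_of_card_ge hDS hcard
  have hcard' : Nat.card ((P ⊓ L).subgroupOf L) = p ^ (Nat.card L).factorization p := by
    rw [Cfsg.Agent.Lead.card_subgroupOf_of_le hDL, hDS']; exact hScard
  have := (Sylow.ofCard _ hcard').not_dvd_index
  rw [Sylow.coe_ofCard] at this
  exact this

/-- Bender–Glauberman Corollary 10.7(d), (e), (f) for a Sylow subgroup of `G`. -/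
theorem cor107def (hG : Cfsg.IsMinSimpleOddOrder G) (hpl : PL1 G) (p : ℕ) [hp : Fact p.Prime]
    (P : Sylow p G) :
    (∀ (Q : Subgroup G) (x : G), Q ≤ (P : Subgroup G) →
        Q.map (MulAut.conj x).toMonoidHom ≤ (P : Subgroup G) →
        ∃ y ∈ Subgroup.normalizer ((P : Subgroup G) : Set G),
          Q.map (MulAut.conj x).toMonoidHom = Q.map (MulAut.conj y).toMonoidHom) ∧
      (∀ Q : Subgroup G, Q ≤ (P : Subgroup G) →
        ¬ p ∣ ((P : Subgroup G) ⊓ Subgroup.normalizer (Q : Set G)).relIndex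
          (Subgroup.normalizer (Q : Set G))) ∧
      (∀ (R Q : Subgroup G), IsPGroup p R → Q ≤ (P : Subgroup G) ⊓ R →
        Subgroup.normalizer ((P : Subgroup G) : Set G) ≤ Subgroup.normalizer (Q : Set G) →
        Subgroup.normalizer (R : Set G) ≤ Subgroup.normalizer (Q : Set G)) := by
  by_cases hP1 : (P : Subgroup G) = ⊥
  · have hQ : ∀ Q : Subgroup G, Q ≤ (P : Subgroup G) → Q = ⊥ := fun Q hQ =>
      le_bot_iff.mp (hP1 ▸ hQ)
    have hNbot : Subgroup.normalizer (((⊥ : Subgroup G) : Subgroup G) : Set G) = ⊤ :=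
      Subgroup.normalizer_eq_top _
    refine ⟨fun Q x hQP _ => ?_, fun Q hQP => ?_, fun R Q _ hQPR _ => ?_⟩
    · rw [hQ Q hQP]
      exact ⟨1, Subgroup.one_mem _, by rw [Subgroup.map_bot, Subgroup.map_bot]⟩
    · rw [hQ Q hQP, hNbot, hP1, bot_inf_eq, Subgroup.relIndex_bot_left, Subgroup.card_top]
      intro hd
      exact P.ne_bot_of_dvd_card hd hP1
    · rw [hQ Q (hQPR.trans inf_le_left), hNbot]
      exact le_top
  obtain ⟨M, c⟩ := exists_sigCtx_of_sylow hG P hP1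
  exact ⟨fun Q x hQP hx => c.cor107d hpl Q x hQP hx, fun Q hQP => c.cor107e hpl Q hQP,
    fun R Q hR hQ hN => c.cor107f hpl R Q hR hQ hN⟩

end Cfsg.Agent.Helper1.BGX
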