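import Mathlib
import Cfsg.Agent.Helper1.BGPrimeActA
import Cfsg.Agent.Helper2.Layer

set_option autoImplicit false

/-!
Bender–Glauberman, Section 3: under a prime action with `C_{F(K)}(R) = 1`, `[K, R] ≤ F(K)`.
-/

namespace Cfsg.Agent.Helper1.BGPrimeAct

open Cfsg Cfsg.Agent.Helper1 Cfsg.Agent.Helper1.BGV
open scoped Pointwise commutatorElement

universe u

variable {G : Type u} [Group G]

/-- a `q`-subgroup of `M` of order dividing a number prime to `q` is trivial -/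
theorem pcoreOf_eq_bot_of_not_dvd [Finite G] {q : ℕ} [hq : Fact q.Prime] (M : Subgroup G)
    (h : ¬ q ∣ Nat.card M) : pcoreOf q M = ⊥ := by
  by_contra hne
  exact h ((dvd_card_of_isPGroup_ne_bot (pCoreOf_isPGroup q M) hne).trans
    (Subgroup.card_dvd_of_le (pCoreOf_le q M)))

theorem normal_of_normalizer_eq_top {H : Subgroup G}
    (h : ∀ g : G, g ∈ Subgroup.normalizer (H : Set G)) : H.Normal :=
  Subgroup.normalizer_eq_top_iff.mp (eq_top_iff.mpr (fun g _ => h g))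

/-- `O_ℓ(K)` is normal in `G` when `K` is. -/
theorem pcoreOf_normal [Finite G] (ℓ : ℕ) (K : Subgroup G) [hK : K.Normal] : (pcoreOf ℓ K).Normal :=
  normal_of_normalizer_eq_top (fun g => normalizer_le_normalizer_pcoreOf ℓ K
    ((Subgroup.normalizer_eq_top_iff.mpr hK).symm ▸ Subgroup.mem_top g))

/-- `F(K)` is normal in `G` when `K` is. -/
theorem fittingOf_normal (K : Subgroup G) [hK : K.Normal] : (Cfsg.fittingOf K).Normal := by
  haveI := Cfsg.Agent.Helper2.fittingSubgroup_characteristic (G := ↥K)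
  exact normal_of_normalizer_eq_top (fun g =>
    le_normalizer_map_of_characteristic K (Cfsg.fittingSubgroup ↥K)
      ((Subgroup.normalizer_eq_top_iff.mpr hK).symm ▸ Subgroup.mem_top g))

/-- the key step: `R` centralizes `O_q(K/F)`. -/
theorem pcoreOf_map_le_centralizer [Finite G] [Group.IsSolvable G] (hodd : Odd (Nat.card G))
    (K R : Subgroup G) [hKn : K.Normal] (hcop : (Nat.card K).Coprime (Nat.card R))
    (F : Subgroup G) (hFdef : F = Cfsg.fittingOf K) [hFn : F.Normal]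
    {r : ℕ} (hr : r.Prime) (x : G) (hxR : x ∈ R) (hxr : orderOf x = r)
    (hCx : K ⊓ Subgroup.centralizer ({x} : Set G) ≤ Subgroup.centralizer (R : Set G))
    (hfix : F ⊓ Subgroup.centralizer ((Subgroup.zpowers x : Subgroup G) : Set G) = ⊥)
    (q : ℕ) [hq : Fact q.Prime] :
    pcoreOf q (K.map (QuotientGroup.mk' F)) ≤
      Subgroup.centralizer ((R.map (QuotientGroup.mk' F) : Subgroup (G ⧸ F)) : Set (G ⧸ F)) := by
  classical
  obtain ⟨π, hπ⟩ : ∃ π : G →* G ⧸ F, π = QuotientGroup.mk' F := ⟨_, rfl⟩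
  rw [← hπ]
  have hπs : Function.Surjective π := hπ ▸ QuotientGroup.mk'_surjective F
  have hker : π.ker = F := by rw [hπ, QuotientGroup.ker_mk']
  have hFK : F ≤ K := hFdef ▸ fittingOf_le K
  obtain ⟨R₀, hR₀def⟩ : ∃ R₀ : Subgroup G, R₀ = Subgroup.zpowers x := ⟨_, rfl⟩
  rw [← hR₀def] at hfix
  have hR₀R : R₀ ≤ R := hR₀def ▸ (Subgroup.zpowers_le.mpr hxR)
  have hR₀card : Nat.card R₀ = r := by rw [hR₀def, Nat.card_zpowers, hxr]
  have hxR₀ : x ∈ R₀ := hR₀def ▸ Subgroup.mem_zpowers x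
  have hrR : r ∣ Nat.card R := hR₀card ▸ Subgroup.card_dvd_of_le hR₀R
  have hrK : ¬ r ∣ Nat.card K := by
    intro h
    have := Nat.eq_one_of_dvd_coprimes hcop h hrR
    exact hr.one_lt.ne' this
  -- `Ȳ` and `Y`
  obtain ⟨Kb, hKb⟩ : ∃ Kb : Subgroup (G ⧸ F), Kb = K.map π := ⟨_, rfl⟩
  rw [← hKb]
  haveI hKbn : Kb.Normal := hKb ▸ Subgroup.Normal.map hKn π hπs
  obtain ⟨Yb, hYb⟩ : ∃ Yb : Subgroup (G ⧸ F), Yb = pcoreOf q Kb := ⟨_, rfl⟩
  rw [← hYb]
  haveI hYbn : Yb.Normal := hYb ▸ pcoreOf_normal q Kb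
  have hYbq : IsPGroup q ↥Yb := hYb ▸ pCoreOf_isPGroup q Kb
  have hYbK : Yb ≤ Kb := hYb ▸ pCoreOf_le q Kb
  have hKbcard : Nat.card Kb ∣ Nat.card K := hKb ▸ Subgroup.card_map_dvd K π
  by_cases hqK : q ∣ Nat.card K
  swap
  · have : Yb = ⊥ := by
      rw [hYb]
      apply pcoreOf_eq_bot_of_not_dvd
      exact fun h => hqK (h.trans hKbcard)
    rw [this]; exact bot_le
  have hqr : q ≠ r := fun h => hrK (h ▸ hqK)
  obtain ⟨Y, hY⟩ : ∃ Y : Subgroup G, Y = Yb.comap π := ⟨_, rfl⟩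
  haveI hYn : Y.Normal := hY ▸ Subgroup.Normal.comap hYbn π
  have hFY : F ≤ Y := by
    rw [hY]
    intro f hf
    rw [Subgroup.mem_comap]
    have : π f = 1 := by rw [← MonoidHom.mem_ker, hker]; exact hf
    rw [this]; exact Subgroup.one_mem _
  have hYmap : Y.map π = Yb := by rw [hY]; exact Subgroup.map_comap_eq_self_of_surjective hπs Yb
  have hYK : Y ≤ K := by
    intro y hy
    have h1 : π y ∈ Kb := hYbK (by rw [hY] at hy; exact hy)
    rw [hKb] at h1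
    obtain ⟨k, hk, hky⟩ := h1
    have h2 : k⁻¹ * y ∈ F := by
      rw [← hker, MonoidHom.mem_ker, map_mul, map_inv, hky, inv_mul_cancel]
    have : y = k * (k⁻¹ * y) := by group
    rw [this]; exact K.mul_mem hk (hFK h2)
  have hcopY : (Nat.card R₀).Coprime (Nat.card Y) :=
    (hcop.coprime_dvd_left (Subgroup.card_dvd_of_le hYK)).symm.coprime_dvd_left
      (Subgroup.card_dvd_of_le hR₀R)
  have hR₀Y : R₀ ≤ Subgroup.normalizer (Y : Set G) :=
    (Subgroup.normalizer_eq_top_iff.mpr hYn).symm ▸ le_top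
  -- the invariant Sylow subgroup
  obtain ⟨P, hP⟩ := Cfsg.Agent.Helper1.exists_invariant_sylow (p := q) R₀ Y hR₀Y hcopY
    (Or.inl inferInstance)
  obtain ⟨Q₁, hQ₁⟩ : ∃ Q₁ : Subgroup G, Q₁ = (P : Subgroup Y).map Y.subtype := ⟨_, rfl⟩
  rw [← hQ₁] at hP
  have hQ₁Y : Q₁ ≤ Y := hQ₁ ▸ Subgroup.map_subtype_le _
  have hQ₁q : IsPGroup q ↥Q₁ := hQ₁ ▸ P.isPGroup'.map _
  have hDQ : ⁅R₀, Q₁⁆ ≤ Q₁ := by
    rw [Subgroup.commutator_comm]
    exact Subgroup.le_normalizer_iff_commutator_le_left.1 hP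
  -- `[R₀, Q₁]` centralizes every `O_ℓ(K)`, `ℓ ≠ q`
  have hDcent : ∀ ℓ : ℕ, ℓ.Prime → ℓ ≠ q →
      ⁅R₀, Q₁⁆ ≤ Subgroup.centralizer ((pcoreOf ℓ K : Subgroup G) : Set G) := by
    intro ℓ hℓ hℓq
    haveI : Fact ℓ.Prime := ⟨hℓ⟩
    by_cases hℓr : ℓ = r
    · have : pcoreOf ℓ K = ⊥ := pcoreOf_eq_bot_of_not_dvd K (hℓr ▸ hrK)
      rw [this]
      intro d _
      rw [Subgroup.mem_centralizer_iff]
      intro z hz
      rw [SetLike.mem_coe, Subgroup.mem_bot] at hz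
      rw [hz, one_mul, mul_one]
    haveI := pcoreOf_normal ℓ K
    apply commutator_le_centralizer hodd hℓ hq.out hr hℓq hℓr hqr (pcoreOf ℓ K) Q₁ R₀
      (pCoreOf_isPGroup ℓ K) hQ₁q hR₀card hP
    rw [eq_bot_iff, ← hfix, hFdef]
    exact inf_le_inf_right _ (pCoreOf_le_fittingOf ℓ K)
  -- the `q`-group `D₁`
  haveI hOqn : (pcoreOf q K).Normal := pcoreOf_normal q K
  obtain ⟨D₁, hD₁⟩ : ∃ D₁ : Subgroup G, D₁ = (Q₁ ⊔ pcoreOf q K) ⊓
      ⨅ ℓ : {ℓ : ℕ // ℓ.Prime ∧ ℓ ≠ q}, Subgroup.centralizer ((pcoreOf ℓ.1 K : Subgroup G) : Set G) :=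
    ⟨_, rfl⟩
  have hD₁mem : ∀ d : G, d ∈ D₁ ↔ d ∈ Q₁ ⊔ pcoreOf q K ∧ ∀ ℓ : ℕ, ℓ.Prime → ℓ ≠ q →
      ∀ z ∈ pcoreOf ℓ K, z * d = d * z := by
    intro d
    rw [hD₁, Subgroup.mem_inf, Subgroup.mem_iInf]
    constructor
    · rintro ⟨h1, h2⟩
      refine ⟨h1, fun ℓ hℓ hℓq z hz => ?_⟩
      exact Subgroup.mem_centralizer_iff.mp (h2 ⟨ℓ, hℓ, hℓq⟩) z hz
    · rintro ⟨h1, h2⟩
      refine ⟨h1, fun ℓ => ?_⟩
      rw [Subgroup.mem_centralizer_iff]
      exact fun z hz => h2 ℓ.1 ℓ.2.1 ℓ.2.2 z hz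
  have hQ₂q : IsPGroup q ↥(Q₁ ⊔ pcoreOf q K) :=
    IsPGroup.to_sup_of_normal_right hQ₁q (pCoreOf_isPGroup q K)
  have hOqF : pcoreOf q K ≤ F := hFdef ▸ pCoreOf_le_fittingOf q K
  have hQ₂Y : Q₁ ⊔ pcoreOf q K ≤ Y := sup_le hQ₁Y (hOqF.trans hFY)
  have hD₁q : IsPGroup q ↥D₁ := hQ₂q.to_le (hD₁ ▸ inf_le_left)
  have hD₁Y : D₁ ≤ Y := (hD₁ ▸ inf_le_left : D₁ ≤ Q₁ ⊔ pcoreOf q K).trans hQ₂Y
  have hDD₁ : ⁅R₀, Q₁⁆ ≤ D₁ := by
    intro d hd
    rw [hD₁mem]
    refine ⟨Subgroup.mem_sup_left (hDQ hd), fun ℓ hℓ hℓq z hz => ?_⟩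
    exact Subgroup.mem_centralizer_iff.mp (hDcent ℓ hℓ hℓq hd) z hz
  -- conjugation by elements normalizing `Q₁ ⊔ O_q(K)` preserves `D₁`
  have hconj : ∀ u : G, u ∈ Subgroup.normalizer ((Q₁ ⊔ pcoreOf q K : Subgroup G) : Set G) →
      ∀ d ∈ D₁, u * d * u⁻¹ ∈ D₁ := by
    intro u hu d hd
    rw [hD₁mem] at hd ⊢
    refine ⟨(Subgroup.mem_normalizer_iff.mp hu d).mp hd.1, fun ℓ hℓ hℓq z hz => ?_⟩
    haveI := pcoreOf_normal ℓ K
    have h1 : u⁻¹ * z * u ∈ pcoreOf ℓ K := by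
      have := (pcoreOf_normal ℓ K).conj_mem z hz u⁻¹
      rwa [inv_inv] at this
    have h2 := hd.2 ℓ hℓ hℓq _ h1
    calc z * (u * d * u⁻¹) = u * ((u⁻¹ * z * u) * d) * u⁻¹ := by group
      _ = u * (d * (u⁻¹ * z * u)) * u⁻¹ := by rw [h2]
      _ = u * d * u⁻¹ * z := by group
  have hFnorm : F ≤ Subgroup.normalizer (D₁ : Set G) := by
    rw [hFdef]
    apply fittingOf_le_of_forall
    intro ℓ hℓ
    haveI : Fact ℓ.Prime := ⟨hℓ⟩
    by_cases hℓq : ℓ = q
    · subst hℓq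
      intro u hu
      apply Subgroup.mem_normalizer_fintype
      intro d hd
      exact hconj u (Subgroup.le_normalizer (Subgroup.mem_sup_right hu)) d hd
    · intro u hu
      apply Subgroup.mem_normalizer_fintype
      intro d hd
      have h1 := ((hD₁mem d).mp hd).2 ℓ hℓ hℓq u hu
      have : u * d * u⁻¹ = d := by rw [h1]; group
      rw [this]; exact hd
  have hQ₁norm : Q₁ ≤ Subgroup.normalizer (D₁ : Set G) := by
    intro u hu
    apply Subgroup.mem_normalizer_fintype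
    intro d hd
    exact hconj u (Subgroup.le_normalizer (Subgroup.mem_sup_left hu)) d hd
  -- `Y = Q₁ F`
  have hYle : Y ≤ Q₁ ⊔ F := by
    rw [← Subgroup.relIndex_eq_one]
    have h1 : (Q₁ ⊔ F).relIndex Y ∣ Q₁.relIndex Y := Subgroup.relIndex_dvd_of_le_left Y le_sup_left
    have h2 : (Q₁ ⊔ F).relIndex Y ∣ F.relIndex Y := Subgroup.relIndex_dvd_of_le_left Y le_sup_right
    have h3 : F.relIndex Y = Nat.card Yb := by
      have h := Subgroup.relIndex_ker (K := Y) π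
      rw [hker, hYmap] at h
      exact h
    have h4 : Q₁.relIndex Y = (P : Subgroup Y).index := by
      rw [Subgroup.relIndex, hQ₁]
      congr 1
      ext y
      rw [Subgroup.mem_subgroupOf]
      constructor
      · rintro ⟨z, hz, hzy⟩
        have : z = y := Subtype.ext hzy
        rwa [← this]
      · intro hy
        exact ⟨y, hy, rfl⟩
    obtain ⟨a, ha⟩ := IsPGroup.iff_card.mp hYbq
    rw [h3, ha] at h2
    rw [h4] at h1
    have h5 : ¬ q ∣ (P : Subgroup Y).index := P.not_dvd_index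
    obtain ⟨b, -, hb⟩ := (Nat.dvd_prime_pow hq.out).mp h2
    rw [hb] at h1 ⊢
    rcases Nat.eq_zero_or_pos b with h0 | hpos
    · rw [h0, pow_zero]
    · exact absurd ((dvd_pow_self q hpos.ne').trans h1) h5
  have hYnorm : Y ≤ Subgroup.normalizer (D₁ : Set G) := hYle.trans (sup_le hQ₁norm hFnorm)
  -- `D₁ ≤ O_q(Y) ≤ O_q(K) ≤ F`
  have hD₁F : D₁ ≤ F := by
    have h1 : D₁ ≤ pcoreOf q Y := le_pCoreOf hD₁Y hD₁q hYnorm
    have h2 : pcoreOf q Y ≤ pcoreOf q K := by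
      apply le_pCoreOf ((pCoreOf_le q Y).trans hYK) (pCoreOf_isPGroup q Y)
      have := normalizer_le_normalizer_pcoreOf q Y
      rw [Subgroup.normalizer_eq_top_iff.mpr hYn] at this
      exact le_top.trans this
    exact (h1.trans h2).trans hOqF
  -- `[Y, R₀] ≤ F`
  have hYR₀ : ⁅Y, R₀⁆ ≤ F := by
    have h1 : Y ≤ (Subgroup.centralizer ((R₀.map π : Subgroup (G ⧸ F)) : Set (G ⧸ F))).comap π := by
      refine hYle.trans (sup_le ?_ ?_)
      · intro u hu
        rw [Subgroup.mem_comap, Subgroup.mem_centralizer_iff]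
        rintro _ ⟨a, ha, rfl⟩
        have h2 : ⁅a, u⁆ ∈ F := hD₁F (hDD₁ (Subgroup.commutator_mem_commutator ha hu))
        rw [← hker, MonoidHom.mem_ker, map_commutatorElement,
          commutatorElement_eq_one_iff_mul_comm] at h2
        exact h2
      · intro f hf
        rw [Subgroup.mem_comap, Subgroup.mem_centralizer_iff]
        intro z _
        have : π f = 1 := by rw [← MonoidHom.mem_ker, hker]; exact hf
        rw [this, one_mul, mul_one]
    rw [Subgroup.commutator_le]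
    intro y hy a ha
    have h2 := Subgroup.mem_centralizer_iff.mp (h1 hy) (π a) (Subgroup.mem_map_of_mem π ha)
    rw [← hker, MonoidHom.mem_ker, map_commutatorElement, commutatorElement_eq_one_iff_mul_comm]
    exact h2.symm
  -- `Y ≤ F C_K(R)`
  have hYdec := Cfsg.Agent.Helper1.coprime_commutator_sup_centralizer R₀ Y hR₀Y hcopY
    (Or.inl inferInstance)
  have hYC : Y ⊓ Subgroup.centralizer (R₀ : Set G) ≤ Subgroup.centralizer (R : Set G) := by
    intro y hy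
    apply hCx
    refine ⟨hYK hy.1, Subgroup.mem_centralizer_iff.mpr ?_⟩
    intro z hz
    rw [Set.mem_singleton_iff] at hz
    rw [hz]
    exact Subgroup.mem_centralizer_iff.mp hy.2 x hxR₀
  rw [← hYmap, ← hYdec, Subgroup.map_sup]
  refine sup_le ?_ ?_
  · have : (⁅Y, R₀⁆).map π = ⊥ := by
      rw [eq_bot_iff]
      rintro _ ⟨c, hc, rfl⟩
      rw [Subgroup.mem_bot, ← MonoidHom.mem_ker, hker]
      exact hYR₀ hc
    rw [this]; exact bot_le
  · rintro _ ⟨y, hy, rfl⟩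
    rw [Subgroup.mem_centralizer_iff]
    rintro _ ⟨ρ, hρ, rfl⟩
    have := Subgroup.mem_centralizer_iff.mp (hYC hy) ρ hρ
    rw [← map_mul, ← map_mul, this]

/-- **B&G, Section 3**: if `R` acts on `K` with prime action, `(|K|, |R|) = 1` and
`C_{F(K)}(R) = 1`, then `[K, R] ≤ F(K)`. -/
theorem commutator_le_fittingOf_of_prime_action [Finite G] [Group.IsSolvable G]
    (hodd : Odd (Nat.card G)) (K R : Subgroup G) [hKn : K.Normal]
    (hcop : (Nat.card K).Coprime (Nat.card R))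
    (hprime : ∀ x ∈ R, x ≠ 1 → K ⊓ Subgroup.centralizer ({x} : Set G) =
      (K ⊓ Subgroup.centralizer (R : Set G)))
    (hF : Cfsg.fittingOf K ⊓ Subgroup.centralizer (R : Set G) = ⊥) :
    ⁅K, R⁆ ≤ Cfsg.fittingOf K := by
  classical
  by_cases hR1 : R = ⊥
  · rw [hR1, Subgroup.commutator_bot_right]; exact bot_le
  -- an element of prime order
  have hcard : Nat.card R ≠ 1 := fun h => hR1 (Subgroup.card_eq_one.mp h)
  obtain ⟨r, hr, hrR⟩ := Nat.exists_prime_and_dvd hcard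
  haveI : Fact r.Prime := ⟨hr⟩
  obtain ⟨x', hx'⟩ := exists_prime_orderOf_dvd_card' r hrR
  obtain ⟨x, hx⟩ : ∃ x : G, x = (x' : G) := ⟨_, rfl⟩
  have hxR : x ∈ R := hx ▸ x'.2
  have hxr : orderOf x = r := by rw [hx, Subgroup.orderOf_coe, hx']
  have hx1 : x ≠ 1 := by
    intro h
    rw [h, orderOf_one] at hxr
    exact hr.one_lt.ne' hxr.symm
  obtain ⟨F, hFdef⟩ : ∃ F, F = Cfsg.fittingOf K := ⟨_, rfl⟩
  rw [← hFdef] at hF ⊢
  haveI hFn : F.Normal := hFdef ▸ fittingOf_normal K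
  have hFK : F ≤ K := hFdef ▸ fittingOf_le K
  have hCx : K ⊓ Subgroup.centralizer ({x} : Set G) ≤ Subgroup.centralizer (R : Set G) := by
    rw [hprime x hxR hx1]; exact inf_le_right
  have hfix : F ⊓ Subgroup.centralizer ((Subgroup.zpowers x : Subgroup G) : Set G) = ⊥ := by
    rw [eq_bot_iff, ← hF]
    intro y hy
    refine ⟨hy.1, hCx ⟨hFK hy.1, Subgroup.mem_centralizer_iff.mpr ?_⟩⟩
    intro z hz
    rw [Set.mem_singleton_iff] at hz
    rw [hz]
    exact Subgroup.mem_centralizer_iff.mp hy.2 x (Subgroup.mem_zpowers x)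
  -- the quotient
  obtain ⟨π, hπ⟩ : ∃ π : G →* G ⧸ F, π = QuotientGroup.mk' F := ⟨_, rfl⟩
  have hπs : Function.Surjective π := hπ ▸ QuotientGroup.mk'_surjective F
  have hker : π.ker = F := by rw [hπ, QuotientGroup.ker_mk']
  have hkey : ∀ q : ℕ, q.Prime → pcoreOf q (K.map π) ≤
      Subgroup.centralizer ((R.map π : Subgroup (G ⧸ F)) : Set (G ⧸ F)) := by
    intro q hq
    haveI : Fact q.Prime := ⟨hq⟩
    rw [hπ]
    exact pcoreOf_map_le_centralizer hodd K R hcop F hFdef hr x hxR hxr hCx hfix q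
  have hKbn : (K.map π).Normal := Subgroup.Normal.map hKn π hπs
  have h1 : R.map π ≤ Subgroup.centralizer ((Cfsg.fittingOf (K.map π) : Subgroup (G ⧸ F)) :
      Set (G ⧸ F)) := by
    intro ρ hρ
    apply mem_centralizer_fittingOf
    intro q hq y hy
    exact (Subgroup.mem_centralizer_iff.mp (hkey q hq hy) ρ hρ)
  have h2 : R.map π ≤ Subgroup.centralizer ((K.map π : Subgroup (G ⧸ F)) : Set (G ⧸ F)) := by
    apply le_centralizer_of_le_centralizer_fittingOf (R.map π) (K.map π)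
      ((Subgroup.normalizer_eq_top_iff.mpr hKbn).symm ▸ le_top) _ inferInstance h1
    exact (hcop.symm.coprime_dvd_left (Subgroup.card_map_dvd R π)).coprime_dvd_right
      (Subgroup.card_map_dvd K π)
  rw [Subgroup.commutator_le]
  intro k hk ρ hρ
  have h3 := Subgroup.mem_centralizer_iff.mp (h2 (Subgroup.mem_map_of_mem π hρ)) (π k)
    (Subgroup.mem_map_of_mem π hk)
  rw [← hker, MonoidHom.mem_ker, map_commutatorElement, commutatorElement_eq_one_iff_mul_comm]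
  exact h3

end Cfsg.Agent.Helper1.BGPrimeAct
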