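import Mathlib
import Cfsg.Prelude
import Cfsg.Agent.Helper1.BGTe
import Cfsg.Agent.Helper1.BGUb
import Cfsg.Agent.Helper1.BGXh
import Cfsg.Agent.Helper6.NarrowK
import Cfsg.Agent.Helper4.SubnormalNilp
import Cfsg.Agent.Lead.T36Final
import Cfsg.Agent.Lead.BG11a

set_option autoImplicit false
set_option linter.unusedSectionVars false
set_option linter.unusedVariables false

/-!
Bender–Glauberman, Theorem 10.11 (`max_normed_2Elem_signaliser`): for a noncyclic `p`-subgroup `A`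
satisfying the transitivity hypothesis, a prime `q ≠ p` dividing `|C_G(A)|` and a maximal
`A`-invariant `q`-subgroup `Q`, there is a Sylow `p`-subgroup `P ⊇ A` with
(a) `N(P) = O_{p'}(C(P)) (N(P) ∩ N(Q))`, (b) `P ≤ N(Q)'`, (c) `P ≤ C(Q)` if `Q` is narrow.
-/

namespace Cfsg.Agent.Helper1.BG1011

open Cfsg Cfsg.Agent.Helper1 Cfsg.Agent.Helper1.BGT
open scoped Pointwise commutatorElement

universe u

variable {G : Type u} [Group G] [Finite G]

/-- In a narrow `q`-subgroup `R`, the `q'`-elements of `⁅A, A⁆` centralize `R`, for `A ≤ N(R)` solvable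
of odd order. -/
theorem narrow_commutator_coprime_le_centralizer {q : ℕ} [hq : Fact q.Prime] (hq2 : q ≠ 2)
    (R A : Subgroup G) (hR : IsPGroup q R) (hRn : Cfsg.IsNarrow q R)
    (hA : A ≤ Subgroup.normalizer (R : Set G)) (hAs : Group.IsSolvable A)
    (hAodd : Odd (Nat.card A)) :
    ∀ z ∈ ⁅A, A⁆, (orderOf z).Coprime q → z ∈ Subgroup.centralizer (R : Set G) := by
  intro z hz hzcop
  by_cases hr : Cfsg.PRankLE q 2 R
  · exact Cfsg.Agent.Helper1.Rank2Struct.commutator_coprime_le_centralizer hq2 R A hR hr hA hAs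
      hAodd z hz hzcop
  · obtain ⟨x, hx⟩ := Cfsg.Agent.Helper6.Narrow.exists_nHyp_of_isNarrow hRn hr
    exact hx.commutator_coprime_le_centralizer hq2 R A hR hA z hz hzcop

omit [Finite G] in
/-- Conjugation carries `И(A; π)` to `И(A^k; π)`. -/
theorem conj_smul_mem_invSubgroups_top_gen {A Y : Subgroup G} {π : Set ℕ} (k : G)
    (hY : Y ∈ Cfsg.invSubgroups ⊤ A π) :
    MulAut.conj k • Y ∈ Cfsg.invSubgroups ⊤ (MulAut.conj k • A) π := by
  obtain ⟨-, h1, h2⟩ := hY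
  refine ⟨le_top, ?_, ?_⟩
  · intro p hp hd
    rw [card_conj_smul] at hd
    exact h1 p hp hd
  · rw [Cfsg.Agent.Lead.BG12.normalizer_conj_smul']
    exact Cfsg.Agent.Helper1.BGT.conj_smul_mono h2

omit [Finite G] in
/-- Conjugation carries `И*(A; π)` to `И*(A^k; π)`. -/
theorem conj_smul_mem_maxInvSubgroups_top_gen {A Q : Subgroup G} {π : Set ℕ} (k : G)
    (hQ : Q ∈ Cfsg.maxInvSubgroups ⊤ A π) :
    MulAut.conj k • Q ∈ Cfsg.maxInvSubgroups ⊤ (MulAut.conj k • A) π := by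
  refine ⟨conj_smul_mem_invSubgroups_top_gen k hQ.1, ?_⟩
  intro R hR hle
  have hR' := conj_smul_mem_invSubgroups_top_gen k⁻¹ hR
  rw [Cfsg.Agent.Lead.BG12.conj_smul_inv_smul] at hR'
  have hle' : Q ≤ MulAut.conj k⁻¹ • R := by
    have := Cfsg.Agent.Helper1.BGT.conj_smul_mono (k := k⁻¹) hle
    rwa [Cfsg.Agent.Lead.BG12.conj_smul_inv_smul] at this
  have h1 := hQ.2 _ hR' hle'
  rw [← h1, Cfsg.Agent.Lead.BG12.conj_smul_smul_inv]

omit [Finite G] in
theorem conj_smul_eq_self_of_mem_centralizer {A : Subgroup G} {c : G}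
    (hc : c ∈ Subgroup.centralizer (A : Set G)) : MulAut.conj c • A = A := by
  ext x
  rw [mem_conj_smul]
  have key : ∀ a ∈ A, c⁻¹ * a * c = a := by
    intro a ha
    have := Subgroup.mem_centralizer_iff.mp hc a ha
    rw [mul_assoc, this]; group
  constructor
  · intro hx
    have h1 : c * (c⁻¹ * x * c) = (c⁻¹ * x * c) * c :=
      (Subgroup.mem_centralizer_iff.mp hc _ hx).symm
    have h2 : x = c * (c⁻¹ * x * c) * c⁻¹ := by group
    rw [h2, h1]
    have h3 : c⁻¹ * x * c * c * c⁻¹ = c⁻¹ * x * c := by group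
    rw [h3]; exact hx
  · intro hx
    rw [key x hx]; exact hx

variable {A : Subgroup G} {p q : ℕ} [hp : Fact p.Prime]

/-- Theorem 10.11 for a Sylow `p`-subgroup `P ⊇ A` such that `Q` is maximal `P`-invariant. -/
theorem thm1011_aux (hG : Cfsg.IsMinSimpleOddOrder G) (h : Hyp A q) (hAp : IsPGroup p ↥A)
    (htr : ∀ Q₁ ∈ Cfsg.maxInvSubgroups ⊤ A {q}, ∀ Q₂ ∈ Cfsg.maxInvSubgroups ⊤ A {q},
      KConj (KK A) Q₁ Q₂)
    (P : Sylow p G) (hAP : A ≤ (P : Subgroup G)) {Q : Subgroup G}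
    (hQ : Q ∈ Cfsg.maxInvSubgroups ⊤ (P : Subgroup G) {q}) :
      Subgroup.normalizer ((P : Subgroup G) : Set G) =
        Cfsg.piCoreOf (Cfsg.primesNotDvd (Nat.card A))
            (Subgroup.centralizer ((P : Subgroup G) : Set G)) ⊔
          (Subgroup.normalizer ((P : Subgroup G) : Set G) ⊓ Subgroup.normalizer (Q : Set G)) ∧
      (P : Subgroup G) ≤ ⁅Subgroup.normalizer (Q : Set G), Subgroup.normalizer (Q : Set G)⁆ ∧
      (Cfsg.IsNarrow q ↥Q → (P : Subgroup G) ≤ Subgroup.centralizer (Q : Set G)) := by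
  haveI hqf : Fact q.Prime := ⟨h.hq⟩
  have hpl := Cfsg.Agent.Lead.T36Red.pl1_holds hG
  have hA1 : A ≠ ⊥ := h.trans.1
  have hpA : p ∣ Nat.card A := by
    obtain ⟨k, hk⟩ := IsPGroup.iff_card.mp hAp
    rcases Nat.eq_zero_or_pos k with h0 | h0
    · rw [h0, pow_zero] at hk
      exact absurd (Subgroup.card_eq_one.mp hk) hA1
    · rw [hk]; exact dvd_pow_self p h0.ne'
  have hqp : q ≠ p := fun e => h.hqA (e ▸ hpA)
  have hPtop : (P : Subgroup G) ≠ ⊤ := Cfsg.Agent.Helper1.BGU.sylow_ne_top hG p _ P.2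
  have hPπ : ∀ r : ℕ, r.Prime → r ∣ Nat.card (P : Subgroup G) → r ∣ Nat.card A := by
    intro r hr hd
    obtain ⟨k, hk⟩ := IsPGroup.iff_card.mp P.2
    rw [hk] at hd
    have : r = p := (Nat.prime_dvd_prime_iff_eq hr hp.out).mp (hr.dvd_of_dvd_pow hd)
    rw [this]; exact hpA
  have hsn : (A.subgroupOf (P : Subgroup G)).IsSubnormal := by
    haveI : Group.IsNilpotent ↥(P : Subgroup G) := P.2.isNilpotent
    exact Cfsg.Agent.Helper4.isSubnormal_of_isNilpotent _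
  obtain ⟨-, -, -, hparts⟩ := h.thm75 hPtop hPπ hAP hsn htr
  obtain ⟨hP1, hP2⟩ := hparts Q hQ
  have hP1' : (P : Subgroup G) ≠ ⊥ := fun e => hA1 (le_bot_iff.mp (e ▸ hAP))
  obtain ⟨M, c⟩ := Cfsg.Agent.Helper1.BGX.exists_sigCtx_of_sylow hG P hP1'
  have hPN' := c.le_commutator_normalizer hpl
  have hb : (P : Subgroup G) ≤
      ⁅Subgroup.normalizer (Q : Set G), Subgroup.normalizer (Q : Set G)⁆ :=
    (le_inf le_rfl hPN').trans hP1
  refine ⟨hP2, hb, ?_⟩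
  intro hnar
  -- `Q` is a nontrivial-or-trivial `q`-group; `N(Q)` is solvable of odd order
  obtain ⟨hQq, hPQ⟩ := (mem_invSubgroups_top h.hq).mp hQ.1
  by_cases hQ1 : Q = ⊥
  · rw [hQ1, Subgroup.coe_bot, Subgroup.centralizer_eq_top_iff_subset.2]
    · exact le_top
    · intro x hx
      rw [Set.mem_singleton_iff] at hx
      rw [hx]; exact Subgroup.one_mem _
  have hQtop : Q ≠ ⊤ := Cfsg.Agent.Helper1.BGU.sylow_ne_top hG q _ hQq
  have hNtop : Subgroup.normalizer (Q : Set G) ≠ ⊤ := h.normalizer_ne_top hQ1 hQtop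
  have hNs : Group.IsSolvable ↥(Subgroup.normalizer (Q : Set G)) := hG.2.2.2 _ hNtop
  have hNodd : Odd (Nat.card ↥(Subgroup.normalizer (Q : Set G))) :=
    Odd.of_dvd_nat hG.1 (Subgroup.card_subgroup_dvd_card _)
  have hq2 : q ≠ 2 := by
    rintro rfl
    have hd : 2 ∣ Nat.card Q := by
      obtain ⟨k, hk⟩ := IsPGroup.iff_card.mp hQq
      rcases Nat.eq_zero_or_pos k with h0 | h0
      · rw [h0, pow_zero] at hk
        exact absurd (Subgroup.card_eq_one.mp hk) hQ1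
      · rw [hk]; exact dvd_pow_self 2 h0.ne'
    have hd' : 2 ∣ Nat.card G := hd.trans (Subgroup.card_subgroup_dvd_card _)
    exact (Nat.not_even_iff_odd.mpr hG.1) (even_iff_two_dvd.mpr hd')
  intro x hx
  have hxo : (orderOf x).Coprime q := by
    obtain ⟨k, hk⟩ := (IsPGroup.iff_orderOf.mp P.2) ⟨x, hx⟩
    rw [Subgroup.orderOf_mk] at hk
    rw [hk]
    exact Nat.Coprime.pow_left k ((Nat.coprime_primes hp.out h.hq).2 (Ne.symm hqp))
  exact narrow_commutator_coprime_le_centralizer hq2 Q _ hQq hnar le_rfl hNs hNodd x (hb hx) hxo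

/-- Bender–Glauberman Theorem 10.11. -/
theorem thm1011 (hG : Cfsg.IsMinSimpleOddOrder G) (h : Hyp A q) (hAp : IsPGroup p ↥A)
    (hZ : ¬ Cfsg.RankLE 1 ↥(A ⊓ Subgroup.centralizer (A : Set G)))
    (hqC : q ∣ Nat.card (Subgroup.centralizer (A : Set G))) {Q : Subgroup G}
    (hQ : Q ∈ Cfsg.maxInvSubgroups ⊤ A {q}) :
    ∃ P : Sylow p G, A ≤ (P : Subgroup G) ∧
      Subgroup.normalizer ((P : Subgroup G) : Set G) =
        Cfsg.piCoreOf (Cfsg.primesNotDvd (Nat.card A))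
            (Subgroup.centralizer ((P : Subgroup G) : Set G)) ⊔
          (Subgroup.normalizer ((P : Subgroup G) : Set G) ⊓ Subgroup.normalizer (Q : Set G)) ∧
      (P : Subgroup G) ≤ ⁅Subgroup.normalizer (Q : Set G), Subgroup.normalizer (Q : Set G)⁆ ∧
      (Cfsg.IsNarrow q ↥Q → (P : Subgroup G) ≤ Subgroup.centralizer (Q : Set G)) := by
  have htr : ∀ Q₁ ∈ Cfsg.maxInvSubgroups ⊤ A {q}, ∀ Q₂ ∈ Cfsg.maxInvSubgroups ⊤ A {q},
      KConj (KK A) Q₁ Q₂ := fun Q₁ h₁ Q₂ h₂ => h.thm74 hZ hqC h₁ h₂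
  obtain ⟨P₀, hAP₀⟩ := hAp.exists_le_sylow
  have hA1 : A ≠ ⊥ := h.trans.1
  have hpA : p ∣ Nat.card A := by
    obtain ⟨k, hk⟩ := IsPGroup.iff_card.mp hAp
    rcases Nat.eq_zero_or_pos k with h0 | h0
    · rw [h0, pow_zero] at hk
      exact absurd (Subgroup.card_eq_one.mp hk) hA1
    · rw [hk]; exact dvd_pow_self p h0.ne'
  have hP₀top : (P₀ : Subgroup G) ≠ ⊤ := Cfsg.Agent.Helper1.BGU.sylow_ne_top hG p _ P₀.2
  have hPπ : ∀ r : ℕ, r.Prime → r ∣ Nat.card (P₀ : Subgroup G) → r ∣ Nat.card A := by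
    intro r hr hd
    obtain ⟨k, hk⟩ := IsPGroup.iff_card.mp P₀.2
    rw [hk] at hd
    have : r = p := (Nat.prime_dvd_prime_iff_eq hr hp.out).mp (hr.dvd_of_dvd_pow hd)
    rw [this]; exact hpA
  have hsn : (A.subgroupOf (P₀ : Subgroup G)).IsSubnormal := by
    haveI : Group.IsNilpotent ↥(P₀ : Subgroup G) := P₀.2.isNilpotent
    exact Cfsg.Agent.Helper4.isSubnormal_of_isNilpotent _
  obtain ⟨-, -, hsub, -⟩ := h.thm75 hP₀top hPπ hAP₀ hsn htr
  obtain ⟨Q₀, hQ₀, -⟩ := exists_max_ge (bot_mem_invSubgroups_top (P₀ : Subgroup G) {q})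
  have hQ₀A : Q₀ ∈ Cfsg.maxInvSubgroups ⊤ A {q} := hsub hQ₀
  obtain ⟨c, hcK, hcQ⟩ := htr Q₀ hQ₀A Q hQ
  have hcC : c ∈ Subgroup.centralizer (A : Set G) := KK_le_centralizer A hcK
  have hAP : A ≤ ((c • P₀ : Sylow p G) : Subgroup G) := by
    rw [Sylow.coe_subgroup_smul, ← conj_smul_eq_self_of_mem_centralizer hcC]
    exact Cfsg.Agent.Helper1.BGT.conj_smul_mono hAP₀
  have hQP : Q ∈ Cfsg.maxInvSubgroups ⊤ ((c • P₀ : Sylow p G) : Subgroup G) {q} := by
    rw [Sylow.coe_subgroup_smul, hcQ]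
    exact conj_smul_mem_maxInvSubgroups_top_gen c hQ₀
  exact ⟨c • P₀, hAP, thm1011_aux hG h hAp htr (c • P₀) hAP hQP⟩

end Cfsg.Agent.Helper1.BG1011
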