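import Mathlib
import Cfsg.Prelude
import Cfsg.Agent.Lead.BG11c

set_option autoImplicit false
set_option linter.unusedSectionVars false
set_option linter.unusedVariables false

/-!
Bender–Glauberman, Section 11: a generalization of Lemma 11.1 (any proper `L ⊇ A` in place of
`C(X)`), and its consequence (G1'): a proper subgroup `L ⊇ A` containing an element `h ∉ M` with
`A ≤ M^h` meets `M_σ` trivially.
-/

namespace Cfsg.Agent.Helper1.BG111g

open Cfsg Cfsg.Agent.Helper1 Cfsg.Agent.Helper2 Cfsg.Agent.Helper1.BGT Cfsg.Agent.Helper1.BGU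
  Cfsg.Agent.Helper1.BGV Cfsg.Agent.Helper1.BGW Cfsg.Agent.Helper1.BGX Cfsg.Agent.Lead.BG12
open scoped commutatorElement Pointwise

universe u

variable {G : Type u} [Group G] [Finite G]
variable {M : Subgroup G} {p : ℕ} [hp : Fact p.Prime] {A₀ A : Subgroup G}

/-- Generalized Lemma 11.1: a proper subgroup `L ⊇ A` cannot meet both `Q₁` and `Q₂'^g`. -/
theorem lemma111_gen (e : Exc M p A₀ A) {g : G} (hg : g ∉ M) {q : ℕ} [hq : Fact q.Prime]
    {Q₁ Q₂' : Subgroup G} (hQ₁ : Q₁ ≤ Cfsg.sigmaCore M) (hQ₁p : IsPGroup q ↥Q₁)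
    (hQ₁c : Nat.card Q₁ = q ^ (Nat.card (Cfsg.sigmaCore M)).factorization q)
    (hAQ₁ : A ≤ Subgroup.normalizer (Q₁ : Set G))
    (hQ₂ : Q₂' ≤ Cfsg.sigmaCore M) (hQ₂p : IsPGroup q ↥Q₂')
    (hQ₂c : Nat.card Q₂' = q ^ (Nat.card (Cfsg.sigmaCore M)).factorization q)
    (hAQ₂ : A ≤ Subgroup.normalizer ((MulAut.conj g • Q₂' : Subgroup G) : Set G))
    {L : Subgroup G} (hL : L ≠ ⊤) (hAL : A ≤ L) :
    L ⊓ Q₁ = ⊥ ∨ L ⊓ MulAut.conj g • Q₂' = ⊥ := by
  have hG := e.min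
  have hM := e.coatom
  by_cases hQ₁1 : Q₁ = ⊥
  · subst hQ₁1
    exact Or.inl (inf_bot_eq _)
  -- `q ∈ σ(M)`
  have hqσ : q ∈ Cfsg.sigma M := by
    apply mem_sigma_of_dvd_card_sigmaCore hq.out
    exact (dvd_card_of_isPGroup_ne_bot hQ₁p hQ₁1).trans (Subgroup.card_dvd_of_le hQ₁)
  have hfG : (Nat.card (Cfsg.sigmaCore M)).factorization q = (Nat.card G).factorization q :=
    factorization_eq_of_not_dvd_index hq.out (not_dvd_index_sigmaCore hG hM hq.out hqσ)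
  have hfM : (Nat.card (Cfsg.sigmaCore M)).factorization q = (Nat.card M).factorization q :=
    factorization_eq_of_not_dvd_relIndex sigmaCore_le hq.out
      (not_dvd_relIndex_sigmaCore hG hM hq.out hqσ)
  have hQ₂1 : Q₂' ≠ ⊥ := by
    intro h
    apply hQ₁1
    rw [h, Subgroup.card_bot] at hQ₂c
    rw [← hQ₂c] at hQ₁c
    exact Subgroup.card_eq_one.mp hQ₁c
  set Q₂ := MulAut.conj g • Q₂' with hQ₂def
  have hQ₂p' : IsPGroup q ↥Q₂ := by
    rw [hQ₂def, conj_smul_eq_map]; exact hQ₂p.map _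
  have hQ₂c' : Nat.card Q₂ = q ^ (Nat.card G).factorization q := by
    rw [hQ₂def, card_conj_smul, hQ₂c, hfG]
  have hyp := e.hyp hqσ
  have h₁ : Q₁ ∈ Cfsg.maxInvSubgroups ⊤ A {q} :=
    mem_maxInvSubgroups_of_sylow hQ₁p (by rw [hQ₁c, hfG]) hAQ₁
  have h₂ : Q₂ ∈ Cfsg.maxInvSubgroups ⊤ A {q} :=
    mem_maxInvSubgroups_of_sylow hQ₂p' hQ₂c' hAQ₂
  -- `Q₁` and `Q₂` are not conjugate under `K`
  have hnc : ¬ KConj (KK A) Q₁ Q₂ := by
    rintro ⟨k, hk, hkQ⟩
    have hkM : k ∈ M := e.centralizer_le (KK_le_centralizer A hk)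
    have hQ₂M : Q₂ ≤ M := by
      rw [hkQ, ← conj_smul_eq_self_of_mem hkM]
      exact Cfsg.Agent.Helper1.BGT.conj_smul_mono (hQ₁.trans sigmaCore_le)
    obtain ⟨P, c⟩ := exists_sigCtx hG hM hqσ
    have hQ₂'M : Q₂' ≤ M := hQ₂.trans sigmaCore_le
    obtain ⟨m, hm, c', hc', eg⟩ := c.trans Q₂' hQ₂'M hQ₂p hQ₂1 g (by
      intro x hx
      exact hQ₂M (conj_mem_conj_smul hx))
    have hc'M : c' ∈ M :=
      normalizer_le_of_sylow_of_mem_sigma hG hM hqσ hQ₂'M hQ₂p (by rw [hQ₂c, hfM])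
        (Subgroup.centralizer_le_normalizer _ hc')
    apply hg
    rw [eg]
    exact M.mul_mem hm hc'M
  by_contra hcon
  push Not at hcon
  obtain ⟨hc1, hc2⟩ := hcon
  exact hnc (hyp.thm72 h₁ h₂ hL hAL hc1 hc2)

/-- (G1') A proper subgroup `L ⊇ A` containing an element `h ∉ M` with `A ≤ M^h` meets `M_σ`
trivially. -/
theorem inf_sigmaCore_eq_bot_of_mem (e : Exc M p A₀ A) {L : Subgroup G} (hL : L ≠ ⊤) (hAL : A ≤ L)
    {h : G} (hhL : h ∈ L) (hhM : h ∉ M) (hAh : A ≤ MulAut.conj h • M) :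
    L ⊓ Cfsg.sigmaCore M = ⊥ := by
  have hG := e.min
  have hM := e.coatom
  haveI hnil := e.sigmaCore_isNilpotent
  by_contra hne
  set H := L ⊓ Cfsg.sigmaCore M with hH
  have hcard : Nat.card H ≠ 1 := fun h => hne (Subgroup.card_eq_one.mp h)
  obtain ⟨q, hq, hqd⟩ := Nat.exists_prime_and_dvd hcard
  haveI := Fact.mk hq
  obtain ⟨x, hx⟩ := exists_prime_orderOf_dvd_card' (G := ↥H) q hqd
  have hAσ : A ≤ Subgroup.normalizer ((Cfsg.sigmaCore M : Subgroup G) : Set G) :=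
    e.leM.trans (le_normalizer_sigmaCore M)
  have hsolv : Group.IsSolvable ↥A := hG.2.2.2 A (fun h => by
    apply sylow_ne_top hG p A e.isPGroup h)
  obtain ⟨P₁, hAP₁⟩ := exists_invariant_sylow (p := q) A (Cfsg.sigmaCore M) hAσ
    (e.coprime_card le_rfl A e.isPGroup) (Or.inl hsolv)
  set A' := MulAut.conj h⁻¹ • A with hA'
  have hA'M : A' ≤ M := by
    have := Cfsg.Agent.Helper1.BGT.conj_smul_mono (k := h⁻¹) hAh
    rw [conj_smul_inv_smul] at this
    exact this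
  have hA'p : IsPGroup p ↥A' := by
    rw [hA', conj_smul_eq_map]; exact e.isPGroup.map _
  have hA'solv : Group.IsSolvable ↥A' := hG.2.2.2 A' (fun h => by
    apply sylow_ne_top hG p A' hA'p h)
  obtain ⟨P₂, hA'P₂⟩ := exists_invariant_sylow (p := q) A' (Cfsg.sigmaCore M)
    (hA'M.trans (le_normalizer_sigmaCore M)) (e.coprime_card le_rfl A' hA'p) (Or.inl hA'solv)
  -- by nilpotency the Sylow `q`-subgroup of `M_σ` is unique
  have hP₁n : (P₁ : Subgroup ↥(Cfsg.sigmaCore M)).Normal := inferInstance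
  haveI : Unique (Sylow q ↥(Cfsg.sigmaCore M)) := Sylow.unique_of_normal P₁ hP₁n
  have hP₂ : P₂ = P₁ := Subsingleton.elim _ _
  rw [hP₂] at hA'P₂
  set Q₁ := (P₁ : Subgroup ↥(Cfsg.sigmaCore M)).map (Cfsg.sigmaCore M).subtype with hQ₁
  have hAQ₂ : A ≤ Subgroup.normalizer ((MulAut.conj h • Q₁ : Subgroup G) : Set G) := by
    have := conj_smul_le_normalizer h hA'P₂
    rw [hA', conj_smul_smul_inv] at this
    exact this
  have hcardP : Nat.card ↥Q₁ = q ^ (Nat.card (Cfsg.sigmaCore M)).factorization q := by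
    rw [hQ₁, Subgroup.card_map_of_injective (Subgroup.subtype_injective _)]
    exact P₁.card_eq_multiplicity
  -- `x ∈ Q₁`
  have hxL : (x : G) ∈ L := x.2.1
  have hxσ : (x : G) ∈ Cfsg.sigmaCore M := x.2.2
  have hxQ₁ : (x : G) ∈ Q₁ := by
    set y : ↥(Cfsg.sigmaCore M) := ⟨(x : G), hxσ⟩ with hy
    have hyo : orderOf y = q := by
      rw [← hx, ← Subgroup.orderOf_coe x, ← Subgroup.orderOf_coe y]
    have hyp : IsPGroup q ↥(Subgroup.zpowers y) := by
      rw [IsPGroup.iff_card, Nat.card_zpowers, hyo]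
      exact ⟨1, (pow_one q).symm⟩
    obtain ⟨R, hR⟩ := hyp.exists_le_sylow
    have hRP : R = P₁ := Subsingleton.elim _ _
    rw [hRP] at hR
    exact ⟨y, hR (Subgroup.mem_zpowers y), rfl⟩
  have hx1 : (x : G) ≠ 1 := by
    intro h1
    have : orderOf (x : G) = 1 := by rw [h1, orderOf_one]
    rw [Subgroup.orderOf_coe, hx] at this
    exact hq.one_lt.ne' this
  rcases lemma111_gen e hhM (Subgroup.map_subtype_le _) (P₁.2.map _) hcardP hAP₁
    (Subgroup.map_subtype_le _) (P₁.2.map _) hcardP hAQ₂ hL hAL with h1 | h1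
  · apply hx1
    have : (x : G) ∈ L ⊓ Q₁ := ⟨hxL, hxQ₁⟩
    rw [h1, Subgroup.mem_bot] at this
    exact this
  · apply hx1
    have h2 : h * (x : G) * h⁻¹ ∈ L ⊓ MulAut.conj h • Q₁ :=
      ⟨L.mul_mem (L.mul_mem hhL hxL) (L.inv_mem hhL), conj_mem_conj_smul hxQ₁⟩
    rw [h1, Subgroup.mem_bot] at h2
    have : (x : G) = h⁻¹ * (h * (x : G) * h⁻¹) * h := by group
    rw [this, h2]; group

end Cfsg.Agent.Helper1.BG111g
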