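import Mathlib
import Cfsg.Prelude
import Cfsg.Agent.Helper1.BGXg

set_option autoImplicit false

/-!
Bender–Glauberman, Section 10: `M_σ` is a Hall subgroup (Theorem 10.2(b), `S1350`), and
`M_σ ≤ M'`.
-/

namespace Cfsg.Agent.Helper1.BGX

open Cfsg Cfsg.Agent.Helper1 Cfsg.Agent.Helper2 Cfsg.Agent.Helper1.BGT Cfsg.Agent.Helper1.BGU
  Cfsg.Agent.Helper1.BGV Cfsg.Agent.Helper1.BGW
open scoped commutatorElement Pointwise

universe u

section generic

variable {H : Type u} [Group H] [Finite H]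

/-- A `p`-subgroup of `H'` lies in the preimage of `O_p(H / O_π(H))`. -/
theorem le_comap_pCore_of_le_commutator [Group.IsSolvable H] (hodd : Odd (Nat.card H)) (π : Set ℕ)
    (hπ : ∀ q : ℕ, q.Prime → q ∉ π → Cfsg.PRankLE q 2 H) {p : ℕ} [hp : Fact p.Prime]
    {S : Subgroup H} (hS : IsPGroup p ↥S) (hSc : S ≤ commutator H) :
    S ≤ (Cfsg.pCore p (H ⧸ Cfsg.piCore π H)).comap (QuotientGroup.mk' (Cfsg.piCore π H)) := by
  obtain ⟨h1, -⟩ := quotient_piCore_structure hodd π hπ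
  have hle : S.map (QuotientGroup.mk' (Cfsg.piCore π H)) ≤
      Cfsg.fittingSubgroup (H ⧸ Cfsg.piCore π H) := by
    refine le_trans ?_ h1
    rintro _ ⟨y, hy, rfl⟩
    have hyc := hSc hy
    rw [commutator_def] at hyc ⊢
    have := Subgroup.mem_map_of_mem (QuotientGroup.mk' (Cfsg.piCore π H)) hyc
    rw [Subgroup.map_commutator] at this
    exact Subgroup.commutator_mono le_top le_top this
  have hSp : IsPGroup p ↥(S.map (QuotientGroup.mk' (Cfsg.piCore π H))) := hS.map _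
  have h2 := Cfsg.Agent.Helper1.Rank2Fitting.le_pCore_of_le_fitting _ hSp hle
  rw [← Subgroup.map_le_iff_le_comap]
  exact h2

end generic

variable {G : Type u} [Group G] [Finite G]

variable {M : Subgroup G} {p : ℕ} [hp : Fact p.Prime] {P : Subgroup G}

theorem SigCtx.mem_sigma (c : SigCtx M p P) (hP1 : P ≠ ⊥) : p ∈ Cfsg.sigma M := by
  have hcard : Nat.card (P.subgroupOf M) = p ^ (Nat.card M).factorization p := by
    rw [Cfsg.Agent.Lead.card_subgroupOf_of_le c.le]; exact c.cardM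
  refine ⟨hp.out, ?_, Sylow.ofCard (P.subgroupOf M) hcard, ?_⟩
  · exact (dvd_card_of_isPGroup_ne_bot c.pgroup hP1).trans (Subgroup.card_dvd_of_le c.le)
  · rw [Sylow.coe_ofCard, Subgroup.map_subgroupOf_eq_of_le c.le]
    exact c.norm

/-- For `p ∈ σ(M)`, the Sylow `p`-subgroups of `M` lie in `M_σ`. -/
theorem SigCtx.le_sigmaCore (c : SigCtx M p P) : P ≤ Cfsg.sigmaCore M := by
  have hG := c.min
  have hM := c.coatom
  haveI : Group.IsSolvable ↥M := hG.2.2.2 M hM.1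
  have hodd : Odd (Nat.card M) := Odd.of_dvd_nat hG.1 (Subgroup.card_subgroup_dvd_card M)
  by_cases hP1 : P = ⊥
  · rw [hP1]; exact bot_le
  have hpσ := c.mem_sigma hP1
  have hSc : P.subgroupOf M ≤ commutator ↥M := by
    intro w hw
    have h2 := c.le_commutator (Subgroup.mem_subgroupOf.mp hw)
    rw [← Subgroup.map_subtype_commutator] at h2
    obtain ⟨v, hv, hvw⟩ := h2
    rw [← Subtype.ext hvw]; exact hv
  have hle := le_comap_pCore_of_le_commutator hodd (Cfsg.alpha M)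
    (fun q hq hqα => pRankLE_of_not_mem_alpha hq hqα) (p := p) c.pgroup.comap_subtype hSc
  obtain ⟨T, hT⟩ : ∃ T : Subgroup ↥M, T = (Cfsg.pCore p (↥M ⧸ Cfsg.piCore (Cfsg.alpha M) ↥M)).comap
      (QuotientGroup.mk' (Cfsg.piCore (Cfsg.alpha M) ↥M)) := ⟨_, rfl⟩
  rw [← hT] at hle
  have hTn : T.Normal := by rw [hT]; infer_instance
  have hTσ : T ≤ Cfsg.piCore (Cfsg.sigma M) ↥M := by
    apply le_sSup
    refine ⟨hTn, ?_⟩
    intro q hq hd
    rw [hT, card_comap_mk'] at hd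
    rcases (Nat.Prime.dvd_mul hq).mp hd with h | h
    · obtain ⟨k, hk⟩ := IsPGroup.iff_card.mp
        (pCore_isPGroup (G := ↥M ⧸ Cfsg.piCore (Cfsg.alpha M) ↥M) p)
      rw [hk] at h
      have : q = p := (Nat.prime_dvd_prime_iff_eq hq hp.out).mp (hq.dvd_of_dvd_pow h)
      rw [this]; exact hpσ
    · exact alpha_subset_sigma hG hM (piCore_isPi _ q hq h)
  intro x hx
  exact ⟨⟨x, c.le hx⟩, hTσ (hle (Subgroup.mem_subgroupOf.mpr hx)), rfl⟩

/-- Primes dividing `|M_σ|` lie in `σ(M)`. -/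
theorem mem_sigma_of_dvd_card_sigmaCore {M : Subgroup G} {q : ℕ} (hq : q.Prime)
    (hd : q ∣ Nat.card (Cfsg.sigmaCore M)) : q ∈ Cfsg.sigma M := by
  unfold Cfsg.sigmaCore at hd
  rw [Subgroup.card_map_of_injective M.subtype_injective] at hd
  exact piCore_isPi _ q hq hd

/-- `M_σ ≤ M'`. -/
theorem sigmaCore_le_commutator (hG : Cfsg.IsMinSimpleOddOrder G) {M : Subgroup G}
    (hM : IsCoatom M) : Cfsg.sigmaCore M ≤ ⁅M, M⁆ := by
  have hKM : Cfsg.sigmaCore M ≤ M := Subgroup.map_subtype_le _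
  rw [← Subgroup.relIndex_eq_one]
  by_contra hne
  obtain ⟨q, hq, hqd⟩ := Nat.exists_prime_and_dvd hne
  have hqK : q ∣ Nat.card (Cfsg.sigmaCore M) := hqd.trans (Subgroup.relIndex_dvd_card _ _)
  have hqσ := mem_sigma_of_dvd_card_sigmaCore hq hqK
  haveI := Fact.mk hq
  obtain ⟨P, c⟩ := exists_sigCtx hG hM hqσ
  have h1 : (⁅M, M⁆ : Subgroup G).relIndex (Cfsg.sigmaCore M) ∣ P.relIndex (Cfsg.sigmaCore M) :=
    Subgroup.relIndex_dvd_of_le_left _ c.le_commutator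
  have h2 : P.relIndex (Cfsg.sigmaCore M) ∣ P.relIndex M :=
    Dvd.intro _ (Subgroup.relIndex_mul_relIndex P (Cfsg.sigmaCore M) M c.le_sigmaCore hKM)
  exact c.not_dvd_relIndex ((hqd.trans h1).trans h2)

/-- Bender–Glauberman Theorem 10.2(b): `M_σ` is a Hall `σ(M)`-subgroup of `M` and of `G`. -/
theorem sigmaCore_hall (hG : Cfsg.IsMinSimpleOddOrder G) (M : Subgroup G) (hM : IsCoatom M) :
    Cfsg.IsPiHallOf (Cfsg.sigma M) (Cfsg.sigmaCore M) M ∧
      Cfsg.IsPiHall (Cfsg.sigma M) (Cfsg.sigmaCore M) ∧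
      ∀ N : Subgroup G, M ≤ Subgroup.normalizer (N : Set G) →
        Cfsg.IsPiHallOf (Cfsg.sigma M) N M → N = Cfsg.sigmaCore M := by
  have hKM : Cfsg.sigmaCore M ≤ M := Subgroup.map_subtype_le _
  have hprimes : ∀ q : ℕ, q.Prime → q ∣ Nat.card (Cfsg.sigmaCore M) → q ∈ Cfsg.sigma M :=
    fun q hq hd => mem_sigma_of_dvd_card_sigmaCore hq hd
  have hrel : ∀ q : ℕ, q.Prime → q ∈ Cfsg.sigma M → ¬ q ∣ (Cfsg.sigmaCore M).relIndex M := by
    intro q hq hqσ hd
    haveI := Fact.mk hq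
    obtain ⟨P, c⟩ := exists_sigCtx hG hM hqσ
    exact c.not_dvd_relIndex (hd.trans (Subgroup.relIndex_dvd_of_le_left M c.le_sigmaCore))
  refine ⟨⟨hKM, hprimes, hrel⟩, ⟨hprimes, ?_⟩, ?_⟩
  · intro q hq hqσ hd
    haveI := Fact.mk hq
    obtain ⟨P, c⟩ := exists_sigCtx hG hM hqσ
    have h1 : q ∣ P.index := hd.trans (Subgroup.index_dvd_of_le c.le_sigmaCore)
    have := (Sylow.ofCard P c.cardG).not_dvd_index
    rw [Sylow.coe_ofCard] at this
    exact this h1
  · rintro N hMN ⟨hNM, hNprimes, hNrel⟩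
    have hNle : N ≤ Cfsg.sigmaCore M := le_piCoreOf hNM hMN hNprimes
    apply le_antisymm hNle
    rw [← Subgroup.relIndex_eq_one]
    by_contra hne
    obtain ⟨q, hq, hqd⟩ := Nat.exists_prime_and_dvd hne
    have hqσ : q ∈ Cfsg.sigma M := hprimes q hq (hqd.trans (Subgroup.relIndex_dvd_card _ _))
    have h2 : N.relIndex (Cfsg.sigmaCore M) ∣ N.relIndex M :=
      Dvd.intro _ (Subgroup.relIndex_mul_relIndex N (Cfsg.sigmaCore M) M hNle hKM)
    exact hNrel q hq hqσ (hqd.trans h2)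

end Cfsg.Agent.Helper1.BGX
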