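import Mathlib
import Cfsg.Prelude.Def_Transfer
import Cfsg.Prelude.Def_PLocal
import Cfsg.Prelude.Def_OddOrderLocal
import Cfsg.Agent.Helper1.CyclicMaxSub
import Cfsg.Agent.Helper1.Hall

set_option autoImplicit false

/-!
For odd `p`, in a non-cyclic metacyclic `p`-group the elements of order dividing `p` form an
elementary abelian subgroup of order `p²`.
-/

namespace Cfsg.Agent.Helper1

universe u

/-- In a finite cyclic group, a subgroup of order `p` contains every element with `a ^ p = 1`. -/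
theorem mem_of_pow_eq_one_of_card_eq_cyclic {C : Type*} [Group C] [Finite C] [IsCyclic C]
    (Z : Subgroup C) (p : ℕ) (hp : 0 < p) (hZ : Nat.card Z = p) (a : C) (ha : a ^ p = 1) :
    a ∈ Z := by
  classical
  have : Fintype C := Fintype.ofFinite C
  have hle := IsCyclic.card_pow_eq_one_le (α := C) hp
  let S : Finset C := Finset.univ.filter (fun a : C => a ^ p = 1)
  let T : Finset C := Finset.univ.filter (fun a : C => a ∈ Z)
  have hTS : T ⊆ S := by
    intro b hb
    have hbZ : b ∈ Z := (Finset.mem_filter.mp hb).2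
    apply Finset.mem_filter.mpr ⟨Finset.mem_univ _, ?_⟩
    have : (⟨b, hbZ⟩ : Z) ^ p = 1 := by
      rw [← hZ]; exact pow_card_eq_one'
    have h2 := congrArg (fun z : Z => (z : C)) this
    simpa using h2
  have hTcard : T.card = p := by
    rw [← hZ, Nat.card_eq_fintype_card, ← Finset.card_univ]
    symm
    apply Finset.card_bij (fun (z : Z) _ => (z : C))
    · intro z _; exact Finset.mem_filter.mpr ⟨Finset.mem_univ _, z.2⟩
    · intro z _ z' _ h; exact Subtype.ext h
    · intro b hb
      exact ⟨⟨b, (Finset.mem_filter.mp hb).2⟩, Finset.mem_univ _, rfl⟩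
  have hST : S = T := by
    symm
    apply Finset.eq_of_subset_of_card_le hTS
    rw [hTcard]; exact hle
  have : a ∈ S := Finset.mem_filter.mpr ⟨Finset.mem_univ _, ha⟩
  rw [hST] at this
  exact (Finset.mem_filter.mp this).2

variable {R : Type u} [Group R] [Finite R]

theorem metacyclic_omega_aux {p : ℕ} [hp : Fact p.Prime] (hp2 : p ≠ 2) (hR : IsPGroup p R)
    (hnc : ¬ IsCyclic R) : ∀ (k : ℕ) (N : Subgroup R) [N.Normal], IsCyclic N →
      IsCyclic (R ⧸ N) → N.index = k →
      ∃ K : Subgroup R, (K : Set R) = {x : R | x ^ p = 1} ∧ Nat.card K = p ^ 2 ∧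
        (∀ a ∈ K, ∀ b ∈ K, a * b = b * a) := by
  intro k
  induction k using Nat.strong_induction_on with
  | _ k ih =>
  intro N hNn hNc hQc hk
  have hQc' : IsCyclic (R ⧸ N) := hQc
  have hNtop : N ≠ ⊤ := by
    rintro rfl
    exact hnc (isCyclic_of_surjective Subgroup.topEquiv.toMonoidHom Subgroup.topEquiv.surjective)
  have hQp : IsPGroup p (R ⧸ N) := hR.to_quotient N
  have hQnt : Nontrivial (R ⧸ N) := by
    rw [← Finite.one_lt_card_iff_nontrivial, ← Subgroup.index_eq_card]
    have h1 : N.index ≠ 1 := fun h => hNtop (Subgroup.index_eq_one.1 h)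
    have h2 : N.index ≠ 0 := Subgroup.index_ne_zero_of_finite
    omega
  have hpdvd : p ∣ Nat.card (R ⧸ N) := by
    obtain ⟨j, hj0, hj⟩ := hQp.nontrivial_iff_card.1 hQnt
    rw [hj]; exact dvd_pow_self p hj0.ne'
  obtain ⟨y, hy⟩ := exists_prime_orderOf_dvd_card' p hpdvd
  set Z' : Subgroup (R ⧸ N) := Subgroup.zpowers y with hZ'
  have hZ'card : Nat.card Z' = p := by rw [hZ', Nat.card_zpowers, hy]
  have hQcomm : ∀ a b : R ⧸ N, a * b = b * a := by
    intro a b
    obtain ⟨g, hg⟩ := hQc.exists_generator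
    obtain ⟨i, rfl⟩ := Subgroup.mem_zpowers_iff.1 (hg a)
    obtain ⟨j, rfl⟩ := Subgroup.mem_zpowers_iff.1 (hg b)
    rw [← zpow_add, ← zpow_add, add_comm]
  have hZ'n : Z'.Normal := by
    constructor
    intro n hn t
    have : t * n * t⁻¹ = n := by rw [hQcomm t n, mul_inv_cancel_right]
    rw [this]; exact hn
  set R₁ : Subgroup R := Z'.comap (QuotientGroup.mk' N) with hR₁
  have hR₁n : R₁.Normal := hZ'n.comap _
  have hNR₁ : N ≤ R₁ := by
    intro m hm
    rw [hR₁, Subgroup.mem_comap]
    have : QuotientGroup.mk' N m = 1 := (QuotientGroup.eq_one_iff m).2 hm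
    rw [this]; exact Subgroup.one_mem _
  have hR₁card : Nat.card R₁ = p * Nat.card N := by
    rw [hR₁, card_comap_mk', hZ'card]
  -- all elements of order dividing `p` lie in `R₁`
  have hmemR₁ : ∀ x : R, x ^ p = 1 → x ∈ R₁ := by
    intro x hx
    rw [hR₁, Subgroup.mem_comap]
    apply mem_of_pow_eq_one_of_card_eq_cyclic Z' p hp.out.pos hZ'card
    rw [← map_pow, hx, map_one]
  by_cases hR₁c : IsCyclic R₁
  · -- pass to `R₁`
    have hQ₁c : IsCyclic (R ⧸ R₁) := by
      have hle : N ≤ R₁.comap (MonoidHom.id R) := by simpa using hNR₁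
      apply isCyclic_of_surjective (QuotientGroup.map N R₁ (MonoidHom.id R) hle)
      intro q
      induction q using QuotientGroup.induction_on with
      | H a => exact ⟨QuotientGroup.mk a, rfl⟩
    have hidx : N.index = p * R₁.index := by
      have h1 := Subgroup.relIndex_mul_index hNR₁
      have h2 : N.relIndex R₁ = p := by
        have h3 := relIndex_mul_card_of_le hNR₁
        rw [hR₁card] at h3
        exact Nat.eq_of_mul_eq_mul_right Nat.card_pos h3
      rw [← h1, h2]
    have hlt : R₁.index < k := by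
      rw [← hk, hidx]
      have h2 : 0 < R₁.index := Nat.pos_of_ne_zero Subgroup.index_ne_zero_of_finite
      have := hp.out.one_lt
      nlinarith
    exact ih _ hlt R₁ hR₁c hQ₁c rfl
  · -- `R₁` is non-cyclic with a cyclic subgroup of index `p`
    have hR₁p : IsPGroup p R₁ := hR.to_subgroup R₁
    have hCc : IsCyclic (N.subgroupOf R₁) :=
      isCyclic_of_surjective (Subgroup.subgroupOfEquivOfLe hNR₁).symm.toMonoidHom
        (Subgroup.subgroupOfEquivOfLe hNR₁).symm.surjective
    have hCi : (N.subgroupOf R₁).index = p := by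
      have h1 := (N.subgroupOf R₁).card_mul_index
      rw [card_subgroupOf_of_le hNR₁, hR₁card, mul_comm] at h1
      exact Nat.eq_of_mul_eq_mul_right Nat.card_pos h1
    obtain ⟨K, hK, hKcard, hKcomm⟩ := omega_of_cyclic_index_p hp2 hR₁p hR₁c _ hCc hCi
    refine ⟨K.map R₁.subtype, ?_, ?_, ?_⟩
    · ext x
      constructor
      · rintro ⟨a, ha, rfl⟩
        have ha' : a ∈ (K : Set R₁) := ha
        rw [hK] at ha'
        have := congrArg Subtype.val ha'
        simpa using this
      · intro hx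
        have hx' : x ^ p = 1 := hx
        refine ⟨⟨x, hmemR₁ x hx'⟩, ?_, rfl⟩
        have : (⟨x, hmemR₁ x hx'⟩ : R₁) ∈ (K : Set R₁) := by
          rw [hK]
          show (⟨x, hmemR₁ x hx'⟩ : R₁) ^ p = 1
          apply Subtype.ext
          simpa using hx'
        exact this
    · rw [Subgroup.card_map_of_injective R₁.subtype_injective, hKcard]
    · rintro _ ⟨a₀, ha₀, rfl⟩ _ ⟨b₀, hb₀, rfl⟩
      have h1 := hKcomm a₀ ha₀ b₀ hb₀
      have h2 := congrArg Subtype.val h1
      simpa using h2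

theorem metacyclic_omega {p : ℕ} [hp : Fact p.Prime] (hp2 : p ≠ 2) (hR : IsPGroup p R)
    (hm : Cfsg.IsMetacyclic R) (hnc : ¬ IsCyclic R) :
    Cfsg.IsElementaryAbelian p (Cfsg.omegaOne p (⊤ : Subgroup R)) ∧
      Nat.card ↥(Cfsg.omegaOne p (⊤ : Subgroup R)) = p ^ 2 := by
  obtain ⟨N, hNn, hNc, hQc⟩ := hm
  obtain ⟨K, hK, hcard, hcomm⟩ := metacyclic_omega_aux hp2 hR hnc _ N hNc hQc rfl
  have hΩ : Cfsg.omegaOne p (⊤ : Subgroup R) = K := by
    unfold Cfsg.omegaOne
    have : {x : R | x ∈ (⊤ : Subgroup R) ∧ x ^ p = 1} = (K : Set R) := by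
      rw [hK]; ext x; simp
    rw [this, Subgroup.closure_eq]
  rw [hΩ]
  refine ⟨⟨⟨⟨fun a b => Subtype.ext (hcomm a a.2 b b.2)⟩⟩, ?_⟩, hcard⟩
  intro a ha
  have : a ∈ (K : Set R) := ha
  rw [hK] at this
  exact this

end Cfsg.Agent.Helper1
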