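import Mathlib
import Cfsg.Prelude.Def_Transfer
import Cfsg.Prelude.Def_OddOrderLocal
import Cfsg.Agent.Helper1.Basic
import Cfsg.Agent.Helper1.Class2
import Cfsg.Agent.Helper1.NormalEA2

set_option autoImplicit false

/-!
Huppert's criterion for metacyclic `p`-groups (`p` odd): the case of class at most two with
derived subgroup of order dividing `p`.
-/

namespace Cfsg.Agent.Helper1.HuppertMeta

open Cfsg Cfsg.Agent.Helper1
open scoped commutatorElement

universe u

/-- Every normal subgroup containing all `p`-th powers has index at most `p ^ 2`. -/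
def SmallAgemo (p : ℕ) (G : Type u) [Group G] : Prop :=
  ∀ T : Subgroup G, T.Normal → (∀ x : G, x ^ p ∈ T) → T.index ≤ p ^ 2

/-- A `p`-group (`p` odd) whose subgroups of exponent `p` have order at most `p` is cyclic. -/
theorem isCyclic_of_small_exp {A : Type u} [Group A] [Finite A] {p : ℕ} [hp : Fact p.Prime]
    (hp2 : p ≠ 2) (hA : IsPGroup p A)
    (hker : ∀ B : Subgroup A, (∀ b ∈ B, b ^ p = 1) → Nat.card B ≤ p) : IsCyclic A := by
  by_contra hnc
  obtain ⟨E, -, hEe, hEcard⟩ := exists_normal_elementary_p2_top hp2 hA hnc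
  have h1 := hker E hEe.2
  rw [hEcard] at h1
  have h2 : p * 2 ≤ p * p := Nat.mul_le_mul_left p hp.out.two_le
  nlinarith [hp.out.two_le]

/-- A `p`-group of order at most `p ^ 2` is commutative. -/
theorem comm_of_card_le_sq {Q : Type u} [Group Q] [Finite Q] {p : ℕ} [hp : Fact p.Prime]
    (hQ : IsPGroup p Q) (h : Nat.card Q ≤ p ^ 2) : ∀ a b : Q, a * b = b * a := by
  obtain ⟨j, hj⟩ := IsPGroup.iff_card.1 hQ
  have hj2 : j ≤ 2 := by
    rw [hj] at h
    exact (Nat.pow_le_pow_iff_right hp.out.one_lt).1 h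
  interval_cases j
  · rw [pow_zero] at hj
    haveI : Subsingleton Q := (Nat.card_eq_one_iff_unique.1 hj).1
    intro a b
    exact Subsingleton.elim _ _
  · rw [pow_one] at hj
    haveI : IsCyclic Q := isCyclic_of_prime_card hj
    intro a b
    obtain ⟨g, hg⟩ := IsCyclic.exists_generator (α := Q)
    obtain ⟨m, rfl⟩ := Subgroup.mem_zpowers_iff.1 (hg a)
    obtain ⟨n, rfl⟩ := Subgroup.mem_zpowers_iff.1 (hg b)
    rw [← zpow_add, ← zpow_add, add_comm]
  · exact (IsPGroup.isMulCommutative_of_card_eq_prime_sq hj).is_comm.comm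

variable {G : Type u} [Group G] [Finite G]

theorem isMetacyclic_of_class_two {p : ℕ} [hp : Fact p.Prime] (hp2 : p ≠ 2) (hG : IsPGroup p G)
    (hQ : SmallAgemo p G) (c : G) (hc : c ∈ Subgroup.center G) (hcp : c ^ p = 1)
    (hG' : commutator G = Subgroup.zpowers c) : Cfsg.IsMetacyclic G := by
  classical
  by_cases htriv : Subsingleton G
  · refine ⟨⊤, inferInstance, ?_, ?_⟩
    · infer_instance
    · infer_instance
  rw [not_subsingleton_iff_nontrivial] at htriv
  -- class two
  have h2 : ⁅commutator G, (⊤ : Subgroup G)⁆ = ⊥ := by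
    rw [eq_bot_iff, Subgroup.commutator_le]
    intro u hu g _
    rw [hG'] at hu
    have huc : u ∈ Subgroup.center G := (Subgroup.zpowers_le.2 hc) hu
    rw [Subgroup.mem_bot, commutatorElement_eq_one_iff_mul_comm]
    exact (Subgroup.mem_center_iff.1 huc g).symm
  have hcomm_pow : ∀ x y : G, ⁅y, x⁆ ^ p = 1 := by
    intro x y
    have h1 : ⁅y, x⁆ ∈ Subgroup.zpowers c := by
      rw [← hG']
      exact Subgroup.commutator_mem_commutator (Subgroup.mem_top y) (Subgroup.mem_top x)
    obtain ⟨k, hk⟩ := Subgroup.mem_zpowers_iff.1 h1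
    rw [← hk, ← zpow_natCast, ← zpow_mul, mul_comm, zpow_mul, zpow_natCast, hcp, one_zpow]
  have hmul : ∀ x y : G, (x * y) ^ p = x ^ p * y ^ p :=
    fun x y => mul_pow_prime_of_class_two hp2 h2 x y (hcomm_pow x y)
  let φ : G →* G := { toFun := fun x => x ^ p, map_one' := one_pow p, map_mul' := hmul }
  have hφ : ∀ x, φ x = x ^ p := fun _ => rfl
  have hGpn : φ.range.Normal := by
    constructor
    rintro _ ⟨x, rfl⟩ g
    exact ⟨g * x * g⁻¹, by rw [hφ, hφ, conj_pow]⟩
  have hidx : φ.range.index ≤ p ^ 2 := hQ _ hGpn (fun x => ⟨x, rfl⟩)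
  have hne_top : φ.range ≠ ⊤ := by
    intro htop
    have hsurj : Function.Surjective φ := MonoidHom.range_eq_top.1 htop
    have hinj : Function.Injective φ := Finite.injective_iff_surjective.2 hsurj
    obtain ⟨g, hg1⟩ := exists_ne (1 : G)
    obtain ⟨k, hk⟩ := hG g
    have key : ∀ j, g ^ (p ^ j) = 1 → g = 1 := by
      intro j
      induction j with
      | zero => intro h; simpa using h
      | succ j ih =>
        intro h
        apply ih
        apply hinj
        rw [hφ, map_one, ← pow_mul, ← pow_succ]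
        exact h
    exact hg1 (key k hk)
  -- the element `v`
  obtain ⟨v, hvG, hcv⟩ : ∃ v : G, v ∉ φ.range ∧ c ∈ Subgroup.zpowers v := by
    by_cases hc1 : c = 1
    · obtain ⟨v, hv⟩ : ∃ v, v ∉ φ.range := by
        by_contra h
        push Not at h
        exact hne_top (eq_top_iff.2 (fun x _ => h x))
      exact ⟨v, hv, hc1 ▸ Subgroup.one_mem _⟩
    · have hcr : c ∈ φ.range := by
        have hab : commutator G ≤ φ.range := by
          haveI := hGpn
          have hcard : Nat.card (G ⧸ φ.range) ≤ p ^ 2 := by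
            rw [← Subgroup.index_eq_card]; exact hidx
          have hcm := comm_of_card_le_sq (hG.to_quotient φ.range) hcard
          rw [commutator_def, Subgroup.commutator_le]
          intro a _ b _
          rw [← QuotientGroup.eq_one_iff]
          have e : ((⁅a, b⁆ : G) : G ⧸ φ.range) = ⁅(a : G ⧸ φ.range), (b : G ⧸ φ.range)⁆ :=
            map_commutatorElement (QuotientGroup.mk' φ.range) a b
          rw [e, commutatorElement_eq_one_iff_mul_comm]
          exact hcm _ _
        exact hab (hG' ▸ Subgroup.mem_zpowers c)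
      obtain ⟨m, hm⟩ := IsPGroup.iff_card.1 hG
      let Pk : ℕ → Prop := fun k => ∃ v : G, v ^ (p ^ k) = c
      have hP1 : Pk 1 := by
        obtain ⟨w, hw⟩ := hcr
        exact ⟨w, by rw [pow_one]; exact hw⟩
      have hPm : ∀ k, m ≤ k → ¬ Pk k := by
        rintro k hk ⟨v, hv⟩
        apply hc1
        rw [← hv]
        have h3 : v ^ (p ^ m) = 1 := by rw [← hm]; exact pow_card_eq_one'
        obtain ⟨d, rfl⟩ := Nat.exists_eq_add_of_le hk
        rw [pow_add, pow_mul, h3, one_pow]
      have hm1 : 1 ≤ m := by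
        by_contra h
        exact hPm 1 (by omega) hP1
      have hk₀ : Pk (Nat.findGreatest Pk m) := Nat.findGreatest_spec hm1 hP1
      have hk₀max : ¬ Pk (Nat.findGreatest Pk m + 1) := by
        by_cases h : Nat.findGreatest Pk m + 1 ≤ m
        · exact Nat.findGreatest_is_greatest (Nat.lt_succ_self _) h
        · exact hPm _ (by omega)
      obtain ⟨v, hv⟩ := hk₀
      refine ⟨v, ?_, ?_⟩
      · rintro ⟨w, hw⟩
        apply hk₀max
        refine ⟨w, ?_⟩
        rw [pow_succ', pow_mul, ← hφ w, hw]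
        exact hv
      · rw [Subgroup.mem_zpowers_iff]
        exact ⟨(p ^ Nat.findGreatest Pk m : ℕ), by rw [zpow_natCast]; exact hv⟩
  have hG'N : commutator G ≤ Subgroup.zpowers v := by
    rw [hG']; exact Subgroup.zpowers_le.2 hcv
  have hNn : (Subgroup.zpowers v).Normal := by
    constructor
    intro n hn g
    have h1 : g * n * g⁻¹ = ⁅g, n⁆ * n := by simp [commutatorElement_def]
    rw [h1]
    exact Subgroup.mul_mem _
      (hG'N (Subgroup.commutator_mem_commutator (Subgroup.mem_top g) (Subgroup.mem_top n))) hn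
  refine ⟨Subgroup.zpowers v, hNn, inferInstance, ?_⟩
  have hĀp : IsPGroup p (G ⧸ Subgroup.zpowers v) := hG.to_quotient _
  apply isCyclic_of_small_exp hp2 hĀp
  intro B hB
  have hĀcomm : ∀ x y : G ⧸ Subgroup.zpowers v, x * y = y * x := by
    intro x y
    obtain ⟨a, rfl⟩ := QuotientGroup.mk_surjective x
    obtain ⟨b, rfl⟩ := QuotientGroup.mk_surjective y
    rw [← commutatorElement_eq_one_iff_mul_comm]
    have e : ((⁅a, b⁆ : G) : G ⧸ Subgroup.zpowers v) =
        ⁅(a : G ⧸ Subgroup.zpowers v), (b : G ⧸ Subgroup.zpowers v)⁆ :=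
      map_commutatorElement (QuotientGroup.mk' (Subgroup.zpowers v)) a b
    rw [← e, QuotientGroup.eq_one_iff]
    exact hG'N (Subgroup.commutator_mem_commutator (Subgroup.mem_top a) (Subgroup.mem_top b))
  let ψ : (G ⧸ Subgroup.zpowers v) →* (G ⧸ Subgroup.zpowers v) :=
    { toFun := fun x => x ^ p
      map_one' := one_pow p
      map_mul' := fun x y => (show Commute x y from hĀcomm x y).mul_pow p }
  have hψ : ∀ x, ψ x = x ^ p := fun _ => rfl
  have hBker : B ≤ ψ.ker := fun b hb => hB b hb
  have h1 : Nat.card ψ.ker = ψ.range.index := by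
    have e1 := Subgroup.index_ker ψ
    have e2 := Subgroup.card_mul_index ψ.ker
    have e3 := Subgroup.card_mul_index ψ.range
    rw [e1] at e2
    have hpos : 0 < Nat.card ψ.range := Nat.card_pos
    apply Nat.eq_of_mul_eq_mul_right hpos
    rw [e2, mul_comm, e3]
  have hle : φ.range ⊔ Subgroup.zpowers v ≤
      ψ.range.comap (QuotientGroup.mk' (Subgroup.zpowers v)) := by
    apply sup_le
    · rintro _ ⟨x, rfl⟩
      exact ⟨QuotientGroup.mk x, by rw [hψ, hφ]; rfl⟩
    · intro n hn
      rw [Subgroup.mem_comap, QuotientGroup.mk'_apply, (QuotientGroup.eq_one_iff n).2 hn]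
      exact Subgroup.one_mem _
  have hidx_eq : (ψ.range.comap (QuotientGroup.mk' (Subgroup.zpowers v))).index = ψ.range.index :=
    Subgroup.index_comap_of_surjective _ (QuotientGroup.mk'_surjective _)
  have hJ : (φ.range ⊔ Subgroup.zpowers v).index ≤ p := by
    have h3 := Subgroup.relIndex_mul_index (le_sup_left : φ.range ≤ φ.range ⊔ Subgroup.zpowers v)
    have h4 : φ.range.relIndex (φ.range ⊔ Subgroup.zpowers v) ≠ 1 := by
      intro h
      rw [Subgroup.relIndex_eq_one] at h
      exact hvG (h (Subgroup.mem_sup_right (Subgroup.mem_zpowers v)))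
    have h5 : φ.range.relIndex (φ.range ⊔ Subgroup.zpowers v) ≠ 0 := by
      intro h
      rw [h, zero_mul] at h3
      exact Subgroup.index_ne_zero_of_finite h3.symm
    obtain ⟨m, hm⟩ := IsPGroup.iff_card.1 hG
    have h6 : (φ.range ⊔ Subgroup.zpowers v).index ∣ p ^ m := by
      rw [← hm]; exact Subgroup.index_dvd_card _
    obtain ⟨i, -, hi⟩ := (Nat.dvd_prime_pow hp.out).1 h6
    rw [hi] at h3 ⊢
    by_contra hcon
    rw [not_le] at hcon
    have hi2 : 2 ≤ i := by
      by_contra hi1
      have hi1' : i ≤ 1 := by omega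
      have : p ^ i ≤ p ^ 1 := Nat.pow_le_pow_right hp.out.pos hi1'
      rw [pow_one] at this
      omega
    have h7 : p ^ 2 ≤ p ^ i := Nat.pow_le_pow_right hp.out.pos hi2
    have h8 : 2 ≤ φ.range.relIndex (φ.range ⊔ Subgroup.zpowers v) := by omega
    have h9 : 2 * p ^ 2 ≤ φ.range.index := by
      rw [← h3]
      exact Nat.mul_le_mul h8 h7
    have hpos : 0 < p ^ 2 := pow_pos hp.out.pos 2
    omega
  have h10 : ψ.range.index ≤ p := by
    rw [← hidx_eq]
    have h11 := Subgroup.index_dvd_of_le hle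
    have hpos : 0 < (φ.range ⊔ Subgroup.zpowers v).index :=
      Nat.pos_of_ne_zero Subgroup.index_ne_zero_of_finite
    exact (Nat.le_of_dvd hpos h11).trans hJ
  calc Nat.card B ≤ Nat.card ψ.ker := Subgroup.card_le_of_le hBker
    _ = ψ.range.index := h1
    _ ≤ p := h10

end Cfsg.Agent.Helper1.HuppertMeta
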