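import Mathlib
import Cfsg.Prelude.Def_Transfer
import Cfsg.Prelude.Def_OddOrderLocal
import Cfsg.Agent.Helper1.Basic
import Cfsg.Agent.Helper1.HuppertMetaA

set_option autoImplicit false

/-!
Huppert's criterion: the commutator subgroup of an extension of an abelian normal subgroup
`K = ⟨a⟩ N` (`N` central) by a cyclic group `⟨b K⟩` is generated by `[a, b]`.
-/

namespace Cfsg.Agent.Helper1.HuppertMeta

open Cfsg Cfsg.Agent.Helper1
open scoped commutatorElement

universe u

variable {G : Type u} [Group G]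

/-- If a generating set commutes pairwise modulo the normal subgroup `Z`, then `G' ≤ Z`. -/
theorem commutator_le_of_generators (Z : Subgroup G) [Z.Normal] (S : Set G)
    (hS : Subgroup.closure S = ⊤) (h : ∀ s ∈ S, ∀ t ∈ S, ⁅s, t⁆ ∈ Z) : commutator G ≤ Z := by
  set π := QuotientGroup.mk' Z with hπ
  have hcl : Subgroup.closure (π '' S) = ⊤ := by
    rw [← MonoidHom.map_closure, hS, ← MonoidHom.range_eq_map, MonoidHom.range_eq_top]
    exact QuotientGroup.mk'_surjective Z
  have hpair : ∀ s ∈ π '' S, ∀ t ∈ π '' S, t * s = s * t := by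
    rintro _ ⟨s, hs, rfl⟩ _ ⟨t, ht, rfl⟩
    have h1 := h t ht s hs
    have h2 : π ⁅t, s⁆ = 1 := (QuotientGroup.eq_one_iff _).2 h1
    rw [map_commutatorElement, commutatorElement_eq_one_iff_mul_comm] at h2
    exact h2
  have h1 : (⊤ : Subgroup (G ⧸ Z)) ≤ Subgroup.centralizer (π '' S) := by
    rw [← hcl, Subgroup.closure_le]
    intro s hs
    rw [SetLike.mem_coe, Subgroup.mem_centralizer_iff]
    intro t ht
    exact hpair s hs t ht
  have h2 : (⊤ : Subgroup (G ⧸ Z)) ≤ Subgroup.center (G ⧸ Z) := by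
    rw [← hcl, Subgroup.closure_le]
    intro t ht
    rw [SetLike.mem_coe, Subgroup.mem_center_iff]
    intro x
    have := h1 (Subgroup.mem_top x)
    rw [Subgroup.mem_centralizer_iff] at this
    exact (this t ht).symm
  rw [commutator_def, Subgroup.commutator_le]
  intro a _ b _
  rw [← QuotientGroup.eq_one_iff]
  have e : ((⁅a, b⁆ : G) : G ⧸ Z) = ⁅(a : G ⧸ Z), (b : G ⧸ Z)⁆ := map_commutatorElement π a b
  rw [e, commutatorElement_eq_one_iff_mul_comm]
  have h3 := h2 (Subgroup.mem_top (b : G ⧸ Z))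
  rw [Subgroup.mem_center_iff] at h3
  exact h3 _

theorem commutator_le_zpowers [Finite G] {K N : Subgroup G} [hKn : K.Normal]
    (hKab : ∀ x ∈ K, ∀ y ∈ K, x * y = y * x) (hNc : N ≤ Subgroup.center G) (hNK : N ≤ K)
    (a b : G) (ha : a ∈ K)
    (hK : ∀ k ∈ K, ∃ i : ℤ, ∃ n ∈ N, k = a ^ i * n)
    (hGb : ∀ g : G, ∃ k ∈ K, ∃ j : ℤ, g = k * b ^ j) :
    commutator G ≤ Subgroup.zpowers ⁅a, b⁆ := by
  have hθmem : ∀ k ∈ K, ⁅k, b⁆ ∈ K := fun k hk => by
    have h1 : b * k⁻¹ * b⁻¹ ∈ K := hKn.conj_mem _ (K.inv_mem hk) b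
    have e : ⁅k, b⁆ = k * (b * k⁻¹ * b⁻¹) := by rw [commutatorElement_def]; group
    rw [e]; exact K.mul_mem hk h1
  let θ : ↥K →* G :=
    { toFun := fun k => ⁅(k : G), b⁆
      map_one' := by simp
      map_mul' := by
        intro x y
        show ⁅(x : G) * (y : G), b⁆ = ⁅(x : G), b⁆ * ⁅(y : G), b⁆
        rw [commutatorElement_mul_left_eq_conj_mul]
        have h1 : (x : G) * ⁅(y : G), b⁆ * (x : G)⁻¹ = ⁅(y : G), b⁆ := by
          have := hKab x x.2 _ (hθmem y y.2)
          rw [this]; group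
        rw [h1]
        exact hKab _ (hθmem y y.2) _ (hθmem x x.2) }
  have hθ : ∀ k : ↥K, θ k = ⁅(k : G), b⁆ := fun _ => rfl
  -- step 1
  have step1 : ∀ k ∈ K, ⁅k, b⁆ ∈ Subgroup.zpowers ⁅a, b⁆ := by
    intro k hk
    obtain ⟨i, n, hn, rfl⟩ := hK k hk
    have e1 : ⁅a ^ i * n, b⁆ = θ ((⟨a, ha⟩ : ↥K) ^ i * ⟨n, hNK hn⟩) := by
      rw [hθ]
      simp
    have e2 : θ ⟨n, hNK hn⟩ = 1 := by
      rw [hθ]
      show ⁅n, b⁆ = 1
      rw [commutatorElement_eq_one_iff_mul_comm]
      exact (Subgroup.mem_center_iff.1 (hNc hn) b).symm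
    rw [e1, map_mul, map_zpow, e2, mul_one, hθ]
    exact Subgroup.zpow_mem _ (Subgroup.mem_zpowers _) i
  -- normality of `Z`
  have hcK : ⁅a, b⁆ ∈ K := hθmem a ha
  have hKN : K ≤ Subgroup.normalizer ((Subgroup.zpowers ⁅a, b⁆ : Subgroup G) : Set G) := by
    intro k hk
    apply Subgroup.centralizer_le_normalizer
    rw [Subgroup.mem_centralizer_iff]
    intro z hz
    obtain ⟨i, rfl⟩ := Subgroup.mem_zpowers_iff.1 hz
    exact hKab _ (K.zpow_mem hcK i) _ hk
  have hbN : b ∈ Subgroup.normalizer ((Subgroup.zpowers ⁅a, b⁆ : Subgroup G) : Set G) := by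
    rw [Subgroup.mem_normalizer_iff_map_conj_eq]
    apply Subgroup.eq_of_le_of_card_ge
    · rintro _ ⟨z, hz, rfl⟩
      obtain ⟨i, rfl⟩ := Subgroup.mem_zpowers_iff.1 hz
      show (MulAut.conj b) (⁅a, b⁆ ^ i) ∈ _
      rw [map_zpow]
      apply Subgroup.zpow_mem
      have e : (MulAut.conj b) ⁅a, b⁆ = ⁅b * a * b⁻¹, b⁆ := by
        rw [MulAut.conj_apply, commutatorElement_def, commutatorElement_def]; group
      rw [e]
      exact step1 _ (hKn.conj_mem a ha b)
    · rw [Subgroup.card_map_of_injective (MulAut.conj b).injective]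
  haveI hZn : (Subgroup.zpowers ⁅a, b⁆).Normal := by
    rw [← Subgroup.normalizer_eq_top_iff, eq_top_iff]
    intro g _
    obtain ⟨k, hk, j, rfl⟩ := hGb g
    exact Subgroup.mul_mem _ (hKN hk) (Subgroup.zpow_mem _ hbN j)
  apply commutator_le_of_generators (Subgroup.zpowers ⁅a, b⁆) ((K : Set G) ∪ {b})
  · rw [eq_top_iff]
    intro g _
    obtain ⟨k, hk, j, rfl⟩ := hGb g
    exact (Subgroup.closure ((K : Set G) ∪ {b})).mul_mem (Subgroup.subset_closure (Or.inl hk))
      ((Subgroup.closure ((K : Set G) ∪ {b})).zpow_mem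
        (Subgroup.subset_closure (Or.inr (Set.mem_singleton b))) j)
  · rintro s (hs | hs) t (ht | ht)
    · have : ⁅s, t⁆ = 1 := by
        rw [commutatorElement_eq_one_iff_mul_comm]; exact hKab s hs t ht
      rw [this]; exact Subgroup.one_mem _
    · rw [Set.mem_singleton_iff] at ht
      rw [ht]
      exact step1 s hs
    · rw [Set.mem_singleton_iff] at hs
      rw [hs, ← commutatorElement_inv t b]
      exact Subgroup.inv_mem _ (step1 t ht)
    · rw [Set.mem_singleton_iff] at hs ht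
      rw [hs, ht, commutatorElement_self]; exact Subgroup.one_mem _

end Cfsg.Agent.Helper1.HuppertMeta
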