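import Mathlib

set_option autoImplicit false

/-!
The collection formula `(xy)^n = c^{n choose 2} z x^n y^n` in a group of class at most three, and
its consequences for the `p`-th power map.
-/

namespace Cfsg.Agent.Helper1

open scoped commutatorElement

variable {R : Type*} [Group R]

section arith

/-- sum of squares -/
def sumSq (n : ℕ) : ℕ := ∑ k ∈ Finset.range n, k ^ 2

theorem sumSq_succ (n : ℕ) : sumSq (n + 1) = sumSq n + n ^ 2 := by
  unfold sumSq; rw [Finset.sum_range_succ]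

theorem six_mul_sumSq (n : ℕ) : 6 * sumSq (n + 1) = n * (n + 1) * (2 * n + 1) := by
  induction n with
  | zero => simp [sumSq]
  | succ n ih => rw [sumSq_succ, mul_add, ih]; ring

theorem prime_dvd_sumSq {p : ℕ} (hp : p.Prime) (h3 : 3 < p) : p ∣ sumSq p := by
  obtain ⟨n, rfl⟩ : ∃ n, p = n + 1 := ⟨p - 1, by have := hp.pos; omega⟩
  have h1 : (n + 1) ∣ 6 * sumSq (n + 1) := by
    rw [six_mul_sumSq]; exact Dvd.dvd.mul_right (Dvd.intro_left n rfl) _
  have hcop : Nat.Coprime (n + 1) 6 := by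
    have h2 : Nat.Coprime (n + 1) 2 := (Nat.coprime_primes hp Nat.prime_two).2 (by omega)
    have h3' : Nat.Coprime (n + 1) 3 := (Nat.coprime_primes hp Nat.prime_three).2 (by omega)
    have : (6 : ℕ) = 2 * 3 := by norm_num
    rw [this]; exact Nat.Coprime.mul_right h2 h3'
  exact hcop.dvd_of_dvd_mul_left h1

end arith

section central

/-- moving central factors -/
theorem central_shuffle (c : R) (z z' : Subgroup.center R) (a b : ℕ) :
    c ^ a * (z : R) * (c ^ b * (z' : R)) = c ^ (a + b) * ((z * z' : Subgroup.center R) : R) := by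
  have hz : (z : R) * c ^ b = c ^ b * (z : R) := (Subgroup.mem_center_iff.1 z.2 (c ^ b)).symm
  calc c ^ a * (z : R) * (c ^ b * (z' : R)) = c ^ a * ((z : R) * c ^ b) * (z' : R) := by group
    _ = c ^ a * (c ^ b * (z : R)) * (z' : R) := by rw [hz]
    _ = c ^ (a + b) * ((z * z' : Subgroup.center R) : R) := by
        rw [pow_add, Subgroup.coe_mul]; group

theorem comm_mul_right_of_central {g u v : R} (hv : ⁅g, v⁆ ∈ Subgroup.center R) :
    ⁅g, u * v⁆ = ⁅g, u⁆ * ⁅g, v⁆ := by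
  rw [commutatorElement_mul_right_eq_mul_conj]
  have h := Subgroup.mem_center_iff.1 hv u
  calc ⁅g, u⁆ * u * ⁅g, v⁆ * u⁻¹ = ⁅g, u⁆ * (u * ⁅g, v⁆) * u⁻¹ := by group
    _ = ⁅g, u⁆ * (⁅g, v⁆ * u) * u⁻¹ := by rw [h]
    _ = ⁅g, u⁆ * ⁅g, v⁆ := by group

theorem comm_mul_left_of_central {g h u : R} (hh : ⁅h, u⁆ ∈ Subgroup.center R) :
    ⁅g * h, u⁆ = ⁅h, u⁆ * ⁅g, u⁆ := by
  rw [commutatorElement_mul_left_eq_conj_mul]
  have h1 := Subgroup.mem_center_iff.1 hh g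
  calc g * ⁅h, u⁆ * g⁻¹ * ⁅g, u⁆ = (g * ⁅h, u⁆) * g⁻¹ * ⁅g, u⁆ := by group
    _ = (⁅h, u⁆ * g) * g⁻¹ * ⁅g, u⁆ := by rw [h1]
    _ = ⁅h, u⁆ * ⁅g, u⁆ := by group

theorem comm_mul_central {g u z : R} (hz : z ∈ Subgroup.center R) : ⁅g, u * z⁆ = ⁅g, u⁆ := by
  have h1 : ⁅g, z⁆ = 1 := by
    rw [commutatorElement_eq_one_iff_mul_comm]
    exact Subgroup.mem_center_iff.1 hz g
  rw [comm_mul_right_of_central (by rw [h1]; exact Subgroup.one_mem _), h1, mul_one]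

end central

theorem commElem_mem_commutator (a b : R) : ⁅a, b⁆ ∈ commutator R :=
  Subgroup.commutator_mem_commutator (Subgroup.mem_top a) (Subgroup.mem_top b)

section classthree

variable (hγ : ∀ u ∈ commutator R, ∀ g : R, ⁅g, u⁆ ∈ Subgroup.center R)

include hγ

theorem comm_pow_right {g u : R} (hu : u ∈ commutator R) (k : ℕ) : ⁅g, u ^ k⁆ = ⁅g, u⁆ ^ k := by
  induction k with
  | zero => simp
  | succ k ih =>
    rw [pow_succ, comm_mul_right_of_central (hγ u hu g), ih, pow_succ]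

theorem comm_pow_left {g u : R} (hu : u ∈ commutator R) (k : ℕ) : ⁅g ^ k, u⁆ = ⁅g, u⁆ ^ k := by
  induction k with
  | zero => simp
  | succ k ih =>
    rw [pow_succ, comm_mul_left_of_central (hγ u hu g), ih, pow_succ']

/-- `[y^k, x] = c^k * [y, c]^(k choose 2)` -/
theorem comm_pow_formula (x y : R) (Zy : Subgroup.center R) (hZy : (Zy : R) = ⁅y, ⁅y, x⁆⁆)
    (k : ℕ) :
    ⁅y ^ k, x⁆ = ⁅y, x⁆ ^ k * ((Zy ^ (k.choose 2) : Subgroup.center R) : R) := by
  induction k with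
  | zero => simp
  | succ k ih =>
    have hc := commElem_mem_commutator y x
    have h1 : ⁅y ^ (k + 1), x⁆ = ⁅y, ⁅y ^ k, x⁆⁆ * ⁅y ^ k, x⁆ * ⁅y, x⁆ := by
      rw [pow_succ', commutatorElement_mul_left_eq_conj_mul]
      simp only [commutatorElement_def]; group
    have h2 : ⁅y, ⁅y ^ k, x⁆⁆ = ((Zy ^ k : Subgroup.center R) : R) := by
      rw [ih, comm_mul_central (Zy ^ (k.choose 2)).2, comm_pow_right hγ hc, ← hZy]
      simp
    rw [h1, h2, ih]
    have h3 := central_shuffle ⁅y, x⁆ (Zy ^ (k.choose 2)) 1 k 1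
    rw [pow_one, OneMemClass.coe_one, mul_one, mul_one] at h3
    have h4 : ((Zy ^ k : Subgroup.center R) : R) * (⁅y, x⁆ ^ k * ((Zy ^ (k.choose 2) :
        Subgroup.center R) : R)) * ⁅y, x⁆ = ⁅y, x⁆ ^ (k + 1) *
        ((Zy ^ k * Zy ^ (k.choose 2) : Subgroup.center R) : R) := by
      have h5 := Subgroup.mem_center_iff.1 (Zy ^ k).2 (⁅y, x⁆ ^ k * ((Zy ^ (k.choose 2) :
        Subgroup.center R) : R) * ⁅y, x⁆)
      rw [mul_assoc, ← h5, h3, Subgroup.coe_mul]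
      have h6 := Subgroup.mem_center_iff.1 (Zy ^ k).2 ((Zy ^ (k.choose 2) : Subgroup.center R) : R)
      rw [mul_assoc, h6]
    rw [h4, ← pow_add]
    congr 3
    rw [Nat.choose_succ_succ' k 1, Nat.choose_one_right]

/-- the collection formula in class at most three -/
theorem collection_formula (x y : R) (Zy Zx : Subgroup.center R)
    (hZy : (Zy : R) = ⁅y, ⁅y, x⁆⁆) (hZx : (Zx : R) = ⁅x, ⁅y, x⁆⁆) (n : ℕ) :
    (x * y) ^ n = ⁅y, x⁆ ^ (n.choose 2) *
      ((Zy ^ (n.choose 3) * Zx ^ (sumSq n) : Subgroup.center R) : R) * x ^ n * y ^ n := by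
  induction n with
  | zero => simp [sumSq]
  | succ n ih =>
    have hc := commElem_mem_commutator y x
    have hd := commElem_mem_commutator (y ^ n) x
    have hA : x ^ n * y ^ n * (x * y) =
        (x ^ n * ⁅y ^ n, x⁆ * (x ^ n)⁻¹) * x ^ (n + 1) * y ^ (n + 1) := by
      simp only [commutatorElement_def]; group
    have hB : x ^ n * ⁅y ^ n, x⁆ * (x ^ n)⁻¹ = ⁅x ^ n, ⁅y ^ n, x⁆⁆ * ⁅y ^ n, x⁆ := by
      simp only [commutatorElement_def]; group
    have hC : ⁅x ^ n, ⁅y ^ n, x⁆⁆ = ((Zx ^ (n * n) : Subgroup.center R) : R) := by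
      rw [comm_pow_left hγ hd, comm_pow_formula hγ x y Zy hZy n,
        comm_mul_central (Zy ^ (n.choose 2)).2, comm_pow_right hγ hc, ← hZx, ← pow_mul]
      simp
    rw [pow_succ, ih]
    calc ⁅y, x⁆ ^ (n.choose 2) * ((Zy ^ (n.choose 3) * Zx ^ (sumSq n) : Subgroup.center R) : R) *
          x ^ n * y ^ n * (x * y)
        = ⁅y, x⁆ ^ (n.choose 2) * ((Zy ^ (n.choose 3) * Zx ^ (sumSq n) : Subgroup.center R) : R) *
          (x ^ n * y ^ n * (x * y)) := by group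
      _ = ⁅y, x⁆ ^ (n.choose 2) * ((Zy ^ (n.choose 3) * Zx ^ (sumSq n) : Subgroup.center R) : R) *
          (((Zx ^ (n * n) : Subgroup.center R) : R) * (⁅y, x⁆ ^ n *
            ((Zy ^ (n.choose 2) : Subgroup.center R) : R))) * x ^ (n + 1) * y ^ (n + 1) := by
          rw [hA, hB, hC, comm_pow_formula hγ x y Zy hZy n]; group
      _ = ⁅y, x⁆ ^ (n.choose 2) * ((Zy ^ (n.choose 3) * Zx ^ (sumSq n) : Subgroup.center R) : R) *
          (⁅y, x⁆ ^ n * ((Zx ^ (n * n) * Zy ^ (n.choose 2) : Subgroup.center R) : R)) *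
            x ^ (n + 1) * y ^ (n + 1) := by
          have h5 := Subgroup.mem_center_iff.1 (Zx ^ (n * n)).2 (⁅y, x⁆ ^ n)
          have h6 : ((Zx ^ (n * n) : Subgroup.center R) : R) * (⁅y, x⁆ ^ n *
              ((Zy ^ (n.choose 2) : Subgroup.center R) : R)) =
              ⁅y, x⁆ ^ n * ((Zx ^ (n * n) * Zy ^ (n.choose 2) : Subgroup.center R) : R) := by
            rw [Subgroup.coe_mul, ← mul_assoc, ← h5, mul_assoc]
          rw [h6]
      _ = ⁅y, x⁆ ^ ((n + 1).choose 2) *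
          ((Zy ^ ((n + 1).choose 3) * Zx ^ (sumSq (n + 1)) : Subgroup.center R) : R) *
            x ^ (n + 1) * y ^ (n + 1) := by
          rw [central_shuffle]
          congr 3
          · rw [Nat.choose_succ_succ' n 1, Nat.choose_one_right, add_comm]
          · rw [sumSq_succ, Nat.choose_succ_succ' n 2, pow_add, pow_add, sq]
            ac_rfl

theorem mul_pow_of_class_three (x y : R) (n : ℕ) (hc : ⁅y, x⁆ ^ (n.choose 2) = 1)
    (hz : ⁅y, ⁅y, x⁆⁆ ^ (n.choose 3) = 1) (hz' : ⁅x, ⁅y, x⁆⁆ ^ (sumSq n) = 1) :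
    (x * y) ^ n = x ^ n * y ^ n := by
  have hcm := commElem_mem_commutator y x
  rw [collection_formula hγ x y ⟨⁅y, ⁅y, x⁆⁆, hγ _ hcm y⟩ ⟨⁅x, ⁅y, x⁆⁆, hγ _ hcm x⟩ rfl rfl n, hc,
    Subgroup.coe_mul, Subgroup.coe_pow, Subgroup.coe_pow]
  simp only [hz, hz', one_mul]

theorem pow_eq_one_of_dvd' {g : R} {p m : ℕ} (h : g ^ p = 1) (hd : p ∣ m) : g ^ m = 1 := by
  obtain ⟨k, rfl⟩ := hd
  rw [pow_mul, h, one_pow]

/-- the `p`-th power map is multiplicative on elements whose relevant commutators have order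
dividing `p` -/
theorem mul_pow_prime_eq {p : ℕ} (hdiv : p ∣ p.choose 2)
    (h3 : (p ∣ p.choose 3 ∧ p ∣ sumSq p) ∨ ∀ u ∈ commutator R, ∀ g : R, ⁅g, u⁆ = 1)
    (x y : R) (hcp : ⁅y, x⁆ ^ p = 1) (hyp : ⁅y, ⁅y, x⁆⁆ ^ p = 1) (hxp : ⁅x, ⁅y, x⁆⁆ ^ p = 1) :
    (x * y) ^ p = x ^ p * y ^ p := by
  apply mul_pow_of_class_three hγ x y p (pow_eq_one_of_dvd' hγ hcp hdiv)
  · rcases h3 with h3 | h3
    · exact pow_eq_one_of_dvd' hγ hyp h3.1
    · rw [h3 _ (commElem_mem_commutator y x) y, one_pow]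
  · rcases h3 with h3 | h3
    · exact pow_eq_one_of_dvd' hγ hxp h3.2
    · rw [h3 _ (commElem_mem_commutator y x) x, one_pow]

theorem mul_pow_eq_one_of_pow_eq_one {p : ℕ} (hdiv : p ∣ p.choose 2)
    (h3 : (p ∣ p.choose 3 ∧ p ∣ sumSq p) ∨ ∀ u ∈ commutator R, ∀ g : R, ⁅g, u⁆ = 1)
    (x y : R) (hx : x ^ p = 1) (hy : y ^ p = 1) : (x * y) ^ p = 1 := by
  have hcm := commElem_mem_commutator y x
  have hyp : ⁅y, ⁅y, x⁆⁆ ^ p = 1 := by
    rw [← comm_pow_left hγ hcm, hy]; simp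
  have hxp : ⁅x, ⁅y, x⁆⁆ ^ p = 1 := by
    rw [← comm_pow_left hγ hcm, hx]; simp
  have hcp : ⁅y, x⁆ ^ p = 1 := by
    have h1 := comm_pow_formula hγ x y ⟨⁅y, ⁅y, x⁆⁆, hγ _ hcm y⟩ rfl p
    rw [hy, Subgroup.coe_pow] at h1
    have h2 : ⁅y, ⁅y, x⁆⁆ ^ p.choose 2 = 1 := pow_eq_one_of_dvd' hγ hyp hdiv
    simp only [h2, mul_one] at h1
    rw [← h1]; simp
  rw [mul_pow_prime_eq hγ hdiv h3 x y hcp hyp hxp, hx, hy, one_mul]

theorem pow_eq_one_of_mem_closure {p : ℕ} (hdiv : p ∣ p.choose 2)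
    (h3 : (p ∣ p.choose 3 ∧ p ∣ sumSq p) ∨ ∀ u ∈ commutator R, ∀ g : R, ⁅g, u⁆ = 1)
    (g : R) (hg : g ∈ Subgroup.closure {x : R | x ^ p = 1}) : g ^ p = 1 := by
  induction hg using Subgroup.closure_induction with
  | mem x hx => exact hx
  | one => exact one_pow p
  | mul x y _ _ ihx ihy => exact mul_pow_eq_one_of_pow_eq_one hγ hdiv h3 x y ihx ihy
  | inv x _ ihx => rw [inv_pow, ihx, inv_one]

end classthree

section apply

/-- `γ₃` central from `γ₄ = 1` -/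
theorem central_of_class_three (h : ⁅⁅commutator R, (⊤ : Subgroup R)⁆, (⊤ : Subgroup R)⁆ = ⊥) :
    ∀ u ∈ commutator R, ∀ g : R, ⁅g, u⁆ ∈ Subgroup.center R := by
  intro u hu g
  have h1 : ⁅u, g⁆ ∈ ⁅commutator R, (⊤ : Subgroup R)⁆ :=
    Subgroup.commutator_mem_commutator hu (Subgroup.mem_top g)
  have h2 := (Subgroup.commutator_eq_bot_iff_le_centralizer.1 h) h1
  rw [Subgroup.coe_top, Subgroup.centralizer_univ] at h2
  rw [← commutatorElement_inv]
  exact Subgroup.inv_mem _ h2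

theorem trivial_of_class_two (h : ⁅commutator R, (⊤ : Subgroup R)⁆ = ⊥) :
    ∀ u ∈ commutator R, ∀ g : R, ⁅g, u⁆ = 1 := by
  intro u hu g
  have h1 : ⁅u, g⁆ ∈ ⁅commutator R, (⊤ : Subgroup R)⁆ :=
    Subgroup.commutator_mem_commutator hu (Subgroup.mem_top g)
  rw [h, Subgroup.mem_bot] at h1
  rw [← commutatorElement_inv, h1, inv_one]

/-- S0124 -/
theorem omega_exponent_of_class_three {p : ℕ} (hp : p.Prime) (h3 : 3 < p)
    (hcl : ⁅⁅commutator R, (⊤ : Subgroup R)⁆, (⊤ : Subgroup R)⁆ = ⊥) (g : R)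
    (hg : g ∈ Subgroup.closure {x : R | x ^ p = 1}) : g ^ p = 1 :=
  pow_eq_one_of_mem_closure (central_of_class_three hcl)
    (hp.dvd_choose_self (by norm_num) (by omega))
    (Or.inl ⟨hp.dvd_choose_self (by norm_num) h3, prime_dvd_sumSq hp h3⟩) g hg

/-- S0123 -/
theorem pow_mul_of_small_class {p : ℕ} (hp : p.Prime)
    (hcl : (p ≠ 2 ∧ ⁅commutator R, (⊤ : Subgroup R)⁆ = ⊥) ∨
      (3 < p ∧ ⁅⁅commutator R, (⊤ : Subgroup R)⁆, (⊤ : Subgroup R)⁆ = ⊥))
    (hder : commutator R ≤ Subgroup.closure {x : R | x ^ p = 1}) (x y : R) :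
    (x * y) ^ p = x ^ p * y ^ p := by
  have hcm := commElem_mem_commutator y x
  rcases hcl with ⟨hp2, hcl⟩ | ⟨hp3, hcl⟩
  · have htriv := trivial_of_class_two hcl
    have hγ : ∀ u ∈ commutator R, ∀ g : R, ⁅g, u⁆ ∈ Subgroup.center R := by
      intro u hu g; rw [htriv u hu g]; exact Subgroup.one_mem _
    have hdiv : p ∣ p.choose 2 :=
      hp.dvd_choose_self (by norm_num) (lt_of_le_of_ne hp.two_le (Ne.symm hp2))
    have hexp : ∀ u ∈ commutator R, u ^ p = 1 := fun u hu =>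
      pow_eq_one_of_mem_closure hγ hdiv (Or.inr htriv) u (hder hu)
    exact mul_pow_prime_eq hγ hdiv (Or.inr htriv) x y (hexp _ hcm)
      (hexp _ (commElem_mem_commutator _ _)) (hexp _ (commElem_mem_commutator _ _))
  · have hγ := central_of_class_three hcl
    have hdiv : p ∣ p.choose 2 := hp.dvd_choose_self (by norm_num) (by omega)
    have h3 : (p ∣ p.choose 3 ∧ p ∣ sumSq p) ∨ ∀ u ∈ commutator R, ∀ g : R, ⁅g, u⁆ = 1 :=
      Or.inl ⟨hp.dvd_choose_self (by norm_num) hp3, prime_dvd_sumSq hp hp3⟩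
    have hexp : ∀ u ∈ commutator R, u ^ p = 1 := fun u hu =>
      pow_eq_one_of_mem_closure hγ hdiv h3 u (hder hu)
    exact mul_pow_prime_eq hγ hdiv h3 x y (hexp _ hcm)
      (hexp _ (commElem_mem_commutator _ _)) (hexp _ (commElem_mem_commutator _ _))

end apply

end Cfsg.Agent.Helper1
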