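import Mathlib
import Cfsg.Prelude.Def_Transfer
import Cfsg.Prelude.Def_PLocal
import Cfsg.Agent.Helper1.Basic
import Cfsg.Agent.Helper1.ClassThree

set_option autoImplicit false

/-!
A `p`-group (`p > 3`) with a central series `1 ≤ T ≤ M ≤ G'`-like chain and all `p`-th powers in
`T` (`|T| ≤ p`) has a subgroup of exponent `p` of index at most `p`.
-/

namespace Cfsg.Agent.Helper1.OmegaQuot

open Cfsg Cfsg.Agent.Helper1
open scoped commutatorElement

universe u

variable {G : Type u} [Group G]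

theorem exists_large_exp_p_subgroup [Finite G] {p : ℕ} [hp : Fact p.Prime] (h3 : 3 < p)
    (T M : Subgroup G) (hTc : T ≤ Subgroup.center G) (hMT : ∀ m ∈ M, ∀ g : G, ⁅m, g⁆ ∈ T)
    (hGM : ∀ a b : G, ⁅a, b⁆ ∈ M) (hpow : ∀ g : G, g ^ p ∈ T) (hT : Nat.card T ≤ p) :
    ∃ K : Subgroup G, (∀ k ∈ K, k ^ p = 1) ∧ Nat.card G ≤ p * Nat.card K := by
  have hcomm_le : commutator G ≤ M := by
    rw [commutator_def, Subgroup.commutator_le]
    intro a _ b _
    exact hGM a b
  have h2 : ⁅commutator G, (⊤ : Subgroup G)⁆ ≤ T := by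
    rw [Subgroup.commutator_le]
    intro u hu g _
    exact hMT u (hcomm_le hu) g
  have hcl : ⁅⁅commutator G, (⊤ : Subgroup G)⁆, (⊤ : Subgroup G)⁆ = ⊥ := by
    rw [eq_bot_iff, Subgroup.commutator_le]
    intro t ht g _
    rw [Subgroup.mem_bot, commutatorElement_eq_one_iff_mul_comm]
    exact (Subgroup.mem_center_iff.1 (hTc (h2 ht)) g).symm
  have hγ := central_of_class_three hcl
  have hdiv : p ∣ p.choose 2 := hp.out.dvd_choose_self (by norm_num) (by omega)
  have hcp : ∀ x y : G, ⁅y, x⁆ ^ p = 1 := by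
    intro x y
    have hc := commElem_mem_commutator y x
    have hZ : ⁅y, ⁅y, x⁆⁆ ∈ Subgroup.center G := hγ _ hc y
    have h4 := comm_pow_formula hγ x y ⟨⁅y, ⁅y, x⁆⁆, hZ⟩ rfl p
    have h5 : ⁅y ^ p, x⁆ = 1 := by
      rw [commutatorElement_eq_one_iff_mul_comm]
      exact (Subgroup.mem_center_iff.1 (hTc (hpow y)) x).symm
    have h6 : ⁅y, ⁅y, x⁆⁆ ^ p = 1 := by
      rw [← comm_pow_right hγ hc, commutatorElement_eq_one_iff_mul_comm]
      have hcT : ⁅y, x⁆ ^ p ∈ T := hpow _
      exact Subgroup.mem_center_iff.1 (hTc hcT) y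
    have h7 : ((⟨⁅y, ⁅y, x⁆⁆, hZ⟩ : Subgroup.center G) ^ (p.choose 2) : Subgroup.center G) = 1 := by
      apply Subtype.ext
      rw [Subgroup.coe_pow, Subgroup.coe_one]
      obtain ⟨k, hk⟩ := hdiv
      show ⁅y, ⁅y, x⁆⁆ ^ (p.choose 2) = 1
      rw [hk, pow_mul, h6, one_pow]
    rw [h5, h7, Subgroup.coe_one, mul_one] at h4
    exact h4.symm
  have hder : commutator G ≤ Subgroup.closure {x : G | x ^ p = 1} := by
    rw [commutator_eq_closure]
    apply Subgroup.closure_mono
    rintro g ⟨a, b, rfl⟩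
    exact hcp b a
  have hmul : ∀ x y : G, (x * y) ^ p = x ^ p * y ^ p :=
    pow_mul_of_small_class hp.out (Or.inr ⟨h3, hcl⟩) hder
  let φ : G →* T :=
    { toFun := fun g => ⟨g ^ p, hpow g⟩
      map_one' := by apply Subtype.ext; simp
      map_mul' := by
        intro a b
        apply Subtype.ext
        exact hmul a b }
  refine ⟨φ.ker, ?_, ?_⟩
  · intro k hk
    rw [MonoidHom.mem_ker] at hk
    exact congrArg Subtype.val hk
  · have h1 : φ.ker.index = Nat.card φ.range := Subgroup.index_ker φ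
    have h2' : Nat.card φ.range ≤ p := (Subgroup.card_le_card_group φ.range).trans hT
    rw [← Subgroup.index_mul_card φ.ker, h1]
    exact Nat.mul_le_mul_right _ h2'

end Cfsg.Agent.Helper1.OmegaQuot
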