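import Mathlib
import Cfsg.Prelude.Def_Transfer
import Cfsg.Prelude.Def_PLocal
import Cfsg.Agent.Helper1.Basic
import Cfsg.Agent.Helper1.Hall
import Cfsg.Agent.Helper1.Class2
import Cfsg.Agent.Helper1.NormalEA2
import Cfsg.Agent.Helper1.PRankTwo
import Cfsg.Agent.Helper1.MaxNormalAbelianBound
import Cfsg.Agent.Helper1.ThompsonSub
import Cfsg.Agent.Helper1.OmegaQuotA

set_option autoImplicit false

/-!
For `p > 3`: if the elements of order dividing `p` of a `p`-group `R` generate a subgroup of order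
at most `p ^ 2`, the same holds in every quotient of `R`.
-/

namespace Cfsg.Agent.Helper1.OmegaQuot

open Cfsg Cfsg.Agent.Helper1
open scoped commutatorElement

universe u

/-- In a finite cyclic group, `Ω₁` has order at most `p`. -/
theorem card_omegaOne_le_of_isCyclic {C : Type*} [Group C] [Finite C] [IsCyclic C] {p : ℕ}
    (hp : 0 < p) : Nat.card ↥(Cfsg.omegaOne p (⊤ : Subgroup C)) ≤ p := by
  classical
  have : Fintype C := Fintype.ofFinite C
  have hcomm : ∀ a b : C, Commute a b := by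
    intro a b
    obtain ⟨g, hg⟩ := IsCyclic.exists_generator (α := C)
    obtain ⟨m, rfl⟩ := Subgroup.mem_zpowers_iff.1 (hg a)
    obtain ⟨n, rfl⟩ := Subgroup.mem_zpowers_iff.1 (hg b)
    show g ^ m * g ^ n = g ^ n * g ^ m
    rw [← zpow_add, ← zpow_add, add_comm]
  have hle := IsCyclic.card_pow_eq_one_le (α := C) hp
  let K : Subgroup C :=
    { carrier := {a | a ^ p = 1}
      mul_mem' := by
        intro a b ha hb
        show (a * b) ^ p = 1
        rw [(hcomm a b).mul_pow, ha, hb, one_mul]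
      one_mem' := one_pow p
      inv_mem' := by
        intro a ha
        show a⁻¹ ^ p = 1
        rw [inv_pow, ha, inv_one] }
  have hK : Cfsg.omegaOne p (⊤ : Subgroup C) ≤ K := by
    unfold Cfsg.omegaOne
    rw [Subgroup.closure_le]
    rintro x ⟨-, hx⟩
    exact hx
  refine (Subgroup.card_le_of_le hK).trans ?_
  have h1 : Nat.card K = (Finset.univ.filter (fun a : C => a ^ p = 1)).card := by
    rw [Nat.card_eq_fintype_card, ← Finset.card_univ]
    symm
    apply Finset.card_bij (s := Finset.univ.filter (fun a : C => a ^ p = 1))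
      (t := (Finset.univ : Finset K)) (fun (a : C) ha => (⟨a, (Finset.mem_filter.mp ha).2⟩ : K))
    · intro a ha; exact Finset.mem_univ _
    · intro a _ b _ h; exact congrArg Subtype.val h
    · intro b _
      exact ⟨b.1, Finset.mem_filter.mpr ⟨Finset.mem_univ _, b.2⟩, rfl⟩
  rw [h1]
  exact hle

/-- `Ω₁` is carried to `Ω₁` by an isomorphism. -/
theorem card_omegaOne_congr {A B : Type*} [Group A] [Group B] (e : A ≃* B) (p : ℕ) :
    Nat.card ↥(Cfsg.omegaOne p (⊤ : Subgroup A)) = Nat.card ↥(Cfsg.omegaOne p (⊤ : Subgroup B)) := by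
  have h : (Cfsg.omegaOne p (⊤ : Subgroup A)).map e.toMonoidHom = Cfsg.omegaOne p (⊤ : Subgroup B) := by
    unfold Cfsg.omegaOne
    rw [MonoidHom.map_closure]
    congr 1
    ext y
    constructor
    · rintro ⟨x, ⟨-, hx⟩, rfl⟩
      refine ⟨Subgroup.mem_top _, ?_⟩
      show (e x) ^ p = 1
      rw [← map_pow, hx, map_one]
    · rintro ⟨-, hy⟩
      refine ⟨e.symm y, ⟨Subgroup.mem_top _, ?_⟩, by simp⟩
      rw [← map_pow, hy, map_one]
  rw [← h, Subgroup.card_map_of_injective e.injective]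

variable {R : Type u} [Group R] [Finite R]

/-- The quotient by a normal subgroup of order `p`. -/
theorem card_omegaOne_quotient_le_of_card {p : ℕ} [hp : Fact p.Prime] (h3 : 3 < p)
    (hR : IsPGroup p R) (hO : Nat.card ↥(Cfsg.omegaOne p (⊤ : Subgroup R)) ≤ p ^ 2)
    (T : Subgroup R) [hTn : T.Normal] (hT : Nat.card T = p) :
    Nat.card ↥(Cfsg.omegaOne p (⊤ : Subgroup (R ⧸ T))) ≤ p ^ 2 := by
  by_contra hcon
  rw [not_le] at hcon
  have hp2 : p ≠ 2 := by omega
  have hQ : IsPGroup p (R ⧸ T) := hR.to_quotient T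
  -- the quotient is not cyclic
  have hnc : ¬ IsCyclic (R ⧸ T) := by
    intro hc
    have h1 := card_omegaOne_le_of_isCyclic (C := R ⧸ T) hp.out.pos
    have h2 : p ≤ p ^ 2 := by nlinarith [hp.out.two_le]
    omega
  obtain ⟨N, hNn, hNe, hNcard⟩ := exists_normal_elementary_p2_top hp2 hQ hnc
  haveI := hNn
  -- an element of order `p` outside `N`
  obtain ⟨x, hxp, hxN⟩ : ∃ x : R ⧸ T, x ^ p = 1 ∧ x ∉ N := by
    by_contra hall
    push Not at hall
    have h1 : Cfsg.omegaOne p (⊤ : Subgroup (R ⧸ T)) ≤ N := by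
      unfold Cfsg.omegaOne
      rw [Subgroup.closure_le]
      rintro y ⟨-, hy⟩
      exact hall y hy
    have := Subgroup.card_le_of_le h1
    omega
  obtain ⟨M, hMn, hMN, hMcard⟩ := exists_normal_le_card hQ 1 1 N hNn (by rw [hNcard])
  haveI := hMn
  rw [pow_one] at hMcard
  have hNM : ⁅N, (⊤ : Subgroup (R ⧸ T))⁆ ≤ M :=
    commutator_le_of_normal_index_p hQ N M hMN (by rw [hNcard, hMcard]; ring)
  have hMc : ⁅M, (⊤ : Subgroup (R ⧸ T))⁆ ≤ ⊥ :=
    commutator_le_of_normal_index_p hQ M ⊥ bot_le (by rw [hMcard, Subgroup.card_bot, mul_one])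
  have hMcen : ∀ m ∈ M, ∀ g : R ⧸ T, ⁅m, g⁆ = 1 := by
    intro m hm g
    have := hMc (Subgroup.commutator_mem_commutator hm (Subgroup.mem_top g))
    rwa [Subgroup.mem_bot] at this
  have hx1 : x ≠ 1 := by
    rintro rfl
    exact hxN (Subgroup.one_mem _)
  have hxord : orderOf x = p := orderOf_eq_prime hxp hx1
  -- the subgroup `D̄`
  have hdisj : Subgroup.zpowers x ⊓ N = ⊥ := by
    by_contra hne
    have h1 : Nat.card ↥(Subgroup.zpowers x ⊓ N) ∣ p := by
      have := Subgroup.card_dvd_of_le (inf_le_left : Subgroup.zpowers x ⊓ N ≤ Subgroup.zpowers x)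
      rwa [Nat.card_zpowers, hxord] at this
    rcases (Nat.dvd_prime hp.out).1 h1 with h2 | h2
    · exact hne (Subgroup.card_eq_one.1 h2)
    · have h4 : Subgroup.zpowers x ⊓ N = Subgroup.zpowers x := by
        apply Subgroup.eq_of_le_of_card_ge inf_le_left
        rw [h2, Nat.card_zpowers, hxord]
      apply hxN
      have : x ∈ Subgroup.zpowers x ⊓ N := by rw [h4]; exact Subgroup.mem_zpowers x
      exact this.2
  have hDcard : Nat.card ↥(Subgroup.zpowers x ⊔ N) = p ^ 3 := by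
    rw [card_sup_of_disjoint_normal _ _ hdisj, Nat.card_zpowers, hxord, hNcard]; ring
  have hDpow : ∀ d ∈ Subgroup.zpowers x ⊔ N, d ^ p = 1 := by
    intro d hd
    rw [Subgroup.mem_sup_of_normal_right] at hd
    obtain ⟨y, hy, n, hn, rfl⟩ := hd
    have hyp : y ^ p = 1 := by
      obtain ⟨k, rfl⟩ := Subgroup.mem_zpowers_iff.1 hy
      rw [← zpow_natCast, ← zpow_mul, mul_comm, zpow_mul, zpow_natCast, hxp, one_zpow]
    have hcM : ⁅n, y⁆ ∈ M := hNM (Subgroup.commutator_mem_commutator hn (Subgroup.mem_top y))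
    have hcen : ∀ z, Commute ⁅n, y⁆ z := by
      intro z
      have := hMcen _ hcM z
      rwa [commutatorElement_eq_one_iff_mul_comm] at this
    have hyx : n * y = ⁅n, y⁆ * y * n := by simp [commutatorElement_def]
    rw [mul_pow_of_central hcen hyx p, hyp, hNe.2 n hn, one_mul, one_mul]
    have hdvd : p ∣ p.choose 2 := hp.out.dvd_choose_self (by norm_num) (by omega)
    obtain ⟨k, hk⟩ := hdvd
    rw [hk, pow_mul, hNe.2 _ (hMN hcM), one_pow]
  have hMD : M ≤ Subgroup.zpowers x ⊔ N := hMN.trans le_sup_right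
  have hDM : ∀ a ∈ Subgroup.zpowers x ⊔ N, ∀ b ∈ Subgroup.zpowers x ⊔ N, ⁅a, b⁆ ∈ M := by
    intro a ha b hb
    have h1 := card_map_mk'_mul_card M (Subgroup.zpowers x ⊔ N) hMD
    rw [hDcard, hMcard] at h1
    have h2 : Nat.card ↥((Subgroup.zpowers x ⊔ N).map (QuotientGroup.mk' M)) = p ^ 2 := by
      apply Nat.eq_of_mul_eq_mul_right hp.out.pos
      rw [h1]; ring
    have h3 := (IsPGroup.isMulCommutative_of_card_eq_prime_sq h2).is_comm.comm
      ⟨_, Subgroup.mem_map_of_mem _ ha⟩ ⟨_, Subgroup.mem_map_of_mem _ hb⟩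
    have h4 : (QuotientGroup.mk' M) a * (QuotientGroup.mk' M) b =
        (QuotientGroup.mk' M) b * (QuotientGroup.mk' M) a := congrArg Subtype.val h3
    have h5 : (QuotientGroup.mk' M) ⁅a, b⁆ = 1 := by
      rw [map_commutatorElement, commutatorElement_eq_one_iff_mul_comm, h4]
    rwa [← MonoidHom.mem_ker, QuotientGroup.ker_mk'] at h5
  -- pull back to `R`
  set π := QuotientGroup.mk' T with hπ
  set D : Subgroup R := (Subgroup.zpowers x ⊔ N).comap π with hD
  have hDc : Nat.card D = p ^ 4 := by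
    rw [hD, card_comap_mk', hDcard, hT]; ring
  have hTcen : ∀ t ∈ T, ∀ g : R, ⁅t, g⁆ = 1 := by
    intro t ht g
    have h1 : ⁅T, (⊤ : Subgroup R)⁆ ≤ ⊥ :=
      commutator_le_of_normal_index_p hR T ⊥ bot_le (by rw [hT, Subgroup.card_bot, mul_one])
    have := h1 (Subgroup.commutator_mem_commutator ht (Subgroup.mem_top g))
    rwa [Subgroup.mem_bot] at this
  have hkerπ : ∀ r : R, π r = 1 ↔ r ∈ T := fun r => QuotientGroup.eq_one_iff r
  have hA : T.subgroupOf D ≤ Subgroup.center ↥D := by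
    intro t ht
    rw [Subgroup.mem_center_iff]
    intro g
    apply Subtype.ext
    have := hTcen (t : R) (Subgroup.mem_subgroupOf.1 ht) (g : R)
    rw [commutatorElement_eq_one_iff_mul_comm] at this
    exact this.symm
  have hB : ∀ m ∈ (M.comap π).subgroupOf D, ∀ g : ↥D, ⁅m, g⁆ ∈ T.subgroupOf D := by
    intro m hm g
    rw [Subgroup.mem_subgroupOf]
    have hm' : π (m : R) ∈ M := Subgroup.mem_subgroupOf.1 hm
    have h1 : π ⁅(m : R), (g : R)⁆ = 1 := by
      rw [map_commutatorElement]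
      exact hMcen _ hm' _
    have h2 := (hkerπ _).1 h1
    have h3 : ((⁅m, g⁆ : ↥D) : R) = ⁅(m : R), (g : R)⁆ := by simp [commutatorElement_def]
    rw [h3]
    exact h2
  have hC : ∀ a b : ↥D, ⁅a, b⁆ ∈ (M.comap π).subgroupOf D := by
    intro a b
    rw [Subgroup.mem_subgroupOf]
    show π ((⁅a, b⁆ : ↥D) : R) ∈ M
    have h1 : ((⁅a, b⁆ : ↥D) : R) = ⁅(a : R), (b : R)⁆ := by simp [commutatorElement_def]
    rw [h1, map_commutatorElement]
    exact hDM _ a.2 _ b.2
  have hE : ∀ g : ↥D, g ^ p ∈ T.subgroupOf D := by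
    intro g
    rw [Subgroup.mem_subgroupOf]
    have h1 : π ((g : R) ^ p) = 1 := by
      rw [map_pow]
      exact hDpow _ g.2
    have h2 := (hkerπ _).1 h1
    simpa using h2
  have hTD : T ≤ D := by
    intro t ht
    show π t ∈ Subgroup.zpowers x ⊔ N
    rw [(hkerπ t).2 ht]
    exact Subgroup.one_mem _
  have hF : Nat.card ↥(T.subgroupOf D) ≤ p := by
    rw [card_subgroupOf_of_le hTD, hT]
  obtain ⟨K, hKp, hKcard⟩ := exists_large_exp_p_subgroup (G := ↥D) h3 (T.subgroupOf D)
    ((M.comap π).subgroupOf D) hA hB hC hE hF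
  have h1 : K.map D.subtype ≤ Cfsg.omegaOne p (⊤ : Subgroup R) := by
    rintro _ ⟨k, hk, rfl⟩
    apply Subgroup.subset_closure
    refine ⟨Subgroup.mem_top _, ?_⟩
    have := hKp k hk
    have h2 := congrArg Subtype.val this
    simpa using h2
  have h2 := Subgroup.card_le_of_le h1
  rw [Subgroup.card_map_of_injective D.subtype_injective] at h2
  rw [hDc] at hKcard
  have h4 : p * p ^ 3 ≤ p * Nat.card K := by
    calc p * p ^ 3 = p ^ 4 := by ring
      _ ≤ _ := hKcard
  have h5 := Nat.le_of_mul_le_mul_left h4 hp.out.pos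
  have h6 : p ^ 3 ≤ p ^ 2 := h5.trans (h2.trans hO)
  have := (Nat.pow_le_pow_iff_right hp.out.one_lt).1 h6
  omega

/-- The general statement, by induction on the order of the group. -/
theorem card_omegaOne_quotient_le_aux {p : ℕ} [hp : Fact p.Prime] (h3 : 3 < p) :
    ∀ (n : ℕ) (R : Type u) [Group R] [Finite R], Nat.card R = n → IsPGroup p R →
      Nat.card ↥(Cfsg.omegaOne p (⊤ : Subgroup R)) ≤ p ^ 2 → ∀ (T : Subgroup R) [T.Normal],
      Nat.card ↥(Cfsg.omegaOne p (⊤ : Subgroup (R ⧸ T))) ≤ p ^ 2 := by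
  intro n
  induction n using Nat.strong_induction_on with
  | _ n ih =>
  intro R _ _ hn hR hO T hTn
  by_cases hT : T = ⊥
  · subst hT
    rw [card_omegaOne_congr (QuotientGroup.quotientBot (G := R)) p]
    exact hO
  · obtain ⟨t, ht⟩ := IsPGroup.iff_card.1 (hR.to_subgroup T)
    have ht0 : t ≠ 0 := by
      rintro rfl
      rw [pow_zero] at ht
      exact hT (Subgroup.card_eq_one.1 ht)
    obtain ⟨T₀, hT₀n, hT₀T, hT₀card⟩ := exists_normal_le_card hR (t - 1) 1 T hTn
      (by rw [ht]; congr 1; omega)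
    haveI := hT₀n
    rw [pow_one] at hT₀card
    have h1 := card_omegaOne_quotient_le_of_card h3 hR hO T₀ hT₀card
    have hlt : Nat.card (R ⧸ T₀) < n := by
      have h2 : Nat.card (R ⧸ T₀) * Nat.card T₀ = Nat.card R := by
        rw [← Subgroup.index_eq_card, Subgroup.index_mul_card]
      rw [hT₀card, hn] at h2
      have hpos : 0 < Nat.card (R ⧸ T₀) := Nat.card_pos
      have := hp.out.two_le
      nlinarith
    have h4 := ih _ hlt (R ⧸ T₀) rfl (hR.to_quotient T₀) h1 (T.map (QuotientGroup.mk' T₀))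
    rw [card_omegaOne_congr (QuotientGroup.quotientQuotientEquivQuotient T₀ T hT₀T) p] at h4
    exact h4

theorem card_omegaOne_quotient_le {p : ℕ} [hp : Fact p.Prime] (h3 : 3 < p)
    (hR : IsPGroup p R) (hO : Nat.card ↥(Cfsg.omegaOne p (⊤ : Subgroup R)) ≤ p ^ 2)
    (T : Subgroup R) [T.Normal] :
    Nat.card ↥(Cfsg.omegaOne p (⊤ : Subgroup (R ⧸ T))) ≤ p ^ 2 :=
  card_omegaOne_quotient_le_aux h3 _ R rfl hR hO T

end Cfsg.Agent.Helper1.OmegaQuot
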