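import Mathlib
import Cfsg.Prelude.Def_Transfer
import Cfsg.Prelude.Def_PLocal
import Cfsg.Prelude.Def_OddOrderLocal
import Cfsg.Agent.Helper1.Basic
import Cfsg.Agent.Helper1.PRankTwo
import Cfsg.Agent.Helper1.MaxNormalAbelianBound
import Cfsg.Agent.Helper1.HuppertMetaA
import Cfsg.Agent.Helper1.HuppertMetaB
import Cfsg.Agent.Helper1.OmegaQuotB

set_option autoImplicit false

/-!
Huppert's criterion: for odd `p`, a `p`-group in which every normal subgroup containing all
`p`-th powers has index at most `p ^ 2` is metacyclic.  Consequence: for `p > 3`, a `p`-group with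
`|Ω₁| ≤ p ^ 2` is metacyclic.
-/

namespace Cfsg.Agent.Helper1.HuppertMeta

open Cfsg Cfsg.Agent.Helper1
open scoped commutatorElement

universe u

theorem smallAgemo_quotient {G : Type u} [Group G] {p : ℕ} (h : SmallAgemo p G) (N : Subgroup G)
    [N.Normal] : SmallAgemo p (G ⧸ N) := by
  intro T hTn hT
  have h1 := h (T.comap (QuotientGroup.mk' N)) (hTn.comap _) (fun x => by
    rw [Subgroup.mem_comap, map_pow]
    exact hT _)
  rwa [Subgroup.index_comap_of_surjective _ (QuotientGroup.mk'_surjective N)] at h1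

theorem isMetacyclic_of_smallAgemo_aux {p : ℕ} [hp : Fact p.Prime] (hp2 : p ≠ 2) :
    ∀ (n : ℕ) (G : Type u) [Group G] [Finite G], Nat.card G = n → IsPGroup p G →
      SmallAgemo p G → Cfsg.IsMetacyclic G := by
  intro n
  induction n using Nat.strong_induction_on with
  | _ n ih =>
  intro G _ _ hn hG hQ
  by_cases hab : commutator G = ⊥
  · exact isMetacyclic_of_class_two hp2 hG hQ 1 (Subgroup.one_mem _) (one_pow p)
      (by rw [hab, Subgroup.zpowers_one_eq_bot])
  -- a central subgroup of order `p` in `G'`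
  obtain ⟨t, ht⟩ := IsPGroup.iff_card.1 (hG.to_subgroup (commutator G))
  have ht0 : t ≠ 0 := by
    rintro rfl
    rw [pow_zero] at ht
    exact hab (Subgroup.card_eq_one.1 ht)
  obtain ⟨N, hNn, hNG', hNcard⟩ := exists_normal_le_card hG (t - 1) 1 (commutator G) inferInstance
    (by rw [ht]; congr 1; omega)
  haveI := hNn
  rw [pow_one] at hNcard
  have hNc : N ≤ Subgroup.center G := by
    intro x hx
    rw [Subgroup.mem_center_iff]
    intro g
    have h1 : ⁅N, (⊤ : Subgroup G)⁆ ≤ ⊥ :=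
      commutator_le_of_normal_index_p hG N ⊥ bot_le (by rw [hNcard, Subgroup.card_bot, mul_one])
    have := h1 (Subgroup.commutator_mem_commutator hx (Subgroup.mem_top g))
    rw [Subgroup.mem_bot, commutatorElement_eq_one_iff_mul_comm] at this
    exact this.symm
  have hNpow : ∀ x ∈ N, x ^ p = 1 := by
    intro x hx
    have := pow_card_eq_one' (G := ↥N) (x := ⟨x, hx⟩)
    rw [hNcard] at this
    exact congrArg Subtype.val this
  -- induction
  have hlt : Nat.card (G ⧸ N) < n := by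
    have h2 : Nat.card (G ⧸ N) * Nat.card N = Nat.card G := by
      rw [← Subgroup.index_eq_card, Subgroup.index_mul_card]
    rw [hNcard, hn] at h2
    have hpos : 0 < Nat.card (G ⧸ N) := Nat.card_pos
    have := hp.out.two_le
    nlinarith
  obtain ⟨Kb, hKbn, hKbc, hQbc⟩ := ih _ hlt (G ⧸ N) rfl (hG.to_quotient N) (smallAgemo_quotient hQ N)
  haveI := hKbn
  set f : G →* (G ⧸ N) ⧸ Kb := (QuotientGroup.mk' Kb).comp (QuotientGroup.mk' N) with hf
  have hfs : Function.Surjective f :=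
    (QuotientGroup.mk'_surjective Kb).comp (QuotientGroup.mk'_surjective N)
  have hmemK : ∀ x : G, x ∈ f.ker ↔ (QuotientGroup.mk' N x) ∈ Kb := by
    intro x
    rw [MonoidHom.mem_ker, hf, MonoidHom.comp_apply, QuotientGroup.mk'_apply Kb,
      QuotientGroup.eq_one_iff]
  have hQc : IsCyclic (G ⧸ f.ker) :=
    isCyclic_of_surjective (QuotientGroup.quotientKerEquivOfSurjective f hfs).symm.toMonoidHom
      (QuotientGroup.quotientKerEquivOfSurjective f hfs).symm.surjective
  by_cases hKc : IsCyclic f.ker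
  · exact ⟨f.ker, inferInstance, hKc, hQc⟩
  -- generators
  obtain ⟨⟨ab, hab'⟩, hgen⟩ := hKbc.exists_generator
  obtain ⟨a, rfl⟩ := QuotientGroup.mk'_surjective N ab
  have ha : a ∈ f.ker := (hmemK a).2 hab'
  have hNK : N ≤ f.ker := by
    intro x hx
    rw [hmemK, QuotientGroup.mk'_apply, (QuotientGroup.eq_one_iff x).2 hx]
    exact Subgroup.one_mem _
  have hK : ∀ k ∈ f.ker, ∃ i : ℤ, ∃ n ∈ N, k = a ^ i * n := by
    intro k hk
    have h1 := hgen ⟨QuotientGroup.mk' N k, (hmemK k).1 hk⟩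
    obtain ⟨i, hi⟩ := Subgroup.mem_zpowers_iff.1 h1
    have h2 : (QuotientGroup.mk' N a) ^ i = QuotientGroup.mk' N k := by
      have := congrArg Subtype.val hi
      simpa using this
    refine ⟨i, (a ^ i)⁻¹ * k, ?_, by group⟩
    rw [← QuotientGroup.eq_one_iff, ← QuotientGroup.mk'_apply, map_mul, map_inv, map_zpow, h2,
      inv_mul_cancel]
  obtain ⟨gb, hgb⟩ := hQbc.exists_generator
  obtain ⟨b, rfl⟩ := hfs gb
  have hGb : ∀ g : G, ∃ k ∈ f.ker, ∃ j : ℤ, g = k * b ^ j := by
    intro g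
    obtain ⟨j, hj⟩ := Subgroup.mem_zpowers_iff.1 (hgb (f g))
    refine ⟨g * (b ^ j)⁻¹, ?_, j, by group⟩
    rw [MonoidHom.mem_ker, map_mul, map_inv, map_zpow, hj, mul_inv_cancel]
  have hKab : ∀ x ∈ f.ker, ∀ y ∈ f.ker, x * y = y * x := by
    intro x hx y hy
    obtain ⟨i, n, hn', rfl⟩ := hK x hx
    obtain ⟨j, m, hm, rfl⟩ := hK y hy
    have h1 := Subgroup.mem_center_iff.1 (hNc hn')
    have h2 := Subgroup.mem_center_iff.1 (hNc hm)
    calc a ^ i * n * (a ^ j * m) = a ^ i * (n * a ^ j) * m := by group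
      _ = a ^ i * (a ^ j * n) * m := by rw [← h1]
      _ = (a ^ i * a ^ j) * (n * m) := by group
      _ = (a ^ j * a ^ i) * (m * n) := by
        rw [← zpow_add, ← zpow_add, add_comm, h2 n]
      _ = a ^ j * (a ^ i * m) * n := by group
      _ = a ^ j * (m * a ^ i) * n := by rw [← h2]
      _ = a ^ j * m * (a ^ i * n) := by group
  have hG'c := commutator_le_zpowers hKab hNc hNK a b ha hK hGb
  -- a generator of `N`
  obtain ⟨n₀, hn₀N, hn₀1⟩ : ∃ n₀ ∈ N, n₀ ≠ 1 := by
    by_contra hcon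
    push Not at hcon
    have : N = ⊥ := (Subgroup.eq_bot_iff_forall N).2 hcon
    rw [this, Subgroup.card_bot] at hNcard
    exact hp.out.one_lt.ne hNcard
  have hzn₀ : Subgroup.zpowers n₀ = N := by
    apply Subgroup.eq_of_le_of_card_ge (Subgroup.zpowers_le.2 hn₀N)
    rw [hNcard, Nat.card_zpowers, orderOf_eq_prime (hNpow n₀ hn₀N) hn₀1]
  have hNgen : ∀ x ∈ N, x ∈ Subgroup.zpowers n₀ := by
    intro x hx
    rw [hzn₀]; exact hx
  set c := ⁅a, b⁆ with hc
  have hcK : c ∈ f.ker := by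
    rw [MonoidHom.mem_ker, hc, map_commutatorElement]
    rw [MonoidHom.mem_ker] at ha
    rw [ha, commutatorElement_one_left]
  have hn₀c : n₀ ∈ Subgroup.zpowers c := hG'c (hNG' hn₀N)
  obtain ⟨j, hj⟩ := (mem_powers_iff_mem_zpowers (x := c) (y := n₀)).2 hn₀c
  have hj' : c ^ j = n₀ := hj
  by_cases hpj : p ∣ j
  · -- `N ≤ ⟨a⟩`
    exfalso
    apply hKc
    obtain ⟨j', rfl⟩ := hpj
    obtain ⟨i, n₁, hn₁, hcan⟩ := hK c hcK
    have hcp : c ^ p = (a ^ i) ^ p := by
      rw [hcan]
      have hcm : Commute (a ^ i) n₁ := Subgroup.mem_center_iff.1 (hNc hn₁) (a ^ i)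
      rw [hcm.mul_pow, hNpow n₁ hn₁, mul_one]
    have hn₀a : n₀ ∈ Subgroup.zpowers a := by
      rw [← hj', pow_mul, hcp]
      exact Subgroup.pow_mem _
        (Subgroup.pow_mem _ (Subgroup.zpow_mem _ (Subgroup.mem_zpowers a) i) p) j'
    have hKle : f.ker ≤ Subgroup.zpowers a := by
      intro k hk
      obtain ⟨i', n, hn', rfl⟩ := hK k hk
      apply Subgroup.mul_mem _ (Subgroup.zpow_mem _ (Subgroup.mem_zpowers a) i')
      exact (Subgroup.zpowers_le.2 hn₀a) (hNgen n hn')
    have heq : f.ker = Subgroup.zpowers a :=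
      le_antisymm hKle (Subgroup.zpowers_le.2 ha)
    rw [heq]
    infer_instance
  · -- class two
    have hcop : Nat.Coprime p j := (Nat.Prime.coprime_iff_not_dvd hp.out).2 hpj
    have hcp : c ^ p = 1 := by
      have h1 : c ^ (p * j) = 1 := by rw [mul_comm, pow_mul, hj', hNpow n₀ hn₀N]
      have h2 : orderOf c ∣ p * j := orderOf_dvd_of_pow_eq_one h1
      obtain ⟨e, he⟩ := hG.exists_orderOf_eq_pow c
      rw [he] at h2
      have h3 : p ^ e ∣ p := (Nat.Coprime.pow_left e hcop).dvd_of_dvd_mul_right h2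
      rw [← he] at h3
      exact orderOf_dvd_iff_pow_eq_one.1 h3
    have hc1 : c ≠ 1 := by
      intro h
      rw [h, one_pow] at hj'
      exact hn₀1 hj'.symm
    have hcN : c ∈ N := by
      have h1 : Subgroup.zpowers n₀ = Subgroup.zpowers c := by
        apply Subgroup.eq_of_le_of_card_ge (Subgroup.zpowers_le.2 hn₀c)
        rw [Nat.card_zpowers, Nat.card_zpowers, orderOf_eq_prime (hNpow n₀ hn₀N) hn₀1,
          orderOf_eq_prime hcp hc1]
      rw [← hzn₀, h1]
      exact Subgroup.mem_zpowers c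
    have hG' : commutator G = Subgroup.zpowers c :=
      le_antisymm hG'c (Subgroup.zpowers_le.2
        (Subgroup.commutator_mem_commutator (Subgroup.mem_top a) (Subgroup.mem_top b)))
    exact isMetacyclic_of_class_two hp2 hG hQ c (hNc hcN) hcp hG'

theorem isMetacyclic_of_smallAgemo {G : Type u} [Group G] [Finite G] {p : ℕ} [hp : Fact p.Prime]
    (hp2 : p ≠ 2) (hG : IsPGroup p G) (hQ : SmallAgemo p G) : Cfsg.IsMetacyclic G :=
  isMetacyclic_of_smallAgemo_aux hp2 _ G rfl hG hQ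

/-- Huppert: for `p > 3`, a `p`-group with `|Ω₁| ≤ p ^ 2` is metacyclic. -/
theorem isMetacyclic_of_card_omegaOne_le {R : Type u} [Group R] [Finite R] {p : ℕ}
    [hp : Fact p.Prime] (h3 : 3 < p) (hR : IsPGroup p R)
    (hO : Nat.card ↥(Cfsg.omegaOne p (⊤ : Subgroup R)) ≤ p ^ 2) : Cfsg.IsMetacyclic R := by
  apply isMetacyclic_of_smallAgemo (by omega) hR
  intro T hTn hT
  haveI := hTn
  have h1 := OmegaQuot.card_omegaOne_quotient_le h3 hR hO T
  have h2 : Cfsg.omegaOne p (⊤ : Subgroup (R ⧸ T)) = ⊤ := by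
    rw [eq_top_iff]
    intro x _
    apply Subgroup.subset_closure
    refine ⟨Subgroup.mem_top _, ?_⟩
    obtain ⟨r, rfl⟩ := QuotientGroup.mk_surjective x
    rw [← QuotientGroup.mk_pow, QuotientGroup.eq_one_iff]
    exact hT r
  rw [h2, Subgroup.card_top] at h1
  rw [Subgroup.index_eq_card]
  exact h1

end Cfsg.Agent.Helper1.HuppertMeta
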