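import Mathlib
import Cfsg.Prelude
import Cfsg.Agent.Helper1.Coprime
import Cfsg.Agent.Helper1.Card
import Cfsg.Agent.Helper1.KWCondB

set_option autoImplicit false

/-!
# Rank two `p`-groups with `[R, A] = R`: general lemmas
-/

namespace Cfsg.Agent.Helper1.R2S

open Cfsg Cfsg.Agent.Helper1

open scoped Pointwise commutatorElement

universe u

variable {G : Type u} [Group G]

/-- if all commutators `[x, g]`, `x ∈ X`, lie in `Y` then `|X : C_X(g)| ≤ |Y|`. -/
theorem card_le_of_commutator_mem [Finite G] (X Y : Subgroup G) (g : G)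
    (h : ∀ x ∈ X, x * g * x⁻¹ * g⁻¹ ∈ Y) :
    Nat.card X ≤ Nat.card Y * Nat.card (X ⊓ Subgroup.centralizer ({g} : Set G) : Subgroup G) := by
  set K : Subgroup ↥X := (X ⊓ Subgroup.centralizer ({g} : Set G)).subgroupOf X with hK
  have hKmem : ∀ x : ↥X, x ∈ K ↔ (x : G) * g = g * (x : G) := by
    intro x
    rw [hK, Subgroup.mem_subgroupOf, Subgroup.mem_inf, Subgroup.mem_centralizer_iff]
    constructor
    · rintro ⟨-, h2⟩
      exact (h2 g rfl).symm
    · intro h2
      refine ⟨x.2, ?_⟩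
      intro y hy
      rw [Set.mem_singleton_iff] at hy
      rw [hy]; exact h2.symm
  have hcK : Nat.card K = Nat.card (X ⊓ Subgroup.centralizer ({g} : Set G) : Subgroup G) :=
    card_subgroupOf_of_le inf_le_left
  have h1 : Nat.card ↥X = Nat.card (↥X ⧸ K) * Nat.card K :=
    Subgroup.card_eq_card_quotient_mul_card_subgroup K
  let f : ↥X ⧸ K → ↥Y := Quotient.lift (s := QuotientGroup.leftRel K)
    (fun x : ↥X => (⟨(x : G) * g * (x : G)⁻¹ * g⁻¹, h x x.2⟩ : ↥Y)) (by
      intro x y hxy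
      have hxy' : (QuotientGroup.leftRel K) x y := hxy
      rw [QuotientGroup.leftRel_apply, hKmem] at hxy'
      replace hxy := hxy'
      apply Subtype.ext
      simp only [Subgroup.coe_mul, Subgroup.coe_inv] at hxy ⊢
      have h3 : (y : G) * g * (y : G)⁻¹ = (x : G) * g * (x : G)⁻¹ := by
        have h4 : (y : G) = (x : G) * ((x : G)⁻¹ * (y : G)) := by group
        rw [h4, mul_assoc (x : G), hxy]; group
      rw [h3])
  have hf : Function.Injective f := by
    intro a b
    induction a using Quotient.inductionOn with | _ x => ?_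
    induction b using Quotient.inductionOn with | _ y => ?_
    intro hab
    apply Quotient.sound
    change (QuotientGroup.leftRel K) x y
    rw [QuotientGroup.leftRel_apply, hKmem]
    have h3 : (x : G) * g * (x : G)⁻¹ * g⁻¹ = (y : G) * g * (y : G)⁻¹ * g⁻¹ :=
      congrArg Subtype.val hab
    have h4 : (x : G) * g * (x : G)⁻¹ = (y : G) * g * (y : G)⁻¹ := mul_right_cancel h3
    simp only [Subgroup.coe_mul, Subgroup.coe_inv]
    have h5 : g * ((x : G)⁻¹ * (y : G)) = (x : G)⁻¹ * ((x : G) * g * (x : G)⁻¹) * (y : G) := by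
      group
    rw [h5, h4]; group
  have h2 : Nat.card (↥X ⧸ K) ≤ Nat.card ↥Y := Nat.card_le_card_of_injective f hf
  rw [h1, hcK]
  exact Nat.mul_le_mul_right _ h2

/-- a normal subgroup of prime order of a `p`-group is central. -/
theorem le_centralizer_of_card_eq_prime [Finite G] {p : ℕ} [hp : Fact p.Prime] {R Z : Subgroup G}
    (hR : IsPGroup p R) (hZR : Z ≤ R) (hRZ : R ≤ Subgroup.normalizer (Z : Set G))
    (hZ : Nat.card Z = p) : R ≤ Subgroup.centralizer (Z : Set G) := by
  haveI hn : (Z.subgroupOf R).Normal := (Subgroup.normal_subgroupOf_iff_le_normalizer hZR).2 hRZ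
  have hne : Z.subgroupOf R ≠ ⊥ := by
    intro h
    have h1 : Nat.card (Z.subgroupOf R) = 1 := by rw [h, Subgroup.card_bot]
    rw [card_subgroupOf_of_le hZR, hZ] at h1
    exact hp.out.one_lt.ne' h1
  obtain ⟨b, hbZ, hb1, hbc⟩ := KWCond.normal_inf_center_ne_bot hR (Z.subgroupOf R) hne
  have hbZ' : (b : G) ∈ Z := Subgroup.mem_subgroupOf.1 hbZ
  have hb1' : (b : G) ≠ 1 := fun h => hb1 (Subtype.ext h)
  have hzp : Subgroup.zpowers (b : G) = Z := by
    apply Subgroup.eq_of_le_of_card_ge (Subgroup.zpowers_le.2 hbZ')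
    rw [hZ, Nat.card_zpowers]
    have h1 : orderOf (b : G) ∣ p := by
      rw [← hZ]
      have := orderOf_dvd_natCard (⟨(b : G), hbZ'⟩ : ↥Z)
      rwa [← Subgroup.orderOf_coe] at this
    rcases (Nat.dvd_prime hp.out).1 h1 with h2 | h2
    · exact absurd (orderOf_eq_one_iff.1 h2) hb1'
    · exact h2.ge
  intro x hx
  rw [Subgroup.mem_centralizer_iff]
  intro z hz
  rw [SetLike.mem_coe, ← hzp] at hz
  obtain ⟨k, rfl⟩ := Subgroup.mem_zpowers_iff.1 hz
  have h1 : x * (b : G) = (b : G) * x := congrArg Subtype.val (hbc ⟨x, hx⟩)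
  have h2 : Commute x (b : G) := h1
  exact ((h2.zpow_right k).eq).symm

/-- adjoining an element with `p`-th power in a normalized subgroup multiplies the order by at
most `p`. -/
theorem card_sup_zpowers_dvd [Finite G] {p : ℕ} (C : Subgroup G) (g : G)
    (hg : g ∈ Subgroup.normalizer (C : Set G)) (hgp : g ^ p ∈ C) :
    Nat.card (C ⊔ Subgroup.zpowers g : Subgroup G) ∣ p * Nat.card C := by
  set K : Subgroup G := C ⊔ Subgroup.zpowers g with hK
  have hCK : C ≤ K := le_sup_left
  have hgK : g ∈ K := (le_sup_right : Subgroup.zpowers g ≤ K) (Subgroup.mem_zpowers g)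
  have hKN : K ≤ Subgroup.normalizer (C : Set G) :=
    sup_le Subgroup.le_normalizer (Subgroup.zpowers_le.2 hg)
  haveI hn : (C.subgroupOf K).Normal := (Subgroup.normal_subgroupOf_iff_le_normalizer hCK).2 hKN
  have h1 : Nat.card ↥K = Nat.card (↥K ⧸ C.subgroupOf K) * Nat.card (C.subgroupOf K) :=
    Subgroup.card_eq_card_quotient_mul_card_subgroup _
  rw [card_subgroupOf_of_le hCK] at h1
  rw [h1]
  apply Nat.mul_dvd_mul_right
  set gb : ↥K ⧸ C.subgroupOf K := QuotientGroup.mk (⟨g, hgK⟩ : ↥K) with hgb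
  have htop : Subgroup.zpowers gb = ⊤ := by
    rw [eq_top_iff]
    intro y _
    induction y using QuotientGroup.induction_on with | _ y => ?_
    obtain ⟨c, hc, z, hz, hy⟩ := mem_sup_of_le_normalizer (Subgroup.zpowers_le.2 hg) y.2
    obtain ⟨k, rfl⟩ := Subgroup.mem_zpowers_iff.1 hz
    have h2 : (QuotientGroup.mk y : ↥K ⧸ C.subgroupOf K) = gb ^ k := by
      rw [hgb, ← QuotientGroup.mk_zpow, QuotientGroup.eq]
      rw [Subgroup.mem_subgroupOf]
      simp only [Subgroup.coe_mul, Subgroup.coe_inv, Subgroup.coe_zpow]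
      rw [hy]
      have : (c * g ^ k)⁻¹ * g ^ k = (g ^ k)⁻¹ * c⁻¹ * g ^ k := by group
      rw [this]
      have h3 : g ^ k ∈ Subgroup.normalizer (C : Set G) :=
        Subgroup.zpow_mem _ hg k
      have h4 := (Subgroup.mem_normalizer_iff.1 (Subgroup.inv_mem _ h3) c⁻¹).1 (C.inv_mem hc)
      rwa [inv_inv] at h4
    rw [h2]
    exact Subgroup.zpow_mem _ (Subgroup.mem_zpowers gb) k
  have h2 : Nat.card (↥K ⧸ C.subgroupOf K) = orderOf gb := by
    rw [← Nat.card_zpowers, htop, Subgroup.card_top]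
  rw [h2]
  apply orderOf_dvd_of_pow_eq_one
  rw [hgb, ← QuotientGroup.mk_pow, QuotientGroup.eq_one_iff, Subgroup.mem_subgroupOf]
  simpa using hgp

/-- if the generators of a subgroup commute with `A` modulo a subgroup `Y` which they normalize,
so does the whole subgroup. -/
theorem commutator_closure_le (S : Set G) (A Y : Subgroup G)
    (hS : ∀ s ∈ S, s ∈ Subgroup.normalizer (Y : Set G))
    (h : ∀ s ∈ S, ∀ a ∈ A, ⁅s, a⁆ ∈ Y) : ⁅Subgroup.closure S, A⁆ ≤ Y := by
  rw [Subgroup.commutator_le]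
  intro x hx a ha
  have key : x ∈ Subgroup.normalizer (Y : Set G) ∧ ⁅x, a⁆ ∈ Y := by
    induction hx using Subgroup.closure_induction with
    | mem s hs => exact ⟨hS s hs, h s hs a ha⟩
    | one =>
      refine ⟨Subgroup.one_mem _, ?_⟩
      rw [commutatorElement_one_left]; exact Y.one_mem
    | mul x y _ _ ihx ihy =>
      refine ⟨Subgroup.mul_mem _ ihx.1 ihy.1, ?_⟩
      have h1 : ⁅x * y, a⁆ = x * ⁅y, a⁆ * x⁻¹ * ⁅x, a⁆ := by
        rw [commutatorElement_def, commutatorElement_def, commutatorElement_def]; group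
      rw [h1]
      exact Y.mul_mem ((Subgroup.mem_normalizer_iff.1 ihx.1 _).1 ihy.2) ihx.2
    | inv x _ ihx =>
      refine ⟨Subgroup.inv_mem _ ihx.1, ?_⟩
      have h1 : ⁅x⁻¹, a⁆ = x⁻¹ * ⁅x, a⁆⁻¹ * x⁻¹⁻¹ := by
        rw [commutatorElement_def, commutatorElement_def]; group
      rw [h1]
      exact (Subgroup.mem_normalizer_iff.1 (Subgroup.inv_mem _ ihx.1) _).1 (Y.inv_mem ihx.2)
  exact key.2

end Cfsg.Agent.Helper1.R2S
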