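import Mathlib
import Cfsg.Prelude
import Cfsg.Agent.Helper1.R2SA
import Cfsg.Agent.Helper1.HuppertMetaC
import Cfsg.Agent.Helper1.MetacyclicOmega

set_option autoImplicit false

/-!
# Rank two `p`-groups with `[R, A] = R`: groups of order `p ^ 3`, cyclicity criterion
-/

namespace Cfsg.Agent.Helper1.R2S

open Cfsg Cfsg.Agent.Helper1

open scoped Pointwise commutatorElement

universe u

/-- the centre of a non-abelian group of order `p ^ 3` has order `p` and equals the derived
subgroup. -/
theorem center_of_card_cube {P : Type u} [Group P] {p : ℕ} [hp : Fact p.Prime]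
    (hcard : Nat.card P = p ^ 3) (hna : ¬ ∀ a b : P, a * b = b * a) :
    Nat.card (Subgroup.center P) = p ∧ commutator P = Subgroup.center P := by
  haveI : Finite P := Nat.finite_of_card_ne_zero (by rw [hcard]; exact pow_ne_zero 3 hp.out.pos.ne')
  have hP : IsPGroup p P := IsPGroup.of_card hcard
  obtain ⟨k, hk0, hk⟩ := IsPGroup.card_center_eq_prime_pow hcard (by norm_num)
  have hidx : Nat.card (Subgroup.center P) * (Subgroup.center P).index = p ^ 3 := by
    rw [Subgroup.card_mul_index, hcard]
  have hk3 : k ≤ 3 := by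
    have h1 : p ^ k ∣ p ^ 3 := by rw [← hk, ← hcard]; exact Subgroup.card_subgroup_dvd_card _
    exact (Nat.pow_dvd_pow_iff_le_right hp.out.one_lt).1 h1
  have hk1 : k = 1 := by
    by_contra hne
    have hk23 : k = 2 ∨ k = 3 := by omega
    rcases hk23 with h2 | h3
    · -- quotient of order `p`, cyclic
      rw [hk, h2] at hidx
      have h4 : (Subgroup.center P).index = p := by
        have h5 : p ^ 2 * (Subgroup.center P).index = p ^ 2 * p := by rw [hidx]; ring
        exact Nat.eq_of_mul_eq_mul_left (pow_pos hp.out.pos 2) h5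
      haveI : IsCyclic (P ⧸ Subgroup.center P) := by
        apply isCyclic_of_prime_card (p := p)
        rw [← Subgroup.index_eq_card]; exact h4
      apply hna
      exact commutative_of_cyclic_center_quotient (QuotientGroup.mk' (Subgroup.center P))
        (by rw [QuotientGroup.ker_mk'])
    · rw [h3, ← hcard] at hk
      have h4 : Subgroup.center P = ⊤ := (Subgroup.card_eq_iff_eq_top _).1 hk
      apply hna
      intro a b
      have : a ∈ Subgroup.center P := by rw [h4]; exact Subgroup.mem_top a
      exact (Subgroup.mem_center_iff.1 this b).symm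
  rw [hk1, pow_one] at hk
  refine ⟨hk, ?_⟩
  have hq : Nat.card (P ⧸ Subgroup.center P) = p ^ 2 := by
    rw [← Subgroup.index_eq_card]
    rw [hk] at hidx
    have h5 : p * (Subgroup.center P).index = p * p ^ 2 := by rw [hidx]; ring
    exact Nat.eq_of_mul_eq_mul_left hp.out.pos h5
  have hle : commutator P ≤ Subgroup.center P := by
    letI : CommGroup (P ⧸ Subgroup.center P) :=
      { (inferInstance : Group (P ⧸ Subgroup.center P)) with
        mul_comm := IsPGroup.commutative_of_card_eq_prime_sq hq }
    have := Abelianization.commutator_subset_ker (QuotientGroup.mk' (Subgroup.center P))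
    rwa [QuotientGroup.ker_mk'] at this
  have hne : commutator P ≠ ⊥ := by
    intro h
    apply hna
    intro a b
    have h1 : ⁅a, b⁆ ∈ commutator P := by
      rw [commutator_def]
      exact Subgroup.commutator_mem_commutator (Subgroup.mem_top a) (Subgroup.mem_top b)
    rw [h, Subgroup.mem_bot, commutatorElement_eq_one_iff_mul_comm] at h1
    exact h1
  apply Subgroup.eq_of_le_of_card_ge hle
  rw [hk]
  have h1 : Nat.card (commutator P) ∣ p := by
    rw [← hk]; exact Subgroup.card_dvd_of_le hle
  rcases (Nat.dvd_prime hp.out).1 h1 with h2 | h2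
  · exact absurd (Subgroup.card_eq_one.1 h2) hne
  · exact h2.ge

variable {G : Type u} [Group G]

/-- subgroup version of `center_of_card_cube`. -/
theorem center_of_card_cube' {p : ℕ} [hp : Fact p.Prime] (T : Subgroup G)
    (hcard : Nat.card T = p ^ 3) (hna : ¬ IsMulCommutative T) :
    Nat.card (T ⊓ Subgroup.centralizer (T : Set G) : Subgroup G) = p ∧
      ⁅T, T⁆ = T ⊓ Subgroup.centralizer (T : Set G) := by
  have hna' : ¬ ∀ a b : ↥T, a * b = b * a := fun h => hna ⟨⟨h⟩⟩
  obtain ⟨h1, h2⟩ := center_of_card_cube hcard hna'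
  have hmap : (Subgroup.center ↥T).map T.subtype = T ⊓ Subgroup.centralizer (T : Set G) := by
    ext x
    constructor
    · rintro ⟨y, hy, rfl⟩
      refine Subgroup.mem_inf.2 ⟨y.2, ?_⟩
      rw [Subgroup.mem_centralizer_iff]
      intro t ht
      have := Subgroup.mem_center_iff.1 hy ⟨t, ht⟩
      exact congrArg Subtype.val this
    · intro hx
      obtain ⟨hxT, hxC⟩ := Subgroup.mem_inf.1 hx
      refine ⟨⟨x, hxT⟩, ?_, rfl⟩
      rw [SetLike.mem_coe, Subgroup.mem_center_iff]
      intro t
      apply Subtype.ext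
      exact Subgroup.mem_centralizer_iff.1 hxC t t.2
  constructor
  · rw [← hmap, Subgroup.card_map_of_injective T.subtype_injective, h1]
  · rw [← hmap, ← h2, commutator_def, Subgroup.map_commutator, ← MonoidHom.range_eq_map,
      Subgroup.range_subtype]

/-- for `p > 3`, a `p`-group with at most `p` solutions of `x ^ p = 1` is cyclic. -/
theorem isCyclic_of_forall_pow_eq_one_mem [Finite G] {p : ℕ} [hp : Fact p.Prime] (h3 : 3 < p)
    (X Z : Subgroup G) (hX : IsPGroup p X) (hZ : Nat.card Z ≤ p)
    (h : ∀ x ∈ X, x ^ p = 1 → x ∈ Z) : IsCyclic ↥X := by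
  have hle : Cfsg.omegaOne p (⊤ : Subgroup ↥X) ≤ Z.subgroupOf X := by
    unfold Cfsg.omegaOne
    rw [Subgroup.closure_le]
    rintro x ⟨-, hx⟩
    rw [SetLike.mem_coe, Subgroup.mem_subgroupOf]
    apply h x x.2
    have := congrArg Subtype.val hx
    simpa using this
  have hc : Nat.card ↥(Cfsg.omegaOne p (⊤ : Subgroup ↥X)) ≤ p := by
    refine le_trans (Nat.le_of_dvd Nat.card_pos (Subgroup.card_dvd_of_le hle)) ?_
    rw [card_subgroupOf]
    exact le_trans (Nat.le_of_dvd Nat.card_pos (Subgroup.card_dvd_of_le inf_le_left)) hZ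
  have hp1 : p ≤ p ^ 2 := by
    have := hp.out.one_lt
    nlinarith
  have hm : Cfsg.IsMetacyclic ↥X :=
    HuppertMeta.isMetacyclic_of_card_omegaOne_le h3 hX (hc.trans hp1)
  by_contra hnc
  have h2 := (metacyclic_omega (by omega) hX hm hnc).2
  rw [h2] at hc
  have := hp.out.one_lt
  nlinarith

end Cfsg.Agent.Helper1.R2S
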