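import Mathlib
import Cfsg.Prelude.Def_Transfer
import Cfsg.Prelude.Def_FusionSystem
import Cfsg.Agent.Helper1.Basic
import Cfsg.Agent.Helper1.Coprime
import Cfsg.Agent.Helper1.SylowInt
import Cfsg.Agent.Lead.FusionAut
import Cfsg.Agent.Lead.FusionFocal
import Cfsg.Agent.Lead.FusionHypAct
import Cfsg.Agent.Lead.HyperfocalGroup

set_option autoImplicit false

/-!
In a `p`-normal group, `P ∩ O^p(G) = P ∩ O^p(V)` for `V ≥ N(Z(P))`, through the hyperfocal
subgroup theorem.
-/

namespace Cfsg.Agent.Helper1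

open scoped Pointwise
open Cfsg Cfsg.FusionSystem

universe u

variable {G : Type u} [Group G]

/-- the normalizer of `Q` normalizes its centralizer -/
theorem normalizer_le_normalizer_centralizer' (Q : Subgroup G) :
    Subgroup.normalizer (Q : Set G) ≤
      Subgroup.normalizer ((Subgroup.centralizer (Q : Set G) : Subgroup G) : Set G) := by
  intro g hg
  have key : ∀ g : G, g ∈ Subgroup.normalizer (Q : Set G) →
      ∀ c ∈ Subgroup.centralizer (Q : Set G), g * c * g⁻¹ ∈ Subgroup.centralizer (Q : Set G) := by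
    intro g hg c hc
    rw [Subgroup.mem_centralizer_iff]
    intro x hx
    have h1 : g⁻¹ * x * g ∈ Q := by
      have := (Subgroup.mem_normalizer_iff.1 (Subgroup.inv_mem _ hg) x).1 hx
      simpa using this
    have h2 := (Subgroup.mem_centralizer_iff.1 hc) _ h1
    calc x * (g * c * g⁻¹) = g * ((g⁻¹ * x * g) * c) * g⁻¹ := by group
      _ = g * (c * (g⁻¹ * x * g)) * g⁻¹ := by rw [h2]
      _ = g * c * g⁻¹ * x := by group
  rw [Subgroup.mem_normalizer_iff]
  intro c
  constructor
  · exact key g hg c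
  · intro hc
    have := key g⁻¹ (Subgroup.inv_mem _ hg) _ hc
    simpa [mul_assoc] using this

/-- In a `p`-normal group, every automorphism of `Q ≤ P` induced by `G` is induced by `N(Z(P))`. -/
theorem pnormal_control [Finite G] {p : ℕ} [Fact p.Prime] (P : Sylow p G)
    (hn : ∀ Q : Sylow p G, (P : Subgroup G) ⊓ Subgroup.centralizer (P : Set G) ≤ (Q : Subgroup G) →
      (Q : Subgroup G) ⊓ Subgroup.centralizer (Q : Set G) =
        (P : Subgroup G) ⊓ Subgroup.centralizer (P : Set G))
    (Q : Subgroup G) (hQP : Q ≤ (P : Subgroup G)) (g : G)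
    (hg : g ∈ Subgroup.normalizer (Q : Set G)) :
    ∃ n ∈ Subgroup.normalizer
        (((P : Subgroup G) ⊓ Subgroup.centralizer (P : Set G) : Subgroup G) : Set G),
      ∀ x ∈ Q, n * x * n⁻¹ = g * x * g⁻¹ := by
  set Z : Subgroup G := (P : Subgroup G) ⊓ Subgroup.centralizer (P : Set G) with hZ
  set C : Subgroup G := Subgroup.centralizer (Q : Set G) with hC
  have hgC : g ∈ Subgroup.normalizer (C : Set G) := normalizer_le_normalizer_centralizer' Q hg
  have hZC : Z ≤ C := inf_le_right.trans (Subgroup.centralizer_le hQP)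
  have hZp : IsPGroup p Z := P.2.to_le inf_le_left
  have hZp' : IsPGroup p (Z.subgroupOf C) := hZp.comap_subtype
  obtain ⟨R, hR⟩ := hZp'.exists_le_sylow
  set RG : Subgroup G := (R : Subgroup C).map C.subtype with hRG
  have hZRG : Z ≤ RG := by
    intro z hz
    exact ⟨⟨z, hZC hz⟩, hR (Subgroup.mem_subgroupOf.2 hz), rfl⟩
  obtain ⟨R', hR'⟩ := exists_sylow_map_eq_conj C R g hgC
  obtain ⟨k, hk, hkR⟩ := exists_conj_sylow_map C R R'
  rw [hR'] at hkR
  -- n = k⁻¹ g normalizes RG
  have hnR : MulAut.conj (k⁻¹ * g) • RG = RG := by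
    rw [map_mul, mul_smul, ← hkR, ← mul_smul, ← map_mul, inv_mul_cancel, map_one, one_smul]
  refine ⟨k⁻¹ * g, ?_, ?_⟩
  · -- normalizes Z
    have hRGp : IsPGroup p RG := R.2.map _
    obtain ⟨P', hP'⟩ := hRGp.exists_le_sylow
    have hZP' : Z ≤ (P' : Subgroup G) := hZRG.trans hP'
    have hZ1 := hn P' hZP'
    set n := k⁻¹ * g with hndef
    -- P'' = n⁻¹ • P'
    have hZP'' : Z ≤ ((n⁻¹ • P' : Sylow p G) : Subgroup G) := by
      intro z hz
      rw [Sylow.coe_subgroup_smul, mem_conj_smul, inv_inv]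
      apply hP'
      rw [← hnR]
      exact conj_mem_conj_smul (hZRG hz)
    have hZ2 := hn _ hZP''
    have hle : MulAut.conj n • Z ≤ Z := by
      intro w hw
      rw [mem_conj_smul] at hw
      have hw1 : n⁻¹ * w * n ∈ ((n⁻¹ • P' : Sylow p G) : Subgroup G) := (hZ2.ge hw).1
      have hw2 : n⁻¹ * w * n ∈
          Subgroup.centralizer (((n⁻¹ • P' : Sylow p G) : Subgroup G) : Set G) := (hZ2.ge hw).2
      rw [Sylow.coe_subgroup_smul, mem_conj_smul, inv_inv] at hw1
      rw [← hZ1]
      refine ⟨?_, ?_⟩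
      · show w ∈ (P' : Subgroup G)
        have : n * (n⁻¹ * w * n) * n⁻¹ = w := by group
        rw [← this]; exact hw1
      · show w ∈ Subgroup.centralizer ((P' : Subgroup G) : Set G)
        rw [Subgroup.mem_centralizer_iff]
        intro y hy
        have hy' : n⁻¹ * y * n ∈ (((n⁻¹ • P' : Sylow p G) : Subgroup G) : Set G) := by
          rw [Sylow.coe_subgroup_smul, SetLike.mem_coe, mem_conj_smul, inv_inv]
          have : n * (n⁻¹ * y * n) * n⁻¹ = y := by group
          rw [this]; exact hy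
        have h3 := (Subgroup.mem_centralizer_iff.1 hw2) _ hy'
        calc y * w = n * ((n⁻¹ * y * n) * (n⁻¹ * w * n)) * n⁻¹ := by group
          _ = n * ((n⁻¹ * w * n) * (n⁻¹ * y * n)) * n⁻¹ := by rw [h3]
          _ = w * y := by group
    have heq : MulAut.conj n • Z = Z := by
      apply Subgroup.eq_of_le_of_card_ge hle
      rw [card_conj_smul]
    exact mem_normalizer_of_conj_smul_eq heq
  · intro x hx
    have hgx : g * x * g⁻¹ ∈ Q := (Subgroup.mem_normalizer_iff.1 hg x).1 hx
    have hk' : k⁻¹ ∈ C := C.inv_mem hk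
    have h1 := (Subgroup.mem_centralizer_iff.1 hk') _ hgx
    calc k⁻¹ * g * x * (k⁻¹ * g)⁻¹ = k⁻¹ * (g * x * g⁻¹) * k := by group
      _ = (g * x * g⁻¹) * k⁻¹ * k := by rw [h1]
      _ = g * x * g⁻¹ := by group

/-- Every element of `O^p(Aut_G(Q))` is induced by an element of `O^p(V)` when `V` induces all of
`Aut_G(Q)`. -/
theorem exists_pResidual_conj_of_control [Finite G] (p : ℕ) [Fact p.Prime] (S V : Subgroup G)
    {Q : Subgroup G} (hQS : Q ≤ S)
    (hctrl : ∀ g : G, (∀ x : Q, g * x * g⁻¹ ∈ Q) →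
      ∃ v ∈ V, ∀ x : Q, v * (x : G) * v⁻¹ = g * x * g⁻¹)
    (α : (groupFusionSystem S).autGroup Q)
    (hα : α ∈ Cfsg.pResidual p ((groupFusionSystem S).autGroup Q)) :
    ∃ w ∈ (Cfsg.pResidual p V).map V.subtype,
      ∀ x : Q, (((α : MulAut Q) x : Q) : G) = w * x * w⁻¹ := by
  unfold Cfsg.pResidual at hα
  induction hα using Subgroup.closure_induction with
  | mem β hβ =>
    have hβ' := (Cfsg.Agent.Lead.Fusion.mem_autGroup_iff (groupFusionSystem S) hQS β.1).mp β.2
    obtain ⟨-, -, g, hg⟩ := hβ'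
    have hg' : ∀ x : Q, (((β : MulAut Q) x : Q) : G) = g * x * g⁻¹ := hg
    obtain ⟨v, hv, hvg⟩ := hctrl g (fun x => by rw [← hg' x]; exact ((β : MulAut Q) x).2)
    have : Finite Q := Finite.of_injective _ Subtype.val_injective
    have : Finite (MulAut Q) := inferInstance
    obtain ⟨k, hk1, hk2⟩ := Cfsg.Agent.Lead.exists_pow_coprime p (⟨v, hv⟩ : V) (orderOf β) hβ
    refine ⟨v ^ k, ⟨⟨v, hv⟩ ^ k, Cfsg.Agent.Lead.mem_pResidual_of_coprime' hk1, rfl⟩, fun x => ?_⟩
    have h1 := Cfsg.Agent.Lead.aut_pow_conj (β : MulAut Q) v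
      (fun x => by rw [hg' x, hvg x]) k x
    rw [← h1]
    have h2 : β ^ k = β := by
      have := (pow_eq_pow_iff_modEq (x := β) (n := k) (m := 1)).mpr hk2
      rwa [pow_one] at this
    have h3 : ((β : MulAut Q)) ^ k = (β : MulAut Q) := by
      have := congrArg Subtype.val h2
      simpa using this
    rw [h3]
  | one => exact ⟨1, Subgroup.one_mem _, fun x => by simp⟩
  | mul a b _ _ iha ihb =>
    obtain ⟨g, hg, hga⟩ := iha
    obtain ⟨h, hh, hhb⟩ := ihb
    refine ⟨g * h, Subgroup.mul_mem _ hg hh, fun x => ?_⟩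
    show ((((a : MulAut Q) * (b : MulAut Q)) x : Q) : G) = _
    rw [MulAut.mul_apply, hga, hhb]
    group
  | inv a _ iha =>
    obtain ⟨g, hg, hga⟩ := iha
    refine ⟨g⁻¹, Subgroup.inv_mem _ hg, fun x => ?_⟩
    have h1 := hga ((a : MulAut Q)⁻¹ x)
    rw [MulAut.apply_inv_self] at h1
    show ((((a : MulAut Q)⁻¹) x : Q) : G) = _
    rw [h1]
    group

/-- Grün's second theorem at the level of `O^p`. -/
theorem pnormal_inf_pResidual [Finite G] {p : ℕ} [Fact p.Prime] (P : Sylow p G)
    (hn : ∀ Q : Sylow p G, (P : Subgroup G) ⊓ Subgroup.centralizer (P : Set G) ≤ (Q : Subgroup G) →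
      (Q : Subgroup G) ⊓ Subgroup.centralizer (Q : Set G) =
        (P : Subgroup G) ⊓ Subgroup.centralizer (P : Set G))
    (V : Subgroup G)
    (hV : Subgroup.normalizer
      (((P : Subgroup G) ⊓ Subgroup.centralizer (P : Set G) : Subgroup G) : Set G) ≤ V) :
    (P : Subgroup G) ⊓ Cfsg.pResidual p G =
      (P : Subgroup G) ⊓ (Cfsg.pResidual p V).map V.subtype := by
  have hPV : (P : Subgroup G) ≤ V := by
    refine le_trans ?_ hV
    intro x hx
    rw [Subgroup.mem_normalizer_iff]
    intro z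
    have hxc : ∀ c ∈ Subgroup.centralizer ((P : Subgroup G) : Set G), x * c * x⁻¹ = c := by
      intro c hc
      have := (Subgroup.mem_centralizer_iff.1 hc) x hx
      rw [this, mul_inv_cancel_right]
    constructor
    · rintro ⟨hz1, hz2⟩
      refine ⟨(P : Subgroup G).mul_mem ((P : Subgroup G).mul_mem hx hz1)
        ((P : Subgroup G).inv_mem hx), ?_⟩
      rw [hxc z hz2]; exact hz2
    · rintro ⟨hz1, hz2⟩
      have h1 : z ∈ (P : Subgroup G) := by
        have := (P : Subgroup G).mul_mem ((P : Subgroup G).mul_mem ((P : Subgroup G).inv_mem hx) hz1) hx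
        simpa [mul_assoc] using this
      have h2 : z ∈ Subgroup.centralizer ((P : Subgroup G) : Set G) := by
        rw [Subgroup.mem_centralizer_iff]
        intro y hy
        have hy' : x * y * x⁻¹ ∈ ((P : Subgroup G) : Set G) :=
          (P : Subgroup G).mul_mem ((P : Subgroup G).mul_mem hx hy) ((P : Subgroup G).inv_mem hx)
        have h3 := (Subgroup.mem_centralizer_iff.1 hz2) _ hy'
        have h4 : x * (y * z) * x⁻¹ = x * (z * y) * x⁻¹ := by
          calc x * (y * z) * x⁻¹ = (x * y * x⁻¹) * (x * z * x⁻¹) := by group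
            _ = (x * z * x⁻¹) * (x * y * x⁻¹) := h3
            _ = x * (z * y) * x⁻¹ := by group
        exact mul_left_cancel (mul_right_cancel h4)
      exact ⟨h1, h2⟩
  apply le_antisymm
  · apply le_inf inf_le_left
    rw [← Cfsg.Agent.Lead.Fusion.hyperfocal_group_eq p P]
    unfold FusionSystem.hyperfocalSubgroup
    rw [Subgroup.closure_le]
    rintro y ⟨Q, α, x, hQP, hα, rfl⟩
    have hctrl : ∀ g : G, (∀ x : Q, g * x * g⁻¹ ∈ Q) →
        ∃ v ∈ V, ∀ x : Q, v * (x : G) * v⁻¹ = g * x * g⁻¹ := by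
      intro g hg
      have hgN : g ∈ Subgroup.normalizer (Q : Set G) := by
        have : Finite Q := Finite.of_injective _ Subtype.val_injective
        apply mem_normalizer_of_conj_smul_eq
        apply Subgroup.eq_of_le_of_card_ge
        · intro z hz
          rw [mem_conj_smul] at hz
          have := hg ⟨_, hz⟩
          simpa [mul_assoc] using this
        · rw [card_conj_smul]
      obtain ⟨n, hnN, hnx⟩ := pnormal_control P hn Q hQP g hgN
      exact ⟨n, hV hnN, fun x => hnx x x.2⟩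
    obtain ⟨w, hw, hwα⟩ := exists_pResidual_conj_of_control p (P : Subgroup G) V hQP hctrl α hα
    rw [hwα, SetLike.mem_coe]
    obtain ⟨w', hw', rfl⟩ := hw
    have hxV : (x : G) ∈ V := hPV (hQP x.2)
    have hnorm := Cfsg.Agent.Lead.pResidual_normal' (G := V) p
    have h1 : (⟨(x : G), hxV⟩ : V)⁻¹ * w' * ((⟨(x : G), hxV⟩ : V)⁻¹)⁻¹ * w'⁻¹ ∈
        Cfsg.pResidual p V :=
      Subgroup.mul_mem _ (hnorm.conj_mem w' hw' _) (Subgroup.inv_mem _ hw')
    refine ⟨_, h1, ?_⟩
    simp only [map_mul, map_inv, Subgroup.subtype_apply, inv_inv]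
    group
  · apply le_inf inf_le_left
    exact inf_le_right.trans (Cfsg.Agent.Lead.pResidual_map_le p V.subtype)

end Cfsg.Agent.Helper1
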