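import Mathlib
import Cfsg.Prelude.Def_CaseTheorems
import Cfsg.Prelude.Def_Transfer
import Cfsg.Agent.Helper1.Basic
import Cfsg.Agent.Helper1.PGroup
import Cfsg.Agent.Helper1.ClassThree
import Cfsg.Agent.Helper1.PQLemma
import Cfsg.Agent.Helper1.Fitting
import Cfsg.Agent.S3771

set_option autoImplicit false

/-!
For `p > 3`, in a `p`-group of rank at most two the elements of order dividing `p` form a
subgroup.
-/

namespace Cfsg.Agent.Helper1.OmegaRank2

open Cfsg.Agent.Helper1

open scoped commutatorElement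

universe u

variable {R : Type u} [Group R]

/-- strict inclusions of subgroups of a `p`-group multiply the order by at least `p` -/
theorem mul_card_le_of_lt [Finite R] {p : ℕ} [hp : Fact p.Prime] (hR : IsPGroup p R)
    {A B : Subgroup R} (h : A < B) : p * Nat.card A ≤ Nat.card B := by
  obtain ⟨a, ha⟩ := IsPGroup.iff_card.1 (hR.to_subgroup A)
  obtain ⟨b, hb⟩ := IsPGroup.iff_card.1 (hR.to_subgroup B)
  have h1 : Nat.card A < Nat.card B := card_lt_card_of_lt h
  rw [ha, hb] at h1 ⊢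
  have h2 : a < b := (Nat.pow_lt_pow_iff_right hp.out.one_lt).1 h1
  calc p * p ^ a = p ^ (a + 1) := by ring
    _ ≤ p ^ b := Nat.pow_le_pow_right hp.out.pos h2

/-- a `p`-group generated by a normal subgroup of order at most `p^3` and one element has class
at most three -/
theorem class_three_of_normal_sup_zpowers [Finite R] {p : ℕ} [hp : Fact p.Prime]
    (hR : IsPGroup p R) (N : Subgroup R) [hN : N.Normal] (hNcard : Nat.card N ≤ p ^ 3) (y : R)
    (hsup : N ⊔ Subgroup.zpowers y = ⊤) :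
    ⁅⁅commutator R, (⊤ : Subgroup R)⁆, (⊤ : Subgroup R)⁆ = ⊥ := by
  set N₁ : Subgroup R := ⁅N, (⊤ : Subgroup R)⁆ with hN₁
  set N₂ : Subgroup R := ⁅N₁, (⊤ : Subgroup R)⁆ with hN₂
  set N₃ : Subgroup R := ⁅N₂, (⊤ : Subgroup R)⁆ with hN₃
  haveI hN₁n : N₁.Normal := inferInstance
  have htopp : IsPGroup p (⊤ : Subgroup R) := hR.to_subgroup ⊤
  -- the derived subgroup lies in `N₁`
  have hder : commutator R ≤ N₁ := by
    rw [commutator_def, Subgroup.commutator_le]
    intro a _ b _
    have ha : a ∈ N ⊔ Subgroup.zpowers y := by rw [hsup]; exact Subgroup.mem_top a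
    have hb : b ∈ N ⊔ Subgroup.zpowers y := by rw [hsup]; exact Subgroup.mem_top b
    obtain ⟨n, hn, k, hk, rfl⟩ := Subgroup.mem_sup_of_normal_left.1 ha
    obtain ⟨n', hn', k', hk', rfl⟩ := Subgroup.mem_sup_of_normal_left.1 hb
    -- work in the quotient
    rw [← QuotientGroup.eq_one_iff (N := N₁)]
    have hcent : ∀ m ∈ N, ∀ g : R, (QuotientGroup.mk m : R ⧸ N₁) * QuotientGroup.mk g =
        QuotientGroup.mk g * QuotientGroup.mk m := by
      intro m hm g
      rw [← QuotientGroup.mk_mul, ← QuotientGroup.mk_mul, QuotientGroup.eq]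
      have h1 : ⁅m⁻¹, g⁻¹⁆ ∈ N₁ :=
        Subgroup.commutator_mem_commutator (N.inv_mem hm) (Subgroup.mem_top _)
      have h2 : (m * g)⁻¹ * (g * m) = (⁅m⁻¹, g⁻¹⁆)⁻¹ := by
        rw [commutatorElement_def]; group
      rw [h2]
      exact N₁.inv_mem h1
    have hkk : k * k' = k' * k := by
      obtain ⟨i, rfl⟩ := Subgroup.mem_zpowers_iff.1 hk
      obtain ⟨j, rfl⟩ := Subgroup.mem_zpowers_iff.1 hk'
      rw [← zpow_add, ← zpow_add, add_comm]
    rw [commutatorElement_def]
    simp only [QuotientGroup.mk_mul, QuotientGroup.mk_inv]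
    have e1 := hcent n hn
    have e2 := hcent n' hn'
    have e3 : (QuotientGroup.mk k : R ⧸ N₁) * QuotientGroup.mk k' =
        QuotientGroup.mk k' * QuotientGroup.mk k := by
      rw [← QuotientGroup.mk_mul, ← QuotientGroup.mk_mul, hkk]
    generalize (QuotientGroup.mk n : R ⧸ N₁) = a at e1 ⊢
    generalize (QuotientGroup.mk n' : R ⧸ N₁) = b at e2 ⊢
    generalize (QuotientGroup.mk k : R ⧸ N₁) = c at e1 e2 e3 ⊢
    generalize (QuotientGroup.mk k' : R ⧸ N₁) = d at e1 e2 e3 ⊢
    -- `a, b` central, `c, d` commute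
    have e1' : ∀ g : R ⧸ N₁, a * g = g * a := by
      intro g
      induction g using QuotientGroup.induction_on with | _ g => exact e1 g
    have e2' : ∀ g : R ⧸ N₁, b * g = g * b := by
      intro g
      induction g using QuotientGroup.induction_on with | _ g => exact e2 g
    calc a * c * (b * d) * (a * c)⁻¹ * (b * d)⁻¹
        = a * (c * b) * d * c⁻¹ * a⁻¹ * d⁻¹ * b⁻¹ := by group
      _ = a * (b * c) * d * c⁻¹ * a⁻¹ * d⁻¹ * b⁻¹ := by rw [e2' c]
      _ = a * b * (c * d) * c⁻¹ * a⁻¹ * d⁻¹ * b⁻¹ := by group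
      _ = a * b * (d * c) * c⁻¹ * a⁻¹ * d⁻¹ * b⁻¹ := by rw [e3]
      _ = a * b * d * a⁻¹ * d⁻¹ * b⁻¹ := by group
      _ = a * (b * d * a⁻¹) * d⁻¹ * b⁻¹ := by group
      _ = (b * d * a⁻¹) * a * d⁻¹ * b⁻¹ := by rw [e1' (b * d * a⁻¹)]
      _ = 1 := by group
  have hle : ⁅⁅commutator R, (⊤ : Subgroup R)⁆, (⊤ : Subgroup R)⁆ ≤ N₃ :=
    Subgroup.commutator_mono (Subgroup.commutator_mono hder le_rfl) le_rfl
  rw [eq_bot_iff]
  refine hle.trans ?_
  rw [← eq_bot_iff]
  by_contra h3
  have hall : ∀ U : Subgroup R, (⊤ : Subgroup R) ≤ Subgroup.normalizer (U : Set R) → U ≠ ⊥ →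
      ⁅U, (⊤ : Subgroup R)⁆ < U := fun U hU hne =>
    commutator_lt_of_isPGroup (hR.to_subgroup U) htopp hU hne
  have hnormal : ∀ U : Subgroup R, U.Normal →
      (⊤ : Subgroup R) ≤ Subgroup.normalizer (U : Set R) := by
    intro U hU
    rw [Subgroup.normalizer_eq_top]
  have h2 : N₂ ≠ ⊥ := by
    intro h
    apply h3
    rw [hN₃, h]
    exact Subgroup.commutator_bot_left _
  have h1 : N₁ ≠ ⊥ := by
    intro h
    apply h2
    rw [hN₂, h]
    exact Subgroup.commutator_bot_left _
  have h0 : N ≠ ⊥ := by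
    intro h
    apply h1
    rw [hN₁, h]
    exact Subgroup.commutator_bot_left _
  have l3 : N₃ < N₂ := hall N₂ (hnormal N₂ inferInstance) h2
  have l2 : N₂ < N₁ := hall N₁ (hnormal N₁ inferInstance) h1
  have l1 : N₁ < N := hall N (hnormal N inferInstance) h0
  have l4 : (⊥ : Subgroup R) < N₃ := bot_lt_iff_ne_bot.2 h3
  have c4 := mul_card_le_of_lt hR l4
  have c3 := mul_card_le_of_lt hR l3
  have c2 := mul_card_le_of_lt hR l2
  have c1 := mul_card_le_of_lt hR l1
  rw [Subgroup.card_bot, mul_one] at c4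
  have hp1 : 1 < p := hp.out.one_lt
  have : p ^ 4 ≤ Nat.card N := by
    calc p ^ 4 = p * (p * (p * p)) := by ring
      _ ≤ p * (p * (p * Nat.card N₃)) := by gcongr
      _ ≤ p * (p * Nat.card N₂) := by gcongr
      _ ≤ p * Nat.card N₁ := by gcongr
      _ ≤ Nat.card N := c1
  have h5 : p ^ 3 < p ^ 4 := Nat.pow_lt_pow_right hp1 (by norm_num)
  omega

/-- rank bounds pass to subgroups -/
theorem pRankLE_subgroup {p k : ℕ} (h : Cfsg.PRankLE p k R) (H : Subgroup R) :
    Cfsg.PRankLE p k ↥H := by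
  intro A hAc hAe
  have h1 := h (A.map H.subtype) (by
    refine ⟨⟨?_⟩⟩
    rintro ⟨_, x, hx, rfl⟩ ⟨_, y, hy, rfl⟩
    apply Subtype.ext
    have := hAc.is_comm.comm ⟨x, hx⟩ ⟨y, hy⟩
    have h5 := congrArg (fun z : ↥A => ((z : ↥H) : R)) this
    simpa using h5) (by
    rintro _ ⟨x, hx, rfl⟩
    have := hAe x hx
    have h5 := congrArg (fun z : ↥H => (z : R)) this
    simpa using h5)
  rwa [Nat.card_congr (A.equivMapOfInjective H.subtype H.subtype_injective).toEquiv]

theorem mul_pow_eq_one_aux {p : ℕ} [hp : Fact p.Prime] (h3 : 3 < p) :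
    ∀ (n : ℕ) (R : Type u) [Group R] [Finite R], Nat.card R = n → IsPGroup p R →
      Cfsg.PRankLE p 2 R → ∀ x y : R, x ^ p = 1 → y ^ p = 1 → (x * y) ^ p = 1 := by
  intro n
  induction n using Nat.strong_induction_on with
  | _ n ih =>
  intro R _ _ hcard hR hrk x y hx hy
  set K := Subgroup.closure ({x, y} : Set R) with hKdef
  have hxK : x ∈ K := Subgroup.subset_closure (by simp)
  have hyK : y ∈ K := Subgroup.subset_closure (by simp)
  have hlt : ∀ L : Subgroup R, L ≠ ⊤ → Nat.card L < n := by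
    intro L hL
    rw [← hcard, ← Subgroup.card_top (G := R)]
    exact card_lt_card_of_lt (lt_top_iff_ne_top.2 hL)
  by_cases hK : K = ⊤
  swap
  · have := ih _ (hlt K hK) ↥K rfl (hR.to_subgroup K) (pRankLE_subgroup hrk K) ⟨x, hxK⟩ ⟨y, hyK⟩
      (Subtype.ext hx) (Subtype.ext hy)
    have h5 := congrArg (fun z : ↥K => (z : R)) this
    simpa using h5
  by_cases hcyc : Subgroup.zpowers x = ⊤
  · have hyx : y ∈ Subgroup.zpowers x := by rw [hcyc]; exact Subgroup.mem_top y
    obtain ⟨i, rfl⟩ := Subgroup.mem_zpowers_iff.1 hyx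
    have hc : Commute x (x ^ i) := (Commute.refl x).zpow_right i
    rw [hc.mul_pow, hx, hy, one_mul]
  obtain ⟨M, hM, hxM⟩ : ∃ M : Subgroup R, IsCoatom M ∧ Subgroup.zpowers x ≤ M :=
    (eq_top_or_exists_le_coatom _).resolve_left hcyc
  haveI hMn : M.Normal := IsPGroup.coatom_normal hR hM
  set S : Set R := {z | z ∈ M ∧ z ^ p = 1} with hS
  set N := Subgroup.closure S with hN
  have hNM : N ≤ M := (Subgroup.closure_le M).2 (fun z hz => hz.1)
  have hM' := ih _ (hlt M hM.1) ↥M rfl (hR.to_subgroup M) (pRankLE_subgroup hrk M)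
  have hNexp : ∀ z ∈ N, z ^ p = 1 := by
    intro z hz
    induction hz using Subgroup.closure_induction with
    | mem z hz => exact hz.2
    | one => exact one_pow p
    | mul a b ha hb iha ihb =>
      have := hM' ⟨a, hNM ha⟩ ⟨b, hNM hb⟩ (Subtype.ext iha) (Subtype.ext ihb)
      have h5 := congrArg (fun z : ↥M => (z : R)) this
      simpa using h5
    | inv a _ iha => rw [inv_pow, iha, inv_one]
  haveI hNn : N.Normal := by
    constructor
    intro a ha g
    induction ha using Subgroup.closure_induction with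
    | mem z hz =>
      apply Subgroup.subset_closure
      refine ⟨hMn.conj_mem z hz.1 g, ?_⟩
      rw [conj_pow, hz.2, mul_one, mul_inv_cancel]
    | one => simp
    | mul a b _ _ iha ihb =>
      have : g * (a * b) * g⁻¹ = (g * a * g⁻¹) * (g * b * g⁻¹) := by group
      rw [this]
      exact N.mul_mem iha ihb
    | inv a _ iha =>
      have : g * a⁻¹ * g⁻¹ = (g * a * g⁻¹)⁻¹ := by group
      rw [this]
      exact N.inv_mem iha
  have hNcard : Nat.card N ≤ p ^ 3 :=
    Cfsg.Agent.S3771.result (hR.to_subgroup N) (pRankLE_subgroup hrk N)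
      (fun z => Subtype.ext (hNexp z z.2))
  have hxN : x ∈ N := Subgroup.subset_closure ⟨hxM (Subgroup.mem_zpowers x), hx⟩
  have hsup : N ⊔ Subgroup.zpowers y = ⊤ := by
    rw [eq_top_iff, ← hK, hKdef, Subgroup.closure_le]
    intro z hz
    rcases hz with rfl | rfl
    · exact Subgroup.mem_sup_left hxN
    · exact Subgroup.mem_sup_right (Subgroup.mem_zpowers _)
  have hcl := class_three_of_normal_sup_zpowers hR N hNcard y hsup
  exact omega_exponent_of_class_three hp.out h3 hcl (x * y)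
    (Subgroup.mul_mem _ (Subgroup.subset_closure hx) (Subgroup.subset_closure hy))

/-- S0128 -/
theorem omega_exponent_of_rank_two [Finite R] {p : ℕ} [hp : Fact p.Prime] (h3 : 3 < p)
    (hR : IsPGroup p R) (hrk : Cfsg.PRankLE p 2 R) (g : R)
    (hg : g ∈ Subgroup.closure {x : R | x ^ p = 1}) : g ^ p = 1 := by
  induction hg using Subgroup.closure_induction with
  | mem x hx => exact hx
  | one => exact one_pow p
  | mul x y _ _ ihx ihy => exact mul_pow_eq_one_aux h3 _ R rfl hR hrk x y ihx ihy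
  | inv x _ ihx => rw [inv_pow, ihx, inv_one]

end Cfsg.Agent.Helper1.OmegaRank2
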