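import Mathlib
import Cfsg.Prelude
import Cfsg.Agent.Helper1.R2SB
import Cfsg.Agent.Helper1.OmegaRank2
import Cfsg.Agent.Helper1.Rank2Fitting
import Cfsg.Agent.Helper5.CriticalPair2
import Cfsg.Agent.S0640
import Cfsg.Agent.S3771

set_option autoImplicit false

/-!
# Rank two `p`-groups with `[R, A] = R`: `p > 3` and the subgroup `Ω₁(R)`
-/

namespace Cfsg.Agent.Helper1.R2S

open Cfsg Cfsg.Agent.Helper1

open scoped Pointwise commutatorElement

universe u

variable {G : Type u} [Group G] [Finite G]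

/-- `p > 3` -/
theorem three_lt {p : ℕ} [hp : Fact p.Prime] (hp2 : p ≠ 2) (R A : Subgroup G)
    (hR : IsPGroup p R) (hR1 : R ≠ ⊥) (hr : Cfsg.PRankLE p 2 R)
    (hA : A ≤ Subgroup.normalizer (R : Set G)) (hcop : (Nat.card A).Coprime p)
    (hAodd : Odd (Nat.card A)) (hRA : ⁅R, A⁆ = R) : 3 < p := by
  by_contra hlt
  have hp3 : p = 3 := by
    have := hp.out.two_le
    omega
  set f : ↥A →* MulAut ↥R := R.normalizerMonoidHom.comp (Subgroup.inclusion hA) with hf
  by_cases hI : f.range = ⊥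
  · have h1 : ∀ a ∈ A, ∀ r ∈ R, a * r * a⁻¹ = r := by
      intro a ha r hr
      have h2 : f ⟨a, ha⟩ = 1 := by
        have : f ⟨a, ha⟩ ∈ f.range := ⟨_, rfl⟩
        rwa [hI, Subgroup.mem_bot] at this
      have h3 : (f ⟨a, ha⟩) ⟨r, hr⟩ = ⟨r, hr⟩ := by rw [h2]; rfl
      exact congrArg Subtype.val h3
    have h2 : ⁅R, A⁆ = ⊥ := by
      rw [Subgroup.commutator_eq_bot_iff_le_centralizer]
      intro r hr
      rw [Subgroup.mem_centralizer_iff]
      intro a ha
      have := h1 a ha r hr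
      calc a * r = (a * r * a⁻¹) * a := by group
        _ = r * a := by rw [this]
    rw [h2] at hRA
    exact hR1 hRA.symm
  · have hc1 : Nat.card f.range ≠ 1 := fun h => hI (Subgroup.card_eq_one.1 h)
    obtain ⟨q, hq, hqd⟩ := Nat.exists_prime_and_dvd hc1
    have hqA : q ∣ Nat.card A := hqd.trans (Subgroup.card_range_dvd f)
    have hqM : q ∣ Nat.card (MulAut ↥R) := hqd.trans (Subgroup.card_subgroup_dvd_card _)
    have hqp : q ≠ p := by
      rintro rfl
      have := Nat.Coprime.eq_one_of_dvd hcop.symm hqA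
      exact hq.one_lt.ne' this
    have h1 := (Cfsg.Agent.S0640.result hp2 hR hr q hq hqp hqM).2
    have hq2 : q = 2 := by
      have := hq.two_le
      omega
    rw [hq2] at hqA
    rcases hAodd with ⟨k, hk⟩
    omega

/-- `Ω₁(R)` has exponent `p`, order at most `p ^ 3`, and `R` is metacyclic if the order is at
most `p ^ 2`. -/
theorem omega_facts {p : ℕ} [hp : Fact p.Prime] (h3 : 3 < p) (R : Subgroup G)
    (hR : IsPGroup p R) (hr : Cfsg.PRankLE p 2 R) :
    (∀ x ∈ Cfsg.omegaOne p R, x ^ p = 1) ∧ Nat.card (Cfsg.omegaOne p R) ≤ p ^ 3 ∧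
      (Nat.card (Cfsg.omegaOne p R) ≤ p ^ 2 → Cfsg.IsMetacyclic ↥R) := by
  have hTR : Cfsg.omegaOne p R ≤ R := Cfsg.Agent.Helper5.omegaOne_le' p R
  have hmap : (Cfsg.omegaOne p (⊤ : Subgroup ↥R)).map R.subtype = Cfsg.omegaOne p R := by
    unfold Cfsg.omegaOne
    rw [MonoidHom.map_closure]
    congr 1
    ext x
    constructor
    · rintro ⟨y, ⟨-, hy⟩, rfl⟩
      refine ⟨y.2, ?_⟩
      have := congrArg Subtype.val hy
      simpa using this
    · rintro ⟨hxR, hx⟩
      exact ⟨⟨x, hxR⟩, ⟨Subgroup.mem_top _, Subtype.ext (by simpa using hx)⟩, rfl⟩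
  have hexp : ∀ x ∈ Cfsg.omegaOne p R, x ^ p = 1 := by
    intro x hx
    rw [← hmap] at hx
    obtain ⟨y, hy, rfl⟩ := hx
    have hy' : y ∈ Subgroup.closure {x : ↥R | x ^ p = 1} := by
      unfold Cfsg.omegaOne at hy
      refine (Subgroup.closure_mono ?_) hy
      rintro z ⟨-, hz⟩
      exact hz
    have := OmegaRank2.omega_exponent_of_rank_two h3 hR hr y hy'
    have h2 := congrArg Subtype.val this
    simpa using h2
  refine ⟨hexp, ?_, ?_⟩
  · apply Cfsg.Agent.S3771.result (hR.to_le hTR) (Rank2Fitting.pRankLE_of_le hTR hr)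
    intro x
    exact Subtype.ext (by simpa using hexp x x.2)
  · intro hc
    apply HuppertMeta.isMetacyclic_of_card_omegaOne_le h3 hR
    rw [← Subgroup.card_map_of_injective R.subtype_injective, hmap]
    exact hc

end Cfsg.Agent.Helper1.R2S
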