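import Mathlib
import Cfsg.Prelude
import Cfsg.Agent.Helper1.R2SC
import Cfsg.Agent.Helper1.PNormalResidual
import Cfsg.Agent.Helper1.PQLemma

set_option autoImplicit false

/-!
# Rank two `p`-groups with `[R, A] = R`: the case `|Ω₁(R)| = p ^ 3`, first part
-/

namespace Cfsg.Agent.Helper1.R2S

open Cfsg Cfsg.Agent.Helper1

open scoped Pointwise commutatorElement

universe u

variable {G : Type u} [Group G] [Finite G]

/-- the standing hypotheses: `T = Ω₁(R)` is non-abelian of order `p ^ 3` and exponent `p`, with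
centre `Z`. -/
structure Ctx (p : ℕ) (R A T Z : Subgroup G) : Prop where
  h3 : 3 < p
  hR : IsPGroup p R
  hTR : T ≤ R
  hAR : A ≤ Subgroup.normalizer (R : Set G)
  hAT : A ≤ Subgroup.normalizer (T : Set G)
  hRT : R ≤ Subgroup.normalizer (T : Set G)
  hTexp : ∀ x ∈ T, x ^ p = 1
  hΩ : ∀ x ∈ R, x ^ p = 1 → x ∈ T
  hTcard : Nat.card T = p ^ 3
  hZ : Z = T ⊓ Subgroup.centralizer (T : Set G)
  hZcard : Nat.card Z = p
  hTT : ⁅T, T⁆ = Z
  hAodd : Odd (Nat.card A)
  hRA : ⁅R, A⁆ = R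

namespace Ctx

variable {p : ℕ} [hp : Fact p.Prime] {R A T Z : Subgroup G}

theorem hZT (h : Ctx p R A T Z) : Z ≤ T := h.hZ ▸ inf_le_left

theorem hZc (h : Ctx p R A T Z) : Z ≤ Subgroup.centralizer (T : Set G) := h.hZ ▸ inf_le_right

theorem comm_Z (h : Ctx p R A T Z) {z t : G} (hz : z ∈ Z) (ht : t ∈ T) : z * t = t * z :=
  (Subgroup.mem_centralizer_iff.1 (h.hZc hz) t ht).symm

theorem le_normalizer_Z (h : Ctx p R A T Z) {X : Subgroup G}
    (hX : X ≤ Subgroup.normalizer (T : Set G)) : X ≤ Subgroup.normalizer (Z : Set G) := by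
  rw [h.hZ]
  exact le_normalizer_inf hX (hX.trans (normalizer_le_normalizer_centralizer' T))

/-- `Z` is central in `R`. -/
theorem hRZ (h : Ctx p R A T Z) : R ≤ Subgroup.centralizer (Z : Set G) :=
  le_centralizer_of_card_eq_prime h.hR (h.hZT.trans h.hTR) (h.le_normalizer_Z h.hRT) h.hZcard

theorem comm_RZ (h : Ctx p R A T Z) {z x : G} (hz : z ∈ Z) (hx : x ∈ R) : x * z = z * x :=
  (Subgroup.mem_centralizer_iff.1 (h.hRZ hx) z hz).symm

/-- a subgroup of `T` strictly between two subgroups of index `p`. -/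
theorem card_eq_of_lt_of_dvd {X Y : Subgroup G} {n : ℕ} (hXY : X < Y) (hX : Nat.card X = n)
    (hY : Nat.card Y ∣ p * n) : Nat.card Y = p * n := by
  have h1 : Nat.card X ∣ Nat.card Y := Subgroup.card_dvd_of_le hXY.le
  rw [hX] at h1
  obtain ⟨d, hd⟩ := h1
  have hn : 0 < n := hX ▸ Nat.card_pos
  rw [hd, mul_comm p n] at hY
  have h2 : d ∣ p := Nat.dvd_of_mul_dvd_mul_left hn hY
  rcases (Nat.dvd_prime hp.out).1 h2 with h3 | h3
  · exfalso
    rw [h3, mul_one] at hd
    exact hXY.ne (Subgroup.eq_of_le_of_card_ge hXY.le (by rw [hd, hX]))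
  · rw [hd, h3, mul_comm]

/-- the basic chain: for `u ∈ T \ Z` with `[R, u] ≤ Z`. -/
theorem chain (h : Ctx p R A T Z) {u : G} (huT : u ∈ T) (huZ : u ∉ Z)
    (hu : ∀ x ∈ R, x * u * x⁻¹ * u⁻¹ ∈ Z) :
    Nat.card (Z ⊔ Subgroup.zpowers u : Subgroup G) = p ^ 2 ∧
      T ⊓ Subgroup.centralizer ({u} : Set G) = Z ⊔ Subgroup.zpowers u ∧
      T ⊔ (R ⊓ Subgroup.centralizer ({u} : Set G)) = R ∧
      R ⊓ Subgroup.centralizer ({u} : Set G) =
        R ⊓ Subgroup.centralizer ((Z ⊔ Subgroup.zpowers u : Subgroup G) : Set G) := by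
  have hZT := h.hZT
  have hE'T : Z ⊔ Subgroup.zpowers u ≤ T := sup_le hZT (Subgroup.zpowers_le.2 huT)
  have hZlt : Z < Z ⊔ Subgroup.zpowers u := by
    refine lt_of_le_of_ne le_sup_left (fun heq => huZ ?_)
    rw [heq]
    exact (le_sup_right : Subgroup.zpowers u ≤ _) (Subgroup.mem_zpowers u)
  have huN : u ∈ Subgroup.normalizer (Z : Set G) := h.le_normalizer_Z Subgroup.le_normalizer huT
  have hc1 : Nat.card (Z ⊔ Subgroup.zpowers u : Subgroup G) = p ^ 2 := by
    have h0 : Nat.card (Z ⊔ Subgroup.zpowers u : Subgroup G) ∣ p * p := by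
      have := card_sup_zpowers_dvd (p := p) Z u huN (by rw [h.hTexp u huT]; exact Z.one_mem)
      rwa [h.hZcard] at this
    have := card_eq_of_lt_of_dvd (p := p) hZlt h.hZcard h0
    rw [this]; ring
  have hE'c : Z ⊔ Subgroup.zpowers u ≤ T ⊓ Subgroup.centralizer ({u} : Set G) := by
    refine le_inf hE'T (sup_le ?_ ?_)
    · intro z hz
      rw [Subgroup.mem_centralizer_iff]
      intro y hy
      rw [Set.mem_singleton_iff] at hy
      rw [hy]; exact (h.comm_Z hz huT).symm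
    · rw [Subgroup.zpowers_le, Subgroup.mem_centralizer_iff]
      intro y hy
      rw [Set.mem_singleton_iff] at hy
      rw [hy]
  have hne : T ⊓ Subgroup.centralizer ({u} : Set G) ≠ T := by
    intro heq
    apply huZ
    rw [h.hZ]
    refine Subgroup.mem_inf.2 ⟨huT, ?_⟩
    rw [Subgroup.mem_centralizer_iff]
    intro t ht
    have h1 : t ∈ T ⊓ Subgroup.centralizer ({u} : Set G) := by rw [heq]; exact ht
    exact (Subgroup.mem_centralizer_iff.1 h1.2 u rfl).symm
  have hc2 : T ⊓ Subgroup.centralizer ({u} : Set G) = Z ⊔ Subgroup.zpowers u := by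
    symm
    apply Subgroup.eq_of_le_of_card_ge hE'c
    rw [hc1]
    have h1 : Nat.card (T ⊓ Subgroup.centralizer ({u} : Set G) : Subgroup G) ∣ p ^ 3 := by
      rw [← h.hTcard]; exact Subgroup.card_dvd_of_le inf_le_left
    obtain ⟨k, hk3, hk⟩ := (Nat.dvd_prime_pow hp.out).1 h1
    have hk2 : k ≠ 3 := by
      rintro rfl
      apply hne
      exact Subgroup.eq_of_le_of_card_ge inf_le_left (by rw [hk, h.hTcard])
    rw [hk]
    exact Nat.pow_le_pow_right hp.out.pos (by omega)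
  have hcR : Nat.card R ≤ Nat.card Z *
      Nat.card (R ⊓ Subgroup.centralizer ({u} : Set G) : Subgroup G) :=
    card_le_of_commutator_mem R Z u hu
  have hMT : R ⊓ Subgroup.centralizer ({u} : Set G) ≤ Subgroup.normalizer (T : Set G) :=
    inf_le_left.trans h.hRT
  have hprod := card_sup_mul_card_inf hMT
  have hinf : T ⊓ (R ⊓ Subgroup.centralizer ({u} : Set G)) = Z ⊔ Subgroup.zpowers u := by
    rw [← inf_assoc, inf_eq_left.2 h.hTR, hc2]
  rw [hinf, hc1, h.hTcard] at hprod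
  have hc3 : T ⊔ (R ⊓ Subgroup.centralizer ({u} : Set G)) = R := by
    apply Subgroup.eq_of_le_of_card_ge (sup_le h.hTR inf_le_left)
    have h1 : Nat.card (T ⊔ (R ⊓ Subgroup.centralizer ({u} : Set G)) : Subgroup G) =
        p * Nat.card (R ⊓ Subgroup.centralizer ({u} : Set G) : Subgroup G) := by
      have h2 : p ^ 2 * Nat.card (T ⊔ (R ⊓ Subgroup.centralizer ({u} : Set G)) : Subgroup G) =
          p ^ 2 * (p * Nat.card (R ⊓ Subgroup.centralizer ({u} : Set G) : Subgroup G)) := by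
        rw [mul_comm, hprod]; ring
      exact Nat.eq_of_mul_eq_mul_left (pow_pos hp.out.pos 2) h2
    rw [h1, ← h.hZcard]
    exact hcR
  refine ⟨hc1, hc2, hc3, ?_⟩
  apply le_antisymm
  · refine le_inf inf_le_left ?_
    rintro x ⟨hxR, hxu⟩
    have hxu' : x * u = u * x := (Subgroup.mem_centralizer_iff.1 hxu u rfl).symm
    have h1 : Z ⊔ Subgroup.zpowers u ≤ Subgroup.centralizer ({x} : Set G) := by
      refine sup_le ?_ ?_
      · intro z hz
        rw [Subgroup.mem_centralizer_iff]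
        intro y hy
        rw [Set.mem_singleton_iff] at hy
        rw [hy]; exact h.comm_RZ hz hxR
      · rw [Subgroup.zpowers_le, Subgroup.mem_centralizer_iff]
        intro y hy
        rw [Set.mem_singleton_iff] at hy
        rw [hy]; exact hxu'
    rw [Subgroup.mem_centralizer_iff]
    intro e he
    exact (Subgroup.mem_centralizer_iff.1 (h1 he) x rfl).symm
  · refine le_inf inf_le_left ?_
    rintro x ⟨-, hxE⟩
    rw [Subgroup.mem_centralizer_iff]
    intro y hy
    rw [Set.mem_singleton_iff] at hy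
    rw [hy]
    exact Subgroup.mem_centralizer_iff.1 hxE u
      ((le_sup_right : Subgroup.zpowers u ≤ _) (Subgroup.mem_zpowers u))

theorem mem_centralizer_singleton {x y : G} :
    x ∈ Subgroup.centralizer ({y} : Set G) ↔ x * y = y * x := by
  rw [Subgroup.mem_centralizer_iff]
  constructor
  · intro h; exact (h y rfl).symm
  · intro h z hz
    rw [Set.mem_singleton_iff] at hz
    rw [hz]; exact h.symm

/-- subgroups of `T` containing `Z` are normal in `T`. -/
theorem le_normalizer_of_Z_le (h : Ctx p R A T Z) {X : Subgroup G} (hZX : Z ≤ X) (hXT : X ≤ T) :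
    T ≤ Subgroup.normalizer (X : Set G) := by
  rw [Subgroup.le_normalizer_iff_commutator_le_left]
  exact (Subgroup.commutator_mono hXT le_rfl).trans (h.hTT.le.trans hZX)

/-- the second step of the chain: for `v ∈ T` outside `Z ⟨u⟩`. -/
theorem shared (h : Ctx p R A T Z) {u v : G} (huT : u ∈ T) (huZ : u ∉ Z)
    (hu : ∀ x ∈ R, x * u * x⁻¹ * u⁻¹ ∈ Z) (hvT : v ∈ T)
    (hvE : v ∉ Z ⊔ Subgroup.zpowers u) :
    (Z ⊔ Subgroup.zpowers u) ⊔ Subgroup.zpowers v = T ∧
      (R ⊓ Subgroup.centralizer ({u} : Set G)) ⊓ Subgroup.centralizer ({v} : Set G) =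
        R ⊓ Subgroup.centralizer (T : Set G) ∧
      Nat.card ((Z ⊔ Subgroup.zpowers u) ⊔ (R ⊓ Subgroup.centralizer (T : Set G)) : Subgroup G) =
        p * Nat.card (R ⊓ Subgroup.centralizer (T : Set G) : Subgroup G) ∧
      (Z ⊔ Subgroup.zpowers u) ⊔ (R ⊓ Subgroup.centralizer (T : Set G)) ≤
        R ⊓ Subgroup.centralizer ({u} : Set G) := by
  obtain ⟨hc1, hc2, hc3, hc4⟩ := h.chain huT huZ hu
  have hE'T : Z ⊔ Subgroup.zpowers u ≤ T := sup_le h.hZT (Subgroup.zpowers_le.2 huT)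
  have hTE' : T ≤ Subgroup.normalizer ((Z ⊔ Subgroup.zpowers u : Subgroup G) : Set G) :=
    h.le_normalizer_of_Z_le le_sup_left hE'T
  have hs1 : (Z ⊔ Subgroup.zpowers u) ⊔ Subgroup.zpowers v = T := by
    have hlt : Z ⊔ Subgroup.zpowers u < (Z ⊔ Subgroup.zpowers u) ⊔ Subgroup.zpowers v := by
      refine lt_of_le_of_ne le_sup_left (fun heq => hvE ?_)
      rw [heq]
      exact (le_sup_right : Subgroup.zpowers v ≤ _) (Subgroup.mem_zpowers v)
    have h0 := card_sup_zpowers_dvd (p := p) (Z ⊔ Subgroup.zpowers u) v (hTE' hvT)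
      (by rw [h.hTexp v hvT]; exact Subgroup.one_mem _)
    rw [hc1] at h0
    have h1 := card_eq_of_lt_of_dvd (p := p) hlt hc1 h0
    apply Subgroup.eq_of_le_of_card_ge (sup_le hE'T (Subgroup.zpowers_le.2 hvT))
    rw [h1, h.hTcard]
    exact le_of_eq (by ring)
  have hs2 : (R ⊓ Subgroup.centralizer ({u} : Set G)) ⊓ Subgroup.centralizer ({v} : Set G) =
      R ⊓ Subgroup.centralizer (T : Set G) := by
    apply le_antisymm
    · rintro x ⟨⟨hxR, hxu⟩, hxv⟩
      refine Subgroup.mem_inf.2 ⟨hxR, ?_⟩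
      have h1 : T ≤ Subgroup.centralizer ({x} : Set G) := by
        rw [← hs1]
        refine sup_le (sup_le ?_ ?_) ?_
        · intro z hz
          rw [mem_centralizer_singleton]
          exact (h.comm_RZ hz hxR).symm
        · rw [Subgroup.zpowers_le, mem_centralizer_singleton]
          exact (mem_centralizer_singleton.1 hxu).symm
        · rw [Subgroup.zpowers_le, mem_centralizer_singleton]
          exact (mem_centralizer_singleton.1 hxv).symm
      rw [Subgroup.mem_centralizer_iff]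
      intro t ht
      exact mem_centralizer_singleton.1 (h1 ht)
    · rintro x ⟨hxR, hxT⟩
      refine Subgroup.mem_inf.2 ⟨Subgroup.mem_inf.2 ⟨hxR, ?_⟩, ?_⟩
      · rw [mem_centralizer_singleton]
        exact (Subgroup.mem_centralizer_iff.1 hxT u huT).symm
      · rw [mem_centralizer_singleton]
        exact (Subgroup.mem_centralizer_iff.1 hxT v hvT).symm
  have hCN : R ⊓ Subgroup.centralizer (T : Set G) ≤
      Subgroup.normalizer ((Z ⊔ Subgroup.zpowers u : Subgroup G) : Set G) := by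
    intro x hx
    have h1 : x ∈ Subgroup.centralizer ((Z ⊔ Subgroup.zpowers u : Subgroup G) : Set G) :=
      Subgroup.centralizer_le (SetLike.coe_subset_coe.2 hE'T) hx.2
    exact Subgroup.centralizer_le_normalizer _ h1
  have hprod := card_sup_mul_card_inf hCN
  have hinf : (Z ⊔ Subgroup.zpowers u) ⊓ (R ⊓ Subgroup.centralizer (T : Set G)) = Z := by
    apply le_antisymm
    · have h5 : (Z ⊔ Subgroup.zpowers u) ⊓ (R ⊓ Subgroup.centralizer (T : Set G)) ≤
          T ⊓ Subgroup.centralizer (T : Set G) :=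
        le_inf (inf_le_left.trans hE'T) (inf_le_right.trans inf_le_right)
      rwa [← h.hZ] at h5
    · exact le_inf le_sup_left (le_inf (h.hZT.trans h.hTR) h.hZc)
  rw [hinf, hc1, h.hZcard] at hprod
  have hs3 : Nat.card ((Z ⊔ Subgroup.zpowers u) ⊔ (R ⊓ Subgroup.centralizer (T : Set G)) :
      Subgroup G) = p * Nat.card (R ⊓ Subgroup.centralizer (T : Set G) : Subgroup G) := by
    have h2 : p * Nat.card ((Z ⊔ Subgroup.zpowers u) ⊔ (R ⊓ Subgroup.centralizer (T : Set G)) :
        Subgroup G) = p * (p * Nat.card (R ⊓ Subgroup.centralizer (T : Set G) : Subgroup G)) := by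
      rw [mul_comm, hprod]; ring
    exact Nat.eq_of_mul_eq_mul_left hp.out.pos h2
  refine ⟨hs1, hs2, hs3, sup_le ?_ ?_⟩
  · rw [← hc2]
    exact le_inf (inf_le_left.trans h.hTR) inf_le_right
  · rintro x ⟨hxR, hxT⟩
    refine Subgroup.mem_inf.2 ⟨hxR, ?_⟩
    rw [mem_centralizer_singleton]
    exact (Subgroup.mem_centralizer_iff.1 hxT u huT).symm

/-- if `[T, R] ≤ Z` then `R = T C_R(T)`. -/
theorem eq_of_commutator_le (h : Ctx p R A T Z) (hE : ⁅T, R⁆ ≤ Z) :
    T ⊔ (R ⊓ Subgroup.centralizer (T : Set G)) = R := by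
  have hcomm : ∀ x ∈ R, ∀ t ∈ T, x * t * x⁻¹ * t⁻¹ ∈ Z := by
    intro x hx t ht
    have h1 : ⁅x, t⁆ ∈ ⁅R, T⁆ := Subgroup.commutator_mem_commutator hx ht
    rw [Subgroup.commutator_comm] at h1
    rw [← commutatorElement_def]
    exact hE h1
  -- choose `u ∈ T \ Z`
  have hZlt : Z < T := by
    refine lt_of_le_of_ne h.hZT (fun heq => ?_)
    have h1 := h.hZcard
    rw [heq, h.hTcard] at h1
    have h2 : p ^ 3 = p ^ 1 := by rw [h1, pow_one]
    have := Nat.pow_right_injective hp.out.two_le h2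
    omega
  obtain ⟨u, huT, huZ⟩ := SetLike.exists_of_lt hZlt
  have hu : ∀ x ∈ R, x * u * x⁻¹ * u⁻¹ ∈ Z := fun x hx => hcomm x hx u huT
  obtain ⟨hc1, hc2, hc3, hc4⟩ := h.chain huT huZ hu
  have hE'T : Z ⊔ Subgroup.zpowers u ≤ T := sup_le h.hZT (Subgroup.zpowers_le.2 huT)
  have hE'lt : Z ⊔ Subgroup.zpowers u < T := by
    refine lt_of_le_of_ne hE'T (fun heq => ?_)
    rw [heq, h.hTcard] at hc1
    have := Nat.pow_right_injective hp.out.two_le hc1
    omega
  obtain ⟨v, hvT, hvE⟩ := SetLike.exists_of_lt hE'lt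
  obtain ⟨hs1, hs2, hs3, hs4⟩ := h.shared huT huZ hu hvT hvE
  have hcM := card_le_of_commutator_mem (R ⊓ Subgroup.centralizer ({u} : Set G)) Z v
    (fun x hx => hcomm x hx.1 v hvT)
  rw [hs2, h.hZcard, ← hs3] at hcM
  have hM : (Z ⊔ Subgroup.zpowers u) ⊔ (R ⊓ Subgroup.centralizer (T : Set G)) =
      R ⊓ Subgroup.centralizer ({u} : Set G) := Subgroup.eq_of_le_of_card_ge hs4 hcM
  calc T ⊔ (R ⊓ Subgroup.centralizer (T : Set G))
      = T ⊔ ((Z ⊔ Subgroup.zpowers u) ⊔ (R ⊓ Subgroup.centralizer (T : Set G))) := by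
        rw [← sup_assoc, sup_eq_left.2 hE'T]
    _ = R := by rw [hM, hc3]

end Ctx

end Cfsg.Agent.Helper1.R2S
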