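import Mathlib
import Cfsg.Prelude

set_option autoImplicit false

/-!
# Rank two `p`-groups with `[R, A] = R`: a bilinear commutator calculus
-/

namespace Cfsg.Agent.Helper1.R2S

open scoped Pointwise commutatorElement

universe u

variable {G : Type u} [Group G]

/-- a chain `Z ≤ E ≤ T` with `[M, T] ≤ E`, `[E, T] ≤ Z`, `[Z, T] = 1`, `E` abelian and
centralized by `M`. -/
structure Bil (M T E Z : Subgroup G) : Prop where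
  hMT : ∀ x ∈ M, ∀ t ∈ T, ⁅x, t⁆ ∈ E
  hET : ∀ e ∈ E, ∀ t ∈ T, ⁅e, t⁆ ∈ Z
  hZT : ∀ z ∈ Z, ∀ t ∈ T, z * t = t * z
  hEE : ∀ e ∈ E, ∀ e' ∈ E, e * e' = e' * e
  hME : ∀ x ∈ M, ∀ e ∈ E, x * e = e * x
  hZE : Z ≤ E
  hET' : E ≤ T

namespace Bil

variable {M T E Z : Subgroup G}

theorem comm_mul_left (a b c : G) : ⁅a * b, c⁆ = a * ⁅b, c⁆ * a⁻¹ * ⁅a, c⁆ := by
  rw [commutatorElement_def, commutatorElement_def, commutatorElement_def]; group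

theorem comm_mul_right (a b c : G) : ⁅a, b * c⁆ = ⁅a, b⁆ * (b * ⁅a, c⁆ * b⁻¹) := by
  rw [commutatorElement_def, commutatorElement_def, commutatorElement_def]; group

theorem d_mul_left (h : Bil M T E Z) {e₁ e₂ t : G} (h1 : e₁ ∈ E) (h2 : e₂ ∈ E) (ht : t ∈ T) :
    ⁅e₁ * e₂, t⁆ = ⁅e₁, t⁆ * ⁅e₂, t⁆ := by
  rw [comm_mul_left]
  have hz : ⁅e₂, t⁆ ∈ Z := h.hET e₂ h2 t ht
  have h3 : e₁ * ⁅e₂, t⁆ * e₁⁻¹ = ⁅e₂, t⁆ := by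
    rw [← h.hZT _ hz e₁ (h.hET' h1)]; group
  rw [h3]
  exact h.hEE _ (h.hZE hz) _ (h.hZE (h.hET e₁ h1 t ht))

theorem d_mul_right (h : Bil M T E Z) {e t₁ t₂ : G} (he : e ∈ E) (h1 : t₁ ∈ T) (h2 : t₂ ∈ T) :
    ⁅e, t₁ * t₂⁆ = ⁅e, t₁⁆ * ⁅e, t₂⁆ := by
  rw [comm_mul_right]
  have hz : ⁅e, t₂⁆ ∈ Z := h.hET e he t₂ h2
  have h3 : t₁ * ⁅e, t₂⁆ * t₁⁻¹ = ⁅e, t₂⁆ := by
    rw [← h.hZT _ hz t₁ h1]; group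
  rw [h3]

theorem d_E (h : Bil M T E Z) {e e' : G} (he : e ∈ E) (he' : e' ∈ E) : ⁅e, e'⁆ = 1 := by
  rw [commutatorElement_eq_one_iff_mul_comm]
  exact h.hEE e he e' he'

theorem d_Z (h : Bil M T E Z) {z t : G} (hz : z ∈ Z) (ht : t ∈ T) : ⁅z, t⁆ = 1 := by
  rw [commutatorElement_eq_one_iff_mul_comm]
  exact h.hZT z hz t ht

theorem d_pow_right (h : Bil M T E Z) {e t : G} (he : e ∈ E) (ht : t ∈ T) (m : ℕ) :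
    ⁅e, t ^ m⁆ = ⁅e, t⁆ ^ m := by
  induction m with
  | zero => simp
  | succ m ih => rw [pow_succ, h.d_mul_right he (T.pow_mem ht m) ht, ih, pow_succ]

theorem d_pow_left (h : Bil M T E Z) {e t : G} (he : e ∈ E) (ht : t ∈ T) (n : ℕ) :
    ⁅e ^ n, t⁆ = ⁅e, t⁆ ^ n := by
  induction n with
  | zero => simp
  | succ n ih => rw [pow_succ, h.d_mul_left (E.pow_mem he n) he ht, ih, pow_succ]

/-- the bilinear map `β(x, t) = [[x, t], v]`. -/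
theorem b_mul_left (h : Bil M T E Z) {x₁ x₂ t v : G} (h1 : x₁ ∈ M) (h2 : x₂ ∈ M) (ht : t ∈ T)
    (hv : v ∈ T) : ⁅⁅x₁ * x₂, t⁆, v⁆ = ⁅⁅x₁, t⁆, v⁆ * ⁅⁅x₂, t⁆, v⁆ := by
  have he2 : ⁅x₂, t⁆ ∈ E := h.hMT x₂ h2 t ht
  have he1 : ⁅x₁, t⁆ ∈ E := h.hMT x₁ h1 t ht
  have h3 : ⁅x₁ * x₂, t⁆ = ⁅x₂, t⁆ * ⁅x₁, t⁆ := by
    rw [comm_mul_left]
    have : x₁ * ⁅x₂, t⁆ * x₁⁻¹ = ⁅x₂, t⁆ := by
      rw [h.hME x₁ h1 _ he2]; group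
    rw [this]
  rw [h3, h.hEE _ he2 _ he1, h.d_mul_left he1 he2 hv]

theorem b_mul_right (h : Bil M T E Z) {x t₁ t₂ v : G} (hx : x ∈ M) (h1 : t₁ ∈ T) (h2 : t₂ ∈ T)
    (hv : v ∈ T) : ⁅⁅x, t₁ * t₂⁆, v⁆ = ⁅⁅x, t₁⁆, v⁆ * ⁅⁅x, t₂⁆, v⁆ := by
  have he1 : ⁅x, t₁⁆ ∈ E := h.hMT x hx t₁ h1
  have he2 : ⁅x, t₂⁆ ∈ E := h.hMT x hx t₂ h2
  have h3 : t₁ * ⁅x, t₂⁆ * t₁⁻¹ = ⁅t₁, ⁅x, t₂⁆⁆ * ⁅x, t₂⁆ := by
    rw [commutatorElement_def t₁]; group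
  have hz : ⁅t₁, ⁅x, t₂⁆⁆ ∈ Z := by
    have h4 : ⁅t₁, ⁅x, t₂⁆⁆ = (⁅⁅x, t₂⁆, t₁⁆)⁻¹ := (commutatorElement_inv _ _).symm
    rw [h4]
    exact Z.inv_mem (h.hET _ he2 t₁ h1)
  rw [comm_mul_right, h3, h.d_mul_left he1 (E.mul_mem (h.hZE hz) he2) hv,
    h.d_mul_left (h.hZE hz) he2 hv, h.d_Z hz hv, one_mul]

theorem b_pow_left (h : Bil M T E Z) {x t v : G} (hx : x ∈ M) (ht : t ∈ T) (hv : v ∈ T) (n : ℕ) :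
    ⁅⁅x ^ n, t⁆, v⁆ = ⁅⁅x, t⁆, v⁆ ^ n := by
  induction n with
  | zero => simp
  | succ n ih => rw [pow_succ, h.b_mul_left (M.pow_mem hx n) hx ht hv, ih, pow_succ]

theorem b_pow_right (h : Bil M T E Z) {x t v : G} (hx : x ∈ M) (ht : t ∈ T) (hv : v ∈ T) (m : ℕ) :
    ⁅⁅x, t ^ m⁆, v⁆ = ⁅⁅x, t⁆, v⁆ ^ m := by
  induction m with
  | zero => simp
  | succ m ih => rw [pow_succ, h.b_mul_right hx (T.pow_mem ht m) ht hv, ih, pow_succ]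

/-- the main computation: scaling `x` by `n` (modulo `Y`, on which `β` vanishes) and `v` by `m`
(modulo `E`) scales `[[x, v], v]` by `n * m * m`. -/
theorem scale (h : Bil M T E Z) {x v y e₁ : G} (hx : x ∈ M) (hv : v ∈ T) (hy : y ∈ M)
    (hy0 : ⁅⁅y, v⁆, v⁆ = 1) (he₁ : e₁ ∈ E) (n m : ℕ) :
    ⁅⁅y * x ^ n, e₁ * v ^ m⁆, e₁ * v ^ m⁆ = ((⁅⁅x, v⁆, v⁆ ^ n) ^ m) ^ m := by
  have hx' : y * x ^ n ∈ M := M.mul_mem hy (M.pow_mem hx n)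
  have hv' : e₁ * v ^ m ∈ T := T.mul_mem (h.hET' he₁) (T.pow_mem hv m)
  have he' : ⁅y * x ^ n, e₁ * v ^ m⁆ ∈ E := h.hMT _ hx' _ hv'
  -- outer commutator
  have h1 : ⁅⁅y * x ^ n, e₁ * v ^ m⁆, e₁ * v ^ m⁆ = ⁅⁅y * x ^ n, e₁ * v ^ m⁆, v⁆ ^ m := by
    rw [h.d_mul_right he' (h.hET' he₁) (T.pow_mem hv m), h.d_E he' he₁, one_mul,
      h.d_pow_right he' hv]
  -- inner commutator, second variable
  have h2 : ⁅⁅y * x ^ n, e₁ * v ^ m⁆, v⁆ = ⁅⁅y * x ^ n, v⁆, v⁆ ^ m := by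
    rw [h.b_mul_right hx' (h.hET' he₁) (T.pow_mem hv m) hv, h.b_pow_right hx' hv hv]
    have h3 : ⁅y * x ^ n, e₁⁆ = 1 := by
      rw [commutatorElement_eq_one_iff_mul_comm]
      exact h.hME _ hx' e₁ he₁
    rw [h3, commutatorElement_one_left, one_mul]
  -- inner commutator, first variable
  have h4 : ⁅⁅y * x ^ n, v⁆, v⁆ = ⁅⁅x, v⁆, v⁆ ^ n := by
    rw [h.b_mul_left hy (M.pow_mem hx n) hv hv, hy0, one_mul, h.b_pow_left hx hv hv]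
  rw [h1, h2, h4]

theorem c_mul_left (h : Bil M T E Z) {x₁ x₂ t : G} (h1 : x₁ ∈ M) (h2 : x₂ ∈ M) (ht : t ∈ T) :
    ⁅x₁ * x₂, t⁆ = ⁅x₁, t⁆ * ⁅x₂, t⁆ := by
  have he2 : ⁅x₂, t⁆ ∈ E := h.hMT x₂ h2 t ht
  have he1 : ⁅x₁, t⁆ ∈ E := h.hMT x₁ h1 t ht
  rw [comm_mul_left]
  have : x₁ * ⁅x₂, t⁆ * x₁⁻¹ = ⁅x₂, t⁆ := by
    rw [h.hME x₁ h1 _ he2]; group
  rw [this]
  exact h.hEE _ he2 _ he1

theorem c_pow_left (h : Bil M T E Z) {x t : G} (hx : x ∈ M) (ht : t ∈ T) (n : ℕ) :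
    ⁅x ^ n, t⁆ = ⁅x, t⁆ ^ n := by
  induction n with
  | zero => simp
  | succ n ih => rw [pow_succ, h.c_mul_left (M.pow_mem hx n) hx ht, ih, pow_succ]

end Bil

end Cfsg.Agent.Helper1.R2S
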