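import Mathlib
import Cfsg.Prelude
import Cfsg.Agent.Helper1.R2SD
import Cfsg.Agent.Helper1.R2SE

set_option autoImplicit false

/-!
# Rank two `p`-groups with `[R, A] = R`: the case `|Ω₁(R)| = p ^ 3`, second part
-/

namespace Cfsg.Agent.Helper1.R2S

open Cfsg Cfsg.Agent.Helper1

open scoped Pointwise commutatorElement

universe u

variable {G : Type u} [Group G] [Finite G]

namespace Ctx

variable {p : ℕ} [hp : Fact p.Prime] {R A T Z : Subgroup G}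

theorem hTp (h : Ctx p R A T Z) : IsPGroup p T := h.hR.to_le h.hTR

theorem T_ne_bot (h : Ctx p R A T Z) : T ≠ ⊥ := by
  intro h0
  have h1 := h.hTcard
  rw [h0, Subgroup.card_bot] at h1
  have := hp.out.one_lt
  have h2 : 1 < p ^ 3 := Nat.one_lt_pow (by norm_num) this
  omega

/-- facts on `E = [T, R]` when it is not contained in `Z`. -/
theorem E_facts (h : Ctx p R A T Z) (hE : ¬ ⁅T, R⁆ ≤ Z) :
    Z < ⁅T, R⁆ ∧ ⁅T, R⁆ < T ∧ Nat.card (⁅T, R⁆ : Subgroup G) = p ^ 2 ∧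
      R ≤ Subgroup.normalizer ((⁅T, R⁆ : Subgroup G) : Set G) ∧
      A ≤ Subgroup.normalizer ((⁅T, R⁆ : Subgroup G) : Set G) ∧ ⁅⁅T, R⁆, R⁆ ≤ Z := by
  have hZE : Z ≤ ⁅T, R⁆ := by
    rw [← h.hTT]; exact Subgroup.commutator_mono le_rfl h.hTR
  have hZlt : Z < ⁅T, R⁆ := lt_of_le_of_ne hZE (fun heq => hE heq.ge)
  have hElt : ⁅T, R⁆ < T := commutator_lt_of_isPGroup h.hTp h.hR h.hRT h.T_ne_bot
  have hRE : R ≤ Subgroup.normalizer ((⁅T, R⁆ : Subgroup G) : Set G) :=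
    le_normalizer_commutator h.hRT Subgroup.le_normalizer
  have hAE : A ≤ Subgroup.normalizer ((⁅T, R⁆ : Subgroup G) : Set G) :=
    le_normalizer_commutator h.hAT h.hAR
  have hcE : Nat.card (⁅T, R⁆ : Subgroup G) = p ^ 2 := by
    have h1 : Nat.card (⁅T, R⁆ : Subgroup G) ∣ p ^ 3 := by
      rw [← h.hTcard]; exact Subgroup.card_dvd_of_le hElt.le
    obtain ⟨k, hk3, hk⟩ := (Nat.dvd_prime_pow hp.out).1 h1
    have hk3' : k ≠ 3 := by
      rintro rfl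
      exact hElt.ne (Subgroup.eq_of_le_of_card_ge hElt.le (by rw [hk, h.hTcard]))
    have hk1 : 1 < k := by
      by_contra hle
      have h2 : Nat.card (⁅T, R⁆ : Subgroup G) ≤ Nat.card Z := by
        rw [hk, h.hZcard]
        calc p ^ k ≤ p ^ 1 := Nat.pow_le_pow_right hp.out.pos (by omega)
          _ = p := pow_one p
      exact hZlt.ne (Subgroup.eq_of_le_of_card_ge hZE h2)
    have : k = 2 := by omega
    rw [hk, this]
  refine ⟨hZlt, hElt, hcE, hRE, hAE, ?_⟩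
  -- `D = [E, R] ≤ Z`
  have hEp : IsPGroup p (⁅T, R⁆ : Subgroup G) := h.hTp.to_le hElt.le
  have hEne : (⁅T, R⁆ : Subgroup G) ≠ ⊥ := by
    intro h0
    rw [h0] at hZlt
    exact not_lt_bot hZlt
  have hDlt : ⁅⁅T, R⁆, R⁆ < ⁅T, R⁆ := commutator_lt_of_isPGroup hEp h.hR hRE hEne
  have hRD : R ≤ Subgroup.normalizer ((⁅⁅T, R⁆, R⁆ : Subgroup G) : Set G) :=
    le_normalizer_commutator hRE Subgroup.le_normalizer
  have h1 : Nat.card (⁅⁅T, R⁆, R⁆ : Subgroup G) ∣ p ^ 2 := by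
    rw [← hcE]; exact Subgroup.card_dvd_of_le hDlt.le
  obtain ⟨k, hk2, hk⟩ := (Nat.dvd_prime_pow hp.out).1 h1
  have hk2' : k ≠ 2 := by
    rintro rfl
    exact hDlt.ne (Subgroup.eq_of_le_of_card_ge hDlt.le (by rw [hk, hcE]))
  have hk01 : k = 0 ∨ k = 1 := by omega
  rcases hk01 with rfl | rfl
  · rw [pow_zero] at hk
    rw [Subgroup.card_eq_one.1 hk]
    exact bot_le
  · rw [pow_one] at hk
    have hDT : ⁅⁅T, R⁆, R⁆ ≤ T := hDlt.le.trans hElt.le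
    have hc := le_centralizer_of_card_eq_prime h.hR (hDT.trans h.hTR) hRD hk
    intro d hd
    rw [h.hZ]
    refine Subgroup.mem_inf.2 ⟨hDT hd, ?_⟩
    rw [Subgroup.mem_centralizer_iff]
    intro t ht
    exact (Subgroup.mem_centralizer_iff.1 (hc (h.hTR ht)) d hd).symm

end Ctx

/-- the configuration reached when `[T, R] ≰ Z` and `R ≠ T C_R(T)`. -/
structure Ctx2 (p : ℕ) (R A T Z E M C : Subgroup G) (u v : G) : Prop where
  base : Ctx p R A T Z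
  hZltE : Z < E
  hEltT : E < T
  hcE : Nat.card E = p ^ 2
  hRE : R ≤ Subgroup.normalizer (E : Set G)
  hAE : A ≤ Subgroup.normalizer (E : Set G)
  hEdef : E = ⁅T, R⁆
  hER : ⁅E, R⁆ ≤ Z
  hCdef : C = R ⊓ Subgroup.centralizer (T : Set G)
  hMdef : M = R ⊓ Subgroup.centralizer ({u} : Set G)
  huE : u ∈ E
  huZ : u ∉ Z
  hvT : v ∈ T
  hvE : v ∉ E
  hTE : T ⊓ Subgroup.centralizer ({u} : Set G) = E
  hTM : T ⊔ M = R
  hMcE : M = R ⊓ Subgroup.centralizer (E : Set G)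
  hEv : E ⊔ Subgroup.zpowers v = T
  hMv : M ⊓ Subgroup.centralizer ({v} : Set G) = C
  hcEC : Nat.card (E ⊔ C : Subgroup G) = p * Nat.card C
  hECM : E ⊔ C ≤ M
  hcM : Nat.card M = p * Nat.card (E ⊔ C : Subgroup G)

namespace Ctx

variable {p : ℕ} [hp : Fact p.Prime] {R A T Z : Subgroup G}

theorem exists_ctx2 (h : Ctx p R A T Z) (hE : ¬ ⁅T, R⁆ ≤ Z)
    (hN : T ⊔ (R ⊓ Subgroup.centralizer (T : Set G)) ≠ R) :
    ∃ (E M C : Subgroup G) (u v : G), Ctx2 p R A T Z E M C u v := by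
  obtain ⟨hZltE, hEltT, hcE, hRE, hAE, hER⟩ := h.E_facts hE
  obtain ⟨E, hEdef⟩ : ∃ E : Subgroup G, E = ⁅T, R⁆ := ⟨_, rfl⟩
  rw [← hEdef] at hZltE hEltT hcE hRE hAE hER
  obtain ⟨C, hCdef⟩ : ∃ C : Subgroup G, C = R ⊓ Subgroup.centralizer (T : Set G) := ⟨_, rfl⟩
  rw [← hCdef] at hN
  obtain ⟨u, huE, huZ⟩ := SetLike.exists_of_lt hZltE
  have huT : u ∈ T := hEltT.le huE
  have hu : ∀ x ∈ R, x * u * x⁻¹ * u⁻¹ ∈ Z := by
    intro x hx
    have h1 : ⁅x, u⁆ ∈ ⁅R, E⁆ := Subgroup.commutator_mem_commutator hx huE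
    rw [Subgroup.commutator_comm] at h1
    rw [← commutatorElement_def]; exact hER h1
  obtain ⟨hc1, hc2, hc3, hc4⟩ := h.chain huT huZ hu
  have hEeq : Z ⊔ Subgroup.zpowers u = E := by
    apply Subgroup.eq_of_le_of_card_ge (sup_le hZltE.le (Subgroup.zpowers_le.2 huE))
    rw [hc1, hcE]
  obtain ⟨v, hvT, hvE⟩ := SetLike.exists_of_lt hEltT
  obtain ⟨hs1, hs2, hs3, hs4⟩ := h.shared huT huZ hu hvT (by rw [hEeq]; exact hvE)
  rw [hEeq] at hc1 hc2 hc4 hs1 hs3 hs4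
  rw [← hCdef] at hs2 hs3 hs4
  obtain ⟨M, hMdef⟩ : ∃ M : Subgroup G, M = R ⊓ Subgroup.centralizer ({u} : Set G) := ⟨_, rfl⟩
  rw [← hMdef] at hc3 hc4 hs2 hs4
  have hMTE : ∀ x ∈ M, x * v * x⁻¹ * v⁻¹ ∈ E := by
    intro x hx
    have hxR : x ∈ R := by rw [hMdef] at hx; exact hx.1
    have h1 : ⁅x, v⁆ ∈ ⁅R, T⁆ := Subgroup.commutator_mem_commutator hxR hvT
    rw [Subgroup.commutator_comm, ← hEdef] at h1
    rw [← commutatorElement_def]; exact h1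
  have hcM := card_le_of_commutator_mem M E v hMTE
  rw [hs2, hcE] at hcM
  have hne : E ⊔ C ≠ M := by
    intro heq
    apply hN
    rw [← hc3, ← heq, ← sup_assoc, sup_eq_left.2 hEltT.le]
  have hlt : E ⊔ C < M := lt_of_le_of_ne hs4 hne
  have hMp : IsPGroup p M := h.hR.to_le (by rw [hMdef]; exact inf_le_left)
  obtain ⟨a, ha⟩ := IsPGroup.iff_card.mp hMp
  obtain ⟨b, hb⟩ := IsPGroup.iff_card.mp (hMp.to_le hs4)
  have hcM' : Nat.card M = p * Nat.card (E ⊔ C : Subgroup G) := by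
    have h1 : p ^ a ≤ p ^ (b + 1) := by
      rw [← ha, pow_succ, ← hb, hs3]
      calc Nat.card M ≤ p ^ 2 * Nat.card C := hcM
        _ = p * Nat.card C * p := by ring
    have h2 : a ≤ b + 1 := (Nat.pow_le_pow_iff_right hp.out.one_lt).1 h1
    have h3 : b < a := by
      by_contra hle
      have h4 : p ^ a ≤ p ^ b := Nat.pow_le_pow_right hp.out.pos (by omega)
      rw [← ha, ← hb] at h4
      exact hne (Subgroup.eq_of_le_of_card_ge hs4 h4)
    have h5 : a = b + 1 := by omega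
    rw [ha, hb, h5, pow_succ]; ring
  exact ⟨E, M, C, u, v, ⟨h, hZltE, hEltT, hcE, hRE, hAE, hEdef, hER, hCdef, hMdef, huE, huZ, hvT,
    hvE, hc2, hc3, hc4, hs1, hs2, hs3, hs4, hcM'⟩⟩

end Ctx

end Cfsg.Agent.Helper1.R2S
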