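import Mathlib
import Cfsg.Prelude
import Cfsg.Agent.Helper1.R2SF

set_option autoImplicit false

/-!
# Rank two `p`-groups with `[R, A] = R`: the case `|Ω₁(R)| = p ^ 3`, third part
-/

namespace Cfsg.Agent.Helper1.R2S

open Cfsg Cfsg.Agent.Helper1

open scoped Pointwise commutatorElement

universe u

variable {G : Type u} [Group G] [Finite G]

namespace Ctx2

variable {p : ℕ} [hp : Fact p.Prime] {R A T Z E M C : Subgroup G} {u v : G}

theorem hMR (k : Ctx2 p R A T Z E M C u v) : M ≤ R := k.hMdef ▸ inf_le_left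

theorem hEM (k : Ctx2 p R A T Z E M C u v) : E ≤ M := le_sup_left.trans k.hECM

theorem hCM (k : Ctx2 p R A T Z E M C u v) : C ≤ M := le_sup_right.trans k.hECM

theorem hCR (k : Ctx2 p R A T Z E M C u v) : C ≤ R := k.hCdef ▸ inf_le_left

theorem comm_ME (k : Ctx2 p R A T Z E M C u v) {x e : G} (hx : x ∈ M) (he : e ∈ E) :
    x * e = e * x := by
  have h1 : x ∈ R ⊓ Subgroup.centralizer (E : Set G) := k.hMcE ▸ hx
  exact (Subgroup.mem_centralizer_iff.1 h1.2 e he).symm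

theorem comm_CT (k : Ctx2 p R A T Z E M C u v) {c t : G} (hc : c ∈ C) (ht : t ∈ T) :
    c * t = t * c := by
  have h1 : c ∈ R ⊓ Subgroup.centralizer (T : Set G) := k.hCdef ▸ hc
  exact (Subgroup.mem_centralizer_iff.1 h1.2 t ht).symm

theorem hMTE (k : Ctx2 p R A T Z E M C u v) {x t : G} (hx : x ∈ M) (ht : t ∈ T) : ⁅x, t⁆ ∈ E := by
  have h1 : ⁅x, t⁆ ∈ ⁅R, T⁆ := Subgroup.commutator_mem_commutator (k.hMR hx) ht
  rw [Subgroup.commutator_comm, ← k.hEdef] at h1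
  exact h1

theorem hETZ (k : Ctx2 p R A T Z E M C u v) {e t : G} (he : e ∈ E) (ht : t ∈ T) : ⁅e, t⁆ ∈ Z :=
  k.hER (Subgroup.commutator_mem_commutator he (k.base.hTR ht))

theorem bil (k : Ctx2 p R A T Z E M C u v) : Bil M T E Z where
  hMT := fun _ hx _ ht => k.hMTE hx ht
  hET := fun _ he _ ht => k.hETZ he ht
  hZT := fun _ hz _ ht => k.base.comm_Z hz ht
  hEE := fun _ he _ he' => k.comm_ME (k.hEM he) he'
  hME := fun _ hx _ he => k.comm_ME hx he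
  hZE := k.hZltE.le
  hET' := k.hEltT.le

theorem hRC (k : Ctx2 p R A T Z E M C u v) : R ≤ Subgroup.normalizer (C : Set G) := by
  rw [k.hCdef]
  exact le_normalizer_inf Subgroup.le_normalizer
    (k.base.hRT.trans (normalizer_le_normalizer_centralizer' T))

theorem hRM (k : Ctx2 p R A T Z E M C u v) : R ≤ Subgroup.normalizer (M : Set G) := by
  rw [k.hMcE]
  exact le_normalizer_inf Subgroup.le_normalizer
    (k.hRE.trans (normalizer_le_normalizer_centralizer' E))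

theorem hAM (k : Ctx2 p R A T Z E M C u v) : A ≤ Subgroup.normalizer (M : Set G) := by
  rw [k.hMcE]
  exact le_normalizer_inf k.base.hAR (k.hAE.trans (normalizer_le_normalizer_centralizer' E))

/-- `p`-th powers of elements of `M` lie in `C`. -/
theorem pow_mem_C (k : Ctx2 p R A T Z E M C u v) {x : G} (hx : x ∈ M) : x ^ p ∈ C := by
  rw [← k.hMv]
  refine Subgroup.mem_inf.2 ⟨M.pow_mem hx p, ?_⟩
  rw [Ctx.mem_centralizer_singleton]
  have he : ⁅x, v⁆ ∈ E := k.hMTE hx k.hvT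
  have key : ∀ n : ℕ, x ^ n * v = ⁅x, v⁆ ^ n * v * x ^ n := by
    intro n
    induction n with
    | zero => simp
    | succ n ih =>
      have h1 : x * ⁅x, v⁆ ^ n = ⁅x, v⁆ ^ n * x := k.comm_ME hx (E.pow_mem he n)
      have h2 : x * v = ⁅x, v⁆ * v * x := by rw [commutatorElement_def]; group
      calc x ^ (n + 1) * v = x * (x ^ n * v) := by rw [pow_succ']; group
        _ = x * (⁅x, v⁆ ^ n * v * x ^ n) := by rw [ih]
        _ = (x * ⁅x, v⁆ ^ n) * v * x ^ n := by group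
        _ = ⁅x, v⁆ ^ n * (x * v) * x ^ n := by rw [h1]; group
        _ = ⁅x, v⁆ ^ n * (⁅x, v⁆ * v * x) * x ^ n := by rw [h2]
        _ = ⁅x, v⁆ ^ (n + 1) * v * x ^ (n + 1) := by rw [pow_succ, pow_succ']; group
  have h3 := key p
  rw [k.base.hTexp _ (k.hEltT.le he), one_mul] at h3
  exact h3

/-- `M` is the only subgroup of `M` properly containing `E C`. -/
theorem eq_M_of_lt (k : Ctx2 p R A T Z E M C u v) {X : Subgroup G} (h1 : E ⊔ C < X)
    (h2 : X ≤ M) : X = M := by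
  apply Subgroup.eq_of_le_of_card_ge h2
  have h3 : Nat.card X ∣ p * Nat.card (E ⊔ C : Subgroup G) := by
    rw [← k.hcM]; exact Subgroup.card_dvd_of_le h2
  rw [Ctx.card_eq_of_lt_of_dvd (p := p) h1 rfl h3, k.hcM]

theorem hZC (k : Ctx2 p R A T Z E M C u v) : Z ≤ C := by
  rw [k.hCdef]
  exact le_inf (k.base.hZT.trans k.base.hTR) k.base.hZc

theorem hM0M (k : Ctx2 p R A T Z E M C u v) {g : G} (hgM : g ∈ M) :
    C ⊔ Subgroup.zpowers g ≤ M := sup_le k.hCM (Subgroup.zpowers_le.2 hgM)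

theorem card_M0 (k : Ctx2 p R A T Z E M C u v) {g : G} (hgM : g ∈ M) (hgEC : g ∉ E ⊔ C) :
    Nat.card (C ⊔ Subgroup.zpowers g : Subgroup G) = p * Nat.card C := by
  have hlt : C < C ⊔ Subgroup.zpowers g := by
    refine lt_of_le_of_ne le_sup_left (fun heq => hgEC ?_)
    apply (le_sup_right : C ≤ E ⊔ C)
    rw [heq]
    exact (le_sup_right : Subgroup.zpowers g ≤ _) (Subgroup.mem_zpowers g)
  exact Ctx.card_eq_of_lt_of_dvd (p := p) hlt rfl
    (card_sup_zpowers_dvd C g (k.hRC (k.hMR hgM)) (k.pow_mem_C hgM))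

theorem omega_M0 (k : Ctx2 p R A T Z E M C u v) {g : G} (hgM : g ∈ M) (hgEC : g ∉ E ⊔ C)
    {x : G} (hx : x ∈ C ⊔ Subgroup.zpowers g) (hxp : x ^ p = 1) : x ∈ Z := by
  have hxM : x ∈ M := k.hM0M hgM hx
  have hxT : x ∈ T := k.base.hΩ x (k.hMR hxM) hxp
  have hxE : x ∈ E := by
    rw [← k.hTE]
    rw [k.hMdef] at hxM
    exact Subgroup.mem_inf.2 ⟨hxT, hxM.2⟩
  by_contra hxZ
  have hZF : Z ≤ E ⊓ (C ⊔ Subgroup.zpowers g) := le_inf k.hZltE.le (k.hZC.trans le_sup_left)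
  have hlt : Z < E ⊓ (C ⊔ Subgroup.zpowers g) :=
    lt_of_le_of_ne hZF (fun heq => hxZ (by rw [heq]; exact Subgroup.mem_inf.2 ⟨hxE, hx⟩))
  have h1 : Nat.card (E ⊓ (C ⊔ Subgroup.zpowers g) : Subgroup G) ∣ p * p := by
    have := Subgroup.card_dvd_of_le (inf_le_left : E ⊓ (C ⊔ Subgroup.zpowers g) ≤ E)
    rwa [k.hcE, pow_two] at this
  have h2 := Ctx.card_eq_of_lt_of_dvd (p := p) hlt k.base.hZcard h1
  have h3 : E ⊓ (C ⊔ Subgroup.zpowers g) = E :=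
    Subgroup.eq_of_le_of_card_ge inf_le_left (by rw [h2, k.hcE, pow_two])
  have h4 : E ≤ C ⊔ Subgroup.zpowers g := by rw [← h3]; exact inf_le_right
  have h5 : E ⊔ C ≤ C ⊔ Subgroup.zpowers g := sup_le h4 le_sup_left
  have h6 : E ⊔ C = C ⊔ Subgroup.zpowers g :=
    Subgroup.eq_of_le_of_card_ge h5 (by rw [k.card_M0 hgM hgEC, k.hcEC])
  apply hgEC
  rw [h6]
  exact (le_sup_right : Subgroup.zpowers g ≤ _) (Subgroup.mem_zpowers g)

theorem cyclic_M0 (k : Ctx2 p R A T Z E M C u v) {g : G} (hgM : g ∈ M) (hgEC : g ∉ E ⊔ C) :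
    IsCyclic ↥(C ⊔ Subgroup.zpowers g : Subgroup G) :=
  isCyclic_of_forall_pow_eq_one_mem k.base.h3 _ Z
    (k.base.hR.to_le ((k.hM0M hgM).trans k.hMR)) k.base.hZcard.le
    (fun _ hx hxp => k.omega_M0 hgM hgEC hx hxp)

theorem comm_M0 (k : Ctx2 p R A T Z E M C u v) {g : G} (hgM : g ∈ M) (hgEC : g ∉ E ⊔ C)
    {x y : G} (hx : x ∈ C ⊔ Subgroup.zpowers g) (hy : y ∈ C ⊔ Subgroup.zpowers g) :
    x * y = y * x := by
  haveI := k.cyclic_M0 hgM hgEC
  letI : CommGroup ↥(C ⊔ Subgroup.zpowers g : Subgroup G) := IsCyclic.commGroup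
  have := mul_comm (⟨x, hx⟩ : ↥(C ⊔ Subgroup.zpowers g : Subgroup G)) ⟨y, hy⟩
  exact congrArg Subtype.val this

theorem M_eq (k : Ctx2 p R A T Z E M C u v) {g : G} (hgM : g ∈ M) (hgEC : g ∉ E ⊔ C) :
    (E ⊔ C) ⊔ Subgroup.zpowers g = M := by
  apply k.eq_M_of_lt
  · refine lt_of_le_of_ne le_sup_left (fun heq => hgEC ?_)
    rw [heq]
    exact (le_sup_right : Subgroup.zpowers g ≤ _) (Subgroup.mem_zpowers g)
  · exact sup_le k.hECM (Subgroup.zpowers_le.2 hgM)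

/-- `M` is abelian. -/
theorem comm_M (k : Ctx2 p R A T Z E M C u v) {g : G} (hgM : g ∈ M) (hgEC : g ∉ E ⊔ C)
    {x y : G} (hx : x ∈ M) (hy : y ∈ M) : x * y = y * x := by
  have hM : E ⊔ (C ⊔ Subgroup.zpowers g) = M := by rw [← sup_assoc]; exact k.M_eq hgM hgEC
  have hN : C ⊔ Subgroup.zpowers g ≤ Subgroup.normalizer (E : Set G) :=
    ((k.hM0M hgM).trans k.hMR).trans k.hRE
  rw [← hM] at hx hy
  obtain ⟨e₁, he₁, m₁, hm₁, rfl⟩ := mem_sup_of_le_normalizer hN hx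
  obtain ⟨e₂, he₂, m₂, hm₂, rfl⟩ := mem_sup_of_le_normalizer hN hy
  have h1 : m₁ * e₂ = e₂ * m₁ := k.comm_ME (k.hM0M hgM hm₁) he₂
  have h2 : m₂ * e₁ = e₁ * m₂ := k.comm_ME (k.hM0M hgM hm₂) he₁
  have h3 : e₁ * e₂ = e₂ * e₁ := k.comm_ME (k.hEM he₁) he₂
  have h4 : m₁ * m₂ = m₂ * m₁ := k.comm_M0 hgM hgEC hm₁ hm₂
  calc e₁ * m₁ * (e₂ * m₂) = e₁ * (m₁ * e₂) * m₂ := by group
    _ = e₁ * (e₂ * m₁) * m₂ := by rw [h1]
    _ = (e₁ * e₂) * (m₁ * m₂) := by group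
    _ = (e₂ * e₁) * (m₂ * m₁) := by rw [h3, h4]
    _ = e₂ * (e₁ * m₂) * m₁ := by group
    _ = e₂ * (m₂ * e₁) * m₁ := by rw [h2]
    _ = e₂ * m₂ * (e₁ * m₁) := by group

end Ctx2

end Cfsg.Agent.Helper1.R2S
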