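import Mathlib
import Cfsg.Prelude
import Cfsg.Agent.Helper1.R2SG

set_option autoImplicit false

/-!
# Rank two `p`-groups with `[R, A] = R`: the case `|Ω₁(R)| = p ^ 3`, fourth part
-/

namespace Cfsg.Agent.Helper1.R2S

open Cfsg Cfsg.Agent.Helper1

open scoped Pointwise commutatorElement

universe u

variable {G : Type u} [Group G] [Finite G]

namespace Ctx2

variable {p : ℕ} [hp : Fact p.Prime] {R A T Z E M C : Subgroup G} {u v : G}

theorem exists_s (k : Ctx2 p R A T Z E M C u v) : ∃ s : ℕ, 0 < s ∧ Nat.card C = p ^ s := by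
  obtain ⟨s, hs⟩ := IsPGroup.iff_card.mp (k.base.hR.to_le k.hCR)
  refine ⟨s, ?_, hs⟩
  rcases Nat.eq_zero_or_pos s with h0 | h0
  · exfalso
    rw [h0, pow_zero] at hs
    have h1 : Nat.card Z ∣ Nat.card C := Subgroup.card_dvd_of_le k.hZC
    rw [hs, k.base.hZcard] at h1
    exact hp.out.one_lt.ne' (Nat.dvd_one.1 h1)
  · exact h0

theorem pow_card_C (k : Ctx2 p R A T Z E M C u v) {c : G} (hc : c ∈ C) :
    c ^ Nat.card C = 1 := by
  have := pow_card_eq_one' (G := ↥C) (x := ⟨c, hc⟩)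
  exact congrArg Subtype.val this

theorem pow_EC (k : Ctx2 p R A T Z E M C u v) {s : ℕ} (hs : 0 < s) (hC : Nat.card C = p ^ s)
    {y : G} (hy : y ∈ E ⊔ C) : y ^ p ^ s = 1 := by
  obtain ⟨e, he, c, hc, rfl⟩ := mem_sup_of_le_normalizer (k.hCR.trans k.hRE) hy
  have hcomm : Commute e c := (k.comm_CT hc (k.hEltT.le he)).symm
  rw [hcomm.mul_pow, ← hC, k.pow_card_C hc, mul_one, hC]
  obtain ⟨s', rfl⟩ : ∃ s', s = s' + 1 := ⟨s - 1, by omega⟩
  rw [pow_succ', pow_mul, k.base.hTexp e (k.hEltT.le he), one_pow]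

theorem z_facts (k : Ctx2 p R A T Z E M C u v) {g : G} (hgM : g ∈ M) (hgEC : g ∉ E ⊔ C)
    {s : ℕ} (hC : Nat.card C = p ^ s) : g ^ p ^ s ≠ 1 ∧ g ^ p ^ s ∈ Z := by
  constructor
  · intro h1
    have hall : ∀ x : ↥(C ⊔ Subgroup.zpowers g : Subgroup G), x ^ p ^ s = 1 := by
      rintro ⟨x, hx⟩
      apply Subtype.ext
      simp only [Subgroup.coe_pow, Subgroup.coe_one]
      obtain ⟨c, hc, g', hg', rfl⟩ :=
        mem_sup_of_le_normalizer (Subgroup.zpowers_le.2 (k.hRC (k.hMR hgM))) hx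
      obtain ⟨i, rfl⟩ := Subgroup.mem_zpowers_iff.1 hg'
      have hcomm : Commute c (g ^ i) := k.comm_M0 hgM hgEC (le_sup_left (a := C) hc)
        ((le_sup_right : Subgroup.zpowers g ≤ C ⊔ Subgroup.zpowers g) hg')
      rw [hcomm.mul_pow, ← hC, k.pow_card_C hc, one_mul, hC]
      rw [← zpow_natCast, ← zpow_mul, mul_comm, zpow_mul, zpow_natCast, h1, one_zpow]
    haveI := k.cyclic_M0 hgM hgEC
    have h2 : Monoid.exponent ↥(C ⊔ Subgroup.zpowers g : Subgroup G) ∣ p ^ s :=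
      Monoid.exponent_dvd_of_forall_pow_eq_one hall
    rw [IsCyclic.exponent_eq_card, k.card_M0 hgM hgEC, hC] at h2
    have h3 := Nat.le_of_dvd (pow_pos hp.out.pos s) h2
    have h4 := hp.out.one_lt
    have h5 : 0 < p ^ s := pow_pos hp.out.pos s
    nlinarith
  · apply k.omega_M0 hgM hgEC
    · exact Subgroup.pow_mem _
        ((le_sup_right : Subgroup.zpowers g ≤ _) (Subgroup.mem_zpowers g)) _
    · rw [← pow_mul, mul_comm, pow_mul, ← hC, k.pow_card_C (k.pow_mem_C hgM)]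

theorem yv_mem_Z (k : Ctx2 p R A T Z E M C u v) {y : G} (hy : y ∈ E ⊔ C) : ⁅y, v⁆ ∈ Z := by
  obtain ⟨e, he, c, hc, rfl⟩ := mem_sup_of_le_normalizer (k.hCR.trans k.hRE) hy
  rw [k.bil.c_mul_left (k.hEM he) (k.hCM hc) k.hvT]
  have h1 : ⁅c, v⁆ = 1 := by
    rw [commutatorElement_eq_one_iff_mul_comm]; exact k.comm_CT hc k.hvT
  rw [h1, mul_one]
  exact k.hETZ he k.hvT

theorem exists_pow_of_mem_zpowers {g g' : G} (h : g' ∈ Subgroup.zpowers g) :
    ∃ n : ℕ, g ^ n = g' := by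
  rw [← (isOfFinOrder_of_finite g).mem_powers_iff_mem_zpowers] at h
  exact Submonoid.mem_powers_iff _ _ |>.1 h

theorem le_normalizer_of_le (k : Ctx2 p R A T Z E M C u v) {g : G} (hgM : g ∈ M)
    (hgEC : g ∉ E ⊔ C) {X : Subgroup G} (hX : X ≤ M) : M ≤ Subgroup.normalizer (X : Set G) := by
  intro m hm
  rw [Subgroup.mem_normalizer_iff]
  intro x
  constructor
  · intro hx
    have : m * x * m⁻¹ = x := by
      rw [k.comm_M hgM hgEC hm (hX hx)]; group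
    rw [this]; exact hx
  · intro hx
    have h1 : m⁻¹ * (m * x * m⁻¹) * m⁻¹⁻¹ = m * x * m⁻¹ := by
      rw [← k.comm_M hgM hgEC (hX hx) (M.inv_mem hm)]; group
    have h2 : m⁻¹ * (m * x * m⁻¹) * m⁻¹⁻¹ = x := by group
    rw [← h2, h1]; exact hx

theorem exists_decomp (k : Ctx2 p R A T Z E M C u v) {g : G} (hgM : g ∈ M) (hgEC : g ∉ E ⊔ C)
    {x : G} (hx : x ∈ M) : ∃ y ∈ E ⊔ C, ∃ n : ℕ, x = y * g ^ n := by
  rw [← k.M_eq hgM hgEC] at hx
  have hN : Subgroup.zpowers g ≤ Subgroup.normalizer ((E ⊔ C : Subgroup G) : Set G) :=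
    (Subgroup.zpowers_le.2 hgM).trans (k.le_normalizer_of_le hgM hgEC k.hECM)
  obtain ⟨y, hy, g', hg', rfl⟩ := mem_sup_of_le_normalizer hN hx
  obtain ⟨n, rfl⟩ := exists_pow_of_mem_zpowers hg'
  exact ⟨y, hy, n, rfl⟩

theorem commutator_not_mem_Z (k : Ctx2 p R A T Z E M C u v) {g : G} (hgM : g ∈ M)
    (hgEC : g ∉ E ⊔ C) : ⁅g, v⁆ ∉ Z := by
  intro he
  have hall : ∀ x ∈ M, x * v * x⁻¹ * v⁻¹ ∈ Z := by
    intro x hx
    obtain ⟨y, hy, n, rfl⟩ := k.exists_decomp hgM hgEC hx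
    rw [← commutatorElement_def, k.bil.c_mul_left (k.hECM hy) (M.pow_mem hgM n) k.hvT,
      k.bil.c_pow_left hgM k.hvT]
    exact Z.mul_mem (k.yv_mem_Z hy) (Z.pow_mem he n)
  have h1 := card_le_of_commutator_mem M Z v hall
  rw [k.hMv, k.base.hZcard, ← k.hcEC, k.hcM] at h1
  have h2 : 0 < Nat.card (E ⊔ C : Subgroup G) := Nat.card_pos
  have h3 := hp.out.one_lt
  nlinarith

theorem w_ne_one (k : Ctx2 p R A T Z E M C u v) {g : G} (hgM : g ∈ M) (hgEC : g ∉ E ⊔ C) :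
    ⁅⁅g, v⁆, v⁆ ≠ 1 := by
  intro h1
  have he : ⁅g, v⁆ ∈ E := k.hMTE hgM k.hvT
  apply k.commutator_not_mem_Z hgM hgEC
  rw [k.base.hZ]
  refine Subgroup.mem_inf.2 ⟨k.hEltT.le he, ?_⟩
  have h2 : T ≤ Subgroup.centralizer ({⁅g, v⁆} : Set G) := by
    rw [← k.hEv]
    refine sup_le ?_ ?_
    · intro e' he'
      rw [Ctx.mem_centralizer_singleton]
      exact k.comm_ME (k.hEM he') he
    · rw [Subgroup.zpowers_le, Ctx.mem_centralizer_singleton]
      exact (commutatorElement_eq_one_iff_mul_comm.1 h1).symm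
  rw [Subgroup.mem_centralizer_iff]
  intro t ht
  exact Ctx.mem_centralizer_singleton.1 (h2 ht)

end Ctx2

end Cfsg.Agent.Helper1.R2S
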