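import Mathlib
import Cfsg.Prelude
import Cfsg.Agent.Helper1.R2SH

set_option autoImplicit false

/-!
# Rank two `p`-groups with `[R, A] = R`: the case `|Ω₁(R)| = p ^ 3`, the contradiction
-/

namespace Cfsg.Agent.Helper1.R2S

open Cfsg Cfsg.Agent.Helper1

open scoped Pointwise commutatorElement

universe u

variable {G : Type u} [Group G] [Finite G]

namespace Ctx2

variable {p : ℕ} [hp : Fact p.Prime] {R A T Z E M C : Subgroup G} {u v : G}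

/-- powers modulo the normal subgroup `E` of `T`. -/
theorem mul_pow_mem (k : Ctx2 p R A T Z E M C u v) {e t : G} (he : e ∈ E) (ht : t ∈ T) (n : ℕ) :
    (e * t) ^ n * (t ^ n)⁻¹ ∈ E := by
  have hTE : T ≤ Subgroup.normalizer (E : Set G) := k.base.hTR.trans k.hRE
  induction n with
  | zero => simp
  | succ n ih =>
    have h1 : (e * t) ^ (n + 1) * (t ^ (n + 1))⁻¹ =
        ((e * t) ^ n * (t ^ n)⁻¹) * (t ^ n * e * (t ^ n)⁻¹) := by
      rw [pow_succ, pow_succ]; group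
    rw [h1]
    exact E.mul_mem ih ((Subgroup.mem_normalizer_iff.1 (hTE (T.pow_mem ht n)) e).1 he)

theorem v_ne_one (k : Ctx2 p R A T Z E M C u v) : v ≠ 1 := by
  intro h; exact k.hvE (h ▸ E.one_mem)

/-- the square of every element of `A` centralizes `T / E`. -/
theorem sq_mem (k : Ctx2 p R A T Z E M C u v) {g : G} (hgM : g ∈ M) (hgEC : g ∉ E ⊔ C)
    {b : G} (hb : b ∈ A) : (b * b) * v * (b * b)⁻¹ * v⁻¹ ∈ E := by
  obtain ⟨s, hs, hC⟩ := k.exists_s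
  obtain ⟨hz1, hzZ⟩ := k.z_facts hgM hgEC hC
  -- the action on `g`
  have h1 : b * g * b⁻¹ ∈ M := (Subgroup.mem_normalizer_iff.1 (k.hAM hb) g).1 hgM
  obtain ⟨y, hy, n, hyg⟩ := k.exists_decomp hgM hgEC h1
  -- the action on `v`
  have h2 : b * v * b⁻¹ ∈ T := (Subgroup.mem_normalizer_iff.1 (k.base.hAT hb) v).1 k.hvT
  rw [← k.hEv] at h2
  have hvN : Subgroup.zpowers v ≤ Subgroup.normalizer (E : Set G) :=
    (Subgroup.zpowers_le.2 k.hvT).trans (k.base.hTR.trans k.hRE)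
  obtain ⟨e₁, he₁, v', hv', hev⟩ := mem_sup_of_le_normalizer hvN h2
  obtain ⟨m, rfl⟩ := exists_pow_of_mem_zpowers hv'
  -- the action on `z = g ^ p ^ s`
  have h3 : b * g ^ p ^ s * b⁻¹ = (g ^ p ^ s) ^ n := by
    have hcomm : Commute y (g ^ n) := k.comm_M hgM hgEC (k.hECM hy) (M.pow_mem hgM n)
    calc b * g ^ p ^ s * b⁻¹ = (b * g * b⁻¹) ^ p ^ s := (conj_pow).symm
      _ = (y * g ^ n) ^ p ^ s := by rw [hyg]
      _ = y ^ p ^ s * (g ^ n) ^ p ^ s := hcomm.mul_pow _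
      _ = (g ^ p ^ s) ^ n := by rw [k.pow_EC hs hC hy, one_mul, ← pow_mul, mul_comm, pow_mul]
  have h4 : (g ^ p ^ s) ^ n ≠ 1 := by
    intro h
    rw [h] at h3
    apply hz1
    have : g ^ p ^ s = b⁻¹ * (b * g ^ p ^ s * b⁻¹) * b := by group
    rw [this, h3]; group
  have hzp : (g ^ p ^ s) ^ p = 1 := k.base.hTexp _ (k.base.hZT hzZ)
  have hordz : orderOf (g ^ p ^ s) = p := orderOf_eq_prime hzp hz1
  -- `Z` is generated by `z`
  have hZz : Subgroup.zpowers (g ^ p ^ s) = Z := by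
    apply Subgroup.eq_of_le_of_card_ge (Subgroup.zpowers_le.2 hzZ)
    rw [Nat.card_zpowers, hordz, k.base.hZcard]
  -- `w`
  have hwZ : ⁅⁅g, v⁆, v⁆ ∈ Z := k.hETZ (k.hMTE hgM k.hvT) k.hvT
  have hw1 := k.w_ne_one hgM hgEC
  obtain ⟨j, hj⟩ : ∃ j : ℕ, (g ^ p ^ s) ^ j = ⁅⁅g, v⁆, v⁆ := by
    apply exists_pow_of_mem_zpowers
    rw [hZz]; exact hwZ
  have h5 : b * ⁅⁅g, v⁆, v⁆ * b⁻¹ = ⁅⁅g, v⁆, v⁆ ^ n := by
    rw [← hj, ← conj_pow, h3, ← pow_mul, mul_comm, pow_mul]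
  have h6 : b * ⁅⁅g, v⁆, v⁆ * b⁻¹ = ⁅⁅b * g * b⁻¹, b * v * b⁻¹⁆, b * v * b⁻¹⁆ := by
    simp only [commutatorElement_def]; group
  rw [hyg, hev] at h6
  have hy0 : ⁅⁅y, v⁆, v⁆ = 1 := k.bil.d_Z (k.yv_mem_Z hy) k.hvT
  have h7 := k.bil.scale hgM k.hvT (k.hECM hy) hy0 he₁ n m
  have h8 : ⁅⁅g, v⁆, v⁆ ^ n = ⁅⁅g, v⁆, v⁆ ^ (n * m * m) := by
    rw [← h5, h6, h7, ← pow_mul, ← pow_mul, mul_assoc]
  have hordw : orderOf ⁅⁅g, v⁆, v⁆ = p :=
    orderOf_eq_prime (k.base.hTexp _ (k.base.hZT hwZ)) hw1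
  have h9 : n ≡ n * m * m [MOD p] := by
    rw [← hordw]; exact pow_eq_pow_iff_modEq.1 h8
  have hnp : ¬ p ∣ n := by
    intro hd
    obtain ⟨c, rfl⟩ := hd
    apply h4
    rw [pow_mul, hzp, one_pow]
  have hcop : Nat.gcd p n = 1 := (Nat.Prime.coprime_iff_not_dvd hp.out).2 hnp
  have h10 : m * m ≡ 1 [MOD p] := by
    have h11 : n * (m * m) ≡ n * 1 [MOD p] := by
      rw [mul_one, ← mul_assoc]; exact h9.symm
    exact Nat.ModEq.cancel_left_of_coprime hcop h11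
  -- the action of `b * b`
  have hordv : orderOf v = p := orderOf_eq_prime (k.base.hTexp v k.hvT) k.v_ne_one
  have hvmm : v ^ (m * m) = v := by
    have : v ^ (m * m) = v ^ 1 := by
      rw [pow_eq_pow_iff_modEq, hordv]; exact h10
    rwa [pow_one] at this
  have hbe : b * e₁ * b⁻¹ ∈ E := (Subgroup.mem_normalizer_iff.1 (k.hAE hb) e₁).1 he₁
  have h12 : (b * b) * v * (b * b)⁻¹ * v⁻¹ =
      (b * e₁ * b⁻¹) * ((e₁ * v ^ m) ^ m * ((v ^ m) ^ m)⁻¹) := by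
    have h13 : (b * b) * v * (b * b)⁻¹ = b * (b * v * b⁻¹) * b⁻¹ := by group
    have h14 : b * (e₁ * v ^ m) * b⁻¹ = (b * e₁ * b⁻¹) * (b * v * b⁻¹) ^ m := by
      rw [conj_pow]; group
    rw [h13, hev, h14, hev, ← pow_mul, hvmm]; group
  rw [h12]
  exact E.mul_mem hbe (k.mul_pow_mem he₁ (T.pow_mem k.hvT m) m)

end Ctx2

end Cfsg.Agent.Helper1.R2S
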