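import Mathlib
import Cfsg.Prelude
import Cfsg.Agent.Helper1.R2SI
import Cfsg.Agent.S1447

set_option autoImplicit false

/-!
# Rank two `p`-groups with `[R, A] = R`: the structure theorem (BG Lemma 4.?)
-/

namespace Cfsg.Agent.Helper1.R2S

open Cfsg Cfsg.Agent.Helper1

open scoped Pointwise commutatorElement

universe u

variable {G : Type u} [Group G] [Finite G]

theorem Ctx2.false {p : ℕ} [hp : Fact p.Prime] {R A T Z E M C : Subgroup G} {u v : G}
    (k : Ctx2 p R A T Z E M C u v) : False := by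
  -- choose `g`
  have hlt : E ⊔ C < M := by
    refine lt_of_le_of_ne k.hECM (fun heq => ?_)
    have h1 := k.hcM
    rw [← heq] at h1
    have h2 : 0 < Nat.card (E ⊔ C : Subgroup G) := Nat.card_pos
    have h3 := hp.out.one_lt
    nlinarith
  obtain ⟨g, hgM, hgEC⟩ := SetLike.exists_of_lt hlt
  -- every element of `A` is a square
  have hA1 : ∀ a ∈ A, a * v * a⁻¹ * v⁻¹ ∈ E := by
    intro a ha
    obtain ⟨j, hj⟩ := k.base.hAodd
    have hpow : a ^ Nat.card A = 1 := by
      have := pow_card_eq_one' (G := ↥A) (x := ⟨a, ha⟩)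
      exact congrArg Subtype.val this
    have hsq : a ^ (j + 1) * a ^ (j + 1) = a := by
      rw [← pow_add]
      have : j + 1 + (j + 1) = Nat.card A + 1 := by omega
      rw [this, pow_succ, hpow, one_mul]
    have := k.sq_mem hgM hgEC (A.pow_mem ha (j + 1))
    rwa [hsq] at this
  have hTE : T ≤ Subgroup.normalizer (E : Set G) := k.base.hTR.trans k.hRE
  -- `[T, A] ≤ E`
  have hTA : ⁅T, A⁆ ≤ E := by
    have hcl : Subgroup.closure ((E : Set G) ∪ {v}) = T := by
      rw [Subgroup.closure_union, Subgroup.closure_eq, ← Subgroup.zpowers_eq_closure, k.hEv]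
    rw [← hcl]
    apply commutator_closure_le
    · rintro s (hs | hs)
      · exact hTE (k.hEltT.le hs)
      · rw [Set.mem_singleton_iff] at hs
        rw [hs]; exact hTE k.hvT
    · rintro s (hs | hs) a ha
      · have h1 : a * s⁻¹ * a⁻¹ ∈ E :=
          (Subgroup.mem_normalizer_iff.1 (k.hAE ha) s⁻¹).1 (E.inv_mem hs)
        have h2 : ⁅s, a⁆ = s * (a * s⁻¹ * a⁻¹) := by rw [commutatorElement_def]; group
        rw [h2]; exact E.mul_mem hs h1
      · rw [Set.mem_singleton_iff] at hs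
        rw [hs]
        have h2 : ⁅v, a⁆ = (a * v * a⁻¹ * v⁻¹)⁻¹ := by rw [commutatorElement_def]; group
        rw [h2]; exact E.inv_mem (hA1 a ha)
  -- `[R, A] ≤ M`
  have hRA : ⁅R, A⁆ ≤ M := by
    have hcl : Subgroup.closure ((T : Set G) ∪ (M : Set G)) = R := by
      rw [Subgroup.closure_union, Subgroup.closure_eq, Subgroup.closure_eq, k.hTM]
    rw [← hcl]
    apply commutator_closure_le
    · rintro s (hs | hs)
      · exact k.hRM (k.base.hTR hs)
      · exact k.hRM (k.hMR hs)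
    · rintro s (hs | hs) a ha
      · exact k.hEM (hTA (Subgroup.commutator_mem_commutator hs ha))
      · have h1 : a * s⁻¹ * a⁻¹ ∈ M :=
          (Subgroup.mem_normalizer_iff.1 (k.hAM ha) s⁻¹).1 (M.inv_mem hs)
        have h2 : ⁅s, a⁆ = s * (a * s⁻¹ * a⁻¹) := by rw [commutatorElement_def]; group
        rw [h2]; exact M.mul_mem hs h1
  rw [k.base.hRA] at hRA
  have hTM : T ≤ M := k.base.hTR.trans hRA
  have hTu : T ≤ Subgroup.centralizer ({u} : Set G) := by
    rw [k.hMdef] at hTM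
    exact hTM.trans inf_le_right
  have : T ⊓ Subgroup.centralizer ({u} : Set G) = T := inf_eq_left.2 hTu
  rw [k.hTE] at this
  exact k.hEltT.ne this

/-- `R = T C_R(T)`. -/
theorem Ctx.sup_eq {p : ℕ} [hp : Fact p.Prime] {R A T Z : Subgroup G} (h : Ctx p R A T Z) :
    T ⊔ (R ⊓ Subgroup.centralizer (T : Set G)) = R := by
  by_cases hE : ⁅T, R⁆ ≤ Z
  · exact h.eq_of_commutator_le hE
  · by_contra hN
    obtain ⟨E, M, C, u, v, k⟩ := h.exists_ctx2 hE hN
    exact k.false

/-- the structure theorem. -/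
theorem main (p : ℕ) [hp : Fact p.Prime] (hp2 : p ≠ 2) (R A : Subgroup G) (hR : IsPGroup p R)
    (hR1 : R ≠ ⊥) (hr : Cfsg.PRankLE p 2 R) (hA : A ≤ Subgroup.normalizer (R : Set G))
    (hcop : (Nat.card A).Coprime p) (hAodd : Odd (Nat.card A)) (hRA : ⁅R, A⁆ = R) :
    3 < p ∧ (IsMulCommutative R ∨ ∃ R₁ R₂ : Subgroup G, R₁ ⊔ R₂ = R ∧
      (∀ a ∈ R₁, ∀ b ∈ R₂, a * b = b * a) ∧
        ¬ IsMulCommutative R₁ ∧ Nat.card R₁ = p ^ 3 ∧ Monoid.exponent R₁ = p ∧ IsCyclic R₂ ∧
        Subgroup.closure {x : G | x ∈ R₂ ∧ x ^ p = 1} = ⁅R₁, R₁⁆) := by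
  have h3 : 3 < p := three_lt hp2 R A hR hR1 hr hA hcop hAodd hRA
  refine ⟨h3, ?_⟩
  obtain ⟨hexp, hc3, hmeta⟩ := omega_facts h3 R hR hr
  obtain ⟨T, hT⟩ : ∃ T : Subgroup G, T = Cfsg.omegaOne p R := ⟨_, rfl⟩
  rw [← hT] at hexp hc3 hmeta
  have hTR : T ≤ R := hT ▸ Cfsg.Agent.Helper5.omegaOne_le' p R
  by_cases hc2 : Nat.card T ≤ p ^ 2
  · left
    have h1 := (Cfsg.Agent.S1447.result p hp2 R A hR (hmeta hc2) hA hcop).1
    rwa [hRA] at h1
  · right
    have hTp : IsPGroup p T := hR.to_le hTR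
    obtain ⟨k, hk⟩ := IsPGroup.iff_card.mp hTp
    have hcard : Nat.card T = p ^ 3 := by
      rw [hk] at hc2 hc3 ⊢
      have h1 : k ≤ 3 := (Nat.pow_le_pow_iff_right hp.out.one_lt).1 hc3
      have h2 : ¬ k ≤ 2 := fun h => hc2 (Nat.pow_le_pow_right hp.out.pos h)
      have : k = 3 := by omega
      rw [this]
    have hna : ¬ IsMulCommutative T := by
      intro hcomm
      have h1 := hr (T.subgroupOf R) ⟨⟨by
        intro a b
        have ha : ((a : ↥R) : G) ∈ T := Subgroup.mem_subgroupOf.1 a.2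
        have hb : ((b : ↥R) : G) ∈ T := Subgroup.mem_subgroupOf.1 b.2
        have := hcomm.is_comm.comm ⟨_, ha⟩ ⟨_, hb⟩
        have h2 : ((a : ↥R) : G) * ((b : ↥R) : G) = ((b : ↥R) : G) * ((a : ↥R) : G) :=
          congrArg Subtype.val this
        apply Subtype.ext
        apply Subtype.ext
        simpa using h2⟩⟩ (by
        intro a ha
        rw [Subgroup.mem_subgroupOf] at ha
        apply Subtype.ext
        simpa using hexp _ ha)
      rw [card_subgroupOf_of_le hTR, hcard] at h1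
      have := hp.out.one_lt
      have h2 : p ^ 3 = p ^ 2 * p := by ring
      nlinarith [pow_pos hp.out.pos 2]
    obtain ⟨hZc, hTT⟩ := center_of_card_cube' T hcard hna
    obtain ⟨Z, hZ⟩ : ∃ Z : Subgroup G, Z = T ⊓ Subgroup.centralizer (T : Set G) := ⟨_, rfl⟩
    rw [← hZ] at hZc hTT
    have hΩ : ∀ x ∈ R, x ^ p = 1 → x ∈ T := by
      intro x hx hxp
      rw [hT]
      exact Subgroup.subset_closure ⟨hx, hxp⟩
    have hctx : Ctx p R A T Z :=
      { h3 := h3
        hR := hR
        hTR := hTR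
        hAR := hA
        hAT := hT ▸ Cfsg.Agent.Helper5.le_normalizer_omegaOne p A R hA
        hRT := hT ▸ Cfsg.Agent.Helper5.le_normalizer_omegaOne p R R Subgroup.le_normalizer
        hTexp := hexp
        hΩ := hΩ
        hTcard := hcard
        hZ := hZ
        hZcard := hZc
        hTT := hTT
        hAodd := hAodd
        hRA := hRA }
    have hsup := hctx.sup_eq
    have hCZ : ∀ x ∈ R ⊓ Subgroup.centralizer (T : Set G), x ^ p = 1 → x ∈ Z := by
      rintro x ⟨hxR, hxC⟩ hxp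
      rw [hZ]
      exact Subgroup.mem_inf.2 ⟨hΩ x hxR hxp, hxC⟩
    refine ⟨T, R ⊓ Subgroup.centralizer (T : Set G), hsup, ?_, hna, hcard, ?_, ?_, ?_⟩
    · intro a ha b hb
      exact Subgroup.mem_centralizer_iff.1 hb.2 a ha
    · have h1 : Monoid.exponent ↥T ∣ p := by
        apply Monoid.exponent_dvd_of_forall_pow_eq_one
        intro x
        apply Subtype.ext
        simpa using hexp x x.2
      rcases (Nat.dvd_prime hp.out).1 h1 with h2 | h2
      · exfalso
        have h4 : Subsingleton ↥T := Monoid.exp_eq_one_iff.1 h2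
        have h5 : Nat.card ↥T = 1 := Nat.card_eq_one_iff_unique.2 ⟨h4, ⟨1⟩⟩
        rw [hcard] at h5
        have := Nat.one_lt_pow (n := 3) (by norm_num) hp.out.one_lt
        omega
      · exact h2
    · exact isCyclic_of_forall_pow_eq_one_mem h3 _ Z (hR.to_le inf_le_left) hZc.le hCZ
    · have hset : {x : G | x ∈ R ⊓ Subgroup.centralizer (T : Set G) ∧ x ^ p = 1} = (Z : Set G) := by
        ext x
        constructor
        · rintro ⟨hx, hxp⟩
          exact hCZ x hx hxp
        · intro hx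
          have hxT : x ∈ T := hctx.hZT hx
          exact ⟨Subgroup.mem_inf.2 ⟨hTR hxT, hctx.hZc hx⟩, hexp x hxT⟩
      rw [hset, Subgroup.closure_eq, hTT]

end Cfsg.Agent.Helper1.R2S
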