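import Mathlib
import Cfsg.Prelude
import Cfsg.Agent.Helper1.R2SJ
import Cfsg.Agent.Helper1.BGXh

set_option autoImplicit false

/-!
# BG Corollary 10.7(c): Sylow subgroups of rank at most two in a minimal simple group of odd order
-/

namespace Cfsg.Agent.Helper1.R2S

open Cfsg Cfsg.Agent.Helper1 Cfsg.Agent.Helper1.BGX

open scoped Pointwise commutatorElement

universe u

variable {G : Type u} [Group G] [Finite G]

/-- a Sylow subgroup has a complement in its normalizer. -/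
theorem exists_isComplIn_normalizer {p : ℕ} [hp : Fact p.Prime] (P : Sylow p G) :
    ∃ V : Subgroup G, Cfsg.IsComplIn (P : Subgroup G) V
      (Subgroup.normalizer ((P : Subgroup G) : Set G)) ∧ (Nat.card V).Coprime p := by
  obtain ⟨N, hN⟩ : ∃ N : Subgroup G, N = Subgroup.normalizer ((P : Subgroup G) : Set G) :=
    ⟨_, rfl⟩
  rw [← hN]
  have hPN : (P : Subgroup G) ≤ N := hN ▸ Subgroup.le_normalizer
  haveI hPn : ((P : Subgroup G).subgroupOf N).Normal := by
    rw [hN]; exact Subgroup.normal_in_normalizer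
  have hidx : ¬ p ∣ ((P : Subgroup G).subgroupOf N).index := by
    intro hd
    apply P.not_dvd_index
    have h1 : (P : Subgroup G).relIndex N ∣ (P : Subgroup G).index :=
      Subgroup.relIndex_dvd_index_of_le hPN
    exact hd.trans h1
  have hcop : (Nat.card ((P : Subgroup G).subgroupOf N)).Coprime
      ((P : Subgroup G).subgroupOf N).index := by
    have hpg : IsPGroup p ↥((P : Subgroup G).subgroupOf N) :=
      IsPGroup.of_injective P.2 ((P : Subgroup G).subgroupOfEquivOfLe hPN).toMonoidHom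
        ((P : Subgroup G).subgroupOfEquivOfLe hPN).injective
    obtain ⟨k, hk⟩ := IsPGroup.iff_card.mp hpg
    rw [hk]
    exact Nat.Coprime.pow_left k ((Nat.Prime.coprime_iff_not_dvd hp.out).2 hidx)
  obtain ⟨H, hH⟩ := Subgroup.exists_right_complement'_of_coprime hcop
  refine ⟨H.map N.subtype, ⟨hPN, Subgroup.map_subtype_le H, ?_, ?_⟩, ?_⟩
  · rw [eq_bot_iff]
    rintro x ⟨hxP, ⟨y, hy, rfl⟩⟩
    have h1 : y ∈ ((P : Subgroup G).subgroupOf N) ⊓ H :=
      Subgroup.mem_inf.2 ⟨Subgroup.mem_subgroupOf.2 hxP, hy⟩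
    rw [hH.disjoint.eq_bot, Subgroup.mem_bot] at h1
    rw [Subgroup.mem_bot, h1]; rfl
  · intro m hm
    obtain ⟨⟨a, b⟩, hab⟩ := hH.2 ⟨m, hm⟩
    refine ⟨(a : ↥N), Subgroup.mem_subgroupOf.1 a.2, (b : ↥N), ⟨b.1, b.2, rfl⟩, ?_⟩
    have := congrArg Subtype.val hab
    exact this.symm
  · rw [Subgroup.card_map_of_injective N.subtype_injective, ← hH.symm.index_eq_card]
    exact ((Nat.Prime.coprime_iff_not_dvd hp.out).2 hidx).symm

/-- BG Corollary 10.7(c). -/
theorem cor107c (hG : Cfsg.IsMinSimpleOddOrder G) (hpl : PL1 G) (p : ℕ) [hp : Fact p.Prime]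
    (P : Sylow p G) (hr : Cfsg.PRankLE p 2 (P : Subgroup G)) :
    IsMulCommutative (P : Subgroup G) ∨ ∃ P₁ P₂ : Subgroup G, P₁ ⊔ P₂ = (P : Subgroup G) ∧
      (∀ a ∈ P₁, ∀ b ∈ P₂, a * b = b * a) ∧
        ¬ IsMulCommutative P₁ ∧ Nat.card P₁ = p ^ 3 ∧ Monoid.exponent P₁ = p ∧ IsCyclic P₂ ∧
        Subgroup.closure {x : G | x ∈ P₂ ∧ x ^ p = 1} =
          P₁ ⊓ Subgroup.centralizer (P₁ : Set G) := by
  by_cases hP1 : (P : Subgroup G) = ⊥
  · left
    rw [hP1]
    refine ⟨⟨?_⟩⟩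
    rintro ⟨a, ha⟩ ⟨b, hb⟩
    rw [Subgroup.mem_bot] at ha hb
    subst ha; subst hb; rfl
  obtain ⟨V, hV, hVcop⟩ := exists_isComplIn_normalizer P
  have hPV := (cor107b hG hpl p P V hV).1
  have hodd : Odd (Nat.card G) := hG.1
  have hVodd : Odd (Nat.card V) := Odd.of_dvd_nat hodd (Subgroup.card_subgroup_dvd_card V)
  have hp2 : p ≠ 2 := by
    rintro rfl
    have h1 : 2 ∣ Nat.card (P : Subgroup G) := by
      obtain ⟨k, hk⟩ := IsPGroup.iff_card.mp P.2
      rcases Nat.eq_zero_or_pos k with h0 | h0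
      · rw [h0, pow_zero] at hk
        exact absurd (Subgroup.card_eq_one.1 hk) hP1
      · rw [hk]; exact dvd_pow_self 2 h0.ne'
    have h2 : 2 ∣ Nat.card G := h1.trans (Subgroup.card_subgroup_dvd_card _)
    rcases hodd with ⟨k, hk⟩
    omega
  obtain ⟨-, h⟩ := main p hp2 (P : Subgroup G) V P.2 hP1 hr hV.2.1 hVcop hVodd hPV.symm
  rcases h with h | ⟨R₁, R₂, h1, h2, h3, h4, h5, h6, h7⟩
  · exact Or.inl h
  · right
    refine ⟨R₁, R₂, h1, h2, h3, h4, h5, h6, ?_⟩
    rw [h7]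
    exact (center_of_card_cube' R₁ h4 h3).2

end Cfsg.Agent.Helper1.R2S
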