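import Mathlib
import Cfsg.Prelude.Def_CaseTheorems
import Cfsg.Prelude.Def_Solvable
import Cfsg.Prelude.Def_OddOrderLocal
import Cfsg.Agent.Helper1.Rank2Fitting
import Cfsg.Agent.Helper1.HallNilp
import Cfsg.Agent.Helper1.FrattiniAct
import Cfsg.Agent.Helper3.CoprimeHall

set_option autoImplicit false

/-!
Solvable groups of odd order whose Fitting subgroup has rank at most two: Sylow towers and
normality of characteristic subgroups of Sylow subgroups.
-/

namespace Cfsg.Agent.Helper1.Rank2Fitting

open Cfsg.Agent.Helper1 Cfsg.Agent.Helper1.Rank2Struct Cfsg.Agent.Helper3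

open scoped Pointwise

universe u

variable {G : Type u} [Group G]

/-- a subgroup containing the derived subgroup is normal -/
theorem normal_of_commutator_le {N : Subgroup G} (h : commutator G ≤ N) : N.Normal := by
  constructor
  intro n hn g
  have h2 : g * n * g⁻¹ = (g * n * g⁻¹ * n⁻¹) * n := by group
  rw [h2]
  apply Subgroup.mul_mem _ _ hn
  apply h
  rw [commutator_def]
  exact Subgroup.commutator_mem_commutator (Subgroup.mem_top g) (Subgroup.mem_top n)

/-- **(c)** the Sylow tower property -/
theorem exists_characteristic_hall [Finite G] [Group.IsSolvable G]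
    (hodd : Odd (Nat.card G)) (hF : Cfsg.RankLE 2 ↥(Cfsg.fittingSubgroup G)) (p : ℕ) :
    ∃ N : Subgroup G, N.Characteristic ∧ Cfsg.IsPiHall {q | q.Prime ∧ p < q} N := by
  set σ : Set ℕ := {q | q.Prime ∧ p < q} with hσ
  have hG0 : Nat.card G ≠ 0 := Nat.card_pos.ne'
  obtain ⟨m, n, hd⟩ := exists_piDecomp σ (Nat.card G) hG0
  have hmn : m.Coprime n := hd.coprime
  obtain ⟨hconj, hdom⟩ := hallProp_of_solvable _ G rfl m n hd.eq hmn
  obtain ⟨K, hKcard, -⟩ := hdom ⊥ (by rw [Subgroup.card_bot]; exact Nat.coprime_one_left n)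
  have hKidx : K.index = n := by
    have h1 : Nat.card K * K.index = Nat.card G := Subgroup.card_mul_index K
    rw [hKcard, hd.eq] at h1
    exact Nat.eq_of_mul_eq_mul_left (hd.pos_left hG0) h1
  -- every `O_q(G)` normalizes `K`
  have hFq : ∀ q : Nat.Primes, Cfsg.pCore (q : ℕ) G ≤ Subgroup.normalizer (K : Set G) := by
    intro q
    haveI : Fact (q : ℕ).Prime := ⟨q.2⟩
    by_cases hqσ : (q : ℕ) ∈ σ
    · -- `O_q(G) ≤ K`
      refine le_trans ?_ Subgroup.le_normalizer
      have hcop : (Nat.card (Cfsg.pCore (q : ℕ) G)).Coprime n := by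
        obtain ⟨k, hk⟩ := IsPGroup.iff_card.1 (pCore_isPGroup (G := G) (q : ℕ))
        rw [hk]
        apply Nat.Coprime.pow_left
        rw [Nat.Prime.coprime_iff_not_dvd q.2]
        intro hqn
        exact hd.right q q.2 hqn hqσ
      obtain ⟨H₁, hH₁card, hH₁⟩ := hdom _ hcop
      obtain ⟨g, hg⟩ := hconj H₁ K hH₁card hKcard
      rw [← hg, ← conj_smul_normal (Cfsg.pCore (q : ℕ) G) g]
      exact conj_smul_mono hH₁ g
    · -- `K` centralizes `O_q(G)`
      have hqp : (q : ℕ) ≤ p := by
        by_contra hlt
        exact hqσ ⟨q.2, not_le.1 hlt⟩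
      have h1 : K ≤ Subgroup.centralizer (Cfsg.pCore (q : ℕ) G : Set G) := by
        intro x hx
        apply mem_centralizer_pCore_of_large_primes hodd hF (q : ℕ) x
        intro r hr hrx
        have h2 : orderOf x ∣ m := by
          rw [← hKcard]
          have := orderOf_dvd_natCard (⟨x, hx⟩ : ↥K)
          rwa [← orderOf_injective K.subtype K.subtype_injective] at this
        have h3 := hd.left r hr (hrx.trans h2)
        exact lt_of_le_of_lt hqp h3.2
      rw [Subgroup.le_centralizer_iff] at h1
      exact h1.trans (Subgroup.centralizer_le_normalizer _)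
  have hFN : Cfsg.fittingSubgroup G ≤ Subgroup.normalizer (K : Set G) := by
    rw [fittingSubgroup_eq_fitJoin]
    unfold fitJoin
    exact iSup_le hFq
  set N := Subgroup.normalizer (K : Set G) with hN
  have hNn : N.Normal := normal_of_commutator_le ((commutator_le_fittingSubgroup hodd hF).trans hFN)
  have hKN : K ≤ N := Subgroup.le_normalizer
  have hcopN : (Nat.card K).Coprime (K.relIndex N) := by
    rw [hKcard]
    apply hmn.coprime_dvd_right
    rw [← hKidx]
    exact Subgroup.relIndex_dvd_index_of_le hKN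
  have hcopT : (Nat.card K).Coprime (K.relIndex ⊤) := by
    rw [Subgroup.relIndex_top_right, hKcard, hKidx]; exact hmn
  -- `K` is normal
  have hKn : K.Normal := by
    constructor
    intro x hx g
    have h1 : MulAut.conj g • K ≤ N := by
      rw [← conj_smul_normal N g]
      exact conj_smul_mono hKN g
    have h2 : MulAut.conj g • K ≤ K :=
      le_of_normal_hall_rel hKN le_rfl h1 hcopN (by rw [card_conj_smul])
    exact h2 (conj_mem_conj_smul hx)
  refine ⟨K, ?_, ?_, ?_⟩
  · rw [Subgroup.characteristic_iff_map_le]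
    intro ϕ
    apply le_of_normal_hall_rel (D := ⊤) le_top ?_ le_top hcopT
    · rw [Nat.card_congr (K.equivMapOfInjective ϕ.toMonoidHom ϕ.injective).toEquiv.symm]
    · rw [Subgroup.normalizer_eq_top]
  · intro r hr hrK
    rw [hKcard] at hrK
    exact hd.left r hr hrK
  · intro r hr hrσ hrK
    rw [hKidx] at hrK
    exact hd.right r hr hrK hrσ

/-- **(b)** characteristic subgroups of a Sylow subgroup inside its derived subgroup are
normal -/
theorem normal_of_characteristic_le_commutator [Finite G] [Group.IsSolvable G]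
    (hodd : Odd (Nat.card G)) (hF : Cfsg.RankLE 2 ↥(Cfsg.fittingSubgroup G)) (q : ℕ)
    [hq : Fact q.Prime] (S : Sylow q G) (T : Subgroup ↥(S : Subgroup G)) (hT : T.Characteristic)
    (hTS : T.map (S : Subgroup G).subtype ≤ ⁅(S : Subgroup G), (S : Subgroup G)⁆) :
    (T.map (S : Subgroup G).subtype).Normal := by
  set T' := T.map (S : Subgroup G).subtype with hT'
  have hHF : commutator G ≤ Cfsg.fittingSubgroup G := commutator_le_fittingSubgroup hodd hF
  have hT'H : T' ≤ commutator G := by
    rw [commutator_def]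
    exact hTS.trans (Subgroup.commutator_mono le_top le_top)
  have hT'p : IsPGroup q ↥T' := (S.2.to_subgroup T).map _
  have hT'q : T' ≤ Cfsg.pCore q G := le_pCore_of_le_commutator hodd hF q T' hT'p hT'H
  have h1 : Subgroup.normalizer ((S : Subgroup G) : Set G) ≤ Subgroup.normalizer (T' : Set G) :=
    le_normalizer_map_of_characteristic (S : Subgroup G) T
  have h2 : ∀ r : Nat.Primes, Cfsg.pCore (r : ℕ) G ≤ Subgroup.normalizer (T' : Set G) := by
    intro r
    haveI : Fact (r : ℕ).Prime := ⟨r.2⟩
    by_cases hrq : (r : ℕ) = q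
    · rw [hrq]
      exact (pCore_le_sylow S).trans (Subgroup.le_normalizer.trans h1)
    · refine le_trans ?_ (Subgroup.centralizer_le_normalizer _)
      intro x hx
      rw [Subgroup.mem_centralizer_iff]
      intro y hy
      have hdis : Disjoint (Cfsg.pCore (r : ℕ) G) (Cfsg.pCore q G) :=
        IsPGroup.disjoint_of_ne (r : ℕ) q hrq _ _ (pCore_isPGroup (r : ℕ)) (pCore_isPGroup q)
      exact (Subgroup.commute_of_normal_of_disjoint _ _ inferInstance inferInstance hdis x y hx
        (hT'q hy)).symm
  have h3 : Cfsg.fittingSubgroup G ≤ Subgroup.normalizer (T' : Set G) := by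
    rw [fittingSubgroup_eq_fitJoin]
    unfold fitJoin
    exact iSup_le h2
  have h4 : commutator G ≤ Subgroup.normalizer (T' : Set G) := hHF.trans h3
  -- Frattini argument
  set M : Subgroup G := (S : Subgroup G) ⊔ commutator G with hM
  haveI hMn : M.Normal := normal_of_commutator_le le_sup_right
  have h5 := Sylow.normalizer_sup_eq_top' (N := M) S le_sup_left
  rw [← Subgroup.normalizer_eq_top_iff, eq_top_iff, ← h5]
  apply sup_le h1
  exact sup_le (Subgroup.le_normalizer.trans h1) h4

/-- the full statement -/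
theorem rank_two_fitting_structure [Finite G] [Group.IsSolvable G] (hodd : Odd (Nat.card G))
    (hr : Cfsg.RankLE 2 G ∨ Cfsg.RankLE 2 (Cfsg.fittingSubgroup G)) :
    Group.IsNilpotent ↥(commutator G) ∧
      (∀ (q : ℕ) [Fact q.Prime] (S : Sylow q G) (T : Subgroup ↥(S : Subgroup G)),
        T.Characteristic →
        T.map (S : Subgroup G).subtype ≤ ⁅(S : Subgroup G), (S : Subgroup G)⁆ →
        (T.map (S : Subgroup G).subtype).Normal) ∧
      ∀ p : ℕ, ∃ N : Subgroup G, N.Characteristic ∧
        Cfsg.IsPiHall {q | q.Prime ∧ p < q} N := by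
  have hF : Cfsg.RankLE 2 ↥(Cfsg.fittingSubgroup G) := by
    rcases hr with h | h
    · intro q hq
      exact pRankLE_subgroup (h q hq) _
    · exact h
  refine ⟨?_, ?_, ?_⟩
  · have hHF : commutator G ≤ Cfsg.fittingSubgroup G := commutator_le_fittingSubgroup hodd hF
    haveI : Group.IsNilpotent ↥(Cfsg.fittingSubgroup G) := fittingSubgroup_isNilpotent
    exact Group.nilpotent_of_mulEquiv (Subgroup.subgroupOfEquivOfLe hHF)
  · intro q _ S T hT hTS
    exact normal_of_characteristic_le_commutator hodd hF q S T hT hTS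
  · intro p
    exact exists_characteristic_hall hodd hF p

end Cfsg.Agent.Helper1.Rank2Fitting
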