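import Mathlib
import Cfsg.Prelude
import Cfsg.Agent.Lead.BG123
import Cfsg.Agent.Helper1.BG1011
import Cfsg.Agent.Helper3.FrobG2
import Cfsg.Agent.Lead.BG108c
import Cfsg.Agent.Lead.BG108e
import Cfsg.Agent.Helper1.AbelianAct
import Cfsg.Agent.Helper1.PLength1b
import Cfsg.Agent.Helper1.SylowInt

set_option autoImplicit false
set_option linter.unusedSectionVars false
set_option linter.unusedVariables false

/-!
Bender–Glauberman Section 11/12: for an exceptional maximal subgroup `M` (with `A ≤ M` elementary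
abelian of order `p ^ 2`, `p ∉ σ(M)`), `M_σ A` is normal in `M`.
-/

namespace Cfsg.Agent.Helper1.BG116

open Cfsg Cfsg.Agent.Helper1 Cfsg.Agent.Helper2 Cfsg.Agent.Helper1.BGT Cfsg.Agent.Helper1.BGU
  Cfsg.Agent.Helper1.BGV Cfsg.Agent.Helper1.BGW Cfsg.Agent.Helper1.BGX Cfsg.Agent.Lead.BG12
open scoped commutatorElement Pointwise

universe u

variable {G : Type u} [Group G] [Finite G]
variable {M : Subgroup G} {p : ℕ} [hp : Fact p.Prime] {A₀ A : Subgroup G}

omit [Finite G] in
/-- an elementary abelian subgroup, viewed inside a larger subgroup -/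
theorem isElementaryAbelian_subgroupOf {t : ℕ} {E Q : Subgroup G}
    (hE : Cfsg.IsElementaryAbelian t E) : Cfsg.IsElementaryAbelian t (E.subgroupOf Q) := by
  refine ⟨⟨⟨?_⟩⟩, ?_⟩
  · rintro ⟨x, hx⟩ ⟨y, hy⟩
    apply Subtype.ext
    apply Subtype.ext
    exact isElementaryAbelian_commute hE (Subgroup.mem_subgroupOf.1 hx) (Subgroup.mem_subgroupOf.1 hy)
  · intro a ha
    apply Subtype.ext
    have := hE.2 (a : G) (Subgroup.mem_subgroupOf.1 ha)
    simpa using this

omit [Finite G] in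
theorem isElementaryAbelian_map_subtype {t : ℕ} {Q : Subgroup G} {B : Subgroup ↥Q}
    (hB : Cfsg.IsElementaryAbelian t B) : Cfsg.IsElementaryAbelian t (B.map Q.subtype) := by
  haveI := hB.1
  refine ⟨Subgroup.map_isMulCommutative B _, ?_⟩
  rintro _ ⟨x, hx, rfl⟩
  rw [← map_pow, hB.2 x hx, map_one]

/-- (F1): in the exceptional situation, an `A`-invariant `t`-subgroup of `M` (`t ∉ σ(M)`,
`t ≠ p`) meeting `C(A)` nontrivially is centralized by `A`. -/
theorem le_centralizer_of_inf_ne_bot (e : Exc M p A₀ A) {t : ℕ} [ht : Fact t.Prime]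
    (htσ : t ∉ Cfsg.sigma M) (htp : t ≠ p) {T : Subgroup G} (hTM : T ≤ M) (hTt : IsPGroup t ↥T)
    (hAT : A ≤ Subgroup.normalizer (T : Set G))
    (hne : T ⊓ Subgroup.centralizer (A : Set G) ≠ ⊥) :
    T ≤ Subgroup.centralizer (A : Set G) := by
  have hG := e.min
  have hM := e.coatom
  have hcopAT : (Nat.card A).Coprime (Nat.card T) :=
    isPGroup_card_coprime_card (Ne.symm htp) e.isPGroup hTt
  have hXt : IsPGroup t ↥(T ⊓ Subgroup.centralizer (A : Set G)) := hTt.to_le inf_le_left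
  have hdX : t ∣ Nat.card ↥(T ⊓ Subgroup.centralizer (A : Set G)) :=
    dvd_card_of_isPGroup_ne_bot hXt hne
  by_cases hcyc : IsCyclic ↥T
  · haveI : IsMulCommutative T := IsCyclic.isMulCommutative
    obtain ⟨h1, h2⟩ := abelian_coprime_decomp A T hAT hcopAT
    by_cases hY : ⁅T, A⁆ = ⊥
    · rw [hY, sup_bot_eq] at h2
      exact inf_eq_left.1 h2
    · exfalso
      have hYT : ⁅T, A⁆ ≤ T := le_sup_right.trans h2.le
      have hYt : IsPGroup t ↥⁅T, A⁆ := hTt.to_le hYT
      have hdY : t ∣ Nat.card ↥⁅T, A⁆ := dvd_card_of_isPGroup_ne_bot hYt hY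
      obtain ⟨x, hx⟩ := exists_prime_orderOf_dvd_card' t hdX
      obtain ⟨y, hy⟩ := exists_prime_orderOf_dvd_card' t hdY
      have hx' : orderOf (x : G) = t := by rw [Subgroup.orderOf_coe]; exact hx
      have hy' : orderOf (y : G) = t := by rw [Subgroup.orderOf_coe]; exact hy
      have hzx : Subgroup.zpowers (x : G) ≤ T := by
        rw [Subgroup.zpowers_le]; exact x.2.1
      have hzy : Subgroup.zpowers (y : G) ≤ T := by
        rw [Subgroup.zpowers_le]; exact hYT y.2
      have heq : Subgroup.zpowers (x : G) = Subgroup.zpowers (y : G) := by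
        apply Cfsg.Agent.Lead.BG12.eq_of_card_eq_of_le_isCyclic hcyc hzx hzy
        rw [Nat.card_zpowers, Nat.card_zpowers, hx', hy']
      have hxY : (x : G) ∈ ⁅T, A⁆ := by
        have : (x : G) ∈ Subgroup.zpowers (y : G) := by
          rw [← heq]; exact Subgroup.mem_zpowers _
        exact (Subgroup.zpowers_le.2 y.2) this
      have hxbot : (x : G) ∈ (⊥ : Subgroup G) := by
        rw [← h1]; exact ⟨x.2, hxY⟩
      rw [Subgroup.mem_bot] at hxbot
      rw [hxbot, orderOf_one] at hx'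
      exact ht.out.one_lt.ne hx'
  · -- `T` is not cyclic
    have hT1 : T ≠ ⊥ := fun h => hne (by rw [h, bot_inf_eq])
    have hodd : Odd (Nat.card G) := hG.1
    have ht2 : t ≠ 2 := by
      rintro rfl
      have h1 : 2 ∣ Nat.card G :=
        (dvd_card_of_isPGroup_ne_bot hTt hT1).trans (Subgroup.card_subgroup_dvd_card T)
      exact (Nat.not_even_iff_odd.2 hodd) (even_iff_two_dvd.2 h1)
    obtain ⟨E, hET, hEe, hEcard, -⟩ := exists_normal_ea2 ht2 hTt hcyc
    have hEM : E ≤ M := hET.trans hTM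
    have hr2 : Cfsg.PRankLE t 2 ↥M := pRankLE_of_not_mem_sigma hG hM ht.out htσ
    have hr1 : ¬ Cfsg.PRankLE t 1 ↥M := by
      apply not_pRankLE_of_hasEA
      refine ⟨E, hEM, hEe, ?_⟩
      rw [hEcard]
      exact Nat.pow_lt_pow_right ht.out.one_lt (by norm_num)
    have hEmax := (lemma105 hG M hM t htσ hr2 hr1).2 E hEM hEe hEcard
    -- a maximal `A`-invariant `t`-subgroup containing `T`
    have hTinv : T ∈ Cfsg.invSubgroups ⊤ A {t} := (mem_invSubgroups_top ht.out).2 ⟨hTt, hAT⟩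
    obtain ⟨Q, hQmax, hTQ⟩ := exists_max_ge hTinv
    obtain ⟨hQt, hAQ⟩ := (mem_invSubgroups_top ht.out).1 hQmax.1
    have hnarrow : Cfsg.IsNarrow t ↥Q := by
      by_cases hr : Cfsg.PRankLE t 2 ↥Q
      · exact Or.inl hr
      · have hEQ : E ≤ Q := hET.trans hTQ
        apply Cfsg.Agent.Lead.BG108.isNarrow_of_max_elementary t ht2 hQt hr (E.subgroupOf Q)
          (isElementaryAbelian_subgroupOf hEe)
        · rw [Cfsg.Agent.Lead.card_subgroupOf_of_le hEQ]; exact hEcard
        · intro B hB hEB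
          have h1 : E ≤ B.map Q.subtype := by
            intro x hx
            exact ⟨⟨x, hEQ hx⟩, hEB (Subgroup.mem_subgroupOf.2 hx), rfl⟩
          have h2 := hEmax (B.map Q.subtype) (isElementaryAbelian_map_subtype hB) h1
          ext ⟨x, hxQ⟩
          rw [Subgroup.mem_subgroupOf]
          constructor
          · intro hx
            rw [← h2]
            exact ⟨⟨x, hxQ⟩, hx, rfl⟩
          · intro hx
            exact hEB (Subgroup.mem_subgroupOf.2 hx)
    have hyp : Hyp A t := Hyp.of hG e.transHyp ht.out (by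
      rw [e.card]
      intro hd
      exact htp ((Nat.prime_dvd_prime_iff_eq ht.out hp.out).1 (ht.out.dvd_of_dvd_pow hd)))
    have hZ : ¬ Cfsg.RankLE 1 ↥(A ⊓ Subgroup.centralizer (A : Set G)) := by
      intro hr
      have h1 := hr p hp.out
      revert h1
      apply not_pRankLE_of_hasEA
      refine ⟨A, le_inf le_rfl e.le_centralizer, e.elem, ?_⟩
      rw [e.card]
      exact Nat.pow_lt_pow_right hp.out.one_lt (by norm_num)
    have hqC : t ∣ Nat.card (Subgroup.centralizer (A : Set G)) :=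
      hdX.trans (Subgroup.card_dvd_of_le inf_le_right)
    obtain ⟨P, hAP, -, -, hPQ⟩ :=
      Cfsg.Agent.Helper1.BG1011.thm1011 hG hyp e.isPGroup hZ hqC hQmax
    have hAQc : A ≤ Subgroup.centralizer (Q : Set G) := hAP.trans (hPQ hnarrow)
    exact hTQ.trans (le_centralizer_symm hAQc)

omit [Finite G] in
/-- an element normalizing `X` and `Y` normalizes `X ⊔ Y` -/
theorem mem_normalizer_sup {X Y : Subgroup G} {x : G}
    (hX : x ∈ Subgroup.normalizer (X : Set G)) (hY : x ∈ Subgroup.normalizer (Y : Set G)) :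
    x ∈ Subgroup.normalizer ((X ⊔ Y : Subgroup G) : Set G) := by
  have key : ∀ y : G, y ∈ Subgroup.normalizer (X : Set G) → y ∈ Subgroup.normalizer (Y : Set G) →
      ∀ z ∈ X ⊔ Y, y * z * y⁻¹ ∈ X ⊔ Y := by
    intro y hyX hyY z hz
    have h : (X ⊔ Y).map (MulAut.conj y).toMonoidHom ≤ X ⊔ Y := by
      rw [Subgroup.map_sup]
      apply sup_le_sup
      · rintro _ ⟨w, hw, rfl⟩
        exact (Subgroup.mem_normalizer_iff.1 hyX w).1 hw
      · rintro _ ⟨w, hw, rfl⟩
        exact (Subgroup.mem_normalizer_iff.1 hyY w).1 hw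
    exact h ⟨z, hz, rfl⟩
  rw [Subgroup.mem_normalizer_iff]
  intro z
  constructor
  · exact key x hX hY z
  · intro hz
    have := key x⁻¹ (Subgroup.inv_mem _ hX) (Subgroup.inv_mem _ hY) _ hz
    have e1 : x⁻¹ * (x * z * x⁻¹) * x⁻¹⁻¹ = z := by group
    rwa [e1] at this

/-- the centre of a nontrivial `t`-subgroup is nontrivial -/
theorem inf_centralizer_self_ne_bot {t : ℕ} [ht : Fact t.Prime] {T : Subgroup G}
    (hTt : IsPGroup t ↥T) (hT1 : T ≠ ⊥) : T ⊓ Subgroup.centralizer (T : Set G) ≠ ⊥ := by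
  haveI : Nontrivial ↥T := (Subgroup.nontrivial_iff_ne_bot T).2 hT1
  have h1 := hTt.bot_lt_center
  obtain ⟨⟨z, hz⟩, hz1'⟩ := (Subgroup.ne_bot_iff_exists_ne_one).1 h1.ne'
  have hz1 : z ≠ 1 := fun h => hz1' (Subtype.ext h)
  intro hbot
  have hzmem : (z : G) ∈ T ⊓ Subgroup.centralizer (T : Set G) := by
    refine Subgroup.mem_inf.2 ⟨z.2, ?_⟩
    rw [Subgroup.mem_centralizer_iff]
    intro y hy
    have := (Subgroup.mem_center_iff.1 hz) ⟨y, hy⟩
    exact congrArg Subtype.val this
  rw [hbot, Subgroup.mem_bot] at hzmem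
  apply hz1
  apply Subtype.ext
  exact hzmem

/-- (D), small primes: an `A`-invariant `t`-subgroup of `M` with `t < p`, `t ∉ σ(M)`, is
centralized by `A`. -/
theorem le_centralizer_of_lt (e : Exc M p A₀ A) {t : ℕ} [ht : Fact t.Prime]
    (htσ : t ∉ Cfsg.sigma M) (htp : t < p) {T : Subgroup G} (hTM : T ≤ M) (hTt : IsPGroup t ↥T)
    (hAT : A ≤ Subgroup.normalizer (T : Set G)) : T ≤ Subgroup.centralizer (A : Set G) := by
  have hG := e.min
  have hM := e.coatom
  by_cases hT1 : T = ⊥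
  · rw [hT1]; exact bot_le
  have hd : t ∣ Nat.card ↥M :=
    (dvd_card_of_isPGroup_ne_bot hTt hT1).trans (Subgroup.card_dvd_of_le hTM)
  have hβ : t ∉ Cfsg.beta M := fun h => htσ (alpha_subset_sigma hG hM h.1)
  have h3 := (Cfsg.Agent.Lead.BG108.prime_part hG hM ht.out hd hβ).2.2 p hp.out
  have hnd : ¬ p ∣ (Cfsg.pPrimeCore t ↥M).index := fun h => absurd (h3 h) (by omega)
  haveI hOn : (Cfsg.pPrimeCore t ↥M).Normal := Cfsg.pPrimeCore_normal t ↥M
  have hcop : p.Coprime (Cfsg.pPrimeCore t ↥M).index := (Nat.Prime.coprime_iff_not_dvd hp.out).2 hnd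
  have hAO : ∀ a (ha : a ∈ A), (⟨a, e.leM ha⟩ : ↥M) ∈ Cfsg.pPrimeCore t ↥M := by
    intro a ha
    apply Cfsg.Agent.Lead.BG12.mem_of_pow_eq_one_of_coprime_index _ hcop
    apply Subtype.ext
    have := e.elem.2 a ha
    simpa using this
  have hcopTO : (Nat.card T).Coprime (Nat.card ((Cfsg.pPrimeCore t ↥M).map M.subtype)) := by
    rw [Subgroup.card_map_of_injective M.subtype_injective]
    obtain ⟨k, hk⟩ := IsPGroup.iff_card.1 hTt
    rw [hk]
    exact Nat.Coprime.pow_left k (card_pPrimeCore_coprime t).symm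
  have hinf : T ⊓ (Cfsg.pPrimeCore t ↥M).map M.subtype = ⊥ := (Subgroup.disjoint_of_coprime_natCard hcopTO).eq_bot
  intro x hx
  rw [Subgroup.mem_centralizer_iff]
  intro a ha
  have hw1 : x * (a * x⁻¹ * a⁻¹) ∈ T :=
    T.mul_mem hx ((Subgroup.mem_normalizer_iff.1 (hAT ha) x⁻¹).1 (T.inv_mem hx))
  have hw2 : x * (a * x⁻¹ * a⁻¹) ∈ (Cfsg.pPrimeCore t ↥M).map M.subtype := by
    have h1 : (⟨x, hTM hx⟩ : ↥M) * ⟨a, e.leM ha⟩ * (⟨x, hTM hx⟩ : ↥M)⁻¹ ∈ Cfsg.pPrimeCore t ↥M :=
      hOn.conj_mem _ (hAO a ha) _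
    have h2 := Subgroup.mul_mem _ h1 (Subgroup.inv_mem _ (hAO a ha))
    refine ⟨_, h2, ?_⟩
    simp only [Subgroup.coe_subtype, Subgroup.coe_mul, Subgroup.coe_inv]
    group
  have hw : x * (a * x⁻¹ * a⁻¹) ∈ (⊥ : Subgroup G) := by
    rw [← hinf]; exact ⟨hw1, hw2⟩
  rw [Subgroup.mem_bot] at hw
  have : a * x = x * a := by
    have h5 : x * a = (x * (a * x⁻¹ * a⁻¹)) * (a * x) := by group
    rw [h5, hw, one_mul]
  exact this

omit [Finite G] in
theorem isNilpotent_of_le_of_isMulCommutative {Y Z : Subgroup G} [hZ : IsMulCommutative Z]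
    (hYZ : Y ≤ Z) : Group.IsNilpotent ↥Y := by
  letI : CommGroup ↥Y :=
    { (inferInstance : Group ↥Y) with
      mul_comm := by
        rintro ⟨a, ha⟩ ⟨b, hb⟩
        apply Subtype.ext
        have h := congrArg Subtype.val (hZ.is_comm.comm ⟨a, hYZ ha⟩ ⟨b, hYZ hb⟩)
        exact h }
  exact CommGroup.isNilpotent

/-- (D), large primes: an `A`-invariant Sylow `t`-subgroup of `M` with `p < t`, `t ∉ σ(M)`, is
centralized by `A`. -/
theorem le_centralizer_of_gt (e : Exc M p A₀ A) {t : ℕ} [ht : Fact t.Prime]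
    (htσ : t ∉ Cfsg.sigma M) (hpt : p < t) {T : Subgroup G} (hTM : T ≤ M) (hTt : IsPGroup t ↥T)
    (hTcard : Nat.card T = t ^ (Nat.card M).factorization t)
    (hAT : A ≤ Subgroup.normalizer (T : Set G)) : T ≤ Subgroup.centralizer (A : Set G) := by
  have hG := e.min
  have hM := e.coatom
  by_contra hnot
  have htp : t ≠ p := ne_of_gt hpt
  have hbot : T ⊓ Subgroup.centralizer (A : Set G) = ⊥ := by
    by_contra hne
    exact hnot (le_centralizer_of_inf_ne_bot e htσ htp hTM hTt hAT hne)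
  have hT1 : T ≠ ⊥ := by
    rintro rfl
    exact hnot bot_le
  set Z := T ⊓ Subgroup.centralizer (T : Set G) with hZ
  have hZ1 : Z ≠ ⊥ := inf_centralizer_self_ne_bot hTt hT1
  have hZT : Z ≤ T := inf_le_left
  have hNTZ : Subgroup.normalizer (T : Set G) ≤ Subgroup.normalizer (Z : Set G) :=
    le_normalizer_inf le_rfl (normalizer_le_normalizer_centralizer T)
  have hAZ : A ≤ Subgroup.normalizer (Z : Set G) := hAT.trans hNTZ
  haveI hZcomm : IsMulCommutative Z := by
    refine ⟨⟨?_⟩⟩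
    rintro ⟨a, ha⟩ ⟨b, hb⟩
    apply Subtype.ext
    exact (Subgroup.mem_centralizer_iff.1 ha.2 b hb.1).symm
  have hZt : IsPGroup t ↥Z := hTt.to_le hZT
  have hZA : Z ⊓ Subgroup.centralizer (A : Set G) = ⊥ := by
    rw [eq_bot_iff, ← hbot]
    exact inf_le_inf_right _ hZT
  obtain ⟨n, hn, hnM⟩ := e.exists_normalizer_not_mem
  have hn2 : n ^ 2 ∈ Subgroup.normalizer (A : Set G) := Subgroup.pow_mem _ hn 2
  have hn2M := e.sq_not_mem hnM
  obtain ⟨-, hB1A, -, hf1⟩ := e.fpf_of_normalizer hn hnM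
  obtain ⟨-, hB2A, -, hf2⟩ := e.fpf_of_normalizer hn2 hn2M
  have hne12 := e.conj_ne_conj_sq hnM
  set B1 := MulAut.conj n • A₀ with hB1
  set B2 := MulAut.conj (n ^ 2) • A₀ with hB2
  have hB1card : Nat.card B1 = p := by rw [hB1, card_conj_smul]; exact e.card₀
  have hB2card : Nat.card B2 = p := by rw [hB2, card_conj_smul]; exact e.card₀
  -- `A = B1 ⊔ B2`
  have hA12 : B1 ⊔ B2 = A := by
    have hle : B1 ⊔ B2 ≤ A := sup_le hB1A hB2A
    have hdvd : Nat.card ↥(B1 ⊔ B2) ∣ p ^ 2 := by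
      rw [← e.card]; exact Subgroup.card_dvd_of_le hle
    obtain ⟨j, hj2, hj⟩ := (Nat.dvd_prime_pow hp.out).1 hdvd
    have hj0 : j ≠ 0 := by
      rintro rfl
      rw [pow_zero] at hj
      have h1 : Nat.card B1 ∣ Nat.card ↥(B1 ⊔ B2) := Subgroup.card_dvd_of_le le_sup_left
      rw [hj, hB1card] at h1
      exact hp.out.one_lt.ne' (Nat.dvd_one.1 h1)
    have hj1 : j ≠ 1 := by
      rintro rfl
      rw [pow_one] at hj
      have h1 : B1 = B1 ⊔ B2 :=
        Subgroup.eq_of_le_of_card_ge le_sup_left (by rw [hj, hB1card])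
      have h2 : B2 ≤ B1 := by rw [h1]; exact le_sup_right
      have h3 : B2 = B1 := Subgroup.eq_of_le_of_card_ge h2 (by rw [hB1card, hB2card])
      exact hne12 h3.symm
    have hj2' : j = 2 := by omega
    rw [hj2'] at hj
    exact Subgroup.eq_of_le_of_card_ge hle (by rw [hj, e.card])
  have hB1Z : B1 ≤ Subgroup.normalizer (Z : Set G) := hB1A.trans hAZ
  have hB2Z : B2 ≤ Subgroup.normalizer (Z : Set G) := hB2A.trans hAZ
  have hB1p : IsPGroup p ↥B1 := IsPGroup.of_card (n := 1) (by rw [hB1card, pow_one])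
  have hcop1 : (Nat.card B1).Coprime (Nat.card Z) :=
    isPGroup_card_coprime_card (Ne.symm htp) hB1p hZt
  obtain ⟨hd1, hd2⟩ := abelian_coprime_decomp B1 Z hB1Z hcop1
  have hZM : Z ≤ M := hZT.trans hTM
  have hMσ := le_normalizer_sigmaCore M
  have hσsolv : Group.IsSolvable ↥(Cfsg.sigmaCore M) :=
    isSolvable_of_le sigmaCore_le (hG.2.2.2 M hM.1)
  have hcopY : ∀ Y : Subgroup G, Y ≤ Z →
      (Nat.card Y * p).Coprime (Nat.card (Cfsg.sigmaCore M)) := by
    intro Y hYZ
    apply Nat.Coprime.mul_left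
    · have hYt : IsPGroup t ↥Y := hZt.to_le hYZ
      obtain ⟨k, hk⟩ := IsPGroup.iff_card.1 hYt
      rw [hk]
      apply Nat.Coprime.pow_left
      rw [Nat.Prime.coprime_iff_not_dvd ht.out]
      intro hd
      exact htσ (Cfsg.Agent.Lead.BG12.mem_sigma_of_dvd_card_sigmaCore ht.out hd)
    · rw [Nat.Prime.coprime_iff_not_dvd hp.out]
      intro hd
      exact e.notσ (Cfsg.Agent.Lead.BG12.mem_sigma_of_dvd_card_sigmaCore hp.out hd)
  have hYZ1 : ⁅Z, B1⁆ ≤ Z := le_sup_right.trans hd2.le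
  -- first application of the Frobenius lemma
  have hc1 : ⁅Z, B1⁆ ≤ Subgroup.centralizer ((Cfsg.sigmaCore M : Subgroup G) : Set G) := by
    apply Cfsg.Agent.Helper3.FrobG2.le_centralizer_of_frobenius ⁅Z, B1⁆ B1 (Cfsg.sigmaCore M)
      (isNilpotent_of_le_of_isMulCommutative hYZ1) (by rw [hB1card]; exact hp.out)
      (le_normalizer_commutator hB1Z Subgroup.le_normalizer)
    · rw [eq_bot_iff, ← hd1]
      exact le_inf (le_inf (inf_le_left.trans hYZ1) inf_le_right) inf_le_left
    · exact (hYZ1.trans hZM).trans hMσ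
    · exact (hB1A.trans e.leM).trans hMσ
    · exact hσsolv
    · rw [hB1card]; exact hcopY _ hYZ1
    · exact hf1
  have hAcomm := e.le_centralizer
  have hB2cB1 : B2 ≤ Subgroup.centralizer (B1 : Set G) :=
    (hB2A.trans hAcomm).trans (Subgroup.centralizer_le (SetLike.coe_subset_coe.2 hB1A))
  have hc2 : Z ⊓ Subgroup.centralizer (B1 : Set G) ≤
      Subgroup.centralizer ((Cfsg.sigmaCore M : Subgroup G) : Set G) := by
    apply Cfsg.Agent.Helper3.FrobG2.le_centralizer_of_frobenius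
      (Z ⊓ Subgroup.centralizer (B1 : Set G)) B2 (Cfsg.sigmaCore M)
      (isNilpotent_of_le_of_isMulCommutative inf_le_left) (by rw [hB2card]; exact hp.out)
      (le_normalizer_inf hB2Z ((hB2cB1.trans (Subgroup.centralizer_le_normalizer _)).trans
        (normalizer_le_normalizer_centralizer B1)))
    · rw [eq_bot_iff, ← hZA]
      refine le_inf (inf_le_left.trans inf_le_left) ?_
      -- centralizes `B1 ⊔ B2 = A`
      have h1 : B1 ≤ Subgroup.centralizer
          ((Z ⊓ Subgroup.centralizer (B1 : Set G) ⊓ Subgroup.centralizer (B2 : Set G) :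
            Subgroup G) : Set G) :=
        le_centralizer_symm (inf_le_left.trans inf_le_right)
      have h2 : B2 ≤ Subgroup.centralizer
          ((Z ⊓ Subgroup.centralizer (B1 : Set G) ⊓ Subgroup.centralizer (B2 : Set G) :
            Subgroup G) : Set G) :=
        le_centralizer_symm inf_le_right
      have h3 := sup_le h1 h2
      rw [hA12] at h3
      exact le_centralizer_symm h3
    · exact (inf_le_left.trans hZM).trans hMσ
    · exact (hB2A.trans e.leM).trans hMσ
    · exact hσsolv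
    · rw [hB2card]; exact hcopY _ inf_le_left
    · exact hf2
  have hZc : Z ≤ Subgroup.centralizer ((Cfsg.sigmaCore M : Subgroup G) : Set G) := by
    rw [← hd2]; exact sup_le hc2 hc1
  have hσZ : Cfsg.sigmaCore M ≤ Subgroup.normalizer (Z : Set G) :=
    (le_centralizer_symm hZc).trans (Subgroup.centralizer_le_normalizer _)
  -- `N(Z)` is proper
  have hNtop : Subgroup.normalizer (Z : Set G) ≠ ⊤ := by
    intro htop
    haveI := hG.2.1
    have hn' : Z.Normal := Subgroup.normalizer_eq_top_iff.mp htop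
    rcases hn'.eq_bot_or_eq_top with h1 | h1
    · exact hZ1 h1
    · apply hM.1
      rw [eq_top_iff, ← h1]; exact hZM
  obtain ⟨H, hH, hNH⟩ := (eq_top_or_exists_le_coatom _).resolve_left hNtop
  have hHM : H = M := e.eq_of_sigmaCore_le hH (hAZ.trans hNH) (hσZ.trans hNH)
  have hNTM : Subgroup.normalizer (T : Set G) ≤ M := by
    rw [← hHM]; exact hNTZ.trans hNH
  exact htσ (mem_sigma_of_normalizer_le hTM hT1 hTt hTcard hNTM)

/-- every `A`-invariant Sylow `t`-subgroup (`t ∉ σ(M)`, `t ≠ p`) of `K = O_{p'}(M)` is centralized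
by `A` -/
theorem sylow_pPrimeCore_le_centralizer (e : Exc M p A₀ A) {t : ℕ} [ht : Fact t.Prime]
    (htσ : t ∉ Cfsg.sigma M) (htp : t ≠ p) {K : Subgroup G}
    (hK : K = (Cfsg.pPrimeCore p ↥M).map M.subtype) (P : Sylow t ↥K)
    (hAP : A ≤ Subgroup.normalizer (((P : Subgroup ↥K).map K.subtype : Subgroup G) : Set G)) :
    (P : Subgroup ↥K).map K.subtype ≤ Subgroup.centralizer (A : Set G) := by
  have hG := e.min
  have hM := e.coatom
  have hKM : K ≤ M := by rw [hK]; exact Subgroup.map_subtype_le _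
  have hTK : (P : Subgroup ↥K).map K.subtype ≤ K := Subgroup.map_subtype_le _
  have hTt : IsPGroup t ↥((P : Subgroup ↥K).map K.subtype) := P.2.map _
  rcases lt_or_gt_of_ne htp with hlt | hgt
  · exact le_centralizer_of_lt e htσ hlt (hTK.trans hKM) hTt hAP
  · apply le_centralizer_of_gt e htσ hgt (hTK.trans hKM) hTt _ hAP
    rw [Subgroup.card_map_of_injective K.subtype_injective, P.card_eq_multiplicity]
    congr 1
    have hpM : p ∣ Nat.card ↥M := by
      have h1 : p ∣ Nat.card A := by rw [e.card]; exact dvd_pow_self p (by norm_num)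
      exact h1.trans (Subgroup.card_dvd_of_le e.leM)
    have hβ : p ∉ Cfsg.beta M := fun h => e.notσ (alpha_subset_sigma hG hM h.1)
    have h3 := (Cfsg.Agent.Lead.BG108.prime_part hG hM hp.out hpM hβ).2.2 t ht.out
    have hnd : ¬ t ∣ (Cfsg.pPrimeCore p ↥M).index := fun h => absurd (h3 h) (by omega)
    rw [hK, Subgroup.card_map_of_injective M.subtype_injective]
    exact Cfsg.Agent.Lead.BG12.factorization_eq_of_not_dvd_index ht.out hnd

/-- **(D)**: in the exceptional situation, `M_σ A` is normal in `M`. -/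
theorem le_normalizer_sigmaCore_sup (e : Exc M p A₀ A) :
    M ≤ Subgroup.normalizer ((Cfsg.sigmaCore M ⊔ A : Subgroup G) : Set G) := by
  have hG := e.min
  have hM := e.coatom
  haveI hsolvM : Group.IsSolvable ↥M := hG.2.2.2 M hM.1
  haveI hK'n : (Cfsg.pPrimeCore p ↥M).Normal := Cfsg.pPrimeCore_normal p ↥M
  have hK'cop : (Nat.card (Cfsg.pPrimeCore p ↥M)).Coprime p := card_pPrimeCore_coprime p
  obtain ⟨K₀, hK₀n, hK₀cop, hK₀S⟩ := exists_normal_of_pLengthLE_one p (e.pl p M hM.1)
  have hK₀K : K₀ ≤ Cfsg.pPrimeCore p ↥M := le_sSup ⟨hK₀n, hK₀cop⟩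
  obtain ⟨T, hAT, hTM, hTp, hTcard, -⟩ := e.exists_sylow
  have hcard' : Nat.card (T.subgroupOf M) = p ^ (Nat.card M).factorization p := by
    rw [Cfsg.Agent.Lead.card_subgroupOf_of_le hTM]; exact hTcard
  set S : Sylow p ↥M := Sylow.ofCard (T.subgroupOf M) hcard' with hS
  have hScoe : (S : Subgroup ↥M) = T.subgroupOf M := Sylow.coe_ofCard _ _
  have hKS : (Cfsg.pPrimeCore p ↥M ⊔ (S : Subgroup ↥M)).Normal := by
    have h1 : Cfsg.pPrimeCore p ↥M ⊔ (S : Subgroup ↥M) =
        Cfsg.pPrimeCore p ↥M ⊔ (K₀ ⊔ (S : Subgroup ↥M)) := by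
      rw [← sup_assoc, sup_eq_left.2 hK₀K]
    rw [h1]
    haveI := hK₀S S
    exact Subgroup.sup_normal _ _
  have htop := sup_normalizer_eq_top_of_sup_normal (Cfsg.pPrimeCore p ↥M) hK'cop S hKS
  set K := (Cfsg.pPrimeCore p ↥M).map M.subtype with hK
  have hKM : K ≤ M := Subgroup.map_subtype_le _
  have hMσ := le_normalizer_sigmaCore M
  have hσM : Cfsg.sigmaCore M ≤ M := sigmaCore_le
  have hσK : Cfsg.sigmaCore M ≤ K := by
    apply Subgroup.map_mono
    apply le_sSup
    refine ⟨inferInstance, ?_⟩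
    rw [Nat.coprime_comm, Nat.Prime.coprime_iff_not_dvd hp.out]
    intro hd
    exact e.notσ (piCore_isPi _ p hp.out hd)
  have hAK : A ≤ Subgroup.normalizer (K : Set G) :=
    e.leM.trans (le_normalizer_map_subtype _)
  have hcardK : Nat.card K = Nat.card (Cfsg.pPrimeCore p ↥M) :=
    Subgroup.card_map_of_injective M.subtype_injective
  have hcopAK : (Nat.card A).Coprime (Nat.card K) := by
    rw [e.card, hcardK]; exact Nat.Coprime.pow_left 2 hK'cop.symm
  haveI := e.elem.1
  have hsolvA : Group.IsSolvable ↥A := isSolvable_of_isMulCommutative A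
  set L₂ := Cfsg.sigmaCore M ⊔ (K ⊓ Subgroup.centralizer (A : Set G)) with hL₂
  have hL₂K : L₂ ≤ K := sup_le hσK inf_le_left
  have hdvd : Nat.card K ∣ Nat.card L₂ := by
    rw [← Nat.factorization_prime_le_iff_dvd Nat.card_pos.ne' Nat.card_pos.ne']
    intro t ht
    haveI := Fact.mk ht
    by_cases htp : t = p
    · rw [htp, Nat.factorization_eq_zero_of_not_dvd]
      · exact Nat.zero_le _
      · rw [hcardK]
        exact (Nat.Prime.coprime_iff_not_dvd hp.out).1 hK'cop.symm
    by_cases htσ : t ∈ Cfsg.sigma M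
    · calc (Nat.card K).factorization t ≤ (Nat.card M).factorization t :=
            (Nat.factorization_le_iff_dvd Nat.card_pos.ne' Nat.card_pos.ne').2
              (Subgroup.card_dvd_of_le hKM) t
        _ = (Nat.card (Cfsg.sigmaCore M)).factorization t :=
            (Cfsg.Agent.Lead.BG12.factorization_eq_of_not_dvd_relIndex sigmaCore_le ht
              (not_dvd_relIndex_sigmaCore hG hM ht htσ)).symm
        _ ≤ (Nat.card L₂).factorization t :=
            (Nat.factorization_le_iff_dvd Nat.card_pos.ne' Nat.card_pos.ne').2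
              (Subgroup.card_dvd_of_le le_sup_left) t
    · obtain ⟨P, hP⟩ := exists_invariant_sylow (p := t) A K hAK hcopAK (Or.inl hsolvA)
      have hc := sylow_pPrimeCore_le_centralizer e htσ htp hK P hP
      have hle : (P : Subgroup ↥K).map K.subtype ≤ L₂ :=
        (le_inf (Subgroup.map_subtype_le _) hc).trans le_sup_right
      have hcard : Nat.card ((P : Subgroup ↥K).map K.subtype) = t ^ (Nat.card K).factorization t := by
        rw [Subgroup.card_map_of_injective K.subtype_injective, P.card_eq_multiplicity]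
      have h1 := Subgroup.card_dvd_of_le hle
      rw [hcard] at h1
      exact (ht.pow_dvd_iff_le_factorization Nat.card_pos.ne').1 h1
  have hL₂eq : L₂ = K := Subgroup.eq_of_le_of_card_ge hL₂K (Nat.le_of_dvd Nat.card_pos hdvd)
  have hKL : K ≤ Subgroup.normalizer ((Cfsg.sigmaCore M ⊔ A : Subgroup G) : Set G) := by
    rw [← hL₂eq]
    apply sup_le
    · exact le_sup_left.trans Subgroup.le_normalizer
    · intro x hx
      exact mem_normalizer_sup (hMσ (hKM hx.1)) (Subgroup.centralizer_le_normalizer _ hx.2)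
  have hgoal : (⊤ : Subgroup ↥M) ≤
      (Subgroup.normalizer ((Cfsg.sigmaCore M ⊔ A : Subgroup G) : Set G)).subgroupOf M := by
    rw [← htop]
    apply sup_le
    · intro k hk
      rw [Subgroup.mem_subgroupOf]
      exact hKL ⟨k, hk, rfl⟩
    · intro n hn
      rw [Subgroup.mem_subgroupOf]
      have hnT : (n : G) ∈ Subgroup.normalizer (T : Set G) := by
        apply Subgroup.mem_normalizer_fintype
        intro y hy
        have h1 := (Subgroup.mem_normalizer_iff.1 hn ⟨y, hTM hy⟩).1 (by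
          rw [hScoe, Subgroup.mem_subgroupOf]; exact hy)
        rw [hScoe, Subgroup.mem_subgroupOf] at h1
        simpa using h1
      exact mem_normalizer_sup (hMσ n.2) (e.normalizer_sylow_le hAT hTM hTp hTcard hnT)
  intro m hm
  exact Subgroup.mem_subgroupOf.1 (hgoal (Subgroup.mem_top ⟨m, hm⟩))

end Cfsg.Agent.Helper1.BG116
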