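import Mathlib
import Cfsg.Prelude
import Cfsg.Agent.Lead.BG124b
import Cfsg.Agent.Helper1.BG116d

set_option autoImplicit false

/-!
The hypothesis `HypD` of `Cfsg.Agent.Lead.BG12.thm124` holds.
-/

namespace Cfsg.Agent.Helper1.BG116

open Cfsg Cfsg.Agent.Lead.BG12

universe u

variable {G : Type u} [Group G] [Finite G]

/-- (D) for all exceptional configurations. -/
theorem hypD : HypD G := by
  intro Ms p _ A₀ A e
  exact le_normalizer_sigmaCore_sup e

end Cfsg.Agent.Helper1.BG116
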