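import Mathlib
import Cfsg.Prelude
import Cfsg.Agent.Helper1.BG116d
import Cfsg.Agent.Helper4.SylowCoprime
import Cfsg.Agent.Helper1.PQLemma

set_option autoImplicit false
set_option linter.unusedSectionVars false
set_option linter.unusedVariables false

/-!
Shared lemmas for Bender–Glauberman 12.7–12.13 (exceptional maximal subgroups).
-/

namespace Cfsg.Agent.Helper1.BG127

open Cfsg Cfsg.Agent.Helper1 Cfsg.Agent.Helper2 Cfsg.Agent.Helper1.BGT Cfsg.Agent.Helper1.BGU
  Cfsg.Agent.Helper1.BGV Cfsg.Agent.Helper1.BGW Cfsg.Agent.Helper1.BGX Cfsg.Agent.Lead.BG12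
  Cfsg.Agent.Helper1.BG116
open scoped commutatorElement Pointwise

universe u

variable {G : Type u} [Group G]

/-! ### Generalities -/

/-- `C(Y ^ g) ≤ D ^ g` when `C(Y) ≤ D`. -/
theorem centralizer_conj_smul_le {Y D : Subgroup G} (g : G)
    (h : Subgroup.centralizer (Y : Set G) ≤ D) :
    Subgroup.centralizer ((MulAut.conj g • Y : Subgroup G) : Set G) ≤ MulAut.conj g • D := by
  intro x hx
  rw [mem_conj_smul]
  apply h
  rw [Subgroup.mem_centralizer_iff]
  intro y hy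
  have h1 := Subgroup.mem_centralizer_iff.1 hx (g * y * g⁻¹) (conj_mem_conj_smul hy)
  calc y * (g⁻¹ * x * g) = g⁻¹ * ((g * y * g⁻¹) * x) * g := by group
    _ = g⁻¹ * (x * (g * y * g⁻¹)) * g := by rw [h1]
    _ = g⁻¹ * x * g * y := by group

/-- Two subgroups of prime order sharing a nonidentity element are equal. -/
theorem eq_of_card_prime_of_mem [Finite G] {p : ℕ} [hp : Fact p.Prime] {Y Y' : Subgroup G}
    (hY : Nat.card Y = p) (hY' : Nat.card Y' = p) {y : G} (hy : y ∈ Y) (hy' : y ∈ Y')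
    (hy1 : y ≠ 1) : Y = Y' := by
  have key : ∀ W : Subgroup G, Nat.card W = p → y ∈ W → Subgroup.zpowers y = W := by
    intro W hW hyW
    have hle : Subgroup.zpowers y ≤ W := Subgroup.zpowers_le.2 hyW
    have hd : Nat.card (Subgroup.zpowers y) ∣ p := by
      rw [← hW]; exact Subgroup.card_dvd_of_le hle
    rcases (Nat.dvd_prime hp.out).1 hd with h1 | h1
    · exfalso
      rw [Subgroup.card_eq_one, Subgroup.zpowers_eq_bot] at h1
      exact hy1 h1
    · exact Subgroup.eq_of_le_of_card_ge hle (by rw [h1, hW])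
  rw [← key Y hY hy, key Y' hY' hy']

/-- Two distinct subgroups of order `p` of a group of order `p ^ 2` generate it. -/
theorem sup_eq_of_card_prime_of_ne [Finite G] {p : ℕ} [hp : Fact p.Prime] {A B1 B2 : Subgroup G}
    (hA : Nat.card A = p ^ 2) (hB1A : B1 ≤ A) (hB2A : B2 ≤ A) (hB1card : Nat.card B1 = p)
    (hB2card : Nat.card B2 = p) (hne12 : B1 ≠ B2) : B1 ⊔ B2 = A := by
  have hle : B1 ⊔ B2 ≤ A := sup_le hB1A hB2A
  have hdvd : Nat.card ↥(B1 ⊔ B2) ∣ p ^ 2 := by
    rw [← hA]; exact Subgroup.card_dvd_of_le hle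
  obtain ⟨j, hj2, hj⟩ := (Nat.dvd_prime_pow hp.out).1 hdvd
  have hj0 : j ≠ 0 := by
    rintro rfl
    rw [pow_zero] at hj
    have h1 : Nat.card B1 ∣ Nat.card ↥(B1 ⊔ B2) := Subgroup.card_dvd_of_le le_sup_left
    rw [hj, hB1card] at h1
    exact hp.out.one_lt.ne' (Nat.dvd_one.1 h1)
  have hj1 : j ≠ 1 := by
    rintro rfl
    rw [pow_one] at hj
    have h1 : B1 = B1 ⊔ B2 :=
      Subgroup.eq_of_le_of_card_ge le_sup_left (by rw [hj, hB1card])
    have h2 : B2 ≤ B1 := by rw [h1]; exact le_sup_right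
    have h3 : B2 = B1 := Subgroup.eq_of_le_of_card_ge h2 (by rw [hB1card, hB2card])
    exact hne12 h3.symm
  have hj2' : j = 2 := by omega
  rw [hj2'] at hj
  exact Subgroup.eq_of_le_of_card_ge hle (by rw [hj, hA])

/-- A `p`-group normalizing a group of order `p` centralizes it. -/
theorem le_centralizer_of_card_prime [Finite G] {p : ℕ} [hp : Fact p.Prime] {X W : Subgroup G}
    (hX : IsPGroup p ↥X) (hXW : X ≤ Subgroup.normalizer (W : Set G)) (hW : Nat.card W = p) :
    W ≤ Subgroup.centralizer (X : Set G) := by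
  have h1 := Cfsg.Agent.Helper4.card_modEq_card_inf_centralizer X W hX hXW
  rw [hW] at h1
  have h2 : p ∣ Nat.card ↥(W ⊓ Subgroup.centralizer (X : Set G)) := by
    have h3 : p % p = Nat.card ↥(W ⊓ Subgroup.centralizer (X : Set G)) % p := h1
    rw [Nat.mod_self] at h3
    exact Nat.dvd_of_mod_eq_zero h3.symm
  have h4 : Nat.card ↥(W ⊓ Subgroup.centralizer (X : Set G)) ≤ p := by
    rw [← hW]; exact Subgroup.card_le_of_le inf_le_left
  have h5 : Nat.card ↥(W ⊓ Subgroup.centralizer (X : Set G)) = p :=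
    le_antisymm h4 (Nat.le_of_dvd Nat.card_pos h2)
  have h6 : W ⊓ Subgroup.centralizer (X : Set G) = W :=
    Subgroup.eq_of_le_of_card_ge inf_le_left (by rw [h5, hW])
  exact inf_eq_left.1 h6

/-! ### A `p`-element acting on an elementary abelian group of order `p ^ 2` -/

section PointAction

variable [Finite G] {p : ℕ} [hp : Fact p.Prime] {A : Subgroup G}

/-- commuting with `x` is the same as centralizing `⟨x⟩` -/
theorem mem_centralizer_zpowers_iff {x y : G} :
    y ∈ Subgroup.centralizer ((Subgroup.zpowers x : Subgroup G) : Set G) ↔ x * y = y * x := by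
  rw [Subgroup.mem_centralizer_iff]
  constructor
  · intro h
    exact h x (Subgroup.mem_zpowers x)
  · intro h z hz
    obtain ⟨k, rfl⟩ := Subgroup.mem_zpowers_iff.1 hz
    have hc : Commute x y := h
    exact (hc.zpow_left k).eq

/-- the fixed points of a noncentralizing `p`-element on `A` form a subgroup of order `p` -/
theorem card_inf_centralizer_zpowers (hAcard : Nat.card A = p ^ 2) {x : G}
    (hxN : x ∈ Subgroup.normalizer (A : Set G))
    (hxp : IsPGroup p ↥(Subgroup.zpowers x))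
    (hxC : x ∉ Subgroup.centralizer (A : Set G)) :
    Nat.card ↥(A ⊓ Subgroup.centralizer ((Subgroup.zpowers x : Subgroup G) : Set G)) = p := by
  have hXN : Subgroup.zpowers x ≤ Subgroup.normalizer (A : Set G) := Subgroup.zpowers_le.2 hxN
  have h1 := Cfsg.Agent.Helper4.card_modEq_card_inf_centralizer (Subgroup.zpowers x) A hxp hXN
  rw [hAcard] at h1
  have h2 : p ∣ Nat.card ↥(A ⊓ Subgroup.centralizer ((Subgroup.zpowers x : Subgroup G) : Set G)) := by
    have h3 : p ^ 2 % p =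
        Nat.card ↥(A ⊓ Subgroup.centralizer ((Subgroup.zpowers x : Subgroup G) : Set G)) % p := h1
    have h4 : p ^ 2 % p = 0 := Nat.mod_eq_zero_of_dvd (dvd_pow_self p (by norm_num))
    rw [h4] at h3
    exact Nat.dvd_of_mod_eq_zero h3.symm
  have hdvd : Nat.card ↥(A ⊓ Subgroup.centralizer ((Subgroup.zpowers x : Subgroup G) : Set G)) ∣
      p ^ 2 := by
    rw [← hAcard]; exact Subgroup.card_dvd_of_le inf_le_left
  obtain ⟨j, hj2, hj⟩ := (Nat.dvd_prime_pow hp.out).1 hdvd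
  have hj0 : j ≠ 0 := by
    rintro rfl
    rw [hj, pow_zero] at h2
    exact hp.out.one_lt.ne' (Nat.dvd_one.1 h2)
  have hj2' : j ≠ 2 := by
    rintro rfl
    apply hxC
    have h5 : A ⊓ Subgroup.centralizer ((Subgroup.zpowers x : Subgroup G) : Set G) = A :=
      Subgroup.eq_of_le_of_card_ge inf_le_left (by rw [hj, hAcard])
    have h6 : A ≤ Subgroup.centralizer ((Subgroup.zpowers x : Subgroup G) : Set G) :=
      inf_eq_left.1 h5
    exact le_centralizer_symm h6 (Subgroup.mem_zpowers x)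
  have hj1 : j = 1 := by omega
  rw [hj, hj1, pow_one]

/-- `⟨x⟩` is transitive on the `p` points of `A` other than the fixed point -/
theorem exists_pow_conj_smul_eq (hAe : Cfsg.IsElementaryAbelian p A)
    (hAcard : Nat.card A = p ^ 2) {x : G}
    (hxN : x ∈ Subgroup.normalizer (A : Set G))
    (hxp : IsPGroup p ↥(Subgroup.zpowers x))
    (hxC : x ∉ Subgroup.centralizer (A : Set G)) {Y Y' : Subgroup G} (hYA : Y ≤ A)
    (hY'A : Y' ≤ A) (hY : Nat.card Y = p) (hY' : Nat.card Y' = p)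
    (hYZ : Y ≠ A ⊓ Subgroup.centralizer ((Subgroup.zpowers x : Subgroup G) : Set G))
    (hY'Z : Y' ≠ A ⊓ Subgroup.centralizer ((Subgroup.zpowers x : Subgroup G) : Set G)) :
    ∃ i : ℕ, MulAut.conj (x ^ i) • Y = Y' := by
  set X := Subgroup.zpowers x with hX
  set Z1 := A ⊓ Subgroup.centralizer (X : Set G) with hZ1
  have hZ1card : Nat.card Z1 = p := card_inf_centralizer_zpowers hAcard hxN hxp hxC
  have hXN : X ≤ Subgroup.normalizer (A : Set G) := Subgroup.zpowers_le.2 hxN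
  have hAp : IsPGroup p ↥A := IsPGroup.of_card hAcard
  have hAcomm : A ≤ Subgroup.centralizer (A : Set G) := le_centralizer_of_elementary hAe
  -- a generator of `Y`
  obtain ⟨y, hyY, hy1⟩ : ∃ y ∈ Y, y ≠ 1 := by
    have hne : Y ≠ ⊥ := by
      intro h
      rw [h, Subgroup.card_bot] at hY
      exact hp.out.one_lt.ne hY
    exact (Subgroup.ne_bot_iff_exists_ne_one).1 hne |>.elim (fun ⟨y, hy⟩ h => ⟨y, hy, fun h' => h (Subtype.ext h')⟩)
  have hyA : y ∈ A := hYA hyY
  have hyZ1 : y ∉ Z1 := fun h => hYZ (eq_of_card_prime_of_mem hY hZ1card hyY h hy1)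
  -- the commutator `w`
  set w := y⁻¹ * (x * y * x⁻¹) with hw
  have hxyA : x * y * x⁻¹ ∈ A := (Subgroup.mem_normalizer_iff.1 hxN y).1 hyA
  have hwA : w ∈ A := A.mul_mem (A.inv_mem hyA) hxyA
  have hw1 : w ≠ 1 := by
    intro h
    apply hyZ1
    refine Subgroup.mem_inf.2 ⟨hyA, ?_⟩
    rw [hX, mem_centralizer_zpowers_iff]
    have h2 : x * y * x⁻¹ = y := by
      have : y * w = y := by rw [h, mul_one]
      rw [hw] at this
      simpa [mul_assoc] using this
    calc x * y = (x * y * x⁻¹) * x := by group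
      _ = y * x := by rw [h2]
  have hwZ1 : w ∈ Z1 := by
    have hlt : ⁅A, X⁆ < A := commutator_lt_of_isPGroup hAp hxp hXN (by
      intro h
      rw [h, Subgroup.card_bot] at hAcard
      have : 1 < p ^ 2 := Nat.one_lt_pow (by norm_num) hp.out.one_lt
      omega)
    have hwC : w ∈ ⁅A, X⁆ := by
      have h1 : ⁅y⁻¹, x⁆ ∈ ⁅A, X⁆ :=
        Subgroup.commutator_mem_commutator (A.inv_mem hyA) (Subgroup.mem_zpowers x)
      have h2 : ⁅y⁻¹, x⁆ = w := by
        rw [hw, commutatorElement_def]; group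
      rwa [h2] at h1
    have hdvd : Nat.card ↥⁅A, X⁆ ∣ p ^ 2 := by
      rw [← hAcard]; exact Subgroup.card_dvd_of_le hlt.le
    obtain ⟨j, hj2, hj⟩ := (Nat.dvd_prime_pow hp.out).1 hdvd
    have hj2' : j ≠ 2 := by
      rintro rfl
      exact hlt.ne (Subgroup.eq_of_le_of_card_ge hlt.le (by rw [hj, hAcard]))
    have hj0 : j ≠ 0 := by
      rintro rfl
      rw [pow_zero, Subgroup.card_eq_one] at hj
      rw [hj, Subgroup.mem_bot] at hwC
      exact hw1 hwC
    have hj1 : j = 1 := by omega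
    rw [hj1, pow_one] at hj
    have hXC : X ≤ Subgroup.normalizer ((⁅A, X⁆ : Subgroup G) : Set G) :=
      le_normalizer_commutator hXN Subgroup.le_normalizer
    have h3 := le_centralizer_of_card_prime hxp hXC hj
    exact ⟨hlt.le hwC, h3 hwC⟩
  have hxw : x * w * x⁻¹ = w := by
    have h1 : x * w = w * x := mem_centralizer_zpowers_iff.1 hwZ1.2
    rw [h1]; group
  have hxy : x * y * x⁻¹ = y * w := by rw [hw]; group
  have hpow : ∀ i : ℕ, x ^ i * y * (x ^ i)⁻¹ = y * w ^ i := by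
    intro i
    induction i with
    | zero => simp
    | succ n ih =>
      have h1 : x ^ (n + 1) * y * (x ^ (n + 1))⁻¹ = x * (x ^ n * y * (x ^ n)⁻¹) * x⁻¹ := by
        rw [pow_succ']; group
      rw [h1, ih]
      have h2 : x * (y * w ^ n) * x⁻¹ = (x * y * x⁻¹) * (x * w * x⁻¹) ^ n := by
        rw [conj_pow]; group
      rw [h2, hxy, hxw, pow_succ']
      group
  -- decompose `y` along `A = Y' ⊔ Z1`
  have hsup : Y' ⊔ Z1 = A := sup_eq_of_card_prime_of_ne hAcard hY'A inf_le_left hY' hZ1card hY'Z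
  have hZ1N : Z1 ≤ Subgroup.normalizer (Y' : Set G) :=
    ((inf_le_left.trans hAcomm).trans
      (Subgroup.centralizer_le (SetLike.coe_subset_coe.2 hY'A))).trans
      (Subgroup.centralizer_le_normalizer _)
  have hset := Subgroup.coe_mul_of_right_le_normalizer_left Y' Z1 hZ1N
  have hymem : y ∈ (Y' : Set G) * (Z1 : Set G) := by
    rw [← hset, hsup]; exact hyA
  obtain ⟨y', hy'Y', z'', hz''Z1, hyy⟩ := Set.mem_mul.1 hymem
  have hZ1w : Subgroup.zpowers w = Z1 :=
    Cfsg.Agent.Lead.BG12.zpowers_eq_of_card_prime hZ1card hwZ1 hw1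
  have hz''inv : z''⁻¹ ∈ Subgroup.zpowers w := by rw [hZ1w]; exact Z1.inv_mem hz''Z1
  rw [← mem_powers_iff_mem_zpowers] at hz''inv
  obtain ⟨i, hi⟩ := hz''inv
  refine ⟨i, ?_⟩
  have hi' : w ^ i = z''⁻¹ := hi
  have hy'eq : y' = x ^ i * y * (x ^ i)⁻¹ := by
    rw [hpow i, hi', ← hyy]; group
  have hy'1 : y' ≠ 1 := by
    intro h
    apply hyZ1
    rw [← hyy, h, one_mul]; exact hz''Z1
  have hmem : y' ∈ MulAut.conj (x ^ i) • Y := by
    rw [hy'eq]; exact conj_mem_conj_smul hyY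
  exact eq_of_card_prime_of_mem (by rw [card_conj_smul]; exact hY) hY' hmem hy'Y' hy'1

end PointAction

/-! ### Exceptional maximal subgroups -/

section ExcLemmas

variable [Finite G] {M : Subgroup G} {p : ℕ} [hp : Fact p.Prime] {A₀ A : Subgroup G}

/-- (L0c) If `C(Y) ≤ M` and `n ∈ N(A) ∖ M`, then `Y ^ n` acts without fixed points on `M_σ`. -/
theorem fpf_conj_of_centralizer_le (e : Exc M p A₀ A) {n : G}
    (hn : n ∈ Subgroup.normalizer (A : Set G)) (hnM : n ∉ M) {Y : Subgroup G}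
    (hYM : Subgroup.centralizer (Y : Set G) ≤ M) :
    Cfsg.sigmaCore M ⊓ Subgroup.centralizer ((MulAut.conj n • Y : Subgroup G) : Set G) = ⊥ := by
  obtain ⟨-, -, h3, -⟩ := e.fpf_of_normalizer hn hnM
  rw [eq_bot_iff, ← h3]
  exact inf_le_inf_left _ (centralizer_conj_smul_le n hYM)

/-- (L0a) strong form of (F1): a noncyclic `A`-invariant `t`-subgroup `T` of `M` (`t ∉ σ(M)`,
`t ≠ p`), with `t ∣ |C(A)|`, is centralized by a Sylow `p`-subgroup of `G` containing `A`. -/
theorem exists_sylow_le_centralizer (e : Exc M p A₀ A) {t : ℕ} [ht : Fact t.Prime]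
    (htσ : t ∉ Cfsg.sigma M) (htp : t ≠ p) {T : Subgroup G} (hTM : T ≤ M) (hTt : IsPGroup t ↥T)
    (hAT : A ≤ Subgroup.normalizer (T : Set G)) (hcyc : ¬ IsCyclic ↥T)
    (hqC : t ∣ Nat.card (Subgroup.centralizer (A : Set G))) :
    ∃ P : Sylow p G, A ≤ (P : Subgroup G) ∧
      (P : Subgroup G) ≤ Subgroup.centralizer (T : Set G) := by
  have hG := e.min
  have hM := e.coatom
  have hT1 : T ≠ ⊥ := by
    rintro rfl
    exact hcyc inferInstance
  have hodd : Odd (Nat.card G) := hG.1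
  have ht2 : t ≠ 2 := by
    rintro rfl
    have h1 : 2 ∣ Nat.card G :=
      (dvd_card_of_isPGroup_ne_bot hTt hT1).trans (Subgroup.card_subgroup_dvd_card T)
    exact (Nat.not_even_iff_odd.2 hodd) (even_iff_two_dvd.2 h1)
  obtain ⟨E, hET, hEe, hEcard, -⟩ := exists_normal_ea2 ht2 hTt hcyc
  have hEM : E ≤ M := hET.trans hTM
  have hr2 : Cfsg.PRankLE t 2 ↥M := pRankLE_of_not_mem_sigma hG hM ht.out htσ
  have hr1 : ¬ Cfsg.PRankLE t 1 ↥M := by
    apply not_pRankLE_of_hasEA
    refine ⟨E, hEM, hEe, ?_⟩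
    rw [hEcard]
    exact Nat.pow_lt_pow_right ht.out.one_lt (by norm_num)
  have hEmax := (lemma105 hG M hM t htσ hr2 hr1).2 E hEM hEe hEcard
  have hTinv : T ∈ Cfsg.invSubgroups ⊤ A {t} := (mem_invSubgroups_top ht.out).2 ⟨hTt, hAT⟩
  obtain ⟨Q, hQmax, hTQ⟩ := exists_max_ge hTinv
  obtain ⟨hQt, hAQ⟩ := (mem_invSubgroups_top ht.out).1 hQmax.1
  have hnarrow : Cfsg.IsNarrow t ↥Q := by
    by_cases hr : Cfsg.PRankLE t 2 ↥Q
    · exact Or.inl hr
    · have hEQ : E ≤ Q := hET.trans hTQ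
      apply Cfsg.Agent.Lead.BG108.isNarrow_of_max_elementary t ht2 hQt hr (E.subgroupOf Q)
        (isElementaryAbelian_subgroupOf hEe)
      · rw [Cfsg.Agent.Lead.card_subgroupOf_of_le hEQ]; exact hEcard
      · intro B hB hEB
        have h1 : E ≤ B.map Q.subtype := by
          intro x hx
          exact ⟨⟨x, hEQ hx⟩, hEB (Subgroup.mem_subgroupOf.2 hx), rfl⟩
        have h2 := hEmax (B.map Q.subtype) (isElementaryAbelian_map_subtype hB) h1
        ext ⟨x, hxQ⟩
        rw [Subgroup.mem_subgroupOf]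
        constructor
        · intro hx
          rw [← h2]
          exact ⟨⟨x, hxQ⟩, hx, rfl⟩
        · intro hx
          exact hEB (Subgroup.mem_subgroupOf.2 hx)
  have hyp : Hyp A t := Hyp.of hG e.transHyp ht.out (by
    rw [e.card]
    intro hd
    exact htp ((Nat.prime_dvd_prime_iff_eq ht.out hp.out).1 (ht.out.dvd_of_dvd_pow hd)))
  have hZ : ¬ Cfsg.RankLE 1 ↥(A ⊓ Subgroup.centralizer (A : Set G)) := by
    intro hr
    have h1 := hr p hp.out
    revert h1
    apply not_pRankLE_of_hasEA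
    refine ⟨A, le_inf le_rfl e.le_centralizer, e.elem, ?_⟩
    rw [e.card]
    exact Nat.pow_lt_pow_right hp.out.one_lt (by norm_num)
  obtain ⟨P, hAP, -, -, hPQ⟩ :=
    Cfsg.Agent.Helper1.BG1011.thm1011 hG hyp e.isPGroup hZ hqC hQmax
  exact ⟨P, hAP, (hPQ hnarrow).trans (Subgroup.centralizer_le (SetLike.coe_subset_coe.2 hTQ))⟩

/-- (L0b) For a prime `q ∉ σ(M)`, `q ≠ p`, with `M` of `q`-rank at most one, `O_q(M) = 1`. -/
theorem normal_eq_bot_of_pRankLE_one (e : Exc M p A₀ A) {q : ℕ} [hq : Fact q.Prime]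
    (hqσ : q ∉ Cfsg.sigma M) (hqp : q ≠ p) (hr1 : Cfsg.PRankLE q 1 ↥M) {Q : Subgroup G}
    (hQM : Q ≤ M) (hQq : IsPGroup q ↥Q) (hMQ : M ≤ Subgroup.normalizer (Q : Set G)) :
    Q = ⊥ := by
  have hG := e.min
  have hM := e.coatom
  by_contra hQ1
  have hQcyc : IsCyclic ↥Q := isCyclic_of_pRankLE_one hG.1 hr1 hQM hQq
  have hdQ : q ∣ Nat.card ↥Q := dvd_card_of_isPGroup_ne_bot hQq hQ1
  obtain ⟨y, hy⟩ := exists_prime_orderOf_dvd_card' q hdQ
  have hy' : orderOf (y : G) = q := by rw [Subgroup.orderOf_coe]; exact hy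
  set Y := Subgroup.zpowers (y : G) with hY
  have hYQ : Y ≤ Q := Subgroup.zpowers_le.2 y.2
  have hYcard : Nat.card Y = q := by rw [hY, Nat.card_zpowers, hy']
  have hYq : IsPGroup q ↥Y := hQq.to_le hYQ
  have hMY : M ≤ Subgroup.normalizer (Y : Set G) :=
    hMQ.trans (Cfsg.Agent.Lead.BG12.normalizer_le_normalizer_of_isCyclic hQcyc hYQ)
  have hY1 : Y ≠ ⊥ := by
    intro h
    rw [h, Subgroup.card_bot] at hYcard
    exact hq.out.one_lt.ne hYcard
  have hYM : Y ≤ M := hYQ.trans hQM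
  -- `N(Y) = M`
  have hNY : Subgroup.normalizer (Y : Set G) = M := by
    have hne : Subgroup.normalizer (Y : Set G) ≠ ⊤ := by
      intro htop
      haveI := hG.2.1
      have hn' : Y.Normal := Subgroup.normalizer_eq_top_iff.mp htop
      rcases hn'.eq_bot_or_eq_top with h1 | h1
      · exact hY1 h1
      · apply hM.1
        rw [eq_top_iff, ← h1]; exact hYM
    by_contra hne2
    exact hne (hM.2 _ (lt_of_le_of_ne hMY (Ne.symm hne2)))
  -- `Y ≤ C(A)`
  have hD := le_normalizer_sigmaCore_sup e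
  have hdisj : Y ⊓ (Cfsg.sigmaCore M ⊔ A) = ⊥ := by
    apply (Subgroup.disjoint_of_coprime_natCard ?_).eq_bot
    rw [hYcard, Nat.Prime.coprime_iff_not_dvd hq.out]
    intro hd
    have hAσ : A ≤ Subgroup.normalizer ((Cfsg.sigmaCore M : Subgroup G) : Set G) :=
      e.leM.trans (le_normalizer_sigmaCore M)
    have hdj : A ⊓ Cfsg.sigmaCore M = ⊥ := by
      apply (Subgroup.disjoint_of_coprime_natCard ?_).eq_bot
      exact e.coprime_card le_rfl A e.isPGroup
    rw [Cfsg.Agent.Helper1.card_sup_of_le_normalizer hAσ hdj, e.card] at hd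
    rcases (Nat.Prime.dvd_mul hq.out).1 hd with h | h
    · exact hqp ((Nat.prime_dvd_prime_iff_eq hq.out hp.out).1 (hq.out.dvd_of_dvd_pow h))
    · exact hqσ (Cfsg.Agent.Lead.BG12.mem_sigma_of_dvd_card_sigmaCore hq.out h)
  have hYC : Y ≤ Subgroup.centralizer (A : Set G) := by
    intro v hv
    rw [Subgroup.mem_centralizer_iff]
    intro a ha
    have hw1 : v * (a * v⁻¹ * a⁻¹) ∈ Y :=
      Y.mul_mem hv ((Subgroup.mem_normalizer_iff.1 (hMY (e.leM ha)) v⁻¹).1 (Y.inv_mem hv))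
    have hw2 : v * (a * v⁻¹ * a⁻¹) ∈ Cfsg.sigmaCore M ⊔ A := by
      have h1 : v * a * v⁻¹ ∈ Cfsg.sigmaCore M ⊔ A :=
        (Subgroup.mem_normalizer_iff.1 (hD (hYM hv)) a).1 (Subgroup.mem_sup_right ha)
      have h2 := Subgroup.mul_mem _ h1 (Subgroup.inv_mem _ (Subgroup.mem_sup_right ha))
      have e1 : v * (a * v⁻¹ * a⁻¹) = v * a * v⁻¹ * a⁻¹ := by group
      rw [e1]; exact h2
    have hw : v * (a * v⁻¹ * a⁻¹) ∈ (⊥ : Subgroup G) := by
      rw [← hdisj]; exact ⟨hw1, hw2⟩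
    rw [Subgroup.mem_bot] at hw
    have h5 : v * a = (v * (a * v⁻¹ * a⁻¹)) * (a * v) := by group
    rw [h5, hw, one_mul]
  obtain ⟨n, hn, hnM⟩ := e.exists_normalizer_not_mem
  have hAn : MulAut.conj n • A = A := conj_smul_eq_of_mem_normalizer hn
  have hnYC : MulAut.conj n • Y ≤ Subgroup.centralizer (A : Set G) := by
    intro v hv
    rw [mem_conj_smul] at hv
    rw [Subgroup.mem_centralizer_iff]
    intro a ha
    have ha' : n⁻¹ * a * n ∈ A := by
      have : a ∈ MulAut.conj n • A := by rw [hAn]; exact ha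
      exact mem_conj_smul.1 this
    have h2 := Subgroup.mem_centralizer_iff.1 (hYC hv) _ ha'
    calc a * v = n * ((n⁻¹ * a * n) * (n⁻¹ * v * n)) * n⁻¹ := by group
      _ = n * ((n⁻¹ * v * n) * (n⁻¹ * a * n)) * n⁻¹ := by rw [h2]
      _ = v * a := by group
  have hnYM : MulAut.conj n • Y ≤ M := hnYC.trans e.centralizer_le
  have hnYcard : Nat.card ↥(MulAut.conj n • Y) = q := by rw [card_conj_smul]; exact hYcard
  have hnYq : IsPGroup q ↥(MulAut.conj n • Y) := IsPGroup.of_card (n := 1) (by rw [hnYcard, pow_one])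
  have hsupq : IsPGroup q ↥(Y ⊔ MulAut.conj n • Y) :=
    IsPGroup.to_sup_of_normal_left' hYq hnYq (hnYM.trans hMY)
  have hsupcyc : IsCyclic ↥(Y ⊔ MulAut.conj n • Y) :=
    isCyclic_of_pRankLE_one hG.1 hr1 (sup_le hYM hnYM) hsupq
  have heq : Y = MulAut.conj n • Y :=
    Cfsg.Agent.Lead.BG12.eq_of_card_eq_of_le_isCyclic hsupcyc le_sup_left le_sup_right
      (by rw [hYcard, hnYcard])
  apply hnM
  rw [← hNY]
  exact mem_normalizer_of_conj_smul_eq heq.symm

end ExcLemmas

end Cfsg.Agent.Helper1.BG127
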