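import Mathlib
import Cfsg.Prelude
import Cfsg.Agent.Helper4.BG12c
import Cfsg.Agent.S1446
import Cfsg.Agent.Lead.BG11d

set_option autoImplicit false
set_option linter.unusedSectionVars false
set_option linter.unusedVariables false

/-!
Bender–Glauberman Lemma 13.3 (statement S1429).
-/

namespace Cfsg.Agent.Helper1.BG133

open Cfsg Cfsg.Agent.Helper1 Cfsg.Agent.Helper2 Cfsg.Agent.Helper1.BGT Cfsg.Agent.Helper1.BGU
  Cfsg.Agent.Helper1.BGV Cfsg.Agent.Helper1.BGW Cfsg.Agent.Helper1.BGX Cfsg.Agent.Lead.BG12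
open scoped commutatorElement Pointwise

universe u

variable {G : Type u} [Group G]

/-- In a commutative subgroup `Q`, the subgroup generated by the elements of order dividing `p`
consists of elements of `Q` of order dividing `p`. -/
theorem mem_and_pow_of_mem_closure (Q : Subgroup G) [hQ : IsMulCommutative ↥Q] (p : ℕ) {x : G}
    (hx : x ∈ Subgroup.closure {x : G | x ∈ Q ∧ x ^ p = 1}) : x ∈ Q ∧ x ^ p = 1 := by
  induction hx using Subgroup.closure_induction with
  | mem y hy => exact hy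
  | one => exact ⟨Q.one_mem, one_pow _⟩
  | mul a b _ _ ha hb =>
    refine ⟨Q.mul_mem ha.1 hb.1, ?_⟩
    have hc : Commute a b := by
      have := hQ.is_comm.comm ⟨a, ha.1⟩ ⟨b, hb.1⟩
      exact congrArg Subtype.val this
    rw [hc.mul_pow, ha.2, hb.2, one_mul]
  | inv a _ ha => exact ⟨Q.inv_mem ha.1, by rw [inv_pow, ha.2, inv_one]⟩

variable [Finite G]

/-- Case of a noncyclic Sylow subgroup: `p ∈ τ₂(M)` and Theorem 12.5 applies. -/
theorem lemma133_noncyclic (hG : Cfsg.IsMinSimpleOddOrder G)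
    (M : Subgroup G) (hM : IsCoatom M)
    (p : ℕ) [hp : Fact p.Prime] (hpσ : p ∉ Cfsg.sigma M) (S : Sylow p M)
    (hnc : ¬ IsCyclic ↥(S : Subgroup M)) :
    Nat.card ↥(Subgroup.closure {x : G | x ∈ (S : Subgroup M).map M.subtype ∧ x ^ p = 1}) ≤ p ^ 2 ∧
      Cfsg.sigmaCore M ⊓ Subgroup.centralizer ((Subgroup.closure {x : G | x ∈ (S : Subgroup M).map M.subtype ∧ x ^ p = 1} : Subgroup G) : Set G) = ⊥ ∧
      Group.IsNilpotent (Cfsg.sigmaCore M) := by
  have hodd : Odd (Nat.card G) := hG.1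
  have hSp : IsPGroup p ↥((S : Subgroup M).map M.subtype) := S.2.map _
  have hp2 : p ≠ 2 := by
    rintro rfl
    have h1 : ¬ IsCyclic ↥((S : Subgroup M).map M.subtype) := by
      intro hc
      exact hnc (isCyclic_of_surjective _
        ((S : Subgroup M).equivMapOfInjective M.subtype M.subtype_injective).symm.surjective)
    apply h1
    have hcard : Nat.card ↥((S : Subgroup M).map M.subtype) = 1 := by
      obtain ⟨k, hk⟩ := IsPGroup.iff_card.mp hSp
      have hodd' : Odd (Nat.card ↥((S : Subgroup M).map M.subtype)) :=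
        Odd.of_dvd_nat hodd (Subgroup.card_subgroup_dvd_card _)
      rcases Nat.eq_zero_or_pos k with rfl | hk0
      · rw [hk, pow_zero]
      · exfalso
        rw [hk] at hodd'
        have : Even (2 ^ k) := (Nat.even_pow.mpr ⟨even_two, hk0.ne'⟩)
        exact (Nat.not_even_iff_odd.mpr hodd') this
    haveI : Subsingleton ↥((S : Subgroup M).map M.subtype) :=
      (Nat.card_eq_one_iff_unique.mp hcard).1
    infer_instance
  have hnc' : ¬ IsCyclic ↥((S : Subgroup M).map M.subtype) := by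
    intro hc
    exact hnc (isCyclic_of_surjective _
      ((S : Subgroup M).equivMapOfInjective M.subtype M.subtype_injective).symm.surjective)
  obtain ⟨A, hAS, hAel, hAcard, -⟩ := exists_normal_ea2 hp2 hSp hnc'
  have hAM : A ≤ M := hAS.trans (Subgroup.map_subtype_le _)
  have hpτ : p ∈ Cfsg.tau2 M := by
    refine ⟨hp.out, hpσ, pRankLE_of_not_mem_sigma hG hM hp.out hpσ, ?_⟩
    apply not_pRankLE_of_hasEA
    refine ⟨A, hAM, hAel, ?_⟩
    rw [hAcard]
    exact Nat.pow_lt_pow_right hp.out.one_lt (by norm_num)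
  obtain ⟨hnil, hSyl, -, hcent, -, -⟩ :=
    Cfsg.Agent.Helper4.BG12.thm125 hG hM hpτ ⟨hAM, hAel, hAcard⟩
  obtain ⟨-, hS2⟩ := hSyl S
  obtain ⟨hiff, -⟩ := hS2 hAS
  have hset : {x : G | x ∈ (S : Subgroup M).map M.subtype ∧ x ^ p = 1} = (A : Set G) := by
    ext x
    constructor
    · rintro ⟨hx, hxp⟩
      exact (hiff x hx).mp hxp
    · intro hx
      exact ⟨hAS hx, (hiff x (hAS hx)).mpr hx⟩
  rw [hset, Subgroup.closure_eq]
  exact ⟨hAcard.le, hcent, hnil⟩

/-- Case of a cyclic Sylow subgroup: the elements of `S` act fixed-point-freely on `M_σ`. -/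
theorem lemma133_cyclic (hG : Cfsg.IsMinSimpleOddOrder G)
    (M : Subgroup G) (hM : IsCoatom M)
    (p : ℕ) [hp : Fact p.Prime] (hpM : p ∣ Nat.card M) (hpσ : p ∉ Cfsg.sigma M)
    (hpκ : p ∉ Cfsg.kappa M) (S : Sylow p M)
    (hc : IsCyclic ↥(S : Subgroup M)) :
    Nat.card ↥(Subgroup.closure {x : G | x ∈ (S : Subgroup M).map M.subtype ∧ x ^ p = 1}) ≤ p ^ 2 ∧
      Cfsg.sigmaCore M ⊓ Subgroup.centralizer ((Subgroup.closure {x : G | x ∈ (S : Subgroup M).map M.subtype ∧ x ^ p = 1} : Subgroup G) : Set G) = ⊥ ∧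
      Group.IsNilpotent (Cfsg.sigmaCore M) := by
  have hfpf : ∀ x : M, x ∈ (S : Subgroup M) → x ≠ 1 → ∀ y ∈ Cfsg.sigmaCore M, y ≠ 1 →
      (x : G) * y ≠ y * x := by
    unfold Cfsg.kappa at hpκ
    rw [Set.mem_ofPred_eq] at hpκ
    push Not at hpκ
    obtain ⟨P₀, hP₀⟩ := hpκ hp.out hpM hpσ
    have hcP₀ : IsCyclic ↥(P₀ : Subgroup M) :=
      isCyclic_of_surjective _ (Sylow.equiv S P₀).surjective
    have h0 := hP₀ hcP₀
    obtain ⟨g, hg⟩ := MulAction.exists_smul_eq M P₀ S
    intro x hx hx1 y hy hy1 hxy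
    have hx' : g⁻¹ * x * g ∈ (P₀ : Subgroup M) := by
      rw [← hg] at hx
      have hx2 : x ∈ ((g • P₀ : Sylow p M) : Subgroup M) := hx
      rw [Sylow.coe_subgroup_smul] at hx2
      exact mem_conj_smul.mp hx2
    have hx1' : g⁻¹ * x * g ≠ 1 := by
      intro h
      apply hx1
      have : x = g * (g⁻¹ * x * g) * g⁻¹ := by group
      rw [this, h]; group
    have hy' : (g : G)⁻¹ * y * g ∈ Cfsg.sigmaCore M := by
      have := le_normalizer_sigmaCore M (M.inv_mem g.2)
      have h2 := (Subgroup.mem_normalizer_iff.mp this y).mp hy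
      simpa using h2
    have hy1' : (g : G)⁻¹ * y * g ≠ 1 := by
      intro h
      apply hy1
      have : y = g * ((g : G)⁻¹ * y * g) * (g : G)⁻¹ := by group
      rw [this, h]; group
    apply h0 _ hx' hx1' _ hy' hy1'
    push_cast
    calc (g : G)⁻¹ * x * g * ((g : G)⁻¹ * y * g) = (g : G)⁻¹ * (x * y) * g := by group
      _ = (g : G)⁻¹ * (y * x) * g := by rw [hxy]
      _ = _ := by group
  have hcQ : IsCyclic ↥((S : Subgroup M).map M.subtype) :=
    isCyclic_of_surjective _
      ((S : Subgroup M).equivMapOfInjective M.subtype M.subtype_injective).surjective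
  haveI : IsMulCommutative ↥((S : Subgroup M).map M.subtype) := hcQ.isMulCommutative
  have hΩ : ∀ x ∈ Subgroup.closure {x : G | x ∈ (S : Subgroup M).map M.subtype ∧ x ^ p = 1},
      x ∈ (S : Subgroup M).map M.subtype ∧ x ^ p = 1 :=
    fun x hx => mem_and_pow_of_mem_closure _ p hx
  have hΩQ : Subgroup.closure {x : G | x ∈ (S : Subgroup M).map M.subtype ∧ x ^ p = 1} ≤
      (S : Subgroup M).map M.subtype := fun x hx => (hΩ x hx).1
  -- an element of order `p`
  have hpS : p ∣ Nat.card ↥(S : Subgroup M) := S.dvd_card_of_dvd_card hpM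
  obtain ⟨a, ha⟩ := exists_prime_orderOf_dvd_card' (G := ↥(S : Subgroup M)) p hpS
  have ha1 : (a : M) ≠ 1 := by
    intro h
    have : a = 1 := Subtype.ext h
    rw [this, orderOf_one] at ha
    exact hp.out.one_lt.ne ha
  have hap : ((a : M) : G) ^ p = 1 := by
    have h1 : a ^ p = 1 := by
      have := pow_orderOf_eq_one a
      rwa [ha] at this
    have h2 := congrArg (fun z : ↥(S : Subgroup M) => ((z : M) : G)) h1
    simpa using h2
  have haΩ : ((a : M) : G) ∈
      Subgroup.closure {x : G | x ∈ (S : Subgroup M).map M.subtype ∧ x ^ p = 1} :=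
    Subgroup.subset_closure ⟨Subgroup.mem_map_of_mem _ a.2, hap⟩
  refine ⟨?_, ?_, ?_⟩
  · haveI : IsCyclic ↥(Subgroup.closure
        {x : G | x ∈ (S : Subgroup M).map M.subtype ∧ x ^ p = 1}) :=
      @Subgroup.isCyclic_of_le _ _ _ _ hΩQ hcQ
    haveI hcomm := this.isMulCommutative
    have h1 := pRankLE_one_of_isCyclic this p ⊤ inferInstance (by
      intro a _
      apply Subtype.ext
      rw [Subgroup.coe_pow, Subgroup.coe_one]
      exact (hΩ a a.2).2)
    rw [Subgroup.card_top, pow_one] at h1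
    exact h1.trans (by nlinarith [hp.out.one_lt])
  · rw [eq_bot_iff]
    rintro y ⟨hy, hyc⟩
    rw [Subgroup.mem_bot]
    by_contra hy1
    apply hfpf a a.2 ha1 y hy hy1
    have := Subgroup.mem_centralizer_iff.mp hyc _ haΩ
    exact this
  · have hS1 : (Subgroup.zpowers ((a : M) : G)) ≠ ⊥ := by
      intro h
      apply ha1
      have : ((a : M) : G) ∈ (⊥ : Subgroup G) := by rw [← h]; exact Subgroup.mem_zpowers _
      exact Subtype.ext (Subgroup.mem_bot.mp this)
    apply Cfsg.Agent.S1446.nilpotent_of_fpf (Cfsg.sigmaCore M) (Subgroup.zpowers ((a : M) : G))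
      (Cfsg.Agent.Lead.BG12.sigmaCore_ne_bot hG hM) hS1
    · rw [Subgroup.zpowers_le]
      exact le_normalizer_sigmaCore M (a : M).2
    · intro r hr hr1
      rw [eq_bot_iff]
      rintro y ⟨hy, hyc⟩
      rw [Subgroup.mem_bot]
      by_contra hy1
      obtain ⟨k, rfl⟩ := Subgroup.mem_zpowers_iff.mp hr
      have hrS : (a : M) ^ k ∈ (S : Subgroup M) := (S : Subgroup M).zpow_mem a.2 k
      have hr1' : (a : M) ^ k ≠ 1 := by
        intro h
        apply hr1
        have := congrArg (fun z : M => (z : G)) h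
        simpa using this
      apply hfpf _ hrS hr1' y hy hy1
      have := Subgroup.mem_centralizer_iff.mp hyc _ (Set.mem_singleton _)
      push_cast
      exact this

end Cfsg.Agent.Helper1.BG133
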