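import Mathlib
import Cfsg.Prelude.Def_OddOrderLocal
import Cfsg.Agent.Helper1.BGUa
import Cfsg.Agent.Lead.SylowLemmas

/-!
# Helper lemmas for (T3reg): a coprime automorphism of an abelian `p`-group which is trivial on the
elements of order `p` is trivial; Burnside's transfer theorem in the form "a nontrivial abelian Sylow
subgroup contained in the commutator subgroup is not central in its normalizer".
-/

set_option autoImplicit false

namespace Cfsg.Agent.Helper1.BGT3reg

open Cfsg

universe u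

variable {G : Type u} [Group G]

/-- conjugating `j` times -/
theorem conj_pow_eq {t h c : G} (hc : t * h * t⁻¹ = h * c) (htc : t * c = c * t) (j : ℕ) :
    t ^ j * h * (t ^ j)⁻¹ = h * c ^ j := by
  induction j with
  | zero => simp
  | succ j ih =>
    have h1 : t ^ (j + 1) * h * (t ^ (j + 1))⁻¹ = t * (t ^ j * h * (t ^ j)⁻¹) * t⁻¹ := by
      rw [pow_succ']; group
    rw [h1, ih]
    have h2 : t * c ^ j = c ^ j * t := by
      have : Commute t c := htc
      exact (this.pow_right j).eq
    calc t * (h * c ^ j) * t⁻¹ = (t * h * t⁻¹) * (t * c ^ j * t⁻¹) := by group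
      _ = h * c * (c ^ j * t * t⁻¹) := by rw [hc, h2]
      _ = h * c ^ (j + 1) := by rw [pow_succ']; group

/-- **Fact A'.**  Let `P` be an abelian `p`-subgroup, `t ∈ N(P)` with `t ^ s = 1`, `(s, p) = 1`.  If `t`
commutes with every `c ∈ P` such that `c ^ p = 1`, then `t` centralizes `P`. -/
theorem commute_of_commute_omega {p s : ℕ} (hcop : Nat.Coprime s p) {P : Subgroup G}
    (hPp : IsPGroup p ↥P) (hPab : ∀ a ∈ P, ∀ b ∈ P, a * b = b * a) {t : G}
    (htN : t ∈ Subgroup.normalizer (P : Set G)) (hts : t ^ s = 1)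
    (hΩ : ∀ c ∈ P, c ^ p = 1 → t * c = c * t) : ∀ h ∈ P, t * h = h * t := by
  have key : ∀ k : ℕ, ∀ h ∈ P, h ^ p ^ k = 1 → t * h = h * t := by
    intro k
    induction k with
    | zero =>
      intro h _ hk
      rw [pow_zero, pow_one] at hk
      rw [hk, mul_one, one_mul]
    | succ k ih =>
      intro h hh hk
      have hhp : h ^ p ∈ P := P.pow_mem hh p
      have h1 : (h ^ p) ^ p ^ k = 1 := by rw [← pow_mul, ← pow_succ']; exact hk
      have h2 : t * h ^ p = h ^ p * t := ih (h ^ p) hhp h1
      have hφ : t * h * t⁻¹ ∈ P := (Subgroup.mem_normalizer_iff.1 htN h).1 hh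
      obtain ⟨c, hc⟩ : ∃ c : G, c = h⁻¹ * (t * h * t⁻¹) := ⟨_, rfl⟩
      have hcP : c ∈ P := hc ▸ P.mul_mem (P.inv_mem hh) hφ
      have hcomm : Commute h⁻¹ (t * h * t⁻¹) := hPab _ (P.inv_mem hh) _ hφ
      have hcp : c ^ p = 1 := by
        rw [hc, hcomm.mul_pow]
        have : (t * h * t⁻¹) ^ p = t * h ^ p * t⁻¹ := by
          rw [conj_pow]
        rw [this, h2]
        rw [inv_pow]; group
      have htc : t * c = c * t := hΩ c hcP hcp
      have hconj : t * h * t⁻¹ = h * c := by rw [hc]; group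
      have h3 := conj_pow_eq hconj htc s
      rw [hts, one_mul, inv_one, mul_one] at h3
      have hcs : c ^ s = 1 := by
        have : h * c ^ s = h * 1 := by rw [mul_one]; exact h3.symm
        exact mul_left_cancel this
      have hc1 : c = 1 := by
        have hd1 : orderOf c ∣ s := orderOf_dvd_of_pow_eq_one hcs
        have hd2 : orderOf c ∣ p := orderOf_dvd_of_pow_eq_one hcp
        have : orderOf c ∣ 1 := by
          have := Nat.dvd_gcd hd1 hd2
          rwa [hcop.gcd_eq_one] at this
        exact orderOf_eq_one_iff.1 (Nat.dvd_one.1 this)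
      rw [hc1, mul_one] at hconj
      calc t * h = (t * h * t⁻¹) * t := by group
        _ = h * t := by rw [hconj]
  intro h hh
  obtain ⟨k, hk⟩ := hPp ⟨h, hh⟩
  apply key k h hh
  have := congrArg Subtype.val hk
  simpa using this

variable [Finite G]

/-- **Burnside.**  A nontrivial abelian Sylow `p`-subgroup `P` of `E` that lies in `E'` and is normal
in `E` is not central in `E`. -/
theorem not_le_centralizer_of_le_commutator {p : ℕ} [hp : Fact p.Prime] {E P : Subgroup G}
    (hPE : P ≤ E)
    (hPcard : Nat.card P = p ^ (Nat.card E).factorization p) (hP1 : P ≠ ⊥)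
    (hPc : P ≤ ⁅E, E⁆) : ¬ E ≤ Subgroup.centralizer (P : Set G) := by
  intro hcent
  have hcard' : Nat.card (P.subgroupOf E) = p ^ (Nat.card E).factorization p := by
    rw [Cfsg.Agent.Lead.card_subgroupOf_of_le hPE]; exact hPcard
  let Q : Sylow p ↥E := Sylow.ofCard (P.subgroupOf E) hcard'
  have hQ : (Q : Subgroup ↥E) = P.subgroupOf E := rfl
  have hBurn : Subgroup.normalizer ((Q : Subgroup ↥E) : Set ↥E) ≤
      Subgroup.centralizer ((Q : Subgroup ↥E) : Set ↥E) := by
    intro n _
    rw [Subgroup.mem_centralizer_iff]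
    intro q hq
    have hq' : (q : G) ∈ P := by
      have : q ∈ (Q : Subgroup ↥E) := hq
      rw [hQ, Subgroup.mem_subgroupOf] at this
      exact this
    apply Subtype.ext
    exact (Subgroup.mem_centralizer_iff.1 (hcent n.2)) (q : G) hq'
  have hcompl := MonoidHom.ker_transferSylow_isComplement' Q hBurn
  -- the commutator subgroup lies in the kernel
  have hker : commutator ↥E ≤ (MonoidHom.transferSylow Q hBurn).ker := by
    rw [commutator_eq_closure, Subgroup.closure_le]
    rintro _ ⟨a, b, rfl⟩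
    rw [SetLike.mem_coe, MonoidHom.mem_ker, commutatorElement_def, map_mul, map_mul, map_mul,
      map_inv, map_inv]
    obtain ⟨fa, hfa⟩ : ∃ fa, fa = MonoidHom.transferSylow Q hBurn a := ⟨_, rfl⟩
    obtain ⟨fb, hfb⟩ : ∃ fb, fb = MonoidHom.transferSylow Q hBurn b := ⟨_, rfl⟩
    rw [← hfa, ← hfb]
    have hab : fa * fb = fb * fa := by
      have h1 : ((fa : ↥E) : G) ∈ P := by
        have : (fa : ↥E) ∈ P.subgroupOf E := fa.2
        rw [Subgroup.mem_subgroupOf] at this
        exact this
      have := (Subgroup.mem_centralizer_iff.1 (hcent (fb : ↥E).2)) _ h1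
      apply Subtype.ext
      apply Subtype.ext
      simp only [Subgroup.coe_mul]
      exact this
    calc fa * fb * fa⁻¹ * fb⁻¹ = (fa * fb) * fa⁻¹ * fb⁻¹ := by group
      _ = (fb * fa) * fa⁻¹ * fb⁻¹ := by rw [hab]
      _ = 1 := by group
  have hdisj := hcompl.disjoint
  apply hP1
  rw [eq_bot_iff]
  intro x hx
  have hxE : x ∈ E := hPE hx
  have hxQ : (⟨x, hxE⟩ : ↥E) ∈ (Q : Subgroup ↥E) := by
    rw [hQ, Subgroup.mem_subgroupOf]; exact hx
  have hxc : (⟨x, hxE⟩ : ↥E) ∈ commutator ↥E := by
    have h1 : x ∈ (commutator ↥E).map E.subtype := by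
      rw [Subgroup.map_subtype_commutator]; exact hPc hx
    obtain ⟨y, hy, hyx⟩ := h1
    have : y = ⟨x, hxE⟩ := Subtype.ext hyx
    rw [← this]; exact hy
  have := (Subgroup.disjoint_def.1 hdisj) (hker hxc) hxQ
  rw [Subgroup.mem_bot]
  exact congrArg Subtype.val this

/-- If `E` does not centralize `P`, some Sylow subgroup of `E` does not. -/
theorem exists_sylow_not_le_centralizer {E P : Subgroup G}
    (h : ¬ E ≤ Subgroup.centralizer (P : Set G)) :
    ∃ s : ℕ, s.Prime ∧ s ∣ Nat.card E ∧ ∃ S : Subgroup G, S ≤ E ∧ IsPGroup s ↥S ∧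
      Nat.card S = s ^ (Nat.card E).factorization s ∧ ¬ S ≤ Subgroup.centralizer (P : Set G) := by
  by_contra hcon
  push Not at hcon
  apply h
  apply Cfsg.Agent.Helper1.BGU.le_of_forall_sylow_le
  intro q hq hqE
  haveI := Fact.mk hq
  obtain ⟨S, -, hSE, hSq, hScard⟩ :=
    Cfsg.Agent.Lead.exists_le_card_eq_ppart (p := q) (H := E) (U := ⊥) IsPGroup.of_bot bot_le
  exact ⟨S, hSE, hcon q hq hqE S hSE hSq hScard, hScard⟩

end Cfsg.Agent.Helper1.BGT3reg
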