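import Mathlib
import Cfsg.Prelude.Def_SolvableStructure
import Cfsg.Agent.Helper1.Basic
import Cfsg.Agent.Helper1.Supersolvable
import Cfsg.Agent.Helper1.Supersolvable2
import Cfsg.Agent.Helper1.AbelianSylow2
import Cfsg.Agent.Helper1.MaxSub

set_option autoImplicit false

/-!
Supersolvable groups: normal subgroups of prime order, maximal subgroups.
-/

namespace Cfsg.Agent.Helper1

universe u

variable {G : Type u} [Group G]

theorem exists_cyclic_normal_of_cycChain {B : Subgroup G} (h : CycChain (⊥ : Subgroup G) B) :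
    B = ⊥ ∨ ∃ g : G, Subgroup.zpowers g ≠ ⊥ ∧ (Subgroup.zpowers g).Normal ∧
      Subgroup.zpowers g ≤ B := by
  induction h with
  | refl hA => left; rfl
  | @step K g h hn ih =>
    rcases ih with hK | ⟨g0, h1, h2, h3⟩
    · subst hK
      rw [bot_sup_eq] at hn ⊢
      by_cases hg : Subgroup.zpowers g = ⊥
      · left; exact hg
      · right; exact ⟨g, hg, hn, le_rfl⟩
    · right; exact ⟨g0, h1, h2, h3.trans le_sup_left⟩

theorem exists_normal_prime_card_of_cyclic_normal [Finite G] (g : G)
    (hN : (Subgroup.zpowers g).Normal) (hN1 : Subgroup.zpowers g ≠ ⊥) :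
    ∃ P : Subgroup G, P ≤ Subgroup.zpowers g ∧ P.Normal ∧ (Nat.card P).Prime := by
  have hm : orderOf g ≠ 1 := by
    intro h
    rw [orderOf_eq_one_iff] at h
    apply hN1
    rw [h, Subgroup.zpowers_one_eq_bot]
  obtain ⟨p, hp, hpm⟩ := Nat.exists_prime_and_dvd hm
  have hy : orderOf (g ^ (orderOf g / p)) = p :=
    orderOf_pow_orderOf_div (orderOf_pos g).ne' hpm
  set y := g ^ (orderOf g / p) with hydef
  have hyN : y ∈ Subgroup.zpowers g := Subgroup.pow_mem _ (Subgroup.mem_zpowers g) _
  refine ⟨Subgroup.zpowers y, ?_, ?_, ?_⟩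
  · rw [Subgroup.zpowers_le]; exact hyN
  · constructor
    intro x hx c
    obtain ⟨n, rfl⟩ := Subgroup.mem_zpowers_iff.1 hx
    have hconj : c * y * c⁻¹ ∈ Subgroup.zpowers y := by
      have h1 : c * y * c⁻¹ ∈ Subgroup.zpowers g := hN.conj_mem _ hyN c
      have h2 : orderOf (c * y * c⁻¹) = p := by
        have := (MulAut.conj c).orderOf_eq y
        rw [MulAut.conj_apply] at this
        rw [this, hy]
      have h3 := mem_zpowers_of_orderOf_eq_prime (α := Subgroup.zpowers g) hp
        (x := ⟨c * y * c⁻¹, h1⟩) (y := ⟨y, hyN⟩)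
        (by rw [Subgroup.orderOf_mk]; exact h2) (by rw [Subgroup.orderOf_mk]; exact hy)
      obtain ⟨k, hk⟩ := Subgroup.mem_zpowers_iff.1 h3
      exact ⟨k, by simpa using congrArg Subtype.val hk⟩
    have e : c * y ^ n * c⁻¹ = (c * y * c⁻¹) ^ n := by
      have := map_zpow (MulAut.conj c) y n
      simpa [MulAut.conj_apply] using this
    rw [e]
    exact Subgroup.zpow_mem _ hconj n
  · rw [Nat.card_zpowers, hy]; exact hp

theorem exists_normal_prime_card [Finite G] [Nontrivial G] (hG : Cfsg.IsSupersolvable G) :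
    ∃ P : Subgroup G, P.Normal ∧ (Nat.card P).Prime := by
  rw [isSupersolvable_iff_cycChain] at hG
  rcases exists_cyclic_normal_of_cycChain hG with h | ⟨g, h1, h2, -⟩
  · exact absurd h top_ne_bot
  · obtain ⟨P, -, hPn, hP⟩ := exists_normal_prime_card_of_cyclic_normal g h2 h1
    exact ⟨P, hPn, hP⟩

theorem card_quotient_lt [Finite G] (P : Subgroup G) [P.Normal] (hP : P ≠ ⊥) :
    Nat.card (G ⧸ P) < Nat.card G := by
  rw [Subgroup.card_eq_card_quotient_mul_card_subgroup P]
  exact lt_mul_of_one_lt_right Nat.card_pos ((Subgroup.one_lt_card_iff_ne_bot P).2 hP)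

theorem ne_bot_of_prime_card {P : Subgroup G} (hP : (Nat.card P).Prime) : P ≠ ⊥ := by
  rintro rfl
  rw [Subgroup.card_bot] at hP
  exact Nat.not_prime_one hP

theorem prime_index_of_isCoatom_of_supersolvable : ∀ (k : ℕ) (G : Type u) [Group G] [Finite G],
    Nat.card G = k → Cfsg.IsSupersolvable G → ∀ M : Subgroup G, IsCoatom M → M.index.Prime := by
  intro k
  induction k using Nat.strong_induction_on with
  | _ k ih =>
  intro G _ _ hk hG M hM
  have hnt : Nontrivial G := by
    by_contra h
    rw [not_nontrivial_iff_subsingleton] at h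
    exact hM.1 (Subsingleton.elim _ _)
  obtain ⟨N, hNn, hNp⟩ := exists_normal_prime_card hG
  have hNne : N ≠ ⊥ := ne_bot_of_prime_card hNp
  by_cases hNM : N ≤ M
  · have hQlt : Nat.card (G ⧸ N) < k := hk ▸ card_quotient_lt N hNne
    have h1 := ih _ hQlt (G ⧸ N) rfl (isSupersolvable_quotient hG N) _
      (isCoatom_map_mk' N M hNM hM)
    have hker : (QuotientGroup.mk' N).ker ≤ M := by rw [QuotientGroup.ker_mk']; exact hNM
    rwa [Subgroup.index_map_eq M (QuotientGroup.mk'_surjective N) hker] at h1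
  · have hsup : M ⊔ N = ⊤ := hM.2 _ (lt_of_le_of_ne le_sup_left
      (fun h => hNM (by rw [h]; exact le_sup_right)))
    have h1 : Nat.card G = N.relIndex M * Nat.card N := by
      rw [← Subgroup.card_top (G := G), ← hsup,
        ← relIndex_mul_card_of_le (le_sup_right : N ≤ M ⊔ N), Subgroup.relIndex_sup_right]
    have h2 : N.relIndex M * Nat.card (N ⊓ M : Subgroup G) = Nat.card M := by
      rw [← Subgroup.inf_relIndex_right]
      exact relIndex_mul_card_of_le inf_le_right
    have h3 : M.index * Nat.card M = Nat.card G := M.index_mul_card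
    have hrpos : 0 < N.relIndex M := by
      rcases Nat.eq_zero_or_pos (N.relIndex M) with h | h
      · rw [h, zero_mul] at h2
        exact absurd h2.symm Nat.card_pos.ne'
      · exact h
    have h4 : M.index * Nat.card (N ⊓ M : Subgroup G) = Nat.card N := by
      apply Nat.eq_of_mul_eq_mul_left hrpos
      rw [← h1, ← h3, ← h2]
      ring
    have hdvd : M.index ∣ Nat.card N := Dvd.intro _ h4
    rcases (Nat.dvd_prime hNp).1 hdvd with h | h
    · rw [Subgroup.index_eq_one] at h
      exact absurd h hM.1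
    · rw [h]; exact hNp

end Cfsg.Agent.Helper1
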