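import Mathlib
import Cfsg.Agent.Helper1.SubnormalComm
import Cfsg.Agent.Helper1.Supersolvable3
import Cfsg.Agent.Helper3.Wielandt

set_option autoImplicit false

/-!
Wielandt: the join of two subnormal subgroups of a finite group is subnormal.
-/

namespace Cfsg.Agent.Helper1

universe u

theorem exists_isMinNormal (G : Type u) [Group G] [Finite G] [Nontrivial G] :
    ∃ M : Subgroup G, Cfsg.Agent.Helper3.IsMinNormal M := by
  let 𝒮 : Set (Subgroup G) := {N | N.Normal ∧ N ≠ ⊥}
  have htop : (⊤ : Subgroup G) ∈ 𝒮 := ⟨inferInstance, top_ne_bot⟩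
  obtain ⟨M, -, hMmin⟩ := (Set.toFinite 𝒮).exists_le_minimal htop
  obtain ⟨hMn, hMne⟩ : M ∈ 𝒮 := hMmin.prop
  refine ⟨M, hMn, hMne, ?_⟩
  intro B hBn hBM
  by_cases hB : B = ⊥
  · exact Or.inl hB
  · exact Or.inr (le_antisymm hBM (hMmin.2 ⟨hBn, hB⟩ hBM))

theorem isSubnormal_sup_aux : ∀ (n : ℕ) (G : Type u) [Group G] [Finite G], Nat.card G = n →
    ∀ A B : Subgroup G, A.IsSubnormal → B.IsSubnormal → (A ⊔ B).IsSubnormal := by
  intro n
  induction n using Nat.strong_induction_on with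
  | _ n ih =>
  intro G _ _ hn A B hA hB
  rcases subsingleton_or_nontrivial G with hs | hnt
  · have : A ⊔ B = ⊤ := Subsingleton.elim _ _
    rw [this]; exact Subgroup.IsSubnormal.top
  obtain ⟨M, hM⟩ := exists_isMinNormal G
  have hMn : M.Normal := hM.1
  have hlt : Nat.card (G ⧸ M) < n := by rw [← hn]; exact card_quotient_lt M hM.2.1
  have hsurj := QuotientGroup.mk'_surjective M
  have h1 := ih _ hlt (G ⧸ M) rfl _ _ (hA.map hsurj) (hB.map hsurj)
  rw [← Subgroup.map_sup] at h1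
  have h2 := h1.comap (QuotientGroup.mk' M)
  rw [Subgroup.comap_map_eq, QuotientGroup.ker_mk'] at h2
  have hMA := hM.le_normalizer_of_isSubnormal hA
  have hMB := hM.le_normalizer_of_isSubnormal hB
  have hle : (A ⊔ B) ⊔ M ≤ Subgroup.normalizer ((A ⊔ B : Subgroup G) : Set G) := by
    apply sup_le Subgroup.le_normalizer
    intro m hm
    exact mem_normalizer_sup (hMA hm) (hMB hm)
  have hn' : ((A ⊔ B).subgroupOf ((A ⊔ B) ⊔ M)).Normal :=
    (Subgroup.normal_subgroupOf_iff_le_normalizer le_sup_left).2 hle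
  exact Subgroup.IsSubnormal.trans le_sup_left hn'.isSubnormal h2

end Cfsg.Agent.Helper1
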