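import Mathlib
import Cfsg.Agent.Helper1.SubnormalJoin
import Cfsg.Agent.Helper1.Basic

set_option autoImplicit false

/-!
Joins of families of subnormal subgroups; a member of a conjugation-closed family of subnormal
subgroups normalises the join of a proper subfamily.
-/

namespace Cfsg.Agent.Helper1

open scoped Pointwise

universe u

variable {G : Type u} [Group G] [Finite G]

theorem isSubnormal_sSup (S : Set (Subgroup G)) (hS : ∀ U ∈ S, U.IsSubnormal) :
    (sSup S).IsSubnormal := by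
  let 𝒯 : Set (Subgroup G) := {V | V.IsSubnormal ∧ V ≤ sSup S}
  have hbot : (⊥ : Subgroup G) ∈ 𝒯 := ⟨Subgroup.IsSubnormal.bot, bot_le⟩
  obtain ⟨V, -, hVmax⟩ := (Set.toFinite 𝒯).exists_le_maximal hbot
  obtain ⟨hVsn, hVle⟩ : V ∈ 𝒯 := hVmax.prop
  have hSV : sSup S ≤ V := by
    apply sSup_le
    intro U hU
    have h1 : (V ⊔ U) ∈ 𝒯 :=
      ⟨isSubnormal_sup_aux _ G rfl V U hVsn (hS U hU), sup_le hVle (le_sSup hU)⟩
    have h2 : V ⊔ U ≤ V := hVmax.2 h1 le_sup_left
    exact le_trans le_sup_right h2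
  have : sSup S = V := le_antisymm hSV hVle
  rw [this]; exact hVsn

theorem subnormal_family_normalizes_join (S S₀ : Set (Subgroup G))
    (hS : ∀ U ∈ S, U.IsSubnormal) (hconj : ∀ U ∈ S, ∀ g : G, MulAut.conj g • U ∈ S)
    (h₀ : S₀ ⊂ S) :
    ∃ X ∈ S, X ∉ S₀ ∧ X ≤ Subgroup.normalizer ((sSup S₀ : Subgroup G) : Set G) := by
  classical
  set W := sSup S₀ with hW
  have hWsn : W.IsSubnormal := isSubnormal_sSup S₀ (fun U hU => hS U (h₀.1 hU))
  obtain ⟨n, f, hmono, hnorm, hf0, hfn⟩ := Subgroup.IsSubnormal.isSubnormal_iff.1 hWsn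
  by_cases hex : ∃ i, ∃ X ∈ S, X ≤ f i ∧ ¬ X ≤ W
  · obtain ⟨X, hXS, hXi, hXW⟩ := Nat.find_spec hex
    have hi0 : Nat.find hex ≠ 0 := by
      intro h0; rw [h0, hf0] at hXi; exact hXW hXi
    obtain ⟨j, hj⟩ := Nat.exists_eq_succ_of_ne_zero hi0
    have hmin : ∀ Y ∈ S, Y ≤ f j → Y ≤ W := by
      intro Y hY hYj
      by_contra hYW
      have := Nat.find_min' hex ⟨Y, hY, hYj, hYW⟩
      omega
    refine ⟨X, hXS, fun hX0 => hXW (le_sSup hX0), ?_⟩
    rw [hj] at hXi
    have hWj : W ≤ f j := by rw [← hf0]; exact hmono (Nat.zero_le j)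
    have hnj := hnorm j
    apply le_normalizer_of_forall_conj_mem
    intro x hx w hw
    -- conjugation by `x` preserves `f j`
    have hxj : ∀ y ∈ f j, x * y * x⁻¹ ∈ f j := by
      intro y hy
      have hy' : y ∈ f (j + 1) := hmono (Nat.le_succ j) hy
      have := hnj.conj_mem ⟨y, hy'⟩ (by simpa [Subgroup.mem_subgroupOf] using hy) ⟨x, hXi hx⟩
      simpa [Subgroup.mem_subgroupOf] using this
    have hle : W ≤ MulAut.conj x⁻¹ • W := by
      rw [hW]
      apply sSup_le
      intro U hU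
      have hU' : MulAut.conj x • U ∈ S := hconj U (h₀.1 hU) x
      have hUj : MulAut.conj x • U ≤ f j := by
        intro y hy
        rw [mem_conj_smul] at hy
        have := hxj _ (hWj (le_sSup hU hy))
        simpa [mul_assoc] using this
      have hUW : MulAut.conj x • U ≤ W := hmin _ hU' hUj
      intro u hu
      rw [mem_conj_smul]
      simp only [inv_inv]
      exact hUW (conj_mem_conj_smul hu)
    have := hle hw
    rw [mem_conj_smul] at this
    simpa using this
  · push_neg at hex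
    obtain ⟨X, hXS, hX0⟩ := Set.exists_of_ssubset h₀
    refine ⟨X, hXS, hX0, ?_⟩
    have hall : ∀ Y ∈ S, Y ≤ W := fun Y hY => hex n Y hY (by rw [hfn]; exact le_top)
    apply le_normalizer_of_forall_conj_mem
    intro x hx w hw
    have hle : W ≤ MulAut.conj x⁻¹ • W := by
      rw [hW]
      apply sSup_le
      intro U hU
      have hU' : MulAut.conj x • U ∈ S := hconj U (h₀.1 hU) x
      have hUW : MulAut.conj x • U ≤ W := hall _ hU'
      intro u hu
      rw [mem_conj_smul]
      simp only [inv_inv]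
      exact hUW (conj_mem_conj_smul hu)
    have := hle hw
    rw [mem_conj_smul] at this
    simpa using this

end Cfsg.Agent.Helper1
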