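import Mathlib
import Cfsg.Prelude.Def_Solvable
import Cfsg.Agent.Helper1.Basic
import Cfsg.Agent.Helper1.Fitting
import Cfsg.Agent.Helper1.Fitting2
import Cfsg.Agent.Helper2.Layer2

set_option autoImplicit false

/-!
The Fitting subgroup of a normal subgroup via centralizers of chief factors.
-/

namespace Cfsg.Agent.Helper1.ChiefFitting

open scoped Pointwise commutatorElement

variable {G : Type*} [Group G]

/-- `U/V` is a chief factor of `G` (as in the statements). -/
def IsChief (U V : Subgroup G) : Prop :=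
  U.Normal ∧ V.Normal ∧ V < U ∧ ∀ W : Subgroup G, W.Normal → V ≤ W → W ≤ U → W = V ∨ W = U

/-- elements of `N` centralizing all chief factors `U/V` with `U ≤ A`. -/
def chiefCent (N A : Subgroup G) : Subgroup G where
  carrier := {g | g ∈ N ∧ ∀ U V : Subgroup G, IsChief U V → U ≤ A →
    ∀ u ∈ U, u * g * u⁻¹ * g⁻¹ ∈ V}
  one_mem' := ⟨N.one_mem, fun U V _ _ u _ => by simp [V.one_mem]⟩
  mul_mem' := by
    rintro a b ⟨ha, ha'⟩ ⟨hb, hb'⟩
    refine ⟨N.mul_mem ha hb, fun U V h hUA u hu => ?_⟩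
    have hVn := h.2.1
    have h1 := ha' U V h hUA u hu
    have h2 := hVn.conj_mem _ (hb' U V h hUA u hu) a
    have : u * (a * b) * u⁻¹ * (a * b)⁻¹ =
        (u * a * u⁻¹ * a⁻¹) * (a * (u * b * u⁻¹ * b⁻¹) * a⁻¹) := by group
    rw [this]
    exact V.mul_mem h1 h2
  inv_mem' := by
    rintro a ⟨ha, ha'⟩
    refine ⟨N.inv_mem ha, fun U V h hUA u hu => ?_⟩
    have hVn := h.2.1
    have h1 := V.inv_mem (ha' U V h hUA u hu)
    have h2 := hVn.conj_mem _ h1 a⁻¹
    have : u * a⁻¹ * u⁻¹ * a⁻¹⁻¹ = a⁻¹ * (u * a * u⁻¹ * a⁻¹)⁻¹ * a⁻¹⁻¹ := by group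
    rw [this]
    exact h2

theorem mem_chiefCent {N A : Subgroup G} {g : G} :
    g ∈ chiefCent N A ↔ g ∈ N ∧ ∀ U V : Subgroup G, IsChief U V → U ≤ A →
      ∀ u ∈ U, u * g * u⁻¹ * g⁻¹ ∈ V := Iff.rfl

theorem chiefCent_le (N A : Subgroup G) : chiefCent N A ≤ N := fun _ h => h.1

theorem chiefCent_normal (N A : Subgroup G) [hN : N.Normal] : (chiefCent N A).Normal := by
  refine ⟨fun g hg x => ?_⟩
  obtain ⟨hgN, hg'⟩ := hg
  refine ⟨hN.conj_mem g hgN x, fun U V h hUA u hu => ?_⟩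
  have hUn := h.1
  have hVn := h.2.1
  have h1 : x⁻¹ * u * x⁻¹⁻¹ ∈ U := hUn.conj_mem u hu x⁻¹
  have h2 := hg' U V h hUA _ h1
  have h3 := hVn.conj_mem _ h2 x
  have : u * (x * g * x⁻¹) * u⁻¹ * (x * g * x⁻¹)⁻¹ =
      x * ((x⁻¹ * u * x⁻¹⁻¹) * g * (x⁻¹ * u * x⁻¹⁻¹)⁻¹ * g⁻¹) * x⁻¹ := by group
  rw [this]
  exact h3

theorem commutator_chiefCent_le {N A U V : Subgroup G} (h : IsChief U V) (hUA : U ≤ A) :
    ⁅U, chiefCent N A⁆ ≤ V := by
  rw [Subgroup.commutator_le]
  intro u hu g hg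
  have h1 := hg.2 U V h hUA u hu
  have hVn := h.2.1
  -- ⁅u, g⁆ = u * g * u⁻¹ * g⁻¹
  rw [commutatorElement_def]
  exact h1

/-- iterated commutator `[K, D, …, D]`. -/
def cc (D K : Subgroup G) : ℕ → Subgroup G
  | 0 => K
  | n + 1 => ⁅cc D K n, D⁆

theorem cc_mono (D : Subgroup G) {K K' : Subgroup G} (h : K ≤ K') (n : ℕ) :
    cc D K n ≤ cc D K' n := by
  induction n with
  | zero => exact h
  | succ n ih => exact Subgroup.commutator_mono ih le_rfl

theorem cc_succ' (D K : Subgroup G) (n : ℕ) : cc D K (n + 1) = cc D ⁅K, D⁆ n := by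
  induction n with
  | zero => rfl
  | succ n ih =>
    show ⁅cc D K (n + 1), D⁆ = ⁅cc D ⁅K, D⁆ n, D⁆
    rw [ih]

/-- If `D` centralizes every chief factor below the normal subgroup `A`, then `[K, D, …, D] = 1`
for every normal `K ≤ A`. -/
theorem exists_cc_eq_bot [Finite G] (D A : Subgroup G)
    (hD : ∀ U V : Subgroup G, IsChief U V → U ≤ A → ⁅U, D⁆ ≤ V) :
    ∀ K : Subgroup G, K.Normal → K ≤ A → ∃ n, cc D K n = ⊥ := by
  intro K
  induction' h : Nat.card K using Nat.strong_induction_on with m ih generalizing K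
  intro hKn hKA
  by_cases hK : K = ⊥
  · exact ⟨0, hK⟩
  · let S : Set (Subgroup G) := {V | V.Normal ∧ V < K}
    have hbot : ⊥ ∈ S := ⟨inferInstance, bot_lt_iff_ne_bot.2 hK⟩
    obtain ⟨V, -, hVmax⟩ := (Set.toFinite S).exists_le_maximal hbot
    obtain ⟨hVn, hVK⟩ := hVmax.prop
    have hchief : IsChief K V := by
      refine ⟨hKn, hVn, hVK, fun W hWn hVW hWK => ?_⟩
      by_cases hWeq : W = K
      · exact Or.inr hWeq
      · left
        have hWS : W ∈ S := ⟨hWn, lt_of_le_of_ne hWK hWeq⟩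
        exact le_antisymm (hVmax.2 hWS hVW) hVW
    have h1 := hD K V hchief hKA
    have hcard : Nat.card V < m := h ▸ card_lt_card_of_lt hVK
    obtain ⟨n, hn⟩ := ih (Nat.card V) hcard V rfl hVn (hVK.le.trans hKA)
    refine ⟨n + 1, ?_⟩
    rw [cc_succ', eq_bot_iff, ← hn]
    exact cc_mono D h1 n

/-- A nilpotent normal subgroup centralizes every chief factor. -/
theorem commutator_le_of_isChief {F U V : Subgroup G} (hFn : F.Normal)
    (hF : Group.IsNilpotent F) (h : IsChief U V) : ⁅U, F⁆ ≤ V := by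
  obtain ⟨hUn, hVn, hVU, hmin⟩ := h
  have hM1 : V ≤ ⁅U, F⁆ ⊔ V := le_sup_right
  have hM2 : ⁅U, F⁆ ⊔ V ≤ U := sup_le (Subgroup.commutator_le_left U F) hVU.le
  have hMn : (⁅U, F⁆ ⊔ V).Normal := inferInstance
  rcases hmin _ hMn hM1 hM2 with hM | hM
  · exact hM ▸ le_sup_left
  · exfalso
    obtain ⟨n, hn⟩ := (Subgroup.isNilpotent_iff_lowerCentralSeries F).1 hF
    have key : ∀ m, U ≤ F.lowerCentralSeries m ⊔ V := by
      intro m
      induction m with
      | zero =>
        rw [Subgroup.lowerCentralSeries_zero, ← hM]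
        exact sup_le_sup_right (Subgroup.commutator_le_right U F) V
      | succ m ih =>
        have hLn : (F.lowerCentralSeries m).Normal := inferInstance
        have h2 : ⁅U, F⁆ ≤ F.lowerCentralSeries (m + 1) ⊔ V := by
          rw [Subgroup.commutator_le]
          intro a ha f hf
          have ha' := ih ha
          rw [← SetLike.mem_coe, Subgroup.mul_normal, Set.mem_mul] at ha'
          obtain ⟨l, hl, v, hv, rfl⟩ := ha'
          have e : ⁅l * v, f⁆ = (l * (v * (f * v⁻¹ * f⁻¹)) * l⁻¹) * ⁅l, f⁆ := by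
            simp only [commutatorElement_def]
            group
          rw [e]
          have h3 : l * (v * (f * v⁻¹ * f⁻¹)) * l⁻¹ ∈ V :=
            hVn.conj_mem _ (V.mul_mem hv (hVn.conj_mem _ (V.inv_mem hv) f)) l
          have h4 : ⁅l, f⁆ ∈ F.lowerCentralSeries (m + 1) := by
            rw [Subgroup.lowerCentralSeries_succ]
            exact Subgroup.commutator_mem_commutator hl hf
          exact Subgroup.mul_mem _ (Subgroup.mem_sup_right h3) (Subgroup.mem_sup_left h4)
        calc U = ⁅U, F⁆ ⊔ V := hM.symm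
          _ ≤ F.lowerCentralSeries (m + 1) ⊔ V := sup_le h2 le_sup_right
    have := key n
    rw [hn, bot_sup_eq] at this
    exact absurd this (not_le_of_gt hVU)

/-- A normal nilpotent subgroup of `G` inside the normal subgroup `N` lies in `F(N)`. -/
theorem le_fitting_of_normal_nilpotent [Finite G] (N : Subgroup G) {M : Subgroup G}
    (hMn : M.Normal) (hMN : M ≤ N) (hnil : Group.IsNilpotent M) :
    M ≤ (Cfsg.fittingSubgroup ↥N).map N.subtype := by
  have h1 : (M.subgroupOf N).Normal := inferInstance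
  have h2 : Group.IsNilpotent ↥(M.subgroupOf N) :=
    Cfsg.Agent.Helper2.isNilpotent_of_mulEquiv (Subgroup.subgroupOfEquivOfLe hMN).symm hnil
  have h3 := le_fittingSubgroup h1 h2
  have h4 := Subgroup.map_mono (f := N.subtype) h3
  rwa [Subgroup.map_subgroupOf_eq_of_le hMN] at h4

theorem fitting_normal_eq_chiefCent [Finite G] (hG : Group.IsSolvable G) (N : Subgroup G)
    [hN : N.Normal] :
    (Cfsg.fittingSubgroup ↥N).map N.subtype = chiefCent N ⊤ ∧
    (Cfsg.fittingSubgroup ↥N).map N.subtype =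
      chiefCent N ((Cfsg.fittingSubgroup ↥N).map N.subtype) := by
  haveI := hG
  set F := (Cfsg.fittingSubgroup ↥N).map N.subtype with hFdef
  have hFn : F.Normal := inferInstance
  have hFnil : Group.IsNilpotent F :=
    Cfsg.Agent.Helper2.isNilpotent_of_mulEquiv
      ((Cfsg.fittingSubgroup ↥N).equivMapOfInjective N.subtype N.subtype_injective)
      fittingSubgroup_isNilpotent
  have hFN : F ≤ N := Subgroup.map_subtype_le _
  have hA : F ≤ chiefCent N ⊤ := by
    intro g hg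
    refine ⟨hFN hg, fun U V h _ u hu => ?_⟩
    have h1 := commutator_le_of_isChief hFn hFnil h
    have h2 : ⁅u, g⁆ ∈ ⁅U, F⁆ := Subgroup.commutator_mem_commutator hu hg
    have h3 := h1 h2
    rwa [commutatorElement_def] at h3
  have hAB : chiefCent N ⊤ ≤ chiefCent N F :=
    fun g hg => ⟨hg.1, fun U V h _ => hg.2 U V h le_top⟩
  have hB : chiefCent N F ≤ F := by
    set D := chiefCent N F with hDdef
    have hDn : D.Normal := chiefCent_normal N F
    by_contra hDF
    let 𝒟 : Set (Subgroup G) := {M | M.Normal ∧ M ≤ D ∧ ¬ M ≤ F}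
    have hD𝒟 : D ∈ 𝒟 := ⟨hDn, le_rfl, hDF⟩
    obtain ⟨M, -, hMmin⟩ := (Set.toFinite 𝒟).exists_le_minimal hD𝒟
    obtain ⟨hMn, hMD, hMF⟩ : M ∈ 𝒟 := hMmin.prop
    have hMne : M ≠ ⊥ := by
      rintro rfl
      exact hMF bot_le
    have hlt : ⁅M, M⁆ < M := Group.IsSolvable.commutator_lt_of_ne_bot hMne
    have hMMn : (⁅M, M⁆ : Subgroup G).Normal := Subgroup.commutator_normal M M
    have hMMF : ⁅M, M⁆ ≤ F := by
      by_contra hnot
      have hmem : ⁅M, M⁆ ∈ 𝒟 := ⟨hMMn, hlt.le.trans hMD, hnot⟩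
      exact absurd (hMmin.2 hmem hlt.le) (not_le_of_gt hlt)
    obtain ⟨n, hn⟩ := exists_cc_eq_bot D F
      (fun U V h hUF => commutator_chiefCent_le h hUF) F hFn le_rfl
    have key : ∀ j, M.lowerCentralSeries (j + 1) ≤ cc D F j := by
      intro j
      induction j with
      | zero => exact hMMF
      | succ j ih =>
        rw [Subgroup.lowerCentralSeries_succ]
        exact Subgroup.commutator_mono ih hMD
    have hMnil : Group.IsNilpotent M := by
      apply Subgroup.isNilpotent_of_lowerCentralSeries_eq_bot (n := n + 1)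
      rw [eq_bot_iff, ← hn]
      exact key n
    exact hMF (le_fitting_of_normal_nilpotent N hMn (hMD.trans (chiefCent_le N F)) hMnil)
  exact ⟨le_antisymm hA (hAB.trans hB), le_antisymm (hA.trans hAB) hB⟩

end Cfsg.Agent.Helper1.ChiefFitting
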