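import Mathlib
import Cfsg.Agent.Helper1.Coprime
import Cfsg.Agent.Helper1.CNGroup
import Cfsg.Agent.Helper1.ThompsonFPF2

set_option autoImplicit false

/-!
Frobenius action "modulo a central subgroup": if `a` (with `a ^ p = 1`) normalizes `U` and `Q`,
acts fixed-point-freely on `Q`, and all its fixed points on `U` lie in a subgroup `Z0` that is
central in `U` and centralized by `Q`, then `Q` centralizes `U`.
-/

namespace Cfsg.Agent.Helper1.BGFrob

open Cfsg.Agent.Helper1

universe u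

variable {G : Type u} [Group G]

/-- a subgroup `J` all of whose elements conjugate `V` into `V` normalizes `V`. -/
theorem le_normalizer_of_conj_mem {J V : Subgroup G}
    (h : ∀ n ∈ J, ∀ v ∈ V, n * v * n⁻¹ ∈ V) : J ≤ Subgroup.normalizer (V : Set G) := by
  intro n hn
  rw [Subgroup.mem_normalizer_iff]
  intro v
  constructor
  · exact h n hn v
  · intro hv
    have := h n⁻¹ (J.inv_mem hn) _ hv
    simpa [mul_assoc] using this

theorem conj_mem_of_le_normalizer {J V : Subgroup G}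
    (h : J ≤ Subgroup.normalizer (V : Set G)) {n v : G} (hn : n ∈ J) (hv : v ∈ V) :
    n * v * n⁻¹ ∈ V :=
  (Subgroup.mem_normalizer_iff.1 (h hn) v).1 hv

/-- **Coprime action**: if all commutators `u g u⁻¹ g⁻¹` (`u ∈ U`, `g ∈ Q`) lie in `U` and are
centralized by `Q`, and `(|U|, |Q|) = 1`, then `Q` centralizes `U`. -/
theorem le_centralizer_of_commutator_mem_centralizer [Finite G] {U Q : Subgroup G}
    (hcop : (Nat.card U).Coprime (Nat.card Q))
    (h : ∀ u ∈ U, ∀ g ∈ Q, u * g * u⁻¹ * g⁻¹ ∈ U ⊓ Subgroup.centralizer (Q : Set G)) :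
    U ≤ Subgroup.centralizer (Q : Set G) := by
  intro u hu
  rw [Subgroup.mem_centralizer_iff]
  intro g hg
  obtain ⟨z, hz⟩ : ∃ z : G, z = u * g * u⁻¹ * g⁻¹ := ⟨_, rfl⟩
  have hzU : z ∈ U := hz ▸ (h u hu g hg).1
  have hzg : g * z = z * g := by
    have := Subgroup.mem_centralizer_iff.1 (hz ▸ (h u hu g hg).2) g hg
    exact this
  -- `g u⁻¹ g⁻¹ = u⁻¹ z`
  have h1 : g * u⁻¹ * g⁻¹ = u⁻¹ * z := by rw [hz]; group
  have h2 : ∀ k : ℕ, g ^ k * u⁻¹ * (g ^ k)⁻¹ = u⁻¹ * z ^ k := by
    intro k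
    induction k with
    | zero => simp
    | succ k ih =>
      have hzk : g * z ^ k = z ^ k * g := ((show Commute g z from hzg).pow_right k).eq
      calc g ^ (k + 1) * u⁻¹ * (g ^ (k + 1))⁻¹
          = g * (g ^ k * u⁻¹ * (g ^ k)⁻¹) * g⁻¹ := by rw [pow_succ']; group
        _ = g * (u⁻¹ * z ^ k) * g⁻¹ := by rw [ih]
        _ = (g * u⁻¹ * g⁻¹) * (g * z ^ k) * g⁻¹ := by group
        _ = (u⁻¹ * z) * (z ^ k * g) * g⁻¹ := by rw [h1, hzk]
        _ = u⁻¹ * z ^ (k + 1) := by rw [pow_succ']; group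
  have h3 : z ^ orderOf g = 1 := by
    have := h2 (orderOf g)
    rw [pow_orderOf_eq_one] at this
    simpa using this.symm
  have h4 : orderOf z ∣ orderOf g := orderOf_dvd_of_pow_eq_one h3
  have h5 : orderOf z ∣ Nat.card U := Subgroup.orderOf_dvd_natCard U hzU
  have h6 : orderOf g ∣ Nat.card Q := Subgroup.orderOf_dvd_natCard Q hg
  have h7 : orderOf z = 1 :=
    Nat.eq_one_of_dvd_coprimes hcop h5 (h4.trans h6)
  have h8 : z = 1 := orderOf_eq_one_iff.1 h7
  have : u * g * u⁻¹ * g⁻¹ = 1 := by rw [← hz, h8]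
  calc g * u = (u * g * u⁻¹ * g⁻¹)⁻¹ * (u * g) := by group
    _ = u * g := by rw [this]; group

/-- **Thompson's theorem modulo a central subgroup.**  If `a ^ p = 1`, `a` normalizes `K`, and
every element of `K` fixed by `a` lies in a central subgroup `Z0` of `K` (normalized by `a`),
with `p ∤ |K|`, then `K` is nilpotent. -/
theorem nilpotent_of_fixed_le_central [Finite G] {p : ℕ} (hp : p.Prime) {K Z0 : Subgroup G} {a : G}
    (haK : a ∈ Subgroup.normalizer (K : Set G)) (hap : a ^ p = 1)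
    (hZK : Z0 ≤ K) (hZc : Z0 ≤ Subgroup.centralizer (K : Set G))
    (haZ : a ∈ Subgroup.normalizer (Z0 : Set G)) (hpK : ¬ p ∣ Nat.card K)
    (hfix : ∀ k ∈ K, a * k * a⁻¹ = k → k ∈ Z0) : Group.IsNilpotent K := by
  classical
  set A : Subgroup G := Subgroup.zpowers a with hA
  have hAK : A ≤ Subgroup.normalizer (K : Set G) := by
    rw [hA, Subgroup.zpowers_le]; exact haK
  have hAZ : A ≤ Subgroup.normalizer (Z0 : Set G) := by
    rw [hA, Subgroup.zpowers_le]; exact haZ
  have hKZ : K ≤ Subgroup.normalizer (Z0 : Set G) := by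
    apply le_normalizer_of_conj_mem
    intro n hn v hv
    have := Subgroup.mem_centralizer_iff.1 (hZc hv) n hn
    have e : n * v * n⁻¹ = v := by rw [this]; group
    rw [e]; exact hv
  have hAcard : Nat.card A ∣ p := by
    rw [hA, Nat.card_zpowers]; exact orderOf_dvd_of_pow_eq_one hap
  have hcop : (Nat.card A).Coprime (Nat.card K) := by
    rcases (Nat.dvd_prime hp).1 hAcard with h | h
    · rw [h]; exact Nat.coprime_one_left _
    · rw [h]; exact (Nat.Prime.coprime_iff_not_dvd hp).2 hpK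
  have hAsolv : Group.IsSolvable A := by
    rw [hA]
    exact Group.isSolvable_of_comm (fun x y => (IsCyclic.commGroup (α := ↥(Subgroup.zpowers a))).mul_comm x y)
  -- the automorphism
  have hKmap : K.map (MulAut.conj a).toMonoidHom = K := by
    apply TFPF.map_eq_of_forall_mem
    intro x hx
    simp only [MulAut.conj_apply]
    exact conj_mem_of_le_normalizer hAK (Subgroup.mem_zpowers a) hx
  set φ : K ≃* K := TFPF.restrict (MulAut.conj a) K hKmap with hφ
  set N : Subgroup K := Z0.subgroupOf K with hN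
  have hNc : N ≤ Subgroup.center K := by
    intro x hx
    rw [Subgroup.mem_center_iff]
    intro y
    have := Subgroup.mem_centralizer_iff.1 (hZc (Subgroup.mem_subgroupOf.1 hx)) y y.2
    exact Subtype.ext this
  haveI hNn : N.Normal := by
    constructor
    intro n hn g
    have := Subgroup.mem_center_iff.1 (hNc hn) g
    have e : g * n * g⁻¹ = n := by rw [this]; group
    rw [e]; exact hn
  have hNmap : N.map φ.toMonoidHom = N := by
    apply TFPF.map_eq_of_forall_mem
    intro x hx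
    rw [hN, Subgroup.mem_subgroupOf, hφ, TFPF.restrict_coe]
    simp only [MulAut.conj_apply]
    exact conj_mem_of_le_normalizer hAZ (Subgroup.mem_zpowers a) (Subgroup.mem_subgroupOf.1 hx)
  have hgood : TFPF.Good p (TFPF.quot φ N hNmap) := by
    constructor
    · intro x hx
      obtain ⟨g, rfl⟩ := QuotientGroup.mk_surjective x
      rw [TFPF.quot_mk, QuotientGroup.eq] at hx
      -- `(φ g)⁻¹ * g ∈ N`
      have h1 : (a * (g : G) * a⁻¹)⁻¹ * (g : G) ∈ Z0 := by
        have := Subgroup.mem_subgroupOf.1 hx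
        simpa [hφ, TFPF.restrict_coe] using this
      have h2 : ∀ b ∈ A, b * (g : G) * b⁻¹ * (g : G)⁻¹ ∈ Z0 := by
        -- the stabilizer of the coset is a subgroup
        let S : Subgroup G :=
          { carrier := {n | n ∈ Subgroup.normalizer (Z0 : Set G) ∧ n * (g : G) * n⁻¹ * (g : G)⁻¹ ∈ Z0}
            one_mem' := ⟨Subgroup.one_mem _, by simp⟩
            mul_mem' := by
              rintro n m ⟨hn, hn'⟩ ⟨hm, hm'⟩
              refine ⟨Subgroup.mul_mem _ hn hm, ?_⟩
              have h3 : n * (m * (g : G) * m⁻¹ * (g : G)⁻¹) * n⁻¹ ∈ Z0 :=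
                (Subgroup.mem_normalizer_iff.1 hn _).1 hm'
              have e : n * m * (g : G) * (n * m)⁻¹ * (g : G)⁻¹ =
                  (n * (m * (g : G) * m⁻¹ * (g : G)⁻¹) * n⁻¹) * (n * (g : G) * n⁻¹ * (g : G)⁻¹) := by
                group
              show n * m * (g : G) * (n * m)⁻¹ * (g : G)⁻¹ ∈ Z0
              rw [e]
              exact Z0.mul_mem h3 hn'
            inv_mem' := by
              rintro n ⟨hn, hn'⟩
              refine ⟨Subgroup.inv_mem _ hn, ?_⟩
              have h3 : n⁻¹ * (n * (g : G) * n⁻¹ * (g : G)⁻¹)⁻¹ * n⁻¹⁻¹ ∈ Z0 :=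
                (Subgroup.mem_normalizer_iff.1 (Subgroup.inv_mem _ hn) _).1 (Z0.inv_mem hn')
              have e : n⁻¹ * (g : G) * n⁻¹⁻¹ * (g : G)⁻¹ =
                  n⁻¹ * (n * (g : G) * n⁻¹ * (g : G)⁻¹)⁻¹ * n⁻¹⁻¹ := by group
              show n⁻¹ * (g : G) * n⁻¹⁻¹ * (g : G)⁻¹ ∈ Z0
              rw [e]
              exact h3 }
        have haS : a ∈ S := by
          refine ⟨haZ, ?_⟩
          have h3 : (g : G) * ((a * (g : G) * a⁻¹)⁻¹ * (g : G))⁻¹ * (g : G)⁻¹ ∈ Z0 :=
            conj_mem_of_le_normalizer hKZ g.2 (Z0.inv_mem h1)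
          have e : a * (g : G) * a⁻¹ * (g : G)⁻¹ =
              (g : G) * ((a * (g : G) * a⁻¹)⁻¹ * (g : G))⁻¹ * (g : G)⁻¹ := by group
          show a * (g : G) * a⁻¹ * (g : G)⁻¹ ∈ Z0
          rw [e]; exact h3
        have hAS : A ≤ S := by rw [hA, Subgroup.zpowers_le]; exact haS
        intro b hb
        exact (hAS hb).2
      obtain ⟨c, hc, hgc⟩ := coprime_fixed_coset A K hAK hcop (Or.inl hAsolv) Z0 hZK hKZ hAZ
        (g : G) g.2 h2
      have hca : a * c * a⁻¹ = c := by
        have := Subgroup.mem_centralizer_iff.1 hc.2 a (Subgroup.mem_zpowers a)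
        rw [this]; group
      have hcZ : c ∈ Z0 := hfix c hc.1 hca
      have hgZ : (g : G) ∈ Z0 := by
        have h3 : (g : G)⁻¹ ∈ Z0 := by
          have := Z0.mul_mem hgc (Z0.inv_mem hcZ)
          simpa [mul_assoc] using this
        simpa using Z0.inv_mem h3
      rw [QuotientGroup.eq_one_iff]
      exact Subgroup.mem_subgroupOf.2 hgZ
    · intro x
      obtain ⟨g, rfl⟩ := QuotientGroup.mk_surjective x
      rw [TFPF.quot_iterate_mk]
      congr 1
      apply Subtype.ext
      rw [hφ, TFPF.restrict_iterate_coe, TFPF.iterate_eq_pow, ← map_pow, hap, map_one]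
      rfl
  have hnilq : Group.IsNilpotent (K ⧸ N) := TFPF.nilpotent_of_good hp _ (K ⧸ N) _ rfl hgood
  exact Subgroup.isNilpotent_of_ker_le_center (QuotientGroup.mk' N)
    (by rw [QuotientGroup.ker_mk']; exact hNc)

/-- `J` normalizes `U ⊔ Q` when it normalizes `U` and `Q` and `Q` normalizes `U`. -/
theorem le_normalizer_sup {J U Q : Subgroup G} (hQU : Q ≤ Subgroup.normalizer (U : Set G))
    (hJU : J ≤ Subgroup.normalizer (U : Set G)) (hJQ : J ≤ Subgroup.normalizer (Q : Set G)) :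
    J ≤ Subgroup.normalizer ((U ⊔ Q : Subgroup G) : Set G) := by
  apply le_normalizer_of_conj_mem
  intro n hn x hx
  obtain ⟨u, hu, g, hg, rfl⟩ := mem_sup_of_le_normalizer hQU hx
  have e : n * (u * g) * n⁻¹ = (n * u * n⁻¹) * (n * g * n⁻¹) := by group
  rw [e]
  exact Subgroup.mul_mem _ (Subgroup.mem_sup_left (conj_mem_of_le_normalizer hJU hn hu))
    (Subgroup.mem_sup_right (conj_mem_of_le_normalizer hJQ hn hg))

/-- **Frobenius action modulo a central subgroup.** -/
theorem le_centralizer_of_fixed_le_central [Finite G] {p : ℕ} (hp : p.Prime)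
    {U Q Z0 : Subgroup G} {a : G}
    (hQU : Q ≤ Subgroup.normalizer (U : Set G)) (haU : a ∈ Subgroup.normalizer (U : Set G))
    (haQ : a ∈ Subgroup.normalizer (Q : Set G)) (hap : a ^ p = 1)
    (hcop : (Nat.card U).Coprime (Nat.card Q)) (hpU : ¬ p ∣ Nat.card U) (hpQ : ¬ p ∣ Nat.card Q)
    (hfpf : ∀ g ∈ Q, a * g * a⁻¹ = g → g = 1)
    (hZU : Z0 ≤ U) (hZcU : Z0 ≤ Subgroup.centralizer (U : Set G))
    (hZcQ : Z0 ≤ Subgroup.centralizer (Q : Set G))
    (haZ : a ∈ Subgroup.normalizer (Z0 : Set G))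
    (hfix : ∀ u ∈ U, a * u * a⁻¹ = u → u ∈ Z0) : U ≤ Subgroup.centralizer (Q : Set G) := by
  set K : Subgroup G := U ⊔ Q with hK
  have hdisj : Q ⊓ U = ⊥ := inf_eq_bot_of_coprime_card hcop.symm
  have hKcard : Nat.card K = Nat.card Q * Nat.card U := card_sup_of_le_normalizer hQU hdisj
  have hpK : ¬ p ∣ Nat.card K := by
    rw [hKcard]
    intro h
    rcases (Nat.Prime.dvd_mul hp).1 h with h | h
    · exact hpQ h
    · exact hpU h
  have hAU : Subgroup.zpowers a ≤ Subgroup.normalizer (U : Set G) := by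
    rw [Subgroup.zpowers_le]; exact haU
  have hAQ : Subgroup.zpowers a ≤ Subgroup.normalizer (Q : Set G) := by
    rw [Subgroup.zpowers_le]; exact haQ
  have haK : a ∈ Subgroup.normalizer (K : Set G) :=
    le_normalizer_sup hQU hAU hAQ (Subgroup.mem_zpowers a)
  have hZK : Z0 ≤ K := hZU.trans le_sup_left
  have hZc : Z0 ≤ Subgroup.centralizer (K : Set G) := by
    intro z hz
    rw [Subgroup.mem_centralizer_iff]
    intro x hx
    obtain ⟨u, hu, g, hg, rfl⟩ := mem_sup_of_le_normalizer hQU hx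
    have h1 := Subgroup.mem_centralizer_iff.1 (hZcU hz) u hu
    have h2 := Subgroup.mem_centralizer_iff.1 (hZcQ hz) g hg
    calc u * g * z = u * (g * z) := by group
      _ = u * (z * g) := by rw [h2]
      _ = (u * z) * g := by group
      _ = (z * u) * g := by rw [h1]
      _ = z * (u * g) := by group
  have hfixK : ∀ k ∈ K, a * k * a⁻¹ = k → k ∈ Z0 := by
    intro k hk hka
    obtain ⟨u, hu, g, hg, rfl⟩ := mem_sup_of_le_normalizer hQU hk
    have hu' : a * u * a⁻¹ ∈ U := conj_mem_of_le_normalizer hAU (Subgroup.mem_zpowers a) hu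
    have hg' : a * g * a⁻¹ ∈ Q := conj_mem_of_le_normalizer hAQ (Subgroup.mem_zpowers a) hg
    have e : u⁻¹ * (a * u * a⁻¹) = g * (a * g * a⁻¹)⁻¹ := by
      have h1 : (a * u * a⁻¹) * (a * g * a⁻¹) = u * g := by
        rw [← hka]; group
      calc u⁻¹ * (a * u * a⁻¹) = u⁻¹ * ((a * u * a⁻¹) * (a * g * a⁻¹)) * (a * g * a⁻¹)⁻¹ := by
            group
        _ = u⁻¹ * (u * g) * (a * g * a⁻¹)⁻¹ := by rw [h1]
        _ = g * (a * g * a⁻¹)⁻¹ := by group
    have h2 : g * (a * g * a⁻¹)⁻¹ ∈ Q ⊓ U :=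
      ⟨Q.mul_mem hg (Q.inv_mem hg'), e ▸ U.mul_mem (U.inv_mem hu) hu'⟩
    rw [hdisj, Subgroup.mem_bot] at h2
    have h3 : a * g * a⁻¹ = g := by
      have : g = a * g * a⁻¹ := by
        calc g = g * (a * g * a⁻¹)⁻¹ * (a * g * a⁻¹) := by group
          _ = a * g * a⁻¹ := by rw [h2, one_mul]
      exact this.symm
    have hg1 : g = 1 := hfpf g hg h3
    subst hg1
    rw [mul_one] at hka ⊢
    exact hfix u hu hka
  have hnil : Group.IsNilpotent K :=
    nilpotent_of_fixed_le_central hp haK hap hZK hZc haZ hpK hfixK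
  intro u hu
  rw [Subgroup.mem_centralizer_iff]
  intro g hg
  have hco : (orderOf g).Coprime (orderOf u) :=
    Nat.Coprime.coprime_dvd_left (Subgroup.orderOf_dvd_natCard Q hg)
      (Nat.Coprime.coprime_dvd_right (Subgroup.orderOf_dvd_natCard U hu) hcop.symm)
  exact commute_of_coprime_orderOf_of_mem hnil (Subgroup.mem_sup_right hg)
    (Subgroup.mem_sup_left hu) hco

end Cfsg.Agent.Helper1.BGFrob
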