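import Mathlib
import Cfsg.Agent.Helper1.BGFrobA
import Cfsg.Agent.Helper4.HamiltonianA

set_option autoImplicit false

/-!
**Lemma F'** (the heart of Bender–Glauberman 12.17(a)).  Let `QP` be a Frobenius group (`P = ⟨a⟩`
of prime order `p` acting fixed-point-freely on `Q`) acting coprimely on a `t`-group `T`, `t` odd.
If `C_T(a)` is cyclic and `C_T(Q⟨a⟩) ≠ 1`, then `Q` centralizes `T`.
-/

namespace Cfsg.Agent.Helper1.BGFrob

open Cfsg.Agent.Helper1
open scoped commutatorElement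

universe u

variable {G : Type u} [Group G]

/-- In a cyclic `t`-group, an element of order dividing `t` lies in the group generated by any
nonidentity element. -/
theorem mem_zpowers_of_isCyclic_pgroup [Finite G] {t : ℕ} (ht : t.Prime) {C : Subgroup G}
    (hCc : IsCyclic ↥C) (hCt : IsPGroup t ↥C) {x y : G} (hx : x ∈ C) (hy : y ∈ C) (hx1 : x ≠ 1)
    (hyt : y ^ t = 1) : y ∈ Subgroup.zpowers x := by
  classical
  haveI := Fact.mk ht
  haveI : Fintype ↥C := Fintype.ofFinite _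
  obtain ⟨k, hk⟩ := (IsPGroup.iff_orderOf.1 hCt) ⟨x, hx⟩
  have hk0 : k ≠ 0 := by
    rintro rfl
    rw [pow_zero, orderOf_eq_one_iff] at hk
    exact hx1 (congrArg Subtype.val hk)
  set x' : ↥C := (⟨x, hx⟩ : ↥C) ^ (t ^ (k - 1)) with hx'
  have hx'ord : orderOf x' = t := by
    rw [hx', orderOf_pow_of_dvd (pow_ne_zero _ ht.ne_zero), hk]
    · have : t ^ k = t ^ (k - 1) * t := by
        rw [← pow_succ]; congr 1; omega
      rw [this, Nat.mul_div_cancel_left _ (pow_pos ht.pos _)]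
    · rw [hk]; exact pow_dvd_pow _ (Nat.sub_le _ _)
  have hS : (Finset.univ.filter (fun z : ↥C => z ^ t = 1)).card ≤ t :=
    IsCyclic.card_pow_eq_one_le ht.pos
  have hsub : (Subgroup.zpowers x' : Set ↥C).toFinset ⊆ Finset.univ.filter (fun z : ↥C => z ^ t = 1) := by
    intro z hz
    rw [Set.mem_toFinset] at hz
    obtain ⟨i, rfl⟩ := Subgroup.mem_zpowers_iff.1 hz
    rw [Finset.mem_filter]
    refine ⟨Finset.mem_univ _, ?_⟩
    rw [← zpow_natCast, ← zpow_mul, mul_comm, zpow_mul, zpow_natCast, ← hx'ord, pow_orderOf_eq_one,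
      one_zpow]
  have hcard : (Subgroup.zpowers x' : Set ↥C).toFinset.card = t := by
    rw [Set.toFinset_card, ← Nat.card_eq_fintype_card]
    rw [← hx'ord]
    exact Nat.card_zpowers x'
  have heq := Finset.eq_of_subset_of_card_le hsub (by rw [hcard]; exact hS)
  have hy' : (⟨y, hy⟩ : ↥C) ∈ (Subgroup.zpowers x' : Set ↥C).toFinset := by
    rw [heq, Finset.mem_filter]
    exact ⟨Finset.mem_univ _, Subtype.ext (by simpa using hyt)⟩
  rw [Set.mem_toFinset] at hy'
  obtain ⟨i, hi⟩ := Subgroup.mem_zpowers_iff.1 hy'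
  have h1 := congrArg Subtype.val hi
  rw [hx'] at h1
  simp only [Subgroup.coe_zpow, Subgroup.coe_pow] at h1
  rw [← h1, ← zpow_natCast, ← zpow_mul]
  exact Subgroup.zpow_mem_zpowers x _

/-- conjugating by an element normalizing `Q` preserves `C(Q)`. -/
theorem conj_mem_centralizer {Q : Subgroup G} {n c : G}
    (hn : n ∈ Subgroup.normalizer (Q : Set G)) (hc : c ∈ Subgroup.centralizer (Q : Set G)) :
    n * c * n⁻¹ ∈ Subgroup.centralizer (Q : Set G) := by
  rw [Subgroup.mem_centralizer_iff]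
  intro g hg
  have hg' : n⁻¹ * g * n⁻¹⁻¹ ∈ Q :=
    (Subgroup.mem_normalizer_iff.1 (Subgroup.inv_mem _ hn) g).1 hg
  have h1 := Subgroup.mem_centralizer_iff.1 hc _ hg'
  calc g * (n * c * n⁻¹) = n * ((n⁻¹ * g * n⁻¹⁻¹) * c) * n⁻¹ := by group
    _ = n * (c * (n⁻¹ * g * n⁻¹⁻¹)) * n⁻¹ := by rw [h1]
    _ = n * c * n⁻¹ * g := by group

theorem le_normalizer_centralizer {J Q : Subgroup G}
    (h : J ≤ Subgroup.normalizer (Q : Set G)) :
    J ≤ Subgroup.normalizer ((Subgroup.centralizer (Q : Set G) : Subgroup G) : Set G) :=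
  le_normalizer_of_conj_mem (fun _ hn _ hc => conj_mem_centralizer (h hn) hc)

/-- the key commutator computation: if `z` commutes with `g`, and `u⁻¹ z u` commutes with `g`,
then `z` commutes with `u g u⁻¹ g⁻¹`. -/
theorem commutator_commute {u g z : G} (h1 : g * z = z * g)
    (h2 : g * (u⁻¹ * z * u) = (u⁻¹ * z * u) * g) :
    (u * g * u⁻¹ * g⁻¹) * z = z * (u * g * u⁻¹ * g⁻¹) := by
  have hzg : g⁻¹ * z = z * g⁻¹ := by
    calc g⁻¹ * z = g⁻¹ * (z * g) * g⁻¹ := by group
      _ = g⁻¹ * (g * z) * g⁻¹ := by rw [h1]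
      _ = z * g⁻¹ := by group
  calc (u * g * u⁻¹ * g⁻¹) * z = u * g * u⁻¹ * (g⁻¹ * z) := by group
    _ = u * g * u⁻¹ * (z * g⁻¹) := by rw [hzg]
    _ = u * (g * (u⁻¹ * z * u)) * u⁻¹ * g⁻¹ := by group
    _ = u * ((u⁻¹ * z * u) * g) * u⁻¹ * g⁻¹ := by rw [h2]
    _ = z * (u * g * u⁻¹ * g⁻¹) := by group

/-- **Lemma F'**, element form. -/
theorem frobenius_cyclic_core [Finite G] {t p : ℕ} (ht : t.Prime) (ht2 : t ≠ 2) (hp : p.Prime)
    (hpt : p ≠ t) {T Q : Subgroup G} {a : G} (hT : IsPGroup t ↥T)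
    (hQT : Q ≤ Subgroup.normalizer (T : Set G)) (haT : a ∈ Subgroup.normalizer (T : Set G))
    (haQ : a ∈ Subgroup.normalizer (Q : Set G)) (hap : a ^ p = 1)
    (hQt : (Nat.card Q).Coprime t) (hpQ : ¬ p ∣ Nat.card Q)
    (hfpf : ∀ g ∈ Q, a * g * a⁻¹ = g → g = 1)
    (hcyc : IsCyclic ↥(T ⊓ Subgroup.centralizer ({a} : Set G)))
    {y : G} (hyT : y ∈ T) (hy1 : y ≠ 1) (hyt : y ^ t = 1)
    (hyQ : y ∈ Subgroup.centralizer (Q : Set G)) (hya : a * y * a⁻¹ = y) :
    T ≤ Subgroup.centralizer (Q : Set G) := by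
  classical
  haveI := Fact.mk ht
  by_contra hTQ
  set J : Subgroup G := Q ⊔ Subgroup.zpowers a with hJ
  have hQJ : Q ≤ J := le_sup_left
  have haJ : a ∈ J := (le_sup_right : Subgroup.zpowers a ≤ J) (Subgroup.mem_zpowers a)
  have hJT : J ≤ Subgroup.normalizer (T : Set G) :=
    sup_le hQT (by rw [Subgroup.zpowers_le]; exact haT)
  have hJQ : J ≤ Subgroup.normalizer (Q : Set G) :=
    sup_le Subgroup.le_normalizer (by rw [Subgroup.zpowers_le]; exact haQ)
  have hJC : J ≤ Subgroup.normalizer ((Subgroup.centralizer (Q : Set G) : Subgroup G) : Set G) :=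
    le_normalizer_centralizer hJQ
  -- a minimal counterexample
  let 𝒮 : Set (Subgroup G) :=
    {U | U ≤ T ∧ J ≤ Subgroup.normalizer (U : Set G) ∧ ¬ U ≤ Subgroup.centralizer (Q : Set G)}
  obtain ⟨U, hUmin⟩ := (Set.toFinite 𝒮).exists_minimal ⟨T, le_rfl, hJT, hTQ⟩
  obtain ⟨hUT, hJU, hUQ⟩ : U ∈ 𝒮 := hUmin.prop
  have hmin : ∀ V : Subgroup G, V ≤ U → J ≤ Subgroup.normalizer (V : Set G) → V ≠ U →
      V ≤ Subgroup.centralizer (Q : Set G) := by
    intro V hVU hJV hne
    by_contra h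
    exact hne (le_antisymm hVU (hUmin.le_of_le ⟨hVU.trans hUT, hJV, h⟩ hVU))
  have hUp : IsPGroup t ↥U := hT.to_le hUT
  obtain ⟨m, hm⟩ := IsPGroup.iff_card.1 hUp
  have hcop : (Nat.card U).Coprime (Nat.card Q) := by
    rw [hm]; exact (Nat.Coprime.pow_right m hQt).symm
  have hpU : ¬ p ∣ Nat.card U := by
    rw [hm]
    intro h
    exact hpt ((Nat.prime_dvd_prime_iff_eq hp ht).1 (hp.dvd_of_dvd_pow h))
  have hQU : Q ≤ Subgroup.normalizer (U : Set G) := hQJ.trans hJU
  have haU : a ∈ Subgroup.normalizer (U : Set G) := hJU haJ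
  set Z0 : Subgroup G := U ⊓ Subgroup.centralizer (Q : Set G) with hZ0
  have hZU : Z0 ≤ U := inf_le_left
  have hZQ : Z0 ≤ Subgroup.centralizer (Q : Set G) := inf_le_right
  have hJZ : J ≤ Subgroup.normalizer (Z0 : Set G) := le_normalizer_inf hJU hJC
  have hZne : Z0 ≠ U := fun h => hUQ (h ▸ hZQ)
  have hminZ : ∀ V : Subgroup G, V ≤ U → J ≤ Subgroup.normalizer (V : Set G) → V ≠ U → V ≤ Z0 :=
    fun V hVU hJV hne => le_inf hVU (hmin V hVU hJV hne)
  have hcommU : ∀ u ∈ U, ∀ g ∈ Q, u * g * u⁻¹ * g⁻¹ ∈ U := by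
    intro u hu g hg
    have h1 : g * u⁻¹ * g⁻¹ ∈ U := conj_mem_of_le_normalizer hQU hg (U.inv_mem hu)
    have e : u * g * u⁻¹ * g⁻¹ = u * (g * u⁻¹ * g⁻¹) := by group
    rw [e]; exact U.mul_mem hu h1
  -- Step 2: `U` normalizes `Z0`
  have hUZ : U ≤ Subgroup.normalizer (Z0 : Set G) := by
    by_contra hnot
    set N1 : Subgroup G := U ⊓ Subgroup.normalizer (Z0 : Set G) with hN1
    have hN1U : N1 ≤ U := inf_le_left
    have hJN1 : J ≤ Subgroup.normalizer (N1 : Set G) :=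
      le_normalizer_inf hJU (hJZ.trans Subgroup.le_normalizer)
    have hN1ne : N1 ≠ U := fun h => hnot (h ▸ inf_le_right)
    have hN1Z : N1 ≤ Z0 := hminZ N1 hN1U hJN1 hN1ne
    haveI : Group.IsNilpotent ↥U := hUp.isNilpotent
    have hnc := Group.normalizerCondition_of_isNilpotent (G := ↥U) (Z0.subgroupOf U) (by
      rw [lt_top_iff_ne_top]
      intro h
      apply hZne
      apply le_antisymm hZU
      intro x hx
      have : (⟨x, hx⟩ : ↥U) ∈ Z0.subgroupOf U := by rw [h]; trivial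
      exact Subgroup.mem_subgroupOf.1 this)
    rw [← Subgroup.subgroupOf_normalizer_eq hZU] at hnc
    obtain ⟨x, hxN, hxZ⟩ := SetLike.exists_of_lt hnc
    apply hxZ
    rw [Subgroup.mem_subgroupOf]
    exact hN1Z ⟨x.2, Subgroup.mem_subgroupOf.1 hxN⟩
  -- Step 3: `Z0` is central in `U`
  have hZcU : Z0 ≤ Subgroup.centralizer (U : Set G) := by
    set U2 : Subgroup G := U ⊓ Subgroup.centralizer (Z0 : Set G) with hU2
    have hU2U : U2 ≤ U := inf_le_left
    have hJU2 : J ≤ Subgroup.normalizer (U2 : Set G) :=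
      le_normalizer_inf hJU (le_normalizer_centralizer hJZ)
    have hcomm2 : ∀ u ∈ U, ∀ g ∈ Q, u * g * u⁻¹ * g⁻¹ ∈ U2 := by
      intro u hu g hg
      refine ⟨hcommU u hu g hg, ?_⟩
      change u * g * u⁻¹ * g⁻¹ ∈ Subgroup.centralizer (Z0 : Set G)
      rw [Subgroup.mem_centralizer_iff]
      intro z hz
      have hz' : u⁻¹ * z * u⁻¹⁻¹ ∈ Z0 := conj_mem_of_le_normalizer hUZ (U.inv_mem hu) hz
      rw [inv_inv] at hz'
      have h1 := Subgroup.mem_centralizer_iff.1 (hZQ hz) g hg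
      have h2 := Subgroup.mem_centralizer_iff.1 (hZQ hz') g hg
      exact (commutator_commute h1 h2).symm
    by_cases hU2e : U2 = U
    · intro z hz
      rw [Subgroup.mem_centralizer_iff]
      intro u hu
      have : u ∈ U2 := hU2e ▸ hu
      exact (Subgroup.mem_centralizer_iff.1 this.2 z hz).symm
    · exfalso
      have hU2Z : U2 ≤ Z0 := hminZ U2 hU2U hJU2 hU2e
      apply hUQ
      apply le_centralizer_of_commutator_mem_centralizer hcop
      intro u hu g hg
      exact ⟨hcommU u hu g hg, hZQ (hU2Z (hcomm2 u hu g hg))⟩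
  have hZcomm : ∀ z ∈ Z0, ∀ u ∈ U, z * u = u * z := fun z hz u hu =>
    (Subgroup.mem_centralizer_iff.1 (hZcU hz) u hu).symm
  -- Step 4: commutators of `U` lie in `Z0`
  have hUne : U ≠ ⊥ := by
    rintro rfl
    exact hUQ bot_le
  have hD : ∀ u ∈ U, ∀ v ∈ U, u * v * u⁻¹ * v⁻¹ ∈ Z0 := by
    set D : Subgroup G := ⁅U, U⁆ with hDdef
    have hDU : D ≤ U := Subgroup.commutator_le_self U
    have hJD : J ≤ Subgroup.normalizer (D : Set G) := by
      apply le_normalizer_of_conj_mem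
      intro n hn
      have hle : D ≤ D.comap (MulAut.conj n).toMonoidHom := by
        rw [hDdef, Subgroup.commutator_le]
        intro u hu v hv
        rw [Subgroup.mem_comap, map_commutatorElement]
        apply Subgroup.commutator_mem_commutator
        · simp only [MulEquiv.coe_toMonoidHom, MulAut.conj_apply]
          exact conj_mem_of_le_normalizer hJU hn hu
        · simp only [MulEquiv.coe_toMonoidHom, MulAut.conj_apply]
          exact conj_mem_of_le_normalizer hJU hn hv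
      intro d hd
      have := hle hd
      simpa [Subgroup.mem_comap] using this
    have hDne : D ≠ U := by
      intro h
      haveI : Group.IsNilpotent ↥U := hUp.isNilpotent
      haveI : Nontrivial ↥U := (Subgroup.nontrivial_iff_ne_bot U).2 hUne
      have h1 := Group.IsSolvable.commutator_lt_top_of_nontrivial (G := ↥U)
      have h2 : (_root_.commutator ↥U).map U.subtype = (⊤ : Subgroup ↥U).map U.subtype := by
        rw [Subgroup.map_subtype_commutator, ← MonoidHom.range_eq_map, Subgroup.range_subtype]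
        exact h
      exact h1.ne (Subgroup.map_injective U.subtype_injective h2)
    have hDZ : D ≤ Z0 := hminZ D hDU hJD hDne
    intro u hu v hv
    have : ⁅u, v⁆ ∈ D := Subgroup.commutator_mem_commutator hu hv
    rw [commutatorElement_def] at this
    exact hDZ this
  -- the twist
  have htwist : ∀ u ∈ U, ∀ v ∈ U, ∀ n : ℕ,
      (u * v) ^ n = u ^ n * v ^ n * (v⁻¹ * u⁻¹ * v * u) ^ (n.choose 2) := by
    intro u hu v hv n
    have hc : v⁻¹ * u⁻¹ * v * u ∈ Z0 := by
      have := hD v⁻¹ (U.inv_mem hv) u⁻¹ (U.inv_mem hu)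
      simpa using this
    exact Cfsg.Agent.Helper4.twist_mul_pow_choose u v _ (by group) (hZcomm _ hc u hu)
      (hZcomm _ hc v hv) n
  -- Step 5: `t`-th powers lie in `Z0`
  have hpowZ : ∀ u ∈ U, u ^ t ∈ Z0 := by
    set U3 : Subgroup G :=
      { carrier := {u | u ∈ U ∧ u ^ t ∈ Z0}
        one_mem' := ⟨U.one_mem, by rw [one_pow]; exact Z0.one_mem⟩
        mul_mem' := by
          rintro u v ⟨hu, hu'⟩ ⟨hv, hv'⟩
          refine ⟨U.mul_mem hu hv, ?_⟩
          rw [htwist u hu v hv t]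
          have hc : v⁻¹ * u⁻¹ * v * u ∈ Z0 := by
            have := hD v⁻¹ (U.inv_mem hv) u⁻¹ (U.inv_mem hu)
            simpa using this
          exact Z0.mul_mem (Z0.mul_mem hu' hv') (Z0.pow_mem hc _)
        inv_mem' := by
          rintro u ⟨hu, hu'⟩
          refine ⟨U.inv_mem hu, ?_⟩
          rw [inv_pow]; exact Z0.inv_mem hu' } with hU3
    have hU3U : U3 ≤ U := fun u hu => hu.1
    have hJU3 : J ≤ Subgroup.normalizer (U3 : Set G) := by
      apply le_normalizer_of_conj_mem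
      intro n hn u hu
      refine ⟨conj_mem_of_le_normalizer hJU hn hu.1, ?_⟩
      rw [conj_pow]
      exact conj_mem_of_le_normalizer hJZ hn hu.2
    by_cases hU3e : U3 = U
    · intro u hu
      have : u ∈ U3 := hU3e ▸ hu
      exact this.2
    · exfalso
      have hU3Z : U3 ≤ Z0 := hminZ U3 hU3U hJU3 hU3e
      obtain ⟨x, hxU, hxZ⟩ := SetLike.exists_of_lt (lt_of_le_of_ne hZU hZne)
      have hex : ∃ k : ℕ, x ^ (t ^ k) ∈ Z0 := by
        obtain ⟨k, hk⟩ := hUp ⟨x, hxU⟩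
        refine ⟨k, ?_⟩
        have := congrArg Subtype.val hk
        simp only [Subgroup.coe_pow, Subgroup.coe_one] at this
        rw [this]; exact Z0.one_mem
      set k0 := Nat.find hex with hk0
      have hk0spec : x ^ (t ^ k0) ∈ Z0 := Nat.find_spec hex
      have hk0ne : k0 ≠ 0 := by
        intro h
        rw [h, pow_zero, pow_one] at hk0spec
        exact hxZ hk0spec
      have hprev : x ^ (t ^ (k0 - 1)) ∉ Z0 := Nat.find_min hex (by omega)
      apply hprev
      apply hU3Z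
      refine ⟨U.pow_mem hxU _, ?_⟩
      rw [← pow_mul, ← pow_succ]
      have : k0 - 1 + 1 = k0 := by omega
      rw [this]; exact hk0spec
  -- Step 6: the `t`-th power map is a homomorphism on `U`
  have hpowmul : ∀ u ∈ U, ∀ v ∈ U, (u * v) ^ t = u ^ t * v ^ t := by
    intro u hu v hv
    have hc : v⁻¹ * u⁻¹ * v * u ∈ Z0 := by
      have := hD v⁻¹ (U.inv_mem hv) u⁻¹ (U.inv_mem hu)
      simpa using this
    have h1 := Cfsg.Agent.Helper4.twist_pow_mul u v (v⁻¹ * u⁻¹ * v * u) (by group)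
      (hZcomm _ hc v hv) t
    have h2 : v ^ t * u = u * v ^ t := hZcomm _ (hpowZ v hv) u hu
    have hct : (v⁻¹ * u⁻¹ * v * u) ^ t = 1 := by
      rw [h2] at h1
      have := mul_left_cancel (a := u * v ^ t) (b := 1) (c := (v⁻¹ * u⁻¹ * v * u) ^ t)
        (by rw [mul_one]; exact h1)
      exact this.symm
    have hdvd : t ∣ t.choose 2 := by
      apply ht.dvd_choose_self (by norm_num)
      have := ht.two_le
      omega
    obtain ⟨e, he⟩ := hdvd
    rw [htwist u hu v hv t, he, pow_mul, hct, one_pow, mul_one]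
  -- Step 7: a fixed point of `a` on `U` outside `Z0`
  obtain ⟨c0, hc0U, hc0a, hc0Z⟩ : ∃ c0 ∈ U, a * c0 * a⁻¹ = c0 ∧ c0 ∉ Z0 := by
    by_contra hne
    push Not at hne
    exact hUQ (le_centralizer_of_fixed_le_central hp hQU haU haQ hap hcop hpU hpQ hfpf hZU hZcU
      hZQ (hJZ haJ) hne)
  -- Step 8: `y ∈ ⟨c0⟩`, and `c0 ^ t ≠ 1`
  set C : Subgroup G := T ⊓ Subgroup.centralizer ({a} : Set G) with hC
  have hCt : IsPGroup t ↥C := hT.to_le inf_le_left
  have hmemC : ∀ x ∈ T, a * x * a⁻¹ = x → x ∈ C := by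
    intro x hx hxa
    refine ⟨hx, ?_⟩
    change x ∈ Subgroup.centralizer ({a} : Set G)
    rw [Subgroup.mem_centralizer_iff]
    intro b hb
    rw [Set.mem_singleton_iff] at hb
    subst hb
    calc b * x = (b * x * b⁻¹) * b := by group
      _ = x * b := by rw [hxa]
  have hc0C : c0 ∈ C := hmemC c0 (hUT hc0U) hc0a
  have hyC : y ∈ C := hmemC y hyT hya
  have hc01 : c0 ≠ 1 := fun h => hc0Z (h ▸ Z0.one_mem)
  have hyc0 : y ∈ Subgroup.zpowers c0 :=
    mem_zpowers_of_isCyclic_pgroup ht hcyc hCt hc0C hyC hc01 hyt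
  have hyU : y ∈ U := (Subgroup.zpowers_le.2 hc0U) hyc0
  have hyZ : y ∈ Z0 := ⟨hyU, hyQ⟩
  have hc0t : c0 ^ t ≠ 1 := by
    intro h
    have : c0 ∈ Subgroup.zpowers y :=
      mem_zpowers_of_isCyclic_pgroup ht hcyc hCt hyC hc0C hy1 h
    exact hc0Z ((Subgroup.zpowers_le.2 hyZ) this)
  -- Step 9: `Ω = {u ∈ U | u ^ t = 1}`
  set Om : Subgroup G :=
    { carrier := {u | u ∈ U ∧ u ^ t = 1}
      one_mem' := ⟨U.one_mem, one_pow _⟩
      mul_mem' := by
        rintro u v ⟨hu, hu'⟩ ⟨hv, hv'⟩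
        refine ⟨U.mul_mem hu hv, ?_⟩
        rw [hpowmul u hu v hv, hu', hv', one_mul]
      inv_mem' := by
        rintro u ⟨hu, hu'⟩
        refine ⟨U.inv_mem hu, ?_⟩
        rw [inv_pow, hu', inv_one] } with hOm
  have hOmU : Om ≤ U := fun u hu => hu.1
  have hJOm : J ≤ Subgroup.normalizer (Om : Set G) := by
    apply le_normalizer_of_conj_mem
    intro n hn u hu
    refine ⟨conj_mem_of_le_normalizer hJU hn hu.1, ?_⟩
    rw [conj_pow, hu.2]; group
  have hOmne : Om ≠ U := by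
    intro h
    have : c0 ∈ Om := h ▸ hc0U
    exact hc0t this.2
  have hOmQ : Om ≤ Subgroup.centralizer (Q : Set G) := hmin Om hOmU hJOm hOmne
  -- Step 10
  apply hUQ
  apply le_centralizer_of_commutator_mem_centralizer hcop
  intro u hu g hg
  refine ⟨hcommU u hu g hg, ?_⟩
  apply hOmQ
  refine ⟨hcommU u hu g hg, ?_⟩
  have h1 : g * u⁻¹ * g⁻¹ ∈ U := conj_mem_of_le_normalizer hQU hg (U.inv_mem hu)
  have e : u * g * u⁻¹ * g⁻¹ = u * (g * u⁻¹ * g⁻¹) := by group
  rw [e, hpowmul u hu _ h1, conj_pow, inv_pow]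
  have h2 := Subgroup.mem_centralizer_iff.1 (hZQ (Z0.inv_mem (hpowZ u hu))) g hg
  calc u ^ t * (g * (u ^ t)⁻¹ * g⁻¹) = u ^ t * ((u ^ t)⁻¹ * g) * g⁻¹ := by rw [h2]; group
    _ = 1 := by group

/-- centralizing a generator is centralizing the cyclic group. -/
theorem centralizer_zpowers_eq (a : G) :
    Subgroup.centralizer ((Subgroup.zpowers a : Subgroup G) : Set G) =
      Subgroup.centralizer ({a} : Set G) := by
  apply le_antisymm
  · apply Subgroup.centralizer_le
    intro x hx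
    rw [Set.mem_singleton_iff] at hx
    subst hx
    exact Subgroup.mem_zpowers x
  · intro x hx
    rw [Subgroup.mem_centralizer_iff] at hx ⊢
    intro b hb
    obtain ⟨k, rfl⟩ := Subgroup.mem_zpowers_iff.1 hb
    have h1 : Commute a x := hx a (Set.mem_singleton a)
    exact (h1.zpow_left k).eq

/-- **Lemma F'** (Bender–Glauberman 12.17(a), abstract form).  `P` of prime order `p` acts
fixed-point-freely on `Q`; `QP` acts coprimely on the `t`-group `T` (`t` odd).  If `C_T(P)` is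
cyclic and `C_T(QP) ≠ 1` then `Q` centralizes `T`. -/
theorem frobenius_cyclic_centralizer [Finite G] {t p : ℕ} (ht : t.Prime) (ht2 : t ≠ 2)
    (hp : p.Prime) (hpt : p ≠ t) {T Q P : Subgroup G} (hT : IsPGroup t ↥T)
    (hQT : Q ≤ Subgroup.normalizer (T : Set G)) (hPT : P ≤ Subgroup.normalizer (T : Set G))
    (hPQ : P ≤ Subgroup.normalizer (Q : Set G)) (hPcard : Nat.card P = p)
    (hQt : (Nat.card Q).Coprime t) (hQp : (Nat.card Q).Coprime p)
    (hfpf : Q ⊓ Subgroup.centralizer (P : Set G) = ⊥)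
    (hcyc : IsCyclic ↥(T ⊓ Subgroup.centralizer (P : Set G)))
    (hne : T ⊓ Subgroup.centralizer (Q : Set G) ⊓ Subgroup.centralizer (P : Set G) ≠ ⊥) :
    T ≤ Subgroup.centralizer (Q : Set G) := by
  haveI := Fact.mk hp
  haveI := Fact.mk ht
  haveI : IsCyclic ↥P := isCyclic_of_prime_card hPcard
  obtain ⟨a0, ha0⟩ := IsCyclic.exists_generator (α := ↥P)
  obtain ⟨a, haP, ha⟩ : ∃ a ∈ P, Subgroup.zpowers a = P := by
    refine ⟨a0, a0.2, ?_⟩
    apply le_antisymm (Subgroup.zpowers_le.2 a0.2)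
    intro x hx
    obtain ⟨k, hk⟩ := Subgroup.mem_zpowers_iff.1 (ha0 ⟨x, hx⟩)
    have := congrArg Subtype.val hk
    simp only [Subgroup.coe_zpow] at this
    rw [← this]
    exact Subgroup.zpow_mem_zpowers _ _
  have hCP : Subgroup.centralizer (P : Set G) = Subgroup.centralizer ({a} : Set G) := by
    rw [← ha]; exact centralizer_zpowers_eq a
  have hap : a ^ p = 1 := by
    have h1 : orderOf a ∣ p := by
      rw [← hPcard, ← ha, Nat.card_zpowers]
    exact orderOf_dvd_iff_pow_eq_one.1 h1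
  have hcomm_of_fix : ∀ x : G, a * x * a⁻¹ = x → x ∈ Subgroup.centralizer ({a} : Set G) := by
    intro x hx
    rw [Subgroup.mem_centralizer_iff]
    intro b hb
    rw [Set.mem_singleton_iff] at hb
    subst hb
    calc b * x = (b * x * b⁻¹) * b := by group
      _ = x * b := by rw [hx]
  have hfix_of_comm : ∀ x : G, x ∈ Subgroup.centralizer ({a} : Set G) → a * x * a⁻¹ = x := by
    intro x hx
    have := Subgroup.mem_centralizer_iff.1 hx a (Set.mem_singleton a)
    rw [this]; group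
  obtain ⟨y0, hy01⟩ := (Subgroup.ne_bot_iff_exists_ne_one).1 hne
  obtain ⟨⟨hy0T, hy0Q⟩, hy0P⟩ : (y0 : G) ∈ T ⊓ Subgroup.centralizer (Q : Set G) ⊓
      Subgroup.centralizer (P : Set G) := y0.2
  have hy01' : (y0 : G) ≠ 1 := fun h => hy01 (Subtype.ext h)
  -- an element of order `t`
  obtain ⟨k, hk⟩ := (IsPGroup.iff_orderOf.1 hT) ⟨(y0 : G), hy0T⟩
  rw [Subgroup.orderOf_mk] at hk
  have hk0 : k ≠ 0 := by
    rintro rfl
    rw [pow_zero, orderOf_eq_one_iff] at hk
    exact hy01' hk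
  have htd : t ∣ orderOf (y0 : G) := by
    rw [hk]; exact dvd_pow_self t hk0
  set y : G := (y0 : G) ^ (orderOf (y0 : G) / t) with hy
  have hyord : orderOf y = t := orderOf_pow_orderOf_div (orderOf_pos _).ne' htd
  have hy1 : y ≠ 1 := by
    intro h
    rw [h, orderOf_one] at hyord
    exact ht.one_lt.ne hyord
  have hyt : y ^ t = 1 := by rw [← hyord]; exact pow_orderOf_eq_one y
  have hyT : y ∈ T := T.pow_mem hy0T _
  have hyQ : y ∈ Subgroup.centralizer (Q : Set G) := Subgroup.pow_mem _ hy0Q _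
  have hyP : y ∈ Subgroup.centralizer ({a} : Set G) := by
    rw [← hCP]; exact Subgroup.pow_mem _ hy0P _
  refine frobenius_cyclic_core ht ht2 hp hpt hT hQT (hPT haP) (hPQ haP) hap hQt ?_ ?_ (hCP ▸ hcyc)
    hyT hy1 hyt hyQ (hfix_of_comm y hyP)
  · exact (Nat.Prime.coprime_iff_not_dvd hp).1 hQp.symm
  · intro g hg hga
    have : g ∈ Q ⊓ Subgroup.centralizer (P : Set G) := ⟨hg, hCP ▸ hcomm_of_fix g hga⟩
    rw [hfpf, Subgroup.mem_bot] at this
    exact this

end Cfsg.Agent.Helper1.BGFrob
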