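import Mathlib
import Cfsg.Prelude.Def_OddOrderLocal
import Cfsg.Agent.S1415
import Cfsg.Agent.S1427
import Cfsg.Agent.S1428
import Cfsg.Agent.Helper3.CoprimeHall
import Cfsg.Agent.Helper1.BG127a
import Cfsg.Agent.Lead.BG12b

/-!
# Bender–Glauberman 13.9 (σ-partition), part A: the Hall `τ₁`-subgroup of a complement acts in a
prime manner on `M_σ` (BG 13.3 + 13.4).
-/

set_option autoImplicit false

namespace Cfsg.Agent.Helper1.BGPart

open Cfsg

universe u

variable {G : Type u} [Group G] [Finite G]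

omit [Finite G] in
/-- elements of a cyclic subgroup commute -/
theorem commute_of_isCyclic {C : Subgroup G} (hC : IsCyclic ↥C) {a b : G} (ha : a ∈ C)
    (hb : b ∈ C) : a * b = b * a := by
  letI := IsCyclic.commGroup (α := ↥C)
  have := mul_comm (⟨a, ha⟩ : ↥C) ⟨b, hb⟩
  exact congrArg Subtype.val this

/-- A complement of `M_σ` has a Hall `τ₁(M)`-subgroup. -/
theorem exists_hall_tau1 (hG : Cfsg.IsMinSimpleOddOrder G) {M : Subgroup G} (hM : IsCoatom M)
    {E : Subgroup G} (hEM : E ≤ M) : ∃ E₁ : Subgroup G, Cfsg.IsPiHallOf (Cfsg.tau1 M) E₁ E := by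
  haveI hsolvM : Group.IsSolvable ↥M := hG.2.2.2 M hM.1
  have hsolv : Group.IsSolvable ↥E :=
    Group.isSolvable_of_isSolvable_injective (Subgroup.inclusion_injective hEM)
  obtain ⟨m, n, hd⟩ := Cfsg.Agent.Helper3.exists_piDecomp (Cfsg.tau1 M) (Nat.card E)
    Nat.card_pos.ne'
  obtain ⟨H, hHE, hHcard, -⟩ := (Cfsg.Agent.Helper3.hall_internal E hsolv hd).2 ⊥ bot_le
    (by rw [Subgroup.card_bot]; exact Nat.coprime_one_left _)
  exact ⟨H, (Cfsg.Agent.Helper3.isPiHallOf_iff_card hd).2 ⟨hHE, hHcard⟩⟩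

/-- **Prime action of the Hall `τ₁`-subgroup** (BG 13.3 + 13.4): if `s₀ ∈ E₁` has prime order, then
every element of prime power order of `E₁` centralizes `M_σ ∩ C(s₀)`. -/
theorem commute_of_mem_hall_tau1 (hG : Cfsg.IsMinSimpleOddOrder G) {M : Subgroup G}
    (hM : IsCoatom M) {E : Subgroup G} (hE : Cfsg.IsComplIn E (Cfsg.sigmaCore M) M)
    {E₁ : Subgroup G} (hE₁ : Cfsg.IsPiHallOf (Cfsg.tau1 M) E₁ E) {s₀ : G} (hs₀ : s₀ ∈ E₁)
    (hs₀p : (orderOf s₀).Prime) {x : G} (hx : x ∈ E₁) {q : ℕ} [hq : Fact q.Prime]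
    (hxq : IsPGroup q ↥(Subgroup.zpowers x)) {y : G} (hy : y ∈ Cfsg.sigmaCore M)
    (hys : s₀ * y = y * s₀) : x * y = y * x := by
  by_cases hx1 : x = 1
  · rw [hx1, one_mul, mul_one]
  have hE₁c : IsCyclic ↥E₁ := (Cfsg.Agent.S1415.result hG M hM E hE).2.1 E₁ hE₁
  have hE₁E : E₁ ≤ E := hE₁.1
  -- the order of `x`
  obtain ⟨k, hk⟩ := IsPGroup.iff_card.mp hxq
  rw [Nat.card_zpowers] at hk
  have hk0 : k ≠ 0 := by
    rintro rfl
    rw [pow_zero, orderOf_eq_one_iff] at hk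
    exact hx1 hk
  have hqdvd : q ∣ orderOf x := by
    rw [hk]; exact dvd_pow_self q hk0
  have hqE₁ : q ∣ Nat.card E₁ := by
    have := orderOf_dvd_natCard (⟨x, hx⟩ : ↥E₁)
    rw [← Subgroup.orderOf_coe] at this
    exact hqdvd.trans this
  have hqτ : q ∈ Cfsg.tau1 M := hE₁.2.1 q hq.out hqE₁
  have hrE₁ : orderOf s₀ ∣ Nat.card E₁ := by
    have := orderOf_dvd_natCard (⟨s₀, hs₀⟩ : ↥E₁)
    rwa [← Subgroup.orderOf_coe] at this
  have hrτ : orderOf s₀ ∈ Cfsg.tau1 M := hE₁.2.1 _ hs₀p hrE₁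
  -- the element of order `q`
  set x' := x ^ q ^ (k - 1) with hx'
  have hx'ord : orderOf x' = q := by
    have hdvd : q ^ (k - 1) ∣ orderOf x := by
      rw [hk]; exact pow_dvd_pow q (Nat.sub_le k 1)
    rw [hx', orderOf_pow_of_dvd (pow_ne_zero _ hq.out.ne_zero) hdvd, hk]
    have : q ^ k = q ^ (k - 1) * q := by
      rw [← pow_succ]; congr 1; omega
    rw [this, Nat.mul_div_cancel_left _ (pow_pos hq.out.pos _)]
  have hx'E₁ : x' ∈ E₁ := E₁.pow_mem hx _
  have hx'1 : x' ≠ 1 := by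
    intro h
    rw [← orderOf_eq_one_iff, hx'ord] at h
    exact hq.out.ne_one h
  -- S1428
  have hcomm : s₀ * x' = x' * s₀ := commute_of_isCyclic hE₁c hs₀ hx'E₁
  have h1428 := Cfsg.Agent.S1428.result hG M hM E hE (orderOf s₀) hrτ (Subgroup.zpowers s₀)
    ((Subgroup.zpowers_le).2 (hE₁E hs₀)) (Nat.card_zpowers s₀) (Subgroup.zpowers x')
    (by
      rw [Subgroup.zpowers_le]
      exact ⟨hE₁E hx'E₁, Cfsg.Agent.Helper1.BG127.mem_centralizer_zpowers_iff.2 hcomm⟩)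
    (by rw [Nat.card_zpowers, hx'ord]; exact hq.out)
  have hy1 : y ∈ Cfsg.sigmaCore M ⊓ Subgroup.centralizer ((Subgroup.zpowers x' : Subgroup G) : Set G) :=
    h1428 ⟨hy, Cfsg.Agent.Helper1.BG127.mem_centralizer_zpowers_iff.2 hys⟩
  have hyx' : x' * y = y * x' := Cfsg.Agent.Helper1.BG127.mem_centralizer_zpowers_iff.1 hy1.2
  -- S1427
  have hxE : x ∈ E := hE₁E hx
  have hxqE : IsPGroup q ↥((Subgroup.zpowers x).subgroupOf E) := by
    have : Function.Injective ((Subgroup.zpowers x).subgroupOf E).subtype :=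
      Subgroup.subtype_injective _
    exact hxq.comap_of_injective E.subtype E.subtype_injective
  obtain ⟨S, hS⟩ := hxqE.exists_le_sylow
  have hxS : x ∈ (S : Subgroup ↥E).map E.subtype := by
    refine ⟨⟨x, hxE⟩, hS ?_, rfl⟩
    rw [Subgroup.mem_subgroupOf]
    exact Subgroup.mem_zpowers x
  have hx'S : x' ∈ (S : Subgroup ↥E).map E.subtype := Subgroup.pow_mem _ hxS _
  have hS1 : (S : Subgroup ↥E) ≠ ⊥ := by
    intro h
    rw [h, Subgroup.map_bot, Subgroup.mem_bot] at hxS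
    exact hx1 hxS
  have hSc : IsCyclic ↥(S : Subgroup ↥E) := by
    have hc : IsCyclic ↥((S : Subgroup ↥E).map E.subtype) :=
      Cfsg.Agent.Lead.BG12.isCyclic_of_pRankLE_one hG.1 hqτ.2.2.2.2
        ((Subgroup.map_subtype_le _).trans hE.1) (S.2.map _)
    have e : ↥(S : Subgroup ↥E) ≃* ↥((S : Subgroup ↥E).map E.subtype) :=
      (S : Subgroup ↥E).equivMapOfInjective E.subtype E.subtype_injective
    exact isCyclic_of_surjective e.symm.toMonoidHom e.symm.surjective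
  have h1427 := Cfsg.Agent.S1427.result hG M hM E hE q S hS1 hSc x' hx'S hx'1
  have hy2 : y ∈ Cfsg.sigmaCore M ⊓ Subgroup.centralizer ({x'} : Set G) := by
    refine ⟨hy, ?_⟩
    change y ∈ Subgroup.centralizer ({x'} : Set G)
    rw [Subgroup.mem_centralizer_iff]
    intro h hh
    rw [Set.mem_singleton_iff] at hh
    rw [hh]; exact hyx'
  rw [h1427] at hy2
  exact (Subgroup.mem_centralizer_iff.mp hy2.2 x hxS)

end Cfsg.Agent.Helper1.BGPart
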