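import Mathlib
import Cfsg.Prelude.Def_OddOrderLocal
import Cfsg.Agent.Helper1.BGPartA
import Cfsg.Agent.S1423
import Cfsg.Agent.Helper3.BG134b
import Cfsg.Agent.Helper4.BG13c
import Cfsg.Agent.Helper1.BGUa
import Cfsg.Agent.Helper1.BGVa
import Cfsg.Agent.Helper4.BG12e
import Cfsg.Agent.Helper4.BG12d
import Cfsg.Agent.Helper4.BG12b
import Cfsg.Agent.Lead.BG11a
import Cfsg.Agent.Lead.SylowLemmas

/-!
# Bender–Glauberman 13.9 (σ-partition), part B: two non-conjugate maximal subgroups cannot share a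
Sylow subgroup whose normalizer lies in both.
-/

set_option autoImplicit false

namespace Cfsg.Agent.Helper1.BGPart

open Cfsg
open scoped Pointwise

universe u

variable {G : Type u} [Group G] [Finite G]

/-- card of a Sylow subgroup mapped into the ambient group -/
theorem card_sylow_map {K : Subgroup G} {q : ℕ} [hq : Fact q.Prime] (S : Sylow q ↥K) :
    Nat.card ↥((S : Subgroup ↥K).map K.subtype) = q ^ (Nat.card K).factorization q := by
  rw [Subgroup.card_map_of_injective K.subtype_injective]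
  exact S.card_eq_multiplicity

theorem false_of_common_sylow (hG : Cfsg.IsMinSimpleOddOrder G) {M Ms : Subgroup G}
    (hM : IsCoatom M) (hMs : IsCoatom Ms) (hnc : ∀ g : G, Ms ≠ MulAut.conj g • M) {p : ℕ}
    [hp : Fact p.Prime] {P : Subgroup G} (hPp : IsPGroup p ↥P)
    (hPcard : Nat.card P = p ^ (Nat.card G).factorization p) (hP1 : P ≠ ⊥) (hPM : P ≤ M)
    (hPMs : P ≤ Ms) (hNM : Subgroup.normalizer (P : Set G) ≤ M)
    (hNMs : Subgroup.normalizer (P : Set G) ≤ Ms) {E : Subgroup G}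
    (hE : Cfsg.IsComplIn E (Cfsg.sigmaCore M) M)
    (hEP : E ≤ Subgroup.normalizer (P : Set G)) : False := by
  classical
  have hne : Ms ≠ M := by
    have := hnc 1
    rwa [map_one, one_smul] at this
  have hncM : ∀ x : G, M ≠ MulAut.conj x • Ms := by
    intro x h
    apply hnc x⁻¹
    rw [h, map_inv, inv_smul_smul]
  have hcardtop : Nat.card P = p ^ (Nat.card (⊤ : Subgroup G)).factorization p := by
    rw [Subgroup.card_top]; exact hPcard
  have hPcardM : Nat.card P = p ^ (Nat.card M).factorization p :=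
    Cfsg.Agent.Lead.card_eq_ppart_of_le hPM le_top hPp hcardtop
  have hPcardMs : Nat.card P = p ^ (Nat.card Ms).factorization p :=
    Cfsg.Agent.Lead.card_eq_ppart_of_le hPMs le_top hPp hcardtop
  have hPcardD : Nat.card P = p ^ (Nat.card ↥(M ⊓ Ms)).factorization p :=
    Cfsg.Agent.Lead.card_eq_ppart_of_le (le_inf hPM hPMs) le_top hPp hcardtop
  have hpM : p ∈ Cfsg.sigma M :=
    Cfsg.Agent.Lead.BG12.mem_sigma_of_normalizer_le hPM hP1 hPp hPcardM hNM
  have hpMs : p ∈ Cfsg.sigma Ms :=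
    Cfsg.Agent.Lead.BG12.mem_sigma_of_normalizer_le hPMs hP1 hPp hPcardMs hNMs
  have hprime_of_dvd : ∀ t : ℕ, t.Prime → t ∣ Nat.card P → t = p := by
    intro t ht hd
    rw [hPcard] at hd
    exact (Nat.prime_dvd_prime_iff_eq ht hp.out).mp (ht.dvd_of_dvd_pow hd)
  have hPσ : P ≤ Cfsg.sigmaCore M :=
    Cfsg.Agent.Helper4.BG12.le_sigmaCore_of_isPi hG hM hPM
      (fun t ht hd => (hprime_of_dvd t ht hd) ▸ hpM)
  have hPσs : P ≤ Cfsg.sigmaCore Ms :=
    Cfsg.Agent.Helper4.BG12.le_sigmaCore_of_isPi hG hMs hPMs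
      (fun t ht hd => (hprime_of_dvd t ht hd) ▸ hpMs)
  have hEM : E ≤ M := hE.1
  have hEMs : E ≤ Ms := hEP.trans hNMs
  -- elements of `E` of prime power order for primes outside `τ₁(M) ∩ τ₁(M*)` centralize `P`
  have hcent : ∀ q : ℕ, q.Prime → (q ∉ Cfsg.tau1 M ∨ q ∉ Cfsg.tau1 Ms) → ∀ s ∈ E,
      IsPGroup q ↥(Subgroup.zpowers s) → ∀ y ∈ P, y * s = s * y := by
    intro q hq hor s hs hsq y hy
    haveI := Fact.mk hq
    by_cases hs1 : s = 1
    · rw [hs1, one_mul, mul_one]
    have hqE : q ∣ Nat.card E := by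
      have hz1 : Subgroup.zpowers s ≠ ⊥ := by
        intro h
        exact hs1 (Subgroup.zpowers_eq_bot.mp h)
      exact (Cfsg.Agent.Helper1.BGV.dvd_card_of_isPGroup_ne_bot hsq hz1).trans
        (Subgroup.card_dvd_of_le ((Subgroup.zpowers_le).2 hs))
    have hqσ : q ∉ Cfsg.sigma M :=
      Cfsg.Agent.Helper4.BG12.not_mem_sigma_of_dvd_card_compl hG hM hE hq hqE
    by_cases h1 : q ∈ Cfsg.tau1 Ms
    · have h2 : q ∉ Cfsg.tau1 M := hor.resolve_right (not_not.2 h1)
      exact Cfsg.Agent.Helper3.BG134.commute_of_not_mem_tau1 hG hMs hM hnc h1.2.1 h2 (hPσs hy)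
        (hPM hy) (hEMs hs) (hEM hs) hsq
    · exact Cfsg.Agent.Helper3.BG134.commute_of_not_mem_tau1 hG hM hMs hncM hqσ h1 (hPσ hy)
        (hPMs hy) (hEM hs) (hEMs hs) hsq
  -- `C_P(E) = 1`
  have hCPE : P ⊓ Subgroup.centralizer (E : Set G) = ⊥ := by
    by_contra hne0
    have hp' : IsPGroup p ↥(P ⊓ Subgroup.centralizer (E : Set G)) := hPp.to_le inf_le_left
    have hdvd : p ∣ Nat.card ↥(P ⊓ Subgroup.centralizer (E : Set G)) :=
      Cfsg.Agent.Helper1.BGV.dvd_card_of_isPGroup_ne_bot hp' hne0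
    obtain ⟨z, hz⟩ := exists_prime_orderOf_dvd_card' p hdvd
    have hzP : (z : G) ∈ P := z.2.1
    have hzC : (z : G) ∈ Subgroup.centralizer (E : Set G) := z.2.2
    have hXcard : Nat.card (Subgroup.zpowers (z : G)) = p := by
      rw [Nat.card_zpowers, Subgroup.orderOf_coe, hz]
    have hXle : Subgroup.zpowers (z : G) ≤ ⁅Cfsg.sigmaCore M, Cfsg.sigmaCore M⁆ :=
      (Subgroup.zpowers_le).2
        (Cfsg.Agent.Helper4.BG12.sigmaCore_inf_centralizer_compl_le hG hM hE ⟨hPσ hzP, hzC⟩)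
    have hXM : Subgroup.zpowers (z : G) ≤ M := (Subgroup.zpowers_le).2 (hPM hzP)
    have hPpσ : IsPGroup p ↥(P.subgroupOf (Cfsg.sigmaCore M)) :=
      hPp.comap_of_injective (Cfsg.sigmaCore M).subtype (Subgroup.subtype_injective _)
    obtain ⟨P', hP'⟩ := hPpσ.exists_le_sylow
    have h := (Cfsg.Agent.S1423.result hG M hM p hpM (Subgroup.zpowers (z : G)) hXM hXcard P'
      (Or.inr hXle)).2.1
    have hPP' : P ≤ (P' : Subgroup ↥(Cfsg.sigmaCore M)).map (Cfsg.sigmaCore M).subtype := by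
      intro y hy
      exact ⟨⟨y, hPσ hy⟩, hP' (by rw [Subgroup.mem_subgroupOf]; exact hy), rfl⟩
    have hP'p : IsPGroup p ↥((P' : Subgroup ↥(Cfsg.sigmaCore M)).map (Cfsg.sigmaCore M).subtype) :=
      P'.2.map _
    have hP'eq : (P' : Subgroup ↥(Cfsg.sigmaCore M)).map (Cfsg.sigmaCore M).subtype = P := by
      symm
      apply Subgroup.eq_of_le_of_card_ge hPP'
      have h1 := Cfsg.Agent.Lead.card_dvd_ppart_of_isPGroup hP'p
        (le_top : (P' : Subgroup ↥(Cfsg.sigmaCore M)).map (Cfsg.sigmaCore M).subtype ≤ ⊤)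
      rw [← hcardtop] at h1
      exact Nat.le_of_dvd Nat.card_pos h1
    rw [hP'eq] at h
    obtain ⟨L, -, huniq⟩ := h
    have e1 := huniq M ⟨hM, hPM⟩
    have e2 := huniq Ms ⟨hMs, hPMs⟩
    exact hne (e2.trans e1.symm)
  -- the Hall `τ₁(M)`-subgroup of `E`
  obtain ⟨E₁, hE₁⟩ := exists_hall_tau1 hG hM hE.1
  by_cases hE₁1 : E₁ = ⊥
  · have hEC : E ≤ Subgroup.centralizer (P : Set G) := by
      apply Cfsg.Agent.Helper1.BGU.le_of_forall_sylow_le
      intro q hq hqE
      haveI := Fact.mk hq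
      let S : Sylow q ↥E := default
      refine ⟨(S : Subgroup ↥E).map E.subtype, Subgroup.map_subtype_le _, ?_, card_sylow_map S⟩
      intro s hs
      have hqτ : q ∉ Cfsg.tau1 M := by
        intro h
        apply hE₁.2.2 q hq h
        rw [hE₁1, Subgroup.relIndex_bot_left]
        exact hqE
      rw [Subgroup.mem_centralizer_iff]
      intro y hy
      exact hcent q hq (Or.inl hqτ) s (Subgroup.map_subtype_le _ hs)
        ((S.2.map E.subtype).to_le ((Subgroup.zpowers_le).2 hs)) y hy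
    apply hP1
    rw [← le_bot_iff, ← hCPE]
    exact le_inf le_rfl (Subgroup.le_centralizer_iff.1 hEC)
  · -- an element of prime order of `E₁`
    have hcard1 : Nat.card E₁ ≠ 1 := fun h => hE₁1 (Subgroup.card_eq_one.mp h)
    obtain ⟨r, hr, hrE₁⟩ := Nat.exists_prime_and_dvd hcard1
    haveI := Fact.mk hr
    obtain ⟨s₀', hs₀'⟩ := exists_prime_orderOf_dvd_card' r hrE₁
    have hs₀ : (s₀' : G) ∈ E₁ := s₀'.2
    have hs₀ord : orderOf (s₀' : G) = r := by rw [Subgroup.orderOf_coe, hs₀']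
    have hs₀E : (s₀' : G) ∈ E := hE₁.1 hs₀
    have hEF : E ≤ Subgroup.centralizer
        ((P ⊓ Subgroup.centralizer ((Subgroup.zpowers (s₀' : G) : Subgroup G) : Set G) :
          Subgroup G) : Set G) := by
      apply Cfsg.Agent.Helper1.BGU.le_of_forall_sylow_le
      intro q hq hqE
      haveI := Fact.mk hq
      by_cases hqτ : q ∈ Cfsg.tau1 M
      · let S : Sylow q ↥E₁ := default
        refine ⟨(S : Subgroup ↥E₁).map E₁.subtype, (Subgroup.map_subtype_le _).trans hE₁.1, ?_, ?_⟩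
        · intro x hx
          rw [Subgroup.mem_centralizer_iff]
          intro y hy
          have hxE₁ : x ∈ E₁ := Subgroup.map_subtype_le _ hx
          have hxq : IsPGroup q ↥(Subgroup.zpowers x) :=
            (S.2.map E₁.subtype).to_le ((Subgroup.zpowers_le).2 hx)
          have hys : (s₀' : G) * y = y * (s₀' : G) :=
            Cfsg.Agent.Helper1.BG127.mem_centralizer_zpowers_iff.1 hy.2
          have := commute_of_mem_hall_tau1 hG hM hE hE₁ hs₀ (hs₀ord ▸ hr) hxE₁ hxq
            (hPσ hy.1) hys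
          exact this.symm
        · rw [card_sylow_map S]
          congr 1
          -- `q`-parts of `|E₁|` and `|E|` agree
          have hmul : E₁.relIndex E * Nat.card E₁ = Nat.card E :=
            Cfsg.Agent.Helper1.relIndex_mul_card_of_le hE₁.1
          have hnd : ¬ q ∣ E₁.relIndex E := hE₁.2.2 q hq hqτ
          have h0 : E₁.relIndex E ≠ 0 := fun h => hnd (by rw [h]; exact dvd_zero q)
          rw [← hmul, Nat.factorization_mul h0 Nat.card_pos.ne',
            Finsupp.add_apply, Nat.factorization_eq_zero_of_not_dvd hnd, zero_add]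
      · let S : Sylow q ↥E := default
        refine ⟨(S : Subgroup ↥E).map E.subtype, Subgroup.map_subtype_le _, ?_, card_sylow_map S⟩
        intro s hs
        rw [Subgroup.mem_centralizer_iff]
        intro y hy
        exact hcent q hq (Or.inl hqτ) s (Subgroup.map_subtype_le _ hs)
          ((S.2.map E.subtype).to_le ((Subgroup.zpowers_le).2 hs)) y hy.1
    have hF : P ⊓ Subgroup.centralizer ((Subgroup.zpowers (s₀' : G) : Subgroup G) : Set G) = ⊥ := by
      rw [← le_bot_iff, ← hCPE]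
      exact le_inf inf_le_left (Subgroup.le_centralizer_iff.1 hEF)
    have hrτ : r ∈ Cfsg.tau1 M := hE₁.2.1 r hr hrE₁
    have hs₀r : IsPGroup r ↥(Subgroup.zpowers (s₀' : G)) := by
      apply IsPGroup.of_card (n := 1)
      rw [Nat.card_zpowers, hs₀ord, pow_one]
    have hrτs : r ∈ Cfsg.tau1 Ms := by
      by_contra h
      apply hP1
      rw [← le_bot_iff, ← hF]
      intro y hy
      refine ⟨hy, Cfsg.Agent.Helper1.BG127.mem_centralizer_zpowers_iff.2 ?_⟩
      exact (hcent r hr (Or.inr h) _ hs₀E hs₀r y hy).symm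
    have hpr : p ≠ r := by
      rintro rfl
      exact hrτ.2.1 hpM
    have hRD : Subgroup.zpowers (s₀' : G) ≤ M ⊓ Ms :=
      (Subgroup.zpowers_le).2 ⟨hEM hs₀E, hEMs hs₀E⟩
    have hRcard : Nat.card (Subgroup.zpowers (s₀' : G)) = r := by
      rw [Nat.card_zpowers, hs₀ord]
    have hRN : Subgroup.zpowers (s₀' : G) ≤ Subgroup.normalizer (P : Set G) :=
      (Subgroup.zpowers_le).2 (hEP hs₀E)
    exact Cfsg.Agent.Helper4.BG13.tau1_asymmetry hG hM hMs hnc hrτ hrτs hRD hRcard hpr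
      (le_inf hPM hPMs) hPp hPcardD hRN hF hNMs hpr (le_inf hPM hPMs) hPp hPcardD hRN hF hNM

end Cfsg.Agent.Helper1.BGPart
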