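import Mathlib
import Cfsg.Prelude.Def_OddOrderLocal
import Cfsg.Agent.Helper1.BGPartB
import Cfsg.Agent.Helper1.SylowInt
import Cfsg.Agent.Helper1.BGUe
import Cfsg.Agent.Helper4.BG10a
import Cfsg.Agent.Helper4.BG10d
import Cfsg.Agent.Helper4.BG12g
import Cfsg.Agent.Lead.BG11a
import Cfsg.Agent.Lead.BG11c
import Cfsg.Agent.Lead.BG12a

/-!
# Bender–Glauberman 13.9: the σ-partition theorem.
-/

set_option autoImplicit false

namespace Cfsg.Agent.Helper1.BGPart

open Cfsg
open scoped Pointwise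

universe u

variable {G : Type u} [Group G] [Finite G]

/-- **BG Theorem 13.9 (σ-partition)**: maximal subgroups `M`, `N` with a common prime in
`σ(M) ∩ σ(N)` are conjugate. -/
theorem exists_conj_of_mem_sigma_inter (hG : Cfsg.IsMinSimpleOddOrder G) {M N : Subgroup G}
    (hM : IsCoatom M) (hN : IsCoatom N) {p : ℕ} (hpM : p ∈ Cfsg.sigma M)
    (hpN : p ∈ Cfsg.sigma N) : ∃ g : G, N = MulAut.conj g • M := by
  by_contra hcon
  push Not at hcon
  haveI hp : Fact p.Prime := Fact.mk hpM.1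
  haveI hsolvM : Group.IsSolvable ↥M := hG.2.2.2 M hM.1
  -- a complement `E`
  obtain ⟨E, hE, -⟩ := Cfsg.Agent.Helper4.BG10.exists_compl_sigmaCore_ge hG hM
    (U := ⊥) bot_le (by
      intro t ht hd
      rw [Subgroup.card_bot] at hd
      exact absurd (Nat.dvd_one.1 hd) ht.ne_one)
  have hsolvE : Group.IsSolvable ↥E :=
    Group.isSolvable_of_isSolvable_injective (Subgroup.inclusion_injective hE.1)
  -- an `E`-invariant Sylow `p`-subgroup of `M_σ`
  obtain ⟨P1, -, hEP1⟩ := Cfsg.Agent.Helper1.exists_invariant_sylow_ge (p := p) E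
    (Cfsg.sigmaCore M) (hE.1.trans (Cfsg.Agent.Lead.BG12.le_normalizer_sigmaCore M))
    (Cfsg.Agent.Helper4.BG12.coprime_card_sigmaCore_compl hG hM hE).symm (Or.inl hsolvE) ⊥ bot_le
    IsPGroup.of_bot (by
      intro e _
      rw [Subgroup.mem_normalizer_iff]
      intro h
      simp [Subgroup.mem_bot])
  obtain ⟨P, hPdef⟩ : ∃ P : Subgroup G,
      P = (P1 : Subgroup ↥(Cfsg.sigmaCore M)).map (Cfsg.sigmaCore M).subtype := ⟨_, rfl⟩
  rw [← hPdef] at hEP1
  have hPσ : P ≤ Cfsg.sigmaCore M := by rw [hPdef]; exact Subgroup.map_subtype_le _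
  have hPM : P ≤ M := hPσ.trans Cfsg.Agent.Lead.BG12.sigmaCore_le
  have hPp : IsPGroup p ↥P := by rw [hPdef]; exact P1.2.map _
  have hfact : (Nat.card (Cfsg.sigmaCore M)).factorization p = (Nat.card G).factorization p := by
    rw [← Cfsg.Agent.Helper4.BG12.factorization_eq_of_mem_sigma hG hM hpM]
    obtain ⟨⟨hle, -, hidx⟩, -, -⟩ := Cfsg.Agent.Lead.BG12.sigmaCore_hall hG M hM
    have hmul : (Cfsg.sigmaCore M).relIndex M * Nat.card (Cfsg.sigmaCore M) = Nat.card M :=
      Cfsg.Agent.Helper1.relIndex_mul_card_of_le hle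
    have hnd : ¬ p ∣ (Cfsg.sigmaCore M).relIndex M := hidx p hp.out hpM
    have h0 : (Cfsg.sigmaCore M).relIndex M ≠ 0 := fun h => hnd (by rw [h]; exact dvd_zero p)
    rw [← hmul, Nat.factorization_mul h0 Nat.card_pos.ne', Finsupp.add_apply,
      Nat.factorization_eq_zero_of_not_dvd hnd, zero_add]
  have hPcard : Nat.card P = p ^ (Nat.card G).factorization p := by
    rw [hPdef, card_sylow_map P1, hfact]
  have hP1 : P ≠ ⊥ := by
    intro h
    rw [h, Subgroup.card_bot] at hPcard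
    have h1 : 1 ≤ (Nat.card G).factorization p :=
      (hp.out.dvd_iff_one_le_factorization Nat.card_pos.ne').1
        (hpM.2.1.trans (Subgroup.card_subgroup_dvd_card M))
    have h3 : 1 < p ^ (Nat.card G).factorization p := Nat.one_lt_pow (by omega) hp.out.one_lt
    omega
  -- `N(P) ≤ M`
  obtain ⟨PG, hPPG, hPGM, hNPG⟩ :=
    Cfsg.Agent.Helper4.BG10.exists_sylow_ge_of_mem_sigma hG hM hpM hPM hPp
  have hPeq : P = (PG : Subgroup G) := by
    apply Subgroup.eq_of_le_of_card_ge hPPG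
    rw [hPcard, PG.card_eq_multiplicity]
  rw [← hPeq] at hNPG
  -- the `N`-side
  obtain ⟨PN, -, hPNN, hNPN⟩ := Cfsg.Agent.Helper4.BG10.exists_sylow_ge_of_mem_sigma hG hN hpN
    (Y := ⊥) bot_le IsPGroup.of_bot
  obtain ⟨g, hg⟩ := MulAction.exists_smul_eq G PN PG
  have hPconj : P = MulAut.conj g • (PN : Subgroup G) := by
    rw [hPeq, ← hg]; rfl
  have hMs : IsCoatom (MulAut.conj g • N) := Cfsg.Agent.Helper1.BGU.isCoatom_conj_smul g hN
  have hPMs : P ≤ MulAut.conj g • N := by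
    rw [hPconj]; exact Cfsg.Agent.Helper1.conj_smul_mono hPNN g
  have hNMs : Subgroup.normalizer (P : Set G) ≤ MulAut.conj g • N := by
    rw [hPconj, Cfsg.Agent.Lead.BG12.normalizer_conj_smul']
    exact Cfsg.Agent.Helper1.conj_smul_mono hNPN g
  have hnc : ∀ x : G, MulAut.conj g • N ≠ MulAut.conj x • M := by
    intro x h
    apply hcon (g⁻¹ * x)
    rw [map_mul, mul_smul, ← h, map_inv, inv_smul_smul]
  exact false_of_common_sylow hG hM hMs hnc hPp hPcard hP1 hPM hPMs hNPG hNMs hE hEP1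

end Cfsg.Agent.Helper1.BGPart
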