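import Mathlib
import Cfsg.Prelude
import Cfsg.Agent.Helper1.BGT3regA
import Cfsg.Agent.Helper4.BG14P6
import Cfsg.Agent.Helper4.BG13b
import Cfsg.Agent.Helper3.BG134b
import Cfsg.Agent.S1427

set_option autoImplicit false
set_option linter.unusedSectionVars false
set_option linter.unusedVariables false

/-!
# (T3reg), core: a regular `τ₁`-element cannot act nontrivially on a nonregular normal cyclic Sylow
subgroup of a complement.

Let `E` be a complement of `M_σ` in `M`, `P ⊲ E` a cyclic Sylow `p`-subgroup of `M` (`p ∉ σ(M)`),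
`X = Ω₁(P)` with `C_{M_σ}(X) ≠ 1`, and `e ∈ E` an `s`-element, `s ∈ τ₁(M)`, not centralizing `P`.
Then the element `t` of order `s` of `⟨e⟩` has `C_{M_σ}(t) ≠ 1`.
-/

namespace Cfsg.Agent.Helper1.BGT3reg

open Cfsg Cfsg.Agent.Helper1 Cfsg.Agent.Helper1.BGU Cfsg.Agent.Lead.BG12 Cfsg.Agent.Helper4.BG10
  Cfsg.Agent.Helper4.BG12
open scoped commutatorElement Pointwise

universe u

variable {G : Type u} [Group G] [Finite G]

theorem false_of_regular_acting (hG : Cfsg.IsMinSimpleOddOrder G) {M : Subgroup G}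
    (hM : IsCoatom M) {E : Subgroup G} (hE : Cfsg.IsComplIn E (Cfsg.sigmaCore M) M)
    {p : ℕ} [hp : Fact p.Prime] (hpσ : p ∉ Cfsg.sigma M) (hpM : p ∣ Nat.card M)
    (hp1 : Cfsg.PRankLE p 1 ↥M)
    {P : Subgroup G} (hPE : P ≤ E) (hPp : IsPGroup p ↥P)
    (hPcard : Nat.card P = p ^ (Nat.card M).factorization p)
    {X : Subgroup G} (hXP : X ≤ P) (hX : Nat.card X = p)
    (hY : Cfsg.sigmaCore M ⊓ Subgroup.centralizer (X : Set G) ≠ ⊥)
    (hEX : E ≤ Subgroup.normalizer (X : Set G)) (hEP : E ≤ Subgroup.normalizer (P : Set G))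
    {s : ℕ} [hs : Fact s.Prime] (hsp : s ≠ p) (hsE : s ∣ Nat.card E) (hs3 : s ∉ Cfsg.tau3 M)
    {e : G} (heE : e ∈ E)
    (hes : IsPGroup s ↥(Subgroup.zpowers e))
    (hne : ¬ ∀ z ∈ P, e * z = z * e)
    {t : G} (ht : t ∈ Subgroup.zpowers e) (hto : orderOf t = s)
    (hsκ : s ∉ Cfsg.kappa M) : False := by
  classical
  have hp1' := hp.out.one_lt
  have hs1' := hs.out.one_lt
  have hEM : E ≤ M := hE.1
  have hPM : P ≤ M := hPE.trans hEM
  have hXM : X ≤ M := hXP.trans hPM
  have hXp : IsPGroup p ↥X := hPp.to_le hXP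
  have hX1 : X ≠ ⊥ := by
    intro h
    rw [h, Subgroup.card_bot] at hX
    exact hp1'.ne hX
  have hP1 : P ≠ ⊥ := fun h => hX1 (le_bot_iff.1 (h ▸ hXP))
  have hXtop : X ≠ ⊤ := by
    intro h
    have : M = ⊤ := top_le_iff.1 (h ▸ hXM)
    exact hM.1 this
  have hPc : IsCyclic ↥P := isCyclic_of_pRankLE_one hG.1 hp1 hPM hPp
  have hPab : ∀ a ∈ P, ∀ b ∈ P, a * b = b * a := by
    intro a ha b hb
    letI := IsCyclic.commGroup (α := ↥P)
    exact congrArg Subtype.val (mul_comm (⟨a, ha⟩ : ↥P) ⟨b, hb⟩)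
  -- the maximal subgroup `H ⊇ N(X)`
  obtain ⟨H, hH, hNX⟩ := exists_coatom_ge (normalizer_ne_top_of_simple hG hX1 hXtop)
  have hCX : Subgroup.centralizer (X : Set G) ≤ H :=
    (Subgroup.centralizer_le_normalizer _).trans hNX
  have hEH : E ≤ H := hEX.trans hNX
  have hPH : P ≤ H := hPE.trans hEH
  obtain ⟨hpσH, hXσ⟩ := Cfsg.Agent.Helper4.BG14.p5' hG hM hH hpσ hp1 hXM hX hY hNX
  have hPσ : P ≤ Cfsg.sigmaCore H := le_sigmaCore' hG hH hpσH hPH hPp
  -- `H ≠ M`, non-conjugate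
  have hHM : H ≠ M := by
    intro h
    exact Cfsg.Agent.Helper4.BG13.not_normalizer_le_of_rank_one hG hpσ hpM hp1 hXM hXp hX1
      (h ▸ hNX)
  have hnc : ∀ g : G, M ≠ MulAut.conj g • H := by
    intro g hg
    have hHM' : H = MulAut.conj g⁻¹ • M := by
      rw [hg, Cfsg.Agent.Helper1.BGT.conj_smul_smul, inv_mul_cancel, map_one, one_smul]
    have hH' : IsCoatom (MulAut.conj g⁻¹ • M) := hHM' ▸ hH
    exact hpσ (mem_sigma_of_mem_sigma_conj_smul hG hH' (hHM' ▸ hpσH))
  -- the elements `e`, `t`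
  have heH : e ∈ H := hEH heE
  have hZE : Subgroup.zpowers e ≤ E := Subgroup.zpowers_le.2 heE
  have htE : t ∈ E := hZE ht
  have htM : t ∈ M := hEM htE
  have htH : t ∈ H := hEH htE
  have ht1 : t ≠ 1 := by
    intro h
    rw [h, orderOf_one] at hto
    exact hs1'.ne hto
  have hts : t ^ s = 1 := by rw [← hto]; exact pow_orderOf_eq_one t
  have htsg : IsPGroup s ↥(Subgroup.zpowers t) := hes.to_le (Subgroup.zpowers_le.2 ht)
  have hsσM : s ∉ Cfsg.sigma M := not_mem_sigma_of_dvd_card_compl hG hM hE hs.out hsE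
  have hsM : s ∣ Nat.card M := hsE.trans (Subgroup.card_dvd_of_le hEM)
  -- a nontrivial element of `C_{M_σ}(X)`
  obtain ⟨y, hy, hy1⟩ : ∃ y ∈ Cfsg.sigmaCore M ⊓ Subgroup.centralizer (X : Set G), y ≠ 1 := by
    by_contra hcon
    push Not at hcon
    apply hY
    rw [eq_bot_iff]
    intro y hy
    rw [Subgroup.mem_bot]
    exact hcon y hy
  have hyH : y ∈ H := hCX hy.2
  -- `s ∈ τ₁(M)`
  have hsτ : s ∈ Cfsg.tau1 M := by
    by_cases h1 : Cfsg.PRankLE s 1 ↥M
    · by_cases hd : s ∣ Nat.card ↥⁅M, M⁆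
      · exact absurd ⟨hs.out, hsσM, hd, h1⟩ hs3
      · exact ⟨hs.out, hsσM, hsM, hd, h1⟩
    · exfalso
      have h2 : Cfsg.PRankLE s 2 ↥M :=
        Cfsg.Agent.Helper1.BGX.pRankLE_of_not_mem_alpha hs.out
          (fun hα => hsσM (Cfsg.Agent.Helper1.BGX.alpha_subset_sigma hG hM hα))
      have hsτ2 : s ∈ Cfsg.tau2 M := ⟨hs.out, hsσM, h2, h1⟩
      obtain ⟨A, hAM, hAe, hAcard⟩ := exists_ea2_of_not_pRankLE_one hG h1
      obtain ⟨S, -, hSE, hSs, hScard⟩ :=
        Cfsg.Agent.Lead.exists_le_card_eq_ppart (p := s) (H := E) (U := ⊥) IsPGroup.of_bot bot_le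
      have hScardM : Nat.card S = s ^ (Nat.card M).factorization s := by
        rw [hScard, factorization_compl_eq hE hs.out hsσM]
      obtain ⟨m, hm, hAS⟩ := Cfsg.Agent.Lead.exists_conj_le_of_card_eq_ppart (hSE.trans hEM)
        hScardM hAM (Cfsg.Agent.Helper3.BGAlpha.isPGroup_of_elementary hAe)
      have hA'E : A.map (MulAut.conj m).toMonoidHom ≤ E := hAS.trans hSE
      have hA'e := Cfsg.Agent.Helper1.BGX.isElementaryAbelian_map hAe (MulAut.conj m).toMonoidHom
      have hA'card : Nat.card ↥(A.map (MulAut.conj m).toMonoidHom) = s ^ 2 := by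
        rw [Cfsg.Agent.Lead.card_map_conj, hAcard]
      have hbot := (thm125 hG hM hsτ2 ⟨hA'E.trans hEM, hA'e, hA'card⟩).2.2.2.2.1 H hH hHM
        (hA'E.trans hEH)
      have : y ∈ Cfsg.sigmaCore M ⊓ H := ⟨hy.1, hyH⟩
      rw [hbot, Subgroup.mem_bot] at this
      exact hy1 this
  -- `t` is regular on `M_σ`, as `s ∉ κ(M)`
  have hreg : Cfsg.sigmaCore M ⊓ Subgroup.centralizer ({t} : Set G) = ⊥ := by
    by_contra hne'
    apply hsκ
    refine ⟨hs.out, hsM, hsσM, fun Q => ?_⟩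
    have hQc' : IsCyclic ↥((Q : Subgroup ↥M).map M.subtype) :=
      isCyclic_of_pRankLE_one hG.1 hsτ.2.2.2.2 (Subgroup.map_subtype_le _) (Q.2.map _)
    have hQc : IsCyclic ↥(Q : Subgroup ↥M) := by
      have e' : ↥(Q : Subgroup ↥M) ≃* ↥((Q : Subgroup ↥M).map M.subtype) :=
        (Q : Subgroup ↥M).equivMapOfInjective M.subtype M.subtype_injective
      haveI := hQc'
      exact isCyclic_of_surjective e'.symm e'.symm.surjective
    refine ⟨hQc, ?_⟩
    have hQcard : Nat.card ↥((Q : Subgroup ↥M).map M.subtype) =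
        s ^ (Nat.card M).factorization s := by
      rw [Subgroup.card_map_of_injective M.subtype_injective]
      exact Q.card_eq_multiplicity
    obtain ⟨m, hm, hconj⟩ := Cfsg.Agent.Lead.exists_conj_le_of_card_eq_ppart
      (Subgroup.map_subtype_le _) hQcard (Subgroup.zpowers_le.2 htM) htsg
    have hmt : m * t * m⁻¹ ∈ (Q : Subgroup ↥M).map M.subtype :=
      hconj ⟨t, Subgroup.mem_zpowers t, rfl⟩
    obtain ⟨x, hxQ, hxe⟩ := hmt
    obtain ⟨y', hy', hy'1⟩ : ∃ y' ∈ Cfsg.sigmaCore M ⊓ Subgroup.centralizer ({t} : Set G),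
        y' ≠ 1 := by
      by_contra hcon
      push Not at hcon
      apply hne'
      rw [eq_bot_iff]
      intro y' hy'
      rw [Subgroup.mem_bot]
      exact hcon y' hy'
    refine ⟨x, hxQ, ?_, m * y' * m⁻¹, ?_, ?_, ?_⟩
    · intro hx1
      rw [hx1] at hxe
      have : m * t * m⁻¹ = 1 := by rw [← hxe]; rfl
      apply ht1
      have h2 : t = m⁻¹ * (m * t * m⁻¹) * m := by group
      rw [h2, this]; group
    · exact (Subgroup.mem_normalizer_iff.1 (le_normalizer_sigmaCore M hm) y').1 hy'.1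
    · intro h
      apply hy'1
      have h2 : y' = m⁻¹ * (m * y' * m⁻¹) * m := by group
      rw [h2, h]; group
    · have hxe' : (x : G) = m * t * m⁻¹ := hxe
      have hc : y' * t = t * y' := Subgroup.mem_centralizer_singleton_iff.1 hy'.2
      rw [hxe']
      calc m * t * m⁻¹ * (m * y' * m⁻¹) = m * (t * y') * m⁻¹ := by group
        _ = m * (y' * t) * m⁻¹ := by rw [hc]
        _ = m * y' * m⁻¹ * (m * t * m⁻¹) := by group
  have hyt : y * t ≠ t * y := by
    intro h
    have : y ∈ Cfsg.sigmaCore M ⊓ Subgroup.centralizer ({t} : Set G) := by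
      refine ⟨hy.1, ?_⟩
      change y ∈ Subgroup.centralizer ({t} : Set G)
      rw [Subgroup.mem_centralizer_singleton_iff]
      exact h
    rw [hreg, Subgroup.mem_bot] at this
    exact hy1 this
  -- `s ∈ τ₁(H)`
  have hsτH : s ∈ Cfsg.tau1 H := by
    by_contra hcon
    exact hyt (Cfsg.Agent.Helper3.BG134.commute_of_not_mem_tau1 hG hM hH hnc hsσM hcon hy.1 hyH
      htM htH htsg)
  have hsσH : s ∉ Cfsg.sigma H := hsτH.2.1
  by_cases hcase : ∀ x ∈ X, t * x = x * t
  · -- Case II: `t` centralizes `X`, hence `P`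
    have hΩ : ∀ c ∈ P, c ^ p = 1 → t * c = c * t := by
      intro c hc hcp
      apply hcase
      haveI := hPc
      have hXsub : X.subgroupOf P ≠ ⊥ := by
        intro h
        apply hX1
        rw [eq_bot_iff]
        intro x hx
        have : (⟨x, hXP hx⟩ : ↥P) ∈ X.subgroupOf P := by
          rw [Subgroup.mem_subgroupOf]; exact hx
        rw [h, Subgroup.mem_bot] at this
        rw [Subgroup.mem_bot]
        exact congrArg Subtype.val this
      have hcp' : (⟨c, hc⟩ : ↥P) ^ p = 1 := Subtype.ext (by simpa using hcp)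
      have := Cfsg.Agent.Helper4.BG13.mem_of_pow_eq_one_of_isCyclic hPp hXsub hcp'
      rw [Subgroup.mem_subgroupOf] at this
      exact this
    have htP : ∀ z ∈ P, t * z = z * t :=
      commute_of_commute_omega ((Nat.coprime_primes hs.out hp.out).2 hsp) hPp hPab (hEP htE) hts hΩ
    -- a complement of `H_σ` containing `⟨e⟩` and `S1427` in `H`
    have hZH : Subgroup.zpowers e ≤ H := Subgroup.zpowers_le.2 heH
    have hZσ : ∀ r : ℕ, r.Prime → r ∣ Nat.card ↥(Subgroup.zpowers e) → r ∉ Cfsg.sigma H := by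
      intro r hr hrd
      obtain ⟨k, hk⟩ := IsPGroup.iff_card.mp hes
      rw [hk] at hrd
      have : r = s := (Nat.prime_dvd_prime_iff_eq hr hs.out).1 (hr.dvd_of_dvd_pow hrd)
      rw [this]; exact hsσH
    obtain ⟨EH, hEHc, hZEH⟩ := Cfsg.Agent.Helper4.BG10.exists_compl_sigmaCore_ge hG hH hZH hZσ
    have hesE : IsPGroup s ↥((Subgroup.zpowers e).subgroupOf EH) :=
      hes.comap_of_injective EH.subtype EH.subtype_injective
    obtain ⟨S, hS⟩ := hesE.exists_le_sylow
    have heEH : e ∈ EH := hZEH (Subgroup.mem_zpowers e)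
    have heS : e ∈ (S : Subgroup ↥EH).map EH.subtype := by
      refine ⟨⟨e, heEH⟩, hS ?_, rfl⟩
      rw [Subgroup.mem_subgroupOf]
      exact Subgroup.mem_zpowers e
    have htS : t ∈ (S : Subgroup ↥EH).map EH.subtype := by
      obtain ⟨k, rfl⟩ := Subgroup.mem_zpowers_iff.1 ht
      exact Subgroup.zpow_mem _ heS k
    have hS1 : (S : Subgroup ↥EH) ≠ ⊥ := by
      intro h
      rw [h, Subgroup.map_bot, Subgroup.mem_bot] at htS
      exact ht1 htS
    have hSc : IsCyclic ↥(S : Subgroup ↥EH) := by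
      have hc : IsCyclic ↥((S : Subgroup ↥EH).map EH.subtype) :=
        isCyclic_of_pRankLE_one hG.1 hsτH.2.2.2.2
          ((Subgroup.map_subtype_le _).trans hEHc.1) (S.2.map _)
      have e' : ↥(S : Subgroup ↥EH) ≃* ↥((S : Subgroup ↥EH).map EH.subtype) :=
        (S : Subgroup ↥EH).equivMapOfInjective EH.subtype EH.subtype_injective
      haveI := hc
      exact isCyclic_of_surjective e'.symm e'.symm.surjective
    have h1427 := Cfsg.Agent.S1427.result hG H hH EH hEHc s S hS1 hSc t htS ht1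
    apply hne
    intro z hz
    have hz1 : z ∈ Cfsg.sigmaCore H ⊓ Subgroup.centralizer ({t} : Set G) := by
      refine ⟨hPσ hz, ?_⟩
      change z ∈ Subgroup.centralizer ({t} : Set G)
      rw [Subgroup.mem_centralizer_singleton_iff]
      exact (htP z hz).symm
    rw [h1427] at hz1
    exact (Subgroup.mem_centralizer_iff.1 hz1.2 e heS)
  · -- Case I: `t` acts fixed-point-freely on `P`; BG 12.17(b)
    push Not at hcase
    obtain ⟨x, hxX, hxt⟩ := hcase
    have hZM : Subgroup.zpowers t ≤ M := Subgroup.zpowers_le.2 htM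
    have hZcard : Nat.card ↥(Subgroup.zpowers t) = s := by rw [Nat.card_zpowers, hto]
    have hZN : Subgroup.zpowers t ≤ Subgroup.normalizer (P : Set G) :=
      Subgroup.zpowers_le.2 (hEP htE)
    have hfpf : P ⊓ Subgroup.centralizer ((Subgroup.zpowers t : Subgroup G) : Set G) = ⊥ := by
      by_contra hcon
      have hd : Nat.card X ∣
          Nat.card ↥(P ⊓ Subgroup.centralizer ((Subgroup.zpowers t : Subgroup G) : Set G)) := by
        rw [hX]
        exact Cfsg.Agent.Helper1.BGV.dvd_card_of_isPGroup_ne_bot (hPp.to_le inf_le_left) hcon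
      have hle := Cfsg.Agent.Helper1.BGW.le_of_card_dvd_of_isCyclic hPc hXP inf_le_left hd
      have h3 : x ∈ Subgroup.centralizer ((Subgroup.zpowers t : Subgroup G) : Set G) :=
        (hle hxX).2
      rw [Cfsg.Agent.Helper1.BGX.centralizer_zpowers_eq,
        Subgroup.mem_centralizer_singleton_iff] at h3
      exact hxt h3.symm
    have hNP : Subgroup.normalizer (P : Set G) ≤ H :=
      (normalizer_le_normalizer_of_isCyclic hPc hXP).trans hNX
    have h1217 := Cfsg.Agent.Helper4.BG13.cent_alphaCore_reg_tau1_sylow hG hM hsτ hZM hZcard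
      (Ne.symm hsp) hPM hPp hP1 hZN hfpf hPcard hH hHM hNP
    apply h1217.2.2.2.2.1
    rw [eq_bot_iff, ← hreg, Cfsg.Agent.Helper1.BGX.centralizer_zpowers_eq]
    exact inf_le_inf_right _ (Cfsg.Agent.S1405.result hG M hM).2.2.1

end Cfsg.Agent.Helper1.BGT3reg
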