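import Mathlib
import Cfsg.Prelude
import Cfsg.Agent.Helper1.BGT3regB
import Cfsg.Agent.Helper4.BG14P5
import Cfsg.Agent.Helper3.CoprimeHall
import Cfsg.Agent.S1415

set_option autoImplicit false
set_option linter.unusedSectionVars false
set_option linter.unusedVariables false

/-!
# (T3reg): if `M` has a cyclic Hall `κ(M)`-subgroup then `κ(M) ⊆ τ₁(M)`.
-/

namespace Cfsg.Agent.Helper1.BGT3reg

open Cfsg Cfsg.Agent.Helper1 Cfsg.Agent.Helper1.BGU Cfsg.Agent.Lead.BG12 Cfsg.Agent.Helper4.BG10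
  Cfsg.Agent.Helper4.BG12
open scoped commutatorElement Pointwise

universe u

variable {G : Type u} [Group G] [Finite G]

/-- A complement of `M_σ` has a Hall `τ₃(M)`-subgroup. -/
theorem exists_hall_tau3 (hG : Cfsg.IsMinSimpleOddOrder G) {M : Subgroup G} (hM : IsCoatom M)
    {E : Subgroup G} (hEM : E ≤ M) : ∃ E₃ : Subgroup G, Cfsg.IsPiHallOf (Cfsg.tau3 M) E₃ E := by
  haveI hsolvM : Group.IsSolvable ↥M := hG.2.2.2 M hM.1
  have hsolv : Group.IsSolvable ↥E :=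
    Group.isSolvable_of_isSolvable_injective (Subgroup.inclusion_injective hEM)
  obtain ⟨m, n, hd⟩ := Cfsg.Agent.Helper3.exists_piDecomp (Cfsg.tau3 M) (Nat.card E)
    Nat.card_pos.ne'
  obtain ⟨H, hHE, hHcard, -⟩ := (Cfsg.Agent.Helper3.hall_internal E hsolv hd).2 ⊥ bot_le
    (by rw [Subgroup.card_bot]; exact Nat.coprime_one_left _)
  exact ⟨H, (Cfsg.Agent.Helper3.isPiHallOf_iff_card hd).2 ⟨hHE, hHcard⟩⟩

/-- In a cyclic group `C`, a subgroup `P` is normalized by everything normalizing `C`. -/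
theorem normalizer_le_normalizer_of_le_isCyclic {C P : Subgroup G} (hC : IsCyclic ↥C)
    (hPC : P ≤ C) : Subgroup.normalizer (C : Set G) ≤ Subgroup.normalizer (P : Set G) :=
  Cfsg.Agent.Lead.BG12.normalizer_le_normalizer_of_isCyclic hC hPC

/-- A `p`-subgroup of `E` lies in a normal subgroup `P` of `E` of order the `p`-part of `|E|`. -/
theorem le_of_normal_sylow {p : ℕ} [hp : Fact p.Prime] {E P S : Subgroup G} (hPE : P ≤ E)
    (hPp : IsPGroup p ↥P) (hPcard : Nat.card P = p ^ (Nat.card E).factorization p)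
    (hEP : E ≤ Subgroup.normalizer (P : Set G)) (hSE : S ≤ E) (hSp : IsPGroup p ↥S) : S ≤ P := by
  have hsup : IsPGroup p ↥(S ⊔ P) := hSp.to_sup_of_normal_right' hPp (hSE.trans hEP)
  have hle : S ⊔ P ≤ E := sup_le hSE hPE
  have hd := Cfsg.Agent.Lead.card_dvd_ppart_of_isPGroup hsup hle
  rw [← hPcard] at hd
  have : P = S ⊔ P :=
    Subgroup.eq_of_le_of_card_ge le_sup_right (Nat.le_of_dvd Nat.card_pos hd)
  rw [this]
  exact le_sup_left

/-- **(T3reg)**: if `K` is a cyclic Hall `κ(M)`-subgroup of `M`, then `κ(M) ⊆ τ₁(M)`. -/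
theorem kappa_subset_tau1_of_cyclic (hG : Cfsg.IsMinSimpleOddOrder G) {M : Subgroup G}
    (hM : IsCoatom M) {K : Subgroup G} (hKc : IsCyclic ↥K)
    (hK : Cfsg.IsPiHallOf (Cfsg.kappa M) K M) : ∀ p ∈ Cfsg.kappa M, p ∈ Cfsg.tau1 M := by
  classical
  intro p hpκ
  by_contra hpτ1
  obtain ⟨hpP, hpM, hpσ, hpS⟩ := hpκ
  haveI hp : Fact p.Prime := ⟨hpP⟩
  have hpκ : p ∈ Cfsg.kappa M := ⟨hpP, hpM, hpσ, hpS⟩
  have hp1 : Cfsg.PRankLE p 1 ↥M := Cfsg.Agent.Helper4.BG14.pRankLE_one_of_mem_kappa hpκ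
  have hpM' : p ∣ Nat.card ↥⁅M, M⁆ := by
    by_contra h
    exact hpτ1 ⟨hpP, hpσ, hpM, h, hp1⟩
  have hpτ3 : p ∈ Cfsg.tau3 M := ⟨hpP, hpσ, hpM', hp1⟩
  -- the complement `E ⊇ K`
  have hKσ : ∀ t : ℕ, t.Prime → t ∣ Nat.card K → t ∉ Cfsg.sigma M :=
    fun t ht htd => (hK.2.1 t ht htd).2.2.1
  obtain ⟨E, hE, hKE⟩ := Cfsg.Agent.Helper4.BG10.exists_compl_sigmaCore_ge hG hM hK.1 hKσ
  have hEM : E ≤ M := hE.1
  obtain ⟨E₃, hE₃⟩ := exists_hall_tau3 hG hM hEM
  obtain ⟨hE₃c, hE₃E', hEE₃⟩ := (Cfsg.Agent.S1415.result hG M hM E hE).2.2 E₃ hE₃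
  have hE₃E : E₃ ≤ E := hE₃.1
  -- the Sylow `p`-subgroup `P` of `E₃`
  obtain ⟨P, -, hPE₃, hPp, hPcard₃⟩ :=
    Cfsg.Agent.Lead.exists_le_card_eq_ppart (p := p) (H := E₃) (U := ⊥) IsPGroup.of_bot bot_le
  have hfac₃ : (Nat.card E₃).factorization p = (Nat.card E).factorization p :=
    factorization_eq_of_not_dvd_relIndex hE₃E hpP (hE₃.2.2 p hpP hpτ3)
  have hfacE : (Nat.card E).factorization p = (Nat.card M).factorization p :=
    factorization_compl_eq hE hpP hpσ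
  have hPcardE : Nat.card P = p ^ (Nat.card E).factorization p := by rw [hPcard₃, hfac₃]
  have hPcard : Nat.card P = p ^ (Nat.card M).factorization p := by rw [hPcardE, hfacE]
  have hPE : P ≤ E := hPE₃.trans hE₃E
  have hfpos : 0 < (Nat.card M).factorization p :=
    hpP.factorization_pos_of_dvd Nat.card_pos.ne' hpM
  have hP1 : P ≠ ⊥ := by
    intro h
    rw [h, Subgroup.card_bot] at hPcard
    have : 1 < p ^ (Nat.card M).factorization p := Nat.one_lt_pow hfpos.ne' hpP.one_lt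
    omega
  have hEP : E ≤ Subgroup.normalizer (P : Set G) :=
    hEE₃.trans (normalizer_le_normalizer_of_le_isCyclic hE₃c hPE₃)
  -- the subgroup `X` of order `p`
  have hpP' : p ∣ Nat.card P := by
    rw [hPcard]; exact dvd_pow_self p hfpos.ne'
  obtain ⟨x₀, hx₀⟩ := exists_prime_orderOf_dvd_card' p hpP'
  have hx₀' : orderOf (x₀ : G) = p := by rw [Subgroup.orderOf_coe]; exact hx₀
  obtain ⟨X, hXdef⟩ : ∃ X : Subgroup G, X = Subgroup.zpowers (x₀ : G) := ⟨_, rfl⟩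
  have hXP : X ≤ P := by rw [hXdef]; exact Subgroup.zpowers_le.2 x₀.2
  have hX : Nat.card X = p := by rw [hXdef, Nat.card_zpowers, hx₀']
  have hXM : X ≤ M := hXP.trans (hPE.trans hEM)
  have hEX : E ≤ Subgroup.normalizer (X : Set G) :=
    hEE₃.trans (normalizer_le_normalizer_of_le_isCyclic hE₃c (hXP.trans hPE₃))
  have hY : Cfsg.sigmaCore M ⊓ Subgroup.centralizer (X : Set G) ≠ ⊥ :=
    Cfsg.Agent.Helper4.BG14.sigmaCore_inf_centralizer_ne_bot_of_mem_kappa hpκ hXM hX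
  -- some Sylow subgroup of `E` does not centralize `P`
  have hnc : ¬ E ≤ Subgroup.centralizer (P : Set G) :=
    not_le_centralizer_of_le_commutator hPE hPcardE hP1 (hPE₃.trans hE₃E')
  obtain ⟨s, hsP, hsE, S, hSE, hSs, hScard, hSnc⟩ := exists_sylow_not_le_centralizer hnc
  haveI hs : Fact s.Prime := ⟨hsP⟩
  have hPab : ∀ a ∈ P, ∀ b ∈ P, a * b = b * a := by
    intro a ha b hb
    exact Cfsg.Agent.Helper1.BGPart.commute_of_isCyclic hE₃c (hPE₃ ha) (hPE₃ hb)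
  obtain ⟨e, heS, hec⟩ : ∃ e ∈ S, e ∉ Subgroup.centralizer (P : Set G) := by
    by_contra hcon
    push Not at hcon
    exact hSnc hcon
  have hne : ¬ ∀ z ∈ P, e * z = z * e := by
    intro h
    apply hec
    rw [Subgroup.mem_centralizer_iff]
    intro z hz
    exact (h z hz).symm
  have heE : e ∈ E := hSE heS
  have hes : IsPGroup s ↥(Subgroup.zpowers e) := hSs.to_le (Subgroup.zpowers_le.2 heS)
  -- `s ≠ p`
  have hsp : s ≠ p := by
    rintro rfl
    have hSP : S ≤ P := le_of_normal_sylow hPE hPp hPcardE hEP hSE hSs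
    apply hne
    intro z hz
    exact hPab e (hSP heS) z hz
  have hsσ : s ∉ Cfsg.sigma M := not_mem_sigma_of_dvd_card_compl hG hM hE hsP hsE
  have hsM : s ∣ Nat.card M := hsE.trans (Subgroup.card_dvd_of_le hEM)
  -- `e ≠ 1` and the element `t` of order `s`
  have he1 : e ≠ 1 := by
    rintro rfl
    apply hne
    intro z _
    rw [one_mul, mul_one]
  obtain ⟨k, hk⟩ := IsPGroup.iff_card.mp hes
  rw [Nat.card_zpowers] at hk
  have hk0 : k ≠ 0 := by
    rintro rfl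
    rw [pow_zero, orderOf_eq_one_iff] at hk
    exact he1 hk
  obtain ⟨t, htdef⟩ : ∃ t : G, t = e ^ s ^ (k - 1) := ⟨_, rfl⟩
  have hto : orderOf t = s := by
    have hdvd : s ^ (k - 1) ∣ orderOf e := by
      rw [hk]; exact pow_dvd_pow s (Nat.sub_le k 1)
    rw [htdef, orderOf_pow_of_dvd (pow_ne_zero _ hsP.ne_zero) hdvd, hk]
    have : s ^ k = s ^ (k - 1) * s := by
      rw [← pow_succ]; congr 1; omega
    rw [this, Nat.mul_div_cancel_left _ (pow_pos hsP.pos _)]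
  have ht : t ∈ Subgroup.zpowers e := by
    rw [htdef]; exact Subgroup.pow_mem _ (Subgroup.mem_zpowers e) _
  have htE : t ∈ E := (Subgroup.zpowers_le.2 heE) ht
  -- `s ∉ τ₂(M)`, `s ∉ τ₃(M)`, so `s ∈ τ₁(M)`
  have hsτ3 : s ∉ Cfsg.tau3 M := by
    intro hsτ3
    -- `e ∈ E₃`, which is cyclic and contains `P`
    have heE₃ : e ∈ E₃ := by
      have hle : Subgroup.zpowers e ≤ E₃ := by
        -- `E₃` is normal in `E`, so it contains every `τ₃(M)`-subgroup
        apply Cfsg.Agent.Helper4.BG13.le_of_isPi_of_hall hEE₃ hE₃.2.2 (Subgroup.zpowers_le.2 heE)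
        intro r hr hrd
        rw [Nat.card_zpowers, hk] at hrd
        have : r = s := (Nat.prime_dvd_prime_iff_eq hr hsP).1 (hr.dvd_of_dvd_pow hrd)
        rw [this]; exact hsτ3
      exact hle (Subgroup.mem_zpowers e)
    apply hne
    intro z hz
    exact Cfsg.Agent.Helper1.BGPart.commute_of_isCyclic hE₃c heE₃ (hPE₃ hz)
  -- `s ∉ κ(M)`, as `K` is cyclic
  have hKab : ∀ a ∈ K, ∀ b ∈ K, a * b = b * a := fun a ha b hb =>
    Cfsg.Agent.Helper1.BGPart.commute_of_isCyclic hKc ha hb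
  have hKM : K ≤ M := hK.1
  have hsκ : s ∉ Cfsg.kappa M := by
    intro hsκ
    -- `P ≤ K`
    have hfacKp : (Nat.card K).factorization p = (Nat.card E).factorization p := by
      rw [factorization_eq_of_not_dvd_relIndex hKM hpP (hK.2.2 p hpP hpκ), hfacE]
    obtain ⟨P', -, hP'K, hP'p, hP'card⟩ :=
      Cfsg.Agent.Lead.exists_le_card_eq_ppart (p := p) (H := K) (U := ⊥) IsPGroup.of_bot bot_le
    rw [hfacKp] at hP'card
    obtain ⟨m, hm, hPP'⟩ := Cfsg.Agent.Lead.exists_conj_le_of_card_eq_ppart (hP'K.trans hKE)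
      hP'card hPE hPp
    have hPK : P ≤ K := by
      intro z hz
      have h1 : m⁻¹ * z * m⁻¹⁻¹ ∈ P :=
        (Subgroup.mem_normalizer_iff.1 (hEP (E.inv_mem hm)) z).1 hz
      have h2 : m * (m⁻¹ * z * m⁻¹⁻¹) * m⁻¹ ∈ P' := hPP' ⟨_, h1, rfl⟩
      have h3 : m * (m⁻¹ * z * m⁻¹⁻¹) * m⁻¹ = z := by group
      rw [h3] at h2
      exact hP'K h2
    -- a conjugate of `e` lies in `K`
    have hfacKs : (Nat.card K).factorization s = (Nat.card E).factorization s := by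
      rw [factorization_eq_of_not_dvd_relIndex hKM hsP (hK.2.2 s hsP hsκ),
        factorization_compl_eq hE hsP hsσ]
    obtain ⟨S', -, hS'K, hS's, hS'card⟩ :=
      Cfsg.Agent.Lead.exists_le_card_eq_ppart (p := s) (H := K) (U := ⊥) IsPGroup.of_bot bot_le
    rw [hfacKs] at hS'card
    obtain ⟨n, hn, heS'⟩ := Cfsg.Agent.Lead.exists_conj_le_of_card_eq_ppart (hS'K.trans hKE)
      hS'card (Subgroup.zpowers_le.2 heE) hes
    have hneK : n * e * n⁻¹ ∈ K := hS'K (heS' ⟨e, Subgroup.mem_zpowers e, rfl⟩)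
    apply hne
    intro z hz
    have hnz : n * z * n⁻¹ ∈ P := (Subgroup.mem_normalizer_iff.1 (hEP hn) z).1 hz
    have hc := hKab _ hneK _ (hPK hnz)
    have h1 : e * z = n⁻¹ * ((n * e * n⁻¹) * (n * z * n⁻¹)) * n := by group
    have h2 : z * e = n⁻¹ * ((n * z * n⁻¹) * (n * e * n⁻¹)) * n := by group
    rw [h1, h2, hc]
  exact false_of_regular_acting hG hM hE hpσ hpM hp1 hPE hPp hPcard hXP hX hY hEX hEP hsp hsE
    hsτ3 heE hes hne ht hto hsκ

/-- **(T3reg)** for a σ-decomposition. -/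
theorem kappa_subset_tau1_of_decomp (hG : Cfsg.IsMinSimpleOddOrder G) {M : Subgroup G}
    (hM : IsCoatom M) {K U : Subgroup G} (hKU : Cfsg.IsSigmaDecomposition M K U) :
    ∀ p ∈ Cfsg.kappa M, p ∈ Cfsg.tau1 M :=
  kappa_subset_tau1_of_cyclic hG hM hKU.cyclic hKU.hall

/-- Under (T3reg), `κ(M) ∩ τ₃(M) = ∅`. -/
theorem not_mem_tau3_of_mem_kappa (hG : Cfsg.IsMinSimpleOddOrder G) {M : Subgroup G}
    (hM : IsCoatom M) {K : Subgroup G} (hKc : IsCyclic ↥K)
    (hK : Cfsg.IsPiHallOf (Cfsg.kappa M) K M) {p : ℕ} (hp : p ∈ Cfsg.kappa M) :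
    p ∉ Cfsg.tau3 M := by
  intro h3
  exact (kappa_subset_tau1_of_cyclic hG hM hKc hK p hp).2.2.2.1 h3.2.2.1

end Cfsg.Agent.Helper1.BGT3reg
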