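import Mathlib
import Cfsg.Prelude
import Cfsg.Agent.Helper1.BGT3regC

set_option autoImplicit false
set_option linter.unusedSectionVars false
set_option linter.unusedVariables false

/-!
# Bender–Glauberman 13.9-type reduction (`tau13_nonregular`), part A: the context, `τ₂(M) = ∅`,
`M_σ ∩ H = C_{M_σ}(X)`, and `E'` centralizes `C_{M_σ}(X)`.

Setting (S): `p ∈ τ₃(M)`, `E` a complement of `M_σ`, `X ≤ E` of order `p` with `C_{M_σ}(X) ≠ 1`.
-/

namespace Cfsg.Agent.Helper1.BG139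

open Cfsg Cfsg.Agent.Helper1 Cfsg.Agent.Helper1.BGU Cfsg.Agent.Lead.BG12 Cfsg.Agent.Helper4.BG10
  Cfsg.Agent.Helper4.BG12 Cfsg.Agent.Helper1.BGT3reg
open scoped commutatorElement Pointwise

universe u

variable {G : Type u} [Group G] [Finite G]

/-- The context of setting (S). -/
structure T3Ctx (M E E₃ P X H : Subgroup G) (p : ℕ) : Prop where
  min : Cfsg.IsMinSimpleOddOrder G
  coatom : IsCoatom M
  compl : Cfsg.IsComplIn E (Cfsg.sigmaCore M) M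
  prime : p.Prime
  tau3 : p ∈ Cfsg.tau3 M
  hall3 : Cfsg.IsPiHallOf (Cfsg.tau3 M) E₃ E
  cyc3 : IsCyclic ↥E₃
  le_comm : E₃ ≤ ⁅E, E⁆
  norm3 : E ≤ Subgroup.normalizer (E₃ : Set G)
  PE₃ : P ≤ E₃
  Pp : IsPGroup p ↥P
  Pcard : Nat.card P = p ^ (Nat.card M).factorization p
  XP : X ≤ P
  Xcard : Nat.card X = p
  nonreg : Cfsg.sigmaCore M ⊓ Subgroup.centralizer (X : Set G) ≠ ⊥
  coatomH : IsCoatom H
  NX : Subgroup.normalizer (X : Set G) ≤ H

/-- Setting (S) yields a context. -/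
theorem exists_ctx (hG : Cfsg.IsMinSimpleOddOrder G) {M : Subgroup G} (hM : IsCoatom M)
    {E : Subgroup G} (hE : Cfsg.IsComplIn E (Cfsg.sigmaCore M) M) {p : ℕ} (hpP : p.Prime)
    (hp : p ∈ Cfsg.tau3 M) {X : Subgroup G} (hXE : X ≤ E) (hX : Nat.card X = p)
    (hY : Cfsg.sigmaCore M ⊓ Subgroup.centralizer (X : Set G) ≠ ⊥) :
    ∃ E₃ P H : Subgroup G, T3Ctx M E E₃ P X H p := by
  haveI : Fact p.Prime := ⟨hpP⟩
  have hEM : E ≤ M := hE.1
  obtain ⟨E₃, hE₃⟩ := exists_hall_tau3 hG hM hEM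
  obtain ⟨hE₃c, hE₃E', hEE₃⟩ := (Cfsg.Agent.S1415.result hG M hM E hE).2.2 E₃ hE₃
  have hXp : IsPGroup p ↥X := IsPGroup.of_card (n := 1) (by rw [hX, pow_one])
  have hXE₃ : X ≤ E₃ := by
    apply Cfsg.Agent.Helper4.BG13.le_of_isPi_of_hall hEE₃ hE₃.2.2 hXE
    intro r hr hrd
    rw [hX] at hrd
    have : r = p := (Nat.prime_dvd_prime_iff_eq hr hpP).1 hrd
    rw [this]; exact hp
  obtain ⟨P, hXP, hPE₃, hPp, hPcard₃⟩ := Cfsg.Agent.Lead.exists_le_card_eq_ppart hXp hXE₃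
  have hfac₃ : (Nat.card E₃).factorization p = (Nat.card E).factorization p :=
    factorization_eq_of_not_dvd_relIndex hE₃.1 hpP (hE₃.2.2 p hpP hp)
  have hfacE : (Nat.card E).factorization p = (Nat.card M).factorization p :=
    factorization_compl_eq hE hpP hp.2.1
  have hPcard : Nat.card P = p ^ (Nat.card M).factorization p := by
    rw [hPcard₃, hfac₃, hfacE]
  have hX1 : X ≠ ⊥ := by
    intro h
    rw [h, Subgroup.card_bot] at hX
    exact hpP.one_lt.ne hX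
  have hXtop : X ≠ ⊤ := by
    intro h
    have : M = ⊤ := top_le_iff.1 (h ▸ (hXE.trans hEM))
    exact hM.1 this
  obtain ⟨H, hH, hNX⟩ := exists_coatom_ge (normalizer_ne_top_of_simple hG hX1 hXtop)
  exact ⟨E₃, P, H, ⟨hG, hM, hE, hpP, hp, hE₃, hE₃c, hE₃E', hEE₃, hPE₃, hPp, hPcard, hXP, hX, hY,
    hH, hNX⟩⟩

namespace T3Ctx

variable {M E E₃ P X H : Subgroup G} {p : ℕ}

theorem EM (c : T3Ctx M E E₃ P X H p) : E ≤ M := c.compl.1

theorem XE₃ (c : T3Ctx M E E₃ P X H p) : X ≤ E₃ := c.XP.trans c.PE₃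

theorem PE (c : T3Ctx M E E₃ P X H p) : P ≤ E := c.PE₃.trans c.hall3.1

theorem XE (c : T3Ctx M E E₃ P X H p) : X ≤ E := c.XP.trans c.PE

theorem EX (c : T3Ctx M E E₃ P X H p) : E ≤ Subgroup.normalizer (X : Set G) :=
  c.norm3.trans (normalizer_le_normalizer_of_le_isCyclic c.cyc3 c.XE₃)

theorem EP (c : T3Ctx M E E₃ P X H p) : E ≤ Subgroup.normalizer (P : Set G) :=
  c.norm3.trans (normalizer_le_normalizer_of_le_isCyclic c.cyc3 c.PE₃)

theorem EH (c : T3Ctx M E E₃ P X H p) : E ≤ H := c.EX.trans c.NX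

theorem CXH (c : T3Ctx M E E₃ P X H p) : Subgroup.centralizer (X : Set G) ≤ H :=
  (Subgroup.centralizer_le_normalizer _).trans c.NX

theorem pσ (c : T3Ctx M E E₃ P X H p) : p ∉ Cfsg.sigma M := c.tau3.2.1

theorem p1 (c : T3Ctx M E E₃ P X H p) : Cfsg.PRankLE p 1 ↥M := c.tau3.2.2.2

theorem pM (c : T3Ctx M E E₃ P X H p) : p ∣ Nat.card M :=
  c.tau3.2.2.1.trans (Subgroup.card_dvd_of_le (Subgroup.commutator_le_self M))

theorem Xp (c : T3Ctx M E E₃ P X H p) : IsPGroup p ↥X := c.Pp.to_le c.XP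

theorem X1 (c : T3Ctx M E E₃ P X H p) : X ≠ ⊥ := by
  intro h
  have := c.Xcard
  rw [h, Subgroup.card_bot] at this
  exact c.prime.one_lt.ne this

theorem pσH (c : T3Ctx M E E₃ P X H p) : p ∈ Cfsg.sigma H := by
  haveI : Fact p.Prime := ⟨c.prime⟩
  exact (Cfsg.Agent.Helper4.BG14.p5' c.min c.coatom c.coatomH c.pσ c.p1 (c.XE.trans c.EM) c.Xcard
    c.nonreg c.NX).1

theorem PσH (c : T3Ctx M E E₃ P X H p) : P ≤ Cfsg.sigmaCore H := by
  haveI : Fact p.Prime := ⟨c.prime⟩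
  exact le_sigmaCore' c.min c.coatomH c.pσH (c.PE.trans c.EH) c.Pp

theorem HM (c : T3Ctx M E E₃ P X H p) : H ≠ M := by
  haveI : Fact p.Prime := ⟨c.prime⟩
  intro h
  exact Cfsg.Agent.Helper4.BG13.not_normalizer_le_of_rank_one c.min c.pσ c.pM c.p1
    (c.XE.trans c.EM) c.Xp c.X1 (h ▸ c.NX)

theorem nc (c : T3Ctx M E E₃ P X H p) : ∀ g : G, M ≠ MulAut.conj g • H := by
  haveI : Fact p.Prime := ⟨c.prime⟩
  intro g hg
  have hHM' : H = MulAut.conj g⁻¹ • M := by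
    rw [hg, Cfsg.Agent.Helper1.BGT.conj_smul_smul, inv_mul_cancel, map_one, one_smul]
  have hH' : IsCoatom (MulAut.conj g⁻¹ • M) := hHM' ▸ c.coatomH
  exact c.pσ (mem_sigma_of_mem_sigma_conj_smul c.min hH' (hHM' ▸ c.pσH))

/-- **(C)** for the prime `p`: `M_σ ∩ H = C_{M_σ}(X)`. -/
theorem inf_eq (c : T3Ctx M E E₃ P X H p) :
    Cfsg.sigmaCore M ⊓ H = Cfsg.sigmaCore M ⊓ Subgroup.centralizer (X : Set G) := by
  haveI : Fact p.Prime := ⟨c.prime⟩
  apply le_antisymm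
  · intro y hy
    refine ⟨hy.1, ?_⟩
    change y ∈ Subgroup.centralizer (X : Set G)
    rw [Subgroup.mem_centralizer_iff]
    intro z hz
    have hzE : z ∈ E := c.XE hz
    have hzp : IsPGroup p ↥(Subgroup.zpowers z) := c.Xp.to_le (Subgroup.zpowers_le.2 hz)
    have hpτH : p ∉ Cfsg.tau1 H := fun h => h.2.1 c.pσH
    exact (Cfsg.Agent.Helper3.BG134.commute_of_not_mem_tau1 c.min c.coatom c.coatomH c.nc c.pσ
      hpτH hy.1 hy.2 (c.EM hzE) (c.EH hzE) hzp).symm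
  · exact inf_le_inf_left _ c.CXH

/-- a nontrivial element of `C_{M_σ}(X)` -/
theorem exists_ne_one (c : T3Ctx M E E₃ P X H p) :
    ∃ y ∈ Cfsg.sigmaCore M ⊓ Subgroup.centralizer (X : Set G), y ≠ 1 := by
  by_contra hcon
  push Not at hcon
  apply c.nonreg
  rw [eq_bot_iff]
  intro y hy
  rw [Subgroup.mem_bot]
  exact hcon y hy

/-- `τ₂(M) = ∅`. -/
theorem not_mem_tau2 (c : T3Ctx M E E₃ P X H p) {s : ℕ} (hs : s ∈ Cfsg.tau2 M) : False := by
  haveI : Fact s.Prime := ⟨hs.1⟩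
  have hG := c.min
  have hM := c.coatom
  have hE := c.compl
  obtain ⟨A, hAM, hAe, hAcard⟩ := exists_ea2_of_not_pRankLE_one hG hs.2.2.2
  obtain ⟨S, -, hSE, hSs, hScard⟩ :=
    Cfsg.Agent.Lead.exists_le_card_eq_ppart (p := s) (H := E) (U := ⊥) IsPGroup.of_bot bot_le
  have hScardM : Nat.card S = s ^ (Nat.card M).factorization s := by
    rw [hScard, factorization_compl_eq hE hs.1 hs.2.1]
  obtain ⟨m, hm, hAS⟩ := Cfsg.Agent.Lead.exists_conj_le_of_card_eq_ppart (hSE.trans c.EM)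
    hScardM hAM (Cfsg.Agent.Helper3.BGAlpha.isPGroup_of_elementary hAe)
  have hA'E : A.map (MulAut.conj m).toMonoidHom ≤ E := hAS.trans hSE
  have hA'e := Cfsg.Agent.Helper1.BGX.isElementaryAbelian_map hAe (MulAut.conj m).toMonoidHom
  have hA'card : Nat.card ↥(A.map (MulAut.conj m).toMonoidHom) = s ^ 2 := by
    rw [Cfsg.Agent.Lead.card_map_conj, hAcard]
  have hbot := (thm125 hG hM hs ⟨hA'E.trans c.EM, hA'e, hA'card⟩).2.2.2.2.1 H c.coatomH c.HM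
    (hA'E.trans c.EH)
  obtain ⟨y, hy, hy1⟩ := c.exists_ne_one
  have : y ∈ Cfsg.sigmaCore M ⊓ H := ⟨hy.1, c.CXH hy.2⟩
  rw [hbot, Subgroup.mem_bot] at this
  exact hy1 this

/-- an `r`-element of `E` with `r ∉ τ₁(H)` centralizes `C_{M_σ}(X)` -/
theorem commute_of_not_mem_tau1 (c : T3Ctx M E E₃ P X H p) {r : ℕ} [hr : Fact r.Prime] {e : G}
    (heE : e ∈ E) (her : IsPGroup r ↥(Subgroup.zpowers e)) (hrH : r ∉ Cfsg.tau1 H) {y : G}
    (hy : y ∈ Cfsg.sigmaCore M ⊓ Subgroup.centralizer (X : Set G)) : y * e = e * y := by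
  by_cases he1 : e = 1
  · rw [he1, mul_one, one_mul]
  have hZ1 : Subgroup.zpowers e ≠ ⊥ := fun h => he1 (Subgroup.zpowers_eq_bot.1 h)
  have hrE : r ∣ Nat.card E :=
    (Cfsg.Agent.Helper1.BGV.dvd_card_of_isPGroup_ne_bot her hZ1).trans
      (Subgroup.card_dvd_of_le (Subgroup.zpowers_le.2 heE))
  have hrσ : r ∉ Cfsg.sigma M := not_mem_sigma_of_dvd_card_compl c.min c.coatom c.compl hr.out hrE
  exact Cfsg.Agent.Helper3.BG134.commute_of_not_mem_tau1 c.min c.coatom c.coatomH c.nc hrσ hrH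
    hy.1 (c.CXH hy.2) (c.EM heE) (c.EH heE) her

/-- `E'` centralizes `C_{M_σ}(X)`. -/
theorem commutator_le_centralizer (c : T3Ctx M E E₃ P X H p) :
    ⁅E, E⁆ ≤ Subgroup.centralizer
      ((Cfsg.sigmaCore M ⊓ Subgroup.centralizer (X : Set G) : Subgroup G) : Set G) := by
  have h1 : ⁅E, E⁆ ≤ E ⊓ ⁅H, H⁆ :=
    le_inf (Subgroup.commutator_le_self E) (commutator_le_of_le c.EH)
  refine h1.trans ?_
  apply Cfsg.Agent.Helper1.BGU.le_of_forall_sylow_le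
  intro r hr hrD
  haveI : Fact r.Prime := ⟨hr⟩
  obtain ⟨S, -, hSD, hSr, hScard⟩ :=
    Cfsg.Agent.Lead.exists_le_card_eq_ppart (p := r) (H := E ⊓ ⁅H, H⁆) (U := ⊥) IsPGroup.of_bot
      bot_le
  refine ⟨S, hSD, ?_, hScard⟩
  have hfpos : 0 < (Nat.card ↥(E ⊓ ⁅H, H⁆)).factorization r :=
    hr.factorization_pos_of_dvd Nat.card_pos.ne' hrD
  have hrS : r ∣ Nat.card S := by
    rw [hScard]; exact dvd_pow_self r hfpos.ne'
  have hrH' : r ∣ Nat.card ↥⁅H, H⁆ :=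
    hrS.trans (Subgroup.card_dvd_of_le (hSD.trans inf_le_right))
  have hrτ : r ∉ Cfsg.tau1 H := fun h => h.2.2.2.1 hrH'
  intro e he
  rw [Subgroup.mem_centralizer_iff]
  intro y hy
  exact c.commute_of_not_mem_tau1 ((hSD.trans inf_le_left) he)
    (hSr.to_le (Subgroup.zpowers_le.2 he)) hrτ hy

end T3Ctx

end Cfsg.Agent.Helper1.BG139
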