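import Mathlib
import Cfsg.Prelude
import Cfsg.Agent.Helper1.BG139a
import Cfsg.Agent.S1414

set_option autoImplicit false
set_option linter.unusedSectionVars false
set_option linter.unusedVariables false

/-!
# `tau13_nonregular`, part B: general lemmas (normal `q`-complements with abelian Sylow
`q`-subgroups), and the centralizers of the subgroups of `E₃`.
-/

namespace Cfsg.Agent.Helper1.BG139

open Cfsg Cfsg.Agent.Helper1 Cfsg.Agent.Helper1.BGU Cfsg.Agent.Lead.BG12 Cfsg.Agent.Helper4.BG10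
  Cfsg.Agent.Helper4.BG12 Cfsg.Agent.Helper1.BGT3reg
open scoped commutatorElement Pointwise

universe u

/-- In a group `D` with a normal `q`-complement whose Sylow `q`-subgroups are abelian, a
`q`-element of `D'` is trivial. -/
theorem eq_one_of_mem_commutator_of_npc {D : Type*} [Group D] [Finite D] {q : ℕ}
    [hq : Fact q.Prime] (hN : Cfsg.HasNormalPComplement q D)
    (hab : ∀ Q' : Sylow q D, ∀ a ∈ Q', ∀ b ∈ Q', a * b = b * a) {z : D}
    (hzq : ∃ k : ℕ, z ^ q ^ k = 1) (hzc : z ∈ commutator D) : z = 1 := by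
  obtain ⟨Sq, N, hNn, hc⟩ := hN
  haveI := hNn
  let φ : D ⧸ N ≃* ↥(Sq : Subgroup D) := hc.symm.QuotientMulEquiv
  let f : D →* ↥(Sq : Subgroup D) := φ.toMonoidHom.comp (QuotientGroup.mk' N)
  have hker : f.ker = N := by
    ext x
    rw [MonoidHom.mem_ker]
    change φ (QuotientGroup.mk' N x) = 1 ↔ x ∈ N
    rw [EmbeddingLike.map_eq_one_iff, QuotientGroup.mk'_apply, QuotientGroup.eq_one_iff]
  have hcomm : commutator D ≤ f.ker := by
    rw [commutator_eq_closure, Subgroup.closure_le]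
    rintro _ ⟨a, b, rfl⟩
    rw [SetLike.mem_coe, MonoidHom.mem_ker, commutatorElement_def, map_mul, map_mul, map_mul,
      map_inv, map_inv]
    obtain ⟨fa, hfa⟩ : ∃ fa, fa = f a := ⟨_, rfl⟩
    obtain ⟨fb, hfb⟩ : ∃ fb, fb = f b := ⟨_, rfl⟩
    rw [← hfa, ← hfb]
    have hfab : fa * fb = fb * fa := by
      apply Subtype.ext
      exact hab Sq _ fa.2 _ fb.2
    calc fa * fb * fa⁻¹ * fb⁻¹ = (fa * fb) * fa⁻¹ * fb⁻¹ := by group
      _ = (fb * fa) * fa⁻¹ * fb⁻¹ := by rw [hfab]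
      _ = 1 := by group
  have hzN : z ∈ N := hker ▸ hcomm hzc
  have hNcard : Nat.card N = (Sq : Subgroup D).index := hc.index_eq_card.symm
  have hqN : ¬ q ∣ Nat.card N := by rw [hNcard]; exact Sq.not_dvd_index
  obtain ⟨k, hk⟩ := hzq
  have h1 : orderOf z ∣ q ^ k := orderOf_dvd_of_pow_eq_one hk
  have h2 : orderOf z ∣ Nat.card N := by
    have := orderOf_dvd_natCard (⟨z, hzN⟩ : ↥N)
    rwa [Subgroup.orderOf_mk] at this
  obtain ⟨j, -, hj⟩ := (Nat.dvd_prime_pow hq.out).1 h1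
  rcases Nat.eq_zero_or_pos j with hj0 | hj0
  · rw [hj0, pow_zero] at hj
    exact orderOf_eq_one_iff.1 hj
  · exfalso
    apply hqN
    refine (dvd_pow_self q hj0.ne').trans ?_
    rw [← hj]; exact h2

variable {G : Type u} [Group G] [Finite G]

/-- For `q ∉ β(M)`, an abelian Sylow `q`-subgroup of `M_σ` meets `(M_σ)'` trivially. -/
theorem inf_commutator_sigmaCore_eq_bot (hG : Cfsg.IsMinSimpleOddOrder G) {M : Subgroup G}
    (hM : IsCoatom M) {q : ℕ} [hq : Fact q.Prime] (hqβ : q ∉ Cfsg.beta M) {Q : Subgroup G}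
    (hQσ : Q ≤ Cfsg.sigmaCore M) (hQq : IsPGroup q ↥Q)
    (hQcard : Nat.card Q = q ^ (Nat.card (Cfsg.sigmaCore M)).factorization q)
    (hQab : ∀ a ∈ Q, ∀ b ∈ Q, a * b = b * a) (hQ1 : Q ≠ ⊥) :
    Q ⊓ ⁅Cfsg.sigmaCore M, Cfsg.sigmaCore M⁆ = ⊥ := by
  have hqQ : q ∣ Nat.card Q := Cfsg.Agent.Helper1.BGV.dvd_card_of_isPGroup_ne_bot hQq hQ1
  have hqM : q ∣ Nat.card M :=
    hqQ.trans (Subgroup.card_dvd_of_le (hQσ.trans Cfsg.Agent.Lead.BG12.sigmaCore_le))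
  have hnpc := ((Cfsg.Agent.S1414.result hG M hM).2.2.2.2 q hq.out hqM hqβ).2.1
  have hcard' : Nat.card (Q.subgroupOf (Cfsg.sigmaCore M)) =
      q ^ (Nat.card (Cfsg.sigmaCore M)).factorization q := by
    rw [Cfsg.Agent.Lead.card_subgroupOf_of_le hQσ]; exact hQcard
  let Q₀ : Sylow q ↥(Cfsg.sigmaCore M) := Sylow.ofCard (Q.subgroupOf (Cfsg.sigmaCore M)) hcard'
  have hab : ∀ Q' : Sylow q ↥(Cfsg.sigmaCore M), ∀ a ∈ Q', ∀ b ∈ Q', a * b = b * a := by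
    intro Q' a ha b hb
    let e := Sylow.equiv Q' Q₀
    have h1 : ((e ⟨a, ha⟩ : ↥(Q₀ : Subgroup ↥(Cfsg.sigmaCore M))) : ↥(Cfsg.sigmaCore M)) ∈
        Q.subgroupOf (Cfsg.sigmaCore M) := (e ⟨a, ha⟩).2
    have h2 : ((e ⟨b, hb⟩ : ↥(Q₀ : Subgroup ↥(Cfsg.sigmaCore M))) : ↥(Cfsg.sigmaCore M)) ∈
        Q.subgroupOf (Cfsg.sigmaCore M) := (e ⟨b, hb⟩).2
    rw [Subgroup.mem_subgroupOf] at h1 h2
    have h3 := hQab _ h1 _ h2
    have h4 : e ⟨a, ha⟩ * e ⟨b, hb⟩ = e ⟨b, hb⟩ * e ⟨a, ha⟩ := by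
      apply Subtype.ext
      apply Subtype.ext
      simpa using h3
    rw [← map_mul, ← map_mul] at h4
    have h5 := e.injective h4
    exact congrArg Subtype.val h5
  rw [eq_bot_iff]
  intro z hz
  rw [Subgroup.mem_bot]
  have hzσ : z ∈ Cfsg.sigmaCore M := hQσ hz.1
  have hzc : (⟨z, hzσ⟩ : ↥(Cfsg.sigmaCore M)) ∈ commutator ↥(Cfsg.sigmaCore M) := by
    have h1 : z ∈ (commutator ↥(Cfsg.sigmaCore M)).map (Cfsg.sigmaCore M).subtype := by
      rw [Subgroup.map_subtype_commutator]; exact hz.2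
    obtain ⟨y, hy, hyz⟩ := h1
    have : y = ⟨z, hzσ⟩ := Subtype.ext hyz
    rw [← this]; exact hy
  have hzq : ∃ k : ℕ, (⟨z, hzσ⟩ : ↥(Cfsg.sigmaCore M)) ^ q ^ k = 1 := by
    obtain ⟨k, hk⟩ := hQq ⟨z, hz.1⟩
    refine ⟨k, ?_⟩
    apply Subtype.ext
    have := congrArg Subtype.val hk
    simpa using this
  have := eq_one_of_mem_commutator_of_npc hnpc hab hzq hzc
  exact congrArg Subtype.val this

/-- A Hall `τ₁(M)`-subgroup of `E` containing a given `τ₁(M)`-subgroup. -/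
theorem exists_hall_tau1_ge (hG : Cfsg.IsMinSimpleOddOrder G) {M : Subgroup G} (hM : IsCoatom M)
    {E : Subgroup G} (hEM : E ≤ M) {T : Subgroup G} (hTE : T ≤ E)
    (hT : ∀ r : ℕ, r.Prime → r ∣ Nat.card T → r ∈ Cfsg.tau1 M) :
    ∃ E₁ : Subgroup G, Cfsg.IsPiHallOf (Cfsg.tau1 M) E₁ E ∧ T ≤ E₁ := by
  haveI hsolvM : Group.IsSolvable ↥M := hG.2.2.2 M hM.1
  have hsolv : Group.IsSolvable ↥E :=
    Group.isSolvable_of_isSolvable_injective (Subgroup.inclusion_injective hEM)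
  obtain ⟨m, n, hd⟩ := Cfsg.Agent.Helper3.exists_piDecomp (Cfsg.tau1 M) (Nat.card E)
    Nat.card_pos.ne'
  have hcop : (Nat.card T).Coprime n := by
    apply Nat.coprime_of_dvd
    intro r hr h1 h2
    exact hd.right r hr h2 (hT r hr h1)
  obtain ⟨H, hHE, hHcard, hTH⟩ := (Cfsg.Agent.Helper3.hall_internal E hsolv hd).2 T hTE hcop
  exact ⟨H, (Cfsg.Agent.Helper3.isPiHallOf_iff_card hd).2 ⟨hHE, hHcard⟩, hTH⟩

end Cfsg.Agent.Helper1.BG139
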