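import Mathlib
import Cfsg.Prelude
import Cfsg.Agent.Helper1.BG139b
import Cfsg.Agent.Helper1.BGPartA
import Cfsg.Agent.S1422
import Cfsg.Agent.S1426

set_option autoImplicit false
set_option linter.unusedSectionVars false
set_option linter.unusedVariables false

/-!
# `tau13_nonregular`, part C: centralizers of the elements of `E₃`; `S1427` inside `H`; an element
of `C_{M_σ}(X)` commuting with a `τ₁`-element of prime order of `E` centralizes `E`.
-/

namespace Cfsg.Agent.Helper1.BG139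

open Cfsg Cfsg.Agent.Helper1 Cfsg.Agent.Helper1.BGU Cfsg.Agent.Lead.BG12 Cfsg.Agent.Helper4.BG10
  Cfsg.Agent.Helper4.BG12 Cfsg.Agent.Helper1.BGT3reg
open scoped commutatorElement Pointwise

universe u

variable {G : Type u} [Group G] [Finite G]

namespace T3Ctx

variable {M E E₃ P X H : Subgroup G} {p : ℕ}

/-- elements of `E'` commute with the elements of `C_{M_σ}(X)` -/
theorem commute_of_mem_commutator (c : T3Ctx M E E₃ P X H p) {x : G} (hx : x ∈ ⁅E, E⁆) {y : G}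
    (hy : y ∈ Cfsg.sigmaCore M ⊓ Subgroup.centralizer (X : Set G)) : y * x = x * y :=
  (Subgroup.mem_centralizer_iff.1 (c.commutator_le_centralizer hx)) y hy

/-- `C_{M_σ}(X') = C_{M_σ}(X)` for every subgroup `X'` of prime order of `E₃`. -/
theorem cent_eq_of_le_hall3 (c : T3Ctx M E E₃ P X H p) {X' : Subgroup G} (hX'E₃ : X' ≤ E₃)
    (hX'card : (Nat.card X').Prime) :
    Cfsg.sigmaCore M ⊓ Subgroup.centralizer (X' : Set G) =
      Cfsg.sigmaCore M ⊓ Subgroup.centralizer (X : Set G) := by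
  have hge : Cfsg.sigmaCore M ⊓ Subgroup.centralizer (X : Set G) ≤
      Cfsg.sigmaCore M ⊓ Subgroup.centralizer (X' : Set G) := by
    intro y hy
    refine ⟨hy.1, ?_⟩
    change y ∈ Subgroup.centralizer (X' : Set G)
    rw [Subgroup.mem_centralizer_iff]
    intro z hz
    exact (c.commute_of_mem_commutator (c.le_comm (hX'E₃ hz)) hy).symm
  apply le_antisymm _ hge
  have hp' : Nat.card X' ∈ Cfsg.tau3 M :=
    c.hall3.2.1 _ hX'card (Subgroup.card_dvd_of_le hX'E₃)
  have hY' : Cfsg.sigmaCore M ⊓ Subgroup.centralizer (X' : Set G) ≠ ⊥ := by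
    intro h
    apply c.nonreg
    rw [eq_bot_iff, ← h]
    exact hge
  obtain ⟨E₃', P', H', c'⟩ := exists_ctx c.min c.coatom c.compl hX'card hp'
    (hX'E₃.trans c.hall3.1) rfl hY'
  intro y hy
  refine ⟨hy.1, ?_⟩
  change y ∈ Subgroup.centralizer (X : Set G)
  rw [Subgroup.mem_centralizer_iff]
  intro z hz
  exact (c'.commute_of_mem_commutator (c.le_comm (c.XE₃ hz)) hy).symm

/-- `C_{M_σ}(x) = C_{M_σ}(X)` for every `x ∈ E₃^#`. -/
theorem cent_singleton_eq (c : T3Ctx M E E₃ P X H p) {x : G} (hx : x ∈ E₃) (hx1 : x ≠ 1) :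
    Cfsg.sigmaCore M ⊓ Subgroup.centralizer ({x} : Set G) =
      Cfsg.sigmaCore M ⊓ Subgroup.centralizer (X : Set G) := by
  apply le_antisymm
  · -- a power of `x` has prime order
    have hord : orderOf x ≠ 1 := fun h => hx1 (orderOf_eq_one_iff.1 h)
    obtain ⟨r, hr, hrd⟩ := Nat.exists_prime_and_dvd hord
    have hwr : orderOf (x ^ (orderOf x / r)) = r :=
      orderOf_pow_orderOf_div (orderOf_pos x).ne' hrd
    have hX' : (Nat.card ↥(Subgroup.zpowers (x ^ (orderOf x / r)))).Prime := by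
      rw [Nat.card_zpowers, hwr]; exact hr
    have hX'E₃ : Subgroup.zpowers (x ^ (orderOf x / r)) ≤ E₃ :=
      Subgroup.zpowers_le.2 (E₃.pow_mem hx _)
    rw [← c.cent_eq_of_le_hall3 hX'E₃ hX']
    apply inf_le_inf_left
    rw [Cfsg.Agent.Helper1.BGX.centralizer_zpowers_eq]
    intro y hy
    rw [Subgroup.mem_centralizer_singleton_iff] at hy ⊢
    have : Commute y x := hy
    exact (this.pow_right _).eq
  · intro y hy
    refine ⟨hy.1, ?_⟩
    change y ∈ Subgroup.centralizer ({x} : Set G)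
    rw [Subgroup.mem_centralizer_singleton_iff]
    exact c.commute_of_mem_commutator (c.le_comm hx) hy

/-- `C_{M_σ}(P) = C_{M_σ}(X)`. -/
theorem cent_P_eq (c : T3Ctx M E E₃ P X H p) :
    Cfsg.sigmaCore M ⊓ Subgroup.centralizer (P : Set G) =
      Cfsg.sigmaCore M ⊓ Subgroup.centralizer (X : Set G) := by
  apply le_antisymm
  · exact inf_le_inf_left _ (Subgroup.centralizer_le (SetLike.coe_subset_coe.2 c.XP))
  · intro y hy
    refine ⟨hy.1, ?_⟩
    change y ∈ Subgroup.centralizer (P : Set G)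
    rw [Subgroup.mem_centralizer_iff]
    intro z hz
    exact (c.commute_of_mem_commutator (c.le_comm (c.PE₃ hz)) hy).symm

/-- **`S1427` inside `H`.**  If `r ∈ τ₁(H)`, `e ∈ E` is an `r`-element and the nontrivial element
`t ∈ ⟨e⟩` centralizes `P`, then `e` centralizes `P`. -/
theorem commute_of_mem_tau1H (c : T3Ctx M E E₃ P X H p) {r : ℕ} [hr : Fact r.Prime]
    (hrτH : r ∈ Cfsg.tau1 H) {e : G} (heE : e ∈ E) (her : IsPGroup r ↥(Subgroup.zpowers e))
    {t : G} (ht : t ∈ Subgroup.zpowers e) (ht1 : t ≠ 1) (htP : ∀ z ∈ P, t * z = z * t) :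
    ∀ z ∈ P, e * z = z * e := by
  have hG := c.min
  have hH := c.coatomH
  have heH : e ∈ H := c.EH heE
  have hrσH : r ∉ Cfsg.sigma H := hrτH.2.1
  have hZH : Subgroup.zpowers e ≤ H := Subgroup.zpowers_le.2 heH
  have hZσ : ∀ q : ℕ, q.Prime → q ∣ Nat.card ↥(Subgroup.zpowers e) → q ∉ Cfsg.sigma H := by
    intro q hq hqd
    obtain ⟨k, hk⟩ := IsPGroup.iff_card.mp her
    rw [hk] at hqd
    have : q = r := (Nat.prime_dvd_prime_iff_eq hq hr.out).1 (hq.dvd_of_dvd_pow hqd)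
    rw [this]; exact hrσH
  obtain ⟨EH, hEHc, hZEH⟩ := Cfsg.Agent.Helper4.BG10.exists_compl_sigmaCore_ge hG hH hZH hZσ
  have hesE : IsPGroup r ↥((Subgroup.zpowers e).subgroupOf EH) :=
    her.comap_of_injective EH.subtype EH.subtype_injective
  obtain ⟨S, hS⟩ := hesE.exists_le_sylow
  have heEH : e ∈ EH := hZEH (Subgroup.mem_zpowers e)
  have heS : e ∈ (S : Subgroup ↥EH).map EH.subtype := by
    refine ⟨⟨e, heEH⟩, hS ?_, rfl⟩
    rw [Subgroup.mem_subgroupOf]
    exact Subgroup.mem_zpowers e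
  have htS : t ∈ (S : Subgroup ↥EH).map EH.subtype := by
    obtain ⟨k, rfl⟩ := Subgroup.mem_zpowers_iff.1 ht
    exact Subgroup.zpow_mem _ heS k
  have hS1 : (S : Subgroup ↥EH) ≠ ⊥ := by
    intro h
    rw [h, Subgroup.map_bot, Subgroup.mem_bot] at htS
    exact ht1 htS
  have hSc : IsCyclic ↥(S : Subgroup ↥EH) := by
    have hc : IsCyclic ↥((S : Subgroup ↥EH).map EH.subtype) :=
      isCyclic_of_pRankLE_one hG.1 hrτH.2.2.2.2
        ((Subgroup.map_subtype_le _).trans hEHc.1) (S.2.map _)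
    have e' : ↥(S : Subgroup ↥EH) ≃* ↥((S : Subgroup ↥EH).map EH.subtype) :=
      (S : Subgroup ↥EH).equivMapOfInjective EH.subtype EH.subtype_injective
    haveI := hc
    exact isCyclic_of_surjective e'.symm e'.symm.surjective
  have h1427 := Cfsg.Agent.S1427.result hG H hH EH hEHc r S hS1 hSc t htS ht1
  intro z hz
  have hz1 : z ∈ Cfsg.sigmaCore H ⊓ Subgroup.centralizer ({t} : Set G) := by
    refine ⟨c.PσH hz, ?_⟩
    change z ∈ Subgroup.centralizer ({t} : Set G)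
    rw [Subgroup.mem_centralizer_singleton_iff]
    exact (htP z hz).symm
  rw [h1427] at hz1
  exact (Subgroup.mem_centralizer_iff.1 hz1.2 e heS)

/-- every prime divisor of `|E|` lies in `τ₁(M)` or `τ₃(M)` -/
theorem mem_tau1_or_tau3 (c : T3Ctx M E E₃ P X H p) {r : ℕ} (hr : r.Prime)
    (hrE : r ∣ Nat.card E) : r ∈ Cfsg.tau1 M ∨ r ∈ Cfsg.tau3 M := by
  have hrσ : r ∉ Cfsg.sigma M := not_mem_sigma_of_dvd_card_compl c.min c.coatom c.compl hr hrE
  have hrM : r ∣ Nat.card M := hrE.trans (Subgroup.card_dvd_of_le c.EM)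
  have h1 : Cfsg.PRankLE r 1 ↥M := by
    by_contra h1
    have h2 : Cfsg.PRankLE r 2 ↥M :=
      Cfsg.Agent.Helper1.BGX.pRankLE_of_not_mem_alpha hr
        (fun hα => hrσ (Cfsg.Agent.Helper1.BGX.alpha_subset_sigma c.min c.coatom hα))
    exact c.not_mem_tau2 ⟨hr, hrσ, h2, h1⟩
  by_cases hd : r ∣ Nat.card ↥⁅M, M⁆
  · exact Or.inr ⟨hr, hrσ, hd, h1⟩
  · exact Or.inl ⟨hr, hrσ, hrM, hd, h1⟩

/-- An element of `C_{M_σ}(X)` commuting with an element of prime order `t ∈ τ₁(M)` of `E`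
centralizes `E`. -/
theorem le_centralizer_of_commute (c : T3Ctx M E E₃ P X H p) {s₀ : G} (hs₀E : s₀ ∈ E)
    (hs₀ : (orderOf s₀).Prime) (hs₀τ : orderOf s₀ ∈ Cfsg.tau1 M) {z : G}
    (hz : z ∈ Cfsg.sigmaCore M ⊓ Subgroup.centralizer (X : Set G)) (hzs : s₀ * z = z * s₀) :
    E ≤ Subgroup.centralizer ({z} : Set G) := by
  have hG := c.min
  have hM := c.coatom
  have hE := c.compl
  -- a Hall `τ₁(M)`-subgroup containing `s₀`
  have hT : ∀ r : ℕ, r.Prime → r ∣ Nat.card ↥(Subgroup.zpowers s₀) → r ∈ Cfsg.tau1 M := by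
    intro r hr hrd
    rw [Nat.card_zpowers] at hrd
    have : r = orderOf s₀ := (Nat.prime_dvd_prime_iff_eq hr hs₀).1 hrd
    rw [this]; exact hs₀τ
  obtain ⟨E₁, hE₁, hTE₁⟩ := exists_hall_tau1_ge hG hM c.EM (Subgroup.zpowers_le.2 hs₀E) hT
  have hs₀E₁ : s₀ ∈ E₁ := hTE₁ (Subgroup.mem_zpowers s₀)
  apply Cfsg.Agent.Helper1.BGU.le_of_forall_sylow_le
  intro r hr hrE
  haveI : Fact r.Prime := ⟨hr⟩
  rcases c.mem_tau1_or_tau3 hr hrE with hτ1 | hτ3
  · -- a Sylow `r`-subgroup of `E₁`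
    obtain ⟨S, -, hSE₁, hSr, hScard⟩ :=
      Cfsg.Agent.Lead.exists_le_card_eq_ppart (p := r) (H := E₁) (U := ⊥) IsPGroup.of_bot bot_le
    have hfac : (Nat.card E₁).factorization r = (Nat.card E).factorization r :=
      factorization_eq_of_not_dvd_relIndex hE₁.1 hr (hE₁.2.2 r hr hτ1)
    refine ⟨S, hSE₁.trans hE₁.1, ?_, by rw [hScard, hfac]⟩
    intro e he
    rw [Subgroup.mem_centralizer_singleton_iff]
    exact Cfsg.Agent.Helper1.BGPart.commute_of_mem_hall_tau1 hG hM hE hE₁ hs₀E₁ hs₀ (hSE₁ he)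
      (hSr.to_le (Subgroup.zpowers_le.2 he)) hz.1 hzs
  · -- a Sylow `r`-subgroup of `E₃`
    obtain ⟨S, -, hSE₃, hSr, hScard⟩ :=
      Cfsg.Agent.Lead.exists_le_card_eq_ppart (p := r) (H := E₃) (U := ⊥) IsPGroup.of_bot bot_le
    have hfac : (Nat.card E₃).factorization r = (Nat.card E).factorization r :=
      factorization_eq_of_not_dvd_relIndex c.hall3.1 hr (c.hall3.2.2 r hr hτ3)
    refine ⟨S, hSE₃.trans c.hall3.1, ?_, by rw [hScard, hfac]⟩
    intro e he
    rw [Subgroup.mem_centralizer_singleton_iff]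
    exact (c.commute_of_mem_commutator (c.le_comm (hSE₃ he)) hz).symm

end T3Ctx

end Cfsg.Agent.Helper1.BG139
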