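import Mathlib
import Cfsg.Prelude
import Cfsg.Agent.Helper1.BG139c
import Cfsg.Agent.Helper1.SylowInt
import Cfsg.Agent.Helper4.BG13c
import Cfsg.Agent.Helper4.BG13d

set_option autoImplicit false
set_option linter.unusedSectionVars false
set_option linter.unusedVariables false
set_option maxHeartbeats 800000

/-!
# `tau13_nonregular`, part D: "Case I" — a subgroup `T ≤ E` of prime order `t ∈ τ₁(M)` centralizes
`X` (via BG 12.17(b) and the asymmetry lemma BG 13.6 (`tau1_asymmetry`)).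
-/

namespace Cfsg.Agent.Helper1.BG139

open Cfsg Cfsg.Agent.Helper1 Cfsg.Agent.Helper1.BGU Cfsg.Agent.Lead.BG12 Cfsg.Agent.Helper4.BG10
  Cfsg.Agent.Helper4.BG12 Cfsg.Agent.Helper1.BGT3reg
open scoped commutatorElement Pointwise

universe u

variable {G : Type u} [Group G] [Finite G]

namespace T3Ctx

variable {M E E₃ P X H : Subgroup G} {p : ℕ}

/-- an `E`-invariant Sylow `q`-subgroup of `M_σ` for `q ∉ β(M)` lies in `C_{M_σ}(X)`, is abelian,
and its elements centralizing `E` are trivial -/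
theorem sylow_nonbeta (c : T3Ctx M E E₃ P X H p) {q : ℕ} [hq : Fact q.Prime]
    (hqβ : q ∉ Cfsg.beta M) {Q : Subgroup G} (hQσ : Q ≤ Cfsg.sigmaCore M) (hQq : IsPGroup q ↥Q)
    (hQcard : Nat.card Q = q ^ (Nat.card (Cfsg.sigmaCore M)).factorization q)
    (hEQ : E ≤ Subgroup.normalizer (Q : Set G)) :
    Q ≤ Cfsg.sigmaCore M ⊓ Subgroup.centralizer (X : Set G) ∧
      ∀ z ∈ Q, E ≤ Subgroup.centralizer ({z} : Set G) → z = 1 := by
  have hG := c.min
  have hM := c.coatom
  have hE := c.compl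
  have hK := Cfsg.Agent.Helper4.BG13.commutator_compl_le_centralizer hG hM hE hqβ hQσ hQq hEQ
  have hQY : Q ≤ Cfsg.sigmaCore M ⊓ Subgroup.centralizer (X : Set G) := by
    intro z hz
    refine ⟨hQσ hz, ?_⟩
    change z ∈ Subgroup.centralizer (X : Set G)
    rw [Subgroup.mem_centralizer_iff]
    intro x hx
    exact ((Subgroup.mem_centralizer_iff.1 (hK (c.le_comm (c.XE₃ hx)))) z hz).symm
  refine ⟨hQY, ?_⟩
  intro z hz hzE
  by_cases hQ1 : Q = ⊥
  · rw [hQ1, Subgroup.mem_bot] at hz; exact hz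
  -- `Q` is abelian, as `Q ≤ M ∩ H`
  have hQM : Q ≤ M := hQσ.trans sigmaCore_le
  have hQH : Q ≤ H := fun z hz => c.CXH (hQY hz).2
  have hQab : ∀ a ∈ Q, ∀ b ∈ Q, a * b = b * a := by
    by_contra hna
    have hna' : ¬ IsMulCommutative ↥Q := by
      intro hc
      apply hna
      intro a ha b hb
      have := hc.is_comm.comm (⟨a, ha⟩ : ↥Q) ⟨b, hb⟩
      exact congrArg Subtype.val this
    have hU := Cfsg.Agent.S1422.result hG q Q hQq hna'
    exact c.HM (hU.unique ⟨c.coatomH, hQH⟩ ⟨hM, hQM⟩)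
  have hbot := inf_commutator_sigmaCore_eq_bot hG hM hqβ hQσ hQq hQcard hQab hQ1
  have h1426 := (Cfsg.Agent.S1426.result hG M hM E hE).1
  have hzc : z ∈ Cfsg.sigmaCore M ⊓ Subgroup.centralizer (E : Set G) := by
    refine ⟨hQσ hz, ?_⟩
    change z ∈ Subgroup.centralizer (E : Set G)
    rw [Subgroup.mem_centralizer_iff]
    intro e he
    exact Subgroup.mem_centralizer_singleton_iff.1 (hzE he)
  have : z ∈ Q ⊓ ⁅Cfsg.sigmaCore M, Cfsg.sigmaCore M⁆ := ⟨hz, h1426 hzc⟩
  rw [hbot, Subgroup.mem_bot] at this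
  exact this

/-- **Case I.**  A subgroup `T ≤ E` of prime order `t ∈ τ₁(M)` centralizes `X`. -/
theorem le_centralizer_of_tau1 (c : T3Ctx M E E₃ P X H p) {t : ℕ} [ht : Fact t.Prime]
    (htτ : t ∈ Cfsg.tau1 M) {T : Subgroup G} (hTE : T ≤ E) (hTcard : Nat.card T = t) :
    T ≤ Subgroup.centralizer (X : Set G) := by
  classical
  by_contra hTX
  have hG := c.min
  have hM := c.coatom
  have hE := c.compl
  have hH := c.coatomH
  haveI hp : Fact p.Prime := ⟨c.prime⟩
  have hTM : T ≤ M := hTE.trans c.EM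
  have hTH : T ≤ H := hTE.trans c.EH
  have hPM : P ≤ M := c.PE.trans c.EM
  have hPc : IsCyclic ↥P := isCyclic_of_pRankLE_one hG.1 c.p1 hPM c.Pp
  have hpt : p ≠ t := fun h => htτ.2.2.2.1 (h ▸ c.tau3.2.2.1)
  have hTN : T ≤ Subgroup.normalizer (P : Set G) := hTE.trans c.EP
  have hP1 : P ≠ ⊥ := fun h => c.X1 (le_bot_iff.1 (h ▸ c.XP))
  -- `T` acts fixed-point-freely on `P`
  have hfpf : P ⊓ Subgroup.centralizer (T : Set G) = ⊥ := by
    by_contra hcon
    have hd : Nat.card X ∣ Nat.card ↥(P ⊓ Subgroup.centralizer (T : Set G)) := by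
      rw [c.Xcard]
      exact Cfsg.Agent.Helper1.BGV.dvd_card_of_isPGroup_ne_bot (c.Pp.to_le inf_le_left) hcon
    have hle := Cfsg.Agent.Helper1.BGW.le_of_card_dvd_of_isCyclic hPc c.XP inf_le_left hd
    apply hTX
    intro s hs
    rw [Subgroup.mem_centralizer_iff]
    intro x hx
    have h3 : x ∈ Subgroup.centralizer (T : Set G) := (hle hx).2
    exact ((Subgroup.mem_centralizer_iff.1 h3) s hs).symm
  have hNP : Subgroup.normalizer (P : Set G) ≤ H :=
    (normalizer_le_normalizer_of_isCyclic hPc c.XP).trans c.NX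
  obtain ⟨hpα, hαβ, hα1, -, hαT, hαPT⟩ :=
    Cfsg.Agent.Helper4.BG13.cent_alphaCore_reg_tau1_sylow hG hM htτ hTM hTcard hpt hPM c.Pp hP1
      hTN hfpf c.Pcard hH c.HM hNP
  -- the group `Y = C_{M_σ}(X) = M_σ ∩ H` and a prime `q` dividing its order
  obtain ⟨Y, hYdef⟩ : ∃ Y : Subgroup G,
      Y = Cfsg.sigmaCore M ⊓ Subgroup.centralizer (X : Set G) := ⟨_, rfl⟩
  have hYH : Y = Cfsg.sigmaCore M ⊓ H := by rw [hYdef, c.inf_eq]
  have hY1 : Y ≠ ⊥ := hYdef ▸ c.nonreg
  have hYσ : Y ≤ Cfsg.sigmaCore M := hYdef ▸ inf_le_left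
  have hYM : Y ≤ M := hYσ.trans sigmaCore_le
  have hYH' : Y ≤ H := hYH ▸ inf_le_right
  have hYD : Y ≤ M ⊓ H := le_inf hYM hYH'
  have hYcard1 : Nat.card Y ≠ 1 := fun h => hY1 (Subgroup.card_eq_one.1 h)
  obtain ⟨q, hqP, hqY⟩ := Nat.exists_prime_and_dvd hYcard1
  haveI hq : Fact q.Prime := ⟨hqP⟩
  have hqσc : q ∣ Nat.card (Cfsg.sigmaCore M) := hqY.trans (Subgroup.card_dvd_of_le hYσ)
  have hqσ : q ∈ Cfsg.sigma M := mem_sigma_of_dvd_card_sigmaCore hqP hqσc
  have htσ : t ∉ Cfsg.sigma M := htτ.2.1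
  have hqt : q ≠ t := fun h => htσ (h ▸ hqσ)
  -- the key claim
  have key : ∃ Q : Subgroup G, Q ≤ Y ∧ IsPGroup q ↥Q ∧
      Nat.card Q = q ^ (Nat.card ↥(M ⊓ H)).factorization q ∧
      T ≤ Subgroup.normalizer (Q : Set G) ∧ Q ⊓ Subgroup.centralizer (T : Set G) = ⊥ ∧
      Subgroup.normalizer (Q : Set G) ≤ M ∧ Q ≠ ⊥ := by
    by_cases hqβ : q ∈ Cfsg.beta M
    · -- `q ∈ β(M)`: a `T`-invariant Sylow `q`-subgroup of `Y`
      have hTNY : T ≤ Subgroup.normalizer (Y : Set G) := by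
        intro s hs
        apply Subgroup.mem_normalizer_fintype
        intro y hy
        rw [hYH] at hy ⊢
        refine ⟨(Subgroup.mem_normalizer_iff.1 (le_normalizer_sigmaCore M (hTM hs)) y).1 hy.1, ?_⟩
        exact H.mul_mem (H.mul_mem (hTH hs) hy.2) (H.inv_mem (hTH hs))
      have hcop : (Nat.card T).Coprime (Nat.card Y) := by
        rw [hTcard]
        apply (Nat.Prime.coprime_iff_not_dvd ht.out).2
        intro h
        exact htσ (mem_sigma_of_dvd_card_sigmaCore ht.out (h.trans (Subgroup.card_dvd_of_le hYσ)))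
      haveI hsolvM : Group.IsSolvable ↥M := hG.2.2.2 M hM.1
      have hsolvY : Group.IsSolvable ↥Y :=
        Group.isSolvable_of_isSolvable_injective (Subgroup.inclusion_injective hYM)
      obtain ⟨S, -, hTS⟩ := Cfsg.Agent.Helper1.exists_invariant_sylow_ge (p := q) T Y hTNY hcop
        (Or.inr hsolvY) ⊥ bot_le IsPGroup.of_bot (by
          intro s _
          rw [Subgroup.mem_normalizer_iff]
          intro h
          simp [Subgroup.mem_bot])
      obtain ⟨Q, hQdef⟩ : ∃ Q : Subgroup G, Q = (S : Subgroup ↥Y).map Y.subtype := ⟨_, rfl⟩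
      have hQY : Q ≤ Y := hQdef ▸ Subgroup.map_subtype_le _
      have hQq : IsPGroup q ↥Q := hQdef ▸ S.2.map _
      have hQcardY : Nat.card Q = q ^ (Nat.card Y).factorization q := by
        rw [hQdef]; exact Cfsg.Agent.Helper1.BGPart.card_sylow_map S
      -- `Q` is a Sylow `q`-subgroup of `M ∩ H`
      obtain ⟨Q', hQQ', hQ'D, hQ'q, hQ'card⟩ :=
        Cfsg.Agent.Lead.exists_le_card_eq_ppart hQq (hQY.trans hYD)
      have hQ'Y : Q' ≤ Y := by
        rw [hYH]
        exact le_inf (le_sigmaCore' hG hM hqσ (hQ'D.trans inf_le_left) hQ'q)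
          (hQ'D.trans inf_le_right)
      have hd := Cfsg.Agent.Lead.card_dvd_ppart_of_isPGroup hQ'q hQ'Y
      rw [← hQcardY] at hd
      have hQeq : Q = Q' :=
        Subgroup.eq_of_le_of_card_ge hQQ' (Nat.le_of_dvd Nat.card_pos hd)
      have hQcard : Nat.card Q = q ^ (Nat.card ↥(M ⊓ H)).factorization q := by
        rw [hQeq]; exact hQ'card
      have hfpos : 0 < (Nat.card Y).factorization q :=
        hqP.factorization_pos_of_dvd Nat.card_pos.ne' hqY
      have hQ1 : Q ≠ ⊥ := by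
        intro h
        rw [h, Subgroup.card_bot] at hQcardY
        have : 1 < q ^ (Nat.card Y).factorization q := Nat.one_lt_pow hfpos.ne' hqP.one_lt
        omega
      have hQM : Q ≤ M := hQY.trans hYM
      have hQα : Q ≤ Cfsg.alphaCore M :=
        Cfsg.Agent.Helper3.BG134.le_alphaCore' hG hM hqβ.1 hQM hQq
      have hQP : Q ≤ Subgroup.centralizer (P : Set G) := by
        intro z hz
        have h1 : z ∈ Cfsg.sigmaCore M ⊓ Subgroup.centralizer (X : Set G) := hYdef ▸ hQY hz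
        rw [← c.cent_P_eq] at h1
        exact h1.2
      refine ⟨Q, hQY, hQq, hQcard, hQdef ▸ hTS, ?_, ?_, hQ1⟩
      · rw [eq_bot_iff, ← hαPT]
        intro z hz
        exact ⟨hQα hz.1, Cfsg.Agent.Helper4.BG13.mem_centralizer_sup (hQP hz.1) hz.2⟩
      · apply normalizer_le_of_beta_subgroup hG hM hQM hQ1
        intro r hr hrd
        obtain ⟨k, hk⟩ := IsPGroup.iff_card.mp hQq
        rw [hk] at hrd
        have : r = q := (Nat.prime_dvd_prime_iff_eq hr hqP).1 (hr.dvd_of_dvd_pow hrd)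
        rw [this]; exact hqβ
    · -- `q ∉ β(M)`: an `E`-invariant Sylow `q`-subgroup of `M_σ`
      have hENσ : E ≤ Subgroup.normalizer ((Cfsg.sigmaCore M : Subgroup G) : Set G) :=
        c.EM.trans (le_normalizer_sigmaCore M)
      haveI hsolvM : Group.IsSolvable ↥M := hG.2.2.2 M hM.1
      have hsolvσ : Group.IsSolvable ↥(Cfsg.sigmaCore M) :=
        Group.isSolvable_of_isSolvable_injective (Subgroup.inclusion_injective sigmaCore_le)
      obtain ⟨S, -, hES⟩ := Cfsg.Agent.Helper1.exists_invariant_sylow_ge (p := q) E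
        (Cfsg.sigmaCore M) hENσ (coprime_card_sigmaCore_compl hG hM hE).symm
        (Or.inr hsolvσ) ⊥ bot_le IsPGroup.of_bot (by
          intro s _
          rw [Subgroup.mem_normalizer_iff]
          intro h
          simp [Subgroup.mem_bot])
      obtain ⟨Q, hQdef⟩ : ∃ Q : Subgroup G,
          Q = (S : Subgroup ↥(Cfsg.sigmaCore M)).map (Cfsg.sigmaCore M).subtype := ⟨_, rfl⟩
      have hQσ : Q ≤ Cfsg.sigmaCore M := hQdef ▸ Subgroup.map_subtype_le _
      have hQq : IsPGroup q ↥Q := hQdef ▸ S.2.map _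
      have hQcardσ : Nat.card Q = q ^ (Nat.card (Cfsg.sigmaCore M)).factorization q := by
        rw [hQdef]; exact Cfsg.Agent.Helper1.BGPart.card_sylow_map S
      have hEQ : E ≤ Subgroup.normalizer (Q : Set G) := hQdef ▸ hES
      obtain ⟨hQY', hQfix⟩ := c.sylow_nonbeta hqβ hQσ hQq hQcardσ hEQ
      have hQY : Q ≤ Y := hYdef ▸ hQY'
      have hQM : Q ≤ M := hQσ.trans sigmaCore_le
      have hfacσ : (Nat.card (Cfsg.sigmaCore M)).factorization q =
          (Nat.card M).factorization q :=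
        factorization_eq_of_not_dvd_relIndex sigmaCore_le hqP
          ((sigmaCore_hall hG M hM).1.2.2 q hqP hqσ)
      have hQcardM : Nat.card Q = q ^ (Nat.card M).factorization q := by
        rw [hQcardσ, hfacσ]
      have hQcard : Nat.card Q = q ^ (Nat.card ↥(M ⊓ H)).factorization q :=
        Cfsg.Agent.Lead.card_eq_ppart_of_le (hQY.trans hYD) inf_le_left hQq hQcardM
      have hfpos : 0 < (Nat.card (Cfsg.sigmaCore M)).factorization q :=
        hqP.factorization_pos_of_dvd Nat.card_pos.ne' hqσc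
      have hQ1 : Q ≠ ⊥ := by
        intro h
        rw [h, Subgroup.card_bot] at hQcardσ
        have : 1 < q ^ (Nat.card (Cfsg.sigmaCore M)).factorization q :=
          Nat.one_lt_pow hfpos.ne' hqP.one_lt
        omega
      refine ⟨Q, hQY, hQq, hQcard, hTE.trans hEQ, ?_,
        normalizer_le_of_sylow_of_mem_sigma hG hM hqσ hQM hQq hQcardM, hQ1⟩
      rw [eq_bot_iff]
      intro z hz
      rw [Subgroup.mem_bot]
      apply hQfix z hz.1
      -- `z` commutes with a generator of `T`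
      have htT : t ∣ Nat.card T := by rw [hTcard]
      obtain ⟨s₀, hs₀⟩ := exists_prime_orderOf_dvd_card' t htT
      have hs₀' : orderOf (s₀ : G) = t := by rw [Subgroup.orderOf_coe]; exact hs₀
      have hzs : (s₀ : G) * z = z * (s₀ : G) :=
        (Subgroup.mem_centralizer_iff.1 hz.2) (s₀ : G) s₀.2
      exact c.le_centralizer_of_commute (hTE s₀.2) (hs₀'.symm ▸ ht.out) (hs₀'.symm ▸ htτ)
        (hYdef ▸ hQY hz.1) hzs
  obtain ⟨Q, hQY, hQq, hQcard, hTNQ, hQfpf, hNQ, hQ1⟩ := key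
  -- `t ∈ τ₁(H)`
  have htτH : t ∈ Cfsg.tau1 H := by
    by_contra hcon
    obtain ⟨z, hz, hz1⟩ : ∃ z ∈ Q, z ≠ 1 := by
      by_contra hcon'
      push Not at hcon'
      apply hQ1
      rw [eq_bot_iff]
      intro z hz
      rw [Subgroup.mem_bot]
      exact hcon' z hz
    have : z ∈ Q ⊓ Subgroup.centralizer (T : Set G) := by
      refine ⟨hz, ?_⟩
      change z ∈ Subgroup.centralizer (T : Set G)
      rw [Subgroup.mem_centralizer_iff]
      intro s hs
      have hst : IsPGroup t ↥(Subgroup.zpowers s) :=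
        (IsPGroup.of_card (n := 1) (by rw [hTcard, pow_one]) : IsPGroup t ↥T).to_le
          (Subgroup.zpowers_le.2 hs)
      exact (c.commute_of_not_mem_tau1 (hTE hs) hst hcon (hYdef ▸ hQY hz)).symm
    rw [hQfpf, Subgroup.mem_bot] at this
    exact hz1 this
  -- the asymmetry lemma
  have hnc' : ∀ g : G, H ≠ MulAut.conj g • M := by
    intro g hg
    apply c.nc g⁻¹
    rw [hg, Cfsg.Agent.Helper1.BGT.conj_smul_smul, inv_mul_cancel, map_one, one_smul]
  have hPD : P ≤ M ⊓ H := le_inf hPM (c.PE.trans c.EH)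
  have hPcardD : Nat.card P = p ^ (Nat.card ↥(M ⊓ H)).factorization p :=
    Cfsg.Agent.Lead.card_eq_ppart_of_le hPD inf_le_left c.Pp c.Pcard
  exact Cfsg.Agent.Helper4.BG13.tau1_asymmetry hG hM hH hnc' htτ htτH (le_inf hTM hTH) hTcard
    hpt hPD c.Pp hPcardD hTN hfpf hNP hqt (hQY.trans hYD) hQq hQcard hTNQ hQfpf hNQ

end T3Ctx

end Cfsg.Agent.Helper1.BG139
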