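import Mathlib
import Cfsg.Prelude
import Cfsg.Agent.Helper1.BG139d
import Cfsg.Agent.S1428

set_option autoImplicit false
set_option linter.unusedSectionVars false
set_option linter.unusedVariables false
set_option maxHeartbeats 800000

/-!
# `tau13_nonregular` (Bender–Glauberman 13.9-type statement): if a subgroup of order `p ∈ τ₃(M)` of
a complement `E` of `M_σ` is not regular on `M_σ`, then `τ₂(M) = ∅`, `E` acts in a prime manner on
`M_σ`, every subgroup of prime order of `E` is normal in `E`, `σ(M) = β(M)` and `E` is not cyclic.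
-/

namespace Cfsg.Agent.Helper1.BG139

open Cfsg Cfsg.Agent.Helper1 Cfsg.Agent.Helper1.BGU Cfsg.Agent.Lead.BG12 Cfsg.Agent.Helper4.BG10
  Cfsg.Agent.Helper4.BG12 Cfsg.Agent.Helper1.BGT3reg
open scoped commutatorElement Pointwise

universe u

variable {G : Type u} [Group G] [Finite G]

namespace T3Ctx

variable {M E E₃ P X H : Subgroup G} {p : ℕ}

/-- the element of order `r` of `⟨e⟩` for a nontrivial `r`-element `e` -/
theorem exists_prime_order_pow {r : ℕ} [hr : Fact r.Prime] {e : G}
    (her : IsPGroup r ↥(Subgroup.zpowers e)) (he1 : e ≠ 1) :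
    ∃ t ∈ Subgroup.zpowers e, orderOf t = r := by
  obtain ⟨k, hk⟩ := IsPGroup.iff_card.mp her
  rw [Nat.card_zpowers] at hk
  have hk0 : k ≠ 0 := by
    rintro rfl
    rw [pow_zero, orderOf_eq_one_iff] at hk
    exact he1 hk
  refine ⟨e ^ r ^ (k - 1), Subgroup.pow_mem _ (Subgroup.mem_zpowers e) _, ?_⟩
  have hdvd : r ^ (k - 1) ∣ orderOf e := by
    rw [hk]; exact pow_dvd_pow r (Nat.sub_le k 1)
  rw [orderOf_pow_of_dvd (pow_ne_zero _ hr.out.ne_zero) hdvd, hk]
  have : r ^ k = r ^ (k - 1) * r := by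
    rw [← pow_succ]; congr 1; omega
  rw [this, Nat.mul_div_cancel_left _ (pow_pos hr.out.pos _)]

/-- a subgroup of prime order `r ∈ τ₃(M)` of `E` lies in `E₃` -/
theorem le_hall3 (c : T3Ctx M E E₃ P X H p) {Z : Subgroup G} (hZE : Z ≤ E)
    (hZ : ∀ r : ℕ, r.Prime → r ∣ Nat.card Z → r ∈ Cfsg.tau3 M) : Z ≤ E₃ :=
  Cfsg.Agent.Helper4.BG13.le_of_isPi_of_hall c.norm3 c.hall3.2.2 hZE hZ

/-- `P` is abelian -/
theorem P_comm (c : T3Ctx M E E₃ P X H p) : ∀ a ∈ P, ∀ b ∈ P, a * b = b * a :=
  fun a ha b hb => Cfsg.Agent.Helper1.BGPart.commute_of_isCyclic c.cyc3 (c.PE₃ ha) (c.PE₃ hb)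

theorem PcardE (c : T3Ctx M E E₃ P X H p) : Nat.card P = p ^ (Nat.card E).factorization p := by
  rw [c.Pcard, factorization_compl_eq c.compl c.prime c.pσ]

/-- An element `t ∈ E` of prime order `r ∈ τ₁(M)` centralizes `P`. -/
theorem commute_P_of_tau1 (c : T3Ctx M E E₃ P X H p) {r : ℕ} [hr : Fact r.Prime]
    (hrτ : r ∈ Cfsg.tau1 M) {t : G} (htE : t ∈ E) (hto : orderOf t = r) :
    ∀ z ∈ P, t * z = z * t := by
  haveI hp : Fact p.Prime := ⟨c.prime⟩
  have hTle := c.le_centralizer_of_tau1 hrτ (Subgroup.zpowers_le.2 htE)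
    (by rw [Nat.card_zpowers, hto])
  have hrp : r ≠ p := fun h => hrτ.2.2.2.1 (h ▸ c.tau3.2.2.1)
  have hPc : IsCyclic ↥P := isCyclic_of_pRankLE_one c.min.1 c.p1 (c.PE.trans c.EM) c.Pp
  have hts : t ^ r = 1 := by rw [← hto]; exact pow_orderOf_eq_one t
  apply commute_of_commute_omega ((Nat.coprime_primes hr.out hp.out).2 hrp) c.Pp c.P_comm
    (c.EP htE) hts
  intro z hz hzp
  haveI := hPc
  have hXsub : X.subgroupOf P ≠ ⊥ := by
    intro h
    apply c.X1
    rw [eq_bot_iff]
    intro x hx
    have : (⟨x, c.XP hx⟩ : ↥P) ∈ X.subgroupOf P := by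
      rw [Subgroup.mem_subgroupOf]; exact hx
    rw [h, Subgroup.mem_bot] at this
    rw [Subgroup.mem_bot]
    exact congrArg Subtype.val this
  have hzp' : (⟨z, hz⟩ : ↥P) ^ p = 1 := Subtype.ext (by simpa using hzp)
  have hzX := Cfsg.Agent.Helper4.BG13.mem_of_pow_eq_one_of_isCyclic c.Pp hXsub hzp'
  rw [Subgroup.mem_subgroupOf] at hzX
  have := (Subgroup.mem_centralizer_iff.1 (hTle (Subgroup.mem_zpowers t))) z hzX
  exact this.symm

/-- `C_{M_σ}(X) = C_{M_σ}(E)`. -/
theorem cent_X_eq_cent_E (c : T3Ctx M E E₃ P X H p) :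
    Cfsg.sigmaCore M ⊓ Subgroup.centralizer (X : Set G) =
      Cfsg.sigmaCore M ⊓ Subgroup.centralizer (E : Set G) := by
  classical
  haveI hp : Fact p.Prime := ⟨c.prime⟩
  apply le_antisymm _ (inf_le_inf_left _ (Subgroup.centralizer_le (SetLike.coe_subset_coe.2 c.XE)))
  -- an active prime
  have hP1 : P ≠ ⊥ := fun h => c.X1 (le_bot_iff.1 (h ▸ c.XP))
  have hnc : ¬ E ≤ Subgroup.centralizer (P : Set G) :=
    not_le_centralizer_of_le_commutator c.PE c.PcardE hP1 (c.PE₃.trans c.le_comm)
  obtain ⟨r, hrP, hrE, S, hSE, hSr, hScard, hSnc⟩ := exists_sylow_not_le_centralizer hnc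
  haveI hr : Fact r.Prime := ⟨hrP⟩
  obtain ⟨e, heS, hec⟩ : ∃ e ∈ S, e ∉ Subgroup.centralizer (P : Set G) := by
    by_contra hcon
    push Not at hcon
    exact hSnc hcon
  have hne : ¬ ∀ z ∈ P, e * z = z * e := by
    intro h
    apply hec
    rw [Subgroup.mem_centralizer_iff]
    intro z hz
    exact (h z hz).symm
  have heE : e ∈ E := hSE heS
  have her : IsPGroup r ↥(Subgroup.zpowers e) := hSr.to_le (Subgroup.zpowers_le.2 heS)
  have he1 : e ≠ 1 := by
    rintro rfl
    apply hne
    intro z _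
    rw [one_mul, mul_one]
  have hrτ3 : r ∉ Cfsg.tau3 M := by
    intro h3
    have hle : Subgroup.zpowers e ≤ E₃ := by
      apply c.le_hall3 (Subgroup.zpowers_le.2 heE)
      intro q hq hqd
      obtain ⟨k, hk⟩ := IsPGroup.iff_card.mp her
      rw [hk] at hqd
      have : q = r := (Nat.prime_dvd_prime_iff_eq hq hrP).1 (hq.dvd_of_dvd_pow hqd)
      rw [this]; exact h3
    apply hne
    intro z hz
    exact Cfsg.Agent.Helper1.BGPart.commute_of_isCyclic c.cyc3 (hle (Subgroup.mem_zpowers e))
      (c.PE₃ hz)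
  have hrτ : r ∈ Cfsg.tau1 M := (c.mem_tau1_or_tau3 hrP hrE).resolve_right hrτ3
  obtain ⟨t, ht, hto⟩ := exists_prime_order_pow her he1
  have htE : t ∈ E := (Subgroup.zpowers_le.2 heE) ht
  have ht1 : t ≠ 1 := by
    intro h
    rw [h, orderOf_one] at hto
    exact hrP.one_lt.ne hto
  have htP := c.commute_P_of_tau1 hrτ htE hto
  have hrτH : r ∉ Cfsg.tau1 H := fun h => hne (c.commute_of_mem_tau1H h heE her ht ht1 htP)
  have htr : IsPGroup r ↥(Subgroup.zpowers t) := her.to_le (Subgroup.zpowers_le.2 ht)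
  intro y hy
  refine ⟨hy.1, ?_⟩
  change y ∈ Subgroup.centralizer (E : Set G)
  have hyt : y * t = t * y := c.commute_of_not_mem_tau1 htE htr hrτH hy
  have hle := c.le_centralizer_of_commute htE (hto.symm ▸ hrP) (hto.symm ▸ hrτ) hy hyt.symm
  rw [Subgroup.mem_centralizer_iff]
  intro e' he'
  exact Subgroup.mem_centralizer_singleton_iff.1 (hle he')

end T3Ctx

/-- **`tau13_nonregular`.** -/
theorem tau13_nonregular (hG : Cfsg.IsMinSimpleOddOrder G) {M : Subgroup G} (hM : IsCoatom M)
    {E : Subgroup G} (hE : Cfsg.IsComplIn E (Cfsg.sigmaCore M) M) {p : ℕ} [hp : Fact p.Prime]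
    (hpτ : p ∈ Cfsg.tau3 M) {X : Subgroup G} (hXE : X ≤ E) (hX : Nat.card X = p)
    (hY : Cfsg.sigmaCore M ⊓ Subgroup.centralizer (X : Set G) ≠ ⊥) :
    Cfsg.tau2 M = ∅ ∧
      (∀ e ∈ E, e ≠ 1 → Cfsg.sigmaCore M ⊓ Subgroup.centralizer ({e} : Set G) =
        Cfsg.sigmaCore M ⊓ Subgroup.centralizer (E : Set G)) ∧
      Cfsg.sigmaCore M ⊓ Subgroup.centralizer (E : Set G) ≠ ⊥ ∧
      (∀ X' : Subgroup G, X' ≤ E → (Nat.card X').Prime →
        E ≤ Subgroup.normalizer (X' : Set G)) ∧
      (∀ q : ℕ, q.Prime → q ∣ Nat.card (Cfsg.sigmaCore M) → q ∈ Cfsg.beta M) ∧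
      ¬ IsCyclic ↥E := by
  classical
  obtain ⟨E₃, P, H, c⟩ := exists_ctx hG hM hE hp.out hpτ hXE hX hY
  have hYE := c.cent_X_eq_cent_E
  refine ⟨?_, ?_, hYE ▸ hY, ?_, ?_, ?_⟩
  · -- `τ₂(M) = ∅`
    rw [Set.eq_empty_iff_forall_notMem]
    intro s hs
    exact c.not_mem_tau2 hs
  · -- prime action
    intro e heE he1
    apply le_antisymm
    · have hord : orderOf e ≠ 1 := fun h => he1 (orderOf_eq_one_iff.1 h)
      obtain ⟨r, hr, hrd⟩ := Nat.exists_prime_and_dvd hord
      haveI : Fact r.Prime := ⟨hr⟩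
      obtain ⟨e', he'def⟩ : ∃ e' : G, e' = e ^ (orderOf e / r) := ⟨_, rfl⟩
      have he'o : orderOf e' = r := by
        rw [he'def]; exact orderOf_pow_orderOf_div (orderOf_pos e).ne' hrd
      have he'E : e' ∈ E := he'def ▸ E.pow_mem heE _
      have he'1 : e' ≠ 1 := by
        intro h
        rw [h, orderOf_one] at he'o
        exact hr.one_lt.ne he'o
      have hcc : Subgroup.centralizer ({e} : Set G) ≤ Subgroup.centralizer ({e'} : Set G) := by
        intro y hy
        rw [Subgroup.mem_centralizer_singleton_iff] at hy ⊢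
        have : Commute y e := hy
        rw [he'def]
        exact (this.pow_right _).eq
      refine (inf_le_inf_left _ hcc).trans ?_
      have hrE : r ∣ Nat.card E := by
        rw [← he'o]
        have := orderOf_dvd_natCard (⟨e', he'E⟩ : ↥E)
        rwa [Subgroup.orderOf_mk] at this
      have hZcard : Nat.card ↥(Subgroup.zpowers e') = r := by rw [Nat.card_zpowers, he'o]
      rcases c.mem_tau1_or_tau3 hr hrE with hτ1 | hτ3
      · have hTle := c.le_centralizer_of_tau1 hτ1 (Subgroup.zpowers_le.2 he'E) hZcard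
        have h1428 := Cfsg.Agent.S1428.result hG M hM E hE r hτ1 (Subgroup.zpowers e')
          (Subgroup.zpowers_le.2 he'E) hZcard X
          (le_inf c.XE (Subgroup.le_centralizer_iff.1 hTle)) (by rw [c.Xcard]; exact c.prime)
        rw [Cfsg.Agent.Helper1.BGX.centralizer_zpowers_eq] at h1428
        exact h1428.trans hYE.le
      · have he'E₃ : e' ∈ E₃ := by
          have hle : Subgroup.zpowers e' ≤ E₃ := by
            apply c.le_hall3 (Subgroup.zpowers_le.2 he'E)
            intro q hq hqd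
            rw [hZcard] at hqd
            have : q = r := (Nat.prime_dvd_prime_iff_eq hq hr).1 hqd
            rw [this]; exact hτ3
          exact hle (Subgroup.mem_zpowers e')
        rw [c.cent_singleton_eq he'E₃ he'1]
        exact hYE.le
    · apply inf_le_inf_left
      apply Subgroup.centralizer_le
      intro x hx
      rw [Set.mem_singleton_iff] at hx
      rw [hx]; exact heE
  · -- subgroups of prime order are normal
    intro X' hX'E hX'card
    obtain ⟨r, hrdef⟩ : ∃ r : ℕ, r = Nat.card X' := ⟨_, rfl⟩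
    have hr : r.Prime := hrdef ▸ hX'card
    haveI : Fact r.Prime := ⟨hr⟩
    have hrE : r ∣ Nat.card E := hrdef ▸ Subgroup.card_dvd_of_le hX'E
    have hX'r : ∀ q : ℕ, q.Prime → q ∣ Nat.card X' → q = r := by
      intro q hq hqd
      rw [← hrdef] at hqd
      exact (Nat.prime_dvd_prime_iff_eq hq hr).1 hqd
    rcases c.mem_tau1_or_tau3 hr hrE with hτ1 | hτ3
    · -- `X'` is central in `E`
      refine (Subgroup.le_centralizer_iff.1 ?_).trans (Subgroup.centralizer_le_normalizer _)
      -- `X' ≤ C(E)`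
      obtain ⟨E₁, hE₁, hX'E₁⟩ := exists_hall_tau1_ge hG hM c.EM hX'E
        (fun q hq hqd => (hX'r q hq hqd).symm ▸ hτ1)
      have hE₁c : IsCyclic ↥E₁ := (Cfsg.Agent.S1415.result hG M hM E hE).2.1 E₁ hE₁
      intro x hx
      change x ∈ Subgroup.centralizer (E : Set G)
      have hxE : x ∈ E := hX'E hx
      have hxo : orderOf x ∣ r := by
        have := orderOf_dvd_natCard (⟨x, hx⟩ : ↥X')
        rwa [Subgroup.orderOf_mk, ← hrdef] at this
      by_cases hx1 : x = 1
      · rw [hx1]; exact Subgroup.one_mem _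
      have hxo' : orderOf x = r := by
        rcases (Nat.dvd_prime hr).1 hxo with h | h
        · exact absurd (orderOf_eq_one_iff.1 h) hx1
        · exact h
      have hle : E ≤ Subgroup.centralizer ({x} : Set G) := by
        apply Cfsg.Agent.Helper1.BGU.le_of_forall_sylow_le
        intro q hq hqE
        haveI : Fact q.Prime := ⟨hq⟩
        rcases c.mem_tau1_or_tau3 hq hqE with hq1 | hq3
        · obtain ⟨S, -, hSE₁, hSq, hScard⟩ :=
            Cfsg.Agent.Lead.exists_le_card_eq_ppart (p := q) (H := E₁) (U := ⊥) IsPGroup.of_bot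
              bot_le
          have hfac : (Nat.card E₁).factorization q = (Nat.card E).factorization q :=
            factorization_eq_of_not_dvd_relIndex hE₁.1 hq (hE₁.2.2 q hq hq1)
          refine ⟨S, hSE₁.trans hE₁.1, ?_, by rw [hScard, hfac]⟩
          intro s hs
          rw [Subgroup.mem_centralizer_singleton_iff]
          exact Cfsg.Agent.Helper1.BGPart.commute_of_isCyclic hE₁c (hSE₁ hs) (hX'E₁ hx)
        · obtain ⟨S, -, hSE₃, hSq, hScard⟩ :=
            Cfsg.Agent.Lead.exists_le_card_eq_ppart (p := q) (H := E₃) (U := ⊥) IsPGroup.of_bot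
              bot_le
          have hfac : (Nat.card E₃).factorization q = (Nat.card E).factorization q :=
            factorization_eq_of_not_dvd_relIndex c.hall3.1 hq (c.hall3.2.2 q hq hq3)
          have hfacM : (Nat.card E).factorization q = (Nat.card M).factorization q :=
            factorization_compl_eq hE hq hq3.2.1
          refine ⟨S, hSE₃.trans c.hall3.1, ?_, by rw [hScard, hfac]⟩
          -- a context for the subgroup of order `q` of `S`
          have hfpos : 0 < (Nat.card E).factorization q :=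
            hq.factorization_pos_of_dvd Nat.card_pos.ne' hqE
          have hqS : q ∣ Nat.card S := by
            rw [hScard, hfac]; exact dvd_pow_self q hfpos.ne'
          obtain ⟨x₀, hx₀⟩ := exists_prime_orderOf_dvd_card' q hqS
          have hx₀' : orderOf (x₀ : G) = q := by rw [Subgroup.orderOf_coe]; exact hx₀
          have hX''E₃ : Subgroup.zpowers (x₀ : G) ≤ E₃ := Subgroup.zpowers_le.2 (hSE₃ x₀.2)
          have hX''card : Nat.card ↥(Subgroup.zpowers (x₀ : G)) = q := by
            rw [Nat.card_zpowers, hx₀']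
          have hY'' : Cfsg.sigmaCore M ⊓
              Subgroup.centralizer ((Subgroup.zpowers (x₀ : G) : Subgroup G) : Set G) ≠ ⊥ := by
            rw [c.cent_eq_of_le_hall3 hX''E₃ (by rw [hX''card]; exact hq)]
            exact hY
          obtain ⟨E₃'', P'', H'', c''⟩ := exists_ctx hG hM hE hq hq3
            (hX''E₃.trans c.hall3.1) hX''card hY''
          -- `S = P''` up to equality of Sylow subgroups of the cyclic group; we only need that
          -- `x` centralizes `S`, by Fact A'
          have hSM : S ≤ M := (hSE₃.trans c.hall3.1).trans c.EM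
          have hSc : IsCyclic ↥S := isCyclic_of_pRankLE_one hG.1 hq3.2.2.2 hSM hSq
          have hSab : ∀ a ∈ S, ∀ b ∈ S, a * b = b * a := fun a ha b hb =>
            Cfsg.Agent.Helper1.BGPart.commute_of_isCyclic c.cyc3 (hSE₃ ha) (hSE₃ hb)
          have hES : E ≤ Subgroup.normalizer (S : Set G) :=
            c.norm3.trans (normalizer_le_normalizer_of_le_isCyclic c.cyc3 hSE₃)
          have hTle := c''.le_centralizer_of_tau1 hτ1 (Subgroup.zpowers_le.2 hxE)
            (by rw [Nat.card_zpowers, hxo'])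
          have hrq : r ≠ q := fun h => hτ1.2.2.2.1 (h ▸ hq3.2.2.1)
          have hxs : x ^ r = 1 := by rw [← hxo']; exact pow_orderOf_eq_one x
          have hcomm := commute_of_commute_omega ((Nat.coprime_primes hr hq).2 hrq) hSq hSab
            (hES hxE) hxs (by
              intro z hz hzq
              haveI := hSc
              have hsub : (Subgroup.zpowers (x₀ : G)).subgroupOf S ≠ ⊥ := by
                intro h
                have : (⟨(x₀ : G), x₀.2⟩ : ↥S) ∈ (Subgroup.zpowers (x₀ : G)).subgroupOf S := by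
                  rw [Subgroup.mem_subgroupOf]; exact Subgroup.mem_zpowers _
                rw [h, Subgroup.mem_bot] at this
                have h2 : (x₀ : G) = 1 := congrArg Subtype.val this
                rw [h2, orderOf_one] at hx₀'
                exact hq.one_lt.ne hx₀'
              have hzq' : (⟨z, hz⟩ : ↥S) ^ q = 1 := Subtype.ext (by simpa using hzq)
              have hzX := Cfsg.Agent.Helper4.BG13.mem_of_pow_eq_one_of_isCyclic hSq hsub hzq'
              rw [Subgroup.mem_subgroupOf] at hzX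
              have := (Subgroup.mem_centralizer_iff.1 (hTle (Subgroup.mem_zpowers x))) z hzX
              exact this.symm)
          intro s hs
          rw [Subgroup.mem_centralizer_singleton_iff]
          exact (hcomm s hs).symm
      rw [Subgroup.mem_centralizer_iff]
      intro e' he'
      exact Subgroup.mem_centralizer_singleton_iff.1 (hle he')
    · have hX'E₃ : X' ≤ E₃ := c.le_hall3 hX'E (fun q hq hqd => (hX'r q hq hqd).symm ▸ hτ3)
      exact c.norm3.trans (normalizer_le_normalizer_of_le_isCyclic c.cyc3 hX'E₃)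
  · -- `σ(M) = β(M)`
    intro q hqP hqσc
    haveI hq : Fact q.Prime := ⟨hqP⟩
    by_contra hqβ
    have hENσ : E ≤ Subgroup.normalizer ((Cfsg.sigmaCore M : Subgroup G) : Set G) :=
      c.EM.trans (le_normalizer_sigmaCore M)
    haveI hsolvM : Group.IsSolvable ↥M := hG.2.2.2 M hM.1
    have hsolvσ : Group.IsSolvable ↥(Cfsg.sigmaCore M) :=
      Group.isSolvable_of_isSolvable_injective (Subgroup.inclusion_injective sigmaCore_le)
    obtain ⟨S, -, hES⟩ := Cfsg.Agent.Helper1.exists_invariant_sylow_ge (p := q) E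
      (Cfsg.sigmaCore M) hENσ (coprime_card_sigmaCore_compl hG hM hE).symm
      (Or.inr hsolvσ) ⊥ bot_le IsPGroup.of_bot (by
        intro s _
        rw [Subgroup.mem_normalizer_iff]
        intro h
        simp [Subgroup.mem_bot])
    obtain ⟨Q, hQdef⟩ : ∃ Q : Subgroup G,
        Q = (S : Subgroup ↥(Cfsg.sigmaCore M)).map (Cfsg.sigmaCore M).subtype := ⟨_, rfl⟩
    have hQσ : Q ≤ Cfsg.sigmaCore M := hQdef ▸ Subgroup.map_subtype_le _
    have hQq : IsPGroup q ↥Q := hQdef ▸ S.2.map _
    have hQcardσ : Nat.card Q = q ^ (Nat.card (Cfsg.sigmaCore M)).factorization q := by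
      rw [hQdef]; exact Cfsg.Agent.Helper1.BGPart.card_sylow_map S
    have hEQ : E ≤ Subgroup.normalizer (Q : Set G) := hQdef ▸ hES
    obtain ⟨hQY, hQfix⟩ := c.sylow_nonbeta hqβ hQσ hQq hQcardσ hEQ
    have hQbot : Q = ⊥ := by
      rw [eq_bot_iff]
      intro z hz
      rw [Subgroup.mem_bot]
      apply hQfix z hz
      have hzY := hQY hz
      rw [hYE] at hzY
      intro e he
      rw [Subgroup.mem_centralizer_singleton_iff]
      exact (Subgroup.mem_centralizer_iff.1 hzY.2) e he
    have hfpos : 0 < (Nat.card (Cfsg.sigmaCore M)).factorization q :=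
      hqP.factorization_pos_of_dvd Nat.card_pos.ne' hqσc
    rw [hQbot, Subgroup.card_bot] at hQcardσ
    have : 1 < q ^ (Nat.card (Cfsg.sigmaCore M)).factorization q :=
      Nat.one_lt_pow hfpos.ne' hqP.one_lt
    omega
  · -- `E` is not cyclic
    intro hEc
    have hab : E ≤ Subgroup.centralizer (E : Set G) := by
      intro a ha
      rw [Subgroup.mem_centralizer_iff]
      intro b hb
      exact Cfsg.Agent.Helper1.BGPart.commute_of_isCyclic hEc hb ha
    have hbot : ⁅E, E⁆ = ⊥ := Subgroup.commutator_eq_bot_iff_le_centralizer.2 hab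
    apply c.X1
    rw [eq_bot_iff, ← hbot]
    exact c.XE₃.trans c.le_comm

end Cfsg.Agent.Helper1.BG139
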