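import Mathlib
import Cfsg.Prelude
import Cfsg.Agent.Helper4.BG12d
import Cfsg.Agent.Lead.BG15a

set_option autoImplicit false
set_option linter.unusedSectionVars false
set_option linter.unusedVariables false

/-!
Bender–Glauberman Lemma 15.1 (a): for a nontrivial `τ₂(M)`-subgroup `X ≤ M` with
`C_{M_σ}(X) ≠ 1`, `M` is the only maximal subgroup containing `C_G(X)`.
-/

namespace Cfsg.Agent.Helper1.BG151

open Cfsg Cfsg.Agent.Helper1 Cfsg.Agent.Helper2 Cfsg.Agent.Helper1.BGT Cfsg.Agent.Helper1.BGU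
  Cfsg.Agent.Helper1.BGV Cfsg.Agent.Helper1.BGW Cfsg.Agent.Helper1.BGX Cfsg.Agent.Lead.BG12
  Cfsg.Agent.Lead.BG108 Cfsg.Agent.Helper4.BG10 Cfsg.Agent.Helper4.BG12
open scoped commutatorElement Pointwise

universe u

variable {G : Type u} [Group G] [Finite G]

/-- A `τ₂(M)`-subgroup `X` of a complement `E` centralizes `A ∈ E_p²(E)` for `p` the smallest
prime divisor of `|X|`. -/
theorem le_centralizer_ea2_of_minFac (hG : Cfsg.IsMinSimpleOddOrder G) {M : Subgroup G}
    (hM : IsCoatom M) {E : Subgroup G} (hE : Cfsg.IsComplIn E (Cfsg.sigmaCore M) M)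
    {X : Subgroup G} (hXE : X ≤ E) {p : ℕ} [hp : Fact p.Prime] (hp_def : p = (Nat.card X).minFac)
    (hpτ : p ∈ Cfsg.tau2 M) {A : Subgroup G}
    (hA : A ≤ E ∧ Cfsg.IsElementaryAbelian p A ∧ Nat.card A = p ^ 2) (hp2 : p ≠ 2) :
    X ≤ Subgroup.centralizer (A : Set G) := by
  obtain ⟨hAE, hAe, hAcard⟩ := hA
  have hAM : A ≤ M := hAE.trans hE.1
  have hXM : X ≤ M := hXE.trans hE.1
  have hAp : IsPGroup p ↥A := IsPGroup.of_card hAcard
  have h126 := cor126 hG hM hpτ hE ⟨hAE, hAe, hAcard⟩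
  have hEN : E ≤ Subgroup.normalizer (A : Set G) := h126.1.1
  have hdvd : Nat.card X ∣ Nat.card ↥(X ⊓ Subgroup.centralizer (A : Set G)) := by
    rw [← Nat.factorization_prime_le_iff_dvd Nat.card_pos.ne' Nat.card_pos.ne']
    intro r hr
    haveI := Fact.mk hr
    obtain ⟨T, -, hTX, hTr, hTcard⟩ := Cfsg.Agent.Lead.exists_le_card_eq_ppart (p := r)
      (H := X) (U := ⊥) IsPGroup.of_bot bot_le
    have hTN : T ≤ Subgroup.normalizer (A : Set G) := hTX.trans (hXE.trans hEN)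
    have hTC : T ≤ Subgroup.centralizer (A : Set G) := by
      by_cases hrn : r ∣ Nat.card X
      · have hpr : p ≤ r := hp_def ▸ Nat.minFac_le_of_dvd hr.two_le hrn
        rcases hpr.eq_or_lt with heq | hlt
        · subst heq
          have hW : IsPGroup p ↥(T ⊔ A) := IsPGroup.to_sup_of_normal_right' hTr hAp hTN
          have hWM : T ⊔ A ≤ M := sup_le (hTX.trans hXM) hAM
          have hcomm := commute_of_isPGroup_of_not_mem_sigma hG hM hpτ.2.1 hWM hW
          intro t ht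
          rw [Subgroup.mem_centralizer_iff]
          intro a ha
          exact hcomm a (Subgroup.mem_sup_right ha) t (Subgroup.mem_sup_left ht)
        · exact le_centralizer_of_prime_gt hlt hp2 hAcard hTr hTN
      · have h1 : Nat.card T = 1 := by
          rw [hTcard, Nat.factorization_eq_zero_of_not_dvd hrn, pow_zero]
        rw [Subgroup.card_eq_one.mp h1]
        exact bot_le
    have h1 : Nat.card T ∣ Nat.card ↥(X ⊓ Subgroup.centralizer (A : Set G)) :=
      Subgroup.card_dvd_of_le (le_inf hTX hTC)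
    rw [hTcard] at h1
    exact (Nat.Prime.pow_dvd_iff_le_factorization hr Nat.card_pos.ne').mp h1
  have heq : X ⊓ Subgroup.centralizer (A : Set G) = X :=
    Subgroup.eq_of_le_of_card_ge inf_le_left (Nat.le_of_dvd Nat.card_pos hdvd)
  exact inf_eq_left.mp heq

/-- BG 15.1 (a), general form: for a nontrivial `τ₂(M)`-subgroup `X ≤ M` with `C_{M_σ}(X) ≠ 1`,
`C(X) ≤ M` and `M` is the only maximal subgroup containing `C(X)`. -/
theorem centralizer_le_of_tau2_subgroup (hG : Cfsg.IsMinSimpleOddOrder G) {M : Subgroup G}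
    (hM : IsCoatom M) {X : Subgroup G} (hXM : X ≤ M) (hX1 : X ≠ ⊥)
    (hX : ∀ p : ℕ, p.Prime → p ∣ Nat.card X → p ∈ Cfsg.tau2 M)
    (hXσ : Cfsg.sigmaCore M ⊓ Subgroup.centralizer (X : Set G) ≠ ⊥) :
    Subgroup.centralizer (X : Set G) ≤ M ∧ ∀ L : Subgroup G, IsCoatom L →
      Subgroup.centralizer (X : Set G) ≤ L → L = M := by
  obtain ⟨n, hn⟩ : ∃ n, n = Nat.card X := ⟨_, rfl⟩
  have hn0 : n ≠ 0 := hn ▸ Nat.card_pos.ne'
  have hn1 : n ≠ 1 := by
    rw [hn, Ne, Subgroup.card_eq_one]; exact hX1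
  obtain ⟨p, hp_def⟩ : ∃ p, p = n.minFac := ⟨_, rfl⟩
  haveI hp : Fact p.Prime := ⟨hp_def ▸ Nat.minFac_prime hn1⟩
  have hpn : p ∣ n := hp_def ▸ Nat.minFac_dvd n
  have hpτ := hX p hp.out (hn ▸ hpn)
  have hXσ' : ∀ t : ℕ, t.Prime → t ∣ Nat.card X → t ∉ Cfsg.sigma M :=
    fun t ht hd => (hX t ht hd).2.1
  obtain ⟨E', hE', hXE'⟩ := Cfsg.Agent.Helper4.BG10.exists_compl_sigmaCore_ge hG hM hXM hXσ'
  -- a Sylow `p`-subgroup of `E'`
  obtain ⟨S, -, hSE', hSp, hScard⟩ :=
    Cfsg.Agent.Lead.exists_le_card_eq_ppart (p := p) (H := E') (U := ⊥) IsPGroup.of_bot bot_le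
  have hSM : S ≤ M := hSE'.trans hE'.1
  have hScardM : Nat.card S = p ^ (Nat.card M).factorization p := by
    rw [hScard, factorization_compl_eq hE' hp.out hpτ.2.1]
  have hnc : ¬ IsCyclic ↥S := by
    intro hc
    apply hpτ.2.2.2
    have hcard' : Nat.card ↥(S.subgroupOf M) = p ^ (Nat.card ↥M).factorization p := by
      rw [Cfsg.Agent.Lead.card_subgroupOf_of_le hSM]; exact hScardM
    apply pRankLE_of_sylow (Sylow.ofCard (S.subgroupOf M) hcard')
    rw [Sylow.coe_ofCard]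
    exact Cfsg.Agent.Helper2.pRankLE_of_injective p 1
      (Subgroup.subgroupOfEquivOfLe hSM).toMonoidHom (Subgroup.subgroupOfEquivOfLe hSM).injective
      (pRankLE_one_of_isCyclic hc p)
  have hp2 : p ≠ 2 := prime_ne_two_of_ne_bot hG hSp (ne_bot_of_not_isCyclic hnc)
  obtain ⟨A, hAS, hAe, hAcard, -⟩ := exists_normal_ea2 hp2 hSp hnc
  have hAE' : A ≤ E' := hAS.trans hSE'
  have hAM : A ≤ M := hAE'.trans hE'.1
  have h126 := cor126 hG hM hpτ hE' ⟨hAE', hAe, hAcard⟩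
  have h125 := thm125 hG hM hpτ ⟨hAM, hAe, hAcard⟩
  have hXC : X ≤ Subgroup.centralizer (A : Set G) :=
    le_centralizer_ea2_of_minFac hG hM hE' hXE' (hn ▸ hp_def) hpτ ⟨hAE', hAe, hAcard⟩ hp2
  have hAX : A ≤ Subgroup.centralizer (X : Set G) := by
    intro a ha
    rw [Subgroup.mem_centralizer_iff]
    intro x hx
    exact (Subgroup.mem_centralizer_iff.mp (hXC hx) a ha).symm
  -- an element of order `p` of `X`
  haveI : Finite ↥X := inferInstance
  obtain ⟨w', hw'⟩ := exists_prime_orderOf_dvd_card' (G := ↥X) p (hn ▸ hpn)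
  obtain ⟨w, hw_def⟩ : ∃ w : G, w = (w' : G) := ⟨_, rfl⟩
  have hwX : w ∈ X := hw_def ▸ w'.2
  have hw : orderOf w = p := by
    rw [hw_def, Subgroup.orderOf_coe]; exact hw'
  have hWcard : Nat.card (Subgroup.zpowers w) = p := by rw [Nat.card_zpowers, hw]
  have hWX : Subgroup.zpowers w ≤ X := Subgroup.zpowers_le.mpr hwX
  have hWA : Subgroup.zpowers w ≤ A := h126.1.2 _ (hWX.trans hXE') hWcard
  have hCXW : Subgroup.centralizer (X : Set G) ≤
      Subgroup.centralizer ((Subgroup.zpowers w : Subgroup G) : Set G) :=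
    Subgroup.centralizer_le (SetLike.coe_subset_coe.mpr hWX)
  have hne : Cfsg.sigmaCore M ⊓
      Subgroup.centralizer ((Subgroup.zpowers w : Subgroup G) : Set G) ≠ ⊥ := by
    intro h
    apply hXσ
    rw [eq_bot_iff, ← h]
    exact inf_le_inf_left _ hCXW
  obtain ⟨hCWM, -⟩ := h126.2.2 _ hWA hWcard hne
  refine ⟨hCXW.trans hCWM, ?_⟩
  intro L hL hCL
  by_contra hLM
  have h1 := h125.2.2.2.2.1 L hL hLM (hAX.trans hCL)
  apply hXσ
  rw [eq_bot_iff, ← h1]
  exact inf_le_inf_left _ hCL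

end Cfsg.Agent.Helper1.BG151
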