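import Mathlib
import Cfsg.Prelude
import Cfsg.Agent.Helper1.BG151a
import Cfsg.Agent.Helper4.BG14K

set_option autoImplicit false
set_option linter.unusedSectionVars false
set_option linter.unusedVariables false

/-!
Bender–Glauberman Lemma 15.1: the elements of `U ∩ M̂_σ` are `τ₂(M)`-elements; part (a).
-/

namespace Cfsg.Agent.Helper1.BG151

open Cfsg
open scoped commutatorElement Pointwise

universe u

variable {G : Type u} [Group G] [Finite G]

/-- `|U| · |K ⊔ M_σ| = |M|`. -/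
theorem card_U_mul {M K U : Subgroup G} (hKU : Cfsg.IsSigmaDecomposition M K U) :
    Nat.card U * Nat.card ↥(K ⊔ Cfsg.sigmaCore M) = Nat.card M :=
  Cfsg.Agent.Helper1.IsComplIn_card_mul hKU.compl

/-- The prime divisors of `|U|` lie outside `κ(M)`. -/
theorem not_mem_kappa_of_dvd_card_U {M K U : Subgroup G}
    (hKU : Cfsg.IsSigmaDecomposition M K U) {p : ℕ} (hp : p.Prime) (hpU : p ∣ Nat.card U) :
    p ∉ Cfsg.kappa M := by
  intro hpκ
  apply hKU.hall.2.2 p hp hpκ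
  have h1 := Cfsg.Agent.Helper1.relIndex_mul_card_of_le hKU.hall.1
  have h2 := card_U_mul hKU
  have h3 : Nat.card K ∣ Nat.card ↥(K ⊔ Cfsg.sigmaCore M) := Subgroup.card_dvd_of_le le_sup_left
  obtain ⟨c, hc⟩ := h3
  have h4 : K.relIndex M * Nat.card K = (Nat.card U * c) * Nat.card K := by
    rw [h1, ← h2, hc]; ring
  have h5 : K.relIndex M = Nat.card U * c := Nat.eq_of_mul_eq_mul_right Nat.card_pos h4
  rw [h5]
  exact hpU.mul_right c

/-- The prime divisors of `|U|` lie outside `σ(M)`. -/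
theorem not_mem_sigma_of_dvd_card_U (hG : Cfsg.IsMinSimpleOddOrder G) {M K U : Subgroup G}
    (hM : IsCoatom M) (hKU : Cfsg.IsSigmaDecomposition M K U) {p : ℕ} (hp : p.Prime)
    (hpU : p ∣ Nat.card U) : p ∉ Cfsg.sigma M := by
  haveI := Fact.mk hp
  obtain ⟨w', hw'⟩ := exists_prime_orderOf_dvd_card' (G := ↥U) p hpU
  have hW : IsPGroup p ↥((Subgroup.zpowers w').map U.subtype) := by
    apply IsPGroup.map
    apply IsPGroup.of_card (n := 1)
    rw [Nat.card_zpowers, hw', pow_one]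
  apply Cfsg.Agent.Lead.BG15.not_mem_sigma_of_isPGroup_le hG hM hKU
    (Subgroup.map_subtype_le _) hW
  intro h
  rw [Subgroup.map_eq_bot_iff_of_injective _ U.subtype_injective, Subgroup.zpowers_eq_bot] at h
  rw [h, orderOf_one] at hw'
  exact hp.one_lt.ne hw'

/-- An element of prime order `p` of `U` that centralizes a nontrivial element of `M_σ` has
`p ∈ τ₂(M)`. -/
theorem mem_tau2_of_commute (hG : Cfsg.IsMinSimpleOddOrder G) {M K U : Subgroup G}
    (hM : IsCoatom M) (hKU : Cfsg.IsSigmaDecomposition M K U) {p : ℕ} (hp : p.Prime)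
    {w y : G} (hwU : w ∈ U) (hw : orderOf w = p) (hy : y ∈ Cfsg.sigmaCore M) (hy1 : y ≠ 1)
    (hwy : w * y = y * w) : p ∈ Cfsg.tau2 M := by
  haveI := Fact.mk hp
  have hpU : p ∣ Nat.card U := by
    rw [← hw]; exact Subgroup.orderOf_dvd_natCard _ hwU
  have hpσ := not_mem_sigma_of_dvd_card_U hG hM hKU hp hpU
  have hpκ := not_mem_kappa_of_dvd_card_U hKU hp hpU
  refine ⟨hp, hpσ, Cfsg.Agent.Lead.BG12.pRankLE_of_not_mem_sigma hG hM hp hpσ, ?_⟩
  intro hr1
  exact hpκ (Cfsg.Agent.Helper4.BG14.mem_kappa_of_commute hG hpσ hr1 (hKU.compl.1 hwU) hw hy hy1 hwy)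

/-- For `X ≤ U` with `C_{M_σ}(X) ≠ 1`, every prime divisor of `|X|` lies in `τ₂(M)`. -/
theorem mem_tau2_of_dvd_card (hG : Cfsg.IsMinSimpleOddOrder G) {M K U : Subgroup G}
    (hM : IsCoatom M) (hKU : Cfsg.IsSigmaDecomposition M K U) {X : Subgroup G} (hXU : X ≤ U)
    (hXc : Cfsg.sigmaCore M ⊓ Subgroup.centralizer (X : Set G) ≠ ⊥) {p : ℕ} (hp : p.Prime)
    (hpX : p ∣ Nat.card X) : p ∈ Cfsg.tau2 M := by
  haveI := Fact.mk hp
  obtain ⟨w', hw'⟩ := exists_prime_orderOf_dvd_card' (G := ↥X) p hpX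
  obtain ⟨⟨y, hyσ, hyC⟩, hy1⟩ := (Subgroup.ne_bot_iff_exists_ne_one).mp hXc
  have hy1' : y ≠ 1 := fun h => hy1 (Subtype.ext h)
  have hw : orderOf (w' : G) = p := by rw [Subgroup.orderOf_coe]; exact hw'
  refine mem_tau2_of_commute hG hM hKU hp (hXU w'.2) hw hyσ hy1' ?_
  exact (Subgroup.mem_centralizer_iff.mp hyC _ w'.2)

/-- **BG 15.1 (a)** (the frozen S1361). -/
theorem centralizer_le_of_le_U (hG : Cfsg.IsMinSimpleOddOrder G) {M K U : Subgroup G}
    (hM : IsCoatom M) (hKU : Cfsg.IsSigmaDecomposition M K U) {X : Subgroup G} (hXU : X ≤ U)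
    (hX : X ≠ ⊥) (hXc : Cfsg.sigmaCore M ⊓ Subgroup.centralizer (X : Set G) ≠ ⊥) :
    Subgroup.centralizer (X : Set G) ≤ M ∧ ∀ L : Subgroup G, IsCoatom L →
      Subgroup.centralizer (X : Set G) ≤ L → L = M :=
  centralizer_le_of_tau2_subgroup hG hM (hXU.trans hKU.compl.1) hX
    (fun p hp hd => mem_tau2_of_dvd_card hG hM hKU hXU hXc hp hd) hXc

end Cfsg.Agent.Helper1.BG151
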