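import Mathlib
import Cfsg.Prelude
import Cfsg.Agent.Helper1.BG151b
import Cfsg.Agent.Helper1.Coprime
import Cfsg.Agent.S1352

set_option autoImplicit false
set_option linter.unusedSectionVars false
set_option linter.unusedVariables false

/-!
Bender–Glauberman Lemma 15.1 (d): `A(M) - M_σ` is a TI-subset of `G`.
-/

namespace Cfsg.Agent.Helper1.BG151

open Cfsg
open scoped commutatorElement Pointwise

universe u

variable {G : Type u} [Group G] [Finite G]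

/-- `|U ⊔ M_σ| = |U| · |M_σ|`. -/
theorem card_U_sup_sigmaCore {M K U : Subgroup G} (hKU : Cfsg.IsSigmaDecomposition M K U) :
    Nat.card ↥(U ⊔ Cfsg.sigmaCore M) = Nat.card U * Nat.card (Cfsg.sigmaCore M) := by
  have hUM : U ≤ M := hKU.compl.1
  have hN : U ≤ Subgroup.normalizer ((Cfsg.sigmaCore M : Subgroup G) : Set G) :=
    hUM.trans (Cfsg.Agent.Lead.BG12.le_normalizer_sigmaCore M)
  rw [sup_comm]
  exact Cfsg.Agent.Helper1.card_sup_of_le_normalizer hN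
    (Cfsg.Agent.Lead.BG15.SigmaDecomp_inf_sigmaCore hKU)

/-- An element of prime order `p ∉ σ(M)` of `U M_σ` centralizing a nontrivial element of `M_σ`
has `p ∈ τ₂(M)`. -/
theorem mem_tau2_of_commute' (hG : Cfsg.IsMinSimpleOddOrder G) {M K U : Subgroup G}
    (hM : IsCoatom M) (hKU : Cfsg.IsSigmaDecomposition M K U) {p : ℕ} (hp : p.Prime)
    (hpσ : p ∉ Cfsg.sigma M)
    {w y : G} (hwU : w ∈ U ⊔ Cfsg.sigmaCore M) (hw : orderOf w = p) (hy : y ∈ Cfsg.sigmaCore M)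
    (hy1 : y ≠ 1) (hwy : w * y = y * w) : p ∈ Cfsg.tau2 M := by
  haveI := Fact.mk hp
  have hpUσ : p ∣ Nat.card ↥(U ⊔ Cfsg.sigmaCore M) := by
    rw [← hw]; exact Subgroup.orderOf_dvd_natCard _ hwU
  rw [card_U_sup_sigmaCore hKU] at hpUσ
  have hpU : p ∣ Nat.card U := by
    rcases (Nat.Prime.dvd_mul hp).mp hpUσ with h | h
    · exact h
    · exact absurd (Cfsg.Agent.Lead.BG12.mem_sigma_of_dvd_card_sigmaCore hp h) hpσ
  have hpκ := not_mem_kappa_of_dvd_card_U hKU hp hpU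
  have hwM : w ∈ M := (sup_le hKU.compl.1 Cfsg.Agent.Lead.BG12.sigmaCore_le) hwU
  refine ⟨hp, hpσ, Cfsg.Agent.Lead.BG12.pRankLE_of_not_mem_sigma hG hM hp hpσ, ?_⟩
  intro hr1
  exact hpκ (Cfsg.Agent.Helper4.BG14.mem_kappa_of_commute hG hpσ hr1 hwM hw hy hy1 hwy)

/-- For `a ∈ A(M) - M_σ` there is a power `w` of `a` of prime order `p ∈ τ₂(M)`, `w ∈ M̂_σ`. -/
theorem exists_pow_tau2 (hG : Cfsg.IsMinSimpleOddOrder G) {M K U : Subgroup G}
    (hM : IsCoatom M) (hKU : Cfsg.IsSigmaDecomposition M K U) {a : G}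
    (ha : a ∈ Cfsg.sigmaA M U) (haσ : a ∉ Cfsg.sigmaCore M) :
    ∃ n : ℕ, ∃ p : ℕ, p.Prime ∧ p ∉ Cfsg.sigma M ∧ p ∣ orderOf a ∧ orderOf (a ^ n) = p ∧
      n = orderOf a / p := by
  obtain ⟨⟨haM, y, hy, hy1, hay⟩, haU⟩ := ha
  by_contra hcon
  push Not at hcon
  apply haσ
  have hZM : Subgroup.zpowers a ≤ M := Subgroup.zpowers_le.mpr haM
  apply Cfsg.Agent.Helper4.BG12.le_sigmaCore_of_isPi hG hM hZM _ (Subgroup.mem_zpowers a)
  intro t ht htd
  rw [Nat.card_zpowers] at htd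
  by_contra htσ
  exact hcon (orderOf a / t) t ht htσ htd
    (orderOf_pow_orderOf_div (orderOf_pos a).ne' htd) rfl

/-- **BG 15.1 (d)** (the frozen S1362). -/
theorem sigmaA_diff_isTI (hG : Cfsg.IsMinSimpleOddOrder G) {M K U : Subgroup G}
    (hM : IsCoatom M) (hKU : Cfsg.IsSigmaDecomposition M K U) :
    Cfsg.IsTISubset (Cfsg.sigmaA M U \ (Cfsg.sigmaCore M : Set G)) := by
  intro g hg x hx hgx
  exfalso
  apply hg
  have hMN : M ≤ Subgroup.normalizer ((U ⊔ Cfsg.sigmaCore M : Subgroup G) : Set G) :=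
    (Cfsg.Agent.S1352.result hG M hM K hKU.cyclic hKU.hall).2 U hKU
  have hMσ := Cfsg.Agent.Lead.BG12.le_normalizer_sigmaCore M
  -- `M` normalizes the set
  have hinv : ∀ m ∈ M, ∀ a ∈ Cfsg.sigmaA M U \ (Cfsg.sigmaCore M : Set G),
      m * a * m⁻¹ ∈ Cfsg.sigmaA M U \ (Cfsg.sigmaCore M : Set G) := by
    intro m hm a ha
    obtain ⟨⟨⟨haM, y, hy, hy1, hay⟩, haU⟩, haσ⟩ := ha
    refine ⟨⟨⟨M.mul_mem (M.mul_mem hm haM) (M.inv_mem hm), m * y * m⁻¹, ?_, ?_, ?_⟩, ?_⟩, ?_⟩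
    · exact (Subgroup.mem_normalizer_iff.mp (hMσ hm) y).mp hy
    · intro h
      apply hy1
      have : y = m⁻¹ * (m * y * m⁻¹) * m := by group
      rw [this, h]; group
    · calc m * a * m⁻¹ * (m * y * m⁻¹) = m * (a * y) * m⁻¹ := by group
        _ = m * (y * a) * m⁻¹ := by rw [hay]
        _ = _ := by group
    · exact (Subgroup.mem_normalizer_iff.mp (hMN hm) a).mp haU
    · intro h
      apply haσ
      have h1 := (Subgroup.mem_normalizer_iff.mp (hMσ hm) a).mpr h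
      exact h1
  have hMle : M ≤ Subgroup.normalizer (Cfsg.sigmaA M U \ (Cfsg.sigmaCore M : Set G)) := by
    intro m hm
    rw [Subgroup.mem_set_normalizer_iff]
    intro a
    constructor
    · exact hinv m hm a
    · intro h
      have := hinv m⁻¹ (M.inv_mem hm) _ h
      convert this using 1
      group
  apply hMle
  -- `g ∈ M`
  obtain ⟨hxA, hxσ⟩ := hx
  obtain ⟨n, p, hp, hpσ, hpd, hwp, hn⟩ := exists_pow_tau2 hG hM hKU hxA hxσ
  obtain ⟨hgxA, hgxσ⟩ := hgx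
  obtain ⟨⟨hxM, y, hy, hy1, hxy⟩, hxU⟩ := hxA
  obtain ⟨⟨hgxM, y', hy', hy'1, hgxy'⟩, hgxU⟩ := hgxA
  set w := x ^ n with hw
  have hwU : w ∈ U ⊔ Cfsg.sigmaCore M := Subgroup.pow_mem _ hxU n
  have hwy : w * y = y * w := ((show Commute x y from hxy).pow_left n).eq
  have hpτ := mem_tau2_of_commute' hG hM hKU hp hpσ hwU hwp hy hy1 hwy
  have hgw : g * w * g⁻¹ = (g * x * g⁻¹) ^ n := by rw [hw, conj_pow]
  have hgwU : g * w * g⁻¹ ∈ U ⊔ Cfsg.sigmaCore M := by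
    rw [hgw]; exact Subgroup.pow_mem _ hgxU n
  have hgwy : (g * w * g⁻¹) * y' = y' * (g * w * g⁻¹) := by
    rw [hgw]; exact ((show Commute (g * x * g⁻¹) y' from hgxy').pow_left n).eq
  have hgwp : orderOf (g * w * g⁻¹) = p := by
    rw [← hwp]
    exact orderOf_injective (MulAut.conj g).toMonoidHom (MulAut.conj g).injective w
  have hw1 : w ≠ 1 := by
    intro h
    rw [h, orderOf_one] at hwp
    exact hp.one_lt.ne hwp
  have hgw1 : g * w * g⁻¹ ≠ 1 := by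
    intro h
    rw [h, orderOf_one] at hgwp
    exact hp.one_lt.ne hgwp
  have hUσM : U ⊔ Cfsg.sigmaCore M ≤ M := sup_le hKU.compl.1 Cfsg.Agent.Lead.BG12.sigmaCore_le
  have hτ : ∀ v : G, orderOf v = p → ∀ t : ℕ, t.Prime → t ∣ orderOf v → t ∈ Cfsg.tau2 M := by
    intro v hv t ht htd
    rw [hv] at htd
    rw [(Nat.prime_dvd_prime_iff_eq ht hp).mp htd]
    exact hpτ
  have h1 := Cfsg.Agent.Helper4.BG12.centralizer_le_of_tau2_elt hG hM (hUσM hgwU) hgw1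
    (hτ _ hgwp) ⟨hUσM hgwU, y', hy', hy'1, hgwy⟩
  have h2 := Cfsg.Agent.Helper4.BG12.centralizer_le_of_tau2_elt hG hM (hUσM hwU) hw1
    (hτ _ hwp) ⟨hUσM hwU, y, hy, hy1, hwy⟩
  -- `C(g w g⁻¹) = g C(w) g⁻¹ ≤ g M g⁻¹`
  have hM' : IsCoatom (M.map (MulAut.conj g).toMonoidHom) := by
    have := Cfsg.Agent.Helper1.BGU.isCoatom_conj_smul g hM
    rwa [Subgroup.pointwise_smul_def] at this
  have hC : Subgroup.centralizer ({g * w * g⁻¹} : Set G) ≤ M.map (MulAut.conj g).toMonoidHom := by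
    intro c hc
    rw [Subgroup.mem_centralizer_singleton_iff] at hc
    refine ⟨g⁻¹ * c * g, h2.1 ?_, by simp [mul_assoc]⟩
    rw [Subgroup.mem_centralizer_singleton_iff]
    calc g⁻¹ * c * g * w = g⁻¹ * (c * (g * w * g⁻¹)) * g := by group
      _ = g⁻¹ * ((g * w * g⁻¹) * c) * g := by rw [hc]
      _ = w * (g⁻¹ * c * g) := by group
  have hMeq : M.map (MulAut.conj g).toMonoidHom = M := h1.2 _ hM' hC
  have hNM : Subgroup.normalizer (M : Set G) = M :=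
    Cfsg.Agent.Helper1.BGU.normalizer_eq_of_coatom hG hM Subgroup.le_normalizer
      (Cfsg.Agent.Lead.BG12.coatom_ne_bot hG hM) hM.1
  rw [← hNM]
  apply Subgroup.mem_normalizer_fintype
  intro m hm
  have h3 : g * m * g⁻¹ ∈ M.map (MulAut.conj g).toMonoidHom := ⟨m, hm, rfl⟩
  rw [hMeq] at h3
  exact h3

end Cfsg.Agent.Helper1.BG151
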