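import Mathlib
import Cfsg.Prelude
import Cfsg.Agent.Helper1.BG151c
import Cfsg.Agent.Helper4.BG14L
import Cfsg.Agent.Helper2.BG144e

set_option autoImplicit false
set_option linter.unusedSectionVars false
set_option linter.unusedVariables false

/-!
Bender–Glauberman Theorem 14.7: the hypothesis bundle (the conclusions of Theorem 14.2 for a pair
`(M, K)`) and elementary facts about `Z = K × K*`.
-/

namespace Cfsg.Agent.Helper1.BG147

open Cfsg
open scoped commutatorElement Pointwise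

universe u

variable {G : Type u} [Group G] [Finite G]

/-- The conclusions of BG Theorem 14.2 for a maximal subgroup `M` and a Hall `κ(M)`-subgroup `K`. -/
structure P142 (M K : Subgroup G) : Prop where
  prime_action : ∀ k ∈ K, k ≠ 1 → Cfsg.sigmaCore M ⊓ Subgroup.centralizer ({k} : Set G) =
      Cfsg.sigmaCore M ⊓ Subgroup.centralizer (K : Set G)
  kstar_ne : Cfsg.sigmaCore M ⊓ Subgroup.centralizer (K : Set G) ≠ ⊥
  kstar_lt : Cfsg.sigmaCore M ⊓ Subgroup.centralizer (K : Set G) ≠ Cfsg.sigmaCore M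
  norm_eq : ∀ X : Subgroup G, X ≤ K → (Nat.card X).Prime →
      M ⊓ Subgroup.normalizer (X : Set G) =
        K ⊔ (Cfsg.sigmaCore M ⊓ Subgroup.centralizer (K : Set G))
  le_sigma : ∀ X : Subgroup G, X ≤ K → (Nat.card X).Prime → ∀ Ms : Subgroup G, IsCoatom Ms →
      Subgroup.normalizer (X : Set G) ≤ Ms → X ≤ Cfsg.sigmaCore Ms
  ti_kstar : ∀ g : G, g ∉ M → (Cfsg.sigmaCore M ⊓ Subgroup.centralizer (K : Set G)) ⊓
      M.map (MulAut.conj g).toMonoidHom = ⊥
  ti_K : ∀ g ∈ M, g ∉ K ⊔ (Cfsg.sigmaCore M ⊓ Subgroup.centralizer (K : Set G)) →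
      K ⊓ K.map (MulAut.conj g).toMonoidHom = ⊥
  uniq : ∀ X : Subgroup G, X ≤ Cfsg.sigmaCore M ⊓ Subgroup.centralizer (K : Set G) →
      (Nat.card X).Prime → Subgroup.centralizer (X : Set G) ≤ M ∧
        ∀ L : Subgroup G, IsCoatom L → Subgroup.centralizer (X : Set G) ≤ L → L = M
  exU : ∃ U : Subgroup G, IsMulCommutative U ∧
      Cfsg.IsPiHallOf {q | q.Prime ∧ q ∉ Cfsg.kappa M ∧ q ∉ Cfsg.sigma M} U M ∧
      K ≤ Subgroup.normalizer (U : Set G) ∧
      ∀ k ∈ K, k ≠ 1 → U ⊓ Subgroup.centralizer ({k} : Set G) = ⊥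

/-- The global hypothesis: Theorem 14.2 holds for every maximal subgroup and every nontrivial Hall
`κ(M)`-subgroup. -/
def Hyp142 (G : Type u) [Group G] : Prop :=
  ∀ M K : Subgroup G, IsCoatom M → Cfsg.IsPiHallOf (Cfsg.kappa M) K M → K ≠ ⊥ → P142 M K

/-- `K ∩ K* = 1`. -/
theorem inf_kstar_eq_bot {M K : Subgroup G} (hK : Cfsg.IsPiHallOf (Cfsg.kappa M) K M) :
    K ⊓ (Cfsg.sigmaCore M ⊓ Subgroup.centralizer (K : Set G)) = ⊥ := by
  rw [eq_bot_iff, ← Cfsg.Agent.Helper4.BG14.kappa_inf_sigmaCore_eq_bot hK.2.1]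
  exact inf_le_inf_left _ inf_le_left

/-- `|K|` and `|K*|` are coprime. -/
theorem coprime_card_kstar {M K : Subgroup G} (hK : Cfsg.IsPiHallOf (Cfsg.kappa M) K M) :
    (Nat.card K).Coprime
      (Nat.card ↥(Cfsg.sigmaCore M ⊓ Subgroup.centralizer (K : Set G))) := by
  apply Nat.coprime_of_dvd
  intro t ht h1 h2
  exact (hK.2.1 t ht h1).2.2.1 (Cfsg.Agent.Lead.BG12.mem_sigma_of_dvd_card_sigmaCore ht
    (h2.trans (Subgroup.card_dvd_of_le inf_le_left)))

/-- `K` normalizes `K*`. -/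
theorem le_normalizer_kstar (M K : Subgroup G) :
    K ≤ Subgroup.normalizer
      ((Cfsg.sigmaCore M ⊓ Subgroup.centralizer (K : Set G) : Subgroup G) : Set G) := by
  intro k hk
  rw [Subgroup.mem_normalizer_iff]
  intro y
  have key : ∀ y ∈ Cfsg.sigmaCore M ⊓ Subgroup.centralizer (K : Set G), k * y * k⁻¹ = y := by
    intro y hy
    have := Subgroup.mem_centralizer_iff.mp hy.2 k hk
    rw [this]; group
  constructor
  · intro hy
    rw [key y hy]; exact hy
  · intro hy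
    have h1 := key _ hy
    have h2 : k * y * k⁻¹ = y := by
      have h3 : k * ((k * y * k⁻¹) * k⁻¹) = k * (y * k⁻¹) := by
        rw [← mul_assoc, h1, mul_assoc]
      exact mul_right_cancel (mul_left_cancel h3)
    rw [← h2]; exact hy

/-- `|Z| = |K| · |K*|`. -/
theorem card_Z {M K : Subgroup G} (hK : Cfsg.IsPiHallOf (Cfsg.kappa M) K M) :
    Nat.card ↥(K ⊔ (Cfsg.sigmaCore M ⊓ Subgroup.centralizer (K : Set G))) =
      Nat.card K * Nat.card ↥(Cfsg.sigmaCore M ⊓ Subgroup.centralizer (K : Set G)) := by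
  rw [sup_comm]
  exact Cfsg.Agent.Helper1.card_sup_of_le_normalizer (le_normalizer_kstar M K)
    (inf_kstar_eq_bot hK)

/-- `Z ≤ M`. -/
theorem Z_le {M K : Subgroup G} (hK : Cfsg.IsPiHallOf (Cfsg.kappa M) K M) :
    K ⊔ (Cfsg.sigmaCore M ⊓ Subgroup.centralizer (K : Set G)) ≤ M :=
  sup_le hK.1 (inf_le_left.trans Cfsg.Agent.Lead.BG12.sigmaCore_le)

end Cfsg.Agent.Helper1.BG147
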