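import Mathlib
import Cfsg.Prelude
import Cfsg.Agent.Helper1.BG147a
import Cfsg.Agent.Helper3.CoprimeHall

set_option autoImplicit false
set_option linter.unusedSectionVars false
set_option linter.unusedVariables false

/-!
Bender–Glauberman Theorem 14.7: auxiliary lemmas for the pair lemma.
-/

namespace Cfsg.Agent.Helper1.BG147

open Cfsg
open scoped commutatorElement Pointwise

universe u

variable {G : Type u} [Group G] [Finite G]

/-- A subgroup of prime order is generated by any of its nonidentity elements. -/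
theorem exists_gen_of_card_prime {X : Subgroup G} (hX : (Nat.card X).Prime) :
    ∃ x ∈ X, x ≠ 1 ∧ orderOf x = Nat.card X ∧ X = Subgroup.zpowers x := by
  have hX1 : X ≠ ⊥ := by
    intro h
    rw [h, Subgroup.card_bot] at hX
    exact Nat.not_prime_one hX
  obtain ⟨⟨x, hx⟩, hx1⟩ := (Subgroup.ne_bot_iff_exists_ne_one).1 hX1
  have hx1' : x ≠ 1 := fun h => hx1 (Subtype.ext h)
  have hle : Subgroup.zpowers x ≤ X := Subgroup.zpowers_le.mpr hx
  have hd : orderOf x ∣ Nat.card X := Subgroup.orderOf_dvd_natCard X hx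
  have ho : orderOf x = Nat.card X := by
    rcases (Nat.dvd_prime hX).mp hd with h | h
    · exact absurd (orderOf_eq_one_iff.mp h) hx1'
    · exact h
  refine ⟨x, hx, hx1', ho, ?_⟩
  symm
  apply Subgroup.eq_of_le_of_card_ge hle
  rw [Nat.card_zpowers, ho]

/-- A Hall `π`-subgroup of a solvable subgroup `M` containing a given `π`-subgroup. -/
theorem exists_hall_ge {π : Set ℕ} {M T : Subgroup G} (hsolv : Group.IsSolvable ↥M)
    (hTM : T ≤ M) (hT : ∀ r : ℕ, r.Prime → r ∣ Nat.card T → r ∈ π) :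
    ∃ H : Subgroup G, Cfsg.IsPiHallOf π H M ∧ T ≤ H := by
  obtain ⟨m, n, hd⟩ := Cfsg.Agent.Helper3.exists_piDecomp π (Nat.card M) Nat.card_pos.ne'
  have hcop : (Nat.card T).Coprime n := by
    apply Nat.coprime_of_dvd
    intro r hr h1 h2
    exact hd.right r hr h2 (hT r hr h1)
  obtain ⟨H, hHE, hHcard, hTH⟩ := (Cfsg.Agent.Helper3.hall_internal M hsolv hd).2 T hTM hcop
  exact ⟨H, (Cfsg.Agent.Helper3.isPiHallOf_iff_card hd).2 ⟨hHE, hHcard⟩, hTH⟩

/-- A `π`-subgroup of a solvable subgroup `M` lies in a conjugate of any Hall `π`-subgroup. -/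
theorem exists_conj_ge_of_hall {π : Set ℕ} {M K T : Subgroup G} (hsolv : Group.IsSolvable ↥M)
    (hK : Cfsg.IsPiHallOf π K M) (hTM : T ≤ M)
    (hT : ∀ r : ℕ, r.Prime → r ∣ Nat.card T → r ∈ π) :
    ∃ m ∈ M, T ≤ K.map (MulAut.conj m).toMonoidHom := by
  obtain ⟨m', n, hd⟩ := Cfsg.Agent.Helper3.exists_piDecomp π (Nat.card M) Nat.card_pos.ne'
  obtain ⟨H, hH, hTH⟩ := exists_hall_ge (π := π) hsolv hTM hT
  have h1 := (Cfsg.Agent.Helper3.isPiHallOf_iff_card hd).1 hH
  have h2 := (Cfsg.Agent.Helper3.isPiHallOf_iff_card hd).1 hK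
  obtain ⟨g, hg, hgK⟩ := (Cfsg.Agent.Helper3.hall_internal M hsolv hd).1 K H h2.1 h1.1 h2.2 h1.2
  refine ⟨g, hg, ?_⟩
  have h3 : K.map (MulAut.conj g).toMonoidHom = MulAut.conj g • K :=
    (Subgroup.pointwise_smul_def (a := MulAut.conj g) K).symm
  rw [h3, hgK]
  exact hTH

/-- If `M` is the only maximal subgroup containing `C(R)`, then `N(R) ≤ M`. -/
theorem normalizer_le_of_uniq (hG : Cfsg.IsMinSimpleOddOrder G) {M R : Subgroup G}
    (hR1 : R ≠ ⊥) (hRtop : R ≠ ⊤)
    (hu : ∀ L : Subgroup G, IsCoatom L → Subgroup.centralizer (R : Set G) ≤ L → L = M) :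
    Subgroup.normalizer (R : Set G) ≤ M := by
  have h := Cfsg.Agent.Helper1.BGU.normalizer_ne_top_of_simple hG hR1 hRtop
  obtain ⟨L, hL, hNL⟩ := Cfsg.Agent.Helper1.BGU.exists_coatom_ge h
  have := hu L hL ((Subgroup.centralizer_le_normalizer _).trans hNL)
  rw [← this]; exact hNL

omit [Finite G] in
/-- `C({w}) = C(⟨w⟩)`. -/
theorem centralizer_zpowers_eq (w : G) :
    Subgroup.centralizer ((Subgroup.zpowers w : Subgroup G) : Set G) =
      Subgroup.centralizer ({w} : Set G) := by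
  rw [Subgroup.zpowers_eq_closure, Subgroup.centralizer_closure]

/-- A subgroup of prime order is a proper subgroup of a minimal simple group of odd order. -/
theorem ne_top_of_le_coatom {M R : Subgroup G} (hM : IsCoatom M) (hRM : R ≤ M) : R ≠ ⊤ := by
  rintro rfl
  exact hM.1 (top_le_iff.mp hRM)

/-- **The κ-criterion with uniqueness**: let `w ∈ L` have prime order `r ∉ σ(L)` and centralize
`y ∈ L_σ^#`, and suppose that some maximal subgroup `M' ≠ L` is the only one containing `C(w)`.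
Then `r ∈ κ(L)`. -/
theorem mem_kappa_of_commute_of_uniq (hG : Cfsg.IsMinSimpleOddOrder G) {L M' : Subgroup G}
    (hL : IsCoatom L) (hne : L ≠ M') {r : ℕ} (hr : r.Prime) (hrσ : r ∉ Cfsg.sigma L) {w y : G}
    (hwL : w ∈ L) (hw : orderOf w = r) (hy : y ∈ Cfsg.sigmaCore L) (hy1 : y ≠ 1)
    (hwy : w * y = y * w)
    (hu : ∀ L' : Subgroup G, IsCoatom L' → Subgroup.centralizer ({w} : Set G) ≤ L' → L' = M') :
    r ∈ Cfsg.kappa L := by
  haveI := Fact.mk hr
  by_cases hr1 : Cfsg.PRankLE r 1 ↥L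
  · exact Cfsg.Agent.Helper4.BG14.mem_kappa_of_commute hG hrσ hr1 hwL hw hy hy1 hwy
  · exfalso
    have hrτ : r ∈ Cfsg.tau2 L :=
      ⟨hr, hrσ, Cfsg.Agent.Lead.BG12.pRankLE_of_not_mem_sigma hG hL hr hrσ, hr1⟩
    have hw1 : w ≠ 1 := by
      intro h
      rw [h, orderOf_one] at hw
      exact hr.one_lt.ne hw
    have h1 := Cfsg.Agent.Helper4.BG12.centralizer_le_of_tau2_elt hG hL hwL hw1
      (by
        intro t ht htd
        rw [hw] at htd
        rw [(Nat.prime_dvd_prime_iff_eq ht hr).mp htd]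
        exact hrτ) ⟨hwL, y, hy, hy1, hwy⟩
    exact hne (hu L hL h1.1)

end Cfsg.Agent.Helper1.BG147
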