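import Mathlib
import Cfsg.Prelude
import Cfsg.Agent.Helper1.BG147b
import Cfsg.Agent.Helper1.BGPartC

set_option autoImplicit false
set_option linter.unusedSectionVars false
set_option linter.unusedVariables false
set_option maxHeartbeats 800000

/-!
Bender–Glauberman Theorem 14.7: the pair lemma.
-/

namespace Cfsg.Agent.Helper1.BG147

open Cfsg
open scoped commutatorElement Pointwise

universe u

variable {G : Type u} [Group G] [Finite G]

/-- The result of the pair lemma. -/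
structure Pair (M K Ms K₁ : Subgroup G) : Prop where
  hall : Cfsg.IsPiHallOf (Cfsg.kappa Ms) K₁ Ms
  ne_bot : K₁ ≠ ⊥
  kstar_le : Cfsg.sigmaCore M ⊓ Subgroup.centralizer (K : Set G) ≤ K₁
  le_Z : K₁ ≤ K ⊔ (Cfsg.sigmaCore M ⊓ Subgroup.centralizer (K : Set G))
  kstar₁_le : Cfsg.sigmaCore Ms ⊓ Subgroup.centralizer (K₁ : Set G) ≤ K
  Z_eq : K ⊔ (Cfsg.sigmaCore M ⊓ Subgroup.centralizer (K : Set G)) =
    K₁ ⊔ (Cfsg.sigmaCore Ms ⊓ Subgroup.centralizer (K₁ : Set G))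
  inf_eq : M ⊓ Ms = K ⊔ (Cfsg.sigmaCore M ⊓ Subgroup.centralizer (K : Set G))
  not_conj : ∀ g : G, Ms ≠ M.map (MulAut.conj g).toMonoidHom
  sigma_inf : Cfsg.sigmaCore Ms ⊓ M = Cfsg.sigmaCore Ms ⊓ Subgroup.centralizer (K₁ : Set G)
  sigma_disj : ∀ p : ℕ, p ∈ Cfsg.sigma M → p ∉ Cfsg.sigma Ms

/-- **The pair lemma** (first half of the proof of BG Theorem 14.7). -/
theorem pair (hG : Cfsg.IsMinSimpleOddOrder G) (h142 : Hyp142 G) {M K : Subgroup G}
    (hM : IsCoatom M) (hK : Cfsg.IsPiHallOf (Cfsg.kappa M) K M) (hK1 : K ≠ ⊥)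
    {X : Subgroup G} (hXK : X ≤ K) (hXp : (Nat.card X).Prime) {Ms : Subgroup G}
    (hMs : IsCoatom Ms) (hNX : Subgroup.normalizer (X : Set G) ≤ Ms) :
    ∃ K₁ : Subgroup G, Pair M K Ms K₁ ∧
      X ≤ Cfsg.sigmaCore Ms ⊓ Subgroup.centralizer (K₁ : Set G) := by
  classical
  have P := h142 M K hM hK hK1
  obtain ⟨Ks, hKs⟩ : ∃ Ks : Subgroup G,
      Ks = Cfsg.sigmaCore M ⊓ Subgroup.centralizer (K : Set G) := ⟨_, rfl⟩
  obtain ⟨p, hp⟩ : ∃ p : ℕ, p = Nat.card X := ⟨_, rfl⟩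
  have hpP : p.Prime := hp ▸ hXp
  haveI := Fact.mk hpP
  haveI hsolvMs : Group.IsSolvable ↥Ms := hG.2.2.2 Ms hMs.1
  haveI hsolvM : Group.IsSolvable ↥M := hG.2.2.2 M hM.1
  -- Step 1
  have hXσ : X ≤ Cfsg.sigmaCore Ms := P.le_sigma X hXK hXp Ms hMs hNX
  have hpσs : p ∈ Cfsg.sigma Ms :=
    Cfsg.Agent.Lead.BG12.mem_sigma_of_dvd_card_sigmaCore hpP (hp ▸ Subgroup.card_dvd_of_le hXσ)
  have hpκ : p ∈ Cfsg.kappa M := hK.2.1 p hpP (hp ▸ Subgroup.card_dvd_of_le hXK)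
  have hpσ : p ∉ Cfsg.sigma M := hpκ.2.2.1
  have hnc : ∀ g : G, Ms ≠ M.map (MulAut.conj g).toMonoidHom := by
    intro g h
    apply hpσ
    rw [← Cfsg.Agent.Helper2.BG144.sigma_map_conj hG hM g, ← h]
    exact hpσs
  have hdisj : ∀ q : ℕ, q ∈ Cfsg.sigma M → q ∉ Cfsg.sigma Ms := by
    intro q h1 h2
    obtain ⟨g, hg⟩ := Cfsg.Agent.Helper1.BGPart.exists_conj_of_mem_sigma_inter hG hM hMs h1 h2
    apply hnc g
    rw [hg, Subgroup.pointwise_smul_def]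
    rfl
  have hne : Ms ≠ M := by
    intro h
    apply hnc 1
    rw [h]
    ext x
    simp
  have hZeq := P.norm_eq X hXK hXp
  rw [← hKs] at hZeq
  have hZMs : K ⊔ Ks ≤ Ms := by
    rw [← hZeq]; exact inf_le_right.trans hNX
  have hKsMs : Ks ≤ Ms := le_sup_right.trans hZMs
  have hKMs : K ≤ Ms := le_sup_left.trans hZMs
  obtain ⟨x, hxX, hx1, hxo, hXgen⟩ := exists_gen_of_card_prime hXp
  have hxσ : x ∈ Cfsg.sigmaCore Ms := hXσ hxX
  -- Step 2: `K*` is a `κ(M*)`-group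
  have hKsκ : ∀ r : ℕ, r.Prime → r ∣ Nat.card Ks → r ∈ Cfsg.kappa Ms := by
    intro r hr hrd
    haveI := Fact.mk hr
    have hrσ : r ∈ Cfsg.sigma M := by
      apply Cfsg.Agent.Lead.BG12.mem_sigma_of_dvd_card_sigmaCore hr
      rw [hKs] at hrd
      exact hrd.trans (Subgroup.card_dvd_of_le inf_le_left)
    have hrσs : r ∉ Cfsg.sigma Ms := hdisj r hrσ
    obtain ⟨w, hwKs, hw⟩ : ∃ w ∈ Ks, orderOf w = r := by
      obtain ⟨w', hw'⟩ := exists_prime_orderOf_dvd_card' (G := ↥Ks) r hrd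
      exact ⟨w', w'.2, by rw [Subgroup.orderOf_coe]; exact hw'⟩
    have hwx : w * x = x * w := by
      have h1 : w ∈ Subgroup.centralizer (K : Set G) := by
        have := hwKs
        rw [hKs] at this
        exact this.2
      exact (Subgroup.mem_centralizer_iff.mp h1 x (hXK hxX)).symm
    have hZw : Subgroup.zpowers w ≤
        Cfsg.sigmaCore M ⊓ Subgroup.centralizer (K : Set G) := by
      rw [← hKs]; exact Subgroup.zpowers_le.mpr hwKs
    have hu := P.uniq (Subgroup.zpowers w) hZw (by rw [Nat.card_zpowers, hw]; exact hr)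
    rw [centralizer_zpowers_eq] at hu
    exact mem_kappa_of_commute_of_uniq hG hMs hne hr hrσs (hKsMs hwKs) hw hxσ hx1 hwx hu.2
  -- Step 3: the Hall `κ(M*)`-subgroup `K₁ ⊇ K*`
  obtain ⟨K₁, hK₁, hKsK₁⟩ := exists_hall_ge (π := Cfsg.kappa Ms) hsolvMs hKsMs hKsκ
  have hKs1 : Ks ≠ ⊥ := hKs ▸ P.kstar_ne
  have hK₁1 : K₁ ≠ ⊥ := by
    intro h
    apply hKs1
    rw [eq_bot_iff, ← h]; exact hKsK₁
  have P₁ := h142 Ms K₁ hMs hK₁ hK₁1
  obtain ⟨Ks₁, hKs₁⟩ : ∃ Ks₁ : Subgroup G,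
      Ks₁ = Cfsg.sigmaCore Ms ⊓ Subgroup.centralizer (K₁ : Set G) := ⟨_, rfl⟩
  -- a nonidentity element `y` of `K*`, and a subgroup `R ≤ K*` of prime order
  obtain ⟨⟨y, hyKs⟩, hy1⟩ := (Subgroup.ne_bot_iff_exists_ne_one).1 hKs1
  have hy1' : y ≠ 1 := fun h => hy1 (Subtype.ext h)
  have hyσ : y ∈ Cfsg.sigmaCore M := by
    have := hyKs; rw [hKs] at this; exact this.1
  have hyK₁ : y ∈ K₁ := hKsK₁ hyKs
  obtain ⟨r, hr, hrd⟩ := Nat.exists_prime_and_dvd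
    (show Nat.card Ks ≠ 1 from fun h => hKs1 (Subgroup.card_eq_one.mp h))
  haveI := Fact.mk hr
  obtain ⟨w, hwKs, hw⟩ : ∃ w ∈ Ks, orderOf w = r := by
    obtain ⟨w', hw'⟩ := exists_prime_orderOf_dvd_card' (G := ↥Ks) r hrd
    exact ⟨w', w'.2, by rw [Subgroup.orderOf_coe]; exact hw'⟩
  obtain ⟨R, hRdef⟩ : ∃ R : Subgroup G, R = Subgroup.zpowers w := ⟨_, rfl⟩
  have hRKs : R ≤ Ks := by rw [hRdef]; exact Subgroup.zpowers_le.mpr hwKs
  have hRcard : Nat.card R = r := by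
    rw [hRdef, Nat.card_zpowers]; exact hw
  have hRp : (Nat.card R).Prime := hRcard ▸ hr
  have hR1 : R ≠ ⊥ := by
    intro h
    rw [h, Subgroup.card_bot] at hRcard
    exact hr.one_lt.ne hRcard
  have hRM : R ≤ M := (hRKs.trans (hKs ▸ inf_le_left)).trans Cfsg.Agent.Lead.BG12.sigmaCore_le
  have huR := P.uniq R (hKs ▸ hRKs) hRp
  have hNR : Subgroup.normalizer (R : Set G) ≤ M :=
    normalizer_le_of_uniq hG hR1 (ne_top_of_le_coatom hM hRM) huR.2
  -- `X ≤ K₁*`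
  have hXKs₁ : X ≤ Ks₁ := by
    rw [hKs₁, ← P₁.prime_action y hyK₁ hy1']
    refine le_inf hXσ ?_
    intro z hz
    rw [Subgroup.mem_centralizer_singleton_iff]
    have h1 : y ∈ Subgroup.centralizer (K : Set G) := by
      have := hyKs; rw [hKs] at this; exact this.2
    exact (Subgroup.mem_centralizer_iff.mp h1 z (hXK hz))
  -- `K₁ K₁* = N_{M*}(R) ≤ M`
  have hNR₁ := P₁.norm_eq R (hRKs.trans hKsK₁) hRp
  rw [← hKs₁] at hNR₁
  have hZ₁M : K₁ ⊔ Ks₁ ≤ M := by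
    rw [← hNR₁]; exact inf_le_right.trans hNR
  have hK₁M : K₁ ≤ M := le_sup_left.trans hZ₁M
  have hKs₁M : Ks₁ ≤ M := le_sup_right.trans hZ₁M
  -- Step 4: `K₁*` is a `κ(M)`-group
  have hKs₁κ : ∀ t : ℕ, t.Prime → t ∣ Nat.card Ks₁ → t ∈ Cfsg.kappa M := by
    intro t ht htd
    haveI := Fact.mk ht
    have htσs : t ∈ Cfsg.sigma Ms := by
      apply Cfsg.Agent.Lead.BG12.mem_sigma_of_dvd_card_sigmaCore ht
      rw [hKs₁] at htd
      exact htd.trans (Subgroup.card_dvd_of_le inf_le_left)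
    have htσ : t ∉ Cfsg.sigma M := fun h => hdisj t h htσs
    obtain ⟨v, hvKs₁, hv⟩ : ∃ v ∈ Ks₁, orderOf v = t := by
      obtain ⟨v', hv'⟩ := exists_prime_orderOf_dvd_card' (G := ↥Ks₁) t htd
      exact ⟨v', v'.2, by rw [Subgroup.orderOf_coe]; exact hv'⟩
    have hvy : v * y = y * v := by
      have h1 : v ∈ Subgroup.centralizer (K₁ : Set G) := by
        have := hvKs₁
        rw [hKs₁] at this
        exact this.2
      exact (Subgroup.mem_centralizer_iff.mp h1 y hyK₁).symm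
    have hZv : Subgroup.zpowers v ≤
        Cfsg.sigmaCore Ms ⊓ Subgroup.centralizer (K₁ : Set G) := by
      rw [← hKs₁]; exact Subgroup.zpowers_le.mpr hvKs₁
    have hu := P₁.uniq (Subgroup.zpowers v) hZv (by rw [Nat.card_zpowers, hv]; exact ht)
    rw [centralizer_zpowers_eq] at hu
    exact mem_kappa_of_commute_of_uniq hG hM hne.symm ht htσ (hKs₁M hvKs₁) hv hyσ hy1' hvy hu.2
  -- `K₁* ≤ K`
  have hX1 : X ≠ ⊥ := by
    intro h
    apply hx1
    have : x ∈ (⊥ : Subgroup G) := h ▸ hxX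
    exact Subgroup.mem_bot.mp this
  have hZnormK : K ⊔ Ks ≤ Subgroup.normalizer (K : Set G) := by
    apply sup_le Subgroup.le_normalizer
    rw [hKs]
    exact inf_le_right.trans (Subgroup.centralizer_le_normalizer _)
  have hKs₁K : Ks₁ ≤ K := by
    obtain ⟨m, hm, hle⟩ := exists_conj_ge_of_hall hsolvM hK hKs₁M hKs₁κ
    have hmZ : m ∈ K ⊔ Ks := by
      by_contra hmn
      have h1 := P.ti_K m hm (hKs ▸ hmn)
      apply hX1
      rw [eq_bot_iff, ← h1]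
      exact le_inf hXK (hXKs₁.trans hle)
    have hmK : K.map (MulAut.conj m).toMonoidHom = K :=
      Subgroup.mem_normalizer_iff_map_conj_eq.mp (hZnormK hmZ)
    rw [hmK] at hle
    exact hle
  -- Step 5
  have hK₁Z : K₁ ≤ K ⊔ Ks := by
    rw [← hZeq]
    refine le_inf hK₁M ?_
    refine le_trans ?_ (Subgroup.centralizer_le_normalizer _)
    intro k hk
    rw [Subgroup.mem_centralizer_iff]
    intro z hz
    have h1 : z ∈ Subgroup.centralizer (K₁ : Set G) := by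
      have := hXKs₁ hz
      rw [hKs₁] at this
      exact this.2
    exact (Subgroup.mem_centralizer_iff.mp h1 k hk).symm
  have hKZ₁ : K ≤ K₁ ⊔ Ks₁ := by
    rw [← hNR₁]
    refine le_inf hKMs ?_
    refine le_trans ?_ (Subgroup.centralizer_le_normalizer _)
    intro k hk
    rw [Subgroup.mem_centralizer_iff]
    intro z hz
    have h1 : z ∈ Subgroup.centralizer (K : Set G) := by
      have := hRKs hz
      rw [hKs] at this
      exact this.2
    exact (Subgroup.mem_centralizer_iff.mp h1 k hk).symm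
  have hZZ₁ : K ⊔ Ks = K₁ ⊔ Ks₁ :=
    le_antisymm (sup_le hKZ₁ (hKsK₁.trans le_sup_left))
      (sup_le hK₁Z (hKs₁K.trans le_sup_left))
  -- Step 6: `M*_σ ∩ M = K₁*`
  have hσσ : Cfsg.sigmaCore M ⊓ Cfsg.sigmaCore Ms = ⊥ := by
    rw [← Subgroup.card_eq_one]
    by_contra hcon
    obtain ⟨t, ht, htd⟩ := Nat.exists_prime_and_dvd hcon
    exact hdisj t
      (Cfsg.Agent.Lead.BG12.mem_sigma_of_dvd_card_sigmaCore ht
        (htd.trans (Subgroup.card_dvd_of_le inf_le_left)))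
      (Cfsg.Agent.Lead.BG12.mem_sigma_of_dvd_card_sigmaCore ht
        (htd.trans (Subgroup.card_dvd_of_le inf_le_right)))
  have hyMs : y ∈ Ms := hKsMs hyKs
  have hσinf : Cfsg.sigmaCore Ms ⊓ M = Ks₁ := by
    apply le_antisymm
    · intro f hf
      rw [hKs₁, ← P₁.prime_action y hyK₁ hy1']
      refine ⟨hf.1, ?_⟩
      change f ∈ Subgroup.centralizer ({y} : Set G)
      rw [Subgroup.mem_centralizer_singleton_iff]
      -- the commutator lies in `M_σ ∩ M*_σ = 1`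
      have h1 : f * y * f⁻¹ * y⁻¹ ∈ Cfsg.sigmaCore M := by
        have hn := Cfsg.Agent.Lead.BG12.le_normalizer_sigmaCore M hf.2
        exact Subgroup.mul_mem _ ((Subgroup.mem_normalizer_iff.mp hn y).mp hyσ)
          (Subgroup.inv_mem _ hyσ)
      have h2 : f * y * f⁻¹ * y⁻¹ ∈ Cfsg.sigmaCore Ms := by
        have hn := Cfsg.Agent.Lead.BG12.le_normalizer_sigmaCore Ms hyMs
        have h3 : y * f⁻¹ * y⁻¹ ∈ Cfsg.sigmaCore Ms :=
          (Subgroup.mem_normalizer_iff.mp hn f⁻¹).mp (Subgroup.inv_mem _ hf.1)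
        have h4 : f * y * f⁻¹ * y⁻¹ = f * (y * f⁻¹ * y⁻¹) := by group
        rw [h4]
        exact Subgroup.mul_mem _ hf.1 h3
      have h5 : f * y * f⁻¹ * y⁻¹ ∈ Cfsg.sigmaCore M ⊓ Cfsg.sigmaCore Ms := ⟨h1, h2⟩
      rw [hσσ, Subgroup.mem_bot] at h5
      have h6 : f * y = y * f := by
        have : f * y = (f * y * f⁻¹ * y⁻¹) * (y * f) := by group
        rw [this, h5, one_mul]
      exact h6
    · exact le_inf (hKs₁ ▸ inf_le_left) hKs₁M
  -- Step 7: `M ∩ M* = Z`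
  have hinf : M ⊓ Ms = K ⊔ Ks := by
    apply le_antisymm
    · intro d hd
      by_contra hdn
      have h1 := P.ti_K d hd.1 (hKs ▸ hdn)
      apply hX1
      rw [eq_bot_iff, ← h1]
      refine le_inf hXK ?_
      -- `d` normalizes `K₁* = M*_σ ∩ M`
      intro z hz
      have hz1 : z ∈ Ks₁ := hXKs₁ hz
      have hz2 : d⁻¹ * z * d ∈ Cfsg.sigmaCore Ms ⊓ M := by
        rw [← hσinf] at hz1
        refine ⟨?_, M.mul_mem (M.mul_mem (M.inv_mem hd.1) hz1.2) hd.1⟩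
        have hn := Cfsg.Agent.Lead.BG12.le_normalizer_sigmaCore Ms (Ms.inv_mem hd.2)
        have := (Subgroup.mem_normalizer_iff.mp hn z).mp hz1.1
        simpa using this
      rw [hσinf] at hz2
      refine ⟨d⁻¹ * z * d, hKs₁K hz2, ?_⟩
      simp only [MulEquiv.coe_toMonoidHom, MulAut.conj_apply]
      group
    · exact le_inf (hKs ▸ Z_le hK) hZMs
  refine ⟨K₁, ⟨hK₁, hK₁1, hKs ▸ hKsK₁, hKs ▸ hK₁Z, hKs₁ ▸ hKs₁K, ?_, hKs ▸ hinf, hnc,
    hKs₁ ▸ hσinf, hdisj⟩, hKs₁ ▸ hXKs₁⟩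
  rw [← hKs, ← hKs₁]
  exact hZZ₁

end Cfsg.Agent.Helper1.BG147
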