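import Mathlib
import Cfsg.Prelude
import Cfsg.Agent.Helper1.BG147c
import Cfsg.Agent.S1429
import Cfsg.Agent.S1446

set_option autoImplicit false
set_option linter.unusedSectionVars false
set_option linter.unusedVariables false
set_option maxHeartbeats 800000

/-!
Bender–Glauberman Theorem 14.7: primality of `|K|` when `M` is not of type `P₁`.
-/

namespace Cfsg.Agent.Helper1.BG147

open Cfsg
open scoped commutatorElement Pointwise

universe u

variable {G : Type u} [Group G] [Finite G]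

/-- If `U` is a Hall `(κ ∪ σ)'`-subgroup of `M` and `M` is not of type `P₁` then
`C_{M_σ}(U) = 1`. -/
theorem sigmaCore_inf_centralizer_hall_eq_bot (hG : Cfsg.IsMinSimpleOddOrder G) {M U : Subgroup G}
    (hM : IsCoatom M)
    (hU : Cfsg.IsPiHallOf {q | q.Prime ∧ q ∉ Cfsg.kappa M ∧ q ∉ Cfsg.sigma M} U M)
    {q : ℕ} (hq : q.Prime) (hqM : q ∣ Nat.card M) (hqκ : q ∉ Cfsg.kappa M)
    (hqσ : q ∉ Cfsg.sigma M) :
    Cfsg.sigmaCore M ⊓ Subgroup.centralizer (U : Set G) = ⊥ ∧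
      Group.IsNilpotent (Cfsg.sigmaCore M) := by
  classical
  haveI := Fact.mk hq
  haveI hsolvM : Group.IsSolvable ↥M := hG.2.2.2 M hM.1
  have hP1 : ¬ (∀ t : ℕ, t.Prime → t ∣ Nat.card M → t ∉ Cfsg.sigma M → t ∈ Cfsg.kappa M) :=
    fun h => hqκ (h q hq hqM hqσ)
  have hS : Nonempty (Sylow q M) := inferInstance
  obtain ⟨S⟩ := hS
  have h29 := Cfsg.Agent.S1429.result hG M hM hP1 q hqM
    (by rw [Set.mem_union, not_or]; exact ⟨hqσ, hqκ⟩) S
  refine ⟨?_, h29.2.2⟩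
  obtain ⟨A, hA⟩ : ∃ A : Subgroup G, A = Subgroup.closure
      {x : G | x ∈ (S : Subgroup M).map M.subtype ∧ x ^ q = 1} := ⟨_, rfl⟩
  have hCA : Cfsg.sigmaCore M ⊓ Subgroup.centralizer (A : Set G) = ⊥ := by
    rw [hA]; exact h29.2.1
  have hAT : A ≤ (S : Subgroup M).map M.subtype := by
    rw [hA, Subgroup.closure_le]
    intro x hx
    exact hx.1
  have hTM : (S : Subgroup M).map M.subtype ≤ M := Subgroup.map_subtype_le _
  have hTq : ∀ r : ℕ, r.Prime → r ∣ Nat.card ↥((S : Subgroup M).map M.subtype) →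
      r ∈ {q | q.Prime ∧ q ∉ Cfsg.kappa M ∧ q ∉ Cfsg.sigma M} := by
    intro r hr hrd
    have hpg : IsPGroup q ↥((S : Subgroup M).map M.subtype) :=
      S.isPGroup'.map _
    obtain ⟨n, hn⟩ := IsPGroup.iff_card.mp hpg
    rw [hn] at hrd
    have : r = q := (Nat.prime_dvd_prime_iff_eq hr hq).mp (hr.dvd_of_dvd_pow hrd)
    rw [this]
    exact ⟨hq, hqκ, hqσ⟩
  obtain ⟨m, hmM, hTm⟩ := exists_conj_ge_of_hall hsolvM hU hTM hTq
  rw [eq_bot_iff]
  intro x hx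
  rw [Subgroup.mem_bot]
  -- `m x m⁻¹ ∈ M_σ ∩ C(U^m) ≤ M_σ ∩ C(A) = 1`
  have h1 : m * x * m⁻¹ ∈ Cfsg.sigmaCore M := by
    have hn := Cfsg.Agent.Lead.BG12.le_normalizer_sigmaCore M hmM
    exact (Subgroup.mem_normalizer_iff.mp hn x).mp hx.1
  have h2 : m * x * m⁻¹ ∈ Subgroup.centralizer (A : Set G) := by
    rw [Subgroup.mem_centralizer_iff]
    intro a ha
    have ha' := hTm (hAT ha)
    rw [Subgroup.mem_map] at ha'
    obtain ⟨u, hu, hua⟩ := ha'
    have hxu := Subgroup.mem_centralizer_iff.mp hx.2 u hu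
    rw [← hua]
    simp only [MulEquiv.coe_toMonoidHom, MulAut.conj_apply]
    calc m * u * m⁻¹ * (m * x * m⁻¹) = m * (u * x) * m⁻¹ := by group
      _ = m * (x * u) * m⁻¹ := by rw [hxu]
      _ = m * x * m⁻¹ * (m * u * m⁻¹) := by group
  have h3 : m * x * m⁻¹ ∈ Cfsg.sigmaCore M ⊓ Subgroup.centralizer (A : Set G) := ⟨h1, h2⟩
  rw [hCA, Subgroup.mem_bot] at h3
  have : x = m⁻¹ * (m * x * m⁻¹) * m := by group
  rw [this, h3]; group

/-- **Primality** (BG 14.7, via BG 3.10 = S1446): if `M` is not of type `P₁`, then `|K|` is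
prime and `|M_σ| = |K*| ^ |K|`. -/
theorem card_K_prime (hG : Cfsg.IsMinSimpleOddOrder G) (h142 : Hyp142 G) {M K : Subgroup G}
    (hM : IsCoatom M) (hK : Cfsg.IsPiHallOf (Cfsg.kappa M) K M) (hK1 : K ≠ ⊥)
    {q : ℕ} (hq : q.Prime) (hqM : q ∣ Nat.card M) (hqκ : q ∉ Cfsg.kappa M)
    (hqσ : q ∉ Cfsg.sigma M) :
    (Nat.card K).Prime ∧
      Nat.card ↥(Cfsg.sigmaCore M) =
        Nat.card ↥(Cfsg.sigmaCore M ⊓ Subgroup.centralizer (K : Set G)) ^ Nat.card K := by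
  classical
  have P := h142 M K hM hK hK1
  obtain ⟨U, hUab, hUhall, hKU, hUfrob⟩ := P.exU
  haveI hsolvM : Group.IsSolvable ↥M := hG.2.2.2 M hM.1
  obtain ⟨hCU, hnil⟩ := sigmaCore_inf_centralizer_hall_eq_bot hG hM hUhall hq hqM hqκ hqσ
  -- `U ≠ ⊥`
  have hU1 : U ≠ ⊥ := by
    intro h
    have h1 := hUhall.2.2 q hq ⟨hq, hqκ, hqσ⟩
    apply h1
    rw [h, Subgroup.relIndex_bot_left]
    exact hqM
  -- `U ⊓ K = ⊥`
  have hcopUK : (Nat.card U).Coprime (Nat.card K) := by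
    apply Nat.coprime_of_dvd
    intro t ht h1 h2
    exact (hUhall.2.1 t ht h1).2.1 (hK.2.1 t ht h2)
  have hUK : U ⊓ K = ⊥ := (Subgroup.disjoint_of_coprime_natCard hcopUK).eq_bot
  have hUKM : U ⊔ K ≤ M := sup_le hUhall.1 hK.1
  have hcard : Nat.card ↥(U ⊔ K) = Nat.card K * Nat.card U :=
    Cfsg.Agent.Helper1.card_sup_of_le_normalizer hKU (by rw [inf_comm]; exact hUK)
  have hcop : (Nat.card ↥(U ⊔ K)).Coprime (Nat.card ↥(Cfsg.sigmaCore M)) := by
    apply Nat.coprime_of_dvd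
    intro t ht h1 h2
    have hσ := Cfsg.Agent.Lead.BG12.mem_sigma_of_dvd_card_sigmaCore ht h2
    rw [hcard] at h1
    rcases (Nat.Prime.dvd_mul ht).mp h1 with h | h
    · exact (hK.2.1 t ht h).2.2.1 hσ
    · exact (hUhall.2.1 t ht h).2.2 hσ
  have hodd : Odd (Nat.card ↥(U ⊔ K)) := by
    have := hG.1
    exact Odd.of_dvd_nat this (Subgroup.card_subgroup_dvd_card _)
  have hM1 : Cfsg.sigmaCore M ≠ ⊥ := by
    intro h
    apply P.kstar_ne
    rw [h, bot_inf_eq]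
  have h46 := Cfsg.Agent.S1446.result U K (Cfsg.sigmaCore M) hU1 hK1 hUK hKU hUfrob
    (Cfsg.Agent.Helper1.isSolvable_of_le hUKM hsolvM) hodd hM1 hnil
    (hUhall.1.trans (Cfsg.Agent.Lead.BG12.le_normalizer_sigmaCore M))
    (hK.1.trans (Cfsg.Agent.Lead.BG12.le_normalizer_sigmaCore M)) hcop hCU P.prime_action
  exact ⟨h46.1, h46.2.1⟩

end Cfsg.Agent.Helper1.BG147
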