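import Mathlib
import Cfsg.Prelude
import Cfsg.Agent.Helper1.BG147d

set_option autoImplicit false
set_option linter.unusedSectionVars false
set_option linter.unusedVariables false
set_option maxHeartbeats 800000

/-!
Bender–Glauberman Theorem 14.7: the family of maximal subgroups attached to `Z = K × K*`.
-/

namespace Cfsg.Agent.Helper1.BG147

open Cfsg
open scoped commutatorElement Pointwise

universe u

variable {G : Type u} [Group G] [Finite G]

/-- Elements of `K ⊔ K*` are products. -/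
theorem exists_mul_of_mem_Z {M K : Subgroup G} {x : G}
    (hx : x ∈ K ⊔ (Cfsg.sigmaCore M ⊓ Subgroup.centralizer (K : Set G))) :
    ∃ n ∈ Cfsg.sigmaCore M ⊓ Subgroup.centralizer (K : Set G), ∃ a ∈ K, x = n * a ∧
      n * a = a * n := by
  rw [sup_comm] at hx
  obtain ⟨n, hn, a, ha, rfl⟩ :=
    Cfsg.Agent.Helper1.mem_sup_of_le_normalizer (le_normalizer_kstar M K) hx
  exact ⟨n, hn, a, ha, rfl, (Subgroup.mem_centralizer_iff.mp hn.2 a ha).symm⟩

/-- A prime-order subgroup of `K ⊔ K*` lies in `K` or in `K*`. -/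
theorem prime_le_or_le {M K X : Subgroup G} (hK : Cfsg.IsPiHallOf (Cfsg.kappa M) K M)
    (hX : X ≤ K ⊔ (Cfsg.sigmaCore M ⊓ Subgroup.centralizer (K : Set G)))
    (hXp : (Nat.card X).Prime) :
    X ≤ K ∨ X ≤ Cfsg.sigmaCore M ⊓ Subgroup.centralizer (K : Set G) := by
  obtain ⟨x, hxX, hx1, hxo, hXgen⟩ := exists_gen_of_card_prime hXp
  obtain ⟨n, hn, a, ha, hxna, hcomm⟩ := exists_mul_of_mem_Z (hX hxX)
  have hcop : (orderOf n).Coprime (orderOf a) := by
    have h1 : orderOf n ∣ Nat.card ↥(Cfsg.sigmaCore M ⊓ Subgroup.centralizer (K : Set G)) :=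
      Subgroup.orderOf_dvd_natCard _ hn
    have h2 : orderOf a ∣ Nat.card K := Subgroup.orderOf_dvd_natCard _ ha
    exact ((coprime_card_kstar hK).symm.coprime_dvd_left h1).coprime_dvd_right h2
  have ho : orderOf x = orderOf n * orderOf a := by
    rw [hxna]
    exact Commute.orderOf_mul_eq_mul_orderOf_of_coprime hcomm hcop
  rw [hxo] at ho
  rw [ho] at hXp
  rcases (Nat.prime_mul_iff.mp hXp) with ⟨-, h⟩ | ⟨-, h⟩
  · right
    have ha1 : a = 1 := orderOf_eq_one_iff.mp h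
    rw [ha1, mul_one] at hxna
    rw [hXgen, Subgroup.zpowers_le, hxna]
    exact hn
  · left
    have hn1 : n = 1 := orderOf_eq_one_iff.mp h
    rw [hn1, one_mul] at hxna
    rw [hXgen, Subgroup.zpowers_le, hxna]
    exact ha

/-- `Z ∩ M_σ = K*`. -/
theorem Z_inf_sigmaCore {M K : Subgroup G} (hK : Cfsg.IsPiHallOf (Cfsg.kappa M) K M) :
    (K ⊔ (Cfsg.sigmaCore M ⊓ Subgroup.centralizer (K : Set G))) ⊓ Cfsg.sigmaCore M =
      Cfsg.sigmaCore M ⊓ Subgroup.centralizer (K : Set G) := by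
  apply le_antisymm
  · intro x hx
    obtain ⟨n, hn, a, ha, hxna, hcomm⟩ := exists_mul_of_mem_Z hx.1
    have ha' : a ∈ K ⊓ Cfsg.sigmaCore M := by
      refine ⟨ha, ?_⟩
      have : a = n⁻¹ * x := by rw [hxna]; group
      rw [this]
      exact Subgroup.mul_mem _ (Subgroup.inv_mem _ hn.1) hx.2
    rw [Cfsg.Agent.Helper4.BG14.kappa_inf_sigmaCore_eq_bot hK.2.1, Subgroup.mem_bot] at ha'
    rw [hxna, ha', mul_one]
    exact hn
  · exact le_inf le_sup_right inf_le_left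

/-- `Member Z L J`: the maximal subgroup `L` belongs to the family of `Z`, with witness `J`
(a nontrivial Hall `κ(L)`-subgroup of `L` with `Z = J × J*`). -/
structure Member (Z L J : Subgroup G) : Prop where
  coatom : IsCoatom L
  hall : Cfsg.IsPiHallOf (Cfsg.kappa L) J L
  ne_bot : J ≠ ⊥
  Z_eq : Z = J ⊔ (Cfsg.sigmaCore L ⊓ Subgroup.centralizer (J : Set G))

theorem Member.le {Z L J : Subgroup G} (m : Member Z L J) : Z ≤ L := by
  rw [m.Z_eq]; exact Z_le m.hall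

theorem Member.Z_inf {Z L J : Subgroup G} (m : Member Z L J) :
    Z ⊓ Cfsg.sigmaCore L = Cfsg.sigmaCore L ⊓ Subgroup.centralizer (J : Set G) := by
  rw [m.Z_eq]; exact Z_inf_sigmaCore m.hall

/-- A subgroup of prime order exists in every nontrivial subgroup. -/
theorem exists_prime_subgroup {R : Subgroup G} (hR : R ≠ ⊥) :
    ∃ Y : Subgroup G, Y ≤ R ∧ (Nat.card Y).Prime := by
  obtain ⟨r, hr, hrd⟩ := Nat.exists_prime_and_dvd
    (show Nat.card R ≠ 1 from fun h => hR (Subgroup.card_eq_one.mp h))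
  haveI := Fact.mk hr
  obtain ⟨w, hwR, hw⟩ : ∃ w ∈ R, orderOf w = r := by
    obtain ⟨w', hw'⟩ := exists_prime_orderOf_dvd_card' (G := ↥R) r hrd
    exact ⟨w', w'.2, by rw [Subgroup.orderOf_coe]; exact hw'⟩
  exact ⟨Subgroup.zpowers w, Subgroup.zpowers_le.mpr hwR, by rw [Nat.card_zpowers, hw]; exact hr⟩

theorem ne_bot_of_card_prime {Y : Subgroup G} (hY : (Nat.card Y).Prime) : Y ≠ ⊥ := by
  intro h
  rw [h, Subgroup.card_bot] at hY
  exact Nat.not_prime_one hY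

/-- Two distinct members of the family of `Z`: the second is a partner of the first. -/
theorem Member.exists_partner (hG : Cfsg.IsMinSimpleOddOrder G) (h142 : Hyp142 G)
    {Z L J L' J' : Subgroup G} (m : Member Z L J) (m' : Member Z L' J') (hne : L ≠ L') :
    ∃ Y : Subgroup G, Y ≤ J ∧ (Nat.card Y).Prime ∧
      Subgroup.normalizer (Y : Set G) ≤ L' := by
  have P := h142 L J m.coatom m.hall m.ne_bot
  have P' := h142 L' J' m'.coatom m'.hall m'.ne_bot
  obtain ⟨Y, hYle, hYp⟩ := exists_prime_subgroup P'.kstar_ne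
  have hYZ : Y ≤ J ⊔ (Cfsg.sigmaCore L ⊓ Subgroup.centralizer (J : Set G)) := by
    rw [← m.Z_eq, m'.Z_eq]
    exact hYle.trans le_sup_right
  have hu' := P'.uniq Y hYle hYp
  rcases prime_le_or_le m.hall hYZ hYp with h | h
  · refine ⟨Y, h, hYp, ?_⟩
    exact normalizer_le_of_uniq hG (ne_bot_of_card_prime hYp)
      (ne_top_of_le_coatom m.coatom (h.trans m.hall.1)) hu'.2
  · exfalso
    have hu := P.uniq Y h hYp
    exact hne (hu'.2 L m.coatom hu.1)

/-- Two distinct members of the family of `Z` form a pair. -/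
theorem Member.exists_pair (hG : Cfsg.IsMinSimpleOddOrder G) (h142 : Hyp142 G)
    {Z L J L' J' : Subgroup G} (m : Member Z L J) (m' : Member Z L' J') (hne : L ≠ L') :
    ∃ K₁ : Subgroup G, Pair L J L' K₁ := by
  obtain ⟨Y, hYJ, hYp, hNY⟩ := m.exists_partner hG h142 m' hne
  obtain ⟨K₁, hP, -⟩ := pair hG h142 m.coatom m.hall m.ne_bot hYJ hYp m'.coatom hNY
  exact ⟨K₁, hP⟩

theorem Member.inf_eq (hG : Cfsg.IsMinSimpleOddOrder G) (h142 : Hyp142 G)
    {Z L J L' J' : Subgroup G} (m : Member Z L J) (m' : Member Z L' J') (hne : L ≠ L') :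
    L ⊓ L' = Z := by
  obtain ⟨K₁, hP⟩ := m.exists_pair hG h142 m' hne
  rw [hP.inf_eq, ← m.Z_eq]

theorem Member.not_conj (hG : Cfsg.IsMinSimpleOddOrder G) (h142 : Hyp142 G)
    {Z L J L' J' : Subgroup G} (m : Member Z L J) (m' : Member Z L' J') (hne : L ≠ L') :
    ∀ g : G, L' ≠ L.map (MulAut.conj g).toMonoidHom := by
  obtain ⟨K₁, hP⟩ := m.exists_pair hG h142 m' hne
  exact hP.not_conj

theorem Member.sigma_disj (hG : Cfsg.IsMinSimpleOddOrder G) (h142 : Hyp142 G)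
    {Z L J L' J' : Subgroup G} (m : Member Z L J) (m' : Member Z L' J') (hne : L ≠ L') :
    ∀ p : ℕ, p ∈ Cfsg.sigma L → p ∉ Cfsg.sigma L' := by
  obtain ⟨K₁, hP⟩ := m.exists_pair hG h142 m' hne
  exact hP.sigma_disj

/-- The partner of a member through a prime-order subgroup of its witness is a member. -/
theorem Member.partner (hG : Cfsg.IsMinSimpleOddOrder G) (h142 : Hyp142 G)
    {Z L J : Subgroup G} (m : Member Z L J) {X : Subgroup G} (hXJ : X ≤ J)
    (hXp : (Nat.card X).Prime) {Ms : Subgroup G} (hMs : IsCoatom Ms)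
    (hNX : Subgroup.normalizer (X : Set G) ≤ Ms) :
    ∃ K₁ : Subgroup G, Member Z Ms K₁ ∧ Pair L J Ms K₁ ∧
      X ≤ Cfsg.sigmaCore Ms ⊓ Subgroup.centralizer (K₁ : Set G) := by
  obtain ⟨K₁, hP, hX⟩ := pair hG h142 m.coatom m.hall m.ne_bot hXJ hXp hMs hNX
  exact ⟨K₁, ⟨hMs, hP.hall, hP.ne_bot, m.Z_eq.trans hP.Z_eq⟩, hP, hX⟩

/-- Every prime-order subgroup of the witness has a partner. -/
theorem Member.exists_partner_of_prime (hG : Cfsg.IsMinSimpleOddOrder G) (h142 : Hyp142 G)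
    {Z L J : Subgroup G} (m : Member Z L J) {X : Subgroup G} (hXJ : X ≤ J)
    (hXp : (Nat.card X).Prime) :
    ∃ Ms K₁ : Subgroup G, Subgroup.normalizer (X : Set G) ≤ Ms ∧ Member Z Ms K₁ ∧
      Pair L J Ms K₁ ∧ X ≤ Cfsg.sigmaCore Ms ⊓ Subgroup.centralizer (K₁ : Set G) := by
  have h := Cfsg.Agent.Helper1.BGU.normalizer_ne_top_of_simple hG (ne_bot_of_card_prime hXp)
    (ne_top_of_le_coatom m.coatom (hXJ.trans m.hall.1))
  obtain ⟨Ms, hMs, hNX⟩ := Cfsg.Agent.Helper1.BGU.exists_coatom_ge h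
  obtain ⟨K₁, h1, h2, h3⟩ := m.partner hG h142 hXJ hXp hMs hNX
  exact ⟨Ms, K₁, hNX, h1, h2, h3⟩

/-- The TI-property of `Z ∩ L_σ` for a member `L`. -/
theorem Member.ti (h142 : Hyp142 G) {Z L J : Subgroup G} (m : Member Z L J) {a : G}
    (ha : a ∈ Z ⊓ Cfsg.sigmaCore L) (ha1 : a ≠ 1) {g : G} (hg : g * a * g⁻¹ ∈ L) : g ∈ L := by
  by_contra hgL
  have P := h142 L J m.coatom m.hall m.ne_bot
  have hg' : g⁻¹ ∉ L := fun h => hgL (by simpa using Subgroup.inv_mem _ h)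
  have h1 := P.ti_kstar g⁻¹ hg'
  rw [m.Z_inf] at ha
  have h2 : a ∈ L.map (MulAut.conj g⁻¹).toMonoidHom := by
    refine ⟨g * a * g⁻¹, hg, ?_⟩
    simp only [MulEquiv.coe_toMonoidHom, MulAut.conj_apply]
    group
  have h3 : a ∈ (Cfsg.sigmaCore L ⊓ Subgroup.centralizer (J : Set G)) ⊓
      L.map (MulAut.conj g⁻¹).toMonoidHom := ⟨ha, h2⟩
  rw [h1, Subgroup.mem_bot] at h3
  exact ha1 h3

/-- A maximal subgroup whose `σ`-core contains a prime-order element of `J*` is `L`. -/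
theorem eq_of_mem_kstar_of_mem_sigmaCore (hG : Cfsg.IsMinSimpleOddOrder G) {L J L' : Subgroup G}
    (hL : IsCoatom L) (hL' : IsCoatom L') (P : P142 L J) {w : G} {q : ℕ} (hq : q.Prime)
    (hw : orderOf w = q) (hwJ : w ∈ Cfsg.sigmaCore L ⊓ Subgroup.centralizer (J : Set G))
    (hwL' : w ∈ Cfsg.sigmaCore L') : L' = L := by
  have h1 : q ∈ Cfsg.sigma L := Cfsg.Agent.Lead.BG12.mem_sigma_of_dvd_card_sigmaCore hq
    (hw ▸ Subgroup.orderOf_dvd_natCard _ hwJ.1)
  have h2 : q ∈ Cfsg.sigma L' := Cfsg.Agent.Lead.BG12.mem_sigma_of_dvd_card_sigmaCore hq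
    (hw ▸ Subgroup.orderOf_dvd_natCard _ hwL')
  obtain ⟨g, hg⟩ := Cfsg.Agent.Helper1.BGPart.exists_conj_of_mem_sigma_inter hG hL hL' h1 h2
  by_cases hgL : g ∈ L
  · rw [hg, Subgroup.conj_smul_eq_self_of_mem hgL]
  · exfalso
    have h3 := P.ti_kstar g hgL
    have h4 : w ∈ L.map (MulAut.conj g).toMonoidHom := by
      have : w ∈ L' := Cfsg.Agent.Lead.BG12.sigmaCore_le hwL'
      rw [hg, Subgroup.pointwise_smul_def] at this
      exact this
    have h5 : w ∈ (Cfsg.sigmaCore L ⊓ Subgroup.centralizer (J : Set G)) ⊓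
        L.map (MulAut.conj g).toMonoidHom := ⟨hwJ, h4⟩
    rw [h3, Subgroup.mem_bot] at h5
    rw [h5, orderOf_one] at hw
    exact hq.one_lt.ne hw

/-- Every maximal subgroup whose `σ`-core meets `Z` nontrivially is a member. -/
theorem Member.exists_of_inf_ne_bot (hG : Cfsg.IsMinSimpleOddOrder G) (h142 : Hyp142 G)
    {Z L J : Subgroup G} (m : Member Z L J) {L' : Subgroup G} (hL' : IsCoatom L')
    (hne : Z ⊓ Cfsg.sigmaCore L' ≠ ⊥) : ∃ J' : Subgroup G, Member Z L' J' := by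
  obtain ⟨Y, hYle, hYp⟩ := exists_prime_subgroup hne
  obtain ⟨w, hwY, hw1, hwo, hYgen⟩ := exists_gen_of_card_prime hYp
  have hYZ : Y ≤ J ⊔ (Cfsg.sigmaCore L ⊓ Subgroup.centralizer (J : Set G)) := by
    rw [← m.Z_eq]; exact hYle.trans inf_le_left
  have hwL' : w ∈ Cfsg.sigmaCore L' := (hYle hwY).2
  rcases prime_le_or_le m.hall hYZ hYp with h | h
  · obtain ⟨Ms, K₁, hNX, h1, h2, h3⟩ := m.exists_partner_of_prime hG h142 h hYp
    have P₁ := h142 Ms K₁ h1.coatom h1.hall h1.ne_bot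
    have := eq_of_mem_kstar_of_mem_sigmaCore hG h1.coatom hL' P₁ hYp hwo (h3 hwY) hwL'
    rw [this]
    exact ⟨K₁, h1⟩
  · have P := h142 L J m.coatom m.hall m.ne_bot
    have := eq_of_mem_kstar_of_mem_sigmaCore hG m.coatom hL' P hYp hwo (h hwY) hwL'
    rw [this]
    exact ⟨J, m⟩

/-- Every prime divisor of `|Z|` lies in `σ(L')` for some member `L'`. -/
theorem Member.exists_sigma (hG : Cfsg.IsMinSimpleOddOrder G) (h142 : Hyp142 G)
    {Z L J : Subgroup G} (m : Member Z L J) {q : ℕ} (hq : q.Prime) (hqZ : q ∣ Nat.card Z) :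
    ∃ L' J' : Subgroup G, Member Z L' J' ∧ q ∈ Cfsg.sigma L' := by
  haveI := Fact.mk hq
  rw [m.Z_eq, card_Z m.hall] at hqZ
  rcases (Nat.Prime.dvd_mul hq).mp hqZ with h | h
  · obtain ⟨w, hwJ, hw⟩ : ∃ w ∈ J, orderOf w = q := by
      obtain ⟨w', hw'⟩ := exists_prime_orderOf_dvd_card' (G := ↥J) q h
      exact ⟨w', w'.2, by rw [Subgroup.orderOf_coe]; exact hw'⟩
    have hYp : (Nat.card (Subgroup.zpowers w)).Prime := by rw [Nat.card_zpowers, hw]; exact hq
    obtain ⟨Ms, K₁, hNX, h1, h2, h3⟩ := m.exists_partner_of_prime hG h142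
      (Subgroup.zpowers_le.mpr hwJ) hYp
    refine ⟨Ms, K₁, h1, ?_⟩
    apply Cfsg.Agent.Lead.BG12.mem_sigma_of_dvd_card_sigmaCore hq
    have : w ∈ Cfsg.sigmaCore Ms := (h3 (Subgroup.mem_zpowers w)).1
    exact hw ▸ Subgroup.orderOf_dvd_natCard _ this
  · exact ⟨L, J, m, Cfsg.Agent.Lead.BG12.mem_sigma_of_dvd_card_sigmaCore hq
      (h.trans (Subgroup.card_dvd_of_le inf_le_left))⟩

end Cfsg.Agent.Helper1.BG147
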