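import Mathlib
import Cfsg.Prelude
import Cfsg.Agent.Helper1.BG147e
import Cfsg.Agent.Helper4.BG12b

set_option autoImplicit false
set_option linter.unusedSectionVars false
set_option linter.unusedVariables false
set_option maxHeartbeats 800000

/-!
Bender–Glauberman Theorem 14.7: the family has exactly two members.
-/

namespace Cfsg.Agent.Helper1.BG147

open Cfsg
open scoped commutatorElement Pointwise

universe u

variable {G : Type u} [Group G] [Finite G]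

/-- The counting statement (to be supplied by the counting argument of BG 14.7). -/
def CountKill (G : Type u) [Group G] [Finite G] : Prop :=
  ∀ (F : Finset (Subgroup G)) (Z : Subgroup G), 2 ≤ F.card →
    (∀ N ∈ F, IsCoatom N) → (∀ N ∈ F, Z ≤ N) →
    (∀ N ∈ F, ∀ N' ∈ F, N ≠ N' → ∀ g : G, N' ≠ MulAut.conj g • N) →
    (∀ N ∈ F, ∀ N' ∈ F, N ≠ N' → N ⊓ N' ≤ Z) →
    (∀ q : ℕ, q.Prime → q ∣ Nat.card Z → ∃ N ∈ F, q ∈ Cfsg.sigma N) →
    (∀ N ∈ F, ∀ a ∈ Z ⊓ Cfsg.sigmaCore N, a ≠ 1 → ∀ g : G, g * a * g⁻¹ ∈ N → g ∈ N) →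
    (∀ N ∈ F, Nat.card N * Nat.card ↥(Z ⊓ Cfsg.sigmaCore N) =
      Nat.card (Cfsg.sigmaCore N) * Nat.card Z) →
    (∀ N ∈ F, Z ⊓ Cfsg.sigmaCore N ≠ Cfsg.sigmaCore N) → False

/-- If every prime of `|L|` outside `σ(L)` lies in `κ(L)`, then `|L| = |L_σ| · |J|`. -/
theorem card_eq_of_P1 (hG : Cfsg.IsMinSimpleOddOrder G) {L J : Subgroup G} (hL : IsCoatom L)
    (hJ : Cfsg.IsPiHallOf (Cfsg.kappa L) J L)
    (hP1 : ∀ q : ℕ, q.Prime → q ∣ Nat.card L → q ∉ Cfsg.sigma L → q ∈ Cfsg.kappa L) :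
    Nat.card L = Nat.card (Cfsg.sigmaCore L) * Nat.card J := by
  obtain ⟨⟨hle, hπ, hidx⟩, -, -⟩ := Cfsg.Agent.Lead.BG12.sigmaCore_hall hG L hL
  have hJn : J ≤ Subgroup.normalizer ((Cfsg.sigmaCore L : Subgroup G) : Set G) :=
    hJ.1.trans (Cfsg.Agent.Lead.BG12.le_normalizer_sigmaCore L)
  have hdisj : J ⊓ Cfsg.sigmaCore L = ⊥ :=
    Cfsg.Agent.Helper4.BG14.kappa_inf_sigmaCore_eq_bot hJ.2.1
  have hcard := Cfsg.Agent.Helper1.card_sup_of_le_normalizer hJn hdisj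
  have hHL : Cfsg.sigmaCore L ⊔ J ≤ L := sup_le hle hJ.1
  have hrel : (Cfsg.sigmaCore L ⊔ J).relIndex L = 1 := by
    by_contra hne
    obtain ⟨t, ht, htd⟩ := Nat.exists_prime_and_dvd hne
    have h1 : (Cfsg.sigmaCore L ⊔ J).relIndex L ∣ (Cfsg.sigmaCore L).relIndex L :=
      Subgroup.relIndex_dvd_of_le_left L le_sup_left
    have h2 : (Cfsg.sigmaCore L ⊔ J).relIndex L ∣ J.relIndex L :=
      Subgroup.relIndex_dvd_of_le_left L le_sup_right
    have h3 : t ∣ Nat.card L := htd.trans (Subgroup.relIndex_dvd_card _ _)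
    by_cases htσ : t ∈ Cfsg.sigma L
    · exact hidx t ht htσ (htd.trans h1)
    · exact hJ.2.2 t ht (hP1 t ht h3 htσ) (htd.trans h2)
  have hLH : L ≤ Cfsg.sigmaCore L ⊔ J := Subgroup.relIndex_eq_one.mp hrel
  have hLeq : Nat.card L = Nat.card ↥(Cfsg.sigmaCore L ⊔ J) := by
    congr 1
    exact congrArg _ (le_antisymm hLH hHL)
  rw [hLeq, hcard, mul_comm]

/-- The witness of a member is unique. -/
theorem Member.witness_le {Z L J J' : Subgroup G} (m : Member Z L J) (m' : Member Z L J') :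
    J' ≤ J := by
  intro x hx
  have hxZ : x ∈ J ⊔ (Cfsg.sigmaCore L ⊓ Subgroup.centralizer (J : Set G)) := by
    rw [← m.Z_eq, m'.Z_eq]; exact Subgroup.mem_sup_left hx
  obtain ⟨n, hn, a, ha, hxna, hcomm⟩ := exists_mul_of_mem_Z hxZ
  have hcop : (orderOf n).Coprime (orderOf a) := by
    have h1 : orderOf n ∣ Nat.card ↥(Cfsg.sigmaCore L ⊓ Subgroup.centralizer (J : Set G)) :=
      Subgroup.orderOf_dvd_natCard _ hn
    have h2 : orderOf a ∣ Nat.card J := Subgroup.orderOf_dvd_natCard _ ha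
    exact ((coprime_card_kstar m.hall).symm.coprime_dvd_left h1).coprime_dvd_right h2
  have ho : orderOf x = orderOf n * orderOf a := by
    rw [hxna]
    exact Commute.orderOf_mul_eq_mul_orderOf_of_coprime hcomm hcop
  have hn1 : orderOf n = 1 := by
    by_contra hne
    obtain ⟨t, ht, htd⟩ := Nat.exists_prime_and_dvd hne
    have h1 : t ∣ Nat.card J' :=
      (htd.trans (Dvd.intro _ ho.symm)).trans (Subgroup.orderOf_dvd_natCard _ hx)
    have h2 : t ∈ Cfsg.sigma L := Cfsg.Agent.Lead.BG12.mem_sigma_of_dvd_card_sigmaCore ht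
      (htd.trans (Subgroup.orderOf_dvd_natCard _ hn.1))
    exact (m'.hall.2.1 t ht h1).2.2.1 h2
  rw [orderOf_eq_one_iff] at hn1
  rw [hxna, hn1, one_mul]
  exact ha

theorem Member.witness_eq {Z L J J' : Subgroup G} (m : Member Z L J) (m' : Member Z L J') :
    J = J' :=
  le_antisymm (m'.witness_le m) (m.witness_le m')

/-- Not every member of the family is of type `P₁`. -/
theorem Member.exists_not_P1 (hG : Cfsg.IsMinSimpleOddOrder G) (h142 : Hyp142 G)
    (hck : CountKill G) {Z L J : Subgroup G} (m : Member Z L J) :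
    ∃ N JN : Subgroup G, Member Z N JN ∧
      ∃ q : ℕ, q.Prime ∧ q ∣ Nat.card N ∧ q ∉ Cfsg.kappa N ∧ q ∉ Cfsg.sigma N := by
  classical
  by_contra hcon
  push Not at hcon
  obtain ⟨S, hS⟩ : ∃ S : Set (Subgroup G),
      S = {N | IsCoatom N ∧ Z ⊓ Cfsg.sigmaCore N ≠ ⊥} := ⟨_, rfl⟩
  have hSfin : S.Finite := Set.toFinite S
  obtain ⟨F, hF⟩ : ∃ F : Finset (Subgroup G), F = hSfin.toFinset := ⟨_, rfl⟩
  have hmemF : ∀ N, N ∈ F ↔ IsCoatom N ∧ Z ⊓ Cfsg.sigmaCore N ≠ ⊥ := by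
    intro N
    rw [hF, Set.Finite.mem_toFinset, hS]
    rfl
  have hwit : ∀ N ∈ F, ∃ JN, Member Z N JN := fun N hN =>
    m.exists_of_inf_ne_bot hG h142 ((hmemF N).1 hN).1 ((hmemF N).1 hN).2
  have hmem_of : ∀ N JN, Member Z N JN → N ∈ F := by
    intro N JN mN
    rw [hmemF]
    refine ⟨mN.coatom, ?_⟩
    rw [mN.Z_inf]
    exact (h142 N JN mN.coatom mN.hall mN.ne_bot).kstar_ne
  apply hck F Z
  · obtain ⟨X, hXJ, hXp⟩ := exists_prime_subgroup m.ne_bot
    obtain ⟨Ms, K₁, hNX, h1, h2, h3⟩ := m.exists_partner_of_prime hG h142 hXJ hXp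
    have hne : Ms ≠ L := by
      intro h
      apply h2.not_conj 1
      rw [h]; ext x; simp
    exact Finset.one_lt_card.mpr ⟨L, hmem_of L J m, Ms, hmem_of Ms K₁ h1, hne.symm⟩
  · intro N hN; exact ((hmemF N).1 hN).1
  · intro N hN; obtain ⟨JN, mN⟩ := hwit N hN; exact mN.le
  · intro N hN N' hN' hne g
    obtain ⟨JN, mN⟩ := hwit N hN
    obtain ⟨JN', mN'⟩ := hwit N' hN'
    have := mN.not_conj hG h142 mN' hne g
    rwa [Subgroup.pointwise_smul_def]
  · intro N hN N' hN' hne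
    obtain ⟨JN, mN⟩ := hwit N hN
    obtain ⟨JN', mN'⟩ := hwit N' hN'
    exact (mN.inf_eq hG h142 mN' hne).le
  · intro q hq hqZ
    obtain ⟨L', J', m', hq'⟩ := m.exists_sigma hG h142 hq hqZ
    exact ⟨L', hmem_of L' J' m', hq'⟩
  · intro N hN a ha ha1 g hg
    obtain ⟨JN, mN⟩ := hwit N hN
    exact mN.ti h142 ha ha1 hg
  · intro N hN
    obtain ⟨JN, mN⟩ := hwit N hN
    have hP1 : ∀ q : ℕ, q.Prime → q ∣ Nat.card N → q ∉ Cfsg.sigma N → q ∈ Cfsg.kappa N := by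
      intro q hq hqN hqσ
      by_contra hqκ
      exact hqσ (hcon N JN mN q hq hqN hqκ)
    rw [mN.Z_inf, card_eq_of_P1 hG mN.coatom mN.hall hP1, mN.Z_eq, card_Z mN.hall]
    ring
  · intro N hN
    obtain ⟨JN, mN⟩ := hwit N hN
    rw [mN.Z_inf]
    exact (h142 N JN mN.coatom mN.hall mN.ne_bot).kstar_lt

/-- "Not of type `P₁`": some prime divisor of `|M|` lies outside `σ(M) ∪ κ(M)`. -/
def NotP1 (M : Subgroup G) : Prop :=
  ∃ q : ℕ, q.Prime ∧ q ∣ Nat.card M ∧ q ∉ Cfsg.kappa M ∧ q ∉ Cfsg.sigma M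

/-- **The family has exactly two members**, one of which is not of type `P₁` and has a witness
of prime order. -/
theorem Member.two (hG : Cfsg.IsMinSimpleOddOrder G) (h142 : Hyp142 G)
    (hck : CountKill G) {Z M K : Subgroup G} (m : Member Z M K) :
    ∃ Ms K₁ : Subgroup G, Member Z Ms K₁ ∧ Ms ≠ M ∧
      (∀ L J : Subgroup G, Member Z L J → L = M ∨ L = Ms) ∧
      (((Nat.card K).Prime ∧ NotP1 M) ∨ ((Nat.card K₁).Prime ∧ NotP1 Ms)) := by
  obtain ⟨N, JN, mN, q, hq, hqN, hqκ, hqσ⟩ := m.exists_not_P1 hG h142 hck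
  have hJNp := (card_K_prime hG h142 mN.coatom mN.hall mN.ne_bot hq hqN hqκ hqσ).1
  obtain ⟨N', K', hNX, mN', hpair, hle⟩ := mN.exists_partner_of_prime hG h142 le_rfl hJNp
  have hN'ne : N' ≠ N := by
    intro h
    apply hpair.not_conj 1
    rw [h]; ext x; simp
  have P' := h142 N' K' mN'.coatom mN'.hall mN'.ne_bot
  have hu := P'.uniq JN hle hJNp
  have hall : ∀ L J : Subgroup G, Member Z L J → L = N ∨ L = N' := by
    intro L J mL
    by_cases h : L = N
    · left; exact h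
    · right
      obtain ⟨Y, hYJ, hYp, hNY⟩ := mN.exists_partner hG h142 mL (Ne.symm h)
      have hY : Y = JN := by
        apply Subgroup.eq_of_le_of_card_ge hYJ
        exact le_of_eq ((Nat.prime_dvd_prime_iff_eq hYp hJNp).mp
          (Subgroup.card_dvd_of_le hYJ)).symm
      rw [hY] at hNY
      exact hu.2 L mL.coatom ((Subgroup.centralizer_le_normalizer _).trans hNY)
  rcases hall M K m with h | h
  · subst h
    have hK : K = JN := m.witness_eq mN
    exact ⟨N', K', mN', hN'ne, hall, Or.inl ⟨hK ▸ hJNp, q, hq, hqN, hqκ, hqσ⟩⟩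
  · subst h
    exact ⟨N, JN, mN, hN'ne.symm, fun L J mL => (hall L J mL).symm,
      Or.inr ⟨hJNp, q, hq, hqN, hqκ, hqσ⟩⟩

/-- In a two-member family, the witness of one member is the `K*` of the other. -/
theorem Member.witness_eq_kstar (hG : Cfsg.IsMinSimpleOddOrder G) (h142 : Hyp142 G)
    {Z M K Ms K₁ : Subgroup G} (m : Member Z M K) (m₁ : Member Z Ms K₁) (hne : Ms ≠ M)
    (hall : ∀ L J : Subgroup G, Member Z L J → L = M ∨ L = Ms) :
    K = Cfsg.sigmaCore Ms ⊓ Subgroup.centralizer (K₁ : Set G) := by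
  have hKZ : K ≤ Z := by rw [m.Z_eq]; exact le_sup_left
  have hKσ : K ≤ Cfsg.sigmaCore Ms := by
    apply Cfsg.Agent.Helper4.BG12.le_sigmaCore_of_isPi hG m₁.coatom (hKZ.trans m₁.le)
    intro t ht htK
    obtain ⟨L', J', m', ht'⟩ := m.exists_sigma hG h142 ht
      (htK.trans (Subgroup.card_dvd_of_le hKZ))
    rcases hall L' J' m' with h | h
    · exfalso
      rw [h] at ht'
      exact (m.hall.2.1 t ht htK).2.2.1 ht'
    · rw [h] at ht'; exact ht'
  have hle : K ≤ Cfsg.sigmaCore Ms ⊓ Subgroup.centralizer (K₁ : Set G) := by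
    rw [← m₁.Z_inf]; exact le_inf hKZ hKσ
  apply Subgroup.eq_of_le_of_card_ge hle
  apply Nat.le_of_dvd Nat.card_pos
  have hdvd : Nat.card ↥(Cfsg.sigmaCore Ms ⊓ Subgroup.centralizer (K₁ : Set G)) ∣
      Nat.card K * Nat.card ↥(Cfsg.sigmaCore M ⊓ Subgroup.centralizer (K : Set G)) := by
    rw [← card_Z m.hall, ← m.Z_eq]
    apply Subgroup.card_dvd_of_le
    rw [m₁.Z_eq]; exact le_sup_right
  refine Nat.Coprime.dvd_of_dvd_mul_right ?_ hdvd
  apply Nat.coprime_of_dvd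
  intro t ht h1 h2
  have h3 : t ∈ Cfsg.sigma Ms := Cfsg.Agent.Lead.BG12.mem_sigma_of_dvd_card_sigmaCore ht
    (h1.trans (Subgroup.card_dvd_of_le inf_le_left))
  have h4 : t ∈ Cfsg.sigma M := Cfsg.Agent.Lead.BG12.mem_sigma_of_dvd_card_sigmaCore ht
    (h2.trans (Subgroup.card_dvd_of_le inf_le_left))
  exact m.sigma_disj hG h142 m₁ hne.symm t h4 h3

end Cfsg.Agent.Helper1.BG147
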