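import Mathlib
import Cfsg.Prelude
import Cfsg.Agent.Helper1.BG147f

set_option autoImplicit false
set_option linter.unusedSectionVars false
set_option linter.unusedVariables false
set_option maxHeartbeats 800000

/-!
Bender–Glauberman Theorem 14.7: the embedding `M*` and cyclicity of `K`.
-/

namespace Cfsg.Agent.Helper1.BG147

open Cfsg
open scoped commutatorElement Pointwise

universe u

variable {G : Type u} [Group G] [Finite G]

/-- A Hall `κ(M)`-subgroup of `M` has cyclic Sylow subgroups. -/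
theorem isZGroup_of_kappaHall {M K : Subgroup G} (hK : Cfsg.IsPiHallOf (Cfsg.kappa M) K M) :
    IsZGroup ↥K := by
  refine ⟨fun p hp P => ?_⟩
  haveI := Fact.mk hp
  by_cases hd : p ∣ Nat.card K
  · have hκ := hK.2.1 p hp hd
    have hPp : IsPGroup p ↥(((P : Subgroup ↥K).map K.subtype).subgroupOf M) :=
      (P.isPGroup'.map _).comap_subtype
    obtain ⟨Q, hQ⟩ := hPp.exists_le_sylow
    haveI : IsCyclic ↥(Q : Subgroup ↥M) := (hκ.2.2.2 Q).1
    let f : ↥(P : Subgroup ↥K) →* ↥(Q : Subgroup ↥M) :=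
      { toFun := fun x => ⟨⟨(x.1 : G), hK.1 x.1.2⟩, hQ (by
            rw [Subgroup.mem_subgroupOf]
            exact ⟨x.1, x.2, rfl⟩)⟩
        map_one' := rfl
        map_mul' := fun _ _ => rfl }
    have hf : Function.Injective f := by
      intro x y hxy
      have h1 := congrArg (fun z : ↥(Q : Subgroup ↥M) => ((z : ↥M) : G)) hxy
      exact Subtype.ext (Subtype.ext h1)
    exact isCyclic_of_injective f hf
  · have hc : Nat.card ↥(P : Subgroup ↥K) = 1 := by
      rw [Sylow.card_eq_multiplicity, Nat.factorization_eq_zero_of_not_dvd hd, pow_zero]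
    haveI : Subsingleton ↥(P : Subgroup ↥K) := (Nat.card_eq_one_iff_unique.mp hc).1
    exact isCyclic_of_subsingleton

/-- The embedding data of BG Theorem 14.7 for `(M, K)`. -/
structure Emb (M K Ms : Subgroup G) : Prop where
  coatom : IsCoatom Ms
  ne : Ms ≠ M
  K_eq : K = Cfsg.sigmaCore Ms ⊓ Subgroup.centralizer
    ((Cfsg.sigmaCore M ⊓ Subgroup.centralizer (K : Set G) : Subgroup G) : Set G)
  hall : Cfsg.IsPiHallOf (Cfsg.kappa Ms)
    (Cfsg.sigmaCore M ⊓ Subgroup.centralizer (K : Set G)) Ms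
  all : ∀ L J : Subgroup G,
    Member (K ⊔ (Cfsg.sigmaCore M ⊓ Subgroup.centralizer (K : Set G))) L J → L = M ∨ L = Ms
  prime : ((Nat.card K).Prime ∧ NotP1 M) ∨
    ((Nat.card ↥(Cfsg.sigmaCore M ⊓ Subgroup.centralizer (K : Set G))).Prime ∧ NotP1 Ms)

theorem member_self {M K : Subgroup G} (hM : IsCoatom M)
    (hK : Cfsg.IsPiHallOf (Cfsg.kappa M) K M) (hK1 : K ≠ ⊥) :
    Member (K ⊔ (Cfsg.sigmaCore M ⊓ Subgroup.centralizer (K : Set G))) M K :=
  ⟨hM, hK, hK1, rfl⟩

/-- **Existence of `M*`** (BG Theorem 14.7). -/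
theorem exists_emb (hG : Cfsg.IsMinSimpleOddOrder G) (h142 : Hyp142 G) (hck : CountKill G)
    {M K : Subgroup G} (hM : IsCoatom M) (hK : Cfsg.IsPiHallOf (Cfsg.kappa M) K M)
    (hK1 : K ≠ ⊥) : ∃ Ms : Subgroup G, Emb M K Ms := by
  have m := member_self hM hK hK1
  obtain ⟨Ms, K₁, m₁, hne, hall, hpr⟩ := m.two hG h142 hck
  have h1 := m.witness_eq_kstar hG h142 m₁ hne hall
  have h2 := m₁.witness_eq_kstar hG h142 m hne.symm (fun L J mL => (hall L J mL).symm)
  subst h2
  exact ⟨Ms, m₁.coatom, hne, h1, m₁.hall, hall, hpr⟩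

/-- The member attached to an embedding. -/
theorem Emb.member {M K Ms : Subgroup G} (e : Emb M K Ms) (P : P142 M K) :
    Member (K ⊔ (Cfsg.sigmaCore M ⊓ Subgroup.centralizer (K : Set G))) Ms
      (Cfsg.sigmaCore M ⊓ Subgroup.centralizer (K : Set G)) := by
  refine ⟨e.coatom, e.hall, P.kstar_ne, ?_⟩
  rw [← e.K_eq, sup_comm]

/-- **Uniqueness of `M*`**. -/
theorem Emb.unique {M K Ms : Subgroup G} (e : Emb M K Ms) (P : P142 M K)
    (hK : Cfsg.IsPiHallOf (Cfsg.kappa M) K M) {M' : Subgroup G}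
    (hM' : IsCoatom M')
    (hK' : K = Cfsg.sigmaCore M' ⊓ Subgroup.centralizer
      ((Cfsg.sigmaCore M ⊓ Subgroup.centralizer (K : Set G) : Subgroup G) : Set G))
    (hH' : Cfsg.IsPiHallOf (Cfsg.kappa M')
      (Cfsg.sigmaCore M ⊓ Subgroup.centralizer (K : Set G)) M') : M' = Ms := by
  have m' : Member (K ⊔ (Cfsg.sigmaCore M ⊓ Subgroup.centralizer (K : Set G))) M'
      (Cfsg.sigmaCore M ⊓ Subgroup.centralizer (K : Set G)) := by
    refine ⟨hM', hH', P.kstar_ne, ?_⟩
    rw [← hK', sup_comm]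
  rcases e.all M' _ m' with h | h
  · exfalso
    subst h
    obtain ⟨t, ht, htd⟩ := Nat.exists_prime_and_dvd
      (show Nat.card ↥(Cfsg.sigmaCore M' ⊓ Subgroup.centralizer (K : Set G)) ≠ 1 from
        fun h => P.kstar_ne (Subgroup.card_eq_one.mp h))
    have h1 := (hH'.2.1 t ht htd).2.2.1
    exact h1 (Cfsg.Agent.Lead.BG12.mem_sigma_of_dvd_card_sigmaCore ht
      (htd.trans (Subgroup.card_dvd_of_le inf_le_left)))
  · exact h

/-- `M_σ` is nilpotent when `M` is not of type `P₁`. -/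
theorem isNilpotent_sigmaCore_of_notP1 (hG : Cfsg.IsMinSimpleOddOrder G) {M : Subgroup G}
    (hM : IsCoatom M) (h : NotP1 M) : Group.IsNilpotent ↥(Cfsg.sigmaCore M) := by
  obtain ⟨q, hq, hqM, hqκ, hqσ⟩ := h
  haveI := Fact.mk hq
  have hP1 : ¬ (∀ t : ℕ, t.Prime → t ∣ Nat.card M → t ∉ Cfsg.sigma M → t ∈ Cfsg.kappa M) :=
    fun h => hqκ (h q hq hqM hqσ)
  have hS : Nonempty (Sylow q M) := inferInstance
  obtain ⟨S⟩ := hS
  exact (Cfsg.Agent.S1429.result hG M hM hP1 q hqM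
    (by rw [Set.mem_union, not_or]; exact ⟨hqσ, hqκ⟩) S).2.2

/-- **Every Hall `κ(M)`-subgroup is cyclic** (BG Theorem 14.7 / 15.1(a)). -/
theorem kappaHall_cyclic (hG : Cfsg.IsMinSimpleOddOrder G) (h142 : Hyp142 G) (hck : CountKill G)
    {M K : Subgroup G} (hM : IsCoatom M) (hK : Cfsg.IsPiHallOf (Cfsg.kappa M) K M) :
    IsCyclic ↥K := by
  by_cases hK1 : K = ⊥
  · haveI : Subsingleton ↥K := by rw [hK1]; infer_instance
    exact isCyclic_of_subsingleton
  · obtain ⟨Ms, e⟩ := exists_emb hG h142 hck hM hK hK1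
    rcases e.prime with ⟨hp, -⟩ | ⟨-, hn⟩
    · haveI := Fact.mk hp
      exact isCyclic_of_prime_card rfl
    · have hnil := isNilpotent_sigmaCore_of_notP1 hG e.coatom hn
      have hle : K ≤ Cfsg.sigmaCore Ms := by
        have := e.K_eq
        exact (le_of_eq this).trans inf_le_left
      haveI : Group.IsNilpotent ↥K := by
        haveI := hnil
        exact Group.nilpotent_of_mulEquiv (Subgroup.subgroupOfEquivOfLe hle)
      haveI : IsZGroup ↥K := isZGroup_of_kappaHall hK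
      infer_instance

end Cfsg.Agent.Helper1.BG147
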