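import Mathlib
import Cfsg.Prelude
import Cfsg.Agent.Helper1.BG147g
import Cfsg.Agent.Helper4.BG147H
import Cfsg.Agent.Helper2.BG147K3

set_option autoImplicit false
set_option linter.unusedSectionVars false
set_option linter.unusedVariables false

/-!
Bender–Glauberman Theorem 14.7: unconditional versions.
-/

namespace Cfsg.Agent.Helper1.BG147

open Cfsg
open scoped commutatorElement Pointwise

universe u

variable {G : Type u} [Group G] [Finite G]

/-- The counting statement holds. -/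
theorem countKill (hG : Cfsg.IsMinSimpleOddOrder G) : CountKill G :=
  fun F Z h1 h2 h3 h4 h5 h6 h7 h8 h9 =>
    Cfsg.Agent.Helper2.BG147K.count_kill hG F Z h1 h2 h3 h4 h5 h6 h7 h8 h9

/-- `P142` for every pair. -/
theorem p142' (hG : Cfsg.IsMinSimpleOddOrder G) {M K : Subgroup G} (hM : IsCoatom M)
    (hK : Cfsg.IsPiHallOf (Cfsg.kappa M) K M) (hK1 : K ≠ ⊥) : P142 M K :=
  Cfsg.Agent.Helper4.BG147H.hyp142 hG M K hM hK hK1

/-- **BG Theorem 14.7**: existence of `M*`. -/
theorem exists_emb' (hG : Cfsg.IsMinSimpleOddOrder G) {M K : Subgroup G} (hM : IsCoatom M)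
    (hK : Cfsg.IsPiHallOf (Cfsg.kappa M) K M) (hK1 : K ≠ ⊥) : ∃ Ms : Subgroup G, Emb M K Ms :=
  exists_emb hG (Cfsg.Agent.Helper4.BG147H.hyp142 hG) (countKill hG) hM hK hK1

/-- Every Hall `κ(M)`-subgroup of a maximal subgroup is cyclic. -/
theorem kappaHall_cyclic' (hG : Cfsg.IsMinSimpleOddOrder G) {M K : Subgroup G} (hM : IsCoatom M)
    (hK : Cfsg.IsPiHallOf (Cfsg.kappa M) K M) : IsCyclic ↥K :=
  kappaHall_cyclic hG (Cfsg.Agent.Helper4.BG147H.hyp142 hG) (countKill hG) hM hK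

end Cfsg.Agent.Helper1.BG147
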