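import Mathlib
import Cfsg.Prelude
import Cfsg.Agent.Helper1.BG147h
import Cfsg.Agent.Helper2.BG147K4

set_option autoImplicit false
set_option linter.unusedSectionVars false
set_option linter.unusedVariables false
set_option maxHeartbeats 800000

/-!
Bender–Glauberman Theorem 14.7: `Z` is cyclic, `Ẑ` is a TI-set with normalizer `Z`, centralizers.
-/

namespace Cfsg.Agent.Helper1.BG147

open Cfsg
open scoped commutatorElement Pointwise

universe u

variable {G : Type u} [Group G] [Finite G]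

omit [Finite G] in
/-- `n` and `a` are powers of `n * a` when they commute and have coprime orders. -/
theorem mem_zpowers_mul_of_coprime {n a : G} (hcomm : n * a = a * n)
    (hcop : (orderOf n).Coprime (orderOf a)) :
    n ∈ Subgroup.zpowers (n * a) ∧ a ∈ Subgroup.zpowers (n * a) := by
  have hc : Commute n a := hcomm
  constructor
  · obtain ⟨i, hi1, hi2⟩ := Nat.chineseRemainder hcop 1 0
    have h1 : (n * a) ^ i = n := by
      rw [hc.mul_pow, (pow_eq_pow_iff_modEq (x := n)).mpr hi1,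
        (pow_eq_pow_iff_modEq (x := a)).mpr hi2, pow_one, pow_zero, mul_one]
    have h2 := Subgroup.pow_mem _ (Subgroup.mem_zpowers (n * a)) i
    rwa [h1] at h2
  · obtain ⟨i, hi1, hi2⟩ := Nat.chineseRemainder hcop 0 1
    have h1 : (n * a) ^ i = a := by
      rw [hc.mul_pow, (pow_eq_pow_iff_modEq (x := n)).mpr hi1,
        (pow_eq_pow_iff_modEq (x := a)).mpr hi2, pow_one, pow_zero, one_mul]
    have h2 := Subgroup.pow_mem _ (Subgroup.mem_zpowers (n * a)) i
    rwa [h1] at h2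

/-- If `g z g⁻¹ ∈ Z` and `w` is a power of `z` then `g w g⁻¹ ∈ Z`. -/
theorem conj_mem_of_mem_zpowers {Z : Subgroup G} {z w g : G} (hw : w ∈ Subgroup.zpowers z)
    (hg : g * z * g⁻¹ ∈ Z) : g * w * g⁻¹ ∈ Z := by
  obtain ⟨k, rfl⟩ := Subgroup.mem_zpowers_iff.mp hw
  rw [← conj_zpow]
  exact Subgroup.zpow_mem _ hg k

/-- `Z = K × K*` is cyclic. -/
theorem isCyclic_Z {M K : Subgroup G} (hK : Cfsg.IsPiHallOf (Cfsg.kappa M) K M)
    (hKc : IsCyclic ↥K)
    (hKsc : IsCyclic ↥(Cfsg.sigmaCore M ⊓ Subgroup.centralizer (K : Set G))) :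
    IsCyclic ↥(K ⊔ (Cfsg.sigmaCore M ⊓ Subgroup.centralizer (K : Set G))) := by
  obtain ⟨a, ha⟩ := IsCyclic.exists_generator (α := ↥K)
  obtain ⟨n, hn⟩ := IsCyclic.exists_generator
    (α := ↥(Cfsg.sigmaCore M ⊓ Subgroup.centralizer (K : Set G)))
  have hoa : orderOf (a : G) = Nat.card K := by
    rw [Subgroup.orderOf_coe]; exact orderOf_eq_card_of_forall_mem_zpowers ha
  have hon : orderOf (n : G) = Nat.card ↥(Cfsg.sigmaCore M ⊓ Subgroup.centralizer (K : Set G)) := by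
    rw [Subgroup.orderOf_coe]; exact orderOf_eq_card_of_forall_mem_zpowers hn
  have hcomm : (n : G) * (a : G) = (a : G) * (n : G) :=
    (Subgroup.mem_centralizer_iff.mp n.2.2 a a.2).symm
  have hcop : (orderOf (n : G)).Coprime (orderOf (a : G)) := by
    rw [hoa, hon]; exact (coprime_card_kstar hK).symm
  have ho : orderOf ((n : G) * (a : G)) =
      Nat.card ↥(K ⊔ (Cfsg.sigmaCore M ⊓ Subgroup.centralizer (K : Set G))) := by
    rw [Commute.orderOf_mul_eq_mul_orderOf_of_coprime hcomm hcop, hoa, hon, card_Z hK, mul_comm]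
  have hmem : (n : G) * (a : G) ∈ K ⊔ (Cfsg.sigmaCore M ⊓ Subgroup.centralizer (K : Set G)) :=
    Subgroup.mul_mem _ (Subgroup.mem_sup_right n.2) (Subgroup.mem_sup_left a.2)
  apply isCyclic_of_orderOf_eq_card (⟨(n : G) * (a : G), hmem⟩ :
    ↥(K ⊔ (Cfsg.sigmaCore M ⊓ Subgroup.centralizer (K : Set G))))
  rw [← ho, ← Subgroup.orderOf_coe]

/-- An element of `Ẑ` is a product of nonidentity commuting elements of `K*` and `K` which are
powers of it. -/
theorem exists_parts_of_mem_Zhat {M K : Subgroup G} (hK : Cfsg.IsPiHallOf (Cfsg.kappa M) K M)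
    {z : G} (hz : z ∈ Cfsg.Agent.Helper2.BG147K.Zhat K
      (Cfsg.sigmaCore M ⊓ Subgroup.centralizer (K : Set G))) :
    ∃ n ∈ Cfsg.sigmaCore M ⊓ Subgroup.centralizer (K : Set G), ∃ a ∈ K, n ≠ 1 ∧ a ≠ 1 ∧
      n ∈ Subgroup.zpowers z ∧ a ∈ Subgroup.zpowers z := by
  obtain ⟨hzZ, hz'⟩ := hz
  obtain ⟨n, hn, a, ha, hzna, hcomm⟩ := exists_mul_of_mem_Z hzZ
  have hcop : (orderOf n).Coprime (orderOf a) := by
    have h1 : orderOf n ∣ Nat.card ↥(Cfsg.sigmaCore M ⊓ Subgroup.centralizer (K : Set G)) :=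
      Subgroup.orderOf_dvd_natCard _ hn
    have h2 : orderOf a ∣ Nat.card K := Subgroup.orderOf_dvd_natCard _ ha
    exact ((coprime_card_kstar hK).symm.coprime_dvd_left h1).coprime_dvd_right h2
  have hp := mem_zpowers_mul_of_coprime hcomm hcop
  rw [← hzna] at hp
  refine ⟨n, hn, a, ha, ?_, ?_, hp.1, hp.2⟩
  · rintro rfl
    apply hz'
    left
    rw [hzna, one_mul]; exact ha
  · rintro rfl
    apply hz'
    right
    rw [hzna, mul_one]; exact hn

/-- **`Ẑ` is a TI-set with normalizer `Z`** (the key property): if a conjugate of an element of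
`Ẑ` lies in `Z`, the conjugating element lies in `Z`. -/
theorem Zhat_TI (hG : Cfsg.IsMinSimpleOddOrder G) (h142 : Hyp142 G) {M K Ms : Subgroup G}
    (hM : IsCoatom M) (hK : Cfsg.IsPiHallOf (Cfsg.kappa M) K M) (hK1 : K ≠ ⊥)
    (e : Emb M K Ms) {z g : G}
    (hz : z ∈ Cfsg.Agent.Helper2.BG147K.Zhat K
      (Cfsg.sigmaCore M ⊓ Subgroup.centralizer (K : Set G)))
    (hg : g * z * g⁻¹ ∈ K ⊔ (Cfsg.sigmaCore M ⊓ Subgroup.centralizer (K : Set G))) :
    g ∈ K ⊔ (Cfsg.sigmaCore M ⊓ Subgroup.centralizer (K : Set G)) := by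
  have P := h142 M K hM hK hK1
  have m := member_self hM hK hK1
  have m₁ := e.member P
  obtain ⟨n, hn, a, ha, hn1, ha1, hnz, haz⟩ := exists_parts_of_mem_Zhat hK hz
  have h1 : g ∈ M := by
    apply m.ti h142 (a := n) ⟨Subgroup.mem_sup_right hn, hn.1⟩ hn1
    exact m.le (conj_mem_of_mem_zpowers hnz hg)
  have h2 : g ∈ Ms := by
    apply m₁.ti h142 (a := a) ⟨Subgroup.mem_sup_left ha, ?_⟩ ha1
    · exact m₁.le (conj_mem_of_mem_zpowers haz hg)
    · have := e.K_eq
      have ha' : a ∈ Cfsg.sigmaCore Ms ⊓ Subgroup.centralizer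
        ((Cfsg.sigmaCore M ⊓ Subgroup.centralizer (K : Set G) : Subgroup G) : Set G) := by
        rw [← this]; exact ha
      exact ha'.1
  rw [← m.inf_eq hG h142 m₁ e.ne.symm]
  exact ⟨h1, h2⟩

end Cfsg.Agent.Helper1.BG147
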