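import Mathlib
import Cfsg.Prelude
import Cfsg.Agent.Helper1.BG147i

set_option autoImplicit false
set_option linter.unusedSectionVars false
set_option linter.unusedVariables false
set_option maxHeartbeats 800000

/-!
Bender–Glauberman Theorem 14.7: centralizers of elements of `K`, `K*` and `Ẑ`.
-/

namespace Cfsg.Agent.Helper1.BG147

open Cfsg
open scoped commutatorElement Pointwise

universe u

variable {G : Type u} [Group G] [Finite G]

/-- For `w ≠ 1` there is a subgroup of prime order in `⟨w⟩`, and `C(w) ≤ C(X)`. -/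
theorem exists_prime_le_zpowers {w : G} (hw : w ≠ 1) :
    ∃ X : Subgroup G, X ≤ Subgroup.zpowers w ∧ (Nat.card X).Prime ∧
      Subgroup.centralizer ({w} : Set G) ≤ Subgroup.centralizer (X : Set G) := by
  obtain ⟨X, hX, hXp⟩ := exists_prime_subgroup (Subgroup.zpowers_ne_bot.mpr hw)
  refine ⟨X, hX, hXp, ?_⟩
  rw [← centralizer_zpowers_eq]
  exact Subgroup.centralizer_le hX

/-- `C_M(x) = Z` for `x ∈ K^#`. -/
theorem inf_centralizer_eq_Z {M K : Subgroup G} (hK : Cfsg.IsPiHallOf (Cfsg.kappa M) K M)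
    (P : P142 M K) (hKc : IsCyclic ↥K) {x : G} (hx : x ∈ K) (hx1 : x ≠ 1) :
    M ⊓ Subgroup.centralizer ({x} : Set G) =
      K ⊔ (Cfsg.sigmaCore M ⊓ Subgroup.centralizer (K : Set G)) := by
  apply le_antisymm
  · obtain ⟨X, hX, hXp, hC⟩ := exists_prime_le_zpowers hx1
    have hXK : X ≤ K := hX.trans (Subgroup.zpowers_le.mpr hx)
    rw [← P.norm_eq X hXK hXp]
    exact inf_le_inf_left M (hC.trans (Subgroup.centralizer_le_normalizer _))
  · refine le_inf (Z_le hK) (sup_le ?_ ?_)
    · intro k hk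
      rw [Subgroup.mem_centralizer_iff]
      intro y hy
      rw [Set.mem_singleton_iff] at hy
      subst hy
      have := (IsCyclic.isMulCommutative (α := ↥K)).is_comm.comm ⟨y, hx⟩ ⟨k, hk⟩
      exact congrArg Subtype.val this
    · intro n hn
      rw [Subgroup.mem_centralizer_iff]
      intro y hy
      rw [Set.mem_singleton_iff] at hy
      subst hy
      exact Subgroup.mem_centralizer_iff.mp hn.2 y hx

/-- `C_{M*}(y) = Z` for `y ∈ K*^#`. -/
theorem inf_centralizer_eq_Z' (h142 : Hyp142 G) {M K Ms : Subgroup G}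
    (hM : IsCoatom M) (hK : Cfsg.IsPiHallOf (Cfsg.kappa M) K M) (hK1 : K ≠ ⊥)
    (e : Emb M K Ms)
    (hKsc : IsCyclic ↥(Cfsg.sigmaCore M ⊓ Subgroup.centralizer (K : Set G))) {y : G}
    (hy : y ∈ Cfsg.sigmaCore M ⊓ Subgroup.centralizer (K : Set G)) (hy1 : y ≠ 1) :
    Ms ⊓ Subgroup.centralizer ({y} : Set G) =
      K ⊔ (Cfsg.sigmaCore M ⊓ Subgroup.centralizer (K : Set G)) := by
  have P := h142 M K hM hK hK1
  have P₁ := h142 Ms _ e.coatom e.hall P.kstar_ne
  have h := inf_centralizer_eq_Z e.hall P₁ hKsc hy hy1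
  rw [h, sup_comm]
  congr 1
  exact e.K_eq.symm

/-- `C_G(xy) = Z` for `x ∈ K^#`, `y ∈ K*^#`. -/
theorem centralizer_mul_eq_Z (hG : Cfsg.IsMinSimpleOddOrder G) (h142 : Hyp142 G)
    {M K Ms : Subgroup G} (hM : IsCoatom M) (hK : Cfsg.IsPiHallOf (Cfsg.kappa M) K M)
    (hK1 : K ≠ ⊥) (e : Emb M K Ms) (hKc : IsCyclic ↥K)
    (hKsc : IsCyclic ↥(Cfsg.sigmaCore M ⊓ Subgroup.centralizer (K : Set G))) {x y : G}
    (hx : x ∈ K) (hx1 : x ≠ 1)
    (hy : y ∈ Cfsg.sigmaCore M ⊓ Subgroup.centralizer (K : Set G)) (hy1 : y ≠ 1) :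
    Subgroup.centralizer ({x * y} : Set G) =
      K ⊔ (Cfsg.sigmaCore M ⊓ Subgroup.centralizer (K : Set G)) := by
  have P := h142 M K hM hK hK1
  have P₁ := h142 Ms _ e.coatom e.hall P.kstar_ne
  have m := member_self hM hK hK1
  have m₁ := e.member P
  have hZ1 := inf_centralizer_eq_Z hK P hKc hx hx1
  have hZ2 := inf_centralizer_eq_Z' h142 hM hK hK1 e hKsc hy hy1
  have hcomm : x * y = y * x := Subgroup.mem_centralizer_iff.mp hy.2 x hx
  have hcop : (orderOf x).Coprime (orderOf y) := by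
    have h1 : orderOf y ∣ Nat.card ↥(Cfsg.sigmaCore M ⊓ Subgroup.centralizer (K : Set G)) :=
      Subgroup.orderOf_dvd_natCard _ hy
    have h2 : orderOf x ∣ Nat.card K := Subgroup.orderOf_dvd_natCard _ hx
    exact ((coprime_card_kstar hK).coprime_dvd_left h2).coprime_dvd_right h1
  obtain ⟨hxz, hyz⟩ := mem_zpowers_mul_of_coprime hcomm hcop
  apply le_antisymm
  · intro g hg
    rw [← centralizer_zpowers_eq] at hg
    have hgx : g ∈ Subgroup.centralizer ({x} : Set G) := by
      rw [Subgroup.mem_centralizer_iff]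
      intro w hw
      rw [Set.mem_singleton_iff] at hw
      subst hw
      exact Subgroup.mem_centralizer_iff.mp hg w hxz
    have hgy : g ∈ Subgroup.centralizer ({y} : Set G) := by
      rw [Subgroup.mem_centralizer_iff]
      intro w hw
      rw [Set.mem_singleton_iff] at hw
      subst hw
      exact Subgroup.mem_centralizer_iff.mp hg w hyz
    -- `C(y) ≤ M`
    obtain ⟨Y, hY, hYp, hCY⟩ := exists_prime_le_zpowers hy1
    have hgM : g ∈ M := (P.uniq Y (hY.trans (Subgroup.zpowers_le.mpr hy)) hYp).1 (hCY hgy)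
    -- `C(x) ≤ M*`
    obtain ⟨X, hX, hXp, hCX⟩ := exists_prime_le_zpowers hx1
    have hXle : X ≤ Cfsg.sigmaCore Ms ⊓ Subgroup.centralizer
        ((Cfsg.sigmaCore M ⊓ Subgroup.centralizer (K : Set G) : Subgroup G) : Set G) := by
      rw [← e.K_eq]
      exact hX.trans (Subgroup.zpowers_le.mpr hx)
    have hgMs : g ∈ Ms := (P₁.uniq X hXle hXp).1 (hCX hgx)
    rw [← m.inf_eq hG h142 m₁ e.ne.symm]
    exact ⟨hgM, hgMs⟩
  · intro z hz
    have h1 : z ∈ Subgroup.centralizer ({x} : Set G) := by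
      have := hz; rw [← hZ1] at this; exact this.2
    have h2 : z ∈ Subgroup.centralizer ({y} : Set G) := by
      have := hz; rw [← hZ2] at this; exact this.2
    rw [Subgroup.mem_centralizer_iff]
    intro w hw
    rw [Set.mem_singleton_iff] at hw
    subst hw
    have e1 := Subgroup.mem_centralizer_iff.mp h1 x rfl
    have e2 := Subgroup.mem_centralizer_iff.mp h2 y rfl
    calc x * y * z = x * (y * z) := by group
      _ = x * (z * y) := by rw [e2]
      _ = (x * z) * y := by group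
      _ = (z * x) * y := by rw [e1]
      _ = z * (x * y) := by group

end Cfsg.Agent.Helper1.BG147
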