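import Mathlib
import Cfsg.Prelude
import Cfsg.Agent.Helper1.BG147j
import Cfsg.Agent.Helper4.BG15D

set_option autoImplicit false
set_option linter.unusedSectionVars false
set_option linter.unusedVariables false
set_option maxHeartbeats 800000

/-!
Bender–Glauberman Theorem 14.7: `Ẑ` is TI with normalizer `Z`; type `P₁` from `U = 1`.
-/

namespace Cfsg.Agent.Helper1.BG147

open Cfsg
open scoped commutatorElement Pointwise

universe u

variable {G : Type u} [Group G] [Finite G]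

/-- `K` and `K*` commute elementwise. -/
theorem commute_K_kstar (M K : Subgroup G) :
    ∀ a ∈ K, ∀ b ∈ Cfsg.sigmaCore M ⊓ Subgroup.centralizer (K : Set G), a * b = b * a :=
  fun a ha b hb => Subgroup.mem_centralizer_iff.mp hb.2 a ha

/-- `Ẑ` is nonempty. -/
theorem Zhat_nonempty {M K : Subgroup G} (hK : Cfsg.IsPiHallOf (Cfsg.kappa M) K M)
    (hK1 : K ≠ ⊥) (hKs1 : Cfsg.sigmaCore M ⊓ Subgroup.centralizer (K : Set G) ≠ ⊥) :
    ∃ z, z ∈ Cfsg.Agent.Helper2.BG147K.Zhat K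
      (Cfsg.sigmaCore M ⊓ Subgroup.centralizer (K : Set G)) := by
  obtain ⟨⟨k, hk⟩, hk1⟩ := (Subgroup.ne_bot_iff_exists_ne_one).1 hK1
  obtain ⟨⟨s, hs⟩, hs1⟩ := (Subgroup.ne_bot_iff_exists_ne_one).1 hKs1
  have hk1' : k ≠ 1 := fun h => hk1 (Subtype.ext h)
  have hs1' : s ≠ 1 := fun h => hs1 (Subtype.ext h)
  have hinf := inf_kstar_eq_bot hK
  refine ⟨k * s, Subgroup.mul_mem _ (Subgroup.mem_sup_left hk) (Subgroup.mem_sup_right hs), ?_⟩
  rintro (h | h)
  · apply hs1'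
    have h1 : s ∈ K := by
      have : s = k⁻¹ * (k * s) := by group
      rw [this]; exact Subgroup.mul_mem _ (Subgroup.inv_mem _ hk) h
    have h2 : s ∈ K ⊓ (Cfsg.sigmaCore M ⊓ Subgroup.centralizer (K : Set G)) := ⟨h1, hs⟩
    rw [hinf, Subgroup.mem_bot] at h2
    exact h2
  · apply hk1'
    have h1 : k ∈ Cfsg.sigmaCore M ⊓ Subgroup.centralizer (K : Set G) := by
      have : k = (k * s) * s⁻¹ := by group
      rw [this]; exact Subgroup.mul_mem _ h (Subgroup.inv_mem _ hs)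
    have h2 : k ∈ K ⊓ (Cfsg.sigmaCore M ⊓ Subgroup.centralizer (K : Set G)) := ⟨hk, h1⟩
    rw [hinf, Subgroup.mem_bot] at h2
    exact h2

/-- The set normalizer of `Ẑ` is `Z`, and `Ẑ` is a TI-subset (given the key property). -/
theorem Zhat_normalizer {M K : Subgroup G} (hK : Cfsg.IsPiHallOf (Cfsg.kappa M) K M)
    (hK1 : K ≠ ⊥) (hKs1 : Cfsg.sigmaCore M ⊓ Subgroup.centralizer (K : Set G) ≠ ⊥)
    (hTI : ∀ z ∈ Cfsg.Agent.Helper2.BG147K.Zhat K
        (Cfsg.sigmaCore M ⊓ Subgroup.centralizer (K : Set G)), ∀ g : G,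
      g * z * g⁻¹ ∈ K ⊔ (Cfsg.sigmaCore M ⊓ Subgroup.centralizer (K : Set G)) →
      g ∈ K ⊔ (Cfsg.sigmaCore M ⊓ Subgroup.centralizer (K : Set G))) :
    Cfsg.IsTISubset (Cfsg.Agent.Helper2.BG147K.Zhat K
        (Cfsg.sigmaCore M ⊓ Subgroup.centralizer (K : Set G))) ∧
      Subgroup.normalizer (Cfsg.Agent.Helper2.BG147K.Zhat K
        (Cfsg.sigmaCore M ⊓ Subgroup.centralizer (K : Set G))) =
        K ⊔ (Cfsg.sigmaCore M ⊓ Subgroup.centralizer (K : Set G)) := by
  have hcomm := commute_K_kstar M K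
  have hnorm : Subgroup.normalizer (Cfsg.Agent.Helper2.BG147K.Zhat K
        (Cfsg.sigmaCore M ⊓ Subgroup.centralizer (K : Set G))) =
        K ⊔ (Cfsg.sigmaCore M ⊓ Subgroup.centralizer (K : Set G)) := by
    apply le_antisymm
    · intro g hg
      obtain ⟨z₀, hz₀⟩ := Zhat_nonempty hK hK1 hKs1
      rw [Subgroup.mem_set_normalizer_iff] at hg
      exact hTI z₀ hz₀ g ((hg z₀).mp hz₀).1
    · intro g hg
      rw [Subgroup.mem_set_normalizer_iff]
      intro n
      constructor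
      · intro hn
        exact Cfsg.Agent.Helper2.BG147K.Zhat_normal hcomm hg hn
      · intro hn
        have h1 := Cfsg.Agent.Helper2.BG147K.Zhat_normal hcomm (Subgroup.inv_mem _ hg) hn
        have h2 : g⁻¹ * (g * n * g⁻¹) * g⁻¹⁻¹ = n := by group
        rw [h2] at h1
        exact h1
  refine ⟨?_, hnorm⟩
  intro g hg x hx hgx
  exfalso
  apply hg
  rw [hnorm]
  exact hTI x hx g hgx.1

/-- If `U = 1` in the standard factorisation, then `M` is of type `P₁`. -/
theorem not_notP1_of_U_eq_bot {M K U : Subgroup G} (hKU : Cfsg.IsSigmaDecomposition M K U)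
    (hU : U = ⊥) : ¬ NotP1 M := by
  rintro ⟨q, hq, hqM, hqκ, hqσ⟩
  have hc := Cfsg.Agent.Helper4.BG15.decomp_card hKU
  rw [hU, Subgroup.card_bot, one_mul] at hc
  rw [← hc] at hqM
  rcases (Nat.Prime.dvd_mul hq).mp hqM with h | h
  · exact hqκ (hKU.hall.2.1 q hq h)
  · exact hqσ (Cfsg.Agent.Lead.BG12.mem_sigma_of_dvd_card_sigmaCore hq h)

/-- If `U ≠ 1` in the standard factorisation, then `M` is not of type `P₁`. -/
theorem notP1_of_U_ne_bot (hG : Cfsg.IsMinSimpleOddOrder G) {M K U : Subgroup G}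
    (hM : IsCoatom M) (hKU : Cfsg.IsSigmaDecomposition M K U) (hU : U ≠ ⊥) : NotP1 M := by
  obtain ⟨q, hq, hqd⟩ := Nat.exists_prime_and_dvd
    (show Nat.card U ≠ 1 from fun h => hU (Subgroup.card_eq_one.mp h))
  have h := Cfsg.Agent.Helper4.BG15.decomp_U_primes hG hM hKU hq hqd
  exact ⟨q, hq, hqd.trans (Subgroup.card_dvd_of_le hKU.compl.1), h.2, h.1⟩

end Cfsg.Agent.Helper1.BG147
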