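import Mathlib
import Cfsg.Prelude
import Cfsg.Agent.Helper1.BG147k
import Cfsg.Agent.S1431
import Cfsg.Agent.Helper1.BGT3regC

set_option autoImplicit false
set_option linter.unusedSectionVars false
set_option linter.unusedVariables false
set_option maxHeartbeats 800000

/-!
Bender–Glauberman Theorem 14.7: `κ(M) = τ₁(M)`, `K*` is a Hall `σ(M)`-subgroup of `M*`.
-/

namespace Cfsg.Agent.Helper1.BG147

open Cfsg
open scoped commutatorElement Pointwise

universe u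

variable {G : Type u} [Group G] [Finite G]

/-- `M_σ ∩ M* = K*`. -/
theorem sigmaCore_inf_Ms (hG : Cfsg.IsMinSimpleOddOrder G) (h142 : Hyp142 G)
    {M K Ms : Subgroup G} (hM : IsCoatom M) (hK : Cfsg.IsPiHallOf (Cfsg.kappa M) K M)
    (hK1 : K ≠ ⊥) (e : Emb M K Ms) :
    Cfsg.sigmaCore M ⊓ Ms = Cfsg.sigmaCore M ⊓ Subgroup.centralizer (K : Set G) := by
  have P := h142 M K hM hK hK1
  have m := member_self hM hK hK1
  have m₁ := e.member P
  have h1 := m.inf_eq hG h142 m₁ e.ne.symm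
  have h2 := m.Z_inf
  apply le_antisymm
  · rw [← h2, ← h1]
    exact le_inf (le_inf (inf_le_left.trans Cfsg.Agent.Lead.BG12.sigmaCore_le) inf_le_right)
      inf_le_left
  · exact le_inf inf_le_left ((le_sup_right.trans (le_of_eq h1.symm)).trans inf_le_right)

/-- **`K*` is a Hall `σ(M)`-subgroup of `M*`**. -/
theorem kstar_hall_sigma (hG : Cfsg.IsMinSimpleOddOrder G) (h142 : Hyp142 G)
    {M K Ms : Subgroup G} (hM : IsCoatom M) (hK : Cfsg.IsPiHallOf (Cfsg.kappa M) K M)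
    (hK1 : K ≠ ⊥) (e : Emb M K Ms) :
    Cfsg.IsPiHallOf (Cfsg.sigma M) (Cfsg.sigmaCore M ⊓ Subgroup.centralizer (K : Set G)) Ms := by
  have P := h142 M K hM hK hK1
  haveI hsolvMs : Group.IsSolvable ↥Ms := hG.2.2.2 Ms e.coatom.1
  have hprimes : ∀ r : ℕ, r.Prime →
      r ∣ Nat.card ↥(Cfsg.sigmaCore M ⊓ Subgroup.centralizer (K : Set G)) → r ∈ Cfsg.sigma M :=
    fun r hr hd => Cfsg.Agent.Lead.BG12.mem_sigma_of_dvd_card_sigmaCore hr
      (hd.trans (Subgroup.card_dvd_of_le inf_le_left))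
  obtain ⟨Y, hY, hKsY⟩ := exists_hall_ge (π := Cfsg.sigma M) hsolvMs e.hall.1 hprimes
  have hYne : Y ⊓ (Cfsg.sigmaCore M ⊓ Subgroup.centralizer (K : Set G)) ≠ ⊥ := by
    rw [inf_eq_right.mpr hKsY]; exact P.kstar_ne
  have hYσ := (Cfsg.Agent.S1431.result hG M hM K hK hK1).2.2.2 Y hY.2.1 hYne
  have hYle : Y ≤ Cfsg.sigmaCore M ⊓ Subgroup.centralizer (K : Set G) := by
    rw [← sigmaCore_inf_Ms hG h142 hM hK hK1 e]
    exact le_inf hYσ hY.1
  have : Y = Cfsg.sigmaCore M ⊓ Subgroup.centralizer (K : Set G) := le_antisymm hYle hKsY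
  rw [← this]; exact hY

/-- `U ≤ M'` in the standard factorisation when `K ≠ 1`. -/
theorem U_le_commutator (hG : Cfsg.IsMinSimpleOddOrder G) (h142 : Hyp142 G)
    {M K U : Subgroup G} (hM : IsCoatom M) (hKU : Cfsg.IsSigmaDecomposition M K U)
    (hK1 : K ≠ ⊥) : U ≤ ⁅M, M⁆ := by
  have P := h142 M K hM hKU.hall hK1
  haveI hsolvM : Group.IsSolvable ↥M := hG.2.2.2 M hM.1
  have hcop : (Nat.card K).Coprime (Nat.card U) := by
    apply Nat.coprime_of_dvd
    intro t ht h1 h2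
    exact (Cfsg.Agent.Helper4.BG15.decomp_U_primes hG hM hKU ht h2).2 (hKU.hall.2.1 t ht h1)
  have hUC : U ⊓ Subgroup.centralizer (K : Set G) = ⊥ := by
    obtain ⟨⟨k, hk⟩, hk1⟩ := (Subgroup.ne_bot_iff_exists_ne_one).1 hK1
    have hk1' : k ≠ 1 := fun h => hk1 (Subtype.ext h)
    have hZ := inf_centralizer_eq_Z hKU.hall P hKU.cyclic hk hk1'
    rw [eq_bot_iff]
    intro u hu
    have huZ : u ∈ K ⊔ (Cfsg.sigmaCore M ⊓ Subgroup.centralizer (K : Set G)) := by
      rw [← hZ]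
      refine ⟨hKU.compl.1 hu.1, ?_⟩
      change u ∈ Subgroup.centralizer ({k} : Set G)
      rw [Subgroup.mem_centralizer_iff]
      intro y hy
      rw [Set.mem_singleton_iff] at hy
      subst hy
      exact Subgroup.mem_centralizer_iff.mp hu.2 y hk
    have hcopZ : (Nat.card U).Coprime
        (Nat.card ↥(K ⊔ (Cfsg.sigmaCore M ⊓ Subgroup.centralizer (K : Set G)))) := by
      rw [card_Z hKU.hall]
      apply Nat.coprime_of_dvd
      intro t ht h1 h2
      have hU := Cfsg.Agent.Helper4.BG15.decomp_U_primes hG hM hKU ht h1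
      rcases (Nat.Prime.dvd_mul ht).mp h2 with h | h
      · exact hU.2 (hKU.hall.2.1 t ht h)
      · exact hU.1 (Cfsg.Agent.Lead.BG12.mem_sigma_of_dvd_card_sigmaCore ht
          (h.trans (Subgroup.card_dvd_of_le inf_le_left)))
    have := (Subgroup.disjoint_of_coprime_natCard hcopZ).eq_bot
    rw [← this]
    exact ⟨hu.1, huZ⟩
  have h := Cfsg.Agent.Helper1.coprime_commutator_sup_centralizer K U hKU.normal hcop
    (Or.inl (Cfsg.Agent.Helper1.isSolvable_of_le hKU.hall.1 hsolvM))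
  rw [hUC, sup_bot_eq] at h
  rw [← h]
  exact Subgroup.commutator_mono hKU.compl.1 hKU.hall.1

/-- **`κ(M) = τ₁(M)`** when `K ≠ 1`. -/
theorem kappa_eq_tau1 (hG : Cfsg.IsMinSimpleOddOrder G) (h142 : Hyp142 G)
    {M K U : Subgroup G} (hM : IsCoatom M) (hKU : Cfsg.IsSigmaDecomposition M K U)
    (hK1 : K ≠ ⊥) : Cfsg.kappa M = Cfsg.tau1 M := by
  ext p
  constructor
  · exact Cfsg.Agent.Helper1.BGT3reg.kappa_subset_tau1_of_cyclic hG hM hKU.cyclic hKU.hall p
  · rintro ⟨hp, hpσ, hpM, hpM', -⟩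
    have hc := Cfsg.Agent.Helper4.BG15.decomp_card hKU
    rw [← hc] at hpM
    rcases (Nat.Prime.dvd_mul hp).mp hpM with h | h
    · exfalso
      exact hpM' (h.trans (Subgroup.card_dvd_of_le (U_le_commutator hG h142 hM hKU hK1)))
    · rcases (Nat.Prime.dvd_mul hp).mp h with h' | h'
      · exact hKU.hall.2.1 p hp h'
      · exact absurd (Cfsg.Agent.Lead.BG12.mem_sigma_of_dvd_card_sigmaCore hp h') hpσ

/-- Elements of `Ẑ` lie in no conjugate `M^g`, `g ∉ M`. -/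
theorem Zhat_not_mem_conj {M K : Subgroup G} (hK : Cfsg.IsPiHallOf (Cfsg.kappa M) K M)
    (P : P142 M K) {g : G} (hg : g ∉ M) {z : G}
    (hz : z ∈ Cfsg.Agent.Helper2.BG147K.Zhat K
      (Cfsg.sigmaCore M ⊓ Subgroup.centralizer (K : Set G))) :
    z ∉ M.map (MulAut.conj g).toMonoidHom := by
  intro hzg
  obtain ⟨n, hn, a, ha, hn1, ha1, hnz, haz⟩ := exists_parts_of_mem_Zhat hK hz
  have h1 : n ∈ M.map (MulAut.conj g).toMonoidHom :=
    (Subgroup.zpowers_le.mpr hzg) hnz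
  have h2 : n ∈ (Cfsg.sigmaCore M ⊓ Subgroup.centralizer (K : Set G)) ⊓
      M.map (MulAut.conj g).toMonoidHom := ⟨hn, h1⟩
  rw [P.ti_kstar g hg, Subgroup.mem_bot] at h2
  exact hn1 h2

end Cfsg.Agent.Helper1.BG147
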