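import Mathlib
import Cfsg.Prelude
import Cfsg.Agent.Helper1.BG147l
import Cfsg.Agent.Helper2.BG148b

set_option autoImplicit false
set_option linter.unusedSectionVars false
set_option linter.unusedVariables false
set_option maxHeartbeats 800000

/-!
Bender–Glauberman Theorem 14.7(g): every maximal subgroup with `κ ≠ ∅` is conjugate to `M` or `M*`.
-/

namespace Cfsg.Agent.Helper1.BG147

open Cfsg
open scoped commutatorElement Pointwise

universe u

variable {G : Type u} [Group G] [Finite G]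

omit [Finite G] in
theorem eq_map_conj_inv_of_map_conj_eq {H M : Subgroup G} {c : G}
    (h : H.map (MulAut.conj c).toMonoidHom = M) :
    H = M.map (MulAut.conj c⁻¹).toMonoidHom := by
  rw [← h, Subgroup.map_map]
  have : (MulAut.conj c⁻¹).toMonoidHom.comp (MulAut.conj c).toMonoidHom = MonoidHom.id G := by
    ext x
    simp only [MonoidHom.coe_comp, MulEquiv.coe_toMonoidHom, Function.comp_apply,
      MulAut.conj_apply, MonoidHom.id_apply, inv_inv]
    group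
  rw [this, Subgroup.map_id]

/-- A nontrivial Hall `κ(H)`-subgroup exists when `κ(H) ≠ ∅`. -/
theorem exists_kappaHall_ne_bot (hG : Cfsg.IsMinSimpleOddOrder G) {H : Subgroup G}
    (hH : IsCoatom H) (hκ : (Cfsg.kappa H).Nonempty) :
    ∃ KH : Subgroup G, Cfsg.IsPiHallOf (Cfsg.kappa H) KH H ∧ KH ≠ ⊥ := by
  haveI hsolvH : Group.IsSolvable ↥H := hG.2.2.2 H hH.1
  obtain ⟨KH, hKH, -⟩ := exists_hall_ge (π := Cfsg.kappa H) (T := ⊥) hsolvH bot_le (by
    intro r hr hd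
    rw [Subgroup.card_bot] at hd
    exact absurd (Nat.dvd_one.mp hd) hr.one_lt.ne')
  refine ⟨KH, hKH, ?_⟩
  intro h
  obtain ⟨p, hp⟩ := hκ
  apply hKH.2.2 p hp.1 hp
  rw [h, Subgroup.relIndex_bot_left]
  exact hp.2.1

/-- **BG 14.7(g)**: every maximal subgroup `H` with `κ(H) ≠ ∅` is conjugate to `M` or to `M*`. -/
theorem conj_of_kappa_nonempty (hG : Cfsg.IsMinSimpleOddOrder G) {M K Ms : Subgroup G}
    (hM : IsCoatom M) (hK : Cfsg.IsPiHallOf (Cfsg.kappa M) K M) (hK1 : K ≠ ⊥)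
    (e : Emb M K Ms) {H : Subgroup G} (hH : IsCoatom H) (hκ : (Cfsg.kappa H).Nonempty) :
    ∃ g : G, H = M.map (MulAut.conj g).toMonoidHom ∨ H = Ms.map (MulAut.conj g).toMonoidHom := by
  have h142 := Cfsg.Agent.Helper4.BG147H.hyp142 hG
  obtain ⟨KH, hKH, hKH1⟩ := exists_kappaHall_ne_bot hG hH hκ
  obtain ⟨Hs, eH⟩ := exists_emb' hG hH hKH hKH1
  have PH := p142' hG hH hKH hKH1
  have f : Cfsg.Agent.Helper2.BG148.Fam M K Ms := ⟨e, hM, hK, hK1⟩
  have fH : Cfsg.Agent.Helper2.BG148.Fam H KH Hs := ⟨eH, hH, hKH, hKH1⟩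
  obtain ⟨⟨k, hk⟩, hk1⟩ := (Subgroup.ne_bot_iff_exists_ne_one).1 hKH1
  obtain ⟨⟨y, hy⟩, hy1⟩ := (Subgroup.ne_bot_iff_exists_ne_one).1 PH.kstar_ne
  have hk1' : k ≠ 1 := fun h => hk1 (Subtype.ext h)
  have hy1' : y ≠ 1 := fun h => hy1 (Subtype.ext h)
  obtain ⟨c, hc⟩ := Cfsg.Agent.Helper2.BG148.conj_into_zhat hG f fH hk hk1' hy hy1'
  have hcomm : k * y = y * k := Subgroup.mem_centralizer_iff.mp hy.2 k hk
  have hcop : (orderOf k).Coprime (orderOf y) := by
    have h1 : orderOf y ∣ Nat.card ↥(Cfsg.sigmaCore H ⊓ Subgroup.centralizer (KH : Set G)) :=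
      Subgroup.orderOf_dvd_natCard _ hy
    have h2 : orderOf k ∣ Nat.card KH := Subgroup.orderOf_dvd_natCard _ hk
    exact ((coprime_card_kstar hKH).coprime_dvd_left h2).coprime_dvd_right h1
  have hyz := (mem_zpowers_mul_of_coprime hcomm hcop).2
  have hcy : c * y * c⁻¹ ∈ K ⊔ (Cfsg.sigmaCore M ⊓ Subgroup.centralizer (K : Set G)) :=
    conj_mem_of_mem_zpowers hyz hc.1
  have hL' := Cfsg.Agent.Helper2.BG144.isCoatom_map_conj hH c
  have hcyσ : c * y * c⁻¹ ∈ Cfsg.sigmaCore (H.map (MulAut.conj c).toMonoidHom) := by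
    rw [Cfsg.Agent.Helper2.BG144.sigmaCore_map_conj hG hH c]
    exact ⟨y, hy.1, rfl⟩
  have hne : (K ⊔ (Cfsg.sigmaCore M ⊓ Subgroup.centralizer (K : Set G))) ⊓
      Cfsg.sigmaCore (H.map (MulAut.conj c).toMonoidHom) ≠ ⊥ := by
    intro h
    have h1 : c * y * c⁻¹ ∈ (K ⊔ (Cfsg.sigmaCore M ⊓ Subgroup.centralizer (K : Set G))) ⊓
      Cfsg.sigmaCore (H.map (MulAut.conj c).toMonoidHom) := ⟨hcy, hcyσ⟩
    rw [h, Subgroup.mem_bot] at h1
    apply hy1'
    have : y = c⁻¹ * (c * y * c⁻¹) * c := by group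
    rw [this, h1]; group
  have m := member_self hM hK hK1
  obtain ⟨J', mL'⟩ := m.exists_of_inf_ne_bot hG h142 hL' hne
  refine ⟨c⁻¹, ?_⟩
  rcases e.all _ J' mL' with h | h
  · left; exact eq_map_conj_inv_of_map_conj_eq h
  · right; exact eq_map_conj_inv_of_map_conj_eq h

end Cfsg.Agent.Helper1.BG147
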