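import Mathlib
import Cfsg.Prelude.Def_Transfer
import Cfsg.Agent.Helper1.AbelianSylow
import Cfsg.Agent.Helper1.AbelianAct
import Cfsg.Agent.Helper1.Glauberman

set_option autoImplicit false

/-!
If the Sylow `p`-subgroups of `O^p(G)` are abelian then `G` splits over `O^p(G)`.
-/

namespace Cfsg.Agent.Helper1

open scoped Pointwise commutatorElement

universe u

variable {G : Type u} [Group G]

/-- Schur–Zassenhaus existence, internal form with all properties. -/
theorem exists_complement_internal' [Finite G] (S N : Subgroup G) (hNS : N ≤ S)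
    (hS : S ≤ Subgroup.normalizer (N : Set G)) (hcop : (Nat.card N).Coprime (N.relIndex S)) :
    ∃ B : Subgroup G, B ≤ S ∧ B ⊓ N = ⊥ ∧ N ⊔ B = S ∧ Nat.card B = N.relIndex S := by
  obtain ⟨B, hBS, hBcard⟩ := exists_complement_internal S N hNS hS hcop
  have hdisj : B ⊓ N = ⊥ := inf_eq_bot_of_coprime_card (by rw [hBcard]; exact hcop.symm)
  refine ⟨B, hBS, hdisj, ?_, hBcard⟩
  have hle : N ⊔ B ≤ S := sup_le hNS hBS
  have hcard : Nat.card (N ⊔ B : Subgroup G) = Nat.card S := by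
    rw [card_sup_of_le_normalizer (hBS.trans hS) hdisj, hBcard]
    exact relIndex_mul_card_of_le hNS
  exact Subgroup.eq_of_le_of_card_ge hle (le_of_eq hcard.symm)

theorem pResidual_pResidual_eq_top (p : ℕ) :
    Cfsg.pResidual p (Cfsg.pResidual p G) = ⊤ := by
  apply Subgroup.map_injective (Cfsg.pResidual p G).subtype_injective
  rw [Cfsg.Agent.Helper5.map_subtype_pResidual, ← MonoidHom.range_eq_map, Subgroup.range_subtype]
  unfold Cfsg.pResidual
  congr 1
  ext g
  constructor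
  · rintro ⟨-, hg⟩; exact hg
  · intro hg
    exact ⟨Subgroup.subset_closure hg, hg⟩

theorem splits_over_pResidual [Finite G] {p : ℕ} [hp : Fact p.Prime]
    (h : ∀ Q : Sylow p (Cfsg.pResidual p G), IsMulCommutative Q) :
    ∃ K : Subgroup G, K.IsComplement' (Cfsg.pResidual p G) := by
  obtain ⟨N, hNdef⟩ : ∃ N : Subgroup G, N = Cfsg.pResidual p G := ⟨_, rfl⟩
  have hNn : N.Normal := by rw [hNdef]; infer_instance
  obtain ⟨n, hNidx⟩ : ∃ n : ℕ, N.index = p ^ n := by
    rw [hNdef]; exact Cfsg.Agent.Helper5.index_pResidual p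
  have hNres : Cfsg.pResidual p N = ⊤ := by rw [hNdef]; exact pResidual_pResidual_eq_top p
  have hSyl : ∀ Q : Sylow p N, IsMulCommutative Q := by rw [hNdef]; exact h
  rw [← hNdef]
  obtain ⟨S⟩ : Nonempty (Sylow p N) := inferInstance
  have hSc := hSyl S
  obtain ⟨Q, hQdef⟩ : ∃ Q : Subgroup G, Q = (S : Subgroup N).map N.subtype := ⟨_, rfl⟩
  have hQN : Q ≤ N := by rw [hQdef]; exact Subgroup.map_subtype_le _
  have hQab : ∀ a ∈ Q, ∀ b ∈ Q, a * b = b * a := by
    rw [hQdef]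
    rintro _ ⟨a, ha, rfl⟩ _ ⟨b, hb, rfl⟩
    have := hSc.is_comm.comm ⟨a, ha⟩ ⟨b, hb⟩
    have h2 := congrArg (fun x : (S : Subgroup N) => ((x : N) : G)) this
    simpa using h2
  have hQc : IsMulCommutative Q := ⟨⟨fun a b => Subtype.ext (hQab a a.2 b b.2)⟩⟩
  have hQp : IsPGroup p Q := by rw [hQdef]; exact S.2.map _
  obtain ⟨L, hLdef⟩ : ∃ L : Subgroup G, L = Subgroup.normalizer (Q : Set G) := ⟨_, rfl⟩
  have hFr : L ⊔ N = ⊤ := by rw [hLdef, hQdef]; exact Sylow.normalizer_sup_eq_top S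
  have hQL : Q ≤ L := by rw [hLdef]; exact Subgroup.le_normalizer
  -- `Q = [Q, N_N(Q)]`
  have hQcomm : Q ≤ ⁅Q, N ⊓ L⁆ := by
    have h1 := abelian_sylow_inf_pResidual S hSc
    rw [hNres, inf_top_eq] at h1
    have h2 : Q = ⁅Q, (Subgroup.normalizer ((S : Subgroup N) : Set N)).map N.subtype⁆ := by
      rw [hQdef, ← Subgroup.map_commutator]
      exact congrArg (Subgroup.map N.subtype) h1
    have hle : (Subgroup.normalizer ((S : Subgroup N) : Set N)).map N.subtype ≤ N ⊓ L := by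
      apply le_inf (Subgroup.map_subtype_le _)
      rw [hLdef, hQdef]
      exact Subgroup.le_normalizer_map _
    exact h2.le.trans (Subgroup.commutator_mono le_rfl hle)
  -- the complement `T` of `Q` in `M₀ = N_N(Q)`
  obtain ⟨M₀, hM₀def⟩ : ∃ M₀ : Subgroup G, M₀ = N ⊓ L := ⟨_, rfl⟩
  rw [← hM₀def] at hQcomm
  have hQM₀ : Q ≤ M₀ := by rw [hM₀def]; exact le_inf hQN hQL
  have hM₀L : M₀ ≤ L := by rw [hM₀def]; exact inf_le_right
  have hM₀N : M₀ ≤ N := by rw [hM₀def]; exact inf_le_left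
  have hLnQ : L ≤ Subgroup.normalizer (Q : Set G) := by rw [hLdef]
  have hM₀nQ : M₀ ≤ Subgroup.normalizer (Q : Set G) := hM₀L.trans hLnQ
  have hnd : ¬ p ∣ Q.relIndex M₀ := by
    intro hd
    have h1 : Q.relIndex M₀ ∣ Q.relIndex N :=
      Dvd.intro _ (Subgroup.relIndex_mul_relIndex Q M₀ N hQM₀ hM₀N)
    have h2 : Q.relIndex N = (S : Subgroup N).index := by
      rw [Subgroup.relIndex, hQdef]
      congr 1
      exact Subgroup.comap_map_eq_self_of_injective N.subtype_injective _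
    rw [h2] at h1
    exact S.not_dvd_index (hd.trans h1)
  obtain ⟨k, hk⟩ := IsPGroup.iff_card.1 hQp
  have hcop1 : (Nat.card Q).Coprime (Q.relIndex M₀) := by
    rw [hk]
    exact Nat.Coprime.pow_left k ((Nat.Prime.coprime_iff_not_dvd hp.out).2 hnd)
  obtain ⟨T, hTM₀, hTQ, hQT, hTcard⟩ := exists_complement_internal' M₀ Q hQM₀ hM₀nQ hcop1
  have hTL : T ≤ L := hTM₀.trans hM₀L
  have hTN : T ≤ N := hTM₀.trans hM₀N
  have hTnQ : T ≤ Subgroup.normalizer (Q : Set G) := hTM₀.trans hM₀nQ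
  have hTcop : (Nat.card T).Coprime p := by
    rw [hTcard]
    exact ((Nat.Prime.coprime_iff_not_dvd hp.out).2 hnd).symm
  have hcopTQ : (Nat.card T).Coprime (Nat.card Q) := by
    rw [hk]; exact Nat.Coprime.pow_right k hTcop
  -- `C_Q(T) = 1`
  have hcomm2 : ⁅Q, M₀⁆ ≤ ⁅Q, T⁆ := by
    rw [Subgroup.commutator_le]
    intro q hq m hm
    rw [← hQT] at hm
    obtain ⟨q', hq', t, ht, rfl⟩ := mem_sup_of_le_normalizer hTnQ hm
    have hqt : ⁅q, t⁆ ∈ Q := by
      rw [commutatorElement_def]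
      have h1 := (Subgroup.mem_normalizer_iff.1 (hTnQ ht) q⁻¹).1 (Q.inv_mem hq)
      have : q * t * q⁻¹ * t⁻¹ = q * (t * q⁻¹ * t⁻¹) := by group
      rw [this]
      exact Q.mul_mem hq h1
    have heq : ⁅q, q' * t⁆ = ⁅q, t⁆ := by
      have h1 : ⁅q, q' * t⁆ = q' * ⁅q, t⁆ * q'⁻¹ := by
        rw [commutatorElement_def, commutatorElement_def]
        have hc := hQab q hq q' hq'
        calc q * (q' * t) * q⁻¹ * (q' * t)⁻¹ = (q * q') * t * q⁻¹ * t⁻¹ * q'⁻¹ := by group
          _ = (q' * q) * t * q⁻¹ * t⁻¹ * q'⁻¹ := by rw [hc]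
          _ = q' * (q * t * q⁻¹ * t⁻¹) * q'⁻¹ := by group
      rw [h1, hQab q' hq' _ hqt, mul_inv_cancel_right]
    rw [heq]
    exact Subgroup.commutator_mem_commutator hq ht
  have hCQT : Q ⊓ Subgroup.centralizer (T : Set G) = ⊥ := by
    have h1 := (abelian_coprime_decomp T Q hTnQ hcopTQ).1
    rw [eq_bot_iff, ← h1]
    exact le_inf le_rfl (inf_le_left.trans (hQcomm.trans hcomm2))
  -- Frattini argument in `L`
  obtain ⟨LT, hLTdef⟩ : ∃ LT : Subgroup G, LT = L ⊓ Subgroup.normalizer (T : Set G) := ⟨_, rfl⟩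
  have hTLT : T ≤ LT := by rw [hLTdef]; exact le_inf hTL Subgroup.le_normalizer
  have hLTnT : LT ≤ Subgroup.normalizer (T : Set G) := by rw [hLTdef]; exact inf_le_right
  have hLdec : ∀ l ∈ L, ∃ q ∈ Q, q⁻¹ * l ∈ LT := by
    intro l hl
    have hB : MulAut.conj l • T ≤ Q ⊔ T := by
      rw [hQT, hM₀def]
      intro x hx
      rw [mem_conj_smul] at hx
      have hx' : x = l * (l⁻¹ * x * l) * l⁻¹ := by group
      rw [hx']
      refine Subgroup.mem_inf.2 ⟨hNn.conj_mem _ (hTN hx) l, ?_⟩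
      exact L.mul_mem (L.mul_mem hl (hTL hx)) (L.inv_mem hl)
    have hQsolv : Group.IsSolvable Q := Group.isSolvable_of_comm (fun a b => mul_comm' a b)
    obtain ⟨q, hq, hqT⟩ := sz_conj_internal Q T (MulAut.conj l • T) hTnQ hB (card_conj_smul l T)
      hcopTQ.symm (Or.inl hQsolv)
    refine ⟨q, hq, ?_⟩
    rw [hLTdef]
    refine Subgroup.mem_inf.2 ⟨L.mul_mem (L.inv_mem (hQL hq)) hl, ?_⟩
    apply mem_normalizer_of_conj_smul_eq
    rw [map_mul, mul_smul, ← hqT, ← mul_smul, ← map_mul, inv_mul_cancel, map_one, one_smul]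
  have hLTN : LT ⊓ N = T := by
    apply le_antisymm
    · intro x hx
      have hxM₀ : x ∈ Q ⊔ T := by
        rw [hQT, hM₀def]
        refine Subgroup.mem_inf.2 ⟨hx.2, ?_⟩
        have := hx.1
        rw [hLTdef] at this
        exact this.1
      obtain ⟨q, hq, t, ht, rfl⟩ := mem_sup_of_le_normalizer hTnQ hxM₀
      have hqn : q ∈ Subgroup.normalizer (T : Set G) := by
        have h1 : q * t ∈ Subgroup.normalizer (T : Set G) := hLTnT hx.1
        have h2 := Subgroup.mul_mem _ h1 (Subgroup.inv_mem _ (Subgroup.le_normalizer ht))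
        rwa [mul_inv_cancel_right] at h2
      have hqc : q ∈ Q ⊓ Subgroup.centralizer (T : Set G) :=
        Subgroup.mem_inf.2 ⟨hq, inf_normalizer_le_centralizer hTnQ (by rw [inf_comm]; exact hTQ)
          (Subgroup.mem_inf.2 ⟨hq, hqn⟩)⟩
      rw [hCQT, Subgroup.mem_bot] at hqc
      rw [hqc, one_mul]; exact ht
    · exact le_inf hTLT hTN
  -- the complement `K` of `T` in `LT`
  have hcop2 : (Nat.card T).Coprime (T.relIndex LT) := by
    have h1 : T.relIndex LT ∣ p ^ n := by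
      rw [← hNidx, ← hLTN, inf_comm, Subgroup.inf_relIndex_right]
      exact Subgroup.relIndex_dvd_index_of_normal N LT
    obtain ⟨j, -, hj⟩ := (Nat.dvd_prime_pow hp.out).1 h1
    rw [hj]
    exact Nat.Coprime.pow_right j hTcop
  obtain ⟨K, hKLT, hKT, hTK, -⟩ := exists_complement_internal' LT T hTLT hLTnT hcop2
  refine ⟨K, ?_⟩
  apply Subgroup.isComplement'_of_disjoint_and_mul_eq_univ
  · rw [disjoint_iff, eq_bot_iff, ← hKT]
    intro x hx
    refine Subgroup.mem_inf.2 ⟨hx.1, ?_⟩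
    rw [← hLTN]
    exact Subgroup.mem_inf.2 ⟨hKLT hx.1, hx.2⟩
  · rw [← Subgroup.mul_normal]
    have : K ⊔ N = ⊤ := by
      rw [eq_top_iff, ← hFr]
      apply sup_le _ le_sup_right
      intro l hl
      obtain ⟨q, hq, hql⟩ := hLdec l hl
      have : l = q * (q⁻¹ * l) := by group
      rw [this]
      apply Subgroup.mul_mem _ (Subgroup.mem_sup_right (hQN hq))
      rw [← hTK] at hql
      exact (sup_le (hTN.trans le_sup_right) le_sup_left : T ⊔ K ≤ K ⊔ N) hql
    rw [this]; rfl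

end Cfsg.Agent.Helper1
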