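import Mathlib
import Cfsg.Prelude
import Cfsg.Agent.Helper4.BG12c
import Cfsg.Agent.Lead.BG11d
import Cfsg.Agent.Lead.BG127b
import Cfsg.Agent.Helper1.WielandtNilpHall

set_option autoImplicit false
set_option linter.unusedSectionVars false
set_option linter.unusedVariables false

/-!
Bender–Glauberman: the `σ(M)'`-part of `F(M)` is a cyclic `τ₂(M)`-group (statement S1439).
-/

namespace Cfsg.Agent.Helper1.BG14Fit

open Cfsg Cfsg.Agent.Helper1 Cfsg.Agent.Helper2 Cfsg.Agent.Helper1.BGT Cfsg.Agent.Helper1.BGU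
  Cfsg.Agent.Helper1.BGV Cfsg.Agent.Helper1.BGW Cfsg.Agent.Helper1.BGX Cfsg.Agent.Lead.BG12
open scoped commutatorElement Pointwise

universe u

variable {G : Type u} [Group G] [Finite G]

/-- `F(M_σ) ≤ F(M)`. -/
theorem fittingOf_sigmaCore_le (M : Subgroup G) :
    Cfsg.fittingOf (Cfsg.sigmaCore M) ≤ Cfsg.fittingOf M := by
  apply fittingOf_le_of_forall
  intro t ht
  haveI := Fact.mk ht
  have h1 : pcoreOf t (Cfsg.sigmaCore M) ≤ pcoreOf t M :=
    le_pCoreOf ((pCoreOf_le t _).trans sigmaCore_le) (pCoreOf_isPGroup t _)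
      ((le_normalizer_sigmaCore M).trans (normalizer_le_normalizer_pcoreOf t _))
  exact h1.trans (pCoreOf_le_fittingOf t M)

/-- The `p`-part `Y ∩ O_p(M)` of `Y = O_{σ(M)'}(F(M))`. -/
theorem isCyclic_inf_pcoreOf (hG : Cfsg.IsMinSimpleOddOrder G) {M : Subgroup G} (hM : IsCoatom M)
    (p : ℕ) [hp : Fact p.Prime] :
    (Cfsg.piCoreOf {q | q.Prime ∧ q ∉ Cfsg.sigma M} (Cfsg.fittingOf M) ⊓ pcoreOf p M ≠ ⊥ →
      p ∈ Cfsg.tau2 M) ∧
    IsCyclic ↥(Cfsg.piCoreOf {q | q.Prime ∧ q ∉ Cfsg.sigma M} (Cfsg.fittingOf M) ⊓ pcoreOf p M) := by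
  obtain ⟨Y, hY⟩ : ∃ Y : Subgroup G,
      Y = Cfsg.piCoreOf {q | q.Prime ∧ q ∉ Cfsg.sigma M} (Cfsg.fittingOf M) := ⟨_, rfl⟩
  rw [← hY]
  have hYF : Y ≤ Cfsg.fittingOf M := hY ▸ piCoreOf_le _ _
  have hYM : Y ≤ M := hYF.trans (fittingOf_le M)
  have hMY : M ≤ Subgroup.normalizer (Y : Set G) := by
    rw [hY]
    exact (le_normalizer_fittingOf M).trans (normalizer_le_normalizer_piCoreOf _ _)
  have hYpi : ∀ q : ℕ, q.Prime → q ∣ Nat.card Y → q ∉ Cfsg.sigma M := by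
    intro q hq hd
    rw [hY] at hd
    exact (piCoreOf_isPi _ _ q hq hd).2
  set Yp := Y ⊓ pcoreOf p M with hYp
  have hYpp : IsPGroup p ↥Yp := (pCoreOf_isPGroup p M).to_le inf_le_right
  have hYpM : Yp ≤ M := inf_le_left.trans hYM
  have hMYp : M ≤ Subgroup.normalizer (Yp : Set G) :=
    le_normalizer_inf hMY (le_normalizer_pCoreOf p M)
  have hτ : Yp ≠ ⊥ → p ∈ Cfsg.tau2 M := by
    intro hne
    have hpσ : p ∉ Cfsg.sigma M :=
      hYpi p hp.out ((dvd_card_of_isPGroup_ne_bot hYpp hne).trans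
        (Subgroup.card_dvd_of_le inf_le_left))
    have hYptop : Yp ≠ ⊤ := by
      intro h
      apply hM.1
      rw [eq_top_iff, ← h]; exact hYpM
    have hN : Subgroup.normalizer (Yp : Set G) ≤ M :=
      (normalizer_eq_of_coatom hG hM hMYp hne hYptop).le
    rcases lemma122a hG hM hYpp hne hN with h | h
    · exact absurd h hpσ
    · exact h
  refine ⟨hτ, ?_⟩
  by_contra hnc
  have hne : Yp ≠ ⊥ := by
    intro h
    apply hnc
    rw [h]
    infer_instance
  have hpτ := hτ hne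
  have hpσ : p ∉ Cfsg.sigma M := hpτ.2.1
  have hodd : Odd (Nat.card G) := hG.1
  have hp2 : p ≠ 2 := by
    rintro rfl
    have h2 : 2 ∣ Nat.card G :=
      (dvd_card_of_isPGroup_ne_bot hYpp hne).trans (Subgroup.card_subgroup_dvd_card _)
    exact (Nat.not_even_iff_odd.mpr hodd) (even_iff_two_dvd.mpr h2)
  obtain ⟨B, hBY, hBel, hBcard, -⟩ := exists_normal_ea2 hp2 hYpp hnc
  have hBM : B ≤ M := hBY.trans hYpM
  obtain ⟨-, hSyl, -, hcent, -, -⟩ :=
    Cfsg.Agent.Helper4.BG12.thm125 hG hM hpτ ⟨hBM, hBel, hBcard⟩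
  obtain ⟨P, hP⟩ := (hYpp.comap_subtype (K := M)).exists_le_sylow
  have hYpP : Yp ≤ (P : Subgroup M).map M.subtype := by
    intro y hy
    exact ⟨⟨y, hYpM hy⟩, hP (Subgroup.mem_subgroupOf.mpr hy), rfl⟩
  obtain ⟨hiff, -⟩ := (hSyl P).2 (hBY.trans hYpP)
  -- `B` is normalized by `M`
  have hMB : M ≤ Subgroup.normalizer (B : Set G) := by
    intro m hm
    apply Subgroup.mem_normalizer_fintype
    intro b hb
    have h1 : m * b * m⁻¹ ∈ Yp :=
      (Subgroup.mem_normalizer_iff.mp (hMYp hm) b).mp (hBY hb)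
    have h2 : (m * b * m⁻¹) ^ p = 1 := by
      rw [conj_pow, hBel.2 b hb]; group
    exact (hiff _ (hYpP h1)).mp h2
  -- hence `M_σ` centralizes `B`
  have hdisj : Cfsg.sigmaCore M ⊓ B = ⊥ := by
    apply (Subgroup.disjoint_of_coprime_natCard _).eq_bot
    rw [hBcard]
    apply Nat.Coprime.pow_right
    apply Nat.Coprime.symm
    rw [Nat.Prime.coprime_iff_not_dvd hp.out]
    intro hd
    exact hpσ (Cfsg.Agent.Lead.BG12.mem_sigma_of_dvd_card_sigmaCore hp.out hd)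
  have hcentB : Cfsg.sigmaCore M ≤ Subgroup.centralizer (B : Set G) := by
    intro x hx
    rw [Subgroup.mem_centralizer_iff]
    intro b hb
    exact (commute_of_normalize_of_disjoint
      (sigmaCore_le.trans hMB) (hBM.trans (le_normalizer_sigmaCore M)) hdisj hx hb).symm
  apply sigmaCore_ne_bot hG hM
  rw [← hcent]
  exact (inf_eq_left.mpr hcentB).symm

/-- **S1439**: `Y = O_{σ(M)'}(F(M))` is cyclic, a `τ₂(M)`-group, and `F(M) = F(M_σ) Y`. -/
theorem fitting_sigma_prime_part (hG : Cfsg.IsMinSimpleOddOrder G) {M : Subgroup G}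
    (hM : IsCoatom M) :
    IsCyclic ↥(Cfsg.piCoreOf {q | q.Prime ∧ q ∉ Cfsg.sigma M} (Cfsg.fittingOf M)) ∧
      (∀ p : ℕ, p.Prime → p ∣ Nat.card ↥(Cfsg.piCoreOf {q | q.Prime ∧ q ∉ Cfsg.sigma M}
        (Cfsg.fittingOf M)) → p ∈ Cfsg.tau2 M) ∧
      Cfsg.fittingOf M = Cfsg.fittingOf (Cfsg.sigmaCore M) ⊔
        Cfsg.piCoreOf {q | q.Prime ∧ q ∉ Cfsg.sigma M} (Cfsg.fittingOf M) := by
  have key := fun (p : ℕ) (hp : Fact p.Prime) => isCyclic_inf_pcoreOf hG hM p
  obtain ⟨Y, hY⟩ : ∃ Y : Subgroup G,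
      Y = Cfsg.piCoreOf {q | q.Prime ∧ q ∉ Cfsg.sigma M} (Cfsg.fittingOf M) := ⟨_, rfl⟩
  rw [← hY] at key ⊢
  have hYF : Y ≤ Cfsg.fittingOf M := hY ▸ piCoreOf_le _ _
  have hYnil : Group.IsNilpotent ↥Y := isNilpotent_of_le hYF (fittingOf_isNilpotent M)
  -- `p`-subgroups of `Y` lie in `Y ∩ O_p(M)`
  have hsub : ∀ (p : ℕ) [Fact p.Prime] (Q : Subgroup G), Q ≤ Y → IsPGroup p ↥Q →
      Q ≤ Y ⊓ pcoreOf p M := by
    intro p _ Q hQY hQp
    exact le_inf hQY (le_pCoreOf_of_le_fittingOf hQp (hQY.trans hYF))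
  refine ⟨?_, ?_, ?_⟩
  · haveI : IsZGroup ↥Y := by
      refine ⟨fun p hp P => ?_⟩
      haveI := Fact.mk hp
      have h1 : (P : Subgroup ↥Y).map Y.subtype ≤ Y ⊓ pcoreOf p M :=
        hsub p _ (Subgroup.map_subtype_le _) (P.2.map _)
      haveI hc : IsCyclic ↥(Y ⊓ pcoreOf p M) := (key p ⟨hp⟩).2
      have h2 : IsCyclic ↥((P : Subgroup ↥Y).map Y.subtype) := Subgroup.isCyclic_of_le h1
      exact isCyclic_of_surjective _
        ((P : Subgroup ↥Y).equivMapOfInjective Y.subtype Y.subtype_injective).symm.surjective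
    infer_instance
  · intro p hp hd
    haveI := Fact.mk hp
    apply (key p ⟨hp⟩).1
    obtain ⟨y, hy⟩ := exists_prime_orderOf_dvd_card' (G := ↥Y) p hd
    have hy1 : (y : G) ≠ 1 := by
      intro h
      have : y = 1 := Subtype.ext h
      rw [this, orderOf_one] at hy
      exact hp.one_lt.ne hy
    have hZp : IsPGroup p ↥(Subgroup.zpowers (y : G)) := by
      rw [IsPGroup.iff_card]
      refine ⟨1, ?_⟩
      rw [Nat.card_zpowers, pow_one, ← hy]
      exact (Subgroup.orderOf_coe y)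
    have h1 := hsub p _ (Subgroup.zpowers_le.mpr y.2) hZp
    intro hbot
    apply hy1
    have : (y : G) ∈ Y ⊓ pcoreOf p M := h1 (Subgroup.mem_zpowers _)
    rw [hbot, Subgroup.mem_bot] at this
    exact this
  · apply le_antisymm
    · apply fittingOf_le_of_forall
      intro r hr
      haveI := Fact.mk hr
      by_cases hrσ : r ∈ Cfsg.sigma M
      · refine le_trans ?_ le_sup_left
        have h1 : pcoreOf r M ≤ Cfsg.sigmaCore M :=
          le_sigmaCore' hG hM hrσ (pCoreOf_le r M) (pCoreOf_isPGroup r M)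
        apply Cfsg.Agent.Lead.BG127.le_fittingOf_of_normal_nilpotent h1
          (sigmaCore_le.trans (le_normalizer_pCoreOf r M))
        exact (pCoreOf_isPGroup r M).isNilpotent
      · refine le_trans ?_ le_sup_right
        rw [hY]
        apply le_piCoreOf (pCoreOf_le_fittingOf r M)
          ((fittingOf_le M).trans (le_normalizer_pCoreOf r M))
        intro q hq hd
        obtain ⟨k, hk⟩ := IsPGroup.iff_card.mp (pCoreOf_isPGroup r M)
        rw [hk] at hd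
        have : q = r := (Nat.prime_dvd_prime_iff_eq hq hr).mp (hq.dvd_of_dvd_pow hd)
        rw [this]
        exact ⟨hr, hrσ⟩
    · exact sup_le (fittingOf_sigmaCore_le M) hYF

end Cfsg.Agent.Helper1.BG14Fit
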