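import Mathlib
import Cfsg.Prelude
import Cfsg.Agent.Helper2.BG144e
import Cfsg.Agent.Lead.BG144g
import Cfsg.Agent.Lead.BG108d
import Cfsg.Agent.S1454
import Cfsg.Agent.S1408
import Cfsg.Agent.Helper1.SylowInt

set_option autoImplicit false
set_option linter.unusedSectionVars false
set_option linter.unusedVariables false

/-!
# Bender–Glauberman Theorem 14.4(d): `π(M) ∩ σ(N) ⊆ β(N)` for a supporting subgroup `N`
-/

namespace Cfsg.Agent.Helper1.BG144h

open Cfsg
open scoped Pointwise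

universe u

variable {G : Type u} [Group G] [Finite G]

/-- A `p`-subgroup containing an elementary abelian subgroup of order `p ^ 2` that is maximal among
the elementary abelian `p`-subgroups of `G` is narrow. -/
theorem isNarrow_of_max {p : ℕ} [hp : Fact p.Prime] (hp2 : p ≠ 2) (S A : Subgroup G)
    (hS : IsPGroup p ↥S) (hAS : A ≤ S) (hA : Cfsg.IsElementaryAbelian p A)
    (hA2 : Nat.card A = p ^ 2)
    (hmax : ∀ B : Subgroup G, Cfsg.IsElementaryAbelian p B → A ≤ B → B = A) :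
    Cfsg.IsNarrow p ↥S := by
  by_cases hr : Cfsg.PRankLE p 2 ↥S
  · exact Or.inl hr
  have hcommA := hA.1
  apply Cfsg.Agent.Lead.BG108.isNarrow_of_max_elementary p hp2 hS hr (A.subgroupOf S)
  · refine ⟨⟨⟨?_⟩⟩, ?_⟩
    · rintro ⟨a, ha⟩ ⟨b, hb⟩
      apply Subtype.ext
      apply Subtype.ext
      have h1 := hcommA.is_comm.comm ⟨(a : G), Subgroup.mem_subgroupOf.1 ha⟩
        ⟨(b : G), Subgroup.mem_subgroupOf.1 hb⟩
      have h2 : ((a : ↥S) : G) * ((b : ↥S) : G) = ((b : ↥S) : G) * ((a : ↥S) : G) :=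
        congrArg Subtype.val h1
      exact h2
    · intro a ha
      apply Subtype.ext
      have := hA.2 (a : G) (Subgroup.mem_subgroupOf.1 ha)
      rw [Subgroup.coe_pow, this, Subgroup.coe_one]
  · rw [Nat.card_congr (Subgroup.subgroupOfEquivOfLe hAS).toEquiv, hA2]
  · intro B hB hle
    have hBe : Cfsg.IsElementaryAbelian p (B.map S.subtype) := by
      have hcommB := hB.1
      refine ⟨⟨⟨?_⟩⟩, ?_⟩
      · rintro ⟨_, a, ha, rfl⟩ ⟨_, b, hb, rfl⟩
        apply Subtype.ext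
        have h1 := hcommB.is_comm.comm ⟨a, ha⟩ ⟨b, hb⟩
        have h2 := congrArg (fun z : ↥B => ((z : ↥S) : G)) h1
        exact h2
      · rintro _ ⟨a, ha, rfl⟩
        rw [← map_pow, hB.2 a ha, map_one]
    have hle' : A ≤ B.map S.subtype := by
      intro a ha
      exact ⟨⟨a, hAS ha⟩, hle (Subgroup.mem_subgroupOf.2 ha), rfl⟩
    have heq := hmax _ hBe hle'
    have h3 : (B.map S.subtype).subgroupOf S = B :=
      Subgroup.comap_map_eq_self_of_injective (Subgroup.subtype_injective _) B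
    rw [← h3, heq]

/-- An element of prime order `q` normalizing but not centralizing a narrow `p`-subgroup satisfies
`q < p` (odd order). -/
theorem lt_of_faithful_narrow (hodd : Odd (Nat.card G)) {p q : ℕ} [hp : Fact p.Prime]
    (hq : q.Prime) (hqp : q ≠ p) (R : Subgroup G) (hR : IsPGroup p ↥R)
    (hRn : Cfsg.IsNarrow p ↥R) {x : G} (hx : orderOf x = q)
    (hxR : x ∈ Subgroup.normalizer (R : Set G))
    (hxC : x ∉ Subgroup.centralizer (R : Set G)) : q < p := by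
  classical
  haveI : Fact q.Prime := ⟨hq⟩
  have hR1 : R ≠ ⊥ := by
    rintro rfl
    apply hxC
    rw [Subgroup.mem_centralizer_iff]
    intro y hy
    have : y = 1 := hy
    rw [this, one_mul, mul_one]
  have hpG : p ∣ Nat.card G := by
    obtain ⟨k, hk⟩ := IsPGroup.iff_card.mp hR
    have hk0 : k ≠ 0 := by
      rintro rfl
      rw [pow_zero] at hk
      exact hR1 (Subgroup.card_eq_one.mp hk)
    exact (dvd_pow_self p hk0).trans (hk ▸ Subgroup.card_subgroup_dvd_card R)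
  have hp2 : p ≠ 2 := by
    rintro rfl
    obtain ⟨t, ht⟩ := hodd
    omega
  set X : Subgroup G := Subgroup.zpowers x with hX
  have hXcard : Nat.card X = q := by rw [Nat.card_zpowers, hx]
  have hXn : X ≤ Subgroup.normalizer (R : Set G) := by
    rw [hX, Subgroup.zpowers_le]; exact hxR
  have hXs : Group.IsSolvable ↥X := by
    haveI : IsCyclic ↥X := by rw [hX]; infer_instance
    infer_instance
  have hXodd : Odd (Nat.card ↥X) := by
    have h1 : Nat.card ↥X ∣ Nat.card G := Subgroup.card_subgroup_dvd_card X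
    exact Odd.of_dvd_nat hodd h1
  have hfaith : X ⊓ Subgroup.centralizer (R : Set G) = ⊥ := by
    rw [Subgroup.eq_bot_iff_forall]
    intro y hy
    by_contra hy1
    apply hxC
    haveI : Fact (Nat.card ↥X).Prime := ⟨by rw [hXcard]; exact hq⟩
    have hy1' : (⟨y, hy.1⟩ : ↥X) ≠ 1 := fun h => hy1 (congrArg Subtype.val h)
    have hmem : (⟨x, Subgroup.mem_zpowers x⟩ : ↥X) ∈ Subgroup.zpowers (⟨y, hy.1⟩ : ↥X) :=
      mem_zpowers_of_prime_card rfl hy1'
    obtain ⟨k, hk⟩ := Subgroup.mem_zpowers_iff.mp hmem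
    have hk' : y ^ k = x := by
      have := congrArg Subtype.val hk
      simpa using this
    rw [← hk']
    exact Subgroup.zpow_mem _ hy.2 k
  obtain ⟨-, -, h3⟩ := Cfsg.Agent.S1454.result p hp2 R X hR hRn hXn hXs hXodd hfaith
  rw [hXcard] at h3
  by_cases hdvd : q ∣ p * (p - 1)
  · rcases (Nat.Prime.dvd_mul hq).1 hdvd with h | h
    · exact absurd ((Nat.prime_dvd_prime_iff_eq hq hp.out).1 h) hqp
    · have hpos : 0 < p - 1 := by have := hp.out.two_le; omega
      have := Nat.le_of_dvd hpos h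
      omega
  · obtain ⟨h4, -⟩ := h3 hq hdvd
    have hpos : 0 < p + 1 := by omega
    have := Nat.le_of_dvd hpos h4
    have := hq.two_le
    omega


/-- `M ∩ N` is a Hall `σ(N)'`-subgroup of `N` for bad data. -/
theorem inf_isPiHallOf {M N : Subgroup G} {a : G} (hG : Cfsg.IsMinSimpleOddOrder G)
    (d : Cfsg.Agent.Helper2.BG144.BadData M N a) :
    Cfsg.IsPiHallOf {p | p ∉ Cfsg.sigma N} (M ⊓ N) N := by
  classical
  have hN := d.coatom
  refine ⟨inf_le_right, ?_, ?_⟩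
  · intro p hp hd hpσ
    haveI : Fact p.Prime := ⟨hp⟩
    obtain ⟨⟨y, hyMN⟩, hyo⟩ := exists_prime_orderOf_dvd_card' (G := ↥(M ⊓ N)) p hd
    have hyo' : orderOf y = p := by
      have := Subgroup.orderOf_coe (⟨y, hyMN⟩ : ↥(M ⊓ N))
      rw [← this] at hyo
      exact hyo
    have hYp : IsPGroup p ↥(Subgroup.zpowers y) :=
      IsPGroup.of_card (n := 1) (by rw [Nat.card_zpowers, hyo', pow_one])
    have hYN : Subgroup.zpowers y ≤ N := Subgroup.zpowers_le.2 hyMN.2
    have hyσ : y ∈ Cfsg.sigmaCore N :=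
      Cfsg.Agent.Lead.BG12.le_sigmaCore' hG hN hpσ hYN hYp (Subgroup.mem_zpowers y)
    have : y ∈ Cfsg.sigmaCore N ⊓ M := ⟨hyσ, hyMN.1⟩
    rw [d.inf_bot, Subgroup.mem_bot] at this
    rw [this, orderOf_one] at hyo'
    exact hp.one_lt.ne hyo'
  · intro p hp hpσ hd
    apply hpσ
    have h1 := Cfsg.Agent.Helper1.IsComplIn_card_mul d.compl
    have h2 := Cfsg.Agent.Helper1.relIndex_mul_card_of_le (inf_le_right : M ⊓ N ≤ N)
    have h3 : (M ⊓ N).relIndex N = Nat.card ↥(Cfsg.sigmaCore N) := by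
      have : (M ⊓ N).relIndex N * Nat.card ↥(M ⊓ N) =
          Nat.card ↥(Cfsg.sigmaCore N) * Nat.card ↥(M ⊓ N) := by
        rw [h2, mul_comm, h1]
      exact Nat.eq_of_mul_eq_mul_right Nat.card_pos this
    rw [h3] at hd
    exact Cfsg.Agent.Lead.BG12.mem_sigma_of_dvd_card_sigmaCore hp hd


/-- **Bender–Glauberman Theorem 14.4(d)**: if `N` supports `M` through the bad element `a`, then
every prime of `σ(N)` dividing `|M|` lies in `β(N)`. -/
theorem mem_beta_of_badData (hG : Cfsg.IsMinSimpleOddOrder G) {M N : Subgroup G}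
    (hM : IsCoatom M) {a : G} (ha : a ∈ Cfsg.sigmaCore M) (ha1 : a ≠ 1)
    (hbad : ¬ Subgroup.centralizer ({a} : Set G) ≤ M)
    (d : Cfsg.Agent.Helper2.BG144.BadData M N a) {q : ℕ} (hq : q.Prime)
    (hqN : q ∈ Cfsg.sigma N) (hqM : q ∣ Nat.card M) : q ∈ Cfsg.beta N := by
  classical
  by_contra hβ
  have hN := d.coatom
  have hodd : Odd (Nat.card G) := hG.1
  haveI hqF : Fact q.Prime := ⟨hq⟩
  have hsolvN : Group.IsSolvable ↥N := hG.2.2.2 N hN.1
  -- reduce to an element of prime order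
  have hord : orderOf a ≠ 1 := by rwa [Ne, orderOf_eq_one_iff]
  obtain ⟨s, hs, hsa⟩ := Nat.exists_prime_and_dvd hord
  haveI hsF : Fact s.Prime := ⟨hs⟩
  have hord0 : orderOf a ≠ 0 := (orderOf_pos a).ne'
  obtain ⟨a', ha'def⟩ : ∃ a' : G, a' = a ^ (orderOf a / s) := ⟨_, rfl⟩
  have ha'ord : orderOf a' = s := by rw [ha'def]; exact orderOf_pow_orderOf_div hord0 hsa
  have ha'σ : a' ∈ Cfsg.sigmaCore M := by rw [ha'def]; exact Subgroup.pow_mem _ ha _
  have ha'1 : a' ≠ 1 := by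
    intro h; rw [h, orderOf_one] at ha'ord; exact hs.one_lt.ne ha'ord
  have hCle : Subgroup.centralizer ({a} : Set G) ≤ Subgroup.centralizer ({a'} : Set G) := by
    rw [ha'def]; exact Cfsg.Agent.Helper2.BG144.cent_singleton_le_pow a _
  have hbad' : ¬ Subgroup.centralizer ({a'} : Set G) ≤ M := fun h => hbad (hCle.trans h)
  obtain ⟨N', d'⟩ := Cfsg.Agent.Helper2.BG144.exists_badData hG hM ha'σ ha'1 hbad'
  have hN' : N' = N := Cfsg.Agent.Helper2.BG144.unique_of_badData hG hM ha ha1 hbad d N'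
    d'.coatom (hCle.trans d'.cent_le)
  rw [hN'] at d'
  have hsτ : s ∈ Cfsg.tau2 N :=
    Cfsg.Agent.Helper2.BG144.mem_tau2_of_dvd_orderOf hG hM ha hbad d hs hsa
  have hsσM : s ∈ Cfsg.sigma M := by
    apply Cfsg.Agent.Lead.BG12.mem_sigma_of_dvd_card_sigmaCore hs
    rw [← ha'ord]; exact Subgroup.orderOf_dvd_natCard _ ha'σ
  have hsσN : s ∉ Cfsg.sigma N := hsτ.2.1
  have hqσM : q ∉ Cfsg.sigma M := by
    intro h
    obtain ⟨g, hg⟩ := (Cfsg.Agent.S1378.result hG).2 M N hM hN ⟨q, h, hqN⟩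
    exact d.not_conj g hg
  have hqs : q ≠ s := fun h => hqσM (h ▸ hsσM)
  have hσM_le : Cfsg.sigmaCore M ≤ M := Cfsg.Agent.Lead.BG12.sigmaCore_le
  have ha'M : a' ∈ M := hσM_le ha'σ
  have ha'C : a' ∈ Subgroup.centralizer ({a'} : Set G) := by
    rw [Subgroup.mem_centralizer_singleton_iff]
  have ha'N : a' ∈ N := d'.cent_le ha'C
  -- an elementary abelian subgroup of order `s ^ 2` in `M ∩ N`
  obtain ⟨A₀, hA₀N, hA₀el, hA₀card⟩ :=
    Cfsg.Agent.Helper4.BG12.exists_ea2_of_not_pRankLE_one hG (H := N) hsτ.2.2.2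
  have hHall := inf_isPiHallOf hG d
  obtain ⟨m, hm, hA₀m⟩ := Cfsg.Agent.Helper1.BG147.exists_conj_ge_of_hall hsolvN hHall hA₀N (by
    intro r hr hd
    rw [hA₀card] at hd
    have : r = s := (Nat.prime_dvd_prime_iff_eq hr hs).mp (hr.dvd_of_dvd_pow hd)
    rw [this]; exact hsσN)
  obtain ⟨A, hAdef⟩ : ∃ A : Subgroup G, A = A₀.map (MulAut.conj m⁻¹).toMonoidHom := ⟨_, rfl⟩
  have hAel : Cfsg.IsElementaryAbelian s A := by
    rw [hAdef]; exact Cfsg.Agent.Helper1.BGX.isElementaryAbelian_map hA₀el _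
  have hAcard : Nat.card A = s ^ 2 := by
    rw [hAdef, Cfsg.Agent.Lead.card_map_conj]; exact hA₀card
  have hAMN : A ≤ M ⊓ N := by
    rw [hAdef]
    rintro _ ⟨y, hy, rfl⟩
    obtain ⟨z, hz, hzy⟩ := hA₀m hy
    have : (MulAut.conj m⁻¹).toMonoidHom y = z := by
      rw [← hzy]
      simp only [MulEquiv.coe_toMonoidHom, MulAut.conj_apply]
      group
    rw [this]; exact hz
  have hAM : A ≤ M := hAMN.trans inf_le_left
  have hAN : A ≤ N := hAMN.trans inf_le_right
  have hAp : IsPGroup s ↥A := IsPGroup.of_card (n := 2) hAcard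
  -- `a' ∈ A`
  have ha'A : a' ∈ A := by
    have h1 := (Cfsg.Agent.S1418.result hG N hN (M ⊓ N) d.compl s hsτ A
      ⟨hAMN, hAel, hAcard⟩).1.2 (Subgroup.zpowers a')
      (Subgroup.zpowers_le.2 ⟨ha'M, ha'N⟩) (by rw [Nat.card_zpowers, ha'ord])
    exact h1 (Subgroup.mem_zpowers a')
  have hCA : Cfsg.sigmaCore N ⊓ Subgroup.centralizer (A : Set G) = ⊥ :=
    (Cfsg.Agent.S1417.result hG N hN s hsτ A ⟨hAN, hAel, hAcard⟩).2.2.2.1
  have hAσ : A ≤ Cfsg.sigmaCore M := Cfsg.Agent.Lead.BG12.le_sigmaCore' hG hM hsσM hAM hAp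
  have hmax := (Cfsg.Agent.S1408.result hG N hN s hsσN hsτ.2.2.1 hsτ.2.2.2).2 A hAN hAel hAcard
  have hs2 : s ≠ 2 := by
    rintro rfl
    have h2 : 2 ∣ Nat.card G := by
      have h3 : orderOf a' ∣ Nat.card G := orderOf_dvd_natCard a'
      rwa [ha'ord] at h3
    obtain ⟨t, ht⟩ := hodd
    omega
  -- an element of order `q` in `M`
  obtain ⟨⟨x, hxM⟩, hxo⟩ := exists_prime_orderOf_dvd_card' (G := ↥M) q hqM
  have hxo' : orderOf x = q := by
    have := Subgroup.orderOf_coe (⟨x, hxM⟩ : ↥M)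
    rw [← this] at hxo
    exact hxo
  have hx1 : x ≠ 1 := by
    intro h; rw [h, orderOf_one] at hxo'; exact hq.one_lt.ne hxo'
  -- first inequality: `q < s`
  have hlt1 : q < s := by
    set X : Subgroup G := Subgroup.zpowers x with hX
    have hXcard : Nat.card X = q := by rw [Nat.card_zpowers, hxo']
    have hXn : X ≤ Subgroup.normalizer ((Cfsg.sigmaCore M : Subgroup G) : Set G) := by
      rw [hX, Subgroup.zpowers_le]
      exact Cfsg.Agent.Lead.BG12.le_normalizer_sigmaCore M hxM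
    have hcop : (Nat.card X).Coprime (Nat.card ↥(Cfsg.sigmaCore M)) := by
      rw [hXcard]
      apply (Nat.Prime.coprime_iff_not_dvd hq).2
      intro h
      exact hqσM (Cfsg.Agent.Lead.BG12.mem_sigma_of_dvd_card_sigmaCore hq h)
    have hXs : Group.IsSolvable ↥X := by
      haveI : IsCyclic ↥X := by rw [hX]; infer_instance
      infer_instance
    obtain ⟨P₁, hP₁⟩ := Cfsg.Agent.Helper1.exists_invariant_sylow (p := s) X
      (Cfsg.sigmaCore M) hXn hcop (Or.inl hXs)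
    obtain ⟨P₀, hP₀⟩ := (hAp.comap_subtype (K := Cfsg.sigmaCore M)).exists_le_sylow
    obtain ⟨k, hk, hkP⟩ := Cfsg.Agent.Helper1.exists_conj_sylow_map (Cfsg.sigmaCore M) P₀ P₁
    obtain ⟨S₀, hS₀⟩ : ∃ S₀ : Subgroup G,
        S₀ = (P₀ : Subgroup ↥(Cfsg.sigmaCore M)).map (Cfsg.sigmaCore M).subtype := ⟨_, rfl⟩
    obtain ⟨S₁, hS₁⟩ : ∃ S₁ : Subgroup G,
        S₁ = (P₁ : Subgroup ↥(Cfsg.sigmaCore M)).map (Cfsg.sigmaCore M).subtype := ⟨_, rfl⟩
    rw [← hS₀, ← hS₁] at hkP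
    rw [← hS₁] at hP₁
    have hAS₀ : A ≤ S₀ := by
      rw [hS₀]
      intro y hy
      exact ⟨⟨y, hAσ hy⟩, hP₀ (Subgroup.mem_subgroupOf.mpr hy), rfl⟩
    have hS₀p : IsPGroup s ↥S₀ := by rw [hS₀]; exact P₀.2.map _
    have hS₁p : IsPGroup s ↥S₁ := by rw [hS₁]; exact P₁.2.map _
    have hS₀n : Cfsg.IsNarrow s ↥S₀ := isNarrow_of_max hs2 S₀ A hS₀p hAS₀ hAel hAcard hmax
    have hS₁n : Cfsg.IsNarrow s ↥S₁ := by
      rw [← hkP]
      exact Cfsg.Agent.Lead.BG108.isNarrow_of_mulEquiv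
        (Subgroup.equivSMul (MulAut.conj k) S₀) hS₀n
    have hkM : k ∈ M := hσM_le hk
    apply lt_of_faithful_narrow hodd hq hqs S₁ hS₁p hS₁n hxo' (hP₁ (Subgroup.mem_zpowers x))
    intro hxC
    -- `k * a' * k⁻¹ ∈ S₁`
    have hmem : k * a' * k⁻¹ ∈ S₁ := by
      rw [← hkP, Cfsg.Agent.Helper1.mem_conj_smul]
      have : k⁻¹ * (k * a' * k⁻¹) * k = a' := by group
      rw [this]; exact hAS₀ ha'A
    have hcomm := (Subgroup.mem_centralizer_iff.mp hxC) _ hmem
    -- `y = k⁻¹ x k` centralizes `a'`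
    have hyC : k⁻¹ * x * k ∈ Subgroup.centralizer ({a'} : Set G) := by
      rw [Subgroup.mem_centralizer_singleton_iff]
      have e1 : k⁻¹ * x * k * a' = k⁻¹ * (x * (k * a' * k⁻¹)) * k := by group
      have e2 : a' * (k⁻¹ * x * k) = k⁻¹ * ((k * a' * k⁻¹) * x) * k := by group
      rw [e1, e2, hcomm]
    have hyN : k⁻¹ * x * k ∈ N := d'.cent_le hyC
    have hyM : k⁻¹ * x * k ∈ M := M.mul_mem (M.mul_mem (M.inv_mem hkM) hxM) hkM
    have hyo : orderOf (k⁻¹ * x * k) = q := by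
      have : k⁻¹ * x * k = MulAut.conj k⁻¹ x := by simp
      rw [this, MulEquiv.orderOf_eq, hxo']
    have hYp : IsPGroup q ↥(Subgroup.zpowers (k⁻¹ * x * k)) :=
      IsPGroup.of_card (n := 1) (by rw [Nat.card_zpowers, hyo, pow_one])
    have hyσ : k⁻¹ * x * k ∈ Cfsg.sigmaCore N :=
      Cfsg.Agent.Lead.BG12.le_sigmaCore' hG hN hqN (Subgroup.zpowers_le.2 hyN) hYp
        (Subgroup.mem_zpowers _)
    have : k⁻¹ * x * k ∈ Cfsg.sigmaCore N ⊓ M := ⟨hyσ, hyM⟩
    rw [d.inf_bot, Subgroup.mem_bot] at this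
    rw [this, orderOf_one] at hyo
    exact hq.one_lt.ne hyo
  -- second inequality: `s < q`
  have hlt2 : s < q := by
    have hAn : A ≤ Subgroup.normalizer ((Cfsg.sigmaCore N : Subgroup G) : Set G) :=
      hAN.trans (Cfsg.Agent.Lead.BG12.le_normalizer_sigmaCore N)
    have hcop : (Nat.card A).Coprime (Nat.card ↥(Cfsg.sigmaCore N)) := by
      rw [hAcard]
      apply Nat.Coprime.pow_left
      apply (Nat.Prime.coprime_iff_not_dvd hs).2
      intro h
      exact hsσN (Cfsg.Agent.Lead.BG12.mem_sigma_of_dvd_card_sigmaCore hs h)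
    have hAs : Group.IsSolvable ↥A := by
      haveI := hAp.isNilpotent
      infer_instance
    obtain ⟨P₂, hP₂⟩ := Cfsg.Agent.Helper1.exists_invariant_sylow (p := q) A
      (Cfsg.sigmaCore N) hAn hcop (Or.inl hAs)
    obtain ⟨Q, hQ⟩ : ∃ Q : Subgroup G,
        Q = (P₂ : Subgroup ↥(Cfsg.sigmaCore N)).map (Cfsg.sigmaCore N).subtype := ⟨_, rfl⟩
    rw [← hQ] at hP₂
    have hQp : IsPGroup q ↥Q := by rw [hQ]; exact P₂.2.map _
    have hQσ : Q ≤ Cfsg.sigmaCore N := by rw [hQ]; exact Subgroup.map_subtype_le _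
    have hQN : Q ≤ N := hQσ.trans Cfsg.Agent.Lead.BG12.sigmaCore_le
    -- cardinalities
    obtain ⟨hcardN, hcopN⟩ := Cfsg.Agent.Helper4.BG10.card_eq_relIndex_mul_card_sigmaCore hG hN
    have hqrel : ¬ q ∣ (Cfsg.sigmaCore N).relIndex N :=
      (Cfsg.Agent.Lead.BG12.sigmaCore_hall hG N hN).1.2.2 q hq hqN
    have hfac : (Nat.card ↥N).factorization q = (Nat.card ↥(Cfsg.sigmaCore N)).factorization q := by
      have hrel0 : (Cfsg.sigmaCore N).relIndex N ≠ 0 := by
        intro h0; rw [h0, zero_mul] at hcardN; exact Nat.card_pos.ne' hcardN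
      rw [hcardN, Nat.factorization_mul hrel0 Nat.card_pos.ne', Finsupp.add_apply,
        Nat.factorization_eq_zero_of_not_dvd hqrel, zero_add]
    have hQcard : Nat.card ↥Q = q ^ (Nat.card ↥N).factorization q := by
      rw [hQ, Subgroup.card_map_of_injective (Subgroup.subtype_injective _),
        P₂.card_eq_multiplicity, hfac]
    have hqN' : q ∣ Nat.card ↥N := hqN.2.1
    have hQ1 : Q ≠ ⊥ := by
      intro h
      rw [h, Subgroup.card_bot] at hQcard
      have hpos : 0 < (Nat.card ↥N).factorization q :=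
        hq.factorization_pos_of_dvd Nat.card_pos.ne' hqN'
      have : 1 < q ^ (Nat.card ↥N).factorization q := Nat.one_lt_pow hpos.ne' hq.one_lt
      omega
    -- `Q` is narrow
    have hQn : Cfsg.IsNarrow q ↥Q := by
      by_cases hr : Cfsg.PRankLE q 2 ↥N
      · exact Or.inl (Cfsg.Agent.Helper6.Narrow.pRankLE_of_injective (Subgroup.inclusion hQN)
          (Subgroup.inclusion_injective hQN) hr)
      · have hα : q ∈ Cfsg.alpha N := ⟨hq, hr⟩
        obtain ⟨S₀, hS₀⟩ := Cfsg.Agent.Lead.BG108.exists_sylow_isNarrow hG hN hα hβ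
        have hcardQ' : Nat.card ↥(Q.subgroupOf N) = q ^ (Nat.card ↥N).factorization q := by
          rw [Cfsg.Agent.Helper1.card_subgroupOf_of_le hQN]; exact hQcard
        let SQ : Sylow q ↥N := Sylow.ofCard (Q.subgroupOf N) hcardQ'
        obtain ⟨g, hg⟩ := MulAction.exists_smul_eq ↥N S₀ SQ
        let e1 : ↥(S₀ : Subgroup ↥N) ≃* ↥((g • S₀ : Sylow q ↥N) : Subgroup ↥N) :=
          Sylow.equivSMul S₀ g
        have hn1 : Cfsg.IsNarrow q ↥((g • S₀ : Sylow q ↥N) : Subgroup ↥N) :=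
          Cfsg.Agent.Lead.BG108.isNarrow_of_mulEquiv e1 hS₀
        rw [hg] at hn1
        have hn2 : Cfsg.IsNarrow q ↥(Q.subgroupOf N) := hn1
        exact Cfsg.Agent.Lead.BG108.isNarrow_of_mulEquiv (Subgroup.subgroupOfEquivOfLe hQN) hn2
    -- some element of `A` does not centralize `Q`
    have hex : ∃ x' ∈ A, x' ∉ Subgroup.centralizer (Q : Set G) := by
      by_contra hall
      push Not at hall
      apply hQ1
      apply le_bot_iff.mp
      rw [← hCA]
      intro y hy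
      refine ⟨hQσ hy, Subgroup.mem_centralizer_iff.mpr ?_⟩
      intro z hz
      exact ((Subgroup.mem_centralizer_iff.mp (hall z hz)) y hy).symm
    obtain ⟨x', hx'A, hx'C⟩ := hex
    have hx'1 : x' ≠ 1 := by
      rintro rfl
      exact hx'C (Subgroup.one_mem _)
    have hx'o : orderOf x' = s := by
      have h1 : orderOf x' ∣ s := orderOf_dvd_of_pow_eq_one (hAel.2 x' hx'A)
      rcases (Nat.dvd_prime hs).1 h1 with h | h
      · exact absurd (orderOf_eq_one_iff.mp h) hx'1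
      · exact h
    exact lt_of_faithful_narrow hodd hs (Ne.symm hqs) Q hQp hQn hx'o (hP₂ hx'A) hx'C
  omega


/-- `κ` does not decrease under conjugation. -/
theorem kappa_subset_map_conj (hG : Cfsg.IsMinSimpleOddOrder G) {M : Subgroup G}
    (hM : IsCoatom M) (g : G) :
    Cfsg.kappa M ⊆ Cfsg.kappa (M.map (MulAut.conj g).toMonoidHom) := by
  classical
  intro p hpκ
  have hp : p.Prime := hpκ.1
  haveI : Fact p.Prime := ⟨hp⟩
  have hinj : Function.Injective (MulAut.conj g).toMonoidHom := (MulAut.conj g).injective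
  have hr1 : Cfsg.PRankLE p 1 ↥M := Cfsg.Agent.Helper4.BG14.pRankLE_one_of_mem_kappa hpκ
  obtain ⟨⟨x, hxM⟩, hxo⟩ := exists_prime_orderOf_dvd_card' (G := ↥M) p hpκ.2.1
  have hxo' : orderOf x = p := by
    have := Subgroup.orderOf_coe (⟨x, hxM⟩ : ↥M)
    rw [← this] at hxo
    exact hxo
  have hXM : Subgroup.zpowers x ≤ M := Subgroup.zpowers_le.2 hxM
  have hXcard : Nat.card ↥(Subgroup.zpowers x) = p := by rw [Nat.card_zpowers, hxo']
  have hne := Cfsg.Agent.Helper4.BG14.sigmaCore_inf_centralizer_ne_bot_of_mem_kappa hpκ hXM hXcard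
  obtain ⟨⟨y, hy⟩, hy1⟩ := (Subgroup.ne_bot_iff_exists_ne_one).mp hne
  have hy1' : y ≠ 1 := fun h => hy1 (Subtype.ext h)
  have hyx : y * x = x * y :=
    ((Subgroup.mem_centralizer_iff.mp hy.2) x (Subgroup.mem_zpowers x)).symm
  have hpσ' : p ∉ Cfsg.sigma (M.map (MulAut.conj g).toMonoidHom) := by
    rw [Cfsg.Agent.Helper2.BG144.sigma_map_conj hG hM g]; exact hpκ.2.2.1
  have hr1' : Cfsg.PRankLE p 1 ↥(M.map (MulAut.conj g).toMonoidHom) :=
    Cfsg.Agent.Helper6.Narrow.pRankLE_of_injective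
      (M.equivMapOfInjective _ hinj).symm.toMonoidHom
      (M.equivMapOfInjective _ hinj).symm.injective hr1
  have hdM : g * x * g⁻¹ ∈ M.map (MulAut.conj g).toMonoidHom :=
    ⟨x, hxM, by simp [MulAut.conj_apply]⟩
  have hdo : orderOf (g * x * g⁻¹) = p := by
    have : g * x * g⁻¹ = MulAut.conj g x := by simp [MulAut.conj_apply]
    rw [this, MulEquiv.orderOf_eq, hxo']
  have hy' : g * y * g⁻¹ ∈ Cfsg.sigmaCore (M.map (MulAut.conj g).toMonoidHom) := by
    rw [Cfsg.Agent.Helper2.BG144.sigmaCore_map_conj hG hM g]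
    exact ⟨y, hy.1, by simp [MulAut.conj_apply]⟩
  have hy'1 : g * y * g⁻¹ ≠ 1 := by
    intro h
    apply hy1'
    have : y = g⁻¹ * (g * y * g⁻¹) * g := by group
    rw [this, h]; group
  have hcomm : g * x * g⁻¹ * (g * y * g⁻¹) = g * y * g⁻¹ * (g * x * g⁻¹) := by
    have e1 : g * x * g⁻¹ * (g * y * g⁻¹) = g * (x * y) * g⁻¹ := by group
    have e2 : g * y * g⁻¹ * (g * x * g⁻¹) = g * (y * x) * g⁻¹ := by group
    rw [e1, e2, hyx]
  exact Cfsg.Agent.Helper4.BG14.mem_kappa_of_commute hG hpσ' hr1' hdM hdo hy' hy'1 hcomm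

/-- `κ` is invariant under conjugation. -/
theorem kappa_map_conj (hG : Cfsg.IsMinSimpleOddOrder G) {M : Subgroup G}
    (hM : IsCoatom M) (g : G) :
    Cfsg.kappa (M.map (MulAut.conj g).toMonoidHom) = Cfsg.kappa M := by
  apply Set.Subset.antisymm
  · have h := kappa_subset_map_conj hG (Cfsg.Agent.Helper2.BG144.isCoatom_map_conj hM g) g⁻¹
    rwa [Cfsg.Agent.Helper2.BG144.map_conj_map_conj, inv_mul_cancel,
      Cfsg.Agent.Helper2.BG144.map_conj_one] at h
  · exact kappa_subset_map_conj hG hM g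

/-- No prime of `τ₂(M)` lies in `σ(N)` for a supporting subgroup `N`. -/
theorem not_mem_tau2_of_badData (hG : Cfsg.IsMinSimpleOddOrder G) {M N : Subgroup G}
    (hM : IsCoatom M) {a : G} (ha : a ∈ Cfsg.sigmaCore M) (ha1 : a ≠ 1)
    (hbad : ¬ Subgroup.centralizer ({a} : Set G) ≤ M)
    (d : Cfsg.Agent.Helper2.BG144.BadData M N a) {t : ℕ} (htN : t ∈ Cfsg.sigma N) :
    t ∉ Cfsg.tau2 M := by
  intro htτ
  have ht : t.Prime := htτ.1
  haveI : Fact t.Prime := ⟨ht⟩
  obtain ⟨A, hAM, -, hAcard⟩ :=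
    Cfsg.Agent.Helper4.BG12.exists_ea2_of_not_pRankLE_one hG (H := M) htτ.2.2.2
  have htM : t ∣ Nat.card ↥M := by
    have h1 : Nat.card ↥A ∣ Nat.card ↥M := Subgroup.card_dvd_of_le hAM
    rw [hAcard] at h1
    exact (dvd_pow_self t two_ne_zero).trans h1
  have hβ := mem_beta_of_badData hG hM ha ha1 hbad d ht htN htM
  exact (Cfsg.Agent.S1408.result hG M hM t htτ.2.1 htτ.2.2.1 htτ.2.2.2).1 hβ.2

/-- No prime of `κ(M)` lies in `σ(N)` for a supporting subgroup `N`. -/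
theorem not_mem_kappa_of_badData (hG : Cfsg.IsMinSimpleOddOrder G) {M N : Subgroup G}
    (hM : IsCoatom M) {a : G} (ha : a ∈ Cfsg.sigmaCore M) (ha1 : a ≠ 1)
    (hbad : ¬ Subgroup.centralizer ({a} : Set G) ≤ M)
    (d : Cfsg.Agent.Helper2.BG144.BadData M N a) {t : ℕ} (htN : t ∈ Cfsg.sigma N) :
    t ∉ Cfsg.kappa M := by
  intro htκ
  have ht : t.Prime := htκ.1
  have hN := d.coatom
  have hκN : Cfsg.kappa N = ∅ :=
    Cfsg.Agent.Lead.BG144g.kappa_eq_empty_of_bad' hG hM ha ha1 hbad hN d.cent_le ⟨t, htκ⟩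
  obtain ⟨KH, hKH, hKH1⟩ := Cfsg.Agent.Helper1.BG147.exists_kappaHall_ne_bot hG hM ⟨t, htκ⟩
  obtain ⟨Ms, e⟩ := Cfsg.Agent.Helper1.BG147.exists_emb' hG hM hKH hKH1
  have P := Cfsg.Agent.Helper1.BG147.p142' hG hM hKH hKH1
  -- `t ∣ |KH|`
  have htK : t ∣ Nat.card ↥KH := by
    have h1 := Cfsg.Agent.Helper1.relIndex_mul_card_of_le hKH.1
    have h2 : t ∣ KH.relIndex M * Nat.card ↥KH := by rw [h1]; exact htκ.2.1
    rcases (Nat.Prime.dvd_mul ht).1 h2 with h | h
    · exact absurd h (hKH.2.2 t ht htκ)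
    · exact h
  have hKσ : KH ≤ Cfsg.sigmaCore Ms := by
    have := e.K_eq
    intro y hy
    rw [this] at hy
    exact hy.1
  have htMs : t ∈ Cfsg.sigma Ms :=
    Cfsg.Agent.Lead.BG12.mem_sigma_of_dvd_card_sigmaCore ht
      (htK.trans (Subgroup.card_dvd_of_le hKσ))
  obtain ⟨g, hg⟩ := (Cfsg.Agent.S1378.result hG).2 Ms N e.coatom hN ⟨t, htMs, htN⟩
  -- `κ(Ms) ≠ ∅`
  have hne : Nat.card ↥(Cfsg.sigmaCore M ⊓ Subgroup.centralizer (KH : Set G)) ≠ 1 := by
    intro h
    exact P.kstar_ne (Subgroup.card_eq_one.mp h)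
  obtain ⟨r, hr, hrd⟩ := Nat.exists_prime_and_dvd hne
  have hrκ : r ∈ Cfsg.kappa Ms := e.hall.2.1 r hr hrd
  have : r ∈ Cfsg.kappa N := by
    rw [hg, kappa_map_conj hG e.coatom g]; exact hrκ
  rw [hκN] at this
  exact this

end Cfsg.Agent.Helper1.BG144h
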