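import Mathlib
import Cfsg.Prelude
import Cfsg.Agent.Helper1.BG147m
import Cfsg.Agent.Helper1.BG1011
import Cfsg.Agent.Lead.BG108d
import Cfsg.Agent.S1426
import Cfsg.Agent.S1432

set_option autoImplicit false
set_option linter.unusedSectionVars false
set_option linter.unusedVariables false
set_option maxHeartbeats 800000

/-!
Maximal subgroups of type `P₂` (`K ≠ 1`, `U ≠ 1`): every prime divisor of `|M_σ|` lies in `β(M)`,
`M_σ` is a TI-subgroup, and `F(M)` is a TI-subset (BG Theorem 15.7(a), Type II condition).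
-/

namespace Cfsg.Agent.Helper1.BG15P2

open Cfsg Cfsg.Agent.Helper1.BG147
open scoped commutatorElement Pointwise

universe u

variable {G : Type u} [Group G] [Finite G]

/-- `U` is a Hall `(κ ∪ σ)'`-subgroup of `M`. -/
theorem decomp_U_hall (hG : Cfsg.IsMinSimpleOddOrder G) {M K U : Subgroup G} (hM : IsCoatom M)
    (hKU : Cfsg.IsSigmaDecomposition M K U) :
    Cfsg.IsPiHallOf {q | q.Prime ∧ q ∉ Cfsg.kappa M ∧ q ∉ Cfsg.sigma M} U M := by
  refine ⟨hKU.compl.1, ?_, ?_⟩
  · intro p hp hd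
    have := Cfsg.Agent.Helper4.BG15.decomp_U_primes hG hM hKU hp hd
    exact ⟨hp, this.2, this.1⟩
  · rintro p hp ⟨-, hpκ, hpσ⟩ hd
    have hc := Cfsg.Agent.Helper4.BG15.decomp_card hKU
    have h1 : U.relIndex M * Nat.card U = Nat.card M :=
      Cfsg.Agent.Helper1.relIndex_mul_card_of_le hKU.compl.1
    have h2 : U.relIndex M = Nat.card K * Nat.card (Cfsg.sigmaCore M) := by
      apply Nat.eq_of_mul_eq_mul_right (Nat.card_pos (α := ↥U))
      rw [h1, ← hc]; ring
    rw [h2] at hd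
    rcases (Nat.Prime.dvd_mul hp).mp hd with h | h
    · exact hpκ (hKU.hall.2.1 p hp h)
    · exact hpσ (Cfsg.Agent.Lead.BG12.mem_sigma_of_dvd_card_sigmaCore hp h)

/-- `⁅U, K⁆ = U` when `K ≠ 1`. -/
theorem commutator_U_K (hG : Cfsg.IsMinSimpleOddOrder G) (h142 : Hyp142 G)
    {M K U : Subgroup G} (hM : IsCoatom M) (hKU : Cfsg.IsSigmaDecomposition M K U)
    (hK1 : K ≠ ⊥) : ⁅U, K⁆ = U := by
  have P := h142 M K hM hKU.hall hK1
  haveI hsolvM : Group.IsSolvable ↥M := hG.2.2.2 M hM.1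
  have hcop : (Nat.card K).Coprime (Nat.card U) := by
    apply Nat.coprime_of_dvd
    intro t ht h1 h2
    exact (Cfsg.Agent.Helper4.BG15.decomp_U_primes hG hM hKU ht h2).2 (hKU.hall.2.1 t ht h1)
  have hUC : U ⊓ Subgroup.centralizer (K : Set G) = ⊥ := by
    obtain ⟨⟨k, hk⟩, hk1⟩ := (Subgroup.ne_bot_iff_exists_ne_one).1 hK1
    have hk1' : k ≠ 1 := fun h => hk1 (Subtype.ext h)
    have hZ := inf_centralizer_eq_Z hKU.hall P hKU.cyclic hk hk1'
    rw [eq_bot_iff]
    intro u hu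
    have huZ : u ∈ K ⊔ (Cfsg.sigmaCore M ⊓ Subgroup.centralizer (K : Set G)) := by
      rw [← hZ]
      refine ⟨hKU.compl.1 hu.1, ?_⟩
      change u ∈ Subgroup.centralizer ({k} : Set G)
      rw [Subgroup.mem_centralizer_iff]
      intro y hy
      rw [Set.mem_singleton_iff] at hy
      subst hy
      exact Subgroup.mem_centralizer_iff.mp hu.2 y hk
    have hcopZ : (Nat.card U).Coprime
        (Nat.card ↥(K ⊔ (Cfsg.sigmaCore M ⊓ Subgroup.centralizer (K : Set G)))) := by
      rw [card_Z hKU.hall]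
      apply Nat.coprime_of_dvd
      intro t ht h1 h2
      have hU := Cfsg.Agent.Helper4.BG15.decomp_U_primes hG hM hKU ht h1
      rcases (Nat.Prime.dvd_mul ht).mp h2 with h | h
      · exact hU.2 (hKU.hall.2.1 t ht h)
      · exact hU.1 (Cfsg.Agent.Lead.BG12.mem_sigma_of_dvd_card_sigmaCore ht
          (h.trans (Subgroup.card_dvd_of_le inf_le_left)))
    have := (Subgroup.disjoint_of_coprime_natCard hcopZ).eq_bot
    rw [← this]
    exact ⟨hu.1, huZ⟩
  have h := Cfsg.Agent.Helper1.coprime_commutator_sup_centralizer K U hKU.normal hcop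
    (Or.inl (Cfsg.Agent.Helper1.isSolvable_of_le hKU.hall.1 hsolvM))
  rw [hUC, sup_bot_eq] at h
  exact h

/-- **Type `P₂`: every prime divisor of `|M_σ|` lies in `β(M)`.** -/
theorem mem_beta_of_dvd_card_sigmaCore (hG : Cfsg.IsMinSimpleOddOrder G) (h142 : Hyp142 G)
    {M K U : Subgroup G} (hM : IsCoatom M) (hKU : Cfsg.IsSigmaDecomposition M K U)
    (hK1 : K ≠ ⊥) (hU1 : U ≠ ⊥) {t : ℕ} (ht : t.Prime)
    (htd : t ∣ Nat.card (Cfsg.sigmaCore M)) : t ∈ Cfsg.beta M := by
  classical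
  by_contra hβ
  haveI := Fact.mk ht
  haveI hsolvM : Group.IsSolvable ↥M := hG.2.2.2 M hM.1
  have htσ : t ∈ Cfsg.sigma M := Cfsg.Agent.Lead.BG12.mem_sigma_of_dvd_card_sigmaCore ht htd
  obtain ⟨q, hq, hqM, hqκ, hqσ⟩ := notP1_of_U_ne_bot hG hM hKU hU1
  have hUhall := decomp_U_hall hG hM hKU
  obtain ⟨hCU, hnil⟩ := sigmaCore_inf_centralizer_hall_eq_bot hG hM hUhall hq hqM hqκ hqσ
  -- the group `A = UK`
  have hcopUK : (Nat.card U).Coprime (Nat.card K) := by
    apply Nat.coprime_of_dvd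
    intro r hr h1 h2
    exact (hUhall.2.1 r hr h1).2.1 (hKU.hall.2.1 r hr h2)
  have hUK : U ⊓ K = ⊥ := (Subgroup.disjoint_of_coprime_natCard hcopUK).eq_bot
  have hAM : U ⊔ K ≤ M := sup_le hKU.compl.1 hKU.hall.1
  have hcard : Nat.card ↥(U ⊔ K) = Nat.card K * Nat.card U :=
    Cfsg.Agent.Helper1.card_sup_of_le_normalizer hKU.normal (by rw [inf_comm]; exact hUK)
  have hcop : (Nat.card ↥(U ⊔ K)).Coprime (Nat.card ↥(Cfsg.sigmaCore M)) := by
    apply Nat.coprime_of_dvd
    intro r hr h1 h2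
    have hσ := Cfsg.Agent.Lead.BG12.mem_sigma_of_dvd_card_sigmaCore hr h2
    rw [hcard] at h1
    rcases (Nat.Prime.dvd_mul hr).mp h1 with h | h
    · exact (hKU.hall.2.1 r hr h).2.2.1 hσ
    · exact (hUhall.2.1 r hr h).2.2 hσ
  have hsolvA : Group.IsSolvable ↥(U ⊔ K) := Cfsg.Agent.Helper1.isSolvable_of_le hAM hsolvM
  have hAn : U ⊔ K ≤ Subgroup.normalizer ((Cfsg.sigmaCore M : Subgroup G) : Set G) :=
    hAM.trans (Cfsg.Agent.Lead.BG12.le_normalizer_sigmaCore M)
  obtain ⟨P, -, hAP⟩ := Cfsg.Agent.Helper1.exists_invariant_sylow_ge (p := t) (U ⊔ K)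
    (Cfsg.sigmaCore M) hAn hcop (Or.inl hsolvA) ⊥ bot_le IsPGroup.of_bot (by
      intro a _
      rw [Subgroup.mem_normalizer_iff]
      intro x
      simp)
  obtain ⟨T, hT⟩ : ∃ T : Subgroup G,
      T = (P : Subgroup ↥(Cfsg.sigmaCore M)).map (Cfsg.sigmaCore M).subtype := ⟨_, rfl⟩
  rw [← hT] at hAP
  have hTσ : T ≤ Cfsg.sigmaCore M := by rw [hT]; exact Subgroup.map_subtype_le _
  have hTp : IsPGroup t ↥T := by rw [hT]; exact P.isPGroup'.map _
  have hTcard : Nat.card T = t ^ (Nat.card (Cfsg.sigmaCore M)).factorization t := by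
    rw [hT, Subgroup.card_map_of_injective (Subgroup.subtype_injective _)]
    exact Sylow.card_eq_multiplicity P
  have hT1 : T ≠ ⊥ := by
    intro h
    rw [h, Subgroup.card_bot] at hTcard
    have h0 : (Nat.card (Cfsg.sigmaCore M)).factorization t ≠ 0 := by
      intro h0
      rcases (Nat.factorization_eq_zero_iff _ _).mp h0 with h | h | h
      · exact h ht
      · exact h htd
      · exact Nat.card_pos.ne' h
    have := Nat.one_lt_pow h0 ht.one_lt
    omega
  -- `T` is narrow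
  have hTn : Cfsg.IsNarrow t ↥T := by
    by_cases hα : t ∈ Cfsg.alpha M
    · obtain ⟨S, hS⟩ := Cfsg.Agent.Lead.BG108.exists_sylow_isNarrow hG hM hα hβ
      have hTM : T ≤ M := hTσ.trans Cfsg.Agent.Lead.BG12.sigmaCore_le
      have hfac : (Nat.card (Cfsg.sigmaCore M)).factorization t = (Nat.card M).factorization t := by
        have h1 := Cfsg.Agent.Helper1.relIndex_mul_card_of_le
          (Cfsg.Agent.Lead.BG12.sigmaCore_le (M := M))
        have h2 := (Cfsg.Agent.Lead.BG12.sigmaCore_hall hG M hM).1.2.2 t ht htσ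
        have hr0 : (Cfsg.sigmaCore M).relIndex M ≠ 0 := by
          intro h
          rw [h, zero_mul] at h1
          exact Nat.card_pos.ne' h1.symm
        rw [← h1, Nat.factorization_mul hr0 Nat.card_pos.ne', Finsupp.add_apply,
          Nat.factorization_eq_zero_of_not_dvd h2, zero_add]
      have hcard' : Nat.card ↥(T.subgroupOf M) = t ^ (Nat.card M).factorization t := by
        rw [Nat.card_congr (Subgroup.subgroupOfEquivOfLe hTM).toEquiv, hTcard, hfac]
      let S' : Sylow t ↥M := Sylow.ofCard (T.subgroupOf M) hcard'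
      have e1 : ↥(S : Subgroup ↥M) ≃* ↥(S' : Subgroup ↥M) := Sylow.equiv S S'
      have e2 : ↥(S' : Subgroup ↥M) ≃* ↥T := Subgroup.subgroupOfEquivOfLe hTM
      exact Cfsg.Agent.Lead.BG108.isNarrow_of_mulEquiv (e1.trans e2) hS
    · left
      have h2 : Cfsg.PRankLE t 2 ↥M := by
        by_contra h
        exact hα ⟨ht, h⟩
      exact Cfsg.Agent.Helper6.Narrow.pRankLE_of_injective
        (Subgroup.inclusion (hTσ.trans Cfsg.Agent.Lead.BG12.sigmaCore_le))
        (Subgroup.inclusion_injective _) h2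
  have ht2 : t ≠ 2 := by
    rintro rfl
    have h2 : 2 ∣ Nat.card G := htd.trans (Subgroup.card_subgroup_dvd_card _)
    obtain ⟨j, hj⟩ := hG.1
    omega
  have hoddA : Odd (Nat.card ↥(U ⊔ K)) :=
    Odd.of_dvd_nat hG.1 (Subgroup.card_subgroup_dvd_card _)
  have hcent := Cfsg.Agent.Helper1.BG1011.narrow_commutator_coprime_le_centralizer ht2 T (U ⊔ K)
    hTp hTn hAP hsolvA hoddA
  have hUU := commutator_U_K hG h142 hM hKU hK1
  have hUC : U ≤ Subgroup.centralizer (T : Set G) := by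
    intro u hu
    apply hcent u
    · have : u ∈ ⁅U, K⁆ := by rw [hUU]; exact hu
      exact Subgroup.commutator_mono le_sup_left le_sup_right this
    · have h1 : orderOf u ∣ Nat.card U := Subgroup.orderOf_dvd_natCard _ hu
      apply Nat.Coprime.coprime_dvd_left h1
      rw [Nat.coprime_comm, Nat.Prime.coprime_iff_not_dvd ht]
      intro h
      exact (hUhall.2.1 t ht h).2.2 htσ
  apply hT1
  rw [eq_bot_iff, ← hCU]
  intro x hx
  refine ⟨hTσ hx, ?_⟩
  change x ∈ Subgroup.centralizer (U : Set G)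
  rw [Subgroup.mem_centralizer_iff]
  intro u hu
  exact (Subgroup.mem_centralizer_iff.mp (hUC hu) x hx).symm

end Cfsg.Agent.Helper1.BG15P2
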