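import Mathlib
import Cfsg.Prelude
import Cfsg.Agent.Helper1.BG15P2a
import Cfsg.Agent.Helper1.BGVc
import Cfsg.Agent.Helper1.CNGroup
import Cfsg.Agent.Lead.BG127d

set_option autoImplicit false
set_option linter.unusedSectionVars false
set_option linter.unusedVariables false
set_option maxHeartbeats 800000

/-!
Maximal subgroups of type `P₂`: `M_σ` is TI and `F(M)` is a TI-subset.
-/

namespace Cfsg.Agent.Helper1.BG15P2

open Cfsg Cfsg.Agent.Helper1.BG147
open scoped commutatorElement Pointwise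

universe u

variable {G : Type u} [Group G] [Finite G]

/-- **Type `P₂`: `M_σ ∩ M^g = 1` for `g ∉ M`.** -/
theorem sigmaCore_inf_conj_eq_bot (hG : Cfsg.IsMinSimpleOddOrder G) (h142 : Hyp142 G)
    {M K U : Subgroup G} (hM : IsCoatom M) (hKU : Cfsg.IsSigmaDecomposition M K U)
    (hK1 : K ≠ ⊥) (hU1 : U ≠ ⊥) {g : G} (hg : g ∉ M) :
    Cfsg.sigmaCore M ⊓ M.map (MulAut.conj g).toMonoidHom = ⊥ := by
  obtain ⟨E, hE, -⟩ := Cfsg.Agent.Helper4.BG10.exists_compl_sigmaCore_ge hG hM (U := ⊥) bot_le (by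
    intro t ht hd
    rw [Subgroup.card_bot] at hd
    exact absurd (Nat.dvd_one.mp hd) ht.one_lt.ne')
  have h26 := ((Cfsg.Agent.S1426.result hG M hM E hE).2.2 g hg).2.1
  by_contra hne
  obtain ⟨p, hp, hpd⟩ := Nat.exists_prime_and_dvd
    (show Nat.card ↥(Cfsg.sigmaCore M ⊓ M.map (MulAut.conj g).toMonoidHom) ≠ 1 from
      fun h => hne (Subgroup.card_eq_one.mp h))
  exact h26 p hp hpd (mem_beta_of_dvd_card_sigmaCore hG h142 hM hKU hK1 hU1 hp
    (hpd.trans (Subgroup.card_dvd_of_le inf_le_left)))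

/-- `M_σ ≤ F(M)` when `M_σ` is nilpotent. -/
theorem sigmaCore_le_fittingOf {M : Subgroup G} (hnil : Group.IsNilpotent ↥(Cfsg.sigmaCore M)) :
    Cfsg.sigmaCore M ≤ Cfsg.fittingOf M :=
  Cfsg.Agent.Lead.BG127.le_fittingOf_of_normal_nilpotent Cfsg.Agent.Lead.BG12.sigmaCore_le
    (Cfsg.Agent.Lead.BG12.le_normalizer_sigmaCore M) hnil

/-- An element of `F(M)` of prime order `r ∉ σ(M)` centralizes `M_σ` (when `M_σ` is nilpotent). -/
theorem commute_of_mem_fittingOf {M : Subgroup G}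
    (hnil : Group.IsNilpotent ↥(Cfsg.sigmaCore M)) {x : G} (hx : x ∈ Cfsg.fittingOf M) {r : ℕ}
    (hr : r.Prime) (hxr : orderOf x = r) (hrσ : r ∉ Cfsg.sigma M) {s : G}
    (hs : s ∈ Cfsg.sigmaCore M) : x * s = s * x := by
  apply Cfsg.Agent.Helper1.commute_of_coprime_orderOf_of_mem
    (Cfsg.Agent.Helper1.BGV.fittingOf_isNilpotent M) hx (sigmaCore_le_fittingOf hnil hs)
  rw [hxr, Nat.Prime.coprime_iff_not_dvd hr]
  intro h
  exact hrσ (Cfsg.Agent.Lead.BG12.mem_sigma_of_dvd_card_sigmaCore hr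
    (h.trans (Subgroup.orderOf_dvd_natCard _ hs)))

/-- Type `P`: for an element `x ∈ F(M)` of prime order `r ∉ σ(M)`, `M` is the only maximal subgroup
containing `C_G(x)`. -/
theorem uniq_of_mem_fittingOf (hG : Cfsg.IsMinSimpleOddOrder G) (h142 : Hyp142 G)
    {M K U : Subgroup G} (hM : IsCoatom M) (hKU : Cfsg.IsSigmaDecomposition M K U)
    (hK1 : K ≠ ⊥) (hnil : Group.IsNilpotent ↥(Cfsg.sigmaCore M)) {x : G}
    (hx : x ∈ Cfsg.fittingOf M) {r : ℕ} (hr : r.Prime) (hxr : orderOf x = r)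
    (hrσ : r ∉ Cfsg.sigma M) :
    ∀ L : Subgroup G, IsCoatom L → Subgroup.centralizer ({x} : Set G) ≤ L → L = M := by
  have P := h142 M K hM hKU.hall hK1
  haveI hsolvM : Group.IsSolvable ↥M := hG.2.2.2 M hM.1
  have hxM : x ∈ M := Cfsg.Agent.Helper1.BGV.fittingOf_le M hx
  have hx1 : x ≠ 1 := by
    intro h
    rw [h, orderOf_one] at hxr
    exact hr.one_lt.ne hxr
  obtain ⟨⟨y, hy⟩, hy1⟩ := (Subgroup.ne_bot_iff_exists_ne_one).1 P.kstar_ne
  have hy1' : y ≠ 1 := fun h => hy1 (Subtype.ext h)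
  have hxy : x ∈ M ⊓ Subgroup.centralizer ({y} : Set G) := by
    refine ⟨hxM, ?_⟩
    change x ∈ Subgroup.centralizer ({y} : Set G)
    rw [Subgroup.mem_centralizer_iff]
    intro w hw
    rw [Set.mem_singleton_iff] at hw
    subst hw
    exact (commute_of_mem_fittingOf hnil hx hr hxr hrσ hy.1).symm
  have hσ : ∀ p : ℕ, p.Prime → p ∣ orderOf x → p ∉ Cfsg.sigma M := by
    intro p hp hpd
    rw [hxr] at hpd
    rw [(Nat.prime_dvd_prime_iff_eq hp hr).mp hpd]
    exact hrσ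
  rcases Cfsg.Agent.S1432.result hG M hM y hy.1 hy1' x hxy hx1 hσ with ⟨hκ, -⟩ | ⟨-, -, -, hu⟩
  · exfalso
    have hrκ : r ∈ Cfsg.kappa M := hκ r hr (by rw [hxr])
    have hXM : Subgroup.zpowers x ≤ M := Subgroup.zpowers_le.mpr hxM
    obtain ⟨m, hmM, hXm⟩ := exists_conj_ge_of_hall hsolvM hKU.hall hXM (by
      intro p hp hpd
      rw [Nat.card_zpowers, hxr] at hpd
      rw [(Nat.prime_dvd_prime_iff_eq hp hr).mp hpd]
      exact hrκ)
    obtain ⟨k, hk, hkx⟩ := hXm (Subgroup.mem_zpowers x)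
    simp only [MulEquiv.coe_toMonoidHom, MulAut.conj_apply] at hkx
    have hk1 : k ≠ 1 := by
      rintro rfl
      apply hx1
      rw [← hkx]; group
    have hle : Cfsg.sigmaCore M ≤ Subgroup.centralizer ({k} : Set G) := by
      intro s hs
      rw [Subgroup.mem_centralizer_iff]
      intro w hw
      rw [Set.mem_singleton_iff] at hw
      subst hw
      have hs' : m * s * m⁻¹ ∈ Cfsg.sigmaCore M :=
        (Subgroup.mem_normalizer_iff.mp
          (Cfsg.Agent.Lead.BG12.le_normalizer_sigmaCore M hmM) s).mp hs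
      have h1 := commute_of_mem_fittingOf hnil hx hr hxr hrσ hs'
      rw [← hkx] at h1
      have h2 : m * (w * s) * m⁻¹ = m * (s * w) * m⁻¹ := by
        calc m * (w * s) * m⁻¹ = m * w * m⁻¹ * (m * s * m⁻¹) := by group
          _ = m * s * m⁻¹ * (m * w * m⁻¹) := h1
          _ = m * (s * w) * m⁻¹ := by group
      exact mul_left_cancel (mul_right_cancel h2)
    have h3 := P.prime_action k hk hk1
    rw [inf_eq_left.mpr hle] at h3
    exact P.kstar_lt h3.symm
  · exact hu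

/-- **Type `P₂`: `F(M)` is a TI-subset of `G`.** -/
theorem fittingOf_TI (hG : Cfsg.IsMinSimpleOddOrder G) (h142 : Hyp142 G)
    {M K U : Subgroup G} (hM : IsCoatom M) (hKU : Cfsg.IsSigmaDecomposition M K U)
    (hK1 : K ≠ ⊥) (hU1 : U ≠ ⊥) : Cfsg.IsTISubset (Cfsg.fittingOf M : Set G) := by
  have hnil := isNilpotent_sigmaCore_of_notP1 hG hM (notP1_of_U_ne_bot hG hM hKU hU1)
  intro g hg x hx hgx
  by_contra hx1
  have hgM : g ∉ M := fun h => hg (Cfsg.Agent.Helper1.BGV.le_normalizer_fittingOf M h)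
  obtain ⟨r, hr, hord⟩ := Cfsg.Agent.Helper4.BG14.exists_prime_order_pow hx1
  obtain ⟨x', hx'⟩ : ∃ x' : G, x' = x ^ (orderOf x / r) := ⟨_, rfl⟩
  rw [← hx'] at hord
  have hx'F : x' ∈ Cfsg.fittingOf M := by rw [hx']; exact Subgroup.pow_mem _ hx _
  have hgx' : g * x' * g⁻¹ ∈ Cfsg.fittingOf M := by
    have h1 : g * x' * g⁻¹ = (g * x * g⁻¹) ^ (orderOf x / r) := by rw [hx', conj_pow]
    rw [h1]; exact Subgroup.pow_mem _ hgx _
  have hx'1 : x' ≠ 1 := by
    intro h
    rw [h, orderOf_one] at hord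
    exact hr.one_lt.ne hord
  have hx'M : x' ∈ M := Cfsg.Agent.Helper1.BGV.fittingOf_le M hx'F
  haveI := Fact.mk hr
  by_cases hrσ : r ∈ Cfsg.sigma M
  · -- `x' ∈ M_σ ∩ M^{g⁻¹} = 1`
    have h1 : x' ∈ Cfsg.sigmaCore M := by
      apply Cfsg.Agent.Lead.BG12.le_sigmaCore' hG hM hrσ (Subgroup.zpowers_le.mpr hx'M)
        (IsPGroup.of_card (n := 1) (by rw [Nat.card_zpowers, hord, pow_one]))
      exact Subgroup.mem_zpowers x'
    have hg' : g⁻¹ ∉ M := fun h => hgM (by simpa using Subgroup.inv_mem _ h)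
    have h2 : x' ∈ M.map (MulAut.conj g⁻¹).toMonoidHom := by
      refine ⟨g * x' * g⁻¹, Cfsg.Agent.Helper1.BGV.fittingOf_le M hgx', ?_⟩
      simp only [MulEquiv.coe_toMonoidHom, MulAut.conj_apply]
      group
    have h3 : x' ∈ Cfsg.sigmaCore M ⊓ M.map (MulAut.conj g⁻¹).toMonoidHom := ⟨h1, h2⟩
    rw [sigmaCore_inf_conj_eq_bot hG h142 hM hKU hK1 hU1 hg', Subgroup.mem_bot] at h3
    exact hx'1 h3
  · -- uniqueness for `x'` and for `g x' g⁻¹`
    have hz : orderOf (g * x' * g⁻¹) = r := by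
      rw [← hord]
      exact (MulAut.conj g).orderOf_eq x'
    have hu := uniq_of_mem_fittingOf hG h142 hM hKU hK1 hnil hgx' hr hz hrσ
    have hCM : Subgroup.centralizer ({x'} : Set G) ≤ M := by
      have hu' := uniq_of_mem_fittingOf hG h142 hM hKU hK1 hnil hx'F hr hord hrσ
      obtain ⟨L, hL, hCL⟩ := Cfsg.Agent.Helper1.BGU.exists_coatom_ge
        (Cfsg.Agent.Helper1.BGU.centralizer_singleton_ne_top hG hx'1)
      rw [← hu' L hL hCL]; exact hCL
    have hconj : Subgroup.centralizer ({g * x' * g⁻¹} : Set G) ≤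
        M.map (MulAut.conj g).toMonoidHom := by
      intro c hc
      refine ⟨g⁻¹ * c * g, hCM ?_, ?_⟩
      · rw [Subgroup.mem_centralizer_iff]
        intro w hw
        rw [Set.mem_singleton_iff] at hw
        subst hw
        have h1 := Subgroup.mem_centralizer_iff.mp hc (g * w * g⁻¹) rfl
        calc w * (g⁻¹ * c * g) = g⁻¹ * (g * w * g⁻¹ * c) * g := by group
          _ = g⁻¹ * (c * (g * w * g⁻¹)) * g := by rw [h1]
          _ = g⁻¹ * c * g * w := by group
      · simp only [MulEquiv.coe_toMonoidHom, MulAut.conj_apply]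
        group
    have hMg := hu _ (Cfsg.Agent.Helper2.BG144.isCoatom_map_conj hM g) hconj
    have hgn : g ∈ Subgroup.normalizer (M : Set G) := by
      apply Cfsg.Agent.Helper1.mem_normalizer_of_conj_smul_eq
      rw [Subgroup.pointwise_smul_def]
      exact hMg
    have hMne : M ≠ ⊥ := by
      intro h
      apply hx'1
      have := hx'M
      rw [h, Subgroup.mem_bot] at this
      exact this
    rw [Cfsg.Agent.Helper1.BGU.normalizer_eq_of_coatom hG hM Subgroup.le_normalizer hMne hM.1]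
      at hgn
    exact hgM hgn

end Cfsg.Agent.Helper1.BG15P2
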