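import Mathlib
import Cfsg.Agent.Helper1.BG147k
import Cfsg.Agent.S1354
import Cfsg.Agent.S1364
import Cfsg.Agent.S1365
import Cfsg.Agent.S1356
import Cfsg.Agent.Helper4.BG15H
import Cfsg.Agent.Helper1.TypeP
import Cfsg.Agent.S1357
import Cfsg.Agent.Lead.BG152a

/-!
# BG §16: building the type-`P` data `IsTypePWith M K D K*` for a maximal subgroup with `K ≠ 1`.
-/

set_option autoImplicit false

namespace Cfsg.Agent.Helper1.BG16

open Cfsg.Agent.Helper1.BG147

universe u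

variable {G : Type u} [Group G] [Finite G]

/-- Two subgroups of `M` meeting trivially whose orders multiply to `|M|` are complements in `M`. -/
theorem isComplIn_of_card {A B M : Subgroup G} (hA : A ≤ M) (hB : B ≤ M) (hAB : A ⊓ B = ⊥)
    (hcard : Nat.card A * Nat.card B = Nat.card M) : Cfsg.IsComplIn A B M := by
  refine ⟨hA, hB, hAB, ?_⟩
  let f : A × B → M := fun x => ⟨(x.1 : G) * (x.2 : G), M.mul_mem (hA x.1.2) (hB x.2.2)⟩
  have hinj : Function.Injective f := by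
    rintro ⟨a, b⟩ ⟨a', b'⟩ h
    have h' : (a : G) * b = a' * b' := congrArg Subtype.val h
    have h1 : (a' : G)⁻¹ * a = b' * (b : G)⁻¹ := by
      calc (a' : G)⁻¹ * a = (a' : G)⁻¹ * (a * b) * (b : G)⁻¹ := by group
        _ = (a' : G)⁻¹ * (a' * b') * (b : G)⁻¹ := by rw [h']
        _ = b' * (b : G)⁻¹ := by group
    have h2 : (a' : G)⁻¹ * a ∈ A ⊓ B :=
      ⟨A.mul_mem (A.inv_mem a'.2) a.2, h1 ▸ B.mul_mem b'.2 (B.inv_mem b.2)⟩
    rw [hAB, Subgroup.mem_bot] at h2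
    have h3 : (a : G) = a' := by
      have := congrArg (fun t => (a' : G) * t) h2
      simpa using this
    have h4 : (b : G) = b' := by
      rw [h3] at h'
      exact mul_left_cancel h'
    exact Prod.ext (Subtype.ext h3) (Subtype.ext h4)
  have hbij : Function.Bijective f := by
    rw [Nat.bijective_iff_injective_and_card]
    exact ⟨hinj, by rw [Nat.card_prod, hcard]⟩
  intro m hm
  obtain ⟨⟨a, b⟩, hab⟩ := hbij.2 ⟨m, hm⟩
  exact ⟨a, a.2, b, b.2, (congrArg Subtype.val hab).symm⟩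

/-- `K` and `K* = C_{M_σ}(K)` form a self-normalizing cyclic pair. -/
theorem isSelfNormalizingCyclic (hG : Cfsg.IsMinSimpleOddOrder G) {M K U : Subgroup G}
    (hM : IsCoatom M) (hKU : Cfsg.IsSigmaDecomposition M K U) (hK1 : K ≠ ⊥) :
    Cfsg.IsSelfNormalizingCyclic K (Cfsg.sigmaCore M ⊓ Subgroup.centralizer (K : Set G)) := by
  have P := p142' hG hM hKU.hall hK1
  obtain ⟨Ms, e⟩ := exists_emb' hG hM hKU.hall hK1
  have hcyc := (Cfsg.Agent.S1364.result hG M hM K U hKU hK1).1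
  have hZc := isCyclic_Z hKU.hall hKU.cyclic hcyc
  refine ⟨hK1, P.kstar_ne, inf_kstar_eq_bot hKU.hall, commute_K_kstar M K, hZc, ?_⟩
  intro X hX hXne
  have hcomm : ∀ a ∈ K ⊔ (Cfsg.sigmaCore M ⊓ Subgroup.centralizer (K : Set G)),
      ∀ b ∈ K ⊔ (Cfsg.sigmaCore M ⊓ Subgroup.centralizer (K : Set G)), a * b = b * a := by
    intro a ha b hb
    have := hZc.isMulCommutative.is_comm.comm ⟨a, ha⟩ ⟨b, hb⟩
    exact congrArg Subtype.val this
  apply le_antisymm
  · intro g hg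
    obtain ⟨z, hz⟩ := hXne
    have hzZ := hX hz
    have h1 : g * z * g⁻¹ ∈ X := ((Subgroup.mem_set_normalizer_iff).mp hg z).mp hz
    exact Zhat_TI hG (Cfsg.Agent.Helper4.BG147H.hyp142 hG) hM hKU.hall hK1 e hzZ (hX h1).1
  · intro g hg
    rw [Subgroup.mem_set_normalizer_iff]
    intro n
    constructor
    · intro hn
      have hnZ := (hX hn).1
      have : g * n * g⁻¹ = n := by
        rw [hcomm g hg n hnZ]; group
      rw [this]; exact hn
    · intro hn
      have hnZ := (hX hn).1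
      have hn' : n ∈ K ⊔ (Cfsg.sigmaCore M ⊓ Subgroup.centralizer (K : Set G)) := by
        have h1 := Subgroup.mul_mem _ (Subgroup.mul_mem _ (Subgroup.inv_mem _ hg) hnZ) hg
        have h2 : g⁻¹ * (g * n * g⁻¹) * g = n := by group
        rwa [h2] at h1
      have : g * n * g⁻¹ = n := by
        rw [hcomm g hg n hn']; group
      rw [this] at hn; exact hn

/-- `|K|` is coprime to `|U M_σ|`. -/
theorem coprime_card_K_U_sup {M K U : Subgroup G} (hKU : Cfsg.IsSigmaDecomposition M K U) :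
    (Nat.card K).Coprime (Nat.card (U ⊔ Cfsg.sigmaCore M : Subgroup G)) := by
  have hle : U ⊔ Cfsg.sigmaCore M ≤ M :=
    sup_le (Cfsg.Agent.Helper4.BG15.decomp_U_le hKU) Cfsg.Agent.Lead.BG12.sigmaCore_le
  have h1 := Cfsg.Agent.Helper1.relIndex_mul_card_of_le hle
  rw [Cfsg.Agent.Helper4.BG15.decomp_relIndex_U_sup hKU] at h1
  have h2 := Cfsg.Agent.Helper1.relIndex_mul_card_of_le hKU.hall.1
  have h3 : K.relIndex M = Nat.card (U ⊔ Cfsg.sigmaCore M : Subgroup G) := by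
    apply Nat.eq_of_mul_eq_mul_right (Nat.card_pos (α := ↥K))
    rw [h2, ← h1]; ring
  apply Nat.coprime_of_dvd
  intro p hp hpK hpU
  rw [← h3] at hpU
  exact hKU.hall.2.2 p hp (hKU.hall.2.1 p hp hpK) hpU

/-- `K` is a complement of `M'` in `M` when `K ≠ 1`. -/
theorem W₁_compl (hG : Cfsg.IsMinSimpleOddOrder G) {M K U : Subgroup G}
    (hM : IsCoatom M) (hKU : Cfsg.IsSigmaDecomposition M K U) (hK1 : K ≠ ⊥) :
    Cfsg.IsComplIn ⁅M, M⁆ K M := by
  have h65 := (Cfsg.Agent.S1365.result hG M hM K U hKU hK1).1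
  have hle : U ⊔ Cfsg.sigmaCore M ≤ M :=
    sup_le (Cfsg.Agent.Helper4.BG15.decomp_U_le hKU) Cfsg.Agent.Lead.BG12.sigmaCore_le
  rw [h65]
  apply isComplIn_of_card hle hKU.hall.1
  · rw [inf_comm]
    exact Cfsg.Agent.Helper1.inf_eq_bot_of_coprime_card (coprime_card_K_U_sup hKU)
  · have h1 := Cfsg.Agent.Helper1.relIndex_mul_card_of_le hle
    rw [Cfsg.Agent.Helper4.BG15.decomp_relIndex_U_sup hKU] at h1
    rw [← h1]; ring

/-- `C_{M'}(x) = K*` for every non-identity `x ∈ K`. -/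
theorem W₂_centralizer (hG : Cfsg.IsMinSimpleOddOrder G) {M K U : Subgroup G}
    (hM : IsCoatom M) (hKU : Cfsg.IsSigmaDecomposition M K U) (hK1 : K ≠ ⊥) :
    ∀ x ∈ K, x ≠ 1 → ⁅M, M⁆ ⊓ Subgroup.centralizer ({x} : Set G) =
      Cfsg.sigmaCore M ⊓ Subgroup.centralizer (K : Set G) := by
  intro x hx hx1
  have h54 := (Cfsg.Agent.S1354.result hG M hM K hKU.cyclic hKU.hall).2 hK1 x hx hx1
  have h65 := (Cfsg.Agent.S1365.result hG M hM K U hKU hK1).1
  have hMM : ⁅M, M⁆ ≤ M := Cfsg.Agent.Helper1.commutator_self_le M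
  have hdisj : (U ⊔ Cfsg.sigmaCore M) ⊓ K = ⊥ := by
    rw [inf_comm]
    exact Cfsg.Agent.Helper1.inf_eq_bot_of_coprime_card (coprime_card_K_U_sup hKU)
  apply le_antisymm
  · intro y hy
    have hyZ : y ∈ K ⊔ (Cfsg.sigmaCore M ⊓ Subgroup.centralizer (K : Set G)) := by
      rw [← h54]; exact ⟨hMM hy.1, hy.2⟩
    obtain ⟨n, hn, a, ha, rfl, _⟩ := exists_mul_of_mem_Z hyZ
    have hnM' : n ∈ U ⊔ Cfsg.sigmaCore M := Subgroup.mem_sup_right hn.1
    have haM' : a ∈ U ⊔ Cfsg.sigmaCore M := by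
      have h1 : n * a ∈ U ⊔ Cfsg.sigmaCore M := h65 ▸ hy.1
      have h2 := Subgroup.mul_mem _ (Subgroup.inv_mem _ hnM') h1
      rwa [inv_mul_cancel_left] at h2
    have ha1 : a = 1 := by
      have : a ∈ (U ⊔ Cfsg.sigmaCore M) ⊓ K := ⟨haM', ha⟩
      rwa [hdisj, Subgroup.mem_bot] at this
    rw [ha1, mul_one]; exact hn
  · intro y hy
    refine ⟨?_, ?_⟩
    · rw [h65]; exact Subgroup.mem_sup_right hy.1
    · have : y ∈ M ⊓ Subgroup.centralizer ({x} : Set G) := by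
        rw [h54]; exact Subgroup.mem_sup_right hy
      exact this.2

/-- **The type-`P` data of a maximal subgroup with `K ≠ 1`**: for any nilpotent `K`-invariant
complement `D` of `M_F` in `M'`, `(K, D, K*)` are type-`P` data for `M`. -/
theorem isTypePWith (hG : Cfsg.IsMinSimpleOddOrder G) {M K U : Subgroup G}
    (hM : IsCoatom M) (hKU : Cfsg.IsSigmaDecomposition M K U) (hK1 : K ≠ ⊥)
    {D : Subgroup G} (hD : Cfsg.IsComplIn (Cfsg.fittingHallOf M) D ⁅M, M⁆)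
    (hDnil : Group.IsNilpotent D) (hDK : K ≤ Subgroup.normalizer (D : Set G)) :
    Cfsg.IsTypePWith M K D (Cfsg.sigmaCore M ⊓ Subgroup.centralizer (K : Set G)) := by
  have h64 := Cfsg.Agent.S1364.result hG M hM K U hKU hK1
  have h65 := Cfsg.Agent.S1365.result hG M hM K U hKU hK1
  have h56 := Cfsg.Agent.S1356.result hG M hM
  have hκ : (Cfsg.kappa M).Nonempty := by
    obtain ⟨p, hp, hpd⟩ := Nat.exists_prime_and_dvd
      (show Nat.card K ≠ 1 from fun h => hK1 (Subgroup.card_eq_one.mp h))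
    exact ⟨p, hKU.hall.2.1 p hp hpd⟩
  have hfe : Cfsg.fittingHallOf M ⊔ (M ⊓ Subgroup.centralizer (Cfsg.fittingHallOf M : Set G)) =
      Cfsg.fittingOf M := by rw [h56.2.1, sup_comm]
  refine ⟨hK1, hKU.cyclic, ?_, W₁_compl hG hM hKU hK1, hDnil, hDK, hD, h64.2.2.2, ?_, hfe,
    h56.2.2 hκ, le_inf h64.2.2.1 h65.2, W₂_centralizer hG hM hKU hK1,
    isSelfNormalizingCyclic hG hM hKU hK1⟩
  · apply Nat.coprime_of_dvd
    intro p hp hpK hpI
    exact hKU.hall.2.2 p hp (hKU.hall.2.1 p hp hpK) hpI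
  · rw [hfe]; exact h56.1

/-- For `U ≠ 1`: `M_F = M_σ`. -/
theorem fittingHallOf_eq_sigmaCore (hG : Cfsg.IsMinSimpleOddOrder G) {M K U : Subgroup G}
    (hM : IsCoatom M) (hKU : Cfsg.IsSigmaDecomposition M K U) (hU1 : U ≠ ⊥) :
    Cfsg.fittingHallOf M = Cfsg.sigmaCore M := by
  by_contra hne
  exact hU1 (Cfsg.Agent.S1357.result hG M hM K U hKU hne).1

/-- For `K ≠ 1`, `U ≠ 1`: `U` is a complement of `M_F = M_σ` in `M'`. -/
theorem U_compl (hG : Cfsg.IsMinSimpleOddOrder G) {M K U : Subgroup G}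
    (hM : IsCoatom M) (hKU : Cfsg.IsSigmaDecomposition M K U) (hK1 : K ≠ ⊥) (hU1 : U ≠ ⊥) :
    Cfsg.IsComplIn (Cfsg.fittingHallOf M) U ⁅M, M⁆ := by
  have h65 := (Cfsg.Agent.S1365.result hG M hM K U hKU hK1).1
  rw [fittingHallOf_eq_sigmaCore hG hM hKU hU1, h65]
  apply isComplIn_of_card le_sup_right le_sup_left
  · rw [inf_comm]; exact Cfsg.Agent.Helper4.BG15.decomp_U_inf_sigmaCore hKU
  · rw [sup_comm, Cfsg.Agent.Helper1.card_sup_of_le_normalizer
      ((Cfsg.Agent.Helper4.BG15.decomp_U_le hKU).trans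
        (Cfsg.Agent.Lead.BG12.le_normalizer_sigmaCore M))
      (Cfsg.Agent.Helper4.BG15.decomp_U_inf_sigmaCore hKU)]
    ring

/-- **Type-`P` data for `K ≠ 1`, `U ≠ 1`**: `(K, U, K*)`. -/
theorem isTypePWith_P2 (hG : Cfsg.IsMinSimpleOddOrder G) {M K U : Subgroup G}
    (hM : IsCoatom M) (hKU : Cfsg.IsSigmaDecomposition M K U) (hK1 : K ≠ ⊥) (hU1 : U ≠ ⊥) :
    Cfsg.IsTypePWith M K U (Cfsg.sigmaCore M ⊓ Subgroup.centralizer (K : Set G)) := by
  have hab := Cfsg.Agent.Lead.BG152.decomp_U_abelian hG hM hKU hK1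
  have hnil : Group.IsNilpotent ↥U := by
    letI : CommGroup ↥U := { (inferInstance : Group ↥U) with mul_comm := hab.is_comm.comm }
    infer_instance
  exact isTypePWith hG hM hKU hK1 (U_compl hG hM hKU hK1 hU1) hnil hKU.normal

/-- **Type-`P` data for `K ≠ 1`, `U = 1`, `M_F = M_σ`**: `(K, 1, K*)`. -/
theorem isTypePWith_bot (hG : Cfsg.IsMinSimpleOddOrder G) {M K U : Subgroup G}
    (hM : IsCoatom M) (hKU : Cfsg.IsSigmaDecomposition M K U) (hK1 : K ≠ ⊥) (hU1 : U = ⊥)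
    (hF : Cfsg.fittingHallOf M = Cfsg.sigmaCore M) :
    Cfsg.IsTypePWith M K ⊥ (Cfsg.sigmaCore M ⊓ Subgroup.centralizer (K : Set G)) := by
  have h65 := (Cfsg.Agent.S1365.result hG M hM K U hKU hK1).1
  have hD : Cfsg.IsComplIn (Cfsg.fittingHallOf M) ⊥ ⁅M, M⁆ := by
    rw [hF, h65, hU1, bot_sup_eq]
    refine ⟨le_rfl, bot_le, inf_bot_eq _, ?_⟩
    intro m hm
    exact ⟨m, hm, 1, Subgroup.one_mem _, (mul_one m).symm⟩
  have hnil : Group.IsNilpotent ↥(⊥ : Subgroup G) := inferInstance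
  refine isTypePWith hG hM hKU hK1 hD hnil ?_
  intro k _
  rw [Subgroup.mem_normalizer_iff]
  intro h
  simp only [Subgroup.mem_bot]
  constructor
  · rintro rfl; group
  · intro h1
    have : h = k⁻¹ * (k * h * k⁻¹) * k := by group
    rw [this, h1]; group

end Cfsg.Agent.Helper1.BG16
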