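import Mathlib
import Cfsg.Agent.Helper1.Basic
import Cfsg.Agent.Helper1.Coprime

set_option autoImplicit false

/-!
Gaschütz's theorem (existence and conjugacy of complements of an abelian normal subgroup).
-/

namespace Cfsg.Agent.Helper1

open scoped IsMulCommutative

universe u

variable {G : Type u} [Group G]

/-- Sections of `G → G / K` that are compatible with right multiplication by `A`. -/
@[ext]
structure GSection (K A : Subgroup G) where
  toFun : G → G
  mem : ∀ g, g⁻¹ * toFun g ∈ K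
  mulK : ∀ g, ∀ k ∈ K, toFun (g * k) = toFun g
  mulA : ∀ g, ∀ a ∈ A, toFun (g * a) = toFun g * a

namespace GSection

variable {K A : Subgroup G}

/-- left translation of a section -/
def shift (x : G) (s : GSection K A) : GSection K A where
  toFun g := x * s.toFun (x⁻¹ * g)
  mem g := by
    have := s.mem (x⁻¹ * g)
    have e : g⁻¹ * (x * s.toFun (x⁻¹ * g)) = (x⁻¹ * g)⁻¹ * s.toFun (x⁻¹ * g) := by group
    rw [e]; exact this
  mulK g k hk := by
    show x * s.toFun (x⁻¹ * (g * k)) = x * s.toFun (x⁻¹ * g)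
    rw [← mul_assoc, s.mulK _ k hk]
  mulA g a ha := by
    show x * s.toFun (x⁻¹ * (g * a)) = x * s.toFun (x⁻¹ * g) * a
    rw [← mul_assoc x⁻¹, s.mulA _ a ha, mul_assoc]

theorem shift_one (s : GSection K A) : shift 1 s = s := by
  ext g
  simp [shift]

theorem shift_shift (x y : G) (s : GSection K A) : shift x (shift y s) = shift (x * y) s := by
  ext g
  simp [shift, mul_assoc]

variable [hKn : K.Normal] [hKc : IsMulCommutative K]

/-- the pointwise difference of two sections, an element of `K` -/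
def eps (s s' : GSection K A) (g : G) : K :=
  ⟨s'.toFun g * (s.toFun g)⁻¹, by
    have h1 := s.mem g
    have h2 := s'.mem g
    have h3 : g⁻¹ * s'.toFun g * (g⁻¹ * s.toFun g)⁻¹ ∈ K := K.mul_mem h2 (K.inv_mem h1)
    have h4 := hKn.conj_mem _ h3 g
    have e : g * (g⁻¹ * s'.toFun g * (g⁻¹ * s.toFun g)⁻¹) * g⁻¹ =
        s'.toFun g * (s.toFun g)⁻¹ := by group
    rwa [e] at h4⟩

theorem eps_self (s : GSection K A) (g : G) : eps s s g = 1 := by
  apply Subtype.ext
  simp [eps]

theorem eps_mul_eps (s s' s'' : GSection K A) (g : G) :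
    eps s s' g * eps s' s'' g = eps s s'' g := by
  apply Subtype.ext
  have hc := mul_comm (eps s s' g) (eps s' s'' g)
  rw [hc]
  simp [eps, mul_assoc]

theorem eps_mul_mem (hA : A ≤ Subgroup.normalizer (K : Set G)) (s s' : GSection K A) (g : G)
    (u : G) (hu : u ∈ K ⊔ A) : eps s s' (g * u) = eps s s' g := by
  obtain ⟨k, hk, a, ha, rfl⟩ := mem_sup_of_le_normalizer hA hu
  apply Subtype.ext
  simp only [eps]
  rw [← mul_assoc, s.mulA _ a ha, s'.mulA _ a ha, s.mulK _ k hk, s'.mulK _ k hk]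
  group

theorem eps_shift (x : G) (s s' : GSection K A) (g : G) :
    eps (shift x s) (shift x s') g = MulAut.conjNormal x (eps s s' (x⁻¹ * g)) := by
  apply Subtype.ext
  rw [MulAut.conjNormal_apply]
  simp only [eps, shift]
  group

theorem eps_shiftK (s : GSection K A) (k : K) (g : G) : eps s (shift (k : G) s) g = k := by
  apply Subtype.ext
  simp only [eps, shift]
  have h1 : (k : G)⁻¹ * g = g * (g⁻¹ * (k : G)⁻¹ * g) := by group
  have h2 : g⁻¹ * (k : G)⁻¹ * g ∈ K := by
    have := hKn.conj_mem _ (K.inv_mem k.2) g⁻¹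
    simpa using this
  rw [h1, s.mulK _ _ h2, mul_inv_cancel_right]

end GSection

/-- re-indexing a product over `G ⧸ U` of a function constant on cosets -/
theorem prod_out_shift {K : Subgroup G} [IsMulCommutative K] (U : Subgroup G)
    [Fintype (G ⧸ U)] (F : G → K) (hF : ∀ g : G, ∀ u ∈ U, F (g * u) = F g) (x : G) :
    ∏ c : G ⧸ U, F (x⁻¹ * Quotient.out c) = ∏ c : G ⧸ U, F (Quotient.out c) := by
  refine Fintype.prod_equiv (MulAction.toPerm x⁻¹ : Equiv.Perm (G ⧸ U)) _ _ (fun c => ?_)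
  have h1 : ((x⁻¹ * Quotient.out c : G) : G ⧸ U) =
      ((Quotient.out ((MulAction.toPerm x⁻¹ : Equiv.Perm (G ⧸ U)) c) : G) : G ⧸ U) := by
    rw [QuotientGroup.out_eq', MulAction.toPerm_apply]
    conv_rhs => rw [← QuotientGroup.out_eq' c]
    rfl
  have h2 := QuotientGroup.eq.1 h1
  have h3 := hF (x⁻¹ * Quotient.out c) _ h2
  rw [← h3]
  congr 1
  group

namespace GSection

variable {K A : Subgroup G} [hKn : K.Normal] [hKc : IsMulCommutative K]

/-- the difference of two sections: product of `eps` over `G ⧸ (K ⊔ A)` -/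
noncomputable def gdiff [Fintype (G ⧸ (K ⊔ A))] (s s' : GSection K A) : K :=
  ∏ c : G ⧸ (K ⊔ A), eps s s' (Quotient.out c)

variable [Fintype (G ⧸ (K ⊔ A))]

theorem gdiff_self (s : GSection K A) : gdiff s s = 1 := by
  unfold gdiff
  simp [eps_self]

theorem gdiff_mul_gdiff (s s' s'' : GSection K A) :
    gdiff s s' * gdiff s' s'' = gdiff s s'' := by
  unfold gdiff
  rw [← Finset.prod_mul_distrib]
  apply Finset.prod_congr rfl
  intro c _
  exact eps_mul_eps s s' s'' _

theorem gdiff_symm (s s' : GSection K A) : gdiff s' s = (gdiff s s')⁻¹ := by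
  have := gdiff_mul_gdiff s s' s
  rw [gdiff_self] at this
  exact eq_inv_of_mul_eq_one_right this

theorem gdiff_shift (hA : A ≤ Subgroup.normalizer (K : Set G)) (x : G) (s s' : GSection K A) :
    gdiff (shift x s) (shift x s') = MulAut.conjNormal x (gdiff s s') := by
  unfold gdiff
  rw [map_prod]
  have h1 : ∀ c : G ⧸ (K ⊔ A), eps (shift x s) (shift x s') (Quotient.out c) =
      MulAut.conjNormal x (eps s s' (x⁻¹ * Quotient.out c)) := fun c => eps_shift x s s' _
  rw [Finset.prod_congr rfl (fun c _ => h1 c)]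
  exact prod_out_shift (K ⊔ A) (fun g => MulAut.conjNormal x (eps s s' g))
    (fun g u hu => by rw [eps_mul_mem hA s s' g u hu]) x

theorem gdiff_shiftK (s : GSection K A) (k : K) :
    gdiff s (shift (k : G) s) = k ^ (K ⊔ A).index := by
  unfold gdiff
  have h : ∏ c : G ⧸ (K ⊔ A), eps s (shift (k : G) s) (Quotient.out c) =
      ∏ _c : G ⧸ (K ⊔ A), k := Finset.prod_congr rfl (fun c _ => eps_shiftK s k _)
  rw [h, Finset.prod_const, Finset.card_univ, Subgroup.index_eq_card, Nat.card_eq_fintype_card]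

/-- the "stabilizer" of the class of `s` -/
noncomputable def gstab (hA : A ≤ Subgroup.normalizer (K : Set G)) (s : GSection K A) :
    Subgroup G where
  carrier := {x | gdiff s (shift x s) = 1}
  one_mem' := by
    show gdiff s (shift 1 s) = 1
    rw [shift_one, gdiff_self]
  mul_mem' := by
    intro x y hx hy
    show gdiff s (shift (x * y) s) = 1
    have hx' : gdiff s (shift x s) = 1 := hx
    have hy' : gdiff s (shift y s) = 1 := hy
    rw [← shift_shift, ← gdiff_mul_gdiff s (shift x s), hx', one_mul, gdiff_shift hA, hy', map_one]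
  inv_mem' := by
    intro x hx
    show gdiff s (shift x⁻¹ s) = 1
    have hx' : gdiff s (shift x s) = 1 := hx
    have h1 : MulAut.conjNormal x (gdiff s (shift x⁻¹ s)) = gdiff (shift x s) s := by
      rw [← gdiff_shift hA, shift_shift, mul_inv_cancel, shift_one]
    rw [gdiff_symm s (shift x s), hx', inv_one] at h1
    have := (MulAut.conjNormal x : K ≃* K).injective (h1.trans (map_one _).symm)
    exact this

theorem mem_gstab (hA : A ≤ Subgroup.normalizer (K : Set G)) (s : GSection K A) (x : G) :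
    x ∈ gstab hA s ↔ gdiff s (shift x s) = 1 := Iff.rfl

end GSection

namespace GSection

variable {K A : Subgroup G} [hKn : K.Normal] [hKc : IsMulCommutative K]
  [Fintype (G ⧸ (K ⊔ A))]

omit hKn [Fintype (G ⧸ (K ⊔ A))] in
theorem conjNormal_coe_eq [K.Normal] (k z : K) : MulAut.conjNormal (k : G) z = z := by
  apply Subtype.ext
  rw [MulAut.conjNormal_apply]
  have h := mul_comm k z
  have h2 : (k : G) * z = z * k := congrArg Subtype.val h
  rw [h2, mul_inv_cancel_right]

theorem gstab_isComplement' [Finite G] (hA : A ≤ Subgroup.normalizer (K : Set G))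
    (hcop : (Nat.card K).Coprime (K ⊔ A).index) (s : GSection K A) :
    K.IsComplement' (gstab hA s) := by
  apply Subgroup.isComplement'_of_disjoint_and_mul_eq_univ
  · rw [disjoint_iff, eq_bot_iff]
    rintro x ⟨hxK, hxS⟩
    rw [Subgroup.mem_bot]
    have h1 : gdiff s (shift x s) = 1 := hxS
    have h2 := gdiff_shiftK s ⟨x, hxK⟩
    rw [h1] at h2
    have h3 : orderOf (⟨x, hxK⟩ : K) ∣ (K ⊔ A).index := orderOf_dvd_of_pow_eq_one h2.symm
    have h4 : orderOf (⟨x, hxK⟩ : K) ∣ Nat.card K := orderOf_dvd_natCard _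
    have h5 := Nat.eq_one_of_dvd_coprimes hcop h4 h3
    rw [orderOf_eq_one_iff] at h5
    exact congrArg Subtype.val h5
  · rw [Set.eq_univ_iff_forall]
    intro g
    obtain ⟨z, hz⟩ : ∃ z : K, z = gdiff s (shift g s) := ⟨_, rfl⟩
    obtain ⟨k, hk⟩ : ∃ k : K, k ^ (K ⊔ A).index = z :=
      ⟨(powCoprime hcop).symm z, (powCoprime hcop).apply_symm_apply z⟩
    refine ⟨(k : G), k.2, (k : G)⁻¹ * g, ?_, by group⟩
    show gdiff s (shift ((k : G)⁻¹ * g) s) = 1
    have h1 : gdiff s (shift ((k⁻¹ : K) : G) s) = (k⁻¹) ^ (K ⊔ A).index := gdiff_shiftK s k⁻¹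
    rw [← shift_shift, ← gdiff_mul_gdiff s (shift (k : G)⁻¹ s), gdiff_shift hA, ← hz]
    have h2 : MulAut.conjNormal (k : G)⁻¹ z = z := by
      have := conjNormal_coe_eq k⁻¹ z
      simpa using this
    rw [h2]
    have h3 : gdiff s (shift (k : G)⁻¹ s) = (k⁻¹) ^ (K ⊔ A).index := by
      have : ((k⁻¹ : K) : G) = (k : G)⁻¹ := rfl
      rw [← this]; exact h1
    rw [h3, inv_pow, hk, inv_mul_cancel]

theorem gstab_shift (hA : A ≤ Subgroup.normalizer (K : Set G)) (s : GSection K A) (x y : G) :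
    x ∈ gstab hA (shift y s) ↔ y⁻¹ * x * y ∈ gstab hA s := by
  rw [mem_gstab, mem_gstab]
  have h1 : shift x (shift y s) = shift y (shift (y⁻¹ * x * y) s) := by
    rw [shift_shift, shift_shift]
    congr 1
    group
  rw [h1, gdiff_shift hA]
  constructor
  · intro h
    exact (MulAut.conjNormal y : K ≃* K).injective (h.trans (map_one _).symm)
  · intro h
    rw [h, map_one]

end GSection

section Construct

variable {K : Subgroup G} [hKn : K.Normal]

/-- the `B`-part of an element of `B K` -/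
noncomputable def bPart (K B : Subgroup G) (u : G) : G :=
  open Classical in if h : ∃ b ∈ B, b⁻¹ * u ∈ K then h.choose else 1

omit hKn in
theorem bPart_spec {B : Subgroup G} {u : G} (h : ∃ b ∈ B, b⁻¹ * u ∈ K) :
    bPart K B u ∈ B ∧ (bPart K B u)⁻¹ * u ∈ K := by
  unfold bPart
  rw [dif_pos h]
  exact h.choose_spec

omit hKn in
theorem bPart_eq {B : Subgroup G} (hBK : B ⊓ K = ⊥) {u b : G} (hb : b ∈ B)
    (hbu : b⁻¹ * u ∈ K) : bPart K B u = b := by
  obtain ⟨h1, h2⟩ := bPart_spec (K := K) ⟨b, hb, hbu⟩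
  have h3 : (bPart K B u)⁻¹ * b ∈ B ⊓ K := by
    refine ⟨B.mul_mem (B.inv_mem h1) hb, ?_⟩
    have := K.mul_mem h2 (K.inv_mem hbu)
    have e : (bPart K B u)⁻¹ * u * (b⁻¹ * u)⁻¹ = (bPart K B u)⁻¹ * b := by group
    rwa [e] at this
  rw [hBK, Subgroup.mem_bot] at h3
  exact inv_mul_eq_one.1 h3

theorem exists_bPart {B : Subgroup G} {u : G} (hu : u ∈ K ⊔ B) : ∃ b ∈ B, b⁻¹ * u ∈ K := by
  have hB : B ≤ Subgroup.normalizer (K : Set G) := by
    rw [Subgroup.normalizer_eq_top]; exact le_top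
  obtain ⟨k, hk, b, hb, rfl⟩ := mem_sup_of_le_normalizer hB hu
  refine ⟨b, hb, ?_⟩
  have := hKn.conj_mem k hk b⁻¹
  simpa [mul_assoc] using this

/-- a section from a transversal of `K ⊔ B` and a complement `B` of `K` in `K ⊔ B` -/
noncomputable def GSection.ofTransversal {A B : Subgroup G} (hAB : A ≤ B) (hBK : B ⊓ K = ⊥)
    (t : G → G) (ht1 : ∀ g, (t g)⁻¹ * g ∈ K ⊔ B) (ht2 : ∀ g, ∀ u ∈ K ⊔ B, t (g * u) = t g) :
    GSection K A where
  toFun g := t g * bPart K B ((t g)⁻¹ * g)
  mem g := by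
    obtain ⟨_, h2⟩ := bPart_spec (exists_bPart (ht1 g))
    have e : g⁻¹ * (t g * bPart K B ((t g)⁻¹ * g)) =
        ((bPart K B ((t g)⁻¹ * g))⁻¹ * ((t g)⁻¹ * g))⁻¹ := by group
    rw [e]; exact K.inv_mem h2
  mulK g k hk := by
    have hk' : k ∈ K ⊔ B := (le_sup_left : K ≤ K ⊔ B) hk
    rw [ht2 g k hk']
    congr 1
    obtain ⟨h1, h2⟩ := bPart_spec (exists_bPart (ht1 g))
    apply bPart_eq hBK h1
    have := K.mul_mem h2 hk
    have e : (bPart K B ((t g)⁻¹ * g))⁻¹ * ((t g)⁻¹ * g) * k =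
        (bPart K B ((t g)⁻¹ * g))⁻¹ * ((t g)⁻¹ * (g * k)) := by group
    rwa [e] at this
  mulA g a ha := by
    have ha' : a ∈ K ⊔ B := (le_sup_right : B ≤ K ⊔ B) (hAB ha)
    rw [ht2 g a ha', mul_assoc]
    congr 1
    obtain ⟨h1, h2⟩ := bPart_spec (exists_bPart (ht1 g))
    apply bPart_eq hBK (B.mul_mem h1 (hAB ha))
    have := hKn.conj_mem _ h2 a⁻¹
    have e : a⁻¹ * ((bPart K B ((t g)⁻¹ * g))⁻¹ * ((t g)⁻¹ * g)) * a⁻¹⁻¹ =
        (bPart K B ((t g)⁻¹ * g) * a)⁻¹ * ((t g)⁻¹ * (g * a)) := by group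
    rwa [e] at this

end Construct

/-- **Gaschütz's theorem**, existence. -/
theorem gaschutz_exists [Finite G] (K U : Subgroup G) [K.Normal] [IsMulCommutative K]
    (hcop : (Nat.card K).Coprime U.index)
    (A : Subgroup G) (hAK : A ⊓ K = ⊥) (hKA : K ⊔ A = U) :
    ∃ H : Subgroup G, Subgroup.IsComplement' K H := by
  subst hKA
  letI : Fintype (G ⧸ (K ⊔ A)) := Fintype.ofFinite _
  have hA : A ≤ Subgroup.normalizer (K : Set G) := by
    rw [Subgroup.normalizer_eq_top]; exact le_top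
  let s : GSection K A := GSection.ofTransversal le_rfl hAK
    (fun g => Quotient.out (g : G ⧸ (K ⊔ A)))
    (fun g => QuotientGroup.eq.1 (QuotientGroup.out_eq' (g : G ⧸ (K ⊔ A))))
    (fun g u hu => congrArg Quotient.out (QuotientGroup.mk_mul_of_mem g hu))
  exact ⟨GSection.gstab hA s, GSection.gstab_isComplement' hA hcop s⟩

section Conj

variable {K : Subgroup G} [hKn : K.Normal]

/-- the section attached to a complement `H` of `K` -/
noncomputable def GSection.ofCompl {A H : Subgroup G} (hAH : A ≤ H)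
    (hH : Subgroup.IsComplement' K H) : GSection K A :=
  GSection.ofTransversal hAH (by rw [inf_comm]; exact hH.disjoint.eq_bot) (fun _ => 1)
    (fun g => by rw [hH.sup_eq_top]; exact Subgroup.mem_top _) (fun _ _ _ => rfl)

theorem GSection.ofCompl_apply {A H : Subgroup G} (hAH : A ≤ H)
    (hH : Subgroup.IsComplement' K H) (g : G) :
    (GSection.ofCompl hAH hH).toFun g = bPart K H g := by
  show 1 * bPart K H ((1 : G)⁻¹ * g) = bPart K H g
  rw [one_mul, inv_one, one_mul]

theorem GSection.shift_ofCompl {A H : Subgroup G} (hAH : A ≤ H)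
    (hH : Subgroup.IsComplement' K H) (x : G) (hx : x ∈ H) :
    GSection.shift x (GSection.ofCompl hAH hH) = GSection.ofCompl hAH hH := by
  ext g
  show x * (GSection.ofCompl hAH hH).toFun (x⁻¹ * g) = (GSection.ofCompl hAH hH).toFun g
  rw [GSection.ofCompl_apply, GSection.ofCompl_apply]
  have hHK : H ⊓ K = ⊥ := by rw [inf_comm]; exact hH.disjoint.eq_bot
  have hg : g ∈ K ⊔ H := by rw [hH.sup_eq_top]; exact Subgroup.mem_top _
  obtain ⟨h1, h2⟩ := bPart_spec (exists_bPart hg)
  have h3 : bPart K H (x⁻¹ * g) = x⁻¹ * bPart K H g := by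
    apply bPart_eq hHK (H.mul_mem (H.inv_mem hx) h1)
    have e : (x⁻¹ * bPart K H g)⁻¹ * (x⁻¹ * g) = (bPart K H g)⁻¹ * g := by group
    rw [e]; exact h2
  rw [h3, mul_inv_cancel_left]

variable [hKc : IsMulCommutative K]

theorem GSection.gstab_ofCompl [Finite G] {A H : Subgroup G} [Fintype (G ⧸ (K ⊔ A))]
    (hA : A ≤ Subgroup.normalizer (K : Set G)) (hcop : (Nat.card K).Coprime (K ⊔ A).index)
    (hAH : A ≤ H) (hH : Subgroup.IsComplement' K H) :
    GSection.gstab hA (GSection.ofCompl hAH hH) = H := by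
  symm
  have hle : H ≤ GSection.gstab hA (GSection.ofCompl hAH hH) := by
    intro x hx
    rw [GSection.mem_gstab, GSection.shift_ofCompl hAH hH x hx, GSection.gdiff_self]
  apply Subgroup.eq_of_le_of_card_ge hle
  have h1 := hH.card_mul_card
  have h2 := (GSection.gstab_isComplement' hA hcop (GSection.ofCompl hAH hH)).card_mul_card
  have h3 : 0 < Nat.card K := Nat.card_pos
  have := Nat.eq_of_mul_eq_mul_left h3 (h1.trans h2.symm)
  exact this.symm.le

end Conj

open scoped Pointwise in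
/-- **Gaschütz's theorem**, conjugacy. -/
theorem gaschutz_conj [Finite G] (K U : Subgroup G) [K.Normal] [IsMulCommutative K]
    (hKU : K ≤ U) (hcop : (Nat.card K).Coprime U.index)
    (H₀ H₁ : Subgroup G) (h₀ : Subgroup.IsComplement' K H₀) (h₁ : Subgroup.IsComplement' K H₁)
    (hU : H₀ ⊓ U = H₁ ⊓ U) : ∃ g : G, MulAut.conj g • H₀ = H₁ := by
  obtain ⟨A, hA0⟩ : ∃ A : Subgroup G, A = H₀ ⊓ U := ⟨_, rfl⟩
  have hA1 : A = H₁ ⊓ U := hA0.trans hU
  have hAH0 : A ≤ H₀ := hA0.le.trans inf_le_left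
  have hAH1 : A ≤ H₁ := hA1.le.trans inf_le_left
  have hA : A ≤ Subgroup.normalizer (K : Set G) := by
    rw [Subgroup.normalizer_eq_top]; exact le_top
  have hKA : K ⊔ A = U := by
    apply le_antisymm (sup_le hKU (hA0.le.trans inf_le_right))
    intro u hu
    have hu' : u ∈ K ⊔ H₀ := by rw [h₀.sup_eq_top]; exact Subgroup.mem_top _
    have hH0 : H₀ ≤ Subgroup.normalizer (K : Set G) := by
      rw [Subgroup.normalizer_eq_top]; exact le_top
    obtain ⟨k, hk, h, hh, rfl⟩ := mem_sup_of_le_normalizer hH0 hu'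
    have hhU : h ∈ U := by
      have := U.mul_mem (U.inv_mem (hKU hk)) hu
      rwa [inv_mul_cancel_left] at this
    exact Subgroup.mul_mem_sup hk (hA0 ▸ ⟨hh, hhU⟩)
  subst hKA
  letI : Fintype (G ⧸ (K ⊔ A)) := Fintype.ofFinite _
  set s₀ : GSection K A := GSection.ofCompl hAH0 h₀ with hs₀
  set s₁ : GSection K A := GSection.ofCompl hAH1 h₁ with hs₁
  have hg0 : GSection.gstab hA s₀ = H₀ := GSection.gstab_ofCompl hA hcop hAH0 h₀
  obtain ⟨z, hz⟩ : ∃ z : K, z = GSection.gdiff s₀ s₁ := ⟨_, rfl⟩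
  obtain ⟨k, hk⟩ : ∃ k : K, k ^ (K ⊔ A).index = z :=
    ⟨(powCoprime hcop).symm z, (powCoprime hcop).apply_symm_apply z⟩
  refine ⟨(k : G), ?_⟩
  symm
  have hcompl : Subgroup.IsComplement' K (MulAut.conj (k : G) • H₀) := by
    have h3 : MulAut.conj (k : G) • H₀ = GSection.gstab hA (GSection.shift (k : G) s₀) := by
      ext x
      rw [mem_conj_smul, GSection.gstab_shift, hg0]
    rw [h3]
    exact GSection.gstab_isComplement' hA hcop _
  have hle : H₁ ≤ MulAut.conj (k : G) • H₀ := by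
    intro x hx
    rw [mem_conj_smul, ← hg0, ← GSection.gstab_shift, GSection.mem_gstab]
    set s' := GSection.shift (k : G) s₀ with hs'
    have h4 : GSection.gdiff s' s₁ = 1 := by
      rw [← GSection.gdiff_mul_gdiff s' s₀ s₁, GSection.gdiff_symm s₀ s', hs',
        GSection.gdiff_shiftK, hk, ← hz, inv_mul_cancel]
    have h5 : GSection.gdiff s₁ s' = 1 := by
      rw [GSection.gdiff_symm s' s₁, h4, inv_one]
    rw [← GSection.gdiff_mul_gdiff s' s₁, h4, one_mul]
    have h6 : s₁ = GSection.shift x s₁ := (GSection.shift_ofCompl hAH1 h₁ x hx).symm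
    rw [h6, GSection.gdiff_shift hA, h5, map_one]
  apply Subgroup.eq_of_le_of_card_ge hle
  have h1 := h₁.card_mul_card
  have h2 := hcompl.card_mul_card
  have h3 : 0 < Nat.card K := Nat.card_pos
  have := Nat.eq_of_mul_eq_mul_left h3 (h1.trans h2.symm)
  exact this.symm.le

end Cfsg.Agent.Helper1
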