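import Mathlib
import Cfsg.Agent.Helper1.BG16a
import Cfsg.Agent.Helper2.CNMaxA
import Cfsg.Agent.Helper4.BG15C
import Cfsg.Agent.Helper1.PQLemma
import Cfsg.Agent.S1360

/-!
# BG §16: `M'` is of Frobenius type with `(M')_F = M_F` when `K ≠ 1`, `U ≠ 1`.
-/

set_option autoImplicit false

namespace Cfsg.Agent.Helper1.BG16

open Cfsg.Agent.Helper1.BG147
open scoped Pointwise

universe u

variable {G : Type u} [Group G] [Finite G]

/-- `T_F` is "characteristic": the normalizer of `T` normalizes `T_F`. -/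
theorem normalizer_le_normalizer_fittingHallOf (T : Subgroup G) :
    Subgroup.normalizer (T : Set G) ≤ Subgroup.normalizer (Cfsg.fittingHallOf T : Set G) := by
  intro m hm
  apply Cfsg.Agent.Helper1.mem_normalizer_of_conj_smul_eq
  have hFT : Cfsg.fittingHallOf T ≤ T := Cfsg.Agent.Helper1.fittingHallOf_le T
  have hcardeq : Nat.card ↥(MulAut.conj m • Cfsg.fittingHallOf T) =
      Nat.card ↥(Cfsg.fittingHallOf T) :=
    (Nat.card_congr (Subgroup.equivSMul (MulAut.conj m) (Cfsg.fittingHallOf T)).toEquiv).symm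
  have hle : MulAut.conj m • Cfsg.fittingHallOf T ≤ Cfsg.fittingHallOf T := by
    have h1 : MulAut.conj m • Cfsg.fittingHallOf T ≤ T := by
      intro x hx
      rw [Cfsg.Agent.Helper1.mem_conj_smul] at hx
      have h2 := (Subgroup.mem_normalizer_iff.mp hm (m⁻¹ * x * m)).mp (hFT hx)
      have h3 : m * (m⁻¹ * x * m) * m⁻¹ = x := by group
      rwa [h3] at h2
    apply Cfsg.Agent.Helper2.CNMax.le_fittingHallOf T _ h1
    · intro t ht
      apply Cfsg.Agent.Helper1.mem_normalizer_of_conj_smul_eq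
      have ht' : m⁻¹ * t * m ∈ T := by
        have hm' : m⁻¹ ∈ Subgroup.normalizer (T : Set G) := Subgroup.inv_mem _ hm
        have := (Subgroup.mem_normalizer_iff.mp hm' t).mp ht
        simpa using this
      have h4 : MulAut.conj (m⁻¹ * t * m) • Cfsg.fittingHallOf T = Cfsg.fittingHallOf T :=
        Cfsg.Agent.Helper1.conj_smul_eq_of_mem_normalizer
          (Cfsg.Agent.Helper2.CNMax.le_normalizer_fittingHallOf T ht')
      have h5 : MulAut.conj t * MulAut.conj m = MulAut.conj m * MulAut.conj (m⁻¹ * t * m) := by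
        rw [← map_mul, ← map_mul]; congr 1; group
      rw [← mul_smul, h5, mul_smul, h4]
    · haveI := Cfsg.Agent.Helper2.CNMax.fittingHallOf_isNilpotent T
      exact Group.nilpotent_of_mulEquiv
        (Subgroup.equivSMul (MulAut.conj m) (Cfsg.fittingHallOf T))
    · have h6 := Cfsg.Agent.Helper1.relIndex_mul_card_of_le h1
      have h7 := Cfsg.Agent.Helper1.relIndex_mul_card_of_le hFT
      have h8 : (MulAut.conj m • Cfsg.fittingHallOf T).relIndex T =
          (Cfsg.fittingHallOf T).relIndex T := by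
        apply Nat.eq_of_mul_eq_mul_right (Nat.card_pos (α := ↥(Cfsg.fittingHallOf T)))
        rw [h7, ← h6, hcardeq]
      rw [hcardeq, h8]
      exact Cfsg.Agent.Helper4.BG15.fittingHallOf_coprime T
  exact Subgroup.eq_of_le_of_card_ge hle hcardeq.ge

/-- `(M')_F = M_F` when `K ≠ 1`, `U ≠ 1`. -/
theorem fittingHallOf_commutator (hG : Cfsg.IsMinSimpleOddOrder G) {M K U : Subgroup G}
    (hM : IsCoatom M) (hKU : Cfsg.IsSigmaDecomposition M K U) (hK1 : K ≠ ⊥) (hU1 : U ≠ ⊥) :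
    Cfsg.fittingHallOf ⁅M, M⁆ = Cfsg.fittingHallOf M := by
  have h65 := (Cfsg.Agent.S1365.result hG M hM K U hKU hK1).1
  have hF := fittingHallOf_eq_sigmaCore hG hM hKU hU1
  have hMM : ⁅M, M⁆ ≤ M := Cfsg.Agent.Helper1.commutator_self_le M
  have hFT : Cfsg.fittingHallOf ⁅M, M⁆ ≤ ⁅M, M⁆ := Cfsg.Agent.Helper1.fittingHallOf_le _
  have hUM : U ≤ M := Cfsg.Agent.Helper4.BG15.decomp_U_le hKU
  have hle : U ⊔ Cfsg.sigmaCore M ≤ M := sup_le hUM Cfsg.Agent.Lead.BG12.sigmaCore_le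
  have hrel : (⁅M, M⁆ : Subgroup G).relIndex M = Nat.card K := by
    rw [h65]; exact Cfsg.Agent.Helper4.BG15.decomp_relIndex_U_sup hKU
  apply le_antisymm
  · apply Cfsg.Agent.Helper2.CNMax.le_fittingHallOf M _ (hFT.trans hMM)
    · exact (Cfsg.Agent.Helper1.le_normalizer_commutator Subgroup.le_normalizer
        Subgroup.le_normalizer).trans (normalizer_le_normalizer_fittingHallOf _)
    · exact Cfsg.Agent.Helper2.CNMax.fittingHallOf_isNilpotent _
    · rw [← Subgroup.relIndex_mul_relIndex _ _ _ hFT hMM, hrel]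
      apply Nat.Coprime.mul_right (Cfsg.Agent.Helper4.BG15.fittingHallOf_coprime _)
      have h1 : Nat.card ↥(Cfsg.fittingHallOf ⁅M, M⁆) ∣
          Nat.card (U ⊔ Cfsg.sigmaCore M : Subgroup G) := by
        rw [← h65]; exact Subgroup.card_dvd_of_le hFT
      exact ((coprime_card_K_U_sup hKU).coprime_dvd_right h1).symm
  · rw [hF]
    have hσT : Cfsg.sigmaCore M ≤ ⁅M, M⁆ := h65 ▸ le_sup_right
    apply Cfsg.Agent.Helper2.CNMax.le_fittingHallOf _ _ hσT
    · exact hMM.trans (Cfsg.Agent.Lead.BG12.le_normalizer_sigmaCore M)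
    · exact Cfsg.Agent.Helper4.BG15.isNilpotent_sigmaCore_of_eq hF
    · have h1 := Cfsg.Agent.Helper1.relIndex_mul_card_of_le hσT
      have h2 : Nat.card (⁅M, M⁆ : Subgroup G) = Nat.card U * Nat.card (Cfsg.sigmaCore M) := by
        rw [h65, sup_comm]
        exact Cfsg.Agent.Helper1.card_sup_of_le_normalizer
          (hUM.trans (Cfsg.Agent.Lead.BG12.le_normalizer_sigmaCore M))
          (Cfsg.Agent.Helper4.BG15.decomp_U_inf_sigmaCore hKU)
      have h3 : (Cfsg.sigmaCore M).relIndex ⁅M, M⁆ = Nat.card U := by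
        apply Nat.eq_of_mul_eq_mul_right (Nat.card_pos (α := ↥(Cfsg.sigmaCore M)))
        rw [h1, h2]
      rw [h3]
      apply Nat.coprime_of_dvd
      intro p hp h4 h5
      exact (Cfsg.Agent.Helper4.BG15.decomp_U_primes hG hM hKU hp h5).1
        (Cfsg.Agent.Lead.BG12.mem_sigma_of_dvd_card_sigmaCore hp h4)

/-- `M'` is of Frobenius type when `K ≠ 1`, `U ≠ 1`. -/
theorem isOfTypeF_commutator (hG : Cfsg.IsMinSimpleOddOrder G) {M K U : Subgroup G}
    (hM : IsCoatom M) (hKU : Cfsg.IsSigmaDecomposition M K U) (hK1 : K ≠ ⊥) (hU1 : U ≠ ⊥) :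
    Cfsg.IsOfTypeF ↥(⁅M, M⁆ : Subgroup G) := by
  have h65 := (Cfsg.Agent.S1365.result hG M hM K U hKU hK1).1
  have hF := fittingHallOf_eq_sigmaCore hG hM hKU hU1
  have hFT := fittingHallOf_commutator hG hM hKU hK1 hU1
  rw [hF] at hFT
  have hMM : ⁅M, M⁆ ≤ M := Cfsg.Agent.Helper1.commutator_self_le M
  have hUM : U ≤ M := Cfsg.Agent.Helper4.BG15.decomp_U_le hKU
  have hUT : U ≤ ⁅M, M⁆ := h65 ▸ le_sup_left
  have hP := p142' hG hM hKU.hall hK1
  have hσ1 : Cfsg.sigmaCore M ≠ ⊥ := fun h => hP.kstar_ne (by rw [h, bot_inf_eq])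
  have hab := Cfsg.Agent.Lead.BG152.decomp_U_abelian hG hM hKU hK1
  have hdisj : Cfsg.sigmaCore M ⊓ U = ⊥ := by
    rw [inf_comm]; exact Cfsg.Agent.Helper4.BG15.decomp_U_inf_sigmaCore hKU
  have hmemF : ∀ x : ↥(⁅M, M⁆ : Subgroup G), x ∈ Cfsg.fittingHall ↥(⁅M, M⁆ : Subgroup G) →
      (x : G) ∈ Cfsg.sigmaCore M := by
    intro x hx
    rw [← hFT]; exact ⟨x, hx, rfl⟩
  have hTtop : (⁅M, M⁆ : Subgroup G) ≠ ⊤ := fun h => hM.1 (top_le_iff.mp (h ▸ hMM))
  refine ⟨hG.2.2.2 _ hTtop, ?_, ?_, ?_, U.subgroupOf ⁅M, M⁆, ?_, ?_, ?_, ?_⟩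
  · exact Odd.of_dvd_nat hG.1 (Subgroup.card_subgroup_dvd_card _)
  · intro h
    apply hσ1
    rw [← hFT, Cfsg.fittingHallOf, h, Subgroup.map_bot]
  · intro h
    apply hU1
    have h1 : (⁅M, M⁆ : Subgroup G) = Cfsg.sigmaCore M := by
      rw [← hFT, Cfsg.fittingHallOf, h, ← MonoidHom.range_eq_map, Subgroup.range_subtype]
    have h2 : U ≤ Cfsg.sigmaCore M := h1 ▸ hUT
    exact le_bot_iff.mp (hdisj ▸ le_inf h2 le_rfl)
  · intro h
    apply hU1
    rw [Subgroup.subgroupOf_eq_bot] at h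
    exact le_bot_iff.mp (h le_rfl hUT)
  · apply Subgroup.isComplement'_of_card_mul_and_disjoint
    · rw [← Cfsg.Agent.Helper1.card_fittingHallOf, hFT,
        Cfsg.Agent.Helper1.card_subgroupOf_of_le hUT, h65, sup_comm,
        Cfsg.Agent.Helper1.card_sup_of_le_normalizer
          (hUM.trans (Cfsg.Agent.Lead.BG12.le_normalizer_sigmaCore M))
          (Cfsg.Agent.Helper4.BG15.decomp_U_inf_sigmaCore hKU)]
      ring
    · rw [disjoint_iff, eq_bot_iff]
      intro x hx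
      have h1 : (x : G) ∈ Cfsg.sigmaCore M ⊓ U := ⟨hmemF x hx.1, hx.2⟩
      rw [hdisj, Subgroup.mem_bot] at h1
      rw [Subgroup.mem_bot]; exact Subtype.ext h1
  · refine ⟨U.subgroupOf ⁅M, M⁆, le_rfl, Subgroup.le_normalizer, ?_, fun x _ _ => inf_le_left⟩
    refine ⟨⟨fun a b => ?_⟩⟩
    have h1 := congrArg Subtype.val (hab.is_comm.comm ⟨a.1.1, a.2⟩ ⟨b.1.1, b.2⟩)
    exact Subtype.ext (Subtype.ext h1)
  · obtain ⟨U₀, hU₀U, hexp, hreg⟩ := Cfsg.Agent.S1360.result hG M hM K U hKU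
    refine ⟨U₀.subgroupOf ⁅M, M⁆, ?_, ?_, ?_⟩
    · intro x hx; exact hU₀U hx
    · rw [Monoid.exponent_eq_of_mulEquiv (Subgroup.subgroupOfEquivOfLe (hU₀U.trans hUT)),
        Monoid.exponent_eq_of_mulEquiv (Subgroup.subgroupOfEquivOfLe hUT)]
      exact hexp
    · intro u hu hu1 x hx hcomm
      by_contra hx1
      apply hu1
      have h1 : (u : G) ∈ Cfsg.sigmaHat M := by
        refine ⟨hMM u.2, (x : G), hmemF x hx, fun h => hx1 (Subtype.ext h), ?_⟩
        exact congrArg Subtype.val hcomm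
      exact Subtype.ext (hreg (u : G) hu h1)

end Cfsg.Agent.Helper1.BG16
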