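import Mathlib
import Cfsg.Agent.Helper1.BG16b
import Cfsg.Agent.Helper4.BG16B
import Cfsg.Agent.S1372

/-!
# BG §16: Type II ⟺ `K ≠ 1 ∧ U ≠ 1` (modulo `N_G(U) ≰ M`).
-/

set_option autoImplicit false

namespace Cfsg.Agent.Helper1.BG16

universe u

variable {G : Type u} [Group G] [Finite G]

/-- For type-`P` data `(W₁, U', W₂)` of `M` with `U' ≠ 1` and `N_G(U') ≰ M`: `U ≠ 1`. -/
theorem U_ne_bot_of_typeP (hG : Cfsg.IsMinSimpleOddOrder G) {M K U W₁ U' W₂ : Subgroup G}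
    (hM : IsCoatom M) (hKU : Cfsg.IsSigmaDecomposition M K U)
    (T : Cfsg.IsTypePWith M W₁ U' W₂) (hU'1 : U' ≠ ⊥)
    (hN : ¬ Subgroup.normalizer (U' : Set G) ≤ M) : U ≠ ⊥ := by
  intro hU
  apply hN
  have hK1 := Cfsg.Agent.Helper4.BG16.K_ne_bot_of_typeP hG hM hKU T
  have h65 := (Cfsg.Agent.S1365.result hG M hM K U hKU hK1).1
  rw [hU, bot_sup_eq] at h65
  have hU'σ : U' ≤ Cfsg.sigmaCore M := h65 ▸ T.U_compl.2.1
  have hFσ : Cfsg.fittingHallOf M ≤ Cfsg.sigmaCore M := h65 ▸ T.U_compl.1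
  apply Cfsg.Agent.Helper4.BG16.normalizer_le_of_hall_nilpotent hG hM hU'σ _ hU'1 T.U_nilpotent
  have h1 := Cfsg.Agent.Helper1.IsComplIn_card_mul T.U_compl
  rw [h65] at h1
  have h2 := Cfsg.Agent.Helper1.relIndex_mul_card_of_le hU'σ
  have h3 : U'.relIndex (Cfsg.sigmaCore M) = Nat.card (Cfsg.fittingHallOf M) := by
    apply Nat.eq_of_mul_eq_mul_right (Nat.card_pos (α := ↥U'))
    rw [h2, ← h1]
  rw [h3]
  exact (Cfsg.Agent.Helper1.typeP_coprime_H_U T).symm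

/-- **Type II ⟺ `K ≠ 1 ∧ U ≠ 1`**, given `N_G(U) ≰ M` for `K ≠ 1`, `U ≠ 1`. -/
theorem typeII_iff (hG : Cfsg.IsMinSimpleOddOrder G) {M K U : Subgroup G}
    (hM : IsCoatom M) (hKU : Cfsg.IsSigmaDecomposition M K U)
    (h1363 : K ≠ ⊥ → U ≠ ⊥ → ¬ Subgroup.normalizer (U : Set G) ≤ M) :
    Cfsg.IsOfTypeII M ↔ (K ≠ ⊥ ∧ U ≠ ⊥) := by
  constructor
  · rintro ⟨W₁, U', W₂, T, hU'1, -, -, -, hN, -, -⟩
    exact ⟨Cfsg.Agent.Helper4.BG16.K_ne_bot_of_typeP hG hM hKU T,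
      U_ne_bot_of_typeP hG hM hKU T hU'1 hN⟩
  · rintro ⟨hK1, hU1⟩
    have h72 := Cfsg.Agent.S1372.result hG M hM K U hKU hK1 hU1
    exact ⟨K, U, Cfsg.sigmaCore M ⊓ Subgroup.centralizer (K : Set G),
      isTypePWith_P2 hG hM hKU hK1 hU1, hU1, h72.1, h72.2.1,
      Cfsg.Agent.Lead.BG152.decomp_U_abelian hG hM hKU hK1, h1363 hK1 hU1,
      isOfTypeF_commutator hG hM hKU hK1 hU1, fittingHallOf_commutator hG hM hKU hK1 hU1⟩

end Cfsg.Agent.Helper1.BG16
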