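import Mathlib
import Cfsg.Agent.Helper1.BG16c
import Cfsg.Agent.Helper1.NilpCoprime
import Cfsg.Agent.Helper1.BGVa
import Cfsg.Agent.Helper2.PComp1
import Cfsg.Agent.Helper4.SubnormalPRad
import Cfsg.Agent.Helper2.ZasOddD
import Cfsg.Agent.Lead.BG12b
import Cfsg.Agent.Helper2.GenHyper

/-!
# BG §16, Type V: generic group-theoretic preliminaries.
-/

set_option autoImplicit false

namespace Cfsg.Agent.Helper1.BG16

open scoped Pointwise commutatorElement

universe u

section generic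

variable {G : Type u} [Group G]

/-- `N_G(D)` normalizes the image in `G` of every characteristic subgroup of `D`. -/
theorem normalizer_le_normalizer_map_of_characteristic (D : Subgroup G) (C : Subgroup ↥D)
    [hC : C.Characteristic] :
    Subgroup.normalizer (D : Set G) ≤
      Subgroup.normalizer ((C.map D.subtype : Subgroup G) : Set G) := by
  intro g hg
  have hg' : g⁻¹ ∈ Subgroup.normalizer (D : Set G) := Subgroup.inv_mem _ hg
  let φ : ↥D ≃* ↥D :=
    { toFun := fun x => ⟨g * x * g⁻¹, (Subgroup.mem_normalizer_iff.mp hg x).mp x.2⟩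
      invFun := fun x => ⟨g⁻¹ * x * g, by
        have := (Subgroup.mem_normalizer_iff.mp hg' x).mp x.2
        simpa using this⟩
      left_inv := fun x => by apply Subtype.ext; simp [mul_assoc]
      right_inv := fun x => by apply Subtype.ext; simp [mul_assoc]
      map_mul' := fun x y => by apply Subtype.ext; simp [mul_assoc] }
  have hφ : ∀ x : ↥D, ((φ x : ↥D) : G) = g * x * g⁻¹ := fun x => rfl
  have hφs : ∀ x : ↥D, ((φ.symm x : ↥D) : G) = g⁻¹ * x * g := fun x => rfl
  have hfix : ∀ x : ↥D, φ x ∈ C ↔ x ∈ C := by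
    intro x
    have h := hC.fixed φ
    constructor
    · intro hx
      rw [← h]; exact hx
    · intro hx
      rw [← h] at hx; exact hx
  rw [Subgroup.mem_normalizer_iff]
  intro h
  constructor
  · rintro ⟨c, hc, rfl⟩
    exact ⟨φ c, (hfix c).mpr hc, rfl⟩
  · rintro ⟨c, hc, hceq⟩
    refine ⟨φ.symm c, (hfix (φ.symm c)).mp (by simpa using hc), ?_⟩
    show ((φ.symm c : ↥D) : G) = h
    rw [hφs]
    have : (c : G) = g * h * g⁻¹ := hceq
    rw [this]; group

end generic

section nilp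

variable {X : Type u} [Group X] [Finite X]

/-- In a finite nilpotent group, `O_p(X) O_{p'}(X) = X`. -/
theorem pCore_sup_pPrimeCore_eq_top (hnil : Group.IsNilpotent X) (p : ℕ) [hp : Fact p.Prime] :
    Cfsg.pCore p X ⊔ Cfsg.pPrimeCore p X = ⊤ := by
  obtain ⟨P, N, hNn, hc⟩ := hasNormalPComplement_of_isNilpotent hnil p
  have hall := ((Group.isNilpotent_of_finite_tfae (G := X)).out 0 3).1 hnil
  have hPn : (P : Subgroup X).Normal := hall p inferInstance P
  have h1 : (P : Subgroup X) ≤ Cfsg.pCore p X := le_pCore hPn P.isPGroup'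
  have hcard : Nat.card N * Nat.card (P : Subgroup X) = Nat.card X := hc.card_mul_card
  have hNcop : (Nat.card N).Coprime p := by
    have hP := P.card_eq_multiplicity
    rw [Nat.coprime_comm, Nat.Prime.coprime_iff_not_dvd hp.out]
    intro hd
    set v := (Nat.card X).factorization p with hv
    have : p ^ (v + 1) ∣ Nat.card X := by
      have e : Nat.card X = Nat.card N * p ^ v := by rw [← hcard, hP]
      rw [e, pow_succ, mul_comm]
      exact Nat.mul_dvd_mul hd (dvd_refl _)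
    exact Nat.pow_succ_factorization_not_dvd (Nat.card_pos.ne') hp.out this
  have h2 : N ≤ Cfsg.pPrimeCore p X := le_pPrimeCore hNn hNcop
  rw [eq_top_iff, ← hc.sup_eq_top]
  exact sup_le (h2.trans le_sup_right) (h1.trans le_sup_left)

/-- In a finite nilpotent group, elements of `p`-power order lie in `O_p(X)`. -/
theorem mem_pCore_of_orderOf (hnil : Group.IsNilpotent X) {p : ℕ} [hp : Fact p.Prime] (x : X)
    (k : ℕ) (hx : orderOf x = p ^ k) : x ∈ Cfsg.pCore p X := by
  obtain ⟨P⟩ : Nonempty (Sylow p X) := inferInstance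
  have hall := ((Group.isNilpotent_of_finite_tfae (G := X)).out 0 3).1 hnil
  have hPn : (P : Subgroup X).Normal := hall p inferInstance P
  have h1 : (P : Subgroup X) ≤ Cfsg.pCore p X := le_pCore hPn P.isPGroup'
  haveI := hnil
  exact h1 (mem_sylow_of_isNilpotent P x k hx)

/-- In a finite nilpotent group, `O_{p'}(X)` commutes with every element of `p`-power order. -/
theorem commute_pPrimeCore_of_orderOf (hnil : Group.IsNilpotent X) {p : ℕ} [hp : Fact p.Prime]
    (x y : X) (k : ℕ) (hx : orderOf x = p ^ k) (hy : y ∈ Cfsg.pPrimeCore p X) :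
    x * y = y * x := by
  haveI := hnil
  apply commute_of_pElement_of_coprime x y k hx
  have h1 : orderOf y ∣ Nat.card (Cfsg.pPrimeCore p X) := by
    have := orderOf_dvd_natCard (⟨y, hy⟩ : Cfsg.pPrimeCore p X)
    rwa [Subgroup.orderOf_mk] at this
  exact Nat.Coprime.coprime_dvd_left h1 (card_pPrimeCore_coprime p)

end nilp

section more

variable {G : Type u} [Group G] [Finite G]

/-- Two commuting elements of order `t` generating distinct subgroups span an elementary abelian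
group of order `t²`. -/
theorem elemAb_sq_of_commute {t : ℕ} [ht : Fact t.Prime] {z x : G} (hzx : Commute z x)
    (hz1 : z ≠ 1) (hzt : z ^ t = 1) (hxt : x ^ t = 1) (hxZ : x ∉ Subgroup.zpowers z) :
    Cfsg.IsElementaryAbelian t (Subgroup.zpowers z ⊔ Subgroup.zpowers x) ∧
      Nat.card ↥(Subgroup.zpowers z ⊔ Subgroup.zpowers x) = t ^ 2 := by
  have hx1 : x ≠ 1 := fun h => hxZ (h ▸ Subgroup.one_mem _)
  have hxN : Subgroup.zpowers x ≤
      Subgroup.normalizer ((Subgroup.zpowers z : Subgroup G) : Set G) := by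
    refine le_trans ?_ (Subgroup.centralizer_le_normalizer _)
    rw [Subgroup.zpowers_le, Subgroup.mem_centralizer_iff]
    intro h hh
    obtain ⟨k, rfl⟩ := Subgroup.mem_zpowers_iff.mp hh
    exact (hzx.zpow_left k).eq
  have hdecomp : ∀ e ∈ Subgroup.zpowers z ⊔ Subgroup.zpowers x, ∃ i j : ℤ, e = z ^ i * x ^ j := by
    intro e he
    obtain ⟨n, hn, a, ha, rfl⟩ := mem_sup_of_le_normalizer hxN he
    obtain ⟨i, rfl⟩ := Subgroup.mem_zpowers_iff.mp hn
    obtain ⟨j, rfl⟩ := Subgroup.mem_zpowers_iff.mp ha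
    exact ⟨i, j, rfl⟩
  have hcomm : ∀ a ∈ Subgroup.zpowers z ⊔ Subgroup.zpowers x,
      ∀ b ∈ Subgroup.zpowers z ⊔ Subgroup.zpowers x, a * b = b * a := by
    intro a ha b hb
    obtain ⟨i, j, rfl⟩ := hdecomp a ha
    obtain ⟨k, l, rfl⟩ := hdecomp b hb
    have h1 : Commute (z ^ i) (x ^ l) := (hzx.zpow_left i).zpow_right l
    have h2 : Commute (z ^ k) (x ^ j) := (hzx.zpow_left k).zpow_right j
    have h3 : Commute (z ^ i) (z ^ k) := (Commute.refl z).zpow_zpow i k
    have h4 : Commute (x ^ j) (x ^ l) := (Commute.refl x).zpow_zpow j l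
    calc z ^ i * x ^ j * (z ^ k * x ^ l) = z ^ i * (x ^ j * z ^ k) * x ^ l := by group
      _ = z ^ i * (z ^ k * x ^ j) * x ^ l := by rw [h2.eq]
      _ = (z ^ i * z ^ k) * (x ^ j * x ^ l) := by group
      _ = (z ^ k * z ^ i) * (x ^ l * x ^ j) := by rw [h3.eq, h4.eq]
      _ = z ^ k * (z ^ i * x ^ l) * x ^ j := by group
      _ = z ^ k * (x ^ l * z ^ i) * x ^ j := by rw [h1.eq]
      _ = z ^ k * x ^ l * (z ^ i * x ^ j) := by group
  refine ⟨⟨⟨⟨fun a b => Subtype.ext (hcomm a a.2 b b.2)⟩⟩, ?_⟩, ?_⟩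
  · intro e he
    obtain ⟨i, j, rfl⟩ := hdecomp e he
    have h1 : Commute (z ^ i) (x ^ j) := (hzx.zpow_left i).zpow_right j
    rw [h1.mul_pow, ← zpow_natCast, ← zpow_natCast, ← zpow_mul, ← zpow_mul, mul_comm i,
      mul_comm j, zpow_mul, zpow_mul, zpow_natCast, zpow_natCast, hzt, hxt, one_zpow, one_zpow,
      one_mul]
  · have hdisj : Subgroup.zpowers x ⊓ Subgroup.zpowers z = ⊥ := by
      rw [eq_bot_iff]
      intro y hy
      rw [Subgroup.mem_bot]
      by_contra hy1
      exact hxZ (Subgroup.zpowers_le.mpr hy.2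
        (Cfsg.Agent.Helper2.mem_zpowers_of_mem_zpowers_prime hxt hy.1 hy1))
    rw [card_sup_of_le_normalizer hxN hdisj, Nat.card_zpowers, Nat.card_zpowers,
      orderOf_eq_prime hzt hz1, orderOf_eq_prime hxt hx1, pow_two]

/-- If some `p`-subgroup of `G` is nonabelian then so is every Sylow `p`-subgroup. -/
theorem sylow_not_commutative_of_le {p : ℕ} [Fact p.Prime] {P : Subgroup G} (hP : IsPGroup p ↥P)
    (hne : ¬ IsMulCommutative ↥P) (S : Sylow p G) : ¬ IsMulCommutative ↥(S : Subgroup G) := by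
  intro hS
  apply hne
  obtain ⟨S₀, hS₀⟩ := hP.exists_le_sylow
  obtain ⟨g, hg⟩ := MulAction.exists_smul_eq G S₀ S
  have hconj : ∀ a ∈ P, g * a * g⁻¹ ∈ (S : Subgroup G) := by
    intro a ha
    rw [← hg, Sylow.coe_subgroup_smul]
    exact conj_mem_conj_smul (hS₀ ha)
  refine ⟨⟨fun a b => ?_⟩⟩
  apply Subtype.ext
  have h := hS.is_comm.comm ⟨_, hconj a a.2⟩ ⟨_, hconj b b.2⟩
  have h' : g * (a : G) * g⁻¹ * (g * (b : G) * g⁻¹) = g * (b : G) * g⁻¹ * (g * (a : G) * g⁻¹) :=
    congrArg Subtype.val h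
  have e1 : (a : G) * b = g⁻¹ * (g * (a : G) * g⁻¹ * (g * (b : G) * g⁻¹)) * g := by group
  have e2 : (b : G) * a = g⁻¹ * (g * (b : G) * g⁻¹ * (g * (a : G) * g⁻¹)) * g := by group
  show (a : G) * b = b * a
  rw [e1, e2, h']

/-- If `H = P Q` with `P`, `Q` commuting `K`-invariant subgroups of coprime orders and
`[H, K] = H`, then `[P, K] = P`. -/
theorem commutator_eq_of_sup {P Q K H : Subgroup G} (hH : H ≤ P ⊔ Q) (hPH : P ≤ H)
    (hcomm : ∀ a ∈ P, ∀ b ∈ Q, a * b = b * a)
    (hKP : K ≤ Subgroup.normalizer (P : Set G)) (hKQ : K ≤ Subgroup.normalizer (Q : Set G))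
    (hcop : (Nat.card P).Coprime (Nat.card Q)) (hHK : ⁅H, K⁆ = H) : ⁅P, K⁆ = P := by
  have hT₁P : ⁅P, K⁆ ≤ P := Subgroup.le_normalizer_iff_commutator_le_left.1 hKP
  have hQNP : Q ≤ Subgroup.normalizer (P : Set G) := by
    refine le_trans ?_ (Subgroup.centralizer_le_normalizer _)
    intro b hb
    rw [Subgroup.mem_centralizer_iff]
    intro a ha
    exact hcomm a ha b hb
  have hPNQ : P ≤ Subgroup.normalizer (Q : Set G) := by
    refine le_trans ?_ (Subgroup.centralizer_le_normalizer _)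
    intro a ha
    rw [Subgroup.mem_centralizer_iff]
    intro b hb
    exact (hcomm a ha b hb).symm
  -- step 1
  have h1 : ⁅H, K⁆ ≤ Q ⊔ ⁅P, K⁆ := by
    rw [Subgroup.commutator_le]
    intro h hh k hk
    obtain ⟨a, ha, b, hb, rfl⟩ := mem_sup_of_le_normalizer hQNP (hH hh)
    have hbk : ⁅b, k⁆ ∈ Q := by
      rw [commutatorElement_def]
      have : k * b⁻¹ * k⁻¹ ∈ Q := (Subgroup.mem_normalizer_iff.mp (hKQ hk) _).mp (Q.inv_mem hb)
      have e : b * k * b⁻¹ * k⁻¹ = b * (k * b⁻¹ * k⁻¹) := by group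
      rw [e]; exact Q.mul_mem hb this
    have hak : ⁅a, k⁆ ∈ ⁅P, K⁆ := Subgroup.commutator_mem_commutator ha hk
    have e : ⁅a * b, k⁆ = ⁅b, k⁆ * ⁅a, k⁆ := by
      have hc := hcomm a ha _ hbk
      calc ⁅a * b, k⁆ = a * ⁅b, k⁆ * a⁻¹ * ⁅a, k⁆ := by
            simp only [commutatorElement_def]; group
        _ = ⁅b, k⁆ * a * a⁻¹ * ⁅a, k⁆ := by rw [hc]
        _ = ⁅b, k⁆ * ⁅a, k⁆ := by group
    rw [e]
    exact Subgroup.mul_mem _ (Subgroup.mem_sup_left hbk) (Subgroup.mem_sup_right hak)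
  have h2 : P ≤ Q ⊔ ⁅P, K⁆ := by
    rw [hHK] at h1
    exact hPH.trans h1
  have hcop' : (Nat.card ↥(⁅P, K⁆ : Subgroup G)).Coprime (Nat.card Q) :=
    Nat.Coprime.coprime_dvd_left (Subgroup.card_dvd_of_le hT₁P) hcop
  have hcard : Nat.card ↥(Q ⊔ ⁅P, K⁆ : Subgroup G) = Nat.card ↥(⁅P, K⁆ : Subgroup G) * Nat.card Q :=
    card_sup_of_le_normalizer (hT₁P.trans hPNQ) (inf_eq_bot_of_coprime_card hcop')
  have hdvd : Nat.card P ∣ Nat.card ↥(⁅P, K⁆ : Subgroup G) := by
    have := Subgroup.card_dvd_of_le h2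
    rw [hcard] at this
    exact hcop.dvd_of_dvd_mul_right this
  exact Subgroup.eq_of_le_of_card_ge hT₁P (Nat.le_of_dvd Nat.card_pos hdvd)

end more

end Cfsg.Agent.Helper1.BG16
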