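import Mathlib
import Cfsg.Agent.Helper1.BG16d
import Cfsg.Agent.Helper3.BG16T
import Cfsg.Agent.Helper2.BG144b
import Cfsg.Agent.Helper1.BGXb
import Cfsg.Agent.S1419
import Cfsg.Agent.S1420
import Cfsg.Agent.S1426

/-!
# BG §16, Type V: the reduction to the pure `p`-group lemma.
-/

set_option autoImplicit false

namespace Cfsg.Agent.Helper1.BG16

open scoped Pointwise commutatorElement

universe u

variable {G : Type u} [Group G] [Finite G]

/-- For `K ≠ 1`, `U = 1`: `M' = M_σ`. -/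
theorem commutator_eq_sigmaCore_of_bot (hG : Cfsg.IsMinSimpleOddOrder G) {M K U : Subgroup G}
    (hM : IsCoatom M) (hKU : Cfsg.IsSigmaDecomposition M K U) (hK1 : K ≠ ⊥) (hU1 : U = ⊥) :
    ⁅M, M⁆ = Cfsg.sigmaCore M := by
  have h65 := (Cfsg.Agent.S1365.result hG M hM K U hKU hK1).1
  rw [h65, hU1, bot_sup_eq]

/-- For `K ≠ 1`, `U = 1`: `K` is a complement of `M_σ` in `M`. -/
theorem K_compl_of_bot (hG : Cfsg.IsMinSimpleOddOrder G) {M K U : Subgroup G}
    (hM : IsCoatom M) (hKU : Cfsg.IsSigmaDecomposition M K U) (hK1 : K ≠ ⊥) (hU1 : U = ⊥) :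
    Cfsg.IsComplIn K (Cfsg.sigmaCore M) M := by
  have h := W₁_compl hG hM hKU hK1
  rw [commutator_eq_sigmaCore_of_bot hG hM hKU hK1 hU1] at h
  exact Cfsg.Agent.Helper3.BG16T.isComplIn_symm h

/-- If `M_σ` is not a TI-subset, some element of prime order of `M_σ` has its centralizer not in
`M`. -/
theorem exists_bad_of_not_TI (hG : Cfsg.IsMinSimpleOddOrder G) {M : Subgroup G}
    (hM : IsCoatom M) (hF : Cfsg.fittingHallOf M = Cfsg.sigmaCore M)
    (hTI : ¬ Cfsg.IsTISubset (Cfsg.fittingHallOf M : Set G)) :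
    ∃ (r : ℕ) (x : G), r.Prime ∧ x ∈ Cfsg.sigmaCore M ∧ orderOf x = r ∧
      ¬ Subgroup.centralizer ({x} : Set G) ≤ M := by
  unfold Cfsg.IsTISubset at hTI
  push Not at hTI
  obtain ⟨g, hgN, x, hxH, hgx, hx1⟩ := hTI
  have hgM : g ∉ M := fun h => hgN (Cfsg.Agent.Helper2.CNMax.le_normalizer_fittingHallOf M h)
  have hxH' : x ∈ Cfsg.fittingHallOf M := hxH
  have hgx' : g * x * g⁻¹ ∈ Cfsg.fittingHallOf M := hgx
  rw [hF] at hxH' hgx'
  have hσM : Cfsg.sigmaCore M ≤ M := Cfsg.Agent.Lead.BG12.sigmaCore_le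
  obtain ⟨m, hmM, hm⟩ := Cfsg.Agent.Helper2.BG144.fusion_control hG hM hxH' hx1 (hσM hgx')
  have hbad : ¬ Subgroup.centralizer ({x} : Set G) ≤ M := by
    intro hC
    apply hgM
    have h1 : m⁻¹ * g ∈ Subgroup.centralizer ({x} : Set G) := by
      rw [Subgroup.mem_centralizer_singleton_iff]
      have e : x * (m⁻¹ * g) = m⁻¹ * (m * x * m⁻¹) * g := by group
      rw [e, ← hm]; group
    have h2 := M.mul_mem hmM (hC h1)
    simpa using h2
  have hord : orderOf x ≠ 1 := by rwa [Ne, orderOf_eq_one_iff]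
  obtain ⟨r, hr, hrx⟩ := Nat.exists_prime_and_dvd hord
  have hord0 : orderOf x ≠ 0 := (orderOf_pos x).ne'
  refine ⟨r, x ^ (orderOf x / r), hr, Subgroup.pow_mem _ hxH' _,
    orderOf_pow_orderOf_div hord0 hrx, ?_⟩
  intro hC
  exact hbad ((Cfsg.Agent.Helper2.BG144.cent_singleton_le_pow x _).trans hC)

/-- In the Type V situation, a bad element `x` of prime order `r` of `M_σ = M_F` is not central in
`O_r(M_F)`: otherwise `M_F ≤ C_G(x) ≤ N` would be abelian and `K* ≤ (M_F)' = 1`. -/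
theorem exists_not_commute (hG : Cfsg.IsMinSimpleOddOrder G) {M K U N : Subgroup G}
    (hM : IsCoatom M) (hKU : Cfsg.IsSigmaDecomposition M K U) (hK1 : K ≠ ⊥) (hU1 : U = ⊥)
    (hF : Cfsg.fittingHallOf M = Cfsg.sigmaCore M) {r : ℕ} [hr : Fact r.Prime] {x : G}
    (hx : x ∈ Cfsg.sigmaCore M) (hxr : orderOf x = r)
    (hCN : Subgroup.centralizer ({x} : Set G) ≤ N)
    (hab : ∀ X : Subgroup G, X ≤ M ⊓ N → Group.IsNilpotent ↥X → IsMulCommutative ↥X) :
    ∃ a ∈ (Cfsg.pCore r ↥(Cfsg.fittingHallOf M)).map (Cfsg.fittingHallOf M).subtype,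
      a * x ≠ x * a := by
  by_contra hcon
  push Not at hcon
  set H := Cfsg.fittingHallOf M with hH
  have hnil : Group.IsNilpotent ↥H := Cfsg.Agent.Helper2.CNMax.fittingHallOf_isNilpotent M
  have hxH : x ∈ H := by rw [hF]; exact hx
  set x' : ↥H := ⟨x, hxH⟩ with hx'
  have hx'r : orderOf x' = r := by rw [hx', Subgroup.orderOf_mk]; exact hxr
  have hall : ∀ c : ↥H, c ∈ Subgroup.centralizer ({x'} : Set ↥H) := by
    intro c
    apply mem_of_forall_primePow_mem
    intro y _ hpp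
    rw [isPrimePow_nat_iff] at hpp
    obtain ⟨q, k, hq, hk, hqk⟩ := hpp
    rw [Subgroup.mem_centralizer_singleton_iff]
    by_cases hqr : q = r
    · subst hqr
      have hy : y ∈ Cfsg.pCore q ↥H := mem_pCore_of_orderOf hnil y k hqk.symm
      have h1 := hcon (y : G) ⟨y, hy, rfl⟩
      apply Subtype.ext
      exact h1
    · haveI := hnil
      have hcop : (orderOf y).Coprime (orderOf x') := by
        rw [← hqk, hx'r]
        exact Nat.Coprime.pow_left k ((Nat.coprime_primes hq hr.out).mpr hqr)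
      exact commute_of_coprime_orderOf y x' hcop
  have hHC : H ≤ Subgroup.centralizer ({x} : Set G) := by
    intro h hh
    have := hall ⟨h, hh⟩
    rw [Subgroup.mem_centralizer_singleton_iff] at this ⊢
    exact congrArg Subtype.val this
  have hHM : H ≤ M := fittingHallOf_le M
  have hHab : IsMulCommutative ↥H := hab H (le_inf hHM (hHC.trans hCN)) hnil
  have hHH : ⁅H, H⁆ = ⊥ := by
    rw [Subgroup.commutator_eq_bot_iff_le_centralizer]
    intro a ha
    rw [Subgroup.mem_centralizer_iff]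
    intro b hb
    exact congrArg Subtype.val (hHab.is_comm.comm ⟨b, hb⟩ ⟨a, ha⟩)
  have hP := isTypePWith_bot hG hM hKU hK1 hU1 hF
  have h1 := hP.W₂_le
  rw [commutator_eq_sigmaCore_of_bot hG hM hKU hK1 hU1, ← hF, hHH, inf_bot_eq,
    le_bot_iff] at h1
  rw [hF] at h1
  exact hP.selfNormalizing.2.1 h1

/-- A maximal elementary abelian subgroup of order `r²` of `P` through a non-central element `x` of
order `r`, when `C_P(x)` lies in a subgroup `N` of `r`-rank at most `2`. -/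
theorem exists_maximal_elemAb {N P : Subgroup G} {r : ℕ} [hr : Fact r.Prime]
    (hPp : IsPGroup r ↥P) {x : G} (hxP : x ∈ P) (hxr : orderOf x = r)
    (hnc : ∃ a ∈ P, a * x ≠ x * a)
    (hCN : P ⊓ Subgroup.centralizer ({x} : Set G) ≤ N) (hrank : Cfsg.PRankLE r 2 ↥N) :
    ∃ A : Subgroup G, A ≤ P ∧ x ∈ A ∧ Cfsg.IsElementaryAbelian r A ∧ Nat.card A = r ^ 2 ∧
      ∀ B : Subgroup G, A ≤ B → B ≤ P → Cfsg.IsElementaryAbelian r B → B = A := by
  have hx1 : x ≠ 1 := by
    intro h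
    rw [h, orderOf_one] at hxr
    exact hr.out.one_lt.ne hxr
  haveI : Nontrivial ↥P := ⟨⟨⟨x, hxP⟩, 1, fun h => hx1 (congrArg Subtype.val h)⟩⟩
  haveI : Nontrivial ↥(Subgroup.center ↥P) := hPp.center_nontrivial
  have hZp : IsPGroup r ↥(Subgroup.center ↥P) := hPp.to_subgroup _
  have hdvd : r ∣ Nat.card ↥(Subgroup.center ↥P) := by
    obtain ⟨k, hk⟩ := IsPGroup.iff_card.mp hZp
    have hk0 : k ≠ 0 := by
      rintro rfl
      rw [pow_zero] at hk
      exact (Nat.card_eq_one_iff_unique.not.mpr (fun h => not_nontrivial_iff_subsingleton.mpr h.1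
        inferInstance)) hk
    rw [hk]; exact dvd_pow_self r hk0
  obtain ⟨z', hz'⟩ := exists_prime_orderOf_dvd_card' r hdvd
  set z : G := ((z' : ↥P) : G) with hz
  have hzP : z ∈ P := (z' : ↥P).2
  have hzr : orderOf z = r := by
    rw [hz, Subgroup.orderOf_coe, Subgroup.orderOf_coe]; exact hz'
  have hzt : z ^ r = 1 := by rw [← hzr]; exact pow_orderOf_eq_one z
  have hz1 : z ≠ 1 := by
    intro h
    rw [h, orderOf_one] at hzr
    exact hr.out.one_lt.ne hzr
  have hzc : ∀ a ∈ P, a * z = z * a := by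
    intro a ha
    have := Subgroup.mem_center_iff.mp z'.2 ⟨a, ha⟩
    exact congrArg Subtype.val this
  have hxt : x ^ r = 1 := by rw [← hxr]; exact pow_orderOf_eq_one x
  have hxZ : x ∉ Subgroup.zpowers z := by
    intro h
    obtain ⟨k, rfl⟩ := Subgroup.mem_zpowers_iff.mp h
    obtain ⟨a, ha, hne⟩ := hnc
    apply hne
    have hc : Commute a z := hzc a ha
    exact (hc.zpow_right k).eq
  have hzx : Commute z x := (hzc x hxP).symm
  obtain ⟨hAe, hAc⟩ := elemAb_sq_of_commute hzx hz1 hzt hxt hxZ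
  set A := Subgroup.zpowers z ⊔ Subgroup.zpowers x with hA
  have hAP : A ≤ P := sup_le (Subgroup.zpowers_le.mpr hzP) (Subgroup.zpowers_le.mpr hxP)
  have hxA : x ∈ A := Subgroup.mem_sup_right (Subgroup.mem_zpowers x)
  refine ⟨A, hAP, hxA, hAe, hAc, ?_⟩
  intro B hAB hBP hBe
  have hBN : B ≤ N := by
    refine le_trans ?_ hCN
    intro b hb
    refine Subgroup.mem_inf.mpr ⟨hBP hb, ?_⟩
    rw [Subgroup.mem_centralizer_singleton_iff]
    exact congrArg Subtype.val (hBe.1.is_comm.comm ⟨b, hb⟩ ⟨x, hAB hxA⟩)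
  have hcard : Nat.card ↥(B.subgroupOf N) ≤ r ^ 2 := by
    apply hrank (B.subgroupOf N)
    · refine ⟨⟨fun a b => ?_⟩⟩
      have ha : ((a : ↥N) : G) ∈ B := Subgroup.mem_subgroupOf.mp a.2
      have hb : ((b : ↥N) : G) ∈ B := Subgroup.mem_subgroupOf.mp b.2
      have h : ((a : ↥N) : G) * ((b : ↥N) : G) = ((b : ↥N) : G) * ((a : ↥N) : G) :=
        congrArg Subtype.val (hBe.1.is_comm.comm ⟨_, ha⟩ ⟨_, hb⟩)
      apply Subtype.ext
      apply Subtype.ext
      exact h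
    · intro a ha
      apply Subtype.ext
      rw [Subgroup.mem_subgroupOf] at ha
      have := hBe.2 _ ha
      simpa using this
  rw [card_subgroupOf_of_le hBN, ← hAc] at hcard
  exact (Subgroup.eq_of_le_of_card_ge hAB hcard).symm

/-- **Type V reduction.** If `K ≠ 1`, `U = 1`, `M_F = M_σ` is not a TI-subset, there is a prime `r`
such that `O_{r'}(M_F)` is cyclic and `P = O_r(M_F)` satisfies the hypotheses of the pure
`p`-group lemma.  (The two hypotheses `hQ1`, `hQ2` are lemmas proved elsewhere.) -/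
theorem typeV_data (hG : Cfsg.IsMinSimpleOddOrder G) {M K U : Subgroup G}
    (hM : IsCoatom M) (hKU : Cfsg.IsSigmaDecomposition M K U) (hK1 : K ≠ ⊥) (hU1 : U = ⊥)
    (hF : Cfsg.fittingHallOf M = Cfsg.sigmaCore M)
    (hTI : ¬ Cfsg.IsTISubset (Cfsg.fittingHallOf M : Set G))
    (hQ1 : ∀ (N E X : Subgroup G), IsCoatom N → Cfsg.IsComplIn E (Cfsg.sigmaCore N) N → X ≤ E →
      Group.IsNilpotent ↥X → IsMulCommutative ↥X)
    (hQ2 : ∀ (N E A Q : Subgroup G) (r : ℕ) [Fact r.Prime], IsCoatom N →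
      Cfsg.IsComplIn E (Cfsg.sigmaCore N) N → r ∈ Cfsg.tau2 N →
      (∀ S : Sylow r G, ¬ IsMulCommutative (S : Subgroup G)) →
      (A ≤ E ∧ Cfsg.IsElementaryAbelian r A ∧ Nat.card A = r ^ 2) → Q ≤ E →
      Group.IsNilpotent ↥Q → (Nat.card Q).Coprime r → IsCyclic ↥Q) :
    ∃ (r : ℕ) (P : Subgroup G), r.Prime ∧
      P = (Cfsg.pCore r ↥(Cfsg.fittingHallOf M)).map (Cfsg.fittingHallOf M).subtype ∧
      r ∣ Nat.card (Cfsg.fittingHallOf M) ∧
      IsCyclic ↥(Cfsg.pPrimeCore r ↥(Cfsg.fittingHallOf M)) ∧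
      IsPGroup r ↥P ∧ ¬ IsMulCommutative ↥P ∧
      K ≤ Subgroup.normalizer (P : Set G) ∧ (Nat.card K).Coprime (Nat.card P) ∧
      (∀ k ∈ K, k ≠ 1 → P ⊓ Subgroup.centralizer ({k} : Set G) =
        P ⊓ Subgroup.centralizer (K : Set G)) ∧
      IsCyclic ↥(P ⊓ Subgroup.centralizer (K : Set G)) ∧
      ⁅P, K⁆ = P ∧
      ∃ A : Subgroup G, A ≤ P ∧ Cfsg.IsElementaryAbelian r A ∧ Nat.card A = r ^ 2 ∧
        ∀ B : Subgroup G, A ≤ B → B ≤ P → Cfsg.IsElementaryAbelian r B → B = A := by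
  classical
  obtain ⟨r, x, hr, hx, hxr, hbad⟩ := exists_bad_of_not_TI hG hM hF hTI
  haveI : Fact r.Prime := ⟨hr⟩
  have hx1 : x ≠ 1 := by
    intro h
    rw [h, orderOf_one] at hxr
    exact hr.one_lt.ne hxr
  obtain ⟨N, d⟩ := Cfsg.Agent.Helper2.BG144.exists_badData hG hM hx hx1 hbad
  have hrτ : r ∈ Cfsg.tau2 N :=
    Cfsg.Agent.Helper2.BG144.mem_tau2_of_dvd_orderOf hG hM hx hbad d hr (hxr ▸ dvd_refl _)
  have hab : ∀ X : Subgroup G, X ≤ M ⊓ N → Group.IsNilpotent ↥X → IsMulCommutative ↥X :=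
    fun X hX hnil => hQ1 N (M ⊓ N) X d.coatom d.compl hX hnil
  have hnc := exists_not_commute hG hM hKU hK1 hU1 hF hx hxr d.cent_le hab
  have hnil : Group.IsNilpotent ↥(Cfsg.fittingHallOf M) :=
    Cfsg.Agent.Helper2.CNMax.fittingHallOf_isNilpotent M
  have hHM : Cfsg.fittingHallOf M ≤ M := fittingHallOf_le M
  have hMNH : M ≤ Subgroup.normalizer (Cfsg.fittingHallOf M : Set G) :=
    Cfsg.Agent.Helper2.CNMax.le_normalizer_fittingHallOf M
  have hxH : x ∈ Cfsg.fittingHallOf M := by rw [hF]; exact hx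
  have hx'r : orderOf (⟨x, hxH⟩ : ↥(Cfsg.fittingHallOf M)) = r ^ 1 := by
    rw [Subgroup.orderOf_mk, pow_one]; exact hxr
  have hP := isTypePWith_bot hG hM hKU hK1 hU1 hF
  have hMM := commutator_eq_sigmaCore_of_bot hG hM hKU hK1 hU1
  refine ⟨r, (Cfsg.pCore r ↥(Cfsg.fittingHallOf M)).map (Cfsg.fittingHallOf M).subtype, hr, rfl,
    ?_⟩
  set H := Cfsg.fittingHallOf M with hH
  set P := (Cfsg.pCore r ↥H).map H.subtype with hPdef
  set Q := (Cfsg.pPrimeCore r ↥H).map H.subtype with hQdef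
  have hPp : IsPGroup r ↥P := (pCore_isPGroup r).map _
  have hxP : x ∈ P := ⟨⟨x, hxH⟩, mem_pCore_of_orderOf hnil _ 1 hx'r, rfl⟩
  have hPH : P ≤ H := Subgroup.map_subtype_le _
  have hQH : Q ≤ H := Subgroup.map_subtype_le _
  have hCN' : P ⊓ Subgroup.centralizer ({x} : Set G) ≤ N := inf_le_right.trans d.cent_le
  obtain ⟨A, hAP, hxA, hAe, hAc, hAmax⟩ :=
    exists_maximal_elemAb hPp hxP hxr hnc hCN' hrτ.2.2.1
  have hAMN : A ≤ M ⊓ N := by
    apply le_inf (hAP.trans (hPH.trans hHM))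
    refine le_trans ?_ hCN'
    intro a ha
    refine Subgroup.mem_inf.mpr ⟨hAP ha, ?_⟩
    rw [Subgroup.mem_centralizer_singleton_iff]
    exact congrArg Subtype.val (hAe.1.is_comm.comm ⟨a, ha⟩ ⟨x, hxA⟩)
  have hPna : ¬ IsMulCommutative ↥P := by
    intro hc
    obtain ⟨a, ha, hne⟩ := hnc
    exact hne (congrArg Subtype.val (hc.is_comm.comm ⟨a, ha⟩ ⟨x, hxP⟩))
  have hS : ∀ S : Sylow r G, ¬ IsMulCommutative (S : Subgroup G) :=
    fun S => sylow_not_commutative_of_le hPp hPna S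
  -- `Q`
  have hQC : Q ≤ Subgroup.centralizer ({x} : Set G) := by
    rintro _ ⟨y, hy, rfl⟩
    rw [Subgroup.mem_centralizer_singleton_iff]
    have := commute_pPrimeCore_of_orderOf hnil (⟨x, hxH⟩ : ↥H) y 1 hx'r hy
    exact (congrArg Subtype.val this).symm
  have hQMN : Q ≤ M ⊓ N := le_inf (hQH.trans hHM) (hQC.trans d.cent_le)
  have hQnil : Group.IsNilpotent ↥Q := by
    haveI := hnil
    exact Group.nilpotent_of_mulEquiv
      ((Cfsg.pPrimeCore r ↥H).equivMapOfInjective H.subtype H.subtype_injective)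
  have hQr : (Nat.card Q).Coprime r := by
    rw [hQdef, Subgroup.card_map_of_injective H.subtype_injective]
    exact card_pPrimeCore_coprime r
  have hQc : IsCyclic ↥Q :=
    hQ2 N (M ⊓ N) A Q r d.coatom d.compl hrτ hS ⟨hAMN, hAe, hAc⟩ hQMN hQnil hQr
  have hcyc : IsCyclic ↥(Cfsg.pPrimeCore r ↥H) :=
    ((Cfsg.pPrimeCore r ↥H).equivMapOfInjective H.subtype H.subtype_injective).isCyclic.mpr hQc
  have hrH : r ∣ Nat.card ↥H := by
    have := orderOf_dvd_natCard (⟨x, hxH⟩ : ↥H)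
    rwa [hx'r, pow_one] at this
  -- normalizers
  haveI := Cfsg.Agent.Helper3.pCore_characteristic r ↥H
  have hNP : Subgroup.normalizer (H : Set G) ≤ Subgroup.normalizer (P : Set G) :=
    normalizer_le_normalizer_map_of_characteristic H (Cfsg.pCore r ↥H)
  have hNQ : Subgroup.normalizer (H : Set G) ≤ Subgroup.normalizer (Q : Set G) :=
    normalizer_le_normalizer_map_of_characteristic H (Cfsg.pPrimeCore r ↥H)
  have hKM : K ≤ M := hKU.hall.1
  have hKP : K ≤ Subgroup.normalizer (P : Set G) := hKM.trans (hMNH.trans hNP)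
  have hKQ : K ≤ Subgroup.normalizer (Q : Set G) := hKM.trans (hMNH.trans hNQ)
  have hPσ : P ≤ Cfsg.sigmaCore M := by rw [← hF]; exact hPH
  have hcopK : (Nat.card K).Coprime (Nat.card P) :=
    Nat.Coprime.coprime_dvd_right (Subgroup.card_dvd_of_le (hPσ.trans le_sup_right))
      (coprime_card_K_U_sup hKU)
  have hcopPQ : (Nat.card P).Coprime (Nat.card Q) := by
    obtain ⟨k, hk⟩ := IsPGroup.iff_card.mp hPp
    rw [hk]
    exact (Nat.Coprime.pow_left k hQr.symm)
  -- centralizers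
  have hcent : ∀ k ∈ K, k ≠ 1 → P ⊓ Subgroup.centralizer ({k} : Set G) =
      P ⊓ Subgroup.centralizer (K : Set G) := by
    intro k hk hk1
    have hW := hP.W₂_centralizer k hk hk1
    rw [hMM] at hW
    calc P ⊓ Subgroup.centralizer ({k} : Set G)
        = P ⊓ (Cfsg.sigmaCore M ⊓ Subgroup.centralizer ({k} : Set G)) := by
          rw [← inf_assoc, inf_eq_left.mpr hPσ]
      _ = P ⊓ (Cfsg.sigmaCore M ⊓ Subgroup.centralizer (K : Set G)) := by rw [hW]
      _ = P ⊓ Subgroup.centralizer (K : Set G) := by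
          rw [← inf_assoc, inf_eq_left.mpr hPσ]
  have hcycK : IsCyclic ↥(P ⊓ Subgroup.centralizer (K : Set G)) := by
    haveI := (Cfsg.Agent.S1364.result hG M hM K U hKU hK1).1
    exact Subgroup.isCyclic_of_le (inf_le_inf_right _ hPσ)
  -- `[P, K] = P`
  have hPK : ⁅P, K⁆ = P := by
    have h26 := (Cfsg.Agent.S1426.result hG M hM K (K_compl_of_bot hG hM hKU hK1 hU1)).2.1
    rw [← hF] at h26
    have hsup : H ≤ P ⊔ Q := by
      rw [hPdef, hQdef, ← Subgroup.map_sup, pCore_sup_pPrimeCore_eq_top hnil r,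
        ← MonoidHom.range_eq_map, Subgroup.range_subtype]
    have hHNP : H ≤ Subgroup.normalizer (P : Set G) := Subgroup.le_normalizer.trans hNP
    have hHNQ : H ≤ Subgroup.normalizer (Q : Set G) := Subgroup.le_normalizer.trans hNQ
    have hcomm : ∀ a ∈ P, ∀ b ∈ Q, a * b = b * a := fun a ha b hb =>
      Cfsg.Agent.Helper1.BGV.commute_of_normalize_of_disjoint (hPH.trans hHNQ) (hQH.trans hHNP)
        (inf_eq_bot_of_coprime_card hcopPQ) ha hb
    exact commutator_eq_of_sup hsup hPH hcomm hKP hKQ hcopPQ h26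
  exact ⟨hrH, hcyc, hPp, hPna, hKP, hcopK, hcent, hcycK, hPK, A, hAP, hAe, hAc, hAmax⟩

end Cfsg.Agent.Helper1.BG16
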