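import Mathlib
import Cfsg.Agent.Helper1.BG16e

/-!
# BG §16: Type V ⟺ `K ≠ 1 ∧ U = 1 ∧ M_F = M_σ` (modulo the pure `p`-group lemma).
-/

set_option autoImplicit false

namespace Cfsg.Agent.Helper1.BG16

open scoped Pointwise commutatorElement

universe u

variable {G : Type u} [Group G] [Finite G]

/-- Type V ⇒ `K ≠ 1`, `U = 1`, `M_F = M_σ`. -/
theorem typeV_imp (hG : Cfsg.IsMinSimpleOddOrder G) {M K U : Subgroup G}
    (hM : IsCoatom M) (hKU : Cfsg.IsSigmaDecomposition M K U) (hV : Cfsg.IsOfTypeV M) :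
    K ≠ ⊥ ∧ U = ⊥ ∧ Cfsg.fittingHallOf M = Cfsg.sigmaCore M := by
  obtain ⟨W₁, U', W₂, hP, hU', -⟩ := hV
  have hK1 : K ≠ ⊥ := Cfsg.Agent.Helper3.BG16T.K_ne_bot_of_isTypePWith hG hM hP hKU
  have h65 := (Cfsg.Agent.S1365.result hG M hM K U hKU hK1).1
  have hc := hP.U_compl
  rw [hU'] at hc
  have hFM : Cfsg.fittingHallOf M = ⁅M, M⁆ := by
    apply le_antisymm hc.1
    intro m hm
    obtain ⟨a, ha, b, hb, rfl⟩ := hc.2.2.2 m hm
    rw [Subgroup.mem_bot.mp hb, mul_one]; exact ha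
  by_cases hU1 : U = ⊥
  · refine ⟨hK1, hU1, ?_⟩
    rw [hFM, h65, hU1, bot_sup_eq]
  · exfalso
    have hF := fittingHallOf_eq_sigmaCore hG hM hKU hU1
    have hUle : U ≤ Cfsg.sigmaCore M := by
      rw [← hF, hFM, h65]; exact le_sup_left
    have hdisj := Cfsg.Agent.Helper4.BG15.decomp_U_inf_sigmaCore hKU
    rw [inf_eq_left.mpr hUle] at hdisj
    exact hU1 hdisj

/-- The shape of the pure `p`-group lemma used for Type V. -/
def LemmaC (G : Type u) [Group G] : Prop :=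
  ∀ (r : ℕ) (P K : Subgroup G), r.Prime → r ≠ 2 → IsPGroup r ↥P → ¬ IsMulCommutative ↥P →
    K ≤ Subgroup.normalizer (P : Set G) → IsCyclic ↥K → Odd (Nat.card K) →
    (Nat.card K).Coprime (Nat.card P) →
    (∀ k ∈ K, k ≠ 1 → P ⊓ Subgroup.centralizer ({k} : Set G) =
      P ⊓ Subgroup.centralizer (K : Set G)) →
    IsCyclic ↥(P ⊓ Subgroup.centralizer (K : Set G)) →
    ⁅P, K⁆ = P →
    (∃ A : Subgroup G, A ≤ P ∧ Cfsg.IsElementaryAbelian r A ∧ Nat.card A = r ^ 2 ∧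
      ∀ B : Subgroup G, A ≤ B → B ≤ P → Cfsg.IsElementaryAbelian r B → B = A) →
    Nat.card K ∣ r - 1 ∨ (Nat.card P = r ^ 3 ∧ Nat.card K ∣ r + 1)

/-- `K ≠ 1`, `U = 1`, `M_F = M_σ` ⇒ Type V, given the pure `p`-group lemma. -/
theorem typeV_of (hG : Cfsg.IsMinSimpleOddOrder G) {M K U : Subgroup G}
    (hM : IsCoatom M) (hKU : Cfsg.IsSigmaDecomposition M K U) (hK1 : K ≠ ⊥) (hU1 : U = ⊥)
    (hF : Cfsg.fittingHallOf M = Cfsg.sigmaCore M)
    (hQ1 : ∀ (N E X : Subgroup G), IsCoatom N → Cfsg.IsComplIn E (Cfsg.sigmaCore N) N → X ≤ E →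
      Group.IsNilpotent ↥X → IsMulCommutative ↥X)
    (hQ2 : ∀ (N E A Q : Subgroup G) (r : ℕ) [Fact r.Prime], IsCoatom N →
      Cfsg.IsComplIn E (Cfsg.sigmaCore N) N → r ∈ Cfsg.tau2 N →
      (∀ S : Sylow r G, ¬ IsMulCommutative (S : Subgroup G)) →
      (A ≤ E ∧ Cfsg.IsElementaryAbelian r A ∧ Nat.card A = r ^ 2) → Q ≤ E →
      Group.IsNilpotent ↥Q → (Nat.card Q).Coprime r → IsCyclic ↥Q)
    (hC : LemmaC G) : Cfsg.IsOfTypeV M := by
  have hP := isTypePWith_bot hG hM hKU hK1 hU1 hF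
  refine ⟨K, ⊥, _, hP, rfl, ?_⟩
  by_cases hTI : Cfsg.IsTISubset (Cfsg.fittingHallOf M : Set G)
  · exact Or.inl hTI
  · right
    obtain ⟨r, P, hr, hPdef, hrH, hcyc, hPp, hPna, hKP, hcopK, hcent, hcycK, hPK, hA⟩ :=
      typeV_data hG hM hKU hK1 hU1 hF hTI hQ1 hQ2
    have hKodd : Odd (Nat.card K) := Odd.of_dvd_nat hG.1 (Subgroup.card_subgroup_dvd_card K)
    have hcardP : Nat.card P = Nat.card ↥(Cfsg.pCore r ↥(Cfsg.fittingHallOf M)) := by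
      rw [hPdef, Subgroup.card_map_of_injective (Subgroup.subtype_injective _)]
    have hr2 : r ≠ 2 := by
      rintro rfl
      have h2 : 2 ∣ Nat.card G := hrH.trans (Subgroup.card_subgroup_dvd_card _)
      exact (Nat.not_even_iff_odd.mpr hG.1) (even_iff_two_dvd.mpr h2)
    rcases hC r P K hr hr2 hPp hPna hKP hKU.cyclic hKodd hcopK hcent hcycK hPK hA with
      h | ⟨h1, h2⟩
    · exact Or.inl ⟨r, hr, hrH, h, hcyc⟩
    · exact Or.inr ⟨r, hr, hrH, hcardP ▸ h1, h2, hcyc⟩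

end Cfsg.Agent.Helper1.BG16
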