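import Mathlib
import Cfsg.Agent.Helper1.BGFrobB

set_option autoImplicit false

/-!
Lemma F' in the shape used by the S1428 assembly: the acting element `s` has prime order.
-/

namespace Cfsg.Agent.Helper1.BGFrob

universe u

variable {G : Type u} [Group G]

/-- **Lemma F'**, element form with `s` of prime order and commutation hypotheses. -/
theorem frob_centralizes [Finite G] {t : ℕ} [ht : Fact t.Prime] (ht2 : t ≠ 2) {T Q : Subgroup G}
    {s : G} (hT : IsPGroup t ↥T) (hQT : Q ≤ Subgroup.normalizer (T : Set G))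
    (hsT : s ∈ Subgroup.normalizer (T : Set G)) (hsQ : s ∈ Subgroup.normalizer (Q : Set G))
    (hs : (orderOf s).Prime) (hcopQ : (Nat.card Q).Coprime t) (hcops : (orderOf s).Coprime t)
    (hcopQs : (Nat.card Q).Coprime (orderOf s))
    (hfpf : ∀ x ∈ Q, s * x = x * s → x = 1)
    (hcyc : IsCyclic ↥(T ⊓ Subgroup.centralizer ({s} : Set G)))
    (hy : ∃ y ∈ T, y ≠ 1 ∧ s * y = y * s ∧ ∀ x ∈ Q, x * y = y * x) :
    T ≤ Subgroup.centralizer (Q : Set G) := by
  obtain ⟨y0, hy0T, hy01, hy0s, hy0Q⟩ := hy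
  have hpt : orderOf s ≠ t := by
    intro h
    rw [h] at hcops
    exact ht.out.one_lt.ne' ((Nat.coprime_self t).1 hcops)
  -- an element of order `t`
  obtain ⟨k, hk⟩ := (IsPGroup.iff_orderOf.1 hT) ⟨y0, hy0T⟩
  rw [Subgroup.orderOf_mk] at hk
  have hk0 : k ≠ 0 := by
    rintro rfl
    rw [pow_zero, orderOf_eq_one_iff] at hk
    exact hy01 hk
  have htd : t ∣ orderOf y0 := by
    rw [hk]; exact dvd_pow_self t hk0
  set y : G := y0 ^ (orderOf y0 / t) with hy
  have hyord : orderOf y = t := orderOf_pow_orderOf_div (orderOf_pos _).ne' htd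
  have hy1 : y ≠ 1 := by
    intro h
    rw [h, orderOf_one] at hyord
    exact ht.out.one_lt.ne hyord
  have hyt : y ^ t = 1 := by rw [← hyord]; exact pow_orderOf_eq_one y
  have hyT : y ∈ T := T.pow_mem hy0T _
  have hyQ : y ∈ Subgroup.centralizer (Q : Set G) := by
    apply Subgroup.pow_mem
    rw [Subgroup.mem_centralizer_iff]
    exact hy0Q
  have hys : s * y * s⁻¹ = y := by
    have h1 : Commute s y0 := hy0s
    have h2 : s * y = y * s := (h1.pow_right _).eq
    rw [h2]; group
  refine frobenius_cyclic_core ht.out ht2 hs hpt hT hQT hsT hsQ (pow_orderOf_eq_one s) hcopQ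
    ((Nat.Prime.coprime_iff_not_dvd hs).1 hcopQs.symm) ?_ hcyc hyT hy1 hyt hyQ hys
  intro g hg hgs
  apply hfpf g hg
  calc s * g = (s * g * s⁻¹) * s := by group
    _ = g * s := by rw [hgs]

end Cfsg.Agent.Helper1.BGFrob
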