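import Mathlib
import Cfsg.Agent.Helper7.ChevT16

set_option autoImplicit false

/-!
A table fact for the dominant cone: with `W` the multiple of the inverse Cartan matrix of `ChevT16`
and `m` the multiplier, `m · cartan i s = Σ_k wt W k s · cartan i (simple k)` for every root `s`:
the expansion of a root on the fundamental roots, read on the Cartan pairings.
-/

namespace Cfsg.Agent.Helper1.BTFilt

open Cfsg Cfsg.Lie Cfsg.Agent.Helper7 Cfsg.Agent.Helper7.Chev

/-- `m · cartan i s = Σ_k wt W k s · cartan i (simple k)`. -/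
def btf_T22 (T : Tab) (W : List (List ℤ)) (m : ℤ) : Prop :=
  AllLt T.n (fun s => AllLt T.l (fun i =>
    m * T.cartan i s = ((List.range T.l).map fun k => T.wt W k s * T.cartan i (T.simple k)).sum))

instance (T : Tab) (W : List (List ℤ)) (m : ℤ) : Decidable (btf_T22 T W m) := by
  unfold btf_T22; infer_instance

theorem btf_T22fast_G2 : btf_T22 fastG2 wtMatG2 1 := by decide +kernel
theorem btf_T22_G2 : btf_T22 (tabOf chevG2) wtMatG2 1 := tab_G2 ▸ btf_T22fast_G2

theorem btf_T22fast_B2 : btf_T22 fastB2 wtMatB2 2 := by decide +kernel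
theorem btf_T22_B2 : btf_T22 (tabOf chevB2) wtMatB2 2 := tab_B2 ▸ btf_T22fast_B2

theorem btf_T22fast_D4 : btf_T22 fastD4 wtMatD4 2 := by decide +kernel
theorem btf_T22_D4 : btf_T22 (tabOf chevD4) wtMatD4 2 := tab_D4 ▸ btf_T22fast_D4

theorem btf_T22fast_F4 : btf_T22 fastF4 wtMatF4 1 := by decide +kernel
theorem btf_T22_F4 : btf_T22 (tabOf chevF4) wtMatF4 1 := tab_F4 ▸ btf_T22fast_F4

theorem btf_T22fast_E6 : btf_T22 fastE6 wtMatE6 3 := by decide +kernel
theorem btf_T22_E6 : btf_T22 (tabOf chevE6) wtMatE6 3 := tab_E6 ▸ btf_T22fast_E6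

theorem btf_T22fast_E7 : btf_T22 fastE7 wtMatE7 2 := by decide +kernel
theorem btf_T22_E7 : btf_T22 (tabOf chevE7) wtMatE7 2 := tab_E7 ▸ btf_T22fast_E7

theorem btf_T22fast_E8 : btf_T22 fastE8 wtMatE8 1 := by decide +kernel
theorem btf_T22_E8 : btf_T22 (tabOf chevE8) wtMatE8 1 := tab_E8 ▸ btf_T22fast_E8

/-- The two table facts on the multiple of the inverse Cartan matrix, for the seven data. -/
theorem btf_T16_T22_of_mem (D : ChevalleyDatum)
    (hD : D ∈ [chevG2, chevB2, chevD4, chevF4, chevE6, chevE7, chevE8]) :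
    ∃ (W : List (List ℤ)) (m : ℤ), 0 < m ∧ (tabOf D).T16 W ∧ btf_T22 (tabOf D) W m :=
  chev_cases (p := fun D => ∃ (W : List (List ℤ)) (m : ℤ), 0 < m ∧ (tabOf D).T16 W ∧
      btf_T22 (tabOf D) W m) D hD
    ⟨_, 1, by norm_num, T16_G2, btf_T22_G2⟩ ⟨_, 2, by norm_num, T16_B2, btf_T22_B2⟩
    ⟨_, 2, by norm_num, T16_D4, btf_T22_D4⟩ ⟨_, 1, by norm_num, T16_F4, btf_T22_F4⟩
    ⟨_, 3, by norm_num, T16_E6, btf_T22_E6⟩ ⟨_, 2, by norm_num, T16_E7, btf_T22_E7⟩
    ⟨_, 1, by norm_num, T16_E8, btf_T22_E8⟩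

end Cfsg.Agent.Helper1.BTFilt
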