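import Mathlib
import Cfsg.Agent.Helper1.BTDomTab
import Cfsg.Agent.Helper8.BTWeylA
import Cfsg.Agent.Helper7.ChevW0
import Cfsg.Agent.Helper7.ChevParab
import Cfsg.Agent.Helper7.ChevGood3

set_option autoImplicit false

/-!
The dominant cone: for a dominant real functional `φ = btw_phi D lam` (non-negative on the
fundamental roots), `φ` is non-negative on the positive roots and vanishes on a root exactly when the
root lies in the root subsystem spanned by the fundamental roots on which `φ` vanishes.
-/

namespace Cfsg.Agent.Helper1.BTFilt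

open Cfsg Cfsg.Lie Cfsg.Agent.Helper7 Cfsg.Agent.Helper7.Chev Cfsg.Agent.Helper8.BTW

variable {D : ChevalleyDatum}

/-- The set of the fundamental roots on which the functional vanishes. -/
def btf_zeroSet (D : ChevalleyDatum) (lam : ℕ → ℝ) : Set ℕ :=
  {i | i < D.rank ∧ btw_phi D lam (D.simple i) = 0}

/-- The expansion of the functional on the fundamental roots. -/
theorem btf_phi_expand {W : List (List ℤ)} {m : ℤ} (h22 : btf_T22 (tabOf D) W m) (lam : ℕ → ℝ)
    {s : ℕ} (hs : s < D.nroots) :
    (m : ℝ) * btw_phi D lam s =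
      ∑ k ∈ Finset.range D.rank, ((tabOf D).wt W k s : ℝ) * btw_phi D lam (D.simple k) := by
  unfold btw_phi
  rw [Finset.mul_sum]
  have h1 : ∀ i ∈ Finset.range D.rank, (m : ℝ) * (lam i * ((D.cartan i s : ℤ) : ℝ)) =
      ∑ k ∈ Finset.range D.rank,
        ((tabOf D).wt W k s : ℝ) * (lam i * ((D.cartan i (D.simple k) : ℤ) : ℝ)) := by
    intro i hi
    rw [Finset.mem_range] at hi
    have h3 : m * D.cartan i s =
        ((List.range D.rank).map fun k => (tabOf D).wt W k s * D.cartan i (D.simple k)).sum :=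
      h22 s hs i hi
    rw [list_range_sum_eq] at h3
    have h2 : (m : ℝ) * ((D.cartan i s : ℤ) : ℝ) =
        ∑ k ∈ Finset.range D.rank,
          ((tabOf D).wt W k s : ℝ) * ((D.cartan i (D.simple k) : ℤ) : ℝ) := by
      exact_mod_cast h3
    calc (m : ℝ) * (lam i * ((D.cartan i s : ℤ) : ℝ))
        = lam i * ((m : ℝ) * ((D.cartan i s : ℤ) : ℝ)) := by ring
      _ = lam i * ∑ k ∈ Finset.range D.rank,
            ((tabOf D).wt W k s : ℝ) * ((D.cartan i (D.simple k) : ℤ) : ℝ) := by rw [h2]
      _ = _ := by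
          rw [Finset.mul_sum]
          apply Finset.sum_congr rfl
          intro k _
          ring
  rw [Finset.sum_congr rfl h1, Finset.sum_comm]
  apply Finset.sum_congr rfl
  intro k _
  rw [Finset.mul_sum]

section main

variable (hD : D ∈ [chevG2, chevB2, chevD4, chevF4, chevE6, chevE7, chevE8])
  {lam : ℕ → ℝ} (hdom : ∀ i < D.rank, 0 ≤ btw_phi D lam (D.simple i))

include hD hdom in
/-- A dominant functional is non-negative on the roots of the upper half of the index range. -/
theorem btf_dom_nonneg_of_half {s : ℕ} (hs : s < D.nroots) (hpos : D.nroots / 2 ≤ s) :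
    0 ≤ btw_phi D lam s := by
  obtain ⟨W, m, hm, h16, h22⟩ := btf_T16_T22_of_mem D hD
  have e := btf_phi_expand h22 lam hs
  have hsum : 0 ≤ ∑ k ∈ Finset.range D.rank,
      ((tabOf D).wt W k s : ℝ) * btw_phi D lam (D.simple k) := by
    apply Finset.sum_nonneg
    intro k hk
    rw [Finset.mem_range] at hk
    have h1 : (0 : ℤ) ≤ (tabOf D).wt W k s := (h16 s hs hpos k hk).1
    have h1' : (0 : ℝ) ≤ ((tabOf D).wt W k s : ℝ) := by exact_mod_cast h1
    exact mul_nonneg h1' (hdom k hk)
  have hm' : (0 : ℝ) < (m : ℝ) := by exact_mod_cast hm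
  rw [← e] at hsum
  exact nonneg_of_mul_nonneg_right hsum hm'

include hD hdom in
/-- A dominant functional is non-negative on the positive roots. -/
theorem btf_dom_nonneg {r : ℕ} (hr : D.IsPosRoot r) : 0 ≤ btw_phi D lam r := by
  have hT := T0_of_mem D hD
  exact btf_dom_nonneg_of_half hD hdom hr.1 ((isPosRoot_iff hT hr.1).mp hr)

include hD hdom in
/-- On the upper half: the functional vanishes exactly on the root subsystem of its zero set. -/
theorem btf_dom_eq_zero_iff_of_half {s : ℕ} (hs : s < D.nroots) (hpos : D.nroots / 2 ≤ s) :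
    btw_phi D lam s = 0 ↔ D.InRootSub (btf_zeroSet D lam) s := by
  obtain ⟨W, m, hm, h16, h22⟩ := btf_T16_T22_of_mem D hD
  have e := btf_phi_expand h22 lam hs
  have hm' : (m : ℝ) ≠ 0 := by
    have : (0 : ℝ) < (m : ℝ) := by exact_mod_cast hm
    exact this.ne'
  have hterm : ∀ k ∈ Finset.range D.rank,
      0 ≤ ((tabOf D).wt W k s : ℝ) * btw_phi D lam (D.simple k) := by
    intro k hk
    rw [Finset.mem_range] at hk
    have h1 : (0 : ℤ) ≤ (tabOf D).wt W k s := (h16 s hs hpos k hk).1
    have h1' : (0 : ℝ) ≤ ((tabOf D).wt W k s : ℝ) := by exact_mod_cast h1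
    exact mul_nonneg h1' (hdom k hk)
  constructor
  · intro h0
    rw [h0, mul_zero] at e
    have hz := (Finset.sum_eq_zero_iff_of_nonneg hterm).mp e.symm
    refine ⟨hs, fun k hk hkJ => ?_⟩
    have hk' := hz k (Finset.mem_range.mpr hk)
    rcases mul_eq_zero.mp hk' with h1 | h1
    · have h2 : (tabOf D).wt W k s = 0 := by exact_mod_cast h1
      exact (h16 s hs hpos k hk).2.mp h2
    · exact absurd ⟨hk, h1⟩ hkJ
  · intro hin
    have hz : ∑ k ∈ Finset.range D.rank,
        ((tabOf D).wt W k s : ℝ) * btw_phi D lam (D.simple k) = 0 := by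
      apply Finset.sum_eq_zero
      intro k hk
      rw [Finset.mem_range] at hk
      by_cases hkJ : k ∈ btf_zeroSet D lam
      · rw [hkJ.2, mul_zero]
      · have h1 : cr D s k = 0 := hin.2 k hk hkJ
        have h2 : (tabOf D).wt W k s = 0 := (h16 s hs hpos k hk).2.mpr h1
        rw [h2]
        simp
    rw [hz] at e
    exact (mul_eq_zero.mp e).resolve_left hm'

include hD hdom in
/-- The functional vanishes on a root exactly when the root lies in the root subsystem of the zero
set. -/
theorem btf_dom_eq_zero_iff {r : ℕ} (hr : r < D.nroots) :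
    btw_phi D lam r = 0 ↔ D.InRootSub (btf_zeroSet D lam) r := by
  have hT := T0_of_mem D hD
  have hG : Good2 D := (good3_of_mem D hD).toGood2
  have hG1 := hG.toGood1
  by_cases hpos : D.nroots / 2 ≤ r
  · exact btf_dom_eq_zero_iff_of_half hD hdom hr hpos
  · have hnr := hG1.neg_lt hr
    have hnpos : D.nroots / 2 ≤ D.neg r :=
      ((hT r hr).2.2.1 ((isNegRoot_iff hT hr).mpr (by omega))).2
    have hiff := btf_dom_eq_zero_iff_of_half hD hdom hnr hnpos
    have hneg := btw_phi_neg hG lam hr
    constructor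
    · intro h0
      have h1 : btw_phi D lam (D.neg r) = 0 := by rw [hneg, h0, neg_zero]
      have h2 := inRootSub_neg hG (hiff.mp h1)
      rw [hG1.neg_neg hr] at h2
      exact h2
    · intro hin
      have h1 := hiff.mpr (inRootSub_neg hG hin)
      rw [hneg] at h1
      linarith

include hD hdom in
/-- A dominant functional is positive on the positive roots outside the root subsystem of its zero
set. -/
theorem btf_dom_pos {r : ℕ} (hr : D.IsPosRoot r) (hrJ : ¬ D.InRootSub (btf_zeroSet D lam) r) :
    0 < btw_phi D lam r := by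
  have h0 := btf_dom_nonneg hD hdom hr
  have hne : btw_phi D lam r ≠ 0 := fun h => hrJ ((btf_dom_eq_zero_iff hD hdom hr.1).mp h)
  exact lt_of_le_of_ne h0 (Ne.symm hne)

include hD in
/-- A functional that does not vanish on all roots has a proper zero set. -/
theorem btf_zeroSet_proper (lam : ℕ → ℝ) (hne : ∃ r < D.nroots, btw_phi D lam r ≠ 0) :
    ∃ i, i < D.rank ∧ i ∉ btf_zeroSet D lam := by
  obtain ⟨W, m, hm, h16, h22⟩ := btf_T16_T22_of_mem D hD
  obtain ⟨r, hr, hr0⟩ := hne
  by_contra hcon
  push Not at hcon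
  apply hr0
  have e := btf_phi_expand h22 lam hr
  have hz : ∑ k ∈ Finset.range D.rank,
      ((tabOf D).wt W k r : ℝ) * btw_phi D lam (D.simple k) = 0 := by
    apply Finset.sum_eq_zero
    intro k hk
    rw [Finset.mem_range] at hk
    rw [(hcon k hk).2, mul_zero]
  rw [hz] at e
  have hm' : (m : ℝ) ≠ 0 := by
    have : (0 : ℝ) < (m : ℝ) := by exact_mod_cast hm
    exact this.ne'
  exact (mul_eq_zero.mp e).resolve_left hm'

end main

end Cfsg.Agent.Helper1.BTFilt
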