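import Mathlib

set_option autoImplicit false

/-!
Generic matrix filtrations attached to a real weight function on the index set
(for the Borel–Tits theorem through an optimal weight): for `φ : ι → ℝ`,
* `btf_U φ`   : the matrices `g` with `g - 1` raising the weight by at least `1`;
* `btf_Upos φ`: the matrices `g` with `g - 1` raising the weight strictly;
* `btf_P φ`   : the matrices not lowering the weight;
* `btf_L φ`   : the matrices preserving the weight.
All statements are entrywise.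
-/

namespace Cfsg.Agent.Helper1.BTFilt

open Matrix

variable {ι : Type*} [Fintype ι] [DecidableEq ι] {F : Type*} [CommRing F]

/-- A non-zero entry of a product comes from two non-zero entries. -/
theorem btf_mul_apply_ne_zero {x y : Matrix ι ι F} {a b : ι} (h : (x * y) a b ≠ 0) :
    ∃ c, x a c ≠ 0 ∧ y c b ≠ 0 := by
  by_contra hcon
  push Not at hcon
  apply h
  rw [Matrix.mul_apply]
  apply Finset.sum_eq_zero
  intro c _
  by_cases hx : x a c = 0
  · rw [hx, zero_mul]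
  · rw [hcon c hx, mul_zero]

/-- `g - 1` raises the weight by at least one. -/
def btf_U (φ : ι → ℝ) : Set (Matrix ι ι F) := {g | ∀ a b, (g - 1) a b ≠ 0 → φ b + 1 ≤ φ a}

/-- `g - 1` raises the weight strictly. -/
def btf_Upos (φ : ι → ℝ) : Set (Matrix ι ι F) := {g | ∀ a b, (g - 1) a b ≠ 0 → φ b < φ a}

/-- `g` does not lower the weight. -/
def btf_P (φ : ι → ℝ) : Set (Matrix ι ι F) := {g | ∀ a b, g a b ≠ 0 → φ b ≤ φ a}

/-- `g` preserves the weight. -/
def btf_L (φ : ι → ℝ) : Set (Matrix ι ι F) := {g | ∀ a b, g a b ≠ 0 → φ a = φ b}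

theorem btf_U_one (φ : ι → ℝ) : (1 : Matrix ι ι F) ∈ btf_U φ := by
  intro a b h
  simp at h

theorem btf_Upos_one (φ : ι → ℝ) : (1 : Matrix ι ι F) ∈ btf_Upos φ := by
  intro a b h
  simp at h

theorem btf_L_one (φ : ι → ℝ) : (1 : Matrix ι ι F) ∈ btf_L φ := by
  intro a b h
  by_cases hab : a = b
  · rw [hab]
  · rw [Matrix.one_apply_ne hab] at h
    exact absurd rfl h

theorem btf_L_subset_P (φ : ι → ℝ) : (btf_L φ : Set (Matrix ι ι F)) ⊆ btf_P φ := by
  intro g hg a b h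
  exact (hg a b h).ge

theorem btf_P_one (φ : ι → ℝ) : (1 : Matrix ι ι F) ∈ btf_P φ :=
  btf_L_subset_P φ (btf_L_one φ)

theorem btf_U_subset_Upos (φ : ι → ℝ) : (btf_U φ : Set (Matrix ι ι F)) ⊆ btf_Upos φ := by
  intro g hg a b h
  have := hg a b h
  linarith

theorem btf_Upos_subset_P (φ : ι → ℝ) : (btf_Upos φ : Set (Matrix ι ι F)) ⊆ btf_P φ := by
  intro g hg a b h
  by_cases hab : a = b
  · rw [hab]
  · have : (g - 1) a b ≠ 0 := by
      rw [Matrix.sub_apply, Matrix.one_apply_ne hab, sub_zero]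
      exact h
    exact (hg a b this).le

theorem btf_U_subset_P (φ : ι → ℝ) : (btf_U φ : Set (Matrix ι ι F)) ⊆ btf_P φ :=
  fun _ hg => btf_Upos_subset_P φ (btf_U_subset_Upos φ hg)

theorem btf_mul_sub_one (g h : Matrix ι ι F) :
    g * h - 1 = (g - 1) + (h - 1) + (g - 1) * (h - 1) := by
  noncomm_ring

theorem btf_U_mul {φ : ι → ℝ} {g h : Matrix ι ι F} (hg : g ∈ btf_U φ) (hh : h ∈ btf_U φ) :
    g * h ∈ btf_U φ := by
  intro a b hne
  rw [btf_mul_sub_one, Matrix.add_apply, Matrix.add_apply] at hne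
  by_cases h1 : (g - 1) a b = 0
  · by_cases h2 : (h - 1) a b = 0
    · rw [h1, h2, zero_add, zero_add] at hne
      obtain ⟨c, hc1, hc2⟩ := btf_mul_apply_ne_zero hne
      have := hg a c hc1
      have := hh c b hc2
      linarith
    · exact hh a b h2
  · exact hg a b h1

theorem btf_Upos_mul {φ : ι → ℝ} {g h : Matrix ι ι F} (hg : g ∈ btf_Upos φ)
    (hh : h ∈ btf_Upos φ) : g * h ∈ btf_Upos φ := by
  intro a b hne
  rw [btf_mul_sub_one, Matrix.add_apply, Matrix.add_apply] at hne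
  by_cases h1 : (g - 1) a b = 0
  · by_cases h2 : (h - 1) a b = 0
    · rw [h1, h2, zero_add, zero_add] at hne
      obtain ⟨c, hc1, hc2⟩ := btf_mul_apply_ne_zero hne
      have := hg a c hc1
      have := hh c b hc2
      linarith
    · exact hh a b h2
  · exact hg a b h1

theorem btf_P_mul {φ : ι → ℝ} {g h : Matrix ι ι F} (hg : g ∈ btf_P φ) (hh : h ∈ btf_P φ) :
    g * h ∈ btf_P φ := by
  intro a b hne
  obtain ⟨c, hc1, hc2⟩ := btf_mul_apply_ne_zero hne
  exact (hh c b hc2).trans (hg a c hc1)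

theorem btf_L_mul {φ : ι → ℝ} {g h : Matrix ι ι F} (hg : g ∈ btf_L φ) (hh : h ∈ btf_L φ) :
    g * h ∈ btf_L φ := by
  intro a b hne
  obtain ⟨c, hc1, hc2⟩ := btf_mul_apply_ne_zero hne
  exact (hg a c hc1).trans (hh c b hc2)

theorem btf_U_pow {φ : ι → ℝ} {g : Matrix ι ι F} (hg : g ∈ btf_U φ) (n : ℕ) :
    g ^ n ∈ btf_U φ := by
  induction n with
  | zero => rw [pow_zero]; exact btf_U_one φ
  | succ n ih => rw [pow_succ]; exact btf_U_mul ih hg

theorem btf_Upos_pow {φ : ι → ℝ} {g : Matrix ι ι F} (hg : g ∈ btf_Upos φ) (n : ℕ) :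
    g ^ n ∈ btf_Upos φ := by
  induction n with
  | zero => rw [pow_zero]; exact btf_Upos_one φ
  | succ n ih => rw [pow_succ]; exact btf_Upos_mul ih hg

theorem btf_P_pow {φ : ι → ℝ} {g : Matrix ι ι F} (hg : g ∈ btf_P φ) (n : ℕ) :
    g ^ n ∈ btf_P φ := by
  induction n with
  | zero => rw [pow_zero]; exact btf_P_one φ
  | succ n ih => rw [pow_succ]; exact btf_P_mul ih hg

theorem btf_L_pow {φ : ι → ℝ} {g : Matrix ι ι F} (hg : g ∈ btf_L φ) (n : ℕ) :
    g ^ n ∈ btf_L φ := by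
  induction n with
  | zero => rw [pow_zero]; exact btf_L_one φ
  | succ n ih => rw [pow_succ]; exact btf_L_mul ih hg

/-- Conjugation by a weight non-lowering matrix (with weight non-lowering inverse) keeps `btf_U`. -/
theorem btf_U_conj {φ : ι → ℝ} {p p' u : Matrix ι ι F} (hp : p ∈ btf_P φ) (hp' : p' ∈ btf_P φ)
    (hpp : p * p' = 1) (hu : u ∈ btf_U φ) : p * u * p' ∈ btf_U φ := by
  intro a b hne
  have e : p * u * p' - 1 = p * (u - 1) * p' := by
    rw [Matrix.mul_sub, Matrix.sub_mul, Matrix.mul_one, hpp]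
  rw [e] at hne
  obtain ⟨d, hd1, hd2⟩ := btf_mul_apply_ne_zero hne
  obtain ⟨c, hc1, hc2⟩ := btf_mul_apply_ne_zero hd1
  have h1 := hp a c hc1
  have h2 := hu c d hc2
  have h3 := hp' d b hd2
  linarith

/-- Conjugation by a weight non-lowering matrix keeps `btf_Upos`. -/
theorem btf_Upos_conj {φ : ι → ℝ} {p p' u : Matrix ι ι F} (hp : p ∈ btf_P φ)
    (hp' : p' ∈ btf_P φ) (hpp : p * p' = 1) (hu : u ∈ btf_Upos φ) : p * u * p' ∈ btf_Upos φ := by
  intro a b hne
  have e : p * u * p' - 1 = p * (u - 1) * p' := by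
    rw [Matrix.mul_sub, Matrix.sub_mul, Matrix.mul_one, hpp]
  rw [e] at hne
  obtain ⟨d, hd1, hd2⟩ := btf_mul_apply_ne_zero hne
  obtain ⟨c, hc1, hc2⟩ := btf_mul_apply_ne_zero hd1
  have h1 := hp a c hc1
  have h2 := hu c d hc2
  have h3 := hp' d b hd2
  linarith

/-- Transport along a matrix carrying the weight `φ` to the weight `φ'`. -/
theorem btf_U_transport {φ φ' : ι → ℝ} {n n' u : Matrix ι ι F}
    (hn : ∀ a b, n a b ≠ 0 → φ' a = φ b) (hn' : ∀ a b, n' a b ≠ 0 → φ a = φ' b)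
    (hnn : n * n' = 1) (hu : u ∈ btf_U φ) : n * u * n' ∈ btf_U φ' := by
  intro a b hne
  have e : n * u * n' - 1 = n * (u - 1) * n' := by
    rw [Matrix.mul_sub, Matrix.sub_mul, Matrix.mul_one, hnn]
  rw [e] at hne
  obtain ⟨d, hd1, hd2⟩ := btf_mul_apply_ne_zero hne
  obtain ⟨c, hc1, hc2⟩ := btf_mul_apply_ne_zero hd1
  have h1 := hn a c hc1
  have h2 := hu c d hc2
  have h3 := hn' d b hd2
  linarith

/-- The midpoint property: the intersection lemma is entrywise averaging. -/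
theorem btf_U_midpoint {φ φ' : ι → ℝ} {g : Matrix ι ι F} (h1 : g ∈ btf_U φ) (h2 : g ∈ btf_U φ') :
    g ∈ btf_U (fun a => (φ a + φ' a) / 2) := by
  intro a b hne
  have := h1 a b hne
  have := h2 a b hne
  show (φ b + φ' b) / 2 + 1 ≤ (φ a + φ' a) / 2
  linarith

/-- Scaling: `btf_U` of a weight with all differences below one is trivial. -/
theorem btf_U_eq_one_of_lt {φ : ι → ℝ} (hφ : ∀ a b, φ a < φ b + 1) {g : Matrix ι ι F}
    (hg : g ∈ btf_U φ) : g = 1 := by
  rw [← sub_eq_zero]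
  ext a b
  by_contra hne
  have := hg a b hne
  have := hφ a b
  linarith

theorem btf_U_zero {g : Matrix ι ι F} (hg : g ∈ btf_U (fun _ : ι => (0 : ℝ))) : g = 1 :=
  btf_U_eq_one_of_lt (fun _ _ => by norm_num) hg

/-- A weight preserving matrix that raises weights strictly off the identity is the identity. -/
theorem btf_Upos_inter_L {φ : ι → ℝ} {g : Matrix ι ι F} (h1 : g ∈ btf_Upos φ) (h2 : g ∈ btf_L φ) :
    g = 1 := by
  rw [← sub_eq_zero]
  ext a b
  by_contra hne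
  have hlt := h1 a b hne
  by_cases hab : a = b
  · rw [hab] at hlt
    exact lt_irrefl _ hlt
  · have : g a b ≠ 0 := by
      have e : (g - 1) a b = g a b := by
        rw [Matrix.sub_apply, Matrix.one_apply_ne hab, sub_zero]
      rw [← e]
      exact hne
    have := h2 a b this
    linarith

/-- The weights for which a given matrix lies in `btf_U` form a closed set. -/
theorem btf_isClosed_U (g : Matrix ι ι F) : IsClosed {φ : ι → ℝ | g ∈ btf_U φ} := by
  have : {φ : ι → ℝ | g ∈ btf_U φ} =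
      ⋂ a, ⋂ b, {φ : ι → ℝ | (g - 1) a b ≠ 0 → φ b + 1 ≤ φ a} := by
    ext φ
    simp only [btf_U, Set.mem_setOf_eq, Set.mem_iInter]
  rw [this]
  refine isClosed_iInter fun a => isClosed_iInter fun b => ?_
  by_cases h : (g - 1) a b ≠ 0
  · have : {φ : ι → ℝ | (g - 1) a b ≠ 0 → φ b + 1 ≤ φ a} = {φ : ι → ℝ | φ b + 1 ≤ φ a} := by
      ext φ
      simp only [Set.mem_setOf_eq]
      exact ⟨fun hh => hh h, fun hh _ => hh⟩
    rw [this]
    exact isClosed_le ((continuous_apply b).add continuous_const) (continuous_apply a)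
  · have : {φ : ι → ℝ | (g - 1) a b ≠ 0 → φ b + 1 ≤ φ a} = Set.univ := by
      ext φ
      simp only [Set.mem_setOf_eq, Set.mem_univ, iff_true]
      exact fun hh => absurd hh h
    rw [this]
    exact isClosed_univ

/-- The weights for which a given set of matrices lies in `btf_U` form a closed set. -/
theorem btf_isClosed_U_set (S : Set (Matrix ι ι F)) : IsClosed {φ : ι → ℝ | S ⊆ btf_U φ} := by
  have : {φ : ι → ℝ | S ⊆ btf_U φ} = ⋂ g ∈ S, {φ : ι → ℝ | g ∈ btf_U φ} := by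
    ext φ
    simp only [Set.mem_setOf_eq, Set.mem_iInter]
    rfl
  rw [this]
  exact isClosed_biInter fun g _ => btf_isClosed_U g

/-! ### Subgroups of the general linear group over a finite ring -/

section Sub

variable [Finite F]

theorem btf_inv_eq_pow (g : GL ι F) : ∃ n : ℕ, g⁻¹ = g ^ n := by
  have hfin : IsOfFinOrder g := isOfFinOrder_of_finite g
  refine ⟨orderOf g - 1, ?_⟩
  have hpos : 0 < orderOf g := hfin.orderOf_pos
  apply inv_eq_of_mul_eq_one_right
  rw [← pow_succ', Nat.sub_add_cancel hpos, pow_orderOf_eq_one]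

theorem btf_coe_pow (g : GL ι F) (n : ℕ) :
    ((g ^ n : GL ι F) : Matrix ι ι F) = (g : Matrix ι ι F) ^ n := by
  simp

/-- The subgroup of the general linear group of the matrices in `btf_U φ`. -/
def btf_USub (φ : ι → ℝ) : Subgroup (GL ι F) where
  carrier := {g | (g : Matrix ι ι F) ∈ btf_U φ}
  one_mem' := btf_U_one φ
  mul_mem' := fun {g h} hg hh => by
    show ((g * h : GL ι F) : Matrix ι ι F) ∈ btf_U φ
    rw [Units.val_mul]
    exact btf_U_mul hg hh
  inv_mem' := fun {g} hg => by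
    obtain ⟨n, hn⟩ := btf_inv_eq_pow g
    show ((g⁻¹ : GL ι F) : Matrix ι ι F) ∈ btf_U φ
    rw [hn, btf_coe_pow]
    exact btf_U_pow hg n

/-- The subgroup of the general linear group of the matrices in `btf_Upos φ`. -/
def btf_UposSub (φ : ι → ℝ) : Subgroup (GL ι F) where
  carrier := {g | (g : Matrix ι ι F) ∈ btf_Upos φ}
  one_mem' := btf_Upos_one φ
  mul_mem' := fun {g h} hg hh => by
    show ((g * h : GL ι F) : Matrix ι ι F) ∈ btf_Upos φ
    rw [Units.val_mul]
    exact btf_Upos_mul hg hh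
  inv_mem' := fun {g} hg => by
    obtain ⟨n, hn⟩ := btf_inv_eq_pow g
    show ((g⁻¹ : GL ι F) : Matrix ι ι F) ∈ btf_Upos φ
    rw [hn, btf_coe_pow]
    exact btf_Upos_pow hg n

/-- The subgroup of the general linear group of the matrices in `btf_P φ`. -/
def btf_PSub (φ : ι → ℝ) : Subgroup (GL ι F) where
  carrier := {g | (g : Matrix ι ι F) ∈ btf_P φ}
  one_mem' := btf_P_one φ
  mul_mem' := fun {g h} hg hh => by
    show ((g * h : GL ι F) : Matrix ι ι F) ∈ btf_P φ
    rw [Units.val_mul]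
    exact btf_P_mul hg hh
  inv_mem' := fun {g} hg => by
    obtain ⟨n, hn⟩ := btf_inv_eq_pow g
    show ((g⁻¹ : GL ι F) : Matrix ι ι F) ∈ btf_P φ
    rw [hn, btf_coe_pow]
    exact btf_P_pow hg n

/-- The subgroup of the general linear group of the matrices in `btf_L φ`. -/
def btf_LSub (φ : ι → ℝ) : Subgroup (GL ι F) where
  carrier := {g | (g : Matrix ι ι F) ∈ btf_L φ}
  one_mem' := btf_L_one φ
  mul_mem' := fun {g h} hg hh => by
    show ((g * h : GL ι F) : Matrix ι ι F) ∈ btf_L φ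
    rw [Units.val_mul]
    exact btf_L_mul hg hh
  inv_mem' := fun {g} hg => by
    obtain ⟨n, hn⟩ := btf_inv_eq_pow g
    show ((g⁻¹ : GL ι F) : Matrix ι ι F) ∈ btf_L φ
    rw [hn, btf_coe_pow]
    exact btf_L_pow hg n

theorem btf_mem_USub {φ : ι → ℝ} {g : GL ι F} :
    g ∈ (btf_USub φ : Subgroup (GL ι F)) ↔ (g : Matrix ι ι F) ∈ btf_U φ := Iff.rfl

theorem btf_mem_UposSub {φ : ι → ℝ} {g : GL ι F} :
    g ∈ (btf_UposSub φ : Subgroup (GL ι F)) ↔ (g : Matrix ι ι F) ∈ btf_Upos φ := Iff.rfl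

theorem btf_mem_PSub {φ : ι → ℝ} {g : GL ι F} :
    g ∈ (btf_PSub φ : Subgroup (GL ι F)) ↔ (g : Matrix ι ι F) ∈ btf_P φ := Iff.rfl

theorem btf_mem_LSub {φ : ι → ℝ} {g : GL ι F} :
    g ∈ (btf_LSub φ : Subgroup (GL ι F)) ↔ (g : Matrix ι ι F) ∈ btf_L φ := Iff.rfl

theorem btf_USub_le_UposSub (φ : ι → ℝ) :
    (btf_USub φ : Subgroup (GL ι F)) ≤ btf_UposSub φ :=
  fun _ hg => btf_U_subset_Upos φ hg

theorem btf_UposSub_le_PSub (φ : ι → ℝ) :
    (btf_UposSub φ : Subgroup (GL ι F)) ≤ btf_PSub φ :=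
  fun _ hg => btf_Upos_subset_P φ hg

theorem btf_USub_le_PSub (φ : ι → ℝ) :
    (btf_USub φ : Subgroup (GL ι F)) ≤ btf_PSub φ :=
  fun _ hg => btf_U_subset_P φ hg

theorem btf_LSub_le_PSub (φ : ι → ℝ) :
    (btf_LSub φ : Subgroup (GL ι F)) ≤ btf_PSub φ :=
  fun _ hg => btf_L_subset_P φ hg

/-- `btf_PSub φ` normalises `btf_USub φ`. -/
theorem btf_PSub_conj_USub {φ : ι → ℝ} {p u : GL ι F} (hp : p ∈ btf_PSub φ)
    (hu : u ∈ btf_USub φ) : p * u * p⁻¹ ∈ btf_USub φ := by
  have hp' : p⁻¹ ∈ btf_PSub φ := (btf_PSub φ).inv_mem hp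
  show ((p * u * p⁻¹ : GL ι F) : Matrix ι ι F) ∈ btf_U φ
  rw [Units.val_mul, Units.val_mul]
  refine btf_U_conj hp hp' ?_ hu
  rw [← Units.val_mul, mul_inv_cancel, Units.val_one]

theorem btf_PSub_le_normalizer_USub (φ : ι → ℝ) :
    (btf_PSub φ : Subgroup (GL ι F)) ≤
      Subgroup.normalizer ((btf_USub φ : Subgroup (GL ι F)) : Set (GL ι F)) := by
  intro p hp
  rw [Subgroup.mem_normalizer_iff]
  intro u
  constructor
  · intro hu
    exact btf_PSub_conj_USub hp hu
  · intro hu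
    have := btf_PSub_conj_USub ((btf_PSub φ).inv_mem hp) hu
    rw [inv_inv] at this
    have e : p⁻¹ * (p * u * p⁻¹) * p = u := by group
    rw [e] at this
    exact this

/-- `btf_PSub φ` normalises `btf_UposSub φ`. -/
theorem btf_PSub_conj_UposSub {φ : ι → ℝ} {p u : GL ι F} (hp : p ∈ btf_PSub φ)
    (hu : u ∈ btf_UposSub φ) : p * u * p⁻¹ ∈ btf_UposSub φ := by
  have hp' : p⁻¹ ∈ btf_PSub φ := (btf_PSub φ).inv_mem hp
  show ((p * u * p⁻¹ : GL ι F) : Matrix ι ι F) ∈ btf_Upos φ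
  rw [Units.val_mul, Units.val_mul]
  refine btf_Upos_conj hp hp' ?_ hu
  rw [← Units.val_mul, mul_inv_cancel, Units.val_one]

/-- Transport of `btf_USub` along an invertible matrix carrying `φ` to `φ'`. -/
theorem btf_USub_transport {φ φ' : ι → ℝ} {n u : GL ι F}
    (hn : ∀ a b, (n : Matrix ι ι F) a b ≠ 0 → φ' a = φ b)
    (hn' : ∀ a b, ((n⁻¹ : GL ι F) : Matrix ι ι F) a b ≠ 0 → φ a = φ' b)
    (hu : u ∈ btf_USub φ) : n * u * n⁻¹ ∈ btf_USub φ' := by
  show ((n * u * n⁻¹ : GL ι F) : Matrix ι ι F) ∈ btf_U φ'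
  rw [Units.val_mul, Units.val_mul]
  refine btf_U_transport hn hn' ?_ hu
  rw [← Units.val_mul, mul_inv_cancel, Units.val_one]

theorem btf_USub_midpoint {φ φ' : ι → ℝ} {g : GL ι F} (h1 : g ∈ btf_USub φ)
    (h2 : g ∈ btf_USub φ') : g ∈ btf_USub (fun a => (φ a + φ' a) / 2) :=
  btf_U_midpoint h1 h2

theorem btf_USub_zero : (btf_USub (fun _ : ι => (0 : ℝ)) : Subgroup (GL ι F)) = ⊥ := by
  rw [eq_bot_iff]
  intro g hg
  rw [Subgroup.mem_bot]
  apply Units.ext
  rw [Units.val_one]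
  exact btf_U_zero hg

theorem btf_UposSub_inf_LSub (φ : ι → ℝ) :
    (btf_UposSub φ : Subgroup (GL ι F)) ⊓ btf_LSub φ = ⊥ := by
  rw [eq_bot_iff]
  rintro g ⟨h1, h2⟩
  rw [Subgroup.mem_bot]
  apply Units.ext
  rw [Units.val_one]
  exact btf_Upos_inter_L h1 h2

/-- The weights `φ` with a given subgroup inside `btf_USub φ` form a closed set. -/
theorem btf_isClosed_le_USub (V : Subgroup (GL ι F)) :
    IsClosed {φ : ι → ℝ | V ≤ btf_USub φ} := by
  have : {φ : ι → ℝ | V ≤ btf_USub φ} =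
      {φ : ι → ℝ | ((fun g : GL ι F => (g : Matrix ι ι F)) '' (V : Set (GL ι F))) ⊆ btf_U φ} := by
    ext φ
    simp only [Set.mem_setOf_eq, Set.image_subset_iff]
    rfl
  rw [this]
  exact btf_isClosed_U_set _

end Sub

end Cfsg.Agent.Helper1.BTFilt
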