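import Mathlib
import Cfsg.Agent.Helper1.BTFilt
import Cfsg.Agent.Helper7.ChevUni
import Cfsg.Agent.Helper7.ChevConj

set_option autoImplicit false

/-!
Root elements and diagonal elements of a Chevalley group in the matrix filtrations of `BTFilt`:
for a function `ψ` on root indices that is odd under `neg` and additive along chains, the weight
`btf_wt D ψ` on the coordinate index set (zero on the coroot coordinates, `ψ s` on `e_s`) is raised
by `k · ψ r`, `k ≥ 1`, along every non-zero entry of `x_r(t) - 1`.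
-/

namespace Cfsg.Agent.Helper1.BTFilt

open Cfsg Cfsg.Lie Cfsg.Agent.Helper7 Cfsg.Agent.Helper7.Chev Matrix

variable {D : ChevalleyDatum} {F : Type*} [Field F]

/-- The weight on the coordinate index set attached to a function on root indices. -/
def btf_wt (D : ChevalleyDatum) (ψ : ℕ → ℝ) : D.Idx → ℝ :=
  Sum.elim (fun _ => 0) (fun s => ψ s.val)

@[simp] theorem btf_wt_inl (ψ : ℕ → ℝ) (i : Fin D.rank) : btf_wt D ψ (Sum.inl i) = 0 := rfl

@[simp] theorem btf_wt_inr (ψ : ℕ → ℝ) (s : Fin D.nroots) : btf_wt D ψ (Sum.inr s) = ψ s.val := rfl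

/-- `ψ` is odd under `neg`. -/
def btf_Odd (D : ChevalleyDatum) (ψ : ℕ → ℝ) : Prop := ∀ r < D.nroots, ψ (D.neg r) = - ψ r

/-- `ψ` is additive along the chains of the datum. -/
def btf_ChainAdd (D : ChevalleyDatum) (ψ : ℕ → ℝ) : Prop :=
  ∀ r < D.nroots, ∀ s < D.nroots, ∀ q ∈ (D.chainEntry r s).zipIdx,
    ψ q.1.1 = ψ s + ((q.2 + 1 : ℕ) : ℝ) * ψ r

/-- The entry lemma: non-zero entries of `x_r(t) - 1` sit at weight differences `k · ψ r`, `k ≥ 1`. -/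
theorem btf_x_entry (hG : Good1 D) {ψ : ℕ → ℝ} (hodd : btf_Odd D ψ) (hch : btf_ChainAdd D ψ)
    {r : ℕ} (hr : r < D.nroots) (t : F) (a b : D.Idx) (h : (D.x F r t - 1) a b ≠ 0) :
    ∃ k : ℕ, 1 ≤ k ∧ btf_wt D ψ a = btf_wt D ψ b + (k : ℝ) * ψ r := by
  rw [x_of_lt D F hr] at h
  rcases xMat_sub_one_apply_ne_zero D ⟨r, hr⟩ t a b h with
    ⟨i, hb, ha⟩ | ⟨s, _, hs2, hb, ha⟩ | ⟨s, u, hb, ha, hne⟩
  · subst hb ha
    refine ⟨1, le_refl _, ?_⟩
    simp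
  · subst hb
    have hs : ψ s.val = - ψ r := by
      rw [hs2]
      exact hodd r hr
    rcases ha with ⟨i, ha⟩ | ha
    · subst ha
      refine ⟨1, le_refl _, ?_⟩
      simp only [btf_wt_inl, btf_wt_inr, hs]
      push_cast
      ring
    · subst ha
      refine ⟨2, by norm_num, ?_⟩
      simp only [btf_wt_inr, hs]
      push_cast
      ring
  · subst hb ha
    have hk : KeysNodup D r := hG.keys.keysNodup hr
    simp only at hne
    rw [chainCoeff_eq hk] at hne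
    obtain ⟨km, hkm⟩ := List.exists_mem_of_ne_nil _ hne
    simp only [List.mem_map, List.mem_filter, decide_eq_true_eq] at hkm
    obtain ⟨q, ⟨hq, hqu⟩, _⟩ := hkm
    refine ⟨q.2 + 1, Nat.le_add_left 1 q.2, ?_⟩
    have := hch r hr s.val s.2 q hq
    simp only [btf_wt_inr]
    rw [← hqu, this]

theorem btf_x_mem_U (hG : Good1 D) {ψ : ℕ → ℝ} (hodd : btf_Odd D ψ) (hch : btf_ChainAdd D ψ)
    {r : ℕ} (hr : r < D.nroots) (h1 : 1 ≤ ψ r) (t : F) : D.x F r t ∈ btf_U (btf_wt D ψ) := by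
  intro a b h
  obtain ⟨k, hk, e⟩ := btf_x_entry hG hodd hch hr t a b h
  rw [e]
  have hk' : (1 : ℝ) ≤ (k : ℝ) := by exact_mod_cast hk
  nlinarith

theorem btf_x_mem_Upos (hG : Good1 D) {ψ : ℕ → ℝ} (hodd : btf_Odd D ψ) (hch : btf_ChainAdd D ψ)
    {r : ℕ} (hr : r < D.nroots) (h1 : 0 < ψ r) (t : F) : D.x F r t ∈ btf_Upos (btf_wt D ψ) := by
  intro a b h
  obtain ⟨k, hk, e⟩ := btf_x_entry hG hodd hch hr t a b h
  rw [e]
  have hk' : (1 : ℝ) ≤ (k : ℝ) := by exact_mod_cast hk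
  nlinarith

theorem btf_x_mem_P (hG : Good1 D) {ψ : ℕ → ℝ} (hodd : btf_Odd D ψ) (hch : btf_ChainAdd D ψ)
    {r : ℕ} (hr : r < D.nroots) (h1 : 0 ≤ ψ r) (t : F) : D.x F r t ∈ btf_P (btf_wt D ψ) := by
  intro a b h
  by_cases hab : a = b
  · rw [hab]
  · have h' : (D.x F r t - 1) a b ≠ 0 := by
      rw [Matrix.sub_apply, Matrix.one_apply_ne hab, sub_zero]
      exact h
    obtain ⟨k, hk, e⟩ := btf_x_entry hG hodd hch hr t a b h'
    rw [e]
    have hk' : (1 : ℝ) ≤ (k : ℝ) := by exact_mod_cast hk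
    nlinarith

theorem btf_x_mem_L (hG : Good1 D) {ψ : ℕ → ℝ} (hodd : btf_Odd D ψ) (hch : btf_ChainAdd D ψ)
    {r : ℕ} (hr : r < D.nroots) (h1 : ψ r = 0) (t : F) : D.x F r t ∈ btf_L (btf_wt D ψ) := by
  intro a b h
  by_cases hab : a = b
  · rw [hab]
  · have h' : (D.x F r t - 1) a b ≠ 0 := by
      rw [Matrix.sub_apply, Matrix.one_apply_ne hab, sub_zero]
      exact h
    obtain ⟨k, hk, e⟩ := btf_x_entry hG hodd hch hr t a b h'
    rw [e, h1, mul_zero, add_zero]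

/-- A diagonal matrix preserves every weight. -/
theorem btf_diagonal_mem_L {ι : Type*} [DecidableEq ι] (φ : ι → ℝ) (d : ι → F) :
    Matrix.diagonal d ∈ btf_L φ := by
  intro a b h
  by_cases hab : a = b
  · rw [hab]
  · rw [Matrix.diagonal_apply_ne _ hab] at h
    exact absurd rfl h

theorem btf_hMat_mem_L (hG : Good1 D) (φ : D.Idx → ℝ) {r : ℕ} (hr : r < D.nroots) {t : F}
    (ht : t ≠ 0) : D.hMat F r t ∈ btf_L φ := by
  rw [hMat_eq_diagonal hG hr ht]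
  exact btf_diagonal_mem_L φ _

/-! ### The standard subgroups -/

section Sub

variable [Finite F]

theorem btf_diagonalSubgroup_le_LSub (hG : Good1 D) (φ : D.Idx → ℝ) :
    D.diagonalSubgroup F ≤ btf_LSub φ := by
  unfold ChevalleyDatum.diagonalSubgroup
  rw [Subgroup.closure_le]
  rintro g ⟨r, t, hr, ht, hg⟩
  show (g : Matrix D.Idx D.Idx F) ∈ btf_L φ
  rw [hg]
  exact btf_hMat_mem_L hG φ hr ht

theorem btf_rootSubgroup_le_USub (hG : Good1 D) {ψ : ℕ → ℝ} (hodd : btf_Odd D ψ)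
    (hch : btf_ChainAdd D ψ) {r : ℕ} (hr : r < D.nroots) (h1 : 1 ≤ ψ r) :
    D.rootSubgroup F r ≤ btf_USub (btf_wt D ψ) := by
  unfold ChevalleyDatum.rootSubgroup
  rw [Subgroup.closure_le]
  rintro g ⟨t, hg⟩
  show (g : Matrix D.Idx D.Idx F) ∈ btf_U (btf_wt D ψ)
  rw [hg]
  exact btf_x_mem_U hG hodd hch hr h1 t

theorem btf_rootSubgroup_le_UposSub (hG : Good1 D) {ψ : ℕ → ℝ} (hodd : btf_Odd D ψ)
    (hch : btf_ChainAdd D ψ) {r : ℕ} (hr : r < D.nroots) (h1 : 0 < ψ r) :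
    D.rootSubgroup F r ≤ btf_UposSub (btf_wt D ψ) := by
  unfold ChevalleyDatum.rootSubgroup
  rw [Subgroup.closure_le]
  rintro g ⟨t, hg⟩
  show (g : Matrix D.Idx D.Idx F) ∈ btf_Upos (btf_wt D ψ)
  rw [hg]
  exact btf_x_mem_Upos hG hodd hch hr h1 t

theorem btf_rootSubgroup_le_PSub (hG : Good1 D) {ψ : ℕ → ℝ} (hodd : btf_Odd D ψ)
    (hch : btf_ChainAdd D ψ) {r : ℕ} (hr : r < D.nroots) (h1 : 0 ≤ ψ r) :
    D.rootSubgroup F r ≤ btf_PSub (btf_wt D ψ) := by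
  unfold ChevalleyDatum.rootSubgroup
  rw [Subgroup.closure_le]
  rintro g ⟨t, hg⟩
  show (g : Matrix D.Idx D.Idx F) ∈ btf_P (btf_wt D ψ)
  rw [hg]
  exact btf_x_mem_P hG hodd hch hr h1 t

theorem btf_rootSubgroup_le_LSub (hG : Good1 D) {ψ : ℕ → ℝ} (hodd : btf_Odd D ψ)
    (hch : btf_ChainAdd D ψ) {r : ℕ} (hr : r < D.nroots) (h1 : ψ r = 0) :
    D.rootSubgroup F r ≤ btf_LSub (btf_wt D ψ) := by
  unfold ChevalleyDatum.rootSubgroup
  rw [Subgroup.closure_le]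
  rintro g ⟨t, hg⟩
  show (g : Matrix D.Idx D.Idx F) ∈ btf_L (btf_wt D ψ)
  rw [hg]
  exact btf_x_mem_L hG hodd hch hr h1 t

/-- `U ≤ Û(ψ)` when `ψ ≥ 1` on the positive roots. -/
theorem btf_posUnipotent_le_USub (hG : Good1 D) {ψ : ℕ → ℝ} (hodd : btf_Odd D ψ)
    (hch : btf_ChainAdd D ψ) (hpos : ∀ r, D.IsPosRoot r → 1 ≤ ψ r) :
    D.posUnipotent F ≤ btf_USub (btf_wt D ψ) := by
  unfold ChevalleyDatum.posUnipotent
  rw [Subgroup.closure_le]
  rintro g ⟨r, t, hr, hg⟩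
  show (g : Matrix D.Idx D.Idx F) ∈ btf_U (btf_wt D ψ)
  rw [hg]
  exact btf_x_mem_U hG hodd hch hr.1 (hpos r hr) t

/-- `B ≤ P̂(ψ)` when `ψ ≥ 0` on the positive roots. -/
theorem btf_borelSubgroup_le_PSub (hG : Good1 D) {ψ : ℕ → ℝ} (hodd : btf_Odd D ψ)
    (hch : btf_ChainAdd D ψ) (hpos : ∀ r, D.IsPosRoot r → 0 ≤ ψ r) :
    D.borelSubgroup F ≤ btf_PSub (btf_wt D ψ) := by
  unfold ChevalleyDatum.borelSubgroup
  rw [sup_le_iff]
  constructor
  · unfold ChevalleyDatum.posUnipotent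
    rw [Subgroup.closure_le]
    rintro g ⟨r, t, hr, hg⟩
    show (g : Matrix D.Idx D.Idx F) ∈ btf_P (btf_wt D ψ)
    rw [hg]
    exact btf_x_mem_P hG hodd hch hr.1 (hpos r hr) t
  · exact (btf_diagonalSubgroup_le_LSub hG _).trans (btf_LSub_le_PSub _)

/-- `U_J ≤ Û_{>0}(ψ)` when `ψ > 0` on the positive roots outside `Φ_J`. -/
theorem btf_unipotentRadical_le_UposSub (hG : Good1 D) {ψ : ℕ → ℝ} (hodd : btf_Odd D ψ)
    (hch : btf_ChainAdd D ψ) (J : Set ℕ)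
    (hpos : ∀ r, D.IsPosRoot r → ¬ D.InRootSub J r → 0 < ψ r) :
    D.unipotentRadical F J ≤ btf_UposSub (btf_wt D ψ) := by
  unfold ChevalleyDatum.unipotentRadical
  rw [Subgroup.closure_le]
  rintro g ⟨r, t, hr, hrJ, hg⟩
  show (g : Matrix D.Idx D.Idx F) ∈ btf_Upos (btf_wt D ψ)
  rw [hg]
  exact btf_x_mem_Upos hG hodd hch hr.1 (hpos r hr hrJ) t

/-- `L_J ≤ L̂(ψ)` when `ψ = 0` on `Φ_J`. -/
theorem btf_leviSubgroup_le_LSub (hG : Good1 D) {ψ : ℕ → ℝ} (hodd : btf_Odd D ψ)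
    (hch : btf_ChainAdd D ψ) (J : Set ℕ) (hzero : ∀ r, D.InRootSub J r → ψ r = 0) :
    D.leviSubgroup F J ≤ btf_LSub (btf_wt D ψ) := by
  unfold ChevalleyDatum.leviSubgroup
  rw [sup_le_iff]
  constructor
  · exact btf_diagonalSubgroup_le_LSub hG _
  · rw [Subgroup.closure_le]
    rintro g ⟨r, t, hr, hg⟩
    show (g : Matrix D.Idx D.Idx F) ∈ btf_L (btf_wt D ψ)
    rw [hg]
    exact btf_x_mem_L hG hodd hch hr.1 (hzero r hr) t

end Sub

end Cfsg.Agent.Helper1.BTFilt
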