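import Mathlib
import Cfsg.Agent.Helper7.ChevSylow
import Cfsg.Agent.Helper7.ChevT16
import Cfsg.Agent.Helper7.ChevLevi2

set_option autoImplicit false

/-!
Starting point of the optimal weight argument for the Borel–Tits theorem:
* a strictly dominant weight: a real combination `lam` of the Cartan pairings whose value on every
  positive root is at least `1`;
* every `p`-subgroup of the Chevalley group is conjugate into `U` inside the group.
-/

namespace Cfsg.Agent.Helper1.BTFilt

open Cfsg Cfsg.Lie Cfsg.Agent.Helper7 Cfsg.Agent.Helper7.Chev Matrix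

/-- A strictly dominant weight with integer coefficients: the value on each positive root of
`r ↦ ∑ i, lam i * cartan i r` is at least one. -/
theorem btf_exists_rho_int (D : ChevalleyDatum)
    (hD : D ∈ [chevG2, chevB2, chevD4, chevF4, chevE6, chevE7, chevE8]) :
    ∃ lam : ℕ → ℤ, ∀ r, D.IsPosRoot r →
      1 ≤ ∑ i ∈ Finset.range D.rank, lam i * D.cartan i r := by
  obtain ⟨W, h16⟩ := T16_of_mem D hD
  have hG3 := good3_of_mem D hD
  have hG : Good2 D := hG3.toGood2
  have hT := T0_of_mem D hD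
  refine ⟨fun i => ∑ k ∈ Finset.range D.rank, (W.getD k []).getD i 0, ?_⟩
  intro r hpr
  have hr : r < D.nroots := hpr.1
  have hpos : D.nroots / 2 ≤ r := ((hT r hr).2.1 hpr).1
  have key : ∑ i ∈ Finset.range D.rank,
      (∑ k ∈ Finset.range D.rank, (W.getD k []).getD i 0) * D.cartan i r = fJ D W ∅ r := by
    unfold fJ
    simp only [Set.mem_empty_iff_false, if_false]
    have : ∀ k, (tabOf D).wt W k r =
        ∑ i ∈ Finset.range D.rank, (W.getD k []).getD i 0 * D.cartan i r := by
      intro k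
      unfold Tab.wt
      rw [list_range_sum_eq]
      rfl
    simp only [this]
    rw [Finset.sum_comm]
    apply Finset.sum_congr rfl
    intro i _
    rw [Finset.sum_mul]
  rw [key]
  have h0 : 0 ≤ fJ D W ∅ r := fJ_nonneg h16 ∅ hr hpos
  have hne : fJ D W ∅ r ≠ 0 := by
    intro h
    have hin : D.InRootSub ∅ r := (fJ_eq_zero_iff h16 ∅ hr hpos).mp h
    have h2 := hG.toGood1.pairing_self hr
    rw [pairing_eq_sum] at h2
    have : ∑ i : Fin D.rank, cr D r i.val * D.cartan i.val r = 0 := by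
      apply Finset.sum_eq_zero
      intro i _
      have : cr D r i.val = 0 := hin.2 i.val i.2 (Set.notMem_empty _)
      rw [this, zero_mul]
    rw [this] at h2
    exact absurd h2 (by norm_num)
  omega

/-- A strictly dominant weight with real coefficients. -/
theorem btf_exists_rho (D : ChevalleyDatum)
    (hD : D ∈ [chevG2, chevB2, chevD4, chevF4, chevE6, chevE7, chevE8]) :
    ∃ lam : ℕ → ℝ, ∀ r, D.IsPosRoot r →
      1 ≤ ∑ i ∈ Finset.range D.rank, lam i * (D.cartan i r : ℝ) := by
  obtain ⟨lam, h⟩ := btf_exists_rho_int D hD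
  refine ⟨fun i => (lam i : ℝ), fun r hr => ?_⟩
  have := h r hr
  have e : ∑ i ∈ Finset.range D.rank, ((lam i : ℤ) : ℝ) * (D.cartan i r : ℝ) =
      ((∑ i ∈ Finset.range D.rank, lam i * D.cartan i r : ℤ) : ℝ) := by
    push_cast
    rfl
  rw [e]
  exact_mod_cast this

/-- Every `p`-subgroup of the Chevalley group in characteristic `p` is conjugate, inside the group,
to a subgroup of `U`. -/
theorem btf_exists_conj_le_posUnipotent {F : Type*} [Field F] [Fintype F] (p : ℕ) [Fact p.Prime]
    [CharP F p] (D : ChevalleyDatum)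
    (hD : D ∈ [chevG2, chevB2, chevD4, chevF4, chevE6, chevE7, chevE8])
    (V : Subgroup (GL D.Idx F)) (hVG : V ≤ D.group F) (hV : IsPGroup p ↥V) :
    ∃ g ∈ D.group F, ∀ v ∈ V, g⁻¹ * v * g ∈ D.posUnipotent F := by
  obtain ⟨P, hP⟩ := chev_S2326 (F := F) p D hD
  have hV' : IsPGroup p ↥(V.subgroupOf (D.group F)) := by
    have e : ↥(V.subgroupOf (D.group F)) ≃* ↥V := Subgroup.subgroupOfEquivOfLe hVG
    exact hV.of_equiv e.symm
  obtain ⟨Q, hQ⟩ := hV'.exists_le_sylow
  obtain ⟨g, hg⟩ := MulAction.exists_smul_eq (↥(D.group F)) Q P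
  refine ⟨(g⁻¹ : ↥(D.group F)), (g⁻¹ : ↥(D.group F)).2, ?_⟩
  intro v hv
  have hvG : v ∈ D.group F := hVG hv
  have h1 : (⟨v, hvG⟩ : ↥(D.group F)) ∈ (Q : Subgroup ↥(D.group F)) := hQ (by
    rw [Subgroup.mem_subgroupOf]
    exact hv)
  have h2 : g * ⟨v, hvG⟩ * g⁻¹ ∈ (P : Subgroup ↥(D.group F)) := by
    rw [← hg]
    rw [Sylow.coe_subgroup_smul]
    have := Subgroup.smul_mem_pointwise_smul _ (MulAut.conj g) _ h1
    simpa [MulAut.smul_def] using this
  rw [hP, Subgroup.mem_subgroupOf] at h2
  simpa using h2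

end Cfsg.Agent.Helper1.BTFilt
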