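import Mathlib
import Cfsg.Agent.Helper1.BTEntry
import Cfsg.Agent.Helper1.BTStart
import Cfsg.Agent.Helper1.BTDom
import Cfsg.Agent.Helper5.BTGlue
import Cfsg.Agent.Helper2.BTIdent
import Cfsg.Agent.Helper4.BTBruhat

set_option autoImplicit false

/-!
The last step of the Borel–Tits theorem for the seven tabulated Chevalley data: from the optimal
weight theorem (`h5bt_main_weyl`) and the identification of the matrix filtration subgroups with the
standard parabolic subgroups and their unipotent radicals (`bt2_ident`) to the statement, with the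
Weyl group transport facts as hypotheses.
-/

namespace Cfsg.Agent.Helper1.BTFilt

open Cfsg Cfsg.Lie Cfsg.Agent.Helper7 Cfsg.Agent.Helper7.Chev Cfsg.Agent.Helper8.BTW
  Cfsg.Agent.Helper5.BTGlue Cfsg.Agent.Helper2.BTIdent Cfsg.Agent.Helper4.BTBruhat

open scoped MatrixGroups

/-- If `n_i` does not lower the weight of an odd function `ψ`, then `ψ (p_i) ≤ 0`. -/
theorem btf_simple_nonpos_of_n_mem_P {F : Type*} [Field F] {D : ChevalleyDatum} (hG : Good2 D)
    {ψ : ℕ → ℝ} (hodd : btf_Odd D ψ) {i : ℕ} (hi : i < D.rank)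
    (h : D.nMat F (D.simple i) 1 ∈ btf_P (btf_wt D ψ)) : ψ (D.simple i) ≤ 0 := by
  have hG1 := hG.toGood1
  have hp : D.simple i < D.nroots := hG1.simple_lt hi
  have hnp : D.neg (D.simple i) < D.nroots := hG1.neg_lt hp
  obtain ⟨η, _, hη1, _, _, hmat⟩ := n_simple_matrix (F := F) hG hi
  have hrefl : D.reflectRoot i (D.simple i) = D.neg (D.simple i) := by
    simp [ChevalleyDatum.reflectRoot]
  have hentry : D.nMat F (D.simple i) 1 (Sum.inr ⟨D.neg (D.simple i), hnp⟩)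
      (Sum.inr ⟨D.simple i, hp⟩) ≠ 0 := by
    rw [hmat]
    simp only [Matrix.of_apply, Sum.elim_inr]
    rw [if_pos hrefl.symm, hη1]
    simp
  have := h _ _ hentry
  simp only [btf_wt_inr] at this
  rw [hodd _ hp] at this
  linarith

/-- The Borel–Tits theorem for the seven tabulated Chevalley data, from the Weyl group transport
facts. -/
theorem btf_S2154_of {F : Type*} [Field F] [Fintype F] (p : ℕ) [Fact p.Prime] [CharP F p]
    (D : ChevalleyDatum)
    (hD : D ∈ [chevG2, chevB2, chevD4, chevF4, chevE6, chevE7, chevE8])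
    (hNT : ∀ n ∈ D.monomialSubgroup F, ∃ w : List ℕ, (∀ i ∈ w, i < D.rank) ∧
      h5bt_WordTransport D n w)
    (hWord : ∀ w : List ℕ, (∀ i ∈ w, i < D.rank) → ∃ n ∈ D.monomialSubgroup F,
      h5bt_WordTransport D n w)
    (hDomW : ∀ lam : ℕ → ℝ, ∃ w : List ℕ, (∀ i ∈ w, i < D.rank) ∧
      ∀ i < D.rank, 0 ≤ btw_phi D (btw_wact D w lam) (D.simple i))
    (U : Subgroup (GL D.Idx F)) (hUG : U ≤ D.group F) (hU : IsPGroup p ↥U) (hne : U ≠ ⊥) :
    ∃ g ∈ D.group F, ∃ J : Set ℕ, (∃ i, i < D.rank ∧ i ∉ J) ∧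
      Subgroup.normalizer (U : Set (GL D.Idx F)) ⊓ D.group F ≤
        (D.parabolicSubgroup F J).map (MulAut.conj g).toMonoidHom ∧
      U ≤ (D.unipotentRadical F J).map (MulAut.conj g).toMonoidHom := by
  have hG3 := good3_of_mem D hD
  have hG : Good2 D := hG3.toGood2
  have hG1 : Good1 D := hG.toGood1
  have hT := T0_of_mem D hD
  have hodd : ∀ lam : ℕ → ℝ, btf_Odd D (btw_phi D lam) := fun lam r hr => btw_phi_neg hG lam hr
  have hch : ∀ lam : ℕ → ℝ, btf_ChainAdd D (btw_phi D lam) :=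
    fun lam r hr s hs q hq => btw_phi_chain hG lam hr hs hq
  have hBP : ∀ lam : ℕ → ℝ, (∀ i < D.rank, 0 ≤ btw_phi D lam (D.simple i)) →
      D.borelSubgroup F ≤ btf_PSub (btw_wtI D (btw_phi D lam)) :=
    fun lam hdom => btf_borelSubgroup_le_PSub hG1 (hodd lam) (hch lam)
      (fun r hr => btf_dom_nonneg hD hdom hr)
  have h7 : ∃ g ∈ D.group F, ∃ lam : ℕ → ℝ, (∀ i < D.rank, 0 ≤ btw_phi D lam (D.simple i)) ∧
      ∀ v ∈ U, g⁻¹ * v * g ∈ btf_USub (btw_wtI D (btw_phi D lam)) := by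
    obtain ⟨lam, hlam⟩ := btf_exists_rho D hD
    obtain ⟨g, hg, hgU⟩ := btf_exists_conj_le_posUnipotent p D hD U hUG hU
    have hlam' : ∀ r, D.IsPosRoot r → 1 ≤ btw_phi D lam r := fun r hr => hlam r hr
    refine ⟨g, hg, lam, ?_, ?_⟩
    · intro i hi
      have hp : D.simple i < D.nroots := hG1.simple_lt hi
      have hpos : D.IsPosRoot (D.simple i) := (isPosRoot_iff hT hp).mpr (simple_pos hG1 hT hi)
      have := hlam' _ hpos
      linarith
    · intro v hv
      exact btf_posUnipotent_le_USub hG1 (hodd lam) (hch lam) hlam' (hgU v hv)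
  obtain ⟨g, hg, lam, hdom, hnz, hVU, hNP⟩ :=
    h5bt_main_weyl hG (bt4_hBG D hD) (bt4_hNG D hD) hBP (bt4_hBruhat D hD) hNT hWord hDomW U hne h7
  have hJ : ∀ j, j ∈ btf_zeroSet D lam ↔ j < D.rank ∧ btw_phi D lam (D.simple j) = 0 :=
    fun j => Iff.rfl
  have hB : ∀ (r : ℕ) (t : F) (g : GL D.Idx F), D.IsPosRoot r →
      (g : Matrix D.Idx D.Idx F) = D.x F r t → g ∈ btf_PSub (bt2_wt D (btw_phi D lam)) := by
    intro r t g hr hgx
    show (g : Matrix D.Idx D.Idx F) ∈ btf_P (btf_wt D (btw_phi D lam))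
    rw [hgx]
    exact btf_x_mem_P hG1 (hodd lam) (hch lam) hr.1 (btf_dom_nonneg hD hdom hr) t
  have hUJ : ∀ (r : ℕ) (t : F) (g : GL D.Idx F), D.IsPosRoot r →
      ¬ D.InRootSub (btf_zeroSet D lam) r →
      (g : Matrix D.Idx D.Idx F) = D.x F r t → g ∈ btf_UposSub (bt2_wt D (btw_phi D lam)) := by
    intro r t g hr hrJ hgx
    show (g : Matrix D.Idx D.Idx F) ∈ btf_Upos (btf_wt D (btw_phi D lam))
    rw [hgx]
    exact btf_x_mem_Upos hG1 (hodd lam) (hch lam) hr.1 (btf_dom_pos hD hdom hr hrJ) t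
  have hLJ : ∀ (r : ℕ) (t : F) (g : GL D.Idx F), D.InRootSub (btf_zeroSet D lam) r →
      (g : Matrix D.Idx D.Idx F) = D.x F r t → g ∈ btf_LSub (bt2_wt D (btw_phi D lam)) := by
    intro r t g hr hgx
    show (g : Matrix D.Idx D.Idx F) ∈ btf_L (btf_wt D (btw_phi D lam))
    rw [hgx]
    exact btf_x_mem_L hG1 (hodd lam) (hch lam) hr.1 ((btf_dom_eq_zero_iff hD hdom hr.1).mpr hr) t
  have hH : D.diagonalSubgroup F ≤ btf_LSub (bt2_wt D (btw_phi D lam)) :=
    btf_diagonalSubgroup_le_LSub hG1 _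
  have hn : ∀ i < D.rank, ∀ g : GL D.Idx F,
      (g : Matrix D.Idx D.Idx F) = D.nMat F (D.simple i) 1 →
      g ∈ btf_PSub (bt2_wt D (btw_phi D lam)) → btw_phi D lam (D.simple i) = 0 := by
    intro i hi g hgn hgP
    have h1 : D.nMat F (D.simple i) 1 ∈ btf_P (btf_wt D (btw_phi D lam)) := by
      rw [← hgn]
      exact hgP
    have h2 := btf_simple_nonpos_of_n_mem_P hG (hodd lam) hi h1
    exact le_antisymm h2 (hdom i hi)
  obtain ⟨hidP, hidU⟩ :=
    bt2_ident D hD (btw_phi D lam) (btf_zeroSet D lam) hJ hB hUJ hLJ hH hn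
  refine ⟨g, hg, btf_zeroSet D lam, btf_zeroSet_proper hD lam hnz, ?_, ?_⟩
  · intro x hx
    have h1 : g⁻¹ * x * g ∈ btf_PSub (bt2_wt D (btw_phi D lam)) ⊓ D.group F :=
      ⟨hNP x hx, (D.group F).mul_mem ((D.group F).mul_mem ((D.group F).inv_mem hg) hx.2) hg⟩
    have h2 := hidP h1
    rw [Subgroup.mem_map]
    refine ⟨g⁻¹ * x * g, h2, ?_⟩
    simp only [MulEquiv.coe_toMonoidHom, MulAut.conj_apply]
    group
  · intro v hv
    have h1 : g⁻¹ * v * g ∈ btf_USub (bt2_wt D (btw_phi D lam)) ⊓ D.group F :=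
      ⟨hVU v hv, (D.group F).mul_mem ((D.group F).mul_mem ((D.group F).inv_mem hg) (hUG hv)) hg⟩
    have h2 := hidU h1
    rw [Subgroup.mem_map]
    refine ⟨g⁻¹ * v * g, h2, ?_⟩
    simp only [MulEquiv.coe_toMonoidHom, MulAut.conj_apply]
    group

end Cfsg.Agent.Helper1.BTFilt
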