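import Mathlib
import Cfsg.Agent.Helper1.Fitting
import Cfsg.Agent.Helper1.NilpCoprime
import Cfsg.Agent.Helper2.BaerSuzuki
import Cfsg.Agent.Helper5.SubnormalClosure

set_option autoImplicit false

/-!
If `⟨A, A^g⟩` is nilpotent for all `g` then `A` is subnormal and lies in the Fitting subgroup.
-/

namespace Cfsg.Agent.Helper1

open scoped Pointwise

universe u

variable {G : Type u} [Group G]

theorem le_fittingSubgroup_of_forall_nilpotent [Finite G] (A : Subgroup G)
    (h : ∀ g : G, Group.IsNilpotent (A ⊔ MulAut.conj g • A : Subgroup G)) :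
    A ≤ Cfsg.fittingSubgroup G := by
  intro c hc
  apply mem_of_forall_primePow_mem (Cfsg.fittingSubgroup G) c
  intro y hy hpp
  have hyA : y ∈ A := (Subgroup.zpowers_le.2 hc) hy
  rw [isPrimePow_nat_iff] at hpp
  obtain ⟨p, k, hp, hk, hpk⟩ := hpp
  have hpF := Fact.mk hp
  set X := Subgroup.zpowers y with hX
  have hXp : IsPGroup p X := by
    apply IsPGroup.of_card (n := k)
    rw [Nat.card_zpowers, hpk]
  have hall : ∀ g : G, IsPGroup p ↥(X ⊔ Cfsg.Agent.Helper2.cj g X) := by
    intro g
    set L := A ⊔ MulAut.conj g • A with hL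
    have hLnil : Group.IsNilpotent L := h g
    obtain ⟨P⟩ : Nonempty (Sylow p L) := inferInstance
    have hyL : y ∈ L := (le_sup_left : A ≤ L) hyA
    have hgyL : g * y * g⁻¹ ∈ L := by
      apply (le_sup_right : MulAut.conj g • A ≤ L)
      rw [mem_conj_smul]
      have : g⁻¹ * (g * y * g⁻¹) * g = y := by group
      rw [this]; exact hyA
    have h1 : (⟨y, hyL⟩ : L) ∈ P := by
      apply mem_sylow_of_isNilpotent P _ k
      rw [Subgroup.orderOf_mk]; exact hpk.symm
    have h2 : (⟨g * y * g⁻¹, hgyL⟩ : L) ∈ P := by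
      apply mem_sylow_of_isNilpotent P _ k
      rw [Subgroup.orderOf_mk]
      have := (MulAut.conj g).orderOf_eq y
      rw [MulAut.conj_apply] at this
      rw [this]; exact hpk.symm
    have hPp : IsPGroup p ((P : Subgroup L).map L.subtype) := P.2.map _
    apply hPp.to_le
    apply sup_le
    · rw [hX, Subgroup.zpowers_le]
      exact Subgroup.mem_map.2 ⟨_, h1, rfl⟩
    · intro x hx
      rw [Cfsg.Agent.Helper2.mem_cj_iff] at hx
      obtain ⟨n, hn⟩ := Subgroup.mem_zpowers_iff.1 hx
      have hxe : x = (g * y * g⁻¹) ^ n := by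
        rw [conj_zpow, hn]; group
      rw [hxe]
      exact Subgroup.zpow_mem _ (Subgroup.mem_map.2 ⟨_, h2, rfl⟩) n
  obtain ⟨N, hNn, hNp, hXN⟩ := Cfsg.Agent.Helper2.baer_suzuki X hXp hall
  exact le_fittingSubgroup hNn hNp.isNilpotent (hXN (Subgroup.mem_zpowers y))

theorem isSubnormal_of_forall_nilpotent [Finite G] (A : Subgroup G)
    (h : ∀ g : G, Group.IsNilpotent (A ⊔ MulAut.conj g • A : Subgroup G)) :
    A.IsSubnormal ∧ A ≤ Cfsg.fittingSubgroup G := by
  have hle := le_fittingSubgroup_of_forall_nilpotent A h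
  refine ⟨?_, hle⟩
  have hFnil : Group.IsNilpotent (Cfsg.fittingSubgroup G) := fittingSubgroup_isNilpotent
  have hFn : (Cfsg.fittingSubgroup G).Normal := inferInstance
  exact Subgroup.IsSubnormal.trans hle
    (Cfsg.Agent.Helper5.isSubnormal_of_isNilpotent _) hFn.isSubnormal

end Cfsg.Agent.Helper1
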