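import Mathlib
import Cfsg.Prelude.Def_GeometricClasses
import Cfsg.Agent.Helper7.DcpA
import Cfsg.Agent.Helper7.SLMaxA

set_option autoImplicit false

/-!
# Block transvection calculus (piece STD-m2 of S5634), part A: generalities

`Tin M v φ`: the transvection `tau v φ` lies in `M`.  Blocks of `κ × μ` are the fibres of `Prod.fst`.
-/

namespace Cfsg.Agent.Helper1.BlkTr

open Matrix Cfsg Cfsg.Agent.Helper7.TGL Cfsg.Agent.Helper7.SLMax Cfsg.Agent.Helper7.Dcp

section general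

variable {ι : Type} [Fintype ι] [DecidableEq ι] {F : Type*} [Field F]

/-- The transvection `tau v φ` lies in `M`. -/
def Tin (M : Subgroup (GL ι F)) (v φ : ι → F) : Prop := ∃ h : φ ⬝ᵥ v = 0, tau v φ h ∈ M

theorem Tin.congr {M : Subgroup (GL ι F)} {v v' φ φ' : ι → F} (h : Tin M v φ) (hv : v = v')
    (hφ : φ = φ') : Tin M v' φ' := by
  subst hv hφ; exact h

theorem Tin.mono {M M' : Subgroup (GL ι F)} (hM : M ≤ M') {v φ : ι → F} (h : Tin M v φ) :
    Tin M' v φ := by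
  obtain ⟨h0, hm⟩ := h
  exact ⟨h0, hM hm⟩

theorem Tin.dot {M : Subgroup (GL ι F)} {v φ : ι → F} (h : Tin M v φ) : φ ⬝ᵥ v = 0 := h.1

theorem Tin.comm {M : Subgroup (GL ι F)} {a φ b ψ : ι → F} (h1 : Tin M a φ) (h2 : Tin M b ψ)
    (hψa : ψ ⬝ᵥ a = 0) : Tin M a ((φ ⬝ᵥ b) • ψ) := by
  obtain ⟨h, hm⟩ := h1
  obtain ⟨h', hm'⟩ := h2
  refine ⟨by rw [smul_dotProduct, hψa, smul_zero], ?_⟩
  rw [← tau_comm a φ b ψ h h' hψa]
  exact M.mul_mem (M.mul_mem (M.mul_mem hm hm') (M.inv_mem hm)) (M.inv_mem hm')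

theorem Tin.conj {M : Subgroup (GL ι F)} {g : GL ι F} (hg : g ∈ M) {a φ : ι → F}
    (h1 : Tin M a φ) :
    Tin M ((g : Matrix ι ι F) *ᵥ a) (φ ᵥ* ((g⁻¹ : GL ι F) : Matrix ι ι F)) := by
  obtain ⟨h, hm⟩ := h1
  refine ⟨by rw [← dotProduct_mulVec, gl_inv_mulVec, h], ?_⟩
  rw [← tau_conj' g a φ h]
  exact M.mul_mem (M.mul_mem hg hm) (M.inv_mem hg)

/-- Additivity of transvections in the centre. -/
theorem tau_add_left (a a' φ : ι → F) (h : φ ⬝ᵥ a = 0) (h' : φ ⬝ᵥ a' = 0) :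
    tau a φ h * tau a' φ h' = tau (a + a') φ (by rw [dotProduct_add, h, h', add_zero]) := by
  apply gl_ext
  intro x
  rw [gl_mul_mulVec, tau_mulVec, tau_mulVec, tau_mulVec, dotProduct_add, dotProduct_smul, h',
    smul_zero, add_zero, smul_add]
  abel

theorem Tin.add_left {M : Subgroup (GL ι F)} {a a' φ : ι → F} (h1 : Tin M a φ) (h2 : Tin M a' φ) :
    Tin M (a + a') φ := by
  obtain ⟨h, hm⟩ := h1
  obtain ⟨h', hm'⟩ := h2
  refine ⟨by rw [dotProduct_add, h, h', add_zero], ?_⟩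
  rw [← tau_add_left a a' φ h h']
  exact M.mul_mem hm hm'

theorem Tin.add_right {M : Subgroup (GL ι F)} {a φ φ' : ι → F} (h1 : Tin M a φ) (h2 : Tin M a φ') :
    Tin M a (φ + φ') := by
  obtain ⟨h, hm⟩ := h1
  obtain ⟨h', hm'⟩ := h2
  refine ⟨by rw [add_dotProduct, h, h', add_zero], ?_⟩
  rw [← tau_mul_tau a φ φ' h h']
  exact M.mul_mem hm hm'

theorem Tin.neg_right {M : Subgroup (GL ι F)} {a φ : ι → F} (h1 : Tin M a φ) : Tin M a (-φ) := by
  obtain ⟨h, hm⟩ := h1
  refine ⟨by rw [neg_dotProduct, h, neg_zero], ?_⟩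
  rw [← tau_inv a φ h]
  exact M.inv_mem hm

theorem tau_eq_of_vecMulVec_eq {a a' φ φ' : ι → F} (h : φ ⬝ᵥ a = 0) (h' : φ' ⬝ᵥ a' = 0)
    (he : vecMulVec a φ = vecMulVec a' φ') : tau a φ h = tau a' φ' h' := by
  apply Units.ext
  change 1 + vecMulVec a φ = 1 + vecMulVec a' φ'
  rw [he]

/-- Moving a scalar from the centre to the covector. -/
theorem Tin.smul_move {M : Subgroup (GL ι F)} {a φ : ι → F} {c : F} (h1 : Tin M (c • a) φ) :
    Tin M a (c • φ) := by
  obtain ⟨h, hm⟩ := h1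
  have h0 : (c • φ) ⬝ᵥ a = 0 := by
    rw [smul_dotProduct, ← dotProduct_smul]; exact h
  refine ⟨h0, ?_⟩
  rw [tau_eq_of_vecMulVec_eq h0 h (by rw [smul_vecMulVec, vecMulVec_smul])]
  exact hm

theorem Tin.smul_move' {M : Subgroup (GL ι F)} {a φ : ι → F} {c : F} (h1 : Tin M a (c • φ)) :
    Tin M (c • a) φ := by
  obtain ⟨h, hm⟩ := h1
  have h0 : φ ⬝ᵥ (c • a) = 0 := by
    rw [dotProduct_smul, ← smul_dotProduct]; exact h
  refine ⟨h0, ?_⟩
  rw [tau_eq_of_vecMulVec_eq h0 h (by rw [smul_vecMulVec, vecMulVec_smul])]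
  exact hm

theorem Tin.neg_left {M : Subgroup (GL ι F)} {a φ : ι → F} (h1 : Tin M a φ) : Tin M (-a) φ := by
  have h2 : Tin M a ((-1 : F) • φ) := h1.neg_right.congr rfl (by rw [neg_one_smul])
  exact h2.smul_move'.congr (by rw [neg_one_smul]) rfl

theorem Tin.sub_left {M : Subgroup (GL ι F)} {a a' φ : ι → F} (h1 : Tin M a φ) (h2 : Tin M a' φ) :
    Tin M (a - a') φ := by
  rw [sub_eq_add_neg]
  exact h1.add_left h2.neg_left

theorem tau_ne_zero_left {g : GL ι F} {v : ι → F} (hv : v ≠ 0) :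
    (g : Matrix ι ι F) *ᵥ v ≠ 0 := by
  intro h
  apply hv
  have := gl_inv_mulVec g v
  rw [h, mulVec_zero] at this
  exact this.symm

theorem vecMul_gl_ne_zero {g : GL ι F} {φ : ι → F} (hφ : φ ≠ 0) :
    φ ᵥ* (g : Matrix ι ι F) ≠ 0 := by
  intro h
  apply hφ
  have : (φ ᵥ* (g : Matrix ι ι F)) ᵥ* ((g⁻¹ : GL ι F) : Matrix ι ι F) = φ := by
    rw [vecMul_vecMul, ← Units.val_mul, mul_inv_cancel, Units.val_one, vecMul_one]
  rw [h, zero_vecMul] at this
  exact this.symm

end general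

section blocks

variable {κ μ : Type} [Fintype κ] [DecidableEq κ] [Fintype μ] [DecidableEq μ]
variable {F : Type*} [Field F]

/-- `v` is supported in block `k`. -/
def InB (k : κ) (v : κ × μ → F) : Prop := ∀ p, p.1 ≠ k → v p = 0

/-- The block-`k` part of `v`. -/
def res (k : κ) (v : κ × μ → F) : κ × μ → F := fun p => if p.1 = k then v p else 0

theorem res_apply (k : κ) (v : κ × μ → F) (p : κ × μ) :
    res k v p = if p.1 = k then v p else 0 := rfl

theorem inB_res (k : κ) (v : κ × μ → F) : InB k (res k v) := by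
  intro p hp
  rw [res_apply, if_neg hp]

theorem InB.res_eq {k : κ} {v : κ × μ → F} (h : InB k v) : res k v = v := by
  funext p
  rw [res_apply]
  split_ifs with hp
  · rfl
  · exact (h p hp).symm

theorem InB.res_ne {k l : κ} {v : κ × μ → F} (h : InB k v) (hl : l ≠ k) : res l v = 0 := by
  funext p
  rw [res_apply]
  split_ifs with hp
  · exact h p (by rw [hp]; exact hl)
  · rfl

theorem InB.zero (k : κ) : InB k (0 : κ × μ → F) := fun _ _ => rfl

theorem InB.add {k : κ} {v w : κ × μ → F} (hv : InB k v) (hw : InB k w) : InB k (v + w) := by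
  intro p hp
  rw [Pi.add_apply, hv p hp, hw p hp, add_zero]

theorem InB.smul {k : κ} {v : κ × μ → F} (hv : InB k v) (c : F) : InB k (c • v) := by
  intro p hp
  rw [Pi.smul_apply, hv p hp, smul_zero]

theorem InB.neg {k : κ} {v : κ × μ → F} (hv : InB k v) : InB k (-v) := by
  intro p hp
  rw [Pi.neg_apply, hv p hp, neg_zero]

theorem InB.sub {k : κ} {v w : κ × μ → F} (hv : InB k v) (hw : InB k w) : InB k (v - w) := by
  intro p hp
  rw [Pi.sub_apply, hv p hp, hw p hp, sub_zero]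

theorem inB_single (p : κ × μ) (c : F) : InB p.1 (Pi.single p c : κ × μ → F) := by
  intro q hq
  rw [Pi.single_apply, if_neg]
  intro h
  exact hq (by rw [h])

theorem inB_single' {k : κ} (p : κ × μ) (hp : p.1 = k) (c : F) :
    InB k (Pi.single p c : κ × μ → F) := by
  subst hp; exact inB_single p c

/-- Vectors and covectors in different blocks are orthogonal. -/
theorem InB.dot_eq_zero {k l : κ} {v φ : κ × μ → F} (hv : InB k v) (hφ : InB l φ) (hkl : k ≠ l) :
    φ ⬝ᵥ v = 0 := by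
  unfold dotProduct
  apply Finset.sum_eq_zero
  intro p _
  by_cases hp : p.1 = k
  · rw [hφ p (by rw [hp]; exact hkl), zero_mul]
  · rw [hv p hp, mul_zero]

theorem dot_res (k : κ) (φ v : κ × μ → F) : φ ⬝ᵥ res k v = res k φ ⬝ᵥ v := by
  unfold dotProduct
  apply Finset.sum_congr rfl
  intro p _
  rw [res_apply, res_apply]
  split_ifs
  · rfl
  · rw [mul_zero, zero_mul]

theorem InB.dot_res_eq {k : κ} {φ : κ × μ → F} (hφ : InB k φ) (v : κ × μ → F) :
    φ ⬝ᵥ res k v = φ ⬝ᵥ v := by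
  rw [dot_res, hφ.res_eq]

theorem InB.res_dot_eq {k : κ} {v : κ × μ → F} (hv : InB k v) (φ : κ × μ → F) :
    res k φ ⬝ᵥ v = φ ⬝ᵥ v := by
  rw [← dot_res, hv.res_eq]

theorem exists_of_res_ne_zero {k : κ} {v : κ × μ → F} (h : res k v ≠ 0) :
    ∃ p : κ × μ, p.1 = k ∧ v p ≠ 0 := by
  by_contra hcon
  apply h
  funext p
  rw [res_apply]
  split_ifs with hp
  · by_contra h0
    exact hcon ⟨p, hp, h0⟩
  · rfl

theorem res_ne_zero_of {k : κ} {v : κ × μ → F} {p : κ × μ} (hp : p.1 = k) (hv : v p ≠ 0) :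
    res k v ≠ 0 := by
  intro h
  apply hv
  have := congrFun h p
  rwa [res_apply, if_pos hp] at this

theorem exists_res_ne_zero {v : κ × μ → F} (h : v ≠ 0) : ∃ k : κ, res k v ≠ 0 := by
  obtain ⟨p, hp⟩ := Function.ne_iff.mp h
  exact ⟨p.1, res_ne_zero_of rfl hp⟩

theorem InB.eq_of_ne_zero {k l : κ} {v : κ × μ → F} (hk : InB k v) (hl : InB l v) (hv : v ≠ 0) :
    k = l := by
  obtain ⟨p, hp⟩ := Function.ne_iff.mp hv
  by_contra hkl
  by_cases h1 : p.1 = k
  · exact hp (hl p (by rw [h1]; exact hkl))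
  · exact hp (hk p h1)

theorem res_res_ne {k l : κ} (hkl : k ≠ l) (v : κ × μ → F) : res k (res l v) = 0 :=
  (inB_res l v).res_ne hkl

theorem res_add (k : κ) (v w : κ × μ → F) : res k (v + w) = res k v + res k w := by
  funext p
  simp only [res_apply, Pi.add_apply]
  split_ifs
  · rfl
  · rw [add_zero]

theorem res_smul (k : κ) (c : F) (v : κ × μ → F) : res k (c • v) = c • res k v := by
  funext p
  simp only [res_apply, Pi.smul_apply]
  split_ifs
  · rfl
  · rw [smul_zero]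

theorem res_sub (k : κ) (v w : κ × μ → F) : res k (v - w) = res k v - res k w := by
  funext p
  simp only [res_apply, Pi.sub_apply]
  split_ifs
  · rfl
  · rw [sub_zero]

/-- If `v` is not supported in block `k`, some other block part is nonzero. -/
theorem exists_res_ne_zero_of_not_inB {k : κ} {v : κ × μ → F} (h : ¬ InB k v) :
    ∃ l : κ, l ≠ k ∧ res l v ≠ 0 := by
  unfold InB at h
  push Not at h
  obtain ⟨p, hp, hv⟩ := h
  exact ⟨p.1, hp, res_ne_zero_of rfl hv⟩

/-- A nonzero vector of a block of size at least two has a nonzero orthogonal covector in the block. -/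
theorem exists_perp (hμ : ∀ s : μ, ∃ s' : μ, s' ≠ s) {k : κ} {b : κ × μ → F} (hb : InB k b)
    (hb0 : b ≠ 0) : ∃ χ : κ × μ → F, InB k χ ∧ χ ≠ 0 ∧ χ ⬝ᵥ b = 0 := by
  obtain ⟨p, hp⟩ := Function.ne_iff.mp hb0
  have hpk : p.1 = k := by
    by_contra h
    exact hp (hb p h)
  obtain ⟨s', hs'⟩ := hμ p.2
  have hne : (k, s') ≠ p := by
    intro h
    apply hs'
    rw [← h]
  refine ⟨Pi.single (k, s') (b p) - Pi.single p (b (k, s')), ?_, ?_, ?_⟩
  · exact (inB_single' (k, s') (rfl : (k, s').1 = k) (b p)).sub (inB_single' p hpk _)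
  · intro h
    have := congrFun h (k, s')
    rw [Pi.sub_apply, Pi.single_eq_same, Pi.single_apply, if_neg hne, sub_zero] at this
    exact hp this
  · rw [sub_dotProduct, single_dotProduct, single_dotProduct]
    ring

/-- A nonzero vector of a block has a covector in the block with value one. -/
theorem exists_dual {k : κ} {c : κ × μ → F} (hc : InB k c) (hc0 : c ≠ 0) :
    ∃ ξ : κ × μ → F, InB k ξ ∧ ξ ⬝ᵥ c = 1 := by
  obtain ⟨p, hp⟩ := Function.ne_iff.mp hc0
  have hpk : p.1 = k := by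
    by_contra h
    exact hp (hc p h)
  refine ⟨Pi.single p (c p)⁻¹, inB_single' _ hpk _, ?_⟩
  rw [single_dotProduct, inv_mul_cancel₀ hp]

end blocks

end Cfsg.Agent.Helper1.BlkTr
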