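import Mathlib
import Cfsg.Prelude.Def_GeometricClasses
import Cfsg.Agent.Helper1.BlkTrA

set_option autoImplicit false

/-!
# Block transvection calculus, part B: elements of the block-monomial group
-/

namespace Cfsg.Agent.Helper1.BlkTr

open Matrix Cfsg Cfsg.Agent.Helper7.TGL Cfsg.Agent.Helper7.SLMax Cfsg.Agent.Helper7.Dcp

section general

variable {ι : Type} [Fintype ι] [DecidableEq ι] {F : Type*} [Field F]

theorem tau_val_apply (v φ : ι → F) (h : φ ⬝ᵥ v = 0) (p q : ι) :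
    (tau v φ h : Matrix ι ι F) p q = (1 : Matrix ι ι F) p q + v p * φ q := rfl

theorem vecMulVec_idem (c ξ : ι → F) (h : ξ ⬝ᵥ c = 1) :
    vecMulVec c ξ * vecMulVec c ξ = vecMulVec c ξ := by
  rw [vecMulVec_mul_vecMulVec, h, one_smul]

theorem hom_aux (c ξ : ι → F) (h : ξ ⬝ᵥ c = 1) (α β : F) (hαβ : α + β + α * β = 0) :
    (1 + α • vecMulVec c ξ) * (1 + β • vecMulVec c ξ) = 1 := by
  rw [add_mul, mul_add, mul_add, one_mul, mul_one, one_mul, smul_mul_smul_comm, vecMulVec_idem c ξ h]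
  have : (1 : Matrix ι ι F) + β • vecMulVec c ξ + (α • vecMulVec c ξ + (α * β) • vecMulVec c ξ) =
      1 + (α + β + α * β) • vecMulVec c ξ := by
    rw [add_smul, add_smul]; abel
  rw [this, hαβ, zero_smul, add_zero]

/-- The homology `x ↦ x + (a - 1) (ξ ⬝ x) c` with `ξ ⬝ c = 1`: it multiplies `c` by `a` and fixes `ker ξ`. -/
def hom (c ξ : ι → F) (a : F) (h : ξ ⬝ᵥ c = 1) (ha : a ≠ 0) : GL ι F where
  val := 1 + (a - 1) • vecMulVec c ξ
  inv := 1 + (a⁻¹ - 1) • vecMulVec c ξ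
  val_inv := hom_aux c ξ h _ _ (by field_simp; ring)
  inv_val := hom_aux c ξ h _ _ (by field_simp; ring)

theorem hom_inv (c ξ : ι → F) (a : F) (h : ξ ⬝ᵥ c = 1) (ha : a ≠ 0) :
    (hom c ξ a h ha)⁻¹ = hom c ξ a⁻¹ h (inv_ne_zero ha) := by
  apply Units.ext
  rfl

theorem hom_val_apply (c ξ : ι → F) (a : F) (h : ξ ⬝ᵥ c = 1) (ha : a ≠ 0) (p q : ι) :
    (hom c ξ a h ha : Matrix ι ι F) p q = (1 : Matrix ι ι F) p q + (a - 1) * (c p * ξ q) := rfl

theorem hom_mulVec (c ξ : ι → F) (a : F) (h : ξ ⬝ᵥ c = 1) (ha : a ≠ 0) (x : ι → F) :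
    (hom c ξ a h ha : Matrix ι ι F) *ᵥ x = x + ((a - 1) * (ξ ⬝ᵥ x)) • c := by
  change (1 + (a - 1) • vecMulVec c ξ) *ᵥ x = _
  rw [add_mulVec, one_mulVec, smul_mulVec, vecMulVec_mulVec, op_smul_eq_smul, smul_smul]

theorem hom_vecMul (c ξ : ι → F) (a : F) (h : ξ ⬝ᵥ c = 1) (ha : a ≠ 0) (φ : ι → F) :
    φ ᵥ* (hom c ξ a h ha : Matrix ι ι F) = φ + ((a - 1) * (φ ⬝ᵥ c)) • ξ := by
  change φ ᵥ* (1 + (a - 1) • vecMulVec c ξ) = _
  rw [vecMul_add, vecMul_one, vecMul_smul, vecMul_vecMulVec, smul_smul]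

theorem hom_det (c ξ : ι → F) (a : F) (h : ξ ⬝ᵥ c = 1) (ha : a ≠ 0) :
    Matrix.GeneralLinearGroup.det (hom c ξ a h ha) = Units.mk0 a ha := by
  apply Units.ext
  change (1 + (a - 1) • vecMulVec c ξ).det = a
  rw [Cfsg.Agent.Helper7.QF.det_one_add_smul_vecMulVec, h]
  ring

/-- The permutation matrix of `π` as an element of `GL`: it maps `e_q` to `e_{π q}`. -/
def permGL (F : Type*) [Field F] (π : Equiv.Perm ι) : GL ι F where
  val := Matrix.of fun p q => if p = π q then 1 else 0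
  inv := Matrix.of fun p q => if π p = q then 1 else 0
  val_inv := by
    ext p q
    rw [Matrix.mul_apply, Finset.sum_eq_single (π.symm p)]
    · simp only [Matrix.of_apply, Equiv.apply_symm_apply, if_true, one_mul, Matrix.one_apply]
    · intro r _ hr
      have : ¬ p = π r := by
        intro h
        apply hr
        rw [h, Equiv.symm_apply_apply]
      simp only [Matrix.of_apply, if_neg this, zero_mul]
    · intro h
      exact absurd (Finset.mem_univ _) h
  inv_val := by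
    ext p q
    rw [Matrix.mul_apply, Finset.sum_eq_single (π p)]
    · simp only [Matrix.of_apply, if_true, one_mul, Matrix.one_apply, EmbeddingLike.apply_eq_iff_eq]
    · intro r _ hr
      have : ¬ π p = r := fun h => hr h.symm
      simp only [Matrix.of_apply, if_neg this, zero_mul]
    · intro h
      exact absurd (Finset.mem_univ _) h

theorem permGL_val_apply (π : Equiv.Perm ι) (p q : ι) :
    (permGL F π : Matrix ι ι F) p q = if p = π q then 1 else 0 := rfl

theorem permGL_inv_apply (π : Equiv.Perm ι) (p q : ι) :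
    ((permGL F π)⁻¹ : GL ι F).val p q = if π p = q then 1 else 0 := rfl

theorem permGL_mulVec_single (π : Equiv.Perm ι) (q : ι) (c : F) :
    (permGL F π : Matrix ι ι F) *ᵥ Pi.single q c = Pi.single (π q) c := by
  funext p
  change (fun j => (permGL F π : Matrix ι ι F) p j) ⬝ᵥ Pi.single q c = _
  rw [dotProduct_single, permGL_val_apply, Pi.single_apply]
  split_ifs <;> simp

theorem single_vecMul_permGL_inv (π : Equiv.Perm ι) (q : ι) (c : F) :
    Pi.single q c ᵥ* ((permGL F π)⁻¹ : GL ι F).val = Pi.single (π q) c := by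
  funext p
  change Pi.single q c ⬝ᵥ (fun i => ((permGL F π)⁻¹ : GL ι F).val i p) = _
  rw [single_dotProduct, permGL_inv_apply, Pi.single_apply]
  split_ifs with h1 h2 h2
  · rw [mul_one]
  · exact absurd h1.symm h2
  · exact absurd h2.symm h1
  · rw [mul_zero]

/-- Transport of elementary transvections by an element acting monomially on the relevant basis vectors. -/
theorem tin_transport {M : Subgroup (GL ι F)} {g : GL ι F} (hg : g ∈ M) {p q p' q' : ι} {a b : F}
    (ha : a ≠ 0) (hb : b ≠ 0)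
    (h1 : (g : Matrix ι ι F) *ᵥ Pi.single p 1 = Pi.single p' a)
    (h2 : Pi.single q 1 ᵥ* ((g⁻¹ : GL ι F) : Matrix ι ι F) = Pi.single q' b)
    (h : ∀ c : F, Tin M (Pi.single p c) (Pi.single q 1)) (c : F) :
    Tin M (Pi.single p' c) (Pi.single q' 1) := by
  have h3 := (h (c * a⁻¹ * b⁻¹)).conj hg
  have e1 : (g : Matrix ι ι F) *ᵥ Pi.single p (c * a⁻¹ * b⁻¹) = Pi.single p' (c * b⁻¹) := by
    have : (Pi.single p (c * a⁻¹ * b⁻¹) : ι → F) = (c * a⁻¹ * b⁻¹) • Pi.single p 1 := by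
      rw [← Pi.single_smul, smul_eq_mul, mul_one]
    rw [this, mulVec_smul, h1, ← Pi.single_smul, smul_eq_mul]
    congr 1
    field_simp
  rw [e1, h2] at h3
  have e2 : (Pi.single q' b : ι → F) = b • Pi.single q' 1 := by
    rw [← Pi.single_smul, smul_eq_mul, mul_one]
  rw [e2] at h3
  refine h3.smul_move'.congr ?_ rfl
  rw [← Pi.single_smul, smul_eq_mul]
  congr 1
  field_simp

end general

section blocks

variable {κ μ : Type} [Fintype κ] [DecidableEq κ] [Fintype μ] [DecidableEq μ]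
variable {F : Type*} [Field F]

/-- The standard block-monomial subgroup of determinant one. -/
def Nstd (κ μ : Type) [Fintype κ] [DecidableEq κ] [Fintype μ] [DecidableEq μ] (F : Type*) [Field F] :
    Subgroup (GL (κ × μ) F) :=
  blockMono (Prod.fst : κ × μ → κ) ⊓ Geo.specialLinear (κ × μ) F

theorem mem_blockMono_of_diag {g : GL (κ × μ) F}
    (h1 : ∀ p q, (g : Matrix (κ × μ) (κ × μ) F) p q ≠ 0 → p.1 = q.1)
    (h2 : ∀ p q, ((g⁻¹ : GL (κ × μ) F) : Matrix (κ × μ) (κ × μ) F) p q ≠ 0 → p.1 = q.1) :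
    g ∈ blockMono (Prod.fst : κ × μ → κ) :=
  ⟨Equiv.refl κ, h1, h2⟩

theorem one_add_mul_ne_zero {k : κ} {b χ : κ × μ → F} (hb : InB k b) (hχ : InB k χ) (c : F)
    {p q : κ × μ} (h : (1 : Matrix (κ × μ) (κ × μ) F) p q + c * (b p * χ q) ≠ 0) : p.1 = q.1 := by
  by_cases hpq : p = q
  · rw [hpq]
  · rw [Matrix.one_apply_ne hpq, zero_add] at h
    have hbp : b p ≠ 0 := left_ne_zero_of_mul (right_ne_zero_of_mul h)
    have hχq : χ q ≠ 0 := right_ne_zero_of_mul (right_ne_zero_of_mul h)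
    have h1 : p.1 = k := by
      by_contra h0; exact hbp (hb p h0)
    have h2 : q.1 = k := by
      by_contra h0; exact hχq (hχ q h0)
    rw [h1, h2]

theorem tau_mem_blockMono {k : κ} {b χ : κ × μ → F} (hb : InB k b) (hχ : InB k χ)
    (h : χ ⬝ᵥ b = 0) : tau b χ h ∈ blockMono (Prod.fst : κ × μ → κ) := by
  apply mem_blockMono_of_diag
  · intro p q hpq
    rw [tau_val_apply] at hpq
    apply one_add_mul_ne_zero hb hχ 1
    rwa [one_mul]
  · intro p q hpq
    rw [tau_inv, tau_val_apply] at hpq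
    apply one_add_mul_ne_zero hb hχ.neg 1
    rwa [one_mul]

theorem tau_mem_Nstd {k : κ} {b χ : κ × μ → F} (hb : InB k b) (hχ : InB k χ)
    (h : χ ⬝ᵥ b = 0) : tau b χ h ∈ Nstd κ μ F :=
  Subgroup.mem_inf.mpr ⟨tau_mem_blockMono hb hχ h, tau_mem_specialLinear b χ h⟩

/-- Block transvections lie in every overgroup of `Nstd`. -/
theorem tin_block {M : Subgroup (GL (κ × μ) F)} (hN : Nstd κ μ F ≤ M) {k : κ} {b χ : κ × μ → F}
    (hb : InB k b) (hχ : InB k χ) (h : χ ⬝ᵥ b = 0) : Tin M b χ :=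
  ⟨h, hN (tau_mem_Nstd hb hχ h)⟩

theorem hom_mem_blockMono {k : κ} {c ξ : κ × μ → F} (hc : InB k c) (hξ : InB k ξ) (a : F)
    (h : ξ ⬝ᵥ c = 1) (ha : a ≠ 0) : hom c ξ a h ha ∈ blockMono (Prod.fst : κ × μ → κ) := by
  apply mem_blockMono_of_diag
  · intro p q hpq
    rw [hom_val_apply] at hpq
    exact one_add_mul_ne_zero hc hξ _ hpq
  · intro p q hpq
    rw [hom_inv, hom_val_apply] at hpq
    exact one_add_mul_ne_zero hc hξ _ hpq

/-- A product of two block homologies with inverse determinants lies in `Nstd`. -/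
theorem hom_mul_hom_mem_Nstd {k l : κ} {c ξ c' ξ' : κ × μ → F} (hc : InB k c) (hξ : InB k ξ)
    (hc' : InB l c') (hξ' : InB l ξ') (a : F) (h : ξ ⬝ᵥ c = 1) (h' : ξ' ⬝ᵥ c' = 1) (ha : a ≠ 0) :
    hom c ξ a h ha * hom c' ξ' a⁻¹ h' (inv_ne_zero ha) ∈ Nstd κ μ F := by
  refine Subgroup.mem_inf.mpr ⟨Subgroup.mul_mem _ (hom_mem_blockMono hc hξ a h ha)
    (hom_mem_blockMono hc' hξ' a⁻¹ h' (inv_ne_zero ha)), ?_⟩
  unfold Geo.specialLinear
  rw [MonoidHom.mem_ker, map_mul, hom_det, hom_det]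
  apply Units.ext
  rw [Units.val_mul, Units.val_mk0, Units.val_mk0, Units.val_one, mul_inv_cancel₀ ha]

/-- The block permutation of `κ × μ` induced by a permutation of `κ`. -/
def blockPerm (μ : Type) (π : Equiv.Perm κ) : Equiv.Perm (κ × μ) :=
  Equiv.prodCongr π (Equiv.refl μ)

theorem blockPerm_apply (π : Equiv.Perm κ) (p : κ × μ) : blockPerm μ π p = (π p.1, p.2) := rfl

theorem permGL_mem_blockMono (π : Equiv.Perm κ) :
    permGL F (blockPerm μ π) ∈ blockMono (Prod.fst : κ × μ → κ) := by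
  refine ⟨π, ?_, ?_⟩
  · intro p q hpq
    rw [permGL_val_apply] at hpq
    have : p = blockPerm μ π q := by
      by_contra h0; exact hpq (if_neg h0)
    rw [this, blockPerm_apply]
  · intro p q hpq
    rw [permGL_inv_apply] at hpq
    have : blockPerm μ π p = q := by
      by_contra h0; exact hpq (if_neg h0)
    rw [← this, blockPerm_apply, Equiv.symm_apply_apply]

/-- A determinant-one block permutation element: the permutation matrix corrected by a diagonal homology
at the coordinate `p0`. -/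
theorem exists_blockPerm_mem_Nstd (π : Equiv.Perm κ) (p0 : κ × μ) :
    ∃ (g : GL (κ × μ) F) (a : F), a ≠ 0 ∧ g ∈ Nstd κ μ F ∧
      (∀ q : κ × μ, (g : Matrix (κ × μ) (κ × μ) F) *ᵥ Pi.single q 1 =
        Pi.single (blockPerm μ π q) (if q = p0 then a else 1)) ∧
      (∀ q : κ × μ, Pi.single q 1 ᵥ* ((g⁻¹ : GL (κ × μ) F) : Matrix (κ × μ) (κ × μ) F) =
        Pi.single (blockPerm μ π q) (if q = p0 then a⁻¹ else 1)) := by
  set w : GL (κ × μ) F := permGL F (blockPerm μ π) with hw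
  set δ : Fˣ := Matrix.GeneralLinearGroup.det w with hδ
  have h11 : (Pi.single p0 (1 : F) : κ × μ → F) ⬝ᵥ Pi.single p0 1 = 1 := by
    rw [single_dotProduct, Pi.single_eq_same, mul_one]
  have hδ0 : ((δ⁻¹ : Fˣ) : F) ≠ 0 := Units.ne_zero _
  set hh : GL (κ × μ) F := hom (Pi.single p0 1) (Pi.single p0 1) ((δ⁻¹ : Fˣ) : F) h11 hδ0 with hhh
  refine ⟨w * hh, ((δ⁻¹ : Fˣ) : F), hδ0, Subgroup.mem_inf.mpr ⟨?_, ?_⟩, ?_, ?_⟩
  · exact Subgroup.mul_mem _ (permGL_mem_blockMono π)
      (hom_mem_blockMono (inB_single p0 1) (inB_single p0 1) _ h11 hδ0)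
  · unfold Geo.specialLinear
    rw [MonoidHom.mem_ker, map_mul, hhh, hom_det, ← hδ]
    apply Units.ext
    rw [Units.val_mul, Units.val_mk0, Units.val_one, ← Units.val_mul, mul_inv_cancel, Units.val_one]
  · intro q
    rw [gl_mul_mulVec, hhh, hom_mulVec, single_dotProduct, one_mul]
    by_cases hq : q = p0
    · subst hq
      rw [Pi.single_eq_same, mul_one, if_pos rfl]
      have : (Pi.single q (1 : F) : κ × μ → F) + (((δ⁻¹ : Fˣ) : F) - 1) • Pi.single q 1 =
          Pi.single q ((δ⁻¹ : Fˣ) : F) := by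
        rw [← Pi.single_smul, ← Pi.single_add, smul_eq_mul, mul_one]
        congr 1; ring
      rw [this, hw, permGL_mulVec_single]
    · rw [Pi.single_apply, if_neg (Ne.symm hq), mul_zero, zero_smul, add_zero, if_neg hq, hw,
        permGL_mulVec_single]
  · intro q
    rw [_root_.mul_inv_rev, Units.val_mul, ← vecMul_vecMul, hhh, hom_inv, hom_vecMul, single_dotProduct,
      one_mul]
    by_cases hq : q = p0
    · subst hq
      rw [Pi.single_eq_same, mul_one, if_pos rfl]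
      have : (Pi.single q (1 : F) : κ × μ → F) + ((((δ⁻¹ : Fˣ) : F))⁻¹ - 1) • Pi.single q 1 =
          Pi.single q (((δ⁻¹ : Fˣ) : F))⁻¹ := by
        rw [← Pi.single_smul, ← Pi.single_add, smul_eq_mul, mul_one]
        congr 1; ring
      rw [this, hw, single_vecMul_permGL_inv]
    · rw [Pi.single_apply, if_neg hq, mul_zero, zero_smul, add_zero, if_neg hq, hw,
        single_vecMul_permGL_inv]

end blocks

end Cfsg.Agent.Helper1.BlkTr
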