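import Mathlib
import Cfsg.Prelude.Def_GeometricClasses
import Cfsg.Agent.Helper1.BlkTrB

set_option autoImplicit false

/-!
# Block transvection calculus, part C: from a non-block transvection to a cross transvection
-/

namespace Cfsg.Agent.Helper1.BlkTr

open Matrix Cfsg Cfsg.Agent.Helper7.TGL Cfsg.Agent.Helper7.SLMax Cfsg.Agent.Helper7.Dcp

variable {κ μ : Type} [Fintype κ] [DecidableEq κ] [Fintype μ] [DecidableEq μ]
variable {F : Type*} [Field F]

/-- `M` contains a cross transvection: centre in block `i`, covector in block `j ≠ i`. -/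
def Cross (M : Subgroup (GL (κ × μ) F)) : Prop :=
  ∃ (i j : κ) (v φ : κ × μ → F), i ≠ j ∧ InB i v ∧ InB j φ ∧ v ≠ 0 ∧ φ ≠ 0 ∧ Tin M v φ

theorem single_one_ne_zero (p : κ × μ) : (Pi.single p (1 : F) : κ × μ → F) ≠ 0 := by
  intro h
  have := congrFun h p
  rw [Pi.single_eq_same] at this
  exact one_ne_zero this

theorem single_dot_single_ne {p q : κ × μ} (h : p ≠ q) (a b : F) :
    (Pi.single p a : κ × μ → F) ⬝ᵥ Pi.single q b = 0 := by
  rw [single_dotProduct, Pi.single_apply, if_neg h, mul_zero]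

variable {M : Subgroup (GL (κ × μ) F)}

/-- Good state: the covector has a nonzero part in a block where the centre vanishes. -/
theorem cross_of_good (hμ : ∀ s : μ, ∃ s' : μ, s' ≠ s) (hN : Nstd κ μ F ≤ M)
    {u ψ : κ × μ → F} (h : Tin M u ψ) {j : κ} (huj : res j u = 0) (hψj : res j ψ ≠ 0)
    (hu : u ≠ 0) : Cross M := by
  obtain ⟨q0, hq0j, hψq0⟩ := exists_of_res_ne_zero hψj
  obtain ⟨s', hs'⟩ := hμ q0.2
  have hq01 : (j, s') ≠ q0 := by
    intro h0; apply hs'; rw [← h0]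
  have hb : Tin M (Pi.single q0 1) (Pi.single (j, s') 1) :=
    tin_block hN (inB_single' q0 hq0j 1) (inB_single' (j, s') rfl 1)
      (single_dot_single_ne hq01 1 1)
  have huq1 : u (j, s') = 0 := by
    have := congrFun huj (j, s')
    rwa [res_apply, if_pos rfl] at this
  have h1 := h.comm hb (by rw [single_dotProduct, one_mul]; exact huq1)
  rw [dotProduct_single, mul_one] at h1
  obtain ⟨p2, hp2⟩ := Function.ne_iff.mp hu
  have hp2j : p2.1 ≠ j := by
    intro h0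
    have := congrFun huj p2
    rw [res_apply, if_pos h0] at this
    exact hp2 this
  obtain ⟨s3, hs3⟩ := hμ p2.2
  have hp32 : (p2.1, s3) ≠ p2 := by
    intro h0; apply hs3; rw [← h0]
  have hE : Tin M (Pi.single (p2.1, s3) 1) (Pi.single p2 1) :=
    tin_block hN (inB_single' (p2.1, s3) rfl 1) (inB_single p2 1)
      (single_dot_single_ne hp32.symm 1 1)
  have hcross : (j, s') ≠ (p2.1, s3) := by
    intro h0
    exact hp2j (congrArg Prod.fst h0).symm
  have h2 := hE.comm h1 (by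
    rw [smul_dotProduct, single_dot_single_ne hcross, smul_zero])
  rw [single_dotProduct, one_mul] at h2
  refine ⟨p2.1, j, _, _, hp2j, inB_single' (p2.1, s3) rfl 1,
    ((inB_single' (j, s') rfl 1).smul _).smul _, single_one_ne_zero _, ?_, h2⟩
  exact smul_ne_zero hp2 (smul_ne_zero hψq0 (single_one_ne_zero _))

/-- Dual good state: the centre has a nonzero part in a block where the covector vanishes. -/
theorem cross_of_dualgood (hμ : ∀ s : μ, ∃ s' : μ, s' ≠ s) (hN : Nstd κ μ F ≤ M)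
    {u ψ : κ × μ → F} (h : Tin M u ψ) {i : κ} (hψi : res i ψ = 0) (hui : res i u ≠ 0)
    (hψ : ψ ≠ 0) : Cross M := by
  obtain ⟨p0, hp0i, hup0⟩ := exists_of_res_ne_zero hui
  obtain ⟨s', hs'⟩ := hμ p0.2
  have hp01 : (i, s') ≠ p0 := by
    intro h0; apply hs'; rw [← h0]
  have hb : Tin M (Pi.single (i, s') 1) (Pi.single p0 1) :=
    tin_block hN (inB_single' (i, s') rfl 1) (inB_single' p0 hp0i 1)
      (single_dot_single_ne hp01.symm 1 1)
  have hψp1 : ψ (i, s') = 0 := by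
    have := congrFun hψi (i, s')
    rwa [res_apply, if_pos rfl] at this
  have h1 := hb.comm h (by rw [dotProduct_single, mul_one]; exact hψp1)
  rw [single_dotProduct, one_mul] at h1
  refine cross_of_good hμ hN h1 (j := ?_) ?_ ?_ (single_one_ne_zero _)
  · exact (exists_res_ne_zero hψ).choose
  · have hj := (exists_res_ne_zero hψ).choose_spec
    have hji : (exists_res_ne_zero hψ).choose ≠ i := by
      intro h0
      rw [h0] at hj
      exact hj hψi
    exact (inB_single' (i, s') rfl 1).res_ne hji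
  · have hj := (exists_res_ne_zero hψ).choose_spec
    rw [res_smul]
    exact smul_ne_zero hup0 hj

/-- The commutator step: a block transvection `tau b χ` in block `j` with `χ ⬝ u = 0 ≠ ψ ⬝ b`
moves the covector of `tau u ψ` into block `j`. -/
theorem cross_of_g1 (hμ : ∀ s : μ, ∃ s' : μ, s' ≠ s) (hN : Nstd κ μ F ≤ M)
    {u ψ : κ × μ → F} (h : Tin M u ψ) {j k : κ} (hkj : k ≠ j) (huk : res k u ≠ 0)
    {b χ : κ × μ → F} (hb : InB j b) (hχ : InB j χ) (hχb : χ ⬝ᵥ b = 0) (hχu : χ ⬝ᵥ u = 0)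
    (hψb : ψ ⬝ᵥ b ≠ 0) (hχ0 : χ ≠ 0) : Cross M := by
  have h1 := h.comm (tin_block hN hb hχ hχb) hχu
  refine cross_of_dualgood hμ hN h1 (i := k) ?_ huk (smul_ne_zero hψb hχ0)
  rw [res_smul, hχ.res_ne hkj, smul_zero]

/-- Lemma A: a transvection of `M` which is not a block transvection yields a cross transvection. -/
theorem cross_of_nonblock (hμ : ∀ s : μ, ∃ s' : μ, s' ≠ s)
    (hcase : (∀ s s' : μ, ∃ s'' : μ, s'' ≠ s ∧ s'' ≠ s') ∨
      ((∀ k l : κ, ∃ r : κ, r ≠ k ∧ r ≠ l) ∧ ∃ a : F, a ≠ 0 ∧ a ≠ 1))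
    (hN : Nstd κ μ F ≤ M) {u ψ : κ × μ → F} (h : Tin M u ψ) (hu : u ≠ 0) (hψ : ψ ≠ 0)
    (hnb : ¬ ∃ k : κ, InB k u ∧ InB k ψ) : Cross M := by
  by_cases c1 : ∃ j : κ, res j u = 0 ∧ res j ψ ≠ 0
  · obtain ⟨j, h1, h2⟩ := c1
    exact cross_of_good hμ hN h h1 h2 hu
  by_cases c2 : ∃ i : κ, res i ψ = 0 ∧ res i u ≠ 0
  · obtain ⟨i, h1, h2⟩ := c2
    exact cross_of_dualgood hμ hN h h1 h2 hψ
  push Not at c1 c2
  obtain ⟨j, hj⟩ := exists_res_ne_zero hu
  have hψj : res j ψ ≠ 0 := fun h0 => hj (c2 j h0)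
  obtain ⟨k, hkj, huk, hψk⟩ : ∃ k : κ, k ≠ j ∧ res k u ≠ 0 ∧ res k ψ ≠ 0 := by
    by_cases hju : InB j u
    · have : ¬ InB j ψ := fun h0 => hnb ⟨j, hju, h0⟩
      obtain ⟨l, hl, hl2⟩ := exists_res_ne_zero_of_not_inB this
      exact ⟨l, hl, fun h0 => hl2 (c1 l h0), hl2⟩
    · obtain ⟨l, hl, hl2⟩ := exists_res_ne_zero_of_not_inB hju
      exact ⟨l, hl, hl2, fun h0 => hl2 (c2 l h0)⟩
  by_cases hdot : ∃ j' : κ, res j' u ≠ 0 ∧ ψ ⬝ᵥ res j' u ≠ 0
  · obtain ⟨j', hj'u, hj'd⟩ := hdot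
    obtain ⟨k', hk', huk'⟩ : ∃ k' : κ, k' ≠ j' ∧ res k' u ≠ 0 := by
      by_cases e : j' = j
      · exact ⟨k, by rw [e]; exact hkj, huk⟩
      · exact ⟨j, Ne.symm e, hj⟩
    obtain ⟨χ, hχ, hχ0, hχb⟩ := exists_perp hμ (inB_res j' u) hj'u
    refine cross_of_g1 hμ hN h hk' huk' (inB_res j' u) hχ hχb ?_ hj'd hχ0
    rw [← hχ.dot_res_eq u]
    exact hχb
  push Not at hdot
  rcases hcase with h3 | ⟨hκ3, a, ha0, ha1⟩
  · -- blocks of size at least three
    obtain ⟨q0, hq0j, hψq0⟩ := exists_of_res_ne_zero hψj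
    obtain ⟨s1, hs1⟩ := hμ q0.2
    obtain ⟨s2, hs20, hs21⟩ := h3 q0.2 s1
    have hq10 : (j, s1) ≠ q0 := by
      intro h0; apply hs1; rw [← h0]
    have hq20 : (j, s2) ≠ q0 := by
      intro h0; apply hs20; rw [← h0]
    have hq21 : (j, s2) ≠ (j, s1) := by
      intro h0; exact hs21 (congrArg Prod.snd h0)
    have hψb : ψ ⬝ᵥ (Pi.single q0 1 : κ × μ → F) ≠ 0 := by
      rw [dotProduct_single, mul_one]; exact hψq0
    by_cases hz : u (j, s1) = 0 ∧ u (j, s2) = 0
    · refine cross_of_g1 hμ hN h hkj huk (inB_single' q0 hq0j 1) (inB_single' (j, s1) rfl 1)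
        (single_dot_single_ne hq10 1 1) ?_ hψb (single_one_ne_zero _)
      rw [single_dotProduct, one_mul]
      exact hz.1
    · refine cross_of_g1 hμ hN h hkj huk (inB_single' q0 hq0j 1)
        (χ := Pi.single (j, s1) (u (j, s2)) - Pi.single (j, s2) (u (j, s1)))
        ((inB_single' (j, s1) rfl _).sub (inB_single' (j, s2) rfl _)) ?_ ?_ hψb ?_
      · rw [sub_dotProduct, single_dot_single_ne hq10, single_dot_single_ne hq20, sub_zero]
      · rw [sub_dotProduct, single_dotProduct, single_dotProduct]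
        ring
      · intro h0
        apply hz
        have e1 := congrFun h0 (j, s1)
        have e2 := congrFun h0 (j, s2)
        rw [Pi.sub_apply, Pi.single_eq_same, Pi.single_apply, if_neg hq21.symm, sub_zero,
          Pi.zero_apply] at e1
        rw [Pi.sub_apply, Pi.single_eq_same, Pi.single_apply, if_neg hq21, zero_sub,
          Pi.zero_apply, neg_eq_zero] at e2
        exact ⟨e2, e1⟩
  · -- blocks of size two: homology pair
    obtain ⟨l, hlk, hlj⟩ := hκ3 k j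
    have hk0 : ψ ⬝ᵥ res k u = 0 := hdot k huk
    obtain ⟨ξk, hξk, hξk1⟩ := exists_dual (inB_res k u) huk
    obtain ⟨cl, hcl, hcl0, hψcl⟩ : ∃ c : κ × μ → F, InB l c ∧ c ≠ 0 ∧ ψ ⬝ᵥ c = 0 := by
      by_cases hψl : res l ψ = 0
      · obtain ⟨q0, -, -⟩ := exists_of_res_ne_zero hψj
        refine ⟨Pi.single (l, q0.2) 1, inB_single' (l, q0.2) rfl 1, single_one_ne_zero _, ?_⟩
        rw [dotProduct_single, mul_one]
        have := congrFun hψl (l, q0.2)
        rwa [res_apply, if_pos rfl] at this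
      · obtain ⟨c, hc, hc0, hcd⟩ := exists_perp hμ (inB_res l ψ) hψl
        refine ⟨c, hc, hc0, ?_⟩
        rw [dotProduct_comm, ← hc.dot_res_eq ψ]
        exact hcd
    obtain ⟨ξl, hξl, hξl1⟩ := exists_dual hcl hcl0
    have hd : hom (res k u) ξk a hξk1 ha0 * hom cl ξl a⁻¹ hξl1 (inv_ne_zero ha0) ∈ M :=
      hN (hom_mul_hom_mem_Nstd (inB_res k u) hξk hcl hξl a hξk1 hξl1 ha0)
    have h1 := h.conj hd
    have e1 : ψ ᵥ* ((hom (res k u) ξk a hξk1 ha0 * hom cl ξl a⁻¹ hξl1 (inv_ne_zero ha0))⁻¹ :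
        GL (κ × μ) F).val = ψ := by
      rw [_root_.mul_inv_rev, Units.val_mul, ← vecMul_vecMul, hom_inv, hom_inv, hom_vecMul, hom_vecMul,
        hψcl, mul_zero, zero_smul, add_zero, hk0, mul_zero, zero_smul, add_zero]
    have e3 : ξk ⬝ᵥ cl = 0 := hcl.dot_eq_zero hξk hlk
    have e4 : ξk ⬝ᵥ u = 1 := by
      rw [← hξk.dot_res_eq u]; exact hξk1
    have e2 : (hom (res k u) ξk a hξk1 ha0 * hom cl ξl a⁻¹ hξl1 (inv_ne_zero ha0) :
        GL (κ × μ) F).val *ᵥ u =
        u + (((a⁻¹ - 1) * (ξl ⬝ᵥ u)) • cl + (a - 1) • res k u) := by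
      rw [gl_mul_mulVec, hom_mulVec, hom_mulVec, dotProduct_add, dotProduct_smul, e3, smul_zero,
        add_zero, e4, mul_one, add_assoc]
    rw [e1, e2] at h1
    have h2 := (h1.sub_left h).congr (add_sub_cancel_left _ _) rfl
    refine cross_of_good hμ hN h2 (j := j) ?_ hψj ?_
    · rw [res_add, res_smul, res_smul, hcl.res_ne hlj.symm, res_res_ne hkj.symm, smul_zero, smul_zero,
        add_zero]
    · intro h0
      have h3 := congrArg (res k) h0
      rw [res_add, res_smul, res_smul, hcl.res_ne hlk.symm, (inB_res k u).res_eq, smul_zero,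
        zero_add] at h3
      have h4 : res k (0 : κ × μ → F) = 0 := (InB.zero k).res_eq
      rw [h4] at h3
      exact smul_ne_zero (sub_ne_zero.mpr ha1) huk h3

end Cfsg.Agent.Helper1.BlkTr
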