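import Mathlib
import Cfsg.Prelude.Def_GeometricClasses
import Cfsg.Agent.Helper1.BlkTrC

set_option autoImplicit false

/-!
# Block transvection calculus, part D: an element outside the block-monomial group
produces a non-block transvection
-/

namespace Cfsg.Agent.Helper1.BlkTr

open Matrix Cfsg Cfsg.Agent.Helper7.TGL Cfsg.Agent.Helper7.SLMax Cfsg.Agent.Helper7.Dcp

variable {κ μ : Type} [Fintype κ] [DecidableEq κ] [Fintype μ] [DecidableEq μ]
variable {F : Type*} [Field F]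

/-- Two nonzero vectors in blocks `a`, `b` whose sum lies in a single block are in the same block. -/
theorem InB.eq_of_add {a b c : κ} {x y : κ × μ → F} (hx : InB a x) (hy : InB b y)
    (hx0 : x ≠ 0) (hy0 : y ≠ 0) (hc : InB c (x + y)) : a = b := by
  by_contra hab
  have h1 : res a (x + y) = x := by
    rw [res_add, hx.res_eq, hy.res_ne hab, add_zero]
  have h2 : res b (x + y) = y := by
    rw [res_add, hy.res_eq, hx.res_ne (Ne.symm hab), zero_add]
  have hca : a = c := by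
    by_contra h0
    rw [hc.res_ne h0] at h1
    exact hx0 h1.symm
  have hcb : b = c := by
    by_contra h0
    rw [hc.res_ne h0] at h2
    exact hy0 h2.symm
  exact hab (hca.trans hcb.symm)

theorem mulVec_single_one_apply (A : Matrix (κ × μ) (κ × μ) F) (p q : κ × μ) :
    (A *ᵥ Pi.single q 1) p = A p q := by
  change (fun j => A p j) ⬝ᵥ Pi.single q 1 = _
  rw [dotProduct_single, mul_one]

theorem single_one_vecMul_apply (A : Matrix (κ × μ) (κ × μ) F) (p q : κ × μ) :
    (Pi.single p 1 ᵥ* A) q = A p q := by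
  change Pi.single p 1 ⬝ᵥ (fun i => A i q) = _
  rw [single_dotProduct, one_mul]

variable {M : Subgroup (GL (κ × μ) F)}

/-- Lemma B: an element of `M` outside the block-monomial group conjugates some block transvection
to a non-block transvection. -/
theorem exists_nonblock (hμ : ∀ s : μ, ∃ s' : μ, s' ≠ s) (s0 : μ) (hN : Nstd κ μ F ≤ M)
    {g : GL (κ × μ) F} (hg : g ∈ M) (hgb : g ∉ blockMono (Prod.fst : κ × μ → κ)) :
    ∃ u ψ : κ × μ → F, Tin M u ψ ∧ u ≠ 0 ∧ ψ ≠ 0 ∧ ¬ ∃ k : κ, InB k u ∧ InB k ψ := by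
  by_contra hcon
  push Not at hcon
  apply hgb
  -- conjugates of block transvections are block transvections
  have H : ∀ (k : κ) (b χ : κ × μ → F), InB k b → InB k χ → b ≠ 0 → χ ≠ 0 → χ ⬝ᵥ b = 0 →
      ∃ k' : κ, InB k' ((g : Matrix (κ × μ) (κ × μ) F) *ᵥ b) ∧
        InB k' (χ ᵥ* ((g⁻¹ : GL (κ × μ) F) : Matrix (κ × μ) (κ × μ) F)) := by
    intro k b χ hb hχ hb0 hχ0 hχb
    exact hcon _ _ ((tin_block hN hb hχ hχb).conj hg) (tau_ne_zero_left hb0)
      (vecMul_gl_ne_zero hχ0)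
  have H1 : ∀ (k : κ) (b : κ × μ → F), InB k b → b ≠ 0 →
      ∃ k' : κ, InB k' ((g : Matrix (κ × μ) (κ × μ) F) *ᵥ b) := by
    intro k b hb hb0
    obtain ⟨χ, hχ, hχ0, hχb⟩ := exists_perp hμ hb hb0
    obtain ⟨k', h1, -⟩ := H k b χ hb hχ hb0 hχ0 hχb
    exact ⟨k', h1⟩
  have hb0 : ∀ k : κ, InB k (Pi.single (k, s0) 1 : κ × μ → F) :=
    fun k => inB_single' (k, s0) rfl 1
  choose σ hσ using fun k : κ => H1 k (Pi.single (k, s0) 1) (hb0 k) (single_one_ne_zero _)
  -- all of block `k` is mapped into block `σ k`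
  have C1 : ∀ (k : κ) (b : κ × μ → F), InB k b →
      InB (σ k) ((g : Matrix (κ × μ) (κ × μ) F) *ᵥ b) := by
    intro k b hb
    by_cases hbz : b = 0
    · rw [hbz, mulVec_zero]; exact InB.zero _
    obtain ⟨kb, hkb⟩ := H1 k b hb hbz
    by_cases hs : b + Pi.single (k, s0) 1 = 0
    · rw [eq_neg_of_add_eq_zero_left hs, mulVec_neg]
      exact (hσ k).neg
    · obtain ⟨k'', hk''⟩ := H1 k _ (hb.add (hb0 k)) hs
      rw [mulVec_add] at hk''
      have : kb = σ k := hkb.eq_of_add (hσ k) (tau_ne_zero_left hbz)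
        (tau_ne_zero_left (single_one_ne_zero _)) hk''
      rw [← this]; exact hkb
  have C2 : ∀ (k : κ) (χ : κ × μ → F), InB k χ →
      InB (σ k) (χ ᵥ* ((g⁻¹ : GL (κ × μ) F) : Matrix (κ × μ) (κ × μ) F)) := by
    intro k χ hχ
    by_cases hχz : χ = 0
    · rw [hχz, zero_vecMul]; exact InB.zero _
    obtain ⟨b, hb, hbz, hbχ⟩ := exists_perp hμ hχ hχz
    rw [dotProduct_comm] at hbχ
    obtain ⟨k', h1, h2⟩ := H k b χ hb hχ hbz hχz hbχ
    have : k' = σ k := h1.eq_of_ne_zero (C1 k b hb) (tau_ne_zero_left hbz)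
    rw [← this]; exact h2
  have E1 : ∀ p q : κ × μ, (g : Matrix (κ × μ) (κ × μ) F) p q ≠ 0 → p.1 = σ q.1 := by
    intro p q hpq
    by_contra hne
    apply hpq
    have := C1 q.1 (Pi.single q 1) (inB_single q 1) p hne
    rwa [mulVec_single_one_apply] at this
  have E2 : ∀ p q : κ × μ, ((g⁻¹ : GL (κ × μ) F) : Matrix (κ × μ) (κ × μ) F) p q ≠ 0 →
      q.1 = σ p.1 := by
    intro p q hpq
    by_contra hne
    apply hpq
    have := C2 p.1 (Pi.single p 1) (inB_single p 1) q hne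
    rwa [single_one_vecMul_apply] at this
  have hsurj : Function.Surjective σ := by
    intro r
    have h1 : ((g : Matrix (κ × μ) (κ × μ) F) * ((g⁻¹ : GL (κ × μ) F) : Matrix (κ × μ) (κ × μ) F))
        (r, s0) (r, s0) = 1 := by
      rw [← Units.val_mul, mul_inv_cancel, Units.val_one, Matrix.one_apply_eq]
    rw [Matrix.mul_apply] at h1
    have h2 : (∑ p, (g : Matrix (κ × μ) (κ × μ) F) (r, s0) p *
        ((g⁻¹ : GL (κ × μ) F) : Matrix (κ × μ) (κ × μ) F) p (r, s0)) ≠ 0 := by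
      rw [h1]; exact one_ne_zero
    obtain ⟨p, -, hp⟩ := Finset.exists_ne_zero_of_sum_ne_zero h2
    exact ⟨p.1, (E1 (r, s0) p (left_ne_zero_of_mul hp)).symm⟩
  have hbij : Function.Bijective σ := ⟨Finite.injective_iff_surjective.mpr hsurj, hsurj⟩
  refine ⟨Equiv.ofBijective σ hbij, ?_, ?_⟩
  · intro p q hpq
    rw [Equiv.ofBijective_apply]
    exact E1 p q hpq
  · intro p q hpq
    have := E2 p q hpq
    change p.1 = (Equiv.ofBijective σ hbij).symm q.1
    rw [this]
    exact ((Equiv.ofBijective σ hbij).symm_apply_apply p.1).symm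

end Cfsg.Agent.Helper1.BlkTr
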