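import Mathlib
import Cfsg.Prelude.Def_GeometricClasses
import Cfsg.Agent.Helper1.BlkTrD

set_option autoImplicit false

/-!
# Block transvection calculus, part E: from a cross transvection to all elementary transvections,
and maximality of the block-monomial group in `SL`
-/

namespace Cfsg.Agent.Helper1.BlkTr

open Matrix Cfsg Cfsg.Agent.Helper7.TGL Cfsg.Agent.Helper7.SLMax Cfsg.Agent.Helper7.Dcp

variable {κ μ : Type} [Fintype κ] [DecidableEq κ] [Fintype μ] [DecidableEq μ]
variable {F : Type*} [Field F]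
variable {M : Subgroup (GL (κ × μ) F)}

/-- All elementary transvections with centre in block `i` and covector in block `j` lie in `M`. -/
def PairIn (M : Subgroup (GL (κ × μ) F)) (i j : κ) : Prop :=
  ∀ p q : κ × μ, p.1 = i → q.1 = j → ∀ c : F, Tin M (Pi.single p c) (Pi.single q 1)

theorem single_eq_smul_single (p : κ × μ) (a b : F) :
    (a • Pi.single p b : κ × μ → F) = Pi.single p (a * b) := by
  rw [← Pi.single_smul, smul_eq_mul]

theorem single_self_dot (p : κ × μ) : (Pi.single p (1 : F) : κ × μ → F) ⬝ᵥ Pi.single p 1 = 1 := by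
  rw [single_dotProduct, Pi.single_eq_same, mul_one]

/-- Step C1: a cross transvection gives a full block pair. -/
theorem pairIn_of_cross (hμ : ∀ s : μ, ∃ s' : μ, s' ≠ s) (hN : Nstd κ μ F ≤ M) (h : Cross M) :
    ∃ i j : κ, i ≠ j ∧ PairIn M i j := by
  obtain ⟨i, j, v, φ, hij, hv, hφ, hv0, hφ0, hT⟩ := h
  refine ⟨i, j, hij, ?_⟩
  obtain ⟨p0, hvp0'⟩ := Function.ne_iff.mp hv0
  have hvp0 : v p0 ≠ 0 := hvp0'
  have hp0i : p0.1 = i := by
    by_contra h0; exact hvp0 (hv p0 h0)
  obtain ⟨q0, hφq0'⟩ := Function.ne_iff.mp hφ0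
  have hφq0 : φ q0 ≠ 0 := hφq0'
  have hq0j : q0.1 = j := by
    by_contra h0; exact hφq0 (hφ q0 h0)
  have hφs : ∀ (p : κ × μ) (c : F), p.1 = i → φ ⬝ᵥ (Pi.single p c : κ × μ → F) = 0 :=
    fun p c hp => (inB_single' p hp c).dot_eq_zero hφ hij
  -- Step a, off `p0`
  have A1 : ∀ p : κ × μ, p.1 = i → p ≠ p0 → ∀ c : F, Tin M (Pi.single p c) φ := by
    intro p hp hpp0 c
    have hE : Tin M (Pi.single p (c * (v p0)⁻¹)) (Pi.single p0 1) :=
      tin_block hN (inB_single' p hp _) (inB_single' p0 hp0i 1) (single_dot_single_ne hpp0.symm _ _)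
    have h1 := hE.comm hT (hφs p _ hp)
    rw [single_dotProduct, one_mul] at h1
    refine h1.smul_move'.congr ?_ rfl
    rw [single_eq_smul_single]
    congr 1
    field_simp
  -- Step a, at `p0`
  have A2 : ∀ p : κ × μ, p.1 = i → ∀ c : F, Tin M (Pi.single p c) φ := by
    intro p hp c
    by_cases hpp0 : p = p0
    · obtain ⟨s1, hs1⟩ := hμ p0.2
      have hp1 : (i, s1) ≠ p0 := by
        intro h0; apply hs1; rw [← h0]
      have hE : Tin M (Pi.single p0 c) (Pi.single (i, s1) 1) :=
        tin_block hN (inB_single' p0 hp0i _) (inB_single' (i, s1) rfl 1)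
          (single_dot_single_ne hp1 _ _)
      have h1 := hE.comm (A1 (i, s1) rfl hp1 1) (hφs p0 _ hp0i)
      rw [single_self_dot, one_smul] at h1
      rw [hpp0]; exact h1
    · exact A1 p hp hpp0 c
  have hsp : ∀ (p q : κ × μ) (c : F), p.1 = i → q.1 = j →
      (Pi.single q (1 : F) : κ × μ → F) ⬝ᵥ Pi.single p c = 0 := by
    intro p q c hp hq
    apply single_dot_single_ne
    intro h0
    apply hij
    rw [← hp, ← hq, h0]
  -- Step b, off `q0`
  have B1 : ∀ p q : κ × μ, p.1 = i → q.1 = j → q ≠ q0 → ∀ c : F,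
      Tin M (Pi.single p c) (Pi.single q 1) := by
    intro p q hp hq hqq0 c
    have hB : Tin M (Pi.single q0 1) (Pi.single q 1) :=
      tin_block hN (inB_single' q0 hq0j 1) (inB_single' q hq 1) (single_dot_single_ne hqq0 _ _)
    have h1 := (A2 p hp (c * (φ q0)⁻¹)).comm hB (hsp p q _ hp hq)
    rw [dotProduct_single, mul_one] at h1
    refine h1.smul_move'.congr ?_ rfl
    rw [single_eq_smul_single]
    congr 1
    field_simp
  intro p q hp hq c
  by_cases hqq0 : q = q0
  · obtain ⟨s1, hs1⟩ := hμ q0.2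
    have hq1 : (j, s1) ≠ q0 := by
      intro h0; apply hs1; rw [← h0]
    have hB : Tin M (Pi.single (j, s1) 1) (Pi.single q0 1) :=
      tin_block hN (inB_single' (j, s1) rfl 1) (inB_single' q0 hq0j 1)
        (single_dot_single_ne hq1.symm _ _)
    have h1 := (B1 p (j, s1) hp rfl hq1 c).comm hB (hsp p q0 _ hp hq0j)
    rw [single_self_dot, one_smul] at h1
    rw [hqq0]; exact h1
  · exact B1 p q hp hq hqq0 c

/-- Step C2: block pairs are permuted by block permutations. -/
theorem PairIn.perm (hN : Nstd κ μ F ≤ M) {i j : κ} (h : PairIn M i j) (π : Equiv.Perm κ) :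
    PairIn M (π i) (π j) := by
  intro p' q' hp' hq' c
  have hp : ((blockPerm μ π).symm p').1 = i := by
    change π.symm p'.1 = i
    rw [hp', Equiv.symm_apply_apply]
  have hq : ((blockPerm μ π).symm q').1 = j := by
    change π.symm q'.1 = j
    rw [hq', Equiv.symm_apply_apply]
  obtain ⟨g, a, ha, hg, h1, h2⟩ :=
    exists_blockPerm_mem_Nstd (F := F) π ((blockPerm μ π).symm p')
  have h3 := tin_transport (hN hg) (p := (blockPerm μ π).symm p') (q := (blockPerm μ π).symm q')
    (p' := p') (q' := q') (a := a)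
    (b := if (blockPerm μ π).symm q' = (blockPerm μ π).symm p' then a⁻¹ else 1) ha ?_ ?_ ?_
    (h _ _ hp hq) c
  · exact h3
  · split_ifs
    · exact inv_ne_zero ha
    · exact one_ne_zero
  · rw [h1, if_pos rfl, Equiv.apply_symm_apply]
  · rw [h2, Equiv.apply_symm_apply]

/-- Step C3: one block pair gives all block pairs. -/
theorem PairIn.all (hN : Nstd κ μ F ≤ M) {i j : κ} (hij : i ≠ j) (h : PairIn M i j)
    {i' j' : κ} (hij' : i' ≠ j') : PairIn M i' j' := by
  have h1 := h.perm hN (Equiv.swap (Equiv.swap i i' j) j' * Equiv.swap i i')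
  have e1 : (Equiv.swap (Equiv.swap i i' j) j' * Equiv.swap i i') i = i' := by
    rw [Equiv.Perm.mul_apply, Equiv.swap_apply_left]
    apply Equiv.swap_apply_of_ne_of_ne
    · intro h0
      apply hij
      have : Equiv.swap i i' i = Equiv.swap i i' j := by
        rw [Equiv.swap_apply_left]; exact h0
      exact (Equiv.swap i i').injective this
    · exact hij'
  have e2 : (Equiv.swap (Equiv.swap i i' j) j' * Equiv.swap i i') j = j' := by
    rw [Equiv.Perm.mul_apply, Equiv.swap_apply_left]
  rw [e1, e2] at h1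
  exact h1

/-- A subgroup containing all elementary transvections contains `SL`. -/
theorem specialLinear_le_of_elem {ι : Type} [Fintype ι] [DecidableEq ι] [Nontrivial ι]
    (X : Subgroup (GL ι F))
    (hX : ∀ i j : ι, i ≠ j → ∀ a : F, Tin X (Pi.single i a) (Pi.single j 1)) :
    Geo.specialLinear ι F ≤ X := by
  intro g hg
  have hdet : (g : Matrix ι ι F).det = 1 := by
    have := (MonoidHom.mem_ker).mp hg
    exact congrArg Units.val this
  have hg' : g = Matrix.SpecialLinearGroup.toGL ⟨(g : Matrix ι ι F), hdet⟩ := by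
    apply Units.ext
    rfl
  rw [hg']
  refine Cfsg.Agent.Helper7.Transv.transvection_induction
    (fun M => Matrix.SpecialLinearGroup.toGL M ∈ X) ?_ ?_ _
  · intro i j hij a
    obtain ⟨h0, hm⟩ := hX i j hij a
    have : Matrix.SpecialLinearGroup.toGL (SpecialLinearGroup.transvection hij a) =
        tau (Pi.single i a) (Pi.single j (1 : F)) h0 := by
      apply Units.ext
      change (1 : Matrix ι ι F) + single i j a = 1 + vecMulVec (Pi.single i a) (Pi.single j (1 : F))
      congr 1
      ext x y
      simp only [single, of_apply, vecMulVec_apply, Pi.single_apply]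
      by_cases hx : x = i <;> by_cases hy : y = j
      · subst hx hy; simp
      · have hy' : ¬ j = y := fun h => hy h.symm
        subst hx; simp [hy, hy']
      · have hx' : ¬ i = x := fun h => hx h.symm
        subst hy; simp [hx, hx']
      · have hx' : ¬ i = x := fun h => hx h.symm
        simp [hx, hx']
    rw [this]
    exact hm
  · intro A B hA hB
    rw [map_mul]
    exact X.mul_mem hA hB

end Cfsg.Agent.Helper1.BlkTr
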