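import Mathlib
import Cfsg.Prelude.Def_GeometricClasses
import Cfsg.Agent.Helper1.BlkTrE

set_option autoImplicit false

/-!
# Maximality of the block-monomial group `GL_m(q) wr S_t ∩ SL` in `SL_{tm}(q)` for `m ≥ 2`
(piece STD-m2 of S5634)
-/

namespace Cfsg.Agent.Helper1.BlkTr

open Matrix Cfsg Cfsg.Agent.Helper7.TGL Cfsg.Agent.Helper7.SLMax Cfsg.Agent.Helper7.Dcp

variable {κ μ : Type} [Fintype κ] [DecidableEq κ] [Fintype μ] [DecidableEq μ]
variable {F : Type*} [Field F]

/-- Abstract form: blocks of size at least two; either blocks of size at least three, or at least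
three blocks and a field with at least three elements. -/
theorem std_max (hμ : ∀ s : μ, ∃ s' : μ, s' ≠ s) (s0 : μ) {k0 l0 : κ} (hkl : k0 ≠ l0)
    (hcase : (∀ s s' : μ, ∃ s'' : μ, s'' ≠ s ∧ s'' ≠ s') ∨
      ((∀ k l : κ, ∃ r : κ, r ≠ k ∧ r ≠ l) ∧ ∃ a : F, a ≠ 0 ∧ a ≠ 1)) :
    Geo.IsMaximalIn (Geo.specialLinear (κ × μ) F) (Nstd κ μ F) := by
  haveI : Nontrivial (κ × μ) := ⟨⟨(k0, s0), (l0, s0), fun h => hkl (congrArg Prod.fst h)⟩⟩
  have hne : (k0, s0) ≠ (l0, s0) := fun h => hkl (congrArg Prod.fst h)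
  constructor
  · refine lt_of_le_of_ne inf_le_right ?_
    intro heq
    have h0 : (Pi.single (l0, s0) (1 : F) : κ × μ → F) ⬝ᵥ Pi.single (k0, s0) 1 = 0 :=
      single_dot_single_ne hne.symm 1 1
    have hmem : tau (Pi.single (k0, s0) 1) (Pi.single (l0, s0) 1) h0 ∈
        blockMono (Prod.fst : κ × μ → κ) := by
      have := tau_mem_specialLinear (Pi.single (k0, s0) (1 : F)) (Pi.single (l0, s0) 1) h0
      rw [← heq] at this
      exact (Subgroup.mem_inf.mp this).1
    obtain ⟨σ, h1, -⟩ := hmem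
    have e1 := h1 (k0, s0) (l0, s0) (by
      rw [tau_val_apply, Matrix.one_apply_ne hne, zero_add, Pi.single_eq_same, Pi.single_eq_same,
        one_mul]
      exact one_ne_zero)
    have e2 := h1 (l0, s0) (l0, s0) (by
      rw [tau_val_apply, Matrix.one_apply_eq, Pi.single_apply, if_neg hne.symm, zero_mul, add_zero]
      exact one_ne_zero)
    exact hkl (e1.trans e2.symm)
  · intro M hNM hMS
    by_cases hMN : M ≤ Nstd κ μ F
    · left; exact le_antisymm hMN hNM
    · right
      apply le_antisymm hMS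
      obtain ⟨g, hgM, hgN⟩ := SetLike.not_le_iff_exists.mp hMN
      have hgb : g ∉ blockMono (Prod.fst : κ × μ → κ) :=
        fun h0 => hgN (Subgroup.mem_inf.mpr ⟨h0, hMS hgM⟩)
      obtain ⟨u, ψ, hT, hu, hψ, hnb⟩ := exists_nonblock hμ s0 hNM hgM hgb
      have hC := cross_of_nonblock hμ hcase hNM hT hu hψ hnb
      obtain ⟨i, j, hij, hP⟩ := pairIn_of_cross hμ hNM hC
      apply specialLinear_le_of_elem
      intro p q hpq a
      by_cases hb : p.1 = q.1
      · exact tin_block hNM (inB_single p a) (inB_single' q hb.symm 1)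
          (single_dot_single_ne hpq.symm _ _)
      · exact hP.all hNM hij hb p q rfl rfl a

theorem exists_third_of_card {α : Type*} [Fintype α] [DecidableEq α] (h : 3 ≤ Fintype.card α)
    (x y : α) : ∃ z : α, z ≠ x ∧ z ≠ y := by
  by_contra hcon
  push Not at hcon
  have hsub : (Finset.univ : Finset α) ⊆ {x, y} := by
    intro z _
    rw [Finset.mem_insert, Finset.mem_singleton]
    by_cases hz : z = x
    · exact Or.inl hz
    · exact Or.inr (hcon z hz)
  have := Finset.card_le_card hsub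
  have h2 : ({x, y} : Finset α).card ≤ 2 := Finset.card_le_two
  rw [Finset.card_univ] at this
  omega

/-- Piece (STD-m2) of S5634, with helper7's exact signature. -/
theorem block_max {F : Type*} [Field F] [Fintype F] {t m : ℕ} (ht : 2 ≤ t) (hm : 2 ≤ m)
    (hn : 13 ≤ t * m) (h2 : ¬ (m = 2 ∧ Fintype.card F = 2)) :
    Cfsg.Geo.IsMaximalIn (Cfsg.Geo.specialLinear (Fin t × Fin m) F)
      (Cfsg.Agent.Helper7.Dcp.blockMono (Prod.fst : Fin t × Fin m → Fin t) ⊓
        Cfsg.Geo.specialLinear (Fin t × Fin m) F) := by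
  classical
  have hμ : ∀ s : Fin m, ∃ s' : Fin m, s' ≠ s := by
    intro s
    haveI : Nontrivial (Fin m) := Fin.nontrivial_iff_two_le.mpr hm
    exact exists_ne s
  have h01 : (⟨0, by omega⟩ : Fin t) ≠ ⟨1, by omega⟩ := by
    intro h; simp [Fin.ext_iff] at h
  refine std_max hμ (⟨0, by omega⟩ : Fin m) h01 ?_
  by_cases hm3 : 3 ≤ m
  · left
    intro s s'
    exact exists_third_of_card (by rw [Fintype.card_fin]; exact hm3) s s'
  · right
    have hm2 : m = 2 := by omega
    have ht3 : 3 ≤ t := by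
      subst hm2
      omega
    refine ⟨fun k l => exists_third_of_card (by rw [Fintype.card_fin]; exact ht3) k l, ?_⟩
    have hF2 : Fintype.card F ≠ 2 := fun h => h2 ⟨hm2, h⟩
    have hF1 : 1 < Fintype.card F := Fintype.one_lt_card
    exact exists_third_of_card (by omega) (0 : F) 1

end Cfsg.Agent.Helper1.BlkTr
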