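import Mathlib
import Cfsg.Prelude.Def_CaseTheorems
import Cfsg.Agent.Lead.BswDefs

set_option autoImplicit false

/-!
S0508 (Brauer-Suzuki-Wall for dihedral Sylow 2-subgroups), PART 1: from the hypotheses of S0508 to
the hypotheses `Cfsg.Agent.Lead.Bsw.Hyp t K s` of S3282.  Definitions.  Architect of Part 1: helper1.
-/

namespace Cfsg.Agent.Helper1.Bsd

variable {G : Type*} [Group G]

/-- The subgroup `O·Z` for two subgroups commuting elementwise. -/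
def mulSub (O Z : Subgroup G) (h : ∀ o ∈ O, ∀ z ∈ Z, o * z = z * o) : Subgroup G where
  carrier := {x | ∃ o ∈ O, ∃ z ∈ Z, x = o * z}
  mul_mem' := by
    rintro a b ⟨o, ho, z, hz, rfl⟩ ⟨o', ho', z', hz', rfl⟩
    refine ⟨o * o', O.mul_mem ho ho', z * z', Z.mul_mem hz hz', ?_⟩
    calc o * z * (o' * z') = o * (z * o') * z' := by group
      _ = o * (o' * z) * z' := by rw [h o' ho' z hz]
      _ = o * o' * (z * z') := by group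
  one_mem' := ⟨1, O.one_mem, 1, Z.one_mem, by simp⟩
  inv_mem' := by
    rintro a ⟨o, ho, z, hz, rfl⟩
    refine ⟨o⁻¹, O.inv_mem ho, z⁻¹, Z.inv_mem hz, ?_⟩
    rw [mul_inv_rev]
    exact (h o⁻¹ (O.inv_mem ho) z⁻¹ (Z.inv_mem hz)).symm

theorem mem_mulSub (O Z : Subgroup G) (h : ∀ o ∈ O, ∀ z ∈ Z, o * z = z * o) (x : G) :
    x ∈ mulSub O Z h ↔ ∃ o ∈ O, ∃ z ∈ Z, x = o * z := Iff.rfl

/-- The data extracted from the hypotheses of S0508: `S` the Sylow 2-subgroup, `O = O(C_G(t))`,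
`Z` a cyclic subgroup of index 2 of `S` through `t` centralizing `O`, `s ∈ S ∖ Z`. -/
structure Dat1 (t : G) (S O Z : Subgroup G) (s : G) : Prop where
  ht : orderOf t = 2
  hSC : S ≤ Subgroup.centralizer ({t} : Set G)
  hOC : O ≤ Subgroup.centralizer ({t} : Set G)
  hOS : ∀ x : G, x ∈ O → x ∈ S → x = 1
  hOodd : ∀ x ∈ O, Odd (orderOf x)
  hS2 : ∀ x ∈ S, ∃ k : ℕ, orderOf x = 2 ^ k
  hfact : ∀ c ∈ Subgroup.centralizer ({t} : Set G), ∃ o ∈ O, ∃ x ∈ S, c = o * x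
  hZS : Z ≤ S
  hZc : ∀ a ∈ Z, ∀ b ∈ Z, a * b = b * a
  hZu : ∀ z ∈ Z, z * z = 1 → z = 1 ∨ z = t
  htZ : t ∈ Z
  hZO : ∀ o ∈ O, ∀ z ∈ Z, o * z = z * o
  hsS : s ∈ S
  hsZ : s ∉ Z
  hs2 : orderOf s = 2
  hsinvZ : ∀ z ∈ Z, s * z * s⁻¹ = z⁻¹
  hsinvO : ∀ o ∈ O, s * o * s⁻¹ = o⁻¹
  hidx : ∀ x ∈ S, x ∉ Z → x * s⁻¹ ∈ Z
  hc : ∀ Y : Subgroup G, Y ≤ O → Y ≠ ⊥ →
    Subgroup.normalizer (Y : Set G) ≤ Subgroup.centralizer ({t} : Set G)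

end Cfsg.Agent.Helper1.Bsd
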