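import Mathlib
import Cfsg.Prelude.Def_CaseTheorems
import Cfsg.Agent.Lead.BswDefs
import Cfsg.Agent.Helper1.BsdDefs1
import Cfsg.Agent.Helper8.Bsd_I8_I9
import Cfsg.Agent.Helper5.Bsd_P4

set_option autoImplicit false

/-! S0508 part 1, pieces I10a, I10b, I10, I11. -/

namespace Cfsg.Agent.Helper1.Bsd

open Cfsg.Agent.Lead.Bsw (Hyp)

variable {G : Type*} [Group G]

section FromDat

variable {t s : G} {S O Z : Subgroup G}

theorem h1_odd_sq_eq_one {o : G} (hodd : Odd (orderOf o)) (h : o * o = 1) : o = 1 := by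
  have h1 : orderOf o ∣ 2 := orderOf_dvd_of_pow_eq_one (by rw [pow_two]; exact h)
  have h2 : orderOf o = 1 := by
    rcases (Nat.dvd_prime Nat.prime_two).mp h1 with h3 | h3
    · exact h3
    · rw [h3] at hodd; exact absurd hodd (by decide)
  exact orderOf_eq_one_iff.mp h2

/-- I10a: the involutions of `K` -/
theorem dat1_invol (D : Dat1 t S O Z s) (x : G) (hx : x ∈ mulSub O Z D.hZO) (h2 : x * x = 1) :
    x = 1 ∨ x = t := by
  obtain ⟨o, ho, z, hz, rfl⟩ := hx
  have hcomm := D.hZO o ho z hz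
  have h3 : (o * o) * (z * z) = 1 := by
    calc (o * o) * (z * z) = o * (o * z) * z := by group
      _ = o * (z * o) * z := by rw [hcomm]
      _ = (o * z) * (o * z) := by group
      _ = 1 := h2
  have h4 : o * o = (z * z)⁻¹ := eq_inv_of_mul_eq_one_left h3
  have h5 : o * o = 1 := D.hOS _ (O.mul_mem ho ho)
    (by rw [h4]; exact (S.inv_mem (S.mul_mem (D.hZS hz) (D.hZS hz))))
  have ho1 : o = 1 := h1_odd_sq_eq_one (D.hOodd o ho) h5
  have hz2 : z * z = 1 := by rw [h5, one_mul] at h3; exact h3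
  rw [ho1, one_mul]
  exact D.hZu z hz hz2

/-- I10b: the elements of odd order of `K` lie in `O` -/
theorem dat1_odd (D : Dat1 t S O Z s) (x : G) (hx : x ∈ mulSub O Z D.hZO)
    (hodd : Odd (orderOf x)) : x ∈ O := by
  obtain ⟨o, ho, z, hz, rfl⟩ := hx
  have hcomm : Commute o z := D.hZO o ho z hz
  set m := orderOf (o * z) with hm
  have h1 : (o * z) ^ m = 1 := pow_orderOf_eq_one _
  rw [hcomm.mul_pow] at h1
  have h2 : o ^ m = (z ^ m)⁻¹ := eq_inv_of_mul_eq_one_left h1
  have h3 : o ^ m = 1 := D.hOS _ (O.pow_mem ho m)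
    (by rw [h2]; exact S.inv_mem (S.pow_mem (D.hZS hz) m))
  have h4 : z ^ m = 1 := by rw [h3, one_mul] at h1; exact h1
  obtain ⟨k, hk⟩ := D.hS2 z (D.hZS hz)
  have h5 : 2 ^ k ∣ m := by rw [← hk]; exact orderOf_dvd_of_pow_eq_one h4
  have hk0 : k = 0 := by
    by_contra hk0
    have : 2 ∣ m := dvd_trans (dvd_pow_self 2 hk0) h5
    exact (Nat.not_even_iff_odd.mpr hodd) (even_iff_two_dvd.mpr this)
  have hz1 : z = 1 := by
    rw [hk0, pow_zero] at hk
    exact orderOf_eq_one_iff.mp hk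
  rw [hz1, mul_one]
  exact ho

/-- I10: `C_K(s) = ⟨t⟩` -/
theorem dat1_CK (D : Dat1 t S O Z s) :
    mulSub O Z D.hZO ⊓ Subgroup.centralizer ({s} : Set G) = Subgroup.zpowers t := by
  obtain ⟨-, -, htK, hsC, -, hinv⟩ := dat1_easy D
  apply le_antisymm
  · rintro x ⟨hxK, hxs⟩
    have hxs' : x * s = s * x := Subgroup.mem_centralizer_singleton_iff.mp hxs
    have h1 : s * x * s⁻¹ = x := by rw [← hxs']; group
    have h2 : x⁻¹ = x := by rw [← hinv x hxK, h1]
    have h3 : x * x = 1 := by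
      nth_rewrite 1 [← h2]
      exact inv_mul_cancel x
    rcases dat1_invol D x hxK h3 with h | h
    · rw [h]; exact Subgroup.one_mem _
    · rw [h]; exact Subgroup.mem_zpowers t
  · rw [Subgroup.zpowers_le]
    have hts : t ∈ Subgroup.centralizer ({s} : Set G) := by
      rw [Subgroup.mem_centralizer_singleton_iff]
      exact (Subgroup.mem_centralizer_singleton_iff.mp hsC).symm
    exact ⟨htK, hts⟩

/-- I11: the TI property -/
theorem dat1_TI [Finite G] (D : Dat1 t S O Z s) (g : G)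
    (hg : g ∉ Subgroup.centralizer ({t} : Set G)) :
    mulSub O Z D.hZO ⊓ (mulSub O Z D.hZO).map (MulAut.conj g).toMonoidHom = ⊥ := by
  obtain ⟨hKab, -, htK, -, -, hinv⟩ := dat1_easy D
  have hcomm : ∀ a ∈ mulSub O Z D.hZO, ∀ b ∈ mulSub O Z D.hZO, a * b = b * a := by
    intro a ha b hb
    have := hKab.is_comm.comm ⟨a, ha⟩ ⟨b, hb⟩
    exact congrArg Subtype.val this
  refine Cfsg.Agent.Helper2.Bsd.p4_TI t D.ht (mulSub O Z D.hZO) O hcomm htK ?_ ?_ (fun x hx h => dat1_odd D x hx h) D.hc g hg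
  · intro x hx hx2
    have h2 : x * x = 1 := by
      have := pow_orderOf_eq_one x
      rwa [hx2, pow_two] at this
    rcases dat1_invol D x hx h2 with h | h
    · exfalso
      rw [h, orderOf_one] at hx2
      omega
    · exact h
  · intro u hu huK x hx
    rcases dat1_cases D u hu with h | ⟨k, hk, rfl⟩
    · exact (huK h).elim
    · have h1 : k * s * x * (k * s)⁻¹ = k * (s * x * s⁻¹) * k⁻¹ := by group
      rw [h1, hinv x hx]
      have h2 := hcomm k hk x⁻¹ ((mulSub O Z D.hZO).inv_mem hx)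
      rw [h2]; group

end FromDat

end Cfsg.Agent.Helper1.Bsd
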