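import Mathlib
import Cfsg.Prelude.Def_CaseTheorems
import Cfsg.Agent.Lead.BswDefs
import Cfsg.Agent.Helper1.BsdDefs1
import Cfsg.Agent.Helper1.Fitting
import Cfsg.Agent.S0514

set_option autoImplicit false

/-! S0508 part 1, pieces I5 (`fact_of_S0514`) and I5b (`sylow_two_facts`). -/

namespace Cfsg.Agent.Helper1.Bsd

variable {G : Type*} [Group G]

/-- I5b: elements of a Sylow 2-subgroup have 2-power order; an element of odd order in it is 1. -/
theorem sylow_two_facts [Finite G] (S : Sylow 2 G) :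
    (∀ x ∈ (S : Subgroup G), ∃ k : ℕ, orderOf x = 2 ^ k) ∧
    (∀ x ∈ (S : Subgroup G), Odd (orderOf x) → x = 1) := by
  have h1 : ∀ x ∈ (S : Subgroup G), ∃ k : ℕ, orderOf x = 2 ^ k := by
    intro x hx
    obtain ⟨k, hk⟩ := S.2 ⟨x, hx⟩
    have h2 : x ^ 2 ^ k = 1 := by
      have := congrArg Subtype.val hk
      simpa using this
    have h3 : orderOf x ∣ 2 ^ k := orderOf_dvd_of_pow_eq_one h2
    obtain ⟨j, -, hj⟩ := (Nat.dvd_prime_pow Nat.prime_two).mp h3
    exact ⟨j, hj⟩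
  refine ⟨h1, ?_⟩
  intro x hx hodd
  obtain ⟨k, hk⟩ := h1 x hx
  have hk0 : k = 0 := by
    by_contra hk0
    have : 2 ∣ orderOf x := by rw [hk]; exact dvd_pow_self 2 hk0
    exact (Nat.not_even_iff_odd.mpr hodd) (even_iff_two_dvd.mpr this)
  rw [hk0, pow_zero] at hk
  exact orderOf_eq_one_iff.mp hk

/-- I5: `C_G(t) = O·S` and the basic properties of `O = O(C_G(t))` (uses the landed S0514). -/
theorem fact_of_S0514 [Finite G] (S : Sylow 2 G) (n : ℕ) (hn : 2 ≤ n)
    (hS : Nonempty ((S : Subgroup G) ≃* DihedralGroup n)) (t : G) (ht : orderOf t = 2)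
    (htZ : ∀ s ∈ (S : Subgroup G), s * t = t * s) (O : Subgroup G)
    (hO : O = (Cfsg.oddCore (Subgroup.centralizer ({t} : Set G))).map
      (Subgroup.centralizer ({t} : Set G)).subtype) :
    (∀ c ∈ Subgroup.centralizer ({t} : Set G), ∃ o ∈ O, ∃ x ∈ (S : Subgroup G), c = o * x) ∧
    (∀ x ∈ O, Odd (orderOf x)) ∧ O ≤ Subgroup.centralizer ({t} : Set G) := by
  have : Fact (Nat.Prime 2) := ⟨Nat.prime_two⟩
  set C := Subgroup.centralizer ({t} : Set G) with hC
  obtain ⟨N, hN, hNodd, k, hNk⟩ := Cfsg.Agent.S0514.result S n hn hS t ht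
  set oc : Subgroup ↥C := Cfsg.oddCore ↥C with hoc
  have hoc' : oc = Cfsg.pPrimeCore 2 ↥C := rfl
  have hNle : N ≤ oc := by
    rw [hoc']
    exact Cfsg.Agent.Helper1.le_pPrimeCore hN (Nat.Coprime.symm (Nat.coprime_two_left.mpr hNodd))
  have hcop : (Nat.card oc).Coprime 2 := by
    rw [hoc']; exact Cfsg.Agent.Helper1.card_pPrimeCore_coprime 2
  have hocodd : Odd (Nat.card oc) := Nat.coprime_two_left.mp hcop.symm
  obtain ⟨j, -, hj⟩ : ∃ j, j ≤ k ∧ oc.index = 2 ^ j := by
    have h1 : oc.index ∣ N.index := Subgroup.index_dvd_of_le hNle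
    rw [hNk] at h1
    exact (Nat.dvd_prime_pow Nat.prime_two).mp h1
  have hSC : (S : Subgroup G) ≤ C := by
    intro x hx
    exact Subgroup.mem_centralizer_singleton_iff.mpr (htZ x hx)
  set SC : Subgroup ↥C := (S : Subgroup G).subgroupOf C with hSCdef
  have hcardSC : Nat.card SC = Nat.card (S : Subgroup G) :=
    Nat.card_congr (Subgroup.subgroupOfEquivOfLe hSC).toEquiv
  have hcardS : Nat.card (S : Subgroup G) = 2 ^ (Nat.card G).factorization 2 :=
    S.card_eq_multiplicity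
  have hcardC : Nat.card oc * 2 ^ j = Nat.card ↥C := by
    rw [← hj]; exact oc.card_mul_index
  -- |S| = 2^j
  have hSj : Nat.card (S : Subgroup G) = 2 ^ j := by
    apply Nat.dvd_antisymm
    · have h1 : Nat.card SC ∣ Nat.card ↥C := Subgroup.card_subgroup_dvd_card SC
      rw [hcardSC, ← hcardC] at h1
      have h2 : (Nat.card (S : Subgroup G)).Coprime (Nat.card oc) := by
        rw [hcardS]
        exact Nat.Coprime.pow_left _ hcop.symm
      exact h2.dvd_of_dvd_mul_left h1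
    · have h1 : 2 ^ j ∣ Nat.card G := by
        have h2 : 2 ^ j ∣ Nat.card ↥C := ⟨Nat.card oc, by rw [← hcardC]; ring⟩
        exact dvd_trans h2 (Subgroup.card_subgroup_dvd_card C)
      rw [hcardS]
      have hG0 : Nat.card G ≠ 0 := Nat.card_pos.ne'
      exact pow_dvd_pow 2 ((Nat.prime_two.pow_dvd_iff_le_factorization hG0).mp h1)
  have hcompl : oc.IsComplement' SC := by
    apply Subgroup.isComplement'_of_coprime
    · rw [hcardSC, hSj]; exact hcardC
    · rw [hcardSC, hSj]; exact Nat.Coprime.pow_right _ hcop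
  have hOmem : ∀ y : ↥C, y ∈ oc → (y : G) ∈ O := by
    intro y hy
    rw [hO]
    exact Subgroup.mem_map.mpr ⟨y, hy, rfl⟩
  refine ⟨?_, ?_, ?_⟩
  · intro c hc
    obtain ⟨⟨⟨o, ho⟩, ⟨x, hx⟩⟩, hox, -⟩ := hcompl.existsUnique (⟨c, hc⟩ : ↥C)
    refine ⟨(o : G), hOmem o ho, (x : G), Subgroup.mem_subgroupOf.mp hx, ?_⟩
    have := congrArg Subtype.val hox
    simpa using this.symm
  · intro x hx
    rw [hO] at hx
    obtain ⟨y, hy, rfl⟩ := Subgroup.mem_map.mp hx
    have h1 : orderOf ((C.subtype y : G)) = orderOf y := by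
      exact orderOf_injective C.subtype C.subtype_injective y
    rw [h1]
    have h2 : orderOf (⟨y, hy⟩ : ↥oc) ∣ Nat.card oc := orderOf_dvd_natCard _
    have h3 : orderOf (⟨y, hy⟩ : ↥oc) = orderOf y := Subgroup.orderOf_mk y hy
    rw [h3] at h2
    exact Odd.of_dvd_nat hocodd h2
  · rw [hO]
    exact Subgroup.map_subtype_le _

end Cfsg.Agent.Helper1.Bsd
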