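import Mathlib
import Cfsg.Prelude.Def_CaseTheorems
import Cfsg.Agent.Lead.BswDefs
import Cfsg.Agent.Helper1.BsdDefs1
import Cfsg.Agent.Helper9.Bsd_I1_I2
import Cfsg.Agent.Helper3.Bsd_I3
import Cfsg.Agent.Helper8.Bsd_I4
import Cfsg.Agent.Helper1.Bsd_I5
import Cfsg.Agent.Helper9.Bsd_I6
import Cfsg.Agent.Helper8.Bsd_I8_I9
import Cfsg.Agent.Helper1.Bsd_I10_I11

set_option autoImplicit false

/-!
S0508, PART 1 (assembly): from the hypotheses of S0508 to `Cfsg.Agent.Lead.Bsw.Hyp t K s`.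
-/

namespace Cfsg.Agent.Helper1.Bsd

open Cfsg.Agent.Lead.Bsw (Hyp)

variable {G : Type*} [Group G]

theorem hyp_of_dat1 [Finite G] {t s : G} {S O Z : Subgroup G} (D : Dat1 t S O Z s)
    (hconj : ∀ x y : G, orderOf x = 2 → orderOf y = 2 → IsConj x y) :
    Hyp t (mulSub O Z D.hZO) s := by
  obtain ⟨h1, h2, h3, h4, h5, h6⟩ := dat1_easy D
  exact ⟨D.ht, h1, h2, h3, D.hs2, h4, h5, dat1_sup D, dat1_CK D, h6,
    fun g hg => dat1_TI D g hg, hconj⟩

theorem exists_dat1 [Finite G] (S : Sylow 2 G) (n : ℕ)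
    (hn : 2 ≤ n) (hS : Nonempty ((S : Subgroup G) ≃* DihedralGroup n)) (t : G) (ht : orderOf t = 2)
    (htS : t ∈ (S : Subgroup G))
    (htZ : ∀ s ∈ (S : Subgroup G), s * t = t * s) (O : Subgroup G)
    (hO : O = (Cfsg.oddCore (Subgroup.centralizer ({t} : Set G))).map
      (Subgroup.centralizer ({t} : Set G)).subtype)
    (ha : O ≠ ⊥ → IsCyclic ((S : Subgroup G) ⊓ Subgroup.centralizer (O : Set G) : Subgroup G) ∧
      ((S : Subgroup G) ⊓ Subgroup.centralizer (O : Set G)).relIndex (S : Subgroup G) = 2)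
    (hb : ∀ s ∈ (S : Subgroup G), s ∉ Subgroup.centralizer (O : Set G) → ∀ y ∈ O, s * y * s⁻¹ = y⁻¹)
    (hc : ∀ Y : Subgroup G, Y ≤ O → Y ≠ ⊥ →
      Subgroup.normalizer (Y : Set G) ≤ Subgroup.centralizer ({t} : Set G)) :
    ∃ (Z : Subgroup G) (s : G), Dat1 t (S : Subgroup G) O Z s ∧
      Z.relIndex (S : Subgroup G) = 2 := by
  obtain ⟨e⟩ := hS
  obtain ⟨hfact, hOodd, hOC⟩ := fact_of_S0514 S n hn ⟨e⟩ t ht htZ O hO
  obtain ⟨hS2, hSodd⟩ := sylow_two_facts S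
  have hZex : ∃ Z : Subgroup G, Z ≤ (S : Subgroup G) ∧ IsCyclic ↥Z ∧
      Z.relIndex (S : Subgroup G) = 2 ∧ t ∈ Z ∧ (∀ o ∈ O, ∀ z ∈ Z, o * z = z * o) ∧
      (∀ x ∈ (S : Subgroup G), x ∉ Z → ∀ o ∈ O, x * o * x⁻¹ = o⁻¹) := by
    by_cases hO1 : O = ⊥
    · obtain ⟨Z, hZS, hZc, hZi, htZ'⟩ := sub_exists (S : Subgroup G) n hn e t htS ht htZ
      refine ⟨Z, hZS, hZc, hZi, htZ', ?_, ?_⟩
      · intro o ho z _
        rw [hO1, Subgroup.mem_bot] at ho
        rw [ho]; simp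
      · intro x _ _ o ho
        rw [hO1, Subgroup.mem_bot] at ho
        rw [ho]; simp
    · obtain ⟨hcyc, hidx⟩ := ha hO1
      have htO : t ∈ Subgroup.centralizer (O : Set G) := by
        rw [Subgroup.mem_centralizer_iff]
        intro o ho
        have := hOC ho
        rw [Subgroup.mem_centralizer_singleton_iff] at this
        exact this
      refine ⟨(S : Subgroup G) ⊓ Subgroup.centralizer (O : Set G), inf_le_left, hcyc, hidx,
        ⟨htS, htO⟩, ?_, ?_⟩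
      · intro o ho z hz
        exact (Subgroup.mem_centralizer_iff.mp hz.2) o ho
      · intro x hxS hxZ o ho
        exact hb x hxS (fun h => hxZ ⟨hxS, h⟩) o ho
  obtain ⟨Z, hZS, hZc, hZi, htZ', hZO, hinvO⟩ := hZex
  obtain ⟨hZcomm, hZuniq⟩ := cyclic_facts Z hZc
  have hout := sub_outside (S : Subgroup G) n hn e Z hZS hZc hZi
  obtain ⟨s, hsS, hsZ⟩ : ∃ s ∈ (S : Subgroup G), s ∉ Z := by
    by_contra hcon
    push Not at hcon
    have h1 : (S : Subgroup G) ≤ Z := hcon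
    have h2 : Z.relIndex (S : Subgroup G) = 1 := Subgroup.relIndex_eq_one.mpr h1
    omega
  obtain ⟨hss, hsinv⟩ := hout s hsS hsZ
  have hs1 : s ≠ 1 := fun h => hsZ (h ▸ Z.one_mem)
  have hs2 : orderOf s = 2 := orderOf_eq_prime (by rw [pow_two]; exact hss) hs1
  have htt : t * t = 1 := by
    have := pow_orderOf_eq_one t
    rwa [ht, pow_two] at this
  have ht1 : t ≠ 1 := by
    intro h
    rw [h, orderOf_one] at ht
    omega
  refine ⟨Z, s, ⟨ht, ?_, hOC, ?_, hOodd, hS2, hfact, hZS, hZcomm, ?_, htZ', hZO, hsS, hsZ, hs2,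
    hsinv, hinvO s hsS hsZ, ?_, hc⟩, hZi⟩
  · intro x hx
    exact Subgroup.mem_centralizer_singleton_iff.mpr (htZ x hx)
  · intro x hxO hxS
    exact hSodd x hxS (hOodd x hxO)
  · intro z hz hz2
    by_cases h1 : z = 1
    · left; exact h1
    · right; exact hZuniq z hz t htZ' hz2 htt h1 ht1
  · intro x hx hxZ
    exact relIndex_two_mul (S : Subgroup G) Z hZS hZi x s hx hsS hxZ hsZ

/-- PART 1 of S0508. -/
theorem part1 {G : Type*} [Group G] [Finite G] [IsSimpleGroup G] (S : Sylow 2 G) (n : ℕ)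
    (hn : 2 ≤ n) (hS : Nonempty ((S : Subgroup G) ≃* DihedralGroup n)) (t : G) (ht : orderOf t = 2)
    (htS : t ∈ (S : Subgroup G))
    (htZ : ∀ s ∈ (S : Subgroup G), s * t = t * s) (O : Subgroup G)
    (hO : O = (Cfsg.oddCore (Subgroup.centralizer ({t} : Set G))).map
      (Subgroup.centralizer ({t} : Set G)).subtype)
    (ha : O ≠ ⊥ → IsCyclic ((S : Subgroup G) ⊓ Subgroup.centralizer (O : Set G) : Subgroup G) ∧
      ((S : Subgroup G) ⊓ Subgroup.centralizer (O : Set G)).relIndex (S : Subgroup G) = 2)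
    (hb : ∀ s ∈ (S : Subgroup G), s ∉ Subgroup.centralizer (O : Set G) → ∀ y ∈ O, s * y * s⁻¹ = y⁻¹)
    (hc : ∀ Y : Subgroup G, Y ≤ O → Y ≠ ⊥ →
      Subgroup.normalizer (Y : Set G) ≤ Subgroup.centralizer ({t} : Set G)) :
    ∃ (K : Subgroup G) (s : G), Cfsg.Agent.Lead.Bsw.Hyp t K s := by
  obtain ⟨Z, s, D, hZi⟩ := exists_dat1 S n hn hS t ht htS htZ O hO ha hb hc
  have h4 : 4 ≤ Nat.card (S : Subgroup G) := by
    obtain ⟨e⟩ := hS
    rw [Nat.card_congr e.toEquiv, DihedralGroup.nat_card]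
    omega
  exact ⟨mulSub O Z D.hZO, s,
    hyp_of_dat1 D (one_class S h4 Z D.hZS hZi t ht D.htZ D.hZu)⟩

end Cfsg.Agent.Helper1.Bsd
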