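import Mathlib
import Cfsg.Prelude.Def_Characters
import Cfsg.Agent.Lead.BswDefs

set_option autoImplicit false

/-!
Definitions for the character side of the swarm on S3282 (abstract Brauer-Suzuki-Wall).
Architect: helper1.  Blueprint: `notes/helper1_S3282_char_blueprint.md`.
`F` and `nInv` are the ones of `Cfsg.Agent.Lead.BswDefs`.
-/

namespace Cfsg.Agent.Helper1.BswCh

open scoped ComplexConjugate Classical
open Cfsg.Agent.Lead.Bsw (F nInv)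

universe u

variable {G : Type u} [Group G]

/-- `y` is conjugate to an element of `K`. -/
def ConjInto (K : Subgroup G) (y : G) : Prop := ∃ g : G, g * y * g⁻¹ ∈ K

/-- The inputs delivered by the group side (lead). `H = C_G(t)`, `k = |K| ≥ 4`. -/
structure Inp (t : G) (K : Subgroup G) : Prop where
  ht : orderOf t = 2
  htK : t ∈ K
  comm : ∀ a ∈ K, ∀ b ∈ K, a * b = b * a
  uniq : ∀ x ∈ K, orderOf x = 2 → x = t
  KH : K ≤ Subgroup.centralizer ({t} : Set G)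
  cardH : Nat.card (Subgroup.centralizer ({t} : Set G)) = 2 * Nat.card K
  inv : ∀ u ∈ Subgroup.centralizer ({t} : Set G), u ∉ K → ∀ x ∈ K, u * x * u⁻¹ = x⁻¹
  ti : ∀ g : G, ∀ x ∈ K, x ≠ 1 → g * x * g⁻¹ ∈ K → g ∈ Subgroup.centralizer ({t} : Set G)
  hF : ∀ x ∈ K, x ≠ 1 → F x = Nat.card K
  hn : nInv G % Nat.card K = 1
  hG : Nat.card G = 2 * Nat.card K * nInv G
  allconj : ∀ x y : G, orderOf x = 2 → orderOf y = 2 → IsConj x y
  k4 : 4 ≤ Nat.card K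

/-- The dual group of `K`. -/
abbrev Dual (K : Subgroup G) : Type u := ↥K →* ℂˣ

noncomputable instance dualFintype [Finite G] (K : Subgroup G) : Fintype (Dual K) :=
  Fintype.ofFinite _

/-- A homomorphism `K → ℂˣ` as a complex function on `K`. -/
def lam {K : Subgroup G} (l : Dual K) : ↥K → ℂ := fun x => ((l x : ℂˣ) : ℂ)

/-- `D_l = Ind_K^G (1 - l)`. -/
noncomputable def Dl [Fintype G] (K : Subgroup G) (l : Dual K) : G → ℂ :=
  Cfsg.indFun K (fun x => 1 - lam l x)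

/-- The (integer) multiplicity of the irreducible character `ψ` in `D_l`. -/
noncomputable def ai [Fintype G] (K : Subgroup G) (l : Dual K) (ψ : Cfsg.IrrCharacter G) : ℤ :=
  ⌊(Cfsg.classInner (Dl K l) (ψ : G → ℂ)).re⌋

/-- The degree of an irreducible character, as an integer. -/
noncomputable def dg (ψ : Cfsg.IrrCharacter G) : ℤ := ⌊((ψ : G → ℂ) 1).re⌋

/-- Kronecker delta with integer values. -/
noncomputable def kd {α : Type*} (a b : α) : ℤ := if a = b then 1 else 0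

/-- The generic part of the decomposition pattern: `D_l = 1 + e χ - e Θ_l` for `l² ≠ 1`. -/
structure Pat0 [Fintype G] (K : Subgroup G) (e : ℤ) (o χ : Cfsg.IrrCharacter G)
    (Θ : Dual K → Cfsg.IrrCharacter G) : Prop where
  he : e = 1 ∨ e = -1
  ho : (o : G → ℂ) = fun _ => 1
  hχo : χ ≠ o
  hΘ : ∀ l : Dual K, l * l ≠ 1 → Θ l ≠ o ∧ Θ l ≠ χ
  hΘinv : ∀ l : Dual K, Θ l⁻¹ = Θ l
  hΘinj : ∀ l m : Dual K, l * l ≠ 1 → m * m ≠ 1 → Θ l = Θ m → m = l ∨ m = l⁻¹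
  hai : ∀ l : Dual K, l * l ≠ 1 → ∀ ψ, ai K l ψ = kd ψ o + e * kd ψ χ - e * kd ψ (Θ l)

/-- The full pattern: moreover `D_{l0} = 1 + e χ + s1 ξ1 + s2 ξ2` for the element `l0` of order 2
of the dual group. -/
structure Pat [Fintype G] (K : Subgroup G) (l0 : Dual K) (e : ℤ) (o χ ξ1 ξ2 : Cfsg.IrrCharacter G)
    (Θ : Dual K → Cfsg.IrrCharacter G) (s1 s2 : ℤ) : Prop where
  p0 : Pat0 K e o χ Θ
  hl0 : l0 ≠ 1 ∧ l0 * l0 = 1
  hl0u : ∀ l : Dual K, l * l = 1 → l = 1 ∨ l = l0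
  hs1 : s1 = 1 ∨ s1 = -1
  hs2 : s2 = 1 ∨ s2 = -1
  hξ12 : ξ1 ≠ ξ2
  hξ1 : ξ1 ≠ o ∧ ξ1 ≠ χ
  hξ2 : ξ2 ≠ o ∧ ξ2 ≠ χ
  hΘξ : ∀ l : Dual K, l * l ≠ 1 → Θ l ≠ ξ1 ∧ Θ l ≠ ξ2
  hai0 : ∀ ψ, ai K l0 ψ = kd ψ o + e * kd ψ χ + s1 * kd ψ ξ1 + s2 * kd ψ ξ2

/-- The alternative shape of `D_{l0}`, to be excluded (or renamed away when `|K| = 4`). -/
def Alt [Fintype G] (K : Subgroup G) (l0 : Dual K) (e : ℤ) (χ : Cfsg.IrrCharacter G)
    (Θ : Dual K → Cfsg.IrrCharacter G) : Prop :=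
  ai K l0 χ = 0 ∧ ∀ l : Dual K, l * l ≠ 1 → ai K l0 (Θ l) = -e

/-- There are at least two classes `{l, l⁻¹}` with `l² ≠ 1` (i.e. `|K| ≥ 6`). -/
def TwoCl (K : Subgroup G) : Prop :=
  ∃ l m : Dual K, l * l ≠ 1 ∧ m * m ≠ 1 ∧ m ≠ l ∧ m ≠ l⁻¹

-- on-demand lemmas, cited once here so that piece files find them in this module
theorem lam_apply {K : Subgroup G} (l : Dual K) (x : ↥K) : lam l x = ((l x : ℂˣ) : ℂ) := rfl
theorem Dl_def [Fintype G] (K : Subgroup G) (l : Dual K) :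
    Dl K l = Cfsg.indFun K (fun x => 1 - lam l x) := rfl
theorem ai_def [Fintype G] (K : Subgroup G) (l : Dual K) (ψ : Cfsg.IrrCharacter G) :
    ai K l ψ = ⌊(Cfsg.classInner (Dl K l) (ψ : G → ℂ)).re⌋ := rfl
theorem dg_def (ψ : Cfsg.IrrCharacter G) : dg ψ = ⌊((ψ : G → ℂ) 1).re⌋ := rfl
theorem kd_def {α : Type*} (a b : α) : kd a b = if a = b then 1 else 0 := rfl
theorem kd_self {α : Type*} (a : α) : kd a a = 1 := by simp [kd]
theorem kd_ne {α : Type*} {a b : α} (h : a ≠ b) : kd a b = 0 := by simp [kd, h]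
theorem kd_comm {α : Type*} (a b : α) : kd a b = kd b a := by
  unfold kd; by_cases h : a = b
  · subst h; rfl
  · rw [if_neg h, if_neg (fun h' => h h'.symm)]
theorem Alt_def [Fintype G] (K : Subgroup G) (l0 : Dual K) (e : ℤ) (χ : Cfsg.IrrCharacter G)
    (Θ : Dual K → Cfsg.IrrCharacter G) :
    Alt K l0 e χ Θ ↔ (ai K l0 χ = 0 ∧ ∀ l : Dual K, l * l ≠ 1 → ai K l0 (Θ l) = -e) := Iff.rfl
theorem TwoCl_def (K : Subgroup G) :
    TwoCl K ↔ ∃ l m : Dual K, l * l ≠ 1 ∧ m * m ≠ 1 ∧ m ≠ l ∧ m ≠ l⁻¹ := Iff.rfl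
theorem ConjInto_def (K : Subgroup G) (y : G) : ConjInto K y ↔ ∃ g : G, g * y * g⁻¹ ∈ K := Iff.rfl

/-- `∑ i, kd i a * g i = g a` (integers). -/
theorem sum_kd_mul {α : Type*} [Fintype α] (a : α) (g : α → ℤ) : ∑ i, kd i a * g i = g a := by
  simp [kd]
/-- `∑ i, kd i a * g i = g a` (complex numbers). -/
theorem sum_kd_mul_complex {α : Type*} [Fintype α] (a : α) (g : α → ℂ) :
    ∑ i, (kd i a : ℂ) * g i = g a := by
  simp [kd]

end Cfsg.Agent.Helper1.BswCh
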