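import Mathlib
import Cfsg.Prelude.Def_Characters
import Cfsg.Agent.Helper1.BswChDefs

set_option autoImplicit false

/-!
S3282 character side: group-law wrappers for `Dual K` (the generic lemmas `inv_inv`, `one_mul`, ...
do not fire under `rw`/`simp` on `↥K →* ℂˣ` because of instance paths; these wrappers do).
-/

namespace Cfsg.Agent.Helper1.BswCh

open scoped ComplexConjugate Classical
open Cfsg.Agent.Lead.Bsw (F nInv)

universe u

variable {G : Type u} [Group G] {K : Subgroup G}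

theorem dual_inv_inv (l : Dual K) : l⁻¹⁻¹ = l := inv_inv l
theorem dual_one_mul (l : Dual K) : 1 * l = l := one_mul l
theorem dual_mul_one (l : Dual K) : l * 1 = l := mul_one l
theorem dual_inv_one : (1 : Dual K)⁻¹ = 1 := @inv_one (Dual K) _
theorem dual_mul_comm (l m : Dual K) : l * m = m * l := mul_comm l m
theorem dual_mul_assoc (l m p : Dual K) : l * m * p = l * (m * p) := mul_assoc l m p
theorem dual_mul_inv_cancel (l : Dual K) : l * l⁻¹ = 1 := mul_inv_cancel l
theorem dual_inv_mul_cancel (l : Dual K) : l⁻¹ * l = 1 := inv_mul_cancel l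
theorem dual_mul_inv_rev (l m : Dual K) : (l * m)⁻¹ = m⁻¹ * l⁻¹ := mul_inv_rev l m
theorem dual_inv_eq_of_mul_eq_one {l m : Dual K} (h : l * m = 1) : l⁻¹ = m :=
  @inv_eq_of_mul_eq_one_right (Dual K) _ l m h
theorem dual_eq_inv_of_mul_eq_one {l m : Dual K} (h : l * m = 1) : l = m⁻¹ :=
  @eq_inv_of_mul_eq_one_left (Dual K) _ l m h
theorem dual_mul_eq_one_iff {l m : Dual K} : l * m = 1 ↔ l = m⁻¹ :=
  @mul_eq_one_iff_eq_inv (Dual K) _ l m
theorem dual_inv_eq_self_iff (l : Dual K) : l⁻¹ = l ↔ l * l = 1 := by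
  constructor
  · intro h
    have := dual_inv_mul_cancel l
    rwa [h] at this
  · intro h
    exact dual_inv_eq_of_mul_eq_one h
theorem dual_inv_ne_self_iff (l : Dual K) : l⁻¹ ≠ l ↔ l * l ≠ 1 :=
  not_congr (dual_inv_eq_self_iff l)
theorem dual_ne_one_of_sq_ne_one {l : Dual K} (h : l * l ≠ 1) : l ≠ 1 := by
  intro h'
  apply h
  rw [h', dual_one_mul]
theorem dual_inv_inj {l m : Dual K} (h : l⁻¹ = m⁻¹) : l = m := inv_injective h
theorem dual_sq_inv {l : Dual K} (h : l * l ≠ 1) : l⁻¹ * l⁻¹ ≠ 1 := by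
  intro h'
  apply h
  have h1 : (l * l)⁻¹ = 1 := by rw [dual_mul_inv_rev]; exact h'
  have h2 : (l * l)⁻¹⁻¹ = 1 := by rw [h1]; exact dual_inv_one
  rwa [dual_inv_inv] at h2
theorem dual_one_apply (x : ↥K) : (1 : Dual K) x = 1 := rfl
theorem dual_mul_apply (l m : Dual K) (x : ↥K) : (l * m) x = l x * m x := rfl
theorem dual_inv_apply (l : Dual K) (x : ↥K) : l⁻¹ x = (l x)⁻¹ := rfl

/-! ### norms (HU0 itself is in `Cfsg/Agent/Helper8/BswCh_HU.lean`) -/

theorem dual_lam_norm [Finite G] (l : Dual K) (x : ↥K) : ‖lam l x‖ = 1 := by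
  have hx : x ^ orderOf x = 1 := pow_orderOf_eq_one x
  have h1 : (lam l x) ^ orderOf x = 1 := by
    have : (l x) ^ orderOf x = 1 := by rw [← map_pow, hx, map_one]
    have h2 := congrArg (fun u : ℂˣ => (u : ℂ)) this
    simpa [lam] using h2
  exact Complex.norm_eq_one_of_pow_eq_one h1 (orderOf_pos x).ne'

theorem dual_lam_ne_zero (l : Dual K) (x : ↥K) : lam l x ≠ 0 := by
  simp [lam]

end Cfsg.Agent.Helper1.BswCh
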