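import Mathlib
import Cfsg.Prelude.Def_Characters
import Cfsg.Agent.Helper1.BswChDefs
import Cfsg.Agent.Helper1.BswChDual
import Cfsg.Agent.Helper9.BswCh_HK
import Cfsg.Agent.Helper8.BswCh_HU
import Cfsg.Agent.Helper6.BswCh_HC
import Cfsg.Agent.Helper8.BswCh_HM

set_option autoImplicit false

/-! S3282 character side, pieces HP1 (`exists_pat0`) and HP2 (`pat_or_alt`). -/

namespace Cfsg.Agent.Helper1.BswCh

open scoped ComplexConjugate Classical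
open Cfsg.Agent.Lead.Bsw (F nInv)

universe u

variable {G : Type u} [Group G]

/-- HP2 -/
theorem pat_or_alt [Fintype G] [Fintype (Cfsg.IrrCharacter G)] {t : G} {K : Subgroup G}
    (I : Inp t K) (l0 : Dual K) (hl0 : l0 ≠ 1 ∧ l0 * l0 = 1)
    (hl0u : ∀ l : Dual K, l * l = 1 → l = 1 ∨ l = l0)
    {e : ℤ} {o χ : Cfsg.IrrCharacter G} {Θ : Dual K → Cfsg.IrrCharacter G} (P0 : Pat0 K e o χ Θ) :
    (∃ (ξ1 ξ2 : Cfsg.IrrCharacter G) (s1 s2 : ℤ), Pat K l0 e o χ ξ1 ξ2 Θ s1 s2) ∨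
      Alt K l0 e χ Θ := by
  have hl0inv : l0⁻¹ = l0 := (dual_inv_eq_self_iff l0).mpr hl0.2
  have h4 : ∑ ψ : Cfsg.IrrCharacter G, ai K l0 ψ * ai K l0 ψ = 4 := by
    rw [gram I l0 l0 hl0.1 hl0.1, hl0inv, kd_self]; norm_num
  have h2 : ∀ l : Dual K, l⁻¹ ≠ l →
      ∑ ψ : Cfsg.IrrCharacter G, ai K l0 ψ * (kd ψ o + e * kd ψ χ - e * kd ψ (Θ l)) = 2 := by
    intro l hl
    have hl' := (dual_inv_ne_self_iff l).mp hl
    have hl1 : l ≠ 1 := dual_ne_one_of_sq_ne_one hl'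
    have hg := gram I l0 l hl0.1 hl1
    have hne1 : l0 ≠ l := fun h => hl' (h ▸ hl0.2)
    have hne2 : l0 ≠ l⁻¹ := by
      intro h
      apply hl'
      have h3 : l = l0 := by rw [← dual_inv_inv l, ← h, hl0inv]
      rw [h3]; exact hl0.2
    rw [kd_ne hne1, kd_ne hne2] at hg
    have : ∑ ψ : Cfsg.IrrCharacter G, ai K l0 ψ * (kd ψ o + e * kd ψ χ - e * kd ψ (Θ l)) =
        ∑ ψ : Cfsg.IrrCharacter G, ai K l0 ψ * ai K l ψ := by
      apply Finset.sum_congr rfl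
      intro ψ _
      rw [P0.hai l hl' ψ]
    rw [this, hg]; norm_num
  obtain ⟨m0, hm0⟩ := exists_sq_ne_one I
  rcases core_l0 o (fun l : Dual K => l⁻¹) e P0.he χ P0.hχo Θ
      (fun l hl => P0.hΘ l ((dual_inv_ne_self_iff l).mp hl)) (ai K l0) h4 h2
      (ai_one I l0 hl0.1 o P0.ho) ⟨m0, (dual_inv_ne_self_iff m0).mpr hm0⟩ with
    ⟨ξ1, ξ2, s1, s2, hs1, hs2, h12, h1o, h1χ, h2o, h2χ, hΘξ, hb⟩ | ⟨hb1, hb2⟩
  · left
    exact ⟨ξ1, ξ2, s1, s2, ⟨P0, hl0, hl0u, hs1, hs2, h12, ⟨h1o, h1χ⟩, ⟨h2o, h2χ⟩,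
      fun l hl => hΘξ l ((dual_inv_ne_self_iff l).mpr hl), hb⟩⟩
  · right
    exact ⟨hb1, fun l hl => hb2 l ((dual_inv_ne_self_iff l).mpr hl)⟩

/-- HP1 -/
theorem exists_pat0 [Fintype G] [Fintype (Cfsg.IrrCharacter G)] {t : G} {K : Subgroup G}
    (I : Inp t K) :
    ∃ (e : ℤ) (o χ : Cfsg.IrrCharacter G) (Θ : Dual K → Cfsg.IrrCharacter G), Pat0 K e o χ Θ := by
  set o : Cfsg.IrrCharacter G := ⟨fun _ => 1, one_irr⟩ with ho_def
  have ho : (o : G → ℂ) = fun _ => 1 := rfl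
  have hd : ∀ ψ : Cfsg.IrrCharacter G, 1 ≤ dg ψ := fun ψ => (dg_spec ψ).2
  have hdo : dg o = 1 := by
    have h1 := (dg_spec o).1
    rw [ho] at h1
    have : ((dg o : ℤ) : ℂ) = ((1 : ℤ) : ℂ) := by rw [← h1]; norm_num
    exact_mod_cast this
  have hg : ∀ l m : Dual K, l⁻¹ ≠ l → m⁻¹ ≠ m →
      ∑ ψ : Cfsg.IrrCharacter G, ai K l ψ * ai K m ψ = 2 + kd l m + kd l m⁻¹ := by
    intro l m hl hm
    exact gram I l m (dual_ne_one_of_sq_ne_one ((dual_inv_ne_self_iff l).mp hl))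
      (dual_ne_one_of_sq_ne_one ((dual_inv_ne_self_iff m).mp hm))
  have hao : ∀ l : Dual K, l⁻¹ ≠ l → ai K l o = 1 := fun l hl =>
    ai_one I l (dual_ne_one_of_sq_ne_one ((dual_inv_ne_self_iff l).mp hl)) o ho
  have h0 : ∀ l : Dual K, l⁻¹ ≠ l → ∑ ψ : Cfsg.IrrCharacter G, ai K l ψ * dg ψ = 0 :=
    fun l _ => ai_deg I l
  by_cases h2 : TwoCl K
  · obtain ⟨l1, m1, hl1, hm1, hne1, hne2⟩ := h2
    obtain ⟨e, χ, Θ, he, hχ, hΘ, hΘb, hΘi, ha⟩ := core_family o dg hd hdo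
      (fun l : Dual K => l⁻¹) (fun l => dual_inv_inv l) (ai K) (fun l => funext (ai_inv I l)) hg hao h0
      ⟨l1, m1, (dual_inv_ne_self_iff l1).mpr hl1, (dual_inv_ne_self_iff m1).mpr hm1, hne1, hne2⟩
    exact ⟨e, o, χ, Θ, ⟨he, ho, hχ, fun l hl => hΘ l ((dual_inv_ne_self_iff l).mpr hl), hΘb,
      fun l m hl hm h => hΘi l m ((dual_inv_ne_self_iff l).mpr hl) ((dual_inv_ne_self_iff m).mpr hm) h,
      fun l hl ψ => ha l ((dual_inv_ne_self_iff l).mpr hl) ψ⟩⟩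
  · obtain ⟨m0, hm0⟩ := exists_sq_ne_one I
    have hm0' := (dual_inv_ne_self_iff m0).mpr hm0
    have hcl : ∀ l : Dual K, l * l ≠ 1 → l = m0 ∨ l = m0⁻¹ := by
      intro l hl
      by_contra hcon
      push Not at hcon
      exact h2 ⟨m0, l, hm0, hl, hcon.1, hcon.2⟩
    have h3 : ∑ ψ : Cfsg.IrrCharacter G, ai K m0 ψ * ai K m0 ψ = 3 := by
      rw [hg m0 m0 hm0' hm0', kd_self, kd_ne (fun h => hm0' h.symm)]; norm_num
    obtain ⟨U, V, hUV, hUo, hVo, ha⟩ := core_norm3 o dg hd hdo (ai K m0) h3 (hao m0 hm0')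
      (h0 m0 hm0')
    refine ⟨1, o, U, fun _ => V, ⟨Or.inl rfl, ho, hUo, fun _ _ => ⟨hVo, hUV.symm⟩, fun _ => rfl,
      ?_, ?_⟩⟩
    · intro l m hl hm _
      rcases hcl l hl with h | h <;> rcases hcl m hm with h' | h'
      · left; rw [h, h']
      · right; rw [h, h']
      · right; rw [h, h']; exact (dual_inv_inv m0).symm
      · left; rw [h, h']
    · intro l hl ψ
      have : ai K l ψ = ai K m0 ψ := by
        rcases hcl l hl with h | h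
        · rw [h]
        · rw [h, ai_inv I m0 ψ]
      rw [this, ha ψ]; ring

end Cfsg.Agent.Helper1.BswCh
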