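import Mathlib
import Cfsg.Prelude.Def_Characters
import Cfsg.Agent.Helper1.BswChDefs

set_option autoImplicit false

/-! S3282 character side, piece HQ4 (pure number theory). -/

namespace Cfsg.Agent.Helper1.BswCh

/-- HQ4 -/
theorem numth (e f : ℤ) (k n : ℕ) (he : e = 1 ∨ e = -1) (hf : 1 ≤ f) (hk : 4 ≤ k)
    (hnk : n % k = 1) (h : (n : ℤ) * (f - e) ^ 2 = 2 * (k : ℤ) ^ 2 * f * (f + e)) :
    f = 2 * (k : ℤ) + e ∧ (n : ℤ) = (2 * (k : ℤ) + e) * ((k : ℤ) + e) := by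
  have hk0 : (0 : ℤ) < (k : ℤ) := by exact_mod_cast (by omega : 0 < k)
  have hk4 : (4 : ℤ) ≤ (k : ℤ) := by exact_mod_cast hk
  have he2 : e * e = 1 := by rcases he with rfl | rfl <;> norm_num
  -- n = k q + 1
  obtain ⟨q, hq⟩ : ∃ q : ℤ, (n : ℤ) = (k : ℤ) * q + 1 := by
    refine ⟨((n / k : ℕ) : ℤ), ?_⟩
    have := Nat.div_add_mod n k
    rw [hnk] at this
    exact_mod_cast this.symm
  have hn0 : (0 : ℤ) < (n : ℤ) := by
    have : 0 < n := by
      rcases Nat.eq_zero_or_pos n with h0 | h0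
      · rw [h0] at hnk; simp at hnk
      · exact h0
    exact_mod_cast this
  -- g > 0
  set g : ℤ := f - e with hg
  have hfg : f = g + e := by rw [hg]; ring
  have hgpos : 0 < g := by
    rcases he with rfl | rfl
    · have h0 : 0 ≤ g := by rw [hg]; linarith
      rcases h0.lt_or_eq with h1 | h1
      · exact h1
      · exfalso
        rw [← h1] at h
        have : 0 < 2 * (k : ℤ) ^ 2 * f * (f + 1) := by positivity
        linarith
    · rw [hg]; linarith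
  -- k | g
  have hcop : IsCoprime ((k : ℤ) ^ 2) (n : ℤ) := by
    apply IsCoprime.pow_left
    refine ⟨-q, 1, ?_⟩
    rw [hq]; ring
  have hdvd : (k : ℤ) ^ 2 ∣ (n : ℤ) * g ^ 2 := ⟨2 * f * (f + e), by rw [h]; ring⟩
  have hdvd2 : (k : ℤ) ^ 2 ∣ g ^ 2 := hcop.dvd_of_dvd_mul_left hdvd
  have hkg : (k : ℤ) ∣ g := (Int.pow_dvd_pow_iff (by norm_num)).mp hdvd2
  obtain ⟨j, hj⟩ := hkg
  have hjpos : 0 < j := by
    by_contra hcon
    push Not at hcon
    have : g ≤ 0 := by rw [hj]; exact mul_nonpos_of_nonneg_of_nonpos hk0.le hcon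
    linarith
  -- the reduced equation
  have hred : (n : ℤ) * j ^ 2 = 2 * ((k : ℤ) * j + e) * ((k : ℤ) * j + 2 * e) := by
    have h1 : (k : ℤ) ^ 2 * ((n : ℤ) * j ^ 2) =
        (k : ℤ) ^ 2 * (2 * ((k : ℤ) * j + e) * ((k : ℤ) * j + 2 * e)) := by
      have : (n : ℤ) * g ^ 2 = 2 * (k : ℤ) ^ 2 * (g + e) * (g + e + e) := by
        rw [h, hfg]
      rw [hj] at this
      linarith [this]
    exact mul_left_cancel₀ (by positivity) h1
  -- j | 4
  have hj4 : j ∣ 4 := by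
    refine ⟨(n : ℤ) * j - 2 * (k : ℤ) ^ 2 * j - 6 * e * (k : ℤ), ?_⟩
    have : (2 : ℤ) * ((k : ℤ) * j + e) * ((k : ℤ) * j + 2 * e) =
        2 * (k : ℤ) ^ 2 * j ^ 2 + 6 * e * (k : ℤ) * j + 4 * (e * e) := by ring
    rw [he2] at this
    linarith [hred, this]
  have hjle : j ≤ 4 := Int.le_of_dvd (by norm_num) hj4
  have hexp : (2 : ℤ) * ((k : ℤ) * j + e) * ((k : ℤ) * j + 2 * e) =
      2 * (k : ℤ) ^ 2 * j ^ 2 + 6 * e * (k : ℤ) * j + 4 := by
    have : (2 : ℤ) * ((k : ℤ) * j + e) * ((k : ℤ) * j + 2 * e) =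
        2 * (k : ℤ) ^ 2 * j ^ 2 + 6 * e * (k : ℤ) * j + 4 * (e * e) := by ring
    rw [this, he2]; ring
  rw [hexp] at hred
  interval_cases j
  · -- j = 1
    exfalso
    have h3 : (k : ℤ) * (q - 2 * (k : ℤ) - 6 * e) = 3 := by
      rw [hq] at hred
      linarith [hred]
    have hk3 : (k : ℤ) ∣ 3 := ⟨_, h3.symm⟩
    have := Int.le_of_dvd (by norm_num) hk3
    linarith
  · -- j = 2
    constructor
    · rw [hfg, hj]; ring
    · have : (2 * (k : ℤ) + e) * ((k : ℤ) + e) = 2 * (k : ℤ) ^ 2 + 3 * e * (k : ℤ) + e * e := by ring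
      rw [this, he2]
      linarith [hred]
  · -- j = 3
    exfalso
    norm_num at hj4
  · -- j = 4
    exfalso
    rcases he with rfl | rfl
    · have : (4 : ℤ) * (n : ℤ) = 2 * (4 * (k : ℤ) ^ 2 + 3 * (k : ℤ)) + 1 := by linarith [hred]
      omega
    · have : (4 : ℤ) * (n : ℤ) = 2 * (4 * (k : ℤ) ^ 2 - 3 * (k : ℤ)) + 1 := by linarith [hred]
      omega

end Cfsg.Agent.Helper1.BswCh
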