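import Mathlib
import Cfsg.Prelude.Def_Characters
import Cfsg.Agent.Lead.BswDefs2
import Cfsg.Agent.Helper1.BswChDefs
import Cfsg.Agent.Helper1.BswChDual
import Cfsg.Agent.Helper8.BswCh_HU
import Cfsg.Agent.Helper6.BswCh_HC
import Cfsg.Agent.Helper9.BswCh_HP3
import Cfsg.Agent.Lead.BswCh_HQ1_2_5
import Cfsg.Agent.Lead.BswCh_HQ3_6
import Cfsg.Agent.Helper1.BswCh_HQ4
import Cfsg.Agent.Helper1.BswCh_HP1_HP2
import Cfsg.Agent.Helper6.IrrBasis
import Cfsg.Agent.Lead.Bsw_A1_12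
import Cfsg.Agent.Helper7.Bsw_A33
import Cfsg.Agent.Helper6.Bsw_A29_30

set_option autoImplicit false
set_option linter.style.haveILetI false

/-!
S3282 character side: assembly.  `pattern_exists`, `char_side`, the bridge `inp_of_hyp` from the
lead's `Hyp`, and the interface theorem `Cfsg.Agent.Lead.Bsw.stage1`.
-/

namespace Cfsg.Agent.Helper1.BswCh

open scoped ComplexConjugate Classical
open Cfsg.Agent.Lead.Bsw

universe u

variable {G : Type u} [Group G]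

/-- the swapped generic pattern, when there is only one class -/
theorem pat0_swap [Fintype G] {K : Subgroup G} {e : ℤ} {o χ : Cfsg.IrrCharacter G}
    {Θ : Dual K → Cfsg.IrrCharacter G} (P0 : Pat0 K e o χ Θ) (h1 : ¬ TwoCl K)
    (m0 : Dual K) (hm0 : m0 * m0 ≠ 1) : Pat0 K (-e) o (Θ m0) (fun _ => χ) := by
  have hcl : ∀ l : Dual K, l * l ≠ 1 → l = m0 ∨ l = m0⁻¹ := by
    intro l hl
    by_contra hcon
    push Not at hcon
    exact h1 ⟨m0, l, hm0, hl, hcon.1, hcon.2⟩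
  have hΘc : ∀ l : Dual K, l * l ≠ 1 → Θ l = Θ m0 := by
    intro l hl
    rcases hcl l hl with h | h
    · rw [h]
    · rw [h, P0.hΘinv]
  refine ⟨?_, P0.ho, (P0.hΘ m0 hm0).1, ?_, fun _ => rfl, ?_, ?_⟩
  · rcases P0.he with h | h
    · right; rw [h]
    · left; rw [h]; norm_num
  · intro l _
    exact ⟨P0.hχo, (P0.hΘ m0 hm0).2.symm⟩
  · intro l m hl hm _
    rcases hcl l hl with h | h <;> rcases hcl m hm with h' | h'
    · left; rw [h, h']
    · right; rw [h, h']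
    · right; rw [h, h']; exact (inv_inv m0).symm
    · left; rw [h, h']
  · intro l hl ψ
    rw [P0.hai l hl ψ, hΘc l hl]
    ring

/-- The pattern exists. -/
theorem pattern_exists [Fintype G] [Fintype (Cfsg.IrrCharacter G)] {t : G} {K : Subgroup G}
    (I : Inp t K) :
    ∃ (l0 : Dual K) (e : ℤ) (o χ ξ1 ξ2 : Cfsg.IrrCharacter G)
      (Θ : Dual K → Cfsg.IrrCharacter G) (s1 s2 : ℤ), Pat K l0 e o χ ξ1 ξ2 Θ s1 s2 := by
  obtain ⟨l0, hl0a, hl0b, hl0u⟩ := exists_l0 I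
  obtain ⟨e, o, χ, Θ, P0⟩ := exists_pat0 I
  rcases pat_or_alt I l0 ⟨hl0a, hl0b⟩ hl0u P0 with ⟨ξ1, ξ2, s1, s2, P⟩ | hA
  · exact ⟨l0, e, o, χ, ξ1, ξ2, Θ, s1, s2, P⟩
  · by_cases h2 : TwoCl K
    · exact (alt_kill I l0 ⟨hl0a, hl0b⟩ hl0u P0 hA h2).elim
    · obtain ⟨m0, hm0⟩ := exists_sq_ne_one I
      have P0' := pat0_swap P0 h2 m0 hm0
      rcases pat_or_alt I l0 ⟨hl0a, hl0b⟩ hl0u P0' with ⟨ξ1, ξ2, s1, s2, P⟩ | hA'
      · exact ⟨l0, -e, o, Θ m0, ξ1, ξ2, fun _ => χ, s1, s2, P⟩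
      · exfalso
        have h3 := hA.2 m0 hm0
        rw [hA'.1] at h3
        rcases P0.he with h | h <;> omega

/-- The character side of S3282. -/
theorem char_side [Finite G] {t : G} {K : Subgroup G} (I : Inp t K) :
    ∃ e : ℤ, (e = 1 ∨ e = -1) ∧
      (nInv G : ℤ) = (2 * (Nat.card K : ℤ) + e) * ((Nat.card K : ℤ) + e) ∧
      ∀ y : G, ¬ ConjInto K y →
        (e = 1 → ∃ c : ℤ, (F y : ℤ) = 2 * (Nat.card K : ℤ) + 1 + (Nat.card K : ℤ) * c) ∧
        (e = -1 → ∃ c : ℤ, (F y : ℤ) = ((Nat.card K : ℤ) - 1) * c) := by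
  haveI : Fintype G := Fintype.ofFinite G
  haveI : Finite (Cfsg.IrrCharacter G) := Cfsg.Agent.Helper6.irr_finite
  haveI : Fintype (Cfsg.IrrCharacter G) := Fintype.ofFinite _
  obtain ⟨l0, e, o, χ, ξ1, ξ2, Θ, s1, s2, P⟩ := pattern_exists I
  have hdeg := pat_deg I P
  have heqs := pat_eqs I P
  have hf := (dg_spec χ).2
  have hd1 := (dg_spec ξ1).2
  have hd2 := (dg_spec ξ2).2
  obtain ⟨m0, hm0⟩ := exists_sq_ne_one I
  have hfe : 1 ≤ dg χ + e := by
    rw [← hdeg.1 m0 hm0]; exact (dg_spec (Θ m0)).2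
  have hk4 := I.k4
  have hk : 0 < Nat.card K := by omega
  have hn : 0 < nInv G := by
    rcases Nat.eq_zero_or_pos (nInv G) with h | h
    · have := I.hn; rw [h] at this; simp at this
    · exact h
  obtain ⟨hs1, hs2, hd1', hd2', hnf⟩ := solve_signs e s1 s2 (dg χ) (dg ξ1) (dg ξ2) (Nat.card K)
    (nInv G) P.p0.he P.hs1 P.hs2 hf hd1 hd2 hfe hk hn hdeg.2
    (by
      have h := heqs.1
      have h' : (((1 : ℚ) + (e : ℚ) / (dg χ : ℚ) - 4 * (e : ℚ) / ((dg χ : ℚ) + (e : ℚ)) : ℚ) : ℂ) =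
          ((2 * (Nat.card K : ℚ) ^ 2 / (nInv G : ℚ) : ℚ) : ℂ) := by
        push_cast; exact h
      exact Rat.cast_injective h')
    (by
      have h := heqs.2
      have h' : (((1 : ℚ) + (e : ℚ) / (dg χ : ℚ) + (s1 : ℚ) / (dg ξ1 : ℚ) + (s2 : ℚ) / (dg ξ2 : ℚ) : ℚ)
          : ℂ) = ((2 * (Nat.card K : ℚ) ^ 2 / (nInv G : ℚ) : ℚ) : ℂ) := by
        push_cast; exact h
      exact Rat.cast_injective h')
  obtain ⟨hfk, hnk⟩ := numth e (dg χ) (Nat.card K) (nInv G) P.p0.he hf I.k4 I.hn hnf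
  refine ⟨e, P.p0.he, hnk, fun y hy => ?_⟩
  have hFy := F_not_conj I P hs1 hs2 hd1' hd2' y hy
  rw [hfk] at hFy
  obtain ⟨h1, h2⟩ := F_final e (Nat.card K) (nInv G) (conj ((χ : G → ℂ) y)) (F y : ℂ) P.p0.he
    I.k4 hnk hFy
  have hk0 : (Nat.card K : ℂ) ≠ 0 := by exact_mod_cast hk.ne'
  have hk1 : (Nat.card K : ℂ) - 1 ≠ 0 := by
    have : (Nat.card K : ℂ) ≠ 1 := by
      have : Nat.card K ≠ 1 := by omega
      exact_mod_cast this
    exact sub_ne_zero.mpr this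
  -- integrality
  have key : ∀ q : ℚ, conj ((χ : G → ℂ) y) = (q : ℂ) →
      ∃ m : ℤ, conj ((χ : G → ℂ) y) = (m : ℂ) := by
    intro q hq
    have hχ : (χ : G → ℂ) y = (q : ℂ) := by
      have := congrArg conj hq
      rwa [Complex.conj_conj, map_ratCast] at this
    obtain ⟨m, hm⟩ := irr_rat_int χ y q hχ
    exact ⟨m, by rw [hm, map_intCast]⟩
  constructor
  · intro he1
    have h := h1 he1
    obtain ⟨m, hm⟩ := key (((F y : ℚ) - 2 * (Nat.card K : ℚ) - 1) / (Nat.card K : ℚ)) (by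
      push_cast
      rw [h]
      field_simp
      ring)
    refine ⟨m, ?_⟩
    rw [hm] at h
    exact_mod_cast h
  · intro he1
    have h := h2 he1
    obtain ⟨m, hm⟩ := key ((F y : ℚ) / ((Nat.card K : ℚ) - 1)) (by
      push_cast
      rw [h]
      field_simp)
    refine ⟨m, ?_⟩
    rw [hm] at h
    exact_mod_cast h

theorem inp_of_hyp [Finite G] {t s : G} {K : Subgroup G} (h : Hyp t K s) (hk : 4 ≤ Nat.card K) :
    Inp t K := by
  refine ⟨h.ht, h.htK, ?_, fun x hx hx2 => inv_of_mem_K h hx hx2, h.hKH, card_cent_t h, ?_,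
    fun g x hx hx1 hgx => TI_elt h hx hx1 hgx, fun x hx hx1 => F_of_mem_K h hx hx1, ?_,
    card_G h, h.hconj, hk⟩
  · intro a ha b hb
    have := h.hKab.is_comm.comm ⟨a, ha⟩ ⟨b, hb⟩
    exact congrArg Subtype.val this
  · intro u hu huK x hx
    rcases (mem_cent_t h u).mp hu with h1 | ⟨x0, hx0, rfl⟩
    · exact (huK h1).elim
    · exact mul_s_inverts h hx0 hx
  · obtain ⟨j, hj⟩ := nInv_mod h
    have hn1 : 1 ≤ nInv G := by
      rw [nInv_def]
      haveI : Nonempty {z : G // orderOf z = 2} := ⟨⟨t, h.ht⟩⟩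
      exact Nat.card_pos
    have h1 : ((nInv G % Nat.card K : ℕ) : ℤ) = 1 := by
      rw [Int.natCast_mod]
      have : (nInv G : ℤ) = 1 + (Nat.card K : ℤ) * j := by linarith
      rw [this, Int.add_mul_emod_self_left]
      exact Int.emod_eq_of_lt (by norm_num) (by exact_mod_cast (by omega : 1 < Nat.card K))
    exact_mod_cast h1

end Cfsg.Agent.Helper1.BswCh

namespace Cfsg.Agent.Lead.Bsw

variable {G : Type*} [Group G] [Finite G] {t s : G} {K : Subgroup G}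

open Cfsg.Agent.Helper1.BswCh in
/-- G1: the interface theorem of the character side. -/
theorem stage1 (h : Hyp t K s) (hk : 4 ≤ Nat.card K) : Stage1 t K s := by
  obtain ⟨e, he, hn, hF⟩ := char_side (inp_of_hyp h hk)
  rcases he with rfl | rfl
  · left
    refine ⟨h, hk, ?_, ?_⟩
    · exact_mod_cast hn
    · intro y _ hy
      exact (hF y (fun ⟨g, hg⟩ => hy g hg)).1 rfl
  · right
    refine ⟨h, hk, ?_, ?_⟩
    · zify [show 1 ≤ 2 * Nat.card K by omega, show 1 ≤ Nat.card K by omega]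
      rw [hn]; ring
    · intro y _ hy
      exact (hF y (fun ⟨g, hg⟩ => hy g hg)).2 rfl

end Cfsg.Agent.Lead.Bsw
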