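import Mathlib
import Cfsg.Agent.Helper1.PGroup

set_option autoImplicit false

/-!
Burnside's basis theorem.
-/

namespace Cfsg.Agent.Helper1

open scoped commutatorElement

universe u

/-- span over `ZMod p` is additive closure -/
theorem span_zmod_eq_top_iff {V : Type*} [AddCommGroup V] {p : ℕ} [Fact p.Prime]
    [Module (ZMod p) V] (s : Set V) :
    Submodule.span (ZMod p) s = ⊤ ↔ AddSubgroup.closure s = ⊤ := by
  have hspan : Submodule.span (ZMod p) s =
      AddSubgroup.toZModSubmodule p (AddSubgroup.closure s) := by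
    apply le_antisymm
    · rw [Submodule.span_le]
      intro x hx
      show x ∈ AddSubgroup.toZModSubmodule p _
      rw [AddSubgroup.mem_toZModSubmodule]
      exact AddSubgroup.subset_closure hx
    · intro x hx
      rw [AddSubgroup.mem_toZModSubmodule] at hx
      have hle : AddSubgroup.closure s ≤ (Submodule.span (ZMod p) s).toAddSubgroup := by
        rw [AddSubgroup.closure_le]
        exact Submodule.subset_span
      exact hle hx
  rw [hspan]
  constructor
  · intro h
    rw [eq_top_iff]
    intro y _
    have h2 : y ∈ AddSubgroup.toZModSubmodule p (AddSubgroup.closure s) := by rw [h]; trivial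
    rwa [AddSubgroup.mem_toZModSubmodule] at h2
  · intro h
    rw [h, eq_top_iff]
    intro x _
    rw [AddSubgroup.mem_toZModSubmodule]
    trivial

/-- the vector space form -/
theorem burnside_basis_add {V : Type*} [AddCommGroup V] [Finite V] {p : ℕ} [Fact p.Prime]
    [Module (ZMod p) V] (n : ℕ) (hcard : Nat.card V = p ^ n) :
    (∀ S : Finset V, AddSubgroup.closure (S : Set V) = ⊤ →
      ∃ T : Finset V, T ⊆ S ∧ T.card = n ∧ AddSubgroup.closure (T : Set V) = ⊤) ∧
    (∀ T : Finset V, AddSubgroup.closure (T : Set V) = ⊤ → n ≤ T.card) := by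
  classical
  have hp : p.Prime := Fact.out
  have hmf : Module.Finite (ZMod p) V := Module.Finite.of_finite
  have hrank : Module.finrank (ZMod p) V = n := by
    have h1 := Module.natCard_eq_pow_finrank (K := ZMod p) (V := V)
    rw [hcard, Nat.card_eq_fintype_card, ZMod.card] at h1
    exact (Nat.pow_right_injective hp.two_le h1).symm
  constructor
  · intro S hS
    have hS' : Submodule.span (ZMod p) (S : Set V) = ⊤ := (span_zmod_eq_top_iff _).2 hS
    obtain ⟨b, hbS, hbspan, hbli⟩ := exists_linearIndependent (ZMod p) (S : Set V)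
    have hbfin : b.Finite := S.finite_toSet.subset hbS
    haveI : Fintype b := hbfin.fintype
    refine ⟨b.toFinset, ?_, ?_, ?_⟩
    · intro x hx
      rw [Set.mem_toFinset] at hx
      exact hbS hx
    · have h1 := finrank_span_set_eq_card (R := ZMod p) (s := b) hbli
      rw [hbspan, hS', finrank_top, hrank] at h1
      exact h1.symm
    · rw [← span_zmod_eq_top_iff (p := p), Set.coe_toFinset, hbspan, hS']
  · intro T hT
    have hT' : Submodule.span (ZMod p) (T : Set V) = ⊤ := (span_zmod_eq_top_iff _).2 hT
    have h1 := finrank_span_finset_le_card (R := ZMod p) T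
    rw [Set.finrank, hT', finrank_top, hrank] at h1
    exact h1

theorem closure_eq_top_iff_additive {Q : Type*} [Group Q] (S : Set Q) :
    Subgroup.closure S = ⊤ ↔ AddSubgroup.closure (Additive.toMul ⁻¹' S) = ⊤ := by
  rw [← Subgroup.toAddSubgroup_closure]
  constructor
  · intro h; rw [h]; rfl
  · intro h
    apply Subgroup.toAddSubgroup.injective
    rw [h]; rfl

/-- the commutative group form -/
theorem burnside_basis_comm {Q : Type*} [CommGroup Q] [Finite Q] {p : ℕ} [Fact p.Prime]
    (n : ℕ) (hexp : ∀ a : Q, a ^ p = 1) (hcard : Nat.card Q = p ^ n) :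
    (∀ S : Finset Q, Subgroup.closure (S : Set Q) = ⊤ →
      ∃ T : Finset Q, T ⊆ S ∧ T.card = n ∧ Subgroup.closure (T : Set Q) = ⊤) ∧
    (∀ T : Finset Q, Subgroup.closure (T : Set Q) = ⊤ → n ≤ T.card) := by
  have hV : ∀ x : Additive Q, p • x = 0 := by
    intro x
    show Additive.ofMul (x.toMul ^ p) = 0
    rw [hexp]; rfl
  let _ : Module (ZMod p) (Additive Q) := AddCommGroup.zmodModule hV
  have hfin : Finite (Additive Q) := inferInstanceAs (Finite Q)
  obtain ⟨hA, hB⟩ := burnside_basis_add (V := Additive Q) (p := p) n hcard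
  constructor
  · intro S hS
    let S' : Finset (Additive Q) := S
    have hS' : AddSubgroup.closure (S' : Set (Additive Q)) = ⊤ :=
      (closure_eq_top_iff_additive (S : Set Q)).1 hS
    obtain ⟨T, hTS, hTc, hT⟩ := hA S' hS'
    let T' : Finset Q := T
    exact ⟨T', hTS, hTc, (closure_eq_top_iff_additive (T' : Set Q)).2 hT⟩
  · intro T hT
    let T' : Finset (Additive Q) := T
    exact hB T' ((closure_eq_top_iff_additive (T : Set Q)).1 hT)

/-- the group form, commutativity as a hypothesis -/
theorem burnside_basis_group {Q : Type*} [inst : Group Q] [Finite Q] {p : ℕ} [Fact p.Prime]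
    (n : ℕ) (hcomm : ∀ a b : Q, a * b = b * a) (hexp : ∀ a : Q, a ^ p = 1)
    (hcard : Nat.card Q = p ^ n) :
    (∀ S : Finset Q, Subgroup.closure (S : Set Q) = ⊤ →
      ∃ T : Finset Q, T ⊆ S ∧ T.card = n ∧ Subgroup.closure (T : Set Q) = ⊤) ∧
    (∀ T : Finset Q, Subgroup.closure (T : Set Q) = ⊤ → n ≤ T.card) :=
  @burnside_basis_comm Q { inst with mul_comm := hcomm } _ p _ n hexp hcard

/-- **Burnside's basis theorem**. -/
theorem burnside_basis {G : Type*} [Group G] [Finite G] (p n : ℕ) [Fact p.Prime]
    (hG : IsPGroup p G) (hn : (frattini G).index = p ^ n) :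
    (∀ S : Finset G, Subgroup.closure (S : Set G) = ⊤ →
      ∃ T : Finset G, T ⊆ S ∧ T.card = n ∧ Subgroup.closure (T : Set G) = ⊤) ∧
    (∀ T : Finset G, Subgroup.closure (T : Set G) = ⊤ → n ≤ T.card) := by
  classical
  have hsurj : Function.Surjective (QuotientGroup.mk' (frattini G)) :=
    QuotientGroup.mk'_surjective _
  have hcomm : ∀ a b : G ⧸ frattini G, a * b = b * a := by
    intro a b
    obtain ⟨x, rfl⟩ := hsurj a
    obtain ⟨y, rfl⟩ := hsurj b
    rw [← map_mul, ← map_mul]
    apply (QuotientGroup.eq).2
    have h1 : (x * y)⁻¹ * (y * x) = ⁅y⁻¹, x⁻¹⁆ := by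
      rw [commutatorElement_def]; group
    rw [h1]
    apply IsPGroup.commutator_le_frattini hG
    rw [commutator_def]
    exact Subgroup.commutator_mem_commutator (Subgroup.mem_top _) (Subgroup.mem_top _)
  have hexp : ∀ a : G ⧸ frattini G, a ^ p = 1 := by
    intro a
    obtain ⟨x, rfl⟩ := hsurj a
    rw [← map_pow]
    exact (QuotientGroup.eq_one_iff _).2 (IsPGroup.pow_mem_frattini hG x)
  have hcard : Nat.card (G ⧸ frattini G) = p ^ n := by
    rw [← hn]; exact (Subgroup.index_eq_card _).symm
  obtain ⟨hA, hB⟩ := burnside_basis_group n hcomm hexp hcard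
  have himage : ∀ S : Finset G, Subgroup.closure (S : Set G) = ⊤ →
      Subgroup.closure ((S.image (QuotientGroup.mk' (frattini G)) : Finset _) :
        Set (G ⧸ frattini G)) = ⊤ := by
    intro S hS
    rw [Finset.coe_image, ← MonoidHom.map_closure, hS]
    exact Subgroup.map_top_of_surjective _ hsurj
  constructor
  · intro S hS
    obtain ⟨Tb, hTbS, hTbc, hTb⟩ := hA _ (himage S hS)
    have hex : ∀ t : G ⧸ frattini G, t ∈ Tb → ∃ s ∈ S, QuotientGroup.mk' (frattini G) s = t := by
      intro t ht
      have := hTbS ht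
      rw [Finset.mem_image] at this
      exact this
    choose f hfS hf using hex
    set T := Tb.attach.image (fun t => f t.1 t.2) with hT
    have hTimg : T.image (QuotientGroup.mk' (frattini G)) = Tb := by
      ext t
      rw [Finset.mem_image]
      constructor
      · rintro ⟨x, hx, rfl⟩
        rw [hT, Finset.mem_image] at hx
        obtain ⟨⟨t', ht'⟩, -, rfl⟩ := hx
        rw [hf]; exact ht'
      · intro ht
        refine ⟨f t ht, ?_, hf t ht⟩
        rw [hT, Finset.mem_image]
        exact ⟨⟨t, ht⟩, Finset.mem_attach _ _, rfl⟩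
    refine ⟨T, ?_, ?_, ?_⟩
    · intro x hx
      rw [hT, Finset.mem_image] at hx
      obtain ⟨⟨t', ht'⟩, -, rfl⟩ := hx
      exact hfS t' ht'
    · apply le_antisymm
      · calc T.card ≤ Tb.attach.card := Finset.card_image_le
          _ = n := by rw [Finset.card_attach, hTbc]
      · calc n = (T.image (QuotientGroup.mk' (frattini G))).card := by rw [hTimg, hTbc]
          _ ≤ T.card := Finset.card_image_le
    · apply frattini_nongenerating
      have h1 : (Subgroup.closure (T : Set G)).map (QuotientGroup.mk' (frattini G)) = ⊤ := by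
        rw [MonoidHom.map_closure, ← Finset.coe_image, hTimg, hTb]
      have h2 := congrArg (Subgroup.comap (QuotientGroup.mk' (frattini G))) h1
      rw [Subgroup.comap_map_eq, QuotientGroup.ker_mk', Subgroup.comap_top] at h2
      exact h2
  · intro T hT
    calc n ≤ (T.image (QuotientGroup.mk' (frattini G))).card := hB _ (himage T hT)
      _ ≤ T.card := Finset.card_image_le

end Cfsg.Agent.Helper1
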