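import Mathlib
import Cfsg.Agent.Helper3.SuzD

/-!
# The counting lemma: a class-two Suzuki 2-group has order `q²` or `q³`
-/

set_option autoImplicit false

namespace Cfsg.Agent.Helper1.SuzH

open Cfsg.Agent.Helper3.SuzA

/-- character sums of `±1`-valued multiplicative functions -/
theorem char_sum {G : Type*} [Group G] [Fintype G] (ψ : G → ℤ) (hmul : ∀ a b, ψ (a * b) = ψ a * ψ b)
    (hsq : ∀ a, ψ a * ψ a = 1) :
    (∀ a, ψ a = 1) ∧ ∑ a, ψ a = Fintype.card G ∨ (∃ a, ψ a = -1) ∧ ∑ a, ψ a = 0 := by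
  by_cases hall : ∀ a, ψ a = 1
  · left
    refine ⟨hall, ?_⟩
    rw [Finset.sum_congr rfl (fun a _ => hall a)]
    simp
  · right
    push Not at hall
    obtain ⟨a₀, ha₀⟩ := hall
    have hm1 : ψ a₀ = -1 := by
      have h1 := hsq a₀
      have : (ψ a₀ - 1) * (ψ a₀ + 1) = 0 := by linear_combination h1
      rcases mul_eq_zero.mp this with h | h
      · exact absurd (sub_eq_zero.mp h) ha₀
      · linarith
    refine ⟨⟨a₀, hm1⟩, ?_⟩
    have h1 : ∑ a, ψ a = ∑ a, ψ (a₀ * a) := (Equiv.sum_comp (Equiv.mulLeft a₀) ψ).symm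
    have h2 : ∑ a, ψ (a₀ * a) = - ∑ a, ψ a := by
      rw [← Finset.sum_neg_distrib]
      apply Finset.sum_congr rfl
      intro a _
      rw [hmul, hm1]; ring
    linarith

theorem count_arith (q N p r n a b : ℕ) (hq : q = 2 ^ n) (hn : 1 ≤ n) (hp : p = 2 ^ a) (hr : r = 2 ^ b)
    (hqr : q ∣ r) (hrp : r ∣ p) (hpN : p + N = q + q * N)
    (hS : ∃ D : ℕ, (N = q + D ∨ q = N + D) ∧ (D = 0 ∨ D * D = p * r)) :
    p = q ∨ p = q ^ 2 ∨ p = q ^ 3 := by
  obtain ⟨D, hD1, hD2⟩ := hS
  have hq2 : 2 ≤ q := by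
    rw [hq]
    calc 2 = 2 ^ 1 := by norm_num
      _ ≤ 2 ^ n := Nat.pow_le_pow_right (by norm_num) hn
  rcases hD2 with hD0 | hD2
  · -- N = q
    subst hD0
    have hNq : N = q := by rcases hD1 with h | h <;> omega
    subst hNq
    right; left
    have : p = N * N := by nlinarith
    rw [this, sq]
  · -- D * D = p * r
    have hnb : n ≤ b := by
      rw [hq, hr] at hqr
      exact (Nat.pow_dvd_pow_iff_le_right (by norm_num)).mp hqr
    have hba : b ≤ a := by
      rw [hp, hr] at hrp
      exact (Nat.pow_dvd_pow_iff_le_right (by norm_num)).mp hrp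
    have hDdvd : D ∣ 2 ^ (a + b) := by
      rw [pow_add, ← hp, ← hr, ← hD2]
      exact dvd_mul_right D D
    obtain ⟨e, -, he⟩ := (Nat.dvd_prime_pow Nat.prime_two).mp hDdvd
    have h2e : e + e = a + b := by
      have : 2 ^ (e + e) = 2 ^ (a + b) := by
        rw [pow_add, ← he, hD2, hp, hr, pow_add]
      exact Nat.pow_right_injective (le_refl 2) this
    have hne : n ≤ e := by omega
    have hea : e ≤ a := by omega
    -- M
    obtain ⟨d, rfl⟩ : ∃ d, e = n + d := ⟨e - n, by omega⟩
    set M := 2 ^ d with hM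
    have hDM : D = q * M := by rw [he, pow_add, ← hq]
    have hMpos : 1 ≤ M := Nat.one_le_two_pow
    rcases hD1 with hN | hN
    · -- N = q + q M
      have hp' : p = q * (q + (q - 1) * M) := by
        obtain ⟨q', rfl⟩ : ∃ q', q = q' + 1 := ⟨q - 1, by omega⟩
        have : q' + 1 - 1 = q' := by omega
        rw [this]
        subst hN hDM
        nlinarith
      -- p' = 2^(a-n)
      obtain ⟨a', rfl⟩ : ∃ a', a = n + a' := ⟨a - n, by omega⟩
      have hp'' : q + (q - 1) * M = 2 ^ a' := by
        have : q * (q + (q - 1) * M) = q * 2 ^ a' := by rw [← hp', hp, pow_add, ← hq]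
        exact Nat.eq_of_mul_eq_mul_left (by omega) this
      -- M < p'
      have hMlt : M < 2 ^ a' := by
        rw [← hp'']
        have : M ≤ (q - 1) * M := Nat.le_mul_of_pos_left M (by omega)
        omega
      have hda : d ≤ a' := by
        by_contra hcon
        push Not at hcon
        have : 2 ^ a' ≤ 2 ^ d := Nat.pow_le_pow_right (by norm_num) (by omega)
        omega
      have hMdvd : M ∣ q := by
        have h1 : M ∣ 2 ^ a' := by rw [hM]; exact pow_dvd_pow 2 hda
        rw [← hp''] at h1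
        exact (Nat.dvd_add_left (dvd_mul_left M (q - 1))).mp h1
      have hMle : M ≤ q := Nat.le_of_dvd (by omega) hMdvd
      -- p' ≤ M * M
      have hle : 2 ^ a' ≤ M * M := by
        rw [hM, ← pow_add]
        exact Nat.pow_le_pow_right (by norm_num) (by omega)
      have hMge : q ≤ M := by
        by_contra hcon
        push Not at hcon
        have h1 : M * M ≤ (q - 1) * M := Nat.mul_le_mul_right M (by omega)
        omega
      have hMq : M = q := le_antisymm hMle hMge
      right; right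
      rw [hp', hMq]
      obtain ⟨q', rfl⟩ : ∃ q', q = q' + 1 := ⟨q - 1, by omega⟩
      have : q' + 1 - 1 = q' := by omega
      rw [this]
      ring
    · -- q = N + q M
      left
      have hM1 : M = 1 := by
        by_contra hcon
        have : 2 ≤ M := by omega
        nlinarith
      rw [hM1, mul_one] at hDM
      have hN0 : N = 0 := by omega
      rw [hN0] at hpN
      omega

section count

variable {P : Type*} [Group P]

theorem sq_mul_cm {x u : P} (hc : cm u x ∈ Subgroup.center P) :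
    (x * u) * (x * u) = (x * x) * (u * u) * cm u x := by
  have hcy := Subgroup.mem_center_iff.mp hc
  have : u * x = x * u * cm u x := by unfold cm; group
  calc (x * u) * (x * u) = x * (u * x) * u := by group
    _ = x * (x * u * cm u x) * u := by rw [← this]
    _ = x * x * u * (cm u x * u) := by group
    _ = x * x * u * (u * cm u x) := by rw [hcy u]
    _ = (x * x) * (u * u) * cm u x := by group

theorem cm_central_left {z x : P} (hz : z ∈ Subgroup.center P) : cm z x = 1 := by
  rw [cm_eq_one_iff]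
  exact ((Subgroup.mem_center_iff.mp hz) x).symm

theorem count_main {K : Type*} [Group K] [MulDistribMulAction K P] [Finite P]
    (hp : IsPGroup 2 P)
    (hsq : ∀ x : P, x * x ∈ Subgroup.center P)
    (hcm : ∀ x y : P, cm x y ∈ Subgroup.center P)
    (hZ2 : ∀ z ∈ Subgroup.center P, z * z = 1)
    (hinv : ∀ x : P, x * x = 1 → x ∈ Subgroup.center P)
    (htr : ∀ z z' : P, z ∈ Subgroup.center P → z' ∈ Subgroup.center P → z ≠ 1 → z' ≠ 1 →
      ∃ k : K, k • z = z')
    (hnt : ∃ z ∈ Subgroup.center P, z ≠ 1) :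
    Nat.card P = Nat.card (Subgroup.center P) ∨ Nat.card P = Nat.card (Subgroup.center P) ^ 2 ∨
      Nat.card P = Nat.card (Subgroup.center P) ^ 3 := by
  classical
  haveI : Fintype P := Fintype.ofFinite P
  set Zc := Subgroup.center P with hZc
  obtain ⟨n, hn⟩ := IsPGroup.iff_card.mp (hp.to_subgroup Zc)
  have hn1 : 1 ≤ n := by
    by_contra hcon
    have : n = 0 := by omega
    rw [this, pow_zero] at hn
    obtain ⟨z, hz, hz1⟩ := hnt
    haveI := (Nat.card_eq_one_iff_unique.mp hn).1
    exact hz1 (congrArg Subtype.val (Subsingleton.elim (⟨z, hz⟩ : Zc) 1))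
  obtain ⟨H', hH'⟩ := Sylow.exists_subgroup_card_pow_prime (G := Zc) 2 (n := n - 1)
    (by rw [hn]; exact pow_dvd_pow 2 (by omega))
  have hidx : H'.index = 2 := by
    have := Subgroup.card_mul_index H'
    rw [hH', hn] at this
    have e : 2 ^ n = 2 ^ (n - 1) * 2 := by rw [← pow_succ]; congr 1; omega
    rw [e] at this
    exact Nat.eq_of_mul_eq_mul_left (by positivity) this
  let H : Subgroup P := H'.map Zc.subtype
  have hHmem : ∀ (z : P) (hz : z ∈ Zc), z ∈ H ↔ (⟨z, hz⟩ : Zc) ∈ H' := by
    intro z hz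
    constructor
    · rintro ⟨y, hy, hyz⟩
      have : y = ⟨z, hz⟩ := Subtype.ext hyz
      rw [← this]; exact hy
    · intro h; exact ⟨⟨z, hz⟩, h, rfl⟩
  have hHle : H ≤ Zc := by rintro _ ⟨y, _, rfl⟩; exact y.2
  let φ : P → ℤ := fun x => if x ∈ H then 1 else -1
  have hφ1 : ∀ x, φ x = 1 ↔ x ∈ H := by
    intro x; simp only [φ]; split_ifs with h <;> simp [h]
  have hφsq : ∀ x, φ x * φ x = 1 := by intro x; simp only [φ]; split_ifs <;> norm_num
  have hφmul : ∀ z z', z ∈ Zc → z' ∈ Zc → φ (z * z') = φ z * φ z' := by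
    intro z z' hz hz'
    have := Subgroup.mul_mem_iff_of_index_two hidx (a := ⟨z, hz⟩) (b := ⟨z', hz'⟩)
    have hzz : z * z' ∈ Zc := Zc.mul_mem hz hz'
    rw [← hHmem z hz, ← hHmem z' hz'] at this
    have e : (⟨z, hz⟩ * ⟨z', hz'⟩ : Zc) = ⟨z * z', hzz⟩ := rfl
    rw [e, ← hHmem _ hzz] at this
    simp only [φ]
    by_cases h1 : z ∈ H <;> by_cases h2 : z' ∈ H <;> simp [h1, h2, this]
  have hφone : φ 1 = 1 := (hφ1 1).mpr H.one_mem
  obtain ⟨z₁, hz₁, hφz₁⟩ : ∃ z₁ ∈ Zc, φ z₁ = -1 := by
    have hne : H' ≠ ⊤ := by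
      intro h
      rw [← Subgroup.index_eq_one] at h
      omega
    obtain ⟨y, hy⟩ : ∃ y : Zc, y ∉ H' := by
      by_contra hcon
      push Not at hcon
      exact hne ((Subgroup.eq_top_iff' H').mpr hcon)
    refine ⟨y.1, y.2, ?_⟩
    have : y.1 ∉ H := fun h => hy ((hHmem y.1 y.2).mp h)
    simp only [φ, if_neg this]
  -- the sum over the centre
  have hsumZ : ∑ z : Zc, φ z.1 = 0 := by
    rcases char_sum (G := Zc) (fun z => φ z.1) (fun a b => hφmul a.1 b.1 a.2 b.2)
      (fun a => hφsq a.1) with ⟨h1, _⟩ | ⟨_, h2⟩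
    · have := h1 ⟨z₁, hz₁⟩
      change φ z₁ = 1 at this
      omega
    · exact h2
  -- fibres of squaring
  let π : P → Zc := fun x => ⟨x * x, hsq x⟩
  let Nf : Zc → ℕ := fun z => (Finset.univ.filter (fun x => π x = z)).card
  have hN1 : Nf 1 = Nat.card Zc := by
    rw [Nat.card_eq_fintype_card, Fintype.card_subtype]
    simp only [Nf]
    congr 1
    apply Finset.filter_congr
    intro x _
    constructor
    · intro h
      exact hinv x (congrArg Subtype.val h)
    · intro h
      exact Subtype.ext (hZ2 x h)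
  have hNconst : ∀ z z' : Zc, z ≠ 1 → z' ≠ 1 → Nf z = Nf z' := by
    intro z z' hz hz'
    obtain ⟨k, hk⟩ := htr z.1 z'.1 z.2 z'.2 (fun h => hz (Subtype.ext h)) (fun h => hz' (Subtype.ext h))
    simp only [Nf]
    apply Finset.card_bij (fun x _ => k • x)
    · intro x hx
      rw [Finset.mem_filter] at hx ⊢
      refine ⟨Finset.mem_univ _, Subtype.ext ?_⟩
      show k • x * k • x = z'.1
      rw [← smul_mul', ← hk]
      congr 1
      exact congrArg Subtype.val hx.2
    · intro x _ y _ hxy
      exact (MulAction.injective k) hxy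
    · intro y hy
      rw [Finset.mem_filter] at hy
      refine ⟨k⁻¹ • y, ?_, smul_inv_smul k y⟩
      rw [Finset.mem_filter]
      refine ⟨Finset.mem_univ _, Subtype.ext ?_⟩
      show k⁻¹ • y * k⁻¹ • y = z.1
      rw [← smul_mul']
      have : y * y = z'.1 := congrArg Subtype.val hy.2
      rw [this, ← hk, inv_smul_smul]
  obtain ⟨z₀, hz₀c, hz₀⟩ := hnt
  set Nn := Nf ⟨z₀, hz₀c⟩ with hNn
  have hz₀' : (⟨z₀, hz₀c⟩ : Zc) ≠ 1 := fun h => hz₀ (congrArg Subtype.val h)
  have hNz : ∀ z : Zc, z ≠ 1 → Nf z = Nn := fun z hz => hNconst z _ hz hz₀'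
  set S : ℤ := ∑ x : P, φ (x * x) with hS
  have hS1 : S = ∑ z : Zc, (Nf z : ℤ) * φ z.1 := by
    rw [hS, ← Finset.sum_fiberwise Finset.univ π (fun x => φ (x * x))]
    apply Finset.sum_congr rfl
    intro z _
    rw [Finset.sum_congr rfl (g := fun _ => φ z.1)]
    · simp only [Nf, Finset.sum_const, nsmul_eq_mul]
    · intro x hx
      rw [Finset.mem_filter] at hx
      have : x * x = z.1 := congrArg Subtype.val hx.2
      rw [this]
  have hS2 : S = (Nat.card Zc : ℤ) - Nn := by
    rw [hS1, ← Finset.add_sum_erase Finset.univ _ (Finset.mem_univ (1 : Zc)), hN1]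
    have h1 : ∑ z ∈ Finset.univ.erase (1 : Zc), (Nf z : ℤ) * φ z.1
        = (Nn : ℤ) * ∑ z ∈ Finset.univ.erase (1 : Zc), φ z.1 := by
      rw [Finset.mul_sum]
      apply Finset.sum_congr rfl
      intro z hz
      rw [hNz z (Finset.ne_of_mem_erase hz)]
    have h2 : ∑ z ∈ Finset.univ.erase (1 : Zc), φ z.1 = -1 := by
      have := Finset.add_sum_erase Finset.univ (fun z : Zc => φ z.1) (Finset.mem_univ (1 : Zc))
      rw [hsumZ] at this
      have e : φ ((1 : Zc) : P) = 1 := hφone
      change φ ((1 : Zc) : P) + _ = 0 at this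
      rw [e] at this
      linarith
    rw [h1, h2]
    have e : φ ((1 : Zc) : P) = 1 := hφone
    rw [e]; ring
  have hP1 : Nat.card P + Nn = Nat.card Zc + Nat.card Zc * Nn := by
    have h0 : Fintype.card P = ∑ z : Zc, Nf z := by
      rw [← Finset.card_univ]
      exact Finset.card_eq_sum_card_fiberwise (f := π) (fun x _ => Finset.mem_univ _)
    rw [← Finset.add_sum_erase Finset.univ _ (Finset.mem_univ (1 : Zc)), hN1] at h0
    have h1 : ∑ z ∈ Finset.univ.erase (1 : Zc), Nf z = (Nat.card Zc - 1) * Nn := by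
      rw [Finset.sum_congr rfl (fun z hz => hNz z (Finset.ne_of_mem_erase hz)), Finset.sum_const,
        Finset.card_erase_of_mem (Finset.mem_univ _), Finset.card_univ, smul_eq_mul,
        Nat.card_eq_fintype_card]
    rw [h1] at h0
    rw [Nat.card_eq_fintype_card (α := P), h0]
    have hpos : 1 ≤ Nat.card Zc := Nat.card_pos
    obtain ⟨q', hq'⟩ : ∃ q', Nat.card Zc = q' + 1 := ⟨Nat.card Zc - 1, by omega⟩
    rw [hq']
    have : q' + 1 - 1 = q' := by omega
    rw [this]; ring
  -- the radical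
  let R : Subgroup P :=
    { carrier := {u | ∀ x, cm u x ∈ H}
      mul_mem' := by
        intro u u' hu hu' x
        rw [cm_mul_left (hcm u x)]
        exact H.mul_mem (hu x) (hu' x)
      one_mem' := by
        intro x
        have : cm (1 : P) x = 1 := by unfold cm; group
        rw [this]; exact H.one_mem
      inv_mem' := by
        intro u hu x
        have h1 : cm (u * u⁻¹) x = cm u x * cm u⁻¹ x := cm_mul_left (hcm u x)
        have h2 : cm (u * u⁻¹) x = 1 := by unfold cm; group
        rw [h2] at h1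
        have : cm u⁻¹ x = (cm u x)⁻¹ := eq_inv_of_mul_eq_one_right h1.symm
        rw [this]; exact H.inv_mem (hu x) }
  have hRmem : ∀ u, u ∈ R ↔ ∀ x, cm u x ∈ H := fun u => Iff.rfl
  have hZR : Zc ≤ R := by
    intro z hz x
    rw [cm_central_left hz]; exact H.one_mem
  -- inner sums
  have hT : ∀ u : P, ∑ x : P, φ (cm u x) = if u ∈ R then (Fintype.card P : ℤ) else 0 := by
    intro u
    rcases char_sum (G := P) (fun x => φ (cm u x))
      (fun a b => by
        show φ (cm u (a * b)) = φ (cm u a) * φ (cm u b)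
        rw [cm_mul_right (hcm u a)]; exact hφmul _ _ (hcm u a) (hcm u b))
      (fun a => hφsq _) with ⟨h1, h2⟩ | ⟨⟨a, ha⟩, h2⟩
    · have : u ∈ R := fun x => (hφ1 _).mp (h1 x)
      rw [if_pos this]; exact h2
    · have : u ∉ R := by
        intro hu
        have := (hφ1 _).mpr (hu a)
        change φ (cm u a) = -1 at ha
        omega
      rw [if_neg this]; exact h2
  have hSS : S * S = (Fintype.card P : ℤ) * ∑ u : R, φ (u.1 * u.1) := by
    have h1 : S * S = ∑ x : P, ∑ u : P, φ (u * u) * φ (cm u x) := by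
      rw [hS, Finset.sum_mul_sum]
      apply Finset.sum_congr rfl
      intro x _
      rw [← Equiv.sum_comp (Equiv.mulLeft x)]
      apply Finset.sum_congr rfl
      intro u _
      simp only [Equiv.coe_mulLeft]
      rw [sq_mul_cm (hcm u x), hφmul _ _ (Zc.mul_mem (hsq x) (hsq u)) (hcm u x),
        hφmul _ _ (hsq x) (hsq u)]
      have := hφsq (x * x)
      linear_combination (φ (u * u) * φ (cm u x)) * this
    rw [h1, Finset.sum_comm]
    have h2 : ∀ u : P, ∑ x : P, φ (u * u) * φ (cm u x)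
        = if u ∈ R then (Fintype.card P : ℤ) * φ (u * u) else 0 := by
      intro u
      rw [← Finset.mul_sum, hT u]
      split_ifs <;> ring
    rw [Finset.sum_congr rfl (fun u _ => h2 u), ← Finset.sum_filter, Finset.mul_sum]
    exact Finset.sum_subtype (Finset.univ.filter (· ∈ R)) (p := (· ∈ R)) (by simp)
      (fun u => (Fintype.card P : ℤ) * φ (u * u))
  have hRsum : ∑ u : R, φ (u.1 * u.1) = 0 ∨ ∑ u : R, φ (u.1 * u.1) = Fintype.card R := by
    rcases char_sum (G := R) (fun u => φ (u.1 * u.1))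
      (fun a b => by
        show φ ((a.1 * b.1) * (a.1 * b.1)) = φ (a.1 * a.1) * φ (b.1 * b.1)
        rw [sq_mul_cm (hcm b.1 a.1), hφmul _ _ (Zc.mul_mem (hsq _) (hsq _)) (hcm _ _),
          hφmul _ _ (hsq _) (hsq _), (hφ1 _).mpr (b.2 a.1), mul_one])
      (fun a => hφsq _) with ⟨_, h2⟩ | ⟨_, h2⟩
    · right; exact h2
    · left; exact h2
  -- arithmetic
  obtain ⟨a, ha⟩ := IsPGroup.iff_card.mp hp
  obtain ⟨b, hb⟩ := IsPGroup.iff_card.mp (hp.to_subgroup R)
  have hqr : Nat.card Zc ∣ Nat.card R := Subgroup.card_dvd_of_le hZR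
  have hrp : Nat.card R ∣ Nat.card P := Subgroup.card_subgroup_dvd_card R
  apply count_arith (Nat.card Zc) Nn (Nat.card P) (Nat.card R) n a b hn hn1 ha hb hqr hrp hP1
  rcases le_total (Nat.card Zc) Nn with hle | hle
  · refine ⟨Nn - Nat.card Zc, Or.inl (by omega), ?_⟩
    rcases hRsum with h0 | h0
    · left
      rw [h0, mul_zero, hS2] at hSS
      have := mul_self_eq_zero.mp hSS
      omega
    · right
      rw [h0, hS2] at hSS
      have e : ((Nn - Nat.card Zc : ℕ) : ℤ) = Nn - Nat.card Zc := by push_cast [hle]; ring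
      have : (((Nn - Nat.card Zc) * (Nn - Nat.card Zc) : ℕ) : ℤ) = ((Nat.card P * Nat.card R : ℕ) : ℤ) := by
        push_cast [hle]
        rw [Nat.card_eq_fintype_card (α := P), Nat.card_eq_fintype_card (α := R)]
        linear_combination hSS
      exact_mod_cast this
  · refine ⟨Nat.card Zc - Nn, Or.inr (by omega), ?_⟩
    rcases hRsum with h0 | h0
    · left
      rw [h0, mul_zero, hS2] at hSS
      have := mul_self_eq_zero.mp hSS
      omega
    · right
      rw [h0, hS2] at hSS
      have : (((Nat.card Zc - Nn) * (Nat.card Zc - Nn) : ℕ) : ℤ) = ((Nat.card P * Nat.card R : ℕ) : ℤ) := by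
        push_cast [hle]
        rw [Nat.card_eq_fintype_card (α := P), Nat.card_eq_fintype_card (α := R)]
        linear_combination hSS
      exact_mod_cast this

end count

end Cfsg.Agent.Helper1.SuzH
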