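import Mathlib

/-!
# Finite-field algebra for Suzuki 2-groups of type A

* `exists_ringEquiv_of_weight`: a multiplicative weight `w` such that some nonzero additive map `f`
  satisfies `f (t * x) = w t * f x` is (the function of) a field automorphism.
* `exists_factor`: if `(x+y)^k + x^k + y^k` is biadditive and not identically zero on a finite field of
  characteristic two, then `x ^ k = σ x * τ x` for two distinct field automorphisms.
* `odd_orderOf_of_injective`: if `x ↦ x * θ x` is injective on nonzero elements then `θ` has odd order.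
-/

set_option autoImplicit false

namespace Cfsg.Agent.Helper1.SuzT

variable {F : Type*} [Field F]

theorem exists_ringEquiv_of_map [Finite F] (g : F → F)
    (hadd : ∀ x y, g (x + y) = g x + g y) (hmul : ∀ x y, g (x * y) = g x * g y) (h1 : g 1 = 1) :
    ∃ σ : F ≃+* F, ∀ x, σ x = g x := by
  have h0 : g 0 = 0 := by
    have := hadd 0 0
    rw [add_zero] at this
    exact left_eq_add.mp this
  let r : F →+* F :=
    { toFun := g, map_one' := h1, map_mul' := hmul, map_zero' := h0, map_add' := hadd }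
  have hinj : Function.Injective r := r.injective
  have hbij : Function.Bijective r := ⟨hinj, Finite.surjective_of_injective hinj⟩
  exact ⟨RingEquiv.ofBijective r hbij, fun x => rfl⟩

theorem exists_ringEquiv_of_weight [Finite F] (w f : F → F)
    (hw0 : w 0 = 0) (hwmul : ∀ x y, w (x * y) = w x * w y)
    (hadd : ∀ x y, f (x + y) = f x + f y) (hne : ∃ x, f x ≠ 0)
    (hf : ∀ t x, t ≠ 0 → f (t * x) = w t * f x) :
    ∃ σ : F ≃+* F, ∀ x, σ x = w x := by
  have hf0 : f 0 = 0 := by
    have := hadd 0 0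
    rw [add_zero] at this
    exact left_eq_add.mp this
  have hf1 : f 1 ≠ 0 := by
    intro h
    obtain ⟨x, hx⟩ := hne
    apply hx
    by_cases hx0 : x = 0
    · rw [hx0, hf0]
    · have := hf x 1 hx0
      rw [mul_one, h, mul_zero] at this
      exact this
  have hwf : ∀ t, f t = w t * f 1 := by
    intro t
    by_cases ht : t = 0
    · rw [ht, hf0, hw0, zero_mul]
    · have := hf t 1 ht
      rwa [mul_one] at this
  have hw : ∀ t, w t = f t * (f 1)⁻¹ := by
    intro t
    rw [hwf t, mul_assoc, mul_inv_cancel₀ hf1, mul_one]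
  apply exists_ringEquiv_of_map w
  · intro x y
    rw [hw, hw x, hw y, hadd, add_mul]
  · exact hwmul
  · rw [hw, mul_inv_cancel₀ hf1]

section fourier

variable [Fintype F] [DecidableEq F]

/-- geometric sum over a nontrivial root of unity -/
theorem geom_sum_unit_eq_zero (u : Fˣ) (hu : u ≠ 1) :
    ∑ m ∈ Finset.range (Fintype.card Fˣ), ((u⁻¹ : Fˣ) : F) ^ (m + 1) = 0 := by
  have hr : ((u⁻¹ : Fˣ) : F) ≠ 1 := by
    intro h
    apply hu
    have : u⁻¹ = 1 := Units.ext h
    rwa [inv_eq_one] at this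
  have hpow : ((u⁻¹ : Fˣ) : F) ^ (Fintype.card Fˣ) = 1 := by
    rw [← Units.val_pow_eq_pow_val, pow_card_eq_one, Units.val_one]
  have h1 : (∑ m ∈ Finset.range (Fintype.card Fˣ), ((u⁻¹ : Fˣ) : F) ^ m) * (((u⁻¹ : Fˣ) : F) - 1) = 0 := by
    rw [geom_sum_mul, hpow, sub_self]
  have h2 : ∑ m ∈ Finset.range (Fintype.card Fˣ), ((u⁻¹ : Fˣ) : F) ^ m = 0 := by
    rcases mul_eq_zero.mp h1 with h | h
    · exact h
    · exact absurd (sub_eq_zero.mp h) hr
  calc ∑ m ∈ Finset.range (Fintype.card Fˣ), ((u⁻¹ : Fˣ) : F) ^ (m + 1)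
      = ((u⁻¹ : Fˣ) : F) * ∑ m ∈ Finset.range (Fintype.card Fˣ), ((u⁻¹ : Fˣ) : F) ^ m := by
        rw [Finset.mul_sum]; apply Finset.sum_congr rfl; intro m _; rw [pow_succ']
    _ = 0 := by rw [h2, mul_zero]

theorem card_units_cast [CharP F 2] : ((Fintype.card Fˣ : ℕ) : F) = 1 := by
  have h2 : (2 : F) = 0 := CharTwo.two_eq_zero
  have hodd : Odd (Fintype.card Fˣ) := by
    rw [Fintype.card_units]
    obtain ⟨n, hn⟩ := FiniteField.card F 2
    obtain ⟨hp, hn⟩ := hn
    rw [hn]
    have hn0 : (n : ℕ) ≠ 0 := n.ne_zero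
    have : Even (2 ^ (n : ℕ)) := (Nat.even_pow' hn0).mpr even_two
    exact Nat.Even.sub_odd (Nat.one_le_two_pow) this odd_one
  obtain ⟨j, hj⟩ := hodd
  rw [hj]
  push_cast
  rw [h2, zero_mul, zero_add]

/-- The `m`-th Fourier component in the first variable. -/
def four (E : F → F → F) (m : ℕ) (x y : F) : F :=
  ∑ u : Fˣ, ((u⁻¹ : Fˣ) : F) ^ (m + 1) * E (u * x) y

theorem sum_four [CharP F 2] (E : F → F → F) (x y : F) :
    ∑ m ∈ Finset.range (Fintype.card Fˣ), four E m x y = E x y := by
  unfold four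
  rw [Finset.sum_comm]
  have : ∀ u : Fˣ, ∑ m ∈ Finset.range (Fintype.card Fˣ), ((u⁻¹ : Fˣ) : F) ^ (m + 1) * E (u * x) y
      = if u = 1 then E x y else 0 := by
    intro u
    rw [← Finset.sum_mul]
    split_ifs with hu
    · rw [hu]
      simp only [inv_one, Units.val_one, one_pow, Finset.sum_const, Finset.card_range, nsmul_eq_mul,
        mul_one, one_mul]
      rw [card_units_cast, one_mul]
    · rw [geom_sum_unit_eq_zero u hu, zero_mul]
  rw [Finset.sum_congr rfl (fun u _ => this u)]
  simp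

theorem four_add_left (E : F → F → F) (hE : ∀ x x' y, E (x + x') y = E x y + E x' y) (m : ℕ)
    (x x' y : F) : four E m (x + x') y = four E m x y + four E m x' y := by
  unfold four
  rw [← Finset.sum_add_distrib]
  apply Finset.sum_congr rfl
  intro u _
  rw [mul_add, hE, mul_add]

theorem four_add_right (E : F → F → F) (hE : ∀ x y y', E x (y + y') = E x y + E x y') (m : ℕ)
    (x y y' : F) : four E m x (y + y') = four E m x y + four E m x y' := by
  unfold four
  rw [← Finset.sum_add_distrib]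
  apply Finset.sum_congr rfl
  intro u _
  rw [hE, mul_add]

theorem four_smul_left (E : F → F → F) (m : ℕ) (t x y : F) (ht : t ≠ 0) :
    four E m (t * x) y = t ^ (m + 1) * four E m x y := by
  unfold four
  let t' : Fˣ := Units.mk0 t ht
  rw [Finset.mul_sum]
  rw [← Equiv.sum_comp (Equiv.mulRight t'⁻¹)]
  apply Finset.sum_congr rfl
  intro u _
  simp only [Equiv.coe_mulRight, mul_inv_rev, inv_inv, Units.val_mul, t', Units.val_mk0,
    Units.val_inv_eq_inv_val]
  rw [mul_pow, ← mul_assoc (t ^ (m + 1)), mul_assoc (u : F) t⁻¹, ← mul_assoc t⁻¹ t x,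
    inv_mul_cancel₀ ht, one_mul, mul_comm (t ^ (m+1))]

theorem four_smul_right (E : F → F → F) (k : ℕ) (hk : ∀ t x y, E (t * x) (t * y) = t ^ k * E x y)
    (m : ℕ) (t x y : F) (ht : t ≠ 0) :
    four E m x (t * y) = (t ^ k * (t⁻¹) ^ (m + 1)) * four E m x y := by
  unfold four
  let t' : Fˣ := Units.mk0 t ht
  rw [Finset.mul_sum]
  rw [← Equiv.sum_comp (Equiv.mulRight t')]
  apply Finset.sum_congr rfl
  intro u _
  simp only [Equiv.coe_mulRight, mul_inv_rev, Units.val_mul, t', Units.val_mk0,
    Units.val_inv_eq_inv_val]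
  have : E ((u : F) * t * x) (t * y) = t ^ k * E (u * x) y := by
    rw [← hk]; congr 1; ring
  rw [this, mul_pow]
  ring

/-- Main factorisation lemma. -/
theorem exists_factor [CharP F 2] (k : ℕ) (hk : 1 ≤ k)
    (hadd : ∀ x x' y : F, (x + x' + y) ^ k + (x + x') ^ k + y ^ k =
      ((x + y) ^ k + x ^ k + y ^ k) + ((x' + y) ^ k + x' ^ k + y ^ k))
    (hne : ∃ x y : F, (x + y) ^ k + x ^ k + y ^ k ≠ 0) :
    ∃ σ τ : F ≃+* F, σ ≠ τ ∧ ∀ x, x ^ k = σ x * τ x := by
  classical
  set E : F → F → F := fun x y => (x + y) ^ k + x ^ k + y ^ k with hE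
  have hEl : ∀ x x' y, E (x + x') y = E x y + E x' y := by
    intro x x' y; simp only [hE]; exact hadd x x' y
  have hEsymm : ∀ x y, E x y = E y x := by
    intro x y; simp only [hE]; rw [add_comm x y]; ring
  have hEr : ∀ x y y', E x (y + y') = E x y + E x y' := by
    intro x y y'; rw [hEsymm, hEl, hEsymm y, hEsymm y']
  have hEk : ∀ t x y, E (t * x) (t * y) = t ^ k * E x y := by
    intro t x y; simp only [hE]; rw [← mul_add, mul_pow, mul_pow, mul_pow]; ring
  obtain ⟨x0, y0, h0⟩ := hne
  have hex : ∃ m, four E m x0 y0 ≠ 0 := by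
    by_contra hcon
    push Not at hcon
    have := sum_four E x0 y0
    rw [Finset.sum_eq_zero (fun m _ => hcon m)] at this
    exact h0 this.symm
  obtain ⟨m, hm⟩ := hex
  -- first variable
  obtain ⟨σ, hσ⟩ := exists_ringEquiv_of_weight (fun t : F => t ^ (m + 1)) (fun x => four E m x y0)
    (by simp) (fun x y => mul_pow x y _) (fun x y => four_add_left E hEl m x y y0) ⟨x0, hm⟩
    (fun t x ht => four_smul_left E m t x y0 ht)
  obtain ⟨τ, hτ⟩ := exists_ringEquiv_of_weight (fun t : F => t ^ k * (t⁻¹) ^ (m + 1))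
    (fun y => four E m x0 y)
    (by simp [zero_pow (by omega : k ≠ 0)])
    (fun x y => by simp only [mul_pow, mul_inv]; ring)
    (fun y y' => four_add_right E hEr m x0 y y') ⟨y0, hm⟩
    (fun t y ht => four_smul_right E k hEk m t x0 y ht)
  have hfac : ∀ x, x ^ k = σ x * τ x := by
    intro x
    rw [hσ, hτ]
    by_cases hx : x = 0
    · rw [hx]; simp [zero_pow (by omega : k ≠ 0)]
    · show x ^ k = x ^ (m + 1) * (x ^ k * x⁻¹ ^ (m + 1))
      rw [mul_comm (x ^ k), ← mul_assoc, ← mul_pow, mul_inv_cancel₀ hx, one_pow, one_mul]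
  refine ⟨σ, τ, ?_, hfac⟩
  intro hστ
  apply h0
  have hsq : ∀ x, x ^ k = σ (x * x) := by
    intro x; rw [hfac, ← hστ, map_mul]
  rw [hsq, hsq x0, hsq y0]
  have : (x0 + y0) * (x0 + y0) = x0 * x0 + y0 * y0 := by
    have h2 : (2 : F) = 0 := CharTwo.two_eq_zero
    ring_nf
    rw [h2]; ring
  rw [this, map_add, add_assoc]
  exact CharTwo.add_self_eq_zero _

end fourier

section odd

variable [Finite F]

theorem odd_orderOf_of_injective (θ : F ≃+* F)
    (hinj : ∀ x y : F, x ≠ 0 → y ≠ 0 → x * θ x = y * θ y → x = y) : Odd (orderOf θ) := by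
  classical
  haveI : Fintype F := Fintype.ofFinite F
  haveI : Finite (F ≃+* F) :=
    Finite.of_injective (fun f : F ≃+* F => (f : F → F)) DFunLike.coe_injective
  by_contra hodd
  rw [Nat.not_odd_iff_even] at hodd
  obtain ⟨m, hm⟩ := hodd
  have hpos : 0 < orderOf θ := orderOf_pos θ
  have hm0 : 0 < m := by omega
  -- Fix(θ²) = Fix(θ)
  have hfix : ∀ s : F, θ (θ s) = s → θ s = s := by
    intro s hs
    by_cases hs0 : s = 0
    · rw [hs0, map_zero]
    have hθs : θ s ≠ 0 := by
      intro h; apply hs0; exact (map_eq_zero θ).mp h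
    -- t = s / θ s
    have ht : (s * (θ s)⁻¹) * θ (s * (θ s)⁻¹) = 1 * θ 1 := by
      rw [map_mul, map_inv₀, hs, map_one]
      field_simp
    have := hinj _ _ (mul_ne_zero hs0 (inv_ne_zero hθs)) one_ne_zero ht
    field_simp at this
    exact this.symm
  let G1 : Subgroup (F ≃+* F) := Subgroup.zpowers θ
  let G2 : Subgroup (F ≃+* F) := Subgroup.zpowers (θ ^ 2)
  have hsub : FixedPoints.subfield G1 F = FixedPoints.subfield G2 F := by
    ext s
    constructor
    · intro hs g
      obtain ⟨g, hg⟩ := g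
      have hg1 : g ∈ G1 := by
        obtain ⟨j, rfl⟩ := Subgroup.mem_zpowers_iff.mp hg
        rw [← zpow_natCast, ← zpow_mul]
        exact Subgroup.zpow_mem_zpowers θ _
      exact hs ⟨g, hg1⟩
    · intro hs g
      have h2 : θ (θ s) = s := by
        have := hs ⟨θ ^ 2, Subgroup.mem_zpowers _⟩
        simpa [Subgroup.smul_def, RingAut.smul_def, pow_two] using this
      have h1 : θ s = s := hfix s h2
      have hθinv : θ⁻¹ s = s := by
        have : θ⁻¹ (θ s) = s := by
          show θ.symm (θ s) = s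
          simp
        rwa [h1] at this
      have hall : ∀ j : ℤ, (θ ^ j) s = s := by
        intro j
        induction j using Int.induction_on with
        | zero => simp
        | succ i ih =>
          rw [zpow_add_one]
          show (θ ^ (i : ℤ)) (θ s) = s
          rw [h1]; exact ih
        | pred i ih =>
          rw [zpow_sub_one]
          show (θ ^ (-(i : ℤ))) (θ⁻¹ s) = s
          rw [hθinv]; exact ih
      obtain ⟨g, hg⟩ := g
      obtain ⟨j, rfl⟩ := Subgroup.mem_zpowers_iff.mp hg
      exact hall j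
  haveI : Fintype G1 := Fintype.ofFinite _
  haveI : Fintype G2 := Fintype.ofFinite _
  have hc1 : Module.finrank (FixedPoints.subfield G1 F) F = Fintype.card G1 :=
    FixedPoints.finrank_eq_card G1 F
  have hc2 : Module.finrank (FixedPoints.subfield G2 F) F = Fintype.card G2 :=
    FixedPoints.finrank_eq_card G2 F
  have hcard1 : Fintype.card G1 = orderOf θ := by
    rw [← Nat.card_eq_fintype_card]; exact Nat.card_zpowers θ
  have hcard2 : Fintype.card G2 = m := by
    rw [← Nat.card_eq_fintype_card, Nat.card_zpowers, orderOf_pow' θ (by norm_num), hm]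
    have : Nat.gcd (m + m) 2 = 2 := by
      apply Nat.gcd_eq_right; exact ⟨m, by ring⟩
    rw [this]; omega
  have : Module.finrank (FixedPoints.subfield G1 F) F = Module.finrank (FixedPoints.subfield G2 F) F := by
    rw [hsub]
  rw [hc1, hc2, hcard1, hcard2] at this
  omega

end odd

end Cfsg.Agent.Helper1.SuzT
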