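import Mathlib

/-!
# Field coordinates on a module with a transitive cyclic action ("Singer cycle")
-/

set_option autoImplicit false

namespace Cfsg.Agent.Helper1.SuzT

open Polynomial

theorem exists_field_coords {E : Type*} [AddCommGroup E] [Finite E] [Nontrivial E]
    (h2 : ∀ e : E, e + e = 0) (f : E →+ E)
    (htr : ∀ x y : E, x ≠ 0 → y ≠ 0 → ∃ i : ℕ, (f^[i]) x = y) :
    ∃ (F : Type) (_ : Field F) (_ : Fintype F) (β : E ≃+ F) (c : F), ∀ e, β (f e) = c * β e := by
  classical
  letI : Module (ZMod 2) E := AddCommGroup.zmodModule (n := 2) (fun x => by rw [two_nsmul]; exact h2 x)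
  let φ : E →ₗ[ZMod 2] E := f.toZModLinearMap 2
  have hφ : ∀ e, φ e = f e := fun e => rfl
  have hsimple : IsSimpleModule (ZMod 2)[X] (Module.AEval' φ) := by
    haveI : Nontrivial (Module.AEval' φ) := (Module.AEval'.of φ).symm.toEquiv.nontrivial
    haveI : Nontrivial (Submodule (ZMod 2)[X] (Module.AEval' φ)) := inferInstance
    refine { toIsSimpleOrder := { toNontrivial := inferInstance, eq_bot_or_eq_top := fun N => ?_ } }
    by_cases hN : N = ⊥
    · exact Or.inl hN
    right
    obtain ⟨n, hnN, hn0⟩ := (Submodule.ne_bot_iff N).mp hN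
    rw [eq_top_iff]
    intro m _
    by_cases hm0 : m = 0
    · rw [hm0]; exact N.zero_mem
    -- n = of x, m = of y
    obtain ⟨x, rfl⟩ := (Module.AEval'.of φ).surjective n
    obtain ⟨y, rfl⟩ := (Module.AEval'.of φ).surjective m
    have hx0 : x ≠ 0 := by
      rintro rfl; exact hn0 (map_zero _)
    have hy0 : y ≠ 0 := by
      rintro rfl; exact hm0 (map_zero _)
    obtain ⟨i, hi⟩ := htr x y hx0 hy0
    have : (X ^ i : (ZMod 2)[X]) • Module.AEval'.of φ x = Module.AEval'.of φ y := by
      rw [Module.AEval'.X_pow_smul_of]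
      congr 1
      rw [← hi]
      show (φ ^ i) x = _
      rw [Module.End.pow_apply]
      rfl
    rw [← this]
    exact N.smul_mem _ hnN
  obtain ⟨I, hI, ⟨e⟩⟩ := isSimpleModule_iff_quot_maximal.mp hsimple
  haveI := hI
  letI : Field ((ZMod 2)[X] ⧸ I) := Ideal.Quotient.field I
  let β0 : E ≃+ ((ZMod 2)[X] ⧸ I) := (Module.AEval'.of φ).toAddEquiv.trans e.toAddEquiv
  haveI : Finite ((ZMod 2)[X] ⧸ I) := Finite.of_equiv E β0.toEquiv
  haveI : Fintype ((ZMod 2)[X] ⧸ I) := Fintype.ofFinite _
  refine ⟨(ZMod 2)[X] ⧸ I, inferInstance, inferInstance, β0, Ideal.Quotient.mk I X, ?_⟩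
  intro x
  show e (Module.AEval'.of φ (f x)) = _ * e (Module.AEval'.of φ x)
  rw [← hφ, ← Module.AEval'.X_smul_of, map_smul, Algebra.smul_def]
  rfl

end Cfsg.Agent.Helper1.SuzT

namespace Cfsg.Agent.Helper1.SuzT

/-- Multiplicative version of `exists_field_coords`, with the characteristic recorded. -/
theorem exists_field_coords_mul {A : Type*} [CommGroup A] [Finite A] [Nontrivial A]
    (h2 : ∀ a : A, a * a = 1) (g : A →* A)
    (htr : ∀ x y : A, x ≠ 1 → y ≠ 1 → ∃ i : ℕ, (g^[i]) x = y) :
    ∃ (F : Type) (_ : Field F) (_ : Fintype F) (_ : CharP F 2) (β : A → F) (c : F),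
      Function.Bijective β ∧ (∀ a b, β (a * b) = β a + β b) ∧ ∀ a, β (g a) = c * β a := by
  have hiter : ∀ (i : ℕ) (x : Additive A), ((MonoidHom.toAdditive g)^[i]) x
      = Additive.ofMul ((g^[i]) (Additive.toMul x)) := by
    intro i
    induction i with
    | zero => intro x; rfl
    | succ n ih =>
      intro x
      rw [Function.iterate_succ_apply', Function.iterate_succ_apply', ih]
      rfl
  obtain ⟨F, hF, hFt, β, c, hc⟩ := exists_field_coords (E := Additive A)
    (fun e => by
      show Additive.ofMul (Additive.toMul e * Additive.toMul e) = 0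
      rw [h2]; rfl)
    (MonoidHom.toAdditive g)
    (by
      intro x y hx hy
      obtain ⟨i, hi⟩ := htr (Additive.toMul x) (Additive.toMul y)
        (fun h => hx (by
          have : Additive.ofMul (Additive.toMul x) = Additive.ofMul 1 := by rw [h]
          simpa using this))
        (fun h => hy (by
          have : Additive.ofMul (Additive.toMul y) = Additive.ofMul 1 := by rw [h]
          simpa using this))
      refine ⟨i, ?_⟩
      rw [hiter, hi]; rfl)
  have hchar : CharP F 2 := by
    have h1 : (1 : F) + 1 = 0 := by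
      obtain ⟨e, he⟩ := β.surjective 1
      rw [← he, ← map_add]
      have : e + e = 0 := by
        show Additive.ofMul (Additive.toMul e * Additive.toMul e) = 0
        rw [h2]; rfl
      rw [this, map_zero]
    have h2' : (2 : F) = 0 := by rw [← one_add_one_eq_two]; exact h1
    exact CharTwo.of_one_ne_zero_of_two_eq_zero one_ne_zero h2'
  refine ⟨F, hF, hFt, hchar, fun a => β (Additive.ofMul a), c, ?_, ?_, ?_⟩
  · exact β.bijective.comp Additive.ofMul.bijective
  · intro a b
    rw [← map_add]; rfl
  · intro a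
    exact hc (Additive.ofMul a)

end Cfsg.Agent.Helper1.SuzT
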