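import Mathlib

/-!
# Two central extensions with the same squaring map are isomorphic

`P`, `M` finite groups with surjections onto `V` whose kernels are central, and a map `ι` from
`ker πP` to `ker πM` (injective, multiplicative) such that `ι (p * p) = m * m` whenever `p`, `m` lie
over the same element of `V`.  Then `P ≃* M` (if they have the same cardinality).
-/

set_option autoImplicit false

namespace Cfsg.Agent.Helper1.SuzT

variable {P M V : Type*} [Group P] [Group M] [Group V]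

/-- The hypotheses. -/
structure SqData (πP : P →* V) (πM : M →* V) (ι : P → M) : Prop where
  surjP : Function.Surjective πP
  surjM : Function.Surjective πM
  cenP : ∀ z, πP z = 1 → ∀ p, z * p = p * z
  cenM : ∀ w, πM w = 1 → ∀ m, w * m = m * w
  sqP : ∀ p, πP (p * p) = 1
  ιker : ∀ z, πP z = 1 → πM (ι z) = 1
  ιmul : ∀ z z', πP z = 1 → πP z' = 1 → ι (z * z') = ι z * ι z'
  ιinj : ∀ z, πP z = 1 → ι z = 1 → z = 1
  sq : ∀ p m, πP p = πM m → ι (p * p) = m * m

namespace SqData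

variable {πP : P →* V} {πM : M →* V} {ι : P → M}

theorem ι_one (h : SqData πP πM ι) : ι 1 = 1 := by
  have := h.ιmul 1 1 (map_one _) (map_one _)
  rw [one_mul] at this
  exact (mul_eq_left.mp this.symm)

theorem ι_inv (h : SqData πP πM ι) (z : P) (hz : πP z = 1) : ι z⁻¹ = (ι z)⁻¹ := by
  have hz' : πP z⁻¹ = 1 := by rw [map_inv, hz, inv_one]
  have := h.ιmul z z⁻¹ hz hz'
  rw [mul_inv_cancel, h.ι_one] at this
  exact (eq_inv_of_mul_eq_one_right this.symm)

theorem V_sq (h : SqData πP πM ι) (v : V) : v * v = 1 := by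
  obtain ⟨p, rfl⟩ := h.surjP v
  rw [← map_mul]; exact h.sqP p

theorem V_inv (h : SqData πP πM ι) (v : V) : v⁻¹ = v :=
  inv_eq_of_mul_eq_one_left (h.V_sq v)

theorem V_comm (h : SqData πP πM ι) (v w : V) : v * w = w * v := by
  have h1 := h.V_sq (v * w)
  have : v * w = (v * w)⁻¹ := (h.V_inv _).symm
  rw [this, mul_inv_rev, h.V_inv, h.V_inv]

/-- commutator as a product of squares -/
theorem comm_eq_sq {G : Type*} [Group G] (x y : G) :
    x * y * x⁻¹ * y⁻¹ = (x * x) * ((x⁻¹ * y) * (x⁻¹ * y)) * (y⁻¹ * y⁻¹) := by group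

theorem ι_comm (h : SqData πP πM ι) (p p' : P) (m m' : M) (hp : πP p = πM m) (hp' : πP p' = πM m') :
    πP (p * p' * p⁻¹ * p'⁻¹) = 1 ∧ ι (p * p' * p⁻¹ * p'⁻¹) = m * m' * m⁻¹ * m'⁻¹ := by
  constructor
  · simp only [map_mul, map_inv]
    rw [h.V_comm (πP p) (πP p'), mul_assoc (πP p'), mul_inv_cancel, mul_one, mul_inv_cancel]
  · rw [comm_eq_sq, comm_eq_sq m m']
    have e1 : πP (p⁻¹ * p') = πM (m⁻¹ * m') := by simp [hp, hp']
    have e2 : πP p'⁻¹ = πM m'⁻¹ := by simp [hp']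
    rw [h.ιmul _ _ (by rw [map_mul, h.sqP, h.sqP, one_mul]) (h.sqP _),
      h.ιmul _ _ (h.sqP _) (h.sqP _), h.sq p m hp, h.sq _ _ e1, h.sq _ _ e2]

/-- The admissible subgroups of `P × M`. -/
def Adm (πP : P →* V) (πM : M →* V) (ι : P → M) (D : Subgroup (P × M)) : Prop :=
  (∀ x ∈ D, πP x.1 = πM x.2) ∧ (∀ x ∈ D, πP x.1 = 1 → x.2 = ι x.1) ∧
    ∀ z, πP z = 1 → (z, ι z) ∈ D

/-- The graph of `ι` on the kernel. -/
def diag (h : SqData πP πM ι) : Subgroup (P × M) where
  carrier := {x | πP x.1 = 1 ∧ x.2 = ι x.1}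
  one_mem' := ⟨map_one _, h.ι_one.symm⟩
  mul_mem' := by
    rintro ⟨a, b⟩ ⟨c, d⟩ ⟨ha, hb⟩ ⟨hc, hd⟩
    simp only at ha hb hc hd
    refine ⟨by simp [ha, hc], ?_⟩
    simp only [Prod.snd_mul, Prod.fst_mul]
    rw [h.ιmul a c ha hc, hb, hd]
  inv_mem' := by
    rintro ⟨a, b⟩ ⟨ha, hb⟩
    simp only at ha hb
    refine ⟨by simp [ha], ?_⟩
    simp only [Prod.snd_inv, Prod.fst_inv]
    rw [h.ι_inv a ha, hb]

theorem adm_diag (h : SqData πP πM ι) : Adm πP πM ι h.diag := by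
  refine ⟨?_, ?_, ?_⟩
  · rintro ⟨a, b⟩ ⟨ha, hb⟩
    simp only at ha hb ⊢
    rw [ha, hb, h.ιker a ha]
  · rintro ⟨a, b⟩ ⟨_, hb⟩ _
    exact hb
  · intro z hz
    exact ⟨hz, rfl⟩

theorem conj_mem (h : SqData πP πM ι) {D : Subgroup (P × M)} (hD : Adm πP πM ι D)
    (e : P × M) (he : πP e.1 = πM e.2) {d : P × M} (hd : d ∈ D) : e * d * e⁻¹ ∈ D := by
  have hc := h.ι_comm e.1 d.1 e.2 d.2 he (hD.1 d hd)
  have hmem : (e.1 * d.1 * e.1⁻¹ * d.1⁻¹, e.2 * d.2 * e.2⁻¹ * d.2⁻¹) ∈ D := by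
    have := hD.2.2 _ hc.1
    rwa [hc.2] at this
  have : e * d * e⁻¹ = (e.1 * d.1 * e.1⁻¹ * d.1⁻¹, e.2 * d.2 * e.2⁻¹ * d.2⁻¹) * d := by
    ext <;> simp
  rw [this]
  exact D.mul_mem hmem hd

theorem sq_mem (h : SqData πP πM ι) {D : Subgroup (P × M)} (hD : Adm πP πM ι D)
    (e : P × M) (he : πP e.1 = πM e.2) : e * e ∈ D := by
  have := hD.2.2 _ (h.sqP e.1)
  rw [h.sq e.1 e.2 he] at this
  exact this

/-- Enlarging an admissible subgroup by one element of the fibre product. -/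
def enlarge (h : SqData πP πM ι) {D : Subgroup (P × M)} (hD : Adm πP πM ι D)
    (e : P × M) (he : πP e.1 = πM e.2) : Subgroup (P × M) where
  carrier := {x | x ∈ D ∨ x * e⁻¹ ∈ D}
  one_mem' := Or.inl D.one_mem
  mul_mem' := by
    intro a b ha hb
    have he' : πP e⁻¹.1 = πM e⁻¹.2 := by simp [he]
    rcases ha with ha | ha <;> rcases hb with hb | hb
    · exact Or.inl (D.mul_mem ha hb)
    · right
      rw [mul_assoc]; exact D.mul_mem ha hb
    · right
      -- a = a' e, so a b e⁻¹ = a' (e b e⁻¹)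
      have : a * b * e⁻¹ = (a * e⁻¹) * (e * b * e⁻¹) := by group
      rw [this]
      exact D.mul_mem ha (h.conj_mem hD e he hb)
    · left
      -- a = a' e, b = b' e: a b = a' (e b' e⁻¹) (e e)
      have : a * b = (a * e⁻¹) * (e * (b * e⁻¹) * e⁻¹) * (e * e) := by group
      rw [this]
      exact D.mul_mem (D.mul_mem ha (h.conj_mem hD e he hb)) (h.sq_mem hD e he)
  inv_mem' := by
    intro a ha
    have he' : πP e⁻¹.1 = πM e⁻¹.2 := by simp [he]
    rcases ha with ha | ha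
    · exact Or.inl (D.inv_mem ha)
    · right
      -- a = a' e; a⁻¹ e⁻¹ = e⁻¹ a'⁻¹ e⁻¹ = (e⁻¹ a'⁻¹ e) (e e)⁻¹
      have : a⁻¹ * e⁻¹ = (e⁻¹ * (a * e⁻¹)⁻¹ * e⁻¹⁻¹) * (e * e)⁻¹ := by group
      rw [this]
      exact D.mul_mem (h.conj_mem hD e⁻¹ he' (D.inv_mem ha)) (D.inv_mem (h.sq_mem hD e he))

theorem surj_of_maximal (h : SqData πP πM ι) {D : Subgroup (P × M)}
    (hD : Maximal (Adm πP πM ι) D) (v : V) : ∃ x ∈ D, πP x.1 = v := by
  by_contra hcon
  push Not at hcon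
  obtain ⟨p0, hp0⟩ := h.surjP v
  obtain ⟨m0, hm0⟩ := h.surjM v
  have he : πP (p0, m0).1 = πM (p0, m0).2 := by simp [hp0, hm0]
  set D' := h.enlarge hD.prop (p0, m0) he with hD'
  have hle : D ≤ D' := fun x hx => Or.inl hx
  have hadm : Adm πP πM ι D' := by
    refine ⟨?_, ?_, ?_⟩
    · rintro x (hx | hx)
      · exact hD.prop.1 x hx
      · have := hD.prop.1 _ hx
        simp only [Prod.fst_mul, Prod.fst_inv, Prod.snd_mul, Prod.snd_inv, map_mul, map_inv,
          hp0, hm0] at this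
        exact mul_right_cancel this
    · rintro x (hx | hx) hx1
      · exact hD.prop.2.1 x hx hx1
      · exfalso
        apply hcon ((x * (p0, m0)⁻¹)⁻¹) (D.inv_mem hx)
        simp only [Prod.fst_inv, Prod.fst_mul, map_inv, map_mul, hx1, hp0, one_mul, inv_inv]
    · intro z hz
      exact Or.inl (hD.prop.2.2 z hz)
  have hmem : ((p0, m0) : P × M) ∈ D' := by
    right; rw [mul_inv_cancel]; exact D.one_mem
  have := hD.le_of_ge hadm hle hmem
  exact hcon _ this hp0

theorem exists_mulEquiv [Finite P] [Finite M] (h : SqData πP πM ι)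
    (hcard : Nat.card P = Nat.card M) : Nonempty (P ≃* M) := by
  obtain ⟨D, -, hD⟩ := Finite.exists_le_maximal (p := Adm πP πM ι) h.adm_diag
  have hsurj := h.surj_of_maximal hD
  -- first projection
  let f1 : D →* P := (MonoidHom.fst P M).comp D.subtype
  let f2 : D →* M := (MonoidHom.snd P M).comp D.subtype
  have hf1inj : Function.Injective f1 := by
    rw [injective_iff_map_eq_one]
    rintro ⟨⟨a, b⟩, hab⟩ h1
    simp only [f1, MonoidHom.coe_comp, Subgroup.coe_subtype, Function.comp_apply,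
      MonoidHom.coe_fst] at h1
    have := hD.prop.2.1 _ hab (by simp [h1])
    simp only at this
    apply Subtype.ext
    simp only [Subgroup.coe_one]
    rw [Prod.ext_iff]
    simp only [Prod.fst_one, Prod.snd_one]
    exact ⟨h1, by rw [this, h1, h.ι_one]⟩
  have hf1surj : Function.Surjective f1 := by
    intro p
    obtain ⟨x, hx, hxp⟩ := hsurj (πP p)
    have hz : πP (x.1⁻¹ * p) = 1 := by rw [map_mul, map_inv, hxp, inv_mul_cancel]
    have hmem := D.mul_mem hx (hD.prop.2.2 _ hz)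
    refine ⟨⟨_, hmem⟩, ?_⟩
    simp [f1]
  have hf2inj : Function.Injective f2 := by
    rw [injective_iff_map_eq_one]
    rintro ⟨⟨a, b⟩, hab⟩ h1
    simp only [f2, MonoidHom.coe_comp, Subgroup.coe_subtype, Function.comp_apply,
      MonoidHom.coe_snd] at h1
    have h2 := hD.prop.1 _ hab
    simp only [h1, map_one] at h2
    have h3 := hD.prop.2.1 _ hab h2
    simp only [h1] at h3
    have := h.ιinj a h2 h3.symm
    apply Subtype.ext
    simp only [Subgroup.coe_one]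
    rw [Prod.ext_iff]
    exact ⟨this, h1⟩
  have e1 : D ≃* P := MulEquiv.ofBijective f1 ⟨hf1inj, hf1surj⟩
  have hf2bij : Function.Bijective f2 := by
    rw [Nat.bijective_iff_injective_and_card]
    refine ⟨hf2inj, ?_⟩
    rw [Nat.card_congr e1.toEquiv, hcard]
  exact ⟨e1.symm.trans (MulEquiv.ofBijective f2 hf2bij)⟩

end SqData

end Cfsg.Agent.Helper1.SuzT
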