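import Mathlib
import Cfsg.Prelude.Def_LieRecognition

/-!
# The model group `suzukiTypeA F φ`
-/

set_option autoImplicit false

namespace Cfsg.Agent.Helper1.SuzT

variable {F : Type*} [Field F] (φ : F →+* F)

/-- The matrix `(x, y)`. -/
def matA (x y : F) : Matrix (Fin 3) (Fin 3) F := !![1, 0, 0; x, 1, 0; y, φ x, 1]

theorem matA_mul (x y x' y' : F) :
    matA φ x y * matA φ x' y' = matA φ (x + x') (y + y' + φ x * x') := by
  unfold matA
  ext i j
  fin_cases i <;> fin_cases j <;> simp [Matrix.mul_apply, Fin.sum_univ_three] <;> ring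

theorem matA_zero : matA φ 0 0 = 1 := by
  unfold matA
  ext i j
  fin_cases i <;> fin_cases j <;> simp

theorem matA_inj {x y x' y' : F} (h : matA φ x y = matA φ x' y') : x = x' ∧ y = y' := by
  have h1 := congrFun (congrFun h 1) 0
  have h2 := congrFun (congrFun h 2) 0
  simp [matA] at h1 h2
  exact ⟨h1, h2⟩

/-- The unit `(x, y)`. -/
def unitA (x y : F) : GL (Fin 3) F where
  val := matA φ x y
  inv := matA φ (-x) (-y + φ x * x)
  val_inv := by rw [matA_mul, ← matA_zero φ]; congr 1 <;> ring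
  inv_val := by rw [matA_mul, ← matA_zero φ]; congr 1 <;> simp <;> ring

@[simp] theorem unitA_val (x y : F) : (unitA φ x y : Matrix (Fin 3) (Fin 3) F) = matA φ x y := rfl

theorem unitA_mul (x y x' y' : F) :
    unitA φ x y * unitA φ x' y' = unitA φ (x + x') (y + y' + φ x * x') := by
  apply Units.ext
  simp [matA_mul]

theorem unitA_zero : unitA φ 0 0 = 1 := by
  apply Units.ext
  simp [matA_zero]

theorem unitA_inv (x y : F) : (unitA φ x y)⁻¹ = unitA φ (-x) (-y + φ x * x) := by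
  apply Units.ext
  rfl

theorem unitA_inj {x y x' y' : F} (h : unitA φ x y = unitA φ x' y') : x = x' ∧ y = y' :=
  matA_inj φ (congrArg Units.val h)

theorem mem_suzukiTypeA_iff (g : GL (Fin 3) F) :
    g ∈ Cfsg.suzukiTypeA F φ ↔ ∃ x y, g = unitA φ x y := by
  constructor
  · intro hg
    unfold Cfsg.suzukiTypeA at hg
    induction hg using Subgroup.closure_induction with
    | mem g hg =>
      obtain ⟨x, y, hxy⟩ := hg
      exact ⟨x, y, Units.ext hxy⟩
    | one => exact ⟨0, 0, (unitA_zero φ).symm⟩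
    | mul a b _ _ ha hb =>
      obtain ⟨x, y, rfl⟩ := ha
      obtain ⟨x', y', rfl⟩ := hb
      exact ⟨_, _, unitA_mul φ x y x' y'⟩
    | inv a _ ha =>
      obtain ⟨x, y, rfl⟩ := ha
      exact ⟨_, _, unitA_inv φ x y⟩
  · rintro ⟨x, y, rfl⟩
    exact Subgroup.subset_closure ⟨x, y, rfl⟩

theorem unitA_mem (x y : F) : unitA φ x y ∈ Cfsg.suzukiTypeA F φ :=
  (mem_suzukiTypeA_iff φ _).mpr ⟨x, y, rfl⟩

/-- The element `(x, y)` of the model group. -/
def elA (x y : F) : Cfsg.suzukiTypeA F φ := ⟨unitA φ x y, unitA_mem φ x y⟩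

theorem exists_elA (g : Cfsg.suzukiTypeA F φ) : ∃ x y, g = elA φ x y := by
  obtain ⟨x, y, h⟩ := (mem_suzukiTypeA_iff φ g.1).mp g.2
  exact ⟨x, y, Subtype.ext h⟩

theorem elA_mul (x y x' y' : F) :
    elA φ x y * elA φ x' y' = elA φ (x + x') (y + y' + φ x * x') :=
  Subtype.ext (unitA_mul φ x y x' y')

theorem elA_zero : elA φ 0 0 = 1 := Subtype.ext (unitA_zero φ)

theorem elA_inj {x y x' y' : F} (h : elA φ x y = elA φ x' y') : x = x' ∧ y = y' :=
  unitA_inj φ (congrArg Subtype.val h)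

/-- The bijection with `F × F`. -/
noncomputable def equivA : F × F ≃ Cfsg.suzukiTypeA F φ :=
  Equiv.ofBijective (fun p => elA φ p.1 p.2) ⟨by
    rintro ⟨a, b⟩ ⟨c, d⟩ h
    obtain ⟨h1, h2⟩ := elA_inj φ h
    simp only at h1 h2
    rw [h1, h2], by
    intro g
    obtain ⟨x, y, rfl⟩ := exists_elA φ g
    exact ⟨(x, y), rfl⟩⟩

theorem card_suzukiTypeA [Finite F] : Nat.card (Cfsg.suzukiTypeA F φ) = Nat.card F ^ 2 := by
  rw [← Nat.card_congr (equivA φ), Nat.card_prod, sq]

instance [Finite F] : Finite (Cfsg.suzukiTypeA F φ) := Finite.of_equiv _ (equivA φ)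

/-- The projection to the first coordinate. -/
noncomputable def projA : Cfsg.suzukiTypeA F φ →* Multiplicative F where
  toFun g := Multiplicative.ofAdd ((g.1 : Matrix (Fin 3) (Fin 3) F) 1 0)
  map_one' := by simp
  map_mul' := by
    intro a b
    obtain ⟨x, y, rfl⟩ := exists_elA φ a
    obtain ⟨x', y', rfl⟩ := exists_elA φ b
    rw [elA_mul]
    simp [elA, matA]

theorem projA_elA (x y : F) : projA φ (elA φ x y) = Multiplicative.ofAdd x := by
  simp [projA, elA, matA]

end Cfsg.Agent.Helper1.SuzT
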