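import Mathlib
import Cfsg.Agent.Helper3.SuzA

/-!
# Group-theoretic preliminaries for Suzuki 2-groups of order `q²`

`K` commutative, acting on the finite 2-group `P`, regularly on the involutions, all of which are central;
the centre `Z` is elementary abelian and `|P| = |Z|²`.
-/

set_option autoImplicit false

universe u v

namespace Cfsg.Agent.Helper1.SuzT

open Cfsg.Agent.Helper3.SuzA

variable {K : Type v} [CommGroup K] {P : Type u} [Group P] [MulDistribMulAction K P]

/-- The standing hypotheses. -/
structure Reg (K : Type v) [CommGroup K] (P : Type u) [Group P] [MulDistribMulAction K P] : Prop where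
  pgroup : IsPGroup 2 P
  cen2 : ∀ z ∈ Subgroup.center P, z * z = 1
  inv_cen : ∀ x : P, x * x = 1 → x ∈ Subgroup.center P
  reg : ∀ x y : P, x ≠ 1 → x * x = 1 → y ≠ 1 → y * y = 1 → ∃! k : K, k • x = y
  inv : ∃ x : P, x ≠ 1 ∧ x * x = 1

namespace Reg

theorem fpf (h : Reg K P) {k : K} (hk : k ≠ 1) {p : P} (hp : k • p = p) : p = 1 := by
  by_contra hp1
  obtain ⟨n, hn1, hn2⟩ := exists_invol_pow h.pgroup hp1
  have h1 : k • (p ^ n) = p ^ n := by rw [smul_pow', hp]
  obtain ⟨k0, _, huniq⟩ := h.reg (p ^ n) (p ^ n) hn1 hn2 hn1 hn2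
  have e1 := huniq k h1
  have e2 := huniq 1 (one_smul K _)
  exact hk (e1.trans e2.symm)

theorem smul_center (k : K) {z : P} (hz : z ∈ Subgroup.center P) : k • z ∈ Subgroup.center P :=
  smul_mem_center k hz

theorem smul_mem_center_iff (k : K) {z : P} : k • z ∈ Subgroup.center P ↔ z ∈ Subgroup.center P := by
  constructor
  · intro h
    have := smul_mem_center k⁻¹ h
    rwa [inv_smul_smul] at this
  · exact smul_mem_center k

/-- `K` acts without fixed points on `P / Z`. -/
theorem fpf_quot [Finite P] (h : Reg K P) {k : K} (hk : k ≠ 1) {p : P}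
    (hp : (k • p) * p⁻¹ ∈ Subgroup.center P) : p ∈ Subgroup.center P := by
  classical
  -- the homomorphism z ↦ (k • z) z⁻¹ on the centre
  let g : Subgroup.center P →* Subgroup.center P :=
    { toFun := fun z => ⟨(k • (z : P)) * (z : P)⁻¹,
        (Subgroup.center P).mul_mem (smul_mem_center k z.2) ((Subgroup.center P).inv_mem z.2)⟩
      map_one' := by
        apply Subtype.ext
        simp
      map_mul' := by
        intro a b
        apply Subtype.ext
        simp only [Subgroup.coe_mul, smul_mul', mul_inv_rev]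
        have hb : (k • (b : P)) * (b : P)⁻¹ ∈ Subgroup.center P :=
          (Subgroup.center P).mul_mem (smul_mem_center k b.2) ((Subgroup.center P).inv_mem b.2)
        have := Subgroup.mem_center_iff.mp hb ((a : P)⁻¹)
        calc k • (a : P) * k • (b : P) * ((b : P)⁻¹ * (a : P)⁻¹)
            = k • (a : P) * ((k • (b : P) * (b : P)⁻¹) * (a : P)⁻¹) := by group
          _ = k • (a : P) * ((a : P)⁻¹ * (k • (b : P) * (b : P)⁻¹)) := by rw [this]
          _ = k • (a : P) * (a : P)⁻¹ * (k • (b : P) * (b : P)⁻¹) := by group }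
  have hginj : Function.Injective g := by
    rw [injective_iff_map_eq_one]
    intro z hz
    have : (k • (z : P)) * (z : P)⁻¹ = 1 := congrArg Subtype.val hz
    have hfix : k • (z : P) = z := by
      rw [mul_inv_eq_one] at this; exact this
    exact Subtype.ext (h.fpf hk hfix)
  have hgsurj : Function.Surjective g := Finite.surjective_of_injective hginj
  obtain ⟨z, hz⟩ := hgsurj ⟨_, hp⟩
  have hz' : (k • (z : P)) * (z : P)⁻¹ = (k • p) * p⁻¹ := congrArg Subtype.val hz
  -- y = z⁻¹ p is fixed
  have hc : (k • p) * p⁻¹ ∈ Subgroup.center P := hp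
  have hfix : k • ((z : P)⁻¹ * p) = (z : P)⁻¹ * p := by
    rw [smul_mul', smul_inv']
    have e1 : k • (z : P) = ((k • p) * p⁻¹) * z := by
      rw [← hz']; group
    have e2 : k • p = ((k • p) * p⁻¹) * p := by group
    rw [e1]
    have hcomm := Subgroup.mem_center_iff.mp hc
    calc (k • p * p⁻¹ * (z : P))⁻¹ * k • p
        = (z : P)⁻¹ * ((k • p * p⁻¹)⁻¹ * (k • p)) := by group
      _ = (z : P)⁻¹ * p := by congr 1; group
  have := h.fpf hk hfix
  have hpz : p = z := by
    rw [inv_mul_eq_one] at this; exact this.symm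
  rw [hpz]; exact z.2

/-- The bijection between `K` and the involutions. -/
theorem card_K [Finite P] (h : Reg K P) :
    Nat.card K + 1 = Nat.card (Subgroup.center P) := by
  classical
  obtain ⟨z0, hz1, hz2⟩ := h.inv
  haveI : Fintype P := Fintype.ofFinite P
  -- K ≃ {z : center // z ≠ 1}
  let e : K → {z : Subgroup.center P // z ≠ 1} := fun k =>
    ⟨⟨k • z0, smul_mem_center k (h.inv_cen z0 hz2)⟩, by
      intro hh
      have : k • z0 = 1 := congrArg Subtype.val hh
      exact hz1 ((smul_eq_one_iff' k z0).mp this)⟩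
  have hbij : Function.Bijective e := by
    constructor
    · intro k k' hkk
      have h1 : k • z0 = k' • z0 := congrArg (fun x => ((x.1 : Subgroup.center P) : P)) hkk
      obtain ⟨k0, _, huniq⟩ := h.reg z0 (k' • z0) hz1 hz2
        (fun hh => hz1 ((smul_eq_one_iff' k' z0).mp hh))
        (by rw [← smul_mul', hz2, smul_one])
      exact (huniq k h1).trans (huniq k' rfl).symm
    · rintro ⟨⟨y, hy⟩, hy1⟩
      have hy1' : y ≠ 1 := fun hh => hy1 (Subtype.ext hh)
      obtain ⟨k, hk, _⟩ := h.reg z0 y hz1 hz2 hy1' (h.cen2 y hy)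
      exact ⟨k, Subtype.ext (Subtype.ext hk)⟩
  have hc : Nat.card K = Nat.card {z : Subgroup.center P // z ≠ 1} :=
    Nat.card_congr (Equiv.ofBijective e hbij)
  rw [hc]
  haveI : Fintype (Subgroup.center P) := Fintype.ofFinite _
  rw [Nat.card_eq_fintype_card, Nat.card_eq_fintype_card, Fintype.card_subtype_compl,
    Fintype.card_subtype_eq]
  have : 0 < Fintype.card (Subgroup.center P) := Fintype.card_pos
  omega

theorem card_quot [Finite P] (hcard : Nat.card P = Nat.card (Subgroup.center P) ^ 2) :
    Nat.card (P ⧸ Subgroup.center P) = Nat.card (Subgroup.center P) := by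
  have h1 := Subgroup.card_eq_card_quotient_mul_card_subgroup (Subgroup.center P)
  rw [hcard, sq] at h1
  have hpos : 0 < Nat.card (Subgroup.center P) := Nat.card_pos
  exact (Nat.eq_of_mul_eq_mul_right hpos h1).symm

/-- `K` is transitive on the non-trivial cosets of the centre. -/
theorem trans_quot [Finite P] (h : Reg K P)
    (hcard : Nat.card P = Nat.card (Subgroup.center P) ^ 2)
    {p p' : P} (hp : p ∉ Subgroup.center P) (hp' : p' ∉ Subgroup.center P) :
    ∃ k : K, (k • p)⁻¹ * p' ∈ Subgroup.center P := by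
  classical
  haveI : Finite K := by
    have := h.card_K
    have hpos : 0 < Nat.card K := by
      by_contra h0
      have h0' : Nat.card K = 0 := by omega
      rw [h0'] at this
      have h1 : Nat.card (Subgroup.center P) = 1 := this.symm
      obtain ⟨z0, hz1, hz2⟩ := h.inv
      have hsub := (Nat.card_eq_one_iff_unique.mp h1).1
      have : (⟨z0, h.inv_cen z0 hz2⟩ : Subgroup.center P) = 1 := Subsingleton.elim _ _
      exact hz1 (congrArg Subtype.val this)
    exact (Nat.card_pos_iff.mp hpos).2
  let φ : K → (P ⧸ Subgroup.center P) := fun k => ((k • p : P) : P ⧸ Subgroup.center P)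
  have hφinj : Function.Injective φ := by
    intro k k' hkk
    by_contra hne
    have hmem : (k • p)⁻¹ * (k' • p) ∈ Subgroup.center P := QuotientGroup.eq.mp hkk
    have hk'' : k' * k⁻¹ ≠ 1 := by
      intro hh; apply hne
      rw [mul_inv_eq_one] at hh; exact hh.symm
    have hmem2 : ((k' * k⁻¹) • (k • p)) * (k • p)⁻¹ ∈ Subgroup.center P := by
      rw [mul_smul, inv_smul_smul]
      have := (Subgroup.center P).normal_of_characteristic.conj_mem _ hmem (k • p)
      have e : k • p * ((k • p)⁻¹ * k' • p) * (k • p)⁻¹ = k' • p * (k • p)⁻¹ := by group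
      rwa [e] at this
    have := h.fpf_quot hk'' hmem2
    exact hp ((smul_mem_center_iff k).mp this)
  have hrange : ∀ k, φ k ≠ 1 := by
    intro k hk
    have : (k • p : P) ∈ Subgroup.center P := (QuotientGroup.eq_one_iff _).mp hk
    exact hp ((smul_mem_center_iff k).mp this)
  have hsub : Set.range φ ⊆ {v | v ≠ 1} := by
    rintro _ ⟨k, rfl⟩; exact hrange k
  have hfin : ({v | v ≠ 1} : Set (P ⧸ Subgroup.center P)).Finite := Set.toFinite _
  have hc1 : (Set.range φ).ncard = Nat.card K := by
    rw [← Set.image_univ, Set.ncard_image_of_injective _ hφinj, Set.ncard_univ]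
  have hc2 : ({v | v ≠ 1} : Set (P ⧸ Subgroup.center P)).ncard + 1 = Nat.card (Subgroup.center P) := by
    have : ({v | v ≠ 1} : Set (P ⧸ Subgroup.center P)) = Set.univ \ {1} := by
      ext v; simp
    rw [this, Set.ncard_sdiff_singleton_add_one (Set.mem_univ _) Set.finite_univ, Set.ncard_univ,
      card_quot hcard]
  have heq : Set.range φ = {v | v ≠ 1} := by
    apply Set.eq_of_subset_of_ncard_le hsub _ hfin
    have := h.card_K
    omega
  have hmem : ((p' : P) : P ⧸ Subgroup.center P) ∈ Set.range φ := by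
    rw [heq]
    intro hh
    exact hp' ((QuotientGroup.eq_one_iff _).mp hh)
  obtain ⟨k, hk⟩ := hmem
  exact ⟨k, QuotientGroup.eq.mp hk⟩

theorem mul_central_sq (a z : P) (hz : z ∈ Subgroup.center P) :
    (a * z) * (a * z) = (a * a) * (z * z) := by
  have hzc := Subgroup.mem_center_iff.mp hz
  calc (a * z) * (a * z) = a * (z * a) * z := by group
    _ = a * (a * z) * z := by rw [← hzc]
    _ = (a * a) * (z * z) := by group

/-- Squares are central. -/
theorem sq_mem_center [Finite P] (h : Reg K P)
    (hcard : Nat.card P = Nat.card (Subgroup.center P) ^ 2) (p : P) :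
    p * p ∈ Subgroup.center P := by
  classical
  by_cases hp : p ∈ Subgroup.center P
  · exact (Subgroup.center P).mul_mem hp hp
  -- an involution of the quotient
  have hV : IsPGroup 2 (P ⧸ Subgroup.center P) := h.pgroup.to_quotient _
  have hne : ((p : P) : P ⧸ Subgroup.center P) ≠ 1 := fun hh => hp ((QuotientGroup.eq_one_iff _).mp hh)
  obtain ⟨n, hn1, hn2⟩ := exists_invol_pow hV hne
  set p0 := p ^ n with hp0
  have hp0z : p0 ∉ Subgroup.center P := by
    intro hh
    apply hn1
    rw [← QuotientGroup.mk_pow]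
    exact (QuotientGroup.eq_one_iff _).mpr hh
  have hp0sq : p0 * p0 ∈ Subgroup.center P := by
    rw [← QuotientGroup.mk_pow, ← QuotientGroup.mk_mul] at hn2
    exact (QuotientGroup.eq_one_iff _).mp hn2
  obtain ⟨k, hk⟩ := h.trans_quot hcard hp0z hp
  -- p = (k • p0) z
  have hpz : p = (k • p0) * ((k • p0)⁻¹ * p) := by group
  rw [hpz, mul_central_sq _ _ hk, ← smul_mul']
  exact (Subgroup.center P).mul_mem (smul_mem_center k hp0sq) ((Subgroup.center P).mul_mem hk hk)

end Reg

end Cfsg.Agent.Helper1.SuzT
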