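import Mathlib
import Cfsg.Agent.Helper1.SuzTA
import Cfsg.Agent.Helper1.SuzTB
import Cfsg.Agent.Helper1.SuzTC
import Cfsg.Agent.Helper1.SuzTD
import Cfsg.Agent.Helper1.SuzTE

/-!
# Suzuki 2-groups of order `q²` are of type A: coordinates
-/

set_option autoImplicit false

universe u v

namespace Cfsg.Agent.Helper1.SuzT

open Cfsg.Agent.Helper3.SuzA
open scoped IsMulCommutative

variable {K : Type v} [CommGroup K] {P : Type u} [Group P] [MulDistribMulAction K P]

namespace Reg

theorem finite_K [Finite P] (h : Reg K P) : Finite K := by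
  have := h.card_K
  have hpos : 0 < Nat.card K := by
    by_contra h0
    have h0' : Nat.card K = 0 := by omega
    rw [h0'] at this
    have h1 : Nat.card (Subgroup.center P) = 1 := this.symm
    obtain ⟨z0, hz1, hz2⟩ := h.inv
    have hsub := (Nat.card_eq_one_iff_unique.mp h1).1
    have : (⟨z0, h.inv_cen z0 hz2⟩ : Subgroup.center P) = 1 := Subsingleton.elim _ _
    exact hz1 (congrArg Subtype.val this)
  exact (Nat.card_pos_iff.mp hpos).2

/-- The coordinate data extracted from the regular action. -/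
structure Coords (F : Type) [Field F] (P : Type u) [Group P] where
  α : P → F
  β : P → F
  k : ℕ
  a : F
  α_mul : ∀ p p', α (p * p') = α p + α p'
  α_ker : ∀ p, α p = 0 ↔ p ∈ Subgroup.center P
  α_surj : Function.Surjective α
  β_mul : ∀ z z', z ∈ Subgroup.center P → z' ∈ Subgroup.center P → β (z * z') = β z + β z'
  β_inj : ∀ z, z ∈ Subgroup.center P → β z = 0 → z = 1
  k_pos : 1 ≤ k
  a_ne : a ≠ 0
  sq : ∀ p, β (p * p) = a * α p ^ k
  inj : ∀ p p', p ∉ Subgroup.center P → p' ∉ Subgroup.center P → p * p = p' * p' → α p = α p'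

theorem exists_pow_of_generator [Finite K] {ξ : K} (hξ : ∀ k : K, k ∈ Subgroup.zpowers ξ) (k : K) :
    ∃ i : ℕ, ξ ^ i = k := by
  have := (mem_powers_iff_mem_zpowers (x := ξ) (y := k)).mpr (hξ k)
  exact (Submonoid.mem_powers_iff _ _).mp this

theorem exists_coords [Finite P] (h : Reg K P) (hcyc : IsCyclic K)
    (hna : ∃ x y : P, x * y ≠ y * x)
    (hcard : Nat.card P = Nat.card (Subgroup.center P) ^ 2) :
    ∃ (F : Type) (_ : Field F) (_ : Fintype F) (_ : CharP F 2),
      Fintype.card F = Nat.card (Subgroup.center P) ∧ Nonempty (Coords F P) := by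
  classical
  haveI : Finite K := h.finite_K
  obtain ⟨ξ, hξ⟩ := hcyc.exists_generator
  have hpow := exists_pow_of_generator hξ
  -- the centre
  let gZ : Subgroup.center P →* Subgroup.center P :=
    { toFun := fun z => ⟨ξ • (z : P), smul_mem_center ξ z.2⟩
      map_one' := Subtype.ext (smul_one ξ)
      map_mul' := fun a b => Subtype.ext (smul_mul' ξ (a : P) (b : P)) }
  have hgZ : ∀ (i : ℕ) (z : Subgroup.center P), (((gZ^[i]) z : Subgroup.center P) : P) = ξ ^ i • (z : P) := by
    intro i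
    induction i with
    | zero => intro z; simp
    | succ n ih =>
      intro z
      rw [Function.iterate_succ_apply', pow_succ', mul_smul, ← ih]
      rfl
  obtain ⟨z0, hz01, hz02⟩ := h.inv
  haveI : Nontrivial (Subgroup.center P) :=
    ⟨⟨⟨z0, h.inv_cen z0 hz02⟩, 1, fun hh => hz01 (congrArg Subtype.val hh)⟩⟩
  have hZ2 : ∀ a : Subgroup.center P, a * a = 1 := fun a => Subtype.ext (h.cen2 a a.2)
  have htrZ : ∀ x y : Subgroup.center P, x ≠ 1 → y ≠ 1 → ∃ i : ℕ, (gZ^[i]) x = y := by
    intro x y hx hy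
    have hx' : (x : P) ≠ 1 := fun hh => hx (Subtype.ext hh)
    have hy' : (y : P) ≠ 1 := fun hh => hy (Subtype.ext hh)
    obtain ⟨k, hk, _⟩ := h.reg x y hx' (h.cen2 x x.2) hy' (h.cen2 y y.2)
    obtain ⟨i, rfl⟩ := hpow k
    exact ⟨i, Subtype.ext ((hgZ i x).trans hk)⟩
  obtain ⟨F, hF, hFt, hchar, βZ, lam, hβZbij, hβZadd, hβZg⟩ := exists_field_coords_mul (A := Subgroup.center P) hZ2 gZ htrZ
  -- the quotient
  have hV2 : ∀ v : P ⧸ Subgroup.center P, v * v = 1 := by
    intro v
    induction v using QuotientGroup.induction_on with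
    | H p =>
      rw [← QuotientGroup.mk_mul]
      exact (QuotientGroup.eq_one_iff _).mpr (h.sq_mem_center hcard p)
  haveI : IsMulCommutative (P ⧸ Subgroup.center P) := by
    refine ⟨⟨fun v w => ?_⟩⟩
    have hinv : ∀ x : P ⧸ Subgroup.center P, x⁻¹ = x := fun x => inv_eq_of_mul_eq_one_left (hV2 x)
    have : v * w = (v * w)⁻¹ := (hinv _).symm
    rw [this, mul_inv_rev, hinv, hinv]
  let gV : (P ⧸ Subgroup.center P) →* (P ⧸ Subgroup.center P) :=
    QuotientGroup.map (Subgroup.center P) (Subgroup.center P) (MulDistribMulAction.toMonoidHom P ξ)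
      (fun z hz => smul_mem_center ξ hz)
  have hgV : ∀ (i : ℕ) (p : P), (gV^[i]) (p : P ⧸ Subgroup.center P) = ((ξ ^ i • p : P) : P ⧸ Subgroup.center P) := by
    intro i
    induction i with
    | zero => intro p; simp
    | succ n ih =>
      intro p
      rw [Function.iterate_succ_apply', ih, pow_succ', mul_smul]
      rfl
  obtain ⟨x1, y1, hxy1⟩ := hna
  have hx1 : x1 ∉ Subgroup.center P := by
    intro hh
    exact hxy1 ((Subgroup.mem_center_iff.mp hh y1).symm)
  haveI : Nontrivial (P ⧸ Subgroup.center P) :=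
    ⟨⟨(x1 : P ⧸ Subgroup.center P), 1, fun hh => hx1 ((QuotientGroup.eq_one_iff _).mp hh)⟩⟩
  have htrV : ∀ v w : P ⧸ Subgroup.center P, v ≠ 1 → w ≠ 1 → ∃ i : ℕ, (gV^[i]) v = w := by
    intro v w hv hw
    induction v using QuotientGroup.induction_on with
    | H p =>
      induction w using QuotientGroup.induction_on with
      | H p' =>
        have hp : p ∉ Subgroup.center P := fun hh => hv ((QuotientGroup.eq_one_iff _).mpr hh)
        have hp' : p' ∉ Subgroup.center P := fun hh => hw ((QuotientGroup.eq_one_iff _).mpr hh)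
        obtain ⟨k, hk⟩ := h.trans_quot hcard hp hp'
        obtain ⟨i, rfl⟩ := hpow k
        refine ⟨i, ?_⟩
        rw [hgV]
        exact QuotientGroup.eq.mpr hk
  obtain ⟨F', hF', hFt', hchar', βV, mu0, hβVbij, hβVadd, hβVg⟩ :=
    exists_field_coords_mul (A := P ⧸ Subgroup.center P) hV2 gV htrV
  have hcardF : Fintype.card F = Nat.card (Subgroup.center P) := by
    rw [← Nat.card_eq_fintype_card]
    exact (Nat.card_congr (Equiv.ofBijective βZ hβZbij)).symm
  have hcardF' : Fintype.card F' = Fintype.card F := by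
    rw [hcardF, ← Nat.card_eq_fintype_card, ← card_quot hcard]
    exact (Nat.card_congr (Equiv.ofBijective βV hβVbij)).symm
  let ρ : F' ≃+* F := FiniteField.ringEquivOfCardEq hcardF'
  refine ⟨F, hF, hFt, hchar, hcardF, ?_⟩
  -- coordinates
  have hβV1 : βV 1 = 0 := by
    have := hβVadd 1 1
    rw [one_mul] at this
    exact left_eq_add.mp this
  have hβZ1 : βZ 1 = 0 := by
    have := hβZadd 1 1
    rw [one_mul] at this
    exact left_eq_add.mp this
  let α : P → F := fun p => ρ (βV (p : P ⧸ Subgroup.center P))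
  let βP : P → F := fun p => if hp : p ∈ Subgroup.center P then βZ ⟨p, hp⟩ else 0
  let mu : F := ρ mu0
  have hβP : ∀ z (hz : z ∈ Subgroup.center P), βP z = βZ ⟨z, hz⟩ := by
    intro z hz; simp only [βP, dif_pos hz]
  have hα_mul : ∀ p p', α (p * p') = α p + α p' := by
    intro p p'
    simp only [α]
    rw [QuotientGroup.mk_mul, hβVadd, map_add]
  have hα_ker : ∀ p, α p = 0 ↔ p ∈ Subgroup.center P := by
    intro p
    simp only [α]
    rw [map_eq_zero_iff ρ ρ.injective, ← hβV1, hβVbij.injective.eq_iff, QuotientGroup.eq_one_iff]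
  have hα_surj : Function.Surjective α := by
    intro x
    obtain ⟨v, hv⟩ := hβVbij.surjective (ρ.symm x)
    induction v using QuotientGroup.induction_on with
    | H p =>
      refine ⟨p, ?_⟩
      simp only [α]
      rw [hv, RingEquiv.apply_symm_apply]
  have hα_smul : ∀ (i : ℕ) p, α (ξ ^ i • p) = mu ^ i * α p := by
    intro i
    induction i with
    | zero => intro p; simp
    | succ n ih =>
      intro p
      rw [pow_succ', mul_smul, pow_succ', mul_assoc, ← ih]
      simp only [α, mu]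
      rw [← map_mul, ← hβVg]
      rfl
  have hβ_smul : ∀ (i : ℕ) z, z ∈ Subgroup.center P → βP (ξ ^ i • z) = lam ^ i * βP z := by
    intro i
    induction i with
    | zero => intro z _; simp
    | succ n ih =>
      intro z hz
      have hz' : ξ ^ n • z ∈ Subgroup.center P := smul_mem_center _ hz
      rw [pow_succ', mul_smul, pow_succ', mul_assoc, ← ih z hz, hβP _ hz',
        hβP _ (smul_mem_center ξ hz'), ← hβZg]
      rfl
  have hβ_mul : ∀ z z', z ∈ Subgroup.center P → z' ∈ Subgroup.center P →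
      βP (z * z') = βP z + βP z' := by
    intro z z' hz hz'
    rw [hβP _ hz, hβP _ hz', hβP _ ((Subgroup.center P).mul_mem hz hz'), ← hβZadd]
    rfl
  have hβ_inj : ∀ z, z ∈ Subgroup.center P → βP z = 0 → z = 1 := by
    intro z hz h0
    rw [hβP _ hz, ← hβZ1] at h0
    exact congrArg Subtype.val (hβZbij.injective h0)
  obtain ⟨p1, hp1⟩ := hα_surj 1
  have hp1z : p1 ∉ Subgroup.center P := by
    intro hh
    rw [(hα_ker p1).mpr hh] at hp1
    exact zero_ne_one hp1
  have hsqz : ∀ p : P, p ∉ Subgroup.center P → p * p ≠ 1 := by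
    intro p hp hh
    exact hp (h.inv_cen p hh)
  -- decomposition of non-central elements
  have hdec : ∀ q q' : P, q ∉ Subgroup.center P → q' ∉ Subgroup.center P →
      ∃ (i : ℕ) (z : P), z ∈ Subgroup.center P ∧ q' = (ξ ^ i • q) * z ∧
        q' * q' = ξ ^ i • (q * q) ∧ α q' = mu ^ i * α q := by
    intro q q' hq hq'
    obtain ⟨k, hk⟩ := h.trans_quot hcard hq hq'
    obtain ⟨i, rfl⟩ := hpow k
    refine ⟨i, (ξ ^ i • q)⁻¹ * q', hk, by group, ?_, ?_⟩
    · have e : q' = (ξ ^ i • q) * ((ξ ^ i • q)⁻¹ * q') := by group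
      rw [e, mul_central_sq _ _ hk, h.cen2 _ hk, mul_one, ← smul_mul']
    · have e : q' = (ξ ^ i • q) * ((ξ ^ i • q)⁻¹ * q') := by group
      rw [e, hα_mul, hα_smul, (hα_ker _).mpr hk, add_zero]
  have hmu0 : mu ≠ 0 := by
    have h1 := hα_smul 1 p1
    rw [pow_one, pow_one, hp1, mul_one] at h1
    rw [← h1]
    intro hh
    exact hp1z ((smul_mem_center_iff ξ).mp ((hα_ker _).mp hh))
  have hz0c : z0 ∈ Subgroup.center P := h.inv_cen z0 hz02
  have hlam0 : lam ≠ 0 := by
    have h1 := hβ_smul 1 z0 hz0c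
    rw [pow_one, pow_one] at h1
    intro hh
    rw [hh, zero_mul] at h1
    have := hβ_inj _ (smul_mem_center ξ hz0c) h1
    exact hz01 ((smul_eq_one_iff' ξ z0).mp this)
  obtain ⟨k0, hk0⟩ : ∃ k0 : ℕ, lam = mu ^ k0 := by
    obtain ⟨pl, hpl⟩ := hα_surj lam
    have hplz : pl ∉ Subgroup.center P := by
      intro hh
      rw [(hα_ker pl).mpr hh] at hpl
      exact hlam0 hpl.symm
    obtain ⟨i, z, _, _, _, hi⟩ := hdec p1 pl hp1z hplz
    rw [hp1, mul_one] at hi
    exact ⟨i, hpl.symm.trans hi⟩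
  have hFcard : 1 < Fintype.card F := Fintype.one_lt_card
  set k := k0 + (Fintype.card F - 1) with hk
  have hkpos : 1 ≤ k := by omega
  have hmuk : mu ^ k = lam := by
    rw [hk, pow_add, FiniteField.pow_card_sub_one_eq_one mu hmu0, mul_one, hk0]
  have hp1sq : p1 * p1 ∈ Subgroup.center P := h.sq_mem_center hcard p1
  set a := βP (p1 * p1) with ha
  have ha0 : a ≠ 0 := by
    intro hh
    exact hsqz p1 hp1z (hβ_inj _ hp1sq hh)
  have hsq : ∀ p, βP (p * p) = a * α p ^ k := by
    intro p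
    by_cases hp : p ∈ Subgroup.center P
    · rw [h.cen2 p hp, (hα_ker p).mpr hp, zero_pow (by omega), mul_zero, hβP 1 (one_mem _)]
      exact hβZ1
    · obtain ⟨i, z, _, _, hpp, hi⟩ := hdec p1 p hp1z hp
      rw [hpp, hβ_smul i _ hp1sq, hi, hp1, mul_one, ← pow_mul, mul_comm i k, pow_mul, hmuk, mul_comm]
  have hinj : ∀ p p', p ∉ Subgroup.center P → p' ∉ Subgroup.center P → p * p = p' * p' → α p = α p' := by
    intro p p' hp hp' hpp
    obtain ⟨i, z, hz, hpz, hpp', hi⟩ := hdec p p' hp hp'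
    have hu1 : p * p ≠ 1 := hsqz p hp
    have hu2 : (p * p) * (p * p) = 1 := h.cen2 _ (h.sq_mem_center hcard p)
    have hfix : ξ ^ i • (p * p) = p * p := by rw [← hpp', hpp]
    obtain ⟨k', _, huniq⟩ := h.reg (p * p) (p * p) hu1 hu2 hu1 hu2
    have e1 : ξ ^ i = 1 := (huniq _ hfix).trans (huniq 1 (one_smul _ _)).symm
    rw [hi, ← hα_smul, e1, one_smul]
  exact ⟨⟨α, βP, k, a, hα_mul, hα_ker, hα_surj, hβ_mul, hβ_inj, hkpos, ha0, hsq, hinj⟩⟩

end Reg

end Cfsg.Agent.Helper1.SuzT
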