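import Mathlib
import Cfsg.Agent.Helper3.SuzG
import Cfsg.Agent.Helper1.SuzTF

/-!
# Group-theoretic basics for Higman's theorem on Suzuki 2-groups
-/

set_option autoImplicit false

universe u v

namespace Cfsg.Agent.Helper1.SuzH

open Cfsg.Agent.Helper3.SuzA Cfsg.Agent.Helper1.SuzT

section ucs

variable {P : Type u} [Group P]

theorem cm_mul_left' (x x' y : P) : cm (x * x') y = x'⁻¹ * cm x y * x' * cm x' y := by
  unfold cm; group

theorem cm_mul_right' (x y y' : P) : cm x (y * y') = cm x y' * (y'⁻¹ * cm x y * y') := by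
  unfold cm; group

theorem cm_one_left (y : P) : cm 1 y = 1 := by unfold cm; group

theorem cm_one_right (x : P) : cm x 1 = 1 := by unfold cm; group

theorem cm_inv_left (x y : P) : cm x⁻¹ y = x * (cm x y)⁻¹ * x⁻¹ := by unfold cm; group

theorem cm_swap (x y : P) : cm y x = (cm x y)⁻¹ := by unfold cm; group

theorem conj_eq_mul_cm (x y : P) : y⁻¹ * x * y = x * cm x y := by unfold cm; group

theorem cm_conj (g x b : P) : cm (g * x * g⁻¹) b = g * cm x (g⁻¹ * b * g) * g⁻¹ := by
  unfold cm; group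

/-- The preimage of the centre of `P / H`. -/
def ucs (H : Subgroup P) [hH : H.Normal] : Subgroup P where
  carrier := {x | ∀ b, cm x b ∈ H}
  mul_mem' := by
    intro x x' hx hx' b
    rw [cm_mul_left']
    have h1 : x'⁻¹ * cm x b * x' ∈ H := by
      have := hH.conj_mem _ (hx b) x'⁻¹
      simpa using this
    exact H.mul_mem h1 (hx' b)
  one_mem' := by
    intro b
    rw [cm_one_left]; exact H.one_mem
  inv_mem' := by
    intro x hx b
    rw [cm_inv_left]
    exact hH.conj_mem _ (H.inv_mem (hx b)) x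

theorem mem_ucs {H : Subgroup P} [H.Normal] {x : P} : x ∈ ucs H ↔ ∀ b, cm x b ∈ H := Iff.rfl

instance ucs_normal (H : Subgroup P) [hH : H.Normal] : (ucs H).Normal := by
  constructor
  intro x hx g b
  rw [cm_conj]
  exact hH.conj_mem _ (hx _) g

theorem le_ucs (H : Subgroup P) [hH : H.Normal] : H ≤ ucs H := by
  intro x hx b
  have h1 : x⁻¹ ∈ H := H.inv_mem hx
  have h2 : b⁻¹ * x * b ∈ H := by
    have := hH.conj_mem _ hx b⁻¹
    simpa using this
  have : cm x b = x⁻¹ * (b⁻¹ * x * b) := by unfold cm; group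
  rw [this]
  exact H.mul_mem h1 h2

theorem ucs_mono {H H' : Subgroup P} [H.Normal] [H'.Normal] (h : H ≤ H') : ucs H ≤ ucs H' :=
  fun _ hx b => h (hx b)

theorem eq_top_of_ucs_le [Finite P] {p : ℕ} [Fact p.Prime] (hP : IsPGroup p P)
    (H : Subgroup P) [H.Normal] (h : ucs H ≤ H) : H = ⊤ := by
  by_contra hne
  have hnt : Nontrivial (P ⧸ H) := by
    by_contra hsub
    rw [not_nontrivial_iff_subsingleton] at hsub
    apply hne
    rw [eq_top_iff]
    intro x _
    have : (x : P ⧸ H) = 1 := Subsingleton.elim _ _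
    rwa [QuotientGroup.eq_one_iff] at this
  have hQ : IsPGroup p (P ⧸ H) := hP.to_quotient _
  have := hQ.center_nontrivial
  obtain ⟨⟨q, hqc⟩, hq1⟩ := exists_ne (1 : Subgroup.center (P ⧸ H))
  have hq1' : q ≠ 1 := fun e => hq1 (Subtype.ext e)
  obtain ⟨x, rfl⟩ := QuotientGroup.mk_surjective q
  apply hq1'
  rw [QuotientGroup.eq_one_iff]
  apply h
  intro y
  have := (Subgroup.mem_center_iff.mp hqc) (y : P ⧸ H)
  rw [← QuotientGroup.mk_mul, ← QuotientGroup.mk_mul, QuotientGroup.eq] at this
  have e : cm x y = (y * x)⁻¹ * (x * y) := by unfold cm; group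
  rw [e]; exact this

end ucs

section act

variable {K : Type v} [CommGroup K] {P : Type u} [Group P] [MulDistribMulAction K P]

/-- `K`-invariance of a subgroup. -/
def KInv (K : Type v) [CommGroup K] {P : Type u} [Group P] [MulDistribMulAction K P]
    (S : Subgroup P) : Prop := ∀ (k : K) (x : P), x ∈ S → k • x ∈ S

theorem KInv.mem_iff {S : Subgroup P} (hS : KInv K S) (k : K) {x : P} : k • x ∈ S ↔ x ∈ S := by
  constructor
  · intro h
    have := hS k⁻¹ _ h
    rwa [inv_smul_smul] at this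
  · exact hS k x

theorem kinv_center : KInv K (Subgroup.center P) := fun k _ hx => smul_mem_center k hx

theorem kinv_top : KInv K (⊤ : Subgroup P) := fun _ _ _ => Subgroup.mem_top _

theorem KInv.inf {S T : Subgroup P} (hS : KInv K S) (hT : KInv K T) : KInv K (S ⊓ T) :=
  fun k x hx => ⟨hS k x hx.1, hT k x hx.2⟩

theorem KInv.ucs {H : Subgroup P} [H.Normal] (hH : KInv K H) : KInv K (ucs H) := by
  intro k x hx b
  have : cm (k • x) b = k • cm x (k⁻¹ • b) := by
    rw [smul_cm, smul_inv_smul]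
  rw [this]
  exact hH k _ (hx _)

theorem KInv.centralizer {S : Subgroup P} (hS : KInv K S) :
    KInv K (Subgroup.centralizer (S : Set P)) := by
  intro k x hx
  rw [Subgroup.mem_centralizer_iff] at hx ⊢
  intro s hs
  have h1 : k⁻¹ • s ∈ S := hS k⁻¹ s hs
  have h2 := hx _ h1
  have : k • (k⁻¹ • s * x) = k • (x * k⁻¹ • s) := by rw [h2]
  rwa [smul_mul', smul_mul', smul_inv_smul] at this

end act

end Cfsg.Agent.Helper1.SuzH
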