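import Mathlib
import Cfsg.Agent.Helper1.SuzHC
import Cfsg.Agent.Helper1.SuzHD

/-!
# Bounding a subgroup by a polycyclic generating sequence, and the graph of an isomorphism
-/

set_option autoImplicit false

universe u v

namespace Cfsg.Agent.Helper1.RkTwo

open Cfsg.Agent.Helper3.SuzA Cfsg.Agent.Helper1.SuzH

section Poly

variable {G : Type u} [Group G] [Finite G]

theorem conj_mem_closure (S : Set G) (g : G)
    (hn : ∀ s ∈ S, g⁻¹ * s * g ∈ Subgroup.closure S) :
    ∀ a ∈ Subgroup.closure S, g⁻¹ * a * g ∈ Subgroup.closure S := by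
  intro a ha
  induction ha using Subgroup.closure_induction with
  | mem y hy => exact hn y hy
  | one => rw [mul_one, inv_mul_cancel]; exact Subgroup.one_mem _
  | mul p q _ _ hp hq =>
    have : g⁻¹ * (p * q) * g = (g⁻¹ * p * g) * (g⁻¹ * q * g) := by group
    rw [this]; exact Subgroup.mul_mem _ hp hq
  | inv p _ hp =>
    have : g⁻¹ * p⁻¹ * g = (g⁻¹ * p * g)⁻¹ := by group
    rw [this]; exact Subgroup.inv_mem _ hp

theorem card_closure_insert_le (S : Set G) (g : G)
    (hsq : g * g ∈ Subgroup.closure S)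
    (hn : ∀ s ∈ S, g⁻¹ * s * g ∈ Subgroup.closure S) :
    Nat.card (Subgroup.closure (insert g S)) ≤ 2 * Nat.card (Subgroup.closure S) := by
  set A := Subgroup.closure S with hA
  have hc := conj_mem_closure S g hn
  let C : Subgroup G :=
    { carrier := {w | w ∈ A ∨ g⁻¹ * w ∈ A}
      one_mem' := Or.inl A.one_mem
      mul_mem' := by
        rintro w₁ w₂ (h1 | h1) (h2 | h2)
        · exact Or.inl (A.mul_mem h1 h2)
        · right
          have : g⁻¹ * (w₁ * w₂) = (g⁻¹ * w₁ * g) * (g⁻¹ * w₂) := by group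
          rw [this]; exact A.mul_mem (hc _ h1) h2
        · right
          rw [← mul_assoc]; exact A.mul_mem h1 h2
        · left
          have : w₁ * w₂ = (g * g) * (g⁻¹ * (g⁻¹ * w₁) * g) * (g⁻¹ * w₂) := by group
          rw [this]; exact A.mul_mem (A.mul_mem hsq (hc _ h1)) h2
      inv_mem' := by
        rintro w (h1 | h1)
        · exact Or.inl (A.inv_mem h1)
        · right
          have : g⁻¹ * w⁻¹ = (g⁻¹ * (g⁻¹ * w)⁻¹ * g) * (g * g)⁻¹ := by group
          rw [this]; exact A.mul_mem (hc _ (A.inv_mem h1)) (A.inv_mem hsq) }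
  have hle : Subgroup.closure (insert g S) ≤ C := by
    rw [Subgroup.closure_le]
    rintro w (rfl | hw)
    · right; rw [inv_mul_cancel]; exact A.one_mem
    · left; exact Subgroup.subset_closure hw
  have h1 : Nat.card (Subgroup.closure (insert g S)) ≤ Nat.card C := Subgroup.card_le_of_le hle
  have h2 : Nat.card C = (C : Set G).ncard := Nat.card_coe_set_eq _
  have h3 : (C : Set G) ⊆ (A : Set G) ∪ (fun a => g * a) '' (A : Set G) := by
    rintro w (hw | hw)
    · exact Or.inl hw
    · right; exact ⟨g⁻¹ * w, hw, by group⟩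
  have h4 := Set.ncard_le_ncard h3 (Set.toFinite _)
  have h5 := Set.ncard_union_le (A : Set G) ((fun a => g * a) '' (A : Set G))
  have h6 : ((fun a => g * a) '' (A : Set G)).ncard ≤ (A : Set G).ncard :=
    Set.ncard_image_le (Set.toFinite _)
  have h7 : Nat.card A = (A : Set G).ncard := Nat.card_coe_set_eq _
  omega

/-- a normal series with factors of order at most two -/
theorem card_closure_list_le (N : Subgroup G) (l : List G)
    (hsq : ∀ g ∈ l, g * g ∈ N)
    (hcm : l.Pairwise (fun a b => cm a b ∈ N))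
    (hN : ∀ n ∈ N, ∀ g ∈ l, g⁻¹ * n * g ∈ N) :
    Nat.card (Subgroup.closure ((N : Set G) ∪ {g | g ∈ l})) ≤ 2 ^ l.length * Nat.card N := by
  induction l with
  | nil =>
    have : ((N : Set G) ∪ {g | g ∈ ([] : List G)}) = (N : Set G) := by
      ext w; simp
    rw [this, Subgroup.closure_eq]; simp
  | cons g l ih =>
    rw [List.pairwise_cons] at hcm
    have ih' := ih (fun a ha => hsq a (List.mem_cons_of_mem _ ha)) hcm.2
      (fun n hn a ha => hN n hn a (List.mem_cons_of_mem _ ha))
    have hset : ((N : Set G) ∪ {a | a ∈ g :: l}) = insert g ((N : Set G) ∪ {a | a ∈ l}) := by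
      ext w
      simp only [Set.mem_union, SetLike.mem_coe, Set.mem_ofPred_eq, List.mem_cons, Set.mem_insert_iff]
      tauto
    rw [hset]
    have hNle : N ≤ Subgroup.closure ((N : Set G) ∪ {a | a ∈ l}) := by
      intro n hn
      exact Subgroup.subset_closure (Or.inl hn)
    have hstep := card_closure_insert_le ((N : Set G) ∪ {a | a ∈ l}) g
      (hNle (hsq g (List.mem_cons_self)))
      (by
        rintro s (hs | hs)
        · exact hNle (hN s hs g (List.mem_cons_self))
        · rw [conj_eq_mul_cm]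
          have h1 : s ∈ Subgroup.closure ((N : Set G) ∪ {a | a ∈ l}) :=
            Subgroup.subset_closure (Or.inr hs)
          have h2 : cm s g ∈ N := by rw [cm_swap]; exact N.inv_mem (hcm.1 s hs)
          exact Subgroup.mul_mem _ h1 (hNle h2))
    rw [List.length_cons, pow_succ]
    calc _ ≤ 2 * Nat.card (Subgroup.closure ((N : Set G) ∪ {a | a ∈ l})) := hstep
      _ ≤ 2 * (2 ^ l.length * Nat.card N) := Nat.mul_le_mul_left 2 ih'
      _ = 2 ^ l.length * 2 * Nat.card N := by ring

end Poly

/-- The defining relations shared by the two groups -/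
structure Rel (G : Type u) [Group G] (x x' y y' v v' : G) (c : Bool) : Prop where
  vc : v ∈ Subgroup.center G
  vc' : v' ∈ Subgroup.center G
  v2 : v * v = 1
  v2' : v' * v' = 1
  xx : x * x = v
  xx' : x' * x' = v'
  yy : y * y = v
  yy' : y' * y' = v'
  c12 : cm x x' = 1
  c34 : cm y y' = 1
  c13 : cm x y = if c then v' else v * v'
  c24 : cm x' y' = if c then v * v' else v
  c14 : cm x y' = if c then v else v'
  c23 : cm x' y = if c then v else v'

theorem cm_prod {T : Type u} {U : Type v} [Group T] [Group U] (a b : T × U) :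
    cm a b = (cm a.1 b.1, cm a.2 b.2) := rfl

theorem prod_mem_center {T : Type u} {U : Type v} [Group T] [Group U] {a : T} {b : U}
    (ha : a ∈ Subgroup.center T) (hb : b ∈ Subgroup.center U) :
    (a, b) ∈ Subgroup.center (T × U) := by
  rw [Subgroup.mem_center_iff]
  rintro ⟨g, h⟩
  rw [Prod.mk_mul_mk, Prod.mk_mul_mk, Subgroup.mem_center_iff.mp ha g,
    Subgroup.mem_center_iff.mp hb h]

theorem Rel.prod {T : Type u} {U : Type v} [Group T] [Group U]
    {x x' y y' v v' : T} {X X' Y Y' V V' : U} {c : Bool}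
    (hT : Rel T x x' y y' v v' c) (hU : Rel U X X' Y Y' V V' c) :
    Rel (T × U) (x, X) (x', X') (y, Y) (y', Y') (v, V) (v', V') c where
  vc := prod_mem_center hT.vc hU.vc
  vc' := prod_mem_center hT.vc' hU.vc'
  v2 := by rw [Prod.mk_mul_mk, hT.v2, hU.v2]; rfl
  v2' := by rw [Prod.mk_mul_mk, hT.v2', hU.v2']; rfl
  xx := by rw [Prod.mk_mul_mk, hT.xx, hU.xx]
  xx' := by rw [Prod.mk_mul_mk, hT.xx', hU.xx']
  yy := by rw [Prod.mk_mul_mk, hT.yy, hU.yy]
  yy' := by rw [Prod.mk_mul_mk, hT.yy', hU.yy']
  c12 := by rw [cm_prod]; simp only [hT.c12, hU.c12]; rfl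
  c34 := by rw [cm_prod]; simp only [hT.c34, hU.c34]; rfl
  c13 := by rw [cm_prod]; simp only [hT.c13, hU.c13]; cases c <;> rfl
  c24 := by rw [cm_prod]; simp only [hT.c24, hU.c24]; cases c <;> rfl
  c14 := by rw [cm_prod]; simp only [hT.c14, hU.c14]; cases c <;> rfl
  c23 := by rw [cm_prod]; simp only [hT.c23, hU.c23]; cases c <;> rfl

theorem Rel.card_le {G : Type u} [Group G] [Finite G] {x x' y y' v v' : G} {c : Bool}
    (h : Rel G x x' y y' v v' c) :
    Nat.card (Subgroup.closure ({v, v', x, x', y, y'} : Set G)) ≤ 64 := by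
  -- the central part
  have hcen : ∀ z ∈ Subgroup.center G, ∀ g : G, g⁻¹ * z * g = z := by
    intro z hz g
    rw [mul_assoc, ← Subgroup.mem_center_iff.mp hz g, inv_mul_cancel_left]
  have hN0 := card_closure_list_le (⊥ : Subgroup G) [v, v']
    (by
      intro g hg
      simp only [List.mem_cons, List.not_mem_nil, or_false] at hg
      rcases hg with rfl | rfl
      · rw [h.v2]; exact Subgroup.one_mem _
      · rw [h.v2']; exact Subgroup.one_mem _)
    (by
      simp only [List.pairwise_cons, List.mem_cons, List.not_mem_nil, or_false, forall_eq,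
        IsEmpty.forall_iff, implies_true, List.Pairwise.nil, and_true]
      rw [cm_central_left h.vc]; exact Subgroup.one_mem _)
    (by
      intro n hn g _
      rw [Subgroup.mem_bot] at hn
      rw [hn, mul_one, inv_mul_cancel]; exact Subgroup.one_mem _)
  set N := Subgroup.closure (((⊥ : Subgroup G) : Set G) ∪ {g | g ∈ [v, v']}) with hNdef
  have hNcard : Nat.card N ≤ 4 := by
    rw [Subgroup.card_bot] at hN0
    simpa using hN0
  have hvN : v ∈ N := Subgroup.subset_closure (Or.inr (by simp))
  have hv'N : v' ∈ N := Subgroup.subset_closure (Or.inr (by simp))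
  have hNc : N ≤ Subgroup.center G := by
    rw [hNdef, Subgroup.closure_le]
    rintro w (hw | hw)
    · rw [SetLike.mem_coe, Subgroup.mem_bot] at hw
      rw [hw]; exact Subgroup.one_mem _
    · simp only [List.mem_cons, List.not_mem_nil, or_false, Set.mem_ofPred_eq] at hw
      rcases hw with rfl | rfl
      · exact h.vc
      · exact h.vc'
  have hif : ∀ (b : Bool) (p q : G), p ∈ N → q ∈ N → (if b then p else q) ∈ N := by
    intro b p q hp hq
    cases b <;> simpa
  have h1 := card_closure_list_le N [x, x', y, y']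
    (by
      intro g hg
      simp only [List.mem_cons, List.not_mem_nil, or_false] at hg
      rcases hg with rfl | rfl | rfl | rfl
      · rw [h.xx]; exact hvN
      · rw [h.xx']; exact hv'N
      · rw [h.yy]; exact hvN
      · rw [h.yy']; exact hv'N)
    (by
      simp only [List.pairwise_cons, List.mem_cons, List.not_mem_nil, or_false, forall_eq_or_imp,
        forall_eq, IsEmpty.forall_iff, implies_true, List.Pairwise.nil, and_true]
      refine ⟨⟨?_, ?_, ?_⟩, ⟨?_, ?_⟩, ?_⟩
      · rw [h.c12]; exact N.one_mem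
      · rw [h.c13]; exact hif _ _ _ hv'N (N.mul_mem hvN hv'N)
      · rw [h.c14]; exact hif _ _ _ hvN hv'N
      · rw [h.c23]; exact hif _ _ _ hvN hv'N
      · rw [h.c24]; exact hif _ _ _ (N.mul_mem hvN hv'N) hvN
      · rw [h.c34]; exact N.one_mem)
    (by
      intro n hn g _
      rw [hcen n (hNc hn) g]; exact hn)
  have hsub : Subgroup.closure ({v, v', x, x', y, y'} : Set G) ≤
      Subgroup.closure ((N : Set G) ∪ {g | g ∈ [x, x', y, y']}) := by
    rw [Subgroup.closure_le]
    intro w hw
    simp only [Set.mem_insert_iff, Set.mem_singleton_iff] at hw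
    rcases hw with rfl | rfl | rfl | rfl | rfl | rfl
    · exact Subgroup.subset_closure (Or.inl hvN)
    · exact Subgroup.subset_closure (Or.inl hv'N)
    · exact Subgroup.subset_closure (Or.inr (by simp))
    · exact Subgroup.subset_closure (Or.inr (by simp))
    · exact Subgroup.subset_closure (Or.inr (by simp))
    · exact Subgroup.subset_closure (Or.inr (by simp))
  have h2 := Subgroup.card_le_of_le hsub
  have h3 : 2 ^ [x, x', y, y'].length * Nat.card N ≤ 64 := by
    show 2 ^ 4 * Nat.card N ≤ 64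
    omega
  exact (h2.trans h1).trans h3

section Graph

variable {T : Type u} {U : Type v} [Group T] [Group U] [Finite T] [Finite U]

theorem hom_of_graph (Γ : Subgroup (T × U)) (hsurj : ∀ t : T, ∃ u : U, (t, u) ∈ Γ)
    (hcard : Nat.card Γ ≤ Nat.card T) :
    ∃ f : T →* U, ∀ t : T, (t, f t) ∈ Γ ∧ ∀ u, (t, u) ∈ Γ → u = f t := by
  let π : Γ →* T := (MonoidHom.fst T U).comp Γ.subtype
  have hπs : Function.Surjective π := by
    intro t
    obtain ⟨u, hu⟩ := hsurj t
    exact ⟨⟨(t, u), hu⟩, rfl⟩
  have hπb : Function.Bijective π := hπs.bijective_of_nat_card_le hcard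
  let e : Γ ≃* T := MulEquiv.ofBijective π hπb
  let f : T →* U := ((MonoidHom.snd T U).comp Γ.subtype).comp e.symm.toMonoidHom
  refine ⟨f, fun t => ⟨?_, ?_⟩⟩
  · have h1 : ((e.symm t : Γ) : T × U) = (t, f t) := by
      apply Prod.ext
      · show π (e.symm t) = t
        exact e.apply_symm_apply t
      · rfl
    rw [← h1]; exact (e.symm t).2
  · intro u hu
    have h2 : e ⟨(t, u), hu⟩ = t := rfl
    have h3 : e.symm t = ⟨(t, u), hu⟩ := by
      apply e.injective
      rw [e.apply_symm_apply, h2]
    show u = ((e.symm t : Γ) : T × U).2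
    rw [h3]

theorem iso_of_rel {x x' y y' v v' : T} {X X' Y Y' V V' : U} {c : Bool}
    (hT : Rel T x x' y y' v v' c) (hU : Rel U X X' Y Y' V V' c)
    (hgen : Subgroup.closure ({v, v', x, x', y, y'} : Set T) = ⊤)
    (hcardT : Nat.card T = 64) (hcardU : Nat.card U = 64)
    (hZ : ∀ z ∈ Subgroup.center T, z = 1 ∨ z = v ∨ z = v' ∨ z = v * v')
    (hinv : ∀ t : T, t * t = 1 → t ∈ Subgroup.center T)
    (hsqc : ∀ t : T, t * t ∈ Subgroup.center T)
    (hV : V ≠ 1) (hV' : V' ≠ 1) (hVV' : V * V' ≠ 1) : Nonempty (T ≃* U) := by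
  set Γ : Subgroup (T × U) := Subgroup.closure
    ({(v, V), (v', V'), (x, X), (x', X'), (y, Y), (y', Y')} : Set (T × U)) with hΓ
  have hΓcard : Nat.card Γ ≤ 64 := (hT.prod hU).card_le
  have hmap : Γ.map (MonoidHom.fst T U) = ⊤ := by
    rw [hΓ, MonoidHom.map_closure, ← hgen]
    congr 1
    simp [Set.image_insert_eq]
  have hsurj : ∀ t : T, ∃ u : U, (t, u) ∈ Γ := by
    intro t
    have : t ∈ Γ.map (MonoidHom.fst T U) := by rw [hmap]; trivial
    obtain ⟨⟨t', u⟩, hmem, rfl⟩ := this
    exact ⟨u, hmem⟩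
  obtain ⟨f, hf⟩ := hom_of_graph Γ hsurj (by rw [hcardT]; exact hΓcard)
  have hfv : f v = V := ((hf v).2 V (Subgroup.subset_closure (by simp))).symm
  have hfv' : f v' = V' := ((hf v').2 V' (Subgroup.subset_closure (by simp))).symm
  have hker : ∀ z ∈ Subgroup.center T, f z = 1 → z = 1 := by
    intro z hz h1
    rcases hZ z hz with rfl | rfl | rfl | rfl
    · rfl
    · exfalso; rw [hfv] at h1; exact hV h1
    · exfalso; rw [hfv'] at h1; exact hV' h1
    · exfalso; rw [map_mul, hfv, hfv'] at h1; exact hVV' h1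
  have hinj : Function.Injective f := by
    rw [injective_iff_map_eq_one]
    intro t ht
    have h1 : t * t = 1 := hker _ (hsqc t) (by rw [map_mul, ht, one_mul])
    exact hker t (hinv t h1) ht
  have hbij := hinj.bijective_of_nat_card_le (by rw [hcardT, hcardU])
  exact ⟨MulEquiv.ofBijective f hbij⟩

end Graph

end Cfsg.Agent.Helper1.RkTwo
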