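import Mathlib
import Cfsg.Agent.Helper1.RkTwoH

/-!
# General lemmas for the group of order 320: polycyclic steps, generation and commutators,
fixed points of an element of prime power order.
-/

set_option autoImplicit false

universe u v

namespace Cfsg.Agent.Helper1.C320

open Cfsg.Agent.Helper3.SuzA Cfsg.Agent.Helper1.SuzH

open scoped commutatorElement

section Gen

variable {G : Type u} [Group G]

theorem conj_pow_mem (H : Subgroup G) (g : G) (h : ∀ a ∈ H, g * a * g⁻¹ ∈ H) (n : ℕ) :
    ∀ a ∈ H, g ^ n * a * (g ^ n)⁻¹ ∈ H := by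
  induction n with
  | zero => intro a ha; simpa using ha
  | succ n ih =>
    intro a ha
    have : g ^ (n + 1) * a * (g ^ (n + 1))⁻¹ = g ^ n * (g * a * g⁻¹) * (g ^ n)⁻¹ := by
      rw [pow_succ]; group
    rw [this]
    exact ih _ (h a ha)

theorem conj_inv_mem [Finite G] (H : Subgroup G) (g : G) (h : ∀ a ∈ H, g * a * g⁻¹ ∈ H) :
    ∀ a ∈ H, g⁻¹ * a * g ∈ H := by
  intro a ha
  have hpos : 0 < orderOf g := orderOf_pos g
  have h1 : g ^ (orderOf g - 1) = g⁻¹ := by
    apply eq_inv_of_mul_eq_one_left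
    rw [← pow_succ, Nat.sub_add_cancel hpos, pow_orderOf_eq_one]
  have := conj_pow_mem H g h (orderOf g - 1) a ha
  rw [h1, inv_inv] at this
  exact this

theorem conj_zpow_mem [Finite G] (H : Subgroup G) (g : G) (h : ∀ a ∈ H, g * a * g⁻¹ ∈ H) (i : ℤ) :
    ∀ a ∈ H, g ^ i * a * (g ^ i)⁻¹ ∈ H := by
  intro a ha
  obtain ⟨n, rfl | rfl⟩ := Int.eq_nat_or_neg i
  · rw [zpow_natCast]; exact conj_pow_mem H g h n a ha
  · rw [zpow_neg, zpow_natCast, inv_inv]
    have h' := conj_inv_mem H g h
    have := conj_pow_mem H g⁻¹ (by intro b hb; rw [inv_inv]; exact h' b hb) n a ha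
    rw [inv_pow, inv_inv] at this
    exact this

theorem conj_mem_closure' (S : Set G) (g : G)
    (hn : ∀ s ∈ S, g * s * g⁻¹ ∈ Subgroup.closure S) :
    ∀ a ∈ Subgroup.closure S, g * a * g⁻¹ ∈ Subgroup.closure S := by
  intro a ha
  induction ha using Subgroup.closure_induction with
  | mem y hy => exact hn y hy
  | one => rw [mul_one, mul_inv_cancel]; exact Subgroup.one_mem _
  | mul p q _ _ hp hq =>
    have : g * (p * q) * g⁻¹ = (g * p * g⁻¹) * (g * q * g⁻¹) := by group
    rw [this]; exact Subgroup.mul_mem _ hp hq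
  | inv p _ hp =>
    have : g * p⁻¹ * g⁻¹ = (g * p * g⁻¹)⁻¹ := by group
    rw [this]; exact Subgroup.inv_mem _ hp

/-- a polycyclic step of index at most `k` -/
theorem card_closure_insert_pow_le [Finite G] (k : ℕ) (hk : 0 < k) (S : Set G) (g : G)
    (hpow : g ^ k ∈ Subgroup.closure S)
    (hn : ∀ s ∈ S, g * s * g⁻¹ ∈ Subgroup.closure S) :
    Nat.card (Subgroup.closure (insert g S)) ≤ k * Nat.card (Subgroup.closure S) := by
  set A := Subgroup.closure S with hA
  have hc := conj_mem_closure' S g hn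
  have hz := conj_zpow_mem A g hc
  let C : Subgroup G :=
    { carrier := {w | ∃ i : ℤ, g ^ i * w ∈ A}
      one_mem' := ⟨0, by simpa using A.one_mem⟩
      mul_mem' := by
        rintro w₁ w₂ ⟨i, h1⟩ ⟨j, h2⟩
        refine ⟨j + i, ?_⟩
        have : g ^ (j + i) * (w₁ * w₂) = (g ^ j * (g ^ i * w₁) * (g ^ j)⁻¹) * (g ^ j * w₂) := by
          rw [zpow_add]; group
        rw [this]
        exact A.mul_mem (hz j _ h1) h2
      inv_mem' := by
        rintro w ⟨i, h1⟩
        refine ⟨-i, ?_⟩
        have : g ^ (-i) * w⁻¹ = g ^ (-i) * (g ^ i * w)⁻¹ * (g ^ (-i))⁻¹ := by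
          rw [zpow_neg]; group
        rw [this]
        exact hz (-i) _ (A.inv_mem h1) }
  have hle : Subgroup.closure (insert g S) ≤ C := by
    rw [Subgroup.closure_le]
    rintro w (rfl | hw)
    · exact ⟨-1, by simpa using A.one_mem⟩
    · exact ⟨0, by simpa using Subgroup.subset_closure hw⟩
  have h1 : Nat.card (Subgroup.closure (insert g S)) ≤ Nat.card C := Subgroup.card_le_of_le hle
  let f : Fin k × A → G := fun p => g ^ (p.1 : ℕ) * (p.2 : G)
  have hsub : (C : Set G) ⊆ Set.range f := by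
    rintro w ⟨i, hi⟩
    have hkz : (0 : ℤ) < (k : ℤ) := by exact_mod_cast hk
    have hr0 : 0 ≤ (-i) % (k : ℤ) := Int.emod_nonneg _ hkz.ne'
    have hrk : (-i) % (k : ℤ) < k := Int.emod_lt_of_pos _ hkz
    obtain ⟨r, hr⟩ := Int.eq_ofNat_of_zero_le hr0
    have hrk' : r < k := by
      rw [hr] at hrk; exact_mod_cast hrk
    have hdecomp : -i = (k : ℤ) * ((-i) / (k : ℤ)) + (r : ℤ) := by
      rw [← hr]; exact (Int.mul_ediv_add_emod (-i) k).symm
    have hq : (g ^ k) ^ ((-i) / (k : ℤ)) ∈ A := A.zpow_mem hpow _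
    refine ⟨(⟨r, hrk'⟩, ⟨(g ^ r)⁻¹ * w, ?_⟩), ?_⟩
    · have : (g ^ r)⁻¹ * w = (g ^ k) ^ ((-i) / (k : ℤ)) * (g ^ i * w) := by
        rw [← zpow_natCast g r, ← zpow_natCast g k, ← zpow_mul, ← zpow_neg, ← mul_assoc,
          ← zpow_add]
        congr 2
        omega
      rw [this]
      exact A.mul_mem hq hi
    · show g ^ r * ((g ^ r)⁻¹ * w) = w
      group
  have h2 : Nat.card C ≤ Nat.card (Set.range f) := Nat.card_mono (Set.toFinite _) hsub
  have h3 : Nat.card (Set.range f) ≤ Nat.card (Fin k × A) := Finite.card_range_le f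
  rw [Nat.card_prod, Nat.card_fin] at h3
  omega

/-- if generators commute modulo a normal subgroup, the derived subgroup lies in it -/
theorem cm_mem_of_gens (N : Subgroup G) [hN : N.Normal] (S : Set G)
    (hS : Subgroup.closure S = ⊤) (h : ∀ a ∈ S, ∀ b ∈ S, cm a b ∈ N) :
    ∀ a b : G, cm a b ∈ N := by
  have hleft : ∀ b ∈ S, ∀ a : G, cm a b ∈ N := by
    intro b hb a
    have ha : a ∈ Subgroup.closure S := by rw [hS]; trivial
    induction ha using Subgroup.closure_induction with
    | mem y hy => exact h y hy b hb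
    | one => rw [cm_one_left]; exact N.one_mem
    | mul p q _ _ hp hq =>
      rw [cm_mul_left']
      have h1 : q⁻¹ * cm p b * q ∈ N := by
        have := hN.conj_mem _ hp q⁻¹
        simpa using this
      exact N.mul_mem h1 hq
    | inv p _ hp =>
      rw [cm_inv_left]
      exact hN.conj_mem _ (N.inv_mem hp) p
  intro a b
  have hb : b ∈ Subgroup.closure S := by rw [hS]; trivial
  induction hb using Subgroup.closure_induction with
  | mem y hy => exact hleft y hy a
  | one => rw [cm_one_right]; exact N.one_mem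
  | mul p q _ _ hp hq =>
    rw [cm_mul_right']
    have h1 : q⁻¹ * cm a p * q ∈ N := by
      have := hN.conj_mem _ hp q⁻¹
      simpa using this
    exact N.mul_mem hq h1
  | inv p _ hp =>
    rw [cm_swap, cm_inv_left]
    exact N.inv_mem (hN.conj_mem _ (N.inv_mem (by rw [cm_swap]; exact N.inv_mem hp)) p)

theorem commutator_le_of_gens (N : Subgroup G) [hN : N.Normal] (S : Set G)
    (hS : Subgroup.closure S = ⊤) (h : ∀ a ∈ S, ∀ b ∈ S, cm a b ∈ N) :
    commutator G ≤ N := by
  have hall := cm_mem_of_gens N S hS h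
  rw [commutator_def, Subgroup.commutator_le]
  intro a _ b _
  have : ⁅a, b⁆ = cm a⁻¹ b⁻¹ := by
    rw [commutatorElement_def]; unfold cm; group
  rw [this]
  exact hall _ _

end Gen

section Fix

variable {G : Type u} [Group G] [Finite G]

/-- fixed point congruence for the conjugation action of an element of prime power order -/
theorem card_modEq_fixed (M : Subgroup G) (σ : G) (p n : ℕ) [hp : Fact p.Prime]
    (hσ : σ ^ p ^ n = 1) (hM : ∀ m ∈ M, σ * m * σ⁻¹ ∈ M) :
    Nat.card M ≡ Nat.card ↥(M ⊓ Subgroup.centralizer {σ}) [MOD p] := by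
  classical
  haveI : Fintype M := Fintype.ofFinite _
  let f : Function.End M := fun m => ⟨σ * m * σ⁻¹, hM m m.2⟩
  have hpow : ∀ k : ℕ, ∀ m : M, ((f ^ k) m : G) = σ ^ k * m * (σ ^ k)⁻¹ := by
    intro k
    induction k with
    | zero =>
      intro m
      rw [pow_zero, pow_zero, one_mul, inv_one, mul_one]
      rfl
    | succ k ih =>
      intro m
      have e : (f ^ (k + 1)) m = f ((f ^ k) m) := by rw [pow_succ']; rfl
      rw [e]
      show σ * ((f ^ k) m : G) * σ⁻¹ = _
      rw [ih, pow_succ']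
      group
  have hf : f ^ p ^ n = 1 := by
    funext m
    apply Subtype.ext
    rw [hpow, hσ, one_mul, inv_one, mul_one]
    rfl
  have h1 := Equiv.Perm.card_fixedPoints_modEq (f := f) hf
  rw [Nat.card_eq_fintype_card]
  refine h1.trans ?_
  have h2 : Fintype.card (Function.fixedPoints f) = Nat.card ↥(M ⊓ Subgroup.centralizer {σ}) := by
    rw [← Nat.card_eq_fintype_card]
    apply Nat.card_congr
    refine
      { toFun := fun m => ⟨m.1.1, m.1.2, ?_⟩
        invFun := fun m => ⟨⟨m.1, m.2.1⟩, ?_⟩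
        left_inv := fun m => rfl
        right_inv := fun m => rfl }
    · have hm : f m.1 = m.1 := m.2
      have hm' : σ * (m.1 : G) * σ⁻¹ = m.1 := congrArg Subtype.val hm
      show (m.1 : G) ∈ Subgroup.centralizer {σ}
      rw [Subgroup.mem_centralizer_iff]
      intro s hs
      rw [Set.mem_singleton_iff] at hs
      rw [hs]
      calc σ * (m.1 : G) = (σ * (m.1 : G) * σ⁻¹) * σ := by group
        _ = (m.1 : G) * σ := by rw [hm']
    · have hm : (m : G) ∈ Subgroup.centralizer {σ} := m.2.2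
      rw [Subgroup.mem_centralizer_iff] at hm
      have := hm σ rfl
      show f ⟨m.1, m.2.1⟩ = ⟨m.1, m.2.1⟩
      apply Subtype.ext
      show σ * (m.1 : G) * σ⁻¹ = m.1
      rw [this]; group
  rw [h2]

end Fix

end Cfsg.Agent.Helper1.C320
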