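import Mathlib
import Cfsg.Agent.Helper1.C320A

/-!
# The defining relations of the group of order 320 and the isomorphism they force
-/

set_option autoImplicit false

universe u v

namespace Cfsg.Agent.Helper1.C320

open Cfsg.Agent.Helper3.SuzA Cfsg.Agent.Helper1.SuzH Cfsg.Agent.Helper1.RkTwo

/-- The relations shared by the two groups -/
structure Rel5 (G : Type u) [Group G] (s x0 x1 x2 x3 c1 c2 : G) : Prop where
  s5 : s ^ 5 = 1
  s0 : s * x0 = x1 * s
  s1 : s * x1 = x2 * s
  s2 : s * x2 = x3 * s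
  s3 : (x0 * x1 * x2 * x3) * s * x3 = s
  c1c : c1 ∈ Subgroup.center G
  c2c : c2 ∈ Subgroup.center G
  c11 : c1 * c1 = 1
  c22 : c2 * c2 = 1
  q0 : x0 * x0 = c1 * c2
  q1 : x1 * x1 = c1 * c2
  q2 : x2 * x2 = c1 * c2
  q3 : x3 * x3 = c1 * c2
  k01 : cm x0 x1 = c1
  k12 : cm x1 x2 = c1
  k23 : cm x2 x3 = c1
  k02 : cm x0 x2 = c2
  k13 : cm x1 x3 = c2
  k03 : cm x0 x3 = c2

theorem Rel5.prod {T : Type u} {U : Type v} [Group T] [Group U]
    {s x0 x1 x2 x3 c1 c2 : T} {S X0 X1 X2 X3 C1 C2 : U}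
    (hT : Rel5 T s x0 x1 x2 x3 c1 c2) (hU : Rel5 U S X0 X1 X2 X3 C1 C2) :
    Rel5 (T × U) (s, S) (x0, X0) (x1, X1) (x2, X2) (x3, X3) (c1, C1) (c2, C2) where
  s5 := by rw [Prod.pow_mk, hT.s5, hU.s5]; rfl
  s0 := by rw [Prod.mk_mul_mk, Prod.mk_mul_mk, hT.s0, hU.s0]
  s1 := by rw [Prod.mk_mul_mk, Prod.mk_mul_mk, hT.s1, hU.s1]
  s2 := by rw [Prod.mk_mul_mk, Prod.mk_mul_mk, hT.s2, hU.s2]
  s3 := by simp only [Prod.mk_mul_mk]; rw [hT.s3, hU.s3]
  c1c := prod_mem_center hT.c1c hU.c1c
  c2c := prod_mem_center hT.c2c hU.c2c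
  c11 := by rw [Prod.mk_mul_mk, hT.c11, hU.c11]; rfl
  c22 := by rw [Prod.mk_mul_mk, hT.c22, hU.c22]; rfl
  q0 := by rw [Prod.mk_mul_mk, Prod.mk_mul_mk, hT.q0, hU.q0]
  q1 := by rw [Prod.mk_mul_mk, Prod.mk_mul_mk, hT.q1, hU.q1]
  q2 := by rw [Prod.mk_mul_mk, Prod.mk_mul_mk, hT.q2, hU.q2]
  q3 := by rw [Prod.mk_mul_mk, Prod.mk_mul_mk, hT.q3, hU.q3]
  k01 := by rw [cm_prod]; simp only [hT.k01, hU.k01]
  k12 := by rw [cm_prod]; simp only [hT.k12, hU.k12]
  k23 := by rw [cm_prod]; simp only [hT.k23, hU.k23]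
  k02 := by rw [cm_prod]; simp only [hT.k02, hU.k02]
  k13 := by rw [cm_prod]; simp only [hT.k13, hU.k13]
  k03 := by rw [cm_prod]; simp only [hT.k03, hU.k03]

theorem Rel5.card_le {G : Type u} [Group G] [Finite G] {s x0 x1 x2 x3 c1 c2 : G}
    (h : Rel5 G s x0 x1 x2 x3 c1 c2) :
    Nat.card (Subgroup.closure ({s, c1, c2, x0, x1, x2, x3} : Set G)) ≤ 320 := by
  have hcen : ∀ z ∈ Subgroup.center G, ∀ g : G, g⁻¹ * z * g = z := by
    intro z hz g
    rw [mul_assoc, ← Subgroup.mem_center_iff.mp hz g, inv_mul_cancel_left]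
  have hN0 := card_closure_list_le (⊥ : Subgroup G) [c1, c2]
    (by
      intro g hg
      simp only [List.mem_cons, List.not_mem_nil, or_false] at hg
      rcases hg with rfl | rfl
      · rw [h.c11]; exact Subgroup.one_mem _
      · rw [h.c22]; exact Subgroup.one_mem _)
    (by
      simp only [List.pairwise_cons, List.mem_cons, List.not_mem_nil, or_false, forall_eq,
        IsEmpty.forall_iff, implies_true, List.Pairwise.nil, and_true]
      rw [cm_central_left h.c1c]; exact Subgroup.one_mem _)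
    (by
      intro n hn g _
      rw [Subgroup.mem_bot] at hn
      rw [hn, mul_one, inv_mul_cancel]; exact Subgroup.one_mem _)
  set N := Subgroup.closure (((⊥ : Subgroup G) : Set G) ∪ {g | g ∈ [c1, c2]}) with hNdef
  have hNcard : Nat.card N ≤ 4 := by
    rw [Subgroup.card_bot] at hN0
    simpa using hN0
  have hc1N : c1 ∈ N := Subgroup.subset_closure (Or.inr (by simp))
  have hc2N : c2 ∈ N := Subgroup.subset_closure (Or.inr (by simp))
  have hNc : N ≤ Subgroup.center G := by
    rw [hNdef, Subgroup.closure_le]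
    rintro w (hw | hw)
    · rw [SetLike.mem_coe, Subgroup.mem_bot] at hw
      rw [hw]; exact Subgroup.one_mem _
    · simp only [List.mem_cons, List.not_mem_nil, or_false, Set.mem_ofPred_eq] at hw
      rcases hw with rfl | rfl
      · exact h.c1c
      · exact h.c2c
  have hvN : c1 * c2 ∈ N := N.mul_mem hc1N hc2N
  have h1 := card_closure_list_le N [x0, x1, x2, x3]
    (by
      intro g hg
      simp only [List.mem_cons, List.not_mem_nil, or_false] at hg
      rcases hg with rfl | rfl | rfl | rfl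
      · rw [h.q0]; exact hvN
      · rw [h.q1]; exact hvN
      · rw [h.q2]; exact hvN
      · rw [h.q3]; exact hvN)
    (by
      simp only [List.pairwise_cons, List.mem_cons, List.not_mem_nil, or_false, forall_eq_or_imp,
        forall_eq, IsEmpty.forall_iff, implies_true, List.Pairwise.nil, and_true]
      refine ⟨⟨?_, ?_, ?_⟩, ⟨?_, ?_⟩, ?_⟩
      · rw [h.k01]; exact hc1N
      · rw [h.k02]; exact hc2N
      · rw [h.k03]; exact hc2N
      · rw [h.k12]; exact hc1N
      · rw [h.k13]; exact hc2N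
      · rw [h.k23]; exact hc1N)
    (by
      intro n hn g _
      rw [hcen n (hNc hn) g]; exact hn)
  set S₁ : Set G := (N : Set G) ∪ {g | g ∈ [x0, x1, x2, x3]} with hS₁
  set E := Subgroup.closure S₁ with hE
  have hEcard : Nat.card E ≤ 64 := by
    have h3 : 2 ^ [x0, x1, x2, x3].length * Nat.card N ≤ 64 := by
      show 2 ^ 4 * Nat.card N ≤ 64
      omega
    exact h1.trans h3
  have hNE : N ≤ E := fun n hn => Subgroup.subset_closure (Or.inl hn)
  have hx0 : x0 ∈ E := Subgroup.subset_closure (Or.inr (by simp))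
  have hx1 : x1 ∈ E := Subgroup.subset_closure (Or.inr (by simp))
  have hx2 : x2 ∈ E := Subgroup.subset_closure (Or.inr (by simp))
  have hx3 : x3 ∈ E := Subgroup.subset_closure (Or.inr (by simp))
  have h2 := card_closure_insert_pow_le 5 (by norm_num) S₁ s
    (by rw [h.s5]; exact Subgroup.one_mem _)
    (by
      rintro t (ht | ht)
      · have hc := Subgroup.mem_center_iff.mp (hNc ht) s
        rw [hc, mul_inv_cancel_right]
        exact hNE ht
      · simp only [List.mem_cons, List.not_mem_nil, or_false, Set.mem_ofPred_eq] at ht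
        rcases ht with rfl | rfl | rfl | rfl
        · rw [h.s0, mul_inv_cancel_right]; exact hx1
        · rw [h.s1, mul_inv_cancel_right]; exact hx2
        · rw [h.s2, mul_inv_cancel_right]; exact hx3
        · have : s * t * s⁻¹ = (x0 * x1 * x2 * t)⁻¹ := by
            have e := h.s3
            have : s * t = (x0 * x1 * x2 * t)⁻¹ * s := by
              calc s * t = (x0 * x1 * x2 * t)⁻¹ * ((x0 * x1 * x2 * t) * s * t) := by group
                _ = (x0 * x1 * x2 * t)⁻¹ * s := by rw [e]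
            rw [this, mul_inv_cancel_right]
          rw [this]
          exact E.inv_mem (E.mul_mem (E.mul_mem (E.mul_mem hx0 hx1) hx2) hx3))
  have hsub : Subgroup.closure ({s, c1, c2, x0, x1, x2, x3} : Set G) ≤
      Subgroup.closure (insert s S₁) := by
    rw [Subgroup.closure_le]
    intro w hw
    simp only [Set.mem_insert_iff, Set.mem_singleton_iff] at hw
    rcases hw with rfl | rfl | rfl | rfl | rfl | rfl | rfl
    · exact Subgroup.subset_closure (Or.inl rfl)
    · exact Subgroup.subset_closure (Or.inr (Or.inl hc1N))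
    · exact Subgroup.subset_closure (Or.inr (Or.inl hc2N))
    · exact Subgroup.subset_closure (Or.inr (Or.inr (by simp)))
    · exact Subgroup.subset_closure (Or.inr (Or.inr (by simp)))
    · exact Subgroup.subset_closure (Or.inr (Or.inr (by simp)))
    · exact Subgroup.subset_closure (Or.inr (Or.inr (by simp)))
  have h4 := Subgroup.card_le_of_le hsub
  have h5 : Nat.card (Subgroup.closure S₁) ≤ 64 := hEcard
  omega

section Graph

variable {T : Type u} {U : Type v} [Group T] [Group U] [Finite T] [Finite U]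

theorem iso_of_rel5 {s x0 x1 x2 x3 c1 c2 : T} {S X0 X1 X2 X3 C1 C2 : U}
    (hT : Rel5 T s x0 x1 x2 x3 c1 c2) (hU : Rel5 U S X0 X1 X2 X3 C1 C2)
    (hgenT : Subgroup.closure ({s, c1, c2, x0, x1, x2, x3} : Set T) = ⊤)
    (hgenU : Subgroup.closure ({S, C1, C2, X0, X1, X2, X3} : Set U) = ⊤)
    (hcardT : Nat.card T = 320) (hcardU : Nat.card U = 320) : Nonempty (T ≃* U) := by
  set Γ : Subgroup (T × U) := Subgroup.closure
    ({(s, S), (c1, C1), (c2, C2), (x0, X0), (x1, X1), (x2, X2), (x3, X3)} : Set (T × U)) with hΓ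
  have hΓcard : Nat.card Γ ≤ 320 := (hT.prod hU).card_le
  have hmap : Γ.map (MonoidHom.fst T U) = ⊤ := by
    rw [hΓ, MonoidHom.map_closure, ← hgenT]
    congr 1
    simp [Set.image_insert_eq]
  have hsurj : ∀ t : T, ∃ u : U, (t, u) ∈ Γ := by
    intro t
    have : t ∈ Γ.map (MonoidHom.fst T U) := by rw [hmap]; trivial
    obtain ⟨⟨t', u⟩, hmem, rfl⟩ := this
    exact ⟨u, hmem⟩
  obtain ⟨f, hf⟩ := hom_of_graph Γ hsurj (by rw [hcardT]; exact hΓcard)
  have hfs : f s = S := ((hf s).2 S (Subgroup.subset_closure (by simp))).symm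
  have hfc1 : f c1 = C1 := ((hf c1).2 C1 (Subgroup.subset_closure (by simp))).symm
  have hfc2 : f c2 = C2 := ((hf c2).2 C2 (Subgroup.subset_closure (by simp))).symm
  have hfx0 : f x0 = X0 := ((hf x0).2 X0 (Subgroup.subset_closure (by simp))).symm
  have hfx1 : f x1 = X1 := ((hf x1).2 X1 (Subgroup.subset_closure (by simp))).symm
  have hfx2 : f x2 = X2 := ((hf x2).2 X2 (Subgroup.subset_closure (by simp))).symm
  have hfx3 : f x3 = X3 := ((hf x3).2 X3 (Subgroup.subset_closure (by simp))).symm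
  have hrange : f.range = ⊤ := by
    rw [eq_top_iff, ← hgenU, Subgroup.closure_le]
    intro w hw
    simp only [Set.mem_insert_iff, Set.mem_singleton_iff] at hw
    rcases hw with rfl | rfl | rfl | rfl | rfl | rfl | rfl
    · exact ⟨s, hfs⟩
    · exact ⟨c1, hfc1⟩
    · exact ⟨c2, hfc2⟩
    · exact ⟨x0, hfx0⟩
    · exact ⟨x1, hfx1⟩
    · exact ⟨x2, hfx2⟩
    · exact ⟨x3, hfx3⟩
  have hsurjf : Function.Surjective f := MonoidHom.range_eq_top.mp hrange
  have hbij := hsurjf.bijective_of_nat_card_le (by rw [hcardT, hcardU])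
  exact ⟨MulEquiv.ofBijective f hbij⟩

end Graph

end Cfsg.Agent.Helper1.C320
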