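import Mathlib
import Cfsg.Agent.Helper1.C320B

/-!
# The abstract setting: a group of order 320 with derived subgroup of order 64 whose centre
is a four-group. Part 1: the action of an element of order five.
-/

set_option autoImplicit false

universe u v

namespace Cfsg.Agent.Helper1.C320

open Cfsg.Agent.Helper3.SuzA Cfsg.Agent.Helper1.SuzH Cfsg.Agent.Helper1.RkTwo

open scoped commutatorElement

/-- The setting. -/
structure Sett5 (G : Type u) [Group G] (T Z : Subgroup G) (σ : G) : Prop where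
  nT : T.Normal
  cardG : Nat.card G = 320
  cardT : Nat.card T = 64
  cardZ : Nat.card Z = 4
  ZT : Z ≤ T
  Zc : ∀ z ∈ Z, ∀ t ∈ T, t * z = z * t
  cZ : ∀ x ∈ T, (∀ t ∈ T, t * x = x * t) → x ∈ Z
  Z2 : ∀ z ∈ Z, z * z = 1
  s5 : σ ^ 5 = 1
  s1 : σ ≠ 1
  comm : T ≤ commutator G

namespace Sett5

variable {G : Type u} [Group G] [Finite G] {T Z : Subgroup G} {σ : G}

theorem nZ (h : Sett5 G T Z σ) : Z.Normal := by
  haveI := h.nT
  constructor
  intro z hz g
  apply h.cZ
  · exact h.nT.conj_mem z (h.ZT hz) g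
  · intro t ht
    have h1 : g⁻¹ * t * g ∈ T := by
      have := h.nT.conj_mem t ht g⁻¹
      simpa using this
    have h2 := h.Zc z hz _ h1
    calc t * (g * z * g⁻¹) = g * ((g⁻¹ * t * g) * z) * g⁻¹ := by group
      _ = g * (z * (g⁻¹ * t * g)) * g⁻¹ := by rw [h2]
      _ = g * z * g⁻¹ * t := by group

theorem sZ (h : Sett5 G T Z σ) : ∀ z ∈ Z, σ * z * σ⁻¹ = z := by
  haveI := h.nZ
  let ψ : G →* Equiv.Perm Z := (MulAut.toPerm Z).comp (MulAut.conjNormal (H := Z))
  have h5 : (ψ σ) ^ 5 = 1 := by rw [← map_pow, h.s5, map_one]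
  have hd1 : orderOf (ψ σ) ∣ 5 := orderOf_dvd_of_pow_eq_one h5
  haveI : Finite Z := inferInstance
  have hd2 : orderOf (ψ σ) ∣ Nat.card (Equiv.Perm Z) := orderOf_dvd_natCard _
  have hc : Nat.card (Equiv.Perm Z) = 24 := by rw [Nat.card_perm, h.cardZ]; rfl
  rw [hc] at hd2
  have hd3 : orderOf (ψ σ) ∣ Nat.gcd 5 24 := Nat.dvd_gcd hd1 hd2
  have hd4 : orderOf (ψ σ) = 1 := by
    have : Nat.gcd 5 24 = 1 := by norm_num
    rw [this] at hd3
    exact Nat.dvd_one.mp hd3
  have h1 : ψ σ = 1 := orderOf_eq_one_iff.mp hd4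
  intro z hz
  have h2 : (((MulAut.conjNormal σ : MulAut Z) ⟨z, hz⟩ : Z) : G) = z :=
    congrArg (fun π : Equiv.Perm Z => ((π ⟨z, hz⟩ : Z) : G)) h1
  rw [MulAut.conjNormal_apply] at h2
  exact h2

theorem sZ' (h : Sett5 G T Z σ) {z : G} (hz : z ∈ Z) : σ * z = z * σ := by
  have := h.sZ z hz
  calc σ * z = (σ * z * σ⁻¹) * σ := by group
    _ = z * σ := by rw [this]

theorem order5 (h : Sett5 G T Z σ) : orderOf σ = 5 := by
  have hd : orderOf σ ∣ 5 := orderOf_dvd_of_pow_eq_one h.s5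
  rcases (Nat.dvd_prime (by norm_num : Nat.Prime 5)).mp hd with h1 | h1
  · exact absurd (orderOf_eq_one_iff.mp h1) h.s1
  · exact h1

theorem gen (h : Sett5 G T Z σ) : T ⊔ Subgroup.zpowers σ = ⊤ := by
  apply Subgroup.eq_top_of_card_eq
  rw [h.cardG]
  have h1 : Nat.card T ∣ Nat.card ↥(T ⊔ Subgroup.zpowers σ) := Subgroup.card_dvd_of_le le_sup_left
  have h2 : orderOf σ ∣ Nat.card ↥(T ⊔ Subgroup.zpowers σ) :=
    Subgroup.orderOf_dvd_natCard _ ((le_sup_right : Subgroup.zpowers σ ≤ _) (Subgroup.mem_zpowers σ))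
  rw [h.cardT] at h1
  rw [h.order5] at h2
  have h3 : 320 ∣ Nat.card ↥(T ⊔ Subgroup.zpowers σ) := by
    have : Nat.Coprime 64 5 := by norm_num
    exact this.mul_dvd_of_dvd_of_dvd h1 h2
  have h4 : Nat.card ↥(T ⊔ Subgroup.zpowers σ) ∣ 320 := by
    rw [← h.cardG]; exact Subgroup.card_subgroup_dvd_card _
  exact Nat.dvd_antisymm h4 h3

theorem gen' (h : Sett5 G T Z σ) : Subgroup.closure ((T : Set G) ∪ {σ}) = ⊤ := by
  rw [Subgroup.closure_union, Subgroup.closure_eq, ← Subgroup.zpowers_eq_closure]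
  exact h.gen

theorem Zcenter (h : Sett5 G T Z σ) : Z ≤ Subgroup.center G := by
  intro z hz
  have h1 : Subgroup.closure ((T : Set G) ∪ {σ}) ≤ Subgroup.centralizer {z} := by
    rw [Subgroup.closure_le]
    rintro w (hw | hw)
    · rw [SetLike.mem_coe, Subgroup.mem_centralizer_iff]
      intro y hy
      rw [Set.mem_singleton_iff] at hy
      rw [hy]
      exact (h.Zc z hz w hw).symm
    · rw [Set.mem_singleton_iff] at hw
      rw [hw, SetLike.mem_coe, Subgroup.mem_centralizer_iff]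
      intro y hy
      rw [Set.mem_singleton_iff] at hy
      rw [hy]
      exact (h.sZ' hz).symm
  rw [h.gen'] at h1
  rw [Subgroup.mem_center_iff]
  intro g
  have := h1 (Subgroup.mem_top g)
  rw [Subgroup.mem_centralizer_iff] at this
  exact (this z rfl).symm

theorem Zcomm (h : Sett5 G T Z σ) {z : G} (hz : z ∈ Z) (g : G) : g * z = z * g :=
  Subgroup.mem_center_iff.mp (h.Zcenter hz) g

/-- a twisted fixed point is a fixed point -/
theorem twist (h : Sett5 G T Z σ) (y : G) {z : G} (hz : z ∈ Z) (hy : σ * y * σ⁻¹ = y * z) :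
    z = 1 := by
  have hk : ∀ k : ℕ, σ ^ k * y * (σ ^ k)⁻¹ = y * z ^ k := by
    intro k
    induction k with
    | zero => simp
    | succ k ih =>
      have e : σ ^ (k + 1) * y * (σ ^ (k + 1))⁻¹ = σ * (σ ^ k * y * (σ ^ k)⁻¹) * σ⁻¹ := by
        rw [pow_succ']; group
      rw [e, ih]
      have e2 : σ * (y * z ^ k) * σ⁻¹ = (σ * y * σ⁻¹) * (σ * z ^ k * σ⁻¹) := by group
      rw [e2, hy]
      have e3 : σ * z ^ k * σ⁻¹ = z ^ k := h.sZ _ (Z.pow_mem hz k)
      rw [e3, pow_succ']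
      group
  have h5 := hk 5
  rw [h.s5] at h5
  have hz5 : z ^ 5 = 1 := by
    have : y * z ^ 5 = y * 1 := by rw [← h5]; group
    exact mul_left_cancel this
  have hz2 := h.Z2 z hz
  have e5 : z ^ 5 = z := by
    rw [show (5 : ℕ) = 2 * 2 + 1 from rfl, pow_succ, pow_mul, pow_two z, hz2, one_pow, one_mul]
  rw [← e5, hz5]

theorem dvd64_mod5 {n : ℕ} (h1 : n ∣ 64) (h2 : n ≡ 4 [MOD 5]) : n = 4 ∨ n = 64 := by
  have hle : n ≤ 64 := Nat.le_of_dvd (by norm_num) h1
  unfold Nat.ModEq at h2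
  interval_cases n <;> omega

theorem T_not_perfect (h : Sett5 G T Z σ) : ¬ T ≤ ⁅T, T⁆ := by
  intro hle
  have hp : IsPGroup 2 T := IsPGroup.of_card (n := 6) (by rw [h.cardT]; norm_num)
  haveI : Fact (Nat.Prime 2) := ⟨Nat.prime_two⟩
  haveI : Group.IsNilpotent T := hp.isNilpotent
  haveI : Nontrivial T := by
    rw [← Finite.one_lt_card_iff_nontrivial, h.cardT]; norm_num
  have h1 : commutator T < ⊤ := Group.IsSolvable.commutator_lt_top_of_nontrivial T
  have h2 : (commutator T).map T.subtype = ⁅T, T⁆ := Subgroup.map_subtype_commutator T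
  apply h1.ne
  rw [eq_top_iff]
  intro x _
  have hx : (x : G) ∈ ⁅T, T⁆ := hle x.2
  rw [← h2] at hx
  obtain ⟨y, hy, hyx⟩ := hx
  have : y = x := Subtype.ext hyx
  rw [← this]; exact hy

theorem fixT (h : Sett5 G T Z σ) : T ⊓ Subgroup.centralizer {σ} = Z := by
  haveI : Fact (Nat.Prime 5) := ⟨by norm_num⟩
  haveI := h.nT
  have hZC : Z ≤ T ⊓ Subgroup.centralizer {σ} := by
    intro z hz
    refine ⟨h.ZT hz, ?_⟩
    show z ∈ Subgroup.centralizer {σ}
    rw [Subgroup.mem_centralizer_iff]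
    intro y hy
    rw [Set.mem_singleton_iff] at hy
    rw [hy]; exact h.sZ' hz
  have hmod := card_modEq_fixed T σ 5 1 (by rw [pow_one]; exact h.s5)
    (fun m hm => h.nT.conj_mem m hm σ)
  rw [h.cardT] at hmod
  have hdvd : Nat.card ↥(T ⊓ Subgroup.centralizer {σ}) ∣ 64 := by
    rw [← h.cardT]; exact Subgroup.card_dvd_of_le inf_le_left
  have h64 : (64 : ℕ) ≡ 4 [MOD 5] := by decide
  rcases dvd64_mod5 hdvd (hmod.symm.trans h64) with h4 | h64'
  · exact (Subgroup.eq_of_le_of_card_ge hZC (by rw [h4, h.cardZ])).symm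
  · exfalso
    have hCT : T ⊓ Subgroup.centralizer {σ} = T :=
      Subgroup.eq_of_le_of_card_ge inf_le_left (by rw [h64', h.cardT])
    have hcent : ∀ t ∈ T, σ * t = t * σ := by
      intro t ht
      have : t ∈ T ⊓ Subgroup.centralizer {σ} := by rw [hCT]; exact ht
      have h2 : t ∈ Subgroup.centralizer {σ} := this.2
      rw [Subgroup.mem_centralizer_iff] at h2
      exact h2 σ rfl
    apply h.T_not_perfect
    refine h.comm.trans ?_
    apply commutator_le_of_gens ⁅T, T⁆ ((T : Set G) ∪ {σ}) h.gen'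
    have hcmT : ∀ a ∈ T, ∀ b ∈ T, cm a b ∈ ⁅T, T⁆ := by
      intro a ha b hb
      have : cm a b = ⁅a⁻¹, b⁻¹⁆ := by
        rw [commutatorElement_def]; unfold cm; group
      rw [this]
      exact Subgroup.commutator_mem_commutator (T.inv_mem ha) (T.inv_mem hb)
    rintro a (ha | ha) b (hb | hb)
    · exact hcmT a ha b hb
    · rw [Set.mem_singleton_iff] at hb
      rw [hb, cm_eq_one_iff.mpr (hcent a ha).symm]; exact Subgroup.one_mem _
    · rw [Set.mem_singleton_iff] at ha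
      rw [ha, cm_eq_one_iff.mpr (hcent b hb)]; exact Subgroup.one_mem _
    · rw [Set.mem_singleton_iff] at ha hb
      rw [ha, hb, cm_self]; exact Subgroup.one_mem _

/-- invariant subgroups between `Z` and `T` -/
theorem inv_sub (h : Sett5 G T Z σ) (M : Subgroup G) (hZM : Z ≤ M) (hMT : M ≤ T)
    (hM : ∀ m ∈ M, σ * m * σ⁻¹ ∈ M) (hne : M ≠ Z) : M = T := by
  haveI : Fact (Nat.Prime 5) := ⟨by norm_num⟩
  have hmod := card_modEq_fixed M σ 5 1 (by rw [pow_one]; exact h.s5) hM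
  have hfix : M ⊓ Subgroup.centralizer {σ} = Z := by
    apply le_antisymm
    · rw [← h.fixT]
      exact inf_le_inf_right _ hMT
    · rw [← h.fixT]
      exact le_inf (by rw [h.fixT]; exact hZM) inf_le_right
  rw [hfix, h.cardZ] at hmod
  have hdvd : Nat.card M ∣ 64 := by
    rw [← h.cardT]; exact Subgroup.card_dvd_of_le hMT
  rcases dvd64_mod5 hdvd hmod with h4 | h64
  · exfalso
    apply hne
    exact (Subgroup.eq_of_le_of_card_ge hZM (by rw [h4, h.cardZ])).symm
  · exact Subgroup.eq_of_le_of_card_ge hMT (by rw [h64, h.cardT])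

end Sett5

end Cfsg.Agent.Helper1.C320
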