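import Mathlib
import Cfsg.Agent.Helper1.C320C

/-!
# The abstract setting, part 2: the quotient by the centre is elementary abelian
-/

set_option autoImplicit false

universe u v

namespace Cfsg.Agent.Helper1.C320

open Cfsg.Agent.Helper3.SuzA Cfsg.Agent.Helper1.SuzH Cfsg.Agent.Helper1.RkTwo

open scoped commutatorElement

namespace Sett5

variable {G : Type u} [Group G] [Finite G] {T Z : Subgroup G} {σ : G}

theorem conj_T (h : Sett5 G T Z σ) (g : G) {t : G} (ht : t ∈ T) : g⁻¹ * t * g ∈ T := by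
  have := h.nT.conj_mem t ht g⁻¹
  simpa using this

theorem conj_Z (h : Sett5 G T Z σ) (g : G) {z : G} (hz : z ∈ Z) : g⁻¹ * z * g ∈ Z := by
  have := h.nZ.conj_mem z hz g⁻¹
  simpa using this

theorem exists_not_Z (h : Sett5 G T Z σ) : ∃ x ∈ T, x ∉ Z := by
  by_contra hcon
  push Not at hcon
  have : T ≤ Z := hcon
  have := Subgroup.card_le_of_le this
  rw [h.cardT, h.cardZ] at this
  omega

/-- the second centre -/
def M1 (h : Sett5 G T Z σ) : Subgroup G where
  carrier := {x | x ∈ T ∧ ∀ y ∈ T, cm x y ∈ Z}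
  one_mem' := ⟨T.one_mem, fun y _ => by rw [cm_one_left]; exact Z.one_mem⟩
  mul_mem' := by
    rintro x x' ⟨hx, hx2⟩ ⟨hx', hx2'⟩
    refine ⟨T.mul_mem hx hx', fun y hy => ?_⟩
    rw [cm_mul_left']
    exact Z.mul_mem (h.conj_Z x' (hx2 y hy)) (hx2' y hy)
  inv_mem' := by
    rintro x ⟨hx, hx2⟩
    refine ⟨T.inv_mem hx, fun y hy => ?_⟩
    rw [cm_inv_left]
    exact h.nZ.conj_mem _ (Z.inv_mem (hx2 y hy)) x

theorem cmZ (h : Sett5 G T Z σ) : ∀ x ∈ T, ∀ y ∈ T, cm x y ∈ Z := by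
  have hZM : Z ≤ h.M1 := by
    intro z hz
    refine ⟨h.ZT hz, fun y _ => ?_⟩
    rw [cm_central_left (h.Zcenter hz)]; exact Z.one_mem
  have hMT : h.M1 ≤ T := fun x hx => hx.1
  have hinv : ∀ m ∈ h.M1, σ * m * σ⁻¹ ∈ h.M1 := by
    rintro m ⟨hm, hm2⟩
    refine ⟨h.nT.conj_mem m hm σ, fun y hy => ?_⟩
    rw [cm_conj]
    exact h.nZ.conj_mem _ (hm2 _ (h.conj_T σ hy)) σ
  have hne : h.M1 ≠ Z := by
    intro heq
    have hp : IsPGroup 2 T := IsPGroup.of_card (n := 6) (by rw [h.cardT]; norm_num)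
    haveI : Fact (Nat.Prime 2) := ⟨Nat.prime_two⟩
    have htop : Subgroup.center T = ⊤ := by
      apply eq_top_of_ucs_le hp
      intro x hx
      have hxM : (x : G) ∈ h.M1 := by
        refine ⟨x.2, fun y hy => ?_⟩
        have h1 := hx ⟨y, hy⟩
        have h2 : ((cm x ⟨y, hy⟩ : T) : G) = cm (x : G) y := rfl
        rw [← h2]
        apply h.cZ _ (cm x ⟨y, hy⟩).2
        intro t ht
        have := Subgroup.mem_center_iff.mp h1 ⟨t, ht⟩
        exact congrArg Subtype.val this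
      rw [heq] at hxM
      rw [Subgroup.mem_center_iff]
      intro t
      apply Subtype.ext
      exact h.Zc _ hxM t t.2
    have hTZ : T ≤ Z := by
      intro t ht
      apply h.cZ t ht
      intro s hs
      have h1 : (⟨t, ht⟩ : T) ∈ Subgroup.center T := by rw [htop]; trivial
      have := Subgroup.mem_center_iff.mp h1 ⟨s, hs⟩
      exact congrArg Subtype.val this
    have := Subgroup.card_le_of_le hTZ
    rw [h.cardT, h.cardZ] at this
    omega
  have hM := h.inv_sub h.M1 hZM hMT hinv hne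
  intro x hx y hy
  have : x ∈ h.M1 := by rw [hM]; exact hx
  exact this.2 y hy

theorem cm_center (h : Sett5 G T Z σ) {x y : G} (hx : x ∈ T) (hy : y ∈ T) :
    cm x y ∈ Subgroup.center G := h.Zcenter (h.cmZ x hx y hy)

/-- the elements with square in the centre -/
def M2 (h : Sett5 G T Z σ) : Subgroup G where
  carrier := {x | x ∈ T ∧ x * x ∈ Z}
  one_mem' := ⟨T.one_mem, by rw [mul_one]; exact Z.one_mem⟩
  mul_mem' := by
    rintro x x' ⟨hx, hx2⟩ ⟨hx', hx2'⟩
    refine ⟨T.mul_mem hx hx', ?_⟩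
    rw [sq_mul_cm (h.cm_center hx' hx)]
    exact Z.mul_mem (Z.mul_mem hx2 hx2') (h.cmZ _ hx' _ hx)
  inv_mem' := by
    rintro x ⟨hx, hx2⟩
    refine ⟨T.inv_mem hx, ?_⟩
    have : x⁻¹ * x⁻¹ = (x * x)⁻¹ := by group
    rw [this]; exact Z.inv_mem hx2

theorem sqZ (h : Sett5 G T Z σ) : ∀ x ∈ T, x * x ∈ Z := by
  have hZM : Z ≤ h.M2 := by
    intro z hz
    refine ⟨h.ZT hz, ?_⟩
    rw [h.Z2 z hz]; exact Z.one_mem
  have hMT : h.M2 ≤ T := fun x hx => hx.1
  have hinv : ∀ m ∈ h.M2, σ * m * σ⁻¹ ∈ h.M2 := by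
    rintro m ⟨hm, hm2⟩
    refine ⟨h.nT.conj_mem m hm σ, ?_⟩
    have : σ * m * σ⁻¹ * (σ * m * σ⁻¹) = σ * (m * m) * σ⁻¹ := by group
    rw [this]
    exact h.nZ.conj_mem _ hm2 σ
  have hne : h.M2 ≠ Z := by
    intro heq
    obtain ⟨y, hyT, hyZ⟩ := h.exists_not_Z
    have hex : ∃ j : ℕ, y ^ (2 ^ j) ∈ Z := by
      have hpT : IsPGroup 2 T := IsPGroup.of_card (n := 6) (by rw [h.cardT]; norm_num)
      obtain ⟨k, hk⟩ := hpT ⟨y, hyT⟩
      refine ⟨k, ?_⟩
      have : y ^ (2 ^ k) = 1 := by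
        have := congrArg Subtype.val hk
        simpa using this
      rw [this]; exact Z.one_mem
    classical
    have hmin : ∀ {m : ℕ}, m < Nat.find hex → ¬ y ^ (2 ^ m) ∈ Z := fun hm => Nat.find_min hex hm
    have hspec := Nat.find_spec hex
    set j := Nat.find hex with hj
    have hj0 : j ≠ 0 := by
      intro h0
      rw [h0] at hspec
      simp at hspec
      exact hyZ hspec
    obtain ⟨i, hi⟩ := Nat.exists_eq_succ_of_ne_zero hj0
    have hnot : ¬ y ^ (2 ^ i) ∈ Z := hmin (by omega)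
    apply hnot
    rw [← heq]
    refine ⟨T.pow_mem hyT _, ?_⟩
    rw [← pow_add, ← two_mul, ← pow_succ']
    rw [hi] at hspec
    exact hspec
  have hM := h.inv_sub h.M2 hZM hMT hinv hne
  intro x hx
  have : x ∈ h.M2 := by rw [hM]; exact hx
  exact this.2

end Sett5

end Cfsg.Agent.Helper1.C320
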