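import Mathlib
import Cfsg.Agent.Helper1.C320D

/-!
# The abstract setting, part 3: the orbit of an element under the element of order five
-/

set_option autoImplicit false

universe u v

namespace Cfsg.Agent.Helper1.C320

open Cfsg.Agent.Helper3.SuzA Cfsg.Agent.Helper1.SuzH Cfsg.Agent.Helper1.RkTwo

open scoped commutatorElement

section cj

variable {G : Type u} [Group G]

/-- conjugation by a power -/
def cj (σ : G) (i : ℕ) (x : G) : G := σ ^ i * x * (σ ^ i)⁻¹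

theorem cj_zero (σ x : G) : cj σ 0 x = x := by unfold cj; simp

theorem cj_succ (σ x : G) (i : ℕ) : cj σ (i + 1) x = σ * cj σ i x * σ⁻¹ := by
  unfold cj; rw [pow_succ']; group

theorem cj_one (σ x : G) : cj σ 1 x = σ * x * σ⁻¹ := by unfold cj; rw [pow_one]

theorem cj_add (σ x : G) (i j : ℕ) : cj σ (i + j) x = cj σ i (cj σ j x) := by
  unfold cj; rw [pow_add]; group

theorem cj_mul (σ x y : G) (i : ℕ) : cj σ i (x * y) = cj σ i x * cj σ i y := by
  unfold cj; group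

theorem cj_inv (σ x : G) (i : ℕ) : cj σ i x⁻¹ = (cj σ i x)⁻¹ := by
  unfold cj; group

theorem cm_cj (σ a b : G) (i : ℕ) : cm (cj σ i a) (cj σ i b) = cj σ i (cm a b) := by
  unfold cj cm; group

theorem prod5_central {n : G} (hn : n ∈ Subgroup.center G) (a b c d e : G) :
    (a * n) * (b * n) * (c * n) * (d * n) * (e * n) = (a * b * c * d * e) * n ^ 5 := by
  have hc : ∀ k : ℕ, ∀ g : G, Commute (n ^ k) g := by
    intro k g
    exact (Subgroup.mem_center_iff.mp (Subgroup.pow_mem _ hn k) g).symm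
  have h1 : (a * n) * (b * n) = (a * b) * n ^ 2 := by
    have := (hc 1 b).mul_mul_mul_comm a (n ^ 1)
    rw [pow_one] at this
    rw [this, pow_two]
  have h2 : (a * b) * n ^ 2 * (c * n) = (a * b * c) * n ^ 3 := by
    have := (hc 2 c).mul_mul_mul_comm (a * b) n
    rw [this, ← pow_succ]
  have h3 : (a * b * c) * n ^ 3 * (d * n) = (a * b * c * d) * n ^ 4 := by
    have := (hc 3 d).mul_mul_mul_comm (a * b * c) n
    rw [this, ← pow_succ]
  have h4 : (a * b * c * d) * n ^ 4 * (e * n) = (a * b * c * d * e) * n ^ 5 := by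
    have := (hc 4 e).mul_mul_mul_comm (a * b * c * d) n
    rw [this, ← pow_succ]
  rw [h1, h2, h3, h4]

end cj

namespace Sett5

variable {G : Type u} [Group G] [Finite G] {T Z : Subgroup G} {σ : G}

theorem cj_five (h : Sett5 G T Z σ) (x : G) : cj σ 5 x = x := by
  unfold cj; rw [h.s5]; simp

theorem cj_T (h : Sett5 G T Z σ) (i : ℕ) {x : G} (hx : x ∈ T) : cj σ i x ∈ T :=
  h.nT.conj_mem x hx _

theorem cj_Z (h : Sett5 G T Z σ) (i : ℕ) {z : G} (hz : z ∈ Z) : cj σ i z = z := by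
  unfold cj
  rw [h.Zcomm hz (σ ^ i), mul_inv_cancel_right]

theorem cm_cjT (h : Sett5 G T Z σ) (i : ℕ) {a b : G} (ha : a ∈ T) (hb : b ∈ T) :
    cm (cj σ i a) (cj σ i b) = cm a b := by
  rw [cm_cj, h.cj_Z i (h.cmZ a ha b hb)]

/-- the norm of an element -/
def nu (σ x : G) : G := x * cj σ 1 x * cj σ 2 x * cj σ 3 x * cj σ 4 x

theorem nu_T (h : Sett5 G T Z σ) {x : G} (hx : x ∈ T) : nu σ x ∈ T := by
  unfold nu
  exact T.mul_mem (T.mul_mem (T.mul_mem (T.mul_mem hx (h.cj_T 1 hx)) (h.cj_T 2 hx)) (h.cj_T 3 hx))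
    (h.cj_T 4 hx)

theorem nu_Z (h : Sett5 G T Z σ) {x : G} (hx : x ∈ T) : nu σ x ∈ Z := by
  have hn := h.nu_T hx
  have h1 : σ * nu σ x * σ⁻¹ = x⁻¹ * nu σ x * x := by
    rw [← cj_one]
    unfold nu
    rw [cj_mul, cj_mul, cj_mul, cj_mul, ← cj_add, ← cj_add, ← cj_add, ← cj_add]
    norm_num
    rw [h.cj_five]
    group
  rw [conj_eq_mul_cm] at h1
  have h2 := h.twist _ (h.cmZ _ hn _ hx) h1
  rw [h2, mul_one] at h1
  rw [← h.fixT]
  refine ⟨hn, ?_⟩
  show nu σ x ∈ Subgroup.centralizer {σ}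
  rw [Subgroup.mem_centralizer_iff]
  intro y hy
  rw [Set.mem_singleton_iff] at hy
  rw [hy]
  calc σ * nu σ x = (σ * nu σ x * σ⁻¹) * σ := by group
    _ = nu σ x * σ := by rw [h1]

theorem nu_mul_Z (h : Sett5 G T Z σ) (x : G) {z : G} (hz : z ∈ Z) :
    nu σ (x * z) = nu σ x * z := by
  unfold nu
  rw [cj_mul, cj_mul, cj_mul, cj_mul, h.cj_Z 1 hz, h.cj_Z 2 hz, h.cj_Z 3 hz, h.cj_Z 4 hz,
    prod5_central (h.Zcenter hz)]
  have hz2 := h.Z2 z hz
  have e5 : z ^ 5 = z := by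
    rw [show (5 : ℕ) = 2 * 2 + 1 from rfl, pow_succ, pow_mul, pow_two z, hz2, one_pow, one_mul]
  rw [e5]

theorem exists_x (h : Sett5 G T Z σ) : ∃ x ∈ T, x ∉ Z ∧ nu σ x = 1 := by
  obtain ⟨x, hxT, hxZ⟩ := h.exists_not_Z
  have hn := h.nu_Z hxT
  refine ⟨x * nu σ x, T.mul_mem hxT (h.ZT hn), ?_, ?_⟩
  · intro hcon
    apply hxZ
    have := Z.mul_mem hcon (Z.inv_mem hn)
    rwa [mul_inv_cancel_right] at this
  · rw [h.nu_mul_Z x hn, h.Z2 _ hn]

end Sett5

end Cfsg.Agent.Helper1.C320
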