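import Mathlib
import Cfsg.Agent.Helper1.C320E

/-!
# The abstract setting, part 4: the relations
-/

set_option autoImplicit false

universe u v

namespace Cfsg.Agent.Helper1.C320

open Cfsg.Agent.Helper3.SuzA Cfsg.Agent.Helper1.SuzH Cfsg.Agent.Helper1.RkTwo

open scoped commutatorElement

theorem invol_solve {A : Type u} [CommGroup A] (a b w : A) (ha : a * a = 1) (hb : b * b = 1)
    (hw : w * w = 1) (h : w = a * w * (b * a) * w * ((b * b) * a)) : w = a * b := by
  have e : a * w * (b * a) * w * ((b * b) * a) = (a * b) * ((a * a) * (w * w) * (b * b)) := by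
    ac_rfl
  rw [e, ha, hb, hw] at h
  simpa using h

namespace Sett5

variable {G : Type u} [Group G] [Finite G] {T Z : Subgroup G} {σ : G}

theorem Zinv (h : Sett5 G T Z σ) {z : G} (hz : z ∈ Z) : z⁻¹ = z :=
  inv_eq_of_mul_eq_one_left (h.Z2 z hz)

theorem rel_of_x (h : Sett5 G T Z σ) {x : G} (hx : x ∈ T) (hnu : nu σ x = 1) :
    Rel5 G σ x (cj σ 1 x) (cj σ 2 x) (cj σ 3 x) (cm x (cj σ 1 x)) (cm x (cj σ 2 x)) := by
  have hx1 := h.cj_T 1 hx
  have hx2 := h.cj_T 2 hx
  have hx3 := h.cj_T 3 hx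
  have hx4 := h.cj_T 4 hx
  set x1 := cj σ 1 x with hx1d
  set x2 := cj σ 2 x with hx2d
  set x3 := cj σ 3 x with hx3d
  set x4 := cj σ 4 x with hx4d
  set c1 := cm x x1 with hc1d
  set c2 := cm x x2 with hc2d
  have hc1 : c1 ∈ Z := h.cmZ _ hx _ hx1
  have hc2 : c2 ∈ Z := h.cmZ _ hx _ hx2
  have hv : x * x ∈ Z := h.sqZ x hx
  have hstep : ∀ i : ℕ, σ * cj σ i x = cj σ (i + 1) x * σ := by
    intro i
    rw [cj_succ]; group
  have hsq : ∀ i : ℕ, cj σ i x * cj σ i x = x * x := by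
    intro i
    rw [← cj_mul, h.cj_Z i hv]
  -- commutators
  have k12 : cm x1 x2 = c1 := by
    have := h.cm_cjT 1 hx hx1
    rw [hx1d, ← cj_add] at this
    exact this
  have k23 : cm x2 x3 = c1 := by
    have := h.cm_cjT 2 hx hx1
    rw [hx1d, ← cj_add] at this
    exact this
  have k13 : cm x1 x3 = c2 := by
    have := h.cm_cjT 1 hx hx2
    rw [hx2d, ← cj_add] at this
    exact this
  have k30 : cm x3 x = c2 := by
    have := h.cm_cjT 3 hx hx2
    rw [hx2d, ← cj_add] at this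
    norm_num at this
    rw [h.cj_five] at this
    exact this
  have k03 : cm x x3 = c2 := by
    rw [cm_swap, k30, h.Zinv hc2]
  have k10 : cm x1 x = c1 := by rw [cm_swap, ← hc1d, h.Zinv hc1]
  have k20 : cm x2 x = c2 := by rw [cm_swap, ← hc2d, h.Zinv hc2]
  have k21 : cm x2 x1 = c1 := by rw [cm_swap, k12, h.Zinv hc1]
  have k31 : cm x3 x1 = c2 := by rw [cm_swap, k13, h.Zinv hc2]
  have k32 : cm x3 x2 = c1 := by rw [cm_swap, k23, h.Zinv hc1]
  -- the product
  have hx4e : x4 = (x * x1 * x2 * x3)⁻¹ := by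
    unfold nu at hnu
    exact eq_inv_of_mul_eq_one_right hnu
  -- the square
  have hQ1 : (x * x1) * (x * x1) = (x * x) * (x * x) * c1 := by
    rw [sq_mul_cm (h.cm_center hx1 hx), hsq 1, k10]
  have hQ2 : (x * x1 * x2) * (x * x1 * x2) = (x * x) * (x * x) * c1 * (x * x) * (c2 * c1) := by
    rw [sq_mul_cm (h.cm_center hx2 (T.mul_mem hx hx1)), hQ1, hsq 2,
      cm_mul_right (h.cm_center hx2 hx), k20, k21]
  have hP : (x * x1 * x2 * x3) * (x * x1 * x2 * x3) =
      (x * x) * (x * x) * c1 * (x * x) * (c2 * c1) * (x * x) * ((c2 * c2) * c1) := by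
    rw [sq_mul_cm (h.cm_center hx3 (T.mul_mem (T.mul_mem hx hx1) hx2)), hQ2, hsq 3,
      cm_mul_right (h.cm_center hx3 (T.mul_mem hx hx1)), cm_mul_right (h.cm_center hx3 hx),
      k30, k31, k32]
  have hP' : (x * x1 * x2 * x3) * (x * x1 * x2 * x3) = x * x := by
    have e1 : (x * x1 * x2 * x3) * (x * x1 * x2 * x3) = (x4 * x4)⁻¹ := by
      rw [hx4e]; group
    rw [e1, hsq 4, h.Zinv hv]
  have hvv : x * x = c1 * c2 := by
    have hcZ := h.Zcenter
    have e0 : x * x = c1 * (x * x) * (c2 * c1) * (x * x) * ((c2 * c2) * c1) := by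
      have := hP
      rw [hP', h.Z2 _ hv, one_mul] at this
      exact this
    open scoped IsMulCommutative in
    have key := invol_solve (A := Subgroup.center G) ⟨c1, hcZ hc1⟩ ⟨c2, hcZ hc2⟩ ⟨x * x, hcZ hv⟩
      (Subtype.ext (h.Z2 _ hc1)) (Subtype.ext (h.Z2 _ hc2)) (Subtype.ext (h.Z2 _ hv))
      (by
        apply Subtype.ext
        exact e0)
    exact congrArg Subtype.val key
  exact
    { s5 := h.s5
      s0 := by have := hstep 0; rw [cj_zero] at this; exact this
      s1 := hstep 1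
      s2 := hstep 2
      s3 := by
        rw [mul_assoc, hstep 3]
        show (x * x1 * x2 * x3) * (x4 * σ) = σ
        rw [hx4e]; group
      c1c := h.Zcenter hc1
      c2c := h.Zcenter hc2
      c11 := h.Z2 _ hc1
      c22 := h.Z2 _ hc2
      q0 := hvv
      q1 := by rw [hsq 1, hvv]
      q2 := by rw [hsq 2, hvv]
      q3 := by rw [hsq 3, hvv]
      k01 := rfl
      k12 := k12
      k23 := k23
      k02 := rfl
      k13 := k13
      k03 := k03 }

end Sett5

end Cfsg.Agent.Helper1.C320
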