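import Mathlib
import Cfsg.Agent.Helper1.C320F

/-!
# The abstract setting, part 5: generation, and the uniqueness of the group
-/

set_option autoImplicit false

universe u v

namespace Cfsg.Agent.Helper1.C320

open Cfsg.Agent.Helper3.SuzA Cfsg.Agent.Helper1.SuzH Cfsg.Agent.Helper1.RkTwo

open scoped commutatorElement

theorem normal_of_gens {G : Type u} [Group G] [Finite G] (E : Subgroup G) (S : Set G)
    (hS : Subgroup.closure S = ⊤) (hg : ∀ g ∈ S, ∀ a ∈ E, g * a * g⁻¹ ∈ E) : E.Normal := by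
  constructor
  intro a ha g
  have hgm : g ∈ Subgroup.closure S := by rw [hS]; trivial
  revert a
  induction hgm using Subgroup.closure_induction with
  | mem y hy => exact hg y hy
  | one => intro a ha; simpa using ha
  | mul p q _ _ hp hq =>
    intro a ha
    have : p * q * a * (p * q)⁻¹ = p * (q * a * q⁻¹) * p⁻¹ := by group
    rw [this]
    exact hp _ (hq a ha)
  | inv p _ hp =>
    intro a ha
    have := conj_inv_mem E p hp a ha
    rwa [inv_inv]

namespace Sett5

variable {G : Type u} [Group G] [Finite G] {T Z : Subgroup G} {σ : G}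

theorem gen_of_x (h : Sett5 G T Z σ) {x : G} (hx : x ∈ T) (hxZ : x ∉ Z) (hnu : nu σ x = 1) :
    Subgroup.closure ({σ, cm x (cj σ 1 x), cm x (cj σ 2 x), x, cj σ 1 x, cj σ 2 x,
      cj σ 3 x} : Set G) = ⊤ := by
  have hrel := h.rel_of_x hx hnu
  have hx1 := h.cj_T 1 hx
  have hx2 := h.cj_T 2 hx
  have hx3 := h.cj_T 3 hx
  set x1 := cj σ 1 x with hx1d
  set x2 := cj σ 2 x with hx2d
  set x3 := cj σ 3 x with hx3d
  set c1 := cm x x1 with hc1d
  set c2 := cm x x2 with hc2d
  have hc1 : c1 ∈ Z := h.cmZ _ hx _ hx1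
  have hc2 : c2 ∈ Z := h.cmZ _ hx _ hx2
  set S : Set G := {c1, c2, x, x1, x2, x3} with hS
  set E := Subgroup.closure S with hE
  have hc1E : c1 ∈ E := Subgroup.subset_closure (by simp [hS])
  have hc2E : c2 ∈ E := Subgroup.subset_closure (by simp [hS])
  have hxE : x ∈ E := Subgroup.subset_closure (by simp [hS])
  have hx1E : x1 ∈ E := Subgroup.subset_closure (by simp [hS])
  have hx2E : x2 ∈ E := Subgroup.subset_closure (by simp [hS])
  have hx3E : x3 ∈ E := Subgroup.subset_closure (by simp [hS])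
  have hET : E ≤ T := by
    rw [hE, Subgroup.closure_le]
    intro w hw
    simp only [hS, Set.mem_insert_iff, Set.mem_singleton_iff] at hw
    rcases hw with rfl | rfl | rfl | rfl | rfl | rfl
    · exact h.ZT hc1
    · exact h.ZT hc2
    · exact hx
    · exact hx1
    · exact hx2
    · exact hx3
  -- invariance under σ
  have hEσ : ∀ a ∈ E, σ * a * σ⁻¹ ∈ E := by
    apply conj_mem_closure'
    intro w hw
    simp only [hS, Set.mem_insert_iff, Set.mem_singleton_iff] at hw
    rcases hw with rfl | rfl | rfl | rfl | rfl | rfl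
    · rw [h.sZ _ hc1]; exact hc1E
    · rw [h.sZ _ hc2]; exact hc2E
    · rw [hrel.s0, mul_inv_cancel_right]; exact hx1E
    · rw [hrel.s1, mul_inv_cancel_right]; exact hx2E
    · rw [hrel.s2, mul_inv_cancel_right]; exact hx3E
    · have e : σ * x3 * σ⁻¹ = (x * x1 * x2 * x3)⁻¹ := by
        have e3 := hrel.s3
        have : σ * x3 = (x * x1 * x2 * x3)⁻¹ * σ := by
          calc σ * x3 = (x * x1 * x2 * x3)⁻¹ * ((x * x1 * x2 * x3) * σ * x3) := by group
            _ = (x * x1 * x2 * x3)⁻¹ * σ := by rw [e3]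
        rw [this, mul_inv_cancel_right]
      rw [e]
      exact E.inv_mem (E.mul_mem (E.mul_mem (E.mul_mem hxE hx1E) hx2E) hx3E)
  -- E together with Z is all of T
  have hEZ : E ⊔ Z = T := by
    apply h.inv_sub _ le_sup_right (sup_le hET h.ZT)
    · have : E ⊔ Z = Subgroup.closure ((E : Set G) ∪ (Z : Set G)) := by
        rw [Subgroup.closure_union, Subgroup.closure_eq, Subgroup.closure_eq]
      rw [this]
      apply conj_mem_closure'
      rintro w (hw | hw)
      · exact Subgroup.subset_closure (Or.inl (hEσ w hw))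
      · rw [h.sZ w hw]; exact Subgroup.subset_closure (Or.inr hw)
    · intro heq
      apply hxZ
      rw [← heq]
      exact (le_sup_left : E ≤ E ⊔ Z) hxE
  -- generators of G
  set SG : Set G := (E : Set G) ∪ (Z : Set G) ∪ {σ} with hSG
  have hSGtop : Subgroup.closure SG = ⊤ := by
    rw [hSG, Subgroup.closure_union, Subgroup.closure_union, Subgroup.closure_eq,
      Subgroup.closure_eq, hEZ, ← Subgroup.zpowers_eq_closure]
    exact h.gen
  have hcenZ : ∀ z ∈ Z, ∀ g : G, cm z g = 1 ∧ cm g z = 1 := by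
    intro z hz g
    refine ⟨cm_central_left (h.Zcenter hz), ?_⟩
    rw [cm_swap, cm_central_left (h.Zcenter hz), inv_one]
  have hEnorm : E.Normal := by
    apply normal_of_gens E SG hSGtop
    rintro w ((hw | hw) | hw) a ha
    · exact E.mul_mem (E.mul_mem hw ha) (E.inv_mem hw)
    · rw [← h.Zcomm hw a, mul_inv_cancel_right]
      exact ha
    · rw [Set.mem_singleton_iff] at hw
      rw [hw]
      exact hEσ a ha
  have hEσ' := conj_inv_mem E σ hEσ
  have hcomm : commutator G ≤ E := by
    apply commutator_le_of_gens E SG hSGtop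
    rintro a ((ha | ha) | ha) b ((hb | hb) | hb)
    · unfold cm
      exact E.mul_mem (E.mul_mem (E.mul_mem (E.inv_mem ha) (E.inv_mem hb)) ha) hb
    · rw [(hcenZ b hb a).2]; exact E.one_mem
    · rw [Set.mem_singleton_iff] at hb
      rw [hb]
      have : cm a σ = a⁻¹ * (σ⁻¹ * a * σ) := by unfold cm; group
      rw [this]
      exact E.mul_mem (E.inv_mem ha) (hEσ' a ha)
    · rw [(hcenZ a ha b).1]; exact E.one_mem
    · rw [(hcenZ a ha b).1]; exact E.one_mem
    · rw [(hcenZ a ha b).1]; exact E.one_mem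
    · rw [Set.mem_singleton_iff] at ha
      rw [ha]
      have : cm σ b = (σ⁻¹ * b⁻¹ * σ) * b := by unfold cm; group
      rw [this]
      exact E.mul_mem (hEσ' _ (E.inv_mem hb)) hb
    · rw [(hcenZ b hb a).2]; exact E.one_mem
    · rw [Set.mem_singleton_iff] at ha hb
      rw [ha, hb, cm_self]; exact E.one_mem
  have hTE : T ≤ E := h.comm.trans hcomm
  rw [eq_top_iff, ← h.gen, sup_le_iff]
  constructor
  · refine hTE.trans ?_
    rw [hE]
    apply Subgroup.closure_mono
    intro w hw
    simp only [hS, Set.mem_insert_iff, Set.mem_singleton_iff] at hw ⊢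
    tauto
  · rw [Subgroup.zpowers_le]
    exact Subgroup.subset_closure (by simp)

theorem exists_rel (h : Sett5 G T Z σ) :
    ∃ x0 x1 x2 x3 c1 c2 : G, Rel5 G σ x0 x1 x2 x3 c1 c2 ∧
      Subgroup.closure ({σ, c1, c2, x0, x1, x2, x3} : Set G) = ⊤ := by
  obtain ⟨x, hx, hxZ, hnu⟩ := h.exists_x
  exact ⟨x, cj σ 1 x, cj σ 2 x, cj σ 3 x, cm x (cj σ 1 x), cm x (cj σ 2 x),
    h.rel_of_x hx hnu, h.gen_of_x hx hxZ hnu⟩

end Sett5

/-- Two groups in the setting are isomorphic. -/
theorem iso_of_sett {G : Type u} {H : Type v} [Group G] [Group H] [Finite G] [Finite H]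
    {T Z : Subgroup G} {σ : G} {T' Z' : Subgroup H} {σ' : H}
    (h : Sett5 G T Z σ) (h' : Sett5 H T' Z' σ') : Nonempty (G ≃* H) := by
  obtain ⟨x0, x1, x2, x3, c1, c2, hrel, hgen⟩ := h.exists_rel
  obtain ⟨y0, y1, y2, y3, d1, d2, hrel', hgen'⟩ := h'.exists_rel
  exact iso_of_rel5 hrel hrel' hgen hgen' h.cardG h'.cardG

end Cfsg.Agent.Helper1.C320
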