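import Mathlib
import Cfsg.Agent.Helper1.C320G

/-!
# The hypotheses of the statement give the abstract setting
-/

set_option autoImplicit false

universe u v

namespace Cfsg.Agent.Helper1.C320

theorem exists_sett {G : Type u} [Group G] [Finite G] (hG : Nat.card G = 320)
    (hD : Nat.card (commutator G) = 64) (hZ : IsKleinFour (Subgroup.center (commutator G))) :
    ∃ (Z : Subgroup G) (σ : G), Sett5 G (commutator G) Z σ := by
  haveI : Fact (Nat.Prime 5) := ⟨by norm_num⟩
  obtain ⟨σ, hσ⟩ := exists_prime_orderOf_dvd_card' (G := G) 5 (by rw [hG]; norm_num)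
  refine ⟨(Subgroup.center (commutator G)).map (commutator G).subtype, σ, ?_⟩
  exact
    { nT := inferInstance
      cardG := hG
      cardT := hD
      cardZ := by
        rw [Subgroup.card_map_of_injective (Subgroup.subtype_injective _)]
        exact hZ.card_four
      ZT := Subgroup.map_subtype_le _
      Zc := by
        rintro z ⟨y, hy, rfl⟩ t ht
        have := Subgroup.mem_center_iff.mp hy ⟨t, ht⟩
        exact congrArg Subtype.val this
      cZ := by
        intro x hx hc
        refine ⟨⟨x, hx⟩, ?_, rfl⟩
        rw [SetLike.mem_coe, Subgroup.mem_center_iff]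
        intro t
        apply Subtype.ext
        exact hc t t.2
      Z2 := by
        rintro z ⟨y, hy, rfl⟩
        have h2 : (⟨y, hy⟩ : Subgroup.center (commutator G)) ^ 2 = 1 := by
          rw [← hZ.exponent_two]
          exact Monoid.pow_exponent_eq_one _
        have h3 := congrArg (fun w : Subgroup.center (commutator G) => ((w : commutator G) : G)) h2
        simp only [Subgroup.coe_pow, Subgroup.coe_one] at h3
        rw [pow_two] at h3
        exact h3
      s5 := by rw [← hσ]; exact pow_orderOf_eq_one σ
      s1 := by
        intro h1
        rw [h1, orderOf_one] at hσ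
        norm_num at hσ
      comm := le_refl _ }

/-- uniqueness of the group -/
theorem iso_of_hyp {G : Type u} {H : Type v} [Group G] [Group H] [Finite G] [Finite H]
    (hG : Nat.card G = 320)
    (hD : Nat.card (commutator G) = 64) (hZ : IsKleinFour (Subgroup.center (commutator G)))
    (hG' : Nat.card H = 320)
    (hD' : Nat.card (commutator H) = 64) (hZ' : IsKleinFour (Subgroup.center (commutator H))) :
    Nonempty (G ≃* H) := by
  obtain ⟨Z, σ, h⟩ := exists_sett hG hD hZ
  obtain ⟨Z', σ', h'⟩ := exists_sett hG' hD' hZ'
  exact iso_of_sett h h'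

end Cfsg.Agent.Helper1.C320
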