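import Mathlib
import Cfsg.Agent.Helper2.U34E

/-!
# Matrices commuting with the central involution of the Sylow 2-subgroup of `SU₃(4)`
-/

set_option autoImplicit false

namespace Cfsg.Agent.Helper1.C320

open Matrix Cfsg.Agent.Helper2.U34

variable {F : Type*} [Field F] [hF16 : IsF16 F]

/-- the shape of a matrix commuting with the involution -/
def Shape (M : Matrix (Fin 3) (Fin 3) F) : Prop :=
  M 1 0 = M 0 1 ∧ M 1 1 = M 0 0 ∧ M 1 2 = M 0 2 ∧ M 2 1 = M 2 0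

theorem shape_of_comm {M : Matrix (Fin 3) (Fin 3) F} (h : Mat 0 1 * M = M * Mat 0 1) :
    Shape M := by
  have h2 := hF16.two
  have e00 := congrFun (congrFun h 0) 0
  have e01 := congrFun (congrFun h 0) 1
  have e02 := congrFun (congrFun h 0) 2
  have e20 := congrFun (congrFun h 2) 0
  simp [Mat, Matrix.mul_apply, Fin.sum_univ_three] at e00 e01 e02 e20
  refine ⟨?_, ?_, ?_, ?_⟩
  · linear_combination e00 + (M 0 0 - M 0 0) * h2
  · linear_combination e01 + (M 0 1 - M 0 1) * h2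
  · linear_combination e02 - (M 0 2) * h2
  · linear_combination -e20 - (M 2 0) * h2

theorem mu_mul {M N : Matrix (Fin 3) (Fin 3) F} (hN : Shape N) :
    (M * N) 0 0 + (M * N) 0 1 = (M 0 0 + M 0 1) * (N 0 0 + N 0 1) := by
  have h2 := hF16.two
  obtain ⟨n1, n2, n3, n4⟩ := hN
  simp only [Matrix.mul_apply, Fin.sum_univ_three]
  rw [n1, n2, n4]
  linear_combination (M 0 2 * N 2 0) * h2

theorem mu_pow5 {M : Matrix (Fin 3) (Fin 3) F} (hM : Shape M) (hU : Mᵀ * M.map (· ^ 4) = 1) :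
    (M 0 0 + M 0 1) ^ 5 = 1 := by
  have h2 := hF16.two
  obtain ⟨m1, m2, m3, m4⟩ := hM
  have e00 := congrFun (congrFun hU 0) 0
  have e01 := congrFun (congrFun hU 0) 1
  simp [Matrix.mul_apply, Fin.sum_univ_three] at e00 e01
  rw [m1] at e00
  rw [m1, m2, m4] at e01
  linear_combination e00 + e01 + ((2)*M 0 0^4*M 0 1 + (5)*M 0 0^3*M 0 1^2 + (5)*M 0 0^2*M 0 1^3 + (2)*M 0 0*M 0 1^4 - M 2 0 * M 2 0 ^ 4) * h2

theorem det_shape {M : Matrix (Fin 3) (Fin 3) F} (hM : Shape M) (hdet : M.det = 1) :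
    M 2 2 * (M 0 0 + M 0 1) ^ 2 = 1 := by
  have h2 := hF16.two
  obtain ⟨m1, m2, m3, m4⟩ := hM
  rw [Matrix.det_fin_three, m1, m2, m3, m4] at hdet
  linear_combination hdet + (M 0 0 * M 0 1 * M 2 2 - M 0 1 * M 0 2 * M 2 0 + M 0 1 ^ 2 * M 2 2 + M 0 0 * M 0 2 * M 2 0) * h2

theorem eq_Mat_of_mu {M : Matrix (Fin 3) (Fin 3) F} (hM : Shape M)
    (hU : Mᵀ * M.map (· ^ 4) = 1) (hdet : M.det = 1) (hmu : M 0 0 + M 0 1 = 1) :
    M = Mat (M 2 0) (M 0 1) ∧ M 0 1 + (M 0 1) ^ 4 = (M 2 0) ^ 5 := by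
  have h2 := hF16.two
  have hd := det_shape hM hdet
  rw [hmu, one_pow, mul_one] at hd
  obtain ⟨m1, m2, m3, m4⟩ := hM
  have e01 := congrFun (congrFun hU 0) 1
  have e02 := congrFun (congrFun hU 0) 2
  simp [Matrix.mul_apply, Fin.sum_univ_three] at e01 e02
  rw [m1, m2, m4] at e01
  rw [m1, m3, hd] at e02
  have h00 : M 0 0 = 1 + M 0 1 := by linear_combination hmu - M 0 1 * h2
  have hg : M 2 0 = M 0 2 ^ 4 := by
    have : (M 0 0 + M 0 1) * M 0 2 ^ 4 + M 2 0 = 0 := by linear_combination e02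
    rw [hmu] at this
    linear_combination this - M 0 2 ^ 4 * h2
  have hg' : M 0 2 = M 2 0 ^ 4 := by
    rw [hg, ← pow_mul]
    exact (hF16.pow16 _).symm
  have hc : M 0 1 + (M 0 1) ^ 4 = (M 2 0) ^ 5 := by
    rw [h00] at e01
    linear_combination e01 + ((-1)*M 0 1 + (-2)*M 0 1^2 + (-3)*M 0 1^3 + (-2)*M 0 1^4 + (-1)*M 0 1^5 - M 2 0 ^ 5 + M 0 1) * h2
  refine ⟨?_, hc⟩
  ext i j
  fin_cases i <;> fin_cases j <;> simp [Mat]
  · exact h00
  · exact hg'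
  · exact m1
  · rw [m2]; exact h00
  · rw [m3]; exact hg'
  · exact m4
  · exact hd

end Cfsg.Agent.Helper1.C320
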