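import Mathlib
import Cfsg.Agent.Helper1.C320I

/-!
# The centralizer of the central involution of a Sylow 2-subgroup of `SU₃(4)`
-/

set_option autoImplicit false

namespace Cfsg.Agent.Helper1.C320

open Matrix Cfsg.Agent.Helper2.U34 Cfsg.Agent.Helper8.SUCenter

variable {F : Type*} [Field F] [Fintype F]

/-- the matrix of an element -/
def mat (g : Cfsg.SU 3 F 4) : Matrix (Fin 3) (Fin 3) F :=
  ((g : Matrix.SpecialLinearGroup (Fin 3) F) : Matrix (Fin 3) (Fin 3) F)

theorem mat_mul (g h : Cfsg.SU 3 F 4) : mat (g * h) = mat g * mat h := rfl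

theorem mat_one : mat (1 : Cfsg.SU 3 F 4) = 1 := rfl

theorem mat_injective {g h : Cfsg.SU 3 F 4} (e : mat g = mat h) : g = h := by
  apply Subtype.ext
  apply Subtype.ext
  exact e

theorem mat_det (g : Cfsg.SU 3 F 4) : (mat g).det = 1 :=
  (g : Matrix.SpecialLinearGroup (Fin 3) F).2

section
variable [hF16 : IsF16 F] (hF : Fintype.card F = 16)
include hF

theorem mat_unitary (g : Cfsg.SU 3 F 4) : (mat g)ᵀ * (mat g).map (· ^ 4) = 1 :=
  (mem_SU_iff (hK_of hF) _).mp g.2

theorem mat_iota (u : U F) : mat (iota hF u) = Mat u.1.1 u.1.2 := rfl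

/-- the central involution in the abstract group -/
def tU : U F := ⟨(0, 1), by
  have h2 := hF16.two
  simp only
  linear_combination h2⟩

theorem tU_center : tU ∈ Subgroup.center (U F) := (mem_center_iff hF _).mpr rfl

/-- the central involution -/
noncomputable def tt : Cfsg.SU 3 F 4 := iota hF tU

theorem mat_tt : mat (tt hF) = Mat 0 1 := rfl

/-- the centralizer -/
noncomputable def CC : Subgroup (Cfsg.SU 3 F 4) := Subgroup.centralizer {tt hF}

theorem mem_CC (g : Cfsg.SU 3 F 4) : g ∈ CC hF ↔ Mat 0 1 * mat g = mat g * Mat 0 1 := by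
  unfold CC
  rw [Subgroup.mem_centralizer_iff]
  constructor
  · intro h
    have := h (tt hF) rfl
    have e := congrArg mat this
    rw [mat_mul, mat_mul, mat_tt] at e
    exact e
  · intro h y hy
    rw [Set.mem_singleton_iff] at hy
    rw [hy]
    apply mat_injective
    rw [mat_mul, mat_mul, mat_tt]
    exact h

theorem shape_CC (g : CC hF) : Shape (mat (g : Cfsg.SU 3 F 4)) :=
  shape_of_comm ((mem_CC hF _).mp g.2)

/-- the eigenvalue on the isotropic vector -/
noncomputable def phi0 : CC hF →* F where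
  toFun g := mat (g : Cfsg.SU 3 F 4) 0 0 + mat (g : Cfsg.SU 3 F 4) 0 1
  map_one' := by
    show mat (1 : Cfsg.SU 3 F 4) 0 0 + mat (1 : Cfsg.SU 3 F 4) 0 1 = 1
    rw [mat_one]
    simp
  map_mul' g h := by
    show mat ((g : Cfsg.SU 3 F 4) * (h : Cfsg.SU 3 F 4)) 0 0 +
      mat ((g : Cfsg.SU 3 F 4) * (h : Cfsg.SU 3 F 4)) 0 1 = _
    rw [mat_mul]
    exact mu_mul (shape_CC hF h)

noncomputable def phi : CC hF →* Fˣ := (phi0 hF).toHomUnits

theorem phi_coe (g : CC hF) :
    ((phi hF g : Fˣ) : F) = mat (g : Cfsg.SU 3 F 4) 0 0 + mat (g : Cfsg.SU 3 F 4) 0 1 := rfl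

theorem phi_pow5 (g : CC hF) : (phi hF g) ^ 5 = 1 := by
  apply Units.ext
  rw [Units.val_pow_eq_pow_val, phi_coe]
  exact mu_pow5 (shape_CC hF g) (mat_unitary hF _)

/-- the embedding of the abstract Sylow subgroup -/
noncomputable def jj : U F →* CC hF :=
  (iota hF).codRestrict (CC hF) (by
    intro u
    unfold CC
    rw [Subgroup.mem_centralizer_iff]
    intro y hy
    rw [Set.mem_singleton_iff] at hy
    rw [hy]
    unfold tt
    rw [← map_mul, ← map_mul, Subgroup.mem_center_iff.mp (tU_center hF) u])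

theorem jj_coe (u : U F) : ((jj hF u : CC hF) : Cfsg.SU 3 F 4) = iota hF u := rfl

theorem jj_injective : Function.Injective (jj hF) := by
  intro u v h
  apply iota_injective hF
  have := congrArg Subtype.val h
  exact this

theorem ker_phi : (phi hF).ker = (jj hF).range := by
  have h2 := hF16.two
  ext g
  rw [MonoidHom.mem_ker, MonoidHom.mem_range]
  constructor
  · intro hg
    have hmu : mat (g : Cfsg.SU 3 F 4) 0 0 + mat (g : Cfsg.SU 3 F 4) 0 1 = 1 := by
      rw [← phi_coe, hg]; rfl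
    obtain ⟨e1, e2⟩ := eq_Mat_of_mu (shape_CC hF g) (mat_unitary hF _) (mat_det _) hmu
    refine ⟨⟨(mat (g : Cfsg.SU 3 F 4) 2 0, mat (g : Cfsg.SU 3 F 4) 0 1), e2⟩, ?_⟩
    apply Subtype.ext
    apply mat_injective
    exact e1.symm
  · rintro ⟨u, rfl⟩
    apply Units.ext
    rw [phi_coe, jj_coe, mat_iota]
    simp only [Mat, Units.val_one]
    simp
    linear_combination u.1.2 * h2

end

end Cfsg.Agent.Helper1.C320
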