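import Mathlib
import Cfsg.Agent.Helper1.C320J

/-!
# The centralizer of the central involution of a Sylow 2-subgroup of `SU₃(4)`: order and
derived subgroup
-/

set_option autoImplicit false
set_option linter.unusedSectionVars false

namespace Cfsg.Agent.Helper1.C320

open Matrix Cfsg.Agent.Helper2.U34 Cfsg.Agent.Helper8.SUCenter

open scoped commutatorElement

variable {F : Type*} [Field F] [Fintype F]

section
variable [hF16 : IsF16 F] (hF : Fintype.card F = 16)
include hF

theorem exists_lam : ∃ l : F, l ^ 5 = 1 ∧ l ≠ 1 := by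
  haveI : Fact (Nat.Prime 5) := ⟨by norm_num⟩
  have hc : Nat.card Fˣ = 15 := by
    rw [Nat.card_units, Nat.card_eq_fintype_card, hF]
  obtain ⟨y, hy⟩ := exists_prime_orderOf_dvd_card' (G := Fˣ) 5 (by rw [hc]; norm_num)
  refine ⟨(y : F), ?_, ?_⟩
  · rw [← Units.val_pow_eq_pow_val, ← hy, pow_orderOf_eq_one]; rfl
  · intro h1
    have : y = 1 := Units.ext h1
    rw [this, orderOf_one] at hy
    norm_num at hy

/-- the diagonal matrix -/
def DD (l : F) : Matrix (Fin 3) (Fin 3) F := Matrix.diagonal ![l, l, l ^ 3]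

omit hF in
theorem DD_unitary {l : F} (hl : l ^ 5 = 1) : (DD l)ᵀ * (DD l).map (· ^ 4) = 1 := by
  unfold DD
  rw [Matrix.diagonal_transpose, Matrix.diagonal_map (by simp), Matrix.diagonal_mul_diagonal,
    ← Matrix.diagonal_one]
  congr 1
  ext i
  fin_cases i
  · simp; linear_combination hl
  · simp; linear_combination hl
  · simp; linear_combination (l ^ 10 + l ^ 5 + 1) * hl

omit hF in
theorem DD_det {l : F} (hl : l ^ 5 = 1) : (DD l).det = 1 := by
  unfold DD
  rw [Matrix.det_diagonal, Fin.prod_univ_three]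
  simp
  linear_combination hl

/-- the diagonal element -/
noncomputable def dd {l : F} (hl : l ^ 5 = 1) : Cfsg.SU 3 F 4 :=
  mkSU (hK_of hF) (DD l) (DD_unitary hl) (DD_det hl)

theorem mat_dd {l : F} (hl : l ^ 5 = 1) : mat (dd hF hl) = DD l := rfl

theorem dd_mem {l : F} (hl : l ^ 5 = 1) : dd hF hl ∈ CC hF := by
  rw [mem_CC, mat_dd]
  ext i j
  fin_cases i <;> fin_cases j <;> simp [Mat, DD, Matrix.mul_apply, Fin.sum_univ_three] <;> ring

/-- the action of the diagonal element -/
def actU {l : F} (hl : l ^ 5 = 1) (u : U F) : U F := ⟨(u.1.1 * l ^ 2, u.1.2), by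
  have := u.2
  simp only
  rw [this]
  linear_combination (-(u.1.1 ^ 5) * (l ^ 5 + 1)) * hl⟩

omit hF in
theorem DD_conj {l : F} (hl : l ^ 5 = 1) (a c : F) :
    DD l * Mat a c = Mat (a * l ^ 2) c * DD l := by
  ext i j
  fin_cases i <;> fin_cases j <;> simp [Mat, DD, Matrix.mul_apply, Fin.sum_univ_three] <;>
    first | ring | skip
  · linear_combination (-(a ^ 4 * l) * (l ^ 5 + 1)) * hl
  · linear_combination (-(a ^ 4 * l) * (l ^ 5 + 1)) * hl

theorem dd_conj {l : F} (hl : l ^ 5 = 1) (u : U F) :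
    dd hF hl * iota hF u = iota hF (actU hl u) * dd hF hl := by
  apply mat_injective
  rw [mat_mul, mat_mul, mat_dd, mat_iota, mat_iota]
  exact DD_conj hl _ _

end

end Cfsg.Agent.Helper1.C320
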