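import Mathlib
import Cfsg.Agent.Helper1.C320K

/-!
# The centralizer of the central involution of a Sylow 2-subgroup of `SU₃(4)` satisfies
the hypotheses
-/

set_option autoImplicit false
set_option linter.unusedSectionVars false

namespace Cfsg.Agent.Helper1.C320

open Matrix Cfsg.Agent.Helper2.U34 Cfsg.Agent.Helper8.SUCenter

open scoped commutatorElement

variable {F : Type*} [Field F] [Fintype F]

section
variable [hF16 : IsF16 F] (hF : Fintype.card F = 16)
include hF

theorem card_ker_phi : Nat.card (phi hF).ker = 64 := by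
  rw [ker_phi hF, ← card_U hF]
  exact (Nat.card_congr (MonoidHom.ofInjective (jj_injective hF)).toEquiv).symm

theorem finite_CC : Finite (CC hF) := by
  haveI : Finite (Cfsg.SU 3 F 4) :=
    Nat.finite_of_card_ne_zero (by rw [card_SU34 hF]; norm_num)
  infer_instance

theorem card_range_phi : Nat.card (phi hF).range = 5 := by
  haveI : Fact (Nat.Prime 5) := ⟨by norm_num⟩
  obtain ⟨l, hl, hl1⟩ := exists_lam hF
  have hp : IsPGroup 5 (phi hF).range := by
    rintro ⟨y, g, rfl⟩
    refine ⟨1, ?_⟩
    apply Subtype.ext
    rw [pow_one]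
    exact phi_pow5 hF g
  obtain ⟨k, hk⟩ := IsPGroup.iff_card.mp hp
  have hdvd : Nat.card (phi hF).range ∣ 15 := by
    have h15 : Nat.card Fˣ = 15 := by rw [Nat.card_units, Nat.card_eq_fintype_card, hF]
    have := Subgroup.card_subgroup_dvd_card (phi hF).range
    rwa [h15] at this
  have hne : Nat.card (phi hF).range ≠ 1 := by
    intro h1
    have hbot := Subgroup.card_eq_one.mp h1
    have hmem : phi hF ⟨dd hF hl, dd_mem hF hl⟩ ∈ (phi hF).range := ⟨_, rfl⟩
    rw [hbot, Subgroup.mem_bot] at hmem
    have := congrArg Units.val hmem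
    rw [phi_coe] at this
    apply hl1
    have e : mat (dd hF hl) 0 0 + mat (dd hF hl) 0 1 = l := by
      rw [mat_dd]; simp [DD]
    rw [← e]
    exact this
  rw [hk] at hdvd hne ⊢
  have hk1 : k ≤ 1 := by
    by_contra hcon
    push Not at hcon
    have h25 : 5 ^ 2 ∣ 15 := (pow_dvd_pow 5 hcon).trans hdvd
    norm_num at h25
  interval_cases k
  · exact absurd rfl hne
  · rfl

theorem card_CC : Nat.card (CC hF) = 320 := by
  haveI := finite_CC hF
  have h1 := Subgroup.card_mul_index (phi hF).ker
  rw [Subgroup.index_ker, card_ker_phi hF, card_range_phi hF] at h1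
  omega

theorem commutator_CC : commutator (CC hF) = (phi hF).ker := by
  have h2 := hF16.two
  apply le_antisymm
  · exact Abelianization.commutator_subset_ker (phi hF)
  · rw [ker_phi hF]
    obtain ⟨l, hl, hl1⟩ := exists_lam hF
    have hl2 : 1 + l ^ 2 ≠ 0 := by
      intro h0
      have h3 : l ^ 2 = 1 := by linear_combination h0 - h2
      apply hl1
      calc l = l ^ 5 * ((l ^ 2) ^ 2)⁻¹ := by
            rw [← pow_mul]
            have hl0 : l ≠ 0 := by
              intro h0'; rw [h0'] at hl; norm_num at hl
            field_simp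
        _ = 1 := by rw [hl, h3]; norm_num
    -- central elements are commutators
    have hcen : ∀ z : U F, z.1.1 = 0 → jj hF z ∈ commutator (CC hF) := by
      intro z hz
      obtain ⟨x, y, hxy⟩ := (isU34_U hF).2.2.2.2.2.1 z ((mem_center_iff hF z).mpr hz)
      rw [← hxy, map_commutatorElement]
      exact Subgroup.commutator_mem_commutator (Subgroup.mem_top _) (Subgroup.mem_top _)
    -- every first coordinate occurs
    have hfst : ∀ a : F, ∃ w : U F, w.1.1 = a ∧ jj hF w ∈ commutator (CC hF) := by
      intro a
      set b := a / (1 + l ^ 2) with hb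
      refine ⟨actU hl (lift hF b) * (lift hF b)⁻¹, ?_, ?_⟩
      · rw [mul_fst, inv_fst, lift_fst]
        show b * l ^ 2 + b = a
        rw [hb]
        field_simp
        ring
      · have hc : jj hF (actU hl (lift hF b) * (lift hF b)⁻¹) =
            ⁅(⟨dd hF hl, dd_mem hF hl⟩ : CC hF), jj hF (lift hF b)⁆ := by
          apply Subtype.ext
          rw [commutatorElement_def, map_mul, map_inv]
          simp only [Subgroup.coe_mul, Subgroup.coe_inv, jj_coe]
          have := dd_conj hF hl (lift hF b)
          rw [eq_mul_inv_of_mul_eq this.symm]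
        rw [hc]
        exact Subgroup.commutator_mem_commutator (Subgroup.mem_top _) (Subgroup.mem_top _)
    rintro g ⟨u, rfl⟩
    obtain ⟨w, hw1, hw2⟩ := hfst u.1.1
    have hz : (w⁻¹ * u).1.1 = 0 := by
      rw [mul_fst, inv_fst, hw1]
      exact add_self _
    have : u = w * (w⁻¹ * u) := by group
    rw [this, map_mul]
    exact Subgroup.mul_mem _ hw2 (hcen _ hz)

/-- the derived subgroup is the abstract Sylow subgroup -/
noncomputable def equivComm : U F ≃* commutator (CC hF) :=
  (MonoidHom.ofInjective (jj_injective hF)).trans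
    (MulEquiv.subgroupCongr ((ker_phi hF).symm.trans (commutator_CC hF).symm))

theorem card_commutator_CC : Nat.card (commutator (CC hF)) = 64 := by
  rw [commutator_CC hF, card_ker_phi hF]

theorem kleinFour_CC : IsKleinFour (Subgroup.center (commutator (CC hF))) :=
  (final (isU34_of_equiv (equivComm hF).symm (isU34_U hF))).2.1

end

end Cfsg.Agent.Helper1.C320
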