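import Mathlib
import Cfsg.Agent.Helper1.C320H
import Cfsg.Agent.Helper1.C320L

/-!
# The group of order 320 is the centralizer of an involution of `PSU₃(4)`
-/

set_option autoImplicit false
set_option linter.unusedSectionVars false

universe u v

namespace Cfsg.Agent.Helper1.C320

open Matrix Cfsg.Agent.Helper2.U34 Cfsg.Agent.Helper8.SUCenter

/-- transport of the centralizer of an element along an isomorphism -/
def centralizerCongr {A : Type u} {B : Type v} [Group A] [Group B] (e : A ≃* B) (a : A) :
    Subgroup.centralizer ({a} : Set A) ≃* Subgroup.centralizer ({e a} : Set B) where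
  toFun g := ⟨e g, by
    have hg := g.2
    rw [Subgroup.mem_centralizer_iff] at hg ⊢
    intro y hy
    rw [Set.mem_singleton_iff] at hy
    rw [hy, ← map_mul, ← map_mul, hg a rfl]⟩
  invFun h := ⟨e.symm h, by
    have hh := h.2
    rw [Subgroup.mem_centralizer_iff] at hh ⊢
    intro y hy
    rw [Set.mem_singleton_iff] at hy
    rw [hy]
    apply e.injective
    rw [map_mul, map_mul, MulEquiv.apply_symm_apply]
    exact hh (e a) rfl⟩
  left_inv g := by
    apply Subtype.ext
    exact e.symm_apply_apply _
  right_inv h := by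
    apply Subtype.ext
    exact e.apply_symm_apply _
  map_mul' g h := by
    apply Subtype.ext
    exact map_mul e _ _

variable {F : Type v} [Field F] [Fintype F]

theorem orderOf_tU [hF16 : IsF16 F] : orderOf (tU : U F) = 2 := by
  have h2 := hF16.two
  apply orderOf_eq_prime
  · apply U.ext
    · rw [sq_fst]; rfl
    · rw [pow_two, mul_snd]
      show (1 : F) + 1 + 0 ^ 4 * 0 = 0
      linear_combination h2
  · intro h1
    have := congrArg (fun x : U F => x.1.2) h1
    exact one_ne_zero this

theorem main {G : Type u} [Group G] [Finite G] (hG : Nat.card G = 320)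
    (hD : Nat.card (commutator G) = 64) (hZ : IsKleinFour (Subgroup.center (commutator G)))
    (hF : Fintype.card F = 16) :
    ∃ t : Cfsg.PSU 3 F 4, orderOf t = 2 ∧
      Nonempty (G ≃* Subgroup.centralizer ({t} : Set (Cfsg.PSU 3 F 4))) := by
  haveI := isF16_of_card hF
  haveI := finite_CC hF
  let e : Cfsg.SU 3 F 4 ≃* Cfsg.PSU 3 F 4 :=
    MulEquiv.ofBijective (QuotientGroup.mk' (Subgroup.center (Cfsg.SU 3 F 4)))
      ⟨mk_injective hF, QuotientGroup.mk'_surjective _⟩
  refine ⟨e (tt hF), ?_, ?_⟩
  · rw [MulEquiv.orderOf_eq]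
    unfold tt
    rw [orderOf_injective (iota hF) (iota_injective hF)]
    exact orderOf_tU
  · obtain ⟨f⟩ := iso_of_hyp hG hD hZ (card_CC hF) (card_commutator_CC hF) (kleinFour_CC hF)
    exact ⟨f.trans (centralizerCongr e (tt hF))⟩

end Cfsg.Agent.Helper1.C320
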