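import Mathlib
import Cfsg.Agent.Helper2.StrEmb3

set_option autoImplicit false

/-! Involutions whose centralizer is elementary abelian of order 4: basic facts. -/

namespace Cfsg.Agent.Helper1.CE4

open Subgroup Cfsg.Agent.Helper2

variable {G : Type*} [Group G]

/-- `t` is an involution whose centralizer is elementary abelian of order 4. -/
def E4Inv (t : G) : Prop :=
  orderOf t = 2 ∧ Nat.card ↥(Subgroup.centralizer ({t} : Set G)) = 4 ∧
    ∀ c ∈ Subgroup.centralizer ({t} : Set G), c ^ 2 = 1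

theorem mem_cent_iff {t c : G} : c ∈ Subgroup.centralizer ({t} : Set G) ↔ c * t = t * c :=
  Subgroup.mem_centralizer_singleton_iff

theorem conj_mem_cent_iff {t c g : G} :
    g * c * g⁻¹ ∈ Subgroup.centralizer ({g * t * g⁻¹} : Set G) ↔
      c ∈ Subgroup.centralizer ({t} : Set G) := by
  rw [mem_cent_iff, mem_cent_iff]
  constructor
  · intro h
    have h1 : g * (c * t) * g⁻¹ = g * (t * c) * g⁻¹ := by
      calc g * (c * t) * g⁻¹ = g * c * g⁻¹ * (g * t * g⁻¹) := by group
        _ = g * t * g⁻¹ * (g * c * g⁻¹) := h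
        _ = g * (t * c) * g⁻¹ := by group
    exact mul_left_cancel (mul_right_cancel h1)
  · intro h
    calc g * c * g⁻¹ * (g * t * g⁻¹) = g * (c * t) * g⁻¹ := by group
      _ = g * (t * c) * g⁻¹ := by rw [h]
      _ = g * t * g⁻¹ * (g * c * g⁻¹) := by group

theorem card_cent_conj (t g : G) :
    Nat.card ↥(Subgroup.centralizer ({g * t * g⁻¹} : Set G)) =
      Nat.card ↥(Subgroup.centralizer ({t} : Set G)) := by
  symm
  refine Nat.card_congr ⟨fun c => ⟨g * c.1 * g⁻¹, conj_mem_cent_iff.mpr c.2⟩,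
    fun c => ⟨g⁻¹ * c.1 * g, ?_⟩, ?_, ?_⟩
  · have h := c.2
    have e : c.1 = g * (g⁻¹ * c.1 * g) * g⁻¹ := by group
    rw [e] at h
    exact conj_mem_cent_iff.mp h
  · intro c; apply Subtype.ext; simp only; group
  · intro c; apply Subtype.ext; simp only; group

theorem orderOf_conj (t g : G) : orderOf (g * t * g⁻¹) = orderOf t := by
  have : g * t * g⁻¹ = MulAut.conj g t := rfl
  rw [this, MulEquiv.orderOf_eq]

theorem E4Inv.conj {t : G} (h : E4Inv t) (g : G) : E4Inv (g * t * g⁻¹) := by
  refine ⟨by rw [orderOf_conj]; exact h.1, by rw [card_cent_conj]; exact h.2.1, ?_⟩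
  intro c hc
  have e : c = g * (g⁻¹ * c * g) * g⁻¹ := by group
  rw [e] at hc
  have h2 := h.2.2 _ (conj_mem_cent_iff.mp hc)
  have : c ^ 2 = g * (g⁻¹ * c * g) ^ 2 * g⁻¹ := by
    rw [pow_two, pow_two]; group
  rw [this, h2]; group

theorem E4Inv.mul_self {t : G} (h : E4Inv t) : t * t = 1 := mul_self_of_orderOf_two h.1

theorem E4Inv.ne_one {t : G} (h : E4Inv t) : t ≠ 1 := ne_one_of_orderOf_two h.1

theorem E4Inv.self_mem {t : G} (_h : E4Inv t) : t ∈ Subgroup.centralizer ({t} : Set G) :=
  mem_cent_iff.mpr rfl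

theorem E4Inv.sq {t c : G} (h : E4Inv t) (hc : c ∈ Subgroup.centralizer ({t} : Set G)) :
    c * c = 1 := by
  have := h.2.2 c hc
  rwa [pow_two] at this

theorem E4Inv.inv_eq {t c : G} (h : E4Inv t) (hc : c ∈ Subgroup.centralizer ({t} : Set G)) :
    c⁻¹ = c := inv_eq_of_mul_eq_one_left (h.sq hc)

/-- The centralizer is abelian. -/
theorem E4Inv.comm {t a b : G} (h : E4Inv t) (ha : a ∈ Subgroup.centralizer ({t} : Set G))
    (hb : b ∈ Subgroup.centralizer ({t} : Set G)) : a * b = b * a := by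
  have hab := h.sq (mul_mem ha hb)
  have ha2 := h.sq ha
  have hb2 := h.sq hb
  calc a * b = (b * b) * (a * b) * (a * a) := by rw [ha2, hb2, one_mul, mul_one]
    _ = b * (b * a * (b * a)) * a := by group
    _ = b * ((b * a) * (b * a)) * a := by group
    _ = b * a := by
        have : b * a * (b * a) = 1 := by
          have h1 : (a * b)⁻¹ = a * b := inv_eq_of_mul_eq_one_left hab
          have h2 : (a * b)⁻¹ = b * a := by
            rw [mul_inv_rev, inv_eq_of_mul_eq_one_left hb2, inv_eq_of_mul_eq_one_left ha2]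
          have h3 : b * a = a * b := by rw [← h2, h1]
          rw [h3]; exact hab
        rw [this, mul_one]

/-- An involution-with-`E4` centralizer lying in the centralizer of another has the same
centralizer. -/
theorem E4Inv.cent_eq {t u : G} (ht : E4Inv t) (hu : E4Inv u)
    (hut : u ∈ Subgroup.centralizer ({t} : Set G)) :
    Subgroup.centralizer ({u} : Set G) = Subgroup.centralizer ({t} : Set G) := by
  symm
  haveI : Finite ↥(Subgroup.centralizer ({u} : Set G)) :=
    Nat.finite_of_card_ne_zero (by rw [hu.2.1]; norm_num)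
  apply Subgroup.eq_of_le_of_card_ge
  · intro c hc
    rw [mem_cent_iff]
    exact ht.comm hc hut
  · rw [ht.2.1, hu.2.1]

/-- A subgroup of order 4 containing four distinct elements is exhausted by them. -/
theorem mem_four {H : Subgroup G} (hH : Nat.card ↥H = 4) {a b c : G} (ha : a ∈ H) (hb : b ∈ H)
    (hc : c ∈ H) (ha1 : a ≠ 1) (hb1 : b ≠ 1) (hc1 : c ≠ 1) (hab : a ≠ b) (hac : a ≠ c)
    (hbc : b ≠ c) {h : G} (hh : h ∈ H) : h = 1 ∨ h = a ∨ h = b ∨ h = c := by
  classical
  haveI : Finite ↥H := Nat.finite_of_card_ne_zero (by rw [hH]; norm_num)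
  by_contra hcon
  push Not at hcon
  obtain ⟨h1, h2, h3, h4⟩ := hcon
  let f : Fin 5 → ↥H := ![⟨1, H.one_mem⟩, ⟨a, ha⟩, ⟨b, hb⟩, ⟨c, hc⟩, ⟨h, hh⟩]
  have hf : Function.Injective f := by
    intro i j hij
    fin_cases i <;> fin_cases j <;> first | rfl | (exfalso; simp [f] at hij; grind)
  have := Nat.card_le_card_of_injective f hf
  rw [hH, Nat.card_eq_fintype_card, Fintype.card_fin] at this
  omega

/-- A subgroup of order 3 is `{1, a, a⁻¹}`. -/
theorem mem_three {H : Subgroup G} (hH : Nat.card ↥H = 3) {a : G} (ha : a ∈ H)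
    (ha1 : a ≠ 1) {h : G} (hh : h ∈ H) : h = 1 ∨ h = a ∨ h = a⁻¹ := by
  classical
  haveI : Finite ↥H := Nat.finite_of_card_ne_zero (by rw [hH]; norm_num)
  have hord : orderOf a = 3 := by
    have h3 : a ^ 3 = 1 := by
      have := pow_card_eq_one' (G := ↥H) (x := ⟨a, ha⟩)
      rw [hH] at this
      exact congrArg Subtype.val this
    haveI : Fact (Nat.Prime 3) := ⟨by norm_num⟩
    exact orderOf_eq_prime h3 ha1
  have hainv : a ≠ a⁻¹ := by
    intro h
    have h2 : a ^ 2 = 1 := by
      rw [pow_two]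
      calc a * a = a * a⁻¹ := by rw [← h]
        _ = 1 := mul_inv_cancel a
    have := orderOf_dvd_of_pow_eq_one h2
    rw [hord] at this
    omega
  by_contra hcon
  push Not at hcon
  obtain ⟨h1, h2, h3⟩ := hcon
  let f : Fin 4 → ↥H := ![⟨1, H.one_mem⟩, ⟨a, ha⟩, ⟨a⁻¹, H.inv_mem ha⟩, ⟨h, hh⟩]
  have hainv1 : a⁻¹ ≠ 1 := by simpa using ha1
  have hf : Function.Injective f := by
    intro i j hij
    fin_cases i <;> fin_cases j <;> first | rfl | (exfalso; simp [f] at hij; grind)
  have := Nat.card_le_card_of_injective f hf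
  rw [hH, Nat.card_eq_fintype_card, Fintype.card_fin] at this
  omega

/-- Two involutions whose product has even order commute with a common involution. -/
theorem exists_invol_commute_of_even [Finite G] {t s : G} (htt : t * t = 1) (hss : s * s = 1)
    (heven : Even (orderOf (t * s))) :
    ∃ w : G, orderOf w = 2 ∧ w * t = t * w ∧ w * s = s * w := by
  obtain ⟨m, hm⟩ := heven
  have hm' : orderOf (t * s) = 2 * m := by rw [hm]; ring
  have hpos : 0 < orderOf (t * s) := orderOf_pos _
  have hmpos : 0 < m := by omega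
  have hpow : (t * s) ^ (2 * m) = 1 := by rw [← hm']; exact pow_orderOf_eq_one _
  set w := (t * s) ^ m with hw
  have hww : w * w = 1 := by rw [hw, ← pow_add, ← two_mul, hpow]
  have hw1 : w ≠ 1 := by
    intro h1
    have hdvd : orderOf (t * s) ∣ m := orderOf_dvd_of_pow_eq_one h1
    rw [hm'] at hdvd
    have := Nat.le_of_dvd hmpos hdvd
    omega
  have hwinv : w⁻¹ = w := inv_eq_of_mul_eq_one_left hww
  have hw' : (s * t) ^ m = w := by
    rw [← inv_mul_invol htt hss, inv_pow, ← hw, hwinv]
  have hc1 : Commute t (t * w) := commute_invol_mul_pow htt hss m hpow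
  have hpow' : (s * t) ^ (2 * m) = 1 := by
    rw [← inv_mul_invol htt hss, inv_pow, hpow, inv_one]
  have hc2 : Commute s (s * w) := by
    have := commute_invol_mul_pow hss htt m hpow'
    rwa [hw'] at this
  refine ⟨w, orderOf_two_of_mul_self hww hw1, ?_, ?_⟩
  · have h1 : t * (t * w) = t * w * t := hc1.eq
    have h2 : t * (t * w) = t * (w * t) := by rw [h1, mul_assoc]
    exact (mul_left_cancel h2).symm
  · have h1 : s * (s * w) = s * w * s := hc2.eq
    have h2 : s * (s * w) = s * (w * s) := by rw [h1, mul_assoc]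
    exact (mul_left_cancel h2).symm

end Cfsg.Agent.Helper1.CE4
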