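import Mathlib
import Cfsg.Prelude.Def_Transfer
import Cfsg.Agent.Helper1.CE4Basic

set_option autoImplicit false

/-! Involution with `E4` centralizer, Sylow 2-subgroup of order at least 8: there is a normal
elementary abelian 2-subgroup of order 2 or 4. -/

namespace Cfsg.Agent.Helper1.CE4

open Subgroup Cfsg.Agent.Helper2

variable {G : Type*} [Group G]

/-- Abstract configuration: `V = C(x) = {1, x, z, xz}`, `xz` conjugate to `x` but `z` not. -/
structure BigCfg (x z s : G) : Prop where
  hx : E4Inv x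
  hz : orderOf z = 2
  hzV : z ∈ Subgroup.centralizer ({x} : Set G)
  hzx : z ≠ x
  hs : s * x * s⁻¹ = x * z
  hnc : ∀ g h : G, g * x * g⁻¹ ≠ h * z * h⁻¹

namespace BigCfg

variable {x z s : G}

theorem zz (c : BigCfg x z s) : z * z = 1 := mul_self_of_orderOf_two c.hz

theorem z_ne_one (c : BigCfg x z s) : z ≠ 1 := ne_one_of_orderOf_two c.hz

theorem xz_comm (c : BigCfg x z s) : z * x = x * z := mem_cent_iff.mp c.hzV

theorem xz_mem (c : BigCfg x z s) : x * z ∈ Subgroup.centralizer ({x} : Set G) :=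
  mul_mem c.hx.self_mem c.hzV

theorem memV (c : BigCfg x z s) {v : G} (hv : v ∈ Subgroup.centralizer ({x} : Set G)) :
    v = 1 ∨ v = x ∨ v = z ∨ v = x * z := by
  refine mem_four c.hx.2.1 c.hx.self_mem c.hzV c.xz_mem c.hx.ne_one c.z_ne_one ?_
    (Ne.symm c.hzx) ?_ ?_ hv
  · intro h
    have : x * z = x * x := by rw [h, c.hx.mul_self]
    exact c.hzx (mul_left_cancel this)
  · intro h
    have : x * 1 = x * z := by rw [mul_one]; exact h
    exact c.z_ne_one (mul_left_cancel this).symm
  · intro h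
    have : 1 * z = x * z := by rw [one_mul]; exact h
    exact c.hx.ne_one (mul_right_cancel this).symm

theorem xz_E4 (c : BigCfg x z s) : E4Inv (x * z) := by
  rw [← c.hs]; exact c.hx.conj s

theorem cent_xz (c : BigCfg x z s) :
    Subgroup.centralizer ({x * z} : Set G) = Subgroup.centralizer ({x} : Set G) :=
  c.hx.cent_eq c.xz_E4 c.xz_mem

/-- A conjugate of `z` lying in `V` equals `z`. -/
theorem conj_z_mem_V (c : BigCfg x z s) {h : G}
    (hv : h * z * h⁻¹ ∈ Subgroup.centralizer ({x} : Set G)) : h * z * h⁻¹ = z := by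
  rcases c.memV hv with h1 | h1 | h1 | h1
  · exfalso
    have : orderOf (h * z * h⁻¹) = 2 := by rw [orderOf_conj]; exact c.hz
    rw [h1] at this; simp at this
  · exfalso
    have := c.hnc 1 h
    simp only [one_mul, inv_one, mul_one] at this
    exact this h1.symm
  · exact h1
  · exfalso
    exact c.hnc s h (by rw [c.hs, h1])

variable [Finite G]

/-- Every conjugate of `z` commutes with `z`. -/
theorem comm_z_conj (c : BigCfg x z s) (h : G) : z * (h * z * h⁻¹) = h * z * h⁻¹ * z := by
  set z' := h * z * h⁻¹ with hz'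
  have hz'z' : z' * z' = 1 := by
    rw [hz']
    calc h * z * h⁻¹ * (h * z * h⁻¹) = h * (z * z) * h⁻¹ := by group
      _ = 1 := by rw [c.zz]; group
  rcases Nat.even_or_odd (orderOf (x * z')) with he | ho
  · obtain ⟨w, hw2, hwx, hwz'⟩ := exists_invol_commute_of_even c.hx.mul_self hz'z' he
    have hwV : w ∈ Subgroup.centralizer ({x} : Set G) := mem_cent_iff.mpr hwx
    rcases c.memV hwV with h1 | h1 | h1 | h1
    · exfalso; rw [h1] at hw2; simp at hw2
    · -- `w = x`: `z'` commutes with `x`
      have hz'V : z' ∈ Subgroup.centralizer ({x} : Set G) := by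
        rw [mem_cent_iff, ← h1]; exact hwz'.symm
      have := c.conj_z_mem_V hz'V
      rw [← hz'] at this
      rw [this]
    · rw [← h1]; exact hwz'
    · have hz'V : z' ∈ Subgroup.centralizer ({x} : Set G) := by
        rw [← c.cent_xz, mem_cent_iff, ← h1]; exact hwz'.symm
      have := c.conj_z_mem_V hz'V
      rw [← hz'] at this
      rw [this]
  · exfalso
    have hne : x ≠ z' := by
      intro h1
      have := c.hnc 1 h
      simp only [one_mul, inv_one, mul_one] at this
      exact this h1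
    obtain ⟨r, _, hr⟩ := exists_invol_conj_of_odd c.hx.mul_self hz'z' hne ho
    exact c.hnc r h hr

/-- Any two conjugates of `z` commute. -/
theorem comm_conj_conj (c : BigCfg x z s) (g h : G) :
    (g * z * g⁻¹) * (h * z * h⁻¹) = (h * z * h⁻¹) * (g * z * g⁻¹) := by
  have h1 := c.comm_z_conj (g⁻¹ * h)
  calc (g * z * g⁻¹) * (h * z * h⁻¹)
      = g * (z * ((g⁻¹ * h) * z * (g⁻¹ * h)⁻¹)) * g⁻¹ := by group
    _ = g * (((g⁻¹ * h) * z * (g⁻¹ * h)⁻¹) * z) * g⁻¹ := by rw [h1]
    _ = (h * z * h⁻¹) * (g * z * g⁻¹) := by group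

omit [Finite G] in
theorem mem_gen_iff {a : G} :
    a ∈ Group.conjugatesOfSet ({z} : Set G) ↔ ∃ g : G, g * z * g⁻¹ = a := by
  rw [Group.mem_conjugatesOfSet_iff]
  constructor
  · rintro ⟨b, hb, hba⟩
    rw [Set.mem_singleton_iff] at hb
    subst hb
    exact isConj_iff.mp hba
  · rintro ⟨g, hg⟩
    exact ⟨z, rfl, isConj_iff.mpr ⟨g, hg⟩⟩

/-- The normal closure of `z` is abelian. -/
theorem nc_comm (c : BigCfg x z s) {a b : G} (ha : a ∈ Subgroup.normalClosure ({z} : Set G))
    (hb : b ∈ Subgroup.normalClosure ({z} : Set G)) : a * b = b * a := by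
  have key : ∀ g : G, ∀ b ∈ Subgroup.normalClosure ({z} : Set G),
      (g * z * g⁻¹) * b = b * (g * z * g⁻¹) := by
    intro g b hb
    unfold Subgroup.normalClosure at hb
    induction hb using Subgroup.closure_induction with
    | mem y hy =>
      obtain ⟨h, rfl⟩ := mem_gen_iff.mp hy
      exact c.comm_conj_conj g h
    | one => simp
    | mul y y' _ _ h1 h2 => rw [← mul_assoc, h1, mul_assoc, h2, ← mul_assoc]
    | inv y _ h1 =>
      have : y⁻¹ * (y * (g * z * g⁻¹)) * y⁻¹ = y⁻¹ * ((g * z * g⁻¹) * y) * y⁻¹ := by rw [h1]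
      calc g * z * g⁻¹ * y⁻¹ = y⁻¹ * (y * (g * z * g⁻¹)) * y⁻¹ := by group
        _ = y⁻¹ * ((g * z * g⁻¹) * y) * y⁻¹ := this
        _ = y⁻¹ * (g * z * g⁻¹) := by group
  unfold Subgroup.normalClosure at ha
  induction ha using Subgroup.closure_induction with
  | mem y hy =>
    obtain ⟨g, rfl⟩ := mem_gen_iff.mp hy
    exact key g b hb
  | one => simp
  | mul y y' _ _ h1 h2 => rw [mul_assoc, h2, ← mul_assoc, h1, mul_assoc]
  | inv y _ h1 =>
    calc y⁻¹ * b = y⁻¹ * (b * y) * y⁻¹ := by group
      _ = y⁻¹ * (y * b) * y⁻¹ := by rw [h1]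
      _ = b * y⁻¹ := by group

/-- The normal closure of `z` has exponent 2. -/
theorem nc_sq (c : BigCfg x z s) {a : G} (ha : a ∈ Subgroup.normalClosure ({z} : Set G)) :
    a * a = 1 := by
  have ha' := ha
  unfold Subgroup.normalClosure at ha
  induction ha using Subgroup.closure_induction with
  | mem y hy =>
    obtain ⟨g, rfl⟩ := mem_gen_iff.mp hy
    calc g * z * g⁻¹ * (g * z * g⁻¹) = g * (z * z) * g⁻¹ := by group
      _ = 1 := by rw [c.zz]; group
  | one => simp
  | mul y y' hy hy' h1 h2 =>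
    have hy1 : y ∈ Subgroup.normalClosure ({z} : Set G) := hy
    have hy2 : y' ∈ Subgroup.normalClosure ({z} : Set G) := hy'
    have hc := c.nc_comm hy1 hy2
    calc y * y' * (y * y') = y * (y' * y) * y' := by group
      _ = y * (y * y') * y' := by rw [hc]
      _ = (y * y) * (y' * y') := by group
      _ = 1 := by rw [h1 hy1, h2 hy2, one_mul]
  | inv y hy h1 =>
    have hy1 : y ∈ Subgroup.normalClosure ({z} : Set G) := hy
    have := h1 hy1
    calc y⁻¹ * y⁻¹ = (y * y)⁻¹ := by group
      _ = 1 := by rw [this, inv_one]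

theorem nc_elem (c : BigCfg x z s) :
    Cfsg.IsElementaryAbelian 2 (Subgroup.normalClosure ({z} : Set G)) := by
  refine ⟨⟨⟨fun a b => ?_⟩⟩, fun a ha => ?_⟩
  · exact Subtype.ext (c.nc_comm a.2 b.2)
  · rw [pow_two]; exact c.nc_sq ha

omit [Finite G] in
theorem z_mem_nc : z ∈ Subgroup.normalClosure ({z} : Set G) :=
  Subgroup.subset_normalClosure (Set.mem_singleton z)

/-- The normal closure of `z` has order 2 or 4. -/
theorem nc_card (c : BigCfg x z s) :
    Nat.card ↥(Subgroup.normalClosure ({z} : Set G)) = 2 ∨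
      Nat.card ↥(Subgroup.normalClosure ({z} : Set G)) = 4 := by
  classical
  set E := Subgroup.normalClosure ({z} : Set G) with hE
  haveI hEn : E.Normal := Subgroup.normalClosure_normal
  have hzE : z ∈ E := z_mem_nc
  have h2dvd : 2 ∣ Nat.card ↥E := by
    have := Subgroup.orderOf_dvd_natCard E hzE
    rwa [c.hz] at this
  have hpos : 0 < Nat.card ↥E := Nat.card_pos
  by_cases hxE : x ∈ E
  · -- `E ≤ V`
    have hle : E ≤ Subgroup.centralizer ({x} : Set G) := by
      intro e he
      rw [mem_cent_iff]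
      exact c.nc_comm he hxE
    have hdvd := Subgroup.card_dvd_of_le hle
    rw [c.hx.2.1] at hdvd
    have hle4 : Nat.card ↥E ≤ 4 := Nat.le_of_dvd (by norm_num) hdvd
    have h1 : Nat.card ↥E ≠ 1 := by
      intro h; rw [h] at h2dvd; omega
    have h3 : Nat.card ↥E ≠ 3 := by
      intro h; rw [h] at hdvd; omega
    omega
  · -- `E ∩ V = {1, z}`
    have hEV : ∀ v ∈ E, v ∈ Subgroup.centralizer ({x} : Set G) → v = 1 ∨ v = z := by
      intro v hvE hvV
      rcases c.memV hvV with h1 | h1 | h1 | h1
      · exact Or.inl h1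
      · exact absurd (h1 ▸ hvE) hxE
      · exact Or.inr h1
      · exfalso
        apply hxE
        have h2 : s⁻¹ * (x * z) * s⁻¹⁻¹ ∈ E := hEn.conj_mem _ (h1 ▸ hvE) s⁻¹
        rw [← c.hs] at h2
        have e : s⁻¹ * (s * x * s⁻¹) * s⁻¹⁻¹ = x := by group
        rwa [e] at h2
    -- the map `φ e = e * (x e x⁻¹)`
    have hφE : ∀ e ∈ E, e * (x * e * x⁻¹) ∈ E := fun e he => mul_mem he (hEn.conj_mem e he x)
    have hxinv : x⁻¹ = x := inv_eq_of_mul_eq_one_left c.hx.mul_self
    have hφV : ∀ e ∈ E, e * (x * e * x⁻¹) ∈ Subgroup.centralizer ({x} : Set G) := by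
      intro e he
      rw [mem_cent_iff]
      have hc := c.nc_comm he (hEn.conj_mem e he x)
      rw [hxinv] at hc ⊢
      calc e * (x * e * x) * x = e * x * e * (x * x) := by group
        _ = e * x * e := by rw [c.hx.mul_self, mul_one]
        _ = (x * x) * (e * x * e) := by rw [c.hx.mul_self, one_mul]
        _ = x * ((x * e * x) * e) := by group
        _ = x * (e * (x * e * x)) := by rw [hc]
    have hφ : ∀ e ∈ E, e * (x * e * x⁻¹) = 1 ∨ e * (x * e * x⁻¹) = z :=
      fun e he => hEV _ (hφE e he) (hφV e he)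
    have hker : ∀ e ∈ E, e * (x * e * x⁻¹) = 1 → e = 1 ∨ e = z := by
      intro e he h1
      apply hEV e he
      rw [mem_cent_iff]
      have hee : e * e = 1 := c.nc_sq he
      have h2 : x * e * x⁻¹ = e := by
        have : e * (x * e * x⁻¹) = e * e := by rw [h1, hee]
        exact mul_left_cancel this
      calc e * x = (x * e * x⁻¹) * x := by rw [h2]
        _ = x * e := by group
    have hle4 : Nat.card ↥E ≤ 4 := by
      by_cases hall : ∀ e ∈ E, e * (x * e * x⁻¹) = 1
      · have hsub : (E : Set G) ⊆ (({1, z} : Finset G) : Set G) := by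
          intro e he
          rcases hker e he (hall e he) with h | h <;> simp [h]
        have h1 := Set.ncard_le_ncard hsub (Finset.finite_toSet _)
        rw [Set.ncard_coe_finset] at h1
        have h2 : Nat.card ↥E = (E : Set G).ncard := Nat.card_coe_set_eq _
        have h3 : ({1, z} : Finset G).card ≤ 2 := Finset.card_le_two
        omega
      · push Not at hall
        obtain ⟨e₀, he₀, hne₀⟩ := hall
        have he₀z : e₀ * (x * e₀ * x⁻¹) = z := (hφ e₀ he₀).resolve_left hne₀
        have he₀2 : e₀ * e₀ = 1 := c.nc_sq he₀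
        have hsub : (E : Set G) ⊆ (({1, z, e₀, z * e₀} : Finset G) : Set G) := by
          intro e he
          rcases hφ e he with h | h
          · rcases hker e he h with h' | h' <;> simp [h']
          · -- `φ (e * e₀) = 1`
            have hee₀ : e * e₀ ∈ E := mul_mem he he₀
            have hc1 := c.nc_comm he₀ (hEn.conj_mem e he x)
            have h1 : (e * e₀) * (x * (e * e₀) * x⁻¹) = 1 := by
              calc (e * e₀) * (x * (e * e₀) * x⁻¹)
                  = e * (e₀ * (x * e * x⁻¹)) * (x * e₀ * x⁻¹) := by group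
                _ = e * ((x * e * x⁻¹) * e₀) * (x * e₀ * x⁻¹) := by rw [hc1]
                _ = (e * (x * e * x⁻¹)) * (e₀ * (x * e₀ * x⁻¹)) := by group
                _ = 1 := by rw [h, he₀z, c.zz]
            have he : e = (e * e₀) * e₀ := by rw [mul_assoc, he₀2, mul_one]
            rcases hker _ hee₀ h1 with h' | h'
            · rw [h', one_mul] at he; simp [he]
            · rw [h'] at he; simp [he]
        have h1 := Set.ncard_le_ncard hsub (Finset.finite_toSet _)
        rw [Set.ncard_coe_finset] at h1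
        have h2 : Nat.card ↥E = (E : Set G).ncard := Nat.card_coe_set_eq _
        have h3 : ({1, z, e₀, z * e₀} : Finset G).card ≤ 4 := Finset.card_le_four
        omega
    obtain ⟨k, hk⟩ := h2dvd
    omega

end BigCfg

/-- Involution with `E4` centralizer and Sylow 2-subgroup of order other than 4: there is a
normal elementary abelian 2-subgroup of order 2 or 4. -/
theorem big_case [Finite G] (x : G) (hx : E4Inv x) (S : Sylow 2 G)
    (hVS : Subgroup.centralizer ({x} : Set G) ≤ (S : Subgroup G))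
    (hS4 : Nat.card ↥(S : Subgroup G) ≠ 4) :
    ∃ E : Subgroup G, E.Normal ∧ Cfsg.IsElementaryAbelian 2 E ∧
      (Nat.card ↥E = 2 ∨ Nat.card ↥E = 4) := by
  haveI : Fact (Nat.Prime 2) := ⟨Nat.prime_two⟩
  have hxS : x ∈ (S : Subgroup G) := hVS hx.self_mem
  haveI : Nontrivial ↥(S : Subgroup G) :=
    ⟨⟨⟨x, hxS⟩, 1, fun h => hx.ne_one (congrArg Subtype.val h)⟩⟩
  haveI := IsPGroup.center_nontrivial S.isPGroup'
  obtain ⟨z', hz'⟩ := exists_ne (1 : ↥(Subgroup.center ↥(S : Subgroup G)))
  have hzc : ∀ t ∈ (S : Subgroup G), t * (z'.1 : G) = (z'.1 : G) * t := by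
    intro t ht
    have := Subgroup.mem_center_iff.mp z'.2 ⟨t, ht⟩
    exact congrArg Subtype.val this
  set z : G := (z'.1 : G) with hz
  have hzS : z ∈ (S : Subgroup G) := z'.1.2
  have hz1 : z ≠ 1 := by
    intro h
    apply hz'
    apply Subtype.ext
    apply Subtype.ext
    exact h
  have hzV : z ∈ Subgroup.centralizer ({x} : Set G) := by
    rw [mem_cent_iff]; exact (hzc x hxS).symm
  have hzz : z * z = 1 := hx.sq hzV
  have hz2 : orderOf z = 2 := orderOf_two_of_mul_self hzz hz1
  -- `S ≠ V`
  have hSV : ¬ (S : Subgroup G) ≤ Subgroup.centralizer ({x} : Set G) := by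
    intro hle
    apply hS4
    rw [← hx.2.1, le_antisymm hle hVS]
  have hzx : z ≠ x := by
    intro h
    apply hSV
    intro t ht
    rw [mem_cent_iff, ← h]
    exact hzc t ht
  -- normalizer condition
  haveI : Group.IsNilpotent ↥(S : Subgroup G) := IsPGroup.isNilpotent S.isPGroup'
  have hNC := Group.normalizerCondition_of_isNilpotent (G := ↥(S : Subgroup G))
  have hlt : (Subgroup.centralizer ({x} : Set G)).subgroupOf (S : Subgroup G) < ⊤ := by
    rw [lt_top_iff_ne_top]
    intro h
    exact hSV (Subgroup.subgroupOf_eq_top.mp h)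
  obtain ⟨s', hs'N, hs'V⟩ := SetLike.exists_of_lt (hNC _ hlt)
  set s : G := (s' : G) with hs
  have hsS : s ∈ (S : Subgroup G) := s'.2
  have hsV : s ∉ Subgroup.centralizer ({x} : Set G) := by
    intro h; exact hs'V (Subgroup.mem_subgroupOf.mpr h)
  have hsx : s * x * s⁻¹ ∈ Subgroup.centralizer ({x} : Set G) := by
    have := (Subgroup.mem_normalizer_iff.mp hs'N ⟨x, hxS⟩).mp
      (Subgroup.mem_subgroupOf.mpr hx.self_mem)
    exact Subgroup.mem_subgroupOf.mp this
  have hxz_mem : x * z ∈ Subgroup.centralizer ({x} : Set G) := mul_mem hx.self_mem hzV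
  have hne1 : x ≠ x * z := by
    intro h
    have : x * 1 = x * z := by rw [mul_one]; exact h
    exact hz1 (mul_left_cancel this).symm
  have hne2 : z ≠ x * z := by
    intro h
    have : 1 * z = x * z := by rw [one_mul]; exact h
    exact hx.ne_one (mul_right_cancel this).symm
  have hsxs : s * x * s⁻¹ = x * z := by
    rcases mem_four hx.2.1 hx.self_mem hzV hxz_mem hx.ne_one hz1 (by
      intro h
      have : x * z = x * x := by rw [h, hx.mul_self]
      exact hzx (mul_left_cancel this)) (Ne.symm hzx) hne1 hne2 hsx with h | h | h | h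
    · exfalso
      have : orderOf (s * x * s⁻¹) = 2 := by rw [orderOf_conj]; exact hx.1
      rw [h] at this; simp at this
    · exfalso
      apply hsV
      rw [mem_cent_iff]
      calc s * x = (s * x * s⁻¹) * s := by group
        _ = x * s := by rw [h]
    · exfalso
      apply hzx
      have h1 : s * z = z * s := hzc s hsS
      have : s * x * s⁻¹ = s * z * s⁻¹ := by
        rw [h, h1]; group
      exact (mul_left_cancel (mul_right_cancel this)).symm
    · exact h
  have hnc : ∀ g h : G, g * x * g⁻¹ ≠ h * z * h⁻¹ := by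
    intro g h hgh
    -- `z` is conjugate to `x`, so `|C(z)| = 4`, but `S ≤ C(z)`
    have hzconj : z = (h⁻¹ * g) * x * (h⁻¹ * g)⁻¹ := by
      calc z = h⁻¹ * (h * z * h⁻¹) * h := by group
        _ = h⁻¹ * (g * x * g⁻¹) * h := by rw [hgh]
        _ = (h⁻¹ * g) * x * (h⁻¹ * g)⁻¹ := by group
    have hzE : E4Inv z := by rw [hzconj]; exact hx.conj _
    have hle : (S : Subgroup G) ≤ Subgroup.centralizer ({z} : Set G) := by
      intro t ht
      rw [mem_cent_iff]; exact hzc t ht
    have h1 := Subgroup.card_le_of_le hle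
    have h2 := Subgroup.card_le_of_le hVS
    rw [hzE.2.1] at h1
    rw [hx.2.1] at h2
    exact hS4 (le_antisymm h1 h2)
  have cfg : BigCfg x z s := ⟨hx, hz2, hzV, hzx, hsxs, hnc⟩
  exact ⟨Subgroup.normalClosure ({z} : Set G), Subgroup.normalClosure_normal, cfg.nc_elem,
    cfg.nc_card⟩

end Cfsg.Agent.Helper1.CE4
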