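import Mathlib
import Cfsg.Prelude.Def_Transfer
import Cfsg.Agent.Helper1.CE4Basic
import Cfsg.Agent.Helper2.SylowExact2

set_option autoImplicit false

/-! Involution with `E4` centralizer which is a Sylow 2-subgroup: general Sylow helpers and the
structure of the normalizer. -/

namespace Cfsg.Agent.Helper1.CE4

open Subgroup Cfsg.Agent.Helper2

variable {G : Type*} [Group G]

theorem mem_smul_sylow_iff {p : ℕ} {g t : G} {P : Sylow p G} :
    t ∈ ((g • P : Sylow p G) : Subgroup G) ↔ g⁻¹ * t * g ∈ (P : Subgroup G) := by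
  rw [Sylow.coe_subgroup_smul, Subgroup.mem_pointwise_smul_iff_inv_smul_mem, MulAut.smul_def,
    MulAut.conj_inv_apply]

theorem conj_mem_smul_sylow {p : ℕ} {g t : G} {P : Sylow p G} (ht : t ∈ (P : Subgroup G)) :
    g * t * g⁻¹ ∈ ((g • P : Sylow p G) : Subgroup G) := by
  rw [mem_smul_sylow_iff]
  have : g⁻¹ * (g * t * g⁻¹) * g = t := by group
  rw [this]; exact ht

/-- Sylow conjugacy inside a subgroup, in elementwise form. -/
theorem exists_conj_le_of_card [Finite G] {p k m : ℕ} [Fact p.Prime] (N A B : Subgroup G)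
    (hN : Nat.card ↥N = p ^ k * m) (hm : ¬ p ∣ m) (hA : A ≤ N) (hB : B ≤ N)
    (hAc : Nat.card ↥A = p ^ k) (hBc : Nat.card ↥B = p ^ k) :
    ∃ h ∈ N, ∀ a ∈ A, h * a * h⁻¹ ∈ B := by
  have hA' : Nat.card ↥(A.subgroupOf N) = p ^ k := by
    rw [← hAc]; exact Nat.card_congr (Subgroup.subgroupOfEquivOfLe hA).toEquiv
  have hB' : Nat.card ↥(B.subgroupOf N) = p ^ k := by
    rw [← hBc]; exact Nat.card_congr (Subgroup.subgroupOfEquivOfLe hB).toEquiv
  obtain ⟨P₀, hP₀⟩ := IsPGroup.exists_le_sylow (IsPGroup.of_card hA')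
  obtain ⟨Q₀, hQ₀⟩ := IsPGroup.exists_le_sylow (IsPGroup.of_card hB')
  have hP₀c : Nat.card ↥(P₀ : Subgroup ↥N) = p ^ k :=
    SylowExact.card_sylow_of_exact_pow hN hm P₀
  have hQ₀c : Nat.card ↥(Q₀ : Subgroup ↥N) = p ^ k :=
    SylowExact.card_sylow_of_exact_pow hN hm Q₀
  have hPe : A.subgroupOf N = (P₀ : Subgroup ↥N) :=
    Subgroup.eq_of_le_of_card_ge hP₀ (by rw [hA', hP₀c])
  have hQe : B.subgroupOf N = (Q₀ : Subgroup ↥N) :=
    Subgroup.eq_of_le_of_card_ge hQ₀ (by rw [hB', hQ₀c])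
  obtain ⟨n, hn⟩ := MulAction.exists_smul_eq (↥N) P₀ Q₀
  refine ⟨n.1, n.2, ?_⟩
  intro a ha
  have h1 : (⟨a, hA ha⟩ : ↥N) ∈ (P₀ : Subgroup ↥N) := by
    rw [← hPe]; exact Subgroup.mem_subgroupOf.mpr ha
  have h2 := conj_mem_smul_sylow (g := n) h1
  rw [hn, ← hQe] at h2
  exact Subgroup.mem_subgroupOf.mp h2

/-- A `p`-element normalizing a Sylow `p`-subgroup lies in it. -/
theorem mem_sylow_of_mem_normalizer {p : ℕ} [Fact p.Prime] (P : Sylow p G) {g : G} {n : ℕ}
    (hg : g ^ p ^ n = 1) (hN : g ∈ Subgroup.normalizer ((P : Subgroup G) : Set G)) :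
    g ∈ (P : Subgroup G) := by
  have hpg : IsPGroup p ↥(Subgroup.zpowers g) := by
    intro y
    obtain ⟨k, hk⟩ := Subgroup.mem_zpowers_iff.mp y.2
    refine ⟨n, Subtype.ext ?_⟩
    simp only [Subgroup.coe_pow, Subgroup.coe_one]
    rw [← hk, ← zpow_natCast, ← zpow_mul, mul_comm, zpow_mul, zpow_natCast, hg, one_zpow]
  have h1 := IsPGroup.inf_normalizer_sylow hpg P
  have h2 : g ∈ Subgroup.zpowers g ⊓ Subgroup.normalizer ((P : Subgroup G) : Set G) :=
    ⟨Subgroup.mem_zpowers g, hN⟩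
  have h3 : g ∈ Subgroup.zpowers g ⊓ (P : Subgroup G) := h1 ▸ h2
  exact h3.2

/-- Burnside's transfer theorem for an abelian self-normalizing Sylow subgroup. -/
theorem hasNormalPComplement_of_normalizer_le [Finite G] {p : ℕ} [Fact p.Prime] (S : Sylow p G)
    (hcomm : ∀ a ∈ (S : Subgroup G), ∀ b ∈ (S : Subgroup G), a * b = b * a)
    (hN : Subgroup.normalizer ((S : Subgroup G) : Set G) ≤ (S : Subgroup G)) :
    Cfsg.HasNormalPComplement p G := by
  have hle : Subgroup.normalizer ((S : Subgroup G) : Set G) ≤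
      Subgroup.centralizer ((S : Subgroup G) : Set G) := by
    intro a ha
    rw [Subgroup.mem_centralizer_iff]
    intro b hb
    exact hcomm b hb a (hN ha)
  exact ⟨S, _, MonoidHom.normal_ker (MonoidHom.transferSylow S hle),
    MonoidHom.ker_transferSylow_isComplement' S hle⟩

/-- The structure of the normalizer of `V = C(x)` when it is a Sylow 2-subgroup and is not
self-normalizing. -/
theorem small_structure [Finite G] (x : G) (hx : E4Inv x) (S : Sylow 2 G)
    (hS : (S : Subgroup G) = Subgroup.centralizer ({x} : Set G)) (d : G)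
    (hdN : d ∈ Subgroup.normalizer ((S : Subgroup G) : Set G)) (hdS : d ∉ (S : Subgroup G)) :
    (∀ v ∈ (S : Subgroup G), v ≠ 1 → ∃ g : G, g * x * g⁻¹ = v) ∧
      Nat.card ↥(Subgroup.normalizer ((S : Subgroup G) : Set G)) = 12 := by
  haveI : Fact (Nat.Prime 2) := ⟨Nat.prime_two⟩
  have hxS : x ∈ (S : Subgroup G) := by rw [hS]; exact hx.self_mem
  have hS4 : Nat.card ↥(S : Subgroup G) = 4 := by rw [hS]; exact hx.2.1
  have hnorm : ∀ {g v : G}, g ∈ Subgroup.normalizer ((S : Subgroup G) : Set G) →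
      v ∈ (S : Subgroup G) → g * v * g⁻¹ ∈ (S : Subgroup G) :=
    fun hg hv => (Subgroup.mem_normalizer_iff.mp hg _).mp hv
  set y := d * x * d⁻¹ with hy
  have hyS : y ∈ (S : Subgroup G) := hnorm hdN hxS
  have hyV : y ∈ Subgroup.centralizer ({x} : Set G) := hS ▸ hyS
  have hyE : E4Inv y := hx.conj d
  have hy1 : y ≠ 1 := hyE.ne_one
  have hyx : y ≠ x := by
    intro h
    apply hdS
    rw [hS, mem_cent_iff]
    calc d * x = (d * x * d⁻¹) * d := by group
      _ = x * d := by rw [← hy, h]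
  have hxyV : x * y ∈ Subgroup.centralizer ({x} : Set G) := mul_mem hx.self_mem hyV
  have hxy1 : x * y ≠ 1 := by
    intro h
    have : x * y = x * x := by rw [h, hx.mul_self]
    exact hyx (mul_left_cancel this)
  have hxxy : x ≠ x * y := by
    intro h
    have : x * 1 = x * y := by rw [mul_one]; exact h
    exact hy1 (mul_left_cancel this).symm
  have hyxy : y ≠ x * y := by
    intro h
    have : 1 * y = x * y := by rw [one_mul]; exact h
    exact hx.ne_one (mul_right_cancel this).symm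
  have memV : ∀ {v : G}, v ∈ (S : Subgroup G) → v = 1 ∨ v = x ∨ v = y ∨ v = x * y := by
    intro v hv
    exact mem_four hx.2.1 hx.self_mem hyV hxyV hx.ne_one hy1 hxy1 (Ne.symm hyx) hxxy hyxy
      (hS ▸ hv)
  have hdd : d * y * d⁻¹ = x * y := by
    have hm : d * y * d⁻¹ ∈ (S : Subgroup G) := hnorm hdN hyS
    rcases memV hm with h | h | h | h
    · exfalso
      have : orderOf (d * y * d⁻¹) = 2 := by rw [orderOf_conj]; exact hyE.1
      rw [h] at this; simp at this
    · exfalso
      -- `d²` centralizes `x`, so `d` is a 2-element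
      have h2 : d * d ∈ Subgroup.centralizer ({x} : Set G) := by
        rw [mem_cent_iff]
        calc d * d * x = d * (d * x * d⁻¹) * d⁻¹ * (d * d) := by group
          _ = x * (d * d) := by rw [← hy, h]
      have h4 : d ^ 2 ^ 2 = 1 := by
        have := hx.sq h2
        calc d ^ 2 ^ 2 = d * d * (d * d) := by
              rw [show (2 : ℕ) ^ 2 = 4 by norm_num, pow_succ, pow_succ, pow_succ, pow_one]
              group
          _ = 1 := this
      exact hdS (mem_sylow_of_mem_normalizer S h4 hdN)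
    · exfalso
      apply hyx
      have : d * y * d⁻¹ = d * x * d⁻¹ := by rw [h, hy]
      exact mul_left_cancel (mul_right_cancel this)
    · exact h
  have hconj : ∀ v ∈ (S : Subgroup G), v ≠ 1 → ∃ g : G, g * x * g⁻¹ = v := by
    intro v hv hv1
    rcases memV hv with h | h | h | h
    · exact absurd h hv1
    · exact ⟨1, by rw [h]; group⟩
    · exact ⟨d, by rw [h]⟩
    · refine ⟨d * d, ?_⟩
      rw [h, ← hdd, hy]; group
  refine ⟨hconj, ?_⟩
  -- the order of the normalizer
  set N := Subgroup.normalizer ((S : Subgroup G) : Set G) with hNdef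
  have hSN : (S : Subgroup G) ≤ N := Subgroup.le_normalizer
  have hcos : ∀ h ∈ N, h ∈ (S : Subgroup G) ∨ d⁻¹ * h ∈ (S : Subgroup G) ∨
      (d * d)⁻¹ * h ∈ (S : Subgroup G) := by
    intro h hh
    have hm : h * x * h⁻¹ ∈ (S : Subgroup G) := hnorm hh hxS
    rcases memV hm with h1 | h1 | h1 | h1
    · exfalso
      have : orderOf (h * x * h⁻¹) = 2 := by rw [orderOf_conj]; exact hx.1
      rw [h1] at this; simp at this
    · left
      rw [hS, mem_cent_iff]
      calc h * x = (h * x * h⁻¹) * h := by group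
        _ = x * h := by rw [h1]
    · right; left
      rw [hS, mem_cent_iff]
      have : d⁻¹ * (h * x * h⁻¹) * d = x := by rw [h1, hy]; group
      calc d⁻¹ * h * x = (d⁻¹ * (h * x * h⁻¹) * d) * (d⁻¹ * h) := by group
        _ = x * (d⁻¹ * h) := by rw [this]
    · right; right
      rw [hS, mem_cent_iff]
      have : (d * d)⁻¹ * (h * x * h⁻¹) * (d * d) = x := by rw [h1, ← hdd, hy]; group
      calc (d * d)⁻¹ * h * x = ((d * d)⁻¹ * (h * x * h⁻¹) * (d * d)) * ((d * d)⁻¹ * h) := by group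
        _ = x * ((d * d)⁻¹ * h) := by rw [this]
  have hd2N : d * d ∈ N := mul_mem hdN hdN
  let f : Fin 3 → ↥N ⧸ (S : Subgroup G).subgroupOf N :=
    ![QuotientGroup.mk 1, QuotientGroup.mk ⟨d, hdN⟩, QuotientGroup.mk ⟨d * d, hd2N⟩]
  have hf : Function.Surjective f := by
    intro q
    obtain ⟨h, rfl⟩ := QuotientGroup.mk_surjective q
    rcases hcos h.1 h.2 with h1 | h1 | h1
    · refine ⟨0, ?_⟩
      show QuotientGroup.mk 1 = _
      rw [QuotientGroup.eq, Subgroup.mem_subgroupOf]
      simpa using h1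
    · refine ⟨1, ?_⟩
      show QuotientGroup.mk (⟨d, hdN⟩ : ↥N) = _
      rw [QuotientGroup.eq, Subgroup.mem_subgroupOf]
      simpa using h1
    · refine ⟨2, ?_⟩
      show QuotientGroup.mk (⟨d * d, hd2N⟩ : ↥N) = _
      rw [QuotientGroup.eq, Subgroup.mem_subgroupOf]
      simpa using h1
  have hidx3 : (S : Subgroup G).relIndex N ≤ 3 := by
    have := Nat.card_le_card_of_surjective f hf
    rw [Nat.card_fin] at this
    rwa [← Subgroup.index_eq_card] at this
  have hidx1 : (S : Subgroup G).relIndex N ≠ 1 := by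
    intro h
    exact hdS (Subgroup.relIndex_eq_one.mp h hdN)
  have hidx2 : ¬ 2 ∣ (S : Subgroup G).relIndex N := by
    intro h
    exact Sylow.not_dvd_index S (h.trans (Subgroup.relIndex_dvd_index_of_le hSN))
  have hidx0 : (S : Subgroup G).relIndex N ≠ 0 := by
    intro h; rw [h] at hidx2; exact hidx2 (dvd_zero 2)
  have hidx : (S : Subgroup G).relIndex N = 3 := by omega
  have hmul := ((S : Subgroup G).subgroupOf N).card_mul_index
  have hcard : Nat.card ↥((S : Subgroup G).subgroupOf N) = 4 := by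
    rw [← hS4]; exact Nat.card_congr (Subgroup.subgroupOfEquivOfLe hSN).toEquiv
  rw [hcard] at hmul
  have : ((S : Subgroup G).subgroupOf N).index = 3 := hidx
  rw [this] at hmul
  omega

end Cfsg.Agent.Helper1.CE4
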