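import Mathlib
import Cfsg.Agent.Helper1.CE4SmallA

set_option autoImplicit false

/-! Groups in which every involution has an `E4` centralizer which is a Sylow 2-subgroup with
normalizer of order 12: the Sylow 2-subgroups form a TI family. -/

namespace Cfsg.Agent.Helper1.CE4

open Subgroup Cfsg.Agent.Helper2

variable {G : Type*} [Group G]

/-- The uniform configuration. -/
structure SmallCfg (G : Type*) [Group G] : Prop where
  hall : ∀ u : G, orderOf u = 2 → E4Inv u
  hP4 : ∀ P : Sylow 2 G, Nat.card ↥(P : Subgroup G) = 4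
  hN : ∀ P : Sylow 2 G, Nat.card ↥(Subgroup.normalizer ((P : Subgroup G) : Set G)) = 12

namespace SmallCfg

variable [Finite G]

omit [Finite G] in
theorem invol_of_mem (c : SmallCfg G) {P : Sylow 2 G} {t : G} (ht : t ∈ (P : Subgroup G))
    (ht1 : t ≠ 1) : orderOf t = 2 := by
  by_cases hu : t * t = 1
  · exact orderOf_two_of_mul_self hu ht1
  · exfalso
    have h4 : t ^ 4 = 1 := by
      have := pow_card_eq_one' (G := ↥(P : Subgroup G)) (x := ⟨t, ht⟩)
      rw [c.hP4 P] at this
      exact congrArg Subtype.val this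
    have huu : (t * t) * (t * t) = 1 := by
      rw [← h4, pow_succ, pow_succ, pow_succ, pow_one]; group
    have hE := c.hall (t * t) (orderOf_two_of_mul_self huu hu)
    have hm : t ∈ Subgroup.centralizer ({t * t} : Set G) := by
      rw [mem_cent_iff]; group
    exact hu (hE.sq hm)

omit [Finite G] in
theorem comm_of_mem (c : SmallCfg G) {P : Sylow 2 G} {a b : G} (ha : a ∈ (P : Subgroup G))
    (hb : b ∈ (P : Subgroup G)) : a * b = b * a := by
  haveI : Fact (Nat.Prime 2) := ⟨Nat.prime_two⟩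
  have hcomm : IsMulCommutative ↥(P : Subgroup G) :=
    IsPGroup.isMulCommutative_of_card_eq_prime_sq (p := 2) (by rw [c.hP4 P]; norm_num)
  exact congrArg Subtype.val (hcomm.is_comm.comm (⟨a, ha⟩ : ↥(P : Subgroup G)) ⟨b, hb⟩)

omit [Finite G] in
theorem coe_eq_cent (c : SmallCfg G) {P : Sylow 2 G} {t : G} (ht : t ∈ (P : Subgroup G))
    (ht1 : t ≠ 1) : (P : Subgroup G) = Subgroup.centralizer ({t} : Set G) := by
  have hE := c.hall t (c.invol_of_mem ht ht1)
  haveI : Finite ↥(Subgroup.centralizer ({t} : Set G)) :=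
    Nat.finite_of_card_ne_zero (by rw [hE.2.1]; norm_num)
  apply Subgroup.eq_of_le_of_card_ge
  · intro a ha
    rw [mem_cent_iff]
    exact c.comm_of_mem ha ht
  · rw [hE.2.1, c.hP4 P]

/-- The Sylow 2-subgroups are a TI family. -/
theorem ti (c : SmallCfg G) {P Q : Sylow 2 G} {t : G} (htP : t ∈ (P : Subgroup G))
    (htQ : t ∈ (Q : Subgroup G)) (ht1 : t ≠ 1) : P = Q :=
  Sylow.ext ((c.coe_eq_cent htP ht1).trans (c.coe_eq_cent htQ ht1).symm)

/-- Two distinct Sylow 2-subgroups are swapped by an involution, which can be chosen to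
conjugate any given involution of the first to any given involution of the second. -/
theorem exists_swap (c : SmallCfg G) {P Q : Sylow 2 G} (hPQ : P ≠ Q) {t u : G}
    (ht : t ∈ (P : Subgroup G)) (ht1 : t ≠ 1) (hu : u ∈ (Q : Subgroup G)) (hu1 : u ≠ 1) :
    ∃ r : G, orderOf r = 2 ∧ r * t * r⁻¹ = u ∧ r • P = Q ∧ r • Q = P := by
  have hto := c.invol_of_mem ht ht1
  have huo := c.invol_of_mem hu hu1
  have htt := mul_self_of_orderOf_two hto
  have huu := mul_self_of_orderOf_two huo
  have hne : t ≠ u := by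
    intro h
    exact hPQ (c.ti ht (h ▸ hu) ht1)
  have hodd : Odd (orderOf (t * u)) := by
    rcases Nat.even_or_odd (orderOf (t * u)) with he | ho
    · exfalso
      obtain ⟨w, hw2, hwt, hwu⟩ := exists_invol_commute_of_even htt huu he
      have hw1 : w ≠ 1 := ne_one_of_orderOf_two hw2
      have hwP : w ∈ (P : Subgroup G) := by
        rw [c.coe_eq_cent ht ht1, mem_cent_iff]; exact hwt
      have hwQ : w ∈ (Q : Subgroup G) := by
        rw [c.coe_eq_cent hu hu1, mem_cent_iff]; exact hwu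
      exact hPQ (c.ti hwP hwQ hw1)
    · exact ho
  obtain ⟨r, hr2, hr⟩ := exists_invol_conj_of_odd htt huu hne hodd
  have hrP : r • P = Q := by
    apply c.ti (t := u) _ hu hu1
    rw [← hr]; exact conj_mem_smul_sylow ht
  refine ⟨r, hr2, hr, hrP, ?_⟩
  rw [← hrP, smul_smul, mul_self_of_orderOf_two hr2, one_smul]

omit [Finite G] in
theorem exists_ne_one_mem (c : SmallCfg G) (P : Sylow 2 G) :
    ∃ a ∈ (P : Subgroup G), a ≠ 1 := by
  by_contra hcon
  push Not at hcon
  have : (P : Subgroup G) = ⊥ := by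
    rw [eq_bot_iff]; intro a ha; exact Subgroup.mem_bot.mpr (hcon a ha)
  have h4 := c.hP4 P
  rw [this, Subgroup.card_bot] at h4
  omega

omit [Finite G] in
theorem exists_two_ne_one_mem (c : SmallCfg G) (P : Sylow 2 G) :
    ∃ a ∈ (P : Subgroup G), ∃ b ∈ (P : Subgroup G), a ≠ 1 ∧ b ≠ 1 ∧ a ≠ b := by
  obtain ⟨a, ha, ha1⟩ := c.exists_ne_one_mem P
  by_contra hcon
  push Not at hcon
  have hsub : ∀ b ∈ (P : Subgroup G), b = 1 ∨ b = a := by
    intro b hb
    by_cases hb1 : b = 1
    · exact Or.inl hb1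
    · right
      by_contra hba
      exact hba (hcon a ha b hb ha1 hb1).symm
  classical
  have hsub' : ((P : Subgroup G) : Set G) ⊆ (({1, a} : Finset G) : Set G) := by
    intro b hb
    rcases hsub b hb with h | h <;> simp [h]
  have h1 := Set.ncard_le_ncard hsub' (Finset.finite_toSet _)
  rw [Set.ncard_coe_finset] at h1
  have h2 : Nat.card ↥(P : Subgroup G) = ((P : Subgroup G) : Set G).ncard := Nat.card_coe_set_eq _
  have h3 : ({1, a} : Finset G).card ≤ 2 := Finset.card_le_two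
  have h4 := c.hP4 P
  omega

/-- An involution normalizing a Sylow 2-subgroup lies in it. -/
theorem mem_of_invol_smul_eq (c : SmallCfg G) {P : Sylow 2 G} {t : G} (ht : orderOf t = 2)
    (htP : t • P = P) : t ∈ (P : Subgroup G) := by
  obtain ⟨a, ha, ha1⟩ := c.exists_ne_one_mem P
  have htt := mul_self_of_orderOf_two ht
  have hconj : ∀ b ∈ (P : Subgroup G), t * b * t⁻¹ ∈ (P : Subgroup G) := by
    intro b hb
    have := conj_mem_smul_sylow (g := t) hb
    rwa [htP] at this
  have ha' := hconj a ha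
  by_cases h : t * a * t⁻¹ = a
  · rw [c.coe_eq_cent ha ha1, mem_cent_iff]
    calc t * a = (t * a * t⁻¹) * t := by group
      _ = a * t := by rw [h]
  · have haa : a * a = 1 := mul_self_of_orderOf_two (c.invol_of_mem ha ha1)
    have hb : a * (t * a * t⁻¹) ∈ (P : Subgroup G) := mul_mem ha ha'
    have hb1 : a * (t * a * t⁻¹) ≠ 1 := by
      intro h1
      apply h
      have : a * (t * a * t⁻¹) = a * a := by rw [h1, haa]
      exact mul_left_cancel this
    rw [c.coe_eq_cent hb hb1, mem_cent_iff]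
    have hc := c.comm_of_mem ha ha'
    have htinv : t⁻¹ = t := inv_eq_of_mul_eq_one_left htt
    rw [htinv] at hc ⊢
    calc t * (a * (t * a * t)) = (t * a * t) * a * t := by group
      _ = a * (t * a * t) * t := by rw [← hc]

/-- The intersection of the normalizers of two Sylow 2-subgroups. -/
def D (P Q : Sylow 2 G) : Subgroup G :=
  Subgroup.normalizer ((P : Subgroup G) : Set G) ⊓ Subgroup.normalizer ((Q : Subgroup G) : Set G)

omit [Finite G] in
theorem mem_D {P Q : Sylow 2 G} {g : G} : g ∈ D P Q ↔ g • P = P ∧ g • Q = Q := by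
  unfold D
  rw [Subgroup.mem_inf]
  exact and_congr Sylow.smul_eq_iff_mem_normalizer.symm Sylow.smul_eq_iff_mem_normalizer.symm

omit [Finite G] in
theorem D_comm (P Q : Sylow 2 G) : D P Q = D Q P := by
  unfold D; exact inf_comm _ _

theorem card_D (c : SmallCfg G) {P Q : Sylow 2 G} (hPQ : P ≠ Q) : Nat.card ↥(D P Q) = 3 := by
  haveI : Fact (Nat.Prime 2) := ⟨Nat.prime_two⟩
  -- no involutions
  have hnoinv : ∀ t ∈ D P Q, orderOf t ≠ 2 := by
    intro t ht h2
    obtain ⟨h1, h3⟩ := mem_D.mp ht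
    exact hPQ (c.ti (c.mem_of_invol_smul_eq h2 h1) (c.mem_of_invol_smul_eq h2 h3)
      (ne_one_of_orderOf_two h2))
  have hodd : ¬ 2 ∣ Nat.card ↥(D P Q) := by
    intro h
    obtain ⟨t, ht⟩ := exists_prime_orderOf_dvd_card' 2 h
    exact hnoinv t.1 t.2 (by rw [Subgroup.orderOf_coe]; exact ht)
  have hdvd : Nat.card ↥(D P Q) ∣ 12 := by
    rw [← c.hN P]
    exact Subgroup.card_dvd_of_le inf_le_left
  -- nontrivial
  have hne : Nat.card ↥(D P Q) ≠ 1 := by
    intro h1
    obtain ⟨t, ht, ht1⟩ := c.exists_ne_one_mem P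
    obtain ⟨u₁, hu₁, u₂, hu₂, hu₁1, hu₂1, hu12⟩ := c.exists_two_ne_one_mem Q
    obtain ⟨r₁, hr₁2, hr₁, hr₁P, hr₁Q⟩ := c.exists_swap hPQ ht ht1 hu₁ hu₁1
    obtain ⟨r₂, hr₂2, hr₂, hr₂P, hr₂Q⟩ := c.exists_swap hPQ ht ht1 hu₂ hu₂1
    have hmem : r₁ * r₂ ∈ D P Q := by
      rw [mem_D, ← smul_smul, ← smul_smul, hr₂P, hr₂Q, hr₁P, hr₁Q]
      exact ⟨rfl, rfl⟩
    have hbot : D P Q = ⊥ := Subgroup.card_eq_one.mp h1
    rw [hbot, Subgroup.mem_bot] at hmem
    have hr12 : r₁ = r₂ := by
      have h := mul_self_of_orderOf_two hr₂2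
      have : r₁ * r₂ = r₂ * r₂ := by rw [hmem, h]
      exact mul_right_cancel this
    apply hu12
    rw [← hr₁, ← hr₂, hr12]
  have hle : Nat.card ↥(D P Q) ≤ 12 := Nat.le_of_dvd (by norm_num) hdvd
  have hpos : 0 < Nat.card ↥(D P Q) := Nat.card_pos
  interval_cases h : Nat.card ↥(D P Q) <;> omega

omit [Finite G] in
/-- An involution swapping `P` and `Q` normalizes `D P Q`. -/
theorem conj_mem_D {P Q : Sylow 2 G} {r d : G} (hrP : r • P = Q) (hrQ : r • Q = P)
    (hd : d ∈ D P Q) : r * d * r⁻¹ ∈ D P Q := by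
  obtain ⟨h1, h2⟩ := mem_D.mp hd
  have hiP : r⁻¹ • P = Q := by rw [← hrQ, smul_smul, inv_mul_cancel, one_smul]
  have hiQ : r⁻¹ • Q = P := by rw [← hrP, smul_smul, inv_mul_cancel, one_smul]
  rw [mem_D]
  constructor
  · rw [← smul_smul, ← smul_smul, hiP, h2, hrQ]
  · rw [← smul_smul, ← smul_smul, hiQ, h1, hrP]

omit [Finite G] in
/-- An involution normalizing a subgroup of order 3 inverts it. -/
theorem inverts (c : SmallCfg G) {H : Subgroup G} (hH : Nat.card ↥H = 3) {r d : G}
    (hr : orderOf r = 2) (hd : d ∈ H) (hd1 : d ≠ 1) (hrd : r * d * r⁻¹ ∈ H) :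
    r * d * r⁻¹ = d⁻¹ := by
  haveI : Finite ↥H := Nat.finite_of_card_ne_zero (by rw [hH]; norm_num)
  rcases mem_three hH hd hd1 hrd with h | h | h
  · exfalso
    apply hd1
    have : r * d * r⁻¹ = r * 1 * r⁻¹ := by rw [h]; group
    exact mul_left_cancel (mul_right_cancel this)
  · exfalso
    have hE := c.hall r hr
    have hm : d ∈ Subgroup.centralizer ({r} : Set G) := by
      rw [mem_cent_iff]
      calc d * r = r⁻¹ * (r * d * r⁻¹) * r * r := by group
        _ = r⁻¹ * d * r * r := by rw [h]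
        _ = r⁻¹ * d * (r * r) := by group
        _ = r⁻¹ * d := by rw [mul_self_of_orderOf_two hr, mul_one]
        _ = r * d := by rw [inv_eq_self_of_orderOf_two hr]
    have hdd := hE.sq hm
    have h3 : d ^ 3 = 1 := by
      have := pow_card_eq_one' (G := ↥H) (x := ⟨d, hd⟩)
      rw [hH] at this
      exact congrArg Subtype.val this
    apply hd1
    calc d = d ^ 3 * (d * d)⁻¹ := by rw [pow_succ, pow_succ, pow_one]; group
      _ = 1 := by rw [h3, hdd]; group
  · exact h

omit [Finite G] in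
/-- The quotient `N(P)/P` is abelian. -/
theorem comm_mem (c : SmallCfg G) (P : Sylow 2 G) {a b : G}
    (ha : a ∈ Subgroup.normalizer ((P : Subgroup G) : Set G))
    (hb : b ∈ Subgroup.normalizer ((P : Subgroup G) : Set G)) :
    a * b * a⁻¹ * b⁻¹ ∈ (P : Subgroup G) := by
  set N := Subgroup.normalizer ((P : Subgroup G) : Set G) with hN
  have hPN : (P : Subgroup G) ≤ N := Subgroup.le_normalizer
  haveI hnorm : ((P : Subgroup G).subgroupOf N).Normal := Subgroup.normal_in_normalizer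
  have hcard : Nat.card ↥((P : Subgroup G).subgroupOf N) = 4 := by
    rw [← c.hP4 P]; exact Nat.card_congr (Subgroup.subgroupOfEquivOfLe hPN).toEquiv
  have hmul := ((P : Subgroup G).subgroupOf N).card_mul_index
  rw [hcard, c.hN P] at hmul
  have hidx : ((P : Subgroup G).subgroupOf N).index = 3 := by omega
  haveI : Fact (Nat.Prime 3) := ⟨by norm_num⟩
  have hq : Nat.card (↥N ⧸ (P : Subgroup G).subgroupOf N) = 3 := by
    rw [← Subgroup.index_eq_card]; exact hidx
  haveI := isCyclic_of_prime_card hq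
  have hcomm : ∀ u v : ↥N ⧸ (P : Subgroup G).subgroupOf N, u * v = v * u :=
    fun u v => IsCyclic.isMulCommutative.is_comm.comm u v
  have h1 : ((⟨a, ha⟩ * ⟨b, hb⟩ * ⟨a, ha⟩⁻¹ * ⟨b, hb⟩⁻¹ : ↥N) : ↥N ⧸ (P : Subgroup G).subgroupOf N)
      = 1 := by
    rw [QuotientGroup.mk_mul, QuotientGroup.mk_mul, QuotientGroup.mk_mul, QuotientGroup.mk_inv,
      QuotientGroup.mk_inv]
    rw [hcomm (↑(⟨a, ha⟩ : ↥N)) (↑(⟨b, hb⟩ : ↥N))]
    group
  rw [QuotientGroup.eq_one_iff, Subgroup.mem_subgroupOf] at h1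
  exact h1

end SmallCfg

end Cfsg.Agent.Helper1.CE4
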