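import Mathlib
import Cfsg.Agent.Helper1.CE4SmallB

set_option autoImplicit false

/-! Groups in which every involution has an `E4` centralizer which is a Sylow 2-subgroup with
normalizer of order 12: there are five Sylow 2-subgroups and the group is `A₅`. -/

namespace Cfsg.Agent.Helper1.CE4

open Subgroup Cfsg.Agent.Helper2

variable {G : Type*} [Group G]

namespace SmallCfg

variable [Finite G]

theorem eq_one_of_mem_D_of_mem (c : SmallCfg G) {P Q : Sylow 2 G} (hPQ : P ≠ Q) {w : G}
    (hwD : w ∈ D P Q) (hwP : w ∈ (P : Subgroup G)) : w = 1 := by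
  by_contra hw1
  have h2 := mul_self_of_orderOf_two (c.invol_of_mem hwP hw1)
  have h3 : w ^ 3 = 1 := by
    have := pow_card_eq_one' (G := ↥(D P Q)) (x := ⟨w, hwD⟩)
    rw [c.card_D hPQ] at this
    exact congrArg Subtype.val this
  apply hw1
  calc w = w ^ 3 * (w * w)⁻¹ := by rw [pow_succ, pow_succ, pow_one]; group
    _ = 1 := by rw [h3, h2]; group

theorem exists_ne_one_mem_D (c : SmallCfg G) {P Q : Sylow 2 G} (hPQ : P ≠ Q) :
    ∃ d ∈ D P Q, d ≠ 1 := by
  by_contra hcon
  push Not at hcon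
  have : D P Q = ⊥ := by
    rw [eq_bot_iff]; intro a ha; exact Subgroup.mem_bot.mpr (hcon a ha)
  have h3 := c.card_D hPQ
  rw [this, Subgroup.card_bot] at h3
  omega

/-- The only Sylow 2-subgroups normalized by `D P Q` are `P` and `Q`. -/
theorem fix_D (c : SmallCfg G) {P Q R : Sylow 2 G} (hPQ : P ≠ Q) (hRP : R ≠ P) (hRQ : R ≠ Q)
    (hle : D P Q ≤ Subgroup.normalizer ((R : Subgroup G) : Set G)) : False := by
  have hD3 := c.card_D hPQ
  have h1 : D P Q = D P R :=
    Subgroup.eq_of_le_of_card_ge (le_inf inf_le_left hle) (by rw [c.card_D hRP.symm, hD3])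
  have h2 : D P Q = D Q R :=
    Subgroup.eq_of_le_of_card_ge (le_inf inf_le_right hle) (by rw [c.card_D hRQ.symm, hD3])
  obtain ⟨t, ht, ht1⟩ := c.exists_ne_one_mem P
  obtain ⟨u, hu, hu1⟩ := c.exists_ne_one_mem Q
  obtain ⟨v, hv, hv1⟩ := c.exists_ne_one_mem R
  obtain ⟨r₁, hr₁2, -, hr₁P, hr₁Q⟩ := c.exists_swap hPQ ht ht1 hu hu1
  obtain ⟨r₂, hr₂2, -, hr₂Q, hr₂R⟩ := c.exists_swap hRQ.symm hu hu1 hv hv1
  obtain ⟨r₃, hr₃2, -, hr₃R, hr₃P⟩ := c.exists_swap hRP hv hv1 ht ht1
  obtain ⟨d, hd, hd1⟩ := c.exists_ne_one_mem_D hPQ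
  have e₁ : r₁ * d * r₁⁻¹ = d⁻¹ := c.inverts hD3 hr₁2 hd hd1 (conj_mem_D hr₁P hr₁Q hd)
  have e₂ : r₂ * d * r₂⁻¹ = d⁻¹ := by
    refine c.inverts hD3 hr₂2 hd hd1 ?_
    rw [h2] at hd ⊢
    exact conj_mem_D hr₂Q hr₂R hd
  have e₃ : r₃ * d * r₃⁻¹ = d⁻¹ := by
    refine c.inverts hD3 hr₃2 hd hd1 ?_
    have h3 : D P Q = D R P := h1.trans (D_comm P R)
    rw [h3] at hd ⊢
    exact conj_mem_D hr₃R hr₃P hd
  have hg : (r₃ * r₂ * r₁) * d * (r₃ * r₂ * r₁)⁻¹ = d⁻¹ := by
    calc (r₃ * r₂ * r₁) * d * (r₃ * r₂ * r₁)⁻¹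
        = r₃ * (r₂ * (r₁ * d * r₁⁻¹) * r₂⁻¹) * r₃⁻¹ := by group
      _ = r₃ * (r₂ * d * r₂⁻¹)⁻¹ * r₃⁻¹ := by rw [e₁]; group
      _ = r₃ * d * r₃⁻¹ := by rw [e₂, inv_inv]
      _ = d⁻¹ := e₃
  have hgP : (r₃ * r₂ * r₁) • P = P := by
    rw [← smul_smul, ← smul_smul, hr₁P, hr₂Q, hr₃R]
  have hgN : r₃ * r₂ * r₁ ∈ Subgroup.normalizer ((P : Subgroup G) : Set G) :=
    Sylow.smul_eq_iff_mem_normalizer.mp hgP
  have hdN : d ∈ Subgroup.normalizer ((P : Subgroup G) : Set G) := hd.1
  have hm := c.comm_mem P hgN hdN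
  rw [hg] at hm
  have h3 : d ^ 3 = 1 := by
    have := pow_card_eq_one' (G := ↥(D P Q)) (x := ⟨d, hd⟩)
    rw [hD3] at this
    exact congrArg Subtype.val this
  have hdd : d⁻¹ * d⁻¹ = d := by
    calc d⁻¹ * d⁻¹ = d ^ 3 * (d⁻¹ * d⁻¹) := by rw [h3, one_mul]
      _ = d := by rw [pow_succ, pow_succ, pow_one]; group
  rw [hdd] at hm
  exact hd1 (c.eq_one_of_mem_D_of_mem hPQ hd hm)

/-- The normalizer of `P` is transitive on the other Sylow 2-subgroups. -/
theorem exists_normalizer_smul_eq (c : SmallCfg G) {P Q R : Sylow 2 G} (hQP : Q ≠ P)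
    (hRP : R ≠ P) :
    ∃ h ∈ Subgroup.normalizer ((P : Subgroup G) : Set G), h • Q = R := by
  haveI : Fact (Nat.Prime 3) := ⟨by norm_num⟩
  obtain ⟨h, hhN, hconj⟩ := exists_conj_le_of_card (p := 3) (k := 1) (m := 4)
    (Subgroup.normalizer ((P : Subgroup G) : Set G)) (D P Q) (D P R)
    (by rw [c.hN P]; norm_num) (by norm_num) inf_le_left inf_le_left
    (by rw [c.card_D hQP.symm]; norm_num) (by rw [c.card_D hRP.symm]; norm_num)
  refine ⟨h, hhN, ?_⟩
  have hhP : h • P = P := Sylow.smul_eq_iff_mem_normalizer.mpr hhN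
  have hne : P ≠ h • Q := by
    intro he
    apply hQP
    have : h • P = h • Q := by rw [hhP]; exact he
    exact (smul_left_cancel h this).symm
  by_contra hcon
  refine c.fix_D hne hRP (fun e => hcon e.symm) ?_
  intro g hg
  obtain ⟨hg1, hg2⟩ := mem_D.mp hg
  have hmem : h⁻¹ * g * h ∈ D P Q := by
    rw [mem_D]
    constructor
    · rw [← smul_smul, ← smul_smul, hhP, hg1, ← hhP, smul_smul, inv_mul_cancel, one_smul, hhP]
    · rw [← smul_smul, ← smul_smul, hg2, smul_smul, inv_mul_cancel, one_smul]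
  have := hconj _ hmem
  have e : h * (h⁻¹ * g * h) * h⁻¹ = g := by group
  rw [e] at this
  exact this.2

/-- There are exactly five Sylow 2-subgroups. -/
theorem card_sylow (c : SmallCfg G) {P Q : Sylow 2 G} (hQP : Q ≠ P) :
    Nat.card (Sylow 2 G) = 5 := by
  set N := Subgroup.normalizer ((P : Subgroup G) : Set G) with hN
  have hstab : MulAction.stabilizer (↥N) Q = (D P Q).subgroupOf N := by
    ext h
    rw [MulAction.mem_stabilizer_iff, Subgroup.mem_subgroupOf, mem_D, Subgroup.smul_def]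
    constructor
    · intro h1
      exact ⟨Sylow.smul_eq_iff_mem_normalizer.mpr h.2, h1⟩
    · intro h1; exact h1.2
  have hDle : D P Q ≤ N := inf_le_left
  have hcard : Nat.card ↥(MulAction.stabilizer (↥N) Q) = 3 := by
    rw [hstab, ← c.card_D hQP.symm]
    exact Nat.card_congr (Subgroup.subgroupOfEquivOfLe hDle).toEquiv
  have hmul := (MulAction.stabilizer (↥N) Q).card_mul_index
  rw [hcard, c.hN P, MulAction.index_stabilizer] at hmul
  have horb : MulAction.orbit (↥N) Q = ({P} : Set (Sylow 2 G))ᶜ := by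
    ext R
    rw [Set.mem_compl_iff, Set.mem_singleton_iff, MulAction.mem_orbit_iff]
    constructor
    · rintro ⟨h, rfl⟩ he
      apply hQP
      have hhP : (h : G) • P = P := Sylow.smul_eq_iff_mem_normalizer.mpr h.2
      rw [Subgroup.smul_def] at he
      have : (h : G) • Q = (h : G) • P := by rw [hhP]; exact he
      exact smul_left_cancel _ this
    · intro hRP
      obtain ⟨h, hhN, hh⟩ := c.exists_normalizer_smul_eq hQP hRP
      exact ⟨⟨h, hhN⟩, hh⟩
  rw [horb, Set.ncard_compl, Set.ncard_singleton] at hmul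
  have hpos : 0 < Nat.card (Sylow 2 G) := Nat.card_pos
  omega

/-- The normalizer of a Sylow 2-subgroup is core-free. -/
theorem normalCore_eq_bot (c : SmallCfg G) {P Q : Sylow 2 G} (hPQ : P ≠ Q) :
    (Subgroup.normalizer ((P : Subgroup G) : Set G)).normalCore = ⊥ := by
  haveI : Fact (Nat.Prime 2) := ⟨Nat.prime_two⟩
  set K := (Subgroup.normalizer ((P : Subgroup G) : Set G)).normalCore with hK
  haveI hKn : K.Normal := Subgroup.normalCore_normal _
  have hKN : K ≤ Subgroup.normalizer ((P : Subgroup G) : Set G) := Subgroup.normalCore_le _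
  have hKD : K ≤ D P Q := by
    intro k hk
    rw [mem_D]
    refine ⟨Sylow.smul_eq_iff_mem_normalizer.mpr (hKN hk), ?_⟩
    obtain ⟨g, hg⟩ := MulAction.exists_smul_eq G P Q
    have h1 : g⁻¹ * k * g ∈ K := by
      have := hKn.conj_mem k hk g⁻¹
      rwa [inv_inv] at this
    have h2 : (g⁻¹ * k * g) • P = P := Sylow.smul_eq_iff_mem_normalizer.mpr (hKN h1)
    rw [← hg]
    calc k • g • P = g • (g⁻¹ * k * g) • P := by
          rw [smul_smul, smul_smul]; congr 1; group
      _ = g • P := by rw [h2]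
  rw [eq_bot_iff]
  intro k hk
  rw [Subgroup.mem_bot]
  obtain ⟨t, ht, ht1⟩ := c.exists_ne_one_mem P
  have hkN := hKN hk
  -- the commutator lies in `K ∩ P`
  have hw1 : t * k * t⁻¹ * k⁻¹ ∈ K := mul_mem (hKn.conj_mem k hk t) (inv_mem hk)
  have hw2 : t * k * t⁻¹ * k⁻¹ ∈ (P : Subgroup G) := by
    have h1 : k * t⁻¹ * k⁻¹ ∈ (P : Subgroup G) :=
      (Subgroup.mem_normalizer_iff.mp hkN _).mp (inv_mem ht)
    have : t * k * t⁻¹ * k⁻¹ = t * (k * t⁻¹ * k⁻¹) := by group
    rw [this]; exact mul_mem ht h1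
  have hw := c.eq_one_of_mem_D_of_mem hPQ (hKD hw1) hw2
  have hkP : k ∈ (P : Subgroup G) := by
    rw [c.coe_eq_cent ht ht1, mem_cent_iff]
    calc k * t = (t * k * t⁻¹ * k⁻¹)⁻¹ * (t * k) := by group
      _ = t * k := by rw [hw]; group
  exact c.eq_one_of_mem_D_of_mem hPQ (hKD hk) hkP

end SmallCfg

/-- A group of order `n!/2` with a core-free subgroup of index `n` is isomorphic to `A_n`. -/
theorem equiv_alternating_of_index_core [Finite G] (n : ℕ) (H : Subgroup G)
    (hidx : H.index = n) (hcore : H.normalCore = ⊥) (hcard : 2 * Nat.card G = n.factorial) :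
    Nonempty (G ≃* alternatingGroup (Fin n)) := by
  classical
  set φ := MulAction.toPermHom G (G ⧸ H) with hφ
  have hker : φ.ker = ⊥ := by rw [hφ, ← Subgroup.normalCore_eq_ker]; exact hcore
  have hinj : Function.Injective φ := (MonoidHom.ker_eq_bot_iff φ).mp hker
  have hq : Nat.card (G ⧸ H) = n := by rw [← Subgroup.index_eq_card, hidx]
  set ψ : G →* Equiv.Perm (Fin n) :=
    (Equiv.permCongrHom (Finite.equivFinOfCardEq hq)).toMonoidHom.comp φ with hψ
  have hψinj : Function.Injective ψ := by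
    intro a b hab
    apply hinj
    exact (Equiv.permCongrHom (Finite.equivFinOfCardEq hq)).injective hab
  have hrange : ψ.range = alternatingGroup (Fin n) := by
    apply Equiv.Perm.eq_alternatingGroup_of_index_eq_two
    have h1 := ψ.range.card_mul_index
    have h2 : Nat.card ψ.range = Nat.card G :=
      (Nat.card_congr (MonoidHom.ofInjective hψinj).toEquiv).symm
    have h3 : Nat.card (Equiv.Perm (Fin n)) = n.factorial := by
      rw [Nat.card_perm, Nat.card_eq_fintype_card, Fintype.card_fin]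
    rw [h2, h3, ← hcard] at h1
    have hpos : 0 < Nat.card G := Nat.card_pos
    have : Nat.card G * ψ.range.index = Nat.card G * 2 := by rw [h1]; ring
    exact Nat.eq_of_mul_eq_mul_left hpos this
  exact ⟨(MonoidHom.ofInjective hψinj).trans (MulEquiv.subgroupCongr hrange)⟩

/-- Involution with `E4` centralizer which is a non-normal Sylow 2-subgroup, no normal
2-complement: the group is `A₅`. -/
theorem small_case [Finite G] (x : G) (hx : E4Inv x) (S : Sylow 2 G)
    (hS : (S : Subgroup G) = Subgroup.centralizer ({x} : Set G))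
    (hnc : ¬ Cfsg.HasNormalPComplement 2 G) (hnn : ¬ (S : Subgroup G).Normal) :
    Nonempty (G ≃* alternatingGroup (Fin 5)) := by
  haveI : Fact (Nat.Prime 2) := ⟨Nat.prime_two⟩
  have hS4 : Nat.card ↥(S : Subgroup G) = 4 := by rw [hS]; exact hx.2.1
  by_cases hN : Subgroup.normalizer ((S : Subgroup G) : Set G) ≤ (S : Subgroup G)
  · exfalso
    apply hnc
    refine hasNormalPComplement_of_normalizer_le S ?_ hN
    intro a ha b hb
    exact hx.comm (hS ▸ ha) (hS ▸ hb)
  · obtain ⟨d, hdN, hdS⟩ := SetLike.not_le_iff_exists.mp hN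
    obtain ⟨hconj, hN12⟩ := small_structure x hx S hS d hdN hdS
    have hidx : ∀ P : Sylow 2 G,
        (Subgroup.normalizer ((P : Subgroup G) : Set G)).index =
          (Subgroup.normalizer ((S : Subgroup G) : Set G)).index := by
      intro P
      exact (Sylow.card_eq_index_normalizer P).symm.trans (Sylow.card_eq_index_normalizer S)
    have c : SmallCfg G := by
      refine ⟨?_, ?_, ?_⟩
      · intro u hu
        have hpu : IsPGroup 2 ↥(Subgroup.zpowers u) :=
          IsPGroup.of_card (n := 1) (by rw [Nat.card_zpowers, hu]; norm_num)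
        obtain ⟨Q, hQ⟩ := IsPGroup.exists_le_sylow hpu
        obtain ⟨g, hg⟩ := MulAction.exists_smul_eq G S Q
        have huQ : u ∈ (Q : Subgroup G) := hQ (Subgroup.mem_zpowers u)
        rw [← hg, mem_smul_sylow_iff] at huQ
        have hne1 : g⁻¹ * u * g ≠ 1 := by
          intro h
          have : u = g * (g⁻¹ * u * g) * g⁻¹ := by group
          rw [h] at this
          have hu1 : u = 1 := by rw [this]; group
          rw [hu1] at hu; simp at hu
        obtain ⟨g', hg'⟩ := hconj _ huQ hne1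
        have : u = (g * g') * x * (g * g')⁻¹ := by
          calc u = g * (g⁻¹ * u * g) * g⁻¹ := by group
            _ = g * (g' * x * g'⁻¹) * g⁻¹ := by rw [hg']
            _ = (g * g') * x * (g * g')⁻¹ := by group
        rw [this]; exact hx.conj _
      · intro P
        rw [Sylow.card_eq_multiplicity P, ← Sylow.card_eq_multiplicity S, hS4]
      · intro P
        have h1 := (Subgroup.normalizer ((P : Subgroup G) : Set G)).card_mul_index
        have h2 := (Subgroup.normalizer ((S : Subgroup G) : Set G)).card_mul_index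
        rw [hidx P] at h1
        rw [hN12] at h2
        have hpos : 0 < (Subgroup.normalizer ((S : Subgroup G) : Set G)).index :=
          Nat.pos_of_ne_zero (Subgroup.index_ne_zero_of_finite)
        have : Nat.card ↥(Subgroup.normalizer ((P : Subgroup G) : Set G)) *
            (Subgroup.normalizer ((S : Subgroup G) : Set G)).index =
            12 * (Subgroup.normalizer ((S : Subgroup G) : Set G)).index := by rw [h1, h2]
        exact Nat.eq_of_mul_eq_mul_right hpos this
    -- a second Sylow 2-subgroup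
    have hNtop : Subgroup.normalizer ((S : Subgroup G) : Set G) ≠ ⊤ := by
      intro h
      exact hnn (Subgroup.normalizer_eq_top_iff.mp h)
    obtain ⟨g, -, hg⟩ := SetLike.exists_of_lt (lt_top_iff_ne_top.mpr hNtop)
    have hQS : g • S ≠ S := fun h => hg (Sylow.smul_eq_iff_mem_normalizer.mp h)
    have h5 := c.card_sylow hQS
    have hidx5 : (Subgroup.normalizer ((S : Subgroup G) : Set G)).index = 5 :=
      (Sylow.card_eq_index_normalizer S).symm.trans h5
    have hG60 : Nat.card G = 60 := by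
      have h2 := (Subgroup.normalizer ((S : Subgroup G) : Set G)).card_mul_index
      rw [hN12, hidx5] at h2
      omega
    exact equiv_alternating_of_index_core 5 _ hidx5 (c.normalCore_eq_bot (Ne.symm hQS))
      (by rw [hG60]; decide)

end Cfsg.Agent.Helper1.CE4
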