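import Mathlib
import Cfsg.Prelude.Def_Transfer
import Cfsg.Agent.Helper1.CE4Big
import Cfsg.Agent.Helper1.CE4SmallC

set_option autoImplicit false

/-! Involution with `E4` centralizer: the group has a normal 2-complement, a normal elementary
abelian 2-subgroup of order 2 or 4, or is `A₅`. -/

namespace Cfsg.Agent.Helper1.CE4

open Subgroup

variable {G : Type*} [Group G]

theorem main [Finite G] (x : G) (hx : orderOf x = 2)
    (hC4 : Nat.card ↥(Subgroup.centralizer ({x} : Set G)) = 4)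
    (hCe : ∀ c ∈ Subgroup.centralizer ({x} : Set G), c ^ 2 = 1)
    (hnc : ¬ Cfsg.HasNormalPComplement 2 G)
    (hne : ∀ E : Subgroup G, E.Normal → Cfsg.IsElementaryAbelian 2 E →
      Nat.card ↥E ≠ 2 ∧ Nat.card ↥E ≠ 4) :
    Nonempty (G ≃* ↥(alternatingGroup (Fin 5))) := by
  haveI : Fact (Nat.Prime 2) := ⟨Nat.prime_two⟩
  have hE : E4Inv x := ⟨hx, hC4, hCe⟩
  have hpV : IsPGroup 2 ↥(Subgroup.centralizer ({x} : Set G)) :=
    IsPGroup.of_card (n := 2) (by rw [hC4]; norm_num)
  obtain ⟨S, hVS⟩ := IsPGroup.exists_le_sylow hpV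
  by_cases h4 : Nat.card ↥(S : Subgroup G) = 4
  · have hS : (S : Subgroup G) = Subgroup.centralizer ({x} : Set G) := by
      symm
      exact Subgroup.eq_of_le_of_card_ge hVS (by rw [h4, hC4])
    refine small_case x hE S hS hnc ?_
    intro hn
    have hel : Cfsg.IsElementaryAbelian 2 (S : Subgroup G) := by
      refine ⟨⟨⟨fun a b => ?_⟩⟩, fun a ha => ?_⟩
      · exact Subtype.ext (hE.comm (hS ▸ a.2) (hS ▸ b.2))
      · exact hCe a (hS ▸ ha)
    exact (hne _ hn hel).2 h4
  · exfalso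
    obtain ⟨E, hEn, hEe, hEc⟩ := big_case x hE S hVS h4
    rcases hEc with h | h
    · exact (hne E hEn hEe).1 h
    · exact (hne E hEn hEe).2 h

end Cfsg.Agent.Helper1.CE4
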