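import Mathlib
import Cfsg.Prelude.Def_SolvableStructure
import Cfsg.Agent.Helper1.Basic
import Cfsg.Agent.Helper1.Subnormal

set_option autoImplicit false

/-!
Groups all of whose subgroups satisfy the converse of Lagrange's theorem.
-/

namespace Cfsg.Agent.Helper1

open scoped Pointwise

universe u

theorem hasSubgroupOfEveryOrder_of_mulEquiv {G G' : Type u} [Group G] [Group G'] (e : G ≃* G')
    (h : Cfsg.HasSubgroupOfEveryOrder G) : Cfsg.HasSubgroupOfEveryOrder G' := by
  intro d hd
  rw [← Nat.card_congr e.toEquiv] at hd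
  obtain ⟨H, hH⟩ := h d hd
  exact ⟨H.map e.toMonoidHom, by rw [Subgroup.card_map_of_injective e.injective, hH]⟩

theorem clt_hereditary_subgroup {G : Type u} [Group G]
    (h : ∀ H : Subgroup G, Cfsg.HasSubgroupOfEveryOrder H) (M : Subgroup G) :
    ∀ H : Subgroup M, Cfsg.HasSubgroupOfEveryOrder H := by
  intro H
  have h1 := h (H.map M.subtype)
  exact hasSubgroupOfEveryOrder_of_mulEquiv
    (H.equivMapOfInjective M.subtype M.subtype_injective).symm h1

theorem normal_sylow_of_clt : ∀ (k : ℕ) (G : Type u) [Group G] [Finite G], Nat.card G = k →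
    (∀ H : Subgroup G, Cfsg.HasSubgroupOfEveryOrder H) → ∀ (p : ℕ) [Fact p.Prime],
    p ∣ Nat.card G → (∀ q : ℕ, q.Prime → q ∣ Nat.card G → q ≤ p) → ∀ P : Sylow p G,
    (P : Subgroup G).Normal := by
  intro k
  induction k using Nat.strong_induction_on with
  | _ k ih =>
  intro G _ _ hk h p hp hdvd hmax P
  have hcard1 : Nat.card G ≠ 1 := by
    intro h1; rw [h1] at hdvd
    exact hp.out.one_lt.ne' (Nat.dvd_one.1 hdvd)
  set q := (Nat.card G).minFac with hq
  have hqp : q.Prime := Nat.minFac_prime hcard1
  have hqd : q ∣ Nat.card G := Nat.minFac_dvd _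
  -- a subgroup of index q
  have h1 := h ⊤ (Nat.card G / q) (by
    rw [Subgroup.card_top]; exact Nat.div_dvd_of_dvd hqd)
  obtain ⟨M₀, hM₀⟩ := h1
  set M := M₀.map (⊤ : Subgroup G).subtype with hM
  have hMcard : Nat.card M = Nat.card G / q := by
    rw [hM, Subgroup.card_map_of_injective (Subgroup.subtype_injective _), hM₀]
  have hMq : Nat.card M * q = Nat.card G := by
    rw [hMcard]; exact Nat.div_mul_cancel hqd
  have hMidx : M.index = q := by
    have := M.card_mul_index
    rw [← hMq] at this
    exact Nat.eq_of_mul_eq_mul_left Nat.card_pos this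
  have hMn : M.Normal := Subgroup.normal_of_index_eq_minFac_card hMidx
  by_cases hqeq : q = p
  · -- G is a p-group
    have hGp : IsPGroup p G := by
      apply IsPGroup.of_card (n := (Nat.card G).primeFactorsList.length)
      apply Nat.eq_prime_pow_of_unique_prime_dvd Nat.card_pos.ne'
      intro d hd hdd
      apply le_antisymm (hmax d hd hdd)
      rw [← hqeq]
      exact Nat.minFac_le_of_dvd hd.two_le hdd
    have : (P : Subgroup G) = ⊤ := (P.is_maximal' (hGp.to_subgroup _) le_top).symm
    rw [this]; infer_instance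
  · have hqltp : q ≠ p := hqeq
    have hcop : Nat.Coprime p q := (Nat.coprime_primes hp.out hqp).2 (Ne.symm hqltp)
    have hpM : p ∣ Nat.card M := by
      rw [← hMq] at hdvd
      exact hcop.dvd_of_dvd_mul_right hdvd
    have hlt : Nat.card M < k := by
      rw [← hk, ← hMq]
      have := hqp.two_le
      have : 0 < Nat.card M := Nat.card_pos
      nlinarith
    have hmaxM : ∀ r : ℕ, r.Prime → r ∣ Nat.card M → r ≤ p := fun r hr hrd =>
      hmax r hr (hrd.trans (Subgroup.card_subgroup_dvd_card M))
    obtain ⟨Q, hQ⟩ := sylow_inf_subnormal p M hMn.isSubnormal P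
    have hQn : (Q : Subgroup M).Normal :=
      ih _ hlt M rfl (clt_hereditary_subgroup h M) p hpM hmaxM Q
    have hQc : (Q : Subgroup M).Characteristic := Q.characteristic_of_normal hQn
    have hn : ((Q : Subgroup M).map M.subtype).Normal := inferInstance
    rw [hQ, Subgroup.subgroupOf_map_subtype] at hn
    have hcardQ : Nat.card (Q : Subgroup M) = Nat.card (P : Subgroup G) := by
      rw [Q.card_eq_multiplicity, P.card_eq_multiplicity, ← hMq,
        Nat.factorization_mul Nat.card_pos.ne' hqp.ne_zero, Finsupp.add_apply,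
        Nat.factorization_eq_zero_of_not_dvd
          (fun hd => hqltp ((Nat.prime_dvd_prime_iff_eq hp.out hqp).1 hd).symm), add_zero]
    have hcard2 : Nat.card ((P : Subgroup G) ⊓ M : Subgroup G) = Nat.card (P : Subgroup G) := by
      rw [← hcardQ, hQ, ← Subgroup.inf_subgroupOf_right, card_subgroupOf_of_le inf_le_right]
    have heq : (P : Subgroup G) ⊓ M = (P : Subgroup G) :=
      Subgroup.eq_of_le_of_card_ge inf_le_left hcard2.ge
    rw [← heq]; exact hn

end Cfsg.Agent.Helper1
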