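import Mathlib
import Cfsg.Prelude.Def_SolvableStructure
import Cfsg.Agent.Helper1.Supersolvable3
import Cfsg.Agent.Helper1.SubnormalComm
import Cfsg.Agent.Helper1.FrattiniAct
import Cfsg.Agent.Helper1.PGroup

set_option autoImplicit false

/-!
Groups of order `2 p^n` are supersolvable.
-/

namespace Cfsg.Agent.Helper1

universe u

variable {G : Type u} [Group G]

theorem normal_zpowers_of_mem_center (z : G) (hz : z ∈ Subgroup.center G) :
    (Subgroup.zpowers z).Normal := by
  constructor
  intro x hx g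
  have hxc : x ∈ Subgroup.center G := (Subgroup.zpowers_le.2 hz) hx
  rw [Subgroup.mem_center_iff] at hxc
  have e : g * x * g⁻¹ = x := by rw [hxc g]; group
  rw [e]; exact hx

theorem isSupersolvable_of_subsingleton [Subsingleton G] : Cfsg.IsSupersolvable G := by
  rw [isSupersolvable_iff_cycChain]
  rw [show (⊤ : Subgroup G) = ⊥ from Subsingleton.elim _ _]
  exact CycChain.refl _ inferInstance

theorem isSupersolvable_of_isCyclic [IsCyclic G] : Cfsg.IsSupersolvable G := by
  have : IsCyclic (⊤ : Subgroup G) := inferInstance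
  apply isSupersolvable_of_cyclic_normal (⊤ : Subgroup G)
  have : Subsingleton (G ⧸ (⊤ : Subgroup G)) := QuotientGroup.subsingleton_quotient_top
  exact isSupersolvable_of_subsingleton

theorem exists_normal_card_prime_of_index_two [Finite G] {p : ℕ} [hp : Fact p.Prime] (hp2 : p ≠ 2)
    (P : Subgroup G) (hP : IsPGroup p P) (hPne : P ≠ ⊥) (hidx : P.index = 2) :
    ∃ N : Subgroup G, N.Normal ∧ Nat.card N = p := by
  have hPn : P.Normal := Subgroup.normal_of_index_eq_two hidx
  have hPnt : Nontrivial P := (Subgroup.nontrivial_iff_ne_bot P).2 hPne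
  have hZnt : Nontrivial (Subgroup.center P) := hP.center_nontrivial
  have hZp : IsPGroup p (Subgroup.center P) := hP.to_subgroup _
  obtain ⟨k, hk0, hk⟩ := (hZp.nontrivial_iff_card).1 hZnt
  have hpZ : p ∣ Nat.card (Subgroup.center P) := hk ▸ dvd_pow_self p hk0.ne'
  obtain ⟨v0, hv0⟩ := exists_prime_orderOf_dvd_card' p hpZ
  obtain ⟨A, hAdef⟩ : ∃ A : Subgroup G, A = (Subgroup.center P).map P.subtype := ⟨_, rfl⟩
  have hAn : A.Normal := by
    rw [← Subgroup.normalizer_eq_top_iff, eq_top_iff, hAdef]
    refine le_trans ?_ (le_normalizer_map_of_characteristic P (Subgroup.center P))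
    rw [Subgroup.normalizer_eq_top_iff.2 hPn]
  have hAP : ∀ a ∈ A, ∀ x ∈ P, Commute x a := by
    intro a ha x hx
    rw [hAdef] at ha
    obtain ⟨a0, ha0, rfl⟩ := ha
    have ha0' : a0 ∈ Subgroup.center P := ha0
    rw [Subgroup.mem_center_iff] at ha0'
    have := ha0' ⟨x, hx⟩
    exact congrArg Subtype.val this
  have hAleP : A ≤ P := by
    rw [hAdef]; rintro _ ⟨a0, -, rfl⟩; exact a0.2
  have h2G : 2 ∣ Nat.card G := hidx ▸ P.index_dvd_card
  have := Fact.mk Nat.prime_two
  obtain ⟨t, ht⟩ := exists_prime_orderOf_dvd_card' 2 h2G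
  have htt : t * t = 1 := by
    have := pow_orderOf_eq_one t
    rwa [ht, sq] at this
  have htinv : t⁻¹ = t := inv_eq_of_mul_eq_one_left htt
  have htP : t ∉ P := by
    intro h
    obtain ⟨j, hj⟩ := (IsPGroup.iff_orderOf.1 hP) ⟨t, h⟩
    rw [Subgroup.orderOf_mk, ht] at hj
    rcases Nat.eq_zero_or_pos j with h0 | h0
    · rw [h0, pow_zero] at hj; omega
    · have : p ∣ 2 := hj ▸ dvd_pow_self p h0.ne'
      exact hp2 ((Nat.prime_dvd_prime_iff_eq hp.out Nat.prime_two).1 this)
  have hsup : P ⊔ Subgroup.zpowers t = ⊤ := by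
    apply (isCoatom_of_index_prime (hidx ▸ Nat.prime_two)).2
    apply lt_of_le_of_ne le_sup_left
    intro h
    apply htP
    rw [h]
    exact (le_sup_right : Subgroup.zpowers t ≤ _) (Subgroup.mem_zpowers t)
  have key : ∀ u ∈ A, orderOf u = p → t * u * t⁻¹ ∈ Subgroup.zpowers u →
      ∃ N : Subgroup G, N.Normal ∧ Nat.card N = p := by
    intro u huA hu htu
    have hconj : ∀ y ∈ Subgroup.zpowers u, t * y * t⁻¹ ∈ Subgroup.zpowers u := by
      intro y hy
      obtain ⟨n, rfl⟩ := Subgroup.mem_zpowers_iff.1 hy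
      have e : t * u ^ n * t⁻¹ = (t * u * t⁻¹) ^ n := by
        have := map_zpow (MulAut.conj t) u n
        simpa [MulAut.conj_apply] using this
      rw [e]
      exact Subgroup.zpow_mem _ htu n
    refine ⟨Subgroup.zpowers u, ?_, by rw [Nat.card_zpowers, hu]⟩
    rw [← Subgroup.normalizer_eq_top_iff, eq_top_iff, ← hsup, sup_le_iff]
    constructor
    · apply le_normalizer_of_forall_conj_mem
      intro x hx y hy
      obtain ⟨n, rfl⟩ := Subgroup.mem_zpowers_iff.1 hy
      have h1 : Commute x u := hAP u huA x hx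
      have h2 := (h1.zpow_right n).eq
      have : x * u ^ n * x⁻¹ = u ^ n := by rw [h2]; group
      rw [this]; exact hy
    · rw [Subgroup.zpowers_le, Subgroup.mem_normalizer_iff]
      intro y
      refine ⟨hconj y, fun hy => ?_⟩
      have := hconj _ hy
      have e : t * (t * y * t⁻¹) * t⁻¹ = (t * t) * y * (t * t)⁻¹ := by group
      rw [e, htt] at this
      simpa using this
  -- the element `v` of order `p` in `Z(P)`
  obtain ⟨v, hvdef⟩ : ∃ v : G, v = ((v0 : P) : G) := ⟨_, rfl⟩
  have hvA : v ∈ A := by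
    rw [hAdef, hvdef]; exact ⟨(v0 : P), v0.2, rfl⟩
  have hv : orderOf v = p := by
    rw [hvdef, Subgroup.orderOf_coe, Subgroup.orderOf_coe]; exact hv0
  have htvA : t * v * t⁻¹ ∈ A := hAn.conj_mem _ hvA t
  have htv : orderOf (t * v * t⁻¹) = p := by
    have := (MulAut.conj t).orderOf_eq v
    rw [MulAut.conj_apply] at this
    rw [this, hv]
  have hcomm : Commute v (t * v * t⁻¹) := hAP _ htvA v (hAleP hvA)
  by_cases hw : v * (t * v * t⁻¹) = 1
  · apply key v hvA hv
    have : t * v * t⁻¹ = v⁻¹ := (inv_eq_of_mul_eq_one_right hw).symm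
    rw [this]
    exact Subgroup.inv_mem _ (Subgroup.mem_zpowers v)
  · apply key (v * (t * v * t⁻¹)) (A.mul_mem hvA htvA)
    · apply orderOf_eq_prime _ hw
      rw [hcomm.mul_pow, ← hv, pow_orderOf_eq_one, hv, ← htv, pow_orderOf_eq_one, one_mul]
    · have e : t * (v * (t * v * t⁻¹)) * t⁻¹ = (t * v * t⁻¹) * ((t * t) * v * (t * t)⁻¹) := by
        group
      rw [e, htt, one_mul, inv_one, mul_one, ← hcomm.eq]
      exact Subgroup.mem_zpowers _

theorem exists_normal_card_prime_of_card_two_mul_prime_pow [Finite G] (p n : ℕ) (hp : p.Prime)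
    (hn : 0 < n) (hG : Nat.card G = 2 * p ^ n) : ∃ N : Subgroup G, N.Normal ∧ Nat.card N = p := by
  have hpf := Fact.mk hp
  by_cases hp2 : p = 2
  · subst hp2
    have hGp : IsPGroup 2 G := IsPGroup.of_card (n := n + 1) (by rw [hG, pow_succ, mul_comm])
    have hnt : Nontrivial G := by
      rw [← Finite.one_lt_card_iff_nontrivial, hG]
      have : 0 < 2 ^ n := pow_pos (by norm_num) n
      omega
    have hZnt : Nontrivial (Subgroup.center G) := hGp.center_nontrivial
    have hZp : IsPGroup 2 (Subgroup.center G) := hGp.to_subgroup _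
    obtain ⟨k, hk0, hk⟩ := (hZp.nontrivial_iff_card).1 hZnt
    have hpZ : 2 ∣ Nat.card (Subgroup.center G) := hk ▸ dvd_pow_self 2 hk0.ne'
    obtain ⟨z, hz⟩ := exists_prime_orderOf_dvd_card' 2 hpZ
    refine ⟨Subgroup.zpowers (z : G), normal_zpowers_of_mem_center _ z.2, ?_⟩
    rw [Nat.card_zpowers, Subgroup.orderOf_coe, hz]
  · obtain P : Sylow p G := default
    have hPcard : Nat.card P = p ^ n := by
      rw [Sylow.card_eq_multiplicity, hG, Nat.factorization_mul (by norm_num)
        (pow_pos hp.pos n).ne', Nat.Prime.factorization_pow hp]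
      have : (Nat.factorization 2) p = 0 := by
        apply Nat.factorization_eq_zero_of_not_dvd
        intro h
        exact hp2 ((Nat.prime_dvd_prime_iff_eq hp Nat.prime_two).1 h)
      simp [this]
    have hidx : (P : Subgroup G).index = 2 := by
      have := (P : Subgroup G).index_mul_card
      rw [hPcard, hG] at this
      exact Nat.eq_of_mul_eq_mul_right (pow_pos hp.pos n) this
    have hPne : (P : Subgroup G) ≠ ⊥ := by
      intro h
      have h1 : Nat.card (P : Subgroup G) = 1 := by rw [h, Subgroup.card_bot]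
      rw [hPcard] at h1
      have : 1 < p ^ n := Nat.one_lt_pow hn.ne' hp.one_lt
      omega
    exact exists_normal_card_prime_of_index_two hp2 P P.2 hPne hidx

theorem isSupersolvable_of_card_two_mul_prime_pow (p : ℕ) (hp : p.Prime) :
    ∀ (n : ℕ) (G : Type u) [Group G] [Finite G], Nat.card G = 2 * p ^ n →
      Cfsg.IsSupersolvable G := by
  intro n
  induction n with
  | zero =>
    intro G _ _ hG
    rw [pow_zero, mul_one] at hG
    have := Fact.mk Nat.prime_two
    have : IsCyclic G := isCyclic_of_prime_card hG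
    exact isSupersolvable_of_isCyclic
  | succ n ih =>
    intro G _ _ hG
    obtain ⟨N, hNn, hN⟩ := exists_normal_card_prime_of_card_two_mul_prime_pow p (n + 1) hp
      (Nat.succ_pos n) hG
    have hpf := Fact.mk hp
    have hNc : IsCyclic N := isCyclic_of_prime_card hN
    apply isSupersolvable_of_cyclic_normal N
    apply ih
    have h1 := Subgroup.card_eq_card_quotient_mul_card_subgroup N
    rw [hG, hN, pow_succ, ← mul_assoc] at h1
    exact (Nat.eq_of_mul_eq_mul_right hp.pos h1).symm

end Cfsg.Agent.Helper1
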