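import Mathlib
import Cfsg.Prelude.Def_SolvableStructure
import Cfsg.Agent.Helper1.Supersolvable3
import Cfsg.Agent.Helper1.Hall
import Cfsg.Agent.Helper1.FrattiniAct

set_option autoImplicit false

/-!
A supersolvable group has a normal subgroup whose order is the largest prime divisor of the
group order, and hence a chief series with non-increasing primes.
-/

namespace Cfsg.Agent.Helper1

universe u

theorem exists_normal_card_eq_max_prime : ∀ (k : ℕ) (G : Type u) [Group G] [Finite G],
    Nat.card G = k → Cfsg.IsSupersolvable G → ∀ p : ℕ, p.Prime → p ∣ Nat.card G →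
    (∀ q : ℕ, q.Prime → q ∣ Nat.card G → q ≤ p) →
    ∃ N : Subgroup G, N.Normal ∧ Nat.card N = p := by
  intro k
  induction k using Nat.strong_induction_on with
  | _ k ih =>
  intro G _ _ hk hG p hp hpG hmax
  have hnt : Nontrivial G := by
    rw [← Finite.one_lt_card_iff_nontrivial]
    exact lt_of_lt_of_le hp.one_lt (Nat.le_of_dvd Nat.card_pos hpG)
  obtain ⟨N0, hN0n, hN0p⟩ := exists_normal_prime_card hG
  by_cases hqp : Nat.card N0 = p
  · exact ⟨N0, hN0n, hqp⟩
  set q := Nat.card N0 with hq
  have hN0ne : N0 ≠ ⊥ := ne_bot_of_prime_card hN0p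
  have hQlt : Nat.card (G ⧸ N0) < k := hk ▸ card_quotient_lt N0 hN0ne
  have hcardG : Nat.card G = Nat.card (G ⧸ N0) * q :=
    Subgroup.card_eq_card_quotient_mul_card_subgroup N0
  have hqG : q ∣ Nat.card G := hcardG ▸ Dvd.intro_left _ rfl
  have hqlt : q < p := lt_of_le_of_ne (hmax q hN0p hqG) hqp
  have hcop : Nat.Coprime p q := (Nat.coprime_primes hp hN0p).2 (Ne.symm hqp)
  have hpQ : p ∣ Nat.card (G ⧸ N0) := by
    rw [hcardG] at hpG
    exact hcop.dvd_of_dvd_mul_right hpG
  have hmaxQ : ∀ r : ℕ, r.Prime → r ∣ Nat.card (G ⧸ N0) → r ≤ p := by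
    intro r hr hrQ
    exact hmax r hr (hcardG ▸ Dvd.dvd.mul_right hrQ q)
  obtain ⟨K', hK'n, hK'⟩ := ih _ hQlt (G ⧸ N0) rfl (isSupersolvable_quotient hG N0) p hp hpQ hmaxQ
  set K := K'.comap (QuotientGroup.mk' N0) with hK
  have hKn : K.Normal := hK'n.comap _
  have hKcard : Nat.card K = p * q := by rw [hK, card_comap_mk', hK']
  have hpf := Fact.mk hp
  obtain S : Sylow p K := default
  have hScard : Nat.card S = p := by
    have h0 : (Nat.factorization q) p = 0 := by
      apply Nat.factorization_eq_zero_of_not_dvd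
      intro h
      exact hqp ((Nat.prime_dvd_prime_iff_eq hp hN0p).1 h).symm
    rw [Sylow.card_eq_multiplicity, hKcard, Nat.factorization_mul hp.ne_zero hN0p.ne_zero,
      Finsupp.add_apply, Nat.Prime.factorization_self hp, h0, pow_one]
  have hSidx : (S : Subgroup K).index = q := by
    have := (S : Subgroup K).index_mul_card
    rw [hScard, hKcard, mul_comm p q] at this
    exact Nat.eq_of_mul_eq_mul_right hp.pos this
  have hminFac : (Nat.card K).minFac = q := by
    rw [hKcard]
    apply le_antisymm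
    · exact Nat.minFac_le_of_dvd hN0p.two_le (Dvd.intro_left _ rfl)
    · have h1 : (p * q).minFac.Prime := Nat.minFac_prime (by
        have := hp.one_lt; have := hN0p.one_lt; nlinarith)
      have h2 : (p * q).minFac ∣ p * q := Nat.minFac_dvd _
      rcases (Nat.Prime.dvd_mul h1).1 h2 with h | h
      · rw [(Nat.prime_dvd_prime_iff_eq h1 hp).1 h]; exact hqlt.le
      · rw [(Nat.prime_dvd_prime_iff_eq h1 hN0p).1 h]
  have hSn : (S : Subgroup K).Normal :=
    Subgroup.normal_of_index_eq_minFac_card (hSidx.trans hminFac.symm)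
  have hSc : (S : Subgroup K).Characteristic := Sylow.characteristic_of_normal S hSn
  refine ⟨(S : Subgroup K).map K.subtype, ?_, ?_⟩
  · rw [← Subgroup.normalizer_eq_top_iff, eq_top_iff]
    refine le_trans ?_ (le_normalizer_map_of_characteristic K (S : Subgroup K))
    rw [Subgroup.normalizer_eq_top_iff.2 hKn]
  · rw [Subgroup.card_map_of_injective K.subtype_injective, hScard]

end Cfsg.Agent.Helper1

namespace Cfsg.Agent.Helper1

universe u

theorem exists_max_prime_dvd {m : ℕ} (hm0 : m ≠ 0) (hm : m ≠ 1) :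
    ∃ p : ℕ, p.Prime ∧ p ∣ m ∧ ∀ q : ℕ, q.Prime → q ∣ m → q ≤ p := by
  have hne : m.primeFactors.Nonempty := by
    obtain ⟨p, hp, hpm⟩ := Nat.exists_prime_and_dvd hm
    exact ⟨p, Nat.mem_primeFactors.2 ⟨hp, hpm, hm0⟩⟩
  obtain ⟨p, hp, hmax⟩ := Finset.exists_max_image m.primeFactors id hne
  rw [Nat.mem_primeFactors] at hp
  refine ⟨p, hp.1, hp.2.1, fun q hq hqm => ?_⟩
  exact hmax q (Nat.mem_primeFactors.2 ⟨hq, hqm, hm0⟩)

theorem exists_prime_chain_of_supersolvable : ∀ (k : ℕ) (G : Type u) [Group G] [Finite G],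
    Nat.card G = k → Cfsg.IsSupersolvable G →
    ∃ (n : ℕ) (H : Fin (n + 1) → Subgroup G), H 0 = ⊥ ∧ H (Fin.last n) = ⊤ ∧
      (∀ i, (H i).Normal) ∧
      (∀ i : Fin n, H i.castSucc ≤ H i.succ ∧ ((H i.castSucc).relIndex (H i.succ)).Prime) ∧
      ∀ i j : Fin n, i ≤ j →
        (H j.castSucc).relIndex (H j.succ) ≤ (H i.castSucc).relIndex (H i.succ) := by
  intro k
  induction k using Nat.strong_induction_on with
  | _ k ih =>
  intro G _ _ hk hG
  by_cases hnt : Nontrivial G
  · have hc1 : Nat.card G ≠ 1 := by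
      have := Finite.one_lt_card_iff_nontrivial.2 hnt
      omega
    obtain ⟨p, hp, hpG, hmax⟩ := exists_max_prime_dvd Nat.card_pos.ne' hc1
    obtain ⟨N, hNn, hNp⟩ := exists_normal_card_eq_max_prime _ G rfl hG p hp hpG hmax
    have hNne : N ≠ ⊥ := ne_bot_of_prime_card (hNp ▸ hp)
    have hQlt : Nat.card (G ⧸ N) < k := hk ▸ card_quotient_lt N hNne
    obtain ⟨n', H', h0', hlast', hnorm', hstep', hmono'⟩ :=
      ih _ hQlt (G ⧸ N) rfl (isSupersolvable_quotient hG N)
    have hsurj := QuotientGroup.mk'_surjective N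
    have hcardG : Nat.card G = Nat.card (G ⧸ N) * Nat.card N :=
      Subgroup.card_eq_card_quotient_mul_card_subgroup N
    have hrel : ∀ a b : Fin (n' + 1),
        ((H' a).comap (QuotientGroup.mk' N)).relIndex ((H' b).comap (QuotientGroup.mk' N)) =
          (H' a).relIndex (H' b) := by
      intro a b
      rw [Subgroup.relIndex_comap, Subgroup.map_comap_eq_self_of_surjective hsurj]
    have hbound : ∀ j : Fin n', (H' j.castSucc).relIndex (H' j.succ) ≤ p := by
      intro j
      apply hmax _ (hstep' j).2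
      have h1 : (H' j.castSucc).relIndex (H' j.succ) ∣ Nat.card (G ⧸ N) :=
        (Subgroup.relIndex_dvd_card _ _).trans (Subgroup.card_subgroup_dvd_card _)
      rw [hcardG]
      exact Dvd.dvd.mul_right h1 _
    refine ⟨n' + 1, Fin.cons ⊥ (fun i => (H' i).comap (QuotientGroup.mk' N)), ?_, ?_, ?_, ?_, ?_⟩
    · exact Fin.cons_zero _ _
    · rw [← Fin.succ_last, Fin.cons_succ, hlast', Subgroup.comap_top]
    · intro i
      induction i using Fin.cases with
      | zero => rw [Fin.cons_zero]; infer_instance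
      | succ j => rw [Fin.cons_succ]; exact (hnorm' j).comap _
    · intro i
      induction i using Fin.cases with
      | zero =>
        rw [Fin.castSucc_zero, Fin.cons_zero, Fin.cons_succ, h0', MonoidHom.comap_bot,
          QuotientGroup.ker_mk', Subgroup.relIndex_bot_left, hNp]
        exact ⟨bot_le, hp⟩
      | succ j =>
        rw [← Fin.succ_castSucc, Fin.cons_succ, Fin.cons_succ, hrel]
        exact ⟨Subgroup.comap_mono (hstep' j).1, (hstep' j).2⟩
    · intro i j hij
      induction j using Fin.cases with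
      | zero =>
        have hi0 : i = 0 := le_antisymm hij (Fin.zero_le _)
        rw [hi0]
      | succ j' =>
        induction i using Fin.cases with
        | zero =>
          rw [← Fin.succ_castSucc, Fin.cons_succ, Fin.cons_succ, hrel]
          rw [Fin.castSucc_zero, Fin.cons_zero, Fin.cons_succ, h0', MonoidHom.comap_bot,
            QuotientGroup.ker_mk', Subgroup.relIndex_bot_left, hNp]
          exact hbound j'
        | succ i' =>
          rw [← Fin.succ_castSucc, Fin.cons_succ, Fin.cons_succ, hrel]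
          rw [← Fin.succ_castSucc, Fin.cons_succ, Fin.cons_succ, hrel]
          exact hmono' i' j' (Fin.succ_le_succ_iff.1 hij)
  · rw [not_nontrivial_iff_subsingleton] at hnt
    refine ⟨0, fun _ => ⊥, rfl, Subsingleton.elim _ _, fun _ => inferInstance,
      fun i => i.elim0, fun i => i.elim0⟩

end Cfsg.Agent.Helper1
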