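import Mathlib
import Cfsg.Prelude.Def_SolvableStructure
import Cfsg.Agent.Helper1.CLT
import Cfsg.Agent.Helper1.Supersolvable2
import Cfsg.Agent.Helper1.Supersolvable6
import Cfsg.Agent.Helper1.Supersolvable7
import Cfsg.Agent.Helper1.Coprime
import Cfsg.Agent.Helper1.Card
import Cfsg.Agent.Helper1.Hall

set_option autoImplicit false

/-!
A finite group all of whose subgroups satisfy the converse of Lagrange's theorem is supersolvable.
-/

namespace Cfsg.Agent.Helper1

universe u

variable {G : Type u} [Group G]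

theorem clt_hereditary_quotient_prime [Finite G]
    (h : ∀ H : Subgroup G, Cfsg.HasSubgroupOfEveryOrder H) (M : Subgroup G) [M.Normal]
    (hM : (Nat.card M).Prime) : ∀ H : Subgroup (G ⧸ M), Cfsg.HasSubgroupOfEveryOrder H := by
  intro Hbar d hd
  set q := Nat.card M with hq
  set H := Hbar.comap (QuotientGroup.mk' M) with hH
  have hHcard : Nat.card H = Nat.card Hbar * q := card_comap_mk' M Hbar
  have hdq : d * q ∣ Nat.card H := by rw [hHcard]; exact Nat.mul_dvd_mul_right hd q
  obtain ⟨U₀, hU₀⟩ := h H (d * q) hdq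
  set U := U₀.map H.subtype with hU
  have hUH : U ≤ H := Subgroup.map_subtype_le _
  have hUcard : Nat.card U = d * q := by rw [hU, Subgroup.card_subtype, hU₀]
  -- a subgroup `V ≤ H` whose image has order `d`
  have key : ∃ V : Subgroup G, V ≤ H ∧ Nat.card (V.map (QuotientGroup.mk' M)) = d := by
    by_cases hMU : M ≤ U
    · refine ⟨U, hUH, ?_⟩
      have := card_map_mk'_mul_card M U hMU
      rw [hUcard] at this
      exact Nat.eq_of_mul_eq_mul_right hM.pos this
    · have hUM : U ⊓ M = ⊥ := by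
        have hdvd : Nat.card (U ⊓ M : Subgroup G) ∣ q := Subgroup.card_dvd_of_le inf_le_right
        rcases (Nat.dvd_prime hM).1 hdvd with h1 | h1
        · exact Subgroup.card_eq_one.1 h1
        · exfalso
          apply hMU
          have : U ⊓ M = M := Subgroup.eq_of_le_of_card_ge inf_le_right h1.ge
          rw [← this]; exact inf_le_left
      have hdU : d ∣ Nat.card U := by rw [hUcard]; exact dvd_mul_right d q
      obtain ⟨V₀, hV₀⟩ := h U d hdU
      set V := V₀.map U.subtype with hV
      have hVU : V ≤ U := Subgroup.map_subtype_le _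
      have hVcard : Nat.card V = d := by rw [hV, Subgroup.card_subtype, hV₀]
      refine ⟨V, hVU.trans hUH, ?_⟩
      have hVM : M ⊓ V = ⊥ := by
        rw [eq_bot_iff, ← hUM, inf_comm]
        exact inf_le_inf_right _ hVU
      rw [← Subgroup.relIndex_ker, QuotientGroup.ker_mk', ← Subgroup.inf_relIndex_right, hVM,
        Subgroup.relIndex_bot_left, hVcard]
  obtain ⟨V, hVH, hVcard⟩ := key
  have hle : V.map (QuotientGroup.mk' M) ≤ Hbar := by
    rw [Subgroup.map_le_iff_le_comap]
    exact hVH
  exact ⟨(V.map (QuotientGroup.mk' M)).subgroupOf Hbar, by rw [card_subgroupOf_of_le hle, hVcard]⟩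

theorem isSupersolvable_of_clt : ∀ (k : ℕ) (G : Type u) [Group G] [Finite G], Nat.card G = k →
    (∀ H : Subgroup G, Cfsg.HasSubgroupOfEveryOrder H) → Cfsg.IsSupersolvable G := by
  intro k
  induction k using Nat.strong_induction_on with
  | _ k ih =>
  intro G _ _ hk h
  rcases subsingleton_or_nontrivial G with hs | hnt
  · exact isSupersolvable_of_subsingleton
  have hcard1 : Nat.card G ≠ 1 := by
    have := (Finite.one_lt_card_iff_nontrivial (α := G)).2 hnt
    omega
  obtain ⟨q, hq, hqG, hmax⟩ := exists_max_prime_dvd Nat.card_pos.ne' hcard1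
  have hqF := Fact.mk hq
  obtain ⟨Q⟩ : Nonempty (Sylow q G) := inferInstance
  have hQn : (Q : Subgroup G).Normal := normal_sylow_of_clt _ G rfl h q hqG hmax Q
  have hQne : (Q : Subgroup G) ≠ ⊥ := Q.ne_bot_of_dvd_card hqG
  -- the centre of `Q`
  set Z := (Subgroup.center (Q : Subgroup G)).map (Q : Subgroup G).subtype with hZ
  have hZn : Z.Normal := ConjAct.normal_of_characteristic_of_normal
  have hZQ : Z ≤ (Q : Subgroup G) := Subgroup.map_subtype_le _
  have hQnt : Nontrivial (Q : Subgroup G) := (Subgroup.nontrivial_iff_ne_bot _).2 hQne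
  have hZne : Z ≠ ⊥ := by
    have hcn : Nontrivial (Subgroup.center (Q : Subgroup G)) := Q.2.center_nontrivial
    intro hbot
    obtain ⟨z, hz⟩ := exists_ne (1 : Subgroup.center (Q : Subgroup G))
    have : ((z : (Q : Subgroup G)) : G) ∈ Z := Subgroup.mem_map_of_mem _ z.2
    rw [hbot, Subgroup.mem_bot] at this
    apply hz
    apply Subtype.ext
    apply Subtype.ext
    exact this
  have hZp : IsPGroup q Z := Q.2.to_le hZQ
  have hQZ : (Q : Subgroup G) ≤ Subgroup.centralizer (Z : Set G) := by
    intro x hx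
    rw [Subgroup.mem_centralizer_iff]
    intro z hz
    obtain ⟨z', hz', rfl⟩ := Subgroup.mem_map.1 hz
    have := Subgroup.mem_center_iff.1 hz' ⟨x, hx⟩
    exact (congrArg Subtype.val this).symm
  have hZc : Z ≤ Subgroup.centralizer (Z : Set G) := hZQ.trans hQZ
  -- a complement
  obtain ⟨K, hK⟩ := Subgroup.exists_right_complement'_of_coprime Q.card_coprime_index
  have hKcard : Nat.card K = (Q : Subgroup G).index := hK.symm.index_eq_card.symm
  have hKq : (Nat.card K).Coprime q := by
    rw [hKcard]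
    have := Q.card_coprime_index
    obtain ⟨n, hn⟩ := IsPGroup.iff_card.1 Q.2
    have hn0 : n ≠ 0 := by
      rintro rfl
      rw [pow_zero] at hn
      exact hQne (Subgroup.card_eq_one.1 hn)
    rw [hn] at this
    exact ((Nat.coprime_pow_left_iff (Nat.pos_of_ne_zero hn0) _ _).1 this).symm
  obtain ⟨n, hn⟩ := IsPGroup.iff_card.1 hZp
  have hn0 : n ≠ 0 := by
    rintro rfl
    rw [pow_zero] at hn
    exact hZne (Subgroup.card_eq_one.1 hn)
  have hKZ : K ⊓ Z = ⊥ := by
    apply inf_eq_bot_of_coprime_card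
    rw [hn]
    exact Nat.Coprime.pow_right _ hKq
  set H := K ⊔ Z with hH
  have hHcard : Nat.card H = Nat.card K * Nat.card Z := card_sup_of_disjoint_normal K Z hKZ
  have hdvd : q * Nat.card K ∣ Nat.card H := by
    rw [hHcard, mul_comm]
    apply Nat.mul_dvd_mul_left
    rw [hn]; exact dvd_pow_self q hn0
  obtain ⟨U₀, hU₀⟩ := h H _ hdvd
  set U := U₀.map H.subtype with hU
  have hUH : U ≤ H := Subgroup.map_subtype_le _
  have hUcard : Nat.card U = q * Nat.card K := by rw [hU, Subgroup.card_subtype, hU₀]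
  have hUZ : U ≤ Subgroup.normalizer (Z : Set G) := by
    rw [Subgroup.normalizer_eq_top]; exact le_top
  have hprod := card_sup_mul_card_inf hUZ
  -- `|Z ⊓ U| = q`
  have hZUp : IsPGroup q (Z ⊓ U : Subgroup G) := hZp.to_le inf_le_left
  obtain ⟨j, hj⟩ := IsPGroup.iff_card.1 hZUp
  have hj1 : j ≤ 1 := by
    have h1 : q ^ j ∣ q * Nat.card K := by
      rw [← hj, ← hUcard]; exact Subgroup.card_dvd_of_le inf_le_right
    have h2 : (q ^ j).Coprime (Nat.card K) := Nat.Coprime.pow_left _ hKq.symm
    have h3 : q ^ j ∣ q := h2.dvd_of_dvd_mul_right h1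
    have h4 : q ^ j ∣ q ^ 1 := by rwa [pow_one]
    exact (Nat.pow_dvd_pow_iff_le_right hq.one_lt).1 h4
  have hsupH : Z ⊔ U ≤ H := sup_le le_sup_right hUH
  have hsupcard : Nat.card (Z ⊔ U : Subgroup G) ≤ Nat.card K * Nat.card Z := by
    rw [← hHcard]; exact Subgroup.card_le_of_le hsupH
  have hj0 : j ≠ 0 := by
    rintro rfl
    rw [pow_zero] at hj
    rw [hj, mul_one, hUcard] at hprod
    have hZpos : 0 < Nat.card Z := Nat.card_pos
    have hKpos : 0 < Nat.card K := Nat.card_pos
    have : Nat.card K * Nat.card Z < Nat.card Z * (q * Nat.card K) := by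
      have := hq.two_le
      nlinarith
    omega
  have hj' : j = 1 := by omega
  rw [hj', pow_one] at hj
  have hsupeq : Z ⊔ U = H := by
    apply Subgroup.eq_of_le_of_card_ge hsupH
    rw [hHcard]
    rw [hj, hUcard] at hprod
    have : Nat.card (Z ⊔ U : Subgroup G) * q = Nat.card K * Nat.card Z * q := by
      rw [hprod]; ring
    exact (Nat.eq_of_mul_eq_mul_right hq.pos this).ge
  set M₁ := Z ⊓ U with hM₁
  have hM₁Z : M₁ ≤ Z := inf_le_left
  have hcentM : Subgroup.centralizer (Z : Set G) ≤ Subgroup.normalizer (M₁ : Set G) :=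
    (Subgroup.centralizer_le hM₁Z).trans (Subgroup.centralizer_le_normalizer _)
  have hUM₁ : U ≤ Subgroup.normalizer (M₁ : Set G) := le_normalizer_inf hUZ Subgroup.le_normalizer
  have hHM₁ : H ≤ Subgroup.normalizer (M₁ : Set G) := by
    rw [← hsupeq]
    exact sup_le (hZc.trans hcentM) hUM₁
  have hM₁n : M₁.Normal := by
    apply Subgroup.normalizer_eq_top_iff.1
    rw [eq_top_iff, ← hK.sup_eq_top]
    exact sup_le (hQZ.trans hcentM) (le_sup_left.trans hHM₁)
  have hM₁prime : (Nat.card M₁).Prime := by rw [hj]; exact hq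
  have hM₁F : Fact (Nat.card M₁).Prime := ⟨hM₁prime⟩
  have hM₁cyc : IsCyclic M₁ := isCyclic_of_prime_card rfl
  have hM₁ne : M₁ ≠ ⊥ := by
    intro hb
    rw [hb, Subgroup.card_bot] at hM₁prime
    exact Nat.not_prime_one hM₁prime
  have hlt : Nat.card (G ⧸ M₁) < k := by rw [← hk]; exact card_quotient_lt M₁ hM₁ne
  have hquot := ih _ hlt (G ⧸ M₁) rfl (clt_hereditary_quotient_prime h M₁ hM₁prime)
  exact isSupersolvable_of_cyclic_normal M₁ hquot

end Cfsg.Agent.Helper1
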