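import Mathlib
import Cfsg.Agent.Helper1.NilpCoprime

set_option autoImplicit false

/-!
Nilpotent groups whose Sylow subgroups are cyclic or generalized quaternion.
-/

namespace Cfsg.Agent.Helper1

universe u

/-- A finite nilpotent group whose Sylow subgroups are cyclic or generalized quaternion is cyclic
or the commuting product of a cyclic group of odd order and a generalized quaternion group. -/
theorem nilpotent_cyclic_or_quaternion_sylow {E : Type u} [Group E] [Finite E]
    (hnil : Group.IsNilpotent E)
    (hS : ∀ (p : ℕ) [Fact p.Prime] (P : Sylow p E),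
      IsCyclic P ∨ ∃ n : ℕ, Nonempty (P ≃* QuaternionGroup (2 ^ n))) :
    IsCyclic E ∨ ∃ C Q : Subgroup E, C ⊔ Q = ⊤ ∧ (∀ a ∈ C, ∀ b ∈ Q, a * b = b * a) ∧
      IsCyclic C ∧ Odd (Nat.card C) ∧ ∃ n : ℕ, Nonempty (Q ≃* QuaternionGroup (2 ^ n)) := by
  by_cases h : ∀ (p : ℕ) [Fact p.Prime] (P : Sylow p E), IsCyclic P
  · left
    haveI : IsZGroup E := ⟨fun p hp P => by haveI := Fact.mk hp; exact h p P⟩
    infer_instance
  · right
    push Not at h
    obtain ⟨r, hr, R, hRc⟩ := h
    obtain ⟨n, ⟨e⟩⟩ := (hS r R).resolve_left hRc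
    have hcardQ : ∀ (X : Type u) [Group X] (m : ℕ), Nonempty (X ≃* QuaternionGroup (2 ^ m)) →
        Nat.card X = 2 ^ (m + 2) := by
      intro X _ m ⟨e'⟩
      haveI : NeZero (2 ^ m) := ⟨pow_ne_zero _ (by norm_num)⟩
      rw [Nat.card_congr e'.toEquiv, Nat.card_eq_fintype_card, QuaternionGroup.card]
      ring
    have hcardR : Nat.card (R : Subgroup E) = 2 ^ (n + 2) := hcardQ _ n ⟨e⟩
    have heq2 : ∀ (s : ℕ), s.Prime → ∀ k m : ℕ, s ^ k = 2 ^ (m + 2) → s = 2 := by
      intro s hs k m hkm
      have hk0 : k ≠ 0 := by
        rintro rfl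
        rw [pow_zero] at hkm
        have : 1 < 2 ^ (m + 2) := Nat.one_lt_two_pow (by omega)
        omega
      have h1 : s ∣ 2 ^ (m + 2) := by
        rw [← hkm]
        exact dvd_pow_self s hk0
      exact (Nat.prime_dvd_prime_iff_eq hs Nat.prime_two).1 (hs.dvd_of_dvd_pow h1)
    have hr2 : r = 2 := by
      obtain ⟨k, hk⟩ := IsPGroup.iff_card.1 R.2
      exact heq2 r hr.out k n (by rw [← hk, hcardR])
    have hall := ((Group.isNilpotent_of_finite_tfae (G := E)).out 0 3).1 hnil
    have hRn : (R : Subgroup E).Normal := hall r hr R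
    obtain ⟨N, hN⟩ := Subgroup.exists_right_complement'_of_coprime (R.card_coprime_index)
    have hNcard : Nat.card N = (R : Subgroup E).index := (hN.symm.index_eq_card).symm
    have hcop : (Nat.card N).Coprime (Nat.card (R : Subgroup E)) := by
      rw [hNcard]
      exact R.card_coprime_index.symm
    have hNodd : Odd (Nat.card N) := by
      rw [← Nat.coprime_two_right]
      rw [hcardR] at hcop
      exact Nat.Coprime.coprime_dvd_right (dvd_pow_self 2 (by omega)) hcop
    refine ⟨N, R, ?_, ?_, ?_, hNodd, n, ⟨e⟩⟩
    · rw [sup_comm]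
      exact hN.sup_eq_top
    · intro a ha b hb
      apply commute_of_coprime_orderOf
      exact Nat.Coprime.of_dvd (Subgroup.orderOf_dvd_natCard N ha)
        (Subgroup.orderOf_dvd_natCard _ hb) hcop
    · haveI hNnil : Group.IsNilpotent N := Subgroup.isNilpotent N
      haveI : IsZGroup N := by
        refine ⟨fun s hs S => ?_⟩
        haveI := Fact.mk hs
        have hT : IsPGroup s ((S : Subgroup N).map N.subtype) := S.2.map _
        obtain ⟨S', hS'⟩ := hT.exists_le_sylow
        rcases hS s S' with hc | ⟨m, hm⟩
        · have h1 : IsCyclic (((S : Subgroup N).map N.subtype).subgroupOf (S' : Subgroup E)) :=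
            Subgroup.isCyclic _
          have e1 : ((S : Subgroup N).map N.subtype).subgroupOf (S' : Subgroup E) ≃*
              ((S : Subgroup N).map N.subtype) := Subgroup.subgroupOfEquivOfLe hS'
          have e2 : (S : Subgroup N) ≃* ((S : Subgroup N).map N.subtype) :=
            Subgroup.equivMapOfInjective _ _ N.subtype_injective
          exact isCyclic_of_surjective (e1.trans e2.symm) (e1.trans e2.symm).surjective
        · have hs2 : s = 2 := by
            obtain ⟨k, hk⟩ := IsPGroup.iff_card.1 S'.2
            exact heq2 s hs k m (by rw [← hk, hcardQ _ m hm])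
          subst hs2
          obtain ⟨k, hk⟩ := IsPGroup.iff_card.1 S.2
          have hdvd : Nat.card (S : Subgroup N) ∣ Nat.card N := Subgroup.card_subgroup_dvd_card _
          have hk0 : k = 0 := by
            by_contra hk0
            have h2 : 2 ∣ Nat.card N := by
              refine dvd_trans ?_ hdvd
              rw [hk]
              exact dvd_pow_self 2 hk0
            rw [← Nat.not_even_iff_odd] at hNodd
            exact hNodd (even_iff_two_dvd.2 h2)
          rw [hk0, pow_zero] at hk
          haveI : Subsingleton (S : Subgroup N) := (Nat.card_eq_one_iff_unique.1 hk).1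
          infer_instance
      infer_instance

end Cfsg.Agent.Helper1
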