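import Mathlib
import Cfsg.Prelude.Def_LieExceptional
import Cfsg.Prelude.Def_OddOrderLocal
import Cfsg.Agent.Helper1.Basic
import Cfsg.Agent.Helper1.Coprime
import Cfsg.Agent.Helper1.CNGroup3
import Cfsg.Agent.Helper1.CNSolvB
import Cfsg.Agent.Helper5.PGroupCenter

set_option autoImplicit false

/-!
Solvable CN-groups: coprime action modulo a normal subgroup, and the Frobenius condition modulo
`O_p(G)`.
-/

namespace Cfsg.Agent.Helper1

namespace CNSolv

open Cfsg
open scoped Pointwise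

universe u

variable {G : Type u} [Group G]

/-- coprime action: the preimage of `C_{G/A}(x̄)` is `A C_G(x)` for `A` solvable of order prime to
that of `x`. -/
theorem comap_centralizer_le_of_coprime_card [Finite G] (A : Subgroup G)
    [hAn : A.Normal] (hAsol : Group.IsSolvable A) (x : G)
    (hcop0 : (Nat.card A).Coprime (orderOf x)) :
    (Subgroup.centralizer ({(QuotientGroup.mk x : G ⧸ A)} : Set (G ⧸ A))).comap
        (QuotientGroup.mk' A) ≤ A ⊔ Subgroup.centralizer ({x} : Set G) := by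
  intro g hg
  rw [Subgroup.mem_comap, Subgroup.mem_centralizer_singleton_iff] at hg
  have hg' : (QuotientGroup.mk g : G ⧸ A) * QuotientGroup.mk x = QuotientGroup.mk x *
      QuotientGroup.mk g := hg
  have hcop : (Nat.card A).Coprime (Nat.card (Subgroup.zpowers x)) := by
    rw [Nat.card_zpowers]
    exact hcop0
  have hdisj : A ⊓ Subgroup.zpowers x = ⊥ := inf_eq_bot_of_coprime_card hcop
  have hZA : Subgroup.zpowers x ≤ Subgroup.normalizer (A : Set G) := by
    rw [Subgroup.normalizer_eq_top_iff.2 hAn]; exact le_top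
  have hcomm : ∀ i : ℤ, (QuotientGroup.mk (g * x ^ i * g⁻¹) : G ⧸ A) = QuotientGroup.mk (x ^ i) := by
    intro i
    rw [QuotientGroup.mk_mul, QuotientGroup.mk_mul, QuotientGroup.mk_inv, QuotientGroup.mk_zpow]
    have : Commute (QuotientGroup.mk g : G ⧸ A) (QuotientGroup.mk x) := hg'
    rw [(this.zpow_right i).eq, mul_assoc, mul_inv_cancel, mul_one]
  have hB : MulAut.conj g • Subgroup.zpowers x ≤ A ⊔ Subgroup.zpowers x := by
    intro b hb
    rw [mem_conj_smul] at hb
    obtain ⟨i, hi⟩ := Subgroup.mem_zpowers_iff.1 hb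
    have hb' : b = g * x ^ i * g⁻¹ := by rw [hi]; group
    have h1 : b * (x ^ i)⁻¹ ∈ A := by
      rw [← QuotientGroup.eq_one_iff, QuotientGroup.mk_mul, QuotientGroup.mk_inv, hb', hcomm i,
        mul_inv_cancel]
    have : b = (b * (x ^ i)⁻¹) * x ^ i := by group
    rw [this]
    exact Subgroup.mul_mem _ (Subgroup.mem_sup_left h1)
      (Subgroup.mem_sup_right (Subgroup.zpow_mem _ (Subgroup.mem_zpowers x) i))
  obtain ⟨n, hn, hnZ⟩ := sz_conj_internal A (Subgroup.zpowers x) (MulAut.conj g • Subgroup.zpowers x)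
    hZA hB (card_conj_smul g _) hcop (Or.inl hAsol)
  have h1 : n * x * n⁻¹ ∈ MulAut.conj g • Subgroup.zpowers x := by
    rw [← hnZ, mem_conj_smul]
    have : n⁻¹ * (n * x * n⁻¹) * n = x := by group
    rw [this]; exact Subgroup.mem_zpowers x
  rw [mem_conj_smul] at h1
  have h2 : (g⁻¹ * (n * x * n⁻¹) * g) * x⁻¹ ∈ A := by
    rw [← QuotientGroup.eq_one_iff]
    have hn1 : (QuotientGroup.mk n : G ⧸ A) = 1 := (QuotientGroup.eq_one_iff n).2 hn
    simp only [QuotientGroup.mk_mul, QuotientGroup.mk_inv, hn1, one_mul, inv_one, mul_one]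
    rw [mul_assoc (QuotientGroup.mk g : G ⧸ A)⁻¹, ← hg', ← mul_assoc, inv_mul_cancel, one_mul,
      mul_inv_cancel]
  have h3 : (g⁻¹ * (n * x * n⁻¹) * g) * x⁻¹ ∈ A ⊓ Subgroup.zpowers x :=
    ⟨h2, Subgroup.mul_mem _ h1 (Subgroup.inv_mem _ (Subgroup.mem_zpowers x))⟩
  rw [hdisj, Subgroup.mem_bot] at h3
  have h4 : g⁻¹ * n ∈ Subgroup.centralizer ({x} : Set G) := by
    rw [Subgroup.mem_centralizer_singleton_iff]
    have h5 : g⁻¹ * (n * x * n⁻¹) * g = x := by
      have := congrArg (· * x) h3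
      simpa using this
    have h6 : g⁻¹ * n * x = (g⁻¹ * (n * x * n⁻¹) * g) * (g⁻¹ * n) := by group
    rw [h6, h5]
  have h7 : g = n * (g⁻¹ * n)⁻¹ := by group
  rw [h7]
  exact Subgroup.mul_mem _ (Subgroup.mem_sup_left hn)
    (Subgroup.mem_sup_right (Subgroup.inv_mem _ h4))

/-- A `p`-element centralizes a nonidentity element of a nontrivial normal `p`-subgroup. -/
theorem exists_commute_of_pElement [Finite G] {p : ℕ} [hp : Fact p.Prime] (H : Subgroup G)
    [hHn : H.Normal] (hHp : IsPGroup p H) (hH1 : H ≠ ⊥) (c : G) (hc : ∃ k, orderOf c = p ^ k) :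
    ∃ h ∈ H, h ≠ 1 ∧ c * h = h * c := by
  set D := H ⊔ Subgroup.zpowers c with hD
  have hDp : IsPGroup p D := hHp.to_sup_of_normal_left ((isPGroup_zpowers_iff c).2 hc)
  have hHD : H ≤ D := le_sup_left
  have hcD : c ∈ D := (le_sup_right : Subgroup.zpowers c ≤ D) (Subgroup.mem_zpowers c)
  haveI : (H.subgroupOf D).Normal := Subgroup.Normal.subgroupOf hHn D
  have hne : H.subgroupOf D ≠ ⊥ := by
    intro h0
    rw [Subgroup.subgroupOf_eq_bot, disjoint_iff, inf_eq_left.2 hHD] at h0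
    exact hH1 h0
  obtain ⟨x, hxQ, hx1, hxc⟩ :=
    Cfsg.Agent.Helper5.exists_ne_one_mem_center_of_normal hDp (H.subgroupOf D) hne
  refine ⟨(x : G), Subgroup.mem_subgroupOf.1 hxQ, ?_, ?_⟩
  · intro h
    apply hx1
    exact Subtype.ext h
  · exact congrArg Subtype.val (hxc ⟨c, hcD⟩)

/-- In a CN-group with self-centralizing `H = O_p(G)`: a `p`-element commuting modulo `H` with a
nonidentity `p'`-element lies in `H`. -/
theorem mem_pCore_of_commutator_mem [Finite G] (hCN : Cfsg.IsCNGroup G) {p : ℕ}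
    [hp : Fact p.Prime]
    (hC : Subgroup.centralizer (Cfsg.pCore p G : Set G) ≤ Cfsg.pCore p G)
    (hH1 : Cfsg.pCore p G ≠ ⊥) {a y : G} (ha : (orderOf a).Coprime p) (ha1 : a ≠ 1)
    (hy : ∃ k, orderOf y = p ^ k) (hya : y * a * y⁻¹ * a⁻¹ ∈ Cfsg.pCore p G) :
    y ∈ Cfsg.pCore p G := by
  by_contra hyH
  set H := Cfsg.pCore p G with hH
  have hHp : IsPGroup p H := pCore_isPGroup p
  have hHsol : Group.IsSolvable H := by
    haveI := hHp.isNilpotent
    infer_instance
  have hcopA : (Nat.card H).Coprime (orderOf a) := by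
    obtain ⟨k, hk⟩ := IsPGroup.iff_card.1 hHp
    rw [hk]
    exact Nat.Coprime.pow_left _ ha.symm
  have hmem : y ∈ (Subgroup.centralizer ({(QuotientGroup.mk a : G ⧸ H)} : Set (G ⧸ H))).comap
      (QuotientGroup.mk' H) := by
    rw [Subgroup.mem_comap, Subgroup.mem_centralizer_singleton_iff]
    have h1 : (QuotientGroup.mk (y * a * y⁻¹ * a⁻¹) : G ⧸ H) = 1 :=
      (QuotientGroup.eq_one_iff _).2 hya
    rw [QuotientGroup.mk_mul, QuotientGroup.mk_mul, QuotientGroup.mk_mul, QuotientGroup.mk_inv,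
      QuotientGroup.mk_inv, mul_inv_eq_one, mul_inv_eq_iff_eq_mul] at h1
    exact h1
  have hsup := comap_centralizer_le_of_coprime_card H hHsol a hcopA hmem
  obtain ⟨h, hhH, c, hcC, hhc⟩ := Subgroup.mem_sup_of_normal_left.1 hsup
  have hcy : c = h⁻¹ * y := by rw [← hhc]; group
  have hcH : c ∉ H := by
    intro hc
    apply hyH
    rw [← hhc]
    exact H.mul_mem hhH hc
  have hc1 : c ≠ 1 := fun h0 => hcH (h0 ▸ H.one_mem)
  have hDp : IsPGroup p (H ⊔ Subgroup.zpowers y : Subgroup G) :=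
    hHp.to_sup_of_normal_left ((isPGroup_zpowers_iff y).2 hy)
  have hcD : c ∈ H ⊔ Subgroup.zpowers y := by
    rw [hcy]
    exact Subgroup.mul_mem _ (Subgroup.mem_sup_left (H.inv_mem hhH))
      (Subgroup.mem_sup_right (Subgroup.mem_zpowers y))
  have hcp : ∃ k, orderOf c = p ^ k := exists_orderOf_eq_pow_of_mem_isPGroup hDp hcD
  obtain ⟨h', hh'H, hh'1, hch'⟩ := exists_commute_of_pElement H hHp hH1 c hcp
  rw [Subgroup.mem_centralizer_singleton_iff] at hcC
  have hah' : a * h' = h' * a := by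
    apply commute_of_coprime_orderOf_of_mem (hCN c hc1)
    · rw [Subgroup.mem_centralizer_singleton_iff]
      exact hcC.symm
    · rw [Subgroup.mem_centralizer_singleton_iff]
      exact hch'.symm
    · obtain ⟨k, hk⟩ := exists_orderOf_eq_pow_of_mem_isPGroup hHp hh'H
      rw [hk]
      exact Nat.Coprime.pow_right _ ha
  exact ha1 (eq_one_of_commute_pCore hCN hC ha hh'H hh'1 hah')

/-- The Frobenius condition modulo `O_p(G)`: outside a normal subgroup `M ≥ O_p(G)` of `p`-power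
index, nothing centralizes a nonidentity `p'`-element modulo `O_p(G)`. -/
theorem not_commutator_mem_pCore [Finite G] (hCN : Cfsg.IsCNGroup G) {p : ℕ}
    [hp : Fact p.Prime]
    (hC : Subgroup.centralizer (Cfsg.pCore p G : Set G) ≤ Cfsg.pCore p G)
    (hH1 : Cfsg.pCore p G ≠ ⊥) (M : Subgroup G) [hMn : M.Normal] (hHM : Cfsg.pCore p G ≤ M)
    (hidx : ∃ n : ℕ, M.index = p ^ n) (x : G) (hx : x ∉ M) (a : G)
    (ha : (orderOf a).Coprime p) (ha1 : a ≠ 1) : x * a * x⁻¹ * a⁻¹ ∉ Cfsg.pCore p G := by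
  intro hxa
  apply hx
  apply mem_of_forall_primePow_mem M x
  intro y hy hpp
  set H := Cfsg.pCore p G with hH
  have hcx : Commute (QuotientGroup.mk x : G ⧸ H) (QuotientGroup.mk a) := by
    have h1 : (QuotientGroup.mk (x * a * x⁻¹ * a⁻¹) : G ⧸ H) = 1 :=
      (QuotientGroup.eq_one_iff _).2 hxa
    rw [QuotientGroup.mk_mul, QuotientGroup.mk_mul, QuotientGroup.mk_mul, QuotientGroup.mk_inv,
      QuotientGroup.mk_inv, mul_inv_eq_one, mul_inv_eq_iff_eq_mul] at h1
    exact h1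
  obtain ⟨i, rfl⟩ := Subgroup.mem_zpowers_iff.1 hy
  have hcy : Commute (QuotientGroup.mk (x ^ i) : G ⧸ H) (QuotientGroup.mk a) := by
    rw [QuotientGroup.mk_zpow]
    exact hcx.zpow_left i
  have hya : x ^ i * a * (x ^ i)⁻¹ * a⁻¹ ∈ H := by
    rw [← QuotientGroup.eq_one_iff, QuotientGroup.mk_mul, QuotientGroup.mk_mul,
      QuotientGroup.mk_mul, QuotientGroup.mk_inv, QuotientGroup.mk_inv, mul_inv_eq_one,
      mul_inv_eq_iff_eq_mul]
    exact hcy.eq
  rw [isPrimePow_nat_iff] at hpp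
  obtain ⟨r, k, hr, hk, hrk⟩ := hpp
  by_cases hrp : r = p
  · subst hrp
    exact hHM (mem_pCore_of_commutator_mem hCN hC hH1 ha ha1 ⟨k, hrk.symm⟩ hya)
  · have hle : Subgroup.zpowers (x ^ i) ≤ M := by
      apply le_of_coprime_card_index
      obtain ⟨n, hn⟩ := hidx
      rw [Nat.card_zpowers, hn, ← hrk]
      exact Nat.Coprime.pow _ _ ((Nat.coprime_primes hr hp.out).2 hrp)
    exact hle (Subgroup.mem_zpowers _)

end CNSolv

end Cfsg.Agent.Helper1
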