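import Mathlib
import Cfsg.Prelude.Def_LieExceptional
import Cfsg.Prelude.Def_OddOrderLocal
import Cfsg.Agent.Helper1.Fitting
import Cfsg.Agent.Helper1.Fitting2
import Cfsg.Agent.Helper1.HallHigmanDual
import Cfsg.Agent.Helper3.HHAbA
import Cfsg.Agent.Helper4.SolvPSolv
import Cfsg.Agent.Helper1.FrobComplSylow
import Cfsg.Agent.Helper1.CNSolvA

set_option autoImplicit false

/-!
Solvable groups with an abelian Hall `p'`-subgroup; nilpotent fixed-point-free groups.
-/

namespace Cfsg.Agent.Helper1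

namespace CNSolv

open Cfsg
open scoped Pointwise

universe u

variable {G : Type u} [Group G]

/-- A finite solvable group with an abelian Hall `p'`-subgroup `Q` has `O_p(G) Q` normal. -/
theorem sup_pCore_normal_of_abelian_hall [Finite G] [Group.IsSolvable G] (p : ℕ)
    [hp : Fact p.Prime] (Q : Subgroup G) (hQab : IsMulCommutative Q)
    (hQc : (Nat.card Q).Coprime p) (hQi : ∃ k : ℕ, Q.index = p ^ k) :
    (Q ⊔ Cfsg.pCore p G).Normal := by
  set K := Cfsg.pCore p G with hK
  set π := QuotientGroup.mk' K with hπ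
  have hπs : Function.Surjective π := QuotientGroup.mk'_surjective _
  have hsolv : Group.IsSolvable (G ⧸ K) := Group.isSolvable_of_surjective hπs
  have hps : Cfsg.IsPSolvable p (G ⧸ K) :=
    Cfsg.Agent.Helper4.SolvPSolv.isPSolvable_of_isSolvable p hsolv
  have h1 := centralizer_pPrimeCore_le_of_isPSolvable hps
    (Cfsg.Agent.Helper3.HHAb.pCore_quotient_pCore p)
  set N := Cfsg.pPrimeCore p (G ⧸ K) with hN
  haveI hNn : N.Normal := pPrimeCore_normal p
  have hcomm : IsMulCommutative (Q.map π) := inferInstance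
  have hNle : N ≤ Q.map π := by
    have hT : (Nat.card (Q.map π ⊔ N : Subgroup (G ⧸ K))).Coprime p := by
      apply Nat.Coprime.coprime_dvd_left (card_sup_dvd (Q.map π) N)
      apply Nat.Coprime.mul_left
      · exact Nat.Coprime.coprime_dvd_left (Subgroup.card_map_dvd Q π) hQc
      · exact card_pPrimeCore_coprime p
    have hle : Q.map π ≤ Q.map π ⊔ N := le_sup_left
    obtain ⟨k, hk⟩ := hQi
    have hd1 : (Q.map π).relIndex (Q.map π ⊔ N) ∣ p ^ k := by
      rw [← hk]
      exact (Subgroup.relIndex_dvd_index_of_le hle).trans (Subgroup.index_map_dvd Q hπs)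
    have hd2 : (Q.map π).relIndex (Q.map π ⊔ N) ∣ Nat.card (Q.map π ⊔ N : Subgroup (G ⧸ K)) :=
      Subgroup.relIndex_dvd_card _ _
    have h1' : (Q.map π).relIndex (Q.map π ⊔ N) = 1 :=
      Nat.eq_one_of_dvd_coprimes (Nat.Coprime.pow_right k hT) hd2 hd1
    exact le_sup_right.trans (Subgroup.relIndex_eq_one.1 h1')
  have hle2 : Q.map π ≤ N := by
    have h2 : Q.map π ≤ Subgroup.centralizer ((Q.map π : Subgroup (G ⧸ K)) : Set (G ⧸ K)) :=
      Subgroup.le_centralizer_iff_isMulCommutative.2 hcomm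
    exact h2.trans ((Subgroup.centralizer_le hNle).trans h1)
  have heq : Q.map π = N := le_antisymm hle2 hNle
  have hnorm : (Q.map π).Normal := by rw [heq]; infer_instance
  have h3 : (Q.map π).comap π = Q ⊔ K := by
    rw [Subgroup.comap_map_eq, hπ, QuotientGroup.ker_mk']
  rw [← h3]
  exact hnorm.comap π

/-- A nilpotent group acting fixed-point-freely is cyclic or the commuting product of a cyclic
group of odd order and a generalized quaternion group. -/
theorem fpf_nilpotent_structure [Finite G] (K E : Subgroup G) [K.Normal] (hK : K ≠ ⊥)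
    (hfpf : ∀ e ∈ E, e ≠ 1 → K ⊓ Subgroup.centralizer {e} = ⊥)
    (hEnil : Group.IsNilpotent E) :
    IsCyclic E ∨ ∃ C Q : Subgroup G, C ⊔ Q = E ∧ (∀ a ∈ C, ∀ b ∈ Q, a * b = b * a) ∧
      IsCyclic C ∧ Odd (Nat.card C) ∧ ∃ n : ℕ, Nonempty (↥Q ≃* QuaternionGroup (2 ^ n)) := by
  rcases nilpotent_cyclic_or_quaternion_sylow hEnil
    (fun p _ P => frobenius_complement_sylow K E hK hfpf p P) with h | ⟨C, Q, hsup, hcomm, hC, hodd, n, ⟨e⟩⟩
  · exact Or.inl h
  · right
    have eC : C ≃* C.map E.subtype := Subgroup.equivMapOfInjective C _ E.subtype_injective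
    have eQ : Q ≃* Q.map E.subtype := Subgroup.equivMapOfInjective Q _ E.subtype_injective
    refine ⟨C.map E.subtype, Q.map E.subtype, ?_, ?_, ?_, ?_, n, ⟨eQ.symm.trans e⟩⟩
    · rw [← Subgroup.map_sup, hsup, ← MonoidHom.range_eq_map, Subgroup.range_subtype]
    · rintro _ ⟨a, ha, rfl⟩ _ ⟨b, hb, rfl⟩
      exact congrArg Subtype.val (hcomm a ha b hb)
    · exact isCyclic_of_surjective eC eC.surjective
    · rw [← Nat.card_congr eC.toEquiv]
      exact hodd

/-- A nilpotent group of odd order acting fixed-point-freely is cyclic. -/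
theorem fpf_nilpotent_odd_isCyclic [Finite G] (K E : Subgroup G) [K.Normal] (hK : K ≠ ⊥)
    (hfpf : ∀ e ∈ E, e ≠ 1 → K ⊓ Subgroup.centralizer {e} = ⊥)
    (hEnil : Group.IsNilpotent E) (hodd : Odd (Nat.card E)) : IsCyclic E := by
  rcases fpf_nilpotent_structure K E hK hfpf hEnil with h | ⟨C, Q, hsup, -, -, -, n, ⟨e⟩⟩
  · exact h
  · exfalso
    have hQE : Q ≤ E := by rw [← hsup]; exact le_sup_right
    haveI : NeZero (2 ^ n) := ⟨pow_ne_zero _ (by norm_num)⟩
    have h1 : Nat.card Q = 4 * 2 ^ n := by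
      rw [Nat.card_congr e.toEquiv, Nat.card_eq_fintype_card, QuaternionGroup.card]
    have h2 : 2 ∣ Nat.card E := by
      refine dvd_trans ?_ (Subgroup.card_dvd_of_le hQE)
      rw [h1]
      exact ⟨2 * 2 ^ n, by ring⟩
    rw [← Nat.not_even_iff_odd] at hodd
    exact hodd (even_iff_two_dvd.2 h2)

end CNSolv

end Cfsg.Agent.Helper1
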