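import Mathlib
import Cfsg.Prelude.Def_LieExceptional
import Cfsg.Prelude.Def_OddOrderLocal
import Cfsg.Agent.Helper1.FrobEven
import Cfsg.Agent.Helper1.CNQuotient
import Cfsg.Agent.Helper1.CNSolvB
import Cfsg.Agent.Helper1.CNSolvC
import Cfsg.Agent.Helper1.CNSolvD

set_option autoImplicit false

/-!
Solvable CN-groups: the Hall `p'`-subgroup has odd order.
-/

namespace Cfsg.Agent.Helper1

namespace CNSolv

open Cfsg
open scoped Pointwise

universe u

variable {G : Type u} [Group G]

/-- If `G / N` is nilpotent for a normal `p`-subgroup `N` then the Sylow `p`-subgroups of `G` are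
normal. -/
theorem sylow_normal_of_quotient_nilpotent [Finite G] {p : ℕ} [hp : Fact p.Prime] (N : Subgroup G)
    [hNn : N.Normal] (hNp : IsPGroup p N) (hnil : Group.IsNilpotent (G ⧸ N)) (P : Sylow p G) :
    (P : Subgroup G).Normal := by
  set π := QuotientGroup.mk' N with hπ
  have hπs : Function.Surjective π := QuotientGroup.mk'_surjective _
  have hall := ((Group.isNilpotent_of_finite_tfae (G := G ⧸ N)).out 0 3).1 hnil
  have h1 : ((P.mapSurjective hπs : Sylow p (G ⧸ N)) : Subgroup (G ⧸ N)).Normal :=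
    hall p hp (P.mapSurjective hπs)
  have h2 : ((P.mapSurjective hπs : Sylow p (G ⧸ N)) : Subgroup (G ⧸ N)) =
      (P : Subgroup G).map π := rfl
  rw [h2] at h1
  have hNP : N ≤ P := hNp.le_sylow_of_normal P
  have h3 : ((P : Subgroup G).map π).comap π = (P : Subgroup G) := by
    rw [Subgroup.comap_map_eq, hπ, QuotientGroup.ker_mk', sup_eq_left.2 hNP]
  rw [← h3]
  exact h1.comap π

/-- In a solvable CN-group with self-centralizing `O_p(G)`, `p` odd, and non-normal Sylow
`p`-subgroups, there are no involutions. -/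
theorem no_involution [Finite G] (hCN : Cfsg.IsCNGroup G) {p : ℕ} [hp : Fact p.Prime]
    (hp2 : p ≠ 2)
    (hC : Subgroup.centralizer (Cfsg.pCore p G : Set G) ≤ Cfsg.pCore p G)
    (hH1 : Cfsg.pCore p G ≠ ⊥)
    (hns : ∀ S : Sylow p G, (S : Subgroup G).Normal → (S : Subgroup G) = ⊥)
    (t : G) (ht : orderOf t = 2) : False := by
  set H := Cfsg.pCore p G with hH
  have hHp : IsPGroup p H := pCore_isPGroup p
  have hcop2 : (2 : ℕ).Coprime p := (Nat.coprime_primes Nat.prime_two hp.out).2 (Ne.symm hp2)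
  have hinv : ∀ s : G, orderOf s = 2 → ∀ k ∈ H, s * k * s⁻¹ = k⁻¹ := by
    intro s hs
    apply involution_inverts_of_fpf H s hs
    rw [eq_bot_iff]
    rintro h ⟨hhH, hhc⟩
    rw [Subgroup.mem_bot]
    by_contra hh1
    have hsh : s * h = h * s := (Subgroup.mem_centralizer_singleton_iff.1 hhc).symm
    have hs1 : s = 1 := eq_one_of_commute_pCore hCN hC (by rw [hs]; exact hcop2) hhH hh1 hsh
    rw [hs1, orderOf_one] at hs
    omega
  have htt : t * t = 1 := by
    have := pow_orderOf_eq_one t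
    rwa [ht, sq] at this
  have htinv : t⁻¹ = t := inv_eq_of_mul_eq_one_left htt
  have ht1 : t ≠ 1 := by
    rintro rfl
    rw [orderOf_one] at ht
    omega
  have htH : t ∉ H := by
    intro htH
    exact ht1 (eq_one_of_commute_pCore hCN hC (by rw [ht]; exact hcop2) htH ht1 rfl)
  have hkey : ∀ x : G, t * (x * t * x⁻¹) ∈ H := by
    intro x
    apply hC
    rw [Subgroup.mem_centralizer_iff]
    intro k hk
    have hs : orderOf (x * t * x⁻¹) = 2 := by
      have := (MulAut.conj x).orderOf_eq t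
      rw [MulAut.conj_apply] at this
      rw [this, ht]
    have h1 := hinv _ hs k hk
    have h2 := hinv t ht k⁻¹ (H.inv_mem hk)
    rw [inv_inv] at h2
    have h3 : (t * (x * t * x⁻¹)) * k * (t * (x * t * x⁻¹))⁻¹ = k := by
      have : (t * (x * t * x⁻¹)) * k * (t * (x * t * x⁻¹))⁻¹ =
          t * ((x * t * x⁻¹) * k * (x * t * x⁻¹)⁻¹) * t⁻¹ := by group
      rw [this, h1, h2]
    calc k * (t * (x * t * x⁻¹)) = ((t * (x * t * x⁻¹)) * k * (t * (x * t * x⁻¹))⁻¹) *
          (t * (x * t * x⁻¹)) := by rw [h3]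
      _ = (t * (x * t * x⁻¹)) * k := by group
  set π := QuotientGroup.mk' H with hπ
  have hπs : Function.Surjective π := QuotientGroup.mk'_surjective _
  have hπt1 : π t ≠ 1 := by
    intro h
    exact htH ((QuotientGroup.eq_one_iff t).1 h)
  have hπtt : π t * π t = 1 := by rw [← map_mul, htt, map_one]
  have hcenter : ({π t} : Set (G ⧸ H)) ⊆ Subgroup.center (G ⧸ H) := by
    rw [Set.singleton_subset_iff, SetLike.mem_coe, Subgroup.mem_center_iff]
    intro xb
    obtain ⟨x, rfl⟩ := hπs xb
    have h1 : π (t * (x * t * x⁻¹)) = 1 := (QuotientGroup.eq_one_iff _).2 (hkey x)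
    rw [map_mul, map_mul, map_mul, map_inv] at h1
    have h2 : π x * π t * (π x)⁻¹ = π t := by
      have : π x * π t * (π x)⁻¹ = (π t * π t) * (π x * π t * (π x)⁻¹) := by rw [hπtt, one_mul]
      rw [this, mul_assoc, h1, mul_one]
    calc π x * π t = (π x * π t * (π x)⁻¹) * π x := by group
      _ = π t * π x := by rw [h2]
  have hHsol : Group.IsSolvable H := by
    haveI := hHp.isNilpotent
    infer_instance
  have hCNq : Cfsg.IsCNGroup (G ⧸ H) :=
    CNQuot.cn_quotient_solvable (Nat.card H) G H rfl hCN hHsol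
  have hnil0 := hCNq (π t) hπt1
  rw [Subgroup.centralizer_eq_top_iff_subset.2 hcenter] at hnil0
  have hnil : Group.IsNilpotent (G ⧸ H) :=
    Group.nilpotent_of_mulEquiv (Subgroup.topEquiv : (⊤ : Subgroup (G ⧸ H)) ≃* (G ⧸ H))
  obtain ⟨P⟩ : Nonempty (Sylow p G) := inferInstance
  have hPn := sylow_normal_of_quotient_nilpotent H hHp hnil P
  have hP1 := hns P hPn
  have hle : H ≤ P := pCore_le_sylow P
  rw [hP1] at hle
  exact hH1 (le_bot_iff.1 hle)

end CNSolv

end Cfsg.Agent.Helper1
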