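import Mathlib
import Cfsg.Prelude.Def_LieExceptional
import Cfsg.Prelude.Def_OddOrderLocal
import Cfsg.Agent.Helper1.Hall
import Cfsg.Agent.Helper1.CNFrobenius
import Cfsg.Agent.Helper1.FrobComplCenter
import Cfsg.Agent.Helper1.CNSolvB
import Cfsg.Agent.Helper1.CNSolvC
import Cfsg.Agent.Helper1.CNSolvD
import Cfsg.Agent.Helper1.CNSolvE

set_option autoImplicit false

/-!
The structure of solvable CN-groups: nilpotent, Frobenius with nilpotent complement, or three-step.
-/

namespace Cfsg.Agent.Helper1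

namespace CNSolv

open Cfsg
open scoped Pointwise

universe u

variable {G : Type u} [Group G]

/-- A complement of a normal subgroup with nilpotent quotient is nilpotent. -/
theorem isNilpotent_of_isComplement' {K E : Subgroup G} [K.Normal]
    (hc : Subgroup.IsComplement' K E) (hnil : Group.IsNilpotent (G ⧸ K)) :
    Group.IsNilpotent E := by
  have hdisj : K ⊓ E = ⊥ := disjoint_iff.1 hc.disjoint
  apply Subgroup.isNilpotent_of_ker_le_center ((QuotientGroup.mk' K).comp E.subtype)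
  intro x hx
  rw [MonoidHom.mem_ker, MonoidHom.comp_apply, QuotientGroup.mk'_apply,
    QuotientGroup.eq_one_iff] at hx
  have h1 : (x : G) ∈ K ⊓ E := ⟨hx, x.2⟩
  rw [hdisj, Subgroup.mem_bot] at h1
  have : x = 1 := Subtype.ext h1
  rw [this]
  exact Subgroup.one_mem _

/-- The case of a nontrivial normal Sylow subgroup. -/
theorem structure_of_normal_sylow [Finite G] (hCN : Cfsg.IsCNGroup G)
    (hnn : ¬ Group.IsNilpotent G) (q : ℕ) [Fact q.Prime] (S : Sylow q G)
    (hS1 : (S : Subgroup G) ≠ ⊥) (hSn : (S : Subgroup G).Normal) :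
    ∃ K E : Subgroup G, K.Normal ∧ Subgroup.IsComplement' K E ∧ Cfsg.IsFrobeniusComplement E ∧
      (IsCyclic E ∨ ∃ C Q : Subgroup G, C ⊔ Q = E ∧ (∀ a ∈ C, ∀ b ∈ Q, a * b = b * a) ∧
        IsCyclic C ∧ Odd (Nat.card C) ∧ ∃ n : ℕ, Nonempty (↥Q ≃* QuaternionGroup (2 ^ n))) := by
  obtain ⟨hK1, -, ⟨E, hcompl, hFC, hfpf⟩, hquot⟩ := CNFrob.cn_frobenius hCN hnn q S hS1 hSn
  refine ⟨Cfsg.fittingHall G, E, inferInstance, hcompl, hFC, ?_⟩
  exact fpf_nilpotent_structure (Cfsg.fittingHall G) E hK1 hfpf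
    (isNilpotent_of_isComplement' hcompl hquot)

/-- The case of no nontrivial normal Sylow subgroup. -/
theorem threeStep_of_no_normal_sylow [Finite G] [Group.IsSolvable G] (hCN : Cfsg.IsCNGroup G)
    (hnn : ¬ Group.IsNilpotent G)
    (hns : ∀ (q : ℕ) [Fact q.Prime] (S : Sylow q G), (S : Subgroup G).Normal →
      (S : Subgroup G) = ⊥) :
    ∃ p : ℕ, p.Prime ∧ Cfsg.IsThreeStepGroup p G := by
  obtain ⟨p, hp, hH1, hC⟩ := exists_pCore_self_centralizing hCN hnn hns
  haveI hpF : Fact p.Prime := ⟨hp⟩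
  refine ⟨p, hp, hH1, ?_⟩
  set H := Cfsg.pCore p G with hH
  have hHp : IsPGroup p H := pCore_isPGroup p
  -- the Hall `p'`-subgroup
  obtain ⟨k, m, hpm, hcard⟩ :=
    Nat.exists_eq_pow_mul_and_not_dvd (Nat.card_pos (α := G)).ne' p hp.ne_one
  have hcopm : m.Coprime p := ((Nat.Prime.coprime_iff_not_dvd hp).2 hpm).symm
  have hcard' : Nat.card G = m * p ^ k := by rw [hcard, mul_comm]
  obtain ⟨Q, hQcard, -⟩ := ((hallProp_of_solvable (Nat.card G) G rfl) m (p ^ k) hcard'
    (Nat.Coprime.pow_right k hcopm)).2 ⊥ (by rw [Subgroup.card_bot]; exact Nat.coprime_one_left _)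
  have hQcop : (Nat.card Q).Coprime p := by rw [hQcard]; exact hcopm
  have hm1 : m ≠ 1 := by
    intro hm1
    apply hnn
    rw [hm1, mul_one] at hcard
    exact (IsPGroup.of_card hcard).isNilpotent
  have hQ1 : Q ≠ ⊥ := by
    intro h0
    rw [h0, Subgroup.card_bot] at hQcard
    exact hm1 hQcard.symm
  have hQidx : Q.index = p ^ k := by
    have h1 := Q.card_mul_index
    rw [hQcard, hcard'] at h1
    exact Nat.eq_of_mul_eq_mul_left (Nat.pos_of_ne_zero (by
      rintro rfl
      rw [zero_mul] at hcard'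
      exact (Nat.card_pos (α := G)).ne' hcard')) h1
  have hordQ : ∀ a ∈ Q, (orderOf a).Coprime p := fun a ha =>
    Nat.Coprime.coprime_dvd_left (Subgroup.orderOf_dvd_natCard Q ha) hQcop
  -- fixed-point-free action
  have hfpf : ∀ a ∈ Q, a ≠ 1 → H ⊓ Subgroup.centralizer ({a} : Set G) = ⊥ := by
    intro a ha ha1
    rw [eq_bot_iff]
    rintro h ⟨hhH, hhc⟩
    rw [Subgroup.mem_bot]
    by_contra hh1
    have hah : a * h = h * a := (Subgroup.mem_centralizer_singleton_iff.1 hhc).symm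
    exact ha1 (eq_one_of_commute_pCore hCN hC (hordQ a ha) hhH hh1 hah)
  -- `Q` is nilpotent
  have hZ := frobenius_complement_center_ne_bot H Q hH1 hQ1 hfpf
  obtain ⟨z, hz1⟩ := (Subgroup.ne_bot_iff_exists_ne_one).1 hZ
  have hzQ1 : ((z : Q) : G) ≠ 1 := by
    intro h
    apply hz1
    apply Subtype.ext
    apply Subtype.ext
    exact h
  have hQnil : Group.IsNilpotent Q := by
    refine CNFrob.nilp_of_le ?_ (hCN ((z : Q) : G) hzQ1)
    intro x hx
    rw [Subgroup.mem_centralizer_singleton_iff]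
    have := Subgroup.mem_center_iff.1 z.2 ⟨x, hx⟩
    exact congrArg Subtype.val this
  -- `Q` has odd order
  have hQodd : Odd (Nat.card Q) := by
    by_cases hp2 : p = 2
    · rw [hQcard, ← Nat.coprime_two_right]
      rw [hp2] at hcopm
      exact hcopm
    · rw [← Nat.not_even_iff_odd]
      intro heven
      haveI := Fact.mk Nat.prime_two
      obtain ⟨t, ht⟩ := exists_prime_orderOf_dvd_card' (G := Q) 2 (even_iff_two_dvd.1 heven)
      have ht' : orderOf ((t : Q) : G) = 2 := by rw [Subgroup.orderOf_coe]; exact ht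
      exact no_involution hCN hp2 hC hH1 (fun S => hns p S) (t : G) ht'
  have hQcyc : IsCyclic Q := fpf_nilpotent_odd_isCyclic H Q hH1 hfpf hQnil hQodd
  have hQab : IsMulCommutative Q := inferInstance
  have hnorm : (H ⊔ Q).Normal := by
    rw [sup_comm]
    exact sup_pCore_normal_of_abelian_hall p Q hQab hQcop ⟨k, hQidx⟩
  have hidx : ∃ n : ℕ, (H ⊔ Q).index = p ^ n := by
    have h1 : (H ⊔ Q).index ∣ p ^ k := by
      rw [← hQidx]
      exact Subgroup.index_dvd_of_le le_sup_right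
    obtain ⟨j, -, hj⟩ := (Nat.dvd_prime_pow hp).1 h1
    exact ⟨j, hj⟩
  have htop : H ⊔ Q ≠ ⊤ := by
    intro htop
    -- then `H` has index prime to `p`, so is a Sylow subgroup
    have h1 : H.index ∣ Nat.card Q := by
      have h2 : H.relIndex (Q ⊔ H) = H.relIndex Q := Subgroup.relIndex_sup_right Q H
      rw [sup_comm, htop, Subgroup.relIndex_top_right] at h2
      rw [h2]
      exact Subgroup.relIndex_dvd_card _ _
    have h3 : H.index.Coprime p := Nat.Coprime.coprime_dvd_left h1 hQcop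
    obtain ⟨P⟩ : Nonempty (Sylow p G) := inferInstance
    have hle : H ≤ P := pCore_le_sylow P
    have h4 : H.relIndex P = 1 := by
      have hd1 : H.relIndex P ∣ H.index := Subgroup.relIndex_dvd_index_of_le hle
      have hd2 : H.relIndex P ∣ Nat.card (P : Subgroup G) := Subgroup.relIndex_dvd_card _ _
      obtain ⟨j, hj⟩ := IsPGroup.iff_card.1 P.2
      rw [hj] at hd2
      exact Nat.eq_one_of_dvd_coprimes (Nat.Coprime.pow_right j h3) hd1 hd2
    have h5 : (P : Subgroup G) = H := le_antisymm (Subgroup.relIndex_eq_one.1 h4) hle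
    have hPn : (P : Subgroup G).Normal := by rw [h5]; infer_instance
    have hP1 := hns p P hPn
    rw [hP1] at hle
    exact hH1 (le_bot_iff.1 hle)
  refine ⟨Q, hQ1, hQcyc, hQodd, hQcop, hnorm, htop, hidx, hfpf, ?_⟩
  intro x hx a ha ha1
  exact not_commutator_mem_pCore hCN hC hH1 (H ⊔ Q) le_sup_left hidx x hx a (hordQ a ha) ha1

/-- Solvable CN-groups are nilpotent, Frobenius with nilpotent complement, or three-step groups. -/
theorem solvable_cn_structure [Finite G] [Group.IsSolvable G] (hCN : Cfsg.IsCNGroup G) :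
    Group.IsNilpotent G ∨
      (∃ K E : Subgroup G, K.Normal ∧ Subgroup.IsComplement' K E ∧
        Cfsg.IsFrobeniusComplement E ∧
        (IsCyclic E ∨ ∃ C Q : Subgroup G, C ⊔ Q = E ∧ (∀ a ∈ C, ∀ b ∈ Q, a * b = b * a) ∧
          IsCyclic C ∧ Odd (Nat.card C) ∧
          ∃ n : ℕ, Nonempty (↥Q ≃* QuaternionGroup (2 ^ n)))) ∨
      ∃ p : ℕ, p.Prime ∧ Cfsg.IsThreeStepGroup p G := by
  by_cases hnn : Group.IsNilpotent G
  · exact Or.inl hnn
  right
  by_cases hex : ∃ (q : ℕ) (_ : Fact q.Prime) (S : Sylow q G), (S : Subgroup G).Normal ∧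
      (S : Subgroup G) ≠ ⊥
  · left
    obtain ⟨q, hq, S, hSn, hS1⟩ := hex
    exact structure_of_normal_sylow hCN hnn q S hS1 hSn
  · right
    apply threeStep_of_no_normal_sylow hCN hnn
    intro q hq S hSn
    by_contra hS1
    exact hex ⟨q, hq, S, hSn, hS1⟩

end CNSolv

end Cfsg.Agent.Helper1
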