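import Mathlib

set_option autoImplicit false

/-!
Algebraic core for "cyclic normal subgroups of Sylow `p`-subgroups of `p`-soluble groups":
two transvections generating `SL₂(p)`, power formulas, chain stabilisers.
-/

namespace Cfsg.Agent.Helper1

namespace CZ

/-- Additive `SL₂` core: two "transvections" `U`, `L` on an abelian group with
`U z' = z + z'`, `L z = z - z'` produce `T = U L U` whose square inverts `z` and commutes
with `U`. -/
theorem sl2_core_add {M : Type*} [AddCommGroup M] (U L : M →+ M) (z z' : M)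
    (hU : ∀ v, ∃ n : ℤ, U v = v + n • z) (hL : ∀ v, ∃ n : ℤ, L v = v + n • z')
    (hUz : U z = z) (hUz' : U z' = z + z') (hLz : L z = z - z') (hLz' : L z' = z') :
    (U (L (U (U (L (U z))))) = -z) ∧
      ∀ v, U (L (U (U (L (U (U v)))))) = U (U (L (U (U (L (U v)))))) := by
  have hTz : U (L (U z)) = -z' := by
    rw [hUz, hLz, map_sub, hUz, hUz']; abel
  have hTz' : U (L (U z')) = z := by
    rw [hUz', map_add, hLz, hLz', sub_add_cancel, hUz]
  refine ⟨by rw [hTz, map_neg, map_neg, map_neg, hTz'], ?_⟩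
  intro v
  obtain ⟨n, hn⟩ := hU v
  obtain ⟨m, hm⟩ := hL v
  obtain ⟨u₀, hu₀⟩ : ∃ u₀, u₀ = v - n • z' + m • z := ⟨_, rfl⟩
  have hUu : U u₀ = u₀ := by
    rw [hu₀, map_add, map_sub, map_zsmul, map_zsmul, hn, hUz, hUz', smul_add]; abel
  have hLu : L u₀ = u₀ := by
    rw [hu₀, map_add, map_sub, map_zsmul, map_zsmul, hm, hLz, hLz', smul_sub]; abel
  have hTu : U (L (U u₀)) = u₀ := by rw [hUu, hLu, hUu]
  have hv : v = u₀ + n • z' - m • z := by rw [hu₀]; abel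
  have hT : ∀ x, U (L (U (U (L (U x))))) = (U.comp (L.comp U)) ((U.comp (L.comp U)) x) := fun _ => rfl
  have hTTz : (U.comp (L.comp U)) ((U.comp (L.comp U)) z) = -z := by
    show U (L (U (U (L (U z))))) = -z
    rw [hTz, map_neg, map_neg, map_neg, hTz']
  have hTTz' : (U.comp (L.comp U)) ((U.comp (L.comp U)) z') = -z' := by
    show U (L (U (U (L (U z'))))) = -z'
    rw [hTz', hTz]
  have hTTu : (U.comp (L.comp U)) ((U.comp (L.comp U)) u₀) = u₀ := by
    show U (L (U (U (L (U u₀))))) = u₀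
    rw [hTu, hTu]
  rw [hT, hT]
  rw [hv]
  simp only [map_add, map_sub, map_zsmul, hUu, hUz, hUz', hTTz, hTTz', hTTu, map_neg, smul_add,
    smul_neg]
  abel

/-- Multiplicative version of `sl2_core_add`. -/
theorem sl2_core_mul {M : Type*} [CommGroup M] (U L : M →* M) (z z' : M)
    (hU : ∀ v, ∃ n : ℤ, U v = v * z ^ n) (hL : ∀ v, ∃ n : ℤ, L v = v * z' ^ n)
    (hUz : U z = z) (hUz' : U z' = z * z') (hLz : L z = z / z') (hLz' : L z' = z') :
    (U (L (U (U (L (U z))))) = z⁻¹) ∧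
      ∀ v, U (L (U (U (L (U (U v)))))) = U (U (L (U (U (L (U v)))))) :=
  sl2_core_add (MonoidHom.toAdditive U) (MonoidHom.toAdditive L) (Additive.ofMul z)
    (Additive.ofMul z') hU hL hUz hUz' hLz hLz'

/-- Version for a group with a commutativity hypothesis. -/
theorem sl2_core_mul' {M : Type*} [Group M] (hc : ∀ a b : M, a * b = b * a) (U L : M →* M)
    (z z' : M)
    (hU : ∀ v, ∃ n : ℤ, U v = v * z ^ n) (hL : ∀ v, ∃ n : ℤ, L v = v * z' ^ n)
    (hUz : U z = z) (hUz' : U z' = z * z') (hLz : L z = z * z'⁻¹) (hLz' : L z' = z') :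
    (U (L (U (U (L (U z))))) = z⁻¹) ∧
      ∀ v, U (L (U (U (L (U (U v)))))) = U (U (L (U (U (L (U v)))))) := by
  letI : CommGroup M := { ‹Group M› with mul_comm := hc }
  exact sl2_core_mul U L z z' hU hL hUz hUz' (by rw [hLz, div_eq_mul_inv]) hLz'

/-- The `SL₂` core inside a group `H` with an abelian normal subgroup `V`. -/
theorem sl2_core {H : Type*} [Group H] (V : Subgroup H) [hVn : V.Normal]
    (hVc : ∀ x ∈ V, ∀ y ∈ V, x * y = y * x) (u l z z' : H) (hz : z ∈ V) (hz' : z' ∈ V)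
    (hu : ∀ v ∈ V, ∃ n : ℤ, u * v * u⁻¹ = v * z ^ n)
    (hl : ∀ v ∈ V, ∃ n : ℤ, l * v * l⁻¹ = v * z' ^ n)
    (huz : u * z * u⁻¹ = z) (huz' : u * z' * u⁻¹ = z * z')
    (hlz : l * z * l⁻¹ = z * z'⁻¹) (hlz' : l * z' * l⁻¹ = z') :
    ((u * l * u * (u * l * u)) * z * (u * l * u * (u * l * u))⁻¹ = z⁻¹) ∧
      ∀ v ∈ V, (u * l * u * (u * l * u) * u) * v * (u * l * u * (u * l * u) * u)⁻¹ =
        (u * (u * l * u * (u * l * u))) * v * (u * (u * l * u * (u * l * u)))⁻¹ := by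
  have hc : ∀ a b : ↥V, a * b = b * a := fun a b => Subtype.ext (hVc a a.2 b b.2)
  obtain ⟨U, hUdef⟩ : ∃ U : ↥V →* ↥V, U = (MulAut.conjNormal u : MulAut ↥V).toMonoidHom :=
    ⟨_, rfl⟩
  obtain ⟨L, hLdef⟩ : ∃ L : ↥V →* ↥V, L = (MulAut.conjNormal l : MulAut ↥V).toMonoidHom :=
    ⟨_, rfl⟩
  have hUa : ∀ v : ↥V, ((U v : ↥V) : H) = u * v * u⁻¹ := by
    intro v; rw [hUdef]; exact MulAut.conjNormal_apply u v
  have hLa : ∀ v : ↥V, ((L v : ↥V) : H) = l * v * l⁻¹ := by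
    intro v; rw [hLdef]; exact MulAut.conjNormal_apply l v
  have key := sl2_core_mul' hc U L ⟨z, hz⟩ ⟨z', hz'⟩ ?_ ?_ ?_ ?_ ?_ ?_
  · obtain ⟨k1, k2⟩ := key
    constructor
    · have := congrArg (fun x : ↥V => (x : H)) k1
      simp only [hUa, hLa, Subgroup.coe_inv] at this
      rw [← this]; group
    · intro v hv
      have := congrArg (fun x : ↥V => (x : H)) (k2 ⟨v, hv⟩)
      simp only [hUa, hLa] at this
      have e1 : (u * l * u * (u * l * u) * u) * v * (u * l * u * (u * l * u) * u)⁻¹ =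
          u * (l * (u * (u * (l * (u * (u * v * u⁻¹) * u⁻¹) * l⁻¹) * u⁻¹) * u⁻¹) * l⁻¹) * u⁻¹ := by
        group
      have e2 : (u * (u * l * u * (u * l * u))) * v * (u * (u * l * u * (u * l * u)))⁻¹ =
          u * (u * (l * (u * (u * (l * (u * v * u⁻¹) * l⁻¹) * u⁻¹) * u⁻¹) * l⁻¹) * u⁻¹) * u⁻¹ := by
        group
      rw [e1, e2]; exact this
  · intro v
    obtain ⟨n, hn⟩ := hu v v.2
    refine ⟨n, Subtype.ext ?_⟩
    rw [hUa, hn]; simp
  · intro v
    obtain ⟨n, hn⟩ := hl v v.2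
    refine ⟨n, Subtype.ext ?_⟩
    rw [hLa, hn]; simp
  · apply Subtype.ext; rw [hUa]; exact huz
  · apply Subtype.ext; rw [hUa]; simpa using huz'
  · apply Subtype.ext; rw [hLa]; simpa using hlz
  · apply Subtype.ext; rw [hLa]; exact hlz'

/-- If `g` commutes with `w` and `g v g⁻¹ = w v` then `g ^ k v g ^ (-k) = w ^ k v`. -/
theorem pow_conj {H : Type*} [Group H] {g w v : H} (hw : g * w = w * g)
    (hv : g * v * g⁻¹ = w * v) (k : ℕ) : g ^ k * v * (g ^ k)⁻¹ = w ^ k * v := by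
  induction k with
  | zero => simp
  | succ k ih =>
    have e : g ^ (k + 1) * v * (g ^ (k + 1))⁻¹ = g * (g ^ k * v * (g ^ k)⁻¹) * g⁻¹ := by
      rw [pow_succ']; group
    rw [e, ih]
    have hwk : g * w ^ k = w ^ k * g := (Commute.pow_right (show Commute g w from hw) k)
    calc g * (w ^ k * v) * g⁻¹ = (g * w ^ k) * v * g⁻¹ := by group
      _ = w ^ k * (g * v * g⁻¹) := by rw [hwk]; group
      _ = w ^ k * (w * v) := by rw [hv]
      _ = w ^ (k + 1) * v := by rw [pow_succ]; group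

/-- Power formula in class two. -/
theorem mul_pow_class_two {H : Type*} [Group H] {x y c : H} (hyx : y * x = x * y * c)
    (hcx : c * x = x * c) (hcy : c * y = y * c) (k : ℕ) :
    (x * y) ^ k = x ^ k * y ^ k * c ^ (k.choose 2) := by
  have hyc : Commute y c := (show Commute c y from hcy).symm
  have hykx : ∀ k : ℕ, y ^ k * x = x * y ^ k * c ^ k := by
    intro k
    have h1 : x⁻¹ * y * x = y * c := by rw [mul_assoc, hyx]; group
    have h2 : (x⁻¹ * y * x) ^ k = x⁻¹ * y ^ k * x := by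
      have := conj_pow (a := x⁻¹) (b := y) (i := k)
      rw [inv_inv] at this; exact this
    rw [h1, hyc.mul_pow] at h2
    calc y ^ k * x = x * (x⁻¹ * y ^ k * x) := by group
      _ = x * y ^ k * c ^ k := by rw [← h2]; group
  induction k with
  | zero => simp
  | succ k ih =>
    have hck : Commute (c ^ (k.choose 2)) x := (show Commute c x from hcx).pow_left _
    have hck' : Commute (c ^ (k.choose 2)) y := (show Commute c y from hcy).pow_left _
    have hck2 : Commute (c ^ k) y := (show Commute c y from hcy).pow_left _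
    have hch : (k + 1).choose 2 = k + k.choose 2 := by
      rw [Nat.choose_succ_succ' k 1, Nat.choose_one_right]
    rw [pow_succ (x * y), ih, hch, pow_add c]
    calc x ^ k * y ^ k * c ^ k.choose 2 * (x * y)
        = x ^ k * y ^ k * (c ^ k.choose 2 * x) * y := by group
      _ = x ^ k * y ^ k * (x * c ^ k.choose 2) * y := by rw [hck.eq]
      _ = x ^ k * (y ^ k * x) * (c ^ k.choose 2 * y) := by group
      _ = x ^ k * (x * y ^ k * c ^ k) * (y * c ^ k.choose 2) := by rw [hykx, hck'.eq]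
      _ = x ^ k * x * y ^ k * (c ^ k * y) * c ^ k.choose 2 := by group
      _ = x ^ k * x * y ^ k * (y * c ^ k) * c ^ k.choose 2 := by rw [hck2.eq]
      _ = x ^ (k + 1) * y ^ (k + 1) * (c ^ k * c ^ k.choose 2) := by
        rw [pow_succ, pow_succ]; group

/-- The final contradiction: an element inverting `z = u ^ n` (`p ∣ n`) and commuting with `u`
modulo the abelian normal subgroup `V` of exponent `p` (`p` odd) forces `z = 1`. -/
theorem final_contra {H : Type*} [Group H] {p : ℕ} (hp : p.Prime) (hp2 : p ≠ 2) (V : Subgroup H)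
    (hVc : ∀ x ∈ V, ∀ y ∈ V, x * y = y * x) (hVp : ∀ v ∈ V, v ^ p = 1) (u z i : H) (hz : z ∈ V)
    (hu : ∀ v ∈ V, ∃ n : ℤ, u * v * u⁻¹ = v * z ^ n) (huz : u * z = z * u) (n : ℕ)
    (hn : p ∣ n) (hzn : z = u ^ n) (hiz : i * z * i⁻¹ = z⁻¹) (hiu : i * u * i⁻¹ * u⁻¹ ∈ V) :
    z = 1 := by
  obtain ⟨q, hq⟩ : ∃ q, q = i * u * i⁻¹ * u⁻¹ := ⟨_, rfl⟩
  have hqV : q ∈ V := hq ▸ hiu
  have hqu : i * u * i⁻¹ = q * u := by rw [hq]; group
  obtain ⟨m, hm⟩ := hu q hqV
  obtain ⟨c, hc⟩ : ∃ c, c = z ^ m := ⟨_, rfl⟩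
  rw [← hc] at hm
  have hcV : c ∈ V := hc ▸ V.zpow_mem hz m
  have hcu : c * u = u * c := by
    rw [hc]; exact ((show Commute u z from huz).zpow_right m).symm.eq
  have hcq : c * q = q * c := hVc c hcV q hqV
  have hyx : u * q = q * u * c := by
    calc u * q = (u * q * u⁻¹) * u := by group
      _ = q * c * u := by rw [hm]
      _ = q * (c * u) := by group
      _ = q * u * c := by rw [hcu]; group
  have hpow := mul_pow_class_two hyx hcq hcu p
  have hp3 : 2 < p := lt_of_le_of_ne hp.two_le (Ne.symm hp2)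
  have hdvd : p ∣ p.choose 2 := hp.dvd_choose_self (by norm_num) hp3
  have hcp : c ^ (p.choose 2) = 1 := by
    obtain ⟨t, ht⟩ := hdvd
    rw [ht, pow_mul, hVp c hcV, one_pow]
  rw [hVp q hqV, hcp, one_mul, mul_one] at hpow
  obtain ⟨n₁, rfl⟩ := hn
  have h1 : (q * u) ^ (p * n₁) = z := by rw [pow_mul, hpow, ← pow_mul, ← hzn]
  have h2 : (q * u) ^ (p * n₁) = z⁻¹ := by
    rw [← hqu, conj_pow, ← hzn, hiz]
  have h3 : z * z = 1 := by
    have : z = z⁻¹ := h1.symm.trans h2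
    calc z * z = z * z⁻¹ := by rw [← this]
      _ = 1 := mul_inv_cancel z
  have h4 : orderOf z ∣ 2 := orderOf_dvd_of_pow_eq_one (by rw [pow_two]; exact h3)
  have h5 : orderOf z ∣ p := orderOf_dvd_of_pow_eq_one (hVp z hz)
  have h6 : orderOf z ∣ Nat.gcd 2 p := Nat.dvd_gcd h4 h5
  have h7 : Nat.gcd 2 p = 1 := by
    rw [← Nat.coprime_iff_gcd_eq_one, Nat.coprime_primes Nat.prime_two hp]
    exact fun h => hp2 h.symm
  rw [h7, Nat.dvd_one] at h6
  exact orderOf_eq_one_iff.1 h6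

section stab

variable {H : Type*} [Group H]

/-- `g` moves `B` into `A` via commutators. -/
def Tr (A B : Subgroup H) (g : H) : Prop := ∀ v ∈ B, g * v * g⁻¹ * v⁻¹ ∈ A

theorem Tr.conj_mem {A' A : Subgroup H} (hA : A' ≤ A) {g : H} (hg : Tr A' A g) :
    ∀ w ∈ A, g * w * g⁻¹ ∈ A := by
  intro w hw
  have : g * w * g⁻¹ = (g * w * g⁻¹ * w⁻¹) * w := by group
  rw [this]; exact A.mul_mem (hA (hg w hw)) hw

theorem Tr.mul {A B : Subgroup H} {g h : H} (hgA : ∀ w ∈ A, g * w * g⁻¹ ∈ A) (hg : Tr A B g)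
    (hh : Tr A B h) : Tr A B (g * h) := by
  intro v hv
  have : g * h * v * (g * h)⁻¹ * v⁻¹ =
      (g * (h * v * h⁻¹ * v⁻¹) * g⁻¹) * (g * v * g⁻¹ * v⁻¹) := by group
  rw [this]; exact A.mul_mem (hgA _ (hh v hv)) (hg v hv)

theorem Tr.one (A B : Subgroup H) : Tr A B 1 := by
  intro v _
  have : (1 : H) * v * 1⁻¹ * v⁻¹ = 1 := by group
  rw [this]; exact A.one_mem

/-- The submonoid stabilising the chain `1 ≤ A₁ ≤ A₂ ≤ A₃`. -/
def chainStabM (A₁ A₂ A₃ : Subgroup H) (h12 : A₁ ≤ A₂) : Submonoid H where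
  carrier := {g | Tr A₂ A₃ g ∧ Tr A₁ A₂ g ∧ Tr ⊥ A₁ g}
  mul_mem' := by
    rintro g h ⟨g1, g2, g3⟩ ⟨h1, h2, h3⟩
    refine ⟨Tr.mul (Tr.conj_mem h12 g2) g1 h1, Tr.mul (Tr.conj_mem bot_le g3) g2 h2,
      Tr.mul ?_ g3 h3⟩
    intro w hw
    rw [Subgroup.mem_bot] at hw
    rw [hw, Subgroup.mem_bot]; group
  one_mem' := ⟨Tr.one _ _, Tr.one _ _, Tr.one _ _⟩

/-- The subgroup stabilising the chain `1 ≤ A₁ ≤ A₂ ≤ A₃`. -/
def chainStab [Finite H] (A₁ A₂ A₃ : Subgroup H) (h12 : A₁ ≤ A₂) : Subgroup H :=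
  { chainStabM A₁ A₂ A₃ h12 with
    inv_mem' := by
      intro g hg
      have h1 : g ^ (orderOf g - 1) * g = 1 := by
        rw [← pow_succ, Nat.sub_add_cancel (orderOf_pos g), pow_orderOf_eq_one]
      have h2 : g⁻¹ = g ^ (orderOf g - 1) := (eq_inv_of_mul_eq_one_left h1).symm
      rw [h2]
      exact (chainStabM A₁ A₂ A₃ h12).pow_mem hg _ }

theorem mem_chainStab [Finite H] {A₁ A₂ A₃ : Subgroup H} {h12 : A₁ ≤ A₂} {g : H} :
    g ∈ chainStab A₁ A₂ A₃ h12 ↔ Tr A₂ A₃ g ∧ Tr A₁ A₂ g ∧ Tr ⊥ A₁ g := Iff.rfl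

theorem chainStab_pow_mem_centralizer [Finite H] {p : ℕ} {A₁ A₂ A₃ : Subgroup H} {h12 : A₁ ≤ A₂}
    (h1p : ∀ w ∈ A₁, w ^ p = 1) (h2p : ∀ w ∈ A₂, w ^ p = 1) {g : H}
    (hg : g ∈ chainStab A₁ A₂ A₃ h12) : (g ^ p) ^ p ∈ Subgroup.centralizer (A₃ : Set H) := by
  have key : ∀ (A B : Subgroup H) (x : H), (∀ w ∈ A, w ^ p = 1) → Tr A B x →
      (∀ w ∈ A, x * w = w * x) → ∀ v ∈ B, x ^ p * v = v * x ^ p := by
    intro A B x hAp hx hxA v hv
    have h1 := hx v hv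
    have h2 : x * v * x⁻¹ = (x * v * x⁻¹ * v⁻¹) * v := by group
    have h3 := pow_conj (hxA _ h1) h2 p
    rw [hAp _ h1, one_mul] at h3
    calc x ^ p * v = (x ^ p * v * (x ^ p)⁻¹) * x ^ p := by group
      _ = v * x ^ p := by rw [h3]
  have hgp : g ^ p ∈ chainStab A₁ A₂ A₃ h12 := Subgroup.pow_mem _ hg p
  obtain ⟨g1, g2, g3⟩ := mem_chainStab.1 hg
  obtain ⟨k1, k2, k3⟩ := mem_chainStab.1 hgp
  have s0 : ∀ w ∈ A₁, g * w = w * g := by
    intro w hw
    have := g3 w hw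
    rw [Subgroup.mem_bot] at this
    calc g * w = (g * w * g⁻¹ * w⁻¹) * w * g := by group
      _ = w * g := by rw [this, one_mul]
  have s1 : ∀ v ∈ A₂, g ^ p * v = v * g ^ p := key A₁ A₂ g h1p g2 s0
  have s2 : ∀ v ∈ A₃, (g ^ p) ^ p * v = v * (g ^ p) ^ p := key A₂ A₃ (g ^ p) h2p k1 s1
  rw [Subgroup.mem_centralizer_iff]
  intro v hv
  exact (s2 v hv).symm

end stab

end CZ

end Cfsg.Agent.Helper1
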