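import Mathlib
import Cfsg.Prelude.Def_LocalEven
import Cfsg.Agent.Helper1.TNb
import Cfsg.Agent.Helper1.Coprime
import Cfsg.Agent.Helper1.AbelianAct
import Cfsg.Agent.Lead.InvolvesLemmas

set_option autoImplicit false

/-!
A four-group on which a group induces the full automorphism group, with a `2`-group as kernel,
yields a section isomorphic to `S₄`.
-/

namespace Cfsg.Agent.Helper1

namespace TN

open scoped Pointwise

universe u

variable {G : Type u} [Group G]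

/-- exponent two implies commutative -/
theorem comm_of_sq {U : Subgroup G} (hU2 : ∀ u ∈ U, u * u = 1) :
    ∀ a ∈ U, ∀ b ∈ U, a * b = b * a := by
  intro a ha b hb
  have h1 := hU2 (a * b) (U.mul_mem ha hb)
  have hainv : a⁻¹ = a := inv_eq_of_mul_eq_one_left (hU2 a ha)
  have hbinv : b⁻¹ = b := inv_eq_of_mul_eq_one_left (hU2 b hb)
  have habinv : (a * b)⁻¹ = a * b := inv_eq_of_mul_eq_one_left h1
  calc a * b = (a * b)⁻¹ := habinv.symm
    _ = b⁻¹ * a⁻¹ := mul_inv_rev _ _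
    _ = b * a := by rw [hainv, hbinv]

/-- The three conjugates of a moved element under an element of order three are distinct. -/
theorem conj_distinct {x u₀ : G} (hx3 : x * x * x = 1) (hne : x * u₀ * x⁻¹ ≠ u₀) :
    u₀ ≠ 1 ∧ x * u₀ * x⁻¹ ≠ 1 ∧ x * x * u₀ * x⁻¹ * x⁻¹ ≠ 1 ∧
      x * x * u₀ * x⁻¹ * x⁻¹ ≠ x * u₀ * x⁻¹ ∧ x * x * u₀ * x⁻¹ * x⁻¹ ≠ u₀ := by
  have h0 : u₀ ≠ 1 := by
    rintro rfl
    apply hne; group
  refine ⟨h0, ?_, ?_, ?_, ?_⟩
  · intro h
    apply h0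
    have : u₀ = x⁻¹ * (x * u₀ * x⁻¹) * x := by group
    rw [this, h]; group
  · intro h
    apply h0
    have : u₀ = x⁻¹ * x⁻¹ * (x * x * u₀ * x⁻¹ * x⁻¹) * x * x := by group
    rw [this, h]; group
  · intro h
    apply hne
    have : x * u₀ * x⁻¹ = x⁻¹ * (x * x * u₀ * x⁻¹ * x⁻¹) * x := by group
    rw [this, h]; group
  · intro h
    apply hne
    have h1 : x * u₀ * x⁻¹ = x * (x * x * u₀ * x⁻¹ * x⁻¹) * x⁻¹ := by rw [h]
    have h2 : x * (x * x * u₀ * x⁻¹ * x⁻¹) * x⁻¹ = (x * x * x) * u₀ * (x * x * x)⁻¹ := by group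
    rw [h1, h2, hx3]; group

/-- A group of order four containing a moved element consists of `1` and its three conjugates. -/
theorem mem_four [Finite G] {U : Subgroup G} (hU4 : Nat.card U = 4) {x u₀ : G}
    (hconj : ∀ u ∈ U, x * u * x⁻¹ ∈ U) (hx3 : x * x * x = 1) (hu₀ : u₀ ∈ U)
    (hne : x * u₀ * x⁻¹ ≠ u₀) :
    ∀ w ∈ U, w = 1 ∨ w = u₀ ∨ w = x * u₀ * x⁻¹ ∨ w = x * x * u₀ * x⁻¹ * x⁻¹ := by
  obtain ⟨h0, h1, h2, h3, h4⟩ := conj_distinct hx3 hne
  set u₂ := x * u₀ * x⁻¹ with hu₂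
  set u₃ := x * x * u₀ * x⁻¹ * x⁻¹ with hu₃
  have hu₂U : u₂ ∈ U := hconj u₀ hu₀
  have hu₃U : u₃ ∈ U := by
    have := hconj u₂ hu₂U
    have e : x * u₂ * x⁻¹ = u₃ := by rw [hu₂, hu₃]; group
    rwa [e] at this
  have hsub : ({1, u₀, u₂, u₃} : Set G) ⊆ (U : Set G) := by
    intro w hw
    simp only [Set.mem_insert_iff, Set.mem_singleton_iff] at hw
    rcases hw with rfl | rfl | rfl | rfl
    · exact U.one_mem
    · exact hu₀
    · exact hu₂U
    · exact hu₃U
  have hncard : ({1, u₀, u₂, u₃} : Set G).ncard = 4 := by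
    rw [Set.ncard_insert_of_notMem, Set.ncard_insert_of_notMem, Set.ncard_insert_of_notMem,
      Set.ncard_singleton]
    · simp only [Set.mem_singleton_iff]; exact fun h => h3 h.symm
    · simp only [Set.mem_insert_iff, Set.mem_singleton_iff, not_or]
      exact ⟨fun h => hne h.symm, fun h => h4 h.symm⟩
    · simp only [Set.mem_insert_iff, Set.mem_singleton_iff, not_or]
      exact ⟨fun h => h0 h.symm, fun h => h1 h.symm, fun h => h2 h.symm⟩
  have hUn : (U : Set G).ncard = 4 := by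
    rw [← hU4]; exact (Nat.card_coe_set_eq (U : Set G)).symm
  have heq := Set.eq_of_subset_of_ncard_le hsub (by rw [hUn, hncard]) (Set.toFinite _)
  intro w hw
  have : w ∈ ({1, u₀, u₂, u₃} : Set G) := by rw [heq]; exact hw
  simpa only [Set.mem_insert_iff, Set.mem_singleton_iff] using this

/-- An element of order three acting nontrivially on a group of order four has no nontrivial
fixed point. -/
theorem fixed_eq_one [Finite G] {U : Subgroup G} (hU4 : Nat.card U = 4) {x u₀ : G}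
    (hconj : ∀ u ∈ U, x * u * x⁻¹ ∈ U) (hx3 : x * x * x = 1) (hu₀ : u₀ ∈ U)
    (hne : x * u₀ * x⁻¹ ≠ u₀) : ∀ w ∈ U, x * w * x⁻¹ = w → w = 1 := by
  obtain ⟨-, -, -, h3, h4⟩ := conj_distinct hx3 hne
  intro w hw hfix
  rcases mem_four hU4 hconj hx3 hu₀ hne w hw with rfl | rfl | rfl | rfl
  · rfl
  · exact (hne hfix).elim
  · exfalso
    apply h3
    rw [← hfix]; group
  · exfalso
    apply h4
    have e : x * (x * x * u₀ * x⁻¹ * x⁻¹) * x⁻¹ = (x * x * x) * u₀ * (x * x * x)⁻¹ := by group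
    rw [e, hx3] at hfix
    rw [← hfix]; group

/-- In a group `M = Q ⟨x⟩` with `Q` a normal `2`-subgroup of index three, the `2`-elements lie in
`Q`. -/
theorem mem_of_two_element [Finite G] {Q M : Subgroup G} [hQn : Q.Normal] (hQ2 : IsPGroup 2 Q)
    (hQM : Q ≤ M) (hMcard : Nat.card M = 3 * Nat.card Q) {m : G} (hmM : m ∈ M) {e : ℕ}
    (hm : m ^ (2 ^ e) = 1) : m ∈ Q := by
  haveI : Fact (Nat.Prime 2) := ⟨Nat.prime_two⟩
  have hZ : IsPGroup 2 (Subgroup.zpowers m) := by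
    have h1 : orderOf m ∣ 2 ^ e := orderOf_dvd_of_pow_eq_one hm
    obtain ⟨j, -, hj⟩ := (Nat.dvd_prime_pow Nat.prime_two).1 h1
    exact IsPGroup.of_card (n := j) (by rw [Nat.card_zpowers, hj])
  have hD : IsPGroup 2 (Subgroup.zpowers m ⊔ Q : Subgroup G) := hZ.to_sup_of_normal_right hQ2
  have hDM : Subgroup.zpowers m ⊔ Q ≤ M := sup_le (Subgroup.zpowers_le.2 hmM) hQM
  obtain ⟨d, hd⟩ := IsPGroup.iff_card.1 hD
  obtain ⟨k, hk⟩ := IsPGroup.iff_card.1 hQ2
  have h1 : 2 ^ d ∣ 3 * 2 ^ k := by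
    rw [← hd, ← hk, ← hMcard]; exact Subgroup.card_dvd_of_le hDM
  have h2 : 2 ^ d ∣ 2 ^ k := by
    refine Nat.Coprime.dvd_of_dvd_mul_left ?_ h1
    exact Nat.Coprime.pow_left d (by norm_num)
  have h3 : Nat.card (Subgroup.zpowers m ⊔ Q : Subgroup G) ≤ Nat.card Q := by
    rw [hd, hk]; exact Nat.le_of_dvd (by positivity) h2
  have h4 : Q = Subgroup.zpowers m ⊔ Q := Subgroup.eq_of_le_of_card_ge le_sup_right h3
  rw [h4]
  exact le_sup_left (a := Subgroup.zpowers m) (Subgroup.mem_zpowers m)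

end TN

end Cfsg.Agent.Helper1
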