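import Mathlib
import Cfsg.Prelude.Def_LocalEven
import Cfsg.Agent.Helper1.TNc

set_option autoImplicit false

/-!
A normal four-group whose centralizer is a `2`-group of index six yields a section isomorphic to
`S₄`: the element-level analysis.
-/

namespace Cfsg.Agent.Helper1

namespace TN

open scoped Pointwise

universe u

variable {G : Type u} [Group G]

/-- The elements needed to build `S₄`. -/
theorem exists_S4_elements [Finite G] (U : Subgroup G) [hUn : U.Normal] (hU4 : Nat.card U = 4)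
    (hU2 : ∀ u ∈ U, u * u = 1) (hQ2 : IsPGroup 2 (Subgroup.centralizer (U : Set G)))
    (hidx : Nat.card G = 6 * Nat.card (Subgroup.centralizer (U : Set G))) :
    ∃ x t v : G, x * x * x = 1 ∧ t * x * t⁻¹ = x * x ∧
      t * t ∈ Subgroup.centralizer (U : Set G) ∧ v ∈ U ∧ v ≠ 1 ∧ t * v * t⁻¹ = v ∧
      (∀ w ∈ U, x * w * x⁻¹ = w → w = 1) := by
  haveI : Fact (Nat.Prime 2) := ⟨Nat.prime_two⟩
  haveI : Fact (Nat.Prime 3) := ⟨Nat.prime_three⟩
  obtain ⟨Q, hQ⟩ : ∃ Q, Q = Subgroup.centralizer (U : Set G) := ⟨_, rfl⟩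
  rw [← hQ] at hQ2 hidx ⊢
  haveI hQn : Q.Normal := by rw [hQ]; infer_instance
  have hUc := comm_of_sq hU2
  have hconjU : ∀ g : G, ∀ u ∈ U, g * u * g⁻¹ ∈ U := fun g u hu => hUn.conj_mem u hu g
  -- an element of order three
  have h3 : 3 ∣ Nat.card G := by rw [hidx]; exact ⟨2 * Nat.card Q, by ring⟩
  obtain ⟨x, hx⟩ := exists_prime_orderOf_dvd_card' 3 h3
  have hx3 : x * x * x = 1 := by
    have := pow_orderOf_eq_one x
    rw [hx] at this
    rw [← this, pow_succ, pow_succ, pow_one]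
  have hx1 : x ≠ 1 := by
    rintro rfl
    rw [orderOf_one] at hx; omega
  obtain ⟨k, hk⟩ := IsPGroup.iff_card.1 hQ2
  have hxQ : x ∉ Q := by
    intro h
    have h1 : orderOf x ∣ Nat.card Q := by
      have := Subgroup.orderOf_dvd_natCard Q h
      exact this
    rw [hx, hk] at h1
    have := (Nat.Prime.dvd_of_dvd_pow Nat.prime_three h1)
    omega
  obtain ⟨u₀, hu₀U, hu₀⟩ : ∃ u₀ ∈ U, x * u₀ * x⁻¹ ≠ u₀ := by
    by_contra hcon
    push Not at hcon
    apply hxQ
    rw [hQ, Subgroup.mem_centralizer_iff]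
    intro u hu
    have := hcon u hu
    calc u * x = (x * u * x⁻¹) * x := by rw [this]
      _ = x * u := by group
  have hfix := fixed_eq_one hU4 (hconjU x) hx3 hu₀U hu₀
  -- the subgroup `M = Q ⟨x⟩` of index two
  obtain ⟨A, hA⟩ : ∃ A, A = Subgroup.zpowers x := ⟨_, rfl⟩
  have hAcard : Nat.card A = 3 := by rw [hA, Nat.card_zpowers, hx]
  have hcop : (Nat.card Q).Coprime (Nat.card A) := by
    rw [hk, hAcard]; exact Nat.Coprime.pow_left k (by norm_num)
  have hAQ : A ≤ Subgroup.normalizer (Q : Set G) := by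
    rw [Subgroup.normalizer_eq_top]; exact le_top
  have hdisj : A ⊓ Q = ⊥ := inf_eq_bot_of_coprime_card hcop.symm
  obtain ⟨M, hM⟩ : ∃ M, M = Q ⊔ A := ⟨_, rfl⟩
  have hQM : Q ≤ M := hM ▸ le_sup_left
  have hxM : x ∈ M := by
    rw [hM]; exact le_sup_right (a := Q) (hA ▸ Subgroup.mem_zpowers x)
  have hMcard : Nat.card M = 3 * Nat.card Q := by
    rw [hM, card_sup_of_le_normalizer hAQ hdisj, hAcard]
  have hMidx : M.index = 2 := by
    have h1 := M.card_mul_index
    rw [hMcard, hidx] at h1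
    have hpos : 0 < Nat.card Q := Nat.card_pos
    have h2 : 3 * Nat.card Q * M.index = 3 * Nat.card Q * 2 := by rw [h1]; ring
    exact Nat.eq_of_mul_eq_mul_left (by positivity) h2
  haveI hMn : M.Normal := Subgroup.normal_of_index_eq_two hMidx
  obtain ⟨g, hg⟩ : ∃ g, g ∉ M := by
    by_contra hcon
    push Not at hcon
    have : M = ⊤ := eq_top_iff.2 (fun g _ => hcon g)
    rw [this, Subgroup.index_top] at hMidx; omega
  -- a `2`-element outside `M`
  obtain ⟨j, m, hm, hjm⟩ := Nat.exists_eq_two_pow_mul_odd (orderOf_pos g).ne'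
  obtain ⟨s, hs⟩ : ∃ s, s = g ^ m := ⟨_, rfl⟩
  have hs2 : s ^ (2 ^ j) = 1 := by
    rw [hs, ← pow_mul, mul_comm, ← hjm, pow_orderOf_eq_one]
  have hsM : s ∉ M := by
    intro h
    obtain ⟨i, hi⟩ := hm
    apply hg
    have h2 : g ^ 2 ∈ M := Subgroup.sq_mem_of_index_two hMidx g
    have h3 : (g ^ 2) ^ i ∈ M := M.pow_mem h2 i
    have h4 : g = ((g ^ 2) ^ i)⁻¹ * s := by
      rw [hs, hi, ← pow_mul, pow_succ]; group
    rw [h4]
    exact M.mul_mem (M.inv_mem h3) h
  have hZs : IsPGroup 2 (Subgroup.zpowers s) := by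
    have h1 : orderOf s ∣ 2 ^ j := orderOf_dvd_of_pow_eq_one hs2
    obtain ⟨j', -, hj'⟩ := (Nat.dvd_prime_pow Nat.prime_two).1 h1
    exact IsPGroup.of_card (n := j') (by rw [Nat.card_zpowers, hj'])
  have hT : IsPGroup 2 (Subgroup.zpowers s ⊔ Q : Subgroup G) := hZs.to_sup_of_normal_right hQ2
  -- conjugating `s x s⁻¹` back into `⟨x⟩`
  obtain ⟨y, hy⟩ : ∃ y, y = s * x * s⁻¹ := ⟨_, rfl⟩
  have hyM : y ∈ M := by rw [hy]; exact hMn.conj_mem x hxM s
  obtain ⟨B, hB⟩ : ∃ B, B = Subgroup.zpowers y := ⟨_, rfl⟩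
  have hBM : B ≤ Q ⊔ A := by rw [hB, ← hM]; exact Subgroup.zpowers_le.2 hyM
  have hBcard : Nat.card B = Nat.card A := by
    rw [hB, hA, Nat.card_zpowers, Nat.card_zpowers, hy]
    exact orderOf_injective (MulAut.conj s).toMonoidHom (MulAut.conj s).injective x
  haveI : IsMulCommutative A := by rw [hA]; infer_instance
  obtain ⟨n, hnQ, hn⟩ := sz_conj_internal Q A B hAQ hBM hBcard hcop
    (Or.inr (isSolvable_of_isMulCommutative A))
  have hyB : y ∈ MulAut.conj n • A := by rw [hn, hB]; exact Subgroup.mem_zpowers y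
  rw [Subgroup.mem_smul_pointwise_iff_exists] at hyB
  obtain ⟨a, haA, hay⟩ := hyB
  have hay' : n * a * n⁻¹ = y := hay
  obtain ⟨t, ht⟩ : ∃ t, t = n⁻¹ * s := ⟨_, rfl⟩
  have htx : t * x * t⁻¹ = a := by
    have : a = n⁻¹ * y * n := by rw [← hay']; group
    rw [this, hy, ht]; group
  have htM : t ∉ M := by
    intro h
    apply hsM
    have : s = n * t := by rw [ht]; group
    rw [this]
    exact M.mul_mem (hQM hnQ) h
  have htT : t ∈ Subgroup.zpowers s ⊔ Q := by
    rw [ht]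
    exact Subgroup.mul_mem _ (le_sup_right (a := Subgroup.zpowers s) (Q.inv_mem hnQ))
      (le_sup_left (b := Q) (Subgroup.mem_zpowers s))
  have ht2Q : t * t ∈ Q := by
    have h1 : t ^ 2 ∈ M := Subgroup.sq_mem_of_index_two hMidx t
    obtain ⟨e, he⟩ := hT ⟨t ^ 2, Subgroup.pow_mem _ htT 2⟩
    have he' : (t ^ 2) ^ (2 ^ e) = 1 := by
      have := congrArg Subtype.val he
      simpa using this
    have := mem_of_two_element hQ2 hQM hMcard h1 he'
    rwa [pow_two] at this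
  have ht2U : ∀ u ∈ U, t * t * u * t⁻¹ * t⁻¹ = u := by
    intro u hu
    rw [hQ, Subgroup.mem_centralizer_iff] at ht2Q
    have := ht2Q u hu
    calc t * t * u * t⁻¹ * t⁻¹ = (t * t * u) * (t * t)⁻¹ := by group
      _ = (u * (t * t)) * (t * t)⁻¹ := by rw [this]
      _ = u := by group
  -- a nontrivial fixed point of `t` on `U`
  have hu₀1 : u₀ ≠ 1 := (conj_distinct hx3 hu₀).1
  obtain ⟨v, hvU, hv1, hvt⟩ : ∃ v ∈ U, v ≠ 1 ∧ t * v * t⁻¹ = v := by
    by_cases hw : u₀ * (t * u₀ * t⁻¹) = 1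
    · refine ⟨u₀, hu₀U, hu₀1, ?_⟩
      have h1 : t * u₀ * t⁻¹ = u₀⁻¹ := by
        rw [eq_inv_iff_mul_eq_one]
        rw [hUc _ (hconjU t u₀ hu₀U) _ hu₀U]
        exact hw
      rw [h1]
      exact inv_eq_of_mul_eq_one_left (hU2 u₀ hu₀U)
    · refine ⟨u₀ * (t * u₀ * t⁻¹), U.mul_mem hu₀U (hconjU t u₀ hu₀U), hw, ?_⟩
      have h1 : t * (u₀ * (t * u₀ * t⁻¹)) * t⁻¹ =
          (t * u₀ * t⁻¹) * (t * t * u₀ * t⁻¹ * t⁻¹) := by group
      rw [h1, ht2U u₀ hu₀U]
      exact hUc _ (hconjU t u₀ hu₀U) _ hu₀U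
  -- `a` is `x` or `x²`
  have haxx : a = x * x := by
    rw [hA] at haA
    obtain ⟨i, hi⟩ := Subgroup.mem_zpowers_iff.1 haA
    have h1 : x ^ (i % 3) = x ^ i := by
      have := zpow_mod_orderOf x i
      rw [hx] at this
      exact_mod_cast this
    have h2 : 0 ≤ i % 3 := Int.emod_nonneg i (by norm_num)
    have h3 : i % 3 < 3 := Int.emod_lt_of_pos i (by norm_num)
    obtain ⟨r, hr⟩ : ∃ r : ℕ, i % 3 = r := ⟨(i % 3).toNat, (Int.toNat_of_nonneg h2).symm⟩
    have hr3 : r < 3 := by omega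
    rw [hr, zpow_natCast, hi] at h1
    interval_cases r
    · -- `a = 1`
      exfalso
      rw [pow_zero] at h1
      apply hx1
      have : x = t⁻¹ * (t * x * t⁻¹) * t := by group
      rw [this, htx, ← h1]; group
    · -- `a = x`
      exfalso
      rw [pow_one] at h1
      have hcomm : t * x * t⁻¹ = x := by rw [htx, ← h1]
      have hxv : x * v * x⁻¹ ≠ v := fun h => hv1 (hfix v hvU h)
      have hall := mem_four hU4 (hconjU x) hx3 hvU hxv
      apply htM
      apply hQM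
      rw [hQ, Subgroup.mem_centralizer_iff]
      intro w hw
      have htw : t * w * t⁻¹ = w := by
        have htx' : t * x = x * t := by
          calc t * x = (t * x * t⁻¹) * t := by group
            _ = x * t := by rw [hcomm]
        have hsw : ∀ w' : G, t * (x * w' * x⁻¹) * t⁻¹ = x * (t * w' * t⁻¹) * x⁻¹ := by
          intro w'
          have e : t * (x * w' * x⁻¹) * t⁻¹ = (t * x) * w' * (t * x)⁻¹ := by group
          rw [e, htx']; group
        rcases hall w hw with rfl | rfl | rfl | rfl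
        · group
        · exact hvt
        · rw [hsw, hvt]
        · have e : x * x * v * x⁻¹ * x⁻¹ = x * (x * v * x⁻¹) * x⁻¹ := by group
          rw [e, hsw, hsw, hvt]
      calc w * t = (t * w * t⁻¹) * t := by rw [htw]
        _ = t * w := by group
    · rw [← h1, pow_two]
  exact ⟨x, t, v, hx3, by rw [htx, haxx], ht2Q, hvU, hv1, hvt, hfix⟩

end TN

end Cfsg.Agent.Helper1
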