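import Mathlib
import Cfsg.Prelude.Def_LocalEven
import Cfsg.Agent.Helper1.TNd

set_option autoImplicit false

/-!
A four-group on which a subgroup `E` induces the full automorphism group, with a `2`-group as
kernel, yields a section isomorphic to `S₄`.
-/

namespace Cfsg.Agent.Helper1

namespace TN

open scoped Pointwise

universe u

variable {G : Type u} [Group G]

theorem normal_of_le_center_aux {E : Type*} [Group E] (Z : Subgroup E)
    (hZ : Z ≤ Subgroup.center E) : Z.Normal := by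
  refine ⟨fun n hn g => ?_⟩
  have := Subgroup.mem_center_iff.mp (hZ hn) g
  rw [this, mul_inv_cancel_right]
  exact hn

/-- A normal four-group whose centralizer is a `2`-group of index six: `S₄` is involved. -/
theorem involves_S4_top [Finite G] (U : Subgroup G) [hUn : U.Normal] (hU4 : Nat.card U = 4)
    (hU2 : ∀ u ∈ U, u * u = 1) (hQ2 : IsPGroup 2 (Subgroup.centralizer (U : Set G)))
    (hidx : Nat.card G = 6 * Nat.card (Subgroup.centralizer (U : Set G))) :
    Cfsg.Involves (Equiv.Perm (Fin 4)) G := by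
  obtain ⟨x, t, v, hx3, htx, ht2Q, hvU, hv1, hvt, hfix⟩ := exists_S4_elements U hU4 hU2 hQ2 hidx
  have hUc := comm_of_sq hU2
  have hconjU : ∀ g : G, ∀ u ∈ U, g * u * g⁻¹ ∈ U := fun g u hu => hUn.conj_mem u hu g
  obtain ⟨c, hc⟩ : ∃ c, c = t * t := ⟨_, rfl⟩
  obtain ⟨CT, hCT⟩ : ∃ CT, CT = Subgroup.centralizer ({c} : Set G) := ⟨_, rfl⟩
  have hmemCT : ∀ g : G, g ∈ CT ↔ c * g = g * c := by
    intro g
    rw [hCT, Subgroup.mem_centralizer_iff]
    constructor
    · intro h; exact h c rfl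
    · intro h y hy
      rw [Set.mem_singleton_iff] at hy
      rw [hy]; exact h
  have htx' : t * x = x * x * t := by
    calc t * x = (t * x * t⁻¹) * t := by group
      _ = x * x * t := by rw [htx]
  have htC : t ∈ CT := by rw [hmemCT, hc]; group
  have hxC : x ∈ CT := by
    rw [hmemCT, hc]
    calc t * t * x = t * (t * x) := by group
      _ = t * (x * x * t) := by rw [htx']
      _ = (t * x) * (x * t) := by group
      _ = (x * x * t) * (x * t) := by rw [htx']
      _ = x * x * (t * x) * t := by group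
      _ = x * x * (x * x * t) * t := by rw [htx']
      _ = x * (x * x * x) * (t * t) := by group
      _ = x * (t * t) := by rw [hx3, mul_one]
  have hvC : v ∈ CT := by
    rw [hmemCT]
    rw [← hc] at ht2Q
    exact (Subgroup.mem_centralizer_iff.1 ht2Q v hvU).symm
  have hcC : c ∈ CT := by rw [hmemCT]
  obtain ⟨R, hR⟩ : ∃ R : Subgroup CT, R = Subgroup.zpowers (⟨c, hcC⟩ : CT) := ⟨_, rfl⟩
  haveI hRn : R.Normal := by
    apply normal_of_le_center_aux
    rw [hR, Subgroup.zpowers_le, Subgroup.mem_center_iff]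
    intro g
    apply Subtype.ext
    exact ((hmemCT g).1 g.2).symm
  -- relations in the quotient
  obtain ⟨τ, hτ⟩ : ∃ τ : CT ⧸ R, τ = QuotientGroup.mk' R ⟨t, htC⟩ := ⟨_, rfl⟩
  obtain ⟨ζ, hζ⟩ : ∃ ζ : CT ⧸ R, ζ = QuotientGroup.mk' R ⟨x, hxC⟩ := ⟨_, rfl⟩
  obtain ⟨υ, hυ⟩ : ∃ υ : CT ⧸ R, υ = QuotientGroup.mk' R ⟨v, hvC⟩ := ⟨_, rfl⟩
  have hτ2 : τ * τ = 1 := by
    rw [hτ, ← map_mul, QuotientGroup.mk'_apply, QuotientGroup.eq_one_iff, hR]
    have : (⟨t, htC⟩ : CT) * ⟨t, htC⟩ = ⟨c, hcC⟩ := Subtype.ext hc.symm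
    rw [this]
    exact Subgroup.mem_zpowers _
  have hζ3 : ζ * ζ * ζ = 1 := by
    rw [hζ, ← map_mul, ← map_mul]
    have : (⟨x, hxC⟩ : CT) * ⟨x, hxC⟩ * ⟨x, hxC⟩ = 1 := Subtype.ext hx3
    rw [this, map_one]
  have hζinv : ζ⁻¹ = ζ * ζ := by
    apply inv_eq_of_mul_eq_one_left
    exact hζ3
  have hτζ : τ * ζ * τ⁻¹ = ζ⁻¹ := by
    rw [hζinv, hτ, hζ, ← map_inv, ← map_mul, ← map_mul, ← map_mul]
    congr 1
    apply Subtype.ext
    exact htx
  have hυ2 : υ * υ = 1 := by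
    rw [hυ, ← map_mul]
    have : (⟨v, hvC⟩ : CT) * ⟨v, hvC⟩ = 1 := Subtype.ext (hU2 v hvU)
    rw [this, map_one]
  have hτυ : τ * υ = υ * τ := by
    rw [hτ, hυ, ← map_mul, ← map_mul]
    congr 1
    apply Subtype.ext
    show t * v = v * t
    calc t * v = (t * v * t⁻¹) * t := by group
      _ = v * t := by rw [hvt]
  have hprodG : (x * x * v * x⁻¹ * x⁻¹) * (x * v * x⁻¹) * v = 1 := by
    have h1 : x * v * x⁻¹ ∈ U := hconjU x v hvU
    have h2 : x * x * v * x⁻¹ * x⁻¹ ∈ U := by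
      have := hconjU x _ h1
      have e : x * (x * v * x⁻¹) * x⁻¹ = x * x * v * x⁻¹ * x⁻¹ := by group
      rwa [e] at this
    apply hfix _ (U.mul_mem (U.mul_mem h2 h1) hvU)
    have e : x * ((x * x * v * x⁻¹ * x⁻¹) * (x * v * x⁻¹) * v) * x⁻¹ =
        ((x * x * x) * v * (x * x * x)⁻¹) * (x * x * v * x⁻¹ * x⁻¹) * (x * v * x⁻¹) := by group
    rw [e, hx3, inv_one, mul_one, one_mul]
    rw [hUc _ hvU _ h2, mul_assoc, hUc _ hvU _ h1, ← mul_assoc]
  have hprod : (ζ * ζ * υ * ζ⁻¹ * ζ⁻¹) * (ζ * υ * ζ⁻¹) * υ = 1 := by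
    rw [hζ, hυ]
    simp only [← map_mul, ← map_inv]
    have : ((⟨x, hxC⟩ : CT) * ⟨x, hxC⟩ * ⟨v, hvC⟩ * (⟨x, hxC⟩ : CT)⁻¹ * (⟨x, hxC⟩ : CT)⁻¹) *
        (⟨x, hxC⟩ * ⟨v, hvC⟩ * (⟨x, hxC⟩ : CT)⁻¹) * ⟨v, hvC⟩ = 1 := Subtype.ext hprodG
    rw [this, map_one]
  have hυ1 : υ ≠ 1 := by
    intro h
    rw [hυ, QuotientGroup.mk'_apply, QuotientGroup.eq_one_iff, hR, Subgroup.mem_zpowers_iff] at h
    obtain ⟨i, hi⟩ := h
    have hi' : c ^ i = v := by
      have := congrArg Subtype.val hi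
      simpa using this
    apply hv1
    apply hfix v hvU
    have hcx : Commute c x := (hmemCT x).1 hxC
    have h1 : Commute (c ^ i) x := hcx.zpow_left i
    rw [hi'] at h1
    calc x * v * x⁻¹ = (v * x) * x⁻¹ := by rw [h1.eq]
      _ = v := by group
  obtain ⟨φ, hφ⟩ := exists_injective_hom_S4 τ ζ υ hτ2 hζ3 hτζ hυ2 hτυ hprod hυ1
  have h1 : Cfsg.Involves (Equiv.Perm (Fin 4)) (CT ⧸ R) :=
    Cfsg.Agent.Lead.involves_of_maps φ hφ (MonoidHom.id _) Function.surjective_id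
  have h2 : Cfsg.Involves (Equiv.Perm (Fin 4)) CT :=
    QuadFree.involves_of_surjective (QuotientGroup.mk' R) (QuotientGroup.mk'_surjective R) h1
  exact QuadFree.involves_of_injective CT.subtype CT.subtype_injective h2

/-- A four-group `U` normalized by `E`, with `C_E(U)` a `2`-group of index six in `E`: `S₄` is
involved. -/
theorem involves_S4_of_section [Finite G] (U E : Subgroup G) (hUE : U ≤ E)
    (hU4 : Nat.card U = 4) (hU2 : ∀ u ∈ U, u * u = 1)
    (hEU : E ≤ Subgroup.normalizer (U : Set G))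
    (hQ2 : IsPGroup 2 (E ⊓ Subgroup.centralizer (U : Set G) : Subgroup G))
    (hidx : Nat.card E = 6 * Nat.card (E ⊓ Subgroup.centralizer (U : Set G) : Subgroup G)) :
    Cfsg.Involves (Equiv.Perm (Fin 4)) G := by
  obtain ⟨U', hU'⟩ : ∃ U' : Subgroup E, U' = U.subgroupOf E := ⟨_, rfl⟩
  haveI hU'n : U'.Normal := by
    rw [hU']
    exact (Subgroup.normal_subgroupOf_iff_le_normalizer hUE).2 hEU
  have hU'card : Nat.card U' = 4 := by rw [hU', card_subgroupOf_of_le hUE, hU4]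
  have hU'2 : ∀ u ∈ U', u * u = 1 := by
    intro u hu
    rw [hU', Subgroup.mem_subgroupOf] at hu
    exact Subtype.ext (hU2 _ hu)
  have hcent : (Subgroup.centralizer (U' : Set E)).map E.subtype =
      E ⊓ Subgroup.centralizer (U : Set G) := by
    ext g
    constructor
    · rintro ⟨g', hg', rfl⟩
      refine Subgroup.mem_inf.2 ⟨g'.2, ?_⟩
      rw [Subgroup.mem_centralizer_iff]
      intro u hu
      have := Subgroup.mem_centralizer_iff.1 hg' ⟨u, hUE hu⟩
        (by rw [hU']; exact Subgroup.mem_subgroupOf.2 hu)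
      exact congrArg Subtype.val this
    · rintro ⟨hgE, hgC⟩
      refine ⟨⟨g, hgE⟩, ?_, rfl⟩
      rw [SetLike.mem_coe, Subgroup.mem_centralizer_iff]
      intro u hu
      rw [hU'] at hu
      apply Subtype.ext
      exact Subgroup.mem_centralizer_iff.1 hgC _ (Subgroup.mem_subgroupOf.1 hu)
  have hcard : Nat.card (Subgroup.centralizer (U' : Set E)) =
      Nat.card (E ⊓ Subgroup.centralizer (U : Set G) : Subgroup G) := by
    rw [← hcent, Subgroup.card_map_of_injective E.subtype_injective]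
  have hQ2' : IsPGroup 2 (Subgroup.centralizer (U' : Set E)) := by
    haveI : Fact (Nat.Prime 2) := ⟨Nat.prime_two⟩
    obtain ⟨k, hk⟩ := IsPGroup.iff_card.1 hQ2
    exact IsPGroup.of_card (n := k) (by rw [hcard, hk])
  have h := involves_S4_top U' hU'card hU'2 hQ2' (by rw [hcard]; exact hidx)
  exact QuadFree.involves_of_injective E.subtype E.subtype_injective h

end TN

end Cfsg.Agent.Helper1
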