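import Mathlib
import Cfsg.Prelude.Def_LocalEven
import Cfsg.Agent.Helper1.TNe
import Cfsg.Agent.Helper1.QuadFreeA

set_option autoImplicit false

/-!
A normal four-group `R` of a finite group `G` with `|G : C_G(R)| = 6` forces `S₄` to be
involved in `G`.
-/

namespace Cfsg.Agent.Helper1

namespace GW

universe u

theorem centralizer_subgroupOf_eq {G : Type u} [Group G] {R E : Subgroup G} (hRE : R ≤ E) :
    Subgroup.centralizer ((R.subgroupOf E : Subgroup E) : Set E) =
      (Subgroup.centralizer (R : Set G)).subgroupOf E := by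
  ext x
  rw [Subgroup.mem_centralizer_iff, Subgroup.mem_subgroupOf, Subgroup.mem_centralizer_iff]
  constructor
  · intro h r hr
    have := h ⟨r, hRE hr⟩ (Subgroup.mem_subgroupOf.2 hr)
    exact congrArg Subtype.val this
  · intro h r hr
    exact Subtype.ext (h r.1 (Subgroup.mem_subgroupOf.1 hr))

theorem involves_S4_of_normal_four : ∀ (n : ℕ) (G : Type u) [Group G] [Finite G],
    Nat.card G = n → ∀ (R : Subgroup G) [R.Normal], Nat.card R = 4 → (∀ u ∈ R, u * u = 1) →
    (Subgroup.centralizer (R : Set G)).index = 6 →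
    Cfsg.Involves (Equiv.Perm (Fin 4)) G := by
  intro n
  induction n using Nat.strong_induction_on with
  | _ n ih =>
  intro G _ _ hn R hRn hR4 hR2 hidx
  obtain ⟨K, hK⟩ : ∃ K, K = Subgroup.centralizer (R : Set G) := ⟨_, rfl⟩
  haveI hKn : K.Normal := by rw [hK]; infer_instance
  rw [← hK] at hidx
  by_cases h2 : IsPGroup 2 K
  · apply TN.involves_S4_top R hR4 hR2 (hK ▸ h2)
    rw [← hK, ← hidx]; exact (Subgroup.index_mul_card _).symm
  · obtain ⟨q, hq, hqK, hq2⟩ : ∃ q, q.Prime ∧ q ∣ Nat.card K ∧ q ≠ 2 := by
      by_contra hcon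
      push Not at hcon
      apply h2
      haveI : Fact (Nat.Prime 2) := ⟨Nat.prime_two⟩
      rw [IsPGroup.iff_card]
      exact ⟨_, Nat.eq_prime_pow_of_unique_prime_dvd Nat.card_pos.ne'
        (fun {d} hd hdvd => hcon d hd hdvd)⟩
    haveI : Fact q.Prime := ⟨hq⟩
    obtain ⟨Y₀⟩ : Nonempty (Sylow q K) := inferInstance
    obtain ⟨Y, hY⟩ : ∃ Y, Y = (Y₀ : Subgroup K).map K.subtype := ⟨_, rfl⟩
    have hfr : Subgroup.normalizer (Y : Set G) ⊔ K = ⊤ := by
      rw [hY]; exact Sylow.normalizer_sup_eq_top Y₀
    have hYK : Y ≤ K := by rw [hY]; exact Subgroup.map_subtype_le _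
    have hYcard : Nat.card Y = Nat.card (Y₀ : Subgroup K) := by
      rw [hY]; exact Subgroup.card_map_of_injective K.subtype_injective
    have hY1 : Y ≠ ⊥ := by
      intro hb
      have h1 : Nat.card Y = 1 := by rw [hb]; exact Subgroup.card_bot
      have h3 : (Y₀ : Subgroup K) ≠ ⊥ := Sylow.ne_bot_of_dvd_card Y₀ hqK
      apply h3
      rw [← Subgroup.card_eq_one, ← hYcard, h1]
    have hRY : R ⊓ Y = ⊥ := by
      apply (Subgroup.disjoint_of_coprime_natCard ?_).eq_bot
      obtain ⟨m, hm⟩ := IsPGroup.iff_card.1 Y₀.2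
      rw [hR4, hYcard, hm]
      have : Nat.Coprime 2 q := (Nat.coprime_primes Nat.prime_two hq).2 (Ne.symm hq2)
      exact (this.pow 2 m)
    have hRE : R ≤ Subgroup.normalizer (Y : Set G) := by
      refine le_trans ?_ (Subgroup.centralizer_le_normalizer _)
      rw [Subgroup.le_centralizer_iff, ← hK]
      exact hYK
    by_cases hN : Subgroup.normalizer (Y : Set G) = ⊤
    · -- `Y` is normal: pass to the quotient
      haveI hYn : Y.Normal := Subgroup.normalizer_eq_top_iff.1 hN
      have hsurj : Function.Surjective (QuotientGroup.mk' Y) := QuotientGroup.mk'_surjective Y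
      have hlt : Nat.card (G ⧸ Y) < n := by
        rw [← hn, Subgroup.card_eq_card_quotient_mul_card_subgroup Y]
        have h1 : 1 < Nat.card Y := by
          rcases Nat.lt_or_ge 1 (Nat.card Y) with h | h
          · exact h
          · exfalso
            apply hY1
            rw [← Subgroup.card_eq_one]
            have := Nat.card_pos (α := Y)
            omega
        have h0 : 0 < Nat.card (G ⧸ Y) := Nat.card_pos
        nlinarith
      obtain ⟨R', hR'⟩ : ∃ R', R' = R.map (QuotientGroup.mk' Y) := ⟨_, rfl⟩
      haveI hR'n : R'.Normal := by rw [hR']; exact hRn.map _ hsurj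
      have hinj : Function.Injective ((QuotientGroup.mk' Y).comp R.subtype) := by
        rw [injective_iff_map_eq_one]
        intro r hr
        rw [MonoidHom.comp_apply, QuotientGroup.mk'_apply, QuotientGroup.eq_one_iff] at hr
        have : (r : G) ∈ R ⊓ Y := Subgroup.mem_inf.2 ⟨r.2, hr⟩
        rw [hRY, Subgroup.mem_bot] at this
        exact Subtype.ext this
      have hR'4 : Nat.card R' = 4 := by
        have e : R.map (QuotientGroup.mk' Y) = ((QuotientGroup.mk' Y).comp R.subtype).range := by
          rw [MonoidHom.range_comp, Subgroup.range_subtype]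
        rw [hR', e, ← hR4]
        exact (Nat.card_congr (MonoidHom.ofInjective hinj).toEquiv).symm
      have hR'2 : ∀ u ∈ R', u * u = 1 := by
        intro u hu
        rw [hR'] at hu
        obtain ⟨r, hr, rfl⟩ := hu
        rw [← map_mul, hR2 r hr, map_one]
      have hcent : Subgroup.centralizer (R' : Set (G ⧸ Y)) = K.map (QuotientGroup.mk' Y) := by
        apply le_antisymm
        · intro x hx
          obtain ⟨g, rfl⟩ := hsurj x
          refine ⟨g, ?_, rfl⟩
          show g ∈ K
          rw [hK, Subgroup.mem_centralizer_iff]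
          intro r hr
          have h1 := Subgroup.mem_centralizer_iff.1 hx (QuotientGroup.mk' Y r)
            (by rw [hR']; exact ⟨r, hr, rfl⟩)
          rw [← map_mul, ← map_mul, QuotientGroup.mk'_apply, QuotientGroup.mk'_apply,
            QuotientGroup.eq] at h1
          have h3 : (r * g)⁻¹ * (g * r) ∈ R := by
            have e : (r * g)⁻¹ * (g * r) = (g⁻¹ * r⁻¹ * g⁻¹⁻¹) * r := by group
            rw [e]
            exact R.mul_mem (hRn.conj_mem _ (R.inv_mem hr) _) hr
          have h4 : (r * g)⁻¹ * (g * r) ∈ R ⊓ Y := Subgroup.mem_inf.2 ⟨h3, h1⟩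
          rw [hRY, Subgroup.mem_bot] at h4
          have : g * r = r * g := by
            have h5 : (r * g) * ((r * g)⁻¹ * (g * r)) = (r * g) * 1 := by rw [h4]
            rw [mul_one, mul_inv_cancel_left] at h5
            exact h5
          exact this.symm
        · rintro x ⟨k, hk, rfl⟩
          rw [Subgroup.mem_centralizer_iff]
          intro r' hr'
          rw [hR'] at hr'
          obtain ⟨r, hr, rfl⟩ := hr'
          have hk : k ∈ K := hk
          rw [hK, Subgroup.mem_centralizer_iff] at hk
          rw [← map_mul, ← map_mul, hk r hr]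
      have hidx' : (Subgroup.centralizer (R' : Set (G ⧸ Y))).index = 6 := by
        rw [hcent, Subgroup.index_map_eq _ hsurj (by rw [QuotientGroup.ker_mk']; exact hYK)]
        exact hidx
      exact QuadFree.involves_of_surjective (QuotientGroup.mk' Y) hsurj
        (ih _ hlt (G ⧸ Y) rfl R' hR'4 hR'2 hidx')
    · -- pass to the normalizer of `Y`
      obtain ⟨E, hE⟩ : ∃ E, E = Subgroup.normalizer (Y : Set G) := ⟨_, rfl⟩
      rw [← hE] at hfr hRE hN
      have hlt : Nat.card E < n := by
        rw [← hn]
        have : E < ⊤ := lt_top_iff_ne_top.2 hN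
        have h1 := card_lt_card_of_lt this
        rwa [Subgroup.card_top] at h1
      have h4 : Nat.card (R.subgroupOf E) = 4 := by rw [card_subgroupOf_of_le hRE, hR4]
      have h5 : ∀ u ∈ R.subgroupOf E, u * u = 1 := by
        intro u hu
        exact Subtype.ext (hR2 u.1 (Subgroup.mem_subgroupOf.1 hu))
      have h6 : (Subgroup.centralizer ((R.subgroupOf E : Subgroup E) : Set E)).index = 6 := by
        rw [centralizer_subgroupOf_eq hRE, ← hK]
        show K.relIndex E = 6
        rw [← Subgroup.relIndex_sup_right, hfr, Subgroup.relIndex_top_right]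
        exact hidx
      exact QuadFree.involves_of_injective E.subtype E.subtype_injective
        (ih _ hlt E rfl (R.subgroupOf E) h4 h5 h6)

end GW

end Cfsg.Agent.Helper1
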