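import Mathlib
import Cfsg.Prelude.Def_LocalEven
import Cfsg.Agent.Helper1.Basic
import Cfsg.Agent.Helper1.GWl

set_option autoImplicit false

/-!
Two non-commuting "transvections" on a normal abelian subgroup produce a four-group `R` with
`N(R) / C(R)` of order six, hence a section `S₄`.
-/

namespace Cfsg.Agent.Helper1

namespace GW

universe u

variable {G : Type u} [Group G]

theorem pow_eq_one_or_self {r : G} (hr : r * r = 1) (i : ℕ) : r ^ i = 1 ∨ r ^ i = r := by
  induction i with
  | zero => left; exact pow_zero r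
  | succ i ih =>
    rcases ih with h | h
    · right; rw [pow_succ, h, one_mul]
    · left; rw [pow_succ, h, hr]

/-- The subgroup generated by two commuting involutions. -/
def fourGroup (r r' : G) (hr : r * r = 1) (hr' : r' * r' = 1) (hc : r * r' = r' * r) :
    Subgroup G where
  carrier := {u | ∃ i j : ℕ, u = r ^ i * r' ^ j}
  one_mem' := ⟨0, 0, by simp⟩
  mul_mem' := by
    rintro _ _ ⟨i, j, rfl⟩ ⟨k, l, rfl⟩
    refine ⟨i + k, j + l, ?_⟩
    have hcomm : Commute r r' := hc
    have h1 : r' ^ j * r ^ k = r ^ k * r' ^ j := ((hcomm.pow_pow k j).eq).symm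
    calc r ^ i * r' ^ j * (r ^ k * r' ^ l) = r ^ i * (r' ^ j * r ^ k) * r' ^ l := by group
      _ = r ^ i * (r ^ k * r' ^ j) * r' ^ l := by rw [h1]
      _ = r ^ (i + k) * r' ^ (j + l) := by rw [pow_add, pow_add]; group
  inv_mem' := by
    rintro _ ⟨i, j, rfl⟩
    refine ⟨i, j, ?_⟩
    have hcomm : Commute r r' := hc
    have hrinv : r⁻¹ = r := inv_eq_of_mul_eq_one_right hr
    have hr'inv : r'⁻¹ = r' := inv_eq_of_mul_eq_one_right hr'
    have h1 : (r ^ i)⁻¹ = r ^ i := by rw [← inv_pow, hrinv]
    have h2 : (r' ^ j)⁻¹ = r' ^ j := by rw [← inv_pow, hr'inv]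
    rw [mul_inv_rev, h1, h2]
    exact ((hcomm.pow_pow i j).eq).symm

theorem mem_fourGroup {r r' : G} (hr : r * r = 1) (hr' : r' * r' = 1) (hc : r * r' = r' * r)
    (u : G) : u ∈ fourGroup r r' hr hr' hc ↔ u = 1 ∨ u = r ∨ u = r' ∨ u = r * r' := by
  constructor
  · rintro ⟨i, j, rfl⟩
    rcases pow_eq_one_or_self hr i with h1 | h1 <;> rcases pow_eq_one_or_self hr' j with h2 | h2 <;>
      rw [h1, h2]
    · left; rw [mul_one]
    · right; right; left; rw [one_mul]
    · right; left; rw [mul_one]
    · right; right; right; rfl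
  · rintro (h | h | h | h)
    · exact ⟨0, 0, by rw [h]; simp⟩
    · exact ⟨1, 0, by rw [h]; simp⟩
    · exact ⟨0, 1, by rw [h]; simp⟩
    · exact ⟨1, 1, by rw [h]; simp⟩

theorem card_fourGroup {r r' : G} (hr : r * r = 1) (hr' : r' * r' = 1) (hc : r * r' = r' * r)
    (hr1 : r ≠ 1) (hr'1 : r' ≠ 1) (hne : r ≠ r') :
    Nat.card (fourGroup r r' hr hr' hc) = 4 := by
  classical
  have hr'inv : r'⁻¹ = r' := inv_eq_of_mul_eq_one_right hr'
  have h1ab : r * r' ≠ 1 := by
    intro h
    apply hne
    have := eq_inv_of_mul_eq_one_left h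
    rw [this, hr'inv]
  have haab : r ≠ r * r' := by
    intro h
    apply hr'1
    have : r * 1 = r * r' := by rw [mul_one]; exact h
    exact (mul_left_cancel this).symm
  have hbab : r' ≠ r * r' := by
    intro h
    apply hr1
    have : 1 * r' = r * r' := by rw [one_mul]; exact h
    exact (mul_right_cancel this).symm
  let T : Finset G := {1, r, r', r * r'}
  have hT : T.card = 4 := by
    rw [Finset.card_insert_of_notMem, Finset.card_insert_of_notMem,
      Finset.card_insert_of_notMem, Finset.card_singleton]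
    · simp only [Finset.mem_singleton]; exact hbab
    · simp only [Finset.mem_insert, Finset.mem_singleton, not_or]; exact ⟨hne, haab⟩
    · simp only [Finset.mem_insert, Finset.mem_singleton, not_or]
      exact ⟨Ne.symm hr1, Ne.symm hr'1, Ne.symm h1ab⟩
  have hset : ((fourGroup r r' hr hr' hc : Subgroup G) : Set G) = (T : Set G) := by
    ext u
    rw [SetLike.mem_coe, mem_fourGroup]
    simp only [T, Finset.coe_insert, Finset.coe_singleton, Set.mem_insert_iff,
      Set.mem_singleton_iff]
  have : Nat.card (fourGroup r r' hr hr' hc) = ((fourGroup r r' hr hr' hc : Subgroup G) :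
      Set G).ncard := (Nat.card_coe_set_eq _)
  rw [this, hset, Set.ncard_coe_finset, hT]

/-- One-sided stability suffices for membership in the normalizer of a finite subgroup. -/
theorem mem_normalizer_of_finite {R : Subgroup G} [Finite R] {g : G}
    (h : ∀ u ∈ R, g * u * g⁻¹ ∈ R) : g ∈ Subgroup.normalizer (R : Set G) := by
  have hle : R.map (MulAut.conj g).toMonoidHom ≤ R := by
    rintro _ ⟨u, hu, rfl⟩
    exact h u hu
  have hcard : Nat.card R ≤ Nat.card (R.map (MulAut.conj g).toMonoidHom) := by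
    rw [Subgroup.card_map_of_injective (MulAut.conj g).injective]
  have heq := Subgroup.eq_of_le_of_card_ge hle hcard
  rw [Subgroup.mem_normalizer_iff]
  intro u
  constructor
  · exact h u
  · intro hu
    rw [← heq] at hu
    obtain ⟨u', hu', hu'u⟩ := hu
    have : u' = u := (MulAut.conj g).injective hu'u
    rw [← this]; exact hu'

theorem card_mulAut_le_six {R : Type*} [Group R] [Finite R] (hR4 : Nat.card R = 4) (r r' : R)
    (hr1 : r ≠ 1) (hr'1 : r' ≠ 1) (hne : r ≠ r')
    (hall : ∀ u : R, u = 1 ∨ u = r ∨ u = r' ∨ u = r * r') : Nat.card (MulAut R) ≤ 6 := by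
  classical
  haveI : Fintype R := Fintype.ofFinite R
  let T : Finset R := (Finset.univ : Finset R).erase 1
  have hT : T.card = 3 := by
    rw [Finset.card_erase_of_mem (Finset.mem_univ _), Finset.card_univ, ← Nat.card_eq_fintype_card,
      hR4]
  have hmemT : ∀ u : R, u ∈ T ↔ u ≠ 1 := by
    intro u
    simp only [T, Finset.mem_erase, Finset.mem_univ, and_true]
  have hoff : (T.offDiag).card = 6 := by rw [Finset.offDiag_card, hT]
  let f : MulAut R → T.offDiag := fun σ => ⟨(σ r, σ r'), by
    rw [Finset.mem_offDiag]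
    refine ⟨(hmemT _).2 ?_, (hmemT _).2 ?_, ?_⟩
    · intro h; exact hr1 (σ.injective (h.trans (map_one σ).symm))
    · intro h; exact hr'1 (σ.injective (h.trans (map_one σ).symm))
    · intro h; exact hne (σ.injective h)⟩
  have hf : Function.Injective f := by
    intro σ τ h
    have h1 : σ r = τ r := congrArg (fun x => x.1.1) h
    have h2 : σ r' = τ r' := congrArg (fun x => x.1.2) h
    apply MulEquiv.ext
    intro u
    rcases hall u with hu | hu | hu | hu <;> rw [hu]
    · rw [map_one, map_one]
    · exact h1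
    · exact h2
    · rw [map_mul, map_mul, h1, h2]
  have := Nat.card_le_card_of_injective f hf
  rw [Nat.card_eq_fintype_card (α := T.offDiag), Fintype.card_coe, hoff] at this
  exact this

theorem card_eq_six_of_elements {P : Type*} [Group P] [Finite P] (hle : Nat.card P ≤ 6) (b c : P)
    (hb1 : b ≠ 1) (hb2 : ∃ j : ℕ, b ^ (2 ^ j) = 1) (hc : ∀ k : ℕ, c ^ (2 ^ k) ≠ 1) :
    Nat.card P = 6 := by
  have h2 : 2 ∣ Nat.card P := by
    obtain ⟨j, hj⟩ := hb2
    have h1 : orderOf b ∣ 2 ^ j := orderOf_dvd_of_pow_eq_one hj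
    obtain ⟨i, -, hi⟩ := (Nat.dvd_prime_pow Nat.prime_two).1 h1
    have hi0 : i ≠ 0 := by
      intro h0
      rw [h0, pow_zero, orderOf_eq_one_iff] at hi
      exact hb1 hi
    have : 2 ∣ orderOf b := by
      rw [hi]; exact dvd_pow_self 2 hi0
    exact this.trans (orderOf_dvd_natCard b)
  have hpow : c ^ Nat.card P = 1 := pow_card_eq_one'
  have hpos : 0 < Nat.card P := Nat.card_pos
  have h0 := hc 0
  have h1 := hc 1
  have h2' := hc 2
  norm_num at h0 h1 h2'
  obtain ⟨m, hm⟩ : ∃ m, m = Nat.card P := ⟨_, rfl⟩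
  rw [← hm] at hle h2 hpow hpos ⊢
  interval_cases m
  · exfalso; rw [pow_one] at hpow; exact h0 hpow
  · exfalso; exact h1 hpow
  · omega
  · exfalso; exact h2' hpow
  · omega
  · rfl

end GW

end Cfsg.Agent.Helper1
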