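import Mathlib
import Cfsg.Prelude.Def_LocalEven
import Cfsg.Agent.Helper1.GWm

set_option autoImplicit false

/-!
Two "transvections" `a`, `a'` on a normal abelian subgroup `V`, generating modulo `C(V)` a group
which is not a `2`-group, produce a section `S₄`.
-/

namespace Cfsg.Agent.Helper1

namespace GW

universe u

variable {G : Type u} [Group G]

/-- The subgroup of elements normalizing `R` and acting trivially on `V / R`. -/
def KK (V R : Subgroup G) : Subgroup G where
  carrier := {d | d ∈ Subgroup.normalizer (R : Set G) ∧ ∀ v ∈ V, d * v * d⁻¹ * v⁻¹ ∈ R}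
  one_mem' := ⟨Subgroup.one_mem _, fun v _ => by
    have e : (1 : G) * v * 1⁻¹ * v⁻¹ = 1 := by group
    rw [e]; exact R.one_mem⟩
  mul_mem' := by
    rintro d d' ⟨hd, hdV⟩ ⟨hd', hd'V⟩
    refine ⟨Subgroup.mul_mem _ hd hd', fun v hv => ?_⟩
    have e : d * d' * v * (d * d')⁻¹ * v⁻¹ =
        (d * (d' * v * d'⁻¹ * v⁻¹) * d⁻¹) * (d * v * d⁻¹ * v⁻¹) := by group
    rw [e]
    exact R.mul_mem ((Subgroup.mem_normalizer_iff.1 hd _).1 (hd'V v hv)) (hdV v hv)
  inv_mem' := by
    rintro d ⟨hd, hdV⟩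
    refine ⟨Subgroup.inv_mem _ hd, fun v hv => ?_⟩
    have e : d⁻¹ * v * d⁻¹⁻¹ * v⁻¹ = d⁻¹ * (d * v * d⁻¹ * v⁻¹)⁻¹ * d⁻¹⁻¹ := by group
    rw [e]
    exact (Subgroup.mem_normalizer_iff.1 (Subgroup.inv_mem _ hd) _).1 (R.inv_mem (hdV v hv))

theorem mem_KK {V R : Subgroup G} {d : G} : d ∈ KK V R ↔
    d ∈ Subgroup.normalizer (R : Set G) ∧ ∀ v ∈ V, d * v * d⁻¹ * v⁻¹ ∈ R := Iff.rfl

theorem sq_mem_centralizer_of_mem_KK {V R : Subgroup G} (hR2 : ∀ u ∈ R, u * u = 1) {d : G}
    (hd : d ∈ KK V R) (hdR : d ∈ Subgroup.centralizer (R : Set G)) :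
    d * d ∈ Subgroup.centralizer (V : Set G) := by
  rw [Subgroup.mem_centralizer_iff]
  intro v hv
  obtain ⟨w, hw⟩ : ∃ w, w = d * v * d⁻¹ * v⁻¹ := ⟨_, rfl⟩
  have hwR : w ∈ R := hw ▸ hd.2 v hv
  have h1 : d * v = w * v * d := by rw [hw]; group
  have h2 : d * w = w * d := (Subgroup.mem_centralizer_iff.1 hdR w hwR).symm
  calc v * (d * d) = (w * w) * v * d * d := by rw [hR2 w hwR]; group
    _ = w * (w * v * d) * d := by group
    _ = w * (d * v) * d := by rw [h1]
    _ = (w * d) * v * d := by group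
    _ = (d * w) * v * d := by rw [h2]
    _ = d * (w * v * d) := by group
    _ = d * (d * v) := by rw [h1]
    _ = d * d * v := by group

theorem involves_S4_of_two_transvections [Finite G] (V : Subgroup G)
    (hVc : ∀ u ∈ V, ∀ v ∈ V, u * v = v * u) (a a' r r' c : G)
    (hrV : r ∈ V) (hr'V : r' ∈ V) (hr : r * r = 1) (hr' : r' * r' = 1) (hr1 : r ≠ 1)
    (hr'1 : r' ≠ 1)
    (ha : ∀ v ∈ V, a * v * a⁻¹ * v⁻¹ = 1 ∨ a * v * a⁻¹ * v⁻¹ = r)
    (ha' : ∀ v ∈ V, a' * v * a'⁻¹ * v⁻¹ = 1 ∨ a' * v * a'⁻¹ * v⁻¹ = r')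
    (ha2 : ∃ k : ℕ, a ^ (2 ^ k) = 1) (ha'2 : ∃ k : ℕ, a' ^ (2 ^ k) = 1)
    (hc : ∀ M : Subgroup G, a ∈ M → a' ∈ M → Subgroup.centralizer (V : Set G) ≤ M → c ∈ M)
    (hc2 : ∀ k : ℕ, c ^ (2 ^ k) ∉ Subgroup.centralizer (V : Set G)) :
    Cfsg.Involves (Equiv.Perm (Fin 4)) G := by
  have hcomm : r * r' = r' * r := hVc r hrV r' hr'V
  obtain ⟨R, hRdef⟩ : ∃ R, R = fourGroup r r' hr hr' hcomm := ⟨_, rfl⟩
  have hmemR : ∀ u, u ∈ R ↔ u = 1 ∨ u = r ∨ u = r' ∨ u = r * r' := by
    intro u; rw [hRdef]; exact mem_fourGroup hr hr' hcomm u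
  have hrR : r ∈ R := (hmemR r).2 (Or.inr (Or.inl rfl))
  have hr'R : r' ∈ R := (hmemR r').2 (Or.inr (Or.inr (Or.inl rfl)))
  have hRV : R ≤ V := by
    intro u hu
    rcases (hmemR u).1 hu with h | h | h | h <;> rw [h]
    · exact V.one_mem
    · exact hrV
    · exact hr'V
    · exact V.mul_mem hrV hr'V
  have hR2 : ∀ u ∈ R, u * u = 1 := by
    intro u hu
    rcases (hmemR u).1 hu with h | h | h | h <;> rw [h]
    · exact mul_one 1
    · exact hr
    · exact hr'
    · calc r * r' * (r * r') = r * (r' * r) * r' := by group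
        _ = r * (r * r') * r' := by rw [hcomm]
        _ = (r * r) * (r' * r') := by group
        _ = 1 := by rw [hr, hr', mul_one]
  -- `a`, `a'` and `C(V)` lie in `KK`
  have hKof : ∀ d s : G, s ∈ R → (∀ v ∈ V, d * v * d⁻¹ * v⁻¹ = 1 ∨ d * v * d⁻¹ * v⁻¹ = s) →
      d ∈ KK V R := by
    intro d s hs hd
    have hdV : ∀ v ∈ V, d * v * d⁻¹ * v⁻¹ ∈ R := by
      intro v hv
      rcases hd v hv with h | h <;> rw [h]
      · exact R.one_mem
      · exact hs
    refine ⟨mem_normalizer_of_finite ?_, hdV⟩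
    intro u hu
    have e : d * u * d⁻¹ = (d * u * d⁻¹ * u⁻¹) * u := by group
    rw [e]
    exact R.mul_mem (hdV u (hRV hu)) hu
  have haK : a ∈ KK V R := hKof a r hrR ha
  have ha'K : a' ∈ KK V R := hKof a' r' hr'R ha'
  have hCK : Subgroup.centralizer (V : Set G) ≤ KK V R := by
    intro d hd
    apply hKof d 1 R.one_mem
    intro v hv
    left
    have := Subgroup.mem_centralizer_iff.1 hd v hv
    calc d * v * d⁻¹ * v⁻¹ = (v * d) * d⁻¹ * v⁻¹ := by rw [this]
      _ = 1 := by group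
  have hcK : c ∈ KK V R := hc _ haK ha'K hCK
  have hcR : ∀ k : ℕ, c ^ (2 ^ k) ∉ Subgroup.centralizer (R : Set G) := by
    intro k hk
    have h1 := sq_mem_centralizer_of_mem_KK hR2 ((KK V R).pow_mem hcK (2 ^ k)) hk
    apply hc2 (k + 1)
    have e : c ^ (2 ^ (k + 1)) = c ^ (2 ^ k) * c ^ (2 ^ k) := by
      rw [← pow_add, pow_succ, mul_two]
    rw [e]; exact h1
  have hcR0 : c ∉ Subgroup.centralizer (R : Set G) := by
    have := hcR 0
    rwa [pow_zero, pow_one] at this
  have hCVR : Subgroup.centralizer (V : Set G) ≤ Subgroup.centralizer (R : Set G) :=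
    Subgroup.centralizer_le hRV
  obtain ⟨b, hbK, hbR, j, hbj⟩ : ∃ b, b ∈ KK V R ∧ b ∉ Subgroup.centralizer (R : Set G) ∧
      ∃ j : ℕ, b ^ (2 ^ j) = 1 := by
    by_contra hcon
    push Not at hcon
    have h1 : a ∈ Subgroup.centralizer (R : Set G) := by
      by_contra h
      obtain ⟨k, hk⟩ := ha2
      exact hcon a haK h k hk
    have h2 : a' ∈ Subgroup.centralizer (R : Set G) := by
      by_contra h
      obtain ⟨k, hk⟩ := ha'2
      exact hcon a' ha'K h k hk
    exact hcR0 (hc _ h1 h2 hCVR)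
  have hne : r ≠ r' := by
    intro heq
    apply hcR0
    rw [Subgroup.mem_centralizer_iff]
    have hcr : r * c = c * r := by
      have h1 := (Subgroup.mem_normalizer_iff.1 hcK.1 r).1 hrR
      have h2 : c * r * c⁻¹ = r := by
        rcases (hmemR _).1 h1 with h | h | h | h
        · exfalso
          apply hr1
          have : c * r * c⁻¹ = c * 1 * c⁻¹ := by rw [h]; group
          have h3 := mul_right_cancel this
          exact mul_left_cancel h3
        · exact h
        · rw [h, heq]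
        · exfalso
          apply hr1
          rw [← heq, hr] at h
          have : c * r * c⁻¹ = c * 1 * c⁻¹ := by rw [h]; group
          have h3 := mul_right_cancel this
          exact mul_left_cancel h3
      calc r * c = (c * r * c⁻¹) * c := by rw [h2]
        _ = c * r := by group
    intro u hu
    rcases (hmemR u).1 hu with h | h | h | h <;> rw [h]
    · rw [one_mul, mul_one]
    · exact hcr
    · rw [← heq]; exact hcr
    · rw [← heq, hr, one_mul, mul_one]
  have hR4 : Nat.card R = 4 := by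
    rw [hRdef]; exact card_fourGroup hr hr' hcomm hr1 hr'1 hne
  obtain ⟨N, hN⟩ : ∃ N, N = Subgroup.normalizer (R : Set G) := ⟨_, rfl⟩
  have hRN : R ≤ N := hN ▸ Subgroup.le_normalizer
  have hbN : b ∈ N := hN ▸ hbK.1
  have hcN : c ∈ N := hN ▸ hcK.1
  obtain ⟨φ, hφ⟩ : ∃ φ : N →* MulAut R, φ.ker = (Subgroup.centralizer (R : Set G)).subgroupOf N := by
    subst hN
    exact ⟨R.normalizerMonoidHom, Subgroup.normalizerMonoidHom_ker R⟩
  have hker : φ.rangeRestrict.ker = (Subgroup.centralizer (R : Set G)).subgroupOf N := by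
    rw [MonoidHom.ker_rangeRestrict, hφ]
  have hle : Nat.card φ.range ≤ 6 := by
    have h1 : Nat.card φ.range ≤ Nat.card (MulAut R) :=
      Nat.card_le_card_of_injective _ Subtype.val_injective
    refine h1.trans (card_mulAut_le_six hR4 ⟨r, hrR⟩ ⟨r', hr'R⟩ ?_ ?_ ?_ ?_)
    · intro h; exact hr1 (congrArg Subtype.val h)
    · intro h; exact hr'1 (congrArg Subtype.val h)
    · intro h; exact hne (congrArg Subtype.val h)
    · intro u
      rcases (hmemR u.1).1 u.2 with h | h | h | h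
      · left; exact Subtype.ext h
      · right; left; exact Subtype.ext h
      · right; right; left; exact Subtype.ext h
      · right; right; right; exact Subtype.ext h
  have h6 : Nat.card φ.range = 6 := by
    apply card_eq_six_of_elements hle (φ.rangeRestrict ⟨b, hbN⟩) (φ.rangeRestrict ⟨c, hcN⟩)
    · intro h
      have : (⟨b, hbN⟩ : N) ∈ φ.rangeRestrict.ker := MonoidHom.mem_ker.2 h
      rw [hker, Subgroup.mem_subgroupOf] at this
      exact hbR this
    · refine ⟨j, ?_⟩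
      rw [← map_pow]
      have : (⟨b, hbN⟩ : N) ^ (2 ^ j) = 1 := Subtype.ext (by simpa using hbj)
      rw [this, map_one]
    · intro k h
      rw [← map_pow] at h
      have : (⟨c, hcN⟩ : N) ^ (2 ^ k) ∈ φ.rangeRestrict.ker := MonoidHom.mem_ker.2 h
      rw [hker, Subgroup.mem_subgroupOf] at this
      apply hcR k
      simpa using this
  haveI hRn : (R.subgroupOf N).Normal := by
    subst hN; exact Subgroup.normal_in_normalizer
  have hidx : (Subgroup.centralizer ((R.subgroupOf N : Subgroup N) : Set N)).index = 6 := by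
    rw [centralizer_subgroupOf_eq hRN, ← hφ, Subgroup.index_ker, h6]
  have h4 : Nat.card (R.subgroupOf N) = 4 := by rw [card_subgroupOf_of_le hRN, hR4]
  have h5 : ∀ u ∈ R.subgroupOf N, u * u = 1 := by
    intro u hu
    exact Subtype.ext (hR2 u.1 (Subgroup.mem_subgroupOf.1 hu))
  exact QuadFree.involves_of_injective N.subtype N.subtype_injective
    (involves_S4_of_normal_four _ N rfl (R.subgroupOf N) h4 h5 hidx)

end GW

end Cfsg.Agent.Helper1
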