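import Mathlib
import Cfsg.Prelude.Def_LocalEven
import Cfsg.Agent.Helper2.BaerSuzuki
import Cfsg.Agent.Helper1.GWn

set_option autoImplicit false

/-!
A `2`-element acting as a "transvection" on a normal abelian subgroup `V` of `G`, where
`O_2(G / C_G(V)) = 1`, forces `S₄` to be involved in `G` (Baer–Suzuki).
-/

namespace Cfsg.Agent.Helper1

namespace GW

open Cfsg.Agent.Helper2

universe u

variable {G : Type u} [Group G]

theorem involves_S4_of_transvection [Finite G] (V : Subgroup G) [hVn : V.Normal]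
    (hVc : ∀ u ∈ V, ∀ v ∈ V, u * v = v * u)
    (hOp : ∀ D : Subgroup G, D.Normal → Subgroup.centralizer (V : Set G) ≤ D →
      (∃ k : ℕ, (Subgroup.centralizer (V : Set G)).relIndex D = 2 ^ k) →
      D = Subgroup.centralizer (V : Set G))
    (a r : G) (ha2 : ∃ k : ℕ, a ^ (2 ^ k) = 1) (haC : a ∉ Subgroup.centralizer (V : Set G))
    (hrV : r ∈ V) (hr : r * r = 1) (hr1 : r ≠ 1)
    (ha : ∀ v ∈ V, a * v * a⁻¹ * v⁻¹ = 1 ∨ a * v * a⁻¹ * v⁻¹ = r) :
    Cfsg.Involves (Equiv.Perm (Fin 4)) G := by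
  haveI : Fact (Nat.Prime 2) := ⟨Nat.prime_two⟩
  obtain ⟨C, hC⟩ : ∃ C, C = Subgroup.centralizer (V : Set G) := ⟨_, rfl⟩
  haveI hCn : C.Normal := by rw [hC]; infer_instance
  rw [← hC] at hOp haC
  obtain ⟨π, hπ⟩ : ∃ π : G →* G ⧸ C, π = QuotientGroup.mk' C := ⟨_, rfl⟩
  have hsurj : Function.Surjective π := hπ ▸ QuotientGroup.mk'_surjective C
  have hker : π.ker = C := by rw [hπ, QuotientGroup.ker_mk']
  obtain ⟨X, hX⟩ : ∃ X, X = Subgroup.zpowers (π a) := ⟨_, rfl⟩
  have hX2 : IsPGroup 2 X := by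
    obtain ⟨k, hk⟩ := ha2
    have h1 : (π a) ^ (2 ^ k) = 1 := by rw [← map_pow, hk, map_one]
    have h2 : orderOf (π a) ∣ 2 ^ k := orderOf_dvd_of_pow_eq_one h1
    obtain ⟨i, -, hi⟩ := (Nat.dvd_prime_pow Nat.prime_two).1 h2
    apply IsPGroup.of_card (n := i)
    rw [hX, Nat.card_zpowers, hi]
  by_cases hall : ∀ g' : G ⧸ C, IsPGroup 2 ↥(X ⊔ cj g' X)
  · exfalso
    obtain ⟨N', hN'n, hN'2, hXN'⟩ := baer_suzuki X hX2 hall
    obtain ⟨D, hD⟩ : ∃ D, D = N'.comap π := ⟨_, rfl⟩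
    have hDn : D.Normal := by rw [hD]; exact hN'n.comap π
    have hCD : C ≤ D := by
      intro x hx
      rw [hD, Subgroup.mem_comap]
      have : π x = 1 := by rw [← MonoidHom.mem_ker, hker]; exact hx
      rw [this]; exact N'.one_mem
    have hrel : ∃ k : ℕ, C.relIndex D = 2 ^ k := by
      obtain ⟨k, hk⟩ := IsPGroup.iff_card.1 hN'2
      refine ⟨k, ?_⟩
      have e1 : C = (⊥ : Subgroup (G ⧸ C)).comap π := by rw [MonoidHom.comap_bot, hker]
      have e2 : D.map π = N' := by rw [hD]; exact Subgroup.map_comap_eq_self_of_surjective hsurj N'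
      conv_lhs => rw [e1]
      rw [Subgroup.relIndex_comap, e2, Subgroup.relIndex_bot_left, hk]
    have hDC := hOp D hDn hCD hrel
    apply haC
    rw [← hDC, hD, Subgroup.mem_comap]
    apply hXN'
    rw [hX]; exact Subgroup.mem_zpowers _
  · push Not at hall
    obtain ⟨g', hg'⟩ := hall
    obtain ⟨g, rfl⟩ := hsurj g'
    have hy : ∃ y : ↥(X ⊔ cj (π g) X), ∀ k : ℕ, y ^ (2 ^ k) ≠ 1 := by
      by_contra hcon
      push Not at hcon
      exact hg' hcon
    obtain ⟨y, hy⟩ := hy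
    obtain ⟨c, hcy⟩ := hsurj (y : G ⧸ C)
    have hconj1 : ∀ t : G, g * t * g⁻¹ = 1 → t = 1 := by
      intro t ht
      have : g * t * g⁻¹ = g * 1 * g⁻¹ := by rw [ht]; group
      exact mul_left_cancel (mul_right_cancel this)
    apply involves_S4_of_two_transvections V hVc a (g * a * g⁻¹) r (g * r * g⁻¹) c hrV
      (hVn.conj_mem r hrV g) hr ?_ hr1 ?_ ha ?_ ha2 ?_ ?_ ?_
    · calc g * r * g⁻¹ * (g * r * g⁻¹) = g * (r * r) * g⁻¹ := by group
        _ = 1 := by rw [hr]; group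
    · intro h; exact hr1 (hconj1 r h)
    · intro v hv
      have hw : g⁻¹ * v * g ∈ V := by
        have := hVn.conj_mem v hv g⁻¹
        rwa [inv_inv] at this
      have e : g * a * g⁻¹ * v * (g * a * g⁻¹)⁻¹ * v⁻¹ =
          g * (a * (g⁻¹ * v * g) * a⁻¹ * (g⁻¹ * v * g)⁻¹) * g⁻¹ := by group
      rw [e]
      rcases ha _ hw with h | h <;> rw [h]
      · left; group
      · right; rfl
    · obtain ⟨k, hk⟩ := ha2
      refine ⟨k, ?_⟩
      rw [conj_pow, hk]; group
    · intro M haM ha'M hCM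
      have h1 : X ≤ M.map π := by
        rw [hX, Subgroup.zpowers_le]
        exact Subgroup.mem_map_of_mem π haM
      have h2 : cj (π g) X ≤ M.map π := by
        rw [cj_le_iff]
        intro x hx
        rw [hX, Subgroup.mem_zpowers_iff] at hx
        obtain ⟨n, rfl⟩ := hx
        have e : π g * π a ^ n * (π g)⁻¹ = (π (g * a * g⁻¹)) ^ n := by
          rw [map_mul, map_mul, map_inv, conj_zpow]
        rw [e]
        exact Subgroup.zpow_mem _ (Subgroup.mem_map_of_mem π ha'M) n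
      have h3 : π c ∈ M.map π := by
        rw [hcy]; exact (sup_le h1 h2) y.2
      obtain ⟨m, hm, hmc⟩ := h3
      have h4 : m⁻¹ * c ∈ C := by
        rw [← hker, MonoidHom.mem_ker, map_mul, map_inv, hmc, inv_mul_cancel]
      have e : c = m * (m⁻¹ * c) := by group
      rw [e]
      exact M.mul_mem hm (hCM (by rw [← hC]; exact h4))
    · intro k hk
      apply hy k
      apply Subtype.ext
      rw [← hC, ← hker, MonoidHom.mem_ker, map_pow, hcy] at hk
      simpa using hk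

end GW

end Cfsg.Agent.Helper1
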