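import Mathlib
import Cfsg.Prelude.Def_LocalEven
import Cfsg.Agent.Helper2.BaerSuzuki
import Cfsg.Agent.Helper1.GWo
import Cfsg.Agent.Helper1.CZa

set_option autoImplicit false

/-!
A `p`-element `a` of a finite group `H` such that `⟨a⟩` is normalised by an elementary abelian
normal self-centralising `p`-subgroup `V` with `O_p(H / V) = 1` lies in `V`, provided `p` is odd
or `S₄` is not involved in `H`.
-/

namespace Cfsg.Agent.Helper1

namespace CZ

open Cfsg.Agent.Helper2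

universe u

variable {H : Type u} [Group H]

/-- Baer–Suzuki, lifted: if `O_p(H / C) = 1` and `a ∉ C` is a `p`-element then for some conjugate
`g a g⁻¹` the group `⟨a, g a g⁻¹⟩ C / C` contains an element which is not a `p`-element. -/
theorem bs_lift [Finite H] (p : ℕ) [hp : Fact p.Prime] (C : Subgroup H) [hCn : C.Normal]
    (hOp : ∀ D : Subgroup H, D.Normal → C ≤ D → (∃ k : ℕ, C.relIndex D = p ^ k) → D = C)
    (a : H) (hap : ∃ k : ℕ, a ^ (p ^ k) = 1) (haC : a ∉ C) :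
    ∃ g c : H, (∀ M : Subgroup H, a ∈ M → g * a * g⁻¹ ∈ M → C ≤ M → c ∈ M) ∧
      ∀ k : ℕ, c ^ (p ^ k) ∉ C := by
  obtain ⟨π, hπ⟩ : ∃ π : H →* H ⧸ C, π = QuotientGroup.mk' C := ⟨_, rfl⟩
  have hsurj : Function.Surjective π := hπ ▸ QuotientGroup.mk'_surjective C
  have hker : π.ker = C := by rw [hπ, QuotientGroup.ker_mk']
  obtain ⟨X, hX⟩ : ∃ X, X = Subgroup.zpowers (π a) := ⟨_, rfl⟩
  have hXp : IsPGroup p X := by
    obtain ⟨k, hk⟩ := hap
    have h1 : (π a) ^ (p ^ k) = 1 := by rw [← map_pow, hk, map_one]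
    have h2 : orderOf (π a) ∣ p ^ k := orderOf_dvd_of_pow_eq_one h1
    obtain ⟨i, -, hi⟩ := (Nat.dvd_prime_pow hp.out).1 h2
    apply IsPGroup.of_card (n := i)
    rw [hX, Nat.card_zpowers, hi]
  by_cases hall : ∀ g' : H ⧸ C, IsPGroup p ↥(X ⊔ cj g' X)
  · exfalso
    obtain ⟨N', hN'n, hN'p, hXN'⟩ := baer_suzuki X hXp hall
    obtain ⟨D, hD⟩ : ∃ D, D = N'.comap π := ⟨_, rfl⟩
    have hDn : D.Normal := by rw [hD]; exact hN'n.comap π
    have hCD : C ≤ D := by
      intro x hx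
      rw [hD, Subgroup.mem_comap]
      have : π x = 1 := by rw [← MonoidHom.mem_ker, hker]; exact hx
      rw [this]; exact N'.one_mem
    have hrel : ∃ k : ℕ, C.relIndex D = p ^ k := by
      obtain ⟨k, hk⟩ := IsPGroup.iff_card.1 hN'p
      refine ⟨k, ?_⟩
      have e1 : C = (⊥ : Subgroup (H ⧸ C)).comap π := by rw [MonoidHom.comap_bot, hker]
      have e2 : D.map π = N' := by rw [hD]; exact Subgroup.map_comap_eq_self_of_surjective hsurj N'
      conv_lhs => rw [e1]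
      rw [Subgroup.relIndex_comap, e2, Subgroup.relIndex_bot_left, hk]
    have hDC := hOp D hDn hCD hrel
    apply haC
    rw [← hDC, hD, Subgroup.mem_comap]
    apply hXN'
    rw [hX]; exact Subgroup.mem_zpowers _
  · push Not at hall
    obtain ⟨g', hg'⟩ := hall
    obtain ⟨g, rfl⟩ := hsurj g'
    have hy : ∃ y : ↥(X ⊔ cj (π g) X), ∀ k : ℕ, y ^ (p ^ k) ≠ 1 := by
      by_contra hcon
      push Not at hcon
      exact hg' hcon
    obtain ⟨y, hy⟩ := hy
    obtain ⟨c, hcy⟩ := hsurj (y : H ⧸ C)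
    refine ⟨g, c, ?_, ?_⟩
    · intro M haM ha'M hCM
      have h1 : X ≤ M.map π := by
        rw [hX, Subgroup.zpowers_le]
        exact Subgroup.mem_map_of_mem π haM
      have h2 : cj (π g) X ≤ M.map π := by
        rw [cj_le_iff]
        intro x hx
        rw [hX, Subgroup.mem_zpowers_iff] at hx
        obtain ⟨n, rfl⟩ := hx
        have e : π g * π a ^ n * (π g)⁻¹ = (π (g * a * g⁻¹)) ^ n := by
          rw [map_mul, map_mul, map_inv, conj_zpow]
        rw [e]
        exact Subgroup.zpow_mem _ (Subgroup.mem_map_of_mem π ha'M) n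
      have h3 : π c ∈ M.map π := by
        rw [hcy]; exact (sup_le h1 h2) y.2
      obtain ⟨m, hm, hmc⟩ := h3
      have h4 : m⁻¹ * c ∈ C := by
        rw [← hker, MonoidHom.mem_ker, map_mul, map_inv, hmc, inv_mul_cancel]
      have e : c = m * (m⁻¹ * c) := by group
      rw [e]
      exact M.mul_mem hm (hCM h4)
    · intro k hk
      apply hy k
      apply Subtype.ext
      rw [← hker, MonoidHom.mem_ker, map_pow, hcy] at hk
      simpa using hk

/-- Subgroups of prime order are generated by any nontrivial element. -/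
theorem zpowers_eq_of_mem [Finite H] {p : ℕ} (hp : p.Prime) {z w : H} (hz : z ^ p = 1)
    (hw : w ∈ Subgroup.zpowers z) (hw1 : w ≠ 1) : Subgroup.zpowers w = Subgroup.zpowers z := by
  have hz1 : z ≠ 1 := by
    rintro rfl
    rw [Subgroup.zpowers_one_eq_bot, Subgroup.mem_bot] at hw
    exact hw1 hw
  have hwp : w ^ p = 1 := by
    obtain ⟨k, rfl⟩ := Subgroup.mem_zpowers_iff.1 hw
    rw [← zpow_natCast, ← zpow_mul, mul_comm, zpow_mul, zpow_natCast, hz, one_zpow]
  haveI : Fact p.Prime := ⟨hp⟩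
  apply Subgroup.eq_of_le_of_card_ge (Subgroup.zpowers_le.2 hw)
  rw [Nat.card_zpowers, Nat.card_zpowers, orderOf_eq_prime hz hz1, orderOf_eq_prime hwp hw1]

/-- The chain-stabiliser case: `a` centralises `z'`. -/
theorem chainA [Finite H] {p : ℕ} (V : Subgroup H) (hVp : ∀ v ∈ V, v ^ p = 1) (a a' z z' : H)
    (hz : z ∈ V) (hz' : z' ∈ V)
    (ha : ∀ v ∈ V, a * v * a⁻¹ * v⁻¹ ∈ Subgroup.zpowers z)
    (ha' : ∀ v ∈ V, a' * v * a'⁻¹ * v⁻¹ ∈ Subgroup.zpowers z')
    (haz : a * z = z * a) (haz' : a * z' = z' * a) (ha'z' : a' * z' = z' * a') :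
    ∃ M : Subgroup H, a ∈ M ∧ a' ∈ M ∧ Subgroup.centralizer (V : Set H) ≤ M ∧
      ∀ m ∈ M, (m ^ p) ^ p ∈ Subgroup.centralizer (V : Set H) := by
  obtain ⟨A₁, hA₁⟩ : ∃ A₁, A₁ = Subgroup.zpowers z' := ⟨_, rfl⟩
  obtain ⟨A₂, hA₂⟩ : ∃ A₂, A₂ = Subgroup.zpowers z ⊔ Subgroup.zpowers z' := ⟨_, rfl⟩
  have h12 : A₁ ≤ A₂ := by rw [hA₁, hA₂]; exact le_sup_right
  have h1V : A₁ ≤ V := by rw [hA₁]; exact Subgroup.zpowers_le.2 hz'
  have h2V : A₂ ≤ V := by
    rw [hA₂]; exact sup_le (Subgroup.zpowers_le.2 hz) (Subgroup.zpowers_le.2 hz')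
  have hcomm1 : ∀ x : H, x * a = a * x → x * a * x⁻¹ * a⁻¹ = 1 := by
    intro x hx; rw [hx]; group
  have haA2 : ∀ w ∈ A₂, a * w * a⁻¹ * w⁻¹ = 1 := by
    have : A₂ ≤ Subgroup.centralizer {a} := by
      rw [hA₂]
      refine sup_le (Subgroup.zpowers_le.2 ?_) (Subgroup.zpowers_le.2 ?_)
      · rw [Subgroup.mem_centralizer_iff]; intro x hx
        rw [Set.mem_singleton_iff] at hx; rw [hx]; exact haz
      · rw [Subgroup.mem_centralizer_iff]; intro x hx
        rw [Set.mem_singleton_iff] at hx; rw [hx]; exact haz'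
    intro w hw
    have h1 := Subgroup.mem_centralizer_iff.1 (this hw) a (Set.mem_singleton a)
    rw [h1]; group
  have ha'A1 : ∀ w ∈ A₁, a' * w * a'⁻¹ * w⁻¹ = 1 := by
    have : A₁ ≤ Subgroup.centralizer {a'} := by
      rw [hA₁]
      refine Subgroup.zpowers_le.2 ?_
      rw [Subgroup.mem_centralizer_iff]; intro x hx
      rw [Set.mem_singleton_iff] at hx; rw [hx]; exact ha'z'
    intro w hw
    have h1 := Subgroup.mem_centralizer_iff.1 (this hw) a' (Set.mem_singleton a')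
    rw [h1]; group
  refine ⟨chainStab A₁ A₂ V h12, ?_, ?_, ?_, ?_⟩
  · rw [mem_chainStab]
    refine ⟨fun v hv => ?_, fun w hw => ?_, fun w hw => ?_⟩
    · rw [hA₂]; exact (le_sup_left : Subgroup.zpowers z ≤ _) (ha v hv)
    · rw [haA2 w hw]; exact A₁.one_mem
    · rw [haA2 w (h12 hw)]; exact Subgroup.one_mem _
  · rw [mem_chainStab]
    refine ⟨fun v hv => ?_, fun w hw => ?_, fun w hw => ?_⟩
    · rw [hA₂]; exact (le_sup_right : Subgroup.zpowers z' ≤ _) (ha' v hv)
    · rw [hA₁]; exact ha' w (h2V hw)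
    · rw [ha'A1 w hw]; exact Subgroup.one_mem _
  · intro x hx
    have hx1 : ∀ v ∈ V, x * v * x⁻¹ * v⁻¹ = 1 := by
      intro v hv
      have := Subgroup.mem_centralizer_iff.1 hx v hv
      rw [← this]; group
    rw [mem_chainStab]
    refine ⟨fun v hv => ?_, fun w hw => ?_, fun w hw => ?_⟩
    · rw [hx1 v hv]; exact Subgroup.one_mem _
    · rw [hx1 w (h2V hw)]; exact Subgroup.one_mem _
    · rw [hx1 w (h1V hw)]; exact Subgroup.one_mem _
  · intro m hm
    exact chainStab_pow_mem_centralizer (fun w hw => hVp w (h1V hw)) (fun w hw => hVp w (h2V hw)) hm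

end CZ

end Cfsg.Agent.Helper1
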