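import Mathlib
import Cfsg.Prelude.Def_LocalEven
import Cfsg.Agent.Helper1.CZb

set_option autoImplicit false

/-!
The reduced form of the theorem on cyclic normal subgroups of Sylow subgroups.
-/

namespace Cfsg.Agent.Helper1

namespace CZ

universe u

variable {H : Type u} [Group H]

/-- Conjugating `x v x⁻¹ = w v`-type data: a uniform way to obtain the "transvection" property
for a power `u = a ^ j`. -/
theorem transv_pow (V : Subgroup H) (hVc : ∀ x ∈ V, ∀ y ∈ V, x * y = y * x) (a z : H)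
    (hz : z ∈ V) (ha : ∀ v ∈ V, a * v * a⁻¹ * v⁻¹ ∈ Subgroup.zpowers z) (haz : a * z = z * a)
    (j : ℕ) : ∀ v ∈ V, ∃ n : ℤ, a ^ j * v * (a ^ j)⁻¹ = v * z ^ n := by
  intro v hv
  obtain ⟨n₀, hn₀⟩ := Subgroup.mem_zpowers_iff.1 (ha v hv)
  have h1 : a * v * a⁻¹ = z ^ n₀ * v := by rw [hn₀]; group
  have h2 : a * z ^ n₀ = z ^ n₀ * a := ((show Commute a z from haz).zpow_right n₀).eq
  have h3 := pow_conj h2 h1 j
  refine ⟨n₀ * j, ?_⟩
  rw [h3, zpow_mul, zpow_natCast]
  exact hVc _ (V.pow_mem (V.zpow_mem hz n₀) j) v hv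

theorem mem_of_normalizes [Finite H] (p : ℕ) [hp : Fact p.Prime] (V : Subgroup H)
    [hVn : V.Normal]
    (hVc : ∀ x ∈ V, ∀ y ∈ V, x * y = y * x) (hVp : ∀ v ∈ V, v ^ p = 1)
    (hCV : Subgroup.centralizer (V : Set H) ≤ V)
    (hOp : ∀ D : Subgroup H, D.Normal → Subgroup.centralizer (V : Set H) ≤ D →
      (∃ k : ℕ, (Subgroup.centralizer (V : Set H)).relIndex D = p ^ k) →
      D = Subgroup.centralizer (V : Set H))
    (a : H) (hap : ∃ k : ℕ, a ^ (p ^ k) = 1)
    (hVa : ∀ v ∈ V, v * a * v⁻¹ ∈ Subgroup.zpowers a)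
    (h : p ≠ 2 ∨ ¬ Cfsg.Involves (Equiv.Perm (Fin 4)) H) : a ∈ V := by
  by_contra haV
  have haC : a ∉ Subgroup.centralizer (V : Set H) := fun h => haV (hCV h)
  have hVC : V ≤ Subgroup.centralizer (V : Set H) := by
    intro x hx
    rw [Subgroup.mem_centralizer_iff]
    intro v hv
    exact hVc v hv x hx
  have hcomm : ∀ v ∈ V, a * v * a⁻¹ * v⁻¹ ∈ Subgroup.zpowers a ⊓ V := by
    intro v hv
    refine ⟨?_, ?_⟩
    · have : a * v * a⁻¹ * v⁻¹ = a * (v * a * v⁻¹)⁻¹ := by group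
      rw [this]
      show _ ∈ Subgroup.zpowers a
      exact Subgroup.mul_mem _ (Subgroup.mem_zpowers a) (Subgroup.inv_mem _ (hVa v hv))
    · exact V.mul_mem (hVn.conj_mem v hv a) (V.inv_mem hv)
  obtain ⟨v₀, hv₀, hne⟩ : ∃ v ∈ V, a * v * a⁻¹ * v⁻¹ ≠ 1 := by
    by_contra hcon
    push Not at hcon
    apply haC
    rw [Subgroup.mem_centralizer_iff]
    intro v hv
    have := hcon v hv
    calc v * a = (a * v * a⁻¹ * v⁻¹)⁻¹ * a * v := by group
      _ = a * v := by rw [this]; group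
  obtain ⟨z, hzdef⟩ : ∃ z, z = a * v₀ * a⁻¹ * v₀⁻¹ := ⟨_, rfl⟩
  have hzA : z ∈ Subgroup.zpowers a ⊓ V := hzdef ▸ hcomm v₀ hv₀
  have hz1 : z ≠ 1 := hzdef ▸ hne
  have hzV : z ∈ V := hzA.2
  have hzp : z ^ p = 1 := hVp z hzV
  have hzo : orderOf z = p := orderOf_eq_prime hzp hz1
  have hA0 : Subgroup.zpowers a ⊓ V = Subgroup.zpowers z := by
    symm
    apply Subgroup.eq_of_le_of_card_ge (Subgroup.zpowers_le.2 hzA)
    rw [Nat.card_zpowers, hzo]
    haveI : IsCyclic ↥(Subgroup.zpowers a ⊓ V) :=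
      Subgroup.isCyclic_of_le (H' := Subgroup.zpowers a) inf_le_left
    obtain ⟨w, hw⟩ := IsCyclic.exists_generator (α := ↥(Subgroup.zpowers a ⊓ V))
    rw [← orderOf_eq_card_of_forall_mem_zpowers hw]
    apply Nat.le_of_dvd hp.out.pos
    apply orderOf_dvd_of_pow_eq_one
    apply Subtype.ext
    rw [Subgroup.coe_pow, Subgroup.coe_one]
    exact hVp _ w.2.2
  have ha : ∀ v ∈ V, a * v * a⁻¹ * v⁻¹ ∈ Subgroup.zpowers z := by
    intro v hv; rw [← hA0]; exact hcomm v hv
  have haz : a * z = z * a := by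
    obtain ⟨k, hk⟩ := Subgroup.mem_zpowers_iff.1 hzA.1
    rw [← hk]
    exact ((Commute.refl a).zpow_right k).eq
  rcases hp.out.eq_two_or_odd with hp2 | hpodd
  · -- `p = 2`
    subst hp2
    rcases h with h | h
    · exact h rfl
    · apply h
      refine GW.involves_S4_of_transvection V hVc hOp a z hap haC hzV ?_ hz1 ?_
      · rw [← pow_two]; exact hzp
      · intro v hv
        obtain ⟨n, hn⟩ := Subgroup.mem_zpowers_iff.1 (ha v hv)
        rw [← hn]
        rcases Int.even_or_odd n with ⟨m, hm⟩ | ⟨m, hm⟩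
        · left
          rw [hm, ← two_mul, zpow_mul, zpow_ofNat, hzp, one_zpow]
        · right
          rw [hm, zpow_add, zpow_mul, zpow_ofNat, hzp, one_zpow, one_mul, zpow_one]
  · -- `p` odd
    have hp2 : p ≠ 2 := by intro h2; rw [h2] at hpodd; omega
    obtain ⟨g, c, hc, hc2⟩ := bs_lift p (Subgroup.centralizer (V : Set H)) hOp a hap haC
    obtain ⟨a', ha'def⟩ : ∃ a', a' = g * a * g⁻¹ := ⟨_, rfl⟩
    obtain ⟨z', hz'def⟩ : ∃ z', z' = g * z * g⁻¹ := ⟨_, rfl⟩
    rw [← ha'def] at hc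
    have hz'V : z' ∈ V := hz'def ▸ hVn.conj_mem z hzV g
    have ha' : ∀ v ∈ V, a' * v * a'⁻¹ * v⁻¹ ∈ Subgroup.zpowers z' := by
      intro v hv
      have hw : g⁻¹ * v * g ∈ V := by
        have := hVn.conj_mem v hv g⁻¹
        rwa [inv_inv] at this
      obtain ⟨n, hn⟩ := Subgroup.mem_zpowers_iff.1 (ha _ hw)
      have e : a' * v * a'⁻¹ * v⁻¹ =
          g * (a * (g⁻¹ * v * g) * a⁻¹ * (g⁻¹ * v * g)⁻¹) * g⁻¹ := by rw [ha'def]; group
      rw [e, ← hn, hz'def, ← conj_zpow]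
      exact Subgroup.mem_zpowers_iff.2 ⟨n, rfl⟩
    have ha'z' : a' * z' = z' * a' := by
      rw [ha'def, hz'def]
      calc g * a * g⁻¹ * (g * z * g⁻¹) = g * (a * z) * g⁻¹ := by group
        _ = g * (z * a) * g⁻¹ := by rw [haz]
        _ = g * z * g⁻¹ * (g * a * g⁻¹) := by group
    have hcontra : ∀ M : Subgroup H, a ∈ M → a' ∈ M → Subgroup.centralizer (V : Set H) ≤ M →
        (∀ m ∈ M, (m ^ p) ^ p ∈ Subgroup.centralizer (V : Set H)) → False := by
      intro M h1 h2 h3 h4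
      have := h4 c (hc M h1 h2 h3)
      apply hc2 2
      rw [pow_two, pow_mul]; exact this
    by_cases hc1 : a * z' = z' * a
    · obtain ⟨M, h1, h2, h3, h4⟩ := chainA V hVp a a' z z' hzV hz'V ha ha' haz hc1 ha'z'
      exact hcontra M h1 h2 h3 h4
    by_cases hc2' : a' * z = z * a'
    · obtain ⟨M, h1, h2, h3, h4⟩ := chainA V hVp a' a z' z hz'V hzV ha' ha ha'z' hc2' haz
      exact hcontra M h2 h1 h3 h4
    -- the `SL₂` case
    obtain ⟨w, hwdef⟩ : ∃ w, w = a * z' * a⁻¹ * z'⁻¹ := ⟨_, rfl⟩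
    have hwz : w ∈ Subgroup.zpowers z := hwdef ▸ ha z' hz'V
    have hw1 : w ≠ 1 := by
      intro hw1
      apply hc1
      calc a * z' = (a * z' * a⁻¹ * z'⁻¹) * z' * a := by group
        _ = z' * a := by rw [← hwdef, hw1, one_mul]
    have hzw : z ∈ Subgroup.zpowers w := by
      rw [zpowers_eq_of_mem hp.out hzp hwz hw1]; exact Subgroup.mem_zpowers z
    obtain ⟨j, hj⟩ := (mem_powers_iff_mem_zpowers.2 hzw)
    have hj : w ^ j = z := hj
    have haw : a * w = w * a := by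
      obtain ⟨k, hk⟩ := Subgroup.mem_zpowers_iff.1 hwz
      rw [← hk]
      exact ((show Commute a z from haz).zpow_right k).eq
    have hawz' : a * z' * a⁻¹ = w * z' := by rw [hwdef]; group
    obtain ⟨u, hudef⟩ : ∃ u, u = a ^ j := ⟨_, rfl⟩
    have huz' : u * z' * u⁻¹ = z * z' := by
      rw [hudef, pow_conj haw hawz' j, hj]
    have hu : ∀ v ∈ V, ∃ n : ℤ, u * v * u⁻¹ = v * z ^ n := by
      rw [hudef]; exact transv_pow V hVc a z hzV ha haz j
    have huzc : u * z = z * u := by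
      rw [hudef]; exact ((show Commute a z from haz).pow_left j).eq
    have huz : u * z * u⁻¹ = z := by rw [huzc]; group
    -- same for `a'`
    obtain ⟨w', hw'def⟩ : ∃ w', w' = a' * z * a'⁻¹ * z⁻¹ := ⟨_, rfl⟩
    have hw'z : w' ∈ Subgroup.zpowers z' := hw'def ▸ ha' z hzV
    have hw'1 : w' ≠ 1 := by
      intro hw1
      apply hc2'
      calc a' * z = (a' * z * a'⁻¹ * z⁻¹) * z * a' := by group
        _ = z * a' := by rw [← hw'def, hw1, one_mul]
    have hz'p : z' ^ p = 1 := hVp z' hz'V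
    have hz'w : z'⁻¹ ∈ Subgroup.zpowers w' := by
      rw [zpowers_eq_of_mem hp.out hz'p hw'z hw'1]
      exact Subgroup.inv_mem _ (Subgroup.mem_zpowers z')
    obtain ⟨j', hj'⟩ := (mem_powers_iff_mem_zpowers.2 hz'w)
    have hj' : w' ^ j' = z'⁻¹ := hj'
    have ha'w' : a' * w' = w' * a' := by
      obtain ⟨k, hk⟩ := Subgroup.mem_zpowers_iff.1 hw'z
      rw [← hk]
      exact ((show Commute a' z' from ha'z').zpow_right k).eq
    have ha'wz : a' * z * a'⁻¹ = w' * z := by rw [hw'def]; group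
    obtain ⟨l, hldef⟩ : ∃ l, l = a' ^ j' := ⟨_, rfl⟩
    have hlz : l * z * l⁻¹ = z * z'⁻¹ := by
      rw [hldef, pow_conj ha'w' ha'wz j', hj']
      exact hVc _ (V.inv_mem hz'V) _ hzV
    have hl : ∀ v ∈ V, ∃ n : ℤ, l * v * l⁻¹ = v * z' ^ n := by
      rw [hldef]; exact transv_pow V hVc a' z' hz'V ha' ha'z' j'
    have hlz'c : l * z' = z' * l := by
      rw [hldef]; exact ((show Commute a' z' from ha'z').pow_left j').eq
    have hlz' : l * z' * l⁻¹ = z' := by rw [hlz'c]; group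
    obtain ⟨k1, k2⟩ := sl2_core V hVc u l z z' hzV hz'V hu hl huz huz' hlz hlz'
    obtain ⟨i, hidef⟩ : ∃ i, i = u * l * u * (u * l * u) := ⟨_, rfl⟩
    rw [← hidef] at k1 k2
    have hiu : i * u * i⁻¹ * u⁻¹ ∈ V := by
      apply hCV
      rw [Subgroup.mem_centralizer_iff]
      intro v hv
      have hv' : (u * i)⁻¹ * v * (u * i) ∈ V := by
        have := hVn.conj_mem v hv (u * i)⁻¹
        rwa [inv_inv] at this
      have h1 := k2 _ hv'
      have h2 : u * i * ((u * i)⁻¹ * v * (u * i)) * (u * i)⁻¹ = v := by group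
      rw [h2] at h1
      calc v * (i * u * i⁻¹ * u⁻¹)
          = (i * u * ((u * i)⁻¹ * v * (u * i)) * (i * u)⁻¹) * (i * u * i⁻¹ * u⁻¹) := by rw [h1]
        _ = i * u * i⁻¹ * u⁻¹ * v := by group
    -- `z` is a power of `u`
    have huV : u ∉ V := by
      intro huV
      have h1 : u * z' = z' * u := hVc u huV z' hz'V
      have h2 : u * z' * u⁻¹ = z' := by rw [h1]; group
      rw [h2] at huz'
      apply hz1
      have : 1 * z' = z * z' := by rw [one_mul]; exact huz'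
      exact (mul_right_cancel this).symm
    have hz'u : z' * u * z'⁻¹ ∈ Subgroup.zpowers u := by
      obtain ⟨k, hk⟩ := Subgroup.mem_zpowers_iff.1 (hVa z' hz'V)
      rw [hudef, ← conj_pow, ← hk, Subgroup.mem_zpowers_iff]
      refine ⟨k, ?_⟩
      rw [← zpow_natCast, ← zpow_natCast, ← zpow_mul, ← zpow_mul, mul_comm]
    have hzu : z ∈ Subgroup.zpowers u := by
      have e : z = u * (z' * u * z'⁻¹)⁻¹ := by
        have : z = (u * z' * u⁻¹) * z'⁻¹ := by rw [huz']; group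
        rw [this]; group
      rw [e]
      exact mul_mem (Subgroup.mem_zpowers u) (inv_mem hz'u)
    obtain ⟨n, hn⟩ := (mem_powers_iff_mem_zpowers.2 hzu)
    have hn : u ^ n = z := hn
    have hpn : p ∣ n := by
      by_contra hpn
      apply huV
      have hcop : Nat.Coprime p n := (Nat.Prime.coprime_iff_not_dvd hp.out).2 hpn
      have huo : ∃ e, orderOf u = p ^ e := by
        obtain ⟨k, hk⟩ := hap
        have : u ^ (p ^ k) = 1 := by rw [hudef, ← pow_mul, mul_comm, pow_mul, hk, one_pow]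
        obtain ⟨e, -, he⟩ := (Nat.dvd_prime_pow hp.out).1 (orderOf_dvd_of_pow_eq_one this)
        exact ⟨e, he⟩
      obtain ⟨e, he⟩ := huo
      have h1 : (orderOf u).Coprime n := by rw [he]; exact Nat.Coprime.pow_left e hcop
      have h2 : orderOf (u ^ n) = orderOf u := h1.orderOf_pow
      have h3 : Subgroup.zpowers (u ^ n) = Subgroup.zpowers u := by
        apply Subgroup.eq_of_le_of_card_ge
        · exact Subgroup.zpowers_le.2 (Subgroup.pow_mem _ (Subgroup.mem_zpowers u) n)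
        · rw [Nat.card_zpowers, Nat.card_zpowers, h2]
      have h4 : u ∈ Subgroup.zpowers z := by
        rw [← hn, h3]; exact Subgroup.mem_zpowers u
      exact (Subgroup.zpowers_le.2 hzV) h4
    exact hz1 (final_contra hp.out hp2 V hVc hVp u z i hzV hu huzc n hpn hn.symm k1 hiu)

end CZ

end Cfsg.Agent.Helper1
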