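import Mathlib
import Cfsg.Prelude.Def_Local
import Cfsg.Prelude.Def_LocalEven
import Cfsg.Prelude.Def_CaseTheorems
import Cfsg.Agent.Helper4.HallHigman
import Cfsg.Agent.Helper1.PGroup
import Cfsg.Agent.Helper1.QuadFreeA
import Cfsg.Agent.Helper1.CZc

set_option autoImplicit false

/-!
Cyclic normal subgroups of Sylow `p`-subgroups of `p`-soluble groups lie in `O_{p',p}(G)`
(`p` odd, or `S₄`-free).
-/

namespace Cfsg.Agent.Helper1

namespace CZ

universe u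

open scoped commutatorElement

/-- The case `O_{p'}(G) = 1`. -/
theorem mem_pCore_of_normalizes {G : Type u} [Group G] [Finite G] {p : ℕ} [hp : Fact p.Prime]
    (hG : Cfsg.IsPSolvable p G) (hO : Cfsg.pPrimeCore p G = ⊥) (P : Sylow p G) (a : G)
    (haP : a ∈ (P : Subgroup G)) (hPa : ∀ x ∈ (P : Subgroup G), x * a * x⁻¹ ∈ Subgroup.zpowers a)
    (h : p ≠ 2 ∨ ¬ Cfsg.Involves (Equiv.Perm (Fin 4)) G) : a ∈ Cfsg.pCore p G := by
  obtain ⟨Q, hQ⟩ : ∃ Q, Q = Cfsg.pCore p G := ⟨_, rfl⟩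
  have hQn : Q.Normal := by rw [hQ]; infer_instance
  have hQp : IsPGroup p Q := by rw [hQ]; exact Cfsg.Agent.Helper5.isPGroup_pCore p
  have hQP : Q ≤ (P : Subgroup G) := by rw [hQ]; exact Cfsg.Agent.Helper5.pCore_le_sylow P
  obtain ⟨Φ, hΦ⟩ : ∃ Φ, Φ = (frattini ↥Q).map Q.subtype := ⟨_, rfl⟩
  have hΦQ : Φ ≤ Q := by rw [hΦ]; exact Subgroup.map_subtype_le _
  haveI hΦn : Φ.Normal := by
    have h1 := Cfsg.Agent.Helper1.le_normalizer_map_of_characteristic Q (frattini ↥Q)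
    rw [Subgroup.normalizer_eq_top_iff.mpr hQn] at h1
    rw [hΦ]
    exact Subgroup.normalizer_eq_top_iff.mp (top_le_iff.mp h1)
  obtain ⟨π, hπ⟩ : ∃ π : G →* G ⧸ Φ, π = QuotientGroup.mk' Φ := ⟨_, rfl⟩
  have hsurj : Function.Surjective π := hπ ▸ QuotientGroup.mk'_surjective Φ
  have hker : π.ker = Φ := by rw [hπ, QuotientGroup.ker_mk']
  have hπ1 : ∀ x : G, π x = 1 ↔ x ∈ Φ := by
    intro x; rw [← MonoidHom.mem_ker, hker]
  obtain ⟨V, hV⟩ : ∃ V, V = Q.map π := ⟨_, rfl⟩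
  haveI hVn : V.Normal := by rw [hV]; exact hQn.map π hsurj
  -- commutators and `p`-th powers of `Q` lie in `Φ`
  have hcommΦ : ∀ x ∈ Q, ∀ y ∈ Q, x * y * x⁻¹ * y⁻¹ ∈ Φ := by
    intro x hx y hy
    have h1 : ⁅(⟨x, hx⟩ : ↥Q), ⟨y, hy⟩⁆ ∈ frattini ↥Q := by
      apply Cfsg.Agent.Helper1.IsPGroup.commutator_le_frattini hQp
      rw [commutator_def]
      exact Subgroup.commutator_mem_commutator (Subgroup.mem_top _) (Subgroup.mem_top _)
    have h2 := Subgroup.mem_map_of_mem Q.subtype h1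
    rw [hΦ]
    simpa [commutatorElement_def] using h2
  have hpowΦ : ∀ x ∈ Q, x ^ p ∈ Φ := by
    intro x hx
    have h1 := Cfsg.Agent.Helper1.IsPGroup.pow_mem_frattini hQp (⟨x, hx⟩ : ↥Q)
    have h2 := Subgroup.mem_map_of_mem Q.subtype h1
    rw [hΦ]
    simpa using h2
  have hVc : ∀ x ∈ V, ∀ y ∈ V, x * y = y * x := by
    intro x hx y hy
    rw [hV] at hx hy
    obtain ⟨x₀, hx₀, rfl⟩ := hx
    obtain ⟨y₀, hy₀, rfl⟩ := hy
    have h1 := (hπ1 _).2 (hcommΦ x₀ hx₀ y₀ hy₀)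
    rw [map_mul, map_mul, map_mul, map_inv, map_inv] at h1
    calc π x₀ * π y₀ = (π x₀ * π y₀ * (π x₀)⁻¹ * (π y₀)⁻¹) * (π y₀ * π x₀) := by group
      _ = π y₀ * π x₀ := by rw [h1, one_mul]
  have hVp : ∀ v ∈ V, v ^ p = 1 := by
    intro v hv
    rw [hV] at hv
    obtain ⟨x₀, hx₀, rfl⟩ := hv
    rw [← map_pow]
    exact (hπ1 _).2 (hpowΦ x₀ hx₀)
  have hVC : V ≤ Subgroup.centralizer (V : Set (G ⧸ Φ)) := by
    intro x hx
    rw [Subgroup.mem_centralizer_iff]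
    intro v hv
    exact hVc v hv x hx
  have hCV : Subgroup.centralizer (V : Set (G ⧸ Φ)) ≤ V := by
    intro x hx
    obtain ⟨g, rfl⟩ := hsurj x
    have hg : g ∈ Cfsg.pCore p G := by
      apply Cfsg.Agent.Helper4.mem_pCore_of_commutator_mem_frattini hG hO g
      intro k hk
      rw [← hQ, ← hΦ, ← hπ1]
      rw [← hQ] at hk
      have hkV : π k ∈ V := by rw [hV]; exact Subgroup.mem_map_of_mem π hk
      have h1 := Subgroup.mem_centralizer_iff.1 hx (π k) hkV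
      rw [map_mul, map_mul, map_mul, map_inv, map_inv, ← h1]
      group
    rw [hV, hQ]
    exact Subgroup.mem_map_of_mem π hg
  have hOp : ∀ D : Subgroup (G ⧸ Φ), D.Normal → Subgroup.centralizer (V : Set (G ⧸ Φ)) ≤ D →
      (∃ k : ℕ, (Subgroup.centralizer (V : Set (G ⧸ Φ))).relIndex D = p ^ k) →
      D = Subgroup.centralizer (V : Set (G ⧸ Φ)) := by
    intro D hDn hCD ⟨k, hk⟩
    refine le_antisymm ?_ hCD
    have hDp : IsPGroup p D := by
      intro d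
      haveI : ((Subgroup.centralizer (V : Set (G ⧸ Φ))).subgroupOf D).Normal :=
        Subgroup.Normal.subgroupOf Subgroup.normal_centralizer D
      have h1 := Subgroup.pow_index_mem ((Subgroup.centralizer (V : Set (G ⧸ Φ))).subgroupOf D) d
      have h2 : ((Subgroup.centralizer (V : Set (G ⧸ Φ))).subgroupOf D).index = p ^ k := hk
      rw [h2, Subgroup.mem_subgroupOf] at h1
      refine ⟨k + 1, ?_⟩
      apply Subtype.ext
      have h3 := hVp _ (hCV h1)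
      rw [Subgroup.coe_pow] at h3
      rw [Subgroup.coe_pow, Subgroup.coe_one, pow_succ, pow_mul]
      exact h3
    have hcomap : D.comap π ≤ Q := by
      rw [hQ]
      apply Cfsg.Agent.Helper5.le_pCore (hDn.comap π)
      apply IsPGroup.comap_of_ker_isPGroup hDp π
      rw [hker]
      exact hQp.to_le hΦQ
    calc D = (D.comap π).map π := (Subgroup.map_comap_eq_self_of_surjective hsurj D).symm
      _ ≤ Q.map π := Subgroup.map_mono hcomap
      _ = V := hV.symm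
      _ ≤ _ := hVC
  have hap : ∃ k : ℕ, (π a) ^ (p ^ k) = 1 := by
    obtain ⟨k, hk⟩ := P.isPGroup' ⟨a, haP⟩
    refine ⟨k, ?_⟩
    have : a ^ (p ^ k) = 1 := by
      have := congrArg (fun x : ↥(P : Subgroup G) => (x : G)) hk
      simpa using this
    rw [← map_pow, this, map_one]
  have hVa : ∀ v ∈ V, v * π a * v⁻¹ ∈ Subgroup.zpowers (π a) := by
    intro v hv
    rw [hV] at hv
    obtain ⟨x₀, hx₀, rfl⟩ := hv
    obtain ⟨n, hn⟩ := Subgroup.mem_zpowers_iff.1 (hPa x₀ (hQP hx₀))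
    rw [Subgroup.mem_zpowers_iff]
    refine ⟨n, ?_⟩
    rw [← map_zpow, hn, map_mul, map_mul, map_inv]
  have hS4 : p ≠ 2 ∨ ¬ Cfsg.Involves (Equiv.Perm (Fin 4)) (G ⧸ Φ) := by
    rcases h with h | h
    · exact Or.inl h
    · exact Or.inr fun h' => h (QuadFree.involves_of_surjective π hsurj h')
  have key := mem_of_normalizes p V hVc hVp hCV hOp (π a) hap hVa hS4
  rw [hV] at key
  obtain ⟨q, hq, hqa⟩ := key
  have h1 : q⁻¹ * a ∈ Φ := by
    rw [← hπ1, map_mul, map_inv, hqa, inv_mul_cancel]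
  have h2 : a = q * (q⁻¹ * a) := by group
  rw [← hQ, h2]
  exact Q.mul_mem hq (hΦQ h1)

/-- **Cyclic normal subgroups of Sylow `p`-subgroups of `p`-soluble groups** lie in
`O_{p',p}(G)`, if `p` is odd or `S₄` is not involved. -/
theorem cyclic_normal_le_pPrimePCore {G : Type u} [Group G] [Finite G] {p : ℕ}
    [hp : Fact p.Prime] (hG : Cfsg.IsPSolvable p G) (P : Sylow p G) (A : Subgroup G)
    (hAP : A ≤ (P : Subgroup G)) (hAn : (P : Subgroup G) ≤ Subgroup.normalizer (A : Set G))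
    (hA : IsCyclic A) (h : p ≠ 2 ∨ ¬ Cfsg.Involves (Equiv.Perm (Fin 4)) G) :
    A ≤ Cfsg.pPrimePCore p G := by
  obtain ⟨N, hN⟩ : ∃ N, N = Cfsg.pPrimeCore p G := ⟨_, rfl⟩
  obtain ⟨a, ha⟩ := hA.exists_generator
  have hGq : Cfsg.IsPSolvable p (G ⧸ Cfsg.pPrimeCore p G) :=
    Cfsg.Agent.Helper4.isPSolvable_quotient hG _
  have hOq : Cfsg.pPrimeCore p (G ⧸ Cfsg.pPrimeCore p G) = ⊥ :=
    Cfsg.Agent.Helper4.pPrimeCore_quotient_eq_bot p
  obtain ⟨π, hπ⟩ : ∃ π : G →* G ⧸ Cfsg.pPrimeCore p G,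
      π = QuotientGroup.mk' (Cfsg.pPrimeCore p G) := ⟨_, rfl⟩
  have hsurj : Function.Surjective π := hπ ▸ QuotientGroup.mk'_surjective _
  obtain ⟨Pb, hPb⟩ : ∃ Pb : Sylow p (G ⧸ Cfsg.pPrimeCore p G), Pb = P.mapSurjective hsurj :=
    ⟨_, rfl⟩
  have hPbc : (Pb : Subgroup (G ⧸ Cfsg.pPrimeCore p G)) = (P : Subgroup G).map π := by
    rw [hPb]; exact Sylow.coe_mapSurjective hsurj P
  have haPb : π (a : G) ∈ (Pb : Subgroup (G ⧸ Cfsg.pPrimeCore p G)) := by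
    rw [hPbc]; exact Subgroup.mem_map_of_mem π (hAP a.2)
  have hPba : ∀ x ∈ (Pb : Subgroup (G ⧸ Cfsg.pPrimeCore p G)),
      x * π (a : G) * x⁻¹ ∈ Subgroup.zpowers (π (a : G)) := by
    intro x hx
    rw [hPbc] at hx
    obtain ⟨x₀, hx₀, rfl⟩ := hx
    have h1 : x₀ * (a : G) * x₀⁻¹ ∈ A :=
      (Subgroup.mem_normalizer_iff.1 (hAn hx₀) (a : G)).1 a.2
    obtain ⟨n, hn⟩ := Subgroup.mem_zpowers_iff.1 (ha ⟨_, h1⟩)
    have hn' : (a : G) ^ n = x₀ * (a : G) * x₀⁻¹ := by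
      have := congrArg (fun x : ↥A => (x : G)) hn
      simpa using this
    rw [Subgroup.mem_zpowers_iff]
    refine ⟨n, ?_⟩
    rw [← map_zpow, hn', map_mul, map_mul, map_inv]
  have hS4 : p ≠ 2 ∨ ¬ Cfsg.Involves (Equiv.Perm (Fin 4)) (G ⧸ Cfsg.pPrimeCore p G) := by
    rcases h with h | h
    · exact Or.inl h
    · exact Or.inr fun h' => h (QuadFree.involves_of_surjective π hsurj h')
  have key := mem_pCore_of_normalizes hGq hOq Pb (π (a : G)) haPb hPba hS4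
  intro x hx
  obtain ⟨n, hn⟩ := Subgroup.mem_zpowers_iff.1 (ha ⟨x, hx⟩)
  have hn' : (a : G) ^ n = x := by
    have := congrArg (fun x : ↥A => (x : G)) hn
    simpa using this
  unfold Cfsg.pPrimePCore
  rw [Subgroup.mem_comap, ← hπ, ← hn', map_zpow]
  exact Subgroup.zpow_mem _ key n

end CZ

end Cfsg.Agent.Helper1
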