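import Mathlib
import Cfsg.Prelude.Def_SolvableStructure
import Cfsg.Agent.Helper1.Basic
import Cfsg.Agent.Helper1.SZ
import Cfsg.Agent.Helper1.Hall
import Cfsg.Agent.Helper1.HallExtra

set_option autoImplicit false

/-!
Hall complement systems of finite solvable groups.
-/

namespace Cfsg.Agent.Helper1

open scoped Pointwise

universe u

variable {G : Type u} [Group G]

theorem index_conj_smul (g : G) (H : Subgroup G) : (MulAut.conj g • H).index = H.index :=
  Subgroup.index_map_equiv H (MulAut.conj g)

theorem isComplementSystem_index {K : Nat.Primes → Subgroup G} (hK : Cfsg.IsComplementSystem K)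
    (p : Nat.Primes) : (K p).index = ppart (Nat.card G) p := hK p

theorem index_finset_inf_primes [Finite G] (K : Nat.Primes → Subgroup G)
    (hK : Cfsg.IsComplementSystem K) (T : Finset Nat.Primes) :
    (T.inf K).index = ∏ q ∈ T, ppart (Nat.card G) q := by
  classical
  induction T using Finset.induction_on with
  | empty => simp
  | insert a T ha ih =>
    rw [Finset.inf_insert, Finset.prod_insert ha, index_inf_of_coprime, hK a, ih]
    · rfl
    · rw [hK a, ih]
      apply Nat.Coprime.prod_right
      intro q hq
      exact ppart_coprime a.2 q.2 (fun h => ha ((Subtype.ext h : a = q) ▸ hq))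

/-- Two Hall complement systems of a finite solvable group are simultaneously conjugate. -/
theorem complementSystem_conj [Finite G] [Group.IsSolvable G] (K L : Nat.Primes → Subgroup G)
    (hK : Cfsg.IsComplementSystem K) (hL : Cfsg.IsComplementSystem L) :
    ∃ g : G, ∀ p : Nat.Primes, MulAut.conj g • K p = L p := by
  classical
  have hN : Nat.card G ≠ 0 := Nat.card_pos.ne'
  have key : ∀ T : Finset Nat.Primes, ∃ g : G, ∀ p ∈ T, MulAut.conj g • K p = L p := by
    intro T
    induction T using Finset.induction_on with
    | empty => exact ⟨1, fun p hp => absurd hp (Finset.notMem_empty p)⟩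
    | insert q T hq ih =>
      obtain ⟨g, hg⟩ := ih
      set D := T.inf L with hD
      have hDidx : D.index = ∏ r ∈ T, ppart (Nat.card G) r := index_finset_inf_primes L hL T
      have hKq : (MulAut.conj g • K q).index = ppart (Nat.card G) q := by
        rw [index_conj_smul]; exact hK q
      have hcop : D.index.Coprime (MulAut.conj g • K q).index := by
        rw [hDidx, hKq]
        apply Nat.Coprime.prod_left
        intro r hr
        exact ppart_coprime r.2 q.2 (fun h => hq ((Subtype.ext h : r = q) ▸ hr))
      -- Hall conjugacy
      have hcardL : Nat.card (L q) * ppart (Nat.card G) q = Nat.card G := by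
        rw [← isComplementSystem_index hL q]; exact (L q).card_mul_index
      have hcardK : Nat.card (MulAut.conj g • K q : Subgroup G) * ppart (Nat.card G) q =
          Nat.card G := by
        rw [← hKq]; exact (MulAut.conj g • K q).card_mul_index
      have hcardeq : Nat.card (MulAut.conj g • K q : Subgroup G) = Nat.card (L q) :=
        Nat.eq_of_mul_eq_mul_right (ppart_pos q.2) (hcardK.trans hcardL.symm)
      have hcopm : (Nat.card (L q)).Coprime (ppart (Nat.card G) q) := by
        have h1 : Nat.card (L q) = Nat.card G / ppart (Nat.card G) q :=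
          (Nat.div_eq_of_eq_mul_left (ppart_pos q.2) hcardL.symm).symm
        rw [h1]
        exact (Nat.Coprime.pow_left _ (Nat.coprime_ordCompl q.2 hN)).symm
      obtain ⟨hC, -⟩ := hallProp_of_solvable _ G rfl _ _ hcardL.symm hcopm
      obtain ⟨x, hx⟩ := hC (MulAut.conj g • K q) (L q) hcardeq rfl
      obtain ⟨d, hd, k, hk, hxdk⟩ := (Cfsg.Agent.S0007.result D (MulAut.conj g • K q) hcop).2 x
      refine ⟨d * g, ?_⟩
      intro p hp
      rw [map_mul, mul_smul]
      rcases Finset.mem_insert.1 hp with rfl | hpT
      · rw [← hx, hxdk, map_mul, mul_smul, Subgroup.conj_smul_eq_self_of_mem hk]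
      · rw [hg p hpT]
        exact Subgroup.conj_smul_eq_self_of_mem ((Finset.inf_le hpT : D ≤ L p) hd)
  obtain ⟨g, hg⟩ := key ((Nat.card G).primeFactors.subtype Nat.Prime)
  refine ⟨g, fun p => ?_⟩
  by_cases hp : p ∈ (Nat.card G).primeFactors.subtype Nat.Prime
  · exact hg p hp
  · have hp' : (p : ℕ) ∉ (Nat.card G).primeFactors := by
      intro h; exact hp (Finset.mem_subtype.2 h)
    have hfac : (Nat.card G).factorization p = 0 := by
      rw [← Finsupp.notMem_support_iff, Nat.support_factorization]; exact hp'
    have hKtop : K p = ⊤ := by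
      rw [← Subgroup.index_eq_one, hK p, hfac, pow_zero]
    have hLtop : L p = ⊤ := by
      rw [← Subgroup.index_eq_one, hL p, hfac, pow_zero]
    rw [hKtop, hLtop]
    exact Subgroup.conj_smul_eq_self_of_mem (Subgroup.mem_top g)

end Cfsg.Agent.Helper1
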