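import Mathlib
import Cfsg.Prelude.Def_SolvableStructure
import Cfsg.Agent.Helper1.Basic
import Cfsg.Agent.Helper1.Coprime
import Cfsg.Agent.Helper1.Card
import Cfsg.Agent.Helper1.HallExtra
import Cfsg.Agent.Helper1.ComplSystem

set_option autoImplicit false

/-!
System normalizers.
-/

namespace Cfsg.Agent.Helper1

open scoped Pointwise

universe u

variable {G : Type u} [Group G]

theorem complement_card_mul [Finite G] {K : Nat.Primes → Subgroup G}
    (hK : Cfsg.IsComplementSystem K) (q : Nat.Primes) :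
    Nat.card (K q) * (q : ℕ) ^ (Nat.card G).factorization q = Nat.card G := by
  rw [← hK q]; exact (K q).card_mul_index

theorem complement_card_coprime [Finite G] {K : Nat.Primes → Subgroup G}
    (hK : Cfsg.IsComplementSystem K) (q : Nat.Primes) : (Nat.card (K q)).Coprime q := by
  have hN : Nat.card G ≠ 0 := Nat.card_pos.ne'
  have h1 := complement_card_mul hK q
  have h2 : Nat.card (K q) = Nat.card G / (q : ℕ) ^ (Nat.card G).factorization q :=
    (Nat.div_eq_of_eq_mul_left (pow_pos q.2.pos _) h1.symm).symm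
  rw [h2]
  exact (Nat.coprime_ordCompl q.2 hN).symm

/-- The system normalizer of a complement system is nilpotent. -/
theorem systemNormalizer_isNilpotent [Finite G] (K : Nat.Primes → Subgroup G)
    (hK : Cfsg.IsComplementSystem K) : Group.IsNilpotent (Cfsg.systemNormalizer K) := by
  set D := Cfsg.systemNormalizer K with hD
  have hDle : ∀ q, D ≤ Subgroup.normalizer (K q : Set G) := fun q => iInf_le _ q
  have hTn : ∀ q, ((K q).subgroupOf D).Normal := by
    intro q
    constructor
    intro n hn d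
    rw [Subgroup.mem_subgroupOf] at hn ⊢
    simpa using (Subgroup.mem_normalizer_iff.1 (hDle q d.2) n).1 hn
  have hTidx : ∀ q : Nat.Primes, ∃ b, ((K q).subgroupOf D).index = (q : ℕ) ^ b := by
    intro q
    have h1 : (K q).relIndex D ∣ (K q).index := relIndex_dvd_index_of_le_normalizer (hDle q)
    rw [hK q] at h1
    obtain ⟨b, -, hb⟩ := (Nat.dvd_prime_pow q.2).1 h1
    exact ⟨b, hb⟩
  have q := (Group.isNilpotent_of_finite_tfae (G := D)).out 0 3
  rw [q]
  intro p hp P
  -- P ≤ T q for q ≠ p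
  have hPT : ∀ q : Nat.Primes, (q : ℕ) ≠ p → (P : Subgroup D) ≤ (K q).subgroupOf D := by
    intro q hq
    have := hTn q
    obtain ⟨b, hb⟩ := hTidx q
    obtain ⟨k, hk⟩ := IsPGroup.iff_card.1 P.2
    have h1 : ((K q).subgroupOf D).relIndex (P : Subgroup D) ∣ (q : ℕ) ^ b :=
      hb ▸ Subgroup.relIndex_dvd_index_of_normal _ _
    have h2 : ((K q).subgroupOf D).relIndex (P : Subgroup D) ∣ p ^ k :=
      hk ▸ Subgroup.relIndex_dvd_card _ _
    have hcop : Nat.Coprime ((q : ℕ) ^ b) (p ^ k) :=
      Nat.Coprime.pow _ _ ((Nat.coprime_primes q.2 hp.out).2 hq)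
    have h3 := Nat.eq_one_of_dvd_coprimes hcop h1 h2
    exact Subgroup.relIndex_eq_one.1 h3
  set R : Subgroup D := ⨅ q : {q : Nat.Primes // (q : ℕ) ≠ p}, (K q.1).subgroupOf D with hR
  have hRn : R.Normal := Subgroup.normal_iInf_normal (fun q => hTn q.1)
  have hPR : (P : Subgroup D) ≤ R := le_iInf (fun q => hPT q.1 q.2)
  have hRp : IsPGroup p R := by
    have hcard : Nat.card R = p ^ (Nat.card R).primeFactorsList.length := by
      apply Nat.eq_prime_pow_of_unique_prime_dvd Nat.card_pos.ne'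
      intro d hd hdR
      by_contra hne
      have hRT : R ≤ (K ⟨d, hd⟩).subgroupOf D := iInf_le _ (⟨⟨d, hd⟩, hne⟩ : {q : Nat.Primes // (q : ℕ) ≠ p})
      have h1 : Nat.card R ∣ Nat.card ((K ⟨d, hd⟩).subgroupOf D) := Subgroup.card_dvd_of_le hRT
      have h2 : Nat.card ((K ⟨d, hd⟩).subgroupOf D) ∣ Nat.card (K ⟨d, hd⟩) := by
        rw [← Subgroup.inf_subgroupOf_right, card_subgroupOf_of_le inf_le_right]
        exact Subgroup.card_dvd_of_le inf_le_left
      have h3 : d ∣ Nat.card (K ⟨d, hd⟩) := hdR.trans (h1.trans h2)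
      have h4 := complement_card_coprime hK ⟨d, hd⟩
      have h5 : d ∣ Nat.gcd (Nat.card (K ⟨d, hd⟩)) d := Nat.dvd_gcd h3 dvd_rfl
      rw [h4.gcd_eq_one] at h5
      exact hd.one_lt.ne' (Nat.dvd_one.1 h5)
    exact IsPGroup.of_card hcard
  have hRP : R = (P : Subgroup D) := P.is_maximal' hRp hPR
  rw [← hRP]
  exact hRn

end Cfsg.Agent.Helper1
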