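import Mathlib
import Cfsg.Prelude.Def_SolvableStructure
import Cfsg.Agent.Helper1.Basic
import Cfsg.Agent.Helper1.Coprime
import Cfsg.Agent.Helper1.Card
import Cfsg.Agent.Helper1.Hall
import Cfsg.Agent.Helper1.HallExtra
import Cfsg.Agent.Helper1.ComplSystem
import Cfsg.Agent.Helper1.MinNormal
import Cfsg.Agent.Helper1.SysNorm

set_option autoImplicit false

/-!
System normalizers and quotients.
-/

namespace Cfsg.Agent.Helper1

open scoped Pointwise commutatorElement

universe u

variable {G : Type u} [Group G]

/-- Two complement systems with the same images modulo `N` are conjugate under `N`. -/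
theorem complementSystem_conj_normal [Finite G] [Group.IsSolvable G] (N : Subgroup G) [N.Normal]
    (K L : Nat.Primes → Subgroup G) (hK : Cfsg.IsComplementSystem K)
    (hL : Cfsg.IsComplementSystem L) (hKL : ∀ p, K p ⊔ N = L p ⊔ N) :
    ∃ n ∈ N, ∀ p, MulAut.conj n • K p = L p := by
  classical
  have hN0 : Nat.card G ≠ 0 := Nat.card_pos.ne'
  have key : ∀ T : Finset Nat.Primes, ∃ n ∈ N, ∀ p ∈ T, MulAut.conj n • K p = L p := by
    intro T
    induction T using Finset.induction_on with
    | empty => exact ⟨1, N.one_mem, fun p hp => absurd hp (Finset.notMem_empty p)⟩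
    | insert q T hq ih =>
      obtain ⟨n, hnN, hn⟩ := ih
      have hK'sys : Cfsg.IsComplementSystem (fun p => MulAut.conj n • K p) := by
        intro p
        show (MulAut.conj n • K p).index = _
        rw [index_conj_smul]; exact hK p
      have hK'N : MulAut.conj n • K q ⊔ N = L q ⊔ N := by
        have h1 : MulAut.conj n • (K q ⊔ N) = K q ⊔ N :=
          Subgroup.conj_smul_eq_self_of_mem (Subgroup.mem_sup_right hnN)
        rw [← hKL q]
        conv_rhs => rw [← h1]
        rw [Subgroup.smul_sup, conj_smul_normal N]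
      -- Step A
      have hK'M : MulAut.conj n • K q ≤ L q ⊔ N := hK'N ▸ le_sup_left
      have hLM : L q ≤ L q ⊔ N := le_sup_left
      have hcardL := complement_card_mul hL q
      have hcardK' : Nat.card (MulAut.conj n • K q : Subgroup G) *
          (q : ℕ) ^ (Nat.card G).factorization q = Nat.card G := complement_card_mul hK'sys q
      have hcardeq : Nat.card (MulAut.conj n • K q : Subgroup G) = Nat.card (L q) :=
        Nat.eq_of_mul_eq_mul_right (pow_pos q.2.pos _) (hcardK'.trans hcardL.symm)
      have hMcard : Nat.card (L q ⊔ N : Subgroup G) = Nat.card (L q) * (L q).relIndex (L q ⊔ N) := by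
        rw [mul_comm]; exact (relIndex_mul_card_of_le hLM).symm
      have hrel : (L q).relIndex (L q ⊔ N) ∣ (q : ℕ) ^ (Nat.card G).factorization q := by
        rw [← hL q]; exact Dvd.intro _ (Subgroup.relIndex_mul_index hLM)
      have hcopM : (Nat.card (L q)).Coprime ((L q).relIndex (L q ⊔ N)) :=
        Nat.Coprime.coprime_dvd_right hrel (Nat.Coprime.pow_right _ (complement_card_coprime hL q))
      have hHall := (hallProp_of_solvable _ (L q ⊔ N : Subgroup G) rfl).internal _ _ hMcard hcopM
      obtain ⟨g, hgM, hg⟩ := hHall.1 (MulAut.conj n • K q) (L q) hK'M hLM hcardeq rfl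
      have hgM' : g ∈ N ⊔ MulAut.conj n • K q := by rw [sup_comm, hK'N]; exact hgM
      obtain ⟨m₀, hm₀N, k, hk, rfl⟩ :=
        mem_sup_of_le_normalizer (le_normalizer_of_normal (MulAut.conj n • K q) N) hgM'
      have hm₀ : MulAut.conj m₀ • MulAut.conj n • K q = L q := by
        rw [← hg, map_mul, mul_smul, Subgroup.conj_smul_eq_self_of_mem hk]
      -- Step B
      set X := N ⊓ Subgroup.normalizer (L q : Set G) with hX
      set Y := N ⊓ ⨅ p ∈ T, Subgroup.normalizer (L p : Set G) with hY
      have hXrel : X.relIndex N ∣ (q : ℕ) ^ (Nat.card G).factorization q := by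
        have h1 : N ⊓ L q ≤ X := inf_le_inf_left N Subgroup.le_normalizer
        have h2 : X.relIndex N ∣ (N ⊓ L q).relIndex N := Subgroup.relIndex_dvd_of_le_left N h1
        have h3 : (N ⊓ L q).relIndex N = (L q).relIndex N := by
          rw [inf_comm, Subgroup.inf_relIndex_right]
        have h4 : (L q).relIndex N ∣ (L q).index :=
          relIndex_dvd_index_of_normalizes (le_normalizer_of_normal (L q) N)
        rw [h3] at h2
        rw [← hL q]
        exact h2.trans h4
      have hYrel : Y.relIndex N ∣ ∏ r ∈ T, ppart (Nat.card G) r := by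
        have h0 : T.inf L ≤ ⨅ p ∈ T, Subgroup.normalizer (L p : Set G) :=
          le_iInf₂ fun p hp => (Finset.inf_le hp).trans Subgroup.le_normalizer
        have h1 : N ⊓ T.inf L ≤ Y := inf_le_inf_left N h0
        have h2 : Y.relIndex N ∣ (N ⊓ T.inf L).relIndex N := Subgroup.relIndex_dvd_of_le_left N h1
        have h3 : (N ⊓ T.inf L).relIndex N = (T.inf L).relIndex N := by
          rw [inf_comm, Subgroup.inf_relIndex_right]
        have h4 : (T.inf L).relIndex N ∣ (T.inf L).index :=
          relIndex_dvd_index_of_normalizes (le_normalizer_of_normal (T.inf L) N)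
        rw [h3] at h2
        rw [← index_finset_inf_primes L hL T]
        exact h2.trans h4
      have hcop0 : ((q : ℕ) ^ (Nat.card G).factorization q).Coprime
          (∏ r ∈ T, ppart (Nat.card G) r) := by
        apply Nat.Coprime.prod_right
        intro r hr
        exact ppart_coprime q.2 r.2 (fun h => hq ((Subtype.ext h : q = r) ▸ hr))
      have hcop : (X.relIndex N).Coprime (Y.relIndex N) :=
        Nat.Coprime.coprime_dvd_left hXrel (Nat.Coprime.coprime_dvd_right hYrel hcop0)
      obtain ⟨y, hy, z, hz, hyz⟩ := exists_mul_of_coprime_relIndex hcop m₀ hm₀N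
      obtain ⟨hyN, hyq⟩ := Subgroup.mem_inf.1 hy
      obtain ⟨hzN, hzT⟩ := Subgroup.mem_inf.1 hz
      refine ⟨z * n, N.mul_mem hzN hnN, ?_⟩
      intro p hp
      rw [map_mul, mul_smul]
      rcases Finset.mem_insert.1 hp with rfl | hpT
      · have hz' : z = y⁻¹ * m₀ := by rw [hyz]; group
        rw [hz', map_mul, mul_smul, hm₀]
        exact conj_smul_eq_of_mem_normalizer (Subgroup.inv_mem _ hyq)
      · rw [hn p hpT]
        exact conj_smul_eq_of_mem_normalizer
          (Subgroup.mem_iInf.1 (Subgroup.mem_iInf.1 hzT p) hpT)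
  obtain ⟨n, hnN, hn⟩ := key ((Nat.card G).primeFactors.subtype Nat.Prime)
  refine ⟨n, hnN, fun p => ?_⟩
  by_cases hp : p ∈ (Nat.card G).primeFactors.subtype Nat.Prime
  · exact hn p hp
  · have hp' : (p : ℕ) ∉ (Nat.card G).primeFactors := by
      intro h; exact hp (Finset.mem_subtype.2 h)
    have hfac : (Nat.card G).factorization p = 0 := by
      rw [← Finsupp.notMem_support_iff, Nat.support_factorization]; exact hp'
    have hKtop : K p = ⊤ := by
      rw [← Subgroup.index_eq_one, hK p, hfac, pow_zero]
    have hLtop : L p = ⊤ := by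
      rw [← Subgroup.index_eq_one, hL p, hfac, pow_zero]
    rw [hKtop, hLtop]
    exact Subgroup.conj_smul_eq_self_of_mem (Subgroup.mem_top n)

theorem factorization_eq_of_pow_mul_coprime {n p b c : ℕ} (hp : p.Prime) (hn : n = p ^ b * c)
    (hc : c.Coprime p) (hc0 : c ≠ 0) : n.factorization p = b := by
  have hn0 : n ≠ 0 := by rw [hn]; exact Nat.mul_ne_zero (pow_ne_zero _ hp.ne_zero) hc0
  apply le_antisymm
  · have h1 : p ^ n.factorization p ∣ p ^ b * c := hn ▸ Nat.ordProj_dvd n p
    have h2 : p ^ n.factorization p ∣ p ^ b :=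
      (Nat.Coprime.pow_left _ hc.symm).dvd_of_dvd_mul_right h1
    exact (Nat.pow_dvd_pow_iff_le_right hp.one_lt).1 h2
  · exact (hp.pow_dvd_iff_le_factorization hn0).1 (hn ▸ Dvd.intro _ rfl)

/-- Images of a complement system in a quotient form a complement system. -/
theorem complementSystem_map [Finite G] (K : Nat.Primes → Subgroup G)
    (hK : Cfsg.IsComplementSystem K) (N : Subgroup G) [N.Normal] :
    Cfsg.IsComplementSystem (fun p => (K p).map (QuotientGroup.mk' N)) := by
  intro p
  show ((K p).map (QuotientGroup.mk' N)).index = _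
  set H := (K p).map (QuotientGroup.mk' N) with hH
  have h1 : H.index = (K p ⊔ N).index := by
    rw [hH, Subgroup.index_map, (QuotientGroup.mk' N).range_eq_top_of_surjective
      (QuotientGroup.mk'_surjective N), Subgroup.index_top, mul_one, QuotientGroup.ker_mk']
  have h2 : (K p ⊔ N).index ∣ (p : ℕ) ^ (Nat.card G).factorization p := by
    rw [← hK p]; exact Subgroup.index_dvd_of_le le_sup_left
  obtain ⟨b, -, hb⟩ := (Nat.dvd_prime_pow p.2).1 h2
  have h3 : Nat.card H ∣ Nat.card (K p) := Subgroup.card_map_dvd _ _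
  have h4 : (Nat.card H).Coprime p :=
    Nat.Coprime.coprime_dvd_left h3 (complement_card_coprime hK p)
  have h5 : Nat.card (G ⧸ N) = (p : ℕ) ^ b * Nat.card H := by
    rw [← hb, ← h1]; exact H.index_mul_card.symm
  rw [factorization_eq_of_pow_mul_coprime p.2 h5 h4 Nat.card_pos.ne', h1, hb]

/-- The system normalizer of the image system is the image of the system normalizer. -/
theorem systemNormalizer_map [Finite G] [Group.IsSolvable G] (K : Nat.Primes → Subgroup G)
    (hK : Cfsg.IsComplementSystem K) (N : Subgroup G) [N.Normal] :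
    Cfsg.systemNormalizer (fun p => (K p).map (QuotientGroup.mk' N)) =
      (Cfsg.systemNormalizer K).map (QuotientGroup.mk' N) := by
  apply le_antisymm
  · intro xbar hx
    obtain ⟨x, rfl⟩ := QuotientGroup.mk'_surjective N xbar
    have hx' : ∀ p, (QuotientGroup.mk' N) x ∈
        Subgroup.normalizer (((K p).map (QuotientGroup.mk' N) : Subgroup (G ⧸ N)) : Set (G ⧸ N)) :=
      fun p => Subgroup.mem_iInf.1 hx p
    have hL : Cfsg.IsComplementSystem (fun p => MulAut.conj x • K p) := by
      intro p
      show (MulAut.conj x • K p).index = _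
      rw [index_conj_smul]; exact hK p
    have hKL : ∀ p, K p ⊔ N = MulAut.conj x • K p ⊔ N := by
      intro p
      have h1 := conj_smul_eq_of_mem_normalizer (hx' p)
      rw [← map_conj_smul] at h1
      have h2 := congrArg (Subgroup.comap (QuotientGroup.mk' N)) h1
      rw [Subgroup.comap_map_eq, Subgroup.comap_map_eq, QuotientGroup.ker_mk'] at h2
      exact h2.symm
    obtain ⟨n, hnN, hn⟩ := complementSystem_conj_normal N K _ hK hL hKL
    refine ⟨n⁻¹ * x, ?_, ?_⟩
    · apply Subgroup.mem_iInf.2
      intro p
      apply mem_normalizer_of_conj_smul_eq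
      rw [map_mul, mul_smul, ← hn p, ← mul_smul, ← map_mul, inv_mul_cancel, map_one, one_smul]
    · have h1 : (QuotientGroup.mk' N) n = 1 := (QuotientGroup.eq_one_iff n).2 hnN
      rw [map_mul, map_inv, h1, inv_one, one_mul]
  · apply le_iInf
    intro p
    exact (Subgroup.map_mono (iInf_le _ p)).trans (Subgroup.le_normalizer_map _)

/-- The normal closure of a system normalizer is the whole group. -/
theorem normalClosure_systemNormalizer [Finite G] [Group.IsSolvable G]
    (K : Nat.Primes → Subgroup G) (hK : Cfsg.IsComplementSystem K) :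
    Subgroup.normalClosure ((Cfsg.systemNormalizer K : Subgroup G) : Set G) = ⊤ := by
  set D := Cfsg.systemNormalizer K with hD
  set M := Subgroup.normalClosure (D : Set G) with hM
  by_contra hMtop
  have hDM : D ≤ M := Subgroup.le_normalClosure
  set L₀ := M ⊔ commutator G with hL₀
  have hL₀top : L₀ ≠ ⊤ := by
    intro htop
    have hnt : Nontrivial (G ⧸ M) := by
      rw [QuotientGroup.nontrivial_iff]
      exact hMtop
    have h1 := Group.IsSolvable.commutator_lt_top_of_nontrivial (G ⧸ M)
    apply h1.ne
    have h2 : (commutator G).map (QuotientGroup.mk' M) = commutator (G ⧸ M) := by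
      rw [commutator_def, Subgroup.map_commutator, commutator_def,
        ← MonoidHom.range_eq_map, (QuotientGroup.mk' M).range_eq_top_of_surjective
          (QuotientGroup.mk'_surjective M)]
    have h3 : L₀.map (QuotientGroup.mk' M) = commutator (G ⧸ M) := by
      rw [hL₀, Subgroup.map_sup, h2]
      have : M.map (QuotientGroup.mk' M) = ⊥ := by
        rw [Subgroup.map_eq_bot_iff, QuotientGroup.ker_mk']
      rw [this, bot_sup_eq]
    rw [← h3, htop, ← MonoidHom.range_eq_map]
    exact (QuotientGroup.mk' M).range_eq_top_of_surjective (QuotientGroup.mk'_surjective M)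
  have hcomm : ∀ a b : G ⧸ L₀, a * b = b * a := by
    intro a b
    obtain ⟨x, rfl⟩ := QuotientGroup.mk'_surjective L₀ a
    obtain ⟨y, rfl⟩ := QuotientGroup.mk'_surjective L₀ b
    rw [← map_mul, ← map_mul]
    apply (QuotientGroup.eq (s := L₀)).2
    have : (x * y)⁻¹ * (y * x) = ⁅y⁻¹, x⁻¹⁆ := by
      simp [commutatorElement_def, mul_assoc]
    rw [this]
    exact (le_sup_right : commutator G ≤ L₀)
      (Subgroup.commutator_mem_commutator (Subgroup.mem_top _) (Subgroup.mem_top _))
  have h1 := systemNormalizer_map K hK L₀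
  have h2 : (Cfsg.systemNormalizer K).map (QuotientGroup.mk' L₀) = ⊥ := by
    rw [Subgroup.map_eq_bot_iff, QuotientGroup.ker_mk']
    exact hDM.trans le_sup_left
  have h3 : Cfsg.systemNormalizer (fun p => (K p).map (QuotientGroup.mk' L₀)) = ⊤ := by
    rw [eq_top_iff]
    intro g _
    apply Subgroup.mem_iInf.2
    intro p
    rw [Subgroup.mem_normalizer_iff]
    intro h
    have : g * h * g⁻¹ = h := by rw [hcomm g h, mul_assoc, mul_inv_cancel, mul_one]
    rw [this]
  rw [h3, h2] at h1
  apply hL₀top
  rw [eq_top_iff]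
  intro x _
  have : (QuotientGroup.mk' L₀) x ∈ (⊤ : Subgroup (G ⧸ L₀)) := Subgroup.mem_top _
  rw [h1, Subgroup.mem_bot] at this
  exact (QuotientGroup.eq_one_iff x).1 this

end Cfsg.Agent.Helper1
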