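import Mathlib
import Cfsg.Prelude.Def_SolvableStructure
import Cfsg.Agent.Helper1.Basic
import Cfsg.Agent.Helper1.Coprime
import Cfsg.Agent.Helper1.Card
import Cfsg.Agent.Helper1.SysNorm
import Cfsg.Agent.Helper1.SysNorm2
import Cfsg.Agent.Helper1.HallNilp
import Cfsg.Agent.Helper1.HallExtra
import Cfsg.Agent.Helper1.Hall

set_option autoImplicit false

/-!
In a group of nilpotent length at most two the system normalizers are Carter subgroups.
-/

namespace Cfsg.Agent.Helper1

open scoped Pointwise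

universe u

variable {G : Type u} [Group G]

theorem isSolvable_of_nilpotent_by_nilpotent (F : Subgroup G) [F.Normal]
    (hF : Group.IsNilpotent F) (hGF : Group.IsNilpotent (G ⧸ F)) : Group.IsSolvable G := by
  haveI : Group.IsSolvable F := inferInstance
  haveI : Group.IsSolvable (G ⧸ F) := inferInstance
  refine Group.isSolvable_of_ker_le_range F.subtype (QuotientGroup.mk' F) ?_
  rw [QuotientGroup.ker_mk', Subgroup.range_subtype]

/-- in a nilpotent group the system normalizer is everything -/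
theorem systemNormalizer_eq_top_of_nilpotent [Finite G] [Group.IsNilpotent G]
    (K : Nat.Primes → Subgroup G) (hK : Cfsg.IsComplementSystem K) :
    Cfsg.systemNormalizer K = ⊤ := by
  rw [eq_top_iff]
  apply le_iInf
  intro p
  have hcop : (Nat.card (K p)).Coprime (K p).index := by
    rw [hK p]
    exact Nat.Coprime.pow_right _ (complement_card_coprime hK p)
  haveI := normal_of_hall_of_nilpotent (K p) hcop
  rw [Subgroup.normalizer_eq_top]

/-- `G = D F` -/
theorem systemNormalizer_sup_eq_top [Finite G] [Group.IsSolvable G] (F : Subgroup G) [F.Normal]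
    (hGF : Group.IsNilpotent (G ⧸ F)) (K : Nat.Primes → Subgroup G)
    (hK : Cfsg.IsComplementSystem K) : Cfsg.systemNormalizer K ⊔ F = ⊤ := by
  have h1 := systemNormalizer_map K hK F
  rw [systemNormalizer_eq_top_of_nilpotent _ (complementSystem_map K hK F)] at h1
  have h2 := congrArg (Subgroup.comap (QuotientGroup.mk' F)) h1
  rw [Subgroup.comap_top, Subgroup.comap_map_eq, QuotientGroup.ker_mk'] at h2
  exact h2.symm

/-- a subgroup `X` has a `q`-subgroup `Xq ≤ X` of index prime to `q` -/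
theorem exists_sylow_sub [Finite G] (q : ℕ) [Fact q.Prime] (X : Subgroup G) :
    ∃ Xq : Subgroup G, Xq ≤ X ∧ IsPGroup q Xq ∧ (Xq.relIndex X).Coprime q := by
  obtain ⟨P⟩ : Nonempty (Sylow q X) := inferInstance
  refine ⟨(P : Subgroup X).map X.subtype, Subgroup.map_subtype_le _, P.isPGroup'.map _, ?_⟩
  have h1 : ((P : Subgroup X).map X.subtype).relIndex X = (P : Subgroup X).index := by
    rw [Subgroup.relIndex, Subgroup.subgroupOf,
      Subgroup.comap_map_eq_self_of_injective (Subgroup.subtype_injective X)]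
  rw [h1]
  exact ((Nat.Prime.coprime_iff_not_dvd Fact.out).2 P.not_dvd_index).symm

/-- the Hall `q'`-subgroup `F ∩ K q` of the nilpotent normal subgroup `F` is normal in `G` -/
theorem inf_complement_normal [Finite G] (F : Subgroup G) [hFn : F.Normal]
    (hF : Group.IsNilpotent F) (K : Nat.Primes → Subgroup G) (hK : Cfsg.IsComplementSystem K)
    (q : Nat.Primes) : (F ⊓ K q).Normal := by
  have hle : F ⊓ K q ≤ F := inf_le_left
  have hcop : (Nat.card (F ⊓ K q : Subgroup G)).Coprime ((F ⊓ K q).relIndex F) := by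
    rw [Subgroup.inf_relIndex_left]
    have h1 : (K q).relIndex F ∣ (K q).index :=
      relIndex_dvd_index_of_normalizes (by rw [Subgroup.normalizer_eq_top]; exact le_top)
    rw [hK q] at h1
    obtain ⟨b, -, hb⟩ := (Nat.dvd_prime_pow q.2).1 h1
    rw [hb]
    apply Nat.Coprime.pow_right
    exact Nat.Coprime.coprime_dvd_left (Subgroup.card_dvd_of_le inf_le_right)
      (complement_card_coprime hK q)
  have hn : F ≤ Subgroup.normalizer ((F ⊓ K q : Subgroup G) : Set G) :=
    le_normalizer_of_hall_nilpotent hF hle hcop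
  constructor
  intro n hn' g
  have h1 : MulAut.conj g • (F ⊓ K q) ≤ F ⊓ K q := by
    apply le_of_normal_hall_rel hle hn _ hcop (by rw [card_conj_smul])
    intro x hx
    rw [mem_conj_smul] at hx
    have h2 : g * (g⁻¹ * x * g) * g⁻¹ ∈ F := hFn.conj_mem _ (hle hx) g
    have h3 : g * (g⁻¹ * x * g) * g⁻¹ = x := by group
    rwa [h3] at h2
  exact h1 (conj_mem_conj_smul hn')

/-- `K q = (D ∩ K q)(F ∩ K q)` -/
theorem complement_le_sup [Finite G] [Group.IsSolvable G] (F : Subgroup G) [hFn : F.Normal]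
    (hF : Group.IsNilpotent F) (hGF : Group.IsNilpotent (G ⧸ F)) (K : Nat.Primes → Subgroup G)
    (hK : Cfsg.IsComplementSystem K) (q : Nat.Primes) :
    K q ≤ (Cfsg.systemNormalizer K ⊓ K q) ⊔ (F ⊓ K q) := by
  haveI : Fact (q : ℕ).Prime := ⟨q.2⟩
  set D := Cfsg.systemNormalizer K with hD
  have hDK : D ≤ Subgroup.normalizer (K q : Set G) := iInf_le _ q
  haveI hF'n := inf_complement_normal F hF K hK q
  obtain ⟨Dq, hDqD, hDqp, hDqi⟩ := exists_sylow_sub (q : ℕ) D
  -- a normal `q`-subgroup of `G` inside `F` of `q'`-index: the Sylow `q`-subgroup of `F`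
  obtain ⟨Pf⟩ : Nonempty (Sylow (q : ℕ) F) := inferInstance
  have htf := (Group.isNilpotent_of_finite_tfae (G := F)).out 0 3
  have hall : ∀ (p : ℕ), Fact (Nat.Prime p) → ∀ (P : Sylow p F), (↑P : Subgroup F).Normal :=
    htf.1 hF
  have hPfn : (Pf : Subgroup F).Normal := hall (q : ℕ) inferInstance Pf
  haveI : (Pf : Subgroup F).Characteristic := Sylow.characteristic_of_normal Pf hPfn
  set Fq := (Pf : Subgroup F).map F.subtype with hFq
  haveI hFqn : Fq.Normal := ConjAct.normal_of_characteristic_of_normal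
  have hFqF : Fq ≤ F := Subgroup.map_subtype_le _
  have hFqp : IsPGroup (q : ℕ) Fq := Pf.isPGroup'.map _
  have hFqi : (Fq.relIndex F).Coprime (q : ℕ) := by
    have h1 : Fq.relIndex F = (Pf : Subgroup F).index := by
      rw [hFq, Subgroup.relIndex, Subgroup.subgroupOf,
        Subgroup.comap_map_eq_self_of_injective (Subgroup.subtype_injective F)]
    rw [h1]
    exact ((Nat.Prime.coprime_iff_not_dvd Fact.out).2 Pf.not_dvd_index).symm
  -- indices of `D ⊓ K q` and `F ⊓ K q`
  have hEi : ∃ b, (D ⊓ K q).relIndex D = (q : ℕ) ^ b := by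
    rw [Subgroup.inf_relIndex_left]
    have h1 : (K q).relIndex D ∣ (K q).index := relIndex_dvd_index_of_le_normalizer hDK
    rw [hK q] at h1
    obtain ⟨b, -, hb⟩ := (Nat.dvd_prime_pow q.2).1 h1
    exact ⟨b, hb⟩
  have hF'i : ∃ b, (F ⊓ K q).relIndex F = (q : ℕ) ^ b := by
    rw [Subgroup.inf_relIndex_left]
    have h1 : (K q).relIndex F ∣ (K q).index :=
      relIndex_dvd_index_of_normalizes (by rw [Subgroup.normalizer_eq_top]; exact le_top)
    rw [hK q] at h1
    obtain ⟨b, -, hb⟩ := (Nat.dvd_prime_pow q.2).1 h1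
    exact ⟨b, hb⟩
  obtain ⟨b₁, hb₁⟩ := hEi
  obtain ⟨b₂, hb₂⟩ := hF'i
  have hcopD : (Dq.relIndex D).Coprime ((D ⊓ K q).relIndex D) := by
    rw [hb₁]; exact Nat.Coprime.pow_right _ hDqi
  have hcopF : (Fq.relIndex F).Coprime ((F ⊓ K q).relIndex F) := by
    rw [hb₂]; exact Nat.Coprime.pow_right _ hFqi
  -- the `q`-group `Dq ⊔ Fq` meets `K q` trivially
  have hQ : IsPGroup (q : ℕ) (Dq ⊔ Fq : Subgroup G) := IsPGroup.to_sup_of_normal_right hDqp hFqp
  have hdisj : K q ⊓ (Dq ⊔ Fq) = ⊥ := by
    apply inf_eq_bot_of_coprime_card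
    obtain ⟨k, hk⟩ := IsPGroup.iff_card.1 hQ
    rw [hk]
    exact Nat.Coprime.pow_right _ (complement_card_coprime hK q)
  have htop : D ⊔ F = ⊤ := systemNormalizer_sup_eq_top F hGF K hK
  intro k hk
  have hk' : k ∈ F ⊔ D := by rw [sup_comm, htop]; exact Subgroup.mem_top k
  obtain ⟨f, hf, d, hd, hkfd⟩ := mem_sup_of_le_normalizer
    (by rw [Subgroup.normalizer_eq_top]; exact le_top) hk'
  obtain ⟨fq, hfq, f', hf', hff⟩ := exists_mul_of_coprime_relIndex hcopF f hf
  obtain ⟨dq, hdq, e, he, hde⟩ := exists_mul_of_coprime_relIndex hcopD d hd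
  -- `k = (fq * dq) * (dq⁻¹ f' dq * e)`
  have hf'' : dq⁻¹ * f' * dq ∈ F ⊓ K q := by
    have := hF'n.conj_mem f' hf' dq⁻¹
    rwa [inv_inv] at this
  have hv : dq⁻¹ * f' * dq * e ∈ K q := (K q).mul_mem hf''.2 he.2
  have hu : fq * dq ∈ K q ⊓ (Dq ⊔ Fq) := by
    refine ⟨?_, Subgroup.mul_mem _ (Subgroup.mem_sup_right hfq) (Subgroup.mem_sup_left hdq)⟩
    have h1 : fq * dq = k * (dq⁻¹ * f' * dq * e)⁻¹ := by
      rw [hkfd, hff, hde]; group
    rw [h1]
    exact (K q).mul_mem hk ((K q).inv_mem hv)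
  rw [hdisj, Subgroup.mem_bot] at hu
  have h2 : k = dq⁻¹ * f' * dq * e := by
    have h1 : k = (fq * dq) * (dq⁻¹ * f' * dq * e) := by
      rw [hkfd, hff, hde]; group
    rw [h1, hu, one_mul]
  rw [h2]
  exact Subgroup.mul_mem _ (Subgroup.mem_sup_right hf'') (Subgroup.mem_sup_left he)

/-- in a group of nilpotent length at most two a system normalizer is a Carter subgroup -/
theorem systemNormalizer_isCarter [Finite G] (F : Subgroup G) [hFn : F.Normal]
    (hF : Group.IsNilpotent F) (hGF : Group.IsNilpotent (G ⧸ F)) (K : Nat.Primes → Subgroup G)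
    (hK : Cfsg.IsComplementSystem K) : Cfsg.IsCarterSubgroup (Cfsg.systemNormalizer K) := by
  haveI : Group.IsSolvable G := isSolvable_of_nilpotent_by_nilpotent F hF hGF
  refine ⟨systemNormalizer_isNilpotent K hK, le_antisymm ?_ Subgroup.le_normalizer⟩
  set D := Cfsg.systemNormalizer K with hD
  intro x hx
  apply Subgroup.mem_iInf.2
  intro q
  have hDK : D ≤ Subgroup.normalizer (K q : Set G) := iInf_le _ q
  haveI hF'n := inf_complement_normal F hF K hK q
  -- `x` normalizes `D ⊓ K q`
  have hE : MulAut.conj x • (D ⊓ K q) = D ⊓ K q := by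
    apply conj_smul_eq_of_mem_normalizer
    apply Cfsg.Agent.Helper3.IrrCyclic.mem_normalizer_of_conj_le
    have hle : D ⊓ K q ≤ D := inf_le_left
    have hn : D ≤ Subgroup.normalizer ((D ⊓ K q : Subgroup G) : Set G) :=
      le_normalizer_inf Subgroup.le_normalizer hDK
    have hcop : (Nat.card (D ⊓ K q : Subgroup G)).Coprime ((D ⊓ K q).relIndex D) := by
      rw [Subgroup.inf_relIndex_left]
      have h1 : (K q).relIndex D ∣ (K q).index := relIndex_dvd_index_of_le_normalizer hDK
      rw [hK q] at h1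
      obtain ⟨b, -, hb⟩ := (Nat.dvd_prime_pow q.2).1 h1
      rw [hb]
      apply Nat.Coprime.pow_right
      exact Nat.Coprime.coprime_dvd_left (Subgroup.card_dvd_of_le inf_le_right)
        (complement_card_coprime hK q)
    have h1 : MulAut.conj x • (D ⊓ K q) ≤ D ⊓ K q := by
      apply le_of_normal_hall_rel hle hn _ hcop (by rw [card_conj_smul])
      have h2 : MulAut.conj x • D = D := conj_smul_eq_of_mem_normalizer hx
      intro y hy
      rw [mem_conj_smul] at hy
      have h3 : y ∈ MulAut.conj x • D := by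
        rw [mem_conj_smul]; exact hle hy
      rwa [h2] at h3
    intro b hb
    exact h1 (conj_mem_conj_smul hb)
  have hF' : MulAut.conj x • (F ⊓ K q) = F ⊓ K q := conj_smul_normal _ x
  have heq : K q = (D ⊓ K q) ⊔ (F ⊓ K q) :=
    le_antisymm (complement_le_sup F hF hGF K hK q) (sup_le inf_le_right inf_le_right)
  apply mem_normalizer_of_conj_smul_eq
  calc MulAut.conj x • K q = MulAut.conj x • ((D ⊓ K q) ⊔ (F ⊓ K q)) := by rw [← heq]
    _ = (D ⊓ K q) ⊔ (F ⊓ K q) := by rw [Subgroup.smul_sup, hE, hF']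
    _ = K q := heq.symm

end Cfsg.Agent.Helper1
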