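import Mathlib
import Cfsg.Agent.Helper3.IrrCyclic
import Cfsg.Agent.Helper1.MaxClass2Group

set_option autoImplicit false

/-!
Towards Huppert's theorem: eigenvectors for elements acting with order dividing `p - 1` on an
elementary abelian `p`-group; a minimal normal `p`-subgroup on which the group induces an abelian
group of exponent dividing `p - 1` has order `p`.
-/

namespace Cfsg.Agent.Helper1

open scoped commutatorElement
open Cfsg.Agent.Helper3.IrrCyclic

universe u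

/-- variant of helper3's lemma where `x ^ (q ^ e)` is only assumed to act like `x` on `A` -/
theorem card_le_of_minimal_invariant' {G : Type u} [Group G] [Finite G] {q : ℕ} [hq : Fact q.Prime]
    (A : Subgroup G) (hA : Cfsg.IsElementaryAbelian q A) (x : G)
    (hxA : x ∈ Subgroup.normalizer (A : Set G)) (e : ℕ) (he : 0 < e)
    (hx : ∀ a ∈ A, x ^ (q ^ e) * a * (x ^ (q ^ e))⁻¹ = x * a * x⁻¹)
    (hmin : ∀ B : Subgroup G, B ≤ A → x ∈ Subgroup.normalizer (B : Set G) → B = ⊥ ∨ B = A) :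
    Nat.card A ≤ q ^ e := by
  obtain ⟨hAc, hAq⟩ := hA
  let _ : CommGroup ↥A := { (inferInstance : Group ↥A) with mul_comm := fun a b => mul_comm' a b }
  have hqV : ∀ v : Additive ↥A, q • v = 0 := by
    intro v
    have : (Additive.toMul v) ^ q = 1 := Subtype.ext (by
      rw [Subgroup.coe_pow, Subgroup.coe_one]; exact hAq _ (Additive.toMul v).2)
    exact congrArg Additive.ofMul this
  have _i : Module (ZMod q) (Additive ↥A) := AddCommGroup.zmodModule hqV
  have hconj : ∀ a : ↥A, x * (a : G) * x⁻¹ ∈ A := fun a =>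
    (Subgroup.mem_normalizer_iff.1 hxA a).1 a.2
  let c : ↥A →* ↥A :=
    { toFun := fun a => ⟨x * a * x⁻¹, hconj a⟩
      map_one' := by apply Subtype.ext; simp
      map_mul' := by intro a b; apply Subtype.ext; simp [mul_assoc] }
  let T : Additive ↥A →ₗ[ZMod q] Additive ↥A :=
    (MonoidHom.toAdditive c).toZModLinearMap q
  have hTapp : ∀ v : Additive ↥A, T v = Additive.ofMul (c (Additive.toMul v)) := fun v => rfl
  let val : Additive ↥A → G := fun v => ((Additive.toMul v : ↥A) : G)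
  have hval_inj : Function.Injective val := by
    intro a b hab
    have : (Additive.toMul a : ↥A) = Additive.toMul b := Subtype.ext hab
    exact Additive.toMul.injective this
  have hvalA : ∀ v, val v ∈ A := fun v => (Additive.toMul v : ↥A).2
  have hTval : ∀ v : Additive ↥A, val (T v) = x * val v * x⁻¹ := fun v => rfl
  have hTpow : ∀ (k : ℕ) (v : Additive ↥A), val ((T ^ k) v) = x ^ k * val v * (x ^ k)⁻¹ := by
    intro k
    induction k with
    | zero => intro v; simp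
    | succ k ih =>
      intro v
      rw [pow_succ', Module.End.mul_apply, hTval, ih, pow_succ']; group
  have hT : T ^ (q ^ e) = T := by
    ext v
    show val ((T ^ (q ^ e)) v) = val (T v)
    rw [hTpow, hx _ (hvalA v), hTval]
  have hcard : Nat.card (Additive ↥A) = Nat.card ↥A := rfl
  rw [← hcard]
  apply card_le_of_irreducible T e he hT
  intro W hW
  let B' : Subgroup ↥A :=
    { carrier := {a | Additive.ofMul a ∈ W}
      mul_mem' := by
        intro a b ha hb
        exact W.add_mem ha hb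
      one_mem' := W.zero_mem
      inv_mem' := by
        intro a ha
        exact W.neg_mem ha }
  have hB'mem : ∀ a : ↥A, a ∈ B' ↔ Additive.ofMul a ∈ W := fun a => Iff.rfl
  have hBA : B'.map A.subtype ≤ A := Subgroup.map_subtype_le _
  have hBx : x ∈ Subgroup.normalizer ((B'.map A.subtype : Subgroup G) : Set G) := by
    apply mem_normalizer_of_conj_le
    rintro _ ⟨b, hb, rfl⟩
    refine ⟨c b, ?_, rfl⟩
    exact hW _ hb
  rcases hmin _ hBA hBx with h | h
  · left
    rw [eq_bot_iff]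
    intro w hw
    have h1 : ((Additive.toMul w : ↥A) : G) ∈ B'.map A.subtype := ⟨Additive.toMul w, hw, rfl⟩
    rw [h, Subgroup.mem_bot] at h1
    rw [Submodule.mem_bot]
    have : Additive.toMul w = 1 := Subtype.ext h1
    exact congrArg Additive.ofMul this
  · right
    rw [eq_top_iff]
    intro v _
    have h1 : ((Additive.toMul v : ↥A) : G) ∈ B'.map A.subtype := by
      rw [h]; exact (Additive.toMul v).2
    obtain ⟨b, hb, hbv⟩ := h1
    have : b = Additive.toMul v := Subtype.ext hbv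
    rw [this] at hb
    exact hb

variable {G : Type u} [Group G]

/-- an element acting with order dividing `p - 1` on an elementary abelian `p`-group has an
eigenvector -/
theorem exists_eigen [Finite G] {p : ℕ} [hp : Fact p.Prime] (N : Subgroup G)
    (hN : Cfsg.IsElementaryAbelian p N) (hN1 : N ≠ ⊥) (a : G)
    (haN : a ∈ Subgroup.normalizer (N : Set G))
    (ha : a ^ (p - 1) ∈ Subgroup.centralizer (N : Set G)) :
    ∃ x ∈ N, x ≠ 1 ∧ ∃ k : ℤ, a * x * a⁻¹ = x ^ k := by
  classical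
  -- a minimal nontrivial `a`-invariant subgroup
  let 𝒮 : Set (Subgroup G) := {B | B ≤ N ∧ B ≠ ⊥ ∧ a ∈ Subgroup.normalizer (B : Set G)}
  have hN𝒮 : N ∈ 𝒮 := ⟨le_rfl, hN1, haN⟩
  obtain ⟨B, -, hBmin⟩ := (Set.toFinite 𝒮).exists_le_minimal hN𝒮
  obtain ⟨hBN, hB1, hBa⟩ : B ∈ 𝒮 := hBmin.prop
  have hBel : Cfsg.IsElementaryAbelian p B := by
    obtain ⟨hc, he⟩ := hN
    refine ⟨⟨⟨fun x y => Subtype.ext ?_⟩⟩, fun b hb => he b (hBN hb)⟩
    have := hc.is_comm.comm ⟨x, hBN x.2⟩ ⟨y, hBN y.2⟩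
    show (x : G) * (y : G) = (y : G) * (x : G)
    exact congrArg Subtype.val this
  have hpp : p.Prime := hp.out
  have hxact : ∀ b ∈ B, a ^ (p ^ 1) * b * (a ^ (p ^ 1))⁻¹ = a * b * a⁻¹ := by
    intro b hb
    have h1 : a ^ (p ^ 1) = a * a ^ (p - 1) := by
      rw [pow_one, ← pow_succ']; congr 1; have := hpp.pos; omega
    have h2 : a ^ (p - 1) * b = b * a ^ (p - 1) :=
      (Subgroup.mem_centralizer_iff.1 ha b (hBN hb)).symm
    rw [h1]
    calc a * a ^ (p - 1) * b * (a * a ^ (p - 1))⁻¹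
        = a * (a ^ (p - 1) * b) * (a ^ (p - 1))⁻¹ * a⁻¹ := by group
      _ = a * (b * a ^ (p - 1)) * (a ^ (p - 1))⁻¹ * a⁻¹ := by rw [h2]
      _ = a * b * a⁻¹ := by group
  have hcard : Nat.card B ≤ p ^ 1 := by
    apply card_le_of_minimal_invariant' B hBel a hBa 1 one_pos hxact
    intro B' hB'B hB'a
    by_cases h : B' = ⊥
    · left; exact h
    · right
      exact le_antisymm hB'B (hBmin.2 ⟨hB'B.trans hBN, h, hB'a⟩ hB'B)
  obtain ⟨x, hxB, hx1⟩ : ∃ x ∈ B, x ≠ 1 := by
    by_contra hcon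
    apply hB1
    rw [eq_bot_iff]
    intro x hx
    by_contra hx1
    exact hcon ⟨x, hx, hx1⟩
  have hBz : B = Subgroup.zpowers x := by
    symm
    apply Subgroup.eq_of_le_of_card_ge (Subgroup.zpowers_le.2 hxB)
    rw [Nat.card_zpowers]
    have hxp : x ^ p = 1 := hN.2 x (hBN hxB)
    have h1 : orderOf x = p := by
      rcases (Nat.dvd_prime hpp).1 (orderOf_dvd_of_pow_eq_one hxp) with h | h
      · exact absurd (orderOf_eq_one_iff.1 h) hx1
      · exact h
    rw [h1]; simpa using hcard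
  refine ⟨x, hBN hxB, hx1, ?_⟩
  have h1 : a * x * a⁻¹ ∈ B := (Subgroup.mem_normalizer_iff.1 hBa x).1 hxB
  rw [hBz] at h1
  obtain ⟨k, hk⟩ := Subgroup.mem_zpowers_iff.1 h1
  exact ⟨k, hk.symm⟩

/-- a minimal normal elementary abelian `p`-subgroup on which `G` induces an abelian group of
exponent dividing `p - 1` has order `p` -/
theorem card_eq_prime_of_minimal_normal [Finite G] {p : ℕ} [hp : Fact p.Prime] (N : Subgroup G)
    [hNn : N.Normal] (hN : Cfsg.IsElementaryAbelian p N) (hN1 : N ≠ ⊥)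
    (hNmin : ∀ M : Subgroup G, M.Normal → M ≤ N → M = ⊥ ∨ M = N)
    (hcomm : ∀ g h : G, ⁅g, h⁆ ∈ Subgroup.centralizer (N : Set G))
    (hpow : ∀ g : G, g ^ (p - 1) ∈ Subgroup.centralizer (N : Set G)) :
    Nat.card N = p := by
  have hpp : p.Prime := hp.out
  have hNcomm : ∀ x ∈ N, ∀ y ∈ N, x * y = y * x := fun x hx y hy =>
    congrArg Subtype.val (hN.1.is_comm.comm ⟨x, hx⟩ ⟨y, hy⟩)
  -- every element acts as a power map
  have hscal : ∀ a : G, ∃ k : ℤ, ∀ x ∈ N, a * x * a⁻¹ = x ^ k := by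
    intro a
    obtain ⟨x₀, hx₀N, hx₀1, k, hk⟩ := exists_eigen N hN hN1 a
      (by rw [Subgroup.normalizer_eq_top]; exact Subgroup.mem_top a) (hpow a)
    refine ⟨k, ?_⟩
    let E : Subgroup G :=
      { carrier := {x | x ∈ N ∧ a * x * a⁻¹ = x ^ k}
        one_mem' := ⟨N.one_mem, by simp⟩
        mul_mem' := by
          rintro x y ⟨hx, hxk⟩ ⟨hy, hyk⟩
          refine ⟨N.mul_mem hx hy, ?_⟩
          have h1 : a * (x * y) * a⁻¹ = (a * x * a⁻¹) * (a * y * a⁻¹) := by group
          rw [h1, hxk, hyk, (show Commute x y from hNcomm x hx y hy).mul_zpow]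
        inv_mem' := by
          rintro x ⟨hx, hxk⟩
          refine ⟨N.inv_mem hx, ?_⟩
          have h1 : a * x⁻¹ * a⁻¹ = (a * x * a⁻¹)⁻¹ := by group
          rw [h1, hxk, inv_zpow'] 
          rw [zpow_neg] }
    have hEN : E ≤ N := fun x hx => hx.1
    have hEn : E.Normal := by
      constructor
      rintro x ⟨hx, hxk⟩ g
      have hgx : g * x * g⁻¹ ∈ N := hNn.conj_mem x hx g
      refine ⟨hgx, ?_⟩
      -- a' = g⁻¹ a g acts like a on N
      have hc := hcomm a⁻¹ g⁻¹
      rw [commutatorElement_def] at hc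
      have hcx : (a⁻¹ * g⁻¹ * a⁻¹⁻¹ * g⁻¹⁻¹) * x = x * (a⁻¹ * g⁻¹ * a⁻¹⁻¹ * g⁻¹⁻¹) :=
        (Subgroup.mem_centralizer_iff.1 hc x hx).symm
      have h2 : (g⁻¹ * a * g) * x * (g⁻¹ * a * g)⁻¹ = a * x * a⁻¹ := by
        calc (g⁻¹ * a * g) * x * (g⁻¹ * a * g)⁻¹
            = a * ((a⁻¹ * g⁻¹ * a⁻¹⁻¹ * g⁻¹⁻¹) * x) * (a⁻¹ * g⁻¹ * a⁻¹⁻¹ * g⁻¹⁻¹)⁻¹ * a⁻¹ := by
              group
          _ = a * (x * (a⁻¹ * g⁻¹ * a⁻¹⁻¹ * g⁻¹⁻¹)) * (a⁻¹ * g⁻¹ * a⁻¹⁻¹ * g⁻¹⁻¹)⁻¹ * a⁻¹ := by
              rw [hcx]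
          _ = a * x * a⁻¹ := by group
      calc a * (g * x * g⁻¹) * a⁻¹ = g * ((g⁻¹ * a * g) * x * (g⁻¹ * a * g)⁻¹) * g⁻¹ := by group
        _ = g * (x ^ k) * g⁻¹ := by rw [h2, hxk]
        _ = (g * x * g⁻¹) ^ k := by
          have := map_zpow (MulAut.conj g) x k
          simpa [MulAut.conj_apply] using this.symm
    rcases hNmin E hEn hEN with h | h
    · exfalso
      have : x₀ ∈ E := ⟨hx₀N, hk⟩
      rw [h, Subgroup.mem_bot] at this
      exact hx₀1 this
    · intro x hx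
      have : x ∈ E := by rw [h]; exact hx
      exact this.2
  obtain ⟨x, hxN, hx1⟩ : ∃ x ∈ N, x ≠ 1 := by
    by_contra hcon
    apply hN1
    rw [eq_bot_iff]
    intro x hx
    by_contra hx1
    exact hcon ⟨x, hx, hx1⟩
  haveI hzn : (Subgroup.zpowers x).Normal := by
    apply normal_zpowers_of_conj_mem
    intro g
    obtain ⟨k, hk⟩ := hscal g
    rw [hk x hxN]
    exact Subgroup.zpow_mem _ (Subgroup.mem_zpowers x) k
  have hzN : Subgroup.zpowers x ≤ N := Subgroup.zpowers_le.2 hxN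
  rcases hNmin _ hzn hzN with h | h
  · exact absurd (Subgroup.zpowers_eq_bot.1 h) hx1
  · rw [← h, Nat.card_zpowers]
    have hxp : x ^ p = 1 := hN.2 x hxN
    rcases (Nat.dvd_prime hpp).1 (orderOf_dvd_of_pow_eq_one hxp) with h' | h'
    · exact absurd (orderOf_eq_one_iff.1 h') hx1
    · exact h'

end Cfsg.Agent.Helper1
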