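import Mathlib
import Cfsg.Agent.Helper1.Basic
import Cfsg.Agent.Helper1.Coprime
import Cfsg.Agent.Helper1.SylowInt
import Cfsg.Agent.Helper1.AbelianAct

set_option autoImplicit false

/-!
Coprime action with `|K : C_K(A)| = p`: then `|[K, A]| = p`.
-/

namespace Cfsg.Agent.Helper1

open scoped Pointwise commutatorElement

universe u

variable {G : Type u} [Group G]

theorem relIndex_of_sup_eq {D T S : Subgroup G} (hDS : D ≤ S) (hTS : T ≤ S)
    (hn : S ≤ Subgroup.normalizer (D : Set G)) (hsup : T ⊔ D = S) :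
    D.relIndex T = D.relIndex S := by
  have hnorm : (D.subgroupOf S).Normal := (Subgroup.normal_subgroupOf_iff_le_normalizer hDS).2 hn
  have h1 := Subgroup.relIndex_sup_left (K := D.subgroupOf S) (H := T.subgroupOf S)
  rw [← Subgroup.subgroupOf_sup hDS hTS, Subgroup.relIndex_subgroupOf hTS,
    Subgroup.relIndex_subgroupOf (sup_le hDS hTS), sup_comm, hsup] at h1
  exact h1.symm

theorem isMulCommutative_of_central_index_prime {T E : Subgroup G}
    (hc : T ≤ Subgroup.centralizer (E : Set G)) (hidx : (E.relIndex T).Prime) :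
    IsMulCommutative T := by
  set E' := E.subgroupOf T with hE'
  have hcen : E' ≤ Subgroup.center T := by
    intro e he
    rw [Subgroup.mem_center_iff]
    intro t
    apply Subtype.ext
    have := Subgroup.mem_centralizer_iff.1 (hc t.2) (e : G) (Subgroup.mem_subgroupOf.1 he)
    exact this.symm
  have hnorm : E'.Normal := by
    refine ⟨fun e he t => ?_⟩
    have h1 := Subgroup.mem_center_iff.1 (hcen he) t
    have h2 : t * e * t⁻¹ = e := by rw [h1, mul_inv_cancel_right]
    rw [h2]; exact he
  have hcard : Nat.card (T ⧸ E') = E.relIndex T := (Subgroup.index_eq_card E').symm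
  haveI : Fact (E.relIndex T).Prime := ⟨hidx⟩
  haveI : IsCyclic (T ⧸ E') := isCyclic_of_prime_card hcard
  exact MonoidHom.isMulCommutative_of_isCyclic_of_ker_le_center (QuotientGroup.mk' E')
    (by rw [QuotientGroup.ker_mk']; exact hcen)

theorem isSolvable_of_isPGroup' [Finite G] {p : ℕ} [Fact p.Prime] (S : Subgroup G)
    (hS : IsPGroup p S) : Group.IsSolvable S := by
  haveI := hS.isNilpotent
  infer_instance

/-- the `p`-group case -/
theorem pgroup_index_p_commutator [Finite G] {p : ℕ} [hp : Fact p.Prime] (A S : Subgroup G)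
    (hS : IsPGroup p S) (hAS : A ≤ Subgroup.normalizer (S : Set G))
    (hcop : (Nat.card A).Coprime (Nat.card S))
    (hidx : (S ⊓ Subgroup.centralizer (A : Set G)).relIndex S = p) :
    Nat.card (⁅S, A⁆ : Subgroup G) = p ∧ ⁅S, A⁆ ⊓ Subgroup.centralizer (A : Set G) = ⊥ := by
  have hsolv : Group.IsSolvable A ∨ Group.IsSolvable S := Or.inr (isSolvable_of_isPGroup' S hS)
  set D := S ⊓ Subgroup.centralizer (A : Set G) with hD
  set T : Subgroup G := ⁅S, A⁆ with hT
  have hTS : T ≤ S := Subgroup.le_normalizer_iff_commutator_le_left.1 hAS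
  have hDS : D ≤ S := inf_le_left
  have hsup : T ⊔ D = S := coprime_commutator_sup_centralizer A S hAS hcop hsolv
  have hTT : ⁅T, A⁆ = T := coprime_commutator_commutator A S hAS hcop hsolv
  have hAT : A ≤ Subgroup.normalizer (T : Set G) := Subgroup.normalizer_commutator_ge_right S A
  have hST : S ≤ Subgroup.normalizer (T : Set G) := Subgroup.normalizer_commutator_ge_left S A
  -- `D` is normal in `S`
  have hSD : S ≤ Subgroup.normalizer (D : Set G) := by
    rw [← Subgroup.normal_subgroupOf_iff_le_normalizer hDS]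
    apply Subgroup.normal_of_index_eq_minFac_card
    have h1 : (D.subgroupOf S).index = p := hidx
    rw [h1]
    obtain ⟨k, hk⟩ := (IsPGroup.iff_card.1 hS)
    have hk0 : k ≠ 0 := by
      rintro rfl
      rw [pow_zero] at hk
      have h2 : (D.subgroupOf S).index ∣ Nat.card S := Subgroup.index_dvd_card _
      rw [h1, hk] at h2
      exact hp.out.one_lt.ne' (Nat.dvd_one.1 h2)
    rw [hk, Nat.pow_minFac hk0, hp.out.minFac_eq]
  set E := T ⊓ Subgroup.centralizer (A : Set G) with hE
  have hETD : E = T ⊓ D := by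
    rw [hD, ← inf_assoc, inf_eq_left.2 hTS]
  have hET : E ≤ T := inf_le_left
  have hTE : T ≤ Subgroup.normalizer (E : Set G) := by
    rw [hETD]
    exact le_normalizer_inf Subgroup.le_normalizer (hTS.trans hSD)
  have hEA : ⁅E, A⁆ = ⊥ := Subgroup.commutator_eq_bot_iff_le_centralizer.2 inf_le_right
  have h1 : ⁅⁅T, E⁆, A⁆ = ⊥ := by
    rw [eq_bot_iff, ← hEA]
    apply Subgroup.commutator_mono _ le_rfl
    rw [Subgroup.commutator_comm]
    exact Subgroup.le_normalizer_iff_commutator_le_left.1 hTE
  have h2 : ⁅⁅E, A⁆, T⁆ = ⊥ := by rw [hEA, Subgroup.commutator_bot_left]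
  have h3 : ⁅⁅A, T⁆, E⁆ = ⊥ := Subgroup.commutator_commutator_eq_bot_of_rotate h1 h2
  rw [Subgroup.commutator_comm A T, hTT] at h3
  have hTcE : T ≤ Subgroup.centralizer (E : Set G) :=
    Subgroup.commutator_eq_bot_iff_le_centralizer.1 h3
  have hidxE : E.relIndex T = p := by
    rw [hETD, inf_comm, Subgroup.inf_relIndex_right, relIndex_of_sup_eq hDS hTS hSD hsup]
    exact hidx
  haveI : IsMulCommutative T :=
    isMulCommutative_of_central_index_prime hTcE (by rw [hidxE]; exact hp.out)
  have hcopT : (Nat.card A).Coprime (Nat.card T) :=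
    hcop.coprime_dvd_right (Subgroup.card_dvd_of_le hTS)
  have hEbot : E = ⊥ := by
    have h4 := centralizer_inf_commutator_eq_bot A T hAT hcopT
    rw [hTT, ← hE, inf_eq_left.2 hET] at h4
    exact h4
  refine ⟨?_, hEbot⟩
  have h5 : E.relIndex T = Nat.card T := by
    rw [hEbot, Subgroup.relIndex_bot_left]
  rw [← h5, hidxE]

/-- Under coprime action, if `|K : C_K(A)| = p` then `|[K, A]| = p`. -/
theorem coprime_index_p_commutator [Finite G] (A K : Subgroup G)
    (hAK : A ≤ Subgroup.normalizer (K : Set G))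
    (hcop : (Nat.card A).Coprime (Nat.card K))
    (hsolv : Group.IsSolvable A ∨ Group.IsSolvable K)
    (p : ℕ) (hp : p.Prime) (hidx : (K ⊓ Subgroup.centralizer (A : Set G)).relIndex K = p) :
    Nat.card (⁅K, A⁆ : Subgroup G) = p := by
  haveI : Fact p.Prime := ⟨hp⟩
  obtain ⟨P, hP⟩ := exists_invariant_sylow (p := p) A K hAK hcop hsolv
  set S := (P : Subgroup K).map K.subtype with hS
  set C := K ⊓ Subgroup.centralizer (A : Set G) with hC
  have hCK : C ≤ K := inf_le_left
  have hSK : S ≤ K := by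
    rw [hS]; exact Subgroup.map_subtype_le _
  have hSp : IsPGroup p S := P.2.map _
  have hSsub : S.subgroupOf K = (P : Subgroup K) :=
    Subgroup.comap_map_eq_self_of_injective K.subtype_injective _
  have hAS : A ≤ Subgroup.normalizer (S : Set G) := hP
  have hcopS : (Nat.card A).Coprime (Nat.card S) :=
    hcop.coprime_dvd_right (Subgroup.card_dvd_of_le hSK)
  -- the index of `C_S(A)` in `S` is `p`
  have hSC : S ⊓ Subgroup.centralizer (A : Set G) = C ⊓ S := by
    rw [hC, inf_comm K, inf_assoc, inf_eq_right.2 hSK, inf_comm]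
  have hle : C.relIndex S ≤ p := by
    rw [← hidx]
    exact Subgroup.relIndex_le_of_le_right hSK (by rw [hidx]; exact hp.ne_zero)
  have hne1 : C.relIndex S ≠ 1 := by
    intro h1
    have hSC' : S ≤ C := Subgroup.relIndex_eq_one.1 h1
    have h2 := Subgroup.relIndex_mul_relIndex S C K hSC' hCK
    rw [hidx] at h2
    have h3 : p ∣ S.relIndex K := ⟨_, (h2.symm.trans (mul_comm _ _))⟩
    have h4 : S.relIndex K = (P : Subgroup K).index := by
      rw [Subgroup.relIndex, hSsub]
    rw [h4] at h3
    exact P.not_dvd_index h3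
  have hidxS : (S ⊓ Subgroup.centralizer (A : Set G)).relIndex S = p := by
    rw [hSC, Subgroup.inf_relIndex_right]
    obtain ⟨k, hk⟩ := (IsPGroup.iff_card.1 hSp)
    have h1 : C.relIndex S ∣ p ^ k := by
      rw [← hk]; exact Subgroup.relIndex_dvd_card _ _
    obtain ⟨j, _, hj⟩ := (Nat.dvd_prime_pow hp).1 h1
    rw [hj] at hle hne1 ⊢
    have hj1 : j ≠ 0 := by
      rintro rfl
      exact hne1 (pow_zero p)
    have hj2 : j ≤ 1 := by
      by_contra hcon
      push Not at hcon
      have : p ^ 2 ≤ p ^ j := Nat.pow_le_pow_right hp.pos hcon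
      have h2 : p * p ≤ p := by
        calc p * p = p ^ 2 := (sq p).symm
          _ ≤ p ^ j := this
          _ ≤ p := hle
      have h3 := hp.one_lt
      nlinarith
    have : j = 1 := by omega
    rw [this, pow_one]
  obtain ⟨hTcard, hTC⟩ := pgroup_index_p_commutator A S hSp hAS hcopS hidxS
  set T : Subgroup G := ⁅S, A⁆ with hT
  have hTK' : T ≤ ⁅K, A⁆ := Subgroup.commutator_mono hSK le_rfl
  have hKA : ⁅K, A⁆ ≤ K := Subgroup.le_normalizer_iff_commutator_le_left.1 hAK
  have hTK : T ≤ K := hTK'.trans hKA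
  have hAT : A ≤ Subgroup.normalizer (T : Set G) := Subgroup.normalizer_commutator_ge_right S A
  -- `K = T C`
  have hcompl : Subgroup.IsComplement' (T.subgroupOf K) (C.subgroupOf K) := by
    apply Subgroup.isComplement'_of_card_mul_and_disjoint
    · rw [card_subgroupOf_of_le hTK, card_subgroupOf_of_le hCK, hTcard, ← hidx]
      have h1 := (C.subgroupOf K).card_mul_index
      rw [card_subgroupOf_of_le hCK] at h1
      rw [← h1, mul_comm]
      rfl
    · rw [disjoint_iff, eq_bot_iff]
      rintro ⟨x, hxK⟩ ⟨hxT, hxC⟩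
      rw [Subgroup.mem_bot]
      apply Subtype.ext
      have hxT' : x ∈ T := Subgroup.mem_subgroupOf.1 hxT
      have hxC' : x ∈ C := Subgroup.mem_subgroupOf.1 hxC
      have : x ∈ T ⊓ Subgroup.centralizer (A : Set G) := ⟨hxT', hxC'.2⟩
      rw [hTC, Subgroup.mem_bot] at this
      exact this
  have hle2 : ⁅K, A⁆ ≤ T := by
    rw [Subgroup.commutator_le]
    intro k hk a ha
    obtain ⟨⟨t, c⟩, htc⟩ := hcompl.2 ⟨k, hk⟩
    have htc' : (t : K) * (c : K) = ⟨k, hk⟩ := htc
    have hk' : k = ((t : K) : G) * ((c : K) : G) := by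
      have := congrArg Subtype.val htc'
      exact this.symm
    have htT : ((t : K) : G) ∈ T := Subgroup.mem_subgroupOf.1 t.2
    have hcC : ((c : K) : G) ∈ C := Subgroup.mem_subgroupOf.1 c.2
    have hca : a * ((c : K) : G) = ((c : K) : G) * a :=
      (Subgroup.mem_centralizer_iff.1 hcC.2 a ha)
    have h1 : ⁅k, a⁆ = ((t : K) : G) * (a * ((t : K) : G)⁻¹ * a⁻¹) := by
      rw [hk', commutatorElement_def]
      have : ((t : K) : G) * ((c : K) : G) * a * (((t : K) : G) * ((c : K) : G))⁻¹ * a⁻¹ =
          ((t : K) : G) * (((c : K) : G) * a) * ((c : K) : G)⁻¹ * ((t : K) : G)⁻¹ * a⁻¹ := by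
        group
      rw [this, ← hca]
      group
    rw [h1]
    exact T.mul_mem htT ((Subgroup.mem_normalizer_iff.1 (hAT ha) _).1 (T.inv_mem htT))
  rw [le_antisymm hle2 hTK']
  exact hTcard

end Cfsg.Agent.Helper1
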