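import Mathlib
import Cfsg.Prelude.Def_SolvableStructure
import Cfsg.Agent.Helper1.Supersolvable4
import Cfsg.Agent.Helper1.Coprime
import Cfsg.Agent.Helper1.CoprimeIndexP

set_option autoImplicit false

/-!
Towards Huppert's theorem: in a supersolvable group, commutators and `(p-1)`-th powers of a
`p'`-subgroup centralize every normal `p`-subgroup.
-/

namespace Cfsg.Agent.Helper1

open scoped commutatorElement

universe u v

variable {G : Type u} [Group G]

/-- the subgroup generated by commutators and `(p-1)`-th powers of elements of `H` -/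
def derivedPowers (p : ℕ) (H : Subgroup G) : Subgroup G :=
  Subgroup.closure ({z | ∃ x ∈ H, ∃ y ∈ H, z = ⁅x, y⁆} ∪ {z | ∃ x ∈ H, z = x ^ (p - 1)})

theorem derivedPowers_le (p : ℕ) (H : Subgroup G) : derivedPowers p H ≤ H := by
  unfold derivedPowers
  rw [Subgroup.closure_le]
  rintro z (⟨x, hx, y, hy, rfl⟩ | ⟨x, hx, rfl⟩)
  · rw [commutatorElement_def]
    exact H.mul_mem (H.mul_mem (H.mul_mem hx hy) (H.inv_mem hx)) (H.inv_mem hy)
  · exact H.pow_mem hx _

theorem commutator_mem_derivedPowers (p : ℕ) {H : Subgroup G} {x y : G} (hx : x ∈ H)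
    (hy : y ∈ H) : ⁅x, y⁆ ∈ derivedPowers p H :=
  Subgroup.subset_closure (Or.inl ⟨x, hx, y, hy, rfl⟩)

theorem pow_mem_derivedPowers (p : ℕ) {H : Subgroup G} {x : G} (hx : x ∈ H) :
    x ^ (p - 1) ∈ derivedPowers p H :=
  Subgroup.subset_closure (Or.inr ⟨x, hx, rfl⟩)

theorem derivedPowers_map {G' : Type v} [Group G'] (p : ℕ) (H : Subgroup G) (f : G →* G') :
    (derivedPowers p H).map f = derivedPowers p (H.map f) := by
  unfold derivedPowers
  rw [MonoidHom.map_closure]
  congr 1
  ext z
  constructor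
  · rintro ⟨w, (⟨x, hx, y, hy, rfl⟩ | ⟨x, hx, rfl⟩), rfl⟩
    · left
      exact ⟨f x, Subgroup.mem_map_of_mem f hx, f y, Subgroup.mem_map_of_mem f hy,
        map_commutatorElement f x y⟩
    · right
      exact ⟨f x, Subgroup.mem_map_of_mem f hx, map_pow f x _⟩
  · rintro (⟨_, ⟨x, hx, rfl⟩, _, ⟨y, hy, rfl⟩, rfl⟩ | ⟨_, ⟨x, hx, rfl⟩, rfl⟩)
    · exact ⟨⁅x, y⁆, Or.inl ⟨x, hx, y, hy, rfl⟩, map_commutatorElement f x y⟩
    · exact ⟨x ^ (p - 1), Or.inr ⟨x, hx, rfl⟩, map_pow f x _⟩

theorem derivedPowers_normalizer (p : ℕ) (H : Subgroup G) :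
    H ≤ Subgroup.normalizer (derivedPowers p H : Set G) := by
  intro h hh
  apply mem_normalizer_of_conj_smul_eq
  rw [conj_smul_eq_map, derivedPowers_map]
  congr 1
  rw [← conj_smul_eq_map]
  exact conj_smul_eq_of_mem_normalizer (Subgroup.le_normalizer hh)

/-- a cyclic normal subgroup inside the intersection of a chain with a normal subgroup -/
theorem exists_cyclic_normal_inf_of_cycChain {B : Subgroup G} (h : CycChain (⊥ : Subgroup G) B)
    (Q : Subgroup G) [hQ : Q.Normal] :
    B ⊓ Q = ⊥ ∨ ∃ g : G, Subgroup.zpowers g ≠ ⊥ ∧ (Subgroup.zpowers g).Normal ∧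
      Subgroup.zpowers g ≤ Q := by
  induction h with
  | refl hA => left; exact bot_inf_eq _
  | @step K g h hn ih =>
    rcases ih with hK | hr
    · haveI hKn : K.Normal := h.normal_right
      obtain ⟨y, hy⟩ := exists_subgroupOf_sup_zpowers Q K g
      have hKQ : K.subgroupOf Q = ⊥ := by
        rw [Subgroup.subgroupOf_eq_bot, disjoint_iff]; exact hK
      rw [hKQ, bot_sup_eq] at hy
      have hR : (K ⊔ Subgroup.zpowers g) ⊓ Q = Subgroup.zpowers (y : G) := by
        have := congrArg (Subgroup.map Q.subtype) hy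
        rw [Subgroup.subgroupOf_map_subtype, MonoidHom.map_zpowers] at this
        exact this
      by_cases hy1 : Subgroup.zpowers (y : G) = ⊥
      · left; rw [hR, hy1]
      · right
        refine ⟨(y : G), hy1, ?_, ?_⟩
        · rw [← hR]
          haveI := hn
          infer_instance
        · rw [← hR]; exact inf_le_right
    · right; exact hr

theorem exists_normal_prime_card_le [Finite G] (hG : Cfsg.IsSupersolvable G) (Q : Subgroup G)
    [hQ : Q.Normal] (hQ1 : Q ≠ ⊥) :
    ∃ L : Subgroup G, L ≤ Q ∧ L.Normal ∧ (Nat.card L).Prime := by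
  rw [isSupersolvable_iff_cycChain] at hG
  rcases exists_cyclic_normal_inf_of_cycChain hG Q with h | ⟨g, h1, h2, h3⟩
  · rw [top_inf_eq] at h; exact absurd h hQ1
  · obtain ⟨L, hL, hLn, hLp⟩ := exists_normal_prime_card_of_cyclic_normal g h2 h1
    exact ⟨L, hL.trans h3, hLn, hLp⟩

theorem pow_pred_mem_centralizer_of_card_prime [Finite G] {p : ℕ} [hp : Fact p.Prime]
    (L : Subgroup G) [L.Normal] (hL : Nat.card L = p) (x : G) :
    x ^ (p - 1) ∈ Subgroup.centralizer (L : Set G) := by
  haveI : IsCyclic L := isCyclic_of_prime_card hL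
  have h1 : Nat.card (MulAut L) = p - 1 := by
    rw [IsCyclic.card_mulAut, hL, Nat.totient_prime hp.out]
  have h2 : (MulAut.conjNormal x : MulAut L) ^ (p - 1) = 1 := by
    rw [← h1]; exact pow_card_eq_one'
  rw [← map_pow] at h2
  rw [Subgroup.mem_centralizer_iff]
  intro y hy
  have h3 : ((MulAut.conjNormal (x ^ (p - 1)) : MulAut L) ⟨y, hy⟩ : G) = y := by
    rw [h2]; rfl
  rw [MulAut.conjNormal_apply] at h3
  calc y * x ^ (p - 1) = (x ^ (p - 1) * y * (x ^ (p - 1))⁻¹) * x ^ (p - 1) := by rw [h3]
    _ = x ^ (p - 1) * y := by group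

set_option maxHeartbeats 400000 in
/-- in a supersolvable group, commutators and `(p-1)`-th powers of a `p'`-subgroup centralize
normal `p`-subgroups -/
theorem derivedPowers_centralizes {p : ℕ} [hp : Fact p.Prime] : ∀ (n : ℕ) (G : Type u) [Group G]
    [Finite G], Nat.card G = n → Cfsg.IsSupersolvable G → ∀ (P H : Subgroup G), P.Normal →
    IsPGroup p P → (Nat.card H).Coprime p → ⁅P, derivedPowers p H⁆ = ⊥ := by
  intro n
  induction n using Nat.strong_induction_on with
  | _ n ih =>
    intro G _ _ hn hG P H hPn hPp hHp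
    haveI := hPn
    by_cases hP1 : P = ⊥
    · rw [hP1, Subgroup.commutator_bot_left]
    obtain ⟨L, hLP, hLn, hLprime⟩ := exists_normal_prime_card_le hG P hP1
    haveI := hLn
    have hpp : p.Prime := hp.out
    have hLp : Nat.card L = p := by
      obtain ⟨k, hk⟩ := (hPp.to_le hLP).exists_card_eq
      rw [hk] at hLprime
      have hk1 : k = 1 := by
        by_contra hne
        exact (Nat.Prime.not_prime_pow' hne) hLprime
      rw [hk, hk1, pow_one]
    have hL1 : L ≠ ⊥ := ne_bot_of_prime_card hLprime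
    have hlt : Nat.card (G ⧸ L) < n := hn ▸ card_quotient_lt L hL1
    have hsurj := QuotientGroup.mk'_surjective L
    have hHmap : (Nat.card (H.map (QuotientGroup.mk' L))).Coprime p :=
      Nat.Coprime.coprime_dvd_left (Subgroup.card_map_dvd _ _) hHp
    have hQ := ih _ hlt (G ⧸ L) rfl (isSupersolvable_quotient hG L) (P.map (QuotientGroup.mk' L))
      (H.map (QuotientGroup.mk' L)) (hPn.map _ hsurj) (hPp.map _) hHmap
    rw [← derivedPowers_map, ← Subgroup.map_commutator, (Subgroup.map_eq_bot_iff _),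
      QuotientGroup.ker_mk'] at hQ
    -- the generators centralize L
    have hKL : derivedPowers p H ≤ Subgroup.centralizer (L : Set G) := by
      unfold derivedPowers
      rw [Subgroup.closure_le]
      rintro z (⟨x, -, y, -, rfl⟩ | ⟨x, -, rfl⟩)
      · haveI : IsCyclic L := isCyclic_of_prime_card hLp
        apply commutator_le_centralizer_of_cyclic_normal L
        rw [commutator_def]
        exact Subgroup.commutator_mem_commutator (Subgroup.mem_top _) (Subgroup.mem_top _)
      · exact pow_pred_mem_centralizer_of_card_prime L hLp x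
    have h1 : ⁅⁅P, derivedPowers p H⁆, derivedPowers p H⁆ = ⊥ := by
      rw [eq_bot_iff]
      calc ⁅⁅P, derivedPowers p H⁆, derivedPowers p H⁆ ≤ ⁅L, derivedPowers p H⁆ :=
            Subgroup.commutator_mono hQ le_rfl
        _ = ⊥ := by
          rw [Subgroup.commutator_comm, Subgroup.commutator_eq_bot_iff_le_centralizer]
          exact hKL
    have hDH := derivedPowers_le p H
    have hcop : (Nat.card (derivedPowers p H)).Coprime (Nat.card P) := by
      obtain ⟨k, hk⟩ := hPp.exists_card_eq
      rw [hk]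
      exact Nat.Coprime.pow_right k (Nat.Coprime.coprime_dvd_left (Subgroup.card_dvd_of_le hDH) hHp)
    have h2 := coprime_commutator_commutator (derivedPowers p H) P
      (by rw [Subgroup.normalizer_eq_top]; exact le_top) hcop
      (Or.inr (isSolvable_of_isPGroup' P hPp))
    rw [h1] at h2
    exact h2.symm

end Cfsg.Agent.Helper1
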