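import Mathlib
import Cfsg.Prelude.Def_SolvableStructure
import Cfsg.Agent.Helper1.Huppert1
import Cfsg.Agent.Helper1.Huppert2
import Cfsg.Agent.Helper1.Supersolvable6
import Cfsg.Agent.Helper1.Supersolvable7
import Cfsg.Agent.Helper4.SylowIndex
import Cfsg.Agent.Helper5.PGroupCenter
import Cfsg.Agent.Helper1.MinNormal

set_option autoImplicit false

/-!
Huppert: a finite group all of whose maximal subgroups have prime index is supersolvable.
-/

namespace Cfsg.Agent.Helper1

open scoped commutatorElement
open Cfsg.Agent.Helper3.IrrCyclic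

universe u

variable {G : Type u} [Group G]

theorem le_normalizer_centralizer [Finite G] {H K : Subgroup G}
    (h : H ≤ Subgroup.normalizer (K : Set G)) :
    H ≤ Subgroup.normalizer (Subgroup.centralizer (K : Set G) : Set G) := by
  intro a ha
  apply mem_normalizer_of_conj_le
  intro x hx
  rw [Subgroup.mem_centralizer_iff]
  intro k hk
  have h1 : a⁻¹ * k * a ∈ K := by
    have := (Subgroup.mem_normalizer_iff.1 (h (H.inv_mem ha)) k).1 hk
    simpa using this
  have h2 := Subgroup.mem_centralizer_iff.1 hx _ h1
  calc k * (a * x * a⁻¹) = a * ((a⁻¹ * k * a) * x) * a⁻¹ := by group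
    _ = a * (x * (a⁻¹ * k * a)) * a⁻¹ := by rw [h2]
    _ = (a * x * a⁻¹) * k := by group

set_option maxHeartbeats 1000000 in
/-- the Frattini case of Huppert's theorem -/
theorem huppert_frattini_case [Finite G] {p : ℕ} [hp : Fact p.Prime] (P : Sylow p G)
    [hPn : (P : Subgroup G).Normal] (N : Subgroup G) [hNn : N.Normal] (hNP : N ≤ P)
    (hN1 : N ≠ ⊥) (hNmin : ∀ M : Subgroup G, M.Normal → M ≤ N → M = ⊥ ∨ M = N)
    (hNcen : N ≤ Subgroup.centralizer ((P : Subgroup G) : Set G))
    (hNel : Cfsg.IsElementaryAbelian p N) (hNfr : N ≤ frattini G)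
    (hGN : Cfsg.IsSupersolvable (G ⧸ N)) : Nat.card N = p := by
  have hpp : p.Prime := hp.out
  obtain ⟨H, hH⟩ := Subgroup.exists_right_complement'_of_coprime (P.card_coprime_index)
  have hPH : (P : Subgroup G) ⊓ H = ⊥ := hH.disjoint.eq_bot
  have hPHtop : (P : Subgroup G) ⊔ H = ⊤ := hH.sup_eq_top
  have hcardG : Nat.card (P : Subgroup G) * Nat.card H = Nat.card G := hH.card_mul_card
  have hHp : (Nat.card H).Coprime p := by
    have h1 : Nat.card H = (P : Subgroup G).index := by
      have h2 := Subgroup.card_mul_index (P : Subgroup G)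
      rw [← hcardG] at h2
      exact (Nat.eq_of_mul_eq_mul_left Nat.card_pos h2).symm
    rw [h1]
    exact ((Nat.Prime.coprime_iff_not_dvd hpp).2 P.not_dvd_index).symm
  set K := derivedPowers p H with hK
  have hKH : K ≤ H := derivedPowers_le p H
  have hPp : IsPGroup p (P : Subgroup G) := P.isPGroup'
  -- (1) [P, K] ≤ N
  have hPK : ⁅(P : Subgroup G), K⁆ ≤ N := by
    have hsurj := QuotientGroup.mk'_surjective N
    have hHmap : (Nat.card (H.map (QuotientGroup.mk' N))).Coprime p :=
      Nat.Coprime.coprime_dvd_left (Subgroup.card_map_dvd _ _) hHp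
    have hQ := derivedPowers_centralizes (p := p) _ (G ⧸ N) rfl hGN
      ((P : Subgroup G).map (QuotientGroup.mk' N)) (H.map (QuotientGroup.mk' N))
      (hPn.map _ hsurj) (hPp.map _) hHmap
    rw [← derivedPowers_map, ← Subgroup.map_commutator, (Subgroup.map_eq_bot_iff _),
      QuotientGroup.ker_mk'] at hQ
    exact hQ
  have hHK : H ≤ Subgroup.normalizer (K : Set G) := derivedPowers_normalizer p H
  have hHcK : H ≤ Subgroup.normalizer (Subgroup.centralizer (K : Set G) : Set G) :=
    le_normalizer_centralizer hHK
  have hHN : H ≤ Subgroup.normalizer (N : Set G) := by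
    rw [Subgroup.normalizer_eq_top]; exact le_top
  have hHPn : H ≤ Subgroup.normalizer ((P : Subgroup G) : Set G) := by
    rw [Subgroup.normalizer_eq_top]; exact le_top
  -- C_N(K) is normal in G
  have hCNn : (N ⊓ Subgroup.centralizer (K : Set G)).Normal := by
    apply normal_of_sup_le_normalizer hPHtop
    · intro u hu
      apply mem_normalizer_of_conj_le
      intro x hx
      have hxu : u * x = x * u := Subgroup.mem_centralizer_iff.1 (hNcen hx.1) u hu
      have : u * x * u⁻¹ = x := by rw [hxu]; group
      rw [this]; exact hx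
    · exact le_normalizer_inf hHN hHcK
  rcases hNmin _ hCNn inf_le_left with hbot | htop
  · -- case (ii): contradiction
    exfalso
    set C := (P : Subgroup G) ⊓ Subgroup.centralizer (K : Set G) with hC
    have hKP : K ≤ Subgroup.normalizer ((P : Subgroup G) : Set G) := hKH.trans hHPn
    have hcop : (Nat.card K).Coprime (Nat.card (P : Subgroup G)) := by
      obtain ⟨k, hk⟩ := hPp.exists_card_eq
      rw [hk]
      exact Nat.Coprime.pow_right k (Nat.Coprime.coprime_dvd_left (Subgroup.card_dvd_of_le hKH) hHp)
    have hsup := coprime_commutator_sup_centralizer K (P : Subgroup G) hKP hcop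
      (Or.inr (isSolvable_of_isPGroup' _ hPp))
    have hNC : N ⊔ C = (P : Subgroup G) := by
      apply le_antisymm (sup_le hNP inf_le_left)
      calc (P : Subgroup G) = ⁅(P : Subgroup G), K⁆ ⊔ C := hsup.symm
        _ ≤ N ⊔ C := sup_le_sup_right hPK C
    have hCP : C ≤ (P : Subgroup G) := inf_le_left
    -- C is normal
    have hCn : C.Normal := by
      apply normal_of_sup_le_normalizer hPHtop
      · intro u hu
        apply mem_normalizer_of_conj_le
        intro x hx
        have hu' : u ∈ N ⊔ C := by rw [hNC]; exact hu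
        rw [Subgroup.mem_sup_of_normal_left] at hu'
        obtain ⟨n, hn, c, hc, rfl⟩ := hu'
        have hcx : c * x * c⁻¹ ∈ C := C.mul_mem (C.mul_mem hc hx) (C.inv_mem hc)
        have hncx : n * (c * x * c⁻¹) = (c * x * c⁻¹) * n :=
          (Subgroup.mem_centralizer_iff.1 (hNcen hn) _ (hCP hcx)).symm
        have : n * c * x * (n * c)⁻¹ = c * x * c⁻¹ := by
          calc n * c * x * (n * c)⁻¹ = (n * (c * x * c⁻¹)) * n⁻¹ := by group
            _ = ((c * x * c⁻¹) * n) * n⁻¹ := by rw [hncx]
            _ = c * x * c⁻¹ := by group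
        rw [this]; exact hcx
      · exact le_normalizer_inf hHPn hHcK
    haveI := hCn
    have hCHtop : C ⊔ H = ⊤ := by
      apply frattini_nongenerating
      rw [eq_top_iff, ← hPHtop, ← hNC]
      apply sup_le
      · apply sup_le
        · exact hNfr.trans le_sup_right
        · exact le_sup_left.trans le_sup_left
      · exact le_sup_right.trans le_sup_left
    have hHC : H ⊓ C = ⊥ := by
      rw [eq_bot_iff, ← hPH]
      exact le_inf (inf_le_right.trans hCP) inf_le_left
    have hcard := card_sup_of_disjoint_normal H C hHC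
    rw [sup_comm, hCHtop, Subgroup.card_top, ← hcardG, mul_comm] at hcard
    have hCcard : Nat.card C = Nat.card (P : Subgroup G) :=
      (Nat.eq_of_mul_eq_mul_left Nat.card_pos hcard).symm
    have hCeq : C = (P : Subgroup G) := Subgroup.eq_of_le_of_card_ge hCP hCcard.ge
    apply hN1
    rw [eq_bot_iff, ← hbot]
    exact le_inf le_rfl ((hNP.trans hCeq.ge).trans inf_le_right)
  · -- case (i): K centralizes N
    have hKN : K ≤ Subgroup.centralizer (N : Set G) := by
      rw [Subgroup.le_centralizer_iff]
      rw [← htop]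
      exact inf_le_right
    have hPN : (P : Subgroup G) ≤ Subgroup.centralizer (N : Set G) :=
      Subgroup.le_centralizer_iff.1 hNcen
    haveI hCnorm : (Subgroup.centralizer (N : Set G)).Normal := inferInstance
    have hdecomp : ∀ g : G, ∃ h ∈ H,
        (QuotientGroup.mk' (Subgroup.centralizer (N : Set G))) g =
          (QuotientGroup.mk' (Subgroup.centralizer (N : Set G))) h := by
      intro g
      have hg : g ∈ (P : Subgroup G) ⊔ H := by rw [hPHtop]; exact Subgroup.mem_top g
      rw [Subgroup.mem_sup_of_normal_left] at hg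
      obtain ⟨u, hu, h, hh, rfl⟩ := hg
      refine ⟨h, hh, ?_⟩
      rw [map_mul]
      have : (QuotientGroup.mk' (Subgroup.centralizer (N : Set G))) u = 1 := by
        rw [QuotientGroup.mk'_apply, QuotientGroup.eq_one_iff]; exact hPN hu
      rw [this, one_mul]
    have hcomm : ∀ g g' : G, ⁅g, g'⁆ ∈ Subgroup.centralizer (N : Set G) := by
      intro g g'
      obtain ⟨h, hh, hg⟩ := hdecomp g
      obtain ⟨h', hh', hg'⟩ := hdecomp g'
      have h1 : (QuotientGroup.mk' (Subgroup.centralizer (N : Set G))) ⁅g, g'⁆ =
          (QuotientGroup.mk' (Subgroup.centralizer (N : Set G))) ⁅h, h'⁆ := by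
        rw [map_commutatorElement, map_commutatorElement, hg, hg']
      have h2 : (QuotientGroup.mk' (Subgroup.centralizer (N : Set G))) ⁅h, h'⁆ = 1 := by
        rw [QuotientGroup.mk'_apply, QuotientGroup.eq_one_iff]
        exact hKN (commutator_mem_derivedPowers p hh hh')
      rw [h2, QuotientGroup.mk'_apply, QuotientGroup.eq_one_iff] at h1
      exact h1
    have hpow : ∀ g : G, g ^ (p - 1) ∈ Subgroup.centralizer (N : Set G) := by
      intro g
      obtain ⟨h, hh, hg⟩ := hdecomp g
      have h1 : (QuotientGroup.mk' (Subgroup.centralizer (N : Set G))) (g ^ (p - 1)) =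
          (QuotientGroup.mk' (Subgroup.centralizer (N : Set G))) (h ^ (p - 1)) := by
        rw [map_pow, map_pow, hg]
      have h2 : (QuotientGroup.mk' (Subgroup.centralizer (N : Set G))) (h ^ (p - 1)) = 1 := by
        rw [QuotientGroup.mk'_apply, QuotientGroup.eq_one_iff]
        exact hKN (pow_mem_derivedPowers p hh)
      rw [h2, QuotientGroup.mk'_apply, QuotientGroup.eq_one_iff] at h1
      exact h1
    exact card_eq_prime_of_minimal_normal N hNel hN1 hNmin hcomm hpow

end Cfsg.Agent.Helper1
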