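import Mathlib
import Cfsg.Prelude.Def_SolvableStructure
import Cfsg.Agent.Helper1.Basic
import Cfsg.Agent.Helper1.Coprime
import Cfsg.Agent.Helper1.Card
import Cfsg.Agent.Helper1.Hall
import Cfsg.Agent.Helper1.HallExtra
import Cfsg.Agent.Helper1.HallNilp
import Cfsg.Agent.Helper1.Carter2
import Cfsg.Agent.Helper4.MaxSolvable
import Cfsg.Agent.Helper5.PGroupCenter
import Cfsg.Agent.S0043
import Cfsg.Agent.Helper1.Supersolvable3
import Cfsg.Agent.Helper1.Huppert3
import Cfsg.Agent.Helper3.IrrCyclic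

set_option autoImplicit false

/-!
Conjugacy of Carter subgroups in finite solvable groups.
-/

namespace Cfsg.Agent.Helper1

open scoped Pointwise

universe u

variable {G : Type u} [Group G]

theorem isCarter_subgroupOf {C L : Subgroup G} (hC : Cfsg.IsCarterSubgroup C) (hCL : C ≤ L) :
    Cfsg.IsCarterSubgroup (C.subgroupOf L) := by
  obtain ⟨hnil, hnorm⟩ := hC
  refine ⟨?_, ?_⟩
  · haveI := hnil
    exact Group.nilpotent_of_mulEquiv (Subgroup.subgroupOfEquivOfLe hCL).symm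
  · rw [← Subgroup.subgroupOf_normalizer_eq hCL, hnorm]

theorem normalizer_conj_smul (g : G) (H : Subgroup G) :
    Subgroup.normalizer ((MulAut.conj g • H : Subgroup G) : Set G) =
      MulAut.conj g • Subgroup.normalizer (H : Set G) := by
  rw [conj_smul_eq_map, conj_smul_eq_map]
  exact (Subgroup.map_equiv_normalizer_eq H (MulAut.conj g)).symm

theorem isCarter_conj {C : Subgroup G} (hC : Cfsg.IsCarterSubgroup C) (g : G) :
    Cfsg.IsCarterSubgroup (MulAut.conj g • C) := by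
  obtain ⟨hnil, hnorm⟩ := hC
  refine ⟨?_, ?_⟩
  · haveI := hnil
    exact Group.nilpotent_of_mulEquiv (Subgroup.equivSMul (MulAut.conj g) C)
  · rw [normalizer_conj_smul, hnorm]

/-- a self-normalizing subgroup of a nilpotent group is the whole group -/
theorem eq_top_of_normalizer_eq_of_nilpotent [Group.IsNilpotent G] {C : Subgroup G}
    (hC : Subgroup.normalizer (C : Set G) = C) : C = ⊤ := by
  by_contra hne
  have hnc : NormalizerCondition G := Group.normalizerCondition_of_isNilpotent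
  have := hnc C (lt_top_iff_ne_top.2 hne)
  rw [hC] at this
  exact lt_irrefl _ this

theorem isCarter_eq_top_of_nilpotent [Group.IsNilpotent G] {C : Subgroup G}
    (hC : Cfsg.IsCarterSubgroup C) : C = ⊤ :=
  eq_top_of_normalizer_eq_of_nilpotent hC.2

/-- a `p`-complement inside a solvable subgroup -/
theorem exists_pcompl_sub [Finite G] (p : ℕ) (hp : p.Prime) (C : Subgroup G)
    (hC : Group.IsSolvable C) :
    ∃ Q : Subgroup G, Q ≤ C ∧ Q.relIndex C = ppart (Nat.card C) p := by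
  obtain ⟨K, hK⟩ := exists_pcomplement C p hp
  refine ⟨K.map C.subtype, Subgroup.map_subtype_le _, ?_⟩
  rw [Subgroup.relIndex, Subgroup.subgroupOf,
    Subgroup.comap_map_eq_self_of_injective (Subgroup.subtype_injective C), hK]

theorem conj_smul_top (g : G) : MulAut.conj g • (⊤ : Subgroup G) = ⊤ := by
  rw [eq_top_iff]
  intro x _
  rw [mem_conj_smul]
  exact Subgroup.mem_top _

/-- the base case: both Carter subgroups supplement the minimal normal subgroup `N` -/
theorem carter_conj_base [Finite G] [Group.IsSolvable G] (N : Subgroup G) [hNn : N.Normal]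
    (hN : N ≠ ⊥) (hmin : ∀ M : Subgroup G, M.Normal → M ≤ N → M = ⊥ ∨ M = N)
    (C₁ C₂ : Subgroup G) (hC₁ : Cfsg.IsCarterSubgroup C₁) (hC₂ : Cfsg.IsCarterSubgroup C₂)
    (h₁ : C₁ ⊔ N = ⊤) (h₂ : C₂ ⊔ N = ⊤) : ∃ g : G, MulAut.conj g • C₁ = C₂ := by
  obtain ⟨hab, p, hp, hexp⟩ := Cfsg.Agent.S0043.result N hN hmin
  haveI : Fact p.Prime := ⟨hp⟩
  have hNp : IsPGroup p N := by
    intro x
    refine ⟨1, ?_⟩
    rw [pow_one]
    apply Subtype.ext
    simpa using hexp x.1 x.2
  have hNcomm : ∀ a ∈ N, ∀ b ∈ N, a * b = b * a := fun a ha b hb => by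
    have := hab.is_comm.comm (⟨a, ha⟩ : N) ⟨b, hb⟩
    exact congrArg Subtype.val this
  have hnormN : ∀ C : Subgroup G, C ≤ Subgroup.normalizer (N : Set G) := by
    intro C; rw [Subgroup.normalizer_eq_top]; exact le_top
  -- a subgroup of `N` normalized by a supplement of `N` is normal
  have hnormal_of : ∀ (C X : Subgroup G), C ⊔ N = ⊤ → X ≤ N →
      C ≤ Subgroup.normalizer (X : Set G) → X.Normal := by
    intro C X hCN hXN hCX
    rw [← Subgroup.normalizer_eq_top_iff, eq_top_iff, ← hCN]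
    apply sup_le hCX
    intro n hn
    apply Cfsg.Agent.Helper3.IrrCyclic.mem_normalizer_of_conj_le
    intro x hx
    have h1 : n * x * n⁻¹ = x := by
      rw [hNcomm n hn x (hXN hx)]; group
    rw [h1]; exact hx
  have hinf : ∀ C : Subgroup G, C ⊔ N = ⊤ → C ⊓ N = ⊥ ∨ N ≤ C := by
    intro C hCN
    have hn : (C ⊓ N).Normal :=
      hnormal_of C (C ⊓ N) hCN inf_le_right (le_normalizer_inf Subgroup.le_normalizer (hnormN C))
    rcases hmin _ hn inf_le_right with h | h
    · exact Or.inl h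
    · right; rw [← h]; exact inf_le_left
  -- the nilpotent case
  have hnilp : ∀ C C' : Subgroup G, Cfsg.IsCarterSubgroup C → Cfsg.IsCarterSubgroup C' →
      C ⊔ N = ⊤ → N ≤ C → C = ⊤ ∧ C' = ⊤ := by
    intro C C' hC hC' hCN hNC
    have hCtop : C = ⊤ := by rw [← hCN]; exact (sup_eq_left.2 hNC).symm
    haveI : Group.IsNilpotent G := by
      haveI := hC.1
      rw [hCtop] at this
      exact Group.nilpotent_of_mulEquiv Subgroup.topEquiv
    exact ⟨hCtop, isCarter_eq_top_of_nilpotent hC'⟩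
  rcases hinf C₁ h₁ with hi₁ | hNC₁
  swap
  · obtain ⟨e1, e2⟩ := hnilp C₁ C₂ hC₁ hC₂ h₁ hNC₁
    exact ⟨1, by rw [map_one, one_smul, e1, e2]⟩
  rcases hinf C₂ h₂ with hi₂ | hNC₂
  swap
  · obtain ⟨e2, e1⟩ := hnilp C₂ C₁ hC₂ hC₁ h₂ hNC₂
    exact ⟨1, by rw [map_one, one_smul, e1, e2]⟩
  -- no fixed points
  have hfix : ∀ C : Subgroup G, Cfsg.IsCarterSubgroup C → C ⊔ N = ⊤ → C ⊓ N = ⊥ →
      N ⊓ Subgroup.centralizer (C : Set G) = ⊥ := by
    intro C hC hCN hi
    have hn : (N ⊓ Subgroup.centralizer (C : Set G)).Normal :=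
      hnormal_of C _ hCN inf_le_left
        (le_normalizer_inf (hnormN C) (le_normalizer_centralizer Subgroup.le_normalizer))
    rcases hmin _ hn inf_le_left with h | h
    · exact h
    · exfalso
      apply hN
      have h1 : N ≤ Subgroup.centralizer (C : Set G) := by rw [← h]; exact inf_le_right
      have h2 : N ≤ C := by
        have := h1.trans (Subgroup.centralizer_le_normalizer (C : Set G))
        rwa [hC.2] at this
      rw [← le_bot_iff, ← hi]
      exact le_inf h2 le_rfl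
  -- Hall `p'`-subgroups
  obtain ⟨Q₁, hQ₁C, hQ₁i⟩ := exists_pcompl_sub p hp C₁ (by haveI := hC₁.1; infer_instance)
  obtain ⟨Q₂, hQ₂C, hQ₂i⟩ := exists_pcompl_sub p hp C₂ (by haveI := hC₂.1; infer_instance)
  have hcard₁ : Nat.card G = Nat.card C₁ * Nat.card N := by
    rw [← card_sup_of_disjoint_normal C₁ N hi₁, h₁, Subgroup.card_top]
  have hcard₂ : Nat.card G = Nat.card C₂ * Nat.card N := by
    rw [← card_sup_of_disjoint_normal C₂ N hi₂, h₂, Subgroup.card_top]
  have hCC : Nat.card C₁ = Nat.card C₂ :=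
    Nat.eq_of_mul_eq_mul_right (Nat.card_pos (α := N)) (hcard₁.symm.trans hcard₂)
  have hq₁ := relIndex_mul_card_of_le hQ₁C
  have hq₂ := relIndex_mul_card_of_le hQ₂C
  rw [hQ₁i] at hq₁
  rw [hQ₂i, ← hCC] at hq₂
  have hQQ : Nat.card Q₂ = Nat.card Q₁ := by
    have hpos : 0 < ppart (Nat.card C₁) p := ppart_pos hp
    exact Nat.eq_of_mul_eq_mul_left hpos (hq₂.trans hq₁.symm)
  have hQ₁cop : (Nat.card Q₁).Coprime p := by
    have h1 : Nat.card Q₁ = Nat.card C₁ / ppart (Nat.card C₁) p :=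
      (Nat.div_eq_of_eq_mul_right (ppart_pos hp) hq₁.symm).symm
    rw [h1]
    exact (Nat.coprime_ordCompl hp Nat.card_pos.ne').symm
  obtain ⟨k, hk⟩ := IsPGroup.iff_card.1 hNp
  have hmn : Nat.card G = Nat.card Q₁ * (ppart (Nat.card C₁) p * Nat.card N) := by
    calc Nat.card G = Nat.card C₁ * Nat.card N := hcard₁
      _ = (ppart (Nat.card C₁) p * Nat.card Q₁) * Nat.card N := by rw [hq₁]
      _ = Nat.card Q₁ * (ppart (Nat.card C₁) p * Nat.card N) := by ring
  have hcop : (Nat.card Q₁).Coprime (ppart (Nat.card C₁) p * Nat.card N) := by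
    rw [hk, ppart, ← pow_add]
    exact Nat.Coprime.pow_right _ hQ₁cop
  obtain ⟨hconj, -⟩ := hallProp_of_solvable _ G rfl _ _ hmn hcop
  obtain ⟨g, hg⟩ := hconj Q₁ Q₂ rfl hQQ
  -- replace `C₁` by its conjugate
  set C₁' := MulAut.conj g • C₁ with hC₁'
  have hC₁'c : Cfsg.IsCarterSubgroup C₁' := isCarter_conj hC₁ g
  have h₁' : C₁' ⊔ N = ⊤ := by
    have h3 : MulAut.conj g • (C₁ ⊔ N) = ⊤ := by rw [h₁, conj_smul_top]
    rw [Subgroup.smul_sup, conj_smul_normal N g] at h3
    exact h3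
  have hQ₂C' : Q₂ ≤ C₁' := by rw [← hg]; exact conj_smul_mono hQ₁C g
  have hQ₁n : C₁ ≤ Subgroup.normalizer (Q₁ : Set G) := by
    apply le_normalizer_of_hall_nilpotent hC₁.1 hQ₁C
    rw [hQ₁i, ppart]
    exact Nat.Coprime.pow_right _ hQ₁cop
  have hQ₂n : C₂ ≤ Subgroup.normalizer (Q₂ : Set G) := by
    apply le_normalizer_of_hall_nilpotent hC₂.1 hQ₂C
    rw [hQ₂i, ppart, hQQ]
    exact Nat.Coprime.pow_right _ hQ₁cop
  have hQ₂n' : C₁' ≤ Subgroup.normalizer (Q₂ : Set G) := by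
    rw [← hg, normalizer_conj_smul]
    exact conj_smul_mono hQ₁n g
  -- `N ∩ N_G(Q₂) ≤ C_G(Q₂)`
  have hNQ : N ⊓ Q₂ = ⊥ := by
    rw [← le_bot_iff, ← hi₂, inf_comm]
    exact inf_le_inf_right N hQ₂C
  have hN2 : N ⊓ Subgroup.normalizer (Q₂ : Set G) ≤ Subgroup.centralizer (Q₂ : Set G) :=
    inf_normalizer_le_centralizer (hnormN Q₂) hNQ
  have hCNn : (N ⊓ Subgroup.centralizer (Q₂ : Set G)).Normal :=
    hnormal_of C₂ _ h₂ inf_le_left
      (le_normalizer_inf (hnormN C₂) (le_normalizer_centralizer hQ₂n))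
  rcases hmin _ hCNn inf_le_left with hCN | hCN
  · -- `N ∩ N_G(Q₂) = 1`
    have hNN : N ⊓ Subgroup.normalizer (Q₂ : Set G) = ⊥ := by
      rw [← le_bot_iff, ← hCN]
      exact le_inf inf_le_left hN2
    have key : ∀ X Y : Subgroup G, X ≤ Subgroup.normalizer (Q₂ : Set G) →
        Y ≤ Subgroup.normalizer (Q₂ : Set G) → Y ⊔ N = ⊤ → X ≤ Y := by
      intro X Y hX hY hYN x hx
      have hx' : x ∈ N ⊔ Y := by rw [sup_comm, hYN]; exact Subgroup.mem_top x
      obtain ⟨n, hn, y, hy, hxy⟩ := mem_sup_of_le_normalizer (hnormN Y) hx'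
      have h3 : n ∈ N ⊓ Subgroup.normalizer (Q₂ : Set G) := by
        refine ⟨hn, ?_⟩
        have h4 : n = x * y⁻¹ := by rw [hxy]; group
        rw [h4]
        exact Subgroup.mul_mem _ (hX hx) (Subgroup.inv_mem _ (hY hy))
      rw [hNN, Subgroup.mem_bot] at h3
      rw [hxy, h3, one_mul]
      exact hy
    exact ⟨g, le_antisymm (key _ _ hQ₂n' hQ₂n h₂) (key _ _ hQ₂n hQ₂n' h₁')⟩
  · -- `Q₂` centralizes `N`: contradiction
    exfalso
    have hNcQ : N ≤ Subgroup.centralizer (Q₂ : Set G) := by rw [← hCN]; exact inf_le_right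
    obtain ⟨P₂, hP₂C, hP₂p, hP₂i⟩ := exists_sylow_sub p C₂
    have hT : IsPGroup p (P₂ ⊔ N : Subgroup G) := IsPGroup.to_sup_of_normal_right hP₂p hNp
    obtain ⟨x, hxN, hxo, hxc⟩ :=
      Cfsg.Agent.Helper5.exists_orderOf_eq_prime_central (P₂ ⊔ N) N hT le_sup_right hN
        (hnormN _)
    have hx1 : x ≠ 1 := by
      intro h
      rw [h, orderOf_one] at hxo
      exact hp.one_lt.ne hxo
    have hxC : x ∈ N ⊓ Subgroup.centralizer (C₂ : Set G) := by
      refine ⟨hxN, Subgroup.mem_centralizer_iff.2 ?_⟩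
      intro c hc
      have hcop' : (P₂.relIndex C₂).Coprime (Q₂.relIndex C₂) := by
        rw [hQ₂i, ppart]
        exact Nat.Coprime.pow_right _ hP₂i
      obtain ⟨a, ha, b, hb, hcab⟩ := exists_mul_of_coprime_relIndex hcop' c hc
      have h3 : a * x = x * a := hxc a (Subgroup.mem_sup_left ha)
      have h4 : b * x = x * b := Subgroup.mem_centralizer_iff.1 (hNcQ hxN) b hb
      rw [hcab, mul_assoc, h4, ← mul_assoc, h3, mul_assoc]
    rw [hfix C₂ hC₂ h₂ hi₂, Subgroup.mem_bot] at hxC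
    exact hx1 hxC

theorem card_lt_of_ne_top' [Finite G] (H : Subgroup G) (hH : H ≠ ⊤) :
    Nat.card H < Nat.card G := by
  have := card_lt_card_of_lt (lt_top_iff_ne_top.2 hH)
  rwa [Subgroup.card_top] at this

theorem carter_conj_aux : ∀ (n : ℕ) (G : Type u) [Group G] [Finite G] [Group.IsSolvable G],
    Nat.card G = n → ∀ C₁ C₂ : Subgroup G, Cfsg.IsCarterSubgroup C₁ → Cfsg.IsCarterSubgroup C₂ →
      ∃ g : G, MulAut.conj g • C₁ = C₂ := by
  intro n
  induction n using Nat.strong_induction_on with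
  | _ n ih =>
  intro G _ _ _ hn C₁ C₂ hC₁ hC₂
  rcases subsingleton_or_nontrivial G with hs | hnt
  · refine ⟨1, ?_⟩
    rw [map_one, one_smul, Subgroup.eq_bot_of_subsingleton C₁, Subgroup.eq_bot_of_subsingleton C₂]
  obtain ⟨N, hNn, hN1, hmin⟩ := Cfsg.Agent.Helper4.exists_minimal_normal (G := G)
  haveI := hNn
  -- the induction hypothesis inside a proper subgroup
  have ihL : ∀ (L : Subgroup G), L ≠ ⊤ → ∀ C C' : Subgroup G, Cfsg.IsCarterSubgroup C →
      Cfsg.IsCarterSubgroup C' → C ≤ L → C' ≤ L → ∃ l ∈ L, MulAut.conj l • C = C' := by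
    intro L hL C C' hC hC' hCL hC'L
    have hlt : Nat.card L < n := hn ▸ card_lt_of_ne_top' L hL
    obtain ⟨l, hl⟩ := ih _ hlt L rfl (C.subgroupOf L) (C'.subgroupOf L)
      (isCarter_subgroupOf hC hCL) (isCarter_subgroupOf hC' hC'L)
    exact ⟨l, l.2, conj_smul_eq_of_subgroupOf hCL hC'L l hl⟩
  have hmapsup : ∀ C : Subgroup G, (C ⊔ N).map (QuotientGroup.mk' N) =
      C.map (QuotientGroup.mk' N) := by
    intro C
    rw [Subgroup.map_sup, QuotientGroup.map_mk'_self, sup_bot_eq]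
  -- images of Carter subgroups are Carter subgroups
  have himg : ∀ C : Subgroup G, Cfsg.IsCarterSubgroup C →
      Cfsg.IsCarterSubgroup (C.map (QuotientGroup.mk' N)) := by
    intro C hC
    refine ⟨?_, le_antisymm ?_ Subgroup.le_normalizer⟩
    · haveI := hC.1
      exact Group.nilpotent_of_surjective _
        (MonoidHom.subgroupMap_surjective (QuotientGroup.mk' N) C)
    · intro gb hgb
      obtain ⟨g, rfl⟩ := QuotientGroup.mk'_surjective N gb
      have h1 := conj_smul_eq_of_mem_normalizer hgb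
      rw [← map_conj_smul] at h1
      have h2 := congrArg (Subgroup.comap (QuotientGroup.mk' N)) h1
      rw [Subgroup.comap_map_eq, Subgroup.comap_map_eq, QuotientGroup.ker_mk'] at h2
      rw [← hmapsup C]
      apply Subgroup.mem_map_of_mem
      by_cases hL : C ⊔ N = ⊤
      · rw [hL]; exact Subgroup.mem_top g
      · have hgC : MulAut.conj g • C ≤ C ⊔ N := by rw [← h2]; exact le_sup_left
        obtain ⟨l, hlL, hl⟩ := ihL (C ⊔ N) hL C (MulAut.conj g • C) hC (isCarter_conj hC g)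
          le_sup_left hgC
        have h3 : MulAut.conj (l⁻¹ * g) • C = C := by
          rw [map_mul, mul_smul, ← hl, ← mul_smul, ← map_mul, inv_mul_cancel, map_one, one_smul]
        have h4 : l⁻¹ * g ∈ C := by
          have := mem_normalizer_of_conj_smul_eq h3
          rwa [hC.2] at this
        have h5 : g = l * (l⁻¹ * g) := by group
        rw [h5]
        exact Subgroup.mul_mem _ hlL (Subgroup.mem_sup_left h4)
  -- conjugate in the quotient
  have hlt : Nat.card (G ⧸ N) < n := hn ▸ card_quotient_lt N hN1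
  obtain ⟨gb, hgb⟩ := ih _ hlt (G ⧸ N) rfl _ _ (himg C₁ hC₁) (himg C₂ hC₂)
  obtain ⟨g, hg⟩ := exists_conj_sup_eq_of_map_mk' gb hgb
  have hC₁' : Cfsg.IsCarterSubgroup (MulAut.conj g • C₁) := isCarter_conj hC₁ g
  by_cases hL : C₂ ⊔ N = ⊤
  · obtain ⟨x, hx⟩ := carter_conj_base N hN1 hmin _ C₂ hC₁' hC₂ (hg.trans hL) hL
    refine ⟨x * g, ?_⟩
    rw [map_mul, mul_smul, hx]
  · have h1 : MulAut.conj g • C₁ ≤ C₂ ⊔ N := by rw [← hg]; exact le_sup_left
    obtain ⟨l, -, hl⟩ := ihL (C₂ ⊔ N) hL _ C₂ hC₁' hC₂ h1 le_sup_left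
    refine ⟨l * g, ?_⟩
    rw [map_mul, mul_smul, hl]

/-- **Carter**: in a finite solvable group any two Carter subgroups are conjugate. -/
theorem carter_conj [Finite G] [Group.IsSolvable G] (C₁ C₂ : Subgroup G)
    (hC₁ : Cfsg.IsCarterSubgroup C₁) (hC₂ : Cfsg.IsCarterSubgroup C₂) :
    ∃ g : G, MulAut.conj g • C₁ = C₂ :=
  carter_conj_aux _ G rfl C₁ C₂ hC₁ hC₂

end Cfsg.Agent.Helper1
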