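import Mathlib
import Cfsg.Prelude.Def_SolvableStructure
import Cfsg.Agent.Helper1.Basic
import Cfsg.Agent.Helper1.Coprime
import Cfsg.Agent.Helper1.ComplSystem
import Cfsg.Agent.Helper1.Carter2
import Cfsg.Agent.Helper1.Carter3

set_option autoImplicit false

/-!
Carter subgroups and system normalizers in groups of nilpotent length at most two.
-/

namespace Cfsg.Agent.Helper1

open scoped Pointwise

universe u

variable {G : Type u} [Group G]

theorem exists_complementSystem (G : Type u) [Group G] [Finite G] [Group.IsSolvable G] :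
    ∃ K : Nat.Primes → Subgroup G, Cfsg.IsComplementSystem K := by
  choose K hK using fun p : Nat.Primes => exists_pcomplement G (p : ℕ) p.2
  exact ⟨K, fun p => hK p⟩

theorem isComplementSystem_conj {K : Nat.Primes → Subgroup G} (hK : Cfsg.IsComplementSystem K)
    (g : G) : Cfsg.IsComplementSystem (fun p => MulAut.conj g • K p) := by
  intro p
  show (MulAut.conj g • K p).index = _
  rw [index_conj_smul]; exact hK p

theorem systemNormalizer_conj (K : Nat.Primes → Subgroup G) (g : G) :
    Cfsg.systemNormalizer (fun p => MulAut.conj g • K p) =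
      MulAut.conj g • Cfsg.systemNormalizer K := by
  ext x
  rw [mem_conj_smul]
  unfold Cfsg.systemNormalizer
  rw [Subgroup.mem_iInf, Subgroup.mem_iInf]
  apply forall_congr'
  intro p
  rw [normalizer_conj_smul, mem_conj_smul]

/-- **S0570**. -/
theorem carter_iff_systemNormalizer [Finite G] (F : Subgroup G) [F.Normal]
    (hF : Group.IsNilpotent F) (hGF : Group.IsNilpotent (G ⧸ F)) (C : Subgroup G) :
    Cfsg.IsCarterSubgroup C ↔
      ∃ K : Nat.Primes → Subgroup G, Cfsg.IsComplementSystem K ∧ C = Cfsg.systemNormalizer K := by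
  haveI : Group.IsSolvable G := isSolvable_of_nilpotent_by_nilpotent F hF hGF
  constructor
  · intro hC
    obtain ⟨K₀, hK₀⟩ := exists_complementSystem G
    have hD := systemNormalizer_isCarter F hF hGF K₀ hK₀
    obtain ⟨g, hg⟩ := carter_conj _ C hD hC
    refine ⟨fun p => MulAut.conj g • K₀ p, isComplementSystem_conj hK₀ g, ?_⟩
    rw [systemNormalizer_conj, hg]
  · rintro ⟨K, hK, rfl⟩
    exact systemNormalizer_isCarter F hF hGF K hK

end Cfsg.Agent.Helper1
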