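import Mathlib
import Cfsg.Prelude.Def_SolvableStructure
import Cfsg.Agent.Helper1.SysNorm
import Cfsg.Agent.Helper1.SysNorm2
import Cfsg.Agent.Helper1.Coprime
import Cfsg.Agent.Helper1.Card
import Cfsg.Agent.Helper4.MaxSolvable
import Cfsg.Agent.S0043

set_option autoImplicit false

/-!
P. Hall: the system normalizer covers the central chief factors and avoids the eccentric ones.
-/

namespace Cfsg.Agent.Helper1

open scoped commutatorElement

universe u

variable {G : Type u} [Group G]

/-- a normal subgroup of order prime to `q` lies in every Hall `q`-complement -/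
theorem normal_le_complement [Finite G] {K : Nat.Primes → Subgroup G}
    (hK : Cfsg.IsComplementSystem K) (q : Nat.Primes) (X : Subgroup G) [X.Normal]
    (hX : (Nat.card X).Coprime q) : X ≤ K q := by
  have h1 : (K q).relIndex X ∣ (K q).index :=
    relIndex_dvd_index_of_normalizes (by rw [Subgroup.normalizer_eq_top]; exact le_top)
  rw [hK q] at h1
  have h2 : (K q).relIndex X ∣ Nat.card X := Subgroup.relIndex_dvd_card _ _
  have h3 := Nat.eq_one_of_dvd_coprimes (Nat.Coprime.pow_left _ hX.symm) h1 h2
  exact Subgroup.relIndex_eq_one.1 h3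

/-- the center lies in every system normalizer -/
theorem center_le_systemNormalizer (K : Nat.Primes → Subgroup G) :
    Subgroup.center G ≤ Cfsg.systemNormalizer K := by
  intro z hz
  apply Subgroup.mem_iInf.2
  intro p
  rw [Subgroup.mem_normalizer_iff]
  intro x
  have : z * x * z⁻¹ = x := by
    rw [Subgroup.mem_center_iff] at hz
    rw [← hz x, mul_inv_cancel_right]
  rw [this]

/-- a system normalizer avoids a non-central minimal normal subgroup -/
theorem minNormal_inf_systemNormalizer [Finite G] [Group.IsSolvable G]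
    (K : Nat.Primes → Subgroup G) (hK : Cfsg.IsComplementSystem K)
    (N : Subgroup G) [N.Normal] (hN : N ≠ ⊥)
    (hmin : ∀ M : Subgroup G, M.Normal → M ≤ N → M = ⊥ ∨ M = N)
    (hnc : ¬ N ≤ Subgroup.center G) :
    N ⊓ Cfsg.systemNormalizer K = ⊥ := by
  obtain ⟨hab, p, hp, hexp⟩ := Cfsg.Agent.S0043.result N hN hmin
  haveI : Fact p.Prime := ⟨hp⟩
  have hNp : IsPGroup p N := by
    intro x
    refine ⟨1, ?_⟩
    rw [pow_one]
    apply Subtype.ext
    simpa using hexp x.1 x.2
  set Cn := Subgroup.centralizer (N : Set G) with hCn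
  haveI hCnn : Cn.Normal := Subgroup.normal_centralizer
  have hCtop : Cn ≠ ⊤ := by
    intro h
    apply hnc
    intro x hx
    rw [Subgroup.mem_center_iff]
    intro g
    have hg : g ∈ Cn := h ▸ Subgroup.mem_top g
    exact (Subgroup.mem_centralizer_iff.1 hg x hx).symm
  haveI : Nontrivial (G ⧸ Cn) := QuotientGroup.nontrivial_iff.2 hCtop
  obtain ⟨Mb, hMbn, hMb1, hMbmin⟩ := Cfsg.Agent.Helper4.exists_minimal_normal (G := G ⧸ Cn)
  haveI := hMbn
  obtain ⟨hMab, r, hr, hMexp⟩ := Cfsg.Agent.S0043.result Mb hMb1 hMbmin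
  haveI : Fact r.Prime := ⟨hr⟩
  have hMr : IsPGroup r Mb := by
    intro x
    refine ⟨1, ?_⟩
    rw [pow_one]
    apply Subtype.ext
    simpa using hMexp x.1 x.2
  have hsurj : Function.Surjective (QuotientGroup.mk' Cn) := QuotientGroup.mk'_surjective Cn
  set R := Mb.comap (QuotientGroup.mk' Cn) with hR
  haveI hRn : R.Normal := hMbn.comap _
  have hRC : ¬ R ≤ Cn := by
    intro h
    apply hMb1
    rw [← Subgroup.map_comap_eq_self_of_surjective hsurj Mb, ← hR, Subgroup.map_eq_bot_iff,
      QuotientGroup.ker_mk']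
    exact h
  have hdich : N ⊓ Subgroup.centralizer (R : Set G) = ⊥ := by
    haveI : (Subgroup.centralizer (R : Set G)).Normal := Subgroup.normal_centralizer
    rcases hmin (N ⊓ Subgroup.centralizer (R : Set G)) inferInstance inf_le_left with h | h
    · exact h
    · exfalso
      apply hRC
      have h1 : N ≤ Subgroup.centralizer (R : Set G) := by
        rw [← h]; exact inf_le_right
      intro g hg
      rw [hCn, Subgroup.mem_centralizer_iff]
      intro x hx
      exact (Subgroup.mem_centralizer_iff.1 (h1 hx) g hg).symm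
  -- `r ≠ p` by a fixed point argument
  have hrp : r ≠ p := by
    intro hrp
    rw [hrp] at hMr
    let ψ : G ⧸ Cn →* MulAut N := QuotientGroup.lift Cn (MulAut.conjNormal (H := N)) (by
      intro g hg
      rw [MonoidHom.mem_ker]
      ext x
      rw [MulAut.conjNormal_apply, MulAut.one_apply]
      have := Subgroup.mem_centralizer_iff.1 hg x.1 x.2
      rw [← this, mul_inv_cancel_right])
    have hψ : ∀ (g : G) (x : N), ((ψ (QuotientGroup.mk' Cn g)) x : G) = g * x * g⁻¹ := by
      intro g x
      show ((QuotientGroup.lift Cn (MulAut.conjNormal (H := N)) _ (QuotientGroup.mk g)) x : G) = _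
      rw [QuotientGroup.lift_mk, MulAut.conjNormal_apply]
    have hS : IsPGroup p (Mb.map ψ) := hMr.map ψ
    have hpN : p ∣ Nat.card N := by
      obtain ⟨k, hk⟩ := IsPGroup.iff_card.1 hNp
      have hk0 : k ≠ 0 := by
        rintro rfl
        rw [pow_zero] at hk
        exact hN (Subgroup.card_eq_one.1 hk)
      rw [hk]
      exact dvd_pow_self p hk0
    have h1fix : (1 : N) ∈ MulAction.fixedPoints (Mb.map ψ) N := by
      intro s
      show (s : MulAut N) • (1 : N) = 1
      exact smul_one _
    obtain ⟨b, hbfix, hb1⟩ :=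
      hS.exists_fixed_point_of_prime_dvd_card_of_fixed_point N hpN h1fix
    have hbR : (b : G) ∈ N ⊓ Subgroup.centralizer (R : Set G) := by
      refine ⟨b.2, Subgroup.mem_centralizer_iff.2 ?_⟩
      intro g hg
      have hgM : QuotientGroup.mk' Cn g ∈ Mb := hg
      have h2 := hbfix ⟨ψ (QuotientGroup.mk' Cn g), Subgroup.mem_map_of_mem ψ hgM⟩
      have h3 : (ψ (QuotientGroup.mk' Cn g)) b = b := h2
      have h4 := congrArg Subtype.val h3
      rw [hψ] at h4
      calc g * (b : G) = g * b * g⁻¹ * g := by group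
        _ = b * g := by rw [h4]
    rw [hdich, Subgroup.mem_bot] at hbR
    exact hb1 (Subtype.ext hbR.symm)
  set pp : Nat.Primes := ⟨p, hp⟩ with hpp
  have hMcop : (Nat.card Mb).Coprime (pp : ℕ) := by
    obtain ⟨k, hk⟩ := IsPGroup.iff_card.1 hMr
    rw [hk]
    exact Nat.Coprime.pow_left _ ((Nat.coprime_primes hr hp).2 hrp)
  have hMK : Mb ≤ (K pp).map (QuotientGroup.mk' Cn) :=
    normal_le_complement (complementSystem_map K hK Cn) pp Mb hMcop
  have hRK : R ≤ K pp ⊔ Cn := by
    have h1 := Subgroup.comap_mono (f := QuotientGroup.mk' Cn) hMK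
    rwa [Subgroup.comap_map_eq, QuotientGroup.ker_mk'] at h1
  rw [eq_bot_iff, ← hdich]
  rintro x ⟨hxN, hxD⟩
  refine ⟨hxN, Subgroup.mem_centralizer_iff.2 ?_⟩
  have hxK : x ∈ Subgroup.centralizer (K pp : Set G) := by
    have hD' : x ∈ Subgroup.normalizer (K pp : Set G) :=
      (iInf_le (fun q => Subgroup.normalizer (K q : Set G)) pp) hxD
    refine inf_normalizer_le_centralizer (A := K pp) (K := N) ?_ ?_ ⟨hxN, hD'⟩
    · rw [Subgroup.normalizer_eq_top]; exact le_top
    · apply inf_eq_bot_of_coprime_card
      obtain ⟨k, hk⟩ := IsPGroup.iff_card.1 hNp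
      rw [hk]
      exact Nat.Coprime.pow_left _ (complement_card_coprime hK pp).symm
  have hle : K pp ⊔ Cn ≤ Subgroup.centralizer ({x} : Set G) := by
    apply sup_le
    · intro k hk
      rw [Subgroup.mem_centralizer_iff]
      intro y hy
      rw [Set.mem_singleton_iff] at hy
      subst hy
      exact (Subgroup.mem_centralizer_iff.1 hxK k hk).symm
    · intro c hc
      rw [Subgroup.mem_centralizer_iff]
      intro y hy
      rw [Set.mem_singleton_iff] at hy
      subst hy
      exact Subgroup.mem_centralizer_iff.1 hc y hxN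
  intro g hg
  have h1 := hle (hRK hg)
  exact (Subgroup.mem_centralizer_iff.1 h1 x rfl).symm

/-- **P. Hall**: a system normalizer covers the central chief factors and avoids the eccentric
ones. -/
theorem cover_avoid [Finite G] [Group.IsSolvable G]
    (K : Nat.Primes → Subgroup G) (hK : Cfsg.IsComplementSystem K)
    (A B : Subgroup G) [A.Normal] [B.Normal] (hAB : A < B)
    (hchief : ∀ N : Subgroup G, N.Normal → A ≤ N → N ≤ B → N = A ∨ N = B) :
    (⁅B, (⊤ : Subgroup G)⁆ ≤ A → B ≤ A ⊔ Cfsg.systemNormalizer K) ∧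
      (¬ ⁅B, (⊤ : Subgroup G)⁆ ≤ A → B ⊓ Cfsg.systemNormalizer K ≤ A) := by
  have hsurj : Function.Surjective (QuotientGroup.mk' A) := QuotientGroup.mk'_surjective A
  have hmapD := systemNormalizer_map K hK A
  constructor
  · intro hc
    have h1 : B.map (QuotientGroup.mk' A) ≤ Subgroup.center (G ⧸ A) := by
      rintro _ ⟨b, hb, rfl⟩
      rw [Subgroup.mem_center_iff]
      intro y
      obtain ⟨g, rfl⟩ := hsurj y
      have h2 : ⁅b, g⁆ ∈ A := hc (Subgroup.commutator_mem_commutator hb (Subgroup.mem_top g))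
      have h3 : (QuotientGroup.mk' A) ⁅b, g⁆ = 1 := (QuotientGroup.eq_one_iff _).2 h2
      rw [map_commutatorElement, commutatorElement_eq_one_iff_mul_comm] at h3
      exact h3.symm
    have h2 := h1.trans (center_le_systemNormalizer (fun p => (K p).map (QuotientGroup.mk' A)))
    rw [hmapD] at h2
    have h3 := Subgroup.comap_mono (f := QuotientGroup.mk' A) h2
    rw [Subgroup.comap_map_eq, Subgroup.comap_map_eq, QuotientGroup.ker_mk'] at h3
    rw [sup_comm]
    exact le_sup_left.trans h3
  · intro hnc
    set Bb := B.map (QuotientGroup.mk' A) with hBb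
    haveI hBbn : Bb.Normal := Subgroup.Normal.map inferInstance _ hsurj
    have hBb1 : Bb ≠ ⊥ := by
      intro h
      rw [hBb, Subgroup.map_eq_bot_iff, QuotientGroup.ker_mk'] at h
      exact hAB.not_ge h
    have hBA : B ⊔ A = B := sup_eq_left.2 hAB.le
    have hBbmin : ∀ M : Subgroup (G ⧸ A), M.Normal → M ≤ Bb → M = ⊥ ∨ M = Bb := by
      intro M hM hMB
      have h1 : M.comap (QuotientGroup.mk' A) ≤ B := by
        have := Subgroup.comap_mono (f := QuotientGroup.mk' A) hMB
        rwa [hBb, Subgroup.comap_map_eq, QuotientGroup.ker_mk', hBA] at this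
      have h0 : A ≤ M.comap (QuotientGroup.mk' A) := by
        have := Subgroup.ker_le_comap (QuotientGroup.mk' A) M
        rwa [QuotientGroup.ker_mk'] at this
      rcases hchief (M.comap (QuotientGroup.mk' A)) (hM.comap _) h0 h1 with h | h
      · left
        rw [← Subgroup.map_comap_eq_self_of_surjective hsurj M, h, Subgroup.map_eq_bot_iff,
          QuotientGroup.ker_mk']
      · right
        rw [← Subgroup.map_comap_eq_self_of_surjective hsurj M, h]
    have hBbnc : ¬ Bb ≤ Subgroup.center (G ⧸ A) := by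
      intro h
      apply hnc
      rw [Subgroup.commutator_le]
      intro b hb g _
      have h1 : (QuotientGroup.mk' A) b ∈ Subgroup.center (G ⧸ A) :=
        h (Subgroup.mem_map_of_mem _ hb)
      rw [Subgroup.mem_center_iff] at h1
      have h2 : (QuotientGroup.mk' A) ⁅b, g⁆ = 1 := by
        rw [map_commutatorElement, commutatorElement_eq_one_iff_mul_comm]
        exact (h1 _).symm
      exact (QuotientGroup.eq_one_iff _).1 h2
    have h := minNormal_inf_systemNormalizer (fun p => (K p).map (QuotientGroup.mk' A))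
      (complementSystem_map K hK A) Bb hBb1 hBbmin hBbnc
    rintro x ⟨hxB, hxD⟩
    have h1 : (QuotientGroup.mk' A) x ∈
        Bb ⊓ Cfsg.systemNormalizer (fun p => (K p).map (QuotientGroup.mk' A)) := by
      refine ⟨Subgroup.mem_map_of_mem _ hxB, ?_⟩
      rw [hmapD]
      exact Subgroup.mem_map_of_mem _ hxD
    rw [h, Subgroup.mem_bot] at h1
    exact (QuotientGroup.eq_one_iff x).1 h1

end Cfsg.Agent.Helper1
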