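import Mathlib
import Cfsg.Prelude.Def_SolvableStructure
import Cfsg.Agent.Helper1.Basic
import Cfsg.Agent.Helper1.Coprime
import Cfsg.Agent.Helper1.Card
import Cfsg.Agent.Helper1.SysNorm
import Cfsg.Agent.Helper1.SysNorm2
import Cfsg.Agent.Helper1.ComplSystem
import Cfsg.Agent.Helper1.CoverAvoid
import Cfsg.Agent.Helper1.Carter2
import Cfsg.Agent.Helper1.Carter3
import Cfsg.Agent.Helper1.Carter4

set_option autoImplicit false

/-!
Every system normalizer lies in a Carter subgroup, and every Carter subgroup contains a system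
normalizer.
-/

namespace Cfsg.Agent.Helper1

open scoped Pointwise

universe u

variable {G : Type u} [Group G]

/-- lifting "`K p` has `p`-power index in" from a quotient by a `q`-group to the preimage -/
theorem relIndex_comap_ppow [Finite G] (N : Subgroup G) [N.Normal] (q : ℕ) [Fact q.Prime]
    (hNq : IsPGroup q N) (K : Nat.Primes → Subgroup G) (hK : Cfsg.IsComplementSystem K)
    (p : Nat.Primes) (Cb : Subgroup (G ⧸ N)) (b : ℕ)
    (hb : ((K p).map (QuotientGroup.mk' N)).relIndex Cb = (p : ℕ) ^ b) :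
    ∃ b', (K p).relIndex (Cb.comap (QuotientGroup.mk' N)) = (p : ℕ) ^ b' := by
  have hsurj : Function.Surjective (QuotientGroup.mk' N) := QuotientGroup.mk'_surjective N
  set L := Cb.comap (QuotientGroup.mk' N) with hL
  have hNL : N ≤ L := by
    have := Subgroup.ker_le_comap (QuotientGroup.mk' N) Cb
    rwa [QuotientGroup.ker_mk'] at this
  have h1 : (K p ⊔ N).relIndex L = (p : ℕ) ^ b := by
    have h0 : ((K p).map (QuotientGroup.mk' N)).comap (QuotientGroup.mk' N) = K p ⊔ N := by
      rw [Subgroup.comap_map_eq, QuotientGroup.ker_mk']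
    rw [← h0, Subgroup.relIndex_comap, hL, Subgroup.map_comap_eq_self_of_surjective hsurj]
    exact hb
  have h2 : (K p).relIndex L = (K p).relIndex ((K p ⊔ N) ⊓ L) * (K p ⊔ N).relIndex L := by
    have := Subgroup.relIndex_inf_mul_relIndex (K p) (K p ⊔ N) L
    rw [inf_eq_left.2 (le_sup_left : K p ≤ K p ⊔ N)] at this
    exact this.symm
  -- Dedekind
  have hded : (K p ⊔ N) ⊓ L = N ⊔ (K p ⊓ L) := by
    apply le_antisymm
    · rintro x ⟨hx1, hx2⟩
      obtain ⟨k, hk, n, hn, rfl⟩ := Subgroup.mem_sup_of_normal_right.1 hx1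
      have hkL : k ∈ L := by
        have : k = k * n * n⁻¹ := by group
        rw [this]
        exact L.mul_mem hx2 (L.inv_mem (hNL hn))
      have : k * n = (k * n * k⁻¹) * k := by group
      rw [this]
      exact Subgroup.mul_mem _ (Subgroup.mem_sup_left (‹N.Normal›.conj_mem n hn k))
        (Subgroup.mem_sup_right ⟨hk, hkL⟩)
    · exact sup_le (le_inf le_sup_right hNL) (le_inf (inf_le_left.trans le_sup_left) inf_le_right)
  have h3 : ∃ c, (K p).relIndex ((K p ⊔ N) ⊓ L) = (p : ℕ) ^ c := by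
    have e1 : (K p).relIndex ((K p ⊔ N) ⊓ L) = (K p ⊓ L).relIndex (N ⊔ (K p ⊓ L)) := by
      rw [← Subgroup.inf_relIndex_right, ← hded]
      congr 1
      rw [← inf_assoc, inf_eq_left.2 (le_sup_left : K p ≤ K p ⊔ N)]
    rw [e1, relIndex_sup_of_le_normalizer'
      (by rw [Subgroup.normalizer_eq_top]; exact le_top : K p ⊓ L ≤ Subgroup.normalizer (N : Set G))]
    by_cases hqp : q = (p : ℕ)
    · have h4 : (K p ⊓ L).relIndex N ∣ Nat.card N := Subgroup.relIndex_dvd_card _ _
      obtain ⟨k, hk⟩ := IsPGroup.iff_card.1 hNq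
      rw [hk, hqp] at h4
      obtain ⟨c, -, hc⟩ := (Nat.dvd_prime_pow p.2).1 h4
      exact ⟨c, hc⟩
    · refine ⟨0, ?_⟩
      rw [pow_zero, Subgroup.relIndex_eq_one]
      refine le_inf ?_ hNL
      apply normal_le_complement hK p N
      obtain ⟨k, hk⟩ := IsPGroup.iff_card.1 hNq
      rw [hk]
      exact Nat.Coprime.pow_left _ ((Nat.coprime_primes Fact.out p.2).2 hqp)
  obtain ⟨c, hc⟩ := h3
  exact ⟨c + b, by rw [h2, hc, h1, pow_add]⟩

/-- the quotient of the preimage `L` of `Cb` by `N` is isomorphic to `Cb` -/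
theorem isNilpotent_quotient_subgroupOf_comap (N : Subgroup G) [N.Normal]
    (Cb : Subgroup (G ⧸ N)) (hCb : Group.IsNilpotent Cb) :
    Group.IsNilpotent (↥(Cb.comap (QuotientGroup.mk' N)) ⧸
      N.subgroupOf (Cb.comap (QuotientGroup.mk' N))) := by
  set L := Cb.comap (QuotientGroup.mk' N) with hL
  let φ : L →* Cb := ((QuotientGroup.mk' N).comp L.subtype).codRestrict Cb (fun l => l.2)
  have hφs : Function.Surjective φ := by
    rintro ⟨c, hc⟩
    obtain ⟨g, rfl⟩ := QuotientGroup.mk'_surjective N c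
    exact ⟨⟨g, hc⟩, rfl⟩
  have hker : φ.ker = N.subgroupOf L := by
    ext x
    rw [MonoidHom.mem_ker, Subgroup.mem_subgroupOf]
    constructor
    · intro hx
      have h1 := congrArg Subtype.val hx
      exact (QuotientGroup.eq_one_iff (x : G)).1 h1
    · intro hx
      apply Subtype.ext
      exact (QuotientGroup.eq_one_iff (x : G)).2 hx
  haveI := hCb
  have e1 : L ⧸ φ.ker ≃* Cb := QuotientGroup.quotientKerEquivOfSurjective φ hφs
  have e2 : L ⧸ φ.ker ≃* L ⧸ N.subgroupOf L := QuotientGroup.quotientMulEquivOfEq hker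
  exact Group.nilpotent_of_mulEquiv (e1.symm.trans e2)

theorem exists_carter_in_preimage [Finite G] [Group.IsSolvable G] (N : Subgroup G) [hNn : N.Normal]
    (q : ℕ) [Fact q.Prime] (hNq : IsPGroup q N) (K : Nat.Primes → Subgroup G)
    (hK : Cfsg.IsComplementSystem K) (Cb : Subgroup (G ⧸ N)) (hCb : Cfsg.IsCarterSubgroup Cb)
    (hD : Cfsg.systemNormalizer (fun p => (K p).map (QuotientGroup.mk' N)) ≤ Cb)
    (hred : ∀ p : Nat.Primes, ∃ b, ((K p).map (QuotientGroup.mk' N)).relIndex Cb = (p : ℕ) ^ b) :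
    ∃ C : Subgroup G, Cfsg.IsCarterSubgroup C ∧ Cfsg.systemNormalizer K ≤ C ∧
      ∀ p : Nat.Primes, ∃ b, (K p).relIndex C = (p : ℕ) ^ b := by
  have hsurj : Function.Surjective (QuotientGroup.mk' N) := QuotientGroup.mk'_surjective N
  set L := Cb.comap (QuotientGroup.mk' N) with hL
  have hNL : N ≤ L := by
    have := Subgroup.ker_le_comap (QuotientGroup.mk' N) Cb
    rwa [QuotientGroup.ker_mk'] at this
  have hLmap : L.map (QuotientGroup.mk' N) = Cb := Subgroup.map_comap_eq_self_of_surjective hsurj Cb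
  have hLred : ∀ p : Nat.Primes, ∃ b', (K p).relIndex L = (p : ℕ) ^ b' := by
    intro p
    obtain ⟨b, hb⟩ := hred p
    exact relIndex_comap_ppow N q hNq K hK p Cb b hb
  choose b' hb' using hLred
  -- the induced complement system of `L`
  set J : Nat.Primes → Subgroup L := fun p => (K p).subgroupOf L with hJdef
  have hJ : Cfsg.IsComplementSystem J := by
    intro p
    have h1 : (J p).index = (p : ℕ) ^ b' p := hb' p
    have h2 : Nat.card L = (p : ℕ) ^ b' p * Nat.card (J p) := by
      rw [← h1]; exact (J p).index_mul_card.symm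
    have h3 : (Nat.card (J p)).Coprime (p : ℕ) := by
      have h4 : Nat.card (J p) ∣ Nat.card (K p) := by
        rw [hJdef]
        show Nat.card ((K p).subgroupOf L) ∣ _
        rw [card_subgroupOf]
        exact Subgroup.card_dvd_of_le inf_le_left
      exact Nat.Coprime.coprime_dvd_left h4 (complement_card_coprime hK p)
    rw [h1, factorization_eq_of_pow_mul_coprime p.2 h2 h3 Nat.card_pos.ne']
  set Nl := N.subgroupOf L with hNl
  have hNlnil : Group.IsNilpotent Nl := by
    haveI : Group.IsNilpotent N := hNq.isNilpotent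
    exact Group.nilpotent_of_mulEquiv (Subgroup.subgroupOfEquivOfLe hNL).symm
  have hquot : Group.IsNilpotent (L ⧸ Nl) := isNilpotent_quotient_subgroupOf_comap N Cb hCb.1
  set DL := Cfsg.systemNormalizer J with hDL
  have hDLc : Cfsg.IsCarterSubgroup DL := systemNormalizer_isCarter Nl hNlnil hquot J hJ
  have hsup : DL ⊔ Nl = ⊤ := systemNormalizer_sup_eq_top Nl hquot J hJ
  set C := DL.map L.subtype with hC
  have hCL : C ≤ L := Subgroup.map_subtype_le _
  have hCN : C ⊔ N = L := by
    have h1 := congrArg (Subgroup.map L.subtype) hsup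
    rw [Subgroup.map_sup, Subgroup.map_subgroupOf_eq_of_le hNL, ← MonoidHom.range_eq_map,
      Subgroup.range_subtype] at h1
    exact h1
  have hmemC : ∀ x : L, (x : G) ∈ C ↔ x ∈ DL := fun x =>
    Subgroup.mem_map_iff_mem (Subgroup.subtype_injective L)
  refine ⟨C, ⟨?_, le_antisymm ?_ Subgroup.le_normalizer⟩, ?_, ?_⟩
  · haveI := hDLc.1
    exact Group.nilpotent_of_mulEquiv
      (Subgroup.equivMapOfInjective DL L.subtype (Subgroup.subtype_injective L))
  · intro g hg
    have h1 : MulAut.conj g • L = L := by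
      rw [← hCN, Subgroup.smul_sup, conj_smul_eq_of_mem_normalizer hg, conj_smul_normal N g]
    have h2 : g ∈ Subgroup.normalizer (L : Set G) := mem_normalizer_of_conj_smul_eq h1
    have h3 : (QuotientGroup.mk' N) g ∈ Subgroup.normalizer (Cb : Set (G ⧸ N)) := by
      have := Subgroup.le_normalizer_map (QuotientGroup.mk' N) (Subgroup.mem_map_of_mem _ h2)
      rwa [hLmap] at this
    rw [hCb.2] at h3
    have hgL : g ∈ L := h3
    have h4 : (⟨g, hgL⟩ : L) ∈ Subgroup.normalizer (DL : Set L) := by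
      rw [Subgroup.mem_normalizer_iff]
      intro x
      rw [← hmemC, ← hmemC]
      exact Subgroup.mem_normalizer_iff.1 hg x
    rw [hDLc.2] at h4
    exact (hmemC ⟨g, hgL⟩).2 h4
  · intro d hd
    have hdL : d ∈ L := by
      apply hD
      rw [systemNormalizer_map K hK N]
      exact Subgroup.mem_map_of_mem _ hd
    apply (hmemC ⟨d, hdL⟩).2
    apply Subgroup.mem_iInf.2
    intro p
    rw [Subgroup.mem_normalizer_iff]
    intro x
    have hdp : d ∈ Subgroup.normalizer (K p : Set G) := (iInf_le _ p : Cfsg.systemNormalizer K ≤ _) hd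
    exact Subgroup.mem_normalizer_iff.1 hdp x
  · intro p
    have h1 : (K p).relIndex C = (J p).relIndex DL :=
      (Subgroup.relIndex_comap (K p) L.subtype DL).symm
    have h2 : (J p).relIndex DL ∣ (J p).index :=
      relIndex_dvd_index_of_le_normalizer (iInf_le _ p)
    rw [hJ p] at h2
    obtain ⟨c, -, hc⟩ := (Nat.dvd_prime_pow p.2).1 h2
    exact ⟨c, by rw [h1, hc]⟩

theorem exists_carter_ge_aux : ∀ (n : ℕ) (G : Type u) [Group G] [Finite G] [Group.IsSolvable G],
    Nat.card G = n → ∀ K : Nat.Primes → Subgroup G, Cfsg.IsComplementSystem K →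
      ∃ C : Subgroup G, Cfsg.IsCarterSubgroup C ∧ Cfsg.systemNormalizer K ≤ C ∧
        ∀ p : Nat.Primes, ∃ b, (K p).relIndex C = (p : ℕ) ^ b := by
  intro n
  induction n using Nat.strong_induction_on with
  | _ n ih =>
  intro G _ _ _ hn K hK
  rcases subsingleton_or_nontrivial G with hs | hnt
  · refine ⟨⊤, ⟨?_, ?_⟩, le_top, ?_⟩
    · exact Group.isNilpotent_of_subsingleton
    · rw [Subgroup.normalizer_eq_top]
    · intro p
      exact ⟨_, by rw [Subgroup.relIndex_top_right]; exact hK p⟩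
  obtain ⟨N, hNn, hN1, hmin⟩ := Cfsg.Agent.Helper4.exists_minimal_normal (G := G)
  haveI := hNn
  obtain ⟨hab, q, hq, hexp⟩ := Cfsg.Agent.S0043.result N hN1 hmin
  haveI : Fact q.Prime := ⟨hq⟩
  have hNq : IsPGroup q N := by
    intro x
    refine ⟨1, ?_⟩
    rw [pow_one]
    apply Subtype.ext
    simpa using hexp x.1 x.2
  have hlt : Nat.card (G ⧸ N) < n := hn ▸ card_quotient_lt N hN1
  obtain ⟨Cb, hCb, hD, hred⟩ := ih _ hlt (G ⧸ N) rfl _ (complementSystem_map K hK N)
  exact exists_carter_in_preimage N q hNq K hK Cb hCb hD hred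

/-- **S0569**. -/
theorem carter_systemNormalizer [Finite G] [Group.IsSolvable G] :
    (∀ C : Subgroup G, Cfsg.IsCarterSubgroup C → ∃ K : Nat.Primes → Subgroup G,
        Cfsg.IsComplementSystem K ∧ Cfsg.systemNormalizer K ≤ C) ∧
    ∀ K : Nat.Primes → Subgroup G, Cfsg.IsComplementSystem K →
      ∃ C : Subgroup G, Cfsg.IsCarterSubgroup C ∧ Cfsg.systemNormalizer K ≤ C := by
  constructor
  · intro C hC
    obtain ⟨K₀, hK₀⟩ := exists_complementSystem G
    obtain ⟨C₀, hC₀, hle, -⟩ := exists_carter_ge_aux _ G rfl K₀ hK₀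
    obtain ⟨g, hg⟩ := carter_conj C₀ C hC₀ hC
    refine ⟨fun p => MulAut.conj g • K₀ p, isComplementSystem_conj hK₀ g, ?_⟩
    rw [systemNormalizer_conj, ← hg]
    exact conj_smul_mono hle g
  · intro K hK
    obtain ⟨C, hC, hle, -⟩ := exists_carter_ge_aux _ G rfl K hK
    exact ⟨C, hC, hle⟩

end Cfsg.Agent.Helper1
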