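import Mathlib
import Cfsg.Prelude.Def_Solvable
import Cfsg.Prelude.Def_Transfer

/-!
# Groups in which centralizers of nontrivial elements (of a subgroup `N`) are maximal

Elementary lemmas.  `cz x` is the centralizer of `x`.
-/

set_option autoImplicit false

namespace Cfsg.Agent.Helper1.CentMax

variable {G : Type*} [Group G]

/-- centralizer of an element -/
abbrev cz (x : G) : Subgroup G := Subgroup.centralizer ({x} : Set G)

lemma mem_cz {x g : G} : g ∈ cz x ↔ g * x = x * g :=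
  Subgroup.mem_centralizer_singleton_iff

lemma self_mem_cz (x : G) : x ∈ cz x := mem_cz.mpr rfl

lemma mem_cz_comm {x g : G} : g ∈ cz x ↔ x ∈ cz g := by
  rw [mem_cz, mem_cz, eq_comm]

lemma cz_le_cz_pow (x : G) (k : ℕ) : cz x ≤ cz (x ^ k) := by
  intro g hg
  rw [mem_cz] at hg ⊢
  exact ((Commute.pow_right (show Commute g x from hg) k)).eq

lemma cz_inv (x : G) : cz x⁻¹ = cz x := by
  ext g
  rw [mem_cz, mem_cz]
  constructor
  · intro h
    have : Commute g x⁻¹ := h
    exact (Commute.inv_right_iff.mp this).eq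
  · intro h
    have : Commute g x := h
    exact (this.inv_right).eq

/-- The hypothesis: for the nontrivial elements of `N` the centralizer is a maximal subgroup. -/
def Hyp (N : Subgroup G) : Prop := ∀ x ∈ N, x ≠ 1 → IsCoatom (cz x)

variable {N : Subgroup G}

lemma cz_eq_of_le (h : Hyp N) {x y : G} (hx : x ∈ N) (hx1 : x ≠ 1) (hy : y ∈ N) (hy1 : y ≠ 1)
    (hle : cz x ≤ cz y) : cz x = cz y :=
  (((h x hx hx1).le_iff_eq (h y hy hy1).1).mp hle).symm

lemma cz_pow_eq (h : Hyp N) {x : G} (hx : x ∈ N) {k : ℕ} (hk : x ^ k ≠ 1) : cz (x ^ k) = cz x := by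
  have hx1 : x ≠ 1 := by
    rintro rfl
    simp at hk
  exact (cz_eq_of_le h hx hx1 (N.pow_mem hx k) hk (cz_le_cz_pow x k)).symm

/-- If `a`, `b` commute and have different centralizers, then `ab` has a centralizer different from that of `a`. -/
lemma cz_mul_ne_left (h : Hyp N) {a b : G} (ha : a ∈ N) (ha1 : a ≠ 1) (hb : b ∈ N) (hb1 : b ≠ 1)
    (hne : cz a ≠ cz b) : cz (a * b) ≠ cz a := by
  intro heq
  apply hne
  apply cz_eq_of_le h ha ha1 hb hb1
  intro g hg
  have h1 : g ∈ cz (a * b) := heq ▸ hg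
  rw [mem_cz] at hg h1 ⊢
  have : a * (g * b) = a * (b * g) := by
    calc a * (g * b) = (a * g) * b := by group
      _ = (g * a) * b := by rw [hg]
      _ = g * (a * b) := by group
      _ = a * b * g := h1
      _ = a * (b * g) := by group
  exact mul_left_cancel this

lemma mul_ne_one_of_cz_ne {a b : G} (hne : cz a ≠ cz b) : a * b ≠ 1 := by
  intro h1
  apply hne
  have : b = a⁻¹ := (eq_inv_of_mul_eq_one_right h1)
  rw [this, cz_inv]

/-- Key order lemma. -/
lemma pow_orderOf_eq_one_of_cz_ne (h : Hyp N) {a b : G} (ha : a ∈ N) (ha1 : a ≠ 1) (hb : b ∈ N)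
    (hb1 : b ≠ 1) (hab : a * b = b * a) (hne : cz a ≠ cz b) : a ^ orderOf b = 1 := by
  by_contra hk
  have hcomm : Commute a b := hab
  have e1 : (a * b) ^ orderOf b = a ^ orderOf b := by
    rw [hcomm.mul_pow, pow_orderOf_eq_one, mul_one]
  have hab1 : (a * b) ^ orderOf b ≠ 1 := by rw [e1]; exact hk
  have e2 : cz ((a * b) ^ orderOf b) = cz (a * b) := cz_pow_eq h (N.mul_mem ha hb) hab1
  have e3 : cz (a ^ orderOf b) = cz a := cz_pow_eq h ha hk
  rw [e1, e3] at e2
  exact cz_mul_ne_left h ha ha1 hb hb1 hne e2.symm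

lemma orderOf_eq_of_cz_ne [Finite G] (h : Hyp N) {a b : G} (ha : a ∈ N) (ha1 : a ≠ 1) (hb : b ∈ N)
    (hb1 : b ≠ 1) (hab : a * b = b * a) (hne : cz a ≠ cz b) : orderOf a = orderOf b := by
  apply Nat.dvd_antisymm
  · exact orderOf_dvd_of_pow_eq_one (pow_orderOf_eq_one_of_cz_ne h ha ha1 hb hb1 hab hne)
  · exact orderOf_dvd_of_pow_eq_one (pow_orderOf_eq_one_of_cz_ne h hb hb1 ha ha1 hab.symm hne.symm)

lemma orderOf_prime_of_cz_ne [Finite G] (h : Hyp N) {a b : G} (ha : a ∈ N) (ha1 : a ≠ 1) (hb : b ∈ N)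
    (hb1 : b ≠ 1) (hab : a * b = b * a) (hne : cz a ≠ cz b) : (orderOf a).Prime := by
  have hn1 : orderOf a ≠ 1 := by
    rw [Ne, orderOf_eq_one_iff]; exact ha1
  obtain ⟨p, hp, hpd⟩ := Nat.exists_prime_and_dvd hn1
  by_contra hnp
  have hap : a ^ p ≠ 1 := by
    intro h1
    have := orderOf_dvd_of_pow_eq_one h1
    have := Nat.dvd_antisymm hpd this
    exact hnp (this ▸ hp)
  have hcz : cz (a ^ p) = cz a := cz_pow_eq h ha hap
  have hab' : a ^ p * b = b * a ^ p := ((Commute.pow_left (show Commute a b from hab) p)).eq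
  have e := orderOf_eq_of_cz_ne h (N.pow_mem ha p) hap hb hb1 hab' (hcz ▸ hne)
  have e' := orderOf_eq_of_cz_ne h ha ha1 hb hb1 hab hne
  have hpos : 0 < orderOf a := orderOf_pos a
  have e2 : orderOf (a ^ p) = orderOf a / p := by
    rw [orderOf_pow' a hp.ne_zero, Nat.gcd_eq_right hpd]
  rw [e, ← e'] at e2
  have : orderOf a / p < orderOf a := Nat.div_lt_self hpos hp.one_lt
  omega

end Cfsg.Agent.Helper1.CentMax
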