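import Mathlib
import Cfsg.Agent.Helper1.CentMax

/-!
# Centralizers maximal: the case of a normal abelian centralizer
-/

set_option autoImplicit false

namespace Cfsg.Agent.Helper1.CentMax

open scoped Pointwise

variable {G : Type*} [Group G]

lemma card_mul_card_of_sup_top [Finite G] {A B : Subgroup G} [B.Normal] (hd : A ⊓ B = ⊥)
    (hs : A ⊔ B = ⊤) : Nat.card A * Nat.card B = Nat.card G := by
  have hc : Subgroup.IsComplement' A B := by
    apply Subgroup.isComplement'_of_disjoint_and_mul_eq_univ (disjoint_iff.mpr hd)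
    rw [← Subgroup.mul_normal, hs]
    rfl
  exact hc.card_mul_card

/-- A normal maximal subgroup has prime index. -/
lemma index_prime_of_normal_coatom [Finite G] {K : Subgroup G} [K.Normal] (hK : IsCoatom K) :
    K.index.Prime := by
  classical
  have hnt : Nontrivial (G ⧸ K) := by
    rw [← Finite.one_lt_card_iff_nontrivial]
    have h1 : K.index ≠ 1 := fun h => hK.1 (Subgroup.index_eq_one.mp h)
    have h0 : K.index ≠ 0 := Subgroup.index_ne_zero_of_finite
    rw [Subgroup.index] at h1 h0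
    omega
  obtain ⟨q, hq, hqd⟩ := Nat.exists_prime_and_dvd (n := Nat.card (G ⧸ K)) (by
    have := Finite.one_lt_card_iff_nontrivial.mpr hnt
    omega)
  haveI : Fact q.Prime := ⟨hq⟩
  obtain ⟨y', hy'⟩ := exists_prime_orderOf_dvd_card' q hqd
  obtain ⟨y, rfl⟩ := QuotientGroup.mk_surjective y'
  have hyK : y ∉ K := by
    intro hy
    have : (QuotientGroup.mk y : G ⧸ K) = 1 := (QuotientGroup.eq_one_iff y).mpr hy
    rw [this, orderOf_one] at hy'
    exact hq.one_lt.ne hy'
  have hsup : K ⊔ Subgroup.zpowers y = ⊤ := by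
    apply hK.2
    apply lt_of_le_of_ne le_sup_left
    intro heq
    apply hyK
    rw [heq]
    exact le_sup_right (a := K) (Subgroup.mem_zpowers y)
  have hz : Subgroup.zpowers (QuotientGroup.mk y : G ⧸ K) = ⊤ := by
    have h1 : (K ⊔ Subgroup.zpowers y).map (QuotientGroup.mk' K) = ⊤ := by
      rw [hsup, ← MonoidHom.range_eq_map, MonoidHom.range_eq_top]
      exact QuotientGroup.mk'_surjective K
    rw [Subgroup.map_sup, MonoidHom.map_zpowers] at h1
    have h2 : K.map (QuotientGroup.mk' K) = ⊥ := by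
      rw [Subgroup.map_eq_bot_iff, QuotientGroup.ker_mk']
    rw [h2, bot_sup_eq] at h1
    exact h1
  have : Nat.card (G ⧸ K) = q := by
    rw [← hy', ← Nat.card_zpowers, hz, Subgroup.card_top]
  rw [Subgroup.index, this]
  exact hq

/-- The conclusion for a group with trivial centre. -/
def MinNonab (G : Type*) [Group G] : Prop :=
  ¬ IsMulCommutative G ∧ (∀ H : Subgroup G, H ≠ ⊤ → IsMulCommutative ↥H) ∧
    ∃ p q a : ℕ, p.Prime ∧ q.Prime ∧ p ≠ q ∧ Nat.card G = p ^ a * q ∧
      ∀ P : Subgroup G, Nat.card ↥P = p ^ a → P.Normal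

/-- the absolute hypothesis -/
abbrev HypT (G : Type*) [Group G] : Prop := Hyp (⊤ : Subgroup G)

lemma hypT_coatom (h : HypT G) {x : G} (hx : x ≠ 1) : IsCoatom (cz x) :=
  h x (Subgroup.mem_top x) hx

lemma cz_eq_of_mem_abelian (h : HypT G) {x y : G} (hx1 : x ≠ 1)
    (hab : ∀ a ∈ cz x, ∀ b ∈ cz x, a * b = b * a) (hy : y ∈ cz x) (hy1 : y ≠ 1) :
    cz y = cz x := by
  symm
  apply cz_eq_of_le h (Subgroup.mem_top _) hx1 (Subgroup.mem_top _) hy1
  intro g hg
  rw [mem_cz]
  exact hab g hg y hy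

lemma center_eq_bot_of_hypT (h : HypT G) : Subgroup.center G = ⊥ := by
  rw [eq_bot_iff]
  intro z hz
  rw [Subgroup.mem_bot]
  by_contra hz1
  apply (hypT_coatom h hz1).1
  rw [eq_top_iff]
  intro g _
  rw [mem_cz]
  exact Subgroup.mem_center_iff.mp hz g

theorem minNonab_of_normal_abelian [Finite G] (h : HypT G) {k : G} (hk1 : k ≠ 1)
    (hn : (cz k).Normal) (hab : ∀ a ∈ cz k, ∀ b ∈ cz k, a * b = b * a) : MinNonab G := by
  classical
  obtain ⟨K, hKdef⟩ : ∃ K : Subgroup G, K = cz k := ⟨_, rfl⟩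
  haveI hKn : K.Normal := hKdef ▸ hn
  have hKco : IsCoatom K := hKdef ▸ hypT_coatom h hk1
  have hKab : ∀ a ∈ K, ∀ b ∈ K, a * b = b * a := by rw [hKdef]; exact hab
  have hcz : ∀ y ∈ K, y ≠ 1 → cz y = K := by
    intro y hy hy1
    rw [hKdef] at hy ⊢
    exact cz_eq_of_mem_abelian h hk1 hab hy hy1
  obtain ⟨q, hqdef⟩ : ∃ q : ℕ, q = K.index := ⟨_, rfl⟩
  have hq : q.Prime := hqdef ▸ index_prime_of_normal_coatom hKco
  have hcard : Nat.card K * q = Nat.card G := hqdef ▸ K.card_mul_index
  have hdisj : ∀ g : G, g ∉ K → cz g ⊓ K = ⊥ := by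
    intro g hg
    rw [eq_bot_iff]
    intro y hy
    rw [Subgroup.mem_inf] at hy
    rw [Subgroup.mem_bot]
    by_contra hy1
    have := hcz y hy.2 hy1
    apply hg
    rw [← this]
    exact mem_cz_comm.mp hy.1
  have hsupK : ∀ g : G, g ∉ K → ∀ L : Subgroup G, K ≤ L → g ∈ L → L = ⊤ := by
    intro g hg L hKL hgL
    apply hKco.2
    apply lt_of_le_of_ne hKL
    intro heq
    exact hg (heq ▸ hgL)
  have hsupg : ∀ g : G, g ∉ K → cz g ⊔ K = ⊤ := fun g hg =>
    hsupK g hg _ le_sup_right (le_sup_left (a := cz g) (self_mem_cz g))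
  have hcardg : ∀ g : G, g ∉ K → Nat.card (cz g) = q := by
    intro g hg
    have := card_mul_card_of_sup_top (hdisj g hg) (hsupg g hg)
    rw [← hcard, mul_comm] at this
    exact Nat.eq_of_mul_eq_mul_left Nat.card_pos this
  have hKtop : K ≠ ⊤ := hKco.1
  obtain ⟨g, hg⟩ : ∃ g, g ∉ K := by
    by_contra hcon
    push Not at hcon
    exact hKtop (eq_top_iff.mpr fun x _ => hcon x)
  have hne1 : ∀ g : G, g ∉ K → g ≠ 1 := fun g hg h1 => hg (h1 ▸ K.one_mem)
  have hkK : k ∈ K := hKdef ▸ self_mem_cz k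
  have hKbot : K ≠ ⊥ := by
    intro hb
    rw [hb, Subgroup.mem_bot] at hkK
    exact hk1 hkK
  have hK1 : Nat.card K ≠ 1 := fun h1 => hKbot (Subgroup.card_eq_one.mp h1)
  obtain ⟨p, hp, hpd⟩ := Nat.exists_prime_and_dvd hK1
  haveI : Fact p.Prime := ⟨hp⟩
  -- the `p`-torsion of `K`
  let Kp : Subgroup G :=
    { carrier := {y | y ∈ K ∧ y ^ p = 1}
      one_mem' := ⟨K.one_mem, one_pow p⟩
      mul_mem' := by
        rintro a b ⟨ha, hap⟩ ⟨hb, hbp⟩
        refine ⟨K.mul_mem ha hb, ?_⟩
        have : Commute a b := hKab a ha b hb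
        rw [this.mul_pow, hap, hbp, one_mul]
      inv_mem' := by
        rintro a ⟨ha, hap⟩
        exact ⟨K.inv_mem ha, by rw [inv_pow, hap, inv_one]⟩ }
  have hKpmem : ∀ y, y ∈ Kp ↔ y ∈ K ∧ y ^ p = 1 := fun y => Iff.rfl
  have hKpK : Kp ≤ K := fun y hy => hy.1
  haveI hKpn : Kp.Normal := by
    constructor
    intro y hy x
    rw [hKpmem] at hy ⊢
    refine ⟨hKn.conj_mem y hy.1 x, ?_⟩
    rw [conj_pow, hy.2, mul_one, mul_inv_cancel]
  have hKpbot : Kp ≠ ⊥ := by
    obtain ⟨y, hy⟩ := exists_prime_orderOf_dvd_card' (G := K) p hpd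
    intro hb
    have hmem : (y : G) ∈ Kp := by
      rw [hKpmem]
      refine ⟨y.2, ?_⟩
      rw [← Subgroup.coe_pow, ← hy, pow_orderOf_eq_one]
      rfl
    rw [hb, Subgroup.mem_bot] at hmem
    have : y = 1 := Subtype.ext hmem
    rw [this, orderOf_one] at hy
    exact hp.one_lt.ne hy
  have hgco : IsCoatom (cz g) := hypT_coatom h (hne1 g hg)
  have hKpd : cz g ⊓ Kp = ⊥ := by
    rw [eq_bot_iff, ← hdisj g hg]
    exact inf_le_inf_left _ hKpK
  have hKps : cz g ⊔ Kp = ⊤ := by
    apply hgco.2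
    apply lt_of_le_of_ne le_sup_left
    intro heq
    apply hKpbot
    rw [eq_bot_iff, ← hKpd]
    apply le_inf _ le_rfl
    rw [heq]
    exact le_sup_right
  have hKpK' : Kp = K := by
    apply Subgroup.eq_of_le_of_card_ge hKpK
    have e1 := card_mul_card_of_sup_top hKpd hKps
    rw [hcardg g hg, ← hcard, mul_comm] at e1
    exact (Nat.eq_of_mul_eq_mul_right hq.pos e1).ge
  have hexp : ∀ y ∈ K, y ^ p = 1 := by
    intro y hy
    rw [← hKpK'] at hy
    exact hy.2
  have hKp : IsPGroup p K := by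
    intro y
    refine ⟨1, ?_⟩
    apply Subtype.ext
    rw [pow_one, Subgroup.coe_pow, Subgroup.coe_one]
    exact hexp y.1 y.2
  obtain ⟨a, ha⟩ := hKp.exists_card_eq
  have hZ : Subgroup.center G = ⊥ := center_eq_bot_of_hypT h
  haveI : Nontrivial G := ⟨⟨k, 1, hk1⟩⟩
  have hpq : p ≠ q := by
    intro hpq
    have hG : IsPGroup p G := by
      apply IsPGroup.of_card (n := a + 1)
      rw [← hcard, ha, ← hpq, pow_succ]
    have := hG.center_nontrivial
    rw [hZ] at this
    exact not_nontrivial _ this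
  have hordq : ∀ g : G, g ∉ K → orderOf g ∣ q := by
    intro g hg
    rw [← hcardg g hg]
    have := orderOf_dvd_natCard (⟨g, self_mem_cz g⟩ : cz g)
    rwa [Subgroup.orderOf_mk] at this
  refine ⟨?_, ?_, p, q, a, hp, hq, hpq, by rw [← hcard, ha], ?_⟩
  · intro hc
    apply hKtop
    rw [eq_top_iff, hKdef]
    intro x _
    rw [mem_cz]
    exact mul_comm' x k
  · intro H hH
    by_cases hHK : H ≤ K
    · exact ⟨⟨fun a b => Subtype.ext (hKab a.1 (hHK a.2) b.1 (hHK b.2))⟩⟩
    · obtain ⟨u, huH, huK⟩ := SetLike.not_le_iff_exists.mp hHK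
      obtain ⟨L, hLdef⟩ : ∃ L : Subgroup G, L = H ⊓ K := ⟨_, rfl⟩
      have hLK : L ≤ K := hLdef ▸ inf_le_right
      have hLH : L ≤ H := hLdef ▸ inf_le_left
      haveI hLn : L.Normal := by
        constructor
        intro y hy x
        have hx : x ∈ (K ⊔ Subgroup.zpowers u : Subgroup G) := by
          rw [hsupK u huK _ le_sup_left (le_sup_right (a := K) (Subgroup.mem_zpowers u))]
          exact Subgroup.mem_top x
        rw [← SetLike.mem_coe, Subgroup.normal_mul] at hx
        obtain ⟨c, hc, z, hz, rfl⟩ := hx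
        have hzH : z ∈ H := (Subgroup.zpowers_le.mpr huH) hz
        have hyK : y ∈ K := hLK hy
        have hyH : y ∈ H := hLH hy
        have h1 : z * y * z⁻¹ ∈ K := hKn.conj_mem y hyK z
        have h2 : z * y * z⁻¹ ∈ H := H.mul_mem (H.mul_mem hzH hyH) (H.inv_mem hzH)
        have h3 : c * z * y * (c * z)⁻¹ = z * y * z⁻¹ := by
          have := hKab c hc _ h1
          calc c * z * y * (c * z)⁻¹ = (c * (z * y * z⁻¹)) * c⁻¹ := by group
            _ = (z * y * z⁻¹ * c) * c⁻¹ := by rw [this]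
            _ = z * y * z⁻¹ := by group
        rw [h3, hLdef]
        exact ⟨h2, h1⟩
      have huco : IsCoatom (cz u) := hypT_coatom h (hne1 u huK)
      have hLd : cz u ⊓ L = ⊥ := by
        rw [eq_bot_iff, ← hdisj u huK]
        exact inf_le_inf_left _ hLK
      have hLbot : L = ⊥ := by
        by_contra hLb
        have hLs : cz u ⊔ L = ⊤ := by
          apply huco.2
          apply lt_of_le_of_ne le_sup_left
          intro heq
          apply hLb
          rw [eq_bot_iff, ← hLd]
          apply le_inf _ le_rfl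
          rw [heq]
          exact le_sup_right
        have hLK' : L = K := by
          apply Subgroup.eq_of_le_of_card_ge hLK
          have e1 := card_mul_card_of_sup_top hLd hLs
          rw [hcardg u huK, ← hcard, mul_comm] at e1
          exact (Nat.eq_of_mul_eq_mul_right hq.pos e1).ge
        apply hH
        apply hsupK u huK H _ huH
        rw [← hLK']
        exact hLH
      have hHcard : Nat.card H ∣ q := by
        have h1 : K.relIndex H ∣ K.index := Subgroup.relIndex_dvd_index_of_normal K H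
        rw [← Subgroup.inf_relIndex_right, inf_comm, ← hLdef, hLbot,
          Subgroup.relIndex_bot_left, ← hqdef] at h1
        exact h1
      rcases (Nat.dvd_prime hq).mp hHcard with h1 | h1
      · have : H = ⊥ := Subgroup.card_eq_one.mp h1
        exact ⟨⟨fun a b => by
          have ha : a = 1 := Subtype.ext (by simpa [this] using a.2)
          rw [ha, one_mul, mul_one]⟩⟩
      · haveI : Fact q.Prime := ⟨hq⟩
        haveI : IsCyclic H := isCyclic_of_prime_card h1
        infer_instance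
  · intro P hP
    have hPK : P ≤ K := by
      intro y hy
      by_contra hyK
      have h1 : orderOf y ∣ q := hordq y hyK
      have h2 : orderOf y ∣ p ^ a := by
        rw [← hP]
        have := orderOf_dvd_natCard (⟨y, hy⟩ : P)
        rwa [Subgroup.orderOf_mk] at this
      have hcop : Nat.Coprime (p ^ a) q := by
        apply Nat.Coprime.pow_left
        exact (Nat.coprime_primes hp hq).mpr hpq
      have h3 : orderOf y = 1 := Nat.eq_one_of_dvd_coprimes hcop h2 h1
      rw [orderOf_eq_one_iff] at h3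
      exact hne1 y hyK h3
    have : P = K := by
      apply Subgroup.eq_of_le_of_card_ge hPK
      rw [hP, ha]
    rw [this]
    exact hKn

end Cfsg.Agent.Helper1.CentMax
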