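import Mathlib
import Cfsg.Agent.Helper1.CentMaxB
import Cfsg.Agent.Helper1.CoreFree
import Cfsg.Agent.Helper4.CentMax

/-!
# Centralizers maximal, trivial centre: the structure theorem
-/

set_option autoImplicit false

namespace Cfsg.Agent.Helper1.CentMax

open scoped Pointwise

universe u

variable {G : Type u} [Group G]

lemma cz_eq_of_commute_of_order_ne [Finite G] (h : HypT G) {a b : G} (ha1 : a ≠ 1) (hb1 : b ≠ 1)
    (hab : a * b = b * a) (hord : orderOf a ≠ orderOf b) : cz a = cz b := by
  by_contra hne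
  exact hord (orderOf_eq_of_cz_ne h (Subgroup.mem_top _) ha1 (Subgroup.mem_top _) hb1 hab hne)

/-- A nonabelian centralizer has prime exponent. -/
lemma exponent_of_nonabelian [Finite G] (h : HypT G) {x : G} (hx1 : x ≠ 1)
    (hna : ¬ ∀ a ∈ cz x, ∀ b ∈ cz x, a * b = b * a) :
    (orderOf x).Prime ∧ ∀ u ∈ cz x, u ^ orderOf x = 1 := by
  push Not at hna
  obtain ⟨a, ha, b, hb, hab⟩ := hna
  have ha1 : a ≠ 1 := by
    rintro rfl
    exact hab (by rw [one_mul, mul_one])
  have hne : cz x ≠ cz a := by
    intro heq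
    rw [heq, mem_cz] at hb
    exact hab hb.symm
  have hxa : x * a = a * x := (mem_cz.mp ha).symm
  have hT : ∀ z : G, z ∈ (⊤ : Subgroup G) := Subgroup.mem_top
  refine ⟨orderOf_prime_of_cz_ne h (hT _) hx1 (hT _) ha1 hxa hne, ?_⟩
  intro u hu
  by_cases hu1 : u = 1
  · rw [hu1, one_pow]
  have hux : u * x = x * u := mem_cz.mp hu
  by_cases hcu : cz u = cz x
  · -- then `cz u ≠ cz a` and `u` commutes with `a`
    have hua : u * a = a * u := by
      have : a ∈ cz u := hcu ▸ ha
      exact (mem_cz.mp this).symm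
    have e1 : orderOf u = orderOf a :=
      orderOf_eq_of_cz_ne h (hT _) hu1 (hT _) ha1 hua (hcu ▸ hne)
    have e2 : orderOf x = orderOf a := orderOf_eq_of_cz_ne h (hT _) hx1 (hT _) ha1 hxa hne
    rw [e2, ← e1, pow_orderOf_eq_one]
  · have e1 : orderOf u = orderOf x := orderOf_eq_of_cz_ne h (hT _) hu1 (hT _) hx1 hux hcu
    rw [← e1, pow_orderOf_eq_one]

theorem minNonab_of_hypT [Finite G] [Nontrivial G] (h : HypT G) : MinNonab G := by
  classical
  have hZ : Subgroup.center G = ⊥ := center_eq_bot_of_hypT h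
  haveI hsol : Group.IsSolvable G := by
    apply Cfsg.Agent.Helper4.CentMax.main
    intro g hg
    apply hypT_coatom h
    rintro rfl
    exact hg (Subgroup.one_mem _)
  obtain ⟨p, hp, V, hVn, hVne, hVp, hVc, -⟩ := Cfsg.Agent.Helper1.exists_minimal_normal_abelian G
  haveI := hVn
  have hVab : ∀ a ∈ V, ∀ b ∈ V, a * b = b * a := by
    intro a ha b hb
    have := hVc.is_comm.comm (⟨a, ha⟩ : V) ⟨b, hb⟩
    exact congrArg Subtype.val this
  obtain ⟨v, hvV, hv1⟩ := (Subgroup.ne_bot_iff_exists_ne_one.mp hVne |> fun ⟨x, hx⟩ =>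
    (⟨x.1, x.2, fun h1 => hx (Subtype.ext h1)⟩ : ∃ v ∈ V, v ≠ 1))
  have hVle : ∀ u ∈ V, V ≤ cz u := by
    intro u hu x hx
    rw [mem_cz]
    exact hVab x hx u hu
  by_cases hab : ∀ a ∈ cz v, ∀ b ∈ cz v, a * b = b * a
  · -- abelian centralizer: it is normal
    have hn : (cz v).Normal := by
      constructor
      intro n hn g
      have hw : g⁻¹ * v * g ∈ V := by
        have := hVn.conj_mem v hvV g⁻¹
        rwa [inv_inv] at this
      have hw1 : g⁻¹ * v * g ≠ 1 := by
        intro h1
        apply hv1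
        have : v = g * (g⁻¹ * v * g) * g⁻¹ := by group
        rw [this, h1, mul_one, mul_inv_cancel]
      have hcw : cz (g⁻¹ * v * g) = cz v :=
        cz_eq_of_mem_abelian h hv1 hab (hVle v hvV hw) hw1
      have hn' : n ∈ cz (g⁻¹ * v * g) := hcw ▸ hn
      rw [mem_cz] at hn' ⊢
      calc g * n * g⁻¹ * v = g * (n * (g⁻¹ * v * g)) * g⁻¹ := by group
        _ = g * ((g⁻¹ * v * g) * n) * g⁻¹ := by rw [hn']
        _ = v * (g * n * g⁻¹) := by group
    exact minNonab_of_normal_abelian h hv1 hn hab
  · exfalso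
    obtain ⟨hrp, hexp⟩ := exponent_of_nonabelian h hv1 hab
    obtain ⟨r, hr⟩ : ∃ r : ℕ, r = orderOf v := ⟨_, rfl⟩
    rw [← hr] at hrp hexp
    -- a prime `q ≠ r` dividing `|G|`
    obtain ⟨q, hq, hqd, hqr⟩ : ∃ q : ℕ, q.Prime ∧ q ∣ Nat.card G ∧ q ≠ r := by
      by_contra hcon
      push Not at hcon
      have hcard : ∃ k : ℕ, Nat.card G = r ^ k := by
        refine ⟨_, Nat.eq_prime_pow_of_unique_prime_dvd Nat.card_pos.ne' ?_⟩
        intro q hq hqd
        exact hcon q hq hqd
      obtain ⟨k, hk⟩ := hcard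
      haveI : Fact r.Prime := ⟨hrp⟩
      have hG : IsPGroup r G := IsPGroup.of_card hk
      have := hG.center_nontrivial
      rw [hZ] at this
      exact not_nontrivial _ this
    haveI : Fact q.Prime := ⟨hq⟩
    obtain ⟨g, hg⟩ := exists_prime_orderOf_dvd_card' (G := G) q hqd
    have hg1 : g ≠ 1 := by
      rintro rfl
      rw [orderOf_one] at hg
      exact hq.one_lt.ne hg
    have hgco : IsCoatom (cz g) := hypT_coatom h hg1
    -- elements of `cz v` commuting with `g` are trivial or force `v ∈ cz g`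
    have key : ∀ u ∈ cz v, u ≠ 1 → u * g = g * u → cz u = cz g := by
      intro u hu hu1 hug
      apply cz_eq_of_commute_of_order_ne h hu1 hg1 hug
      have : orderOf u = r := by
        have hd := orderOf_dvd_of_pow_eq_one (hexp u hu)
        rcases (Nat.dvd_prime hrp).mp hd with h1 | h1
        · rw [orderOf_eq_one_iff] at h1
          exact absurd h1 hu1
        · exact h1
      rw [this, hg]
      exact hqr.symm
    have hgv : g ∉ cz v := by
      intro hgv
      have hd := orderOf_dvd_of_pow_eq_one (hexp g hgv)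
      rw [hg] at hd
      exact hqr ((Nat.prime_dvd_prime_iff_eq hq hrp).mp hd)
    have hvg : v ∉ cz g := fun hh => hgv (mem_cz_comm.mp hh)
    have hVQ : V ⊓ cz g = ⊥ := by
      rw [eq_bot_iff]
      intro u hu
      rw [Subgroup.mem_inf] at hu
      rw [Subgroup.mem_bot]
      by_contra hu1
      have h1 : cz u = cz g := key u (hVle v hvV hu.1) hu1 (mem_cz.mp hu.2)
      apply hvg
      rw [← h1]
      exact hVle u hu.1 hvV
    have hsup : V ⊔ cz g = ⊤ := by
      rw [sup_comm]
      apply hgco.2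
      apply lt_of_le_of_ne le_sup_left
      intro heq
      apply hVne
      rw [eq_bot_iff, ← hVQ]
      apply le_inf le_rfl
      rw [heq]
      exact le_sup_right
    apply hab
    have hle : cz v ≤ V := by
      intro x hx
      have hx' : x ∈ (V ⊔ cz g : Subgroup G) := by rw [hsup]; exact Subgroup.mem_top x
      rw [← SetLike.mem_coe, Subgroup.normal_mul] at hx'
      obtain ⟨a, ha, b, hb, hxab⟩ := hx'
      have hxab' : a * b = x := hxab
      subst hxab'
      have hav : a ∈ cz v := hVle v hvV ha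
      have hbv : b ∈ cz v := by
        have := (cz v).mul_mem ((cz v).inv_mem hav) hx
        rwa [inv_mul_cancel_left] at this
      have hb1 : b = 1 := by
        by_contra hb1
        have h1 : cz b = cz g := key b hbv hb1 (mem_cz.mp hb)
        apply hvg
        rw [← h1]
        exact mem_cz_comm.mp hbv
      rw [hb1, mul_one]
      exact ha
    intro a ha b hb
    exact hVab a (hle ha) b (hle hb)

end Cfsg.Agent.Helper1.CentMax
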