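import Mathlib
import Cfsg.Agent.Helper1.CentMaxC
import Cfsg.Agent.Helper1.MaxSub

/-!
# Centralizers of noncentral elements maximal: reduction to trivial centre
-/

set_option autoImplicit false

namespace Cfsg.Agent.Helper1.CentMax

open scoped Pointwise

universe u

variable {G : Type u} [Group G]

/-- In a group where the commutators `a b a⁻¹ b⁻¹` (for fixed `a`) are central, they are
multiplicative in `b`. -/
lemma comm_pow_of_central {a b : G} (hc : a * b * a⁻¹ * b⁻¹ ∈ Subgroup.center G) (n : ℕ) :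
    a * b ^ n * a⁻¹ * (b ^ n)⁻¹ = (a * b * a⁻¹ * b⁻¹) ^ n := by
  induction n with
  | zero => simp
  | succ n ih =>
    have hcomm : ∀ g : G, g * (a * b * a⁻¹ * b⁻¹) = (a * b * a⁻¹ * b⁻¹) * g :=
      fun g => Subgroup.mem_center_iff.mp hc g
    rw [pow_succ (a * b * a⁻¹ * b⁻¹), ← ih]
    have e1 : a * b ^ (n + 1) * a⁻¹ * (b ^ (n + 1))⁻¹
        = (a * b ^ n * a⁻¹) * (a * b * a⁻¹ * b⁻¹) * (b ^ n)⁻¹ := by
      rw [pow_succ]; group
    rw [e1, mul_assoc (a * b ^ n * a⁻¹), ← hcomm, ← mul_assoc]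

theorem elemAb_of_quot_comm [Finite G] (hna : ¬ IsMulCommutative G)
    (h : ∀ x : G, x ∉ Subgroup.center G → IsCoatom (cz x))
    (hq : IsMulCommutative (G ⧸ Subgroup.center G)) :
    ∃ p : ℕ, p.Prime ∧ Cfsg.IsElementaryAbelian p (⊤ : Subgroup (G ⧸ Subgroup.center G)) := by
  classical
  have hc : ∀ a b : G, a * b * a⁻¹ * b⁻¹ ∈ Subgroup.center G := by
    intro a b
    rw [← QuotientGroup.eq_one_iff]
    simp only [QuotientGroup.mk_mul, QuotientGroup.mk_inv]
    rw [mul_comm' (a : G ⧸ Subgroup.center G) b]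
    group
  have hZle : ∀ x : G, Subgroup.center G ≤ cz x := fun x => Subgroup.center_le_centralizer _
  -- for noncentral `x`: prime `p` with `x ^ p` central
  have key : ∀ x : G, x ∉ Subgroup.center G → ∃ p : ℕ, p.Prime ∧ x ^ p ∈ Subgroup.center G := by
    intro x hx
    have hco := h x hx
    haveI hn : (cz x).Normal := by
      constructor
      intro n hn g
      have : g * n * g⁻¹ = (g * n * g⁻¹ * n⁻¹) * n := by group
      rw [this]
      exact (cz x).mul_mem (hZle x (hc g n)) hn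
    refine ⟨(cz x).index, index_prime_of_normal_coatom hco, ?_⟩
    rw [Subgroup.mem_center_iff]
    intro y
    have hy : y ^ (cz x).index ∈ cz x := Subgroup.pow_index_mem _ y
    have e1 := comm_pow_of_central (hc x y) (cz x).index
    have e2 := comm_pow_of_central (hc y x) (cz x).index
    have e3 : x * y ^ (cz x).index * x⁻¹ * (y ^ (cz x).index)⁻¹ = 1 := by
      rw [mem_cz] at hy
      rw [← hy]; group
    have e4 : y * x * y⁻¹ * x⁻¹ = (x * y * x⁻¹ * y⁻¹)⁻¹ := by group
    rw [e3] at e1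
    rw [e4, inv_pow, ← e1, inv_one] at e2
    have : y * x ^ (cz x).index = (y * x ^ (cz x).index * y⁻¹ * (x ^ (cz x).index)⁻¹) *
        (x ^ (cz x).index * y) := by group
    rw [this, e2, one_mul]
  -- orders in the quotient
  have hord : ∀ y : G ⧸ Subgroup.center G, y ≠ 1 → (orderOf y).Prime := by
    intro y hy
    obtain ⟨x, rfl⟩ := QuotientGroup.mk_surjective y
    have hx : x ∉ Subgroup.center G := fun hx => hy ((QuotientGroup.eq_one_iff x).mpr hx)
    obtain ⟨p, hp, hxp⟩ := key x hx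
    have : (x : G ⧸ Subgroup.center G) ^ p = 1 := by
      rw [← QuotientGroup.mk_pow]
      exact (QuotientGroup.eq_one_iff _).mpr hxp
    have hd := orderOf_dvd_of_pow_eq_one this
    rcases (Nat.dvd_prime hp).mp hd with h1 | h1
    · rw [orderOf_eq_one_iff] at h1
      exact absurd h1 hy
    · rw [h1]; exact hp
  obtain ⟨x₀, hx₀⟩ : ∃ x : G, x ∉ Subgroup.center G := by
    by_contra hcon
    push Not at hcon
    apply hna
    exact ⟨⟨fun a b => (Subgroup.mem_center_iff.mp (hcon b) a)⟩⟩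
  have hx₀1 : (x₀ : G ⧸ Subgroup.center G) ≠ 1 := fun h1 =>
    hx₀ ((QuotientGroup.eq_one_iff x₀).mp h1)
  refine ⟨orderOf (x₀ : G ⧸ Subgroup.center G), hord _ hx₀1, ?_, ?_⟩
  · exact ⟨⟨fun a b => Subtype.ext (mul_comm' a.1 b.1)⟩⟩
  · intro y _
    by_contra hy
    have hy1 : y ≠ 1 := by
      rintro rfl
      exact hy (one_pow _)
    have hne : orderOf y ≠ orderOf (x₀ : G ⧸ Subgroup.center G) := by
      intro heq
      apply hy
      rw [← heq, pow_orderOf_eq_one]
    have hcop : Nat.Coprime (orderOf (x₀ : G ⧸ Subgroup.center G)) (orderOf y) :=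
      (Nat.coprime_primes (hord _ hx₀1) (hord _ hy1)).mpr hne.symm
    have hcm : Commute (x₀ : G ⧸ Subgroup.center G) y := mul_comm' _ _
    have hmul := hcm.orderOf_mul_eq_mul_orderOf_of_coprime hcop
    have hxy1 : (x₀ : G ⧸ Subgroup.center G) * y ≠ 1 := by
      intro h1
      rw [h1, orderOf_one] at hmul
      have := (hord _ hx₀1).one_lt
      have := (hord _ hy1).one_lt
      nlinarith
    have hpr := hord _ hxy1
    rw [hmul] at hpr
    exact Nat.not_prime_mul (hord _ hx₀1).one_lt.ne' (hord _ hy1).one_lt.ne' hpr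

/-- If `G / Z(G)` is not commutative, it has trivial centre and inherits the hypothesis. -/
theorem hypT_quot [Finite G]
    (h : ∀ x : G, x ∉ Subgroup.center G → IsCoatom (cz x))
    (hq : ¬ IsMulCommutative (G ⧸ Subgroup.center G)) :
    HypT (G ⧸ Subgroup.center G) := by
  classical
  obtain ⟨π, hπdef⟩ : ∃ π : G →* G ⧸ Subgroup.center G, π = QuotientGroup.mk' (Subgroup.center G) :=
    ⟨_, rfl⟩
  have hπs : Function.Surjective π := hπdef ▸ QuotientGroup.mk'_surjective _
  have hπ1 : ∀ x : G, π x = 1 ↔ x ∈ Subgroup.center G := by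
    intro x
    rw [hπdef]
    exact QuotientGroup.eq_one_iff x
  -- `L x` : preimage of the centralizer of the image of `x`
  have hczL : ∀ x : G, cz x ≤ (cz (π x)).comap π := by
    intro x g hg
    rw [Subgroup.mem_comap, mem_cz, ← map_mul, ← map_mul, mem_cz.mp hg]
  obtain ⟨Z₂, hZ₂def⟩ : ∃ Z₂ : Subgroup G, Z₂ = (Subgroup.center (G ⧸ Subgroup.center G)).comap π :=
    ⟨_, rfl⟩
  have hZZ₂ : Subgroup.center G ≤ Z₂ := by
    intro z hz
    rw [hZ₂def, Subgroup.mem_comap, (hπ1 z).mpr hz]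
    exact Subgroup.one_mem _
  have hZ₂top : ∃ g₀ : G, g₀ ∉ Z₂ := by
    by_contra hcon
    push Not at hcon
    apply hq
    refine ⟨⟨fun a b => ?_⟩⟩
    obtain ⟨b', rfl⟩ := hπs b
    have := hcon b'
    rw [hZ₂def, Subgroup.mem_comap, Subgroup.mem_center_iff] at this
    exact this a
  obtain ⟨g₀, hg₀⟩ := hZ₂top
  have hL : ∀ x : G, x ∉ Z₂ → (cz (π x)).comap π = cz x := by
    intro x hx
    have hxZ : x ∉ Subgroup.center G := fun hh => hx (hZZ₂ hh)
    have hco := h x hxZ
    by_contra hne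
    have hlt : cz x < (cz (π x)).comap π := lt_of_le_of_ne (hczL x) (Ne.symm hne)
    have htop := hco.2 _ hlt
    apply hx
    rw [hZ₂def, Subgroup.mem_comap, Subgroup.mem_center_iff]
    intro y
    obtain ⟨y', rfl⟩ := hπs y
    have : y' ∈ (cz (π x)).comap π := htop ▸ Subgroup.mem_top y'
    rw [Subgroup.mem_comap, mem_cz] at this
    exact this
  have hZ₂cz : ∀ x : G, x ∉ Z₂ → Z₂ ≤ cz x := by
    intro x hx
    rw [← hL x hx, hZ₂def]
    apply Subgroup.comap_mono
    exact Subgroup.center_le_centralizer _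
  have hZ₂Z : Z₂ ≤ Subgroup.center G := by
    intro z hz
    rw [Subgroup.mem_center_iff]
    intro g
    by_cases hg : g ∈ Z₂
    · have h1 : g₀ * g ∉ Z₂ := by
        intro hh
        apply hg₀
        have := Z₂.mul_mem hh (Z₂.inv_mem hg)
        rwa [mul_inv_cancel_right] at this
      have e1 := mem_cz.mp (hZ₂cz _ h1 hz)
      have e0 := mem_cz.mp (hZ₂cz _ hg₀ hz)
      -- z * (g₀ * g) = (g₀ * g) * z, z * g₀ = g₀ * z
      have : g₀ * (g * z) = g₀ * (z * g) := by
        calc g₀ * (g * z) = (g₀ * g) * z := by group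
          _ = z * (g₀ * g) := e1.symm
          _ = (z * g₀) * g := by group
          _ = (g₀ * z) * g := by rw [e0]
          _ = g₀ * (z * g) := by group
      exact mul_left_cancel this
    · exact (mem_cz.mp (hZ₂cz g hg hz)).symm
  intro y _ hy1
  obtain ⟨x, rfl⟩ := hπs y
  have hxZ : x ∉ Subgroup.center G := fun hh => hy1 ((hπ1 x).mpr hh)
  have hxZ₂ : x ∉ Z₂ := fun hh => hxZ (hZ₂Z hh)
  have hco := h x hxZ
  have e1 : cz (π x) = (cz x).map π := by
    rw [← hL x hxZ₂, Subgroup.map_comap_eq_self_of_surjective hπs]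
  rw [e1, hπdef]
  exact Cfsg.Agent.Helper1.isCoatom_map_mk' (Subgroup.center G) (cz x)
    (Subgroup.center_le_centralizer _) hco

theorem centMax_main [Finite G] (hna : ¬ IsMulCommutative G)
    (h : ∀ x : G, x ∉ Subgroup.center G → IsCoatom (Subgroup.centralizer ({x} : Set G))) :
    (∃ p : ℕ, p.Prime ∧ Cfsg.IsElementaryAbelian p (⊤ : Subgroup (G ⧸ Subgroup.center G))) ∨
    (¬ IsMulCommutative (G ⧸ Subgroup.center G) ∧
      (∀ H : Subgroup (G ⧸ Subgroup.center G), H ≠ ⊤ → IsMulCommutative ↥H) ∧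
      ∃ p q a : ℕ, p.Prime ∧ q.Prime ∧ p ≠ q ∧ Nat.card (G ⧸ Subgroup.center G) = p ^ a * q ∧
        ∀ P : Subgroup (G ⧸ Subgroup.center G), Nat.card ↥P = p ^ a → P.Normal) := by
  by_cases hq : IsMulCommutative (G ⧸ Subgroup.center G)
  · exact Or.inl (elemAb_of_quot_comm hna h hq)
  · right
    have hT := hypT_quot h hq
    haveI : Nontrivial (G ⧸ Subgroup.center G) := by
      by_contra hnt
      rw [not_nontrivial_iff_subsingleton] at hnt
      exact hq ⟨⟨fun a b => Subsingleton.elim _ _⟩⟩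
    exact minNonab_of_hypT hT

end Cfsg.Agent.Helper1.CentMax
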