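import Mathlib
import Cfsg.Agent.Helper1.CentMax
import Cfsg.Agent.Helper1.Frobenius
import Cfsg.Agent.Helper1.FrobKernelNilp

/-!
# An internal criterion: self-normalizing nilpotent centralizers

A finite group `H` in which, for every `x ≠ 1`, the centralizer `C(x)` is self-normalizing and is
either "isolated" (all its nontrivial elements have the same centralizer) or of prime exponent,
is abelian.
-/

set_option autoImplicit false

namespace Cfsg.Agent.Helper1.CentMax

open scoped Pointwise

universe u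

variable {H : Type u} [Group H]

/-- normalizers grow in `p`-groups -/
lemma exists_normalizer_of_lt_pgroup [Finite H] {p : ℕ} [Fact p.Prime] {A B : Subgroup H}
    (hB : IsPGroup p B) (hlt : A < B) :
    ∃ n ∈ B, n ∉ A ∧ n ∈ Subgroup.normalizer (A : Set H) := by
  haveI : Group.IsNilpotent B := hB.isNilpotent
  have hnc : NormalizerCondition B := Group.normalizerCondition_of_isNilpotent
  have h1 : A.subgroupOf B < ⊤ := by
    rw [lt_top_iff_ne_top, Ne, Subgroup.subgroupOf_eq_top]
    exact not_le_of_gt hlt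
  obtain ⟨n, hn, hnA⟩ := SetLike.exists_of_lt (hnc _ h1)
  refine ⟨n.1, n.2, fun h => hnA (Subgroup.mem_subgroupOf.mpr h), ?_⟩
  rw [Subgroup.mem_normalizer_iff] at hn ⊢
  intro h
  constructor
  · intro hh
    have := (hn ⟨h, hlt.le hh⟩).mp (Subgroup.mem_subgroupOf.mpr hh)
    exact Subgroup.mem_subgroupOf.mp this
  · intro hh
    have hhB : h ∈ B := by
      have h1 : n.1 * h * n.1⁻¹ ∈ B := hlt.le hh
      have : h = n.1⁻¹ * (n.1 * h * n.1⁻¹) * n.1 := by group
      rw [this]
      exact B.mul_mem (B.mul_mem (B.inv_mem n.2) h1) n.2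
    have := (hn ⟨h, hhB⟩).mpr (Subgroup.mem_subgroupOf.mpr hh)
    exact Subgroup.mem_subgroupOf.mp this

lemma cz_conj (n x : H) : cz (n * x * n⁻¹) = MulAut.conj n • cz x := by
  ext g
  rw [Subgroup.mem_pointwise_smul_iff_inv_smul_mem, mem_cz, mem_cz, MulAut.smul_def,
    ← map_inv, MulAut.conj_apply, inv_inv]
  constructor
  · intro h
    have : n⁻¹ * (g * (n * x * n⁻¹)) * n = n⁻¹ * ((n * x * n⁻¹) * g) * n := by rw [h]
    calc n⁻¹ * g * n * x = n⁻¹ * (g * (n * x * n⁻¹)) * n := by group
      _ = n⁻¹ * ((n * x * n⁻¹) * g) * n := this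
      _ = x * (n⁻¹ * g * n) := by group
  · intro h
    calc g * (n * x * n⁻¹) = n * ((n⁻¹ * g * n) * x) * n⁻¹ := by group
      _ = n * (x * (n⁻¹ * g * n)) * n⁻¹ := by rw [h]
      _ = n * x * n⁻¹ * g := by group

/-- the two types of centralizers -/
def IntHyp (H : Type u) [Group H] : Prop :=
  ∀ x : H, x ≠ 1 → Subgroup.normalizer (cz x : Set H) = cz x ∧
    ((∀ y ∈ cz x, y ≠ 1 → cz y = cz x) ∨ (∃ p : ℕ, p.Prime ∧ ∀ u ∈ cz x, u ^ p = 1))

lemma isPGroup_of_exponent {p : ℕ} {A : Subgroup H} (h : ∀ u ∈ A, u ^ p = 1) : IsPGroup p A := by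
  intro y
  refine ⟨1, ?_⟩
  apply Subtype.ext
  rw [pow_one, Subgroup.coe_pow, Subgroup.coe_one]
  exact h y.1 y.2

/-- Step 1: the centre is trivial in a nonabelian group satisfying `IntHyp`. -/
lemma intHyp_center [Finite H] (h : IntHyp H) (hna : ∃ a b : H, a * b ≠ b * a) :
    ∀ z : H, (∀ g : H, g * z = z * g) → z = 1 := by
  intro z hz
  by_contra hz1
  obtain ⟨a, b, hab⟩ := hna
  have hcz : cz z = ⊤ := by
    rw [eq_top_iff]
    intro g _
    rw [mem_cz]
    exact hz g
  obtain ⟨-, h1 | ⟨p, hp, hexp⟩⟩ := h z hz1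
  · have ha1 : a ≠ 1 := by
      rintro rfl
      exact hab (by rw [one_mul, mul_one])
    have := h1 a (hcz ▸ Subgroup.mem_top a) ha1
    rw [hcz] at this
    apply hab
    have hb : b ∈ cz a := this ▸ Subgroup.mem_top b
    exact (mem_cz.mp hb).symm
  · haveI : Fact p.Prime := ⟨hp⟩
    have hP : IsPGroup p (⊤ : Subgroup H) := isPGroup_of_exponent (fun u _ => hexp u (hcz ▸ Subgroup.mem_top u))
    have ha1 : a ≠ 1 := by
      rintro rfl
      exact hab (by rw [one_mul, mul_one])
    have hlt : cz a < ⊤ := by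
      rw [lt_top_iff_ne_top]
      intro htop
      apply hab
      have hb : b ∈ cz a := htop ▸ Subgroup.mem_top b
      exact (mem_cz.mp hb).symm
    obtain ⟨n, -, hn, hnn⟩ := exists_normalizer_of_lt_pgroup hP hlt
    rw [(h a ha1).1] at hnn
    exact hn hnn

/-- Step 2(i): in an abelian centralizer all nontrivial elements have the same centralizer. -/
lemma intHyp_abelian_cz [Finite H] (h : IntHyp H) {x : H} (hx1 : x ≠ 1)
    (hab : ∀ a ∈ cz x, ∀ b ∈ cz x, a * b = b * a) {y : H} (hy : y ∈ cz x) (hy1 : y ≠ 1) :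
    cz y = cz x := by
  obtain ⟨hN, h1 | ⟨p, hp, hexp⟩⟩ := h x hx1
  · exact h1 y hy hy1
  · have hle : cz x ≤ cz y := by
      intro g hg
      rw [mem_cz]
      exact hab g hg y hy
    obtain ⟨-, h2 | ⟨p', hp', hexp'⟩⟩ := h y hy1
    · exact (h2 x (mem_cz_comm.mp hy) hx1).symm
    · have hpp : p' = p := by
        have h1 := orderOf_dvd_of_pow_eq_one (hexp y hy)
        have h2 := orderOf_dvd_of_pow_eq_one (hexp' y (self_mem_cz y))
        have h3 : orderOf y ≠ 1 := by rwa [Ne, orderOf_eq_one_iff]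
        have e1 : orderOf y = p := ((Nat.dvd_prime hp).mp h1).resolve_left h3
        have e2 : orderOf y = p' := ((Nat.dvd_prime hp').mp h2).resolve_left h3
        rw [← e1, ← e2]
      subst hpp
      haveI : Fact p'.Prime := ⟨hp'⟩
      by_contra hne
      have hlt : cz x < cz y := lt_of_le_of_ne hle (Ne.symm hne)
      obtain ⟨n, -, hn, hnn⟩ := exists_normalizer_of_lt_pgroup (isPGroup_of_exponent hexp') hlt
      rw [hN] at hnn
      exact hn hnn

/-- Step 2: no centralizer of a nontrivial element is abelian (in a nonabelian group). -/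
lemma intHyp_no_abelian_cz [Finite H] (h : IntHyp H) (hna : ∃ a b : H, a * b ≠ b * a) {x : H}
    (hx1 : x ≠ 1) (hab : ∀ a ∈ cz x, ∀ b ∈ cz x, a * b = b * a) : False := by
  classical
  have hZ := intHyp_center h hna
  have hsame : ∀ y ∈ cz x, y ≠ 1 → cz y = cz x :=
    fun y hy hy1 => intHyp_abelian_cz h hx1 hab hy hy1
  have hN := (h x hx1).1
  have hxtop : cz x ≠ ⊤ := by
    intro ht
    apply hx1
    apply hZ
    intro g
    have : g ∈ cz x := ht ▸ Subgroup.mem_top g
    exact mem_cz.mp this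
  -- centralizers of elements of conjugates
  have hconj : ∀ (n u : H), u ≠ 1 → u ∈ MulAut.conj n • cz x → cz u = MulAut.conj n • cz x := by
    intro n u hu1 hu
    rw [Subgroup.mem_pointwise_smul_iff_inv_smul_mem, MulAut.smul_def, ← map_inv,
      MulAut.conj_apply, inv_inv] at hu
    have hu1' : n⁻¹ * u * n ≠ 1 := by
      intro h1
      apply hu1
      have : u = n * (n⁻¹ * u * n) * n⁻¹ := by group
      rw [this, h1, mul_one, mul_inv_cancel]
    have e1 := hsame _ hu hu1'
    have e2 := cz_conj n (n⁻¹ * u * n)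
    have e3 : n * (n⁻¹ * u * n) * n⁻¹ = u := by group
    rw [e3, e1] at e2
    exact e2
  have hF : Cfsg.IsFrobeniusComplement (cz x) := by
    refine ⟨?_, hxtop, ?_⟩
    · intro hb
      have := self_mem_cz x
      rw [hb, Subgroup.mem_bot] at this
      exact hx1 this
    · intro n hn
      rw [eq_bot_iff]
      intro y hy
      rw [Subgroup.mem_inf] at hy
      rw [Subgroup.mem_bot]
      by_contra hy1
      have e1 := hsame y hy.1 hy1
      have e2 := hconj n y hy1 hy.2
      rw [e1] at e2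
      apply hn
      rw [← hN, Subgroup.mem_normalizer_iff]
      intro g
      constructor
      · intro hg
        have : MulAut.conj n • g ∈ MulAut.conj n • cz x :=
          Subgroup.smul_mem_pointwise_smul_iff.mpr hg
        rw [← e2, MulAut.smul_def, MulAut.conj_apply] at this
        exact this
      · intro hg
        have : MulAut.conj n • g ∈ MulAut.conj n • cz x := by
          rw [← e2, MulAut.smul_def, MulAut.conj_apply]
          exact hg
        exact Subgroup.smul_mem_pointwise_smul_iff.mp this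
  obtain ⟨K, hKset, hKn, hKnil⟩ := Cfsg.Agent.Helper1.frobenius_kernel_nilpotent (cz x) hF
  haveI := hKn
  haveI := hKnil
  have hmemK : ∀ u : H, u ∈ K ↔ (u = 1 ∨ ∀ g : H, u ∉ MulAut.conj g • cz x) := by
    intro u
    rw [← SetLike.mem_coe, hKset]
    rfl
  have hKcard : Nat.card K = (cz x).index := by
    rw [← (Cfsg.Agent.Helper1.frobenius_count (cz x) hF).1, ← hKset]
    rfl
  have hKbot : K ≠ ⊥ := by
    intro hb
    rw [hb, Subgroup.card_bot] at hKcard
    exact hxtop (Subgroup.index_eq_one.mp hKcard.symm)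
  haveI : Nontrivial K := (Subgroup.nontrivial_iff_ne_bot K).mpr hKbot
  have hcen : Subgroup.center K ≠ ⊥ := Group.IsNilpotent.center_ne_bot K
  obtain ⟨k, hk, hk1⟩ := (Subgroup.ne_bot_iff_exists_ne_one.mp hcen |> fun ⟨z, hz⟩ =>
    (⟨z.1, z.2, fun h1 => hz (Subtype.ext h1)⟩ : ∃ k ∈ Subgroup.center K, k ≠ 1))
  have hkK : (k : H) ∈ K := k.2
  have hk1' : (k : H) ≠ 1 := fun h1 => hk1 (Subtype.ext h1)
  have hKle : K ≤ cz (k : H) := by
    intro u hu
    rw [mem_cz]
    have := Subgroup.mem_center_iff.mp hk ⟨u, hu⟩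
    exact congrArg Subtype.val this
  have hle : cz (k : H) ≤ K := by
    intro u hu
    by_contra huK
    rw [hmemK] at huK
    push Not at huK
    obtain ⟨hu1, n, hun⟩ := huK
    have e := hconj n u hu1 hun
    have hku : (k : H) ∈ cz u := mem_cz_comm.mp hu
    rw [e] at hku
    rcases (hmemK k).mp hkK with h1 | h1
    · exact hk1' h1
    · exact h1 n hku
  have heq : cz (k : H) = K := le_antisymm hle hKle
  have hNk := (h (k : H) hk1').1
  rw [heq, Subgroup.normalizer_eq_top] at hNk
  -- `x ∉ K`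
  have hxK : x ∈ K := hNk ▸ Subgroup.mem_top x
  rcases (hmemK x).mp hxK with h1 | h1
  · exact hx1 h1
  · apply h1 1
    rw [map_one, one_smul]
    exact self_mem_cz x

end Cfsg.Agent.Helper1.CentMax
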