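import Mathlib
import Cfsg.Agent.Helper1.CentMaxE

/-!
# The internal criterion: the counting argument
-/

set_option autoImplicit false

namespace Cfsg.Agent.Helper1.CentMax

open scoped Pointwise

universe u

variable {H : Type u} [Group H]

/-- telescoping bound for `∑ 1/k²` -/
lemma sum_inv_sq_le (n : ℕ) (hn : 1 ≤ n) :
    ∑ k ∈ Finset.Icc 2 n, (1 : ℚ) / ((k : ℚ) ^ 2) ≤ 1 - 1 / (n : ℚ) := by
  induction n, hn using Nat.le_induction with
  | base => simp
  | succ n hn ih =>
    rw [Finset.sum_Icc_succ_top (by omega)]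
    have hn0 : (0 : ℚ) < n := by exact_mod_cast hn
    have h1 : (1 : ℚ) / (((n + 1 : ℕ) : ℚ) ^ 2) ≤ 1 / (n : ℚ) - 1 / ((n + 1 : ℕ) : ℚ) := by
      push_cast
      rw [div_sub_div _ _ hn0.ne' (by positivity), div_le_div_iff₀ (by positivity) (by positivity)]
      nlinarith
    linarith

/-- the arithmetic contradiction -/
lemma arith_contra (n : ℕ) (hn : 2 ≤ n) (A : ℕ → ℕ)
    (hA : ∀ p ∈ n.primeFactors, (A p + 1) * p ^ 2 ≤ n) :
    ∑ p ∈ n.primeFactors, A p < n - 1 := by
  have hne : n.primeFactors.Nonempty := by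
    rw [Nat.nonempty_primeFactors]
    omega
  have h1 : ∀ p ∈ n.primeFactors, ((A p : ℚ) + 1) ≤ (n : ℚ) * (1 / (p : ℚ) ^ 2) := by
    intro p hp
    have hp0 : (0 : ℚ) < (p : ℚ) ^ 2 := by
      have := (Nat.prime_of_mem_primeFactors hp).pos
      positivity
    rw [mul_one_div, le_div_iff₀ hp0]
    exact_mod_cast hA p hp
  have h2 : ∑ p ∈ n.primeFactors, ((A p : ℚ) + 1) ≤
      (n : ℚ) * ∑ p ∈ n.primeFactors, (1 / (p : ℚ) ^ 2) := by
    rw [Finset.mul_sum]
    exact Finset.sum_le_sum h1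
  have h3 : ∑ p ∈ n.primeFactors, (1 / (p : ℚ) ^ 2) ≤
      ∑ k ∈ Finset.Icc 2 n, (1 : ℚ) / ((k : ℚ) ^ 2) := by
    apply Finset.sum_le_sum_of_subset_of_nonneg
    · intro p hp
      rw [Finset.mem_Icc]
      exact ⟨(Nat.prime_of_mem_primeFactors hp).two_le,
        Nat.le_of_dvd (by omega) (Nat.dvd_of_mem_primeFactors hp)⟩
    · intro k _ _
      positivity
  have h4 := sum_inv_sq_le n (by omega)
  have hn0 : (0 : ℚ) < n := by exact_mod_cast (by omega : 0 < n)
  have h5 : (n : ℚ) * ∑ p ∈ n.primeFactors, (1 / (p : ℚ) ^ 2) ≤ (n : ℚ) - 1 := by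
    calc (n : ℚ) * ∑ p ∈ n.primeFactors, (1 / (p : ℚ) ^ 2)
        ≤ (n : ℚ) * (1 - 1 / (n : ℚ)) := by
          apply mul_le_mul_of_nonneg_left (h3.trans h4) hn0.le
      _ = (n : ℚ) - 1 := by field_simp
  rw [Finset.sum_add_distrib, Finset.sum_const, nsmul_eq_mul, mul_one] at h2
  have hc : (1 : ℚ) ≤ (n.primeFactors.card : ℚ) := by
    exact_mod_cast hne.card_pos
  have h6 : (∑ p ∈ n.primeFactors, (A p : ℚ)) < (n : ℚ) - 1 := by linarith
  have h7 : ((∑ p ∈ n.primeFactors, A p : ℕ) : ℚ) < ((n - 1 : ℕ) : ℚ) := by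
    rw [Nat.cast_sum, Nat.cast_sub (by omega)]
    simpa using h6
  exact_mod_cast h7

/-- centre of a subgroup, as a subgroup of the ambient group -/
def zc (P : Subgroup H) : Subgroup H := P ⊓ Subgroup.centralizer (P : Set H)

lemma mem_zc {P : Subgroup H} {z : H} : z ∈ zc P ↔ z ∈ P ∧ ∀ g ∈ P, g * z = z * g := by
  rw [zc, Subgroup.mem_inf, Subgroup.mem_centralizer_iff]
  rfl

lemma card_zc (P : Subgroup H) : Nat.card (zc P) = Nat.card (Subgroup.center P) := by
  have : zc P = (Subgroup.center P).map P.subtype := by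
    ext z
    rw [mem_zc, Subgroup.mem_map]
    constructor
    · rintro ⟨hz, hc⟩
      exact ⟨⟨z, hz⟩, Subgroup.mem_center_iff.mpr (fun g => Subtype.ext (hc g.1 g.2)), rfl⟩
    · rintro ⟨w, hw, rfl⟩
      exact ⟨w.2, fun g hg => congrArg Subtype.val (Subgroup.mem_center_iff.mp hw ⟨g, hg⟩)⟩
  rw [this]
  exact Subgroup.card_map_of_injective P.subtype_injective

lemma card_zc_mul_sq_le [Finite H] {p : ℕ} [hp : Fact p.Prime] {P : Subgroup H} (hP : IsPGroup p P)
    (hna : ∃ a ∈ P, ∃ b ∈ P, a * b ≠ b * a) : Nat.card (zc P) * p ^ 2 ≤ Nat.card P := by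
  rw [card_zc]
  obtain ⟨k, hk⟩ := hP.index (Subgroup.center P)
  have hmul := (Subgroup.center P).card_mul_index
  rw [hk] at hmul
  rw [← hmul]
  apply Nat.mul_le_mul_left
  apply Nat.pow_le_pow_right hp.out.pos
  by_contra hk2
  push Not at hk2
  have hcard : Nat.card (P ⧸ Subgroup.center P) = p ^ k := hk
  have hcyc : IsCyclic (P ⧸ Subgroup.center P) := by
    interval_cases k
    · have : Subsingleton (P ⧸ Subgroup.center P) :=
        (Nat.card_eq_one_iff_unique.mp (by simpa using hcard)).1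
      exact isCyclic_of_subsingleton
    · exact isCyclic_of_prime_card (p := p) (by simpa using hcard)
  obtain ⟨a, ha, b, hb, hab⟩ := hna
  apply hab
  have hcm : IsMulCommutative P :=
    MonoidHom.isMulCommutative_of_isCyclic_of_ker_le_center
      (QuotientGroup.mk' (Subgroup.center P)) (by rw [QuotientGroup.ker_mk'])
  have := hcm.is_comm.comm (⟨a, ha⟩ : P) ⟨b, hb⟩
  exact congrArg Subtype.val this

/-- the hypothesis that no centralizer is abelian -/
def NoAbCz (H : Type u) [Group H] : Prop :=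
  ∀ x : H, x ≠ 1 → ¬ ∀ a ∈ cz x, ∀ b ∈ cz x, a * b = b * a

lemma intHyp_prime_exp [Finite H] (h : IntHyp H) (hnab : NoAbCz H) {x : H} (hx1 : x ≠ 1) :
    (orderOf x).Prime ∧ ∀ u ∈ cz x, u ^ orderOf x = 1 := by
  obtain ⟨-, h1 | ⟨p, hp, hexp⟩⟩ := h x hx1
  · exfalso
    apply hnab x hx1
    intro a ha b hb
    by_cases ha1 : a = 1
    · rw [ha1, one_mul, mul_one]
    · have := h1 a ha ha1
      have hb' : b ∈ cz a := this ▸ hb
      exact (mem_cz.mp hb').symm
  · have h1 := orderOf_dvd_of_pow_eq_one (hexp x (self_mem_cz x))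
    have h3 : orderOf x ≠ 1 := by rwa [Ne, orderOf_eq_one_iff]
    have e1 : orderOf x = p := ((Nat.dvd_prime hp).mp h1).resolve_left h3
    rw [e1]
    exact ⟨hp, hexp⟩

lemma intHyp_sylow [Finite H] (h : IntHyp H) (hnab : NoAbCz H) {x : H} (hx1 : x ≠ 1) {p : ℕ}
    [Fact p.Prime] (hxp : orderOf x = p) : ∃ P : Sylow p H, (P : Subgroup H) = cz x := by
  obtain ⟨hpr, hexp⟩ := intHyp_prime_exp h hnab hx1
  rw [hxp] at hexp
  have hP : IsPGroup p (cz x) := isPGroup_of_exponent hexp
  obtain ⟨P, hle⟩ := hP.exists_le_sylow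
  refine ⟨P, ?_⟩
  by_contra hne
  have hlt : cz x < (P : Subgroup H) := lt_of_le_of_ne hle (Ne.symm hne)
  obtain ⟨n, -, hn, hnn⟩ := exists_normalizer_of_lt_pgroup P.isPGroup' hlt
  rw [(h x hx1).1] at hnn
  exact hn hnn

lemma intHyp_sylow_eq_cz [Finite H] (h : IntHyp H) (hnab : NoAbCz H) {p : ℕ} [hp : Fact p.Prime]
    (P : Sylow p H) (hP : (P : Subgroup H) ≠ ⊥) :
    ∃ z : H, z ≠ 1 ∧ cz z = (P : Subgroup H) := by
  haveI : Nontrivial (P : Subgroup H) := (Subgroup.nontrivial_iff_ne_bot _).mpr hP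
  have hcen := P.isPGroup'.center_nontrivial
  obtain ⟨z, hz, hz1⟩ := (Subgroup.ne_bot_iff_exists_ne_one.mp
    ((Subgroup.nontrivial_iff_ne_bot _).mp hcen) |> fun ⟨z, hz⟩ =>
    (⟨z.1, z.2, fun h1 => hz (Subtype.ext h1)⟩ : ∃ k ∈ Subgroup.center (P : Subgroup H), k ≠ 1))
  have hz1' : (z : H) ≠ 1 := fun h1 => hz1 (Subtype.ext h1)
  refine ⟨z, hz1', ?_⟩
  have hle : (P : Subgroup H) ≤ cz (z : H) := by
    intro u hu
    rw [mem_cz]
    exact congrArg Subtype.val (Subgroup.mem_center_iff.mp hz ⟨u, hu⟩)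
  obtain ⟨hpr, hexp⟩ := intHyp_prime_exp h hnab hz1'
  -- the order of `z` is `p`
  have hzp : orderOf (z : H) = p := by
    obtain ⟨k, hk⟩ := P.isPGroup' z
    have h1 : orderOf (z : H) ∣ p ^ k := by
      apply orderOf_dvd_of_pow_eq_one
      have := congrArg Subtype.val hk
      simpa using this
    exact (Nat.prime_dvd_prime_iff_eq hpr hp.out).mp (hpr.dvd_of_dvd_pow h1)
  rw [hzp] at hexp
  have hQ : IsPGroup p (cz (z : H)) := isPGroup_of_exponent hexp
  exact P.is_maximal' hQ hle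

lemma intHyp_count_prime [Finite H] (h : IntHyp H) (hnab : NoAbCz H) {p : ℕ}
    (hp : p ∈ (Nat.card H).primeFactors) :
    (Nat.card {x : H // orderOf x = p} + 1) * p ^ 2 ≤ Nat.card H := by
  classical
  haveI : Fintype H := Fintype.ofFinite H
  have hpp : p.Prime := Nat.prime_of_mem_primeFactors hp
  haveI : Fact p.Prime := ⟨hpp⟩
  have hpd : p ∣ Nat.card H := Nat.dvd_of_mem_primeFactors hp
  haveI : Fintype (Sylow p H) := Fintype.ofFinite _
  obtain ⟨a, ha⟩ : ∃ a : ℕ, a = (Nat.card H).factorization p := ⟨_, rfl⟩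
  have hcardP : ∀ P : Sylow p H, Nat.card P = p ^ a := fun P => ha ▸ P.card_eq_multiplicity
  -- every Sylow `p`-subgroup is a nonabelian centralizer
  have hzcP : ∀ P : Sylow p H, Nat.card (zc (P : Subgroup H)) * p ^ 2 ≤ p ^ a := by
    intro P
    obtain ⟨z, hz1, hz⟩ := intHyp_sylow_eq_cz h hnab P (P.ne_bot_of_dvd_card hpd)
    rw [← hcardP P]
    apply card_zc_mul_sq_le P.isPGroup'
    have := hnab z hz1
    push Not at this
    obtain ⟨a, ha, b, hb, hab⟩ := this
    exact ⟨a, hz ▸ ha, b, hz ▸ hb, hab⟩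
  obtain ⟨P₀⟩ : Nonempty (Sylow p H) := inferInstance
  have ha2 : 2 ≤ a := by
    have h1 := hzcP P₀
    have h2 : 1 ≤ Nat.card (zc (P₀ : Subgroup H)) := Nat.card_pos
    have h3 : p ^ 2 ≤ p ^ a := by nlinarith
    exact (Nat.pow_le_pow_iff_right hpp.one_lt).mp h3
  obtain ⟨t, ht⟩ : ∃ t : ℕ, t = p ^ (a - 2) := ⟨_, rfl⟩
  have hpa : p ^ a = t * p ^ 2 := by
    rw [ht, ← pow_add]
    congr 1
    omega
  have ht1 : 1 ≤ t := by rw [ht]; exact Nat.one_le_pow _ _ hpp.pos
  have hzcP' : ∀ P : Sylow p H, Nat.card (zc (P : Subgroup H)) ≤ t := by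
    intro P
    have := hzcP P
    rw [hpa] at this
    exact Nat.le_of_mul_le_mul_right this (pow_pos hpp.pos 2)
  -- finsets
  let S : Finset H := Finset.univ.filter (fun x => orderOf x = p)
  let ZP : Sylow p H → Finset H := fun P =>
    Finset.univ.filter (fun z => z ∈ zc (P : Subgroup H) ∧ z ≠ 1)
  have hScard : Nat.card {x : H // orderOf x = p} = S.card :=
    Nat.subtype_card S (fun x => by simp [S])
  have hZP : ∀ P : Sylow p H, (ZP P).card + 1 ≤ t := by
    intro P
    refine le_trans ?_ (hzcP' P)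
    have h1 : Nat.card (zc (P : Subgroup H)) =
        (Finset.univ.filter (fun z : H => z ∈ zc (P : Subgroup H))).card :=
      Nat.subtype_card _ (fun x => by simp)
    rw [h1]
    have h2 : insert 1 (ZP P) ⊆ Finset.univ.filter (fun z : H => z ∈ zc (P : Subgroup H)) := by
      intro z hz
      rw [Finset.mem_insert] at hz
      rw [Finset.mem_filter]
      refine ⟨Finset.mem_univ _, ?_⟩
      rcases hz with rfl | hz
      · exact Subgroup.one_mem _
      · exact (Finset.mem_filter.mp hz).2.1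
    have h3 : (insert 1 (ZP P)).card = (ZP P).card + 1 := by
      apply Finset.card_insert_of_notMem
      intro h1
      exact (Finset.mem_filter.mp h1).2.2 rfl
    rw [← h3]
    exact Finset.card_le_card h2
  have hsub : S ⊆ (Finset.univ : Finset (Sylow p H)).biUnion ZP := by
    intro x hx
    have hxp : orderOf x = p := (Finset.mem_filter.mp hx).2
    have hx1 : x ≠ 1 := by
      rintro rfl
      rw [orderOf_one] at hxp
      exact hpp.one_lt.ne hxp
    obtain ⟨P, hP⟩ := intHyp_sylow h hnab hx1 hxp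
    rw [Finset.mem_biUnion]
    refine ⟨P, Finset.mem_univ _, ?_⟩
    rw [Finset.mem_filter]
    refine ⟨Finset.mem_univ _, ?_, hx1⟩
    rw [mem_zc, hP]
    exact ⟨self_mem_cz x, fun g hg => mem_cz.mp hg⟩
  have hS1 : S.card ≤ Fintype.card (Sylow p H) * (t - 1) := by
    calc S.card ≤ ((Finset.univ : Finset (Sylow p H)).biUnion ZP).card := Finset.card_le_card hsub
      _ ≤ ∑ P : Sylow p H, (ZP P).card := Finset.card_biUnion_le
      _ ≤ ∑ _P : Sylow p H, (t - 1) := Finset.sum_le_sum (fun P _ => by have := hZP P; omega)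
      _ = Fintype.card (Sylow p H) * (t - 1) := by
        rw [Finset.sum_const, Finset.card_univ, smul_eq_mul]
  obtain ⟨m, hm⟩ : ∃ m : ℕ, m = (P₀ : Subgroup H).index := ⟨_, rfl⟩
  have hsm : Fintype.card (Sylow p H) ≤ m := by
    rw [hm, Fintype.card_eq_nat_card]
    apply Nat.le_of_dvd
    · exact Nat.pos_of_ne_zero Subgroup.index_ne_zero_of_finite
    · exact P₀.card_dvd_index
  have hmn : m * p ^ a = Nat.card H := by
    rw [hm, ← hcardP P₀, mul_comm]
    exact (P₀ : Subgroup H).card_mul_index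
  have hm1 : 1 ≤ m := by
    rw [hm]
    exact Nat.pos_of_ne_zero Subgroup.index_ne_zero_of_finite
  rw [hScard, ← hmn, hpa, ← mul_assoc]
  apply Nat.mul_le_mul_right
  calc S.card + 1 ≤ Fintype.card (Sylow p H) * (t - 1) + 1 := by omega
    _ ≤ m * (t - 1) + 1 := by
      have := Nat.mul_le_mul_right (t - 1) hsm
      omega
    _ ≤ m * t := by
      have : m * t = m * (t - 1) + m := by
        rw [← Nat.mul_succ]
        congr 1
        omega
      omega

/-- **Internal criterion.** -/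
theorem intHyp_abelian [Finite H] (h : IntHyp H) : ∀ a b : H, a * b = b * a := by
  classical
  by_contra hna
  push Not at hna
  by_cases hab : ∃ x : H, x ≠ 1 ∧ ∀ a ∈ cz x, ∀ b ∈ cz x, a * b = b * a
  · obtain ⟨x, hx1, hx⟩ := hab
    exact intHyp_no_abelian_cz h hna hx1 hx
  · have hnab : NoAbCz H := fun x hx1 hx => hab ⟨x, hx1, hx⟩
    haveI : Fintype H := Fintype.ofFinite H
    obtain ⟨a, b, hab'⟩ := hna
    have ha1 : a ≠ 1 := by
      rintro rfl
      exact hab' (by rw [one_mul, mul_one])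
    haveI : Nontrivial H := ⟨⟨a, 1, ha1⟩⟩
    have hn : 2 ≤ Nat.card H := Finite.one_lt_card
    have hlt := arith_contra (Nat.card H) hn (fun p => Nat.card {x : H // orderOf x = p})
      (fun p hp => intHyp_count_prime h hnab hp)
    have hsum : ∑ p ∈ (Nat.card H).primeFactors, Nat.card {x : H // orderOf x = p} =
        Nat.card H - 1 := by
      have h1 : (Finset.univ.erase (1 : H)).card = Nat.card H - 1 := by
        rw [Finset.card_erase_of_mem (Finset.mem_univ _), Finset.card_univ,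
          Fintype.card_eq_nat_card]
      rw [← h1]
      have hmaps : ∀ x ∈ Finset.univ.erase (1 : H), orderOf x ∈ (Nat.card H).primeFactors := by
        intro x hx
        have hx1 : x ≠ 1 := Finset.ne_of_mem_erase hx
        rw [Nat.mem_primeFactors]
        exact ⟨(intHyp_prime_exp h hnab hx1).1, orderOf_dvd_natCard x, Nat.card_pos.ne'⟩
      rw [Finset.card_eq_sum_card_fiberwise hmaps]
      apply Finset.sum_congr rfl
      intro p hp
      have hpp : p.Prime := Nat.prime_of_mem_primeFactors hp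
      apply Nat.subtype_card
      intro x
      rw [Finset.mem_filter, Finset.mem_erase]
      constructor
      · exact fun hx => hx.2
      · intro hx
        refine ⟨⟨?_, Finset.mem_univ _⟩, hx⟩
        rintro rfl
        rw [orderOf_one] at hx
        exact hpp.one_lt.ne hx
    rw [hsum] at hlt
    exact lt_irrefl _ hlt

end Cfsg.Agent.Helper1.CentMax
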