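import Mathlib
import Cfsg.Agent.Helper1.CentMaxB
import Cfsg.Agent.Helper1.CentMaxF

/-!
# Centralizers maximal, relative version: the chief factor analysis
-/

set_option autoImplicit false

namespace Cfsg.Agent.Helper1.CentMax

open scoped Pointwise

universe u

variable {G : Type u} [Group G]

/-- The context for the relative theorem. -/
structure RelCtx (N V : Subgroup G) (p : ℕ) : Prop where
  hyp : Hyp N
  nN : N.Normal
  zN : ∀ x ∈ N, (∀ n ∈ N, n * x = x * n) → x = 1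
  nV : V.Normal
  VN : V ≤ N
  V1 : V ≠ ⊥
  Vab : ∀ a ∈ V, ∀ b ∈ V, a * b = b * a
  pp : p.Prime
  Vexp : ∀ a ∈ V, a ^ p = 1

namespace RelCtx

variable {N V : Subgroup G} {p : ℕ}

lemma exists_not_mem_cz (c : RelCtx N V p) {x : G} (hx : x ∈ N) (hx1 : x ≠ 1) :
    ∃ n ∈ N, n ∉ cz x := by
  by_contra hcon
  push Not at hcon
  exact hx1 (c.zN x hx (fun n hn => mem_cz.mp (hcon n hn)))

lemma V_le_cz (c : RelCtx N V p) {v : G} (hv : v ∈ V) : V ≤ cz v := by
  intro x hx
  rw [mem_cz]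
  exact c.Vab x hx v hv

lemma orderOf_V (c : RelCtx N V p) {v : G} (hv : v ∈ V) (hv1 : v ≠ 1) : orderOf v = p := by
  have h1 := orderOf_dvd_of_pow_eq_one (c.Vexp v hv)
  have h3 : orderOf v ≠ 1 := by rwa [Ne, orderOf_eq_one_iff]
  exact ((Nat.dvd_prime c.pp).mp h1).resolve_left h3

lemma exists_V_ne_one (c : RelCtx N V p) : ∃ v ∈ V, v ≠ 1 := by
  obtain ⟨x, hx⟩ := Subgroup.ne_bot_iff_exists_ne_one.mp c.V1
  exact ⟨x.1, x.2, fun h1 => hx (Subtype.ext h1)⟩

/-- commuting elements of `N` of different orders have equal centralizers -/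
lemma cz_eq_of_order_ne [Finite G] (c : RelCtx N V p) {a b : G} (ha : a ∈ N) (ha1 : a ≠ 1)
    (hb : b ∈ N) (hb1 : b ≠ 1) (hab : a * b = b * a) (hord : orderOf a ≠ orderOf b) :
    cz a = cz b := by
  by_contra hne
  exact hord (orderOf_eq_of_cz_ne c.hyp ha ha1 hb hb1 hab hne)

/-- `U1`: elements of prime order of `C_N(V)` have order `p`. -/
lemma orderOf_centralizer_V [Finite G] (c : RelCtx N V p) {x : G} (hx : x ∈ N)
    (hxV : ∀ v ∈ V, v * x = x * v) (hq : (orderOf x).Prime) : orderOf x = p := by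
  classical
  by_contra hqp
  have hx1 : x ≠ 1 := by
    rintro rfl
    rw [orderOf_one] at hq
    exact Nat.not_prime_one hq
  haveI := c.nN
  haveI := c.nV
  have hVcz : ∀ v ∈ V, v ≠ 1 → cz v = cz x := by
    intro v hv hv1
    apply c.cz_eq_of_order_ne (c.VN hv) hv1 hx hx1 (hxV v hv)
    rw [c.orderOf_V hv hv1]
    exact fun h => hqp h.symm
  obtain ⟨v₀, hv₀, hv₀1⟩ := c.exists_V_ne_one
  obtain ⟨M, hM⟩ : ∃ M : Subgroup G, M = cz x := ⟨_, rfl⟩
  have hMv : ∀ v ∈ V, v ≠ 1 → cz v = M := fun v hv hv1 => hM ▸ hVcz v hv hv1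
  haveI hMn : M.Normal := by
    constructor
    intro m hm g
    have hw : g⁻¹ * v₀ * g ∈ V := by
      have := c.nV.conj_mem v₀ hv₀ g⁻¹
      rwa [inv_inv] at this
    have hw1 : g⁻¹ * v₀ * g ≠ 1 := by
      intro h1
      apply hv₀1
      have : v₀ = g * (g⁻¹ * v₀ * g) * g⁻¹ := by group
      rw [this, h1, mul_one, mul_inv_cancel]
    have hm' : m ∈ cz (g⁻¹ * v₀ * g) := (hMv _ hw hw1).symm ▸ hm
    rw [← hMv v₀ hv₀ hv₀1]
    rw [mem_cz] at hm' ⊢
    calc g * m * g⁻¹ * v₀ = g * (m * (g⁻¹ * v₀ * g)) * g⁻¹ := by group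
      _ = g * ((g⁻¹ * v₀ * g) * m) * g⁻¹ := by rw [hm']
      _ = v₀ * (g * m * g⁻¹) := by group
  obtain ⟨D, hD⟩ : ∃ D : Subgroup G, D = M ⊓ N := ⟨_, rfl⟩
  haveI hDn : D.Normal := hD ▸ inferInstance
  have hDcz : ∀ y ∈ D, y ≠ 1 → cz y = M := by
    intro y hy hy1
    rw [hD, Subgroup.mem_inf] at hy
    by_contra hne
    have hyv : y * v₀ = v₀ * y := by
      have : y ∈ cz v₀ := (hMv v₀ hv₀ hv₀1).symm ▸ hy.1
      exact mem_cz.mp this
    have hyx : y * x = x * y := mem_cz.mp (hM ▸ hy.1)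
    have e1 : orderOf y = orderOf v₀ :=
      orderOf_eq_of_cz_ne c.hyp hy.2 hy1 (c.VN hv₀) hv₀1 hyv (by rwa [hMv v₀ hv₀ hv₀1])
    have e2 : orderOf y = orderOf x :=
      orderOf_eq_of_cz_ne c.hyp hy.2 hy1 hx hx1 hyx (by rwa [← hM])
    rw [c.orderOf_V hv₀ hv₀1] at e1
    exact hqp (e2 ▸ e1)
  obtain ⟨g₀, hg₀N, hg₀M⟩ := c.exists_not_mem_cz hx hx1
  rw [← hM] at hg₀M
  have hg₀1 : g₀ ≠ 1 := fun h1 => hg₀M (h1 ▸ M.one_mem)
  have hco : IsCoatom (cz g₀) := c.hyp g₀ hg₀N hg₀1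
  have hDd : cz g₀ ⊓ D = ⊥ := by
    rw [eq_bot_iff]
    intro y hy
    rw [Subgroup.mem_inf] at hy
    rw [Subgroup.mem_bot]
    by_contra hy1
    apply hg₀M
    rw [← hDcz y hy.2 hy1]
    exact mem_cz_comm.mp hy.1
  have hVD : V ≤ D := by
    rw [hD]
    apply le_inf _ c.VN
    rw [← hMv v₀ hv₀ hv₀1]
    exact c.V_le_cz hv₀
  have hVd : cz g₀ ⊓ V = ⊥ := by
    rw [eq_bot_iff, ← hDd]
    exact inf_le_inf_left _ hVD
  have hsupV : cz g₀ ⊔ V = ⊤ := by
    apply hco.2
    apply lt_of_le_of_ne le_sup_left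
    intro heq
    apply c.V1
    rw [eq_bot_iff, ← hVd]
    apply le_inf _ le_rfl
    rw [heq]
    exact le_sup_right
  have hsupD : cz g₀ ⊔ D = ⊤ := by
    rw [eq_top_iff, ← hsupV]
    exact sup_le_sup_left hVD _
  have e1 := card_mul_card_of_sup_top hVd hsupV
  have e2 := card_mul_card_of_sup_top hDd hsupD
  have hcard : Nat.card D ≤ Nat.card V := by
    rw [← e2] at e1
    exact (Nat.eq_of_mul_eq_mul_left Nat.card_pos e1).ge
  have hDV : V = D := Subgroup.eq_of_le_of_card_ge hVD hcard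
  have hxV' : x ∈ V := by
    rw [hDV, hD, hM]
    exact ⟨self_mem_cz x, hx⟩
  exact hqp (c.orderOf_V hxV' hx1)

/-- The main structural step: given an element `g ∈ N` of prime order `≠ p`. -/
theorem main [Finite G] (c : RelCtx N V p) {g : G} (hg : g ∈ N) (hq : (orderOf g).Prime)
    (hqp : orderOf g ≠ p) :
    g ∉ V ∧ N ≤ V ⊔ Subgroup.zpowers g ∧
      (∀ u ∈ N, u ∉ V → ∀ v ∈ V, u * v = v * u → v = 1) := by
  classical
  haveI := c.nN
  haveI := c.nV
  have hg1 : g ≠ 1 := by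
    rintro rfl
    rw [orderOf_one] at hq
    exact Nat.not_prime_one hq
  have hgC : ¬ ∀ v ∈ V, v * g = g * v := fun hh => hqp (c.orderOf_centralizer_V hg hh hq)
  have hco : IsCoatom (cz g) := c.hyp g hg hg1
  have hgV : g ∉ V := fun hh => hqp (c.orderOf_V hh hg1)
  -- (C1)
  have hVd : cz g ⊓ V = ⊥ := by
    rw [eq_bot_iff]
    intro y hy
    rw [Subgroup.mem_inf] at hy
    rw [Subgroup.mem_bot]
    by_contra hy1
    apply hgC
    have e : cz y = cz g := by
      apply c.cz_eq_of_order_ne (c.VN hy.2) hy1 hg hg1 (mem_cz.mp hy.1)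
      rw [c.orderOf_V hy.2 hy1]
      exact fun h => hqp h.symm
    intro v hv
    have : v ∈ cz g := e ▸ c.V_le_cz hy.2 hv
    exact mem_cz.mp this
  -- (C2)
  have hsup : cz g ⊔ V = ⊤ := by
    apply hco.2
    apply lt_of_le_of_ne le_sup_left
    intro heq
    apply c.V1
    rw [eq_bot_iff, ← hVd]
    apply le_inf _ le_rfl
    rw [heq]
    exact le_sup_right
  have hdec : ∀ x : G, ∃ m ∈ cz g, ∃ v ∈ V, x = m * v := by
    intro x
    have hx : x ∈ (cz g ⊔ V : Subgroup G) := hsup ▸ Subgroup.mem_top x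
    rw [← SetLike.mem_coe, Subgroup.mul_normal] at hx
    obtain ⟨m, hm, v, hv, hxv⟩ := hx
    exact ⟨m, hm, v, hv, hxv.symm⟩
  -- (C3)
  have hC : ∀ x ∈ N, (∀ v ∈ V, v * x = x * v) → x ∈ V := by
    intro x hx hxV
    obtain ⟨m, hm, v, hv, rfl⟩ := hdec x
    have hmN : m ∈ N := by
      have := N.mul_mem hx (N.inv_mem (c.VN hv))
      rwa [mul_inv_cancel_right] at this
    have hmV : ∀ w ∈ V, w * m = m * w := by
      intro w hw
      have h1 := hxV w hw
      have h2 := c.Vab w hw v hv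
      -- w * (m * v) = (m * v) * w, w * v = v * w
      have : w * m * v = m * w * v := by
        calc w * m * v = w * (m * v) := by group
          _ = m * v * w := h1
          _ = m * (v * w) := by group
          _ = m * (w * v) := by rw [h2]
          _ = m * w * v := by group
      exact mul_right_cancel this
    by_cases hm1 : m = 1
    · rw [hm1, one_mul]
      exact hv
    exfalso
    have hnd : ¬ orderOf g ∣ orderOf m := by
      intro hd
      have hpos : 0 < orderOf m := orderOf_pos m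
      have ho : orderOf (m ^ (orderOf m / orderOf g)) = orderOf g := by
        rw [orderOf_pow_of_dvd (by
          intro h0
          rw [Nat.div_eq_zero_iff] at h0
          rcases h0 with h0 | h0
          · exact hq.ne_zero h0
          · exact absurd (Nat.le_of_dvd hpos hd) (not_le.mpr h0))
          (Nat.div_dvd_of_dvd hd), Nat.div_div_self hd hpos.ne']
      have h1 : orderOf (m ^ (orderOf m / orderOf g)) = p := by
        apply c.orderOf_centralizer_V (N.pow_mem hmN _)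
        · intro w hw
          exact ((Commute.pow_right (show Commute w m from hmV w hw) _)).eq
        · rw [ho]; exact hq
      exact hqp (ho ▸ h1)
    have e : cz m = cz g := by
      apply c.cz_eq_of_order_ne hmN hm1 hg hg1 (mem_cz.mp hm)
      intro heq
      exact hnd (heq ▸ dvd_rfl)
    apply hgC
    intro w hw
    have : w ∈ cz m := mem_cz.mpr (hmV w hw)
    rw [e] at this
    exact mem_cz.mp this
  -- (C4)
  have hfpf : ∀ y ∈ N, y ∈ cz g → y ≠ 1 → ∀ v ∈ V, y * v = v * y → v = 1 := by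
    intro y hyN hyg hy1 v hv hyv
    by_contra hv1
    by_cases e : cz y = cz g
    · have : v ∈ cz g ⊓ V := ⟨e ▸ mem_cz.mpr hyv.symm, hv⟩
      rw [hVd, Subgroup.mem_bot] at this
      exact hv1 this
    · have ho : orderOf y = orderOf g :=
        orderOf_eq_of_cz_ne c.hyp hyN hy1 hg hg1 (mem_cz.mp hyg) e
      have e2 : cz y = cz v := by
        apply c.cz_eq_of_order_ne hyN hy1 (c.VN hv) hv1 hyv
        rw [ho, c.orderOf_V hv hv1]
        exact hqp
      have hyV : y ∈ V := by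
        apply hC y hyN
        intro w hw
        have : w ∈ cz y := e2 ▸ c.V_le_cz hv hw
        exact mem_cz.mp this
      exact hqp (ho ▸ c.orderOf_V hyV hy1)
  -- (C5) `L = V ⊔ ⟨g⟩` is normal
  obtain ⟨L, hL⟩ : ∃ L : Subgroup G, L = V ⊔ Subgroup.zpowers g := ⟨_, rfl⟩
  have hmemL : ∀ x : G, x ∈ L ↔ ∃ v ∈ V, ∃ i : ℤ, x = v * g ^ i := by
    intro x
    rw [hL, ← SetLike.mem_coe, Subgroup.normal_mul]
    constructor
    · rintro ⟨v, hv, z, hz, rfl⟩
      obtain ⟨i, rfl⟩ := Subgroup.mem_zpowers_iff.mp hz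
      exact ⟨v, hv, i, rfl⟩
    · rintro ⟨v, hv, i, rfl⟩
      exact ⟨v, hv, g ^ i, Subgroup.mem_zpowers_iff.mpr ⟨i, rfl⟩, rfl⟩
  have hVL : V ≤ L := hL ▸ le_sup_left
  have hgL : g ∈ L := hL ▸ (le_sup_right (a := V) (Subgroup.mem_zpowers g))
  have hLN : L ≤ N := by
    rw [hL]
    exact sup_le c.VN (Subgroup.zpowers_le.mpr hg)
  have hconjm : ∀ l ∈ L, ∀ m ∈ cz g, m * l * m⁻¹ ∈ L := by
    intro l hl m hm
    obtain ⟨v, hv, i, rfl⟩ := (hmemL l).mp hl
    rw [hmemL]
    refine ⟨m * v * m⁻¹, c.nV.conj_mem v hv m, i, ?_⟩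
    have hmg : Commute m (g ^ i) := (show Commute m g from mem_cz.mp hm).zpow_right i
    calc m * (v * g ^ i) * m⁻¹ = m * v * m⁻¹ * (m * g ^ i) * m⁻¹ := by group
      _ = m * v * m⁻¹ * (g ^ i * m) * m⁻¹ := by rw [hmg.eq]
      _ = m * v * m⁻¹ * g ^ i := by group
  haveI hLn : L.Normal := by
    constructor
    intro l hl x
    obtain ⟨m, hm, v, hv, rfl⟩ := hdec x
    have h1 : v * l * v⁻¹ ∈ L := L.mul_mem (L.mul_mem (hVL hv) hl) (L.inv_mem (hVL hv))
    have h2 := hconjm _ h1 m hm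
    have : m * v * l * (m * v)⁻¹ = m * (v * l * v⁻¹) * m⁻¹ := by group
    rw [this]
    exact h2
  -- (C6)
  have hDv : ∀ v₀ ∈ V, v₀ ≠ 1 → ∀ y ∈ N, y * v₀ = v₀ * y → y ∈ V := by
    intro v₀ hv₀ hv₀1 y hy hyv
    obtain ⟨m, hm, v, hv, rfl⟩ := hdec y
    have hmN : m ∈ N := by
      have := N.mul_mem hy (N.inv_mem (c.VN hv))
      rwa [mul_inv_cancel_right] at this
    have hmv : m * v₀ = v₀ * m := by
      have h2 := c.Vab v hv v₀ hv₀
      have : m * v₀ * v = v₀ * m * v := by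
        calc m * v₀ * v = m * (v₀ * v) := by group
          _ = m * (v * v₀) := by rw [h2]
          _ = m * v * v₀ := by group
          _ = v₀ * (m * v) := hyv
          _ = v₀ * m * v := by group
      exact mul_right_cancel this
    by_cases hm1 : m = 1
    · rw [hm1, one_mul]; exact hv
    · exact absurd (hfpf m hmN hm hm1 v₀ hv₀ hmv) hv₀1
  -- (C7)
  obtain ⟨v₀, hv₀, hv₀1⟩ := c.exists_V_ne_one
  have hco₀ : IsCoatom (cz v₀) := c.hyp v₀ (c.VN hv₀) hv₀1
  have hsupL : cz v₀ ⊔ L = ⊤ := by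
    apply hco₀.2
    apply lt_of_le_of_ne le_sup_left
    intro heq
    apply hgV
    apply hDv v₀ hv₀ hv₀1 g hg
    have : g ∈ cz v₀ := by
      rw [heq]
      exact le_sup_right (a := cz v₀) hgL
    exact mem_cz.mp this
  have hNL : N ≤ L := by
    intro n hn
    have hx : n ∈ (cz v₀ ⊔ L : Subgroup G) := hsupL ▸ Subgroup.mem_top n
    rw [← SetLike.mem_coe, Subgroup.mul_normal] at hx
    obtain ⟨m, hm, l, hl, hml⟩ := hx
    have hml' : m * l = n := hml
    have hmN : m ∈ N := by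
      have := N.mul_mem hn (N.inv_mem (hLN hl))
      rwa [← hml', mul_inv_cancel_right] at this
    have hmV : m ∈ V := hDv v₀ hv₀ hv₀1 m hmN (mem_cz.mp hm)
    rw [← hml']
    exact L.mul_mem (hVL hmV) hl
  refine ⟨hgV, hL ▸ hNL, ?_⟩
  -- (C8)
  intro u hu huV w hw huw
  obtain ⟨v, hv, i, rfl⟩ := (hmemL u).mp (hNL hu)
  have hgi1 : g ^ i ≠ 1 := by
    intro h1
    apply huV
    rw [h1, mul_one]
    exact hv
  have hgiN : g ^ i ∈ N := N.zpow_mem hg i
  have hgig : g ^ i ∈ cz g := (cz g).zpow_mem (self_mem_cz g) i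
  apply hfpf (g ^ i) hgiN hgig hgi1 w hw
  have h2 := c.Vab v hv w hw
  have : v * (g ^ i * w) = v * (w * g ^ i) := by
    calc v * (g ^ i * w) = v * g ^ i * w := by group
      _ = w * (v * g ^ i) := huw
      _ = (w * v) * g ^ i := by group
      _ = (v * w) * g ^ i := by rw [h2]
      _ = v * (w * g ^ i) := by group
  exact mul_left_cancel this

end RelCtx

end Cfsg.Agent.Helper1.CentMax
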