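import Mathlib
import Cfsg.Agent.Helper1.CentMaxG

/-!
# Centralizers maximal, relative version: the main theorem (trivial centre)
-/

set_option autoImplicit false

namespace Cfsg.Agent.Helper1.CentMax

open scoped Pointwise

universe u

variable {G : Type u} [Group G]

/-- relative version of `exponent_of_nonabelian` -/
lemma exponent_of_mixed [Finite G] {N : Subgroup G} (h : Hyp N) {x y : G} (hx : x ∈ N)
    (hx1 : x ≠ 1) (hy : y ∈ N) (hy1 : y ≠ 1) (hyx : y * x = x * y) (hne : cz y ≠ cz x) :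
    (orderOf x).Prime ∧ ∀ u ∈ N, u * x = x * u → u ^ orderOf x = 1 := by
  refine ⟨orderOf_prime_of_cz_ne h hx hx1 hy hy1 hyx.symm hne.symm, ?_⟩
  intro u hu hux
  by_cases hu1 : u = 1
  · rw [hu1, one_pow]
  by_cases hcu : cz u = cz x
  · have huy : u * y = y * u := by
      have : y ∈ cz u := hcu ▸ mem_cz.mpr hyx
      exact (mem_cz.mp this).symm
    have e1 : orderOf u = orderOf y :=
      orderOf_eq_of_cz_ne h hu hu1 hy hy1 huy (hcu ▸ hne.symm)
    have e2 : orderOf x = orderOf y := orderOf_eq_of_cz_ne h hx hx1 hy hy1 hyx.symm hne.symm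
    rw [e2, ← e1, pow_orderOf_eq_one]
  · have e1 : orderOf u = orderOf x := orderOf_eq_of_cz_ne h hu hu1 hx hx1 hux hcu
    rw [← e1, pow_orderOf_eq_one]

/-- the `p`-torsion of an abelian subgroup -/
def torsionSub (V : Subgroup G) (p : ℕ) (hab : ∀ a ∈ V, ∀ b ∈ V, a * b = b * a) : Subgroup G where
  carrier := {y | y ∈ V ∧ y ^ p = 1}
  one_mem' := ⟨V.one_mem, one_pow p⟩
  mul_mem' := by
    rintro a b ⟨ha, hap⟩ ⟨hb, hbp⟩
    refine ⟨V.mul_mem ha hb, ?_⟩
    have : Commute a b := hab a ha b hb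
    rw [this.mul_pow, hap, hbp, one_mul]
  inv_mem' := by
    rintro a ⟨ha, hap⟩
    exact ⟨V.inv_mem ha, by rw [inv_pow, hap, inv_one]⟩

lemma mem_torsionSub {V : Subgroup G} {p : ℕ} {hab : ∀ a ∈ V, ∀ b ∈ V, a * b = b * a} {y : G} :
    y ∈ torsionSub V p hab ↔ y ∈ V ∧ y ^ p = 1 := Iff.rfl

lemma torsionSub_normal {V : Subgroup G} [hV : V.Normal] {p : ℕ}
    {hab : ∀ a ∈ V, ∀ b ∈ V, a * b = b * a} : (torsionSub V p hab).Normal := by
  constructor
  intro y hy x
  rw [mem_torsionSub] at hy ⊢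
  refine ⟨hV.conj_mem y hy.1 x, ?_⟩
  rw [conj_pow, hy.2, mul_one, mul_inv_cancel]

lemma torsionSub_ne_bot [Finite G] {V : Subgroup G} {p : ℕ} [hp : Fact p.Prime]
    {hab : ∀ a ∈ V, ∀ b ∈ V, a * b = b * a} (hpd : p ∣ Nat.card V) : torsionSub V p hab ≠ ⊥ := by
  obtain ⟨y, hy⟩ := exists_prime_orderOf_dvd_card' (G := V) p hpd
  intro hb
  have hmem : (y : G) ∈ torsionSub V p hab := by
    rw [mem_torsionSub]
    refine ⟨y.2, ?_⟩
    rw [← Subgroup.coe_pow, ← hy, pow_orderOf_eq_one]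
    rfl
  rw [hb, Subgroup.mem_bot] at hmem
  have : y = 1 := Subtype.ext hmem
  rw [this, orderOf_one] at hy
  exact hp.out.one_lt.ne hy

/-- The structural conclusion. -/
def FrobStruct (N : Subgroup G) : Prop :=
  ∃ (V : Subgroup G) (g : G) (p : ℕ), p.Prime ∧ V.Normal ∧ V ≤ N ∧ V ≠ ⊥ ∧
    (∀ a ∈ V, ∀ b ∈ V, a * b = b * a) ∧ (∀ a ∈ V, a ^ p = 1) ∧ g ∈ N ∧ g ∉ V ∧
    (orderOf g).Prime ∧ N ≤ V ⊔ Subgroup.zpowers g ∧
    ∀ u ∈ N, u ∉ V → ∀ v ∈ V, u * v = v * u → v = 1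

/-- existence of a nontrivial abelian normal subgroup inside `N` -/
theorem exists_abelian_normal [Finite G] (N : Subgroup G) [hNn : N.Normal] (hH : Hyp N)
    (hN1 : N ≠ ⊥) :
    ∃ A : Subgroup G, A.Normal ∧ A ≤ N ∧ A ≠ ⊥ ∧ ∀ a ∈ A, ∀ b ∈ A, a * b = b * a := by
  classical
  by_contra hcon
  have hA : ∀ A : Subgroup G, A.Normal → A ≤ N → (∀ a ∈ A, ∀ b ∈ A, a * b = b * a) → A = ⊥ := by
    intro A h1 h2 h3
    by_contra h4
    exact hcon ⟨A, h1, h2, h4, h3⟩
  -- the normalizer statement at the level of `G`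
  have hnorm : ∀ x ∈ N, x ≠ 1 → ∀ n ∈ N,
      (∀ d : G, d ∈ cz x ⊓ N ↔ n * d * n⁻¹ ∈ cz x ⊓ N) → n ∈ cz x := by
    intro x hx hx1 n hn hnd
    by_contra hncz
    obtain ⟨D, hD⟩ : ∃ D : Subgroup G, D = cz x ⊓ N := ⟨_, rfl⟩
    rw [← hD] at hnd
    have hco : IsCoatom (cz x) := hH x hx hx1
    have hle : cz x ≤ Subgroup.normalizer (D : Set G) := by
      intro m hm
      rw [Subgroup.mem_normalizer_iff]
      intro d
      rw [hD, Subgroup.mem_inf, Subgroup.mem_inf]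
      constructor
      · rintro ⟨h1, h2⟩
        exact ⟨(cz x).mul_mem ((cz x).mul_mem hm h1) ((cz x).inv_mem hm), hNn.conj_mem d h2 m⟩
      · rintro ⟨h1, h2⟩
        have e : d = m⁻¹ * (m * d * m⁻¹) * m := by group
        constructor
        · rw [e]
          exact (cz x).mul_mem ((cz x).mul_mem ((cz x).inv_mem hm) h1) hm
        · rw [e]
          have := hNn.conj_mem _ h2 m⁻¹
          rwa [inv_inv] at this
    have hnn : n ∈ Subgroup.normalizer (D : Set G) := by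
      rw [Subgroup.mem_normalizer_iff]
      exact hnd
    have htop : Subgroup.normalizer (D : Set G) = ⊤ := by
      apply hco.2
      apply lt_of_le_of_ne hle
      intro heq
      exact hncz (heq ▸ hnn)
    haveI hDn : D.Normal := Subgroup.normalizer_eq_top_iff.mp htop
    have hDN : D ≤ N := hD ▸ inf_le_right
    have hxD : x ∈ D := hD ▸ ⟨self_mem_cz x, hx⟩
    have hDbot : D ≠ ⊥ := by
      intro hb
      rw [hb, Subgroup.mem_bot] at hxD
      exact hx1 hxD
    by_cases hmix : ∃ y ∈ N, y ≠ 1 ∧ y * x = x * y ∧ cz y ≠ cz x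
    · obtain ⟨y, hy, hy1, hyx, hne⟩ := hmix
      obtain ⟨hpr, hexp⟩ := exponent_of_mixed hH hx hx1 hy hy1 hyx hne
      haveI : Fact (orderOf x).Prime := ⟨hpr⟩
      have hDp : IsPGroup (orderOf x) D := by
        apply isPGroup_of_exponent
        intro u hu
        rw [hD] at hu
        exact hexp u hu.2 (mem_cz.mp hu.1)
      haveI : Nontrivial D := (Subgroup.nontrivial_iff_ne_bot D).mpr hDbot
      have hcen := hDp.center_nontrivial
      have hzc : zc D ≠ ⊥ := by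
        intro hb
        have h1 : Nat.card (zc D) = 1 := by rw [hb, Subgroup.card_bot]
        rw [card_zc] at h1
        have := Finite.one_lt_card_iff_nontrivial.mpr hcen
        omega
      apply hzc
      apply hA
      · unfold zc
        infer_instance
      · exact (inf_le_left : zc D ≤ D).trans hDN
      · intro a ha b hb
        exact ((mem_zc.mp hb).2 a (mem_zc.mp ha).1)
    · push Not at hmix
      apply hDbot
      apply hA D hDn hDN
      intro a ha b hb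
      by_cases ha1 : a = 1
      · rw [ha1, one_mul, mul_one]
      rw [hD] at ha hb
      have e := hmix a ha.2 ha1 (mem_cz.mp ha.1)
      have : b ∈ cz a := e ▸ hb.1
      exact (mem_cz.mp this).symm
  -- `IntHyp` for the group `N`
  have hmem : ∀ x y : N, y ∈ cz x ↔ (y : G) ∈ cz (x : G) := by
    intro x y
    rw [mem_cz, mem_cz, Subtype.ext_iff]
    rfl
  have hint : IntHyp N := by
    intro x hx1
    have hx1' : (x : G) ≠ 1 := fun h1 => hx1 (Subtype.ext h1)
    constructor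
    · apply le_antisymm _ Subgroup.le_normalizer
      intro n hn
      rw [Subgroup.mem_normalizer_iff] at hn
      rw [hmem]
      apply hnorm (x : G) x.2 hx1' (n : G) n.2
      intro d
      constructor
      · intro hd
        have := (hn ⟨d, hd.2⟩).mp ((hmem x ⟨d, hd.2⟩).mpr hd.1)
        rw [hmem] at this
        exact ⟨this, N.mul_mem (N.mul_mem n.2 hd.2) (N.inv_mem n.2)⟩
      · intro hd
        have hdN : d ∈ N := by
          have e : d = (n : G)⁻¹ * ((n : G) * d * (n : G)⁻¹) * (n : G) := by group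
          rw [e]
          exact N.mul_mem (N.mul_mem (N.inv_mem n.2) hd.2) n.2
        have := (hn ⟨d, hdN⟩).mpr (by rw [hmem]; exact hd.1)
        rw [hmem] at this
        exact ⟨this, hdN⟩
    · by_cases hmix : ∃ y ∈ N, y ≠ 1 ∧ y * (x : G) = (x : G) * y ∧ cz y ≠ cz (x : G)
      · right
        obtain ⟨y, hy, hy1, hyx, hne⟩ := hmix
        obtain ⟨hpr, hexp⟩ := exponent_of_mixed hH x.2 hx1' hy hy1 hyx hne
        refine ⟨orderOf (x : G), hpr, ?_⟩
        intro u hu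
        rw [hmem] at hu
        apply Subtype.ext
        rw [Subgroup.coe_pow, Subgroup.coe_one]
        exact hexp u u.2 (mem_cz.mp hu)
      · left
        push Not at hmix
        intro y hy hy1
        rw [hmem] at hy
        have hy1' : (y : G) ≠ 1 := fun h1 => hy1 (Subtype.ext h1)
        have e := hmix y y.2 hy1' (mem_cz.mp hy)
        ext z
        rw [hmem, hmem, e]
  have hcomm := intHyp_abelian hint
  apply hN1
  apply hA N hNn le_rfl
  intro a ha b hb
  exact congrArg Subtype.val (hcomm ⟨a, ha⟩ ⟨b, hb⟩)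

/-- **Relative main theorem** (trivial centre). -/
theorem rel_main [Finite G] (N : Subgroup G) [hNn : N.Normal] (hH : Hyp N)
    (hZ : ∀ x ∈ N, (∀ n ∈ N, n * x = x * n) → x = 1) (hN1 : N ≠ ⊥) : FrobStruct N := by
  classical
  let 𝒮 : Set (Subgroup G) :=
    {A | A.Normal ∧ A ≤ N ∧ A ≠ ⊥ ∧ ∀ a ∈ A, ∀ b ∈ A, a * b = b * a}
  obtain ⟨A, hA⟩ := exists_abelian_normal N hH hN1
  have hA𝒮 : A ∈ 𝒮 := hA
  obtain ⟨V, -, hVmin⟩ := (Set.toFinite 𝒮).exists_le_minimal hA𝒮
  obtain ⟨hVn, hVN, hV1, hVab⟩ : V ∈ 𝒮 := hVmin.prop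
  haveI := hVn
  have hVc : Nat.card V ≠ 1 := fun h1 => hV1 (Subgroup.card_eq_one.mp h1)
  obtain ⟨p, hp, hpd⟩ := Nat.exists_prime_and_dvd hVc
  haveI : Fact p.Prime := ⟨hp⟩
  have hT𝒮 : torsionSub V p hVab ∈ 𝒮 :=
    ⟨torsionSub_normal, (fun y hy => hVN hy.1), torsionSub_ne_bot hpd,
      fun a ha b hb => hVab a ha.1 b hb.1⟩
  have hle : V ≤ torsionSub V p hVab := hVmin.le_of_le hT𝒮 (fun y hy => hy.1)
  have hVexp : ∀ a ∈ V, a ^ p = 1 := fun a ha => (hle ha).2
  have c : RelCtx N V p := ⟨hH, hNn, hZ, hVn, hVN, hV1, hVab, hp, hVexp⟩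
  obtain ⟨q, hq, hqd, hqp⟩ : ∃ q : ℕ, q.Prime ∧ q ∣ Nat.card N ∧ q ≠ p := by
    by_contra hcon
    push Not at hcon
    have hcard : ∃ k : ℕ, Nat.card N = p ^ k :=
      ⟨_, Nat.eq_prime_pow_of_unique_prime_dvd Nat.card_pos.ne' (fun {q} hq hqd => hcon q hq hqd)⟩
    obtain ⟨k, hk⟩ := hcard
    have hP : IsPGroup p N := IsPGroup.of_card hk
    haveI : Nontrivial N := (Subgroup.nontrivial_iff_ne_bot N).mpr hN1
    have hcen := hP.center_nontrivial
    obtain ⟨z, hz, hz1⟩ := (Subgroup.ne_bot_iff_exists_ne_one.mp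
      ((Subgroup.nontrivial_iff_ne_bot _).mp hcen) |> fun ⟨z, hz⟩ =>
      (⟨z.1, z.2, fun h1 => hz (Subtype.ext h1)⟩ : ∃ k ∈ Subgroup.center N, k ≠ 1))
    apply hz1
    apply Subtype.ext
    apply hZ z z.2
    intro n hn
    exact congrArg Subtype.val (Subgroup.mem_center_iff.mp hz ⟨n, hn⟩)
  haveI : Fact q.Prime := ⟨hq⟩
  obtain ⟨g', hg'⟩ := exists_prime_orderOf_dvd_card' (G := N) q hqd
  have hgo : orderOf (g' : G) = q := by rw [Subgroup.orderOf_coe]; exact hg'
  obtain ⟨h1, h2, h3⟩ := c.main g'.2 (hgo ▸ hq) (hgo ▸ hqp)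
  exact ⟨V, g', p, hp, hVn, hVN, hV1, hVab, hVexp, g'.2, h1, hgo ▸ hq, h2, h3⟩

end Cfsg.Agent.Helper1.CentMax
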