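import Mathlib
import Cfsg.Prelude.Def_Solvable
import Cfsg.Prelude.Def_Transfer
import Cfsg.Agent.Helper1.CentMaxH
import Cfsg.Agent.Helper1.Frobenius

/-!
# Frobenius data: abstract form, transport and the Frobenius-group conclusion
-/

set_option autoImplicit false

namespace Cfsg.Agent.Helper1.CentMax

open scoped Pointwise

universe u v

/-- abstract Frobenius data `K ⋊ ⟨g⟩` with `g` of prime order acting fixed point freely on the
elementary abelian group `K`. -/
def FrobData (H : Type u) [Group H] : Prop :=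
  ∃ (K : Subgroup H) (g : H) (p : ℕ), p.Prime ∧ K.Normal ∧ K ≠ ⊥ ∧
    (∀ a ∈ K, ∀ b ∈ K, a * b = b * a) ∧ (∀ a ∈ K, a ^ p = 1) ∧ g ∉ K ∧ (orderOf g).Prime ∧
    (∀ u : H, ∃ v ∈ K, ∃ i : ℤ, u = v * g ^ i) ∧
    ∀ u : H, u ∉ K → ∀ v ∈ K, u * v = v * u → v = 1

theorem FrobData.of_equiv {H : Type u} {H' : Type v} [Group H] [Group H'] (e : H ≃* H')
    (h : FrobData H) : FrobData H' := by
  obtain ⟨K, g, p, hp, hKn, hK1, hKab, hKexp, hgK, hgo, hgen, hfpf⟩ := h
  have hmem : ∀ y : H', y ∈ K.map e.toMonoidHom ↔ e.symm y ∈ K := by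
    intro y
    rw [Subgroup.mem_map]
    constructor
    · rintro ⟨x, hx, rfl⟩
      simpa using hx
    · intro hy
      exact ⟨e.symm y, hy, by simp⟩
  refine ⟨K.map e.toMonoidHom, e g, p, hp, ?_, ?_, ?_, ?_, ?_, ?_, ?_, ?_⟩
  · exact hKn.map _ e.surjective
  · rw [Ne, Subgroup.map_eq_bot_iff_of_injective _ e.injective]
    exact hK1
  · intro a ha b hb
    rw [hmem] at ha hb
    have := hKab _ ha _ hb
    apply e.symm.injective
    rw [map_mul, map_mul, this]
  · intro a ha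
    rw [hmem] at ha
    apply e.symm.injective
    rw [map_pow, map_one]
    exact hKexp _ ha
  · rw [hmem]
    simpa using hgK
  · rw [MulEquiv.orderOf_eq]
    exact hgo
  · intro u
    obtain ⟨v, hv, i, hu⟩ := hgen (e.symm u)
    refine ⟨e v, (hmem _).mpr (by simpa using hv), i, ?_⟩
    apply e.symm.injective
    rw [hu, map_mul, map_zpow]
    simp
  · intro u hu v hv huv
    rw [hmem] at hu hv
    have := hfpf _ hu _ hv (by rw [← map_mul, ← map_mul, huv])
    exact e.symm.injective (by rw [this, map_one])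

theorem frobData_of_frobStruct {G : Type u} [Group G] {N : Subgroup G} (h : FrobStruct N) :
    FrobData N := by
  obtain ⟨V, g, p, hp, hVn, hVN, hV1, hVab, hVexp, hgN, hgV, hgo, hgen, hfpf⟩ := h
  haveI := hVn
  refine ⟨V.subgroupOf N, ⟨g, hgN⟩, p, hp, inferInstance, ?_, ?_, ?_, ?_, ?_, ?_, ?_⟩
  · rw [Ne, Subgroup.subgroupOf_eq_bot, disjoint_iff, inf_of_le_left hVN]
    exact hV1
  · intro a ha b hb
    apply Subtype.ext
    exact hVab a ha b hb
  · intro a ha
    apply Subtype.ext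
    rw [Subgroup.coe_pow, Subgroup.coe_one]
    exact hVexp a ha
  · exact hgV
  · rw [← Subgroup.orderOf_coe]
    exact hgo
  · intro u
    have hu : (u : G) ∈ (V ⊔ Subgroup.zpowers g : Subgroup G) := hgen u.2
    rw [← SetLike.mem_coe, Subgroup.normal_mul] at hu
    obtain ⟨v, hv, z, hz, hvz⟩ := hu
    obtain ⟨i, rfl⟩ := Subgroup.mem_zpowers_iff.mp hz
    refine ⟨⟨v, hVN hv⟩, hv, i, ?_⟩
    apply Subtype.ext
    rw [Subgroup.coe_mul, Subgroup.coe_zpow]
    exact hvz.symm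
  · intro u hu v hv huv
    apply Subtype.ext
    exact hfpf u u.2 hu v hv (congrArg Subtype.val huv)

/-- a nontrivial element of a cyclic group of prime order generates it -/
lemma zpowers_eq_of_mem_of_prime {H : Type u} [Group H] [Finite H] {g z : H}
    (hgo : (orderOf g).Prime)
    (hz : z ∈ Subgroup.zpowers g) (hz1 : z ≠ 1) : Subgroup.zpowers z = Subgroup.zpowers g := by
  have hle : Subgroup.zpowers z ≤ Subgroup.zpowers g := Subgroup.zpowers_le.mpr hz
  apply Subgroup.eq_of_le_of_card_ge hle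
  have h1 : Nat.card (Subgroup.zpowers z) ∣ Nat.card (Subgroup.zpowers g) :=
    Subgroup.card_dvd_of_le hle
  rw [Nat.card_zpowers g] at h1 ⊢
  rcases (Nat.dvd_prime hgo).mp h1 with h2 | h2
  · exfalso
    rw [Nat.card_zpowers, orderOf_eq_one_iff] at h2
    exact hz1 h2
  · exact h2.ge

theorem FrobData.concl {H : Type u} [Group H] [Finite H] (h : FrobData H) :
    ∃ (Q K : Subgroup H) (p : ℕ), p.Prime ∧ Cfsg.IsFrobeniusComplement Q ∧ (Nat.card ↥Q).Prime ∧
      K.Normal ∧ (K : Set H) = Cfsg.frobeniusKernel Q ∧ Cfsg.IsElementaryAbelian p K := by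
  classical
  obtain ⟨K, g, p, hp, hKn, hK1, hKab, hKexp, hgK, hgo, hgen, hfpf⟩ := h
  haveI := hKn
  obtain ⟨Q, hQ⟩ : ∃ Q : Subgroup H, Q = Subgroup.zpowers g := ⟨_, rfl⟩
  have hgQ : g ∈ Q := hQ ▸ Subgroup.mem_zpowers g
  have hg1 : g ≠ 1 := fun h1 => hgK (h1 ▸ K.one_mem)
  have hQcard : Nat.card Q = orderOf g := by rw [hQ, Nat.card_zpowers]
  have hQK : Q ⊓ K = ⊥ := by
    rw [eq_bot_iff]
    intro z hz
    rw [Subgroup.mem_inf] at hz
    rw [Subgroup.mem_bot]
    by_contra hz1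
    apply hgK
    have e := zpowers_eq_of_mem_of_prime hgo (hQ ▸ hz.1) hz1
    have : g ∈ Subgroup.zpowers z := e ▸ Subgroup.mem_zpowers g
    exact (Subgroup.zpowers_le.mpr hz.2) this
  have hQbot : Q ≠ ⊥ := by
    intro hb
    rw [hb, Subgroup.mem_bot] at hgQ
    exact hg1 hgQ
  obtain ⟨k, hkK, hk1⟩ : ∃ k ∈ K, k ≠ 1 := by
    obtain ⟨x, hx⟩ := Subgroup.ne_bot_iff_exists_ne_one.mp hK1
    exact ⟨x.1, x.2, fun h1 => hx (Subtype.ext h1)⟩
  have hQtop : Q ≠ ⊤ := by
    intro ht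
    have : k ∈ Q ⊓ K := ⟨ht ▸ Subgroup.mem_top k, hkK⟩
    rw [hQK, Subgroup.mem_bot] at this
    exact hk1 this
  -- conjugates meeting `Q`
  have hTI : ∀ x : H, x ∉ Q → Q ⊓ (MulAut.conj x • Q) = ⊥ := by
    intro x hx
    rw [eq_bot_iff]
    intro z hz
    rw [Subgroup.mem_inf] at hz
    rw [Subgroup.mem_bot]
    by_contra hz1
    apply hx
    have hw : x⁻¹ * z * x ∈ Q := by
      have := hz.2
      rw [Subgroup.mem_pointwise_smul_iff_inv_smul_mem, MulAut.smul_def, ← map_inv,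
        MulAut.conj_apply, inv_inv] at this
      exact this
    have hw1 : x⁻¹ * z * x ≠ 1 := by
      intro h1
      apply hz1
      have : z = x * (x⁻¹ * z * x) * x⁻¹ := by group
      rw [this, h1, mul_one, mul_inv_cancel]
    have e := zpowers_eq_of_mem_of_prime hgo (hQ ▸ hw) hw1
    have hgw : g ∈ Subgroup.zpowers (x⁻¹ * z * x) := e ▸ Subgroup.mem_zpowers g
    obtain ⟨j, hj⟩ := Subgroup.mem_zpowers_iff.mp hgw
    -- `x g x⁻¹ = z ^ j ∈ Q`
    have hxg : x * g * x⁻¹ ∈ Q := by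
      have : x * g * x⁻¹ = z ^ j := by
        rw [← hj, ← conj_zpow]
        congr 1
        group
      rw [this]
      exact Q.zpow_mem hz.1 j
    obtain ⟨v, hv, i, rfl⟩ := hgen x
    by_cases hv1 : v = 1
    · rw [hv1, one_mul]
      exact Q.zpow_mem hgQ i
    exfalso
    have hgi : g ^ i ∈ Q := Q.zpow_mem hgQ i
    have h1 : v * g * v⁻¹ ∈ Q := by
      have e : v * g * v⁻¹ = (v * g ^ i) * g * (v * g ^ i)⁻¹ := by
        have hc : g ^ i * g = g * g ^ i := ((Commute.refl g).zpow_left i).eq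
        calc v * g * v⁻¹ = v * (g * g ^ i) * (g ^ i)⁻¹ * v⁻¹ := by group
          _ = v * (g ^ i * g) * (g ^ i)⁻¹ * v⁻¹ := by rw [hc]
          _ = (v * g ^ i) * g * (v * g ^ i)⁻¹ := by group
      rw [e]
      exact hxg
    have h2 : v * g * v⁻¹ * g⁻¹ ∈ Q := Q.mul_mem h1 (Q.inv_mem hgQ)
    have h3 : v * g * v⁻¹ * g⁻¹ ∈ K := by
      have : v * g * v⁻¹ * g⁻¹ = v * (g * v⁻¹ * g⁻¹) := by group
      rw [this]
      exact K.mul_mem hv (hKn.conj_mem _ (K.inv_mem hv) g)
    have h4 : v * g * v⁻¹ * g⁻¹ ∈ Q ⊓ K := ⟨h2, h3⟩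
    rw [hQK, Subgroup.mem_bot] at h4
    have h5 : g * v = v * g := by
      have : v * g = (v * g * v⁻¹ * g⁻¹) * (g * v) := by group
      rw [this, h4, one_mul]
    exact hv1 (hfpf g hgK v hv h5)
  have hF : Cfsg.IsFrobeniusComplement Q := ⟨hQbot, hQtop, hTI⟩
  -- `K` is the Frobenius kernel
  have hsub : (K : Set H) ⊆ Cfsg.frobeniusKernel Q := by
    intro y hy
    by_cases hy1 : y = 1
    · exact Or.inl hy1
    · right
      intro x hx
      rw [Subgroup.mem_pointwise_smul_iff_inv_smul_mem, MulAut.smul_def, ← map_inv,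
        MulAut.conj_apply, inv_inv] at hx
      have hK' : x⁻¹ * y * x ∈ K := by
        have := hKn.conj_mem y hy x⁻¹
        rwa [inv_inv] at this
      have : x⁻¹ * y * x ∈ Q ⊓ K := ⟨hx, hK'⟩
      rw [hQK, Subgroup.mem_bot] at this
      apply hy1
      have e : y = x * (x⁻¹ * y * x) * x⁻¹ := by group
      rw [e, this, mul_one, mul_inv_cancel]
  have hsup : Q ⊔ K = ⊤ := by
    rw [eq_top_iff]
    intro u _
    obtain ⟨v, hv, i, rfl⟩ := hgen u
    exact (Q ⊔ K).mul_mem (le_sup_right (a := Q) hv) (le_sup_left (b := K) (Q.zpow_mem hgQ i))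
  have hcardK : Nat.card K = Q.index := by
    have e1 := card_mul_card_of_sup_top hQK hsup
    have e2 := Q.card_mul_index
    rw [← e2] at e1
    exact Nat.eq_of_mul_eq_mul_left Nat.card_pos e1
  have hset : (K : Set H) = Cfsg.frobeniusKernel Q := by
    apply Set.eq_of_subset_of_ncard_le hsub _ (Set.toFinite _)
    rw [← Nat.card_coe_set_eq, ← Nat.card_coe_set_eq,
      (Cfsg.Agent.Helper1.frobenius_count Q hF).1, ← hcardK]
    exact le_of_eq rfl
  refine ⟨Q, K, p, hp, hF, hQcard ▸ hgo, hKn, hset, ?_, hKexp⟩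
  exact ⟨⟨fun a b => Subtype.ext (hKab a.1 a.2 b.1 b.2)⟩⟩

end Cfsg.Agent.Helper1.CentMax
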