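import Mathlib
import Cfsg.Agent.Helper1.CentMaxI
import Cfsg.Agent.Helper1.MaxSub

/-!
# Centralizers maximal, relative version: reduction to trivial centre and the final statement
-/

set_option autoImplicit false

namespace Cfsg.Agent.Helper1.CentMax

open scoped Pointwise

universe u

variable {G : Type u} [Group G]

/-- commutators are multiplicative in the right variable when they commute with it -/
lemma comm_pow_right {a b : G} (hc : Commute (a * b * a⁻¹ * b⁻¹) b) (n : ℕ) :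
    a * b ^ n * a⁻¹ * (b ^ n)⁻¹ = (a * b * a⁻¹ * b⁻¹) ^ n := by
  induction n with
  | zero => simp
  | succ n ih =>
    have hcn : Commute (a * b * a⁻¹ * b⁻¹) (b ^ n)⁻¹ := (hc.pow_right n).inv_right
    rw [pow_succ (a * b * a⁻¹ * b⁻¹), ← ih]
    have e1 : a * b ^ (n + 1) * a⁻¹ * (b ^ (n + 1))⁻¹
        = (a * b ^ n * a⁻¹) * ((a * b * a⁻¹ * b⁻¹) * (b ^ n)⁻¹) := by
      rw [pow_succ]; group
    rw [e1, hcn.eq]
    group

/-- commutators are multiplicative in the left variable when they commute with it -/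
lemma comm_pow_left {a b : G} (hc : Commute (a * b * a⁻¹ * b⁻¹) a) (n : ℕ) :
    a ^ n * b * (a ^ n)⁻¹ * b⁻¹ = (a * b * a⁻¹ * b⁻¹) ^ n := by
  have e0 : b * a * b⁻¹ * a⁻¹ = (a * b * a⁻¹ * b⁻¹)⁻¹ := by group
  have hc' : Commute (b * a * b⁻¹ * a⁻¹) a := by
    rw [e0]
    exact hc.inv_left
  have h1 := comm_pow_right hc' n
  have e1 : a ^ n * b * (a ^ n)⁻¹ * b⁻¹ = (b * a ^ n * b⁻¹ * (a ^ n)⁻¹)⁻¹ := by group
  rw [e1, h1, e0, inv_pow, inv_inv]

lemma exists_prime_exponent {A : Type*} [Group A] (hc : ∀ a b : A, a * b = b * a)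
    (hord : ∀ y : A, y ≠ 1 → (orderOf y).Prime) : ∃ p : ℕ, p.Prime ∧ ∀ y : A, y ^ p = 1 := by
  by_cases hx : ∃ x₀ : A, x₀ ≠ 1
  · obtain ⟨x₀, hx₀⟩ := hx
    refine ⟨orderOf x₀, hord x₀ hx₀, ?_⟩
    intro y
    by_contra hy
    have hy1 : y ≠ 1 := by
      rintro rfl
      exact hy (one_pow _)
    have hne : orderOf y ≠ orderOf x₀ := by
      intro heq
      apply hy
      rw [← heq, pow_orderOf_eq_one]
    have hcop : Nat.Coprime (orderOf x₀) (orderOf y) :=
      (Nat.coprime_primes (hord _ hx₀) (hord _ hy1)).mpr hne.symm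
    have hcm : Commute x₀ y := hc _ _
    have hmul := hcm.orderOf_mul_eq_mul_orderOf_of_coprime hcop
    have hxy1 : x₀ * y ≠ 1 := by
      intro h1
      rw [h1, orderOf_one] at hmul
      have := (hord _ hx₀).one_lt
      have := (hord _ hy1).one_lt
      nlinarith
    have hpr := hord _ hxy1
    rw [hmul] at hpr
    exact Nat.not_prime_mul (hord _ hx₀).one_lt.ne' (hord _ hy1).one_lt.ne' hpr
  · push Not at hx
    exact ⟨2, Nat.prime_two, fun y => by rw [hx y, one_pow]⟩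

/-- The case where `N / Z(N)` is abelian. -/
theorem rel_elemAb [Finite G] (N : Subgroup G) [N.Normal]
    (h : ∀ x : G, x ∈ N → x ∉ Subgroup.centralizer (N : Set G) → IsCoatom (cz x))
    (hq : IsMulCommutative (↥N ⧸ Subgroup.center ↥N)) :
    ∃ p : ℕ, p.Prime ∧ Cfsg.IsElementaryAbelian p (⊤ : Subgroup (↥N ⧸ Subgroup.center ↥N)) := by
  classical
  have hcen : ∀ x : N, x ∈ Subgroup.center N ↔ (x : G) ∈ Subgroup.centralizer (N : Set G) := by
    intro x
    rw [Subgroup.mem_center_iff, Subgroup.mem_centralizer_iff]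
    constructor
    · intro hx n hn
      exact congrArg Subtype.val (hx ⟨n, hn⟩)
    · intro hx n
      exact Subtype.ext (hx n n.2)
  have hcomm : ∀ a b : N, a * b * a⁻¹ * b⁻¹ ∈ Subgroup.center N := by
    intro a b
    rw [← QuotientGroup.eq_one_iff]
    simp only [QuotientGroup.mk_mul, QuotientGroup.mk_inv]
    rw [mul_comm' (a : ↥N ⧸ Subgroup.center ↥N) b]
    group
  have hord : ∀ y : ↥N ⧸ Subgroup.center ↥N, y ≠ 1 → (orderOf y).Prime := by
    intro y hy
    obtain ⟨x, rfl⟩ := QuotientGroup.mk_surjective y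
    have hxc : x ∉ Subgroup.center N := fun hx => hy ((QuotientGroup.eq_one_iff x).mpr hx)
    by_contra hnp
    obtain ⟨n, hn⟩ : ∃ n : ℕ, n = orderOf (x : ↥N ⧸ Subgroup.center ↥N) := ⟨_, rfl⟩
    rw [← hn] at hnp
    have hn0 : 0 < n := hn ▸ orderOf_pos _
    have hn1 : n ≠ 1 := by
      rw [hn, Ne, orderOf_eq_one_iff]
      exact hy
    have hxn : x ^ n ∈ Subgroup.center N := by
      rw [← QuotientGroup.eq_one_iff, QuotientGroup.mk_pow, hn, pow_orderOf_eq_one]
    -- a noncommuting partner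
    obtain ⟨y, hxy⟩ : ∃ y : N, x * y * x⁻¹ * y⁻¹ ≠ 1 := by
      by_contra hcon
      push Not at hcon
      apply hxc
      rw [Subgroup.mem_center_iff]
      intro g
      have := hcon g
      have e : x * g = (x * g * x⁻¹ * g⁻¹) * (g * x) := by group
      rw [e, this, one_mul]
    obtain ⟨c, hc⟩ : ∃ c : N, c = x * y * x⁻¹ * y⁻¹ := ⟨_, rfl⟩
    have hcc : c ∈ Subgroup.center N := hc ▸ hcomm x y
    have hcx : Commute c x := (Subgroup.mem_center_iff.mp hcc x).symm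
    have hcy : Commute c y := (Subgroup.mem_center_iff.mp hcc y).symm
    have hcn : c ^ n = 1 := by
      rw [hc, ← comm_pow_left (hc ▸ hcx) n]
      have := Subgroup.mem_center_iff.mp hxn y
      -- y * x^n = x^n * y
      rw [← this]
      group
    obtain ⟨m, hm⟩ : ∃ m : ℕ, m = orderOf c := ⟨_, rfl⟩
    have hmn : m ∣ n := hm ▸ orderOf_dvd_of_pow_eq_one hcn
    have hm1 : m ≠ 1 := by
      rw [hm, Ne, orderOf_eq_one_iff, hc]
      exact hxy
    have hm0 : 0 < m := hm ▸ orderOf_pos c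
    obtain ⟨r, hr, hrm⟩ := Nat.exists_prime_and_dvd hm1
    have hrn : r ∣ n := hrm.trans hmn
    have hrlt : r < n := by
      apply lt_of_le_of_ne (Nat.le_of_dvd hn0 hrn)
      intro heq
      exact hnp (heq ▸ hr)
    -- `x ^ r` is not central
    have hxr : x ^ r ∉ Subgroup.center N := by
      intro hh
      rw [← QuotientGroup.eq_one_iff, QuotientGroup.mk_pow] at hh
      have := orderOf_dvd_of_pow_eq_one hh
      rw [← hn] at this
      exact absurd (Nat.le_of_dvd hr.pos this) (not_le.mpr hrlt)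
    have hcz : cz ((x : G) ^ r) = cz (x : G) := by
      have h1 : IsCoatom (cz (x : G)) := h x x.2 (fun hh => hxc ((hcen x).mpr hh))
      have h2 : IsCoatom (cz ((x : G) ^ r)) := by
        apply h _ (N.pow_mem x.2 r)
        intro hh
        apply hxr
        rw [hcen]
        simpa using hh
      exact (h1.le_iff_eq h2.1).mp (cz_le_cz_pow _ r)
    -- the element `y' = y ^ (m / r)`
    obtain ⟨k, hk⟩ : ∃ k : ℕ, k = m / r := ⟨_, rfl⟩
    have hkr : k * r = m := hk ▸ Nat.div_mul_cancel hrm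
    have hk0 : 0 < k := by
      rcases Nat.eq_zero_or_pos k with h0 | h0
      · rw [h0, zero_mul] at hkr
        omega
      · exact h0
    have hklt : k < m := by
      have := hr.one_lt
      nlinarith
    have hck1 : c ^ k ≠ 1 := by
      rw [hm] at hklt
      exact pow_ne_one_of_lt_orderOf hk0.ne' hklt
    have e1 : x * y ^ k * x⁻¹ * (y ^ k)⁻¹ = c ^ k := by
      rw [hc]
      exact comm_pow_right (hc ▸ hcy) k
    have hckx : Commute (x * y ^ k * x⁻¹ * (y ^ k)⁻¹) x := by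
      rw [e1]
      exact hcx.pow_left k
    have e2 : x ^ r * y ^ k * (x ^ r)⁻¹ * (y ^ k)⁻¹ = 1 := by
      rw [comm_pow_left hckx r, e1, ← pow_mul, hkr, hm, pow_orderOf_eq_one]
    -- `y ^ k` commutes with `x ^ r`, hence with `x`
    have hyk : ((y ^ k : N) : G) ∈ cz ((x : G) ^ r) := by
      rw [mem_cz]
      have e3 : y ^ k * x ^ r = (x ^ r * y ^ k * (x ^ r)⁻¹ * (y ^ k)⁻¹)⁻¹ * (x ^ r * y ^ k) := by
        group
      rw [e2, inv_one, one_mul] at e3
      have := congrArg Subtype.val e3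
      simpa using this
    rw [hcz, mem_cz] at hyk
    apply hck1
    rw [← e1]
    have hyk' : y ^ k * x = x * y ^ k := Subtype.ext (by simpa using hyk)
    rw [← hyk']
    group
  obtain ⟨p, hp, hexp⟩ := exists_prime_exponent (fun a b => mul_comm' a b) hord
  exact ⟨p, hp, ⟨⟨fun a b => Subtype.ext (mul_comm' a.1 b.1)⟩⟩, fun a _ => hexp a⟩

/-- Reduction: the image of `N` modulo `Z(N)` satisfies the hypotheses of `rel_main`. -/
theorem rel_reduction [Finite G] (N : Subgroup G) [N.Normal]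
    (h : ∀ x : G, x ∈ N → x ∉ Subgroup.centralizer (N : Set G) → IsCoatom (cz x))
    (Z : Subgroup G) [Z.Normal] (hZ : Z = N ⊓ Subgroup.centralizer (N : Set G))
    (hnc : ∃ a ∈ N.map (QuotientGroup.mk' Z), ∃ b ∈ N.map (QuotientGroup.mk' Z), a * b ≠ b * a) :
    Hyp (N.map (QuotientGroup.mk' Z)) ∧
      ∀ x ∈ N.map (QuotientGroup.mk' Z),
        (∀ n ∈ N.map (QuotientGroup.mk' Z), n * x = x * n) → x = 1 := by
  classical
  obtain ⟨π, hπdef⟩ : ∃ π : G →* G ⧸ Z, π = QuotientGroup.mk' Z := ⟨_, rfl⟩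
  rw [← hπdef] at hnc ⊢
  have hπs : Function.Surjective π := hπdef ▸ QuotientGroup.mk'_surjective _
  have hπ1 : ∀ x : G, π x = 1 ↔ x ∈ Z := by
    intro x
    rw [hπdef]
    exact QuotientGroup.eq_one_iff x
  have hmemZ : ∀ x ∈ N, x ∈ Z ↔ x ∈ Subgroup.centralizer (N : Set G) := by
    intro x hx
    rw [hZ, Subgroup.mem_inf]
    exact ⟨fun hh => hh.2, fun hh => ⟨hx, hh⟩⟩
  have hZcz : ∀ x ∈ N, Z ≤ cz x := by
    intro x hx z hz
    rw [hZ, Subgroup.mem_inf, Subgroup.mem_centralizer_iff] at hz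
    rw [mem_cz]
    exact (hz.2 x hx).symm
  -- `Z₂`
  have hZ₂ : ∃ Z₂ : Subgroup G, ∀ z : G, z ∈ Z₂ ↔ z ∈ N ∧ ∀ n ∈ N, π n * π z = π z * π n := by
    refine ⟨N ⊓ (Subgroup.centralizer ((N.map π : Subgroup (G ⧸ Z)) : Set (G ⧸ Z))).comap π, ?_⟩
    intro z
    rw [Subgroup.mem_inf, Subgroup.mem_comap, Subgroup.mem_centralizer_iff]
    constructor
    · rintro ⟨h1, h2⟩
      exact ⟨h1, fun n hn => h2 (π n) (Subgroup.mem_map_of_mem π hn)⟩
    · rintro ⟨h1, h2⟩
      refine ⟨h1, ?_⟩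
      rintro _ ⟨n, hn, rfl⟩
      exact h2 n hn
  obtain ⟨Z₂, hZ₂mem⟩ := hZ₂
  have hZZ₂ : Z ≤ Z₂ := by
    intro z hz
    rw [hZ₂mem]
    refine ⟨by rw [hZ] at hz; exact hz.1, fun n _ => ?_⟩
    rw [(hπ1 z).mpr hz, mul_one, one_mul]
  obtain ⟨g₀, hg₀N, hg₀⟩ : ∃ g₀ ∈ N, g₀ ∉ Z₂ := by
    obtain ⟨a, ⟨a', ha', rfl⟩, b, ⟨b', hb', rfl⟩, hab⟩ := hnc
    refine ⟨b', hb', ?_⟩
    intro hb
    exact hab (((hZ₂mem b').mp hb).2 a' ha')
  have hczL : ∀ x : G, cz x ≤ (cz (π x)).comap π := by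
    intro x g hg
    rw [Subgroup.mem_comap, mem_cz, ← map_mul, ← map_mul, mem_cz.mp hg]
  have hL : ∀ x ∈ N, x ∉ Z₂ → (cz (π x)).comap π = cz x := by
    intro x hxN hx
    have hxZ : x ∉ Z := fun hh => hx (hZZ₂ hh)
    have hco := h x hxN (fun hh => hxZ ((hmemZ x hxN).mpr hh))
    by_contra hne
    have hlt : cz x < (cz (π x)).comap π := lt_of_le_of_ne (hczL x) (Ne.symm hne)
    have htop := hco.2 _ hlt
    apply hx
    rw [hZ₂mem]
    refine ⟨hxN, fun n _ => ?_⟩
    have : n ∈ (cz (π x)).comap π := htop ▸ Subgroup.mem_top n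
    rw [Subgroup.mem_comap, mem_cz] at this
    exact this
  have hZ₂cz : ∀ x ∈ N, x ∉ Z₂ → Z₂ ≤ cz x := by
    intro x hxN hx z hz
    rw [← hL x hxN hx, Subgroup.mem_comap, mem_cz]
    exact (((hZ₂mem z).mp hz).2 x hxN).symm
  have hZ₂Z : Z₂ ≤ Z := by
    intro z hz
    have hzN : z ∈ N := ((hZ₂mem z).mp hz).1
    rw [hmemZ z hzN, Subgroup.mem_centralizer_iff]
    intro g hgN
    by_cases hg : g ∈ Z₂
    · have h1 : g₀ * g ∉ Z₂ := by
        intro hh
        apply hg₀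
        have := Z₂.mul_mem hh (Z₂.inv_mem hg)
        rwa [mul_inv_cancel_right] at this
      have e1 := mem_cz.mp (hZ₂cz _ (N.mul_mem hg₀N hgN) h1 hz)
      have e0 := mem_cz.mp (hZ₂cz _ hg₀N hg₀ hz)
      have : g₀ * (g * z) = g₀ * (z * g) := by
        calc g₀ * (g * z) = (g₀ * g) * z := by group
          _ = z * (g₀ * g) := e1.symm
          _ = (z * g₀) * g := by group
          _ = (g₀ * z) * g := by rw [e0]
          _ = g₀ * (z * g) := by group
      exact mul_left_cancel this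
    · exact (mem_cz.mp (hZ₂cz g hgN hg hz)).symm
  constructor
  · rintro _ ⟨x, hxN, rfl⟩ hy1
    have hxZ : x ∉ Z := fun hh => hy1 ((hπ1 x).mpr hh)
    have hxZ₂ : x ∉ Z₂ := fun hh => hxZ (hZ₂Z hh)
    have hco := h x hxN (fun hh => hxZ ((hmemZ x hxN).mpr hh))
    have e1 : cz (π x) = (cz x).map π := by
      rw [← hL x hxN hxZ₂, Subgroup.map_comap_eq_self_of_surjective hπs]
    rw [e1, hπdef]
    exact Cfsg.Agent.Helper1.isCoatom_map_mk' Z (cz x) (hZcz x hxN) hco
  · rintro _ ⟨x, hxN, rfl⟩ hcen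
    rw [hπ1]
    apply hZ₂Z
    rw [hZ₂mem]
    exact ⟨hxN, fun n hn => hcen (π n) (Subgroup.mem_map_of_mem π hn)⟩

/-- **The relative theorem** (statement S3905). -/
theorem rel_centMax_main [Finite G] (N : Subgroup G) [hNn : N.Normal]
    (h : ∀ x : G, x ∈ N → x ∉ Subgroup.centralizer (N : Set G) →
      IsCoatom (Subgroup.centralizer ({x} : Set G))) :
    (∃ p : ℕ, p.Prime ∧
      Cfsg.IsElementaryAbelian p (⊤ : Subgroup (↥N ⧸ Subgroup.center ↥N))) ∨
    (∃ (Q K : Subgroup (↥N ⧸ Subgroup.center ↥N)) (p : ℕ), p.Prime ∧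
      Cfsg.IsFrobeniusComplement Q ∧ (Nat.card ↥Q).Prime ∧ K.Normal ∧
      (K : Set (↥N ⧸ Subgroup.center ↥N)) = Cfsg.frobeniusKernel Q ∧
      Cfsg.IsElementaryAbelian p K) := by
  classical
  by_cases hq : IsMulCommutative (↥N ⧸ Subgroup.center ↥N)
  · exact Or.inl (rel_elemAb N h hq)
  right
  obtain ⟨Z, hZ⟩ : ∃ Z : Subgroup G, Z = N ⊓ Subgroup.centralizer (N : Set G) := ⟨_, rfl⟩
  haveI hZn : Z.Normal := hZ ▸ inferInstance
  obtain ⟨π, hπdef⟩ : ∃ π : G →* G ⧸ Z, π = QuotientGroup.mk' Z := ⟨_, rfl⟩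
  -- the isomorphism `N / Z(N) ≃ image of N in G / Z`
  obtain ⟨f, hf⟩ : ∃ f : N →* N.map π, f = π.subgroupMap N := ⟨_, rfl⟩
  have hfs : Function.Surjective f := hf ▸ π.subgroupMap_surjective N
  have hker : f.ker = Subgroup.center N := by
    ext x
    rw [MonoidHom.mem_ker, Subgroup.mem_center_iff, Subtype.ext_iff]
    have e1 : ((f x : N.map π) : G ⧸ Z) = π (x : G) := by rw [hf]; rfl
    rw [e1, Subgroup.coe_one, hπdef, QuotientGroup.mk'_apply, QuotientGroup.eq_one_iff, hZ,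
      Subgroup.mem_inf, Subgroup.mem_centralizer_iff]
    constructor
    · rintro ⟨-, h2⟩ g
      exact Subtype.ext (h2 g g.2)
    · intro h2
      exact ⟨x.2, fun g hg => congrArg Subtype.val (h2 ⟨g, hg⟩)⟩
  let e : (↥N ⧸ Subgroup.center ↥N) ≃* N.map π :=
    (QuotientGroup.quotientMulEquivOfEq hker).symm.trans
      (QuotientGroup.quotientKerEquivOfSurjective f hfs)
  -- noncommutativity
  have hnc : ∃ a ∈ N.map π, ∃ b ∈ N.map π, a * b ≠ b * a := by
    by_contra hcon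
    push Not at hcon
    apply hq
    refine ⟨⟨fun a b => ?_⟩⟩
    apply e.injective
    rw [map_mul, map_mul]
    exact Subtype.ext (hcon _ (e a).2 _ (e b).2)
  rw [hπdef] at hnc
  obtain ⟨hH, hZ1⟩ := rel_reduction N h Z hZ hnc
  rw [← hπdef] at hH hZ1 hnc
  haveI hN1n : (N.map π).Normal := hNn.map π (hπdef ▸ QuotientGroup.mk'_surjective Z)
  have hN1 : N.map π ≠ ⊥ := by
    intro hb
    obtain ⟨a, ha, b, hb', hab⟩ := hnc
    rw [hb, Subgroup.mem_bot] at ha hb'
    rw [ha, hb'] at hab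
    exact hab rfl
  have hFS := rel_main (N.map π) hH hZ1 hN1
  have hFD := (frobData_of_frobStruct hFS).of_equiv e.symm
  exact hFD.concl

end Cfsg.Agent.Helper1.CentMax
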