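import Mathlib
import Cfsg.Agent.Helper7.ChevFieldAut

/-!
# Functoriality of the Chevalley groups `D.group F` in the field

A ring homomorphism `f : F →+* K` of fields induces (entrywise) an injective homomorphism
`D.group F →* D.group K` sending `x_r(t)` to `x_r(f t)`.
-/

set_option autoImplicit false

namespace Cfsg.Agent.Helper1

open Cfsg Cfsg.Lie

/-- The homomorphism of `GL` induced entrywise by a ring homomorphism. -/
noncomputable def glFieldMap {ι : Type*} [Fintype ι] [DecidableEq ι] {F K : Type*} [Field F] [Field K]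
    (f : F →+* K) : GL ι F →* GL ι K :=
  Units.map (RingHom.mapMatrix f).toMonoidHom

theorem glFieldMap_coe {ι : Type*} [Fintype ι] [DecidableEq ι] {F K : Type*} [Field F] [Field K]
    (f : F →+* K) (g : GL ι F) :
    ((glFieldMap f g : GL ι K) : Matrix ι ι K) = (g : Matrix ι ι F).map f := rfl

theorem glFieldMap_injective {ι : Type*} [Fintype ι] [DecidableEq ι] {F K : Type*} [Field F] [Field K]
    (f : F →+* K) : Function.Injective (glFieldMap (ι := ι) f) := by
  intro g h hgh
  apply Units.ext
  have h1 : ((glFieldMap f g : GL ι K) : Matrix ι ι K) = ((glFieldMap f h : GL ι K) : Matrix ι ι K) := by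
    rw [hgh]
  rw [glFieldMap_coe, glFieldMap_coe] at h1
  ext i j
  have h2 := congrFun (congrFun h1 i) j
  simp only [Matrix.map_apply] at h2
  exact f.injective h2

theorem glFieldMap_comp {ι : Type*} [Fintype ι] [DecidableEq ι] {F K L : Type*} [Field F] [Field K]
    [Field L] (f : F →+* K) (g : K →+* L) (x : GL ι F) :
    glFieldMap g (glFieldMap f x) = glFieldMap (g.comp f) x := by
  apply Units.ext
  rw [glFieldMap_coe, glFieldMap_coe, glFieldMap_coe]
  ext i j
  simp [Matrix.map_apply]

theorem chev_map_group_le {F K : Type*} [Field F] [Field K] (D : ChevalleyDatum) (f : F →+* K) :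
    (D.group F).map (glFieldMap f) ≤ D.group K := by
  unfold ChevalleyDatum.group
  rw [MonoidHom.map_closure]
  apply Subgroup.closure_mono
  rintro g ⟨h, ⟨r, t, hh⟩, rfl⟩
  refine ⟨r, f t, ?_⟩
  rw [glFieldMap_coe, hh]
  exact Cfsg.Agent.Helper7.xMat_map D f r t

/-- The homomorphism `D.group F →* D.group K` induced by a ring homomorphism `f : F →+* K`. -/
noncomputable def chevFieldMap {F K : Type*} [Field F] [Field K] (D : ChevalleyDatum) (f : F →+* K) :
    ↥(D.group F) →* ↥(D.group K) where
  toFun g := ⟨glFieldMap f (g : GL D.Idx F),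
    chev_map_group_le D f (Subgroup.mem_map_of_mem _ g.2)⟩
  map_one' := by
    apply Subtype.ext
    simp
  map_mul' a b := by
    apply Subtype.ext
    simp

theorem chevFieldMap_coe {F K : Type*} [Field F] [Field K] (D : ChevalleyDatum) (f : F →+* K)
    (g : ↥(D.group F)) :
    (((chevFieldMap D f g : ↥(D.group K)) : GL D.Idx K) : Matrix D.Idx D.Idx K) =
      ((g : GL D.Idx F) : Matrix D.Idx D.Idx F).map f := rfl

theorem chevFieldMap_injective {F K : Type*} [Field F] [Field K] (D : ChevalleyDatum) (f : F →+* K) :
    Function.Injective (chevFieldMap D f) := by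
  intro g h hgh
  apply Subtype.ext
  apply glFieldMap_injective f
  exact congrArg Subtype.val hgh

/-- The image of a root element is the root element with the mapped parameter. -/
theorem chevFieldMap_xMat {F K : Type*} [Field F] [Field K] (D : ChevalleyDatum) (f : F →+* K)
    (g : ↥(D.group F)) (r : Fin D.nroots) (t : F)
    (hg : ((g : GL D.Idx F) : Matrix D.Idx D.Idx F) = D.xMat F r t) :
    (((chevFieldMap D f g : ↥(D.group K)) : GL D.Idx K) : Matrix D.Idx D.Idx K) = D.xMat K r (f t) := by
  rw [chevFieldMap_coe, hg]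
  exact Cfsg.Agent.Helper7.xMat_map D f r t

/-- Entrywise Frobenius-type maps commute with the field map: if `σ : K →+* K` fixes `f(F)` pointwise
then the image of `D.group F` in `D.group K` is fixed by the entrywise `σ`. -/
theorem chevFieldMap_fixed {F K : Type*} [Field F] [Field K] (D : ChevalleyDatum) (f : F →+* K)
    (σ : K →+* K) (hσ : ∀ a : F, σ (f a) = f a) (g : ↥(D.group F)) :
    chevFieldMap D σ (chevFieldMap D f g) = chevFieldMap D f g := by
  apply Subtype.ext
  apply Units.ext
  change ((glFieldMap σ (glFieldMap f (g : GL D.Idx F)) : GL D.Idx K) : Matrix D.Idx D.Idx K) =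
    ((glFieldMap f (g : GL D.Idx F) : GL D.Idx K) : Matrix D.Idx D.Idx K)
  rw [glFieldMap_coe, glFieldMap_coe]
  ext i j
  simp [Matrix.map_apply, hσ]

end Cfsg.Agent.Helper1
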