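import Mathlib

/-!
# Class products in `PSL_d` (S2272): linear algebra tools

* a vector space is not the union of two proper subspaces;
* separating functionals on `n → F`, written as dot products;
* `SL_d(F)` is transitive on linearly independent families up to rescaling one chosen vector.
-/

namespace Cfsg.Agent.Helper1.ClsProd

open Matrix Module

variable {F : Type*} [Field F]

/-- A vector space is not the union of two proper subspaces. -/
theorem exists_notMem_two {V : Type*} [AddCommGroup V] [Module F V]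
    (P Q : Submodule F V) (hP : P ≠ ⊤) (hQ : Q ≠ ⊤) : ∃ v, v ∉ P ∧ v ∉ Q := by
  obtain ⟨p, hp⟩ : ∃ p, p ∉ P := by
    by_contra h
    exact hP (eq_top_iff.mpr fun x _ => not_not.mp fun hx => h ⟨x, hx⟩)
  obtain ⟨q, hq⟩ : ∃ q, q ∉ Q := by
    by_contra h
    exact hQ (eq_top_iff.mpr fun x _ => not_not.mp fun hx => h ⟨x, hx⟩)
  by_cases h1 : p ∈ Q
  · by_cases h2 : q ∈ P
    · refine ⟨p + q, fun h => hp ?_, fun h => hq ?_⟩
      · simpa using P.sub_mem h h2
      · simpa using Q.sub_mem h h1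
    · exact ⟨q, h2, hq⟩
  · exact ⟨p, hp, h1⟩

/-- A separating functional, written as a dot product. -/
theorem exists_dot_sep {n : Type*} [Fintype n] [DecidableEq n] (W : Submodule F (n → F))
    {v : n → F} (hv : v ∉ W) :
    ∃ φ : n → F, φ ⬝ᵥ v ≠ 0 ∧ ∀ w ∈ W, φ ⬝ᵥ w = 0 := by
  obtain ⟨f, hfv, hf⟩ := Submodule.exists_le_ker_of_notMem hv
  have key : ∀ w, ((dotProductEquiv F n).symm f) ⬝ᵥ w = f w := by
    intro w
    have : (dotProductEquiv F n) ((dotProductEquiv F n).symm f) w = f w := by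
      rw [LinearEquiv.apply_symm_apply]
    rwa [dotProductEquiv_apply_apply] at this
  refine ⟨(dotProductEquiv F n).symm f, ?_, ?_⟩
  · rwa [key]
  · intro w hw
    rw [key]
    exact LinearMap.mem_ker.mp (hf hw)

/-- The span of fewer than `d` vectors of `F^d` is proper. -/
theorem span_range_ne_top {d k : ℕ} (v : Fin k → (Fin d → F)) (h : k < d) :
    Submodule.span F (Set.range v) ≠ ⊤ := by
  intro htop
  have h1 : finrank F (Submodule.span F (Set.range v)) ≤ k := by
    simpa [Set.finrank] using finrank_range_le_card (R := F) v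
  rw [htop, finrank_top, Module.finrank_fin_fun] at h1
  omega

/-- `SL_d(F)` maps any linearly independent family to any other one of the same size,
up to rescaling one chosen vector. -/
theorem exists_SL_map {d : ℕ} {ι : Type*} (v w : ι → (Fin d → F))
    (hv : LinearIndependent F v) (hw : LinearIndependent F w) (i₀ : ι) :
    ∃ (g : Matrix.SpecialLinearGroup (Fin d) F) (t : F), t ≠ 0 ∧
      (∀ i, i ≠ i₀ → (↑g : Matrix (Fin d) (Fin d) F) *ᵥ v i = w i) ∧
      (↑g : Matrix (Fin d) (Fin d) F) *ᵥ v (i₀) = t • w (i₀) := by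
  classical
  let f : Submodule.span F (Set.range v) ≃ₗ[F] Submodule.span F (Set.range w) :=
    (Basis.span hv).equiv (Basis.span hw) (Equiv.refl _)
  obtain ⟨g₁, hg₁⟩ := Submodule.exists_linearEquiv_restrict_eq f
  have hg₁v : ∀ i, g₁ (v i) = w i := by
    intro i
    have h1 := hg₁ (Basis.span hv i)
    rw [Basis.equiv_apply] at h1
    simpa using h1.symm
  set δ : F := LinearMap.det (g₁ : (Fin d → F) →ₗ[F] (Fin d → F)) with hδ
  have hδ0 : δ ≠ 0 := (LinearEquiv.isUnit_det' g₁).ne_zero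
  have hlast : w (i₀) ∉ Submodule.span F (w '' {i | i ≠ i₀}) :=
    hw.notMem_span_image (by simp)
  obtain ⟨f₀, hf₀, hker⟩ := Submodule.exists_le_ker_of_notMem hlast
  set u : Fin d → F := ((δ⁻¹ - 1) / f₀ (w (i₀))) • w (i₀) with hu
  have hfu : f₀ u = δ⁻¹ - 1 := by
    rw [hu, map_smul, smul_eq_mul, div_mul_cancel₀ _ hf₀]
  set G : (Fin d → F) →ₗ[F] (Fin d → F) :=
    (LinearMap.transvection f₀ u) ∘ₗ (g₁ : (Fin d → F) →ₗ[F] (Fin d → F)) with hG
  have hdetG : LinearMap.det G = 1 := by
    rw [hG, LinearMap.det_comp, LinearMap.transvection.det, hfu, ← hδ]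
    field_simp
    ring
  have hGv : ∀ i, G (v i) = w i + f₀ (w i) • u := by
    intro i
    rw [hG, LinearMap.comp_apply, LinearEquiv.coe_coe, hg₁v, LinearMap.transvection.apply]
  refine ⟨⟨LinearMap.toMatrix' G, by rw [LinearMap.det_toMatrix', hdetG]⟩, δ⁻¹,
    inv_ne_zero hδ0, ?_, ?_⟩
  · intro i hi
    show LinearMap.toMatrix' G *ᵥ v i = w i
    rw [LinearMap.toMatrix'_mulVec, hGv]
    have : f₀ (w i) = 0 :=
      LinearMap.mem_ker.mp (hker (Submodule.subset_span ⟨i, hi, rfl⟩))
    rw [this, zero_smul, add_zero]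
  · show LinearMap.toMatrix' G *ᵥ v (i₀) = δ⁻¹ • w (i₀)
    rw [LinearMap.toMatrix'_mulVec, hGv, hu, smul_smul, mul_div_cancel₀ _ hf₀]
    rw [sub_smul, one_smul]
    abel

end Cfsg.Agent.Helper1.ClsProd
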