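import Mathlib

/-!
# Class products in `PSL_d` (S2272): the trace along a transvection family

`tr (A (1+sN) B (1-sN))` for `N = x φᵀ` is the quadratic
`tr(AB) + s (φ(BAx) - φ(ABx)) - s² φ(Bx) φ(Ax)`.
-/

namespace Cfsg.Agent.Helper1.ClsProd

open Matrix

variable {F : Type*} [Field F] {n : Type*} [Fintype n] [DecidableEq n]

/-- The matrix `1 + s • x φᵀ`. -/
def tv (x φ : n → F) (s : F) : Matrix n n F := 1 + s • vecMulVec x φ

theorem vecMulVec_sq_zero (x φ : n → F) (h : φ ⬝ᵥ x = 0) :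
    vecMulVec x φ * vecMulVec x φ = 0 := by
  rw [vecMulVec_mul_vecMulVec, h, zero_smul, vecMulVec_zero]

theorem tv_mul_tv_neg (x φ : n → F) (h : φ ⬝ᵥ x = 0) (s : F) :
    tv x φ s * tv x φ (-s) = 1 := by
  unfold tv
  rw [Matrix.add_mul, Matrix.mul_add, Matrix.mul_add, Matrix.one_mul, Matrix.mul_one,
    Matrix.one_mul, Matrix.smul_mul, Matrix.mul_smul, vecMulVec_sq_zero x φ h, smul_zero,
    smul_zero, add_zero, neg_smul]
  abel

theorem det_tv (x φ : n → F) (h : φ ⬝ᵥ x = 0) (s : F) : (tv x φ s).det = 1 := by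
  unfold tv
  rw [← smul_vecMulVec, vecMulVec_eq Unit, det_one_add_replicateCol_mul_replicateRow,
    dotProduct_smul, h, smul_zero, add_zero]

theorem trace_mul_vecMulVec_mul (A B : Matrix n n F) (x φ : n → F) :
    trace (A * vecMulVec x φ * B) = φ ⬝ᵥ (B *ᵥ (A *ᵥ x)) := by
  rw [mul_vecMulVec, vecMulVec_mul, trace_vecMulVec, dotProduct_comm, ← dotProduct_mulVec]

theorem trace_mul_mul_vecMulVec (A B : Matrix n n F) (x φ : n → F) :
    trace (A * B * vecMulVec x φ) = φ ⬝ᵥ (A *ᵥ (B *ᵥ x)) := by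
  rw [mul_vecMulVec, trace_vecMulVec, dotProduct_comm, mulVec_mulVec]

theorem trace_mul_vecMulVec_mul_vecMulVec (A B : Matrix n n F) (x φ : n → F) :
    trace (A * vecMulVec x φ * B * vecMulVec x φ) =
      (φ ⬝ᵥ (B *ᵥ x)) * (φ ⬝ᵥ (A *ᵥ x)) := by
  rw [mul_vecMulVec A, vecMulVec_mul, vecMulVec_mul_vecMulVec, trace_vecMulVec, dotProduct_smul,
    smul_eq_mul, ← dotProduct_mulVec, dotProduct_comm (A *ᵥ x)]

theorem trace_tv_conj (A B : Matrix n n F) (x φ : n → F) (s : F) :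
    trace (A * tv x φ s * B * tv x φ (-s)) =
      trace (A * B) + s * (φ ⬝ᵥ (B *ᵥ (A *ᵥ x)) - φ ⬝ᵥ (A *ᵥ (B *ᵥ x)))
        - s ^ 2 * ((φ ⬝ᵥ (B *ᵥ x)) * (φ ⬝ᵥ (A *ᵥ x))) := by
  have hexp : A * tv x φ s * B * tv x φ (-s) =
      A * B + s • (A * vecMulVec x φ * B) - s • (A * B * vecMulVec x φ)
        - (s * s) • (A * vecMulVec x φ * B * vecMulVec x φ) := by
    unfold tv
    simp only [Matrix.mul_add, Matrix.add_mul, Matrix.mul_one, Matrix.mul_smul,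
      Matrix.smul_mul, neg_smul, Matrix.mul_neg]
    module
  rw [hexp, trace_sub, trace_sub, trace_add, trace_smul, trace_smul, trace_smul,
    trace_mul_vecMulVec_mul, trace_mul_mul_vecMulVec, trace_mul_vecMulVec_mul_vecMulVec]
  simp only [smul_eq_mul]
  ring

theorem coe_inv_mul_coe (g : Matrix.SpecialLinearGroup n F) :
    (↑(g⁻¹) : Matrix n n F) * (↑g : Matrix n n F) = 1 := by
  rw [← Matrix.SpecialLinearGroup.coe_mul, inv_mul_cancel, Matrix.SpecialLinearGroup.coe_one]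

theorem coe_mul_coe_inv (g : Matrix.SpecialLinearGroup n F) :
    (↑g : Matrix n n F) * (↑(g⁻¹) : Matrix n n F) = 1 := by
  rw [← Matrix.SpecialLinearGroup.coe_mul, mul_inv_cancel, Matrix.SpecialLinearGroup.coe_one]

/-- The conjugate `g B g⁻¹` applied to `g v`. -/
theorem conj_mulVec (B : Matrix n n F) (g : Matrix.SpecialLinearGroup n F) (v : n → F) :
    ((↑g : Matrix n n F) * B * (↑(g⁻¹) : Matrix n n F)) *ᵥ ((↑g : Matrix n n F) *ᵥ v) =
      (↑g : Matrix n n F) *ᵥ (B *ᵥ v) := by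
  rw [mulVec_mulVec, Matrix.mul_assoc, coe_inv_mul_coe, Matrix.mul_one, ← mulVec_mulVec]

/-- Key lemma: if `β = 0` and `α ≠ 0` for the conjugate `B' = g₀ B g₀⁻¹`, then the trace of
`A · g B g⁻¹` takes every value. -/
theorem exists_conj_trace_eq (A B : Matrix n n F) (g₀ : Matrix.SpecialLinearGroup n F) (x φ p q : n → F)
    (h0 : φ ⬝ᵥ x = 0)
    (hp : ((↑g₀ : Matrix n n F) * B * (↑(g₀⁻¹) : Matrix n n F)) *ᵥ x = p)
    (hq : ((↑g₀ : Matrix n n F) * B * (↑(g₀⁻¹) : Matrix n n F)) *ᵥ (A *ᵥ x) = q)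
    (hβ : (φ ⬝ᵥ p) * (φ ⬝ᵥ (A *ᵥ x)) = 0)
    (hα : φ ⬝ᵥ q - φ ⬝ᵥ (A *ᵥ p) ≠ 0) (c : F) :
    ∃ g : Matrix.SpecialLinearGroup n F,
      trace (A * (↑g : Matrix n n F) * B * (↑(g⁻¹) : Matrix n n F)) = c := by
  set B' : Matrix n n F := (↑g₀ : Matrix n n F) * B * (↑(g₀⁻¹) : Matrix n n F) with hB'
  set α : F := φ ⬝ᵥ q - φ ⬝ᵥ (A *ᵥ p) with hαdef
  set s : F := (c - trace (A * B')) / α with hs
  let T : Matrix.SpecialLinearGroup n F := ⟨tv x φ s, det_tv x φ h0 s⟩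
  let T' : Matrix.SpecialLinearGroup n F := ⟨tv x φ (-s), det_tv x φ h0 (-s)⟩
  have hTinv : T⁻¹ = T' := by
    apply inv_eq_of_mul_eq_one_right
    apply Subtype.ext
    exact tv_mul_tv_neg x φ h0 s
  refine ⟨T * g₀, ?_⟩
  have e1 : (↑(T * g₀) : Matrix n n F) = tv x φ s * (↑g₀ : Matrix n n F) :=
    Matrix.SpecialLinearGroup.coe_mul T g₀
  have e2 : (↑((T * g₀)⁻¹) : Matrix n n F) = (↑(g₀⁻¹) : Matrix n n F) * tv x φ (-s) := by
    rw [_root_.mul_inv_rev, hTinv]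
    exact Matrix.SpecialLinearGroup.coe_mul g₀⁻¹ T'
  have h1 : A * (↑(T * g₀) : Matrix n n F) * B * (↑((T * g₀)⁻¹) : Matrix n n F) =
      A * tv x φ s * B' * tv x φ (-s) := by
    rw [e1, e2, hB']
    simp only [Matrix.mul_assoc]
  rw [h1, trace_tv_conj, hp, hq, hβ, mul_zero, sub_zero, ← hαdef, hs, div_mul_cancel₀ _ hα]
  ring

end Cfsg.Agent.Helper1.ClsProd
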