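import Cfsg.Agent.Helper1.ClsProdA
import Cfsg.Agent.Helper1.ClsProdB

/-!
# Class products in `PSL_d` (S2272): the constructions

For non-scalar `A, B ∈ M_d(F)`, `d ≥ 3`, the trace of `A · g B g⁻¹` (`g ∈ SL_d(F)`) takes every
value of `F`.
-/

namespace Cfsg.Agent.Helper1.ClsProd

open Matrix Module

variable {F : Type*} [Field F]

section general

variable {V : Type*} [AddCommGroup V] [Module F V]

theorem range2 (a b : V) : Set.range ![a, b] = {a, b} := by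
  simp only [Matrix.range_cons, Matrix.range_empty, Set.union_empty, Set.singleton_union]

theorem range3 (a b c : V) : Set.range ![a, b, c] = {a, b, c} := by
  simp only [Matrix.range_cons, Matrix.range_empty, Set.union_empty, Set.singleton_union]

theorem li3 {a b c : V} (h : LinearIndependent F ![a, b])
    (hc : c ∉ Submodule.span F {a, b}) : LinearIndependent F ![a, b, c] := by
  have h1 : LinearIndependent F ![c, a, b] := by
    refine linearIndependent_finCons.mpr ⟨h, ?_⟩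
    rwa [range2]
  have h2 := h1.comp ![1, 2, 0] (by decide)
  have e : (![c, a, b] ∘ ![1, 2, 0]) = ![a, b, c] := by
    funext i; fin_cases i <;> rfl
  rwa [e] at h2

theorem li4 {a b c e : V} (h : LinearIndependent F ![a, b, c])
    (he : e ∉ Submodule.span F {a, b, c}) : LinearIndependent F ![a, b, c, e] := by
  have h1 : LinearIndependent F ![e, a, b, c] := by
    refine linearIndependent_finCons.mpr ⟨h, ?_⟩
    rwa [range3]
  have h2 := h1.comp ![1, 2, 3, 0] (by decide)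
  have e : (![e, a, b, c] ∘ ![1, 2, 3, 0]) = ![a, b, c, e] := by
    funext i; fin_cases i <;> rfl
  rwa [e] at h2

theorem li3_swap {a b c : V} (h : LinearIndependent F ![a, b, c]) :
    LinearIndependent F ![a, c, b] := by
  have h2 := h.comp ![0, 2, 1] (by decide)
  have e : (![a, b, c] ∘ ![0, 2, 1]) = ![a, c, b] := by
    funext i; fin_cases i <;> rfl
  rwa [e] at h2

theorem li4_swap {a b c e : V} (h : LinearIndependent F ![a, b, c, e]) :
    LinearIndependent F ![a, c, b, e] := by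
  have h2 := h.comp ![0, 2, 1, 3] (by decide)
  have e : (![a, b, c, e] ∘ ![0, 2, 1, 3]) = ![a, c, b, e] := by
    funext i; fin_cases i <;> rfl
  rwa [e] at h2

end general

variable {d : ℕ}

theorem span_pair_ne_top (hd : 3 ≤ d) (a b : Fin d → F) :
    Submodule.span F ({a, b} : Set (Fin d → F)) ≠ ⊤ := by
  rw [← range2]
  exact span_range_ne_top _ (by omega)

theorem span_triple_ne_top (hd : 4 ≤ d) (a b c : Fin d → F) :
    Submodule.span F ({a, b, c} : Set (Fin d → F)) ≠ ⊤ := by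
  rw [← range3]
  exact span_range_ne_top _ (by omega)

theorem ne_zero_of_noneig {M : Matrix (Fin d) (Fin d) F} {x : Fin d → F}
    (h : ∀ c : F, M *ᵥ x ≠ c • x) : x ≠ 0 := by
  rintro rfl
  exact h 0 (by simp)

theorem pair_indep {M : Matrix (Fin d) (Fin d) F} {x : Fin d → F}
    (h : ∀ c : F, M *ᵥ x ≠ c • x) : LinearIndependent F ![x, M *ᵥ x] :=
  (LinearIndependent.pair_iff' (ne_zero_of_noneig h)).mpr fun a ha => h a ha.symm

/-- Case E, choice of the eigenvector. -/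
theorem caseE_pick (hd : 3 ≤ d) (A : Matrix (Fin d) (Fin d) F)
    (hA : ∃ w, ∀ c : F, A *ᵥ w ≠ c • w) {x : Fin d → F} (hx : x ≠ 0) {l : F}
    (hAx : A *ᵥ x = l • x) :
    ∃ x' w : Fin d → F, x' ≠ 0 ∧ A *ᵥ x' = l • x' ∧
      A *ᵥ w - l • w ∉ Submodule.span F {x'} := by
  obtain ⟨w₁, hw₁⟩ := hA
  have hu : A *ᵥ w₁ - l • w₁ ≠ 0 := sub_ne_zero.mpr (hw₁ l)
  by_cases h : ∃ w, A *ᵥ w - l • w ∉ Submodule.span F {x}
  · obtain ⟨w, hw⟩ := h
    exact ⟨x, w, hx, hAx, hw⟩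
  · have h' : ∀ w, A *ᵥ w - l • w ∈ Submodule.span F {x} := fun w =>
      not_not.mp fun hw => h ⟨w, hw⟩
    set L : (Fin d → F) →ₗ[F] (Fin d → F) := Matrix.toLin' A - l • LinearMap.id with hL
    have hLw : ∀ w, L w = A *ᵥ w - l • w := fun w => by
      simp [hL, Matrix.toLin'_apply]
    have hrange : LinearMap.range L ≤ Submodule.span F {x} := by
      rintro _ ⟨w, rfl⟩
      rw [hLw]
      exact h' w
    have h1 : finrank F (LinearMap.range L) ≤ 1 := by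
      have := Submodule.finrank_mono hrange
      rwa [finrank_span_singleton hx] at this
    have h2 := LinearMap.finrank_range_add_finrank_ker L
    rw [Module.finrank_fin_fun] at h2
    have h3 : ¬ (LinearMap.ker L ≤ Submodule.span F {x}) := by
      intro hle
      have := Submodule.finrank_mono hle
      rw [finrank_span_singleton hx] at this
      omega
    obtain ⟨x', hx'ker, hx'⟩ := SetLike.not_le_iff_exists.mp h3
    have hx'0 : x' ≠ 0 := by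
      rintro rfl
      exact hx' (Submodule.zero_mem _)
    have hAx' : A *ᵥ x' = l • x' := by
      have := LinearMap.mem_ker.mp hx'ker
      rw [hLw] at this
      exact sub_eq_zero.mp this
    refine ⟨x', w₁, hx'0, hAx', ?_⟩
    intro hmem
    obtain ⟨e, he⟩ := Submodule.mem_span_singleton.mp hmem
    obtain ⟨c, hc⟩ := Submodule.mem_span_singleton.mp (h' w₁)
    have he0 : e ≠ 0 := by
      rintro rfl
      rw [zero_smul] at he
      exact hu he.symm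
    apply hx'
    rw [Submodule.mem_span_singleton]
    refine ⟨e⁻¹ * c, ?_⟩
    rw [mul_smul, hc, ← he, smul_smul, inv_mul_cancel₀ he0, one_smul]

/-- Case E: `A` has an eigenvector. -/
theorem caseE (A B : Matrix (Fin d) (Fin d) F)
    (hB : ∃ w, ∀ c : F, B *ᵥ w ≠ c • w) {x w : Fin d → F} (hx : x ≠ 0) {l : F}
    (hAx : A *ᵥ x = l • x) (hw : A *ᵥ w - l • w ∉ Submodule.span F {x}) (c : F) :
    ∃ g : Matrix.SpecialLinearGroup (Fin d) F,
      trace (A * (↑g : Matrix (Fin d) (Fin d) F) * B *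
        (↑(g⁻¹) : Matrix (Fin d) (Fin d) F)) = c := by
  obtain ⟨x₀, hx₀⟩ := hB
  have hsrc : LinearIndependent F ![x₀, B *ᵥ x₀] := pair_indep hx₀
  have htgt : LinearIndependent F ![x, w] := by
    refine (LinearIndependent.pair_iff' hx).mpr fun a ha => hw ?_
    rw [← ha, mulVec_smul, hAx, smul_comm, sub_self]
    exact Submodule.zero_mem _
  obtain ⟨g₀, t, ht, hg, hg1⟩ := exists_SL_map ![x₀, B *ᵥ x₀] ![x, w] hsrc htgt 1
  have h0 : (↑g₀ : Matrix (Fin d) (Fin d) F) *ᵥ x₀ = x := hg 0 (by decide)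
  have h1 : (↑g₀ : Matrix (Fin d) (Fin d) F) *ᵥ (B *ᵥ x₀) = t • w := hg1
  obtain ⟨φ, hφu, hφ⟩ := exists_dot_sep (Submodule.span F {x}) hw
  have hφx : φ ⬝ᵥ x = 0 := hφ x (Submodule.mem_span_singleton_self x)
  have hp : ((↑g₀ : Matrix (Fin d) (Fin d) F) * B * (↑(g₀⁻¹) : Matrix (Fin d) (Fin d) F)) *ᵥ x
      = t • w := by
    have := conj_mulVec B g₀ x₀
    rwa [h0, h1] at this
  have hq : ((↑g₀ : Matrix (Fin d) (Fin d) F) * B * (↑(g₀⁻¹) : Matrix (Fin d) (Fin d) F)) *ᵥ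
      (A *ᵥ x) = (l * t) • w := by
    rw [hAx, mulVec_smul, hp, smul_smul]
  refine exists_conj_trace_eq A B g₀ x φ (t • w) ((l * t) • w) hφx hp hq ?_ ?_ c
  · rw [hAx, dotProduct_smul, dotProduct_smul, hφx, smul_zero, mul_zero]
  · have hu : φ ⬝ᵥ (A *ᵥ w - l • w) = φ ⬝ᵥ (A *ᵥ w) - l * (φ ⬝ᵥ w) := by
      rw [dotProduct_sub, dotProduct_smul, smul_eq_mul]
    have : φ ⬝ᵥ ((l * t) • w) - φ ⬝ᵥ (A *ᵥ (t • w)) = -(t * (φ ⬝ᵥ (A *ᵥ w - l • w))) := by
      rw [hu, mulVec_smul, dotProduct_smul, dotProduct_smul, smul_eq_mul, smul_eq_mul]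
      ring
    rw [this]
    exact neg_ne_zero.mpr (mul_ne_zero ht hφu)

/-- Case N1. -/
theorem caseN1 (hd : 3 ≤ d) (A B : Matrix (Fin d) (Fin d) F)
    (hN : ∀ x : Fin d → F, x ≠ 0 → ∀ l : F, A *ᵥ x ≠ l • x)
    {x₀ y₀ : Fin d → F} (hx₀ : x₀ ≠ 0)
    (hsrc : LinearIndependent F ![x₀, B *ᵥ x₀, y₀]) {a e b : F}
    (hBy : B *ᵥ y₀ = a • x₀ + e • (B *ᵥ x₀) + b • y₀) (c : F) :
    ∃ g : Matrix.SpecialLinearGroup (Fin d) F,
      trace (A * (↑g : Matrix (Fin d) (Fin d) F) * B *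
        (↑(g⁻¹) : Matrix (Fin d) (Fin d) F)) = c := by
  have hxy : LinearIndependent F ![x₀, A *ᵥ x₀] := pair_indep (hN x₀ hx₀)
  set P : Submodule F (Fin d → F) := Submodule.span F {x₀, A *ᵥ x₀} with hP
  have hPtop : P ≠ ⊤ := span_pair_ne_top hd _ _
  set L : (Fin d → F) →ₗ[F] (Fin d → F) := Matrix.toLin' A - e • LinearMap.id with hL
  have hLw : ∀ w, L w = A *ᵥ w - e • w := fun w => by
    simp [hL, Matrix.toLin'_apply]
  have hLinj : Function.Injective L := by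
    rw [← LinearMap.ker_eq_bot, Submodule.eq_bot_iff]
    intro v hv
    by_contra hv0
    have := LinearMap.mem_ker.mp hv
    rw [hLw] at this
    exact hN v hv0 e (sub_eq_zero.mp this)
  have hQtop : P.comap L ≠ ⊤ := by
    intro htop
    apply hPtop
    rw [eq_top_iff]
    intro v _
    obtain ⟨u, rfl⟩ := (LinearMap.injective_iff_surjective.mp hLinj) v
    have : u ∈ P.comap L := by rw [htop]; trivial
    exact this
  obtain ⟨z, hzP, hzQ⟩ := exists_notMem_two P (P.comap L) hPtop hQtop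
  have hLz : A *ᵥ z - e • z ∉ P := by
    rw [← hLw]
    exact hzQ
  have htgt : LinearIndependent F ![x₀, z, A *ᵥ x₀] := li3_swap (li3 hxy hzP)
  obtain ⟨g₀, t, ht, hg, hg1⟩ :=
    exists_SL_map ![x₀, B *ᵥ x₀, y₀] ![x₀, z, A *ᵥ x₀] hsrc htgt 1
  have h0 : (↑g₀ : Matrix (Fin d) (Fin d) F) *ᵥ x₀ = x₀ := hg 0 (by decide)
  have h1 : (↑g₀ : Matrix (Fin d) (Fin d) F) *ᵥ (B *ᵥ x₀) = t • z := hg1
  have h2 : (↑g₀ : Matrix (Fin d) (Fin d) F) *ᵥ y₀ = A *ᵥ x₀ := hg 2 (by decide)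
  obtain ⟨φ, hφu, hφ⟩ := exists_dot_sep P hLz
  have hφx : φ ⬝ᵥ x₀ = 0 := hφ x₀ (Submodule.subset_span (by simp))
  have hφy : φ ⬝ᵥ (A *ᵥ x₀) = 0 := hφ _ (Submodule.subset_span (by simp))
  have hp : ((↑g₀ : Matrix (Fin d) (Fin d) F) * B * (↑(g₀⁻¹) : Matrix (Fin d) (Fin d) F)) *ᵥ x₀
      = t • z := by
    have := conj_mulVec B g₀ x₀
    rwa [h0, h1] at this
  have hq : ((↑g₀ : Matrix (Fin d) (Fin d) F) * B * (↑(g₀⁻¹) : Matrix (Fin d) (Fin d) F)) *ᵥ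
      (A *ᵥ x₀) = a • x₀ + (e * t) • z + b • (A *ᵥ x₀) := by
    have := conj_mulVec B g₀ y₀
    rw [h2, hBy, mulVec_add, mulVec_add, mulVec_smul, mulVec_smul, mulVec_smul, h0, h1, h2,
      smul_smul] at this
    exact this
  refine exists_conj_trace_eq A B g₀ x₀ φ (t • z) (a • x₀ + (e * t) • z + b • (A *ᵥ x₀))
    hφx hp hq ?_ ?_ c
  · rw [hφy, mul_zero]
  · have hu : φ ⬝ᵥ (A *ᵥ z - e • z) = φ ⬝ᵥ (A *ᵥ z) - e * (φ ⬝ᵥ z) := by
      rw [dotProduct_sub, dotProduct_smul, smul_eq_mul]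
    have : φ ⬝ᵥ (a • x₀ + (e * t) • z + b • (A *ᵥ x₀)) - φ ⬝ᵥ (A *ᵥ (t • z)) =
        -(t * (φ ⬝ᵥ (A *ᵥ z - e • z))) := by
      rw [hu, mulVec_smul, dotProduct_add, dotProduct_add, dotProduct_smul, dotProduct_smul,
        dotProduct_smul, dotProduct_smul, hφx, hφy, smul_eq_mul, smul_eq_mul, smul_eq_mul,
        smul_eq_mul]
      ring
    rw [this]
    exact neg_ne_zero.mpr (mul_ne_zero ht hφu)

/-- Case N2. -/
theorem caseN2 (hd : 3 ≤ d) (A B : Matrix (Fin d) (Fin d) F)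
    (hN : ∀ x : Fin d → F, x ≠ 0 → ∀ l : F, A *ᵥ x ≠ l • x)
    {x₀ y₀ : Fin d → F} (hx₀ : x₀ ≠ 0)
    (hsrc : LinearIndependent F ![x₀, B *ᵥ x₀, y₀, B *ᵥ y₀]) (c : F) :
    ∃ g : Matrix.SpecialLinearGroup (Fin d) F,
      trace (A * (↑g : Matrix (Fin d) (Fin d) F) * B *
        (↑(g⁻¹) : Matrix (Fin d) (Fin d) F)) = c := by
  have hd4 : 4 ≤ d := by
    have := hsrc.fintype_card_le_finrank
    simpa using this
  have hxy : LinearIndependent F ![x₀, A *ᵥ x₀] := pair_indep (hN x₀ hx₀)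
  set P : Submodule F (Fin d → F) := Submodule.span F {x₀, A *ᵥ x₀} with hP
  have hPtop : P ≠ ⊤ := span_pair_ne_top hd _ _
  obtain ⟨z, hzP⟩ : ∃ z, z ∉ P := by
    by_contra h
    exact hPtop (eq_top_iff.mpr fun v _ => not_not.mp fun hv => h ⟨v, hv⟩)
  set U : Submodule F (Fin d → F) := Submodule.span F {x₀, A *ᵥ x₀, A *ᵥ z} with hU
  have hUtop : U ≠ ⊤ := span_triple_ne_top hd4 _ _ _
  obtain ⟨v, hvU⟩ : ∃ v, v ∉ U := by
    by_contra h
    exact hUtop (eq_top_iff.mpr fun v _ => not_not.mp fun hv => h ⟨v, hv⟩)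
  obtain ⟨φ, hφv, hφ⟩ := exists_dot_sep U hvU
  have hφx : φ ⬝ᵥ x₀ = 0 := hφ x₀ (Submodule.subset_span (by simp))
  have hφy : φ ⬝ᵥ (A *ᵥ x₀) = 0 := hφ _ (Submodule.subset_span (by simp))
  have hφz : φ ⬝ᵥ (A *ᵥ z) = 0 := hφ _ (Submodule.subset_span (by simp))
  set Q₁ : Submodule F (Fin d → F) := Submodule.span F {x₀, A *ᵥ x₀, z} with hQ₁
  have hQ₁top : Q₁ ≠ ⊤ := span_triple_ne_top hd4 _ _ _
  set Q₂ : Submodule F (Fin d → F) := LinearMap.ker (dotProductEquiv F (Fin d) φ) with hQ₂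
  have hQ₂mem : ∀ r, r ∈ Q₂ ↔ φ ⬝ᵥ r = 0 := fun r => by
    rw [hQ₂, LinearMap.mem_ker, dotProductEquiv_apply_apply]
  have hQ₂top : Q₂ ≠ ⊤ := by
    intro htop
    apply hφv
    rw [← hQ₂mem, htop]
    trivial
  obtain ⟨r, hr1, hr2⟩ := exists_notMem_two Q₁ Q₂ hQ₁top hQ₂top
  have hφr : φ ⬝ᵥ r ≠ 0 := fun h => hr2 ((hQ₂mem r).mpr h)
  have htgt : LinearIndependent F ![x₀, z, A *ᵥ x₀, r] := li4_swap (li4 (li3 hxy hzP) hr1)
  obtain ⟨g₀, t, ht, hg, hg1⟩ :=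
    exists_SL_map ![x₀, B *ᵥ x₀, y₀, B *ᵥ y₀] ![x₀, z, A *ᵥ x₀, r] hsrc htgt 1
  have h0 : (↑g₀ : Matrix (Fin d) (Fin d) F) *ᵥ x₀ = x₀ := hg 0 (by decide)
  have h1 : (↑g₀ : Matrix (Fin d) (Fin d) F) *ᵥ (B *ᵥ x₀) = t • z := hg1
  have h2 : (↑g₀ : Matrix (Fin d) (Fin d) F) *ᵥ y₀ = A *ᵥ x₀ := hg 2 (by decide)
  have h3 : (↑g₀ : Matrix (Fin d) (Fin d) F) *ᵥ (B *ᵥ y₀) = r := hg 3 (by decide)
  have hp : ((↑g₀ : Matrix (Fin d) (Fin d) F) * B * (↑(g₀⁻¹) : Matrix (Fin d) (Fin d) F)) *ᵥ x₀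
      = t • z := by
    have := conj_mulVec B g₀ x₀
    rwa [h0, h1] at this
  have hq : ((↑g₀ : Matrix (Fin d) (Fin d) F) * B * (↑(g₀⁻¹) : Matrix (Fin d) (Fin d) F)) *ᵥ
      (A *ᵥ x₀) = r := by
    have := conj_mulVec B g₀ y₀
    rwa [h2, h3] at this
  refine exists_conj_trace_eq A B g₀ x₀ φ (t • z) r hφx hp hq ?_ ?_ c
  · rw [hφy, mul_zero]
  · rw [mulVec_smul, dotProduct_smul, hφz, smul_zero, sub_zero]
    exact hφr

/-- For non-scalar `A, B ∈ M_d(F)`, `d ≥ 3`, the trace of `A · g B g⁻¹` takes every value. -/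
theorem exists_conj_trace (hd : 3 ≤ d) (A B : Matrix (Fin d) (Fin d) F)
    (hA : ∃ w, ∀ c : F, A *ᵥ w ≠ c • w) (hB : ∃ w, ∀ c : F, B *ᵥ w ≠ c • w) (c : F) :
    ∃ g : Matrix.SpecialLinearGroup (Fin d) F,
      trace (A * (↑g : Matrix (Fin d) (Fin d) F) * B *
        (↑(g⁻¹) : Matrix (Fin d) (Fin d) F)) = c := by
  by_cases hE : ∃ x : Fin d → F, x ≠ 0 ∧ ∃ l : F, A *ᵥ x = l • x
  · obtain ⟨x, hx, l, hAx⟩ := hE
    obtain ⟨x', w, hx', hAx', hw⟩ := caseE_pick hd A hA hx hAx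
    exact caseE A B hB hx' hAx' hw c
  · have hN : ∀ x : Fin d → F, x ≠ 0 → ∀ l : F, A *ᵥ x ≠ l • x := fun x hx l h =>
      hE ⟨x, hx, l, h⟩
    obtain ⟨x₀, hx₀⟩ := hB
    have hx₀0 : x₀ ≠ 0 := ne_zero_of_noneig hx₀
    have h2 : LinearIndependent F ![x₀, B *ᵥ x₀] := pair_indep hx₀
    obtain ⟨y₀, hy₀⟩ : ∃ y₀, y₀ ∉ Submodule.span F {x₀, B *ᵥ x₀} := by
      by_contra h
      exact span_pair_ne_top hd x₀ (B *ᵥ x₀)
        (eq_top_iff.mpr fun v _ => not_not.mp fun hv => h ⟨v, hv⟩)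
    have h3 : LinearIndependent F ![x₀, B *ᵥ x₀, y₀] := li3 h2 hy₀
    by_cases hmem : B *ᵥ y₀ ∈ Submodule.span F {x₀, B *ᵥ x₀, y₀}
    · obtain ⟨a, e, b, hab⟩ := Submodule.mem_span_triple.mp hmem
      exact caseN1 hd A B hN hx₀0 h3 hab.symm c
    · exact caseN2 hd A B hN hx₀0 (li4 h3 hmem) c

end Cfsg.Agent.Helper1.ClsProd
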