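import Cfsg.Agent.Helper1.ClsProdC

/-!
# Class products in `PSL_d` (S2272): the projective statement

The function `tr^d` is a class function on `PSL_d(F)`; on `a^G b^G` it takes the values `0`
and `1`, so `a^G b^G` is not a single class.
-/

namespace Cfsg.Agent.Helper1.ClsProd

open Matrix

variable {F : Type*} [Field F] {d : ℕ}

/-- A non-central element of `SL_d(F)` moves some line. -/
theorem exists_noneig_of_not_center (A : Matrix.SpecialLinearGroup (Fin d) F)
    (hA : A ∉ Subgroup.center (Matrix.SpecialLinearGroup (Fin d) F)) :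
    ∃ w : Fin d → F, ∀ c : F, (↑A : Matrix (Fin d) (Fin d) F) *ᵥ w ≠ c • w := by
  by_contra h
  have h' : ∀ w : Fin d → F, ∃ c : F, (↑A : Matrix (Fin d) (Fin d) F) *ᵥ w = c • w := by
    intro w
    by_contra hw
    exact h ⟨w, fun c hc => hw ⟨c, hc⟩⟩
  have hli : ∀ v : Fin d → F,
      ¬ LinearIndependent F ![v, Matrix.toLin' (↑A : Matrix (Fin d) (Fin d) F) v] := by
    intro v hv
    obtain ⟨c, hc⟩ := h' v
    rw [Matrix.toLin'_apply, hc] at hv
    have := (LinearIndependent.pair_iff.mp hv) c (-1) (by simp)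
    exact one_ne_zero (neg_eq_zero.mp this.2)
  obtain ⟨a, ha⟩ := LinearMap.exists_eq_smul_id_of_forall_notLinearIndependent hli
  have hAa : (↑A : Matrix (Fin d) (Fin d) F) = a • (1 : Matrix (Fin d) (Fin d) F) := by
    apply Matrix.toLin'.injective
    rw [ha, map_smul, Matrix.toLin'_one]
    rfl
  apply hA
  rw [Matrix.SpecialLinearGroup.mem_center_iff]
  refine ⟨a, ?_, ?_⟩
  · have hdet := A.2
    rw [hAa, Matrix.det_smul, Matrix.det_one, mul_one] at hdet
    exact hdet
  · rw [hAa, Matrix.smul_one_eq_diagonal]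
    rfl

/-- `tr^d` is a class function on `PSL_d(F)`. -/
theorem trace_pow_eq_of_isConj (X Y : Matrix.SpecialLinearGroup (Fin d) F)
    (h : IsConj (QuotientGroup.mk X : Matrix.ProjectiveSpecialLinearGroup (Fin d) F)
      (QuotientGroup.mk Y)) :
    trace (↑Y : Matrix (Fin d) (Fin d) F) ^ d = trace (↑X : Matrix (Fin d) (Fin d) F) ^ d := by
  obtain ⟨c, hc⟩ := isConj_iff.mp h
  obtain ⟨C, rfl⟩ := QuotientGroup.mk_surjective c
  have h1 : (QuotientGroup.mk (C * X * C⁻¹) : Matrix.ProjectiveSpecialLinearGroup (Fin d) F) =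
      QuotientGroup.mk Y := by
    rw [← hc]
    rfl
  have h2 := QuotientGroup.eq.mp h1
  obtain ⟨r, hr, hrZ⟩ := Matrix.SpecialLinearGroup.mem_center_iff.mp h2
  rw [Fintype.card_fin] at hr
  have hY : Y = (C * X * C⁻¹) * ((C * X * C⁻¹)⁻¹ * Y) := by group
  have hYm : (↑Y : Matrix (Fin d) (Fin d) F) =
      r • ((↑C : Matrix (Fin d) (Fin d) F) * (↑X : Matrix (Fin d) (Fin d) F) *
        (↑(C⁻¹) : Matrix (Fin d) (Fin d) F)) := by
    conv_lhs => rw [hY]
    rw [Matrix.SpecialLinearGroup.coe_mul, ← hrZ, Matrix.SpecialLinearGroup.coe_mul,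
      Matrix.SpecialLinearGroup.coe_mul]
    rw [Matrix.scalar_apply, ← Matrix.smul_one_eq_diagonal, Matrix.mul_smul, Matrix.mul_one]
  have htr : trace ((↑C : Matrix (Fin d) (Fin d) F) * (↑X : Matrix (Fin d) (Fin d) F) *
      (↑(C⁻¹) : Matrix (Fin d) (Fin d) F)) = trace (↑X : Matrix (Fin d) (Fin d) F) := by
    rw [Matrix.trace_mul_comm, ← Matrix.mul_assoc, coe_inv_mul_coe, Matrix.one_mul]
  rw [hYm, trace_smul, htr, smul_eq_mul, mul_pow, hr, one_mul]

/-- The class product statement for `PSL_d(F)`, `d ≥ 3`. -/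
theorem class_product_not_class (hd : 3 ≤ d)
    (a b : Matrix.ProjectiveSpecialLinearGroup (Fin d) F) (ha : a ≠ 1) (hb : b ≠ 1) :
    ∃ g h : Matrix.ProjectiveSpecialLinearGroup (Fin d) F,
      ¬ IsConj (a * b) (g * a * g⁻¹ * (h * b * h⁻¹)) := by
  obtain ⟨A, rfl⟩ := QuotientGroup.mk_surjective a
  obtain ⟨B, rfl⟩ := QuotientGroup.mk_surjective b
  have hA : A ∉ Subgroup.center (Matrix.SpecialLinearGroup (Fin d) F) := fun h =>
    ha ((QuotientGroup.eq_one_iff A).mpr h)
  have hB : B ∉ Subgroup.center (Matrix.SpecialLinearGroup (Fin d) F) := fun h =>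
    hb ((QuotientGroup.eq_one_iff B).mpr h)
  have hA' := exists_noneig_of_not_center A hA
  have hB' := exists_noneig_of_not_center B hB
  obtain ⟨G₁, hG₁⟩ := exists_conj_trace hd (↑A : Matrix (Fin d) (Fin d) F)
    (↑B : Matrix (Fin d) (Fin d) F) hA' hB' 0
  obtain ⟨G₂, hG₂⟩ := exists_conj_trace hd (↑A : Matrix (Fin d) (Fin d) F)
    (↑B : Matrix (Fin d) (Fin d) F) hA' hB' 1
  have key : ∀ G : Matrix.SpecialLinearGroup (Fin d) F,
      IsConj ((QuotientGroup.mk A : Matrix.ProjectiveSpecialLinearGroup (Fin d) F) *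
        QuotientGroup.mk B)
        (1 * QuotientGroup.mk A * 1⁻¹ * (QuotientGroup.mk G * QuotientGroup.mk B *
          (QuotientGroup.mk G)⁻¹)) →
      trace ((↑A : Matrix (Fin d) (Fin d) F) * (↑G : Matrix (Fin d) (Fin d) F) *
        (↑B : Matrix (Fin d) (Fin d) F) * (↑(G⁻¹) : Matrix (Fin d) (Fin d) F)) ^ d
        = trace ((↑A : Matrix (Fin d) (Fin d) F) * (↑B : Matrix (Fin d) (Fin d) F)) ^ d := by
    intro G hG
    have e1 : ((QuotientGroup.mk A : Matrix.ProjectiveSpecialLinearGroup (Fin d) F) *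
        QuotientGroup.mk B) = QuotientGroup.mk (A * B) := rfl
    have e2 : (1 * (QuotientGroup.mk A : Matrix.ProjectiveSpecialLinearGroup (Fin d) F) * 1⁻¹ *
        (QuotientGroup.mk G * QuotientGroup.mk B * (QuotientGroup.mk G)⁻¹)) =
        QuotientGroup.mk (A * (G * B * G⁻¹)) := by
      rw [one_mul, inv_one, mul_one]
      rfl
    rw [e1, e2] at hG
    have := trace_pow_eq_of_isConj (A * B) (A * (G * B * G⁻¹)) hG
    rw [Matrix.SpecialLinearGroup.coe_mul, Matrix.SpecialLinearGroup.coe_mul,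
      Matrix.SpecialLinearGroup.coe_mul, Matrix.SpecialLinearGroup.coe_mul] at this
    rw [← this]
    simp only [Matrix.mul_assoc]
  by_contra hcon
  have hall : ∀ g h : Matrix.ProjectiveSpecialLinearGroup (Fin d) F,
      IsConj ((QuotientGroup.mk A : Matrix.ProjectiveSpecialLinearGroup (Fin d) F) *
        QuotientGroup.mk B) (g * QuotientGroup.mk A * g⁻¹ * (h * QuotientGroup.mk B * h⁻¹)) :=
    fun g h => not_not.mp fun hn => hcon ⟨g, h, hn⟩
  have k1 := key G₁ (hall 1 (QuotientGroup.mk G₁))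
  have k2 := key G₂ (hall 1 (QuotientGroup.mk G₂))
  rw [hG₁] at k1
  rw [hG₂] at k2
  rw [zero_pow (by omega)] at k1
  rw [one_pow] at k2
  rw [← k1] at k2
  exact one_ne_zero k2

end Cfsg.Agent.Helper1.ClsProd
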