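import Mathlib
import Cfsg.Agent.Helper1.Basic
import Cfsg.Agent.Helper1.SZ
import Cfsg.Agent.Helper1.Coprime
import Cfsg.Agent.Helper1.PQLemma

set_option autoImplicit false

/-!
Further consequences of coprime action (Bender–Glauberman, section 1).
-/

namespace Cfsg.Agent.Helper1

open scoped Pointwise commutatorElement

universe u

variable {G : Type u} [Group G]

/-- If `A` acts coprimely on the nilpotent group `H` and `C_H(C_H(A)) ≤ C_H(A)` then `A`
centralizes `H`. -/
theorem centralizer_of_nilpotent_coprime [Finite G] (H A : Subgroup G) (hH : Group.IsNilpotent H)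
    (hA : A ≤ Subgroup.normalizer (H : Set G)) (hcop : (Nat.card A).Coprime (Nat.card H))
    (hC : H ⊓ Subgroup.centralizer (((H ⊓ Subgroup.centralizer (A : Set G)) : Subgroup G) : Set G)
      ≤ (H ⊓ Subgroup.centralizer (A : Set G))) :
    A ≤ Subgroup.centralizer (H : Set G) := by
  set C := H ⊓ Subgroup.centralizer (A : Set G) with hCdef
  set N := H ⊓ Subgroup.normalizer (C : Set G) with hN
  have hCH : C ≤ H := inf_le_left
  have hCN : C ≤ N := le_inf hCH Subgroup.le_normalizer
  have hAC : A ≤ Subgroup.centralizer (C : Set G) := Subgroup.le_centralizer_iff.1 inf_le_right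
  have hACn : A ≤ Subgroup.normalizer (C : Set G) :=
    hAC.trans (Subgroup.centralizer_le_normalizer (C : Set G))
  have hAN : A ≤ Subgroup.normalizer (N : Set G) :=
    le_normalizer_inf hA (hACn.trans Subgroup.le_normalizer)
  have hcopN : (Nat.card A).Coprime (Nat.card N) :=
    hcop.coprime_dvd_right (Subgroup.card_dvd_of_le inf_le_left)
  have hsolvN : Group.IsSolvable N := by
    have : Group.IsSolvable H := inferInstance
    exact isSolvable_of_le inf_le_left this
  have hdec := coprime_commutator_sup_centralizer A N hAN hcopN (Or.inr hsolvN)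
  have hNC : N ⊓ Subgroup.centralizer (A : Set G) ≤ C :=
    inf_le_inf_right _ inf_le_left
  -- three subgroups
  have h1 : ⁅⁅A, C⁆, N⁆ = ⊥ := by
    have : ⁅A, C⁆ = ⊥ := Subgroup.commutator_eq_bot_iff_le_centralizer.2 hAC
    rw [this, Subgroup.commutator_bot_left]
  have h2 : ⁅⁅C, N⁆, A⁆ = ⊥ := by
    have h3 : ⁅C, N⁆ ≤ C := Subgroup.le_normalizer_iff_commutator_le_left.1 inf_le_right
    rw [eq_bot_iff]
    refine (Subgroup.commutator_mono h3 le_rfl).trans ?_
    rw [le_bot_iff, Subgroup.commutator_eq_bot_iff_le_centralizer]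
    exact inf_le_right
  have h4 : ⁅⁅N, A⁆, C⁆ = ⊥ := Subgroup.commutator_commutator_eq_bot_of_rotate h1 h2
  rw [Subgroup.commutator_eq_bot_iff_le_centralizer] at h4
  have h5 : ⁅N, A⁆ ≤ N := Subgroup.le_normalizer_iff_commutator_le_left.1 hAN
  have h6 : ⁅N, A⁆ ≤ C := (le_inf (h5.trans inf_le_left) h4).trans hC
  have hNeqC : N = C := le_antisymm (hdec ▸ sup_le h6 hNC) hCN
  -- normalizer condition
  have hnc : NormalizerCondition H := Group.normalizerCondition_of_isNilpotent
  have htop : C.subgroupOf H = ⊤ := by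
    by_contra hne
    have hlt := hnc (C.subgroupOf H) (lt_top_iff_ne_top.2 hne)
    rw [← Subgroup.subgroupOf_normalizer_eq hCH] at hlt
    have h7 : (Subgroup.normalizer (C : Set G)).subgroupOf H = C.subgroupOf H := by
      rw [← Subgroup.inf_subgroupOf_right, inf_comm, ← hN, hNeqC]
    rw [h7] at hlt
    exact lt_irrefl _ hlt
  rw [Subgroup.subgroupOf_eq_top] at htop
  exact Subgroup.le_centralizer_iff.1 (htop.trans inf_le_right)

/-- stability groups: if `A` stabilizes a normal series of the solvable group `H` then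
`|A : C_A(H)|` involves only primes dividing `|H|`. -/
theorem stabilizer_chain_primes [Finite G] (H A : Subgroup G) (hH : Group.IsSolvable H)
    (n : ℕ) (c : Fin (n + 1) → Subgroup G) (hc0 : c 0 = H) (hcn : c (Fin.last n) = ⊥)
    (hanti : Antitone c)
    (hcA : ∀ i, A ≤ Subgroup.normalizer ((c i : Subgroup G) : Set G))
    (htriv : ∀ i : Fin n, ⁅c i.castSucc, A⁆ ≤ c i.succ) :
    ∀ p : ℕ, p.Prime → p ∣ (A ⊓ Subgroup.centralizer (H : Set G)).relIndex A → p ∣ Nat.card H := by
  intro p hp hdvd
  by_contra hpH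
  have : Fact p.Prime := ⟨hp⟩
  obtain ⟨P⟩ : Nonempty (Sylow p A) := inferInstance
  set Q := (P : Subgroup A).map A.subtype with hQ
  have hQA : Q ≤ A := Subgroup.map_subtype_le _
  have hQp : IsPGroup p Q := P.isPGroup'.map _
  have hcH : ∀ i, c i ≤ H := fun i => hc0 ▸ hanti (Fin.zero_le i)
  have hcopi : ∀ i, (Nat.card Q).Coprime (Nat.card (c i)) := by
    intro i
    obtain ⟨m, hm⟩ := IsPGroup.iff_card.1 hQp
    rw [hm]
    apply Nat.Coprime.pow_left
    rw [Nat.Prime.coprime_iff_not_dvd hp]
    exact fun h => hpH (h.trans (Subgroup.card_dvd_of_le (hcH i)))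
  have key : ∀ i, ⁅c i, Q⁆ = ⊥ := by
    intro i
    induction i using Fin.reverseInduction with
    | last => rw [hcn, Subgroup.commutator_bot_left]
    | cast i ih =>
      have h1 : ⁅c i.castSucc, Q⁆ ≤ c i.succ :=
        (Subgroup.commutator_mono le_rfl hQA).trans (htriv i)
      have h2 : ⁅⁅c i.castSucc, Q⁆, Q⁆ = ⊥ := by
        rw [eq_bot_iff, ← ih]
        exact Subgroup.commutator_mono h1 le_rfl
      have h3 := coprime_commutator_commutator Q (c i.castSucc) (hQA.trans (hcA _)) (hcopi _)
        (Or.inr (isSolvable_of_le (hcH _) hH))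
      rw [← h3, h2]
  have h0 := key 0
  rw [hc0, Subgroup.commutator_eq_bot_iff_le_centralizer] at h0
  have hQC : Q ≤ A ⊓ Subgroup.centralizer (H : Set G) :=
    le_inf hQA (Subgroup.le_centralizer_iff.1 h0)
  have h1 : (A ⊓ Subgroup.centralizer (H : Set G)).relIndex A ∣ Q.relIndex A :=
    Subgroup.relIndex_dvd_of_le_left A hQC
  have h2 : Q.relIndex A = (P : Subgroup A).index := by
    rw [Subgroup.relIndex, hQ]
    congr 1
    ext x
    simp [Subgroup.mem_subgroupOf]
  rw [h2] at h1
  exact P.not_dvd_index (hdvd.trans h1)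

end Cfsg.Agent.Helper1
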