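import Mathlib
import Cfsg.Agent.Helper6.CovDefs

/-!
Pieces SS and JAC for S4432 (helper6's blueprint, msg 3674).
-/

namespace Cfsg.Agent.Helper6.Cov

/-- In a semisimple ring every left ideal has a right identity lying in it. -/
theorem exists_right_unit_of_leftIdeal {S : Type*} [Ring S] [IsSemisimpleRing S] (I : Ideal S) :
    ∃ e ∈ I, ∀ a ∈ I, a * e = a := by
  obtain ⟨I', hI'⟩ := exists_isCompl I
  have h1 : (1 : S) ∈ I ⊔ I' := by rw [hI'.sup_eq_top]; trivial
  obtain ⟨e, he, e', he', hee'⟩ := Submodule.mem_sup.mp h1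
  refine ⟨e, he, fun a ha => ?_⟩
  have h2 : a * e' ∈ I ⊓ I' := by
    constructor
    · have h3 : a * e' = a - a * e := by
        rw [eq_sub_iff_add_eq, add_comm, ← mul_add, hee', mul_one]
      rw [h3]
      exact I.sub_mem ha (I.mul_mem_left a he)
    · exact I'.mul_mem_left a he'
  rw [hI'.inf_eq_bot, Submodule.mem_bot] at h2
  calc a * e = a * e + a * e' := by rw [h2, add_zero]
    _ = a := by rw [← mul_add, hee', mul_one]

/-- SS -/
theorem exists_central_idem_of_twoSided {S : Type*} [Ring S] [IsSemisimpleRing S]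
    (I : Ideal S) [I.IsTwoSided] :
    ∃ f : S, IsIdempotentElem f ∧ (∀ s : S, Commute f s) ∧ f ∈ I ∧ ∀ a ∈ I, a * f = a := by
  obtain ⟨e, he, hright⟩ := exists_right_unit_of_leftIdeal I
  refine ⟨e, hright e he, ?_, he, hright⟩
  intro s
  -- `e s = e s e`
  have h1 : e * s * e = e * s := hright _ (I.mul_mem_right s he)
  -- `e x (1 - e) = 0`
  have h2 : ∀ x : S, e * x * (1 - e) = 0 := by
    intro x
    have hx : e * x * e = e * x := hright _ (I.mul_mem_right x he)
    rw [mul_sub, mul_one, hx, sub_self]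
  -- `(1 - e) s e = 0`
  have h3 : (1 - e) * s * e = 0 := by
    obtain ⟨f, hf, hfr⟩ := exists_right_unit_of_leftIdeal (Ideal.span {(1 - e) * s * e})
    obtain ⟨r, hr⟩ := Ideal.mem_span_singleton'.mp hf
    have hff : f * f = f := hfr f hf
    have hf0 : f * f = 0 := by
      rw [← hr]
      calc r * ((1 - e) * s * e) * (r * ((1 - e) * s * e))
          = r * ((1 - e) * s) * (e * (r * ((1 - e) * s)) * e) := by noncomm_ring
        _ = r * ((1 - e) * s) * (e * (r * ((1 - e) * s))) := by
            rw [hright _ (I.mul_mem_right _ he)]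
        _ = r * ((1 - e) * s) * (e * r * (1 - e) * s) := by noncomm_ring
        _ = 0 := by rw [h2 r, zero_mul, mul_zero]
    have hfz : f = 0 := by rw [← hff, hf0]
    have := hfr ((1 - e) * s * e) (Ideal.subset_span (Set.mem_singleton _))
    rw [hfz, mul_zero] at this
    exact this.symm
  show e * s = s * e
  have h4 : s * e = e * s * e + (1 - e) * s * e := by noncomm_ring
  rw [h4, h3, add_zero, h1]

/-- JAC -/
theorem jacobson_ringEquiv {A : Type*} [Ring A] (φ : A ≃+* A) {a : A}
    (ha : a ∈ Ring.jacobson A) : φ a ∈ Ring.jacobson A := by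
  have : RingHomSurjective (φ : A →+* A) := ⟨φ.surjective⟩
  exact Ring.le_comap_jacobson (f := (φ : A →+* A)) ha

end Cfsg.Agent.Helper6.Cov
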