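import Mathlib
import Cfsg.Agent.Helper6.CovDefs
import Cfsg.Agent.Helper1.CovSSJac

/-!
Nilpotency sub-lemma for piece GA2 of S4432: an idempotent of `F[G]` with all transversal
coefficients in the Jacobson radical of `F[N]` vanishes.
-/

namespace Cfsg.Agent.Helper6.Cov

theorem jacobson_pow_ringEquiv {A : Type*} [Ring A] (φ : A ≃+* A) (k : ℕ) {a : A}
    (ha : a ∈ (Ring.jacobson A) ^ k) : φ a ∈ (Ring.jacobson A) ^ k := by
  induction k generalizing a with
  | zero =>
    rw [Submodule.pow_zero, Ideal.one_eq_top]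
    trivial
  | succ k ih =>
    have hle : (Ring.jacobson A) ^ (k + 1) ≤
        Ideal.comap (φ : A →+* A) ((Ring.jacobson A) ^ (k + 1)) := by
      rw [Submodule.pow_succ, Ideal.mul_le]
      intro r hr s hs
      rw [Ideal.mem_comap]
      show φ (r * s) ∈ _
      rw [map_mul]
      exact Ideal.mul_mem_mul (ih hr) (jacobson_ringEquiv φ hs)
    exact hle ha

section

variable {F : Type*} [Field F] {G : Type*} [Group G]

/-- generators of the `k`-th layer -/
noncomputable def nilGen (N : Subgroup G) (k : ℕ) : Set (MonoidAlgebra F G) :=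
  {x | ∃ a ∈ (Ring.jacobson (MonoidAlgebra F N)) ^ k, ∃ g : G,
    x = covIncl F N a * MonoidAlgebra.single g 1}

/-- the `k`-th layer -/
noncomputable def nilLayer (N : Subgroup G) (k : ℕ) : AddSubgroup (MonoidAlgebra F G) :=
  AddSubgroup.closure (nilGen (F := F) N k)

theorem nilLayer_mul (N : Subgroup G) [N.Normal] (k : ℕ) {x y : MonoidAlgebra F G}
    (hx : x ∈ nilLayer (F := F) N k) (hy : y ∈ nilLayer (F := F) N 1) :
    x * y ∈ nilLayer (F := F) N (k + 1) := by
  unfold nilLayer at hx hy ⊢
  induction hx using AddSubgroup.closure_induction with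
  | mem x hx =>
    induction hy using AddSubgroup.closure_induction with
    | mem y hy =>
      obtain ⟨a, ha, g, rfl⟩ := hx
      obtain ⟨a', ha', g', rfl⟩ := hy
      apply AddSubgroup.subset_closure
      refine ⟨a * covConj N g a', ?_, g * g', ?_⟩
      · rw [Submodule.pow_succ]
        rw [Submodule.pow_one] at ha'
        exact Ideal.mul_mem_mul ha (jacobson_ringEquiv _ ha')
      · rw [map_mul, mul_assoc, ← mul_assoc (MonoidAlgebra.single g (1 : F)),
          single_mul_covIncl, mul_assoc, MonoidAlgebra.single_mul_single, mul_one, ← mul_assoc]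
    | zero => rw [mul_zero]; exact zero_mem _
    | add a b _ _ ha hb => rw [mul_add]; exact add_mem ha hb
    | neg a _ ha => rw [mul_neg]; exact neg_mem ha
  | zero => rw [zero_mul]; exact zero_mem _
  | add a b _ _ ha hb => rw [add_mul]; exact add_mem ha hb
  | neg a _ ha => rw [neg_mul]; exact neg_mem ha

theorem nilLayer_eq_bot (N : Subgroup G) (k : ℕ)
    (hk : (Ring.jacobson (MonoidAlgebra F N)) ^ k = ⊥) : nilLayer (F := F) N k = ⊥ := by
  unfold nilLayer
  rw [AddSubgroup.closure_eq_bot_iff]
  rintro x ⟨a, ha, g, rfl⟩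
  rw [hk, Ideal.mem_bot] at ha
  rw [ha, map_zero, zero_mul]
  rfl

theorem idem_eq_zero_of_jac_decomp [Finite G]
    (N : Subgroup G) [N.Normal] (u : MonoidAlgebra F G) (hu : IsIdempotentElem u)
    (T : Finset G) (c : G → MonoidAlgebra F N)
    (hc : ∀ t ∈ T, c t ∈ Ring.jacobson (MonoidAlgebra F N))
    (hdec : u = ∑ t ∈ T, covIncl F N (c t) * MonoidAlgebra.single t 1) : u = 0 := by
  have h1 : u ∈ nilLayer (F := F) N 1 := by
    rw [hdec]
    apply sum_mem
    intro t ht
    apply AddSubgroup.subset_closure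
    exact ⟨c t, by rw [Submodule.pow_one]; exact hc t ht, t, rfl⟩
  have hall : ∀ k : ℕ, u ∈ nilLayer (F := F) N (k + 1) := by
    intro k
    induction k with
    | zero => exact h1
    | succ k ih =>
      have := nilLayer_mul N (k + 1) ih h1
      rwa [hu.eq] at this
  haveI : IsArtinianRing (MonoidAlgebra F N) := IsArtinianRing.of_finite F _
  obtain ⟨m, hm⟩ := IsSemiprimaryRing.isNilpotent (R := MonoidAlgebra F N)
  have hm' : (Ring.jacobson (MonoidAlgebra F N)) ^ (m + 1) = ⊥ := by
    rw [Submodule.pow_succ, hm, Ideal.zero_eq_bot]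
    exact Ideal.bot_mul _
  have := hall m
  rw [nilLayer_eq_bot N (m + 1) hm', AddSubgroup.mem_bot] at this
  exact this

end

end Cfsg.Agent.Helper6.Cov
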