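import Mathlib
import Cfsg.Prelude.Def_PLocal
import Cfsg.Agent.Helper1.Basic
import Cfsg.Agent.Helper1.Coprime
import Cfsg.Agent.Helper1.PQLemma

set_option autoImplicit false

/-!
Uniserial actions of `p`-groups.
-/

namespace Cfsg.Agent.Helper1

open scoped Pointwise commutatorElement
open Cfsg (iterCommutator)

universe u

variable {L : Type u} [Group L]

section chain

variable (N G : Subgroup L)

theorem iterCommutator_succ' (i : ℕ) :
    iterCommutator N G (i + 1) = ⁅iterCommutator N G i, G⁆ := rfl

theorem iterCommutator_normalizer (hGN : G ≤ Subgroup.normalizer (N : Set L)) (i : ℕ) :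
    G ≤ Subgroup.normalizer ((iterCommutator N G i : Subgroup L) : Set L) := by
  induction i with
  | zero => exact hGN
  | succ i ih => exact le_normalizer_commutator ih Subgroup.le_normalizer

theorem iterCommutator_succ_le (hGN : G ≤ Subgroup.normalizer (N : Set L)) (i : ℕ) :
    iterCommutator N G (i + 1) ≤ iterCommutator N G i :=
  Subgroup.le_normalizer_iff_commutator_le_left.1 (iterCommutator_normalizer N G hGN i)

theorem iterCommutator_antitone (hGN : G ≤ Subgroup.normalizer (N : Set L)) :
    Antitone (iterCommutator N G) :=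
  antitone_nat_of_succ_le (iterCommutator_succ_le N G hGN)

theorem iterCommutator_le (hGN : G ≤ Subgroup.normalizer (N : Set L)) (i : ℕ) :
    iterCommutator N G i ≤ N :=
  iterCommutator_antitone N G hGN (Nat.zero_le i)

theorem iterCommutator_eq_bot_of_le (hGN : G ≤ Subgroup.normalizer (N : Set L)) {i j : ℕ}
    (hij : i ≤ j) (h : iterCommutator N G i = ⊥) : iterCommutator N G j = ⊥ :=
  le_bot_iff.1 (h ▸ iterCommutator_antitone N G hGN hij)

end chain

/-- the chain has all its factors of order `p` -/
def GoodChain (p : ℕ) (N G : Subgroup L) (n : ℕ) : Prop :=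
  ∀ i ≤ n, Nat.card (iterCommutator N G i) = p ^ (n - i)

/-- the uniserial condition -/
def Uniserial (p : ℕ) (N G : Subgroup L) : Prop :=
  ∀ H : Subgroup L, H ≤ N → G ≤ Subgroup.normalizer (H : Set L) → H ≠ ⊥ →
    (⁅H, G⁆).relIndex H = p

variable [Finite L] {p : ℕ} [Fact p.Prime] {N G : Subgroup L}

theorem ne_bot_of_card_pow {H : Subgroup L} {k : ℕ} (hk : k ≠ 0) (h : Nat.card H = p ^ k) :
    H ≠ ⊥ := by
  intro hb
  rw [hb, Subgroup.card_bot] at h
  have hp : 1 < p := (Fact.out : p.Prime).one_lt
  have : 1 < p ^ k := Nat.one_lt_pow hk hp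
  omega

theorem GoodChain.eq_bot {n : ℕ} (hgood : GoodChain p N G n)
    (hGN : G ≤ Subgroup.normalizer (N : Set L)) {i : ℕ} (hi : n ≤ i) :
    iterCommutator N G i = ⊥ := by
  apply iterCommutator_eq_bot_of_le N G hGN hi
  have := hgood n le_rfl
  rw [Nat.sub_self, pow_zero] at this
  exact Subgroup.card_eq_one.1 this

theorem goodChain_of_uniserial (hN : IsPGroup p N) (hGN : G ≤ Subgroup.normalizer (N : Set L))
    {n : ℕ} (hn : Nat.card N = p ^ n) (hu : Uniserial p N G) : GoodChain p N G n := by
  intro i
  induction i with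
  | zero => intro _; exact hn
  | succ i ih =>
    intro hi
    have h1 := ih (by omega)
    have hne : iterCommutator N G i ≠ ⊥ := ne_bot_of_card_pow (by omega) h1
    have h2 := hu _ (iterCommutator_le N G hGN i) (iterCommutator_normalizer N G hGN i) hne
    have h3 := relIndex_mul_card_of_le (iterCommutator_succ_le N G hGN i)
    rw [iterCommutator_succ', h2, h1] at h3
    have hp : 0 < p := (Fact.out : p.Prime).pos
    have h4 : n - i = (n - (i + 1)) + 1 := by omega
    rw [h4, pow_succ, mul_comm] at h3
    exact Nat.eq_of_mul_eq_mul_right hp h3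

theorem goodChain_iff (hN : IsPGroup p N) (hG : IsPGroup p G)
    (hGN : G ≤ Subgroup.normalizer (N : Set L)) {n : ℕ} (hn : Nat.card N = p ^ n) :
    GoodChain p N G n ↔ (iterCommutator N G (n - 1) ≠ ⊥ ∨ n = 0) := by
  have hp1 : 1 < p := (Fact.out : p.Prime).one_lt
  constructor
  · intro hgood
    rcases Nat.eq_zero_or_pos n with h0 | hpos
    · exact Or.inr h0
    · left
      have h1 := hgood (n - 1) (Nat.sub_le n 1)
      exact ne_bot_of_card_pow (by omega) h1
  · rintro (hne | h0)
    · have hpg : ∀ i, IsPGroup p (iterCommutator N G i) :=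
        fun i => hN.to_le (iterCommutator_le N G hGN i)
      choose e he using fun i => IsPGroup.iff_card.1 (hpg i)
      have hne' : ∀ i ≤ n - 1, iterCommutator N G i ≠ ⊥ := by
        intro i hi hb
        exact hne (iterCommutator_eq_bot_of_le N G hGN hi hb)
      have hstrict : ∀ i ≤ n - 1, e (i + 1) < e i := by
        intro i hi
        have h1 : iterCommutator N G (i + 1) < iterCommutator N G i :=
          commutator_lt_of_isPGroup (hpg i) hG (iterCommutator_normalizer N G hGN i) (hne' i hi)
        have h2 := card_lt_card_of_lt h1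
        rw [he, he] at h2
        exact (Nat.pow_lt_pow_iff_right hp1).1 h2
      have he0 : e 0 = n := by
        have h1 : Nat.card (iterCommutator N G 0) = p ^ n := hn
        rw [he] at h1
        exact Nat.pow_right_injective hp1 h1
      have hnpos : 0 < n := by
        rcases Nat.eq_zero_or_pos n with h0 | hpos
        · exfalso
          apply hne
          rw [h0] at hn ⊢
          rw [pow_zero] at hn
          exact Subgroup.card_eq_one.1 hn
        · exact hpos
      have hupper : ∀ i ≤ n, e i + i ≤ n := by
        intro i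
        induction i with
        | zero => intro _; omega
        | succ i ih =>
          intro hi
          have h1 := ih (by omega)
          have h2 := hstrict i (by omega)
          omega
      have hlast : 1 ≤ e (n - 1) := by
        rcases Nat.eq_zero_or_pos (e (n - 1)) with h0 | hpos
        · exfalso
          apply hne
          have h1 := he (n - 1)
          rw [h0, pow_zero] at h1
          exact Subgroup.card_eq_one.1 h1
        · exact hpos
      have hlower : ∀ k ≤ n - 1, k + 1 ≤ e (n - 1 - k) := by
        intro k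
        induction k with
        | zero => intro _; simpa using hlast
        | succ k ih =>
          intro hk
          have h1 := ih (by omega)
          have h2 := hstrict (n - 1 - (k + 1)) (by omega)
          have h3 : n - 1 - (k + 1) + 1 = n - 1 - k := by omega
          rw [h3] at h2
          omega
      intro i hi
      rw [he]
      congr 1
      rcases Nat.lt_or_ge i n with hlt | hge
      · have h1 := hlower (n - 1 - i) (by omega)
        have h2 : n - 1 - (n - 1 - i) = i := by omega
        rw [h2] at h1
        have h3 := hupper i hi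
        omega
      · have h3 := hupper i hi
        omega
    · intro i hi
      have hi0 : i = 0 := by omega
      subst hi0
      exact hn

theorem GoodChain.normalizer (hN : IsPGroup p N) (hG : IsPGroup p G)
    (hGN : G ≤ Subgroup.normalizer (N : Set L)) {n : ℕ} (hgood : GoodChain p N G n) (i : ℕ) :
    N ≤ Subgroup.normalizer ((iterCommutator N G i : Subgroup L) : Set L) := by
  have hp1 : 1 < p := (Fact.out : p.Prime).one_lt
  induction i with
  | zero => exact Subgroup.le_normalizer
  | succ i ih =>
    rcases Nat.lt_or_ge i n with hlt | hge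
    · -- `T = G ⊔ N` normalizes `c i`
      set T := G ⊔ N with hT
      have hTp : IsPGroup p T := IsPGroup.to_sup_of_normal_right' hG hN hGN
      have hTc : T ≤ Subgroup.normalizer ((iterCommutator N G i : Subgroup L) : Set L) :=
        sup_le (iterCommutator_normalizer N G hGN i) ih
      have hci : Nat.card (iterCommutator N G i) = p ^ (n - i) := hgood i hlt.le
      have hci1 : Nat.card (iterCommutator N G (i + 1)) = p ^ (n - (i + 1)) := hgood (i + 1) hlt
      have hne : iterCommutator N G i ≠ ⊥ := ne_bot_of_card_pow (by omega) hci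
      have hpi : IsPGroup p (iterCommutator N G i) := hN.to_le (iterCommutator_le N G hGN i)
      have hX : ⁅iterCommutator N G i, T⁆ < iterCommutator N G i :=
        commutator_lt_of_isPGroup hpi hTp hTc hne
      have hle : iterCommutator N G (i + 1) ≤ ⁅iterCommutator N G i, T⁆ :=
        Subgroup.commutator_mono le_rfl le_sup_left
      have hXp : IsPGroup p (⁅iterCommutator N G i, T⁆ : Subgroup L) := hpi.to_le hX.le
      obtain ⟨k, hk⟩ := IsPGroup.iff_card.1 hXp
      have hlt' := card_lt_card_of_lt hX
      rw [hk, hci] at hlt'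
      have hk' : k < n - i := (Nat.pow_lt_pow_iff_right hp1).1 hlt'
      have hcard : Nat.card (⁅iterCommutator N G i, T⁆ : Subgroup L) ≤
          Nat.card (iterCommutator N G (i + 1)) := by
        rw [hk, hci1]
        exact Nat.pow_le_pow_right hp1.le (by omega)
      have heq : iterCommutator N G (i + 1) = ⁅iterCommutator N G i, T⁆ :=
        Subgroup.eq_of_le_of_card_ge hle hcard
      rw [heq]
      exact (le_sup_right : N ≤ T).trans (le_normalizer_commutator hTc Subgroup.le_normalizer)
    · rw [hgood.eq_bot hGN (by omega : n ≤ i + 1)]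
      rw [Subgroup.normalizer_eq_top]
      exact le_top

theorem commutator_sup_le {H M M' G' : Subgroup L}
    (hHG : G' ≤ Subgroup.normalizer (H : Set L)) (hHM : H ≤ Subgroup.normalizer (M : Set L))
    (hHM' : H ≤ Subgroup.normalizer (M' : Set L)) (hMG : ⁅M, G'⁆ ≤ M') :
    ⁅H ⊔ M, G'⁆ ≤ H ⊔ M' := by
  rw [Subgroup.commutator_le]
  intro x hx g hg
  -- `x = h * m`
  have hx' : x⁻¹ ∈ M ⊔ H := by
    rw [sup_comm]; exact Subgroup.inv_mem _ hx
  obtain ⟨m', hm', h', hh', e⟩ := mem_sup_of_le_normalizer hHM hx'
  have hxe : x = h'⁻¹ * m'⁻¹ := by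
    rw [← inv_inv x, e, mul_inv_rev]
  set h := h'⁻¹ with hh
  set m := m'⁻¹ with hm
  have hhH : h ∈ H := H.inv_mem hh'
  have hmM : m ∈ M := M.inv_mem hm'
  have h1 : ⁅x, g⁆ = (h * ⁅m, g⁆ * h⁻¹) * ⁅h, g⁆ := by
    rw [hxe, commutatorElement_def, commutatorElement_def, commutatorElement_def]; group
  rw [h1]
  have h2 : ⁅m, g⁆ ∈ M' := hMG (Subgroup.commutator_mem_commutator hmM hg)
  have h3 : h * ⁅m, g⁆ * h⁻¹ ∈ M' := (Subgroup.mem_normalizer_iff.1 (hHM' hhH) _).1 h2
  have h4 : ⁅h, g⁆ ∈ H := by
    rw [commutatorElement_def]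
    have : g * h⁻¹ * g⁻¹ ∈ H := (Subgroup.mem_normalizer_iff.1 (hHG hg) _).1 (H.inv_mem hhH)
    have e2 : h * g * h⁻¹ * g⁻¹ = h * (g * h⁻¹ * g⁻¹) := by group
    rw [e2]
    exact H.mul_mem hhH this
  exact Subgroup.mul_mem _ (Subgroup.mem_sup_right h3) (Subgroup.mem_sup_left h4)

theorem GoodChain.eq_iterCommutator (hN : IsPGroup p N) (hG : IsPGroup p G)
    (hGN : G ≤ Subgroup.normalizer (N : Set L)) {n : ℕ} (hgood : GoodChain p N G n)
    (H : Subgroup L) (hHN : H ≤ N) (hGH : G ≤ Subgroup.normalizer (H : Set L)) :
    ∃ i ≤ n, H = iterCommutator N G i := by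
  classical
  have hp1 : 1 < p := (Fact.out : p.Prime).one_lt
  set i := Nat.findGreatest (fun j => H ≤ iterCommutator N G j) n with hi
  have hin : i ≤ n := Nat.findGreatest_le n
  have hHi : H ≤ iterCommutator N G i :=
    Nat.findGreatest_spec (P := fun j => H ≤ iterCommutator N G j) (Nat.zero_le n) hHN
  refine ⟨i, hin, ?_⟩
  rcases Nat.lt_or_ge i n with hlt | hge
  · have hnot : ¬ H ≤ iterCommutator N G (i + 1) :=
      Nat.findGreatest_is_greatest (P := fun j => H ≤ iterCommutator N G j) (Nat.lt_succ_self i) hlt
    have hnorm := hgood.normalizer hN hG hGN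
    -- `c i = H ⊔ c (i+1)`
    have hsup : iterCommutator N G i = H ⊔ iterCommutator N G (i + 1) := by
      symm
      have hle : H ⊔ iterCommutator N G (i + 1) ≤ iterCommutator N G i :=
        sup_le hHi (iterCommutator_succ_le N G hGN i)
      apply Subgroup.eq_of_le_of_card_ge hle
      have hlt' : iterCommutator N G (i + 1) < H ⊔ iterCommutator N G (i + 1) := by
        refine lt_of_le_of_ne le_sup_right ?_
        intro heq
        apply hnot
        rw [heq]; exact le_sup_left
      have hpg : IsPGroup p (H ⊔ iterCommutator N G (i + 1) : Subgroup L) :=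
        hN.to_le (hle.trans (iterCommutator_le N G hGN i))
      obtain ⟨k, hk⟩ := IsPGroup.iff_card.1 hpg
      have h1 := card_lt_card_of_lt hlt'
      rw [hk, hgood (i + 1) hlt] at h1
      have h2 : n - (i + 1) < k := (Nat.pow_lt_pow_iff_right hp1).1 h1
      rw [hk, hgood i hin]
      exact Nat.pow_le_pow_right hp1.le (by omega)
    -- `Q j` for all `j`
    have hQ : ∀ j, iterCommutator N G (i + j) ≤ H ⊔ iterCommutator N G (i + j + 1) := by
      intro j
      induction j with
      | zero => rw [add_zero, hsup]
      | succ j ih =>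
        have h1 : iterCommutator N G (i + (j + 1)) =
            ⁅iterCommutator N G (i + j), G⁆ := rfl
        rw [h1]
        refine (Subgroup.commutator_mono ih le_rfl).trans ?_
        exact commutator_sup_le hGH (hHN.trans (hnorm _)) (hHN.trans (hnorm _)) le_rfl
    have hfin : ∀ j, iterCommutator N G i ≤ H ⊔ iterCommutator N G (i + j + 1) := by
      intro j
      induction j with
      | zero => exact hQ 0
      | succ j ih =>
        refine ih.trans (sup_le le_sup_left ?_)
        exact hQ (j + 1)
    have h1 := hfin n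
    rw [hgood.eq_bot hGN (by omega : n ≤ i + n + 1), sup_bot_eq] at h1
    exact le_antisymm hHi h1
  · have h1 : iterCommutator N G i = ⊥ := hgood.eq_bot hGN hge
    rw [h1] at hHi ⊢
    exact le_bot_iff.1 hHi

theorem uniserial_of_goodChain (hN : IsPGroup p N) (hG : IsPGroup p G)
    (hGN : G ≤ Subgroup.normalizer (N : Set L)) {n : ℕ} (hgood : GoodChain p N G n) :
    Uniserial p N G := by
  intro H hHN hGH hH1
  obtain ⟨i, hin, rfl⟩ := hgood.eq_iterCommutator hN hG hGN H hHN hGH
  have hlt : i < n := by
    rcases Nat.lt_or_ge i n with hlt | hge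
    · exact hlt
    · exact absurd (hgood.eq_bot hGN hge) hH1
  have h3 := relIndex_mul_card_of_le (iterCommutator_succ_le N G hGN i)
  rw [hgood i hin, hgood (i + 1) hlt] at h3
  have hp : 0 < p := (Fact.out : p.Prime).pos
  have h4 : n - i = (n - (i + 1)) + 1 := by omega
  rw [h4, pow_succ, mul_comm] at h3
  have h5 := Nat.eq_of_mul_eq_mul_left (pow_pos hp _) h3
  exact h5

theorem uniserial_main (hN : IsPGroup p N) (hG : IsPGroup p G)
    (hGN : G ≤ Subgroup.normalizer (N : Set L)) (n : ℕ) (hn : Nat.card N = p ^ n) :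
    ((∀ H : Subgroup L, H ≤ N → G ≤ Subgroup.normalizer (H : Set L) → H ≠ ⊥ →
        (⁅H, G⁆).relIndex H = p) ↔ Cfsg.iterCommutator N G (n - 1) ≠ ⊥ ∨ n = 0) ∧
    ((∀ H : Subgroup L, H ≤ N → G ≤ Subgroup.normalizer (H : Set L) → H ≠ ⊥ →
        (⁅H, G⁆).relIndex H = p) →
      ∀ H : Subgroup L, H ≤ N → G ≤ Subgroup.normalizer (H : Set L) →
        (∃ i ≤ n, H = Cfsg.iterCommutator N G i) ∧ N ≤ Subgroup.normalizer (H : Set L)) := by
  constructor
  · rw [← goodChain_iff hN hG hGN hn]
    exact ⟨fun hu => goodChain_of_uniserial hN hGN hn hu,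
      fun hgood => uniserial_of_goodChain hN hG hGN hgood⟩
  · intro hu H hHN hGH
    have hgood := goodChain_of_uniserial hN hGN hn hu
    obtain ⟨i, hin, rfl⟩ := hgood.eq_iterCommutator hN hG hGN H hHN hGH
    exact ⟨⟨i, hin, rfl⟩, hgood.normalizer hN hG hGN i⟩

end Cfsg.Agent.Helper1
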