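import Mathlib
import Cfsg.Prelude.Def_PLocal
import Cfsg.Agent.Helper1.Uniserial
import Cfsg.Agent.Helper4.ThreeSubgroups

set_option autoImplicit false

/-!
Commutator calculus for the critical-subgroup chief factor lemma: a three subgroups lemma modulo a
subgroup that is only normalized, and the "tensor product" bound.
-/

namespace Cfsg.Agent.Helper1

namespace CritChief

open scoped commutatorElement
open Cfsg (iterCommutator)

variable {G : Type*} [Group G]

/-- Three subgroups lemma modulo a subgroup normalized by the three subgroups. -/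
theorem three_subgroups_mod (L A B C : Subgroup G)
    (hA : A ≤ Subgroup.normalizer (L : Set G)) (hB : B ≤ Subgroup.normalizer (L : Set G))
    (hC : C ≤ Subgroup.normalizer (L : Set G))
    (h1 : ⁅⁅B, C⁆, A⁆ ≤ L) (h2 : ⁅⁅C, A⁆, B⁆ ≤ L) : ⁅⁅A, B⁆, C⁆ ≤ L := by
  obtain ⟨Γ, hΓ⟩ : ∃ Γ, Γ = Subgroup.normalizer (L : Set G) := ⟨_, rfl⟩
  rw [← hΓ] at hA hB hC
  haveI hLn : (L.subgroupOf Γ).Normal := hΓ ▸ Subgroup.normal_in_normalizer
  have key : ∀ X Y W : Subgroup G, X ≤ Γ → Y ≤ Γ → W ≤ Γ →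
      (⁅⁅X.subgroupOf Γ, Y.subgroupOf Γ⁆, W.subgroupOf Γ⁆).map Γ.subtype = ⁅⁅X, Y⁆, W⁆ := by
    intro X Y W hX hY hW
    rw [Subgroup.map_commutator, Subgroup.map_commutator, Subgroup.map_subgroupOf_eq_of_le hX,
      Subgroup.map_subgroupOf_eq_of_le hY, Subgroup.map_subgroupOf_eq_of_le hW]
  have h1' : ⁅⁅B.subgroupOf Γ, C.subgroupOf Γ⁆, A.subgroupOf Γ⁆ ≤ L.subgroupOf Γ := by
    refine Subgroup.map_le_iff_le_comap.1 ?_
    rw [key B C A hB hC hA]
    exact h1
  have h2' : ⁅⁅C.subgroupOf Γ, A.subgroupOf Γ⁆, B.subgroupOf Γ⁆ ≤ L.subgroupOf Γ := by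
    refine Subgroup.map_le_iff_le_comap.1 ?_
    rw [key C A B hC hA hB]
    exact h2
  have h3 := Cfsg.Agent.Helper4.three_subgroups_normal (L.subgroupOf Γ) (A.subgroupOf Γ)
    (B.subgroupOf Γ) (C.subgroupOf Γ) h1' h2'
  have h4 := Subgroup.map_le_iff_le_comap.2 h3
  rw [key A B C hA hB hC] at h4
  exact h4

/-- Commutators with a join inside a commutative subgroup. -/
theorem commutator_sup_le_of_comm {N H₁ H₂ A J : Subgroup G}
    (hN : ∀ x ∈ N, ∀ y ∈ N, x * y = y * x) (hAN : A ≤ Subgroup.normalizer (N : Set G))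
    (h₁ : H₁ ≤ N) (h₂ : H₂ ≤ N) (hJ₁ : ⁅H₁, A⁆ ≤ J) (hJ₂ : ⁅H₂, A⁆ ≤ J) : ⁅H₁ ⊔ H₂, A⁆ ≤ J := by
  rw [Subgroup.commutator_le]
  intro h hh a ha
  have haN : ∀ x ∈ N, a * x * a⁻¹ ∈ N := fun x hx =>
    (Subgroup.mem_normalizer_iff.1 (hAN ha) x).1 hx
  rw [Subgroup.sup_eq_closure] at hh
  have key : h ∈ N ∧ ⁅h, a⁆ ∈ J := by
    induction hh using Subgroup.closure_induction with
    | mem x hx =>
      rcases hx with hx | hx
      · exact ⟨h₁ hx, hJ₁ (Subgroup.commutator_mem_commutator hx ha)⟩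
      · exact ⟨h₂ hx, hJ₂ (Subgroup.commutator_mem_commutator hx ha)⟩
    | one => exact ⟨N.one_mem, by rw [commutatorElement_one_left]; exact J.one_mem⟩
    | mul x y _ _ hx hy =>
      refine ⟨N.mul_mem hx.1 hy.1, ?_⟩
      have hyN : ⁅y, a⁆ ∈ N := by
        rw [commutatorElement_def]
        have : y * a * y⁻¹ * a⁻¹ = y * (a * y⁻¹ * a⁻¹) := by group
        rw [this]
        exact N.mul_mem hy.1 (haN _ (N.inv_mem hy.1))
      have e : ⁅x * y, a⁆ = x * ⁅y, a⁆ * x⁻¹ * ⁅x, a⁆ := by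
        simp only [commutatorElement_def]; group
      rw [e, hN x hx.1 _ hyN, mul_inv_cancel_right]
      exact J.mul_mem hy.2 hx.2
    | inv x _ hx =>
      refine ⟨N.inv_mem hx.1, ?_⟩
      have hxN : ⁅x, a⁆⁻¹ ∈ N := by
        rw [commutatorElement_def]
        have : (x * a * x⁻¹ * a⁻¹)⁻¹ = (a * x * a⁻¹) * x⁻¹ := by group
        rw [this]
        exact N.mul_mem (haN _ hx.1) (N.inv_mem hx.1)
      have e : ⁅x⁻¹, a⁆ = x⁻¹ * ⁅x, a⁆⁻¹ * x := by
        simp only [commutatorElement_def]; group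
      rw [e, hN _ (N.inv_mem hx.1) _ hxN, inv_mul_cancel_right]
      exact J.inv_mem hx.2
  exact key.2

theorem iterCommutator_mono {N N' : Subgroup G} (A : Subgroup G) (h : N ≤ N') (i : ℕ) :
    iterCommutator N A i ≤ iterCommutator N' A i := by
  induction i with
  | zero => exact h
  | succ i ih => exact Subgroup.commutator_mono ih le_rfl

/-- The tensor product bound: if `(g - 1)^i` kills `M / M₁` and `(g - 1)^j` kills `N / N₁`, then
`(g - 1)^(i + j - 1)` kills the image of `T` in `Hom(M / M₁, N / N₁)`. -/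
theorem key_bound (M M₁ N N₁ T A : Subgroup G) (i j : ℕ) (hi : 1 ≤ i)
    (hAM : A ≤ Subgroup.normalizer (M : Set G)) (hAN : A ≤ Subgroup.normalizer (N : Set G))
    (hAN₁ : A ≤ Subgroup.normalizer (N₁ : Set G)) (hAT : A ≤ Subgroup.normalizer (T : Set G))
    (hN₁N : N₁ ≤ N)
    (hMT : ⁅M, T⁆ ≤ N) (hM₁T : ⁅M₁, T⁆ ≤ N₁) (hNT : ⁅N, T⁆ ≤ N₁) (hNM : ⁅N, M⁆ ≤ N₁)
    (hNc : ∀ x ∈ N, ∀ y ∈ N, x * y = y * x)
    (hMi : iterCommutator M A i ≤ M₁) (hNj : iterCommutator N A j ≤ N₁) :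
    ⁅M, iterCommutator T A (i + j - 1)⁆ ≤ N₁ := by
  -- the filtration of `N`
  obtain ⟨Ls, hLs⟩ : ∃ Ls : ℕ → Subgroup G, Ls = fun t => iterCommutator N A t ⊔ N₁ := ⟨_, rfl⟩
  have hLsN : ∀ t, Ls t ≤ N := by
    intro t
    rw [hLs]
    exact sup_le (iterCommutator_le N A hAN t) hN₁N
  have hN₁Ls : ∀ t, N₁ ≤ Ls t := by
    intro t
    rw [hLs]
    exact le_sup_right
  have hLsanti : Antitone Ls := by
    intro t t' htt'
    rw [hLs]
    exact sup_le_sup_right (iterCommutator_antitone N A hAN htt') N₁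
  have hLsA : ∀ t, ⁅Ls t, A⁆ ≤ Ls (t + 1) := by
    intro t
    have h1 : ⁅iterCommutator N A t, A⁆ ≤ Ls (t + 1) := by
      rw [hLs]
      exact le_sup_left
    have h2 : ⁅N₁, A⁆ ≤ Ls (t + 1) :=
      (Subgroup.le_normalizer_iff_commutator_le_left.1 hAN₁).trans (hN₁Ls _)
    have h3 : Ls t = iterCommutator N A t ⊔ N₁ := by rw [hLs]
    rw [h3]
    exact commutator_sup_le_of_comm hNc hAN (iterCommutator_le N A hAN t) hN₁N h1 h2
  have hLsj : ∀ t, j ≤ t → Ls t ≤ N₁ := by
    intro t ht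
    rw [hLs]
    exact sup_le ((iterCommutator_antitone N A hAN ht).trans hNj) le_rfl
  have hnormA : ∀ t, A ≤ Subgroup.normalizer (Ls t : Set G) := by
    intro t
    rw [Subgroup.le_normalizer_iff_commutator_le_left]
    exact (hLsA t).trans (hLsanti (Nat.le_succ t))
  have hnormT : ∀ t r, iterCommutator T A r ≤ Subgroup.normalizer (Ls t : Set G) := by
    intro t r
    rw [Subgroup.le_normalizer_iff_commutator_le_left]
    exact ((Subgroup.commutator_mono (hLsN t) (iterCommutator_le T A hAT r)).trans hNT).trans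
      (hN₁Ls t)
  have hnormM : ∀ t s, iterCommutator M A s ≤ Subgroup.normalizer (Ls t : Set G) := by
    intro t s
    rw [Subgroup.le_normalizer_iff_commutator_le_left]
    exact ((Subgroup.commutator_mono (hLsN t) (iterCommutator_le M A hAM s)).trans hNM).trans
      (hN₁Ls t)
  have claim : ∀ r s, ⁅iterCommutator M A s, iterCommutator T A r⁆ ≤ Ls (r + s - (i - 1)) := by
    intro r
    induction r with
    | zero =>
      intro s
      by_cases hs : i ≤ s
      · have h1 : iterCommutator M A s ≤ M₁ := (iterCommutator_antitone M A hAM hs).trans hMi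
        exact ((Subgroup.commutator_mono h1 le_rfl).trans hM₁T).trans (hN₁Ls _)
      · have h0 : 0 + s - (i - 1) = 0 := by omega
        rw [h0]
        have h1 : N ≤ Ls 0 := by
          rw [hLs]
          exact le_sup_left
        exact ((Subgroup.commutator_mono (iterCommutator_le M A hAM s) le_rfl).trans hMT).trans h1
    | succ r ih =>
      intro s
      show ⁅iterCommutator M A s, ⁅iterCommutator T A r, A⁆⁆ ≤ _
      rw [Subgroup.commutator_comm]
      apply three_subgroups_mod _ _ _ _ (hnormT _ r) (hnormA _) (hnormM _ s)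
      · -- ⁅⁅A, M_s⁆, T_r⁆
        rw [Subgroup.commutator_comm A]
        have h1 := ih (s + 1)
        have e : r + (s + 1) - (i - 1) = r + 1 + s - (i - 1) := by omega
        rw [e] at h1
        exact h1
      · -- ⁅⁅M_s, T_r⁆, A⁆
        have h1 : ⁅⁅iterCommutator M A s, iterCommutator T A r⁆, A⁆ ≤ Ls (r + s - (i - 1) + 1) :=
          (Subgroup.commutator_mono (ih s) le_rfl).trans (hLsA _)
        exact h1.trans (hLsanti (by omega))
  have h1 := claim (i + j - 1) 0
  have e : iterCommutator M A 0 = M := rfl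
  rw [e] at h1
  exact h1.trans (hLsj _ (by omega))

end CritChief

end Cfsg.Agent.Helper1
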