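import Mathlib
import Cfsg.Prelude.Def_PLocal
import Cfsg.Prelude.Def_LocalEven
import Cfsg.Agent.Helper1.CritChiefA

set_option autoImplicit false

/-!
Projecting a chief factor into, or above, a normal subgroup.
-/

namespace Cfsg.Agent.Helper1

namespace CritChief

open scoped commutatorElement
open Cfsg (iterCommutator IsChiefFactor)

variable {G : Type*} [Group G]

theorem chief_dichotomy {U V N : Subgroup G} (hch : IsChiefFactor U V) [hN : N.Normal] :
    V ⊔ (U ⊓ N) = U ∨ U ⊓ N ≤ V := by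
  obtain ⟨hlt, hUn, hVn, hmin⟩ := hch
  haveI := hUn
  haveI := hVn
  have hn : (V ⊔ (U ⊓ N)).Normal := Subgroup.sup_normal V (U ⊓ N)
  rcases hmin _ hn le_sup_left (sup_le hlt.le inf_le_left) with h | h
  · right
    rw [← h]
    exact le_sup_right
  · left
    exact h

theorem chief_inf {U V N : Subgroup G} (hch : IsChiefFactor U V) [hN : N.Normal]
    (h : V ⊔ (U ⊓ N) = U) : IsChiefFactor (U ⊓ N) (V ⊓ N) := by
  obtain ⟨hlt, hUn, hVn, hmin⟩ := hch
  haveI := hUn
  haveI := hVn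
  refine ⟨lt_of_le_of_ne (inf_le_inf_right N hlt.le) ?_, inferInstance, inferInstance, ?_⟩
  · intro heq
    have h1 : U ⊓ N ≤ V := heq ▸ inf_le_left
    rw [sup_eq_left.2 h1] at h
    exact hlt.ne h
  · intro M hM hVM hMU
    haveI := hM
    have hn : (V ⊔ M).Normal := Subgroup.sup_normal V M
    rcases hmin _ hn le_sup_left (sup_le hlt.le (hMU.trans inf_le_left)) with h1 | h1
    · left
      apply le_antisymm _ hVM
      have : M ≤ V := h1 ▸ le_sup_right
      exact le_inf this (hMU.trans inf_le_right)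
    · right
      apply le_antisymm hMU
      intro x hx
      have hxU : x ∈ V ⊔ M := h1 ▸ hx.1
      obtain ⟨v, hv, m, hm, rfl⟩ := Subgroup.mem_sup_of_normal_right.1 hxU
      have hmN : m ∈ N := (hMU hm).2
      have hvN : v ∈ N := by
        have := N.mul_mem hx.2 (N.inv_mem hmN)
        rwa [mul_inv_cancel_right] at this
      exact M.mul_mem (hVM ⟨hv, hvN⟩) hm

theorem chief_sup {U V N : Subgroup G} (hch : IsChiefFactor U V) [hN : N.Normal]
    (h : U ⊓ N ≤ V) : IsChiefFactor (U ⊔ N) (V ⊔ N) := by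
  obtain ⟨hlt, hUn, hVn, hmin⟩ := hch
  haveI := hUn
  haveI := hVn
  refine ⟨lt_of_le_of_ne (sup_le_sup_right hlt.le N) ?_, Subgroup.sup_normal U N,
    Subgroup.sup_normal V N, ?_⟩
  · intro heq
    apply hlt.not_ge
    intro x hx
    have hx' : x ∈ V ⊔ N := heq ▸ (le_sup_left (a := U) (b := N) hx)
    obtain ⟨v, hv, n, hn, rfl⟩ := Subgroup.mem_sup_of_normal_right.1 hx'
    have hnU : n ∈ U := by
      have := U.mul_mem (U.inv_mem (hlt.le hv)) hx
      rwa [inv_mul_cancel_left] at this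
    exact V.mul_mem hv (h ⟨hnU, hn⟩)
  · intro M hM hVM hMU
    haveI := hM
    have hn : (M ⊓ U).Normal := inferInstance
    rcases hmin _ hn (le_inf (le_sup_left.trans hVM) hlt.le) inf_le_right with h1 | h1
    · left
      apply le_antisymm _ hVM
      intro x hx
      obtain ⟨u, hu, n, hn', rfl⟩ := Subgroup.mem_sup_of_normal_right.1 (hMU hx)
      have hnM : n ∈ M := hVM (le_sup_right (a := V) hn')
      have huM : u ∈ M := by
        have := M.mul_mem hx (M.inv_mem hnM)
        rwa [mul_inv_cancel_right] at this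
      have huV : u ∈ V := h1 ▸ (⟨huM, hu⟩ : u ∈ M ⊓ U)
      exact Subgroup.mul_mem _ (le_sup_left (a := V) huV) (le_sup_right (a := V) hn')
    · right
      apply le_antisymm hMU
      have hUM : U ≤ M := h1 ▸ inf_le_left
      exact sup_le hUM (le_sup_right.trans hVM)

theorem commutator_sup_le_normal (V X A : Subgroup G) [hV : V.Normal] :
    ⁅V ⊔ X, A⁆ ≤ V ⊔ ⁅X, A⁆ := by
  rw [Subgroup.commutator_le]
  intro y hy a ha
  obtain ⟨v, hv, x, hx, rfl⟩ := Subgroup.mem_sup_of_normal_left.1 hy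
  have e : ⁅v * x, a⁆ = (v * (⁅x, a⁆ * (a * v⁻¹ * a⁻¹) * ⁅x, a⁆⁻¹)) * ⁅x, a⁆ := by
    simp only [commutatorElement_def]; group
  rw [e]
  refine Subgroup.mul_mem _ (le_sup_left (a := V) (V.mul_mem hv ?_))
    (le_sup_right (a := V) (Subgroup.commutator_mem_commutator hx ha))
  exact hV.conj_mem _ (hV.conj_mem _ (V.inv_mem hv) a) _

theorem iterCommutator_sup_le (V W A : Subgroup G) [hV : V.Normal] (m : ℕ) :
    iterCommutator (V ⊔ W) A m ≤ V ⊔ iterCommutator W A m := by
  induction m with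
  | zero => exact le_rfl
  | succ m ih =>
    exact (Subgroup.commutator_mono ih le_rfl).trans (commutator_sup_le_normal V _ A)

theorem bound_of_inf {U V N : Subgroup G} (hch : IsChiefFactor U V) [hN : N.Normal]
    (hsup : V ⊔ (U ⊓ N) = U) (A : Subgroup G) (m : ℕ)
    (h : iterCommutator (U ⊓ N) A m ≤ V ⊓ N) : iterCommutator U A m ≤ V := by
  obtain ⟨hlt, hUn, hVn, hmin⟩ := hch
  haveI := hVn
  have h1 : iterCommutator U A m = iterCommutator (V ⊔ (U ⊓ N)) A m := by rw [hsup]
  rw [h1]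
  exact (iterCommutator_sup_le V (U ⊓ N) A m).trans (sup_le le_rfl (h.trans inf_le_left))

theorem bound_of_sup {U V N : Subgroup G} (hch : IsChiefFactor U V) [hN : N.Normal]
    (hle : U ⊓ N ≤ V) (A : Subgroup G) (m : ℕ)
    (h : iterCommutator (U ⊔ N) A m ≤ V ⊔ N) : iterCommutator U A m ≤ V := by
  obtain ⟨hlt, hUn, hVn, hmin⟩ := hch
  haveI := hVn
  haveI := hUn
  have hAU : A ≤ Subgroup.normalizer (U : Set G) := by
    rw [Subgroup.normalizer_eq_top]; exact le_top
  intro x hx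
  have hxU : x ∈ U := iterCommutator_le U A hAU m hx
  have hx' : x ∈ V ⊔ N := h (iterCommutator_mono A le_sup_left m hx)
  obtain ⟨v, hv, n, hn, rfl⟩ := Subgroup.mem_sup_of_normal_right.1 hx'
  have hnU : n ∈ U := by
    have := U.mul_mem (U.inv_mem (hlt.le hv)) hxU
    rwa [inv_mul_cancel_left] at this
  exact V.mul_mem hv (hle ⟨hnU, hn⟩)

/-- Failure of being a chief factor. -/
theorem not_chief_cases {M M₁ : Subgroup G} (hM : M.Normal) (hM₁ : M₁.Normal) (hle : M₁ ≤ M)
    (h : ¬ IsChiefFactor M M₁) :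
    M₁ = M ∨ ∃ M₂ : Subgroup G, M₂.Normal ∧ M₁ < M₂ ∧ M₂ < M := by
  by_contra hcon
  push Not at hcon
  obtain ⟨hne, hno⟩ := hcon
  apply h
  refine ⟨lt_of_le_of_ne hle hne, hM, hM₁, ?_⟩
  intro N hN h1 h2
  by_contra hc
  push Not at hc
  exact hno N hN (lt_of_le_of_ne h1 (Ne.symm hc.1)) |>.elim (lt_of_le_of_ne h2 hc.2)

end CritChief

end Cfsg.Agent.Helper1
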