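import Mathlib

/-!
# The abelian case of Hall–Higman: a ring-theoretic form

Let `η` normalize a finite abelian `p'`-group `B` of units of a ring of characteristic `p`, and
assume `1 + η + ⋯ + η^(p-1) = 0` (which holds when `(η - 1)^(p-1) = 0`).  Then `η` centralizes `B`.
-/

set_option autoImplicit false

namespace Cfsg.Agent.Helper1.QA

open Finset

section ring

variable {R : Type*} [Ring R]

/-- In characteristic `p`, `∑_{i<p} x^i = (x-1)^(p-1)`. -/
theorem geom_sum_eq_sub_one_pow (p : ℕ) [hp : Fact p.Prime] (hpR : (p : R) = 0) (x : R) :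
    ∑ i ∈ range p, x ^ i = (x - 1) ^ (p - 1) := by
  rcases subsingleton_or_nontrivial R with h | h
  · exact Subsingleton.elim _ _
  haveI : CharP R p := (CharP.charP_iff_prime_eq_zero hp.out).2 hpR
  have key : (∑ i ∈ range p, (Polynomial.X : Polynomial (ZMod p)) ^ i)
      = (Polynomial.X - 1) ^ (p - 1) := by
    have h1 : (∑ i ∈ range p, (Polynomial.X : Polynomial (ZMod p)) ^ i) * (Polynomial.X - 1)
        = (Polynomial.X - 1) ^ (p - 1) * (Polynomial.X - 1) := by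
      rw [geom_sum_mul, ← pow_succ, Nat.sub_add_cancel hp.out.one_le, sub_pow_char, one_pow]
    have hne : (Polynomial.X - 1 : Polynomial (ZMod p)) ≠ 0 := by
      have := Polynomial.X_sub_C_ne_zero (1 : ZMod p)
      simpa using this
    exact mul_right_cancel₀ hne h1
  letI : Algebra (ZMod p) R := ZMod.algebra R p
  have := congrArg (Polynomial.aeval x) key
  simpa using this

theorem sub_one_pow_eq_zero (x : R) (n : ℕ) (h : (1 - x) ^ n = 0) : (x - 1) ^ n = 0 := by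
  have : x - 1 = -(1 - x) := (neg_sub 1 x).symm
  rw [this, neg_pow, h, mul_zero]

end ring

section group

variable {R : Type*} [Ring R] {Γ : Type*} [Group Γ]

theorem conj_pow_mem (B : Subgroup Γ) (η : Γ) (hnorm : ∀ b ∈ B, η⁻¹ * b * η ∈ B) (i : ℕ) :
    ∀ b ∈ B, (η ^ i)⁻¹ * b * η ^ i ∈ B := by
  induction i with
  | zero => intro b hb; simpa using hb
  | succ i ih =>
    intro b hb
    have h1 := hnorm _ (ih b hb)
    have e : (η ^ (i + 1))⁻¹ * b * η ^ (i + 1) = η⁻¹ * ((η ^ i)⁻¹ * b * η ^ i) * η := by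
      rw [pow_succ]; group
    rw [e]; exact h1

/-- If `b` commutes with `η ^ i`, `1 ≤ i < p` and `η ^ p = 1`, then `b` commutes with `η`. -/
theorem commute_of_commute_pow {p : ℕ} (hp : p.Prime) {η b : Γ} (hηp : η ^ p = 1) {i : ℕ}
    (hi0 : 0 < i) (hip : i < p) (h : Commute b (η ^ i)) : Commute b η := by
  have hcop : Nat.Coprime i p := (Nat.coprime_of_lt_prime hi0.ne' hip hp).symm
  obtain ⟨m, -, hm⟩ := Nat.exists_mul_mod_eq_one_of_coprime hcop hp.one_lt
  have h1 : Commute b ((η ^ i) ^ m) := h.pow_right m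
  have h2 : (η ^ i) ^ m = η := by
    rw [← pow_mul, pow_eq_pow_mod (i * m) hηp, hm, pow_one]
  rwa [h2] at h1

/-- The fixed-point-free case: if `η` normalizes the finite subgroup `B`, centralizes no nontrivial
element of it, `η ^ p = 1`, the "trace" `1 + η + ⋯ + η^(p-1)` vanishes in the ring and `|B|` is not a
zero divisor, then `B` is trivial. -/
theorem eq_bot_of_fixedPointFree (ρ : Γ →* R) (hρ : Function.Injective ρ) {p : ℕ} (hp : p.Prime)
    (B : Subgroup Γ) [Finite B] (η : Γ) (hnorm : ∀ b ∈ B, η⁻¹ * b * η ∈ B) (hηp : η ^ p = 1)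
    (hfix : ∀ b ∈ B, η * b = b * η → b = 1) (hN : ∑ i ∈ range p, ρ η ^ i = 0)
    (hcard : ∀ r : R, (Nat.card B : R) * r = 0 → r = 0) : B = ⊥ := by
  classical
  letI : Fintype B := Fintype.ofFinite B
  have hpow := conj_pow_mem B η hnorm
  -- the maps `ψ i`
  let ψ : ℕ → B → B := fun i c =>
    ⟨(η ^ i)⁻¹ * (c : Γ)⁻¹ * η ^ i * c, B.mul_mem (hpow i _ (B.inv_mem c.2)) c.2⟩
  have hψinj : ∀ i, 0 < i → i < p → Function.Injective (ψ i) := by
    intro i hi0 hip c d hcd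
    have h1 : (η ^ i)⁻¹ * (c : Γ)⁻¹ * η ^ i * c = (η ^ i)⁻¹ * (d : Γ)⁻¹ * η ^ i * d :=
      congrArg Subtype.val hcd
    have h2 : Commute ((c : Γ) * (d : Γ)⁻¹) (η ^ i) := by
      have h3 : (c : Γ)⁻¹ * η ^ i * c = (d : Γ)⁻¹ * η ^ i * d := by
        have := congrArg (fun z => η ^ i * z) h1
        simpa [mul_assoc] using this
      show (c : Γ) * (d : Γ)⁻¹ * η ^ i = η ^ i * ((c : Γ) * (d : Γ)⁻¹)
      have h4 : η ^ i * (c : Γ) = (c : Γ) * ((d : Γ)⁻¹ * η ^ i * d) := by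
        rw [← h3]; group
      calc (c : Γ) * (d : Γ)⁻¹ * η ^ i = (c : Γ) * ((d : Γ)⁻¹ * η ^ i * d) * (d : Γ)⁻¹ := by group
        _ = η ^ i * (c : Γ) * (d : Γ)⁻¹ := by rw [← h4]
        _ = η ^ i * ((c : Γ) * (d : Γ)⁻¹) := by group
    have h5 := commute_of_commute_pow hp hηp hi0 hip h2
    have h6 : (c : Γ) * (d : Γ)⁻¹ = 1 :=
      hfix _ (B.mul_mem c.2 (B.inv_mem d.2)) h5.eq.symm
    apply Subtype.ext
    exact mul_inv_eq_one.mp h6
  have hψbij : ∀ i, 0 < i → i < p → Function.Bijective (ψ i) := fun i h0 hp' =>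
    (hψinj i h0 hp').bijective_of_finite
  set σ : R := ∑ c : B, ρ (c : Γ) with hσ
  have hsum : ∀ i, 0 < i → i < p → ∑ c : B, ρ ((ψ i c : B) : Γ) = σ := by
    intro i h0 hp'
    exact (hψbij i h0 hp').sum_comp (fun c : B => ρ (c : Γ))
  -- each conjugate of `η` has vanishing trace
  have hconj : ∀ c : B, ∑ i ∈ range p, ρ ((c : Γ)⁻¹ * η ^ i * c) = 0 := by
    intro c
    have : ∀ i, ρ ((c : Γ)⁻¹ * η ^ i * c) = ρ (c : Γ)⁻¹ * ρ η ^ i * ρ c := by
      intro i; rw [map_mul, map_mul, map_pow]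
    simp_rw [this]
    rw [← Finset.sum_mul, ← Finset.mul_sum, hN, mul_zero, zero_mul]
  have hfac : ∀ (c : B) (i : ℕ), ρ ((c : Γ)⁻¹ * η ^ i * c) = ρ η ^ i * ρ ((ψ i c : B) : Γ) := by
    intro c i
    rw [← map_pow, ← map_mul]
    congr 1
    show (c : Γ)⁻¹ * η ^ i * c = η ^ i * ((η ^ i)⁻¹ * (c : Γ)⁻¹ * η ^ i * c)
    group
  have htot : ∑ i ∈ range p, ρ η ^ i * ∑ c : B, ρ ((ψ i c : B) : Γ) = 0 := by
    simp_rw [Finset.mul_sum]
    rw [Finset.sum_comm]
    apply Finset.sum_eq_zero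
    intro c _
    simp_rw [← hfac]
    exact hconj c
  obtain ⟨n, rfl⟩ : ∃ n, p = n + 1 := ⟨p - 1, (Nat.sub_add_cancel hp.one_le).symm⟩
  rw [Finset.sum_range_succ'] at htot hN
  have h0 : ∑ c : B, ρ ((ψ 0 c : B) : Γ) = (Nat.card B : R) := by
    have : ∀ c : B, ρ ((ψ 0 c : B) : Γ) = 1 := by
      intro c
      have : ((ψ 0 c : B) : Γ) = 1 := by
        show (η ^ 0)⁻¹ * (c : Γ)⁻¹ * η ^ 0 * c = 1
        simp
      rw [this, map_one]
    simp_rw [this]
    rw [Finset.sum_const, Finset.card_univ, Nat.card_eq_fintype_card]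
    simp
  have h1 : ∑ i ∈ range n, ρ η ^ (i + 1) * ∑ c : B, ρ ((ψ (i + 1) c : B) : Γ)
      = (∑ i ∈ range n, ρ η ^ (i + 1)) * σ := by
    rw [Finset.sum_mul]
    apply Finset.sum_congr rfl
    intro i hi
    rw [hsum (i + 1) (Nat.succ_pos i) (by simpa using Finset.mem_range.mp hi)]
  rw [h1, h0, pow_zero, one_mul] at htot
  rw [pow_zero] at hN
  have h2 : (∑ i ∈ range n, ρ η ^ (i + 1)) = -1 := eq_neg_of_add_eq_zero_left hN
  rw [h2] at htot
  have hσ' : σ = (Nat.card B : R) := by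
    have : -σ + (Nat.card B : R) = 0 := by simpa using htot
    have h3 := eq_neg_of_add_eq_zero_left this
    rw [neg_eq_iff_eq_neg] at h3
    rw [h3]; simp
  -- now every element of `B` fixes `σ`
  rw [Subgroup.eq_bot_iff_forall]
  intro c' hc'
  have h3 : ρ c' * σ = σ := by
    rw [hσ, Finset.mul_sum]
    have : ∀ c : B, ρ c' * ρ (c : Γ) = ρ (((⟨c', hc'⟩ : B) * c : B) : Γ) := by
      intro c; rw [← map_mul]; rfl
    simp_rw [this]
    exact (Group.mulLeft_bijective (⟨c', hc'⟩ : B)).sum_comp (fun c : B => ρ (c : Γ))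
  rw [hσ'] at h3
  have h4 : (Nat.card B : R) * (ρ c' - 1) = 0 := by
    rw [mul_sub, mul_one, (Nat.cast_commute (Nat.card B) (ρ c')).eq, h3, sub_self]
  have h5 := hcard _ h4
  have h6 : ρ c' = ρ 1 := by rw [map_one]; exact sub_eq_zero.mp h5
  exact hρ h6

end group

section abelian

variable {R : Type*} [Ring R] {Γ : Type*} [Group Γ]

/-- The abelian case: if `η` normalizes the finite abelian `p'`-subgroup `B` and the trace
`1 + η + ⋯ + η^(p-1)` vanishes in a ring of characteristic `p`, then `η` centralizes `B`. -/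
theorem commute_of_sum_eq_zero (ρ : Γ →* R) (hρ : Function.Injective ρ) {p : ℕ} [hp : Fact p.Prime]
    (hpR : (p : R) = 0) (B : Subgroup Γ) [Finite B] (hB : ∀ a ∈ B, ∀ b ∈ B, a * b = b * a)
    (hcop : (Nat.card B).Coprime p) (η : Γ) (hnorm : ∀ b ∈ B, η⁻¹ * b * η ∈ B)
    (hN : ∑ i ∈ range p, ρ η ^ i = 0) : ∀ b ∈ B, η * b = b * η := by
  classical
  have hηp : η ^ p = 1 := by
    apply hρ
    rw [map_pow, map_one]
    have := geom_sum_mul (ρ η) p
    rw [hN, zero_mul] at this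
    exact (sub_eq_zero.mp this.symm)
  have hpow := conj_pow_mem B η hnorm
  letI : CommGroup B := { (inferInstance : Group B) with
    mul_comm := fun a b => Subtype.ext (hB a a.2 b b.2) }
  -- the commutator map
  let φ : B →* B :=
    { toFun := fun b => ⟨η⁻¹ * (b : Γ)⁻¹ * η * b, B.mul_mem (hnorm _ (B.inv_mem b.2)) b.2⟩
      map_one' := by apply Subtype.ext; simp
      map_mul' := by
        intro a b
        apply Subtype.ext
        show η⁻¹ * ((a : Γ) * b)⁻¹ * η * ((a : Γ) * b)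
          = (η⁻¹ * (a : Γ)⁻¹ * η * a) * (η⁻¹ * (b : Γ)⁻¹ * η * b)
        have h1 : (a : Γ) * (η⁻¹ * (b : Γ)⁻¹ * η) = (η⁻¹ * (b : Γ)⁻¹ * η) * a :=
          hB _ a.2 _ (hnorm _ (B.inv_mem b.2))
        have h2 : (η⁻¹ * (b : Γ)⁻¹ * η) * (η⁻¹ * (a : Γ)⁻¹ * η) =
            (η⁻¹ * (a : Γ)⁻¹ * η) * (η⁻¹ * (b : Γ)⁻¹ * η) :=
          hB _ (hnorm _ (B.inv_mem b.2)) _ (hnorm _ (B.inv_mem a.2))
        calc η⁻¹ * ((a : Γ) * b)⁻¹ * η * ((a : Γ) * b)
            = (η⁻¹ * (b : Γ)⁻¹ * η) * (η⁻¹ * (a : Γ)⁻¹ * η) * a * b := by group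
          _ = (η⁻¹ * (a : Γ)⁻¹ * η) * ((η⁻¹ * (b : Γ)⁻¹ * η) * a) * b := by rw [h2]; group
          _ = (η⁻¹ * (a : Γ)⁻¹ * η) * ((a : Γ) * (η⁻¹ * (b : Γ)⁻¹ * η)) * b := by rw [h1]
          _ = (η⁻¹ * (a : Γ)⁻¹ * η * a) * (η⁻¹ * (b : Γ)⁻¹ * η * b) := by group }
  have hφ : ∀ b : B, ((φ b : B) : Γ) = η⁻¹ * (b : Γ)⁻¹ * η * b := fun b => rfl
  set B₁ : Subgroup Γ := φ.range.map B.subtype with hB₁
  have hB₁B : B₁ ≤ B := Subgroup.map_subtype_le _
  haveI : Finite B₁ := Finite.of_injective (Subgroup.inclusion hB₁B) (Subgroup.inclusion_injective _)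
  have hmem : ∀ x, x ∈ B₁ ↔ ∃ b : B, x = η⁻¹ * (b : Γ)⁻¹ * η * b := by
    intro x
    constructor
    · rintro ⟨_, ⟨b, rfl⟩, rfl⟩
      exact ⟨b, rfl⟩
    · rintro ⟨b, rfl⟩
      exact ⟨φ b, ⟨b, rfl⟩, rfl⟩
  -- `B₁` is normalized by `η`
  have hnorm₁ : ∀ c ∈ B₁, η⁻¹ * c * η ∈ B₁ := by
    intro c hc
    obtain ⟨b, rfl⟩ := (hmem c).1 hc
    refine (hmem _).2 ⟨⟨η⁻¹ * b * η, hnorm _ b.2⟩, ?_⟩
    show η⁻¹ * (η⁻¹ * (b : Γ)⁻¹ * η * b) * η = η⁻¹ * (η⁻¹ * (b : Γ) * η)⁻¹ * η * (η⁻¹ * (b : Γ) * η)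
    group
  -- `η` centralizes no nontrivial element of `B₁`
  have hfix₁ : ∀ c ∈ B₁, η * c = c * η → c = 1 := by
    intro c hc hcomm
    obtain ⟨b, rfl⟩ := (hmem c).1 hc
    set c : Γ := η⁻¹ * (b : Γ)⁻¹ * η * b with hc_def
    have hcB : c ∈ B := hB₁B hc
    let t : ℕ → B := fun i => ⟨(η ^ i)⁻¹ * b * η ^ i, hpow i _ b.2⟩
    have hci : ∀ i : ℕ, (⟨c, hcB⟩ : B) = t i / t (i + 1) := by
      intro i
      apply Subtype.ext
      have hcomm_i : Commute c (η ^ i) := (Commute.pow_right hcomm.symm i)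
      have hcoe : ((t i / t (i + 1) : B) : Γ)
          = ((η ^ i)⁻¹ * b * η ^ i) * ((η ^ (i + 1))⁻¹ * b * η ^ (i + 1))⁻¹ := by
        rw [div_eq_mul_inv]; rfl
      rw [hcoe]
      show c = ((η ^ i)⁻¹ * b * η ^ i) * ((η ^ (i + 1))⁻¹ * b * η ^ (i + 1))⁻¹
      have e1 : ((η ^ i)⁻¹ * (b : Γ) * η ^ i) * ((η ^ (i + 1))⁻¹ * b * η ^ (i + 1))⁻¹
          = (η ^ i)⁻¹ * ((b : Γ) * η⁻¹ * (b : Γ)⁻¹ * η) * η ^ i := by
        rw [pow_succ]; group
      have e2 : (b : Γ) * η⁻¹ * (b : Γ)⁻¹ * η = c := by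
        -- `c⁻¹`-type identity inside the abelian group `B`: `b (η⁻¹ b⁻¹ η) = (η⁻¹ b⁻¹ η) b`
        have := hB _ b.2 _ (hnorm _ (B.inv_mem b.2))
        calc (b : Γ) * η⁻¹ * (b : Γ)⁻¹ * η = (b : Γ) * (η⁻¹ * (b : Γ)⁻¹ * η) := by group
          _ = (η⁻¹ * (b : Γ)⁻¹ * η) * b := this
          _ = c := by rw [hc_def]
      rw [e1, e2]
      have : c * η ^ i = η ^ i * c := hcomm_i.eq
      calc c = (η ^ i)⁻¹ * (η ^ i * c) := by group
        _ = (η ^ i)⁻¹ * c * η ^ i := by rw [← this]; group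
    have hprod : (⟨c, hcB⟩ : B) ^ p = t 0 / t p := by
      calc (⟨c, hcB⟩ : B) ^ p = ∏ _i ∈ range p, (⟨c, hcB⟩ : B) := by
            rw [Finset.prod_const, Finset.card_range]
        _ = ∏ i ∈ range p, (t i / t (i + 1)) := Finset.prod_congr rfl (fun i _ => hci i)
        _ = t 0 / t p := Finset.prod_range_div' t p
    have ht : t p = t 0 := by
      apply Subtype.ext
      show (η ^ p)⁻¹ * b * η ^ p = (η ^ 0)⁻¹ * b * η ^ 0
      rw [hηp]; simp
    rw [ht, div_self'] at hprod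
    have hcp : c ^ p = 1 := by
      have := congrArg Subtype.val hprod
      simpa using this
    have hcn : c ^ Nat.card B = 1 := by
      have : (⟨c, hcB⟩ : B) ^ Nat.card B = 1 := pow_card_eq_one'
      have h := congrArg Subtype.val this
      rw [SubmonoidClass.coe_pow] at h
      exact h
    have := (pow_gcd_eq_one).2 ⟨hcn, hcp⟩
    rwa [hcop, pow_one] at this
  -- `|B₁|` is invertible
  have hcard₁ : ∀ r : R, (Nat.card B₁ : R) * r = 0 → r = 0 := by
    intro r hr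
    have hdvd : Nat.card B₁ ∣ Nat.card B := Subgroup.card_dvd_of_le hB₁B
    have hcop₁ : (Nat.card B₁).Coprime p := Nat.Coprime.coprime_dvd_left hdvd hcop
    have hbez : ((Nat.card B₁ : ℤ) * Nat.gcdA (Nat.card B₁) p + (p : ℤ) * Nat.gcdB (Nat.card B₁) p) = 1 := by
      have := Nat.gcd_eq_gcd_ab (Nat.card B₁) p
      rw [hcop₁] at this
      simpa using this.symm
    have hR : ((Nat.card B₁ : ℤ) : R) * ((Nat.gcdA (Nat.card B₁) p : ℤ) : R) = 1 := by
      have := congrArg (fun z : ℤ => (z : R)) hbez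
      simp only [Int.cast_add, Int.cast_mul, Int.cast_natCast, Int.cast_one] at this
      rw [hpR, zero_mul, add_zero] at this
      simpa using this
    have hcomm' : ((Nat.gcdA (Nat.card B₁) p : ℤ) : R) * ((Nat.card B₁ : ℤ) : R) = 1 := by
      rw [← hR]
      exact (Int.cast_commute _ _).eq
    calc r = (((Nat.gcdA (Nat.card B₁) p : ℤ) : R) * ((Nat.card B₁ : ℤ) : R)) * r := by
          rw [hcomm', one_mul]
      _ = ((Nat.gcdA (Nat.card B₁) p : ℤ) : R) * ((Nat.card B₁ : R) * r) := by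
          rw [mul_assoc]; simp
      _ = 0 := by rw [hr, mul_zero]
  have hbot := eq_bot_of_fixedPointFree ρ hρ hp.out B₁ η hnorm₁ hηp hfix₁ hN hcard₁
  intro b hb
  have h1 : η⁻¹ * b⁻¹ * η * b ∈ B₁ := (hmem _).2 ⟨⟨b, hb⟩, rfl⟩
  rw [hbot, Subgroup.mem_bot] at h1
  calc η * b = b * η * (η⁻¹ * b⁻¹ * η * b) := by group
    _ = b * η := by rw [h1, mul_one]

end abelian

section mulaut

variable {M : Type*} [CommGroup M]

/-- The embedding of `MulAut M` into the endomorphism ring of `Additive M`. -/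
def toEnd (M : Type*) [CommGroup M] : MulAut M →* AddMonoid.End (Additive M) where
  toFun σ := MonoidHom.toAdditive σ.toMonoidHom
  map_one' := rfl
  map_mul' _ _ := rfl

theorem toEnd_apply (σ : MulAut M) (m : M) :
    toEnd M σ (Additive.ofMul m) = Additive.ofMul (σ m) := rfl

theorem toEnd_injective : Function.Injective (toEnd M) := by
  intro σ τ h
  ext m
  have := DFunLike.congr_fun h (Additive.ofMul m)
  exact this

/-- The abelian case of Hall–Higman for automorphisms of an elementary abelian `p`-group `M`: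
if `η` normalizes the finite abelian `p'`-group `B` of automorphisms and `(1 - η)^(p-1)` kills `M`,
then `η` centralizes `B`. -/
theorem centralizes_of_engel {p : ℕ} [hp : Fact p.Prime] (hM : ∀ m : M, m ^ p = 1)
    (B : Subgroup (MulAut M)) [Finite B] (hB : ∀ a ∈ B, ∀ b ∈ B, a * b = b * a)
    (hcop : (Nat.card B).Coprime p) (η : MulAut M) (hnorm : ∀ b ∈ B, η⁻¹ * b * η ∈ B)
    (hE : ∀ m : M, (fun x => x * (η x)⁻¹)^[p - 1] m = 1) : ∀ b ∈ B, η * b = b * η := by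
  have hpR : (p : AddMonoid.End (Additive M)) = 0 := by
    ext m
    rw [AddMonoid.End.natCast_apply]
    show Additive.ofMul (Additive.toMul m ^ p) = 0
    rw [hM]; rfl
  have h1 : ∀ (k : ℕ) (m : M), ((1 - toEnd M η) ^ k) (Additive.ofMul m)
      = Additive.ofMul ((fun x => x * (η x)⁻¹)^[k] m) := by
    intro k
    induction k with
    | zero => intro m; rfl
    | succ k ih =>
      intro m
      rw [pow_succ, Function.iterate_succ_apply, ← ih]
      have e : (1 - toEnd M η) (Additive.ofMul m) = Additive.ofMul (m * (η m)⁻¹) := by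
        rw [← div_eq_mul_inv]; rfl
      rw [← e]
      rfl
  have h2 : (1 - toEnd M η) ^ (p - 1) = 0 := by
    ext m
    have := h1 (p - 1) (Additive.toMul m)
    rw [hE] at this
    exact this
  have h3 : (toEnd M η - 1) ^ (p - 1) = 0 := by
    exact sub_one_pow_eq_zero _ _ h2
  have hN : ∑ i ∈ range p, toEnd M η ^ i = 0 := by
    rw [geom_sum_eq_sub_one_pow p hpR, h3]
  exact commute_of_sum_eq_zero (toEnd M) toEnd_injective hpR B hB hcop η hnorm hN

end mulaut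

end Cfsg.Agent.Helper1.QA
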