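import Mathlib
import Cfsg.Agent.Helper1.QAa

/-!
# The abelian case of Hall–Higman inside a group

`U / V` is an elementary abelian `p`-section of `X` (with `U`, `V` normal), `F` is a subgroup whose
action on `U / V` is through an abelian group of exponent prime to `p`, and `g` normalizes `F` and
satisfies the Engel condition `[U, g; p - 1] ≤ V`.  Then `[g, F]` acts trivially on `U / V`.
-/

set_option autoImplicit false

namespace Cfsg.Agent.Helper1.QA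

open scoped commutatorElement

variable {X : Type*} [Group X]

theorem comm_comm_mem_of_engel [Finite X] {p : ℕ} [hp : Fact p.Prime]
    (U V : Subgroup X) [hU : U.Normal] [hV : V.Normal] (hab : ∀ u ∈ U, ∀ u' ∈ U, ⁅u, u'⁆ ∈ V)
    (hexp : ∀ u ∈ U, u ^ p ∈ V)
    (F : Subgroup X) (m : ℕ) (hm : m.Coprime p)
    (hF1 : ∀ a ∈ F, ∀ b ∈ F, ∀ u ∈ U, ⁅⁅a, b⁆, u⁆ ∈ V)
    (hF2 : ∀ a ∈ F, ∀ u ∈ U, ⁅a ^ m, u⁆ ∈ V)
    (g : X) (hg : ∀ a ∈ F, g⁻¹ * a * g ∈ F)
    (hE : ∀ u ∈ U, (fun x => ⁅x, g⁆)^[p - 1] u ∈ V) :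
    ∀ a ∈ F, ∀ u ∈ U, ⁅⁅g, a⁆, u⁆ ∈ V := by
  classical
  set π : X →* X ⧸ V := QuotientGroup.mk' V with hπ
  have hπs : Function.Surjective π := QuotientGroup.mk'_surjective V
  have hπ1 : ∀ x : X, π x = 1 ↔ x ∈ V := fun x => QuotientGroup.eq_one_iff x
  set Ū : Subgroup (X ⧸ V) := U.map π with hŪ
  haveI hŪn : Ū.Normal := hU.map π hπs
  letI : CommGroup ↥Ū := { (inferInstance : Group ↥Ū) with
    mul_comm := by
      rintro ⟨_, ⟨u, hu, rfl⟩⟩ ⟨_, ⟨u', hu', rfl⟩⟩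
      apply Subtype.ext
      show π u * π u' = π u' * π u
      have h1 := (hπ1 _).2 (hab u hu u' hu')
      rw [commutatorElement_def, map_mul, map_mul, map_mul, map_inv, map_inv] at h1
      calc π u * π u' = (π u * π u' * (π u)⁻¹ * (π u')⁻¹) * (π u' * π u) := by group
        _ = π u' * π u := by rw [h1, one_mul] }
  let κ : X →* MulAut ↥Ū := (MulAut.conjNormal (H := Ū)).comp π
  have hκ : ∀ (x : X) (y : ↥Ū), ((κ x y : ↥Ū) : X ⧸ V) = π x * y * (π x)⁻¹ := fun x y => rfl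
  have hκ1 : ∀ x : X, κ x = 1 ↔ ∀ u ∈ U, ⁅x, u⁆ ∈ V := by
    intro x
    constructor
    · intro h u hu
      have h1 := hκ x ⟨π u, ⟨u, hu, rfl⟩⟩
      rw [h] at h1
      rw [← hπ1, commutatorElement_def, map_mul, map_mul, map_mul, map_inv, map_inv]
      have h2 : π x * π u * (π x)⁻¹ = π u := h1.symm
      rw [h2, mul_inv_cancel]
    · intro h
      ext ⟨_, ⟨u, hu, rfl⟩⟩
      rw [hκ]
      have h1 := (hπ1 _).2 (h u hu)
      rw [commutatorElement_def, map_mul, map_mul, map_mul, map_inv, map_inv] at h1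
      show π x * π u * (π x)⁻¹ = π u
      calc π x * π u * (π x)⁻¹ = (π x * π u * (π x)⁻¹ * (π u)⁻¹) * π u := by group
        _ = π u := by rw [h1, one_mul]
  set B : Subgroup (MulAut ↥Ū) := F.map κ with hB
  haveI : Finite B := by
    rw [hB]
    exact Finite.of_surjective (fun a : F => (⟨κ a, ⟨a, a.2, rfl⟩⟩ : F.map κ))
      (by rintro ⟨_, ⟨a, ha, rfl⟩⟩; exact ⟨⟨a, ha⟩, rfl⟩)
  have hBcomm : ∀ a ∈ B, ∀ b ∈ B, a * b = b * a := by
    rintro _ ⟨a, ha, rfl⟩ _ ⟨b, hb, rfl⟩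
    have h1 : κ ⁅a, b⁆ = 1 := (hκ1 _).2 (hF1 a ha b hb)
    rw [commutatorElement_def, map_mul, map_mul, map_mul, map_inv, map_inv] at h1
    calc κ a * κ b = (κ a * κ b * (κ a)⁻¹ * (κ b)⁻¹) * (κ b * κ a) := by group
      _ = κ b * κ a := by rw [h1, one_mul]
  have hBm : ∀ b ∈ B, b ^ m = 1 := by
    rintro _ ⟨a, ha, rfl⟩
    rw [← map_pow]
    exact (hκ1 _).2 (hF2 a ha)
  have hBcop : (Nat.card B).Coprime p := by
    rw [Nat.coprime_comm, hp.out.coprime_iff_not_dvd]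
    intro hdvd
    obtain ⟨b, hb⟩ := exists_prime_orderOf_dvd_card' p hdvd
    have h1 : (b : MulAut ↥Ū) ^ m = 1 := hBm _ b.2
    have h2 : b ^ m = 1 := Subtype.ext (by simpa using h1)
    have h3 : p ∣ m := hb ▸ orderOf_dvd_of_pow_eq_one h2
    exact (hp.out.coprime_iff_not_dvd.1 hm.symm) h3
  have hnorm : ∀ b ∈ B, (κ g)⁻¹ * b * κ g ∈ B := by
    rintro _ ⟨a, ha, rfl⟩
    refine ⟨g⁻¹ * a * g, hg a ha, ?_⟩
    rw [map_mul, map_mul, map_inv]
  have hMexp : ∀ y : ↥Ū, y ^ p = 1 := by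
    rintro ⟨_, ⟨u, hu, rfl⟩⟩
    apply Subtype.ext
    show (π u) ^ p = 1
    rw [← map_pow]
    exact (hπ1 _).2 (hexp u hu)
  have hiter : ∀ (k : ℕ) (u : X) (hu : u ∈ U),
      (fun x => ⁅x, g⁆)^[k] u ∈ U ∧
      (((fun y : ↥Ū => y * (κ g y)⁻¹)^[k] ⟨π u, ⟨u, hu, rfl⟩⟩ : ↥Ū) : X ⧸ V)
        = π ((fun x => ⁅x, g⁆)^[k] u) := by
    intro k
    induction k with
    | zero => intro u hu; exact ⟨hu, rfl⟩
    | succ k ih =>
      intro u hu
      have hu' : ⁅u, g⁆ ∈ U := by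
        rw [commutatorElement_def]
        have := hU.conj_mem u⁻¹ (U.inv_mem hu) g
        have e : u * g * u⁻¹ * g⁻¹ = u * (g * u⁻¹ * g⁻¹) := by group
        rw [e]
        exact U.mul_mem hu this
      rw [Function.iterate_succ_apply, Function.iterate_succ_apply]
      obtain ⟨h1, h2⟩ := ih ⁅u, g⁆ hu'
      refine ⟨h1, ?_⟩
      rw [← h2]
      congr 2
      apply Subtype.ext
      show π u * (π g * π u * (π g)⁻¹)⁻¹ = π ⁅u, g⁆
      rw [commutatorElement_def, map_mul, map_mul, map_mul, map_inv, map_inv]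
      group
  have hEM : ∀ y : ↥Ū, (fun y : ↥Ū => y * (κ g y)⁻¹)^[p - 1] y = 1 := by
    rintro ⟨_, ⟨u, hu, rfl⟩⟩
    apply Subtype.ext
    rw [(hiter (p - 1) u hu).2]
    exact (hπ1 _).2 (hE u hu)
  have hcent := centralizes_of_engel hMexp B hBcomm hBcop (κ g) hnorm hEM
  intro a ha
  have h1 := hcent (κ a) ⟨a, ha, rfl⟩
  rw [← hκ1, commutatorElement_def, map_mul, map_mul, map_mul, map_inv, map_inv, h1]
  group

end Cfsg.Agent.Helper1.QA
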