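import Mathlib

set_option autoImplicit false

/-!
The "Engel" computation used in the Hall–Wielandt transfer theorem:
in an abelian group of exponent `p`, `∑_{i<p} σ^i = (σ - 1)^(p-1)`.
-/

namespace Cfsg.Agent.Helper1

open Finset

theorem choose_pred_prime_zmod {p : ℕ} [hp : Fact p.Prime] :
    ∀ k : ℕ, k ≤ p - 1 → (((p - 1).choose k : ℕ) : ZMod p) = (-1) ^ k := by
  intro k
  induction k with
  | zero => intro _; simp
  | succ k ih =>
    intro hk
    have hk' : k ≤ p - 1 := by omega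
    have hp1 : 1 ≤ p := hp.out.one_lt.le
    have h1 : (p - 1).choose k + (p - 1).choose (k + 1) = p.choose (k + 1) := by
      have := Nat.choose_succ_succ (p - 1) k
      rw [Nat.succ_eq_add_one, Nat.succ_eq_add_one, show p - 1 + 1 = p by omega] at this
      omega
    have h2 : p ∣ p.choose (k + 1) :=
      hp.out.dvd_choose_self (Nat.succ_ne_zero k) (by omega)
    have h3 : ((p.choose (k + 1) : ℕ) : ZMod p) = 0 := (ZMod.natCast_eq_zero_iff _ _).2 h2
    have h4 : (((p - 1).choose k : ℕ) : ZMod p) + (((p - 1).choose (k + 1) : ℕ) : ZMod p) = 0 := by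
      rw [← Nat.cast_add, h1, h3]
    rw [ih hk'] at h4
    rw [pow_succ]
    linear_combination h4

theorem engel_coeff_zmod {p : ℕ} [hp : Fact p.Prime] (k : ℕ) (hk : k ≤ p - 1) :
    ((((-1 : ℤ) ^ (p - 1 - k) * ((p - 1).choose k : ℕ) : ℤ)) : ZMod p) = 1 := by
  push_cast
  rw [choose_pred_prime_zmod k hk, ← pow_add, show p - 1 - k + k = p - 1 by omega]
  have hne : (-1 : ZMod p) ≠ 0 := by
    rw [neg_ne_zero]; exact one_ne_zero
  exact ZMod.pow_card_sub_one_eq_one hne

theorem zsmul_eq_self_of_zmod_eq_one {p : ℕ} {B : Type*} [AddCommGroup B]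
    (hB : ∀ b : B, p • b = 0) (n : ℤ) (hn : ((n : ℤ) : ZMod p) = 1) (b : B) : n • b = b := by
  have h1 : ((n : ℤ) : ZMod p) = ((1 : ℤ) : ZMod p) := by rw [hn]; simp
  rw [ZMod.intCast_eq_intCast_iff_dvd_sub] at h1
  obtain ⟨m, hm⟩ := h1
  have h2 : n = 1 - (p : ℤ) * m := by omega
  rw [h2, sub_smul, one_smul, mul_comm, mul_smul]
  have : (p : ℤ) • b = 0 := by
    rw [natCast_zsmul]; exact hB b
  rw [this, smul_zero, sub_zero]

/-- The Engel identity: `ρ([s, z; p-1]) = ∏_{i<p} ρ(s^{z^i})` for homomorphisms into abelian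
groups of exponent `p`. -/
theorem engel_sum {p : ℕ} [hp : Fact p.Prime] {S : Type*} [Group S] {A : Type*} [CommGroup A]
    (hA : ∀ a : A, a ^ p = 1) (τ : S →* S) (ρ : S →* A) (s : S) :
    ρ ((fun x => x⁻¹ * τ x)^[p - 1] s) = ∏ i ∈ range p, ρ (τ^[i] s) := by
  set c : S → S := fun x => x⁻¹ * τ x with hc
  have hcτ : Function.Commute τ c := by
    intro x
    show τ (x⁻¹ * τ x) = (τ x)⁻¹ * τ (τ x)
    rw [map_mul, map_inv]
  let a : ℕ → Additive A := fun j => Additive.ofMul (ρ (τ^[j] s))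
  have hΔ : ∀ n j : ℕ, (fwdDiff (1 : ℕ))^[n] a j = Additive.ofMul (ρ (c^[n] (τ^[j] s))) := by
    intro n
    induction n with
    | zero => intro j; rfl
    | succ n ih =>
      intro j
      rw [Function.iterate_succ_apply', fwdDiff, ih, ih, Function.iterate_succ_apply' c]
      have h1 : c^[n] (τ^[j + 1] s) = τ (c^[n] (τ^[j] s)) := by
        rw [Function.iterate_succ_apply']
        exact ((hcτ.iterate_right n) (τ^[j] s)).symm
      rw [h1]
      show _ = Additive.ofMul (ρ ((c^[n] (τ^[j] s))⁻¹ * τ (c^[n] (τ^[j] s))))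
      rw [map_mul, map_inv, ofMul_mul, ofMul_inv]
      abel
  have h0 := hΔ (p - 1) 0
  rw [fwdDiff_iter_eq_sum_shift] at h0
  have hp1 : p - 1 + 1 = p := Nat.sub_add_cancel hp.out.one_lt.le
  rw [hp1] at h0
  have hB : ∀ b : Additive A, p • b = 0 := fun b => by
    show Additive.ofMul ((Additive.toMul b) ^ p) = 0
    rw [hA]; rfl
  have h2 : ∑ k ∈ range p, ((-1 : ℤ) ^ (p - 1 - k) * ((p - 1).choose k : ℕ)) • a (0 + k • 1) =
      ∑ k ∈ range p, a k := by
    refine Finset.sum_congr rfl (fun k hk => ?_)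
    have hk' : k ≤ p - 1 := by
      have := Finset.mem_range.1 hk; omega
    rw [zsmul_eq_self_of_zmod_eq_one hB _ (engel_coeff_zmod k hk')]
    simp
  rw [h2] at h0
  have h3 : Additive.ofMul (ρ (c^[p - 1] s)) = Additive.ofMul (∏ i ∈ range p, ρ (τ^[i] s)) := by
    rw [ofMul_prod]
    exact h0.symm
  exact h3

end Cfsg.Agent.Helper1
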