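import Mathlib
import Cfsg.Agent.Helper1.FTD
import Cfsg.Agent.Helper1.HallWielandtA
import Cfsg.Agent.Helper4.FrattiniQuotient

/-!
Glauberman's Engel-condition theorem on control of transfer: preliminaries
(products over orbits of a `p`-group, chief factors inside a normal `p`-subgroup).
-/

set_option autoImplicit false

universe u

namespace Cfsg.Agent.Helper1.FT

open Cfsg

variable {p : ℕ}

section orbit

variable [hp : Fact p.Prime] {P : Type*} [Group P] [Finite P] {Ω : Type*} [MulAction P Ω]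
  [Fintype Ω] {A : Type*} [CommGroup A]

/-- A proper subgroup of a finite `p`-group lies in a normal subgroup of index `p`. -/
theorem exists_index_prime_of_ne_top (hP : IsPGroup p P) {H : Subgroup P} (hH : H ≠ ⊤) :
    ∃ U₁ : Subgroup P, H ≤ U₁ ∧ U₁.Normal ∧ U₁.index = p := by
  obtain ⟨a, ha⟩ := IsPGroup.iff_card.mp hP
  obtain ⟨n, hn⟩ := IsPGroup.iff_card.mp (hP.to_subgroup H)
  have hlt : Nat.card H < Nat.card P := card_subgroup_lt hH
  rw [ha, hn] at hlt
  have hna : n < a := (Nat.pow_lt_pow_iff_right hp.out.one_lt).mp hlt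
  have hdvd : p ^ (a - 1) ∣ Nat.card P := by
    rw [ha]; exact pow_dvd_pow p (Nat.sub_le a 1)
  obtain ⟨K, hK, hHK⟩ := Sylow.exists_subgroup_card_pow_prime_le p hdvd H hn (by omega)
  have hidx : K.index = p := by
    have h1 := Subgroup.card_mul_index K
    rw [hK, ha] at h1
    have h2 : p ^ a = p ^ (a - 1) * p := by
      rw [← pow_succ]; congr 1; omega
    rw [h2] at h1
    exact Nat.eq_of_mul_eq_mul_left (pow_pos hp.out.pos _) h1
  refine ⟨K, hHK, ?_, hidx⟩
  apply Subgroup.normal_of_index_eq_minFac_card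
  rw [hidx, ha, Nat.Prime.pow_minFac hp.out (by omega)]

open Classical in
/-- The product of `f` over a non-trivial orbit of a `p`-group `P` is trivial, provided `P` is
generated by elements `v` along which the "norm" `∏_{j<p} f (v^j • q)` vanishes. -/
theorem prod_orbit_eq_one (hP : IsPGroup p P) (f : Ω → A) (𝒰 : Set P)
    (hgen : Subgroup.closure 𝒰 = ⊤)
    (hnorm : ∀ v ∈ 𝒰, ∀ q : Ω, ∏ j ∈ Finset.range p, f (v ^ j • q) = 1)
    (q₀ : Ω) (hq₀ : MulAction.stabilizer P q₀ ≠ ⊤) :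
    ∏ q ∈ Finset.univ.filter (fun q => q ∈ MulAction.orbit P q₀), f q = 1 := by
  classical
  obtain ⟨U₁, hle, hn, hidx⟩ := exists_index_prime_of_ne_top hP hq₀
  haveI := hn
  obtain ⟨v, hv𝒰, hvU⟩ : ∃ v ∈ 𝒰, v ∉ U₁ := by
    by_contra h
    push Not at h
    have h1 : Subgroup.closure 𝒰 ≤ U₁ := (Subgroup.closure_le _).mpr h
    rw [hgen, top_le_iff] at h1
    rw [h1, Subgroup.index_top] at hidx
    exact hp.out.one_lt.ne hidx
  have hcard : Nat.card (P ⧸ U₁) = p := by rw [← Subgroup.index_eq_card]; exact hidx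
  have hπv : (QuotientGroup.mk v : P ⧸ U₁) ≠ 1 := fun h => hvU ((QuotientGroup.eq_one_iff v).mp h)
  have hord : orderOf (QuotientGroup.mk v : P ⧸ U₁) = p := by
    apply orderOf_eq_prime
    · rw [← hcard]; exact pow_card_eq_one'
    · exact hπv
  set ω₀ : Finset Ω := Finset.univ.filter (fun q => q ∈ MulAction.orbit ↥U₁ q₀) with hω₀
  have hmem₀ : ∀ q, q ∈ ω₀ ↔ ∃ x ∈ U₁, x • q₀ = q := by
    intro q
    rw [hω₀, Finset.mem_filter]
    constructor
    · rintro ⟨-, ⟨x, hx⟩⟩
      exact ⟨x, x.2, hx⟩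
    · rintro ⟨x, hx, hxq⟩
      exact ⟨Finset.mem_univ _, ⟨⟨x, hx⟩, hxq⟩⟩
  have himg : Finset.univ.filter (fun q => q ∈ MulAction.orbit P q₀) =
      (Finset.range p ×ˢ ω₀).image (fun x => v ^ x.1 • x.2) := by
    ext q
    simp only [Finset.mem_filter, Finset.mem_univ, true_and, Finset.mem_image, Finset.mem_product,
      Finset.mem_range, Prod.exists]
    constructor
    · rintro ⟨x, rfl⟩
      have h1 : (QuotientGroup.mk x : P ⧸ U₁) ∈ Subgroup.zpowers (QuotientGroup.mk v : P ⧸ U₁) :=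
        mem_zpowers_of_prime_card hcard hπv
      rw [← mem_powers_iff_mem_zpowers] at h1
      obtain ⟨n, hn⟩ := h1
      have hn' : (QuotientGroup.mk v : P ⧸ U₁) ^ (n % p) = QuotientGroup.mk x := by
        rw [← hn, ← hord, pow_mod_orderOf]
      have h2 : (v ^ (n % p))⁻¹ * x ∈ U₁ := by
        rw [← QuotientGroup.eq, QuotientGroup.mk_pow]
        exact hn'
      refine ⟨n % p, ((v ^ (n % p))⁻¹ * x) • q₀, ⟨Nat.mod_lt _ hp.out.pos, ?_⟩, ?_⟩
      · exact (hmem₀ _).mpr ⟨_, h2, rfl⟩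
      · rw [smul_smul, mul_inv_cancel_left]
    · rintro ⟨j, q', ⟨-, hq'⟩, rfl⟩
      obtain ⟨x, -, rfl⟩ := (hmem₀ _).mp hq'
      exact ⟨v ^ j * x, mul_smul _ _ _⟩
  have hinj : Set.InjOn (fun x : ℕ × Ω => v ^ x.1 • x.2) (Finset.range p ×ˢ ω₀ : Finset (ℕ × Ω)) := by
    rintro ⟨j, q⟩ hjq ⟨j', q'⟩ hjq' heq
    simp only [Finset.coe_product, Set.mem_prod, Finset.mem_coe, Finset.mem_range] at hjq hjq'
    obtain ⟨x, hx, rfl⟩ := (hmem₀ _).mp hjq.2
    obtain ⟨x', hx', rfl⟩ := (hmem₀ _).mp hjq'.2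
    have heq : v ^ j • x • q₀ = v ^ j' • x' • q₀ := heq
    have h1 : (x'⁻¹ * (v ^ j')⁻¹ * v ^ j * x) • q₀ = q₀ := by
      rw [mul_smul, mul_smul, heq, mul_smul, inv_smul_smul, inv_smul_smul]
    have h2 : x'⁻¹ * (v ^ j')⁻¹ * v ^ j * x ∈ U₁ := hle h1
    have h3 : (v ^ j')⁻¹ * v ^ j ∈ U₁ := by
      have := U₁.mul_mem (U₁.mul_mem hx' h2) (U₁.inv_mem hx)
      have e : x' * (x'⁻¹ * (v ^ j')⁻¹ * v ^ j * x) * x⁻¹ = (v ^ j')⁻¹ * v ^ j := by group
      rwa [e] at this
    have h4 : (QuotientGroup.mk v : P ⧸ U₁) ^ j' = (QuotientGroup.mk v : P ⧸ U₁) ^ j := by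
      rw [← QuotientGroup.mk_pow, ← QuotientGroup.mk_pow]
      exact QuotientGroup.eq.mpr h3
    have h5 := pow_inj_mod.mp h4
    rw [hord, Nat.mod_eq_of_lt hjq'.1, Nat.mod_eq_of_lt hjq.1] at h5
    subst h5
    have h6 : x • q₀ = x' • q₀ := by
      have := congrArg (fun z => (v ^ j')⁻¹ • z) heq
      simpa using this
    simp [h6]
  rw [himg, Finset.prod_image hinj, Finset.prod_product_right]
  apply Finset.prod_eq_one
  intro q _
  exact hnorm v hv𝒰 q

open Classical in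
/-- A product over a union of orbits, each of which has trivial product, is trivial. -/
theorem prod_eq_one_of_orbits (f : Ω → A) :
    ∀ (n : ℕ) (s : Finset Ω), s.card = n → (∀ q ∈ s, ∀ x : P, x • q ∈ s) →
      (∀ q ∈ s, ∏ q' ∈ Finset.univ.filter (fun q' => q' ∈ MulAction.orbit P q), f q' = 1) →
      ∏ q ∈ s, f q = 1 := by
  intro n
  induction n using Nat.strong_induction_on with
  | _ n ih =>
    intro s hcard hs h1
    by_cases hse : s = ∅
    · rw [hse, Finset.prod_empty]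
    obtain ⟨q, hq⟩ := Finset.nonempty_iff_ne_empty.mpr hse
    set o : Finset Ω := Finset.univ.filter (fun q' => q' ∈ MulAction.orbit P q) with ho
    have hos : o ⊆ s := by
      intro q' hq'
      rw [ho, Finset.mem_filter] at hq'
      obtain ⟨x, rfl⟩ := hq'.2
      exact hs q hq x
    have hqo : q ∈ o := by
      rw [ho, Finset.mem_filter]
      exact ⟨Finset.mem_univ _, MulAction.mem_orbit_self q⟩
    rw [← Finset.prod_sdiff hos, h1 q hq, mul_one]
    have hlt : (s \ o).card < n := by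
      rw [← hcard]
      apply Finset.card_lt_card
      refine ⟨Finset.sdiff_subset, fun h => ?_⟩
      have := h hq
      rw [Finset.mem_sdiff] at this
      exact this.2 hqo
    apply ih _ hlt (s \ o) rfl
    · intro q' hq' x
      rw [Finset.mem_sdiff] at hq' ⊢
      refine ⟨hs q' hq'.1 x, fun h => hq'.2 ?_⟩
      rw [ho, Finset.mem_filter] at h ⊢
      refine ⟨Finset.mem_univ _, ?_⟩
      obtain ⟨y, hy⟩ := h.2
      refine ⟨x⁻¹ * y, ?_⟩
      show (x⁻¹ * y) • q = q'
      rw [mul_smul]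
      have hy' : y • q = x • q' := hy
      rw [hy', inv_smul_smul]
    · intro q' hq'
      exact h1 q' (Finset.mem_sdiff.mp hq').1

end orbit

section chief

variable {X : Type*} [Group X] [Finite X]

/-- Below every nontrivial normal subgroup there is a chief factor. -/
theorem exists_isChiefFactor_below {R : Subgroup X} (hRn : R.Normal) (hR : R ≠ ⊥) :
    ∃ R₀ : Subgroup X, Cfsg.IsChiefFactor R R₀ := by
  obtain ⟨R₀, -, hmax⟩ := Finite.exists_le_maximal (p := fun N : Subgroup X => N.Normal ∧ N < R)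
    (a := ⊥) ⟨inferInstance, bot_lt_iff_ne_bot.mpr hR⟩
  refine ⟨R₀, hmax.prop.2, hRn, hmax.prop.1, ?_⟩
  intro N hN h1 h2
  by_cases hNR : N = R
  · exact Or.inr hNR
  · left
    exact le_antisymm (hmax.le_of_ge ⟨hN, lt_of_le_of_ne h2 hNR⟩ h1) h1

/-- A chief factor `R / R₀` with `R` a `p`-group has exponent `p`. -/
theorem pow_mem_of_isChiefFactor [hp : Fact p.Prime] {R R₀ : Subgroup X}
    (hch : Cfsg.IsChiefFactor R R₀) (hRp : IsPGroup p R) : ∀ r ∈ R, r ^ p ∈ R₀ := by
  obtain ⟨hlt, hRn, hR₀n, hmin⟩ := hch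
  haveI := hRn
  haveI := hR₀n
  set Φ : Subgroup X := (frattini ↥R).map R.subtype with hΦ
  have hΦR : Φ ≤ R := Subgroup.map_subtype_le _
  haveI hΦn : Φ.Normal := by
    constructor
    rintro _ ⟨x, hx, rfl⟩ g
    refine ⟨MulAut.conjNormal g x, ?_, ?_⟩
    · have hchar : (frattini ↥R).Characteristic := inferInstance
      have := (Subgroup.characteristic_iff_map_le.mp hchar) (MulAut.conjNormal g)
      exact this ⟨x, hx, rfl⟩
    · simp [MulAut.conjNormal_apply]
  have hN : (R₀ ⊔ Φ).Normal := Subgroup.sup_normal R₀ Φ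
  rcases hmin (R₀ ⊔ Φ) hN le_sup_left (sup_le hlt.le hΦR) with h | h
  · intro r hr
    have h1 : (⟨r, hr⟩ : ↥R) ^ p ∈ frattini ↥R :=
      Cfsg.Agent.Helper4.pgroup_pow_mem_frattini hRp _
    have h2 : r ^ p ∈ Φ := ⟨_, h1, by simp⟩
    rw [← h]
    exact le_sup_right (a := R₀) h2
  · exfalso
    have h1 : (R₀.subgroupOf R) ⊔ frattini ↥R = ⊤ := by
      apply Subgroup.map_injective R.subtype_injective
      rw [Subgroup.map_sup, Subgroup.subgroupOf_map_subtype, ← hΦ, inf_of_le_left hlt.le, h,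
        ← MonoidHom.range_eq_map, Subgroup.range_subtype]
    have h2 := frattini_nongenerating h1
    have h3 : R ≤ R₀ := Subgroup.subgroupOf_eq_top.mp h2
    exact (lt_of_lt_of_le hlt h3).false

end chief

end Cfsg.Agent.Helper1.FT
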