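import Mathlib
import Cfsg.Prelude.Def_LocalEven
import Cfsg.Agent.Helper1.FTF

/-!
# Chief factors inside `p`-subgroups

A chief factor `U / V` with `U` a `p`-group is elementary abelian and is centralized by every normal
`p`-subgroup containing `U`; more generally a `p`-subgroup `P ≥ U` cannot act "surjectively".
-/

set_option autoImplicit false

namespace Cfsg.Agent.Helper1.QA

open scoped commutatorElement

variable {X : Type*} [Group X]

theorem exists_lcs_eq_bot [Finite X] {p : ℕ} [Fact p.Prime] (P : Subgroup X) (hP : IsPGroup p P) :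
    ∃ n, P.lowerCentralSeries n = ⊥ := by
  haveI : Group.IsNilpotent ↥P := hP.isNilpotent
  exact (Subgroup.isNilpotent_iff_lowerCentralSeries P).1 inferInstance

/-- If `U ≤ P` with `P` a `p`-group and `U ≤ V ⊔ [U, P]` with `V ≤ U` normal, then `U ≤ V`. -/
theorem le_of_le_sup_commutator [Finite X] {p : ℕ} [Fact p.Prime] (U V P : Subgroup X)
    [hV : V.Normal] (hP : IsPGroup p P) (hUP : U ≤ P) (h : U ≤ V ⊔ ⁅U, P⁆) : U ≤ V := by
  set π : X →* X ⧸ V := QuotientGroup.mk' V with hπ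
  have hker : π.ker = V := QuotientGroup.ker_mk' V
  have hPm : IsPGroup p (P.map π) := hP.map π
  have h1 : U.map π ≤ ⁅U.map π, P.map π⁆ := by
    have := Subgroup.map_mono (f := π) h
    rw [Subgroup.map_sup, Subgroup.map_commutator] at this
    have hVb : V.map π = ⊥ := (Subgroup.map_eq_bot_iff _).2 hker.ge
    rwa [hVb, bot_sup_eq] at this
  have h2 : ∀ i, U.map π ≤ (P.map π).lowerCentralSeries i := by
    intro i
    induction i with
    | zero => exact Subgroup.map_mono hUP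
    | succ i ih =>
      rw [Subgroup.lowerCentralSeries_succ]
      exact h1.trans (Subgroup.commutator_mono ih le_rfl)
  obtain ⟨n, hn⟩ := exists_lcs_eq_bot (P.map π) hPm
  have h3 : U.map π = ⊥ := le_bot_iff.mp (hn ▸ h2 n)
  exact ((Subgroup.map_eq_bot_iff _).1 h3).trans hker.le

variable [Finite X] {p : ℕ} [hp : Fact p.Prime]

/-- A chief factor `U / V` with `U` a `p`-group is abelian. -/
theorem comm_mem_of_isChiefFactor {U V : Subgroup X} (hch : Cfsg.IsChiefFactor U V)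
    (hUp : IsPGroup p U) : ∀ u ∈ U, ∀ u' ∈ U, ⁅u, u'⁆ ∈ V := by
  obtain ⟨hlt, hUn, hVn, hmin⟩ := hch
  haveI := hUn
  haveI := hVn
  have hN : (V ⊔ ⁅U, U⁆).Normal := Subgroup.sup_normal V ⁅U, U⁆
  rcases hmin (V ⊔ ⁅U, U⁆) hN le_sup_left (sup_le hlt.le (Subgroup.commutator_le_right U U)) with h | h
  · intro u hu u' hu'
    rw [← h]
    exact le_sup_right (a := V) (Subgroup.commutator_mem_commutator hu hu')
  · exfalso
    have h1 : U ≤ V := le_of_le_sup_commutator U V U hUp le_rfl h.ge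
    exact (lt_of_lt_of_le hlt h1).false

/-- A normal `p`-subgroup containing `U` centralizes the chief factor `U / V`. -/
theorem comm_mem_of_isChiefFactor_of_le {U V B : Subgroup X} (hch : Cfsg.IsChiefFactor U V)
    [hB : B.Normal] (hBp : IsPGroup p B) (hUB : U ≤ B) : ∀ b ∈ B, ∀ u ∈ U, ⁅b, u⁆ ∈ V := by
  obtain ⟨hlt, hUn, hVn, hmin⟩ := hch
  haveI := hUn
  haveI := hVn
  have hN : (V ⊔ ⁅U, B⁆).Normal := Subgroup.sup_normal V ⁅U, B⁆
  rcases hmin (V ⊔ ⁅U, B⁆) hN le_sup_left (sup_le hlt.le (Subgroup.commutator_le_left U B)) with h | h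
  · intro b hb u hu
    have h1 : ⁅u, b⁆ ∈ V := by
      rw [← h]
      exact le_sup_right (a := V) (Subgroup.commutator_mem_commutator hu hb)
    have h2 : ⁅b, u⁆ = ⁅u, b⁆⁻¹ := (commutatorElement_inv u b).symm
    rw [h2]
    exact V.inv_mem h1
  · exfalso
    have h1 : U ≤ V := le_of_le_sup_commutator U V B hBp hUB h.ge
    exact (lt_of_lt_of_le hlt h1).false

/-- If the group is generated by a `p`-subgroup `P ≥ U` and a normal subgroup centralizing the
chief factor `U / V`, then the whole group centralizes `U / V`. -/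
theorem comm_mem_of_isChiefFactor_of_sup_eq_top {U V P C : Subgroup X}
    (hch : Cfsg.IsChiefFactor U V) (hPp : IsPGroup p P) (hUP : U ≤ P) [hC : C.Normal]
    (hCc : ∀ c ∈ C, ∀ u ∈ U, ⁅c, u⁆ ∈ V) (htop : P ⊔ C = ⊤) : ∀ x : X, ∀ u ∈ U, ⁅x, u⁆ ∈ V := by
  obtain ⟨hlt, hUn, hVn, hmin⟩ := hch
  haveI := hUn
  haveI := hVn
  have hN : (V ⊔ ⁅U, (⊤ : Subgroup X)⁆).Normal := Subgroup.sup_normal V ⁅U, ⊤⁆
  have hle : ⁅U, (⊤ : Subgroup X)⁆ ≤ V ⊔ ⁅U, P⁆ := by
    rw [Subgroup.commutator_le]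
    intro u hu x _
    have hx : x ∈ P ⊔ C := htop ▸ Subgroup.mem_top x
    rw [← SetLike.mem_coe, Subgroup.mul_normal] at hx
    obtain ⟨t, ht, c, hc, rfl⟩ := hx
    have e : ⁅u, t * c⁆ = ⁅u, t⁆ * (t * ⁅u, c⁆ * t⁻¹) := by
      simp only [commutatorElement_def]; group
    rw [e]
    have h1 : ⁅u, c⁆ ∈ V := by
      have h2 : ⁅u, c⁆ = ⁅c, u⁆⁻¹ := (commutatorElement_inv c u).symm
      rw [h2]; exact V.inv_mem (hCc c hc u hu)
    exact Subgroup.mul_mem _ (le_sup_right (a := V) (Subgroup.commutator_mem_commutator hu ht))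
      (le_sup_left (b := ⁅U, P⁆) (hVn.conj_mem _ h1 t))
  rcases hmin (V ⊔ ⁅U, (⊤ : Subgroup X)⁆) hN le_sup_left
    (sup_le hlt.le (Subgroup.commutator_le_left U ⊤)) with h | h
  · intro x u hu
    have h1 : ⁅u, x⁆ ∈ V := by
      rw [← h]
      exact le_sup_right (a := V) (Subgroup.commutator_mem_commutator hu (Subgroup.mem_top x))
    have h2 : ⁅x, u⁆ = ⁅u, x⁆⁻¹ := (commutatorElement_inv u x).symm
    rw [h2]
    exact V.inv_mem h1
  · exfalso
    have h0 : U ≤ V ⊔ ⁅U, P⁆ := h.ge.trans (sup_le le_sup_left hle)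
    have h1 : U ≤ V := le_of_le_sup_commutator U V P hPp hUP h0
    exact (lt_of_lt_of_le hlt h1).false

end Cfsg.Agent.Helper1.QA
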