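import Mathlib
import Cfsg.Agent.Lead.GenPair

/-!
# A maximal Sylow `p`-subgroup forces an abelian `p'`-layer

If `B₀ ≤ L` are normal subgroups of `X` with `B₀` a `p`-group, `|L : B₀|` prime to `p`, `|X : L|` a
power of `p`, and a Sylow `p`-subgroup of `X` is a maximal subgroup, then `L / B₀` is abelian.
-/

set_option autoImplicit false

namespace Cfsg.Agent.Helper1.QA

open scoped commutatorElement

variable {X : Type*} [Group X] [Finite X] {p : ℕ} [hp : Fact p.Prime]

/-- Invariant subgroups of the `p'`-layer under a maximal Sylow `p`-subgroup are trivial or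
everything. -/
theorem invariant_eq_bot_or_eq (B₀ L : Subgroup X) [hB₀ : B₀.Normal]
    (hB₀L : B₀ ≤ L) (hcop : (B₀.relIndex L).Coprime p)
    (T : Sylow p X) (hT : IsCoatom (T : Subgroup X))
    (R : Subgroup X) (hB₀R : B₀ ≤ R) (hRL : R ≤ L)
    (hTR : (T : Subgroup X) ≤ Subgroup.normalizer (R : Set X)) : R = B₀ ∨ R = L := by
  have hmul := Subgroup.relIndex_mul_relIndex B₀ R L hB₀R hRL
  have hTle : (T : Subgroup X) ≤ (T : Subgroup X) ⊔ R := le_sup_left
  rcases eq_or_lt_of_le hTle with h | h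
  · -- `R ≤ T`
    left
    have hRT : R ≤ (T : Subgroup X) := by rw [h]; exact le_sup_right
    have hRp : IsPGroup p R := T.2.to_le hRT
    obtain ⟨k, hk⟩ := IsPGroup.iff_card.1 hRp
    have h1 : B₀.relIndex R ∣ p ^ k := hk ▸ Subgroup.relIndex_dvd_card B₀ R
    have h2 : B₀.relIndex R ∣ B₀.relIndex L := Dvd.intro _ hmul
    have h3 : (B₀.relIndex R).Coprime (p ^ k) :=
      Nat.Coprime.pow_right k (Nat.Coprime.coprime_dvd_left h2 hcop)
    have h4 : B₀.relIndex R = 1 := Nat.Coprime.eq_one_of_dvd h3 h1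
    exact le_antisymm (Subgroup.relIndex_eq_one.1 h4) hB₀R
  · right
    have htop : (T : Subgroup X) ⊔ R = ⊤ := hT.2 _ h
    have hRn : R.Normal := by
      rw [← Subgroup.normalizer_eq_top_iff]
      exact top_le_iff.mp (htop ▸ sup_le hTR Subgroup.le_normalizer)
    have h1 : R.index = R.relIndex (T : Subgroup X) := by
      rw [← Subgroup.relIndex_top_right, ← htop, Subgroup.relIndex_sup_right]
    obtain ⟨k, hk⟩ := IsPGroup.iff_card.1 T.2
    have h2 : R.index ∣ p ^ k := by
      rw [h1, ← hk]; exact Subgroup.relIndex_dvd_card R (T : Subgroup X)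
    have h3 : R.relIndex L ∣ p ^ k := (Subgroup.relIndex_dvd_index_of_normal R L).trans h2
    have h4 : R.relIndex L ∣ B₀.relIndex L := Dvd.intro_left _ hmul
    have h5 : (R.relIndex L).Coprime (p ^ k) :=
      Nat.Coprime.pow_right k (Nat.Coprime.coprime_dvd_left h4 hcop)
    have h6 : R.relIndex L = 1 := Nat.Coprime.eq_one_of_dvd h5 h3
    exact le_antisymm hRL (Subgroup.relIndex_eq_one.1 h6)

/-- If a Sylow `p`-subgroup is a maximal subgroup, the `p'`-layer `L / B₀` is abelian. -/
theorem commutator_le_of_coatom_sylow (B₀ L : Subgroup X) [hB₀ : B₀.Normal] [hL : L.Normal]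
    (hB₀L : B₀ ≤ L) (hcop : (B₀.relIndex L).Coprime p)
    (T : Sylow p X) (hT : IsCoatom (T : Subgroup X)) : ⁅L, L⁆ ≤ B₀ := by
  classical
  set π : X →* X ⧸ B₀ := QuotientGroup.mk' B₀ with hπ
  have hπs : Function.Surjective π := QuotientGroup.mk'_surjective B₀
  have hker : π.ker = B₀ := QuotientGroup.ker_mk' B₀
  set K : Subgroup (X ⧸ B₀) := L.map π with hK
  haveI hKn : K.Normal := hL.map π hπs
  set T' : Subgroup (X ⧸ B₀) := (T : Subgroup X).map π with hT'
  have hT'p : IsPGroup p T' := T.2.map π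
  have hcard : Nat.card K = B₀.relIndex L := by
    rw [← Subgroup.relIndex_bot_left, hK, ← Subgroup.relIndex_comap, MonoidHom.comap_bot, hker]
  have hcomapK : K.comap π = L := by
    rw [hK, Subgroup.comap_map_eq, hker, sup_eq_left.2 hB₀L]
  have hB₀map : B₀.map π = ⊥ := (Subgroup.map_eq_bot_iff _).2 hker.ge
  have key : ∀ R : Subgroup (X ⧸ B₀), R ≤ K → T' ≤ Subgroup.normalizer (R : Set (X ⧸ B₀)) →
      R = ⊥ ∨ R = K := by
    intro R hRK hTR
    have h1 : B₀ ≤ R.comap π := hker.ge.trans (Subgroup.ker_le_comap π R)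
    have h2 : R.comap π ≤ L := hcomapK ▸ Subgroup.comap_mono hRK
    have h3 : (T : Subgroup X) ≤ Subgroup.normalizer ((R.comap π : Subgroup X) : Set X) := by
      intro t ht
      rw [Subgroup.mem_normalizer_iff]
      intro x
      have := (Subgroup.mem_normalizer_iff.1 (hTR (Subgroup.mem_map_of_mem π ht))) (π x)
      rw [Subgroup.mem_comap, Subgroup.mem_comap, map_mul, map_mul, map_inv]
      exact this
    have h4 : (R.comap π).map π = R := Subgroup.map_comap_eq_self_of_surjective hπs R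
    rcases invariant_eq_bot_or_eq B₀ L hB₀L hcop T hT (R.comap π) h1 h2 h3 with h | h
    · left; rw [← h4, h, hB₀map]
    · right; rw [← h4, h]
  by_cases hKbot : K = ⊥
  · have : L ≤ B₀ := ((Subgroup.map_eq_bot_iff _).1 hKbot).trans hker.le
    exact (Subgroup.commutator_le_left L L).trans this
  -- a prime divisor of `|K|`
  have hKcard : Nat.card K ≠ 1 := by
    intro h
    exact hKbot (Subgroup.card_eq_one.1 h)
  obtain ⟨q, hq, hqdvd⟩ := Nat.exists_prime_and_dvd hKcard
  haveI : Fact q.Prime := ⟨hq⟩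
  have hKcop : (Nat.card K).Coprime p := hcard ▸ hcop
  obtain ⟨Q, hQK, hTQ, hQq, hQcard⟩ :=
    Cfsg.Agent.Lead.GenPair.exists_invariant_sylow T' K hT'p hKcop q
  have hQne : Q ≠ ⊥ := by
    intro h
    rw [h, Subgroup.card_bot] at hQcard
    have hpos : 0 < (Nat.card K).factorization q :=
      hq.factorization_pos_of_dvd Nat.card_pos.ne' hqdvd
    have : 1 < q ^ (Nat.card K).factorization q := Nat.one_lt_pow hpos.ne' hq.one_lt
    omega
  have hQeq : Q = K := (key Q hQK hTQ).resolve_left hQne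
  -- `K` is a `q`-group, hence its commutator subgroup is proper
  have hKq : IsPGroup q K := hQeq ▸ hQq
  haveI : Group.IsNilpotent ↥K := hKq.isNilpotent
  haveI : Nontrivial ↥K := (Subgroup.nontrivial_iff_ne_bot K).2 hKbot
  have hlt : commutator ↥K < ⊤ := Group.IsSolvable.commutator_lt_top_of_nontrivial ↥K
  have hcomm : ⁅K, K⁆ ≠ K := by
    intro h
    have h1 : (commutator ↥K).map K.subtype = (⊤ : Subgroup ↥K).map K.subtype := by
      rw [Subgroup.map_subtype_commutator, h, ← MonoidHom.range_eq_map, Subgroup.range_subtype]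
    have h2 := Subgroup.map_injective K.subtype_injective h1
    exact hlt.ne h2
  have hcn : (⁅K, K⁆ : Subgroup (X ⧸ B₀)).Normal := Subgroup.commutator_normal K K
  have hbot : ⁅K, K⁆ = ⊥ :=
    (key ⁅K, K⁆ (Subgroup.commutator_le_left K K)
      (by rw [Subgroup.normalizer_eq_top_iff.2 hcn]; exact le_top)).resolve_right hcomm
  have : (⁅L, L⁆).map π = ⊥ := by rw [Subgroup.map_commutator]; exact hbot
  exact ((Subgroup.map_eq_bot_iff _).1 this).trans hker.le

end Cfsg.Agent.Helper1.QA
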