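import Mathlib
import Cfsg.Agent.Helper1.QAb
import Cfsg.Agent.Helper1.QAc
import Cfsg.Agent.Helper1.QAd
import Cfsg.Agent.Helper1.Cores
import Cfsg.Agent.Helper3.HHAbA

/-!
# Engel elements in groups with a maximal Sylow `p`-subgroup

Let `X / O_p(X)` have a normal `p`-complement and let a Sylow `p`-subgroup `T` of `X` be a maximal
subgroup.  If `g ∈ T ∖ O_p(X)` and `U / V` is a chief factor of `X` inside `O_p(X)` with
`[U, g; p - 1] ≤ V`, then `[U, g] ≤ V`.
-/

set_option autoImplicit false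

namespace Cfsg.Agent.Helper1.QA

open scoped commutatorElement

variable {X : Type*} [Group X] [Finite X] {p : ℕ} [hp : Fact p.Prime]

/-- The centralizer in `X` of the section `U / V`. -/
def centSec (U V : Subgroup X) [V.Normal] : Subgroup X :=
  (Subgroup.centralizer ((U.map (QuotientGroup.mk' V) : Subgroup (X ⧸ V)) : Set (X ⧸ V))).comap
    (QuotientGroup.mk' V)

omit [Finite X] in
theorem mem_centSec (U V : Subgroup X) [V.Normal] (x : X) :
    x ∈ centSec U V ↔ ∀ u ∈ U, ⁅x, u⁆ ∈ V := by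
  unfold centSec
  rw [Subgroup.mem_comap, Subgroup.mem_centralizer_iff]
  constructor
  · intro h u hu
    have h1 := h _ (Subgroup.mem_map_of_mem _ hu)
    rw [← QuotientGroup.eq_one_iff, commutatorElement_def]
    have h2 : ((x * u * x⁻¹ * u⁻¹ : X) : X ⧸ V) = (QuotientGroup.mk' V x) * (QuotientGroup.mk' V u) *
        (QuotientGroup.mk' V x)⁻¹ * (QuotientGroup.mk' V u)⁻¹ := rfl
    rw [h2, ← h1]
    group
  · rintro h _ ⟨u, hu, rfl⟩
    have h1 := h u hu
    rw [← QuotientGroup.eq_one_iff, commutatorElement_def] at h1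
    have h2 : ((x * u * x⁻¹ * u⁻¹ : X) : X ⧸ V) = (QuotientGroup.mk' V x) * (QuotientGroup.mk' V u) *
        (QuotientGroup.mk' V x)⁻¹ * (QuotientGroup.mk' V u)⁻¹ := rfl
    rw [h2] at h1
    calc QuotientGroup.mk' V u * QuotientGroup.mk' V x
        = ((QuotientGroup.mk' V x) * (QuotientGroup.mk' V u) *
            (QuotientGroup.mk' V x)⁻¹ * (QuotientGroup.mk' V u)⁻¹)⁻¹ *
            (QuotientGroup.mk' V x * QuotientGroup.mk' V u) := by group
      _ = QuotientGroup.mk' V x * QuotientGroup.mk' V u := by rw [h1, inv_one, one_mul]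

omit [Finite X] in
theorem centSec_normal (U V : Subgroup X) [hU : U.Normal] [V.Normal] : (centSec U V).Normal := by
  unfold centSec
  haveI : (U.map (QuotientGroup.mk' V)).Normal := hU.map _ (QuotientGroup.mk'_surjective V)
  exact Subgroup.Normal.comap inferInstance _

omit [Finite X] in
/-- A subgroup acting trivially on `D` modulo `D` normalizes `D`. -/
theorem le_normalizer_of_conj_comm_mem (K D : Subgroup X)
    (h : ∀ k ∈ K, ∀ x ∈ D, x⁻¹ * (k⁻¹ * x * k) ∈ D) : K ≤ Subgroup.normalizer (D : Set X) := by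
  intro k hk
  rw [Subgroup.mem_normalizer_iff]
  intro x
  constructor
  · intro hx
    have h1 := h k⁻¹ (K.inv_mem hk) x hx
    have := D.mul_mem hx h1
    have e : x * (x⁻¹ * (k⁻¹⁻¹ * x * k⁻¹)) = k * x * k⁻¹ := by group
    rwa [e] at this
  · intro hx
    have h1 := h k hk _ hx
    have := D.mul_mem hx h1
    have e : k * x * k⁻¹ * ((k * x * k⁻¹)⁻¹ * (k⁻¹ * (k * x * k⁻¹) * k)) = x := by group
    rwa [e] at this

omit [Finite X] in
theorem iterate_comm_mem_iterCommutator (U : Subgroup X) (g : X) :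
    ∀ (k : ℕ) (u : X), u ∈ U →
      (fun x => ⁅x, g⁆)^[k] u ∈ Cfsg.iterCommutator U (Subgroup.zpowers g) k := by
  intro k
  induction k with
  | zero => intro u hu; exact hu
  | succ k ih =>
    intro u hu
    rw [Function.iterate_succ_apply']
    exact Subgroup.commutator_mem_commutator (ih u hu) (Subgroup.mem_zpowers g)

theorem engel_trivial_of_coatom
    (hnc : Cfsg.HasNormalPComplement p (X ⧸ Cfsg.pCore p X))
    (T : Sylow p X) (hT : IsCoatom (T : Subgroup X))
    (g : X) (hgT : g ∈ (T : Subgroup X)) (hgB : g ∉ Cfsg.pCore p X)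
    (U V : Subgroup X) (hch : Cfsg.IsChiefFactor U V) (hUB : U ≤ Cfsg.pCore p X)
    (hE : Cfsg.iterCommutator U (Subgroup.zpowers g) (p - 1) ≤ V) :
    ⁅U, Subgroup.zpowers g⁆ ≤ V := by
  classical
  set B₀ : Subgroup X := Cfsg.pCore p X with hB₀
  have hB₀p : IsPGroup p B₀ := Cfsg.Agent.Helper1.pCore_isPGroup p
  have hB₀T : B₀ ≤ (T : Subgroup X) := Cfsg.Agent.Helper1.pCore_le_sylow T
  have hUn : U.Normal := hch.2.1
  have hVn : V.Normal := hch.2.2.1
  haveI := hUn
  haveI := hVn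
  have hUp : IsPGroup p U := hB₀p.to_le hUB
  set π : X →* X ⧸ B₀ := QuotientGroup.mk' B₀ with hπ
  have hπs : Function.Surjective π := QuotientGroup.mk'_surjective B₀
  have hker : π.ker = B₀ := QuotientGroup.ker_mk' B₀
  obtain ⟨P', K, hKn, hKc⟩ := hnc
  haveI := hKn
  set L : Subgroup X := K.comap π with hL
  haveI hLn : L.Normal := hKn.comap π
  have hB₀L : B₀ ≤ L := hker.ge.trans (Subgroup.ker_le_comap π K)
  have hLmap : L.map π = K := Subgroup.map_comap_eq_self_of_surjective hπs K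
  have hrel : B₀.relIndex L = Nat.card K := by
    rw [← Subgroup.relIndex_bot_left, ← hLmap, ← Subgroup.relIndex_comap, MonoidHom.comap_bot, hker]
  have hcop : (B₀.relIndex L).Coprime p := by
    rw [hrel, ← hKc.index_eq_card, Nat.coprime_comm, hp.out.coprime_iff_not_dvd]
    exact P'.not_dvd_index
  have hLab : ⁅L, L⁆ ≤ B₀ := commutator_le_of_coatom_sylow B₀ L hB₀L hcop T hT
  have hab := comm_mem_of_isChiefFactor hch hUp
  have hexp := Cfsg.Agent.Helper1.FT.pow_mem_of_isChiefFactor hch hUp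
  have hBU := comm_mem_of_isChiefFactor_of_le (B := B₀) hch hB₀p hUB
  have hF1 : ∀ a ∈ L, ∀ b ∈ L, ∀ u ∈ U, ⁅⁅a, b⁆, u⁆ ∈ V := fun a ha b hb u hu =>
    hBU _ (hLab (Subgroup.commutator_mem_commutator ha hb)) u hu
  have hLpow : ∀ a ∈ L, a ^ (B₀.relIndex L) ∈ B₀ := by
    intro a ha
    rw [hrel, ← hker, MonoidHom.mem_ker, map_pow]
    have h1 : (⟨π a, ha⟩ : K) ^ Nat.card K = 1 := pow_card_eq_one'
    have h2 := congrArg Subtype.val h1
    rw [SubmonoidClass.coe_pow] at h2
    exact h2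
  have hF2 : ∀ a ∈ L, ∀ u ∈ U, ⁅a ^ (B₀.relIndex L), u⁆ ∈ V := fun a ha u hu =>
    hBU _ (hLpow a ha) u hu
  have hgL : ∀ a ∈ L, g⁻¹ * a * g ∈ L := by
    intro a ha
    have := hLn.conj_mem a ha g⁻¹
    simpa using this
  have hE' : ∀ u ∈ U, (fun x => ⁅x, g⁆)^[p - 1] u ∈ V := fun u hu =>
    hE (iterate_comm_mem_iterCommutator U g (p - 1) u hu)
  have hres := comm_comm_mem_of_engel U V hab hexp L (B₀.relIndex L) hcop hF1 hF2 g hgL hE'
  -- the centralizer of the section
  set C : Subgroup X := centSec U V with hC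
  haveI hCn : C.Normal := centSec_normal U V
  have hCmem : ∀ x, x ∈ C ↔ ∀ u ∈ U, ⁅x, u⁆ ∈ V := mem_centSec U V
  have hgoal_of : g ∈ C → ⁅U, Subgroup.zpowers g⁆ ≤ V := by
    intro hgC
    rw [Subgroup.commutator_le]
    intro u hu z hz
    have hzC : z ∈ C := (Subgroup.zpowers_le.2 hgC) hz
    have h1 := (hCmem z).1 hzC u hu
    have h2 : ⁅u, z⁆ = ⁅z, u⁆⁻¹ := (commutatorElement_inv z u).symm
    rw [h2]; exact V.inv_mem h1
  by_contra hcontra
  have hgC : g ∉ C := fun h => hcontra (hgoal_of h)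
  have hTle : (T : Subgroup X) ≤ (T : Subgroup X) ⊔ C := le_sup_left
  rcases eq_or_lt_of_le hTle with h | h
  · -- `C ≤ T`, so `C ≤ O_p(X)`
    have hCT : C ≤ (T : Subgroup X) := by rw [h]; exact le_sup_right
    have hCB : C ≤ B₀ := Cfsg.Agent.Helper1.le_pCore hCn (T.2.to_le hCT)
    -- the subgroup `D`
    set E : Subgroup X := (Subgroup.centralizer ((K : Subgroup (X ⧸ B₀)) : Set (X ⧸ B₀))).comap π
      with hE_def
    haveI hEn : E.Normal := Subgroup.Normal.comap inferInstance π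
    have hEmem : ∀ x, x ∈ E ↔ ∀ a ∈ L, ⁅x, a⁆ ∈ B₀ := by
      intro x
      rw [hE_def, Subgroup.mem_comap, Subgroup.mem_centralizer_iff]
      constructor
      · intro h1 a ha
        have h2 := h1 (π a) ha
        rw [← hker, MonoidHom.mem_ker, commutatorElement_def, map_mul, map_mul, map_mul, map_inv,
          map_inv, ← h2]
        group
      · intro h1 k hk
        obtain ⟨a, ha, rfl⟩ : k ∈ L.map π := hLmap ▸ hk
        have h2 := h1 a ha
        rw [← hker, MonoidHom.mem_ker, commutatorElement_def, map_mul, map_mul, map_mul, map_inv,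
          map_inv] at h2
        calc π a * π x = (π x * π a * (π x)⁻¹ * (π a)⁻¹)⁻¹ * (π x * π a) := by group
          _ = π x * π a := by rw [h2, inv_one, one_mul]
    set D : Subgroup X := (T : Subgroup X) ⊓ E with hD
    have hgD : g ∈ D := by
      refine ⟨hgT, (hEmem g).2 fun a ha => hCB ((hCmem _).2 (hres a ha))⟩
    have hTD : (T : Subgroup X) ≤ Subgroup.normalizer (D : Set X) := by
      apply le_normalizer_of_conj_comm_mem
      intro t ht x hx
      refine D.mul_mem (D.inv_mem hx) ⟨?_, ?_⟩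
      · exact Subgroup.mul_mem _ (Subgroup.mul_mem _ (Subgroup.inv_mem _ ht) hx.1) ht
      · have := hEn.conj_mem x hx.2 t⁻¹
        simpa using this
    have hLD : L ≤ Subgroup.normalizer (D : Set X) := by
      apply le_normalizer_of_conj_comm_mem
      intro a ha x hx
      have h1 : ⁅x⁻¹, a⁻¹⁆ ∈ B₀ := (hEmem _).1 (E.inv_mem hx.2) _ (L.inv_mem ha)
      have e : x⁻¹ * (a⁻¹ * x * a) = ⁅x⁻¹, a⁻¹⁆ := by
        rw [commutatorElement_def]; group
      rw [e]
      exact ⟨hB₀T h1, (hEmem _).2 fun b hb => by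
        have hn : ⁅x⁻¹, a⁻¹⁆ ∈ E := by
          rw [← e]
          refine E.mul_mem (E.inv_mem hx.2) ?_
          have := hEn.conj_mem x hx.2 a⁻¹
          simpa using this
        exact (hEmem _).1 hn b hb⟩
    have hTL : (T : Subgroup X) ⊔ L = ⊤ := by
      rcases eq_or_lt_of_le (le_sup_left : (T : Subgroup X) ≤ (T : Subgroup X) ⊔ L) with h' | h'
      · exfalso
        have hLT : L ≤ (T : Subgroup X) := by rw [h']; exact le_sup_right
        have hLB : L ≤ B₀ := Cfsg.Agent.Helper1.le_pCore hLn (T.2.to_le hLT)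
        have hKbot : K = ⊥ := by
          rw [← hLmap]
          exact (Subgroup.map_eq_bot_iff _).2 (hLB.trans hker.ge)
        have hP'top : (P' : Subgroup (X ⧸ B₀)) = ⊤ := by
          rw [hKbot] at hKc
          exact Subgroup.isComplement'_bot_left.1 hKc
        have hXp : IsPGroup p (⊤ : Subgroup (X ⧸ B₀)) := by
          have := P'.2
          rwa [hP'top] at this
        have h1 : (⊤ : Subgroup (X ⧸ B₀)) ≤ Cfsg.pCore p (X ⧸ B₀) :=
          Cfsg.Agent.Helper1.le_pCore inferInstance hXp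
        have h2 : Cfsg.pCore p (X ⧸ B₀) = ⊥ := Cfsg.Agent.Helper3.HHAb.pCore_quotient_pCore p
        rw [h2] at h1
        have h3 : π g = 1 := by
          have : π g ∈ (⊥ : Subgroup (X ⧸ B₀)) := h1 (Subgroup.mem_top _)
          exact Subgroup.mem_bot.1 this
        exact hgB (hker ▸ (MonoidHom.mem_ker.2 h3))
      · exact hT.2 _ h'
    have hDn : D.Normal := by
      rw [← Subgroup.normalizer_eq_top_iff]
      exact top_le_iff.mp (hTL ▸ sup_le hTD hLD)
    have hDB : D ≤ B₀ := Cfsg.Agent.Helper1.le_pCore hDn (T.2.to_le inf_le_left)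
    exact hgB (hDB hgD)
  · have htop : (T : Subgroup X) ⊔ C = ⊤ := hT.2 _ h
    have hall := comm_mem_of_isChiefFactor_of_sup_eq_top hch T.2 (hUB.trans hB₀T)
      (fun c hc => (hCmem c).1 hc) htop
    exact hgC ((hCmem g).2 (hall g))

end Cfsg.Agent.Helper1.QA
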