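import Mathlib
import Cfsg.Prelude.Def_PLocal
import Cfsg.Prelude.Def_LocalEven
import Cfsg.Agent.Helper1.Basic
import Cfsg.Agent.Helper1.QAe
import Cfsg.Agent.Helper1.CritChiefB

set_option autoImplicit false

/-!
The main induction for the critical-subgroup chief factor lemma.
-/

namespace Cfsg.Agent.Helper1

namespace CritChief

open scoped commutatorElement
open Cfsg (iterCommutator IsChiefFactor)
open QA

variable {G : Type*} [Group G]

theorem commutator_le_of_le_centSec {M N₁ T : Subgroup G} [N₁.Normal] (h : T ≤ centSec M N₁) :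
    ⁅M, T⁆ ≤ N₁ := by
  rw [Subgroup.commutator_le]
  intro u hu t ht
  have h1 := (mem_centSec M N₁ t).1 (h ht) u hu
  have h2 : ⁅u, t⁆ = ⁅t, u⁆⁻¹ := (commutatorElement_inv t u).symm
  rw [h2]
  exact N₁.inv_mem h1

theorem le_centSec_of_commutator_le {M N₁ T : Subgroup G} [N₁.Normal] (h : ⁅M, T⁆ ≤ N₁) :
    T ≤ centSec M N₁ := by
  intro t ht
  rw [mem_centSec]
  intro u hu
  have h1 : ⁅u, t⁆ ∈ N₁ := h (Subgroup.commutator_mem_commutator hu ht)
  have h2 : ⁅t, u⁆ = ⁅u, t⁆⁻¹ := (commutatorElement_inv u t).symm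
  rw [h2]
  exact N₁.inv_mem h1

variable [Finite G]

/-- The general statement, by induction on the lengths of `M / M₁` and `N / N₁`. -/
theorem GS (A Mtop Ntop : Subgroup G) (i₀ j₀ : ℕ) (hi₀ : 1 ≤ i₀)
    (hNtopc : ∀ x ∈ Ntop, ∀ y ∈ Ntop, x * y = y * x) (hNM : ⁅Ntop, Mtop⁆ = ⊥)
    (hMb : ∀ U V : Subgroup G, IsChiefFactor U V → U ≤ Mtop → iterCommutator U A i₀ ≤ V)
    (hNb : ∀ U V : Subgroup G, IsChiefFactor U V → U ≤ Ntop → iterCommutator U A j₀ ≤ V) :
    ∀ (k : ℕ) (M M₁ N N₁ T : Subgroup G) (_ : M.Normal) (_ : M₁.Normal) (_ : N.Normal)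
      [N₁.Normal] (_ : T.Normal),
      M₁ ≤ M → M ≤ Mtop → N₁ ≤ N → N ≤ Ntop → ⁅M, T⁆ ≤ N → ⁅M₁, T⁆ ≤ N₁ → ⁅N, T⁆ ≤ N₁ →
      (Nat.card M - Nat.card M₁) + (Nat.card N - Nat.card N₁) = k →
      ∀ U V : Subgroup G, IsChiefFactor U V → T ⊓ centSec M N₁ ≤ V → U ≤ T →
        iterCommutator U A (i₀ + j₀ - 1) ≤ V := by
  intro k
  induction k using Nat.strong_induction_on with
  | _ k ih =>
  intro M M₁ N N₁ T hMn hM₁n hNn hN₁n hTn hM₁M hMtop hN₁N hNtop hMT hM₁T hNT hk U V hch hT₁V hUT
  haveI := hMn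
  haveI := hM₁n
  haveI := hNn
  haveI := hTn
  have hlt := hch.1
  have htriv : ⁅M, T⁆ ≤ N₁ → False := by
    intro h
    have h1 : T ≤ centSec M N₁ := le_centSec_of_commutator_le h
    have h2 : U ≤ V := hUT.trans ((le_inf le_rfl h1).trans hT₁V)
    exact hlt.not_ge h2
  have hA : ∀ X : Subgroup G, X.Normal → A ≤ Subgroup.normalizer (X : Set G) := by
    intro X hX
    haveI := hX
    rw [Subgroup.normalizer_eq_top]
    exact le_top
  by_cases hchM : IsChiefFactor M M₁
  · by_cases hchN : IsChiefFactor N N₁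
    · -- both chief: the key bound
      have hkb := key_bound M M₁ N N₁ T A i₀ j₀ hi₀ (hA M hMn) (hA N hNn) (hA N₁ hN₁n)
        (hA T hTn) hN₁N hMT hM₁T hNT
        (by
          have : ⁅N, M⁆ ≤ ⁅Ntop, Mtop⁆ := Subgroup.commutator_mono hNtop hMtop
          rw [hNM] at this
          exact this.trans bot_le)
        (fun x hx y hy => hNtopc x (hNtop hx) y (hNtop hy))
        (hMb M M₁ hchM hMtop) (hNb N N₁ hchN hNtop)
      have h1 : iterCommutator T A (i₀ + j₀ - 1) ≤ T ⊓ centSec M N₁ :=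
        le_inf (iterCommutator_le T A (hA T hTn) _) (le_centSec_of_commutator_le hkb)
      exact ((iterCommutator_mono A hUT _).trans h1).trans hT₁V
    · rcases not_chief_cases hNn hN₁n hN₁N hchN with h | ⟨N₂, hN₂n, hN₁N₂, hN₂N⟩
      · exact (htriv (by rw [h]; exact hMT)).elim
      · haveI := hN₂n
        haveI hcn : (centSec M N₂).Normal := centSec_normal M N₂
        have c1 := card_lt_card_of_lt hN₁N₂
        have c2 := card_lt_card_of_lt hN₂N
        rcases chief_dichotomy (N := T ⊓ centSec M N₂) hch with hd | hd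
        · have hch' := chief_inf hch hd
          apply bound_of_inf hch hd
          refine ih _ ?_ M M₁ N₂ N₁ (T ⊓ centSec M N₂) hMn hM₁n hN₂n inferInstance hM₁M hMtop
            hN₁N₂.le (hN₂N.le.trans hNtop) ?_ ?_ ?_ rfl _ _ hch' ?_ inf_le_right
          · omega
          · exact commutator_le_of_le_centSec inf_le_right
          · exact (Subgroup.commutator_mono le_rfl inf_le_left).trans hM₁T
          · exact (Subgroup.commutator_mono hN₂N.le inf_le_left).trans hNT
          · exact le_inf ((inf_le_inf_right _ inf_le_left).trans hT₁V) inf_le_left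
        · have hch' := chief_sup hch hd
          apply bound_of_sup hch hd
          refine @ih _ ?_ M M₁ N N₂ T hMn hM₁n hNn hN₂n hTn hM₁M hMtop hN₂N.le hNtop hMT
            (hM₁T.trans hN₁N₂.le) (hNT.trans hN₁N₂.le) rfl _ _ hch' le_sup_right
            (sup_le hUT inf_le_left)
          omega
  · rcases not_chief_cases hMn hM₁n hM₁M hchM with h | ⟨M₂, hM₂n, hM₁M₂, hM₂M⟩
    · exact (htriv (by rw [← h]; exact hM₁T)).elim
    · haveI := hM₂n
      haveI hcn : (centSec M₂ N₁).Normal := centSec_normal M₂ N₁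
      have c1 := card_lt_card_of_lt hM₁M₂
      have c2 := card_lt_card_of_lt hM₂M
      rcases chief_dichotomy (N := T ⊓ centSec M₂ N₁) hch with hd | hd
      · have hch' := chief_inf hch hd
        apply bound_of_inf hch hd
        refine ih _ ?_ M M₂ N N₁ (T ⊓ centSec M₂ N₁) hMn hM₂n hNn inferInstance hM₂M.le hMtop
          hN₁N hNtop ?_ ?_ ?_ rfl _ _ hch' ?_ inf_le_right
        · omega
        · exact (Subgroup.commutator_mono le_rfl inf_le_left).trans hMT
        · exact commutator_le_of_le_centSec inf_le_right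
        · exact (Subgroup.commutator_mono le_rfl inf_le_left).trans hNT
        · exact le_inf ((inf_le_inf_right _ inf_le_left).trans hT₁V) inf_le_left
      · have hch' := chief_sup hch hd
        apply bound_of_sup hch hd
        refine ih _ ?_ M₂ M₁ N N₁ T hM₂n hM₁n hNn hTn hM₁M₂.le (hM₂M.le.trans hMtop) hN₁N hNtop
          ((Subgroup.commutator_mono hM₂M.le le_rfl).trans hMT) hM₁T hNT rfl _ _ hch' le_sup_right
          (sup_le hUT inf_le_left)
        omega

end CritChief

end Cfsg.Agent.Helper1
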