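import Mathlib
import Cfsg.Prelude.Def_PLocal
import Cfsg.Prelude.Def_LocalEven
import Cfsg.Agent.Helper1.FTF
import Cfsg.Agent.Helper1.QAc
import Cfsg.Agent.Helper1.CritChiefC

set_option autoImplicit false

/-!
The critical-subgroup chief factor lemma.
-/

namespace Cfsg.Agent.Helper1

namespace CritChief

open scoped commutatorElement
open Cfsg (iterCommutator IsChiefFactor)
open QA

variable {G : Type*} [Group G] [Finite G] {p : ℕ} [hp : Fact p.Prime]

omit [Finite G] in
theorem mem_centralizer_of_mem_centSec_bot {M : Subgroup G} {x : G}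
    (hx : x ∈ centSec M (⊥ : Subgroup G)) : x ∈ Subgroup.centralizer (M : Set G) := by
  rw [mem_centSec] at hx
  rw [Subgroup.mem_centralizer_iff]
  intro u hu
  have h1 := hx u hu
  rw [Subgroup.mem_bot, commutatorElement_eq_one_iff_mul_comm] at h1
  exact h1.symm

/-- Chief factors of `P / C_P(Z)`. -/
theorem GS2 (P Z A : Subgroup G) [hPn : P.Normal] (hP : IsPGroup p P) [hZn : Z.Normal]
    (hZP : Z ≤ P) (hZc : ∀ x ∈ Z, ∀ y ∈ Z, x * y = y * x) (j₀ : ℕ) (hj₀ : 1 ≤ j₀)
    (hZb : ∀ U V : Subgroup G, IsChiefFactor U V → U ≤ Z → iterCommutator U A j₀ ≤ V) :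
    ∀ (k : ℕ) (Y' : Subgroup G) [Y'.Normal], Y' ≤ Z → Nat.card Y' = k →
      (∀ U V : Subgroup G, IsChiefFactor U V → P ⊓ centSec Z Y' ≤ V → U ≤ P →
        iterCommutator U A (j₀ + j₀ - 1) ≤ V) →
      ∀ U V : Subgroup G, IsChiefFactor U V → P ⊓ centSec Z (⊥ : Subgroup G) ≤ V → U ≤ P →
        iterCommutator U A (j₀ + j₀ - 1) ≤ V := by
  intro k
  induction k using Nat.strong_induction_on with
  | _ k ih =>
  intro Y' hY'n hY'Z hk hclaim
  by_cases hY' : Y' = ⊥
  · subst hY'
    exact hclaim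
  obtain ⟨Y, hchY⟩ := FT.exists_isChiefFactor_below hY'n hY'
  have hYlt : Y < Y' := hchY.1
  haveI hYn : Y.Normal := hchY.2.2.1
  have hZZ : ⁅Z, Z⁆ = ⊥ := by
    rw [Subgroup.commutator_eq_bot_iff_le_centralizer]
    intro x hx
    rw [Subgroup.mem_centralizer_iff]
    intro y hy
    exact hZc y hy x hx
  have hY'P : ⁅Y', P⁆ ≤ Y := by
    rw [Subgroup.commutator_le]
    intro u hu b hb
    have h1 := comm_mem_of_isChiefFactor_of_le hchY hP (hY'Z.trans hZP) b hb u hu
    have h2 : ⁅u, b⁆ = ⁅b, u⁆⁻¹ := (commutatorElement_inv b u).symm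
    rw [h2]
    exact Y.inv_mem h1
  refine ih (Nat.card Y) (hk ▸ card_lt_card_of_lt hYlt) Y (hYlt.le.trans hY'Z) rfl ?_
  intro U V hch hTV hUP
  haveI hcn : (centSec Z Y').Normal := centSec_normal Z Y'
  rcases chief_dichotomy (N := P ⊓ centSec Z Y') hch with hd | hd
  · have hch' := chief_inf hch hd
    apply bound_of_inf hch hd
    refine GS A Z Z j₀ j₀ hj₀ hZc hZZ hZb hZb _ Z ⊥ Y' Y (P ⊓ centSec Z Y') hZn inferInstance hY'n
      inferInstance bot_le le_rfl hYlt.le hY'Z ?_ ?_ ?_ rfl _ _ hch' ?_ inf_le_right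
    · exact commutator_le_of_le_centSec inf_le_right
    · rw [Subgroup.commutator_bot_left]
      exact bot_le
    · exact (Subgroup.commutator_mono le_rfl inf_le_left).trans hY'P
    · exact le_inf ((inf_le_inf_right _ inf_le_left).trans hTV) inf_le_left
  · have hch' := chief_sup hch hd
    apply bound_of_sup hch hd
    exact hclaim _ _ hch' le_sup_right (sup_le hUP inf_le_left)

/-- The critical-subgroup chief factor lemma. -/
theorem crit_chief (P : Subgroup G) [hPn : P.Normal] (hP : IsPGroup p P) (Q : Subgroup G)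
    (hQP : Q ≤ P) (hQchar : (Q.subgroupOf P).Characteristic)
    (hQ3 : ⁅P, Q⁆ ≤ Q ⊓ Subgroup.centralizer ((Q : Subgroup G) : Set G))
    (hQ4 : P ⊓ Subgroup.centralizer ((Q : Subgroup G) : Set G) =
      Q ⊓ Subgroup.centralizer ((Q : Subgroup G) : Set G))
    (g : G) (i j : ℕ) (hi : 1 ≤ i) (hj : 1 ≤ j)
    (hQi : ∀ U V : Subgroup G, IsChiefFactor U V → U ≤ Q →
      iterCommutator U (Subgroup.zpowers g) i ≤ V)
    (hZj : ∀ U V : Subgroup G, IsChiefFactor U V →
      U ≤ Q ⊓ Subgroup.centralizer ((Q : Subgroup G) : Set G) →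
      iterCommutator U (Subgroup.zpowers g) j ≤ V) :
    ∀ U V : Subgroup G, IsChiefFactor U V → U ≤ P →
      iterCommutator U (Subgroup.zpowers g) (i + j - 1) ≤ V := by
  haveI hQn : Q.Normal := by
    have h1 := ConjAct.normal_of_characteristic_of_normal (H := P) (K := Q.subgroupOf P)
    rwa [Subgroup.map_subgroupOf_eq_of_le hQP] at h1
  haveI hCn : (Subgroup.centralizer ((Q : Subgroup G) : Set G)).Normal := Subgroup.normal_centralizer
  obtain ⟨Z, hZ⟩ : ∃ Z, Z = Q ⊓ Subgroup.centralizer ((Q : Subgroup G) : Set G) := ⟨_, rfl⟩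
  rw [← hZ] at hQ3 hQ4 hZj
  haveI hZn : Z.Normal := hZ ▸ inferInstance
  have hZQ : Z ≤ Q := hZ ▸ inf_le_left
  have hZP : Z ≤ P := hZQ.trans hQP
  have hZCQ : Z ≤ Subgroup.centralizer ((Q : Subgroup G) : Set G) := hZ ▸ inf_le_right
  have hZc : ∀ x ∈ Z, ∀ y ∈ Z, x * y = y * x := by
    intro x hx y hy
    exact Subgroup.mem_centralizer_iff.1 (hZCQ hy) x (hZQ hx)
  obtain ⟨A, hA⟩ : ∃ A, A = Subgroup.zpowers g := ⟨_, rfl⟩
  rw [← hA] at hQi hZj ⊢
  -- monotonicity in the number of commutators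
  have hmono : ∀ (U V : Subgroup G), IsChiefFactor U V → ∀ m m' : ℕ, m ≤ m' →
      ∀ W : Subgroup G, iterCommutator U A m ≤ W → iterCommutator U A m' ≤ W := by
    intro U V hch m m' hmm' W hW
    haveI := hch.2.1
    have hAU : A ≤ Subgroup.normalizer (U : Set G) := by
      rw [Subgroup.normalizer_eq_top]; exact le_top
    exact (iterCommutator_antitone U A hAU hmm').trans hW
  -- the bound `min i j` for chief factors inside `Z`
  have hZb : ∀ U V : Subgroup G, IsChiefFactor U V → U ≤ Z →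
      iterCommutator U A (min i j) ≤ V := by
    intro U V hch hUZ
    rcases le_total i j with h | h
    · rw [min_eq_left h]
      exact hQi U V hch (hUZ.trans hZQ)
    · rw [min_eq_right h]
      exact hZj U V hch hUZ
  -- `P₀ = C_P(Z)`
  haveI hCZn : (Subgroup.centralizer ((Z : Subgroup G) : Set G)).Normal :=
    Subgroup.normal_centralizer
  obtain ⟨P₀, hP₀⟩ : ∃ P₀, P₀ = P ⊓ Subgroup.centralizer ((Z : Subgroup G) : Set G) := ⟨_, rfl⟩
  haveI hP₀n : P₀.Normal := hP₀ ▸ inferInstance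
  have hP₀P : P₀ ≤ P := hP₀ ▸ inf_le_left
  have hP₀C : P₀ ≤ Subgroup.centralizer ((Z : Subgroup G) : Set G) := hP₀ ▸ inf_le_right
  have hZP₀ : Z ≤ P₀ := by
    rw [hP₀]
    refine le_inf hZP ?_
    intro x hx
    rw [Subgroup.mem_centralizer_iff]
    intro y hy
    exact hZc y hy x hx
  have hZP₀c : ⁅Z, P₀⁆ ≤ ⊥ := by
    rw [Subgroup.commutator_comm, le_bot_iff, Subgroup.commutator_eq_bot_iff_le_centralizer]
    exact hP₀C
  have hZQc : ⁅Z, Q⁆ = ⊥ := by
    rw [Subgroup.commutator_eq_bot_iff_le_centralizer]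
    exact hZCQ
  intro U V hch hUP
  rcases chief_dichotomy (N := Z) hch with hd | hd
  · -- the factor lies inside `Z`
    have hch' := chief_inf hch hd
    apply bound_of_inf hch hd
    exact hmono _ _ hch' j (i + j - 1) (by omega) _ (hZj _ _ hch' inf_le_right)
  · -- the factor lies above `Z`
    have hch' := chief_sup hch hd
    apply bound_of_sup hch hd
    have hU'P : U ⊔ Z ≤ P := sup_le hUP hZP
    rcases chief_dichotomy (N := P₀) hch' with hd' | hd'
    · -- between `Z` and `P₀`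
      have hch'' := chief_inf hch' hd'
      apply bound_of_inf hch' hd'
      refine GS A Q Z i j hi hZc hZQc hQi hZj _ Q Z Z ⊥ P₀ hQn hZn hZn hP₀n hZQ le_rfl bot_le
        le_rfl ?_ hZP₀c hZP₀c rfl _ _ hch'' ?_ inf_le_right
      · rw [Subgroup.commutator_comm]
        exact (Subgroup.commutator_mono hP₀P le_rfl).trans hQ3
      · intro x hx
        have hxQ : x ∈ Subgroup.centralizer ((Q : Subgroup G) : Set G) :=
          mem_centralizer_of_mem_centSec_bot hx.2
        have hxZ : x ∈ Z := by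
          rw [← hQ4]
          exact ⟨hP₀P hx.1, hxQ⟩
        exact ⟨le_sup_right (a := V) hxZ, hZP₀ hxZ⟩
    · -- between `P₀` and `P`
      have hch'' := chief_sup hch' hd'
      apply bound_of_sup hch' hd'
      have hmin1 : 1 ≤ min i j := le_min hi hj
      have hb := GS2 P Z A hP hZP hZc (min i j) hmin1 hZb (Nat.card Z) Z le_rfl rfl (by
        intro U₁ V₁ hch₁ h1 h2
        exfalso
        have h3 : P ≤ centSec Z Z := by
          intro x _
          rw [mem_centSec]
          intro u hu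
          rw [commutatorElement_def]
          exact Z.mul_mem (hZn.conj_mem u hu x) (Z.inv_mem hu)
        exact hch₁.1.not_ge (h2.trans ((le_inf le_rfl h3).trans h1))) _ _ hch'' (by
        intro x hx
        refine le_sup_right (a := V ⊔ Z) ?_
        rw [hP₀]
        exact ⟨hx.1, mem_centralizer_of_mem_centSec_bot hx.2⟩) (sup_le hU'P hP₀P)
      have hle1 : min i j ≤ i := min_le_left i j
      have hle2 : min i j ≤ j := min_le_right i j
      exact hmono _ _ hch'' _ (i + j - 1) (by omega) _ hb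

end CritChief

end Cfsg.Agent.Helper1
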