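import Mathlib
import Cfsg.Agent.Helper1.Basic
import Cfsg.Agent.Helper1.CyclicMaxSub
import Cfsg.Agent.Helper1.CyclicMaxOdd

set_option autoImplicit false

/-!
Classification of non-abelian `2`-groups with a cyclic maximal subgroup.
-/

namespace Cfsg.Agent.Helper1

universe u

variable {G : Type u} [Group G]

/-- square roots of `1` modulo `4 M''`. -/
theorem sq_modEq_one_two_pow (k : ℕ) (r : ℕ) (hr : r < 4 * 2 ^ k)
    (h : r * r ≡ 1 [MOD 4 * 2 ^ k]) :
    r = 1 ∨ r = 2 * 2 ^ k + 1 ∨ r + 1 = 2 * 2 ^ k ∨ r + 1 = 4 * 2 ^ k := by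
  have hodd : Odd r := by
    have h2 : r * r ≡ 1 [MOD 2] := h.of_dvd ⟨2 * 2 ^ k, by ring⟩
    have h3 : (r * r) % 2 = 1 := h2
    rw [Nat.odd_iff]
    rcases Nat.mod_two_eq_zero_or_one r with h4 | h4
    · rw [Nat.mul_mod, h4] at h3; simp at h3
    · exact h4
  obtain ⟨a, rfl⟩ := hodd
  have h1 : (2 * a + 1) * (2 * a + 1) = 4 * (a * (a + 1)) + 1 := by ring
  rw [h1] at h
  have h2 : 4 * (a * (a + 1)) ≡ 0 [MOD 4 * 2 ^ k] := by
    have : 4 * (a * (a + 1)) + 1 ≡ 0 + 1 [MOD 4 * 2 ^ k] := by simpa using h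
    exact Nat.ModEq.add_right_cancel' 1 this
  have h3 : 4 * 2 ^ k ∣ 4 * (a * (a + 1)) := (Nat.modEq_zero_iff_dvd).1 h2
  have h4 : 2 ^ k ∣ a * (a + 1) := Nat.dvd_of_mul_dvd_mul_left (by norm_num) h3
  have h5 : 2 ^ k ∣ a ∨ 2 ^ k ∣ a + 1 := by
    rcases Nat.even_or_odd a with he | ho
    · left
      have hc : Nat.Coprime (2 ^ k) (a + 1) := by
        apply Nat.Coprime.pow_left
        rw [Nat.coprime_two_left]
        exact he.add_one
      exact hc.dvd_of_dvd_mul_right h4
    · right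
      have hc : Nat.Coprime (2 ^ k) a := by
        apply Nat.Coprime.pow_left
        rw [Nat.coprime_two_left]
        exact ho
      exact hc.dvd_of_dvd_mul_left h4
  rcases h5 with ⟨u, hu⟩ | ⟨u, hu⟩
  · have hu1 : u ≤ 1 := by
      by_contra hcon
      push Not at hcon
      have : 2 ^ k * 2 ≤ 2 ^ k * u := Nat.mul_le_mul_left _ hcon
      omega
    rcases Nat.le_one_iff_eq_zero_or_eq_one.1 hu1 with rfl | rfl
    · left; omega
    · right; left; omega
  · have hu1 : u ≤ 2 := by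
      by_contra hcon
      push Not at hcon
      have : 2 ^ k * 3 ≤ 2 ^ k * u := Nat.mul_le_mul_left _ hcon
      omega
    have hu0 : u ≠ 0 := by
      rintro rfl
      omega
    have : u = 1 ∨ u = 2 := by omega
    rcases this with rfl | rfl
    · right; right; left; omega
    · right; right; right; omega

theorem comm_of_index_prime_of_commute {p : ℕ} (hp : p.Prime) (c b : G)
    (hCi : (Subgroup.zpowers c).index = p) (hb : b ∉ Subgroup.zpowers c) (hcomm : b * c = c * b)
    (x y : G) : x * y = y * x := by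
  have hcl : Subgroup.closure ({c, b} : Set G) = ⊤ := by
    apply eq_top_of_index_prime hp hCi _ (Subgroup.subset_closure (by simp)) hb
    rw [Subgroup.zpowers_le]
    exact Subgroup.subset_closure (by simp)
  have hcomm' : IsMulCommutative (Subgroup.closure ({c, b} : Set G)) := by
    apply Subgroup.isMulCommutative_closure
    intro x hx y hy
    simp only [Set.mem_insert_iff, Set.mem_singleton_iff] at hx hy
    rcases hx with rfl | rfl <;> rcases hy with rfl | rfl
    · rfl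
    · exact hcomm.symm
    · exact hcomm
    · rfl
  have hx : x ∈ Subgroup.closure ({c, b} : Set G) := by rw [hcl]; exact Subgroup.mem_top x
  have hy : y ∈ Subgroup.closure ({c, b} : Set G) := by rw [hcl]; exact Subgroup.mem_top y
  have := mul_comm' (⟨x, hx⟩ : Subgroup.closure ({c, b} : Set G)) ⟨y, hy⟩
  exact congrArg Subtype.val this

theorem conj_pow_pow {c x : G} {r : ℕ} (h : x * c * x⁻¹ = c ^ r) (k : ℕ) :
    x * c ^ k * x⁻¹ = c ^ (r * k) := by
  have h2 : x * c ^ k * x⁻¹ = (x * c * x⁻¹) ^ k := by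
    have := map_pow (MulAut.conj x) c k
    simpa [MulAut.conj_apply] using this
  rw [h2, h, pow_mul]

theorem pow_mul_half_cases {c : G} {M : ℕ} (hc : (c ^ M) ^ 2 = 1) (t : ℕ) :
    c ^ (M * t) = 1 ∨ c ^ (M * t) = c ^ M := by
  rw [pow_mul]
  rcases Nat.even_or_odd' t with ⟨u, rfl | rfl⟩
  · left
    rw [pow_mul, hc, one_pow]
  · right
    rw [pow_add, pow_mul, hc, one_pow, one_mul, pow_one]

theorem cyclic_max_two [Finite G] (n : ℕ) (hn : 3 ≤ n) (hG : Nat.card G = 2 ^ n)
    (C : Subgroup G) (hC : IsCyclic C) (hCi : C.index = 2) (hna : ∃ x y : G, x * y ≠ y * x) :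
    ∃ a b : G, orderOf a = 2 ^ (n - 1) ∧ b ∉ Subgroup.zpowers a ∧
      ((b ^ 2 = 1 ∧ b * a * b⁻¹ = a⁻¹) ∨ (b ^ 2 = a ^ (2 ^ (n - 2)) ∧ b * a * b⁻¹ = a⁻¹) ∨
        (4 ≤ n ∧ b ^ 2 = 1 ∧ b * a * b⁻¹ = a ^ (1 + 2 ^ (n - 2))) ∨
        (4 ≤ n ∧ b ^ 2 = 1 ∧ b * a * b⁻¹ = a ^ (2 ^ (n - 2) - 1))) := by
  obtain ⟨g, hg⟩ := hC.exists_generator
  obtain ⟨c, hcC⟩ : ∃ c : G, c = (g : G) := ⟨_, rfl⟩
  have hCeq : C = Subgroup.zpowers c := by
    ext y
    constructor
    · intro hy
      obtain ⟨k, hk⟩ := Subgroup.mem_zpowers_iff.1 (hg ⟨y, hy⟩)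
      rw [Subgroup.mem_zpowers_iff]
      refine ⟨k, ?_⟩
      have := congrArg Subtype.val hk
      rw [hcC]
      simpa using this
    · intro hy
      obtain ⟨k, hk⟩ := Subgroup.mem_zpowers_iff.1 hy
      rw [← hk, hcC]
      exact C.zpow_mem g.2 k
  subst hCeq
  obtain ⟨k, rfl⟩ : ∃ k, n = k + 3 := ⟨n - 3, by omega⟩
  obtain ⟨q, hq⟩ : ∃ q, q = 2 ^ k := ⟨_, rfl⟩
  have hqpos : 0 < q := by rw [hq]; positivity
  have hn1 : 2 ^ (k + 3 - 1) = 4 * q := by
    rw [hq, show k + 3 - 1 = k + 2 by omega, pow_add]; ring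
  have hn2 : 2 ^ (k + 3 - 2) = 2 * q := by
    rw [hq, show k + 3 - 2 = k + 1 by omega, pow_add]; ring
  have hcardC : Nat.card (Subgroup.zpowers c) = 4 * q := by
    have h1 := (Subgroup.zpowers c).card_mul_index
    rw [hCi, hG, pow_succ, show k + 2 = k + 3 - 1 by omega, hn1] at h1
    exact Nat.eq_of_mul_eq_mul_right (by norm_num) h1
  have hc : orderOf c = 4 * q := by rw [← Nat.card_zpowers, hcardC]
  have hcN : c ^ (4 * q) = 1 := by rw [← hc]; exact pow_orderOf_eq_one c
  have hCn : (Subgroup.zpowers c).Normal := by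
    apply Subgroup.normal_of_index_eq_minFac_card
    rw [hCi, hG, Nat.pow_minFac (by omega), Nat.prime_two.minFac_eq]
  -- an element outside `C`
  obtain ⟨b₀, hb₀C⟩ : ∃ b₀ : G, b₀ ∉ Subgroup.zpowers c := by
    by_contra hcon
    push Not at hcon
    have : Subgroup.zpowers c = ⊤ := by
      rw [eq_top_iff]; intro x _; exact hcon x
    rw [this, Subgroup.index_top] at hCi
    omega
  have hd : b₀ * c * b₀⁻¹ ∈ Subgroup.zpowers c := hCn.conj_mem _ (Subgroup.mem_zpowers c) b₀
  rw [← mem_powers_iff_mem_zpowers] at hd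
  obtain ⟨r₀, hr₀'⟩ := hd
  have hr₀ : c ^ r₀ = b₀ * c * b₀⁻¹ := hr₀'
  obtain ⟨r, hr, hrlt⟩ : ∃ r, b₀ * c * b₀⁻¹ = c ^ r ∧ r < 4 * q := by
    refine ⟨r₀ % (4 * q), ?_, Nat.mod_lt _ (by omega)⟩
    rw [← hc, pow_mod_orderOf, hr₀]
  have hsq : b₀ ^ 2 ∈ Subgroup.zpowers c := Subgroup.sq_mem_of_index_two hCi b₀
  rw [← mem_powers_iff_mem_zpowers] at hsq
  obtain ⟨s, hs'⟩ := hsq
  have hs : c ^ s = b₀ ^ 2 := hs'
  -- F1
  have hF1 : r * r ≡ 1 [MOD 4 * q] := by
    have h1 := conj_pow_iterate hr 2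
    rw [← hs] at h1
    have h2 : c ^ s * c * (c ^ s)⁻¹ = c := by
      rw [← pow_succ, pow_succ', mul_assoc, mul_inv_cancel, mul_one]
    rw [h2] at h1
    have h3 : c ^ (r ^ 2) = c ^ 1 := by rw [← h1, pow_one]
    rw [pow_eq_pow_iff_modEq, hc, sq] at h3
    exact h3
  -- F2
  have hF2 : r * s ≡ s [MOD 4 * q] := by
    have h1 := conj_pow_pow hr s
    rw [hs] at h1
    have h2 : b₀ * b₀ ^ 2 * b₀⁻¹ = b₀ ^ 2 := by group
    rw [h2, ← hs, pow_eq_pow_iff_modEq, hc] at h1
    exact h1.symm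
  -- F3
  have hF3 : r ≠ 1 := by
    rintro rfl
    rw [pow_one] at hr
    have hcomm : b₀ * c = c * b₀ := by
      have := congrArg (· * b₀) hr
      simpa using this
    obtain ⟨x, y, hxy⟩ := hna
    exact hxy (comm_of_index_prime_of_commute Nat.prime_two c b₀ hCi hb₀C hcomm x y)
  have hcM2 : (c ^ (2 * q)) ^ 2 = 1 := by
    rw [← pow_mul, show 2 * q * 2 = 4 * q by ring, hcN]
  have hcases := sq_modEq_one_two_pow k r (by rw [← hq]; exact hrlt) (by rw [← hq]; exact hF1)
  rw [← hq] at hcases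
  rw [hn1, hn2]
  have hinv : ∀ r' : ℕ, r' + 1 = 4 * q → c ^ r' = c⁻¹ := by
    intro r' hr'
    rw [eq_inv_iff_mul_eq_one, ← pow_succ, hr', hcN]
  -- the case `r = -1`
  have caseA : r + 1 = 4 * q → ∃ a b : G, orderOf a = 4 * q ∧ b ∉ Subgroup.zpowers a ∧
      ((b ^ 2 = 1 ∧ b * a * b⁻¹ = a⁻¹) ∨ (b ^ 2 = a ^ (2 * q) ∧ b * a * b⁻¹ = a⁻¹) ∨
        (4 ≤ k + 3 ∧ b ^ 2 = 1 ∧ b * a * b⁻¹ = a ^ (1 + 2 * q)) ∨
        (4 ≤ k + 3 ∧ b ^ 2 = 1 ∧ b * a * b⁻¹ = a ^ (2 * q - 1))) := by
    intro hr1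
    have h1 : 2 * q ∣ s := by
      have h2 := hF2.add_right s
      have h3 : r * s + s = 4 * q * s := by rw [← hr1]; ring
      rw [h3] at h2
      have h4 : 4 * q * s ≡ 0 [MOD 4 * q] := (Nat.modEq_zero_iff_dvd).2 (dvd_mul_right _ _)
      have h5 : 4 * q ∣ s + s := (Nat.modEq_zero_iff_dvd).1 (h2.symm.trans h4)
      have h6 : 2 * (2 * q) ∣ 2 * s := by
        rw [show 2 * (2 * q) = 4 * q by ring, two_mul]; exact h5
      exact Nat.dvd_of_mul_dvd_mul_left (by norm_num) h6
    obtain ⟨t, rfl⟩ := h1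
    rw [hinv r hr1] at hr
    refine ⟨c, b₀, hc, hb₀C, ?_⟩
    rcases pow_mul_half_cases hcM2 t with h2 | h2
    · left; exact ⟨by rw [← hs, h2], hr⟩
    · right; left; exact ⟨by rw [← hs, h2], hr⟩
  rcases hcases with h | h | h | h
  · exact absurd h hF3
  · -- r = 2q + 1
    by_cases hk0 : k = 0
    · -- then `2q + 1 = 4q - 1`
      subst hk0
      rw [pow_zero] at hq
      subst hq
      exact caseA (by omega)
    · obtain ⟨q', hq'⟩ : ∃ q', q = 2 * q' := by
        obtain ⟨k', rfl⟩ : ∃ k', k = k' + 1 := ⟨k - 1, by omega⟩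
        exact ⟨2 ^ k', by rw [hq, pow_succ]; ring⟩
      have hq'pos : 0 < q' := by omega
      -- `s` is even
      have h1 : 2 ∣ s := by
        have h2 : 2 * q * s + s ≡ 0 + s [MOD 4 * q] := by
          have : r * s = 2 * q * s + s := by rw [h]; ring
          rw [← this, zero_add]; exact hF2
        have h3 := Nat.ModEq.add_right_cancel' s h2
        have h4 : 4 * q ∣ 2 * q * s := (Nat.modEq_zero_iff_dvd).1 h3
        have h5 : 2 * q * 2 ∣ 2 * q * s := by
          rw [show 2 * q * 2 = 4 * q by ring]; exact h4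
        exact Nat.dvd_of_mul_dvd_mul_left (by omega) h5
      obtain ⟨t, rfl⟩ := h1
      -- b := b₀ c^(t (q-1))
      set e := t * (q - 1) with he
      have hb2 : (b₀ * c ^ e) ^ 2 = 1 := by
        have h2 : b₀ * c ^ e = c ^ (r * e) * b₀ := by
          have := conj_pow_pow hr e
          rw [← this]; group
        have h3 : (b₀ * c ^ e) ^ 2 = c ^ (r * e) * b₀ ^ 2 * c ^ e := by
          rw [sq, sq]
          nth_rewrite 1 [h2]
          simp only [mul_assoc]
        rw [h3, ← hs, ← pow_add, ← pow_add]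
        have h4 : r * e + 2 * t + e = 4 * q * (t * q') := by
          rw [h, he]
          obtain ⟨q1, hq1⟩ : ∃ q1, q = q1 + 1 := ⟨q - 1, by omega⟩
          rw [hq1, Nat.add_sub_cancel]
          have : q1 + 1 = 2 * q' := by rw [← hq1, hq']
          have hq1' : q1 = 2 * q' - 1 := by omega
          obtain ⟨q2, hq2⟩ : ∃ q2, q' = q2 + 1 := ⟨q' - 1, by omega⟩
          subst hq2
          have : q1 = 2 * q2 + 1 := by omega
          subst this
          ring
        rw [h4, pow_mul, hcN, one_pow]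
      refine ⟨c, b₀ * c ^ e, hc, ?_, ?_⟩
      · intro hmem
        apply hb₀C
        have := (Subgroup.zpowers c).mul_mem hmem
          ((Subgroup.zpowers c).inv_mem (Subgroup.pow_mem _ (Subgroup.mem_zpowers c) e))
        simpa using this
      · right; right; left
        refine ⟨by omega, hb2, ?_⟩
        have h5 : b₀ * c ^ e * c * (b₀ * c ^ e)⁻¹ = b₀ * c * b₀⁻¹ := by
          have h6 : c ^ e * c * (c ^ e)⁻¹ = c := by
            rw [← pow_succ, pow_succ', mul_assoc, mul_inv_cancel, mul_one]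
          calc b₀ * c ^ e * c * (b₀ * c ^ e)⁻¹ = b₀ * (c ^ e * c * (c ^ e)⁻¹) * b₀⁻¹ := by group
            _ = b₀ * c * b₀⁻¹ := by rw [h6]
        rw [h5, hr, h, add_comm]
  · -- r = 2q - 1
    by_cases hk0 : k = 0
    · subst hk0
      rw [pow_zero] at hq
      subst hq
      exact absurd (by omega) hF3
    · obtain ⟨q', hq'⟩ : ∃ q', q = 2 * q' := by
        obtain ⟨k', rfl⟩ : ∃ k', k = k' + 1 := ⟨k - 1, by omega⟩
        exact ⟨2 ^ k', by rw [hq, pow_succ]; ring⟩
      have hq'pos : 0 < q' := by omega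
      have hr' : r = 2 * q - 1 := by omega
      -- `2q ∣ s`
      have h1 : 2 * q ∣ s := by
        have h2 : (2 * q - 2) * s + s ≡ 0 + s [MOD 4 * q] := by
          have : r * s = (2 * q - 2) * s + s := by
            rw [hr']
            obtain ⟨q1, hq1⟩ : ∃ q1, 2 * q = q1 + 2 := ⟨2 * q - 2, by omega⟩
            rw [hq1, show q1 + 2 - 1 = q1 + 1 by omega, Nat.add_sub_cancel]; ring
          rw [← this, zero_add]; exact hF2
        have h3 := Nat.ModEq.add_right_cancel' s h2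
        have h4 : 4 * q ∣ (2 * q - 2) * s := (Nat.modEq_zero_iff_dvd).1 h3
        have h5 : 2 * (2 * q) ∣ 2 * ((q - 1) * s) := by
          have : 2 * ((q - 1) * s) = (2 * q - 2) * s := by
            rw [← mul_assoc, Nat.mul_sub, mul_one]
          rw [this, show 2 * (2 * q) = 4 * q by ring]; exact h4
        have h6 : 2 * q ∣ (q - 1) * s := Nat.dvd_of_mul_dvd_mul_left (by norm_num) h5
        have hc1 : Nat.Coprime (2 * q) (q - 1) := by
          have hodd : Odd (q - 1) := by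
            rw [hq']
            exact ⟨q' - 1, by omega⟩
          have h7 : 2 * q = 2 ^ (k + 1) := by rw [hq, pow_succ]; ring
          rw [h7]
          apply Nat.Coprime.pow_left
          rw [Nat.coprime_two_left]
          exact hodd
        exact hc1.dvd_of_dvd_mul_left h6
      obtain ⟨t, rfl⟩ := h1
      have hpow : c ^ r = c ^ (2 * q - 1) := by rw [hr']
      rcases pow_mul_half_cases hcM2 t with h2 | h2
      · refine ⟨c, b₀, hc, hb₀C, ?_⟩
        right; right; right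
        exact ⟨by omega, by rw [← hs, h2], by rw [hr, hpow]⟩
      · refine ⟨c, b₀ * c, hc, ?_, ?_⟩
        · intro hmem
          apply hb₀C
          have := (Subgroup.zpowers c).mul_mem hmem
            ((Subgroup.zpowers c).inv_mem (Subgroup.mem_zpowers c))
          simpa using this
        · right; right; right
          refine ⟨by omega, ?_, ?_⟩
          · have h3 : b₀ * c = c ^ r * b₀ := by
              rw [← hr]; group
            have h4 : (b₀ * c) ^ 2 = c ^ r * b₀ ^ 2 * c := by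
              rw [sq, sq]
              nth_rewrite 1 [h3]
              simp only [mul_assoc]
            rw [h4, ← hs, h2, ← pow_add, ← pow_succ]
            have : r + 2 * q + 1 = 4 * q := by omega
            rw [this, hcN]
          · have h5 : b₀ * c * c * (b₀ * c)⁻¹ = b₀ * c * b₀⁻¹ := by group
            rw [h5, hr, hpow]
  · exact caseA h

end Cfsg.Agent.Helper1
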