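import Mathlib

set_option autoImplicit false

/-!
Itô's theorem: a product of two abelian subgroups is metabelian.
-/

namespace Cfsg.Agent.Helper1

open scoped commutatorElement

universe u

variable {G : Type u} [Group G]

theorem commutatorElement_mul_right_of_comm {x y z : G} (h : x * z = z * x) :
    ⁅x, y * z⁆ = ⁅x, y⁆ := by
  rw [commutatorElement_mul_right_eq_mul_conj, (commutatorElement_eq_one_iff_mul_comm).2 h]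
  group

theorem commutatorElement_mul_left_of_comm {x w y : G} (h : w * y = y * w) :
    ⁅x * w, y⁆ = ⁅x, y⁆ := by
  rw [commutatorElement_mul_left_eq_conj_mul, (commutatorElement_eq_one_iff_mul_comm).2 h]
  group

section ito

variable (A B : Subgroup G) [hA : IsMulCommutative A] [hB : IsMulCommutative B]
  (hAB : ∀ g : G, ∃ a ∈ A, ∃ b ∈ B, g = a * b)

theorem ito_commA {x y : G} (hx : x ∈ A) (hy : y ∈ A) : x * y = y * x :=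
  congrArg Subtype.val (mul_comm' (⟨x, hx⟩ : A) ⟨y, hy⟩)

omit hA hB in
include hAB in
theorem ito_BA (g : G) : ∃ b ∈ B, ∃ a ∈ A, g = b * a := by
  obtain ⟨a, ha, b, hb, h⟩ := hAB g⁻¹
  refine ⟨b⁻¹, B.inv_mem hb, a⁻¹, A.inv_mem ha, ?_⟩
  rw [← mul_inv_rev, ← h, inv_inv]

include hAB in
theorem ito_key {a b a₁ b₁ : G} (ha : a ∈ A) (hb : b ∈ B) (ha₁ : a₁ ∈ A) (hb₁ : b₁ ∈ B) :
    (b₁ * a₁) * ⁅a, b⁆ * (b₁ * a₁)⁻¹ = (a₁ * b₁) * ⁅a, b⁆ * (a₁ * b₁)⁻¹ := by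
  obtain ⟨b₂, hb₂, a₂, ha₂, h1⟩ := ito_BA A B hAB (a₁ * b * a₁⁻¹)
  obtain ⟨a₃, ha₃, b₃, hb₃, h2⟩ := hAB (b₁ * a * b₁⁻¹)
  have e1 : a₁ * a * a₁⁻¹ = a := by
    rw [ito_commA A ha₁ ha, mul_inv_cancel_right]
  have e2 : b₁ * b * b₁⁻¹ = b := by
    rw [ito_commA B hb₁ hb, mul_inv_cancel_right]
  have e3 : b₁ * b₂ * b₁⁻¹ = b₂ := by
    rw [ito_commA B hb₁ hb₂, mul_inv_cancel_right]
  have e4 : a₁ * a₃ * a₁⁻¹ = a₃ := by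
    rw [ito_commA A ha₁ ha₃, mul_inv_cancel_right]
  have lhs : (b₁ * a₁) * ⁅a, b⁆ * (b₁ * a₁)⁻¹ = ⁅a₃, b₂⁆ := by
    have s1 : (b₁ * a₁) * ⁅a, b⁆ * (b₁ * a₁)⁻¹ = b₁ * (a₁ * ⁅a, b⁆ * a₁⁻¹) * b₁⁻¹ := by group
    rw [s1, conjugate_commutatorElement, e1, h1,
      commutatorElement_mul_right_of_comm (ito_commA A ha ha₂), conjugate_commutatorElement, h2,
      e3, commutatorElement_mul_left_of_comm (ito_commA B hb₃ hb₂)]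
  have rhs : (a₁ * b₁) * ⁅a, b⁆ * (a₁ * b₁)⁻¹ = ⁅a₃, b₂⁆ := by
    have s1 : (a₁ * b₁) * ⁅a, b⁆ * (a₁ * b₁)⁻¹ = a₁ * (b₁ * ⁅a, b⁆ * b₁⁻¹) * a₁⁻¹ := by group
    rw [s1, conjugate_commutatorElement, e2, h2,
      commutatorElement_mul_left_of_comm (ito_commA B hb₃ hb), conjugate_commutatorElement, e4, h1,
      commutatorElement_mul_right_of_comm (ito_commA A ha₃ ha₂)]
  rw [lhs, rhs]

include hAB in
theorem ito_comm {a b a' b' : G} (ha : a ∈ A) (hb : b ∈ B) (ha' : a' ∈ A) (hb' : b' ∈ B) :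
    ⁅a', b'⁆ * ⁅a, b⁆ = ⁅a, b⁆ * ⁅a', b'⁆ := by
  have h := ito_key A B hAB ha hb (A.inv_mem ha') (B.inv_mem hb')
  -- ⁅b', a'⁆ commutes with ⁅a, b⁆
  have h1 : ⁅b', a'⁆ * ⁅a, b⁆ = ⁅a, b⁆ * ⁅b', a'⁆ := by
    have h2 : ⁅b', a'⁆ = (a'⁻¹ * b'⁻¹)⁻¹ * (b'⁻¹ * a'⁻¹) := by
      rw [commutatorElement_def]; group
    have h3 : (a'⁻¹ * b'⁻¹)⁻¹ * (b'⁻¹ * a'⁻¹ * ⁅a, b⁆ * (b'⁻¹ * a'⁻¹)⁻¹) * (b'⁻¹ * a'⁻¹) =
        (a'⁻¹ * b'⁻¹)⁻¹ * (a'⁻¹ * b'⁻¹ * ⁅a, b⁆ * (a'⁻¹ * b'⁻¹)⁻¹) * (b'⁻¹ * a'⁻¹) := by rw [h]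
    rw [h2]
    have h4 : (a'⁻¹ * b'⁻¹)⁻¹ * (b'⁻¹ * a'⁻¹ * ⁅a, b⁆ * (b'⁻¹ * a'⁻¹)⁻¹) * (b'⁻¹ * a'⁻¹) =
        (a'⁻¹ * b'⁻¹)⁻¹ * (b'⁻¹ * a'⁻¹) * ⁅a, b⁆ := by group
    have h5 : (a'⁻¹ * b'⁻¹)⁻¹ * (a'⁻¹ * b'⁻¹ * ⁅a, b⁆ * (a'⁻¹ * b'⁻¹)⁻¹) * (b'⁻¹ * a'⁻¹) =
        ⁅a, b⁆ * ((a'⁻¹ * b'⁻¹)⁻¹ * (b'⁻¹ * a'⁻¹)) := by group
    rw [h4, h5] at h3
    exact h3
  have h6 : ⁅a', b'⁆ = ⁅b', a'⁆⁻¹ := (commutatorElement_inv b' a').symm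
  rw [h6]
  have h7 : ⁅b', a'⁆⁻¹ * (⁅b', a'⁆ * ⁅a, b⁆) * ⁅b', a'⁆⁻¹ =
      ⁅b', a'⁆⁻¹ * (⁅a, b⁆ * ⁅b', a'⁆) * ⁅b', a'⁆⁻¹ := by rw [h1]
  have h8 : ⁅b', a'⁆⁻¹ * (⁅b', a'⁆ * ⁅a, b⁆) * ⁅b', a'⁆⁻¹ = ⁅a, b⁆ * ⁅b', a'⁆⁻¹ := by group
  have h9 : ⁅b', a'⁆⁻¹ * (⁅a, b⁆ * ⁅b', a'⁆) * ⁅b', a'⁆⁻¹ = ⁅b', a'⁆⁻¹ * ⁅a, b⁆ := by group
  rw [h8, h9] at h7
  exact h7.symm

include hAB in
theorem ito_commutator_isMulCommutative : IsMulCommutative (⁅A, B⁆ : Subgroup G) := by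
  rw [Subgroup.commutator_def]
  apply Subgroup.isMulCommutative_closure
  rintro x ⟨a', ha', b', hb', rfl⟩ y ⟨a, ha, b, hb, rfl⟩
  exact ito_comm A B hAB ha hb ha' hb'

omit hA hB in
include hAB in
theorem ito_commutator_normal : (⁅A, B⁆ : Subgroup G).Normal := by
  have h : Subgroup.normalizer ((⁅A, B⁆ : Subgroup G) : Set G) = ⊤ := by
    rw [eq_top_iff]
    intro g _
    obtain ⟨a, ha, b, hb, rfl⟩ := hAB g
    exact Subgroup.mul_mem _ (Subgroup.normalizer_commutator_ge_left A B ha)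
      (Subgroup.normalizer_commutator_ge_right A B hb)
  exact Subgroup.normalizer_eq_top_iff.1 h

include hAB in
theorem ito_commutator_le : commutator G ≤ ⁅A, B⁆ := by
  have hn := ito_commutator_normal A B hAB
  rw [commutator_def, Subgroup.commutator_le]
  intro g₁ _ g₂ _
  obtain ⟨a, ha, b, hb, rfl⟩ := hAB g₁
  obtain ⟨a', ha', b', hb', rfl⟩ := hAB g₂
  have hN : ∀ x ∈ A, ∀ y ∈ B, ⁅x, y⁆ ∈ ⁅A, B⁆ := fun x hx y hy =>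
    Subgroup.commutator_mem_commutator hx hy
  have hN' : ∀ x ∈ A, ∀ y ∈ B, ⁅y, x⁆ ∈ ⁅A, B⁆ := fun x hx y hy => by
    rw [← commutatorElement_inv]; exact Subgroup.inv_mem _ (hN x hx y hy)
  rw [commutatorElement_mul_left_eq_conj_mul]
  apply Subgroup.mul_mem
  · apply hn.conj_mem
    rw [commutatorElement_mul_right_eq_mul_conj,
      (commutatorElement_eq_one_iff_mul_comm).2 (ito_commA B hb hb')]
    simp only [mul_one, mul_inv_cancel_right]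
    exact hN' a' ha' b hb
  · rw [commutatorElement_mul_right_eq_mul_conj,
      (commutatorElement_eq_one_iff_mul_comm).2 (ito_commA A ha ha'), one_mul]
    exact hn.conj_mem _ (hN a ha b' hb') a'

include hAB in
/-- **Itô's theorem.** -/
theorem ito_derivedSeries_two : derivedSeries G 2 = ⊥ := by
  have h1 : derivedSeries G 1 ≤ ⁅A, B⁆ := by
    rw [derivedSeries_one]; exact ito_commutator_le A B hAB
  have hc := ito_commutator_isMulCommutative A B hAB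
  rw [derivedSeries_succ, eq_bot_iff]
  refine (Subgroup.commutator_mono h1 h1).trans ?_
  rw [le_bot_iff, Subgroup.commutator_eq_bot_iff_le_centralizer]
  exact Subgroup.le_centralizer_iff_isMulCommutative.2 hc

include hAB in
theorem ito_isSolvable : Group.IsSolvable G :=
  (Group.isSolvable_def G).2 ⟨2, ito_derivedSeries_two A B hAB⟩

end ito

end Cfsg.Agent.Helper1
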