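import Mathlib
import Cfsg.Prelude.Def_SolvableStructure
import Cfsg.Agent.Helper1.Ito
import Cfsg.Agent.Helper1.Supersolvable2
import Cfsg.Agent.Helper1.Supersolvable3
import Cfsg.Agent.Helper1.Supersolvable6

set_option autoImplicit false

/-!
Itô: a nontrivial product `G = A B` of abelian subgroups has a nontrivial normal subgroup inside
`A` or inside `B`.  Consequence: products of two cyclic groups are supersolvable.
-/

namespace Cfsg.Agent.Helper1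

open scoped commutatorElement

universe u

variable {G : Type u} [Group G]

theorem mem_centralizer_sup {A K : Subgroup G} {z : G} (hA : ∀ a ∈ A, a * z = z * a)
    (hK : ∀ k ∈ K, k * z = z * k) :
    z ∈ Subgroup.centralizer ((A ⊔ K : Subgroup G) : Set G) := by
  have h1 : A ⊔ K ≤ Subgroup.centralizer {z} := by
    apply sup_le
    · intro a ha
      rw [Subgroup.mem_centralizer_iff]
      intro y hy
      rw [Set.mem_singleton_iff] at hy
      subst hy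
      exact (hA a ha).symm
    · intro k hk
      rw [Subgroup.mem_centralizer_iff]
      intro y hy
      rw [Set.mem_singleton_iff] at hy
      subst hy
      exact (hK k hk).symm
  rw [Subgroup.mem_centralizer_iff]
  intro h hh
  have h2 := h1 hh
  rw [Subgroup.mem_centralizer_iff] at h2
  exact (h2 z rfl).symm

theorem normal_of_commutator_le (H : Subgroup G) (h : commutator G ≤ H) : H.Normal := by
  constructor
  intro x hx g
  have h1 : ⁅g, x⁆ ∈ H := h (by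
    rw [commutator_def]
    exact Subgroup.commutator_mem_commutator (Subgroup.mem_top g) (Subgroup.mem_top x))
  have h2 : g * x * g⁻¹ = ⁅g, x⁆ * x := by rw [commutatorElement_def]; group
  rw [h2]; exact H.mul_mem h1 hx

section ito

variable (A B : Subgroup G) [hA : IsMulCommutative A] [hB : IsMulCommutative B]
  (hAB : ∀ g : G, ∃ a ∈ A, ∃ b ∈ B, g = a * b)

include hAB in
/-- the centre of `A [A, B]` lies in `A` when `Z(G) = 1` -/
theorem ito_center_sup_le (hZ : Subgroup.center G = ⊥) (z : G)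
    (hz : z ∈ Subgroup.centralizer ((A ⊔ ⁅A, B⁆ : Subgroup G) : Set G)) : z ∈ A := by
  obtain ⟨a, ha, b, hb, rfl⟩ := hAB z
  have hzA : ∀ x ∈ A, x * (a * b) = (a * b) * x := fun x hx =>
    Subgroup.mem_centralizer_iff.1 hz x (le_sup_left (a := A) hx)
  have hbc : b ∈ Subgroup.center G := by
    rw [Subgroup.mem_center_iff]
    intro g
    obtain ⟨a₁, ha₁, b₁, hb₁, rfl⟩ := hAB g
    have h1 : a₁ * b = b * a₁ := by
      have h2 := hzA a₁ ha₁
      have h3 : a₁ * a = a * a₁ := ito_commA A ha₁ ha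
      have h4 : a * (a₁ * b) = a * (b * a₁) := by
        calc a * (a₁ * b) = (a * a₁) * b := by rw [mul_assoc]
          _ = (a₁ * a) * b := by rw [h3]
          _ = a₁ * (a * b) := by rw [mul_assoc]
          _ = (a * b) * a₁ := h2
          _ = a * (b * a₁) := by rw [mul_assoc]
      exact mul_left_cancel h4
    have h5 : b₁ * b = b * b₁ := ito_commA B hb₁ hb
    calc a₁ * b₁ * b = a₁ * (b₁ * b) := by rw [mul_assoc]
      _ = a₁ * (b * b₁) := by rw [h5]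
      _ = (a₁ * b) * b₁ := by rw [mul_assoc]
      _ = (b * a₁) * b₁ := by rw [h1]
      _ = b * (a₁ * b₁) := by rw [mul_assoc]
  rw [hZ, Subgroup.mem_bot] at hbc
  rw [hbc, mul_one]; exact ha

end ito

theorem ito_BA' (A B : Subgroup G) (hAB : ∀ g : G, ∃ a ∈ A, ∃ b ∈ B, g = a * b) (g : G) :
    ∃ b ∈ B, ∃ a ∈ A, g = b * a := by
  obtain ⟨a, ha, b, hb, h⟩ := hAB g⁻¹
  refine ⟨b⁻¹, B.inv_mem hb, a⁻¹, A.inv_mem ha, ?_⟩
  rw [← mul_inv_rev, ← h, inv_inv]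

set_option maxHeartbeats 800000 in
/-- **Itô.** -/
theorem ito_exists_normal [Finite G] [Nontrivial G] (A B : Subgroup G) [hA : IsMulCommutative A]
    [hB : IsMulCommutative B] (hAB : ∀ g : G, ∃ a ∈ A, ∃ b ∈ B, g = a * b) :
    ∃ N : Subgroup G, N.Normal ∧ N ≠ ⊥ ∧ (N ≤ A ∨ N ≤ B) := by
  by_contra hcon
  have H0A : ∀ N : Subgroup G, N.Normal → N ≤ A → N = ⊥ := by
    intro N hN hNA
    by_contra hne
    exact hcon ⟨N, hN, hne, Or.inl hNA⟩
  have H0B : ∀ N : Subgroup G, N.Normal → N ≤ B → N = ⊥ := by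
    intro N hN hNB
    by_contra hne
    exact hcon ⟨N, hN, hne, Or.inr hNB⟩
  have hBA := ito_BA' A B hAB
  -- Step 1: the centre is trivial
  have hZ : Subgroup.center G = ⊥ := by
    rw [eq_bot_iff]
    intro z hz
    obtain ⟨a, ha, b, hb, rfl⟩ := hAB z
    have hzc : ∀ g, g * (a * b) = (a * b) * g := Subgroup.mem_center_iff.1 hz
    have hac : a ∈ Subgroup.center G := by
      rw [Subgroup.mem_center_iff]
      intro g
      obtain ⟨a₁, ha₁, b₁, hb₁, rfl⟩ := hAB g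
      have h1 : b₁ * a = a * b₁ := by
        have h2 := hzc b₁
        have h3 : b₁ * b = b * b₁ := ito_commA B hb₁ hb
        have h4 : (b₁ * a) * b = (a * b₁) * b := by
          calc (b₁ * a) * b = b₁ * (a * b) := by rw [mul_assoc]
            _ = (a * b) * b₁ := h2
            _ = a * (b * b₁) := by rw [mul_assoc]
            _ = a * (b₁ * b) := by rw [h3]
            _ = (a * b₁) * b := by rw [mul_assoc]
        exact mul_right_cancel h4
      have h5 : a₁ * a = a * a₁ := ito_commA A ha₁ ha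
      calc a₁ * b₁ * a = a₁ * (b₁ * a) := by rw [mul_assoc]
        _ = a₁ * (a * b₁) := by rw [h1]
        _ = (a₁ * a) * b₁ := by rw [mul_assoc]
        _ = (a * a₁) * b₁ := by rw [h5]
        _ = a * (a₁ * b₁) := by rw [mul_assoc]
    have ha1 : a = 1 := by
      have h1 := H0A (Subgroup.zpowers a) (normal_zpowers_of_mem_center a hac)
        (Subgroup.zpowers_le.2 ha)
      exact Subgroup.zpowers_eq_bot.1 h1
    rw [ha1, one_mul] at hz ⊢
    have hb1 : b = 1 := by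
      have h1 := H0B (Subgroup.zpowers b) (normal_zpowers_of_mem_center b hz)
        (Subgroup.zpowers_le.2 hb)
      exact Subgroup.zpowers_eq_bot.1 h1
    rw [hb1]; exact Subgroup.mem_bot.2 rfl
  set K : Subgroup G := ⁅A, B⁆ with hK
  haveI hKn : K.Normal := ito_commutator_normal A B hAB
  have hKc : IsMulCommutative K := ito_commutator_isMulCommutative A B hAB
  have hKcomm : ∀ x ∈ K, ∀ y ∈ K, x * y = y * x := fun x hx y hy =>
    congrArg Subtype.val (hKc.is_comm.comm ⟨x, hx⟩ ⟨y, hy⟩)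
  have hGK : commutator G ≤ K := ito_commutator_le A B hAB
  -- Step 2: Z(AK) = 1 = Z(BK)
  haveI hHAn : (A ⊔ K).Normal := normal_of_commutator_le _ (hGK.trans le_sup_right)
  haveI hHBn : (B ⊔ K).Normal := normal_of_commutator_le _ (hGK.trans le_sup_right)
  have hZA : (A ⊔ K) ⊓ Subgroup.centralizer ((A ⊔ K : Subgroup G) : Set G) = ⊥ := by
    apply H0A _ inferInstance
    intro z hz
    exact ito_center_sup_le A B hAB hZ z hz.2
  have hAB' : ∀ g : G, ∃ b ∈ B, ∃ a ∈ A, g = b * a := hBA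
  have hK' : (⁅B, A⁆ : Subgroup G) = K := Subgroup.commutator_comm B A
  have hZB : (B ⊔ K) ⊓ Subgroup.centralizer ((B ⊔ K : Subgroup G) : Set G) = ⊥ := by
    apply H0B _ inferInstance
    intro z hz
    have := ito_center_sup_le B A hAB' hZ z (by rw [hK']; exact hz.2)
    exact this
  -- Step 3: K is nontrivial
  have hKne : K ≠ ⊥ := by
    intro hbot
    have hcomm : commutator G = ⊥ := le_bot_iff.1 (hbot ▸ hGK)
    have hcen : Subgroup.center G = ⊤ := by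
      rw [eq_top_iff]
      intro z _
      rw [Subgroup.mem_center_iff]
      intro g
      have h1 : ⁅g, z⁆ ∈ commutator G := by
        rw [commutator_def]
        exact Subgroup.commutator_mem_commutator (Subgroup.mem_top g) (Subgroup.mem_top z)
      rw [hcomm, Subgroup.mem_bot, commutatorElement_eq_one_iff_mul_comm] at h1
      exact h1
    rw [hZ] at hcen
    exact bot_ne_top hcen
  -- Step 4: a minimal normal subgroup inside K
  let 𝒮 : Set (Subgroup G) := {N | N.Normal ∧ N ≠ ⊥ ∧ N ≤ K}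
  have hK𝒮 : K ∈ 𝒮 := ⟨hKn, hKne, le_rfl⟩
  obtain ⟨M, -, hMmin⟩ := (Set.toFinite 𝒮).exists_le_minimal hK𝒮
  obtain ⟨hMn, hMne, hMK⟩ : M ∈ 𝒮 := hMmin.prop
  obtain ⟨m, hmM, hm1⟩ : ∃ m ∈ M, m ≠ 1 := by
    by_contra hcon'
    apply hMne
    rw [eq_bot_iff]
    intro x hx
    by_contra hx1
    exact hcon' ⟨x, hx, hx1⟩
  obtain ⟨a₀, ha₀, b₀, hb₀, hm⟩ := hAB m
  -- a' = a₀⁻¹, b' = b₀ = a' * m
  set a' := a₀⁻¹ with ha'
  have ha'A : a' ∈ A := A.inv_mem ha₀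
  have hb' : a' * m = b₀ := by rw [hm, ha']; group
  -- the homomorphism x ↦ x⁻¹ a'⁻¹ x a' on K
  have hconjK : ∀ x ∈ K, a'⁻¹ * x * a' ∈ K := by
    intro x hx
    have := hKn.conj_mem x hx a'⁻¹
    simpa using this
  let φ : K →* G :=
    { toFun := fun x => (x : G)⁻¹ * a'⁻¹ * x * a'
      map_one' := by simp
      map_mul' := by
        intro x y
        have h1 := hKcomm _ (K.inv_mem x.2) _ (K.mul_mem (K.inv_mem y.2) (hconjK x x.2))
        show ((x * y : K) : G)⁻¹ * a'⁻¹ * (x * y : K) * a' =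
          ((x : G)⁻¹ * a'⁻¹ * x * a') * ((y : G)⁻¹ * a'⁻¹ * y * a')
        rw [Subgroup.coe_mul]
        have h2 := hKcomm _ (K.inv_mem y.2) _ (K.mul_mem (K.inv_mem x.2) (hconjK x x.2))
        calc ((x : G) * y)⁻¹ * a'⁻¹ * (x * y) * a'
            = ((y : G)⁻¹ * ((x : G)⁻¹ * (a'⁻¹ * x * a'))) * (a'⁻¹ * y * a') := by group
          _ = (((x : G)⁻¹ * (a'⁻¹ * x * a')) * (y : G)⁻¹) * (a'⁻¹ * y * a') := by rw [h2]
          _ = ((x : G)⁻¹ * a'⁻¹ * x * a') * ((y : G)⁻¹ * a'⁻¹ * y * a') := by group }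
  have hφ : ∀ x : K, φ x = (x : G)⁻¹ * a'⁻¹ * x * a' := fun x => rfl
  set S : Subgroup G := φ.range with hS
  -- the cocycle identity: S ≤ M
  have hident : ∀ x : K, ∃ a ∈ A, φ x = m⁻¹ * a⁻¹ * m * a := by
    intro x
    obtain ⟨a₁, ha₁, b₁, hb₁, hx⟩ := hAB (x : G)
    refine ⟨a₁⁻¹, A.inv_mem ha₁, ?_⟩
    have hb : a₁⁻¹ * (x : G) = b₁ := by rw [hx]; group
    have hcomm : b₁ * b₀ = b₀ * b₁ := ito_commA B hb₁ hb₀
    rw [← hb, ← hb'] at hcomm
    have haa : a₁⁻¹ * a' = a' * a₁⁻¹ := ito_commA A (A.inv_mem ha₁) ha'A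
    -- hcomm : a₁⁻¹ * x * (a' * m) = a' * m * (a₁⁻¹ * x)
    have h1 : (a'⁻¹ * (x : G) * a') * m = (a₁⁻¹⁻¹ * m * a₁⁻¹) * (x : G) := by
      have h2 : a₁⁻¹ * a' * ((a'⁻¹ * (x : G) * a') * m) =
          a₁⁻¹ * a' * ((a₁⁻¹⁻¹ * m * a₁⁻¹) * (x : G)) := by
        calc a₁⁻¹ * a' * ((a'⁻¹ * (x : G) * a') * m) = a₁⁻¹ * (x : G) * (a' * m) := by group
          _ = a' * m * (a₁⁻¹ * (x : G)) := hcomm
          _ = a' * a₁⁻¹ * ((a₁⁻¹⁻¹ * m * a₁⁻¹) * (x : G)) := by group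
          _ = a₁⁻¹ * a' * ((a₁⁻¹⁻¹ * m * a₁⁻¹) * (x : G)) := by rw [haa]
      exact mul_left_cancel h2
    have hmK : m ∈ K := hMK hmM
    have hcmK : a₁⁻¹⁻¹ * m * a₁⁻¹ ∈ K := by
      have := hKn.conj_mem m hmK a₁⁻¹⁻¹
      simpa using this
    rw [hφ]
    -- x⁻¹ (a'⁻¹ x a') = m⁻¹ (a₁ m a₁⁻¹)
    have h3 : (x : G)⁻¹ * (a'⁻¹ * (x : G) * a') = (a₁⁻¹⁻¹ * m * a₁⁻¹) * m⁻¹ := by
      have h4 : (a'⁻¹ * (x : G) * a') = (a₁⁻¹⁻¹ * m * a₁⁻¹) * (x : G) * m⁻¹ := by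
        rw [← h1]; group
      rw [h4]
      have h5 := hKcomm _ (K.inv_mem x.2) _ hcmK
      calc (x : G)⁻¹ * ((a₁⁻¹⁻¹ * m * a₁⁻¹) * (x : G) * m⁻¹)
          = ((x : G)⁻¹ * (a₁⁻¹⁻¹ * m * a₁⁻¹)) * (x : G) * m⁻¹ := by group
        _ = ((a₁⁻¹⁻¹ * m * a₁⁻¹) * (x : G)⁻¹) * (x : G) * m⁻¹ := by rw [h5]
        _ = (a₁⁻¹⁻¹ * m * a₁⁻¹) * m⁻¹ := by group
    have h6 := hKcomm _ hcmK _ (K.inv_mem hmK)
    calc (x : G)⁻¹ * a'⁻¹ * x * a' = (x : G)⁻¹ * (a'⁻¹ * (x : G) * a') := by group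
      _ = (a₁⁻¹⁻¹ * m * a₁⁻¹) * m⁻¹ := h3
      _ = m⁻¹ * (a₁⁻¹⁻¹ * m * a₁⁻¹) := h6
      _ = m⁻¹ * a₁⁻¹⁻¹ * m * a₁⁻¹ := by group
  have hSM : S ≤ M := by
    rintro _ ⟨x, rfl⟩
    obtain ⟨a, -, hxa⟩ := hident x
    rw [hxa]
    have h1 : a⁻¹ * m * a⁻¹⁻¹ ∈ M := hMn.conj_mem m hmM a⁻¹
    have h2 : m⁻¹ * a⁻¹ * m * a = m⁻¹ * (a⁻¹ * m * a⁻¹⁻¹) := by group
    rw [h2]
    exact M.mul_mem (M.inv_mem hmM) h1
  -- S is normal
  have hSn : S.Normal := by
    constructor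
    rintro _ ⟨x, rfl⟩ g
    have hy : g * (x : G) * g⁻¹ ∈ K := hKn.conj_mem x x.2 g
    refine ⟨⟨g * (x : G) * g⁻¹, hy⟩, ?_⟩
    rw [hφ, hφ]
    show (g * (x : G) * g⁻¹)⁻¹ * a'⁻¹ * (g * (x : G) * g⁻¹) * a' =
      g * ((x : G)⁻¹ * a'⁻¹ * x * a') * g⁻¹
    -- c = g a' g⁻¹ a'⁻¹ ∈ K
    have hc : ⁅g, a'⁆ ∈ K := hGK (by
      rw [commutator_def]
      exact Subgroup.commutator_mem_commutator (Subgroup.mem_top g) (Subgroup.mem_top a'))
    rw [commutatorElement_def] at hc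
    have hcy : (g * a' * g⁻¹ * a'⁻¹)⁻¹ * (g * (x : G) * g⁻¹) =
        (g * (x : G) * g⁻¹) * (g * a' * g⁻¹ * a'⁻¹)⁻¹ := hKcomm _ (K.inv_mem hc) _ hy
    calc (g * (x : G) * g⁻¹)⁻¹ * a'⁻¹ * (g * (x : G) * g⁻¹) * a'
        = (g * (x : G) * g⁻¹)⁻¹ * a'⁻¹ * ((g * (x : G) * g⁻¹) * (g * a' * g⁻¹ * a'⁻¹)⁻¹) *
            (g * a' * g⁻¹ * a'⁻¹) * a' := by group
      _ = (g * (x : G) * g⁻¹)⁻¹ * a'⁻¹ * ((g * a' * g⁻¹ * a'⁻¹)⁻¹ * (g * (x : G) * g⁻¹)) *
            (g * a' * g⁻¹ * a'⁻¹) * a' := by rw [hcy]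
      _ = g * ((x : G)⁻¹ * a'⁻¹ * x * a') * g⁻¹ := by group
  -- dichotomy
  by_cases hSbot : S = ⊥
  · -- a' centralizes K
    have ha'K : ∀ k ∈ K, k * a' = a' * k := by
      intro k hk
      have h1 : φ ⟨k, hk⟩ ∈ S := ⟨_, rfl⟩
      rw [hSbot, Subgroup.mem_bot, hφ] at h1
      have h2 : k * a' = a' * k * (k⁻¹ * a'⁻¹ * k * a') := by group
      rw [h2]
      have h3 : (k : G)⁻¹ * a'⁻¹ * k * a' = 1 := h1
      rw [h3, mul_one]
    have ha'Z : a' ∈ (A ⊔ K) ⊓ Subgroup.centralizer ((A ⊔ K : Subgroup G) : Set G) :=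
      ⟨le_sup_left (a := A) ha'A,
        mem_centralizer_sup (fun a ha => ito_commA A ha ha'A) ha'K⟩
    rw [hZA, Subgroup.mem_bot] at ha'Z
    rw [ha'Z, one_mul] at hb'
    have hmB : m ∈ B := hb' ▸ hb₀
    have hmZ : m ∈ (B ⊔ K) ⊓ Subgroup.centralizer ((B ⊔ K : Subgroup G) : Set G) :=
      ⟨le_sup_left (a := B) hmB,
        mem_centralizer_sup (fun b hb => ito_commA B hb hmB)
          (fun k hk => hKcomm k hk m (hMK hmM))⟩
    rw [hZB, Subgroup.mem_bot] at hmZ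
    exact hm1 hmZ
  · have hSeq : S = M := le_antisymm hSM (hMmin.2 ⟨hSn, hSbot, hSM.trans hMK⟩ hSM)
    have hminv : m⁻¹ ∈ S := by rw [hSeq]; exact M.inv_mem hmM
    obtain ⟨x, hx⟩ := hminv
    obtain ⟨a, -, hxa⟩ := hident x
    rw [hxa] at hx
    -- m⁻¹ * a⁻¹ * m * a = m⁻¹
    apply hm1
    have h1 : a⁻¹ * m * a = 1 := by
      have h2 : m⁻¹ * (a⁻¹ * m * a) = m⁻¹ * 1 := by
        calc m⁻¹ * (a⁻¹ * m * a) = m⁻¹ * a⁻¹ * m * a := by group
          _ = m⁻¹ := hx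
          _ = m⁻¹ * 1 := (mul_one _).symm
      exact mul_left_cancel h2
    calc m = a * (a⁻¹ * m * a) * a⁻¹ := by group
      _ = 1 := by rw [h1]; group

end Cfsg.Agent.Helper1
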