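import Mathlib
import Cfsg.Prelude.Def_SolvableStructure
import Cfsg.Agent.Helper1.ItoNormal

set_option autoImplicit false

/-!
Products of two cyclic subgroups are supersolvable (Huppert / Douglas), via Itô's lemma.
-/

namespace Cfsg.Agent.Helper1

universe u

theorem isSupersolvable_of_cyclic_product_aux : ∀ (n : ℕ) (G : Type u) [Group G] [Finite G]
    (A B : Subgroup G) [IsCyclic A] [IsCyclic B], Nat.card G = n →
    (∀ g : G, ∃ a ∈ A, ∃ b ∈ B, g = a * b) → Cfsg.IsSupersolvable G := by
  intro n
  induction n using Nat.strong_induction_on with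
  | _ n ih =>
    intro G _ _ A B _ _ hn hAB
    rcases subsingleton_or_nontrivial G with hsub | hnt
    · exact isSupersolvable_of_subsingleton
    · haveI : IsMulCommutative A := inferInstance
      haveI : IsMulCommutative B := inferInstance
      obtain ⟨N, hNn, hNne, hN⟩ := ito_exists_normal A B hAB
      haveI := hNn
      haveI : IsCyclic N := by
        rcases hN with h | h
        · exact Subgroup.isCyclic_of_le h
        · exact Subgroup.isCyclic_of_le h
      apply isSupersolvable_of_cyclic_normal N
      have hlt : Nat.card (G ⧸ N) < n := hn ▸ card_quotient_lt N hNne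
      haveI : IsCyclic (A.map (QuotientGroup.mk' N)) :=
        isCyclic_of_surjective _ ((QuotientGroup.mk' N).subgroupMap_surjective A)
      haveI : IsCyclic (B.map (QuotientGroup.mk' N)) :=
        isCyclic_of_surjective _ ((QuotientGroup.mk' N).subgroupMap_surjective B)
      refine ih _ hlt (G ⧸ N) (A.map (QuotientGroup.mk' N)) (B.map (QuotientGroup.mk' N)) rfl ?_
      intro q
      obtain ⟨g, rfl⟩ := QuotientGroup.mk'_surjective N q
      obtain ⟨a, ha, b, hb, rfl⟩ := hAB g
      exact ⟨_, Subgroup.mem_map_of_mem _ ha, _, Subgroup.mem_map_of_mem _ hb, map_mul _ _ _⟩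

theorem isSupersolvable_of_cyclic_product {G : Type u} [Group G] [Finite G]
    (A B : Subgroup G) [IsCyclic A] [IsCyclic B]
    (hAB : ∀ g : G, ∃ a ∈ A, ∃ b ∈ B, g = a * b) : Cfsg.IsSupersolvable G :=
  isSupersolvable_of_cyclic_product_aux _ G A B rfl hAB

end Cfsg.Agent.Helper1
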