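import Mathlib
import Cfsg.Prelude.Def_Characters
import Cfsg.Prelude.Def_Blocks
import Cfsg.Agent.Helper6.IrrOver
import Cfsg.Agent.Helper6.IrrCrit
import Cfsg.Agent.Helper6.DefectZeroBlock
import Cfsg.Agent.Helper6.Linear
import Cfsg.Agent.Helper6.BlockPart

/-!
# Groups all of whose irreducible character degrees are `< p`: the Sylow `p`-subgroup is abelian
-/

set_option autoImplicit false

namespace Cfsg.Agent.Helper1.DegLt

theorem charDegree_eq_of_apply_one' {X : Type*} [Group X] (f : X → ℂ) (n : ℕ) (h : f 1 = (n : ℂ)) :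
    Cfsg.charDegree f = n := by
  unfold Cfsg.charDegree
  rw [h, Complex.natCast_re, Nat.floor_natCast]

open Cfsg.Agent.Helper6

universe u

variable {G : Type u} [Group G]

/-- If all irreducible degrees of `G` are `< p`, the same holds for every subgroup. -/
theorem degree_lt_subgroup [Finite G] (p : ℕ)
    (hb : ∀ χ : Cfsg.IrrCharacter G, Cfsg.charDegree (χ : G → ℂ) < p) (H : Subgroup G)
    (ψ : Cfsg.IrrCharacter H) : Cfsg.charDegree (ψ : H → ℂ) < p := by
  classical
  haveI := Fintype.ofFinite G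
  haveI : Fintype H := Fintype.ofFinite H
  obtain ⟨χ, hχ⟩ := exists_irr_over H ψ
  have hres : Cfsg.IsCharacter H (fun h : H => (χ : G → ℂ) h) :=
    IsCharacter.restrict H (IsIrrCharacter.isCharacter χ.2)
  obtain ⟨a, b, ha, hb', hab⟩ := degree_le_of_classInner_ne_zero hres ψ.2 hχ
  have h1 : Cfsg.charDegree (ψ : H → ℂ) = a := charDegree_eq_of_apply_one' _ _ ha
  have h2 : Cfsg.charDegree (χ : G → ℂ) = b := by
    apply charDegree_eq_of_apply_one'
    simpa using hb'
  rw [h1]
  have := hb χ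
  rw [h2] at this
  omega

/-- If all irreducible degrees of `G` are `< p`, every `p`-subgroup is abelian. -/
theorem comm_of_isPGroup [Finite G] (p : ℕ) (hp : p.Prime)
    (hb : ∀ χ : Cfsg.IrrCharacter G, Cfsg.charDegree (χ : G → ℂ) < p) (H : Subgroup G)
    (hH : IsPGroup p H) : ∀ a b : H, a * b = b * a := by
  classical
  haveI : Fact p.Prime := ⟨hp⟩
  rw [comm_iff_forall_irr_degree_one]
  intro ψ
  have hlt := degree_lt_subgroup p hb H ψ
  have hdvd := charDegree_dvd_card ψ.2
  obtain ⟨n, hn⟩ := hH.exists_card_eq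
  rw [hn] at hdvd
  obtain ⟨k, -, hk⟩ := (Nat.dvd_prime_pow hp).mp hdvd
  have hk0 : k = 0 := by
    by_contra hne
    have : p ^ 1 ≤ p ^ k := Nat.pow_le_pow_right hp.pos (Nat.one_le_iff_ne_zero.mpr hne)
    rw [pow_one] at this
    omega
  rw [hk0, pow_zero] at hk
  rw [← charDegree_cast_of_isCharacter (IsIrrCharacter.isCharacter ψ.2), hk]
  simp

end Cfsg.Agent.Helper1.DegLt
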