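import Mathlib

/-!
# Orbit counting on the set of Sylow subgroups (pure group theory)
-/

set_option autoImplicit false

namespace Cfsg.Agent.Helper1.DegLt

open MulAction

universe u v

variable {G : Type u} [Group G]

/-- A smaller subgroup has at least as many orbits. -/
theorem card_orbits_le {X : Type v} [MulAction G X] [Finite X] (K H : Subgroup G) (hKH : K ≤ H) :
    Nat.card (Quotient (orbitRel H X)) ≤ Nat.card (Quotient (orbitRel K X)) := by
  have hmap : ∀ a b : X, (orbitRel K X) a b → (orbitRel H X) (id a) (id b) := by
    intro a b hab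
    obtain ⟨k, hk⟩ := hab
    exact ⟨⟨k.1, hKH k.2⟩, hk⟩
  apply Nat.card_le_card_of_surjective (Quotient.map' id hmap)
  intro q
  induction q using Quotient.inductionOn' with
  | h a => exact ⟨Quotient.mk'' a, rfl⟩

/-- Burnside's orbit-counting lemma for a subgroup acting on a `G`-set. -/
theorem burnside_subgroup {X : Type v} [MulAction G X] [Finite X] (H : Subgroup G) [Fintype H] :
    ∑ h : H, Nat.card (fixedBy X (h : G)) = Nat.card (Quotient (orbitRel H X)) * Nat.card H := by
  classical
  haveI : Fintype X := Fintype.ofFinite X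
  haveI : Fintype (Quotient (orbitRel H X)) := Fintype.ofFinite _
  have h := sum_card_fixedBy_eq_card_orbits_mul_card_group H X
  rw [Nat.card_eq_fintype_card, Nat.card_eq_fintype_card, ← h]
  apply Finset.sum_congr rfl
  intro x _
  rw [Nat.card_eq_fintype_card]
  rfl

/-- `P` acting on the set of Sylow `p`-subgroups: all orbits except `{P}` have size at least `p`. -/
theorem sylow_orbit_bound [Finite G] (p : ℕ) [hp : Fact p.Prime] (P : Sylow p G) :
    p * Nat.card (Quotient (orbitRel (P : Subgroup G) (Sylow p G))) + 1 ≤
      Nat.card (Sylow p G) + p := by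
  classical
  haveI : Fintype (Sylow p G) := Fintype.ofFinite _
  haveI : Fintype (Quotient (orbitRel (P : Subgroup G) (Sylow p G))) := Fintype.ofFinite _
  have e := selfEquivSigmaOrbits' (P : Subgroup G) (Sylow p G)
  have hcard : Nat.card (Sylow p G) =
      ∑ ω : orbitRel.Quotient (P : Subgroup G) (Sylow p G), Nat.card ω.orbit := by
    rw [Nat.card_congr e, Nat.card_sigma]
  have hterm : ∀ ω : orbitRel.Quotient (P : Subgroup G) (Sylow p G),
      p ≤ Nat.card ω.orbit + if ω = Quotient.mk'' P then (p - 1) else 0 := by
    intro ω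
    induction ω using Quotient.inductionOn' with
    | h Q =>
      have horb : orbitRel.Quotient.orbit
          (Quotient.mk'' Q : orbitRel.Quotient (P : Subgroup G) (Sylow p G)) =
          orbit (P : Subgroup G) Q := orbitRel.Quotient.orbit_mk Q
      rw [horb]
      obtain ⟨n, hn⟩ := P.2.card_orbit Q
      rw [hn]
      by_cases hn0 : n = 0
      · have hfix : Q ∈ fixedPoints (P : Subgroup G) (Sylow p G) := by
          rw [mem_fixedPoints_iff_card_orbit_eq_one, ← Nat.card_eq_fintype_card, hn, hn0, pow_zero]
        have hPQ : (P : Subgroup G) ≤ Q := (P.2.sylow_mem_fixedPoints_iff).mp hfix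
        have hQP : Q = P := by
          apply Sylow.ext
          exact P.3 Q.2 hPQ
        rw [hQP, if_pos rfl, hn0, pow_zero]
        have := hp.out.pos
        omega
      · have : p ^ 1 ≤ p ^ n :=
          Nat.pow_le_pow_right hp.out.pos (Nat.one_le_iff_ne_zero.mpr hn0)
        rw [pow_one] at this
        omega
  have hsum := Finset.sum_le_sum (fun ω _ => hterm ω)
    (s := (Finset.univ : Finset (orbitRel.Quotient (P : Subgroup G) (Sylow p G))))
  rw [Finset.sum_const, Finset.card_univ, smul_eq_mul, Finset.sum_add_distrib,
    Finset.sum_ite_eq' Finset.univ, if_pos (Finset.mem_univ _), ← hcard,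
    ← Nat.card_eq_fintype_card] at hsum
  have := hp.out.pos
  rw [mul_comm]
  change Nat.card (orbitRel.Quotient (P : Subgroup G) (Sylow p G)) * p + 1 ≤ _
  omega

end Cfsg.Agent.Helper1.DegLt
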