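import Mathlib
import Cfsg.Prelude.Def_Characters
import Cfsg.Prelude.Def_Blocks
import Cfsg.Agent.Helper1.DegLtA
import Cfsg.Agent.Helper1.DegLtB
import Cfsg.Agent.Helper6.PermChar
import Cfsg.Agent.Helper6.Induced
import Cfsg.Agent.Helper6.IndFun
import Cfsg.Agent.Helper6.Expansion
import Cfsg.Agent.Helper6.OddReal

/-!
# Groups all of whose irreducible character degrees are `< p`: the Sylow `p`-subgroup is normal
-/

set_option autoImplicit false

namespace Cfsg.Agent.Helper1.DegLt

open Cfsg.Agent.Helper6 MulAction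

open scoped ComplexConjugate

universe u v

variable {G : Type u} [Group G]

/-- `[π, 1] = 1` and `[π, π] = ` number of orbits of a point stabilizer, for the permutation character
of a transitive action. -/
theorem permChar_inner [Fintype G] (X : Type v) [MulAction G X] [Finite X]
    [IsPretransitive G X] (x : X) :
    Cfsg.classInner (fun g : G => (Nat.card (fixedBy X g) : ℂ)) (fun _ => (1 : ℂ)) = 1 ∧
    Cfsg.classInner (fun g : G => (Nat.card (fixedBy X g) : ℂ))
      (fun g : G => (Nat.card (fixedBy X g) : ℂ)) =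
      (Nat.card (Quotient (orbitRel (stabilizer G x) X)) : ℂ) := by
  classical
  haveI : Fintype (stabilizer G x) := Fintype.ofFinite _
  have hπ := permChar_eq_indFun (G := G) X x
  have hH : (Nat.card (stabilizer G x) : ℂ) ≠ 0 := by
    have : 0 < Nat.card (stabilizer G x) := Nat.card_pos
    exact_mod_cast this.ne'
  constructor
  · rw [hπ, frobenius_reciprocity _ _ _ (IsCharacter.isClassFunction isCharacter_one),
      classInner_def]
    simp only [map_one, mul_one, Finset.sum_const, Finset.card_univ, nsmul_eq_mul]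
    rw [← Nat.card_eq_fintype_card]
    exact inv_mul_cancel₀ hH
  · have hcf : Cfsg.IsClassFunction G (fun g : G => (Nat.card (fixedBy X g) : ℂ)) := by
      rw [hπ]
      exact indFun_isClassFunction _ _
    conv_lhs => arg 1; rw [hπ]
    rw [frobenius_reciprocity _ _ _ hcf, classInner_def]
    simp only [one_mul, Complex.conj_natCast]
    rw [← Nat.cast_sum, burnside_subgroup]
    push_cast
    field_simp

/-- pure arithmetic core -/
theorem arith_core (p X R c cH : ℕ) (hp : 2 ≤ p) (h1 : X ≤ 1 + (p - 1) * R) (h2 : R + 1 = cH)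
    (h3 : cH ≤ c) (h4 : p * c + 1 ≤ X + p) : X ≤ 1 := by
  obtain ⟨q, rfl⟩ : ∃ q, p = q + 1 := ⟨p - 1, by omega⟩
  rw [Nat.add_sub_cancel] at h1
  have h5 : q * R + q ≤ q * c := by
    have : q * (R + 1) ≤ q * c := Nat.mul_le_mul_left q (by omega)
    rw [mul_add, mul_one] at this
    exact this
  have h6 : (q + 1) * c = q * c + c := by ring
  rw [h6] at h4
  have hc : c ≤ 1 := by omega
  have hR : R = 0 := by omega
  rw [hR, mul_zero] at h1
  omega

/-- If all irreducible degrees of `G` are `< p`, the Sylow `p`-subgroups are normal. -/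
theorem sylow_normal [Finite G] (p : ℕ) (hp : p.Prime)
    (hb : ∀ χ : Cfsg.IrrCharacter G, Cfsg.charDegree (χ : G → ℂ) < p) (P : Sylow p G) :
    (P : Subgroup G).Normal := by
  classical
  haveI := Fintype.ofFinite G
  haveI : Fact p.Prime := ⟨hp⟩
  haveI : Fintype (Sylow p G) := Fintype.ofFinite _
  haveI : Finite (Cfsg.IrrCharacter G) := irr_finite
  haveI : Fintype (Cfsg.IrrCharacter G) := Fintype.ofFinite _
  set π : G → ℂ := fun g : G => (Nat.card (fixedBy (Sylow p G) g) : ℂ) with hπdef
  obtain ⟨hπ1, hππ⟩ := permChar_inner (G := G) (Sylow p G) P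
  have hπ := permChar_eq_indFun (G := G) (Sylow p G) P
  have hπc : Cfsg.IsCharacter G π := by
    rw [hπdef, hπ]
    exact isCharacter_indFun _ _ isCharacter_one
  have hcf := IsCharacter.isClassFunction hπc
  have hn : ∀ θ : Cfsg.IrrCharacter G, ∃ n : ℕ, Cfsg.classInner π (θ : G → ℂ) = n := fun θ =>
    classInner_char_char_nat hπc (IsIrrCharacter.isCharacter θ.2)
  choose n hn using hn
  have hd : ∀ θ : Cfsg.IrrCharacter G, (θ : G → ℂ) 1 = (Cfsg.charDegree (θ : G → ℂ) : ℂ) :=
    fun θ => (charDegree_cast_of_isCharacter (IsIrrCharacter.isCharacter θ.2)).symm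
  have hexp := classFunction_expansion π hcf
  -- degree
  have hX : Nat.card (Sylow p G) = ∑ θ : Cfsg.IrrCharacter G, n θ * Cfsg.charDegree (θ : G → ℂ) := by
    have h1 : π 1 = (Nat.card (Sylow p G) : ℂ) := by
      rw [hπdef]
      simp only
      congr 1
      rw [fixedBy_one_eq_univ]
      exact Nat.card_congr (Equiv.Set.univ _)
    have h2 : π 1 = ((∑ θ : Cfsg.IrrCharacter G, n θ * Cfsg.charDegree (θ : G → ℂ) : ℕ) : ℂ) := by
      conv_lhs => rw [hexp]
      rw [Finset.sum_apply]
      push_cast
      apply Finset.sum_congr rfl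
      intro θ _
      rw [Pi.smul_apply, smul_eq_mul, hn, hd]
    rw [h1] at h2
    exact_mod_cast h2
  -- norm
  have hnorm : Nat.card (Quotient (orbitRel (stabilizer G P) (Sylow p G))) =
      ∑ θ : Cfsg.IrrCharacter G, n θ * n θ := by
    have h2 : Cfsg.classInner π π = ((∑ θ : Cfsg.IrrCharacter G, n θ * n θ : ℕ) : ℂ) := by
      conv_lhs => arg 2; rw [hexp]
      rw [classInner_sum_right]
      push_cast
      apply Finset.sum_congr rfl
      intro θ _
      rw [classInner_smul_right, hn, Complex.conj_natCast]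
    rw [hππ] at h2
    exact_mod_cast h2
  -- trivial character
  set t : Cfsg.IrrCharacter G := ⟨fun _ => (1 : ℂ), isIrrCharacter_one⟩ with ht
  have hnt : n t = 1 := by
    have := hn t
    rw [ht] at this
    simp only at this
    rw [hπ1] at this
    exact_mod_cast this.symm
  have hdt : Cfsg.charDegree (t : G → ℂ) = 1 := by
    apply charDegree_eq_of_apply_one'
    rw [ht]
    simp
  -- split off the trivial character
  have hX' := hX
  rw [← Finset.add_sum_erase Finset.univ _ (Finset.mem_univ t), hnt, hdt] at hX'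
  have hnorm' := hnorm
  rw [← Finset.add_sum_erase Finset.univ _ (Finset.mem_univ t), hnt] at hnorm'
  have hle : ∑ θ ∈ Finset.univ.erase t, n θ * Cfsg.charDegree (θ : G → ℂ) ≤
      (p - 1) * ∑ θ ∈ Finset.univ.erase t, n θ * n θ := by
    rw [Finset.mul_sum]
    apply Finset.sum_le_sum
    intro θ _
    have h1 := hb θ
    have h2 : Cfsg.charDegree (θ : G → ℂ) ≤ p - 1 := by omega
    by_cases h0 : n θ = 0
    · rw [h0]; simp
    · calc n θ * Cfsg.charDegree (θ : G → ℂ) ≤ n θ * (p - 1) := Nat.mul_le_mul_left _ h2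
        _ = (p - 1) * (n θ * 1) := by ring
        _ ≤ (p - 1) * (n θ * n θ) :=
          Nat.mul_le_mul_left _ (Nat.mul_le_mul_left _ (Nat.one_le_iff_ne_zero.mpr h0))
  have hPH : (P : Subgroup G) ≤ stabilizer G P := by
    intro g hg
    rw [mem_stabilizer_iff, Sylow.smul_eq_iff_mem_normalizer]
    exact Subgroup.le_normalizer hg
  have horb := card_orbits_le (X := Sylow p G) (P : Subgroup G) (stabilizer G P) hPH
  have hbound := sylow_orbit_bound p P
  have hfinal := arith_core p (Nat.card (Sylow p G))
    (∑ θ ∈ Finset.univ.erase t, n θ * n θ)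
    (Nat.card (Quotient (orbitRel (P : Subgroup G) (Sylow p G))))
    (Nat.card (Quotient (orbitRel (stabilizer G P) (Sylow p G)))) hp.two_le (by omega) (by omega) horb
    hbound
  haveI : Subsingleton (Sylow p G) := by
    rw [← Finite.card_le_one_iff_subsingleton]
    exact hfinal
  exact Sylow.normal_of_subsingleton P

end Cfsg.Agent.Helper1.DegLt
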