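import Mathlib
import Cfsg.Agent.Helper4.Burnside

/-!
# Derangements forming a single conjugacy class: generalities and the sharply 2-transitive case
-/

set_option autoImplicit false

namespace Cfsg.Agent.Helper1.DerClass

open MulAction

/-- The classes meeting a predicate form a singleton iff the predicate is satisfiable and
any two elements satisfying it are conjugate. -/
theorem card_eq_one_iff {G : Type*} [Group G] (P : G → Prop) :
    Nat.card {c : ConjClasses G // ∃ g : G, ConjClasses.mk g = c ∧ P g} = 1 ↔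
      (∃ g, P g) ∧ ∀ g g', P g → P g' → IsConj g g' := by
  rw [Nat.card_eq_one_iff_unique]
  constructor
  · rintro ⟨hs, ⟨⟨c, g, hg, hP⟩⟩⟩
    refine ⟨⟨g, hP⟩, fun a b ha hb => ?_⟩
    have := hs.elim ⟨ConjClasses.mk a, a, rfl, ha⟩ ⟨ConjClasses.mk b, b, rfl, hb⟩
    exact ConjClasses.mk_eq_mk_iff_isConj.mp (congrArg Subtype.val this)
  · rintro ⟨⟨g, hg⟩, h⟩
    refine ⟨⟨?_⟩, ⟨⟨ConjClasses.mk g, g, rfl, hg⟩⟩⟩
    rintro ⟨c, a, rfl, ha⟩ ⟨c', b, rfl, hb⟩
    exact Subtype.ext (ConjClasses.mk_eq_mk_iff_isConj.mpr (h a b ha hb))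

variable {G : Type*} [Group G] [Finite G] {Ω : Type*} [Fintype Ω] [MulAction G Ω]

omit [Finite G] in
/-- In a sharply 2-transitive group, the number of derangements is `n - 1`. -/
theorem card_derangements [Fintype G] [DecidableEq G] [DecidablePred fun g : G => ∀ ω : Ω, g • ω ≠ ω]
    [IsPretransitive G Ω] [Nonempty Ω]
    (hsharp : ∀ g : G, g ≠ 1 → ∀ a b : Ω, a ≠ b → g • a = a → g • b ≠ b) :
    (Finset.univ.filter (fun g : G => ∀ ω : Ω, g • ω ≠ ω)).card + 1 = Fintype.card Ω := by
  classical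
  have hA : ∑ g : G, Nat.card (fixedBy Ω g) = Nat.card G :=
    Cfsg.Agent.Helper4.burnside_transitive
  have hn : 1 ≤ Fintype.card Ω := Fintype.card_pos
  have key : ∀ g : G, Nat.card (fixedBy Ω g) + (if (∀ ω : Ω, g • ω ≠ ω) then 1 else 0) =
      1 + (if g = 1 then Fintype.card Ω - 1 else 0) := by
    intro g
    by_cases hg : g = 1
    · subst hg
      have h1 : Nat.card (fixedBy Ω (1 : G)) = Fintype.card Ω := by
        rw [← Nat.card_eq_fintype_card]
        apply Nat.card_congr
        exact Equiv.subtypeUnivEquiv (fun x => by simp)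
      have h2 : ¬ ∀ ω : Ω, (1 : G) • ω ≠ ω := by
        intro h
        obtain ⟨ω⟩ := ‹Nonempty Ω›
        exact h ω (one_smul _ _)
      rw [h1, if_neg h2, if_pos rfl]
      omega
    · rw [if_neg hg]
      by_cases hd : ∀ ω : Ω, g • ω ≠ ω
      · rw [if_pos hd]
        have : IsEmpty (fixedBy Ω g) := ⟨fun x => hd x.1 x.2⟩
        rw [Nat.card_of_isEmpty]
      · rw [if_neg hd]
        push Not at hd
        obtain ⟨ω, hω⟩ := hd
        have h1 : Nonempty (fixedBy Ω g) := ⟨⟨ω, hω⟩⟩
        have h2 : Subsingleton (fixedBy Ω g) := by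
          constructor
          rintro ⟨a, ha⟩ ⟨b, hb⟩
          by_contra hab
          have : a ≠ b := fun h => hab (Subtype.ext h)
          exact hsharp g hg a b this ha hb
        have : Nat.card (fixedBy Ω g) = 1 := Nat.card_eq_one_iff_unique.mpr ⟨h2, h1⟩
        rw [this]
  have hsum := Finset.sum_congr (rfl : (Finset.univ : Finset G) = Finset.univ)
    (fun g _ => key g)
  rw [Finset.sum_add_distrib, Finset.sum_add_distrib, hA, Finset.sum_ite_eq'] at hsum
  simp only [Finset.mem_univ, if_true, Finset.sum_const, smul_eq_mul, mul_one,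
    Finset.card_univ] at hsum
  rw [Finset.sum_boole] at hsum
  rw [Nat.card_eq_fintype_card] at hsum
  simp only [Nat.cast_id] at hsum
  omega

/-- In a sharply 2-transitive group, any two derangements are conjugate. -/
theorem isConj_of_sharp (hΩ : 2 ≤ Fintype.card Ω)
    (h2 : IsMultiplyPretransitive G Ω 2)
    (hsharp : ∀ g : G, g ≠ 1 → ∀ a b : Ω, a ≠ b → g • a = a → g • b ≠ b)
    (d d' : G) (hd : ∀ ω : Ω, d • ω ≠ ω) (hd' : ∀ ω : Ω, d' • ω ≠ ω) : IsConj d d' := by
  classical
  haveI : Fintype G := Fintype.ofFinite G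
  haveI : IsPretransitive G Ω := isPretransitive_of_is_two_pretransitive
  have hpos : 0 < Fintype.card Ω := by omega
  haveI : Nonempty Ω := Fintype.card_pos_iff.mp hpos
  obtain ⟨α⟩ := ‹Nonempty Ω›
  have hcard := card_derangements (G := G) (Ω := Ω) hsharp
  set D := Finset.univ.filter (fun g : G => ∀ ω : Ω, g • ω ≠ ω) with hD
  -- the stabilizer has at least `n - 1` elements
  have h2' : ∀ a b c e : Ω, a ≠ b → c ≠ e → ∃ g : G, g • a = c ∧ g • b = e :=
    fun a b c e h h' => is_two_pretransitive_iff.mp h2 h h'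
  have hβ : d • α ≠ α := hd α
  have hex : ∀ γ : {γ : Ω // γ ≠ α}, ∃ h : stabilizer G α, (h : G) • (d • α) = γ := by
    rintro ⟨γ, hγ⟩
    obtain ⟨g, hg1, hg2⟩ := h2' α (d • α) α γ hβ.symm hγ.symm
    exact ⟨⟨g, hg1⟩, hg2⟩
  choose f hf using hex
  have hfinj : Function.Injective f := by
    intro γ γ' h
    apply Subtype.ext
    rw [← hf γ, ← hf γ', h]
  have hle1 : Fintype.card {γ : Ω // γ ≠ α} ≤ Fintype.card (stabilizer G α) :=
    Fintype.card_le_of_injective f hfinj
  have hle2 : Fintype.card {γ : Ω // γ ≠ α} = Fintype.card Ω - 1 := by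
    rw [Fintype.card_subtype_compl, Fintype.card_subtype_eq]
  -- conjugation map
  let φ : stabilizer G α → G := fun h => (h : G) * d * (h : G)⁻¹
  have hφinj : Function.Injective φ := by
    intro h h' he
    have he' : (h : G) * d * (h : G)⁻¹ = (h' : G) * d * (h' : G)⁻¹ := he
    have hc : ((h' : G)⁻¹ * (h : G)) * d = d * ((h' : G)⁻¹ * (h : G)) := by
      calc ((h' : G)⁻¹ * (h : G)) * d = (h' : G)⁻¹ * ((h : G) * d * (h : G)⁻¹) * (h : G) := by
            group
        _ = (h' : G)⁻¹ * ((h' : G) * d * (h' : G)⁻¹) * (h : G) := by rw [he']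
        _ = d * ((h' : G)⁻¹ * (h : G)) := by group
    have hfix : ((h' : G)⁻¹ * (h : G)) • α = α := by
      have := (stabilizer G α).mul_mem ((stabilizer G α).inv_mem h'.2) h.2
      exact mem_stabilizer_iff.mp this
    have hfix' : ((h' : G)⁻¹ * (h : G)) • (d • α) = d • α := by
      rw [← mul_smul, hc, mul_smul, hfix]
    have h1 : (h' : G)⁻¹ * (h : G) = 1 := by
      by_contra hne
      exact hsharp _ hne α (d • α) hβ.symm hfix hfix'
    apply Subtype.ext
    rw [inv_mul_eq_one] at h1
    exact h1.symm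
  have himg : Finset.univ.image φ ⊆ D := by
    intro x hx
    obtain ⟨h, -, rfl⟩ := Finset.mem_image.mp hx
    rw [hD, Finset.mem_filter]
    refine ⟨Finset.mem_univ _, ?_⟩
    intro ω hω
    apply hd ((h : G)⁻¹ • ω)
    have : ((h : G) * d * (h : G)⁻¹) • ω = ω := hω
    rw [mul_smul, mul_smul, smul_eq_iff_eq_inv_smul] at this
    exact this
  have hcardimg : (Finset.univ.image φ).card = Fintype.card (stabilizer G α) := by
    rw [Finset.card_image_of_injective _ hφinj, Finset.card_univ]
  have heq : Finset.univ.image φ = D := by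
    apply Finset.eq_of_subset_of_card_le himg
    rw [hcardimg]
    omega
  have hd'D : d' ∈ D := by
    rw [hD, Finset.mem_filter]
    exact ⟨Finset.mem_univ _, hd'⟩
  rw [← heq] at hd'D
  obtain ⟨h, -, hh⟩ := Finset.mem_image.mp hd'D
  exact isConj_iff.mpr ⟨h, hh⟩

end Cfsg.Agent.Helper1.DerClass
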