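import Mathlib
import Cfsg.Prelude.Def_Solvable
import Cfsg.Agent.Helper1.Fitting
import Cfsg.Agent.Helper4.PrimitiveSocle

/-!
# Faithful primitive actions: centre and Fitting subgroup
-/

set_option autoImplicit false

namespace Cfsg.Agent.Helper1.ExtPrim

open MulAction

theorem exists_linEquiv_fin (K V : Type*) [Field K] [Finite K] [AddCommGroup V] [Module K V]
    [Finite V] (e : ℕ) (h : Nat.card V = Nat.card K ^ e) : Nonempty (V ≃ₗ[K] (Fin e → K)) := by
  have : Module.Finite K V := Module.Finite.of_finite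
  have h1 := Module.natCard_eq_pow_finrank (K := K) (V := V)
  rw [h] at h1
  have hK : 2 ≤ Nat.card K := by
    have : Nontrivial K := inferInstance
    exact Finite.one_lt_card
  have hfr : Module.finrank K V = e := (Nat.pow_right_injective hK h1).symm
  apply FiniteDimensional.nonempty_linearEquiv_of_finrank_eq
  rw [hfr, Module.finrank_fin_fun]

theorem exists_inj_GL_lin (K V : Type*) [Field K] [Finite K] [AddCommGroup V] [Module K V]
    [Finite V] (e : ℕ) (h : Nat.card V = Nat.card K ^ e) :
    ∃ f : (V ≃ₗ[K] V) →* GL (Fin e) K, Function.Injective f := by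
  classical
  obtain ⟨E⟩ := exists_linEquiv_fin K V e h
  refine ⟨(Matrix.GeneralLinearGroup.toLin.symm.toMonoidHom.comp
    (LinearMap.GeneralLinearGroup.congrLinearEquiv E).toMonoidHom).comp
    ((LinearMap.GeneralLinearGroup.generalLinearEquiv K V).symm.toMonoidHom), ?_⟩
  intro a b h
  apply (LinearMap.GeneralLinearGroup.generalLinearEquiv K V).symm.injective
  apply (LinearMap.GeneralLinearGroup.congrLinearEquiv E).injective
  apply Matrix.GeneralLinearGroup.toLin.symm.injective
  exact h

theorem exists_inj_GL_of_hom (K V : Type*) [Field K] [Finite K] [AddCommGroup V] [Module K V]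
    [Finite V] (e : ℕ) (h : Nat.card V = Nat.card K ^ e) (A : Type*) [Group A]
    (g : A →* (V ≃ₗ[K] V)) (hg : Function.Injective g) :
    ∃ f : A →* GL (Fin e) K, Function.Injective f := by
  obtain ⟨f, hf⟩ := exists_inj_GL_lin K V e h
  exact ⟨f.comp g, hf.comp hg⟩

/-- automorphisms of an abelian group of exponent `p` act `ZMod p`-linearly -/
noncomputable def autToLin' (p : ℕ) [Fact p.Prime] (N : Type*) [CommGroup N]
    [Module (ZMod p) (Additive N)] :
    MulAut N →* (Additive N ≃ₗ[ZMod p] Additive N) where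
  toFun e := { MulEquiv.toAdditive e with
    map_smul' := fun c x => ZMod.map_smul (MulEquiv.toAdditive e) c x }
  map_one' := by ext; rfl
  map_mul' := fun a b => by ext; rfl

theorem autToLin'_injective (p : ℕ) [Fact p.Prime] (N : Type*) [CommGroup N]
    [Module (ZMod p) (Additive N)] :
    Function.Injective (autToLin' p N) := by
  intro a b h
  ext x
  have := LinearEquiv.congr_fun h (Additive.ofMul x)
  exact this

/-- the automorphism group of an elementary abelian group of order `p ^ e` embeds in `GL_e(p)` -/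
theorem exists_inj_GL (N : Type*) [CommGroup N] (p e : ℕ) [Fact p.Prime]
    (hN : Nat.card N = p ^ e) (hexp : ∀ x : N, x ^ p = 1) :
    ∃ f : MulAut N →* GL (Fin e) (ZMod p), Function.Injective f := by
  classical
  have hp : p.Prime := Fact.out
  have : Finite N := Nat.finite_of_card_ne_zero (by rw [hN]; exact pow_ne_zero _ hp.ne_zero)
  let inst : Module (ZMod p) (Additive N) := AddCommGroup.zmodModule (n := p) (fun x => by
    change Additive.ofMul (x.toMul ^ p) = 0
    rw [hexp]; rfl)
  have : Finite (Additive N) := ‹Finite N›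
  have h2 : Nat.card (Additive N) = Nat.card (ZMod p) ^ e := by rw [Nat.card_zmod]; exact hN
  exact @exists_inj_GL_of_hom (ZMod p) (Additive N) _ _ _ inst _ e h2 (MulAut N) _
    (@autToLin' p _ N _ inst) (@autToLin'_injective p _ N _ inst)

theorem exists_inj_GL' (N : Type*) [Group N] (p e : ℕ) [Fact p.Prime]
    (hcomm : ∀ a b : N, a * b = b * a)
    (hN : Nat.card N = p ^ e) (hexp : ∀ x : N, x ^ p = 1) :
    ∃ f : MulAut N →* GL (Fin e) (ZMod p), Function.Injective f := by
  letI : CommGroup N := { ‹Group N› with mul_comm := hcomm }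
  exact exists_inj_GL N p e hN hexp

variable {H X : Type*} [Group H] [MulAction H X] [FaithfulSMul H X]

theorem abelian_normal_free [IsPreprimitive H X] (N : Subgroup H) [N.Normal] (hN : N ≠ ⊥)
    (hab : ∀ a ∈ N, ∀ b ∈ N, a * b = b * a) : ∀ n ∈ N, ∀ x : X, n • x = x → n = 1 := by
  haveI := Cfsg.Agent.Helper4.normal_isPretransitive (Ω := X) N hN
  exact fun n hn x hx =>
    Cfsg.Agent.Helper4.eq_one_of_commute_transitive N n (fun k hk => hab n hn k hk) x hx

theorem centralizer_abelian_normal [IsPreprimitive H X] [Nonempty X] (N : Subgroup H) [N.Normal]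
    (hN : N ≠ ⊥) (hab : ∀ a ∈ N, ∀ b ∈ N, a * b = b * a) :
    Subgroup.centralizer (N : Set H) = N := by
  haveI := Cfsg.Agent.Helper4.normal_isPretransitive (Ω := X) N hN
  apply le_antisymm
  · intro c hc
    obtain ⟨x⟩ := ‹Nonempty X›
    obtain ⟨n, hn⟩ := exists_smul_eq N x (c • x)
    have hn' : (n : H) • x = c • x := hn
    have h1 : ((n : H)⁻¹ * c) • x = x := by rw [mul_smul, ← hn', inv_smul_smul]
    have h2 : ∀ k ∈ N, ((n : H)⁻¹ * c) * k = k * ((n : H)⁻¹ * c) := by
      intro k hk
      have hck : c * k = k * c := (hc k hk).symm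
      have hnk : (n : H)⁻¹ * k = k * (n : H)⁻¹ := hab _ (N.inv_mem n.2) k hk
      rw [mul_assoc, hck, ← mul_assoc, hnk, mul_assoc]
    have h3 := Cfsg.Agent.Helper4.eq_one_of_commute_transitive N _ h2 x h1
    rw [inv_mul_eq_one] at h3
    rw [← h3]
    exact n.2
  · intro n hn
    rw [Subgroup.mem_centralizer_iff]
    intro k hk
    exact hab k hk n hn

theorem card_abelian_normal [IsPreprimitive H X] [Nonempty X] (N : Subgroup H) [N.Normal]
    (hN : N ≠ ⊥) (hab : ∀ a ∈ N, ∀ b ∈ N, a * b = b * a) : Nat.card N = Nat.card X := by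
  haveI := Cfsg.Agent.Helper4.normal_isPretransitive (Ω := X) N hN
  obtain ⟨x⟩ := ‹Nonempty X›
  apply Nat.card_eq_of_bijective (fun n : N => (n : H) • x)
  constructor
  · intro a b hab'
    have hab'' : (a : H) • x = (b : H) • x := hab'
    have h1 : ((b : H)⁻¹ * a) • x = x := by rw [mul_smul, hab'', inv_smul_smul]
    have h2 := abelian_normal_free N hN hab _ (N.mul_mem (N.inv_mem b.2) a.2) x h1
    rw [inv_mul_eq_one] at h2
    exact Subtype.ext h2.symm
  · intro y
    obtain ⟨n, hn⟩ := exists_smul_eq N x y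
    exact ⟨n, hn⟩

theorem center_eq_bot [Finite H] [IsPreprimitive H X] [Nontrivial X]
    (hnp : ¬ (Nat.card H).Prime) : Subgroup.center H = ⊥ := by
  by_contra hZ
  have hab : ∀ a ∈ Subgroup.center H, ∀ b ∈ Subgroup.center H, a * b = b * a :=
    fun a _ b hb => (Subgroup.mem_center_iff.mp hb a)
  have hcent := centralizer_abelian_normal (X := X) (Subgroup.center H) hZ hab
  have htop : Subgroup.center H = ⊤ := by
    rw [← hcent, Subgroup.centralizer_eq_top_iff_subset]
  have hfree := abelian_normal_free (X := X) (Subgroup.center H) hZ hab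
  obtain ⟨x⟩ : Nonempty X := inferInstance
  have hstab : stabilizer H x = ⊥ := by
    rw [Subgroup.eq_bot_iff_forall]
    intro h hh
    exact hfree h (by rw [htop]; exact Subgroup.mem_top h) x hh
  have hco : IsCoatom (stabilizer H x) := IsPreprimitive.isCoatom_stabilizer_of_isPreprimitive H x
  rw [hstab] at hco
  haveI : Nontrivial H := by
    obtain ⟨z, hz⟩ := (Subgroup.ne_bot_iff_exists_ne_one).mp hZ
    exact ⟨⟨(z : H), 1, fun h => hz (Subtype.ext h)⟩⟩
  have hcard : 1 < Nat.card H := Finite.one_lt_card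
  obtain ⟨p, hp, hpd⟩ := Nat.exists_prime_and_dvd (Nat.ne_of_gt hcard)
  haveI := Fact.mk hp
  obtain ⟨h, hh⟩ := exists_prime_orderOf_dvd_card' p hpd
  have hzne : Subgroup.zpowers h ≠ ⊥ := by
    intro h0
    rw [Subgroup.zpowers_eq_bot] at h0
    rw [h0, orderOf_one] at hh
    exact hp.one_lt.ne hh
  have hztop : Subgroup.zpowers h = ⊤ := hco.2 _ (bot_lt_iff_ne_bot.mpr hzne)
  apply hnp
  have : Nat.card H = p := by
    rw [← Nat.card_zpowers, hztop, Subgroup.card_top] at hh
    exact hh
  rw [this]
  exact hp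

end Cfsg.Agent.Helper1.ExtPrim
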