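import Mathlib
import Cfsg.Agent.Helper1.ExtPrimA

/-!
# Faithful primitive actions: the Fitting subgroup is regular elementary abelian
-/

set_option autoImplicit false

namespace Cfsg.Agent.Helper1.ExtPrim

open MulAction

variable {H X : Type*} [Group H] [MulAction H X] [FaithfulSMul H X]

/-- Structure of a nontrivial Fitting subgroup of a faithful primitive group. -/
theorem fitting_struct [Finite H] [IsPreprimitive H X] [Nonempty X]
    (hF : Cfsg.fittingSubgroup H ≠ ⊥) :
    (∀ a ∈ Cfsg.fittingSubgroup H, ∀ b ∈ Cfsg.fittingSubgroup H, a * b = b * a) ∧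
    Nat.card (Cfsg.fittingSubgroup H) = Nat.card X ∧
    Subgroup.centralizer (Cfsg.fittingSubgroup H : Set H) = Cfsg.fittingSubgroup H ∧
    ∃ p e : ℕ, p.Prime ∧ Nat.card (Cfsg.fittingSubgroup H) = p ^ e ∧
      ∀ x ∈ Cfsg.fittingSubgroup H, x ^ p = 1 := by
  set F := Cfsg.fittingSubgroup H with hFdef
  haveI : F.Normal := Cfsg.Agent.Helper1.fittingSubgroup_normal
  haveI hnil : Group.IsNilpotent F := Cfsg.Agent.Helper1.fittingSubgroup_isNilpotent
  haveI : Nontrivial F := (Subgroup.nontrivial_iff_ne_bot F).mpr hF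
  set Z : Subgroup H := F ⊓ Subgroup.centralizer (F : Set H) with hZdef
  haveI : Z.Normal := Subgroup.normal_inf_normal _ _
  have hZne : Z ≠ ⊥ := by
    have hc := Group.IsNilpotent.center_ne_bot F
    obtain ⟨z, hz⟩ := (Subgroup.ne_bot_iff_exists_ne_one).mp hc
    intro h0
    apply hz
    have hzZ : ((z : F) : H) ∈ Z := by
      refine Subgroup.mem_inf.mpr ⟨(z : F).2, ?_⟩
      rw [Subgroup.mem_centralizer_iff]
      intro f hf
      have := Subgroup.mem_center_iff.mp z.2 ⟨f, hf⟩
      exact congrArg Subtype.val this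
    rw [h0, Subgroup.mem_bot] at hzZ
    apply Subtype.ext
    apply Subtype.ext
    exact hzZ
  have hZab : ∀ a ∈ Z, ∀ b ∈ Z, a * b = b * a := by
    intro a ha b hb
    exact (Subgroup.mem_centralizer_iff.mp ha.2 b hb.1).symm
  have hZcent := centralizer_abelian_normal (X := X) Z hZne hZab
  have hFZ : F ≤ Z := by
    rw [← hZcent]
    intro f hf
    rw [Subgroup.mem_centralizer_iff]
    intro z hz
    exact (Subgroup.mem_centralizer_iff.mp hz.2 f hf).symm
  have hFeq : F = Z := le_antisymm hFZ inf_le_left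
  have hFab : ∀ a ∈ F, ∀ b ∈ F, a * b = b * a := by
    intro a ha b hb
    exact hZab a (hFZ ha) b (hFZ hb)
  have hcardX : Nat.card F = Nat.card X := card_abelian_normal (X := X) F hF hFab
  have hcentF : Subgroup.centralizer (F : Set H) = F :=
    centralizer_abelian_normal (X := X) F hF hFab
  refine ⟨hFab, hcardX, hcentF, ?_⟩
  -- minimal normal
  have hmin : ∀ N : Subgroup H, N.Normal → N ≤ F → N ≠ ⊥ → N = F := by
    intro N hNn hNF hN
    haveI := hNn
    have hNab : ∀ a ∈ N, ∀ b ∈ N, a * b = b * a := fun a ha b hb => hFab a (hNF ha) b (hNF hb)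
    have hc := card_abelian_normal (X := X) N hN hNab
    exact Subgroup.eq_of_le_of_card_ge hNF (by rw [hc, hcardX])
  have hcard1 : 1 < Nat.card F := Finite.one_lt_card
  obtain ⟨p, hp, hpd⟩ := Nat.exists_prime_and_dvd (Nat.ne_of_gt hcard1)
  haveI := Fact.mk hp
  let N : Subgroup H :=
    { carrier := {x | x ∈ F ∧ x ^ p = 1}
      one_mem' := ⟨F.one_mem, one_pow _⟩
      mul_mem' := by
        rintro a b ⟨ha, ha'⟩ ⟨hb, hb'⟩
        refine ⟨F.mul_mem ha hb, ?_⟩
        rw [(show Commute a b from hFab a ha b hb).mul_pow, ha', hb', one_mul]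
      inv_mem' := by
        rintro a ⟨ha, ha'⟩
        exact ⟨F.inv_mem ha, by rw [inv_pow, ha', inv_one]⟩ }
  have hNn : N.Normal := by
    constructor
    rintro n ⟨hn, hn'⟩ g
    refine ⟨‹F.Normal›.conj_mem n hn g, ?_⟩
    rw [conj_pow, hn', mul_one, mul_inv_cancel]
  have hNF : N ≤ F := fun x hx => hx.1
  have hNne : N ≠ ⊥ := by
    obtain ⟨x, hx⟩ := exists_prime_orderOf_dvd_card' (G := F) p hpd
    intro h0
    have hxN : (x : H) ∈ N := by
      refine ⟨x.2, ?_⟩
      have := pow_orderOf_eq_one x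
      rw [hx] at this
      exact_mod_cast congrArg Subtype.val this
    rw [h0, Subgroup.mem_bot] at hxN
    have hx1 : x = 1 := Subtype.ext hxN
    rw [hx1, orderOf_one] at hx
    exact hp.one_lt.ne hx
  have hNeq := hmin N hNn hNF hNne
  have hexp : ∀ x ∈ F, x ^ p = 1 := by
    intro x hx
    rw [← hNeq] at hx
    exact hx.2
  have hpg : IsPGroup p F := by
    intro x
    refine ⟨1, ?_⟩
    rw [pow_one]
    apply Subtype.ext
    exact_mod_cast hexp x x.2
  obtain ⟨e, he⟩ := IsPGroup.iff_card.mp hpg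
  exact ⟨p, e, hp, he, hexp⟩

/-- The conjugation representation on the Fitting subgroup. -/
theorem exists_hom_GL [Finite H] (p e : ℕ) (hp : p.Prime)
    (hab : ∀ a ∈ Cfsg.fittingSubgroup H, ∀ b ∈ Cfsg.fittingSubgroup H, a * b = b * a)
    (hcard : Nat.card (Cfsg.fittingSubgroup H) = p ^ e)
    (hexp : ∀ x ∈ Cfsg.fittingSubgroup H, x ^ p = 1)
    (hcent : Subgroup.centralizer (Cfsg.fittingSubgroup H : Set H) = Cfsg.fittingSubgroup H) :
    ∃ φ : H →* GL (Fin e) (ZMod p), φ.ker = Cfsg.fittingSubgroup H := by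
  haveI := Fact.mk hp
  set F := Cfsg.fittingSubgroup H with hFdef
  haveI : F.Normal := Cfsg.Agent.Helper1.fittingSubgroup_normal
  obtain ⟨f, hf⟩ := exists_inj_GL' (↥F) p e
    (fun a b => Subtype.ext (hab a a.2 b b.2)) hcard
    (fun x => Subtype.ext (by exact_mod_cast hexp x x.2))
  refine ⟨f.comp (MulAut.conjNormal (H := F)), ?_⟩
  ext h
  have hiff : h ∈ F ↔ h ∈ Subgroup.centralizer (F : Set H) := by rw [hcent]
  rw [MonoidHom.mem_ker, MonoidHom.comp_apply, hiff, Subgroup.mem_centralizer_iff]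
  constructor
  · intro h1
    have h2 : MulAut.conjNormal (H := F) h = 1 := hf (by rw [h1, map_one])
    intro x hx
    have h3 := congrArg (fun (σ : MulAut F) => ((σ ⟨x, hx⟩ : F) : H)) h2
    simp only [MulAut.conjNormal_apply, MulAut.one_apply] at h3
    rw [mul_inv_eq_iff_eq_mul] at h3
    exact h3.symm
  · intro h1
    have h2 : MulAut.conjNormal (H := F) h = 1 := by
      ext x
      rw [MulAut.conjNormal_apply, MulAut.one_apply, ← h1 x x.2]
      group
    rw [h2, map_one]

end Cfsg.Agent.Helper1.ExtPrim
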