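import Mathlib

/-!
# Manning's lemma on extremely primitive groups: elementwise set-up

`ker α ω` is the kernel of the action of the stabilizer `G_α` on the `G_α`-orbit of `ω`,
written elementwise (no subtypes).
-/

set_option autoImplicit false

namespace Cfsg.Agent.Helper1.Manning

open MulAction

variable {G : Type*} [Group G] {Ω : Type*} [MulAction G Ω]

/-- The kernel of `G_α` on the `G_α`-orbit of `ω`. -/
def ker (α ω : Ω) : Subgroup G where
  carrier := {g | g • α = α ∧ ∀ h : G, h • α = α → g • h • ω = h • ω}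
  one_mem' := ⟨one_smul _ _, fun h _ => one_smul _ _⟩
  mul_mem' := by
    rintro a b ⟨ha, ha'⟩ ⟨hb, hb'⟩
    refine ⟨by rw [mul_smul, hb, ha], fun h hh => ?_⟩
    rw [mul_smul, hb' h hh, ha' h hh]
  inv_mem' := by
    rintro a ⟨ha, ha'⟩
    refine ⟨by rw [inv_smul_eq_iff, ha], fun h hh => ?_⟩
    rw [inv_smul_eq_iff, ha' h hh]

theorem mem_ker {α ω : Ω} {g : G} :
    g ∈ ker α ω ↔ g • α = α ∧ ∀ h : G, h • α = α → g • h • ω = h • ω := Iff.rfl

theorem ker_fix_base {α ω : Ω} {g : G} (hg : g ∈ ker α ω) : g • α = α := hg.1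

theorem ker_fix {α ω : Ω} {g : G} (hg : g ∈ ker α ω) : g • ω = ω := by
  have := hg.2 1 (one_smul _ _)
  rwa [one_smul] at this

theorem ker_conj_stab {α ω : Ω} {h k : G} (hh : h • α = α) (hk : k ∈ ker α ω) :
    h * k * h⁻¹ ∈ ker α ω := by
  have hinv : h⁻¹ • α = α := by rw [inv_smul_eq_iff, hh]
  refine ⟨by rw [mul_smul, mul_smul, hinv, hk.1, hh], fun h' hh' => ?_⟩
  have h1 : (h⁻¹ * h') • α = α := by rw [mul_smul, hh', hinv]
  have h2 := hk.2 (h⁻¹ * h') h1
  calc (h * k * h⁻¹) • h' • ω = h • k • (h⁻¹ * h') • ω := by simp only [mul_smul]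
    _ = h • (h⁻¹ * h') • ω := by rw [h2]
    _ = h' • ω := by simp only [mul_smul, smul_inv_smul]

theorem ker_conj {α ω : Ω} (g : G) {k : G} (hk : k ∈ ker α ω) :
    g * k * g⁻¹ ∈ ker (g • α) (g • ω) := by
  refine ⟨by simp only [mul_smul, inv_smul_smul, hk.1], fun h' hh' => ?_⟩
  have h1 : (g⁻¹ * h' * g) • α = α := by
    rw [mul_smul, mul_smul, hh', inv_smul_smul]
  have h2 := hk.2 (g⁻¹ * h' * g) h1
  calc (g * k * g⁻¹) • h' • g • ω = g • k • (g⁻¹ * h' * g) • ω := by simp only [mul_smul]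
    _ = g • (g⁻¹ * h' * g) • ω := by rw [h2]
    _ = h' • g • ω := by simp only [mul_smul, smul_inv_smul]

theorem le_ker {α ω : Ω} (N : Subgroup G) (h1 : ∀ n ∈ N, n • α = α)
    (h2 : ∀ h : G, h • α = α → ∀ n ∈ N, h * n * h⁻¹ ∈ N) (h3 : ∀ n ∈ N, n • ω = ω) :
    N ≤ ker α ω := by
  intro n hn
  refine ⟨h1 n hn, fun h hh => ?_⟩
  have hinv : h⁻¹ • α = α := by rw [inv_smul_eq_iff, hh]
  have h4 := h2 h⁻¹ hinv n hn
  rw [inv_inv] at h4
  have h5 := h3 _ h4
  calc n • h • ω = h • (h⁻¹ * n * h) • ω := by simp only [mul_smul, smul_inv_smul]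
    _ = h • ω := by rw [h5]

theorem card_ker_conj [Finite G] (α ω : Ω) (g : G) :
    Nat.card (ker (G := G) (g • α) (g • ω)) = Nat.card (ker (G := G) α ω) := by
  apply le_antisymm
  · have hf : ∀ k : ker (G := G) (g • α) (g • ω), g⁻¹ * (k : G) * g ∈ ker α ω := by
      intro k
      have := ker_conj g⁻¹ k.2
      simpa using this
    apply Nat.card_le_card_of_injective
      (fun k : ker (G := G) (g • α) (g • ω) => (⟨g⁻¹ * (k : G) * g, hf k⟩ : ker α ω))
    intro a b hab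
    have := congrArg Subtype.val hab
    simp only [mul_left_inj, mul_right_inj] at this
    exact Subtype.ext this
  · apply Nat.card_le_card_of_injective
      (fun k : ker (G := G) α ω => (⟨g * (k : G) * g⁻¹, ker_conj g k.2⟩ : ker (g • α) (g • ω)))
    intro a b hab
    have := congrArg Subtype.val hab
    simp only [mul_left_inj, mul_right_inj] at this
    exact Subtype.ext this

/-- Points fixed by every element of `N`. -/
def FixS (N : Subgroup G) : Set Ω := {x | ∀ n ∈ N, n • x = x}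

theorem mem_FixS {N : Subgroup G} {x : Ω} : x ∈ FixS N ↔ ∀ n ∈ N, n • x = x := Iff.rfl

/-- The elementwise form of "a normal subgroup of a primitive group is trivial or transitive",
for the action of `G_α` on the `G_α`-orbit of `ω`. -/
def QP (G : Type*) [Group G] (Ω : Type*) [MulAction G Ω] : Prop :=
  ∀ (α ω : Ω) (N : Subgroup G), (∀ n ∈ N, n • α = α) →
    (∀ h : G, h • α = α → ∀ n ∈ N, h * n * h⁻¹ ∈ N) →
    (∀ n ∈ N, ∀ h : G, h • α = α → n • h • ω = h • ω) ∨
    (∀ h₁ h₂ : G, h₁ • α = α → h₂ • α = α → ∃ n ∈ N, n • h₁ • ω = h₂ • ω)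

theorem qp_of_preprimitive
    (hep : ∀ (α : Ω) (ω : Ω), IsPreprimitive (stabilizer G α) (orbit (stabilizer G α) ω)) :
    QP G Ω := by
  intro α ω N h1 h2
  haveI := hep α ω
  set H := stabilizer G α with hH
  set N' : Subgroup H := N.subgroupOf H with hN'
  haveI : N'.Normal := by
    constructor
    intro n hn h
    rw [hN', Subgroup.mem_subgroupOf] at hn ⊢
    have := h2 (h : G) h.2 _ hn
    simpa using this
  by_cases hfix : fixedPoints N' (orbit H ω) = Set.univ
  · left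
    intro n hn h hh
    have hnH : n ∈ H := h1 n hn
    have hx : h • ω ∈ orbit H ω := ⟨⟨h, hh⟩, rfl⟩
    have hmem : (⟨h • ω, hx⟩ : orbit H ω) ∈ fixedPoints N' (orbit H ω) := by
      rw [hfix]; exact Set.mem_univ _
    have hn' : (⟨n, hnH⟩ : H) ∈ N' := by
      rw [hN', Subgroup.mem_subgroupOf]; exact hn
    have := hmem ⟨⟨n, hnH⟩, hn'⟩
    have h3 := congrArg Subtype.val this
    exact h3
  · right
    have htr := IsQuasiPreprimitive.isPretransitive_of_normal (N := N') hfix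
    intro k₁ k₂ hk₁ hk₂
    have hx₁ : k₁ • ω ∈ orbit H ω := ⟨⟨k₁, hk₁⟩, rfl⟩
    have hx₂ : k₂ • ω ∈ orbit H ω := ⟨⟨k₂, hk₂⟩, rfl⟩
    obtain ⟨n, hn⟩ := htr.exists_smul_eq (⟨k₁ • ω, hx₁⟩ : orbit H ω) ⟨k₂ • ω, hx₂⟩
    refine ⟨((n : H) : G), ?_, ?_⟩
    · exact Subgroup.mem_subgroupOf.mp n.2
    · have h3 := congrArg Subtype.val hn
      exact h3

end Cfsg.Agent.Helper1.Manning
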