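import Mathlib
import Cfsg.Agent.Helper1.ManningA

/-!
# Manning's lemma on extremely primitive groups: basic facts on primitive groups
-/

set_option autoImplicit false

namespace Cfsg.Agent.Helper1.Manning

open MulAction
open scoped Pointwise

variable {G : Type*} [Group G] {Ω : Type*} [MulAction G Ω]

theorem smul_conj_fix {N : Subgroup G} [N.Normal] {α : Ω} (h : ∀ n ∈ N, n • α = α) (k : G)
    {n : G} (hn : n ∈ N) : n • k • α = k • α := by
  have h1 : k⁻¹ * n * k ∈ N := by
    have := ‹N.Normal›.conj_mem n hn k⁻¹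
    simpa using this
  have h2 := h _ h1
  calc n • k • α = k • (k⁻¹ * n * k) • α := by simp only [mul_smul, smul_inv_smul]
    _ = k • α := by rw [h2]

theorem eq_bot_of_normal_fix [FaithfulSMul G Ω] [IsPretransitive G Ω] (N : Subgroup G) [N.Normal]
    (α : Ω) (h : ∀ n ∈ N, n • α = α) : N = ⊥ := by
  rw [Subgroup.eq_bot_iff_forall]
  intro n hn
  apply FaithfulSMul.eq_of_smul_eq_smul (α := Ω)
  intro x
  obtain ⟨k, rfl⟩ := exists_smul_eq G α x
  rw [one_smul]
  exact smul_conj_fix h k hn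

theorem stab_not_le [FaithfulSMul G Ω] (hprim : IsPreprimitive G Ω)
    (hH : ∀ α : Ω, stabilizer G α ≠ ⊥) {α β : Ω} (hne : α ≠ β) :
    ¬ stabilizer G α ≤ stabilizer G β := by
  intro hle
  haveI : Nontrivial Ω := ⟨⟨α, β, hne⟩⟩
  haveI := hprim
  have hcα : IsCoatom (stabilizer G α) := IsPreprimitive.isCoatom_stabilizer_of_isPreprimitive G α
  have hcβ : IsCoatom (stabilizer G β) := IsPreprimitive.isCoatom_stabilizer_of_isPreprimitive G β
  have heq : stabilizer G β = stabilizer G α := (hcα.le_iff_eq hcβ.1).mp hle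
  obtain ⟨g, hg⟩ := exists_smul_eq G α β
  have hgn : g⁻¹ ∈ Subgroup.normalizer (stabilizer G α : Set G) := by
    rw [Subgroup.mem_normalizer_iff]
    intro h
    rw [inv_inv, mem_stabilizer_iff, mem_stabilizer_iff]
    constructor
    · intro hh
      have h1 : h ∈ stabilizer G β := by rw [heq]; exact hh
      rw [mem_stabilizer_iff, ← hg] at h1
      rw [mul_smul, mul_smul, h1, inv_smul_smul]
    · intro hh
      have h1 : h ∈ stabilizer G β := by
        rw [mem_stabilizer_iff, ← hg]
        rw [mul_smul, mul_smul, inv_smul_eq_iff] at hh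
        exact hh
      rw [heq] at h1
      exact h1
  rcases hcα.le_iff.mp (Subgroup.le_normalizer (H := stabilizer G α)) with htop | hself
  · haveI : (stabilizer G α).Normal := Subgroup.normalizer_eq_top_iff.mp htop
    exact hH α (eq_bot_of_normal_fix (stabilizer G α) α (fun n hn => hn))
  · rw [hself] at hgn
    have h1 : g ∈ stabilizer G α := by
      have := (stabilizer G α).inv_mem hgn
      simpa using this
    rw [mem_stabilizer_iff, hg] at h1
    exact hne h1.symm

theorem sup_stab_eq_top [FaithfulSMul G Ω] (hprim : IsPreprimitive G Ω)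
    (hH : ∀ α : Ω, stabilizer G α ≠ ⊥) {α β : Ω} (hne : α ≠ β) :
    stabilizer G α ⊔ stabilizer G β = ⊤ := by
  haveI : Nontrivial Ω := ⟨⟨α, β, hne⟩⟩
  haveI := hprim
  have hcα : IsCoatom (stabilizer G α) := IsPreprimitive.isCoatom_stabilizer_of_isPreprimitive G α
  apply hcα.2
  apply lt_of_le_of_ne le_sup_left
  intro heq
  apply stab_not_le hprim hH hne.symm
  rw [heq]
  exact le_sup_right

theorem normal_of_two [FaithfulSMul G Ω] (hprim : IsPreprimitive G Ω)
    (hH : ∀ α : Ω, stabilizer G α ≠ ⊥) (N : Subgroup G) {α β : Ω} (hne : α ≠ β)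
    (hα : ∀ h : G, h • α = α → ∀ n ∈ N, h * n * h⁻¹ ∈ N)
    (hβ : ∀ h : G, h • β = β → ∀ n ∈ N, h * n * h⁻¹ ∈ N) : N.Normal := by
  rw [← Subgroup.normalizer_eq_top_iff, eq_top_iff, ← sup_stab_eq_top hprim hH hne]
  apply sup_le
  · exact Subgroup.le_normalizer_iff.mpr (fun s hs => hα s hs)
  · exact Subgroup.le_normalizer_iff.mpr (fun s hs => hβ s hs)

/-- A subgroup fixing `α` and normalized by two different point stabilizers is trivial. -/
theorem eq_bot_of_two [FaithfulSMul G Ω] (hprim : IsPreprimitive G Ω)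
    (hH : ∀ α : Ω, stabilizer G α ≠ ⊥) (N : Subgroup G) {α β : Ω} (hne : α ≠ β)
    (hfix : ∀ n ∈ N, n • α = α)
    (hα : ∀ h : G, h • α = α → ∀ n ∈ N, h * n * h⁻¹ ∈ N)
    (hβ : ∀ h : G, h • β = β → ∀ n ∈ N, h * n * h⁻¹ ∈ N) : N = ⊥ := by
  haveI := normal_of_two hprim hH N hne hα hβ
  haveI := hprim
  exact eq_bot_of_normal_fix N α hfix

/-- A set containing `α`, stable under `G_α` and under some element moving `α`, is everything. -/
theorem eq_univ_of_stable [FaithfulSMul G Ω] (hprim : IsPreprimitive G Ω) (B : Set Ω) {α : Ω}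
    (hαB : α ∈ B) (hstab : ∀ g : G, g • α ∈ B → ∀ y, g • y ∈ B ↔ y ∈ B)
    {d : Ω} (hd : d ∈ B) (hdα : d ≠ α) : B = Set.univ := by
  haveI : Nontrivial Ω := ⟨⟨d, α, hdα⟩⟩
  haveI := hprim
  have hcα : IsCoatom (stabilizer G α) := IsPreprimitive.isCoatom_stabilizer_of_isPreprimitive G α
  have hle : stabilizer G α ≤ stabilizer G B := by
    intro g hg
    rw [mem_stabilizer_set]
    apply hstab
    rw [mem_stabilizer_iff.mp hg]
    exact hαB
  obtain ⟨g₀, hg₀⟩ := exists_smul_eq G α d
  have hg₀L : g₀ ∈ stabilizer G B := by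
    rw [mem_stabilizer_set]
    apply hstab
    rw [hg₀]
    exact hd
  have htop : stabilizer G B = ⊤ := by
    apply hcα.2
    apply lt_of_le_of_ne hle
    intro heq
    rw [← heq, mem_stabilizer_iff, hg₀] at hg₀L
    exact hdα hg₀L
  rw [Set.eq_univ_iff_forall]
  intro x
  obtain ⟨g, rfl⟩ := exists_smul_eq G α x
  have : g ∈ stabilizer G B := by rw [htop]; exact Subgroup.mem_top g
  rw [mem_stabilizer_set] at this
  exact (this α).mpr hαB

end Cfsg.Agent.Helper1.Manning
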