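import Mathlib
import Cfsg.Agent.Helper1.ManningB

/-!
# Manning's lemma on extremely primitive groups: the symmetry step
-/

set_option autoImplicit false

namespace Cfsg.Agent.Helper1.Manning

open MulAction
open scoped Pointwise

variable {G : Type*} [Group G] {Ω : Type*} [MulAction G Ω]

/-- The standing hypotheses. -/
structure Hyp (G : Type*) [Group G] (Ω : Type*) [MulAction G Ω] : Prop where
  prim : IsPreprimitive G Ω
  stab_ne : ∀ α : Ω, stabilizer G α ≠ ⊥
  qp : QP G Ω

/-- `K` is a nontrivial kernel at `α` of largest possible order. -/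
structure MaxK (K : Subgroup G) (α : Ω) : Prop where
  nebot : K ≠ ⊥
  max : ∀ α' d' : Ω, d' ≠ α' → K ≤ ker α' d' → K = ker α' d'
  fixα : ∀ k ∈ K, k • α = α
  norm : ∀ h : G, h • α = α → ∀ k ∈ K, h * k * h⁻¹ ∈ K

theorem lemA {K : Subgroup G} {α : Ω} (hK : MaxK K α) {β : Ω} (hβ : β ∈ FixS K) (hne : β ≠ α) :
    K = ker α β :=
  hK.max α β hne (le_ker K hK.fixα hK.norm hβ)

theorem notnorm [FaithfulSMul G Ω] (hyp : Hyp G Ω) {K : Subgroup G} {α : Ω} (hK : MaxK K α)
    {β : Ω} (hne : β ≠ α) (h : ∀ h : G, h • β = β → ∀ k ∈ K, h * k * h⁻¹ ∈ K) : False :=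
  hK.nebot (eq_bot_of_two hyp.prim hyp.stab_ne K hne.symm hK.fixα hK.norm h)

theorem lemS [Finite G] [FaithfulSMul G Ω] (hyp : Hyp G Ω) {K : Subgroup G} {α : Ω}
    (hK : MaxK K α) {β : Ω} (hβ : β ∈ FixS K) (hne : β ≠ α) {g : G} (hg : g • α = β) :
    α ∈ FixS (ker (G := G) β (g • β)) := by
  set K' := ker (G := G) β (g • β) with hK'def
  have hKeq : K = ker α β := lemA hK hβ hne
  have hcard : Nat.card K' = Nat.card K := by
    rw [hKeq]
    have := card_ker_conj (G := G) α β g
    rw [hg] at this
    exact this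
  have hK'fix : ∀ n ∈ K', n • β = β := fun n hn => hn.1
  have hK'norm : ∀ h : G, h • β = β → ∀ n ∈ K', h * n * h⁻¹ ∈ K' :=
    fun h hh n hn => ker_conj_stab hh hn
  rcases hyp.qp β α K' hK'fix hK'norm with h1 | h2
  · intro n hn
    have := h1 n hn 1 (one_smul _ _)
    simpa using this
  · exfalso
    have hdec : ∀ h : G, h • β = β → ∃ n ∈ K', (n⁻¹ * h) • α = α := by
      intro h hh
      obtain ⟨n, hn, hn2⟩ := h2 1 h (one_smul _ _) hh
      refine ⟨n, hn, ?_⟩
      rw [one_smul] at hn2
      rw [mul_smul, ← hn2, inv_smul_smul]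
    set γ := g • β with hγdef
    have hγβ : γ ≠ β := by
      intro h
      apply hne
      have : g • β = g • α := by rw [← hγdef, h, hg]
      exact smul_left_cancel g this
    set M := Subgroup.closure ((K : Set G) ∪ (K' : Set G)) with hMdef
    have hKM : K ≤ M := fun k hk => Subgroup.subset_closure (Or.inl hk)
    have hK'M : K' ≤ M := fun k hk => Subgroup.subset_closure (Or.inr hk)
    have hKβ : ∀ k ∈ K, k • β = β := hβ
    have hMfix : ∀ m ∈ M, m • β = β := by
      have : M ≤ stabilizer G β := by
        rw [hMdef, Subgroup.closure_le]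
        rintro x (hx | hx)
        · exact hKβ x hx
        · exact hK'fix x hx
      exact fun m hm => this hm
    have hMnorm : ∀ h : G, h • β = β → ∀ m ∈ M, h * m * h⁻¹ ∈ M := by
      intro h hh m hm
      induction hm using Subgroup.closure_induction with
      | mem x hx =>
        rcases hx with hx | hx
        · obtain ⟨n, hn, hc⟩ := hdec h hh
          have hcK : (n⁻¹ * h) * x * (n⁻¹ * h)⁻¹ ∈ K := hK.norm _ hc x hx
          have : h * x * h⁻¹ = n * ((n⁻¹ * h) * x * (n⁻¹ * h)⁻¹) * n⁻¹ := by group
          rw [this]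
          exact M.mul_mem (M.mul_mem (hK'M hn) (hKM hcK)) (M.inv_mem (hK'M hn))
        · exact hK'M (hK'norm h hh x hx)
      | one => simp
      | mul x y _ _ hx hy =>
        have : h * (x * y) * h⁻¹ = (h * x * h⁻¹) * (h * y * h⁻¹) := by group
        rw [this]
        exact M.mul_mem hx hy
      | inv x _ hx =>
        have : h * x⁻¹ * h⁻¹ = (h * x * h⁻¹)⁻¹ := by group
        rw [this]
        exact M.inv_mem hx
    rcases hyp.qp β γ M hMfix hMnorm with hA | hB
    · have hMK' : M ≤ K' := fun m hm => ⟨hMfix m hm, fun h hh => hA m hm h hh⟩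
      have hKK' : K ≤ K' := hKM.trans hMK'
      have hEq : K = K' := Subgroup.eq_of_le_of_card_ge hKK' (le_of_eq hcard)
      apply notnorm hyp hK hne
      intro h hh k hk
      rw [hEq] at hk ⊢
      exact hK'norm h hh k hk
    · have hrepr : ∀ m ∈ M, ∃ k ∈ K, ∀ h : G, h • β = β → m • h • γ = k • h • γ := by
        intro m hm
        induction hm using Subgroup.closure_induction with
        | mem x hx =>
          rcases hx with hx | hx
          · exact ⟨x, hx, fun _ _ => rfl⟩
          · exact ⟨1, K.one_mem, fun h hh => by rw [one_smul]; exact hx.2 h hh⟩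
        | one => exact ⟨1, K.one_mem, fun _ _ => rfl⟩
        | mul x y _ _ hx hy =>
          obtain ⟨kx, hkx, hx'⟩ := hx
          obtain ⟨ky, hky, hy'⟩ := hy
          refine ⟨kx * ky, K.mul_mem hkx hky, fun h hh => ?_⟩
          have h1 : (ky * h) • β = β := by rw [mul_smul, hh, hKβ ky hky]
          calc (x * y) • h • γ = x • y • h • γ := mul_smul _ _ _
            _ = x • ky • h • γ := by rw [hy' h hh]
            _ = x • (ky * h) • γ := by rw [mul_smul]
            _ = kx • (ky * h) • γ := hx' _ h1
            _ = (kx * ky) • h • γ := by simp only [mul_smul]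
        | inv x _ hx =>
          obtain ⟨kx, hkx, hx'⟩ := hx
          refine ⟨kx⁻¹, K.inv_mem hkx, fun h hh => ?_⟩
          have h1 : (kx⁻¹ * h) • β = β := by
            rw [mul_smul, hh, inv_smul_eq_iff, hKβ kx hkx]
          have h2 := hx' (kx⁻¹ * h) h1
          rw [inv_smul_eq_iff]
          calc h • γ = kx • (kx⁻¹ * h) • γ := by simp only [mul_smul, smul_inv_smul]
            _ = x • (kx⁻¹ * h) • γ := h2.symm
            _ = x • kx⁻¹ • h • γ := by rw [mul_smul]
      have hKtr : ∀ h₁ h₂ : G, h₁ • β = β → h₂ • β = β → ∃ k ∈ K, k • h₁ • γ = h₂ • γ := by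
        intro h₁ h₂ hh₁ hh₂
        obtain ⟨m, hm, hm2⟩ := hB h₁ h₂ hh₁ hh₂
        obtain ⟨k, hk, hk2⟩ := hrepr m hm
        exact ⟨k, hk, by rw [← hk2 h₁ hh₁, hm2]⟩
      have hmove : ∃ h₀ : G, h₀ • β = β ∧ h₀ • γ ≠ γ := by
        by_contra hcon
        push Not at hcon
        apply stab_not_le hyp.prim hyp.stab_ne hγβ.symm
        intro h hh
        exact hcon h hh
      obtain ⟨h₀, hh₀, hh₀γ⟩ := hmove
      obtain ⟨k₀, hk₀, hk₀γ⟩ := hKtr 1 h₀ (one_smul _ _) hh₀
      rw [one_smul] at hk₀γ
      rcases hyp.qp α γ K hK.fixα hK.norm with hC | hD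
      · have := hC k₀ hk₀ 1 (one_smul _ _)
        rw [one_smul] at this
        rw [this] at hk₀γ
        exact hh₀γ hk₀γ.symm
      · have hinv : ∀ h : G, h • α = α → ∀ h' : G, h' • β = β →
            ∃ h'' : G, h'' • β = β ∧ h'' • γ = h • h' • γ := by
          intro h hh h' hh'
          obtain ⟨k, hk, hkγ⟩ := hKtr 1 h' (one_smul _ _) hh'
          rw [one_smul] at hkγ
          have hhk : (h * k) • α = α := by rw [mul_smul, hK.fixα k hk, hh]
          obtain ⟨k', hk', hk'γ⟩ := hD 1 (h * k) (one_smul _ _) hhk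
          rw [one_smul] at hk'γ
          exact ⟨k', hKβ k' hk', by rw [hk'γ, mul_smul, hkγ]⟩
        set D : Set Ω := {x | ∃ h : G, h • α = α ∧ h • β = x} with hDdef
        have hgD : ∀ x, x ∈ D ↔ ∃ h' : G, h' • β = β ∧ h' • γ = g • x := by
          intro x
          constructor
          · rintro ⟨h, hh, rfl⟩
            refine ⟨g * h * g⁻¹, ?_, ?_⟩
            · rw [← hg]
              simp only [mul_smul, inv_smul_smul, hh]
            · rw [hγdef]
              simp only [mul_smul, inv_smul_smul]
          · rintro ⟨h', hh', hx⟩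
            refine ⟨g⁻¹ * h' * g, ?_, ?_⟩
            · rw [mul_smul, mul_smul, hg, hh', ← hg, inv_smul_smul]
            · rw [mul_smul, mul_smul, inv_smul_eq_iff]
              exact hx
        have hαD : α ∉ D := by
          rintro ⟨h, hh, hx⟩
          apply hne
          have : h • β = h • α := by rw [hx, hh]
          exact smul_left_cancel h this
        have hβD : β ∈ D := ⟨1, one_smul _ _, one_smul _ _⟩
        have hLα : stabilizer G α ≤ stabilizer G D := by
          intro h hh
          have hh' : h • α = α := hh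
          rw [mem_stabilizer_set]
          intro x
          constructor
          · rintro ⟨h1, hh1, hx⟩
            refine ⟨h⁻¹ * h1, ?_, ?_⟩
            · rw [mul_smul, hh1, inv_smul_eq_iff, hh']
            · rw [mul_smul, hx, inv_smul_smul]
          · rintro ⟨h1, hh1, rfl⟩
            exact ⟨h * h1, by rw [mul_smul, hh1, hh'], mul_smul _ _ _⟩
        haveI : Nontrivial Ω := ⟨⟨β, α, hne⟩⟩
        haveI := hyp.prim
        have hcα := IsPreprimitive.isCoatom_stabilizer_of_isPreprimitive G α
        have hLeq : stabilizer G D = stabilizer G α := by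
          rcases hcα.le_iff.mp hLα with htop | heq
          · exfalso
            obtain ⟨x, hx⟩ := exists_smul_eq G β α
            have hxm : x ∈ stabilizer G D := by rw [htop]; exact Subgroup.mem_top x
            rw [mem_stabilizer_set] at hxm
            apply hαD
            rw [← hx]
            exact (hxm β).mpr hβD
          · exact heq
        apply stab_not_le hyp.prim hyp.stab_ne hne.symm
        intro h hh
        have hh' : h • α = α := hh
        have hmem : g⁻¹ * h * g ∈ stabilizer G D := by
          rw [mem_stabilizer_set]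
          intro y
          rw [hgD, hgD]
          have e : g • (g⁻¹ * h * g) • y = h • g • y := by
            simp only [mul_smul, smul_inv_smul]
          rw [e]
          constructor
          · rintro ⟨h1, hh1, hx⟩
            obtain ⟨h2, hh2, hx2⟩ := hinv h⁻¹ (by rw [inv_smul_eq_iff, hh']) h1 hh1
            exact ⟨h2, hh2, by rw [hx2, hx, inv_smul_smul]⟩
          · rintro ⟨h1, hh1, hx⟩
            obtain ⟨h2, hh2, hx2⟩ := hinv h hh' h1 hh1
            exact ⟨h2, hh2, by rw [hx2, hx]⟩
        rw [hLeq, mem_stabilizer_iff] at hmem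
        rw [mem_stabilizer_iff, ← hg]
        rw [mul_smul, mul_smul, inv_smul_eq_iff] at hmem
        exact hmem

end Cfsg.Agent.Helper1.Manning
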