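import Mathlib
import Cfsg.Agent.Helper1.ManningC

/-!
# Manning's lemma on extremely primitive groups: the final argument
-/

set_option autoImplicit false

namespace Cfsg.Agent.Helper1.Manning

open MulAction
open scoped Pointwise

variable {G : Type*} [Group G] {Ω : Type*} [MulAction G Ω]

theorem final [Finite G] [Finite Ω] [FaithfulSMul G Ω] (hyp : Hyp G Ω) {K : Subgroup G} {α : Ω}
    (hK : MaxK K α) {d : Ω} (hd : d ∈ FixS K) (hdα : d ≠ α) : False := by
  set B := FixS (Ω := Ω) K with hBdef
  have hαB : α ∈ B := hK.fixα
  have hstab : ∀ g : G, g • α ∈ B → ∀ y, g • y ∈ B ↔ y ∈ B := by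
    intro g hgB y
    by_cases hgα : g • α = α
    · have hginv : g⁻¹ • α = α := by rw [inv_smul_eq_iff, hgα]
      constructor
      · intro hy k hk
        have := hy (g * k * g⁻¹) (hK.norm g hgα k hk)
        rw [mul_smul, mul_smul, inv_smul_smul] at this
        exact smul_left_cancel g this
      · intro hy k hk
        have hmem : g⁻¹ * k * g ∈ K := by
          have := hK.norm g⁻¹ hginv k hk
          simpa using this
        have := hy (g⁻¹ * k * g) hmem
        rw [mul_smul, mul_smul, inv_smul_eq_iff] at this
        exact this
    · set β := g • α with hβdef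
      have hβne : β ≠ α := hgα
      have hKeq : K = ker α β := lemA hK hgB hβne
      set K' := ker (G := G) β (g • β) with hK'def
      have hαK' : α ∈ FixS K' := lemS hyp hK hgB hβne rfl
      have hconj1 : ∀ k ∈ K, g * k * g⁻¹ ∈ K' := by
        intro k hk
        rw [hKeq] at hk
        exact ker_conj g hk
      have hconj2 : ∀ n ∈ K', g⁻¹ * n * g ∈ K := by
        intro n hn
        rw [hKeq]
        have := ker_conj g⁻¹ hn
        simpa [hβdef] using this
      have hfix : ∀ y, g • y ∈ FixS K' ↔ y ∈ B := by
        intro y
        constructor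
        · intro hy k hk
          have := hy _ (hconj1 k hk)
          rw [mul_smul, mul_smul, inv_smul_smul] at this
          exact smul_left_cancel g this
        · intro hy n hn
          have := hy _ (hconj2 n hn)
          rw [mul_smul, mul_smul, inv_smul_eq_iff] at this
          exact this
      have hsub : B ⊆ FixS K' := by
        intro x hx
        by_contra hcon
        rw [mem_FixS] at hcon
        push Not at hcon
        obtain ⟨n₀, hn₀, hn₀x⟩ := hcon
        have hK'fix : ∀ n ∈ K', n • β = β := fun n hn => hn.1
        have hK'norm : ∀ h : G, h • β = β → ∀ n ∈ K', h * n * h⁻¹ ∈ K' :=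
          fun h hh n hn => ker_conj_stab hh hn
        rcases hyp.qp β x K' hK'fix hK'norm with h1 | h2
        · apply hn₀x
          have := h1 n₀ hn₀ 1 (one_smul _ _)
          simpa using this
        · have hpres : ∀ n ∈ K', ∀ y ∈ B, n • y ∈ B := by
            intro n hn y hy k hk
            have hnα : n⁻¹ • α = α := by
              rw [inv_smul_eq_iff]
              exact (hαK' n hn).symm
            have := hy _ (hK.norm n⁻¹ hnα k hk)
            rw [inv_inv, mul_smul, mul_smul, inv_smul_eq_iff] at this
            exact this
          have hKle : K ≤ ker β x := by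
            intro k hk
            refine ⟨hgB k hk, fun h hh => ?_⟩
            obtain ⟨n, hn, hn2⟩ := h2 1 h (one_smul _ _) hh
            rw [one_smul] at hn2
            rw [← hn2]
            exact hpres n hn x hx k hk
          have hxβ : x ≠ β := by
            rintro rfl
            exact hn₀x hn₀.1
          have hEq := hK.max β x hxβ hKle
          apply notnorm hyp hK hβne
          intro h hh k hk
          rw [hEq] at hk ⊢
          exact ker_conj_stab hh hk
      have himg : FixS K' = (fun y : Ω => g • y) '' B := by
        ext z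
        constructor
        · intro hz
          refine ⟨g⁻¹ • z, ?_, smul_inv_smul g z⟩
          rw [← hfix, smul_inv_smul]
          exact hz
        · rintro ⟨y, hy, rfl⟩
          exact (hfix y).mpr hy
      have hcard : (FixS (Ω := Ω) K').ncard = B.ncard := by
        rw [himg]
        exact Set.ncard_image_of_injective _ (MulAction.injective g)
      have hBeq : B = FixS K' :=
        Set.eq_of_subset_of_ncard_le hsub (le_of_eq hcard) (Set.toFinite _)
      rw [← hfix y, ← hBeq]
  have huniv := eq_univ_of_stable hyp.prim B hαB hstab hd hdα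
  apply hK.nebot
  rw [Subgroup.eq_bot_iff_forall]
  intro k hk
  apply FaithfulSMul.eq_of_smul_eq_smul (α := Ω)
  intro x
  rw [one_smul]
  have hx : x ∈ B := by rw [huniv]; exact Set.mem_univ x
  exact hx k hk

theorem manning [Finite G] [Fintype Ω] [FaithfulSMul G Ω] (hyp : Hyp G Ω) (α ω : Ω)
    (hω : ω ≠ α) : ker (G := G) α ω = ⊥ := by
  by_contra hne
  classical
  let S : Finset (Ω × Ω) :=
    Finset.univ.filter (fun p => p.2 ≠ p.1 ∧ ker (G := G) p.1 p.2 ≠ ⊥)
  have hS : S.Nonempty := ⟨(α, ω), by simp [S, hω, hne]⟩
  obtain ⟨⟨a, d⟩, hmem, hmax⟩ :=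
    Finset.exists_max_image S (fun p => Nat.card (ker (G := G) p.1 p.2)) hS
  simp only [S, Finset.mem_filter, Finset.mem_univ, true_and] at hmem
  have hK : MaxK (ker (G := G) a d) a :=
    { nebot := hmem.2
      max := by
        intro α' d' hne' hle
        have hnb : ker (G := G) α' d' ≠ ⊥ := by
          intro h
          apply hmem.2
          rw [eq_bot_iff, ← h]
          exact hle
        have hin : (α', d') ∈ S := by
          simp only [S, Finset.mem_filter, Finset.mem_univ, true_and]
          exact ⟨hne', hnb⟩
        exact Subgroup.eq_of_le_of_card_ge hle (hmax (α', d') hin)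
      fixα := fun k hk => hk.1
      norm := fun h hh k hk => ker_conj_stab hh hk }
  exact final hyp hK (d := d) (fun k hk => ker_fix hk) hmem.1

/-- Manning's lemma: in an extremely primitive group, a point stabilizer acts faithfully on each
of its nontrivial orbits. -/
theorem manning_main [Finite G] [Fintype Ω] [FaithfulSMul G Ω] (hprim : IsPreprimitive G Ω)
    (hH : ∀ α : Ω, stabilizer G α ≠ ⊥)
    (hep : ∀ (α : Ω) (ω : Ω), IsPreprimitive (stabilizer G α) (orbit (stabilizer G α) ω))
    (α ω : Ω) (hω : ω ≠ α) (h : stabilizer G α)
    (hfix : ∀ x ∈ orbit (stabilizer G α) ω, h • x = x) : h = 1 := by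
  have hyp : Hyp G Ω := ⟨hprim, hH, qp_of_preprimitive hep⟩
  have hker := manning hyp α ω hω
  have hmem : (h : G) ∈ ker (G := G) α ω := by
    refine ⟨h.2, fun k hk => ?_⟩
    have hx : k • ω ∈ orbit (stabilizer G α) ω := ⟨⟨k, hk⟩, rfl⟩
    exact hfix _ hx
  rw [hker, Subgroup.mem_bot] at hmem
  exact Subtype.ext hmem

end Cfsg.Agent.Helper1.Manning
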