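import Mathlib
import Cfsg.Agent.Helper1.ManningD
import Cfsg.Agent.Helper1.ExtPrimB
import Cfsg.Agent.Helper1.Frobenius

/-!
# Point stabilizers of extremely primitive groups
-/

set_option autoImplicit false

namespace Cfsg.Agent.Helper1.ExtPrim

open MulAction

variable {G : Type*} [Group G] {Ω : Type*} [MulAction G Ω]

theorem stab_ne_bot_all (hprim : IsPreprimitive G Ω) {α : Ω} (h : stabilizer G α ≠ ⊥) :
    ∀ β : Ω, stabilizer G β ≠ ⊥ := by
  intro β
  haveI := hprim
  obtain ⟨g, rfl⟩ := exists_smul_eq G α β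
  rw [stabilizer_smul_eq_stabilizer_map_conj]
  intro h0
  apply h
  exact (Subgroup.map_eq_bot_iff_of_injective _ (MulAut.conj g).injective).mp h0

theorem faithful_orbit [Finite G] [Fintype Ω] [FaithfulSMul G Ω] (hprim : IsPreprimitive G Ω)
    (hH : ∀ α : Ω, stabilizer G α ≠ ⊥)
    (hep : ∀ (α : Ω) (ω : Ω), IsPreprimitive (stabilizer G α) (orbit (stabilizer G α) ω))
    (α ω : Ω) (hω : ω ≠ α) : FaithfulSMul (stabilizer G α) (orbit (stabilizer G α) ω) := by
  constructor
  intro h₁ h₂ hh
  have h1 : h₂⁻¹ * h₁ = 1 := by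
    apply Manning.manning_main hprim hH hep α ω hω
    intro x hx
    have := hh ⟨x, hx⟩
    have h2 := congrArg Subtype.val this
    simp only [orbit.coe_smul] at h2
    rw [mul_smul, h2, inv_smul_smul]
  rw [inv_mul_eq_one] at h1
  exact h1.symm

theorem nontrivial_orbit [FaithfulSMul G Ω] (hprim : IsPreprimitive G Ω)
    (hH : ∀ α : Ω, stabilizer G α ≠ ⊥) (α ω : Ω) (hω : ω ≠ α) :
    Nontrivial (orbit (stabilizer G α) ω) := by
  have h1 := Manning.stab_not_le hprim hH hω.symm
  rw [SetLike.not_le_iff_exists] at h1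
  obtain ⟨h, hh, hhω⟩ := h1
  refine ⟨⟨⟨ω, mem_orbit_self ω⟩, ⟨h • ω, ⟨⟨h, hh⟩, rfl⟩⟩, ?_⟩⟩
  intro heq
  apply hhω
  have := congrArg Subtype.val heq
  exact this.symm

theorem ext_prim_main [Finite G] [Fintype Ω] [FaithfulSMul G Ω] (hprim : IsPreprimitive G Ω)
    (hep : ∀ (α : Ω) (ω : Ω), IsPreprimitive (stabilizer G α) (orbit (stabilizer G α) ω))
    (α : Ω) (hH1 : stabilizer G α ≠ ⊥) (hHp : ¬ (Nat.card (stabilizer G α)).Prime) :
    Subgroup.center (stabilizer G α) = ⊥ ∧
    IsMulCommutative (Cfsg.fittingSubgroup (stabilizer G α)) ∧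
    ∃ p e : ℕ, p.Prime ∧ Nat.card (Cfsg.fittingSubgroup (stabilizer G α)) = p ^ e ∧
      (∀ x ∈ Cfsg.fittingSubgroup (stabilizer G α), x ^ p = 1) ∧
      (Cfsg.fittingSubgroup (stabilizer G α) ≠ ⊥ →
        p ^ e ∣ Fintype.card Ω - 1 ∧
        ∃ φ : stabilizer G α →* GL (Fin e) (ZMod p),
          φ.ker = Cfsg.fittingSubgroup (stabilizer G α)) := by
  classical
  have hH := stab_ne_bot_all hprim hH1
  have hex : ∃ ω : Ω, ω ≠ α := by
    by_contra hcon
    push Not at hcon
    apply hH1
    rw [Subgroup.eq_bot_iff_forall]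
    intro g _
    apply FaithfulSMul.eq_of_smul_eq_smul (α := Ω)
    intro x
    rw [hcon x, one_smul, hcon (g • α)]
  obtain ⟨ω, hω⟩ := hex
  haveI hfaith : ∀ x : Ω, x ≠ α → FaithfulSMul (stabilizer G α) (orbit (stabilizer G α) x) :=
    fun x hx => faithful_orbit hprim hH hep α x hx
  haveI := hfaith ω hω
  haveI := hep α ω
  haveI := nontrivial_orbit hprim hH α ω hω
  have hcen : Subgroup.center (stabilizer G α) = ⊥ :=
    center_eq_bot (X := orbit (stabilizer G α) ω) hHp
  refine ⟨hcen, ?_⟩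
  by_cases hF : Cfsg.fittingSubgroup (stabilizer G α) = ⊥
  · have hall : ∀ x ∈ Cfsg.fittingSubgroup (stabilizer G α), x = 1 := by
      intro x hx
      have : x ∈ (⊥ : Subgroup (stabilizer G α)) := hF ▸ hx
      exact Subgroup.mem_bot.mp this
    refine ⟨⟨⟨fun a b => ?_⟩⟩, 2, 0, Nat.prime_two, ?_, ?_, fun h => absurd hF h⟩
    · apply Subtype.ext
      rw [Subgroup.coe_mul, Subgroup.coe_mul, hall a a.2, hall b b.2]
    · rw [hF, Subgroup.card_bot, pow_zero]
    · intro x hx
      rw [hall x hx, one_pow]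
  · obtain ⟨hab, hcardX, hcent, p, e, hp, hcard, hexp⟩ :=
      fitting_struct (X := orbit (stabilizer G α) ω) hF
    refine ⟨⟨⟨fun a b => Subtype.ext (hab a a.2 b b.2)⟩⟩, p, e, hp, hcard, hexp, fun _ => ⟨?_, ?_⟩⟩
    · -- divisibility
      set F := Cfsg.fittingSubgroup (stabilizer G α) with hFdef
      haveI : F.Normal := Cfsg.Agent.Helper1.fittingSubgroup_normal
      let S : SubMulAction F Ω :=
        { carrier := {x | x ≠ α}
          smul_mem' := by
            intro f x hx hfx
            apply hx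
            have hfα : f • α = α := (f : stabilizer G α).2
            have h2 : f • x = f • α := hfx.trans hfα.symm
            exact smul_left_cancel f h2 }
      have hfree : ∀ x : S, stabilizer F x = ⊥ := by
        intro x
        rw [Subgroup.eq_bot_iff_forall]
        intro f hf
        have hx : (x : Ω) ≠ α := x.2
        haveI := hfaith (x : Ω) hx
        haveI := hep α (x : Ω)
        have hfx : (f : stabilizer G α) • (x : Ω) = (x : Ω) := by
          have := congrArg Subtype.val (mem_stabilizer_iff.mp hf)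
          exact this
        have h1 := abelian_normal_free (X := orbit (stabilizer G α) (x : Ω)) F hF hab
          (f : stabilizer G α) f.2 ⟨(x : Ω), mem_orbit_self _⟩ (Subtype.ext hfx)
        exact Subtype.ext h1
      have hdvd := Cfsg.Agent.Helper1.card_dvd_of_free F S hfree
      rw [hcard] at hdvd
      have hS : Nat.card S = Fintype.card Ω - 1 := by
        rw [← Set.card_ne_eq α, ← Nat.card_eq_fintype_card]
        rfl
      rw [hS] at hdvd
      exact hdvd
    · exact exists_hom_GL p e hp hab hcard hexp hcent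

end Cfsg.Agent.Helper1.ExtPrim
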