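import Mathlib

/-!
# Minimal normal subgroups of a non-abelian minimal normal subgroup
-/

set_option autoImplicit false

namespace Cfsg.Agent.Helper1.OS

variable {G : Type*} [Group G]

/-- The conjugate subgroup `g S g⁻¹`. -/
def cj (g : G) (S : Subgroup G) : Subgroup G := S.map (MulAut.conj g).toMonoidHom

theorem mem_cj {g x : G} {S : Subgroup G} : x ∈ cj g S ↔ g⁻¹ * x * g ∈ S := by
  unfold cj
  rw [Subgroup.mem_map]
  constructor
  · rintro ⟨s, hs, rfl⟩
    have : g⁻¹ * (MulAut.conj g).toMonoidHom s * g = s := by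
      change g⁻¹ * (g * s * g⁻¹) * g = s
      group
    rw [this]
    exact hs
  · intro h
    refine ⟨g⁻¹ * x * g, h, ?_⟩
    change g * (g⁻¹ * x * g) * g⁻¹ = x
    group

theorem conj_mem_cj {g s : G} {S : Subgroup G} (hs : s ∈ S) : g * s * g⁻¹ ∈ cj g S := by
  rw [mem_cj]
  have : g⁻¹ * (g * s * g⁻¹) * g = s := by group
  rw [this]
  exact hs

theorem cj_one (S : Subgroup G) : cj 1 S = S := by
  ext x
  rw [mem_cj]
  simp

theorem cj_mul (g h : G) (S : Subgroup G) : cj (g * h) S = cj g (cj h S) := by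
  ext x
  rw [mem_cj, mem_cj, mem_cj]
  have : (g * h)⁻¹ * x * (g * h) = h⁻¹ * (g⁻¹ * x * g) * h := by group
  rw [this]

theorem cj_mono (g : G) {S₁ S₂ : Subgroup G} (h : S₁ ≤ S₂) : cj g S₁ ≤ cj g S₂ :=
  Subgroup.map_mono h

theorem cj_inv_cj (g : G) (S : Subgroup G) : cj g⁻¹ (cj g S) = S := by
  rw [← cj_mul, inv_mul_cancel, cj_one]

theorem cj_cj_inv (g : G) (S : Subgroup G) : cj g (cj g⁻¹ S) = S := by
  rw [← cj_mul, mul_inv_cancel, cj_one]

theorem cj_bot (g : G) : cj g (⊥ : Subgroup G) = ⊥ := Subgroup.map_bot _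

theorem cj_eq_bot_iff {g : G} {S : Subgroup G} : cj g S = ⊥ ↔ S = ⊥ := by
  constructor
  · intro h
    rw [← cj_inv_cj g S, h, cj_bot]
  · intro h
    rw [h, cj_bot]

theorem cj_normal (g : G) (N : Subgroup G) [hN : N.Normal] : cj g N = N := by
  ext x
  rw [mem_cj]
  constructor
  · intro h
    have := hN.conj_mem _ h g
    have e : g * (g⁻¹ * x * g) * g⁻¹ = x := by group
    rwa [e] at this
  · intro h
    have := hN.conj_mem _ h g⁻¹
    rwa [inv_inv] at this

theorem cj_eq_of_mem_normalizer {g : G} {S : Subgroup G}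
    (hg : g ∈ Subgroup.normalizer (S : Set G)) : cj g S = S := by
  ext x
  rw [mem_cj]
  have hg' : g⁻¹ ∈ Subgroup.normalizer (S : Set G) := Subgroup.inv_mem _ hg
  have := Subgroup.mem_normalizer_iff.mp hg' x
  rw [inv_inv] at this
  exact this.symm

theorem mem_normalizer_of_cj_eq {g : G} {S : Subgroup G} (h : cj g S = S) :
    g ∈ Subgroup.normalizer (S : Set G) := by
  rw [Subgroup.mem_normalizer_iff]
  intro x
  constructor
  · intro hx
    rw [← h]
    exact conj_mem_cj hx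
  · intro hx
    rw [← h, mem_cj] at hx
    have e : g⁻¹ * (g * x * g⁻¹) * g = x := by group
    rwa [e] at hx

theorem normalizer_cj (g : G) (S : Subgroup G) :
    Subgroup.normalizer ((cj g S : Subgroup G) : Set G) = cj g (Subgroup.normalizer (S : Set G)) := by
  ext x
  rw [mem_cj]
  constructor
  · intro hx
    apply mem_normalizer_of_cj_eq
    have h1 := cj_eq_of_mem_normalizer hx
    rw [cj_mul, cj_mul, h1, cj_inv_cj]
  · intro hx
    apply mem_normalizer_of_cj_eq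
    have h1 := cj_eq_of_mem_normalizer hx
    have h2 : x = g * (g⁻¹ * x * g) * g⁻¹ := by group
    rw [h2, cj_mul, cj_mul, cj_inv_cj, h1]

/-- `S` is a minimal normal subgroup of `N` (all inside `G`). -/
structure IsMinIn (N S : Subgroup G) : Prop where
  le : S ≤ N
  ne_bot : S ≠ ⊥
  norm : N ≤ Subgroup.normalizer (S : Set G)
  min : ∀ M : Subgroup G, M ≤ S → N ≤ Subgroup.normalizer (M : Set G) → M = ⊥ ∨ M = S

theorem exists_isMinIn [Finite G] (N : Subgroup G) (hN : N ≠ ⊥) : ∃ S : Subgroup G, IsMinIn N S := by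
  let 𝒮 : Set (Subgroup G) := {M | M ≤ N ∧ M ≠ ⊥ ∧ N ≤ Subgroup.normalizer (M : Set G)}
  have hN𝒮 : N ∈ 𝒮 := ⟨le_rfl, hN, Subgroup.le_normalizer⟩
  obtain ⟨S, -, hSmin⟩ := (Set.toFinite 𝒮).exists_le_minimal hN𝒮
  obtain ⟨hSN, hS1, hSn⟩ : S ∈ 𝒮 := hSmin.prop
  refine ⟨S, hSN, hS1, hSn, ?_⟩
  intro M hMS hMn
  by_cases hM : M = ⊥
  · exact Or.inl hM
  · right
    exact le_antisymm hMS (hSmin.2 ⟨hMS.trans hSN, hM, hMn⟩ hMS)

theorem IsMinIn.cj {N S : Subgroup G} [hN : N.Normal] (h : IsMinIn N S) (g : G) :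
    IsMinIn N (cj g S) := by
  refine ⟨?_, ?_, ?_, ?_⟩
  · have := cj_mono g h.le
    rwa [cj_normal _ N] at this
  · rw [Ne, cj_eq_bot_iff]
    exact h.ne_bot
  · rw [normalizer_cj]
    have := cj_mono g h.norm
    rwa [cj_normal _ N] at this
  · intro M hM hMn
    have h1 : OS.cj g⁻¹ M ≤ S := by
      have := cj_mono g⁻¹ hM
      rwa [cj_inv_cj] at this
    have h2 : N ≤ Subgroup.normalizer ((OS.cj g⁻¹ M : Subgroup G) : Set G) := by
      rw [normalizer_cj]
      have := cj_mono g⁻¹ hMn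
      rwa [cj_normal _ N] at this
    rcases h.min _ h1 h2 with h3 | h3
    · left
      exact cj_eq_bot_iff.mp h3
    · right
      rw [← h3, cj_cj_inv]

/-- Distinct minimal normal subgroups of `N` intersect trivially. -/
theorem IsMinIn.inf_eq_bot {N S₁ S₂ : Subgroup G} (h₁ : IsMinIn N S₁) (h₂ : IsMinIn N S₂)
    (hne : S₁ ≠ S₂) : S₁ ⊓ S₂ = ⊥ := by
  have hn : N ≤ Subgroup.normalizer ((S₁ ⊓ S₂ : Subgroup G) : Set G) := by
    intro n hn
    rw [Subgroup.mem_normalizer_iff]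
    intro x
    rw [Subgroup.mem_inf, Subgroup.mem_inf,
      ← Subgroup.mem_normalizer_iff.mp (h₁.norm hn) x,
      ← Subgroup.mem_normalizer_iff.mp (h₂.norm hn) x]
  rcases h₁.min _ inf_le_left hn with h | h
  · exact h
  · exfalso
    have h12 : S₁ ≤ S₂ := by
      rw [← h]
      exact inf_le_right
    rcases h₂.min _ h12 h₁.norm with h3 | h3
    · exact h₁.ne_bot h3
    · exact hne h3

/-- Distinct minimal normal subgroups of `N` commute elementwise. -/
theorem IsMinIn.commute {N S₁ S₂ : Subgroup G} (h₁ : IsMinIn N S₁) (h₂ : IsMinIn N S₂)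
    (hne : S₁ ≠ S₂) {a b : G} (ha : a ∈ S₁) (hb : b ∈ S₂) : a * b = b * a := by
  have h1 : a * b * a⁻¹ * b⁻¹ ∈ S₁ ⊓ S₂ := by
    refine Subgroup.mem_inf.mpr ⟨?_, ?_⟩
    · have hb' := (Subgroup.mem_normalizer_iff.mp (h₁.norm (h₂.le hb)) a⁻¹).mp (S₁.inv_mem ha)
      have := S₁.mul_mem ha hb'
      have e : a * (b * a⁻¹ * b⁻¹) = a * b * a⁻¹ * b⁻¹ := by group
      rwa [e] at this
    · have ha' := (Subgroup.mem_normalizer_iff.mp (h₂.norm (h₁.le ha)) b).mp hb
      exact S₂.mul_mem ha' (S₂.inv_mem hb)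
  rw [h₁.inf_eq_bot h₂ hne, Subgroup.mem_bot] at h1
  have e : a * b = (a * b * a⁻¹ * b⁻¹) * (b * a) := by group
  rw [e, h1, one_mul]

end Cfsg.Agent.Helper1.OS
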