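import Mathlib
import Cfsg.Agent.Helper1.OSa

/-!
# Minimal normal subgroups of a non-abelian minimal normal subgroup, II
-/

set_option autoImplicit false

namespace Cfsg.Agent.Helper1.OS

variable {G : Type*} [Group G] {N S : Subgroup G}

theorem iSup_cj_eq [hN : N.Normal]
    (hNmin : ∀ M : Subgroup G, M.Normal → M ≤ N → M = ⊥ ∨ M = N) (h : IsMinIn N S) :
    (⨆ g : G, cj g S) = N := by
  set W := ⨆ g : G, cj g S with hW
  have hWN : W ≤ N := iSup_le (fun g => (h.cj g).le)
  have hSW : S ≤ W := by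
    have := le_iSup (fun g : G => cj g S) 1
    rwa [cj_one] at this
  have hcjW : ∀ x : G, cj x W ≤ W := by
    intro x
    change Subgroup.map (MulAut.conj x).toMonoidHom W ≤ W
    rw [hW, Subgroup.map_iSup]
    apply iSup_le
    intro g
    have : Subgroup.map (MulAut.conj x).toMonoidHom (cj g S) = cj (x * g) S := by
      rw [cj_mul]
      rfl
    rw [this]
    exact le_iSup (fun g : G => cj g S) (x * g)
  have hWn : W.Normal := ⟨fun w hw x => hcjW x (conj_mem_cj hw)⟩
  rcases hNmin W hWn hWN with h0 | h0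
  · exfalso
    apply h.ne_bot
    rw [eq_bot_iff, ← h0]
    exact hSW
  · exact h0

theorem cj_comm_of_comm {g : G} (hS : ∀ a ∈ S, ∀ b ∈ S, a * b = b * a) :
    ∀ a ∈ cj g S, ∀ b ∈ cj g S, a * b = b * a := by
  intro a ha b hb
  rw [mem_cj] at ha hb
  have := hS _ ha _ hb
  calc a * b = g * ((g⁻¹ * a * g) * (g⁻¹ * b * g)) * g⁻¹ := by group
    _ = g * ((g⁻¹ * b * g) * (g⁻¹ * a * g)) * g⁻¹ := by rw [this]
    _ = b * a := by group

/-- A minimal normal subgroup of a non-abelian minimal normal subgroup is non-abelian. -/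
theorem not_comm [hN : N.Normal]
    (hNmin : ∀ M : Subgroup G, M.Normal → M ≤ N → M = ⊥ ∨ M = N)
    (hNnab : ¬ ∀ a ∈ N, ∀ b ∈ N, a * b = b * a) (h : IsMinIn N S) :
    ¬ ∀ a ∈ S, ∀ b ∈ S, a * b = b * a := by
  intro hS
  apply hNnab
  have hcc : ∀ g g' : G, cj g S ≤ Subgroup.centralizer ((cj g' S : Subgroup G) : Set G) := by
    intro g g' a ha
    rw [Subgroup.mem_centralizer_iff]
    intro b hb
    by_cases heq : cj g S = cj g' S
    · rw [heq] at ha
      exact cj_comm_of_comm hS b hb a ha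
    · exact ((h.cj g).commute (h.cj g') heq ha hb).symm
  have h1 : ∀ g' : G, N ≤ Subgroup.centralizer ((cj g' S : Subgroup G) : Set G) := by
    intro g'
    rw [← iSup_cj_eq hNmin h]
    exact iSup_le (fun g => hcc g g')
  have h2 : N ≤ Subgroup.centralizer (N : Set G) := by
    conv_lhs => rw [← iSup_cj_eq hNmin h]
    apply iSup_le
    intro g'
    rw [Subgroup.le_centralizer_iff]
    exact h1 g'
  intro a ha b hb
  exact (Subgroup.mem_centralizer_iff.mp (h2 hb) a ha)

theorem inf_centralizer_eq_bot (hSnab : ¬ ∀ a ∈ S, ∀ b ∈ S, a * b = b * a) (h : IsMinIn N S) :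
    S ⊓ Subgroup.centralizer (S : Set G) = ⊥ := by
  have hn : N ≤ Subgroup.normalizer
      ((S ⊓ Subgroup.centralizer (S : Set G) : Subgroup G) : Set G) := by
    intro n hn
    have hnS := h.norm hn
    have hnS' : n⁻¹ ∈ Subgroup.normalizer (S : Set G) := Subgroup.inv_mem _ hnS
    have key : ∀ m ∈ Subgroup.normalizer (S : Set G), ∀ x ∈ Subgroup.centralizer (S : Set G),
        m * x * m⁻¹ ∈ Subgroup.centralizer (S : Set G) := by
      intro m hm x hx
      have hm' : m⁻¹ ∈ Subgroup.normalizer (S : Set G) := Subgroup.inv_mem _ hm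
      rw [Subgroup.mem_centralizer_iff] at hx ⊢
      intro s hs
      have hs' : m⁻¹ * s * m⁻¹⁻¹ ∈ S := (Subgroup.mem_normalizer_iff.mp hm' s).mp hs
      have := hx _ hs'
      calc s * (m * x * m⁻¹) = m * ((m⁻¹ * s * m⁻¹⁻¹) * x) * m⁻¹ := by group
        _ = m * (x * (m⁻¹ * s * m⁻¹⁻¹)) * m⁻¹ := by rw [this]
        _ = m * x * m⁻¹ * s := by group
    rw [Subgroup.mem_normalizer_iff]
    intro x
    rw [Subgroup.mem_inf, Subgroup.mem_inf, ← Subgroup.mem_normalizer_iff.mp hnS x]
    constructor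
    · rintro ⟨h1, h2⟩
      exact ⟨h1, key n hnS x h2⟩
    · rintro ⟨h1, h2⟩
      refine ⟨h1, ?_⟩
      have := key n⁻¹ hnS' _ h2
      have e : n⁻¹ * (n * x * n⁻¹) * n⁻¹⁻¹ = x := by group
      rwa [e] at this
  rcases h.min _ inf_le_left hn with h0 | h0
  · exact h0
  · exfalso
    apply hSnab
    intro a ha b hb
    have hb' : b ∈ Subgroup.centralizer (S : Set G) := by
      have : b ∈ S ⊓ Subgroup.centralizer (S : Set G) := by
        rw [h0]
        exact hb
      exact this.2
    exact Subgroup.mem_centralizer_iff.mp hb' a ha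

/-- `N = S × C_N(S)`, elementwise. -/
theorem exists_mul_of_mem [hN : N.Normal]
    (hNmin : ∀ M : Subgroup G, M.Normal → M ≤ N → M = ⊥ ∨ M = N) (h : IsMinIn N S) {n : G}
    (hn : n ∈ N) : ∃ s ∈ S, ∃ c ∈ N ⊓ Subgroup.centralizer (S : Set G), n = s * c := by
  let SC : Subgroup G :=
    { carrier := {n | ∃ s ∈ S, ∃ c ∈ N ⊓ Subgroup.centralizer (S : Set G), n = s * c}
      one_mem' := ⟨1, S.one_mem, 1, Subgroup.one_mem _, by simp⟩
      mul_mem' := by
        rintro a b ⟨s, hs, c, hc, rfl⟩ ⟨s', hs', c', hc', rfl⟩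
        refine ⟨s * s', S.mul_mem hs hs', c * c', Subgroup.mul_mem _ hc hc', ?_⟩
        have := Subgroup.mem_centralizer_iff.mp hc.2 s' hs'
        calc s * c * (s' * c') = s * (c * s') * c' := by group
          _ = s * (s' * c) * c' := by rw [this]
          _ = s * s' * (c * c') := by group
      inv_mem' := by
        rintro a ⟨s, hs, c, hc, rfl⟩
        refine ⟨s⁻¹, S.inv_mem hs, c⁻¹, Subgroup.inv_mem _ hc, ?_⟩
        have := Subgroup.mem_centralizer_iff.mp hc.2 s hs
        rw [mul_inv_rev]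
        have e : s⁻¹ * c⁻¹ = (c * s)⁻¹ := by group
        rw [e, ← this]
        group }
  have hle : ∀ g : G, cj g S ≤ SC := by
    intro g x hx
    by_cases heq : cj g S = S
    · rw [heq] at hx
      exact ⟨x, hx, 1, Subgroup.one_mem _, by simp⟩
    · refine ⟨1, S.one_mem, x, ⟨(h.cj g).le hx, ?_⟩, by simp⟩
      change x ∈ Subgroup.centralizer (S : Set G)
      rw [Subgroup.mem_centralizer_iff]
      intro s hs
      exact ((h.cj g).commute h heq hx hs).symm
  have : N ≤ SC := by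
    rw [← iSup_cj_eq hNmin h]
    exact iSup_le hle
  exact this hn

/-- A minimal normal subgroup of a minimal normal subgroup is simple. -/
theorem isSimpleGroup_of_isMinIn [hN : N.Normal]
    (hNmin : ∀ M : Subgroup G, M.Normal → M ≤ N → M = ⊥ ∨ M = N) (h : IsMinIn N S) :
    IsSimpleGroup S := by
  haveI : Nontrivial S := (Subgroup.nontrivial_iff_ne_bot S).mpr h.ne_bot
  refine ⟨?_⟩
  intro M' hM'
  have hMS : M'.map S.subtype ≤ S := Subgroup.map_subtype_le M'
  have hMn : N ≤ Subgroup.normalizer ((M'.map S.subtype : Subgroup G) : Set G) := by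
    intro n hn
    obtain ⟨s, hs, c, hc, rfl⟩ := exists_mul_of_mem hNmin h hn
    have key : ∀ s ∈ S, ∀ c ∈ Subgroup.centralizer (S : Set G), ∀ x ∈ M'.map S.subtype,
        (s * c) * x * (s * c)⁻¹ ∈ M'.map S.subtype := by
      rintro s hs c hc x ⟨m, hm, rfl⟩
      have hcm : c * (m : G) = (m : G) * c := (Subgroup.mem_centralizer_iff.mp hc _ m.2).symm
      refine ⟨⟨s, hs⟩ * m * ⟨s, hs⟩⁻¹, hM'.conj_mem m hm _, ?_⟩
      change s * (m : G) * s⁻¹ = s * c * (m : G) * (s * c)⁻¹
      calc s * (m : G) * s⁻¹ = s * ((m : G) * c) * c⁻¹ * s⁻¹ := by group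
        _ = s * (c * (m : G)) * c⁻¹ * s⁻¹ := by rw [hcm]
        _ = s * c * (m : G) * (s * c)⁻¹ := by group
    rw [Subgroup.mem_normalizer_iff]
    intro x
    constructor
    · exact key s hs c hc.2 x
    · intro hx
      have h1 := key s⁻¹ (S.inv_mem hs) c⁻¹ (Subgroup.inv_mem _ hc.2) _ hx
      have hcs : c * s = s * c := (Subgroup.mem_centralizer_iff.mp hc.2 s hs).symm
      have e : s⁻¹ * c⁻¹ * (s * c * x * (s * c)⁻¹) * (s⁻¹ * c⁻¹)⁻¹ = x := by
        have e1 : s⁻¹ * c⁻¹ = (s * c)⁻¹ := by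
          rw [← hcs]
          group
        rw [e1]
        group
      rwa [e] at h1
  rcases h.min _ hMS hMn with h0 | h0
  · left
    exact (Subgroup.map_eq_bot_iff_of_injective _ (Subgroup.subtype_injective S)).mp h0
  · right
    rw [eq_top_iff]
    intro x _
    have hx : (x : G) ∈ M'.map S.subtype := by
      rw [h0]
      exact x.2
    obtain ⟨m, hm, hmx⟩ := hx
    have : m = x := Subtype.ext hmx
    rwa [this] at hm

end Cfsg.Agent.Helper1.OS
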