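import Mathlib
import Cfsg.Agent.Helper1.ExtPrimC
import Cfsg.Agent.Helper1.OSb

/-!
# Extremely primitive groups: basic permutation-group lemmas
-/

set_option autoImplicit false

namespace Cfsg.Agent.Helper1.OS

open MulAction

variable {G : Type*} [Group G] {Ω : Type*} [MulAction G Ω] [FaithfulSMul G Ω]

/-- A non-trivial normal subgroup of a primitive group is transitive. -/
theorem exists_smul_eq_of_normal (hprim : IsPreprimitive G Ω) (N : Subgroup G) [N.Normal]
    (hN : N ≠ ⊥) (α ω : Ω) : ∃ n ∈ N, n • α = ω := by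
  haveI := hprim
  haveI := Cfsg.Agent.Helper4.normal_isPretransitive (Ω := Ω) N hN
  obtain ⟨n, hn⟩ := exists_smul_eq N α ω
  exact ⟨n, n.2, hn⟩

/-- `G = N G_α`. -/
theorem exists_mul_stab (hprim : IsPreprimitive G Ω) (N : Subgroup G) [N.Normal]
    (hN : N ≠ ⊥) (α : Ω) (g : G) : ∃ n ∈ N, ∃ a ∈ stabilizer G α, g = n * a := by
  obtain ⟨n, hn, hnα⟩ := exists_smul_eq_of_normal hprim N hN α (g • α)
  refine ⟨n, hn, n⁻¹ * g, ?_, by group⟩
  rw [mem_stabilizer_iff, mul_smul, ← hnα, inv_smul_smul]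

/-- The only normal subgroup fixing a point is trivial. -/
theorem eq_bot_of_normal_le_stab (hprim : IsPreprimitive G Ω) (M : Subgroup G) [hM : M.Normal]
    (α : Ω) (h : M ≤ stabilizer G α) : M = ⊥ := by
  haveI := hprim
  rw [Subgroup.eq_bot_iff_forall]
  intro m hm
  apply FaithfulSMul.eq_of_smul_eq_smul (α := Ω)
  intro ω
  obtain ⟨g, rfl⟩ := exists_smul_eq G α ω
  have h1 : g⁻¹ * m * g ∈ M := by
    have := hM.conj_mem m hm g⁻¹
    rwa [inv_inv] at this
  have h2 := mem_stabilizer_iff.mp (h h1)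
  rw [one_smul]
  calc m • g • α = g • (g⁻¹ * m * g) • α := by
        rw [← mul_smul, ← mul_smul]
        congr 1
        group
    _ = g • α := by rw [h2]

/-- Maximality of two-point stabilizers in a point stabilizer. -/
theorem max_stab (hprim : IsPreprimitive G Ω) (hH : ∀ α : Ω, stabilizer G α ≠ ⊥)
    (hep : ∀ (α : Ω) (ω : Ω), IsPreprimitive (stabilizer G α) (orbit (stabilizer G α) ω))
    (α ω : Ω) (hω : ω ≠ α) (B : Subgroup G) (hB1 : stabilizer G α ⊓ stabilizer G ω ≤ B)
    (hB2 : B ≤ stabilizer G α) :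
    B = stabilizer G α ⊓ stabilizer G ω ∨ B = stabilizer G α := by
  haveI := hep α ω
  haveI := ExtPrim.nontrivial_orbit hprim hH α ω hω
  have hco := IsPreprimitive.isCoatom_stabilizer_of_isPreprimitive (G := stabilizer G α)
    (⟨ω, mem_orbit_self ω⟩ : orbit (stabilizer G α) ω)
  have hst : stabilizer (stabilizer G α) (⟨ω, mem_orbit_self ω⟩ : orbit (stabilizer G α) ω) =
      (stabilizer G ω).subgroupOf (stabilizer G α) := by
    ext a
    rw [mem_stabilizer_iff, Subgroup.mem_subgroupOf, mem_stabilizer_iff, Subtype.ext_iff]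
    rfl
  have hle : stabilizer (stabilizer G α) (⟨ω, mem_orbit_self ω⟩ : orbit (stabilizer G α) ω) ≤
      B.subgroupOf (stabilizer G α) := by
    rw [hst]
    intro a ha
    rw [Subgroup.mem_subgroupOf] at ha ⊢
    exact hB1 ⟨a.2, ha⟩
  rcases eq_or_lt_of_le hle with h0 | h0
  · left
    apply le_antisymm _ hB1
    intro b hb
    refine ⟨hB2 hb, ?_⟩
    have : (⟨b, hB2 hb⟩ : stabilizer G α) ∈ B.subgroupOf (stabilizer G α) := by
      rw [Subgroup.mem_subgroupOf]
      exact hb
    rw [← h0, hst, Subgroup.mem_subgroupOf] at this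
    exact this
  · right
    have h1 := hco.2 _ h0
    apply le_antisymm hB2
    intro a ha
    have : (⟨a, ha⟩ : stabilizer G α) ∈ B.subgroupOf (stabilizer G α) := by
      rw [h1]
      exact Subgroup.mem_top _
    rw [Subgroup.mem_subgroupOf] at this
    exact this

/-- The point stabilizer fixes only its point. -/
theorem eq_of_stab_fixes (hprim : IsPreprimitive G Ω) (hH : ∀ α : Ω, stabilizer G α ≠ ⊥)
    (α β : Ω) (h : ∀ a ∈ stabilizer G α, a • β = β) : β = α := by
  classical
  haveI := hprim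
  by_contra hne
  have hΩ : Nontrivial Ω := ⟨⟨β, α, hne⟩⟩
  have hco := IsPreprimitive.isCoatom_stabilizer_of_isPreprimitive (G := G) α
  have hco' := IsPreprimitive.isCoatom_stabilizer_of_isPreprimitive (G := G) β
  have hle : stabilizer G α ≤ stabilizer G β := fun a ha => mem_stabilizer_iff.mpr (h a ha)
  have heq : stabilizer G α = stabilizer G β := by
    rcases eq_or_lt_of_le hle with h0 | h0
    · exact h0
    · exact absurd (hco.2 _ h0) hco'.1
  obtain ⟨g, rfl⟩ := exists_smul_eq G α β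
  have hx : ∀ x : G, x ∈ stabilizer G α ↔ g⁻¹ * x * g ∈ stabilizer G α := by
    intro x
    conv_lhs => rw [heq]
    rw [mem_stabilizer_iff, mem_stabilizer_iff, mul_smul, mul_smul, inv_smul_eq_iff]
  have hg : g⁻¹ ∈ Subgroup.normalizer ((stabilizer G α : Subgroup G) : Set G) := by
    rw [Subgroup.mem_normalizer_iff]
    intro x
    rw [inv_inv]
    exact hx x
  have hAN : stabilizer G α ≤ Subgroup.normalizer ((stabilizer G α : Subgroup G) : Set G) :=
    Subgroup.le_normalizer
  rcases eq_or_lt_of_le hAN with h0 | h0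
  · rw [← h0] at hg
    have hg' := Subgroup.inv_mem _ hg
    rw [inv_inv, mem_stabilizer_iff] at hg'
    exact hne hg'
  · have h1 := hco.2 _ h0
    haveI : (stabilizer G α).Normal := Subgroup.normalizer_eq_top_iff.mp h1
    exact hH α (eq_bot_of_normal_le_stab hprim _ α le_rfl)


variable [Finite G] [Fintype Ω]

/-- A non-trivial normal subgroup of the point stabilizer is transitive on each suborbit. -/
theorem normal_stab_trans (hprim : IsPreprimitive G Ω) (hH : ∀ α : Ω, stabilizer G α ≠ ⊥)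
    (hep : ∀ (α : Ω) (ω : Ω), IsPreprimitive (stabilizer G α) (orbit (stabilizer G α) ω))
    (α : Ω) (N : Subgroup G) [N.Normal] (hK : N ⊓ stabilizer G α ≠ ⊥) (ω : Ω) (hω : ω ≠ α)
    (a : G) (ha : a ∈ stabilizer G α) : ∃ k ∈ N ⊓ stabilizer G α, k • ω = a • ω := by
  haveI := ExtPrim.faithful_orbit hprim hH hep α ω hω
  haveI := hep α ω
  have hK' : N.subgroupOf (stabilizer G α) ≠ ⊥ := by
    intro h0
    apply hK
    rw [Subgroup.eq_bot_iff_forall]
    rintro k ⟨hkN, hkA⟩
    have : (⟨k, hkA⟩ : stabilizer G α) ∈ N.subgroupOf (stabilizer G α) := by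
      rw [Subgroup.mem_subgroupOf]
      exact hkN
    rw [h0, Subgroup.mem_bot] at this
    exact congrArg Subtype.val this
  haveI := Cfsg.Agent.Helper4.normal_isPretransitive (Ω := orbit (stabilizer G α) ω)
    (N.subgroupOf (stabilizer G α)) hK'
  obtain ⟨k, hk⟩ := exists_smul_eq (N.subgroupOf (stabilizer G α))
    (⟨ω, mem_orbit_self ω⟩ : orbit (stabilizer G α) ω)
    ⟨a • ω, ⟨⟨a, ha⟩, rfl⟩⟩
  refine ⟨((k : stabilizer G α) : G), ⟨Subgroup.mem_subgroupOf.mp k.2, (k : stabilizer G α).2⟩, ?_⟩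
  exact congrArg Subtype.val hk

end Cfsg.Agent.Helper1.OS
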