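import Mathlib
import Cfsg.Agent.Helper4.DerangementSubgroup
import Cfsg.Agent.Helper1.OSc
import Cfsg.Agent.Helper1.ExtPrimA

/-!
# Derangements forming a single conjugacy class: the affine case
-/

set_option autoImplicit false

namespace Cfsg.Agent.Helper1.DerClass

open MulAction

variable {G : Type*} [Group G] [Finite G] {Ω : Type*} [Fintype Ω] [MulAction G Ω]
  [FaithfulSMul G Ω]

/-- A primitive group with an abelian normal subgroup in which the derangements form a single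
class is sharply 2-transitive. -/
theorem sharp_of_abelian_normal (hΩ : 2 ≤ Fintype.card Ω) (hprim : IsPreprimitive G Ω)
    (N : Subgroup G) [hNn : N.Normal] (hN : N ≠ ⊥) (hab : ∀ a ∈ N, ∀ b ∈ N, a * b = b * a)
    (hconj : ∀ g g' : G, (∀ ω : Ω, g • ω ≠ ω) → (∀ ω : Ω, g' • ω ≠ ω) → IsConj g g') :
    IsMultiplyPretransitive G Ω 2 ∧
      ∀ g : G, g ≠ 1 → ∀ a b : Ω, a ≠ b → g • a = a → g • b ≠ b := by
  haveI := hprim
  have hfree := ExtPrim.abelian_normal_free (X := Ω) N hN hab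
  obtain ⟨n₀, hn₀, hn₀1⟩ : ∃ n ∈ N, n ≠ 1 := by
    by_contra hcon
    push Not at hcon
    exact hN ((Subgroup.eq_bot_iff_forall N).mpr hcon)
  have hder : ∀ n ∈ N, n ≠ 1 → ∀ ω : Ω, n • ω ≠ ω :=
    fun n hn h1 ω hω => h1 (hfree n hn ω hω)
  have hD : ∀ g : G, (∀ ω : Ω, g • ω ≠ ω) → g ∈ N := by
    intro g hg
    obtain ⟨c, hc⟩ := isConj_iff.mp (hconj n₀ g (hder n₀ hn₀ hn₀1) hg)
    rw [← hc]
    exact hNn.conj_mem n₀ hn₀ c
  have hpos : 0 < Fintype.card Ω := by omega
  haveI : Nonempty Ω := Fintype.card_pos_iff.mp hpos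
  obtain ⟨-, hone⟩ := Cfsg.Agent.Helper4.derangement_subgroup_aux N hD
  constructor
  · rw [is_two_pretransitive_iff]
    have key : ∀ α β γ : Ω, β ≠ α → γ ≠ α → ∃ h : G, h • α = α ∧ h • β = γ := by
      intro α β γ hβ hγ
      obtain ⟨n₁, hn₁, rfl⟩ := OS.exists_smul_eq_of_normal hprim N hN α β
      obtain ⟨n₂, hn₂, rfl⟩ := OS.exists_smul_eq_of_normal hprim N hN α γ
      have h1 : n₁ ≠ 1 := by
        rintro rfl
        exact hβ (one_smul _ _)
      have h2 : n₂ ≠ 1 := by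
        rintro rfl
        exact hγ (one_smul _ _)
      obtain ⟨g, hg⟩ := isConj_iff.mp (hconj n₁ n₂ (hder n₁ hn₁ h1) (hder n₂ hn₂ h2))
      obtain ⟨n, hn, a, ha, rfl⟩ := OS.exists_mul_stab hprim N hN α g
      have hm : a * n₁ * a⁻¹ ∈ N := hNn.conj_mem n₁ hn₁ a
      have e : a * n₁ * a⁻¹ = n₂ := by
        have e1 : n * (a * n₁ * a⁻¹) * n⁻¹ = n₂ := by
          rw [← hg]
          group
        have e2 : n * (a * n₁ * a⁻¹) = (a * n₁ * a⁻¹) * n := hab n hn _ hm
        rw [e2, mul_assoc, mul_inv_cancel, mul_one] at e1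
        exact e1
      have haα : a • α = α := mem_stabilizer_iff.mp ha
      refine ⟨a, haα, ?_⟩
      calc a • n₁ • α = (a * n₁ * a⁻¹) • a • α := by
            rw [← mul_smul, ← mul_smul]
            congr 1
            group
        _ = n₂ • α := by rw [e, haα]
    intro a b c d hab' hcd
    obtain ⟨g₁, hg₁⟩ := exists_smul_eq G a c
    have hne : g₁ • b ≠ c := by
      rw [← hg₁]
      intro h
      exact hab' (smul_left_cancel g₁ h).symm
    obtain ⟨h, hh1, hh2⟩ := key c (g₁ • b) d hne hcd.symm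
    refine ⟨h * g₁, ?_, ?_⟩
    · rw [mul_smul, hg₁, hh1]
    · rw [mul_smul, hh2]
  · intro g hg a b hab' ha hb
    by_cases hgN : g ∈ N
    · exact hg (hfree g hgN a ha)
    · have h1 := hone g hgN
      rw [Nat.card_eq_one_iff_unique] at h1
      have h2 := h1.1.elim (⟨a, ha⟩ : fixedBy Ω g) ⟨b, hb⟩
      exact hab' (congrArg Subtype.val h2)

end Cfsg.Agent.Helper1.DerClass
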