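import Mathlib

/-!
# Groups acting on a group by automorphisms and anti-automorphisms

Basic lemmas and the two key consequences of maximality of point stabilizers.
-/

set_option autoImplicit false

namespace Cfsg.Agent.Helper1.HSL

open MulAction

variable {T : Type*} [Group T] {A : Type*} [Group A] [MulAction A T]

/-- Every element acts as an automorphism or as an anti-automorphism. -/
def AutoOrAnti (A T : Type*) [Group T] [Group A] [MulAction A T] : Prop :=
  ∀ a : A, (∀ x y : T, a • (x * y) = a • x * a • y) ∨ (∀ x y : T, a • (x * y) = a • y * a • x)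

/-- The centralizer of an element. -/
abbrev cent (x : T) : Subgroup T := Subgroup.centralizer {x}

theorem mem_cent {x g : T} : g ∈ cent x ↔ g * x = x * g := by
  rw [Subgroup.mem_centralizer_iff]
  constructor
  · intro h
    exact (h x rfl).symm
  · intro h y hy
    rw [Set.mem_singleton_iff] at hy
    rw [hy]
    exact h.symm

theorem self_mem_cent (x : T) : x ∈ cent x := mem_cent.mpr rfl

section basic

variable (hAA : AutoOrAnti A T)
include hAA

theorem smul_one' (a : A) : a • (1 : T) = 1 := by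
  have h : a • (1 : T) = a • (1 : T) * a • (1 : T) := by
    rcases hAA a with h | h
    · conv_lhs => rw [← one_mul (1 : T)]
      exact h 1 1
    · conv_lhs => rw [← one_mul (1 : T)]
      exact h 1 1
  exact (left_eq_mul.mp h)

theorem smul_inv'' (a : A) (x : T) : a • x⁻¹ = (a • x)⁻¹ := by
  rcases hAA a with h | h
  · have h1 := h x x⁻¹
    rw [mul_inv_cancel, smul_one' hAA] at h1
    exact (eq_inv_of_mul_eq_one_right h1.symm)
  · have h1 := h x⁻¹ x
    rw [inv_mul_cancel, smul_one' hAA] at h1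
    exact (eq_inv_of_mul_eq_one_right h1.symm)

theorem smul_pow'' (a : A) (x : T) (n : ℕ) : a • x ^ n = (a • x) ^ n := by
  induction n with
  | zero => rw [pow_zero, pow_zero, smul_one' hAA]
  | succ n ih =>
    rcases hAA a with h | h
    · rw [pow_succ, h, ih, pow_succ]
    · rw [pow_succ, h, ih, pow_succ']

theorem smul_eq_one_iff' (a : A) (x : T) : a • x = 1 ↔ x = 1 := by
  constructor
  · intro h
    have := congrArg (fun y => a⁻¹ • y) h
    simp only [inv_smul_smul] at this
    rw [this, smul_one' hAA]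
  · intro h
    rw [h, smul_one' hAA]

theorem orderOf_smul' (a : A) (x : T) : orderOf (a • x) = orderOf x := by
  rw [orderOf_eq_orderOf_iff]
  intro n
  rw [← smul_pow'' hAA, smul_eq_one_iff' hAA]

theorem commute_smul' (a : A) {x y : T} (h : x * y = y * x) : a • x * a • y = a • y * a • x := by
  rcases hAA a with h1 | h1
  · rw [← h1, ← h1, h]
  · rw [← h1, ← h1, h]

/-- Conjugates go to conjugates. -/
theorem smul_conj' (a : A) (y x : T) :
    ∃ u : T, (u = a • y ∨ u = (a • y)⁻¹) ∧ a • (y * x * y⁻¹) = u * a • x * u⁻¹ := by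
  rcases hAA a with h | h
  · refine ⟨a • y, Or.inl rfl, ?_⟩
    rw [h, h, smul_inv'' hAA]
  · refine ⟨(a • y)⁻¹, Or.inr rfl, ?_⟩
    rw [h, h, smul_inv'' hAA, inv_inv, mul_assoc]

theorem smul_mem_cent (a : A) {x g : T} (hg : g ∈ cent x) : a • g ∈ cent (a • x) := by
  rw [mem_cent] at hg ⊢
  exact commute_smul' hAA a hg

end basic

/-- Consequence (I) of maximality of the stabilizer of `x`. -/
theorem key_I (hAA : AutoOrAnti A T) (hinn : ∀ s : T, ∃ a : A, ∀ x : T, a • x = s * x * s⁻¹)
    (x : T) (hmax : ∀ B : Subgroup A, stabilizer A x ≤ B → B = stabilizer A x ∨ B = ⊤)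
    (L : Subgroup T) (hCL : cent x ≤ L) (hinv : ∀ c ∈ stabilizer A x, ∀ l ∈ L, c • l ∈ L) :
    L = cent x ∨ L = ⊤ := by
  -- decomposition of elements sending x into its L-class
  have hdec : ∀ (a : A) (l : T), l ∈ L → a • x = l * x * l⁻¹ →
      ∃ d c : A, (∀ y : T, d • y = l * y * l⁻¹) ∧ c ∈ stabilizer A x ∧ a = d * c := by
    intro a l _ hal
    obtain ⟨d, hd⟩ := hinn l
    refine ⟨d, d⁻¹ * a, hd, ?_, by group⟩
    rw [mem_stabilizer_iff, mul_smul, hal, ← hd x, inv_smul_smul]
  have hstep : ∀ (c : A), c ∈ stabilizer A x → ∀ l ∈ L, ∃ u ∈ L, c • (l * x * l⁻¹) = u * x * u⁻¹ := by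
    intro c hc l hl
    obtain ⟨u, hu, he⟩ := smul_conj' hAA c l x
    rw [mem_stabilizer_iff.mp hc] at he
    refine ⟨u, ?_, he⟩
    rcases hu with rfl | rfl
    · exact hinv c hc l hl
    · exact L.inv_mem (hinv c hc l hl)
  let B : Subgroup A :=
    { carrier := {a | ∃ l ∈ L, a • x = l * x * l⁻¹}
      one_mem' := ⟨1, L.one_mem, by simp⟩
      mul_mem' := by
        rintro a b ⟨l, hl, hal⟩ ⟨l', hl', hbl⟩
        obtain ⟨d, c, hd, hc, rfl⟩ := hdec a l hl hal
        obtain ⟨u, hu, he⟩ := hstep c hc l' hl'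
        refine ⟨l * u, L.mul_mem hl hu, ?_⟩
        rw [mul_smul, hbl, mul_smul, he, hd]
        group
      inv_mem' := by
        rintro a ⟨l, hl, hal⟩
        obtain ⟨d, c, hd, hc, rfl⟩ := hdec a l hl hal
        have hc' : c⁻¹ ∈ stabilizer A x := Subgroup.inv_mem _ hc
        have hdx : d⁻¹ • x = l⁻¹ * x * l⁻¹⁻¹ := by
          rw [inv_smul_eq_iff, hd]
          group
        obtain ⟨u, hu, he⟩ := hstep c⁻¹ hc' l⁻¹ (L.inv_mem hl)
        refine ⟨u, hu, ?_⟩
        rw [mul_inv_rev, mul_smul, hdx, he] }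
  have hSB : stabilizer A x ≤ B := by
    intro c hc
    exact ⟨1, L.one_mem, by rw [mem_stabilizer_iff.mp hc]; simp⟩
  rcases hmax B hSB with hB | hB
  · left
    apply le_antisymm _ hCL
    intro l hl
    obtain ⟨d, hd⟩ := hinn l
    have hdB : d ∈ B := ⟨l, hl, hd x⟩
    rw [hB, mem_stabilizer_iff, hd] at hdB
    rw [mem_cent]
    rw [mul_inv_eq_iff_eq_mul] at hdB
    exact hdB
  · right
    rw [eq_top_iff]
    intro s _
    obtain ⟨d, hd⟩ := hinn s
    have hdB : d ∈ B := by rw [hB]; exact Subgroup.mem_top d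
    obtain ⟨l, hl, hdl⟩ := hdB
    rw [hd] at hdl
    have h1 : l⁻¹ * s ∈ cent x := by
      rw [mem_cent]
      have : l⁻¹ * (s * x * s⁻¹) * l = l⁻¹ * (l * x * l⁻¹) * l := by rw [hdl]
      have h2 : l⁻¹ * (l * x * l⁻¹) * l = x := by group
      rw [h2] at this
      calc l⁻¹ * s * x = (l⁻¹ * (s * x * s⁻¹) * l) * (l⁻¹ * s) := by group
        _ = x * (l⁻¹ * s) := by rw [this]
    have h3 : s = l * (l⁻¹ * s) := by group
    rw [h3]
    exact L.mul_mem hl (hCL h1)

theorem smul_conj_cases (hAA : AutoOrAnti A T) (a : A) :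
    (∀ y x : T, a • (y * x * y⁻¹) = a • y * a • x * (a • y)⁻¹) ∨
    (∀ y x : T, a • (y * x * y⁻¹) = (a • y)⁻¹ * a • x * (a • y)) := by
  rcases hAA a with h | h
  · left
    intro y x
    rw [h, h, smul_inv'' hAA]
  · right
    intro y x
    rw [h, h, smul_inv'' hAA, mul_assoc]

/-- Elements of the stabilizer of `x` preserve the normalizer of the centralizer of `x`. -/
theorem smul_mem_normalizer_cent (hAA : AutoOrAnti A T) (x : T) (c : A)
    (hc : c ∈ stabilizer A x) (n : T) (hn : n ∈ Subgroup.normalizer (cent x : Set T)) :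
    c • n ∈ Subgroup.normalizer (cent x : Set T) := by
  have hc' : c⁻¹ ∈ stabilizer A x := Subgroup.inv_mem _ hc
  have hQ : ∀ (b : A), b ∈ stabilizer A x → ∀ q ∈ cent x, b • q ∈ cent x := by
    intro b hb q hq
    have := smul_mem_cent hAA b hq
    rwa [mem_stabilizer_iff.mp hb] at this
  -- conjugation by `c • m` preserves `cent x` for `m` in the normalizer
  have key : ∀ m ∈ Subgroup.normalizer (cent x : Set T), ∀ q ∈ cent x,
      c • m * q * (c • m)⁻¹ ∈ cent x := by
    intro m hm q hq
    have hq' : c⁻¹ • q ∈ cent x := hQ c⁻¹ hc' q hq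
    have hqq : c • (c⁻¹ • q) = q := smul_inv_smul c q
    rcases smul_conj_cases hAA c with h | h
    · have h1 := h m (c⁻¹ • q)
      rw [hqq] at h1
      rw [← h1]
      exact hQ c hc _ ((Subgroup.mem_normalizer_iff.mp hm _).mp hq')
    · have h1 := h m⁻¹ (c⁻¹ • q)
      rw [hqq, smul_inv'' hAA, inv_inv, inv_inv] at h1
      rw [← h1]
      have hm' : m⁻¹ ∈ Subgroup.normalizer (cent x : Set T) := Subgroup.inv_mem _ hm
      have := (Subgroup.mem_normalizer_iff.mp hm' _).mp hq'
      rw [inv_inv] at this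
      exact hQ c hc _ this
  rw [Subgroup.mem_normalizer_iff]
  intro h
  constructor
  · exact key n hn h
  · intro hh
    have := key n⁻¹ (Subgroup.inv_mem _ hn) _ hh
    rw [smul_inv'' hAA, inv_inv] at this
    have e : (c • n)⁻¹ * (c • n * h * (c • n)⁻¹) * (c • n) = h := by group
    rwa [e] at this

/-- Consequence (II) of maximality: centralizers of non-identity elements are self-normalizing. -/
theorem normalizer_cent (hAA : AutoOrAnti A T)
    (hinn : ∀ s : T, ∃ a : A, ∀ x : T, a • x = s * x * s⁻¹) [IsSimpleGroup T]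
    (hcen : Subgroup.center T = ⊥) (x : T) (hx : x ≠ 1)
    (hmax : ∀ B : Subgroup A, stabilizer A x ≤ B → B = stabilizer A x ∨ B = ⊤) :
    Subgroup.normalizer (cent x : Set T) = cent x := by
  rcases key_I hAA hinn x hmax (Subgroup.normalizer (cent x : Set T)) Subgroup.le_normalizer
    (fun c hc l hl => smul_mem_normalizer_cent hAA x c hc l hl) with h | h
  · exact h
  · exfalso
    have hn : (cent x).Normal := Subgroup.normalizer_eq_top_iff.mp h
    rcases hn.eq_bot_or_eq_top with h0 | h0
    · have := self_mem_cent x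
      rw [h0, Subgroup.mem_bot] at this
      exact hx this
    · apply hx
      have hxc : x ∈ Subgroup.center T := by
        rw [Subgroup.mem_center_iff]
        intro g
        have hg : g ∈ cent x := h0 ▸ Subgroup.mem_top g
        exact mem_cent.mp hg
      rw [hcen, Subgroup.mem_bot] at hxc
      exact hxc

end Cfsg.Agent.Helper1.HSL
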