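import Mathlib
import Cfsg.Agent.Helper1.HSLa

/-!
# Auto/anti-automorphism actions with maximal stabilizers: centralizer rules
-/

set_option autoImplicit false

namespace Cfsg.Agent.Helper1.HSL

open MulAction

variable {T : Type*} [Group T] {A : Type*} [Group A] [MulAction A T]

/-- The standing hypotheses. -/
structure Hyp (A T : Type*) [Group T] [Group A] [MulAction A T] : Prop where
  aa : AutoOrAnti A T
  inn : ∀ s : T, ∃ a : A, ∀ x : T, a • x = s * x * s⁻¹
  max : ∀ x : T, x ≠ 1 → ∀ B : Subgroup A, stabilizer A x ≤ B → B = stabilizer A x ∨ B = ⊤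
  cen : Subgroup.center T = ⊥

theorem cent_ne_top (h : Hyp A T) {x : T} (hx : x ≠ 1) : cent x ≠ ⊤ := by
  intro h0
  apply hx
  have hxc : x ∈ Subgroup.center T := by
    rw [Subgroup.mem_center_iff]
    intro g
    have hg : g ∈ cent x := h0 ▸ Subgroup.mem_top g
    exact mem_cent.mp hg
  rw [h.cen, Subgroup.mem_bot] at hxc
  exact hxc

/-- Rule (R1): a non-trivial power has the same centralizer. -/
theorem cent_pow (h : Hyp A T) (y : T) (j : ℕ) (hy : y ^ j ≠ 1) : cent (y ^ j) = cent y := by
  have hy1 : y ≠ 1 := by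
    rintro rfl
    exact hy (one_pow j)
  have hCL : cent y ≤ cent (y ^ j) := by
    intro g hg
    rw [mem_cent] at hg ⊢
    exact ((show Commute g y from hg).pow_right j).eq
  rcases key_I h.aa h.inn y (h.max y hy1) (cent (y ^ j)) hCL (by
    intro c hc l hl
    have := smul_mem_cent h.aa c hl
    rwa [smul_pow'' h.aa, mem_stabilizer_iff.mp hc] at this) with h1 | h1
  · exact h1
  · exact absurd h1 (cent_ne_top h hy)

/-- Rule (R2): commuting elements of coprime orders have the same centralizer. -/
theorem cent_eq_of_coprime (h : Hyp A T) [Finite T] {a b : T} (ha : a ≠ 1) (hb : b ≠ 1)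
    (hab : Commute a b) (hco : (orderOf a).Coprime (orderOf b)) : cent a = cent b := by
  have key : ∀ {a b : T}, a ≠ 1 → b ≠ 1 → Commute a b → (orderOf a).Coprime (orderOf b) →
      cent a = cent (a * b) := by
    intro a b ha hb hab hco
    have h1 : (a * b) ^ orderOf b = a ^ orderOf b := by
      rw [hab.mul_pow, pow_orderOf_eq_one, mul_one]
    have h2 : a ^ orderOf b ≠ 1 := by
      intro h0
      have hdvd := orderOf_dvd_of_pow_eq_one h0
      have h3 : orderOf a = 1 := Nat.Coprime.eq_one_of_dvd hco hdvd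
      exact ha (orderOf_eq_one_iff.mp h3)
    rw [← cent_pow h a (orderOf b) h2, ← h1, cent_pow h (a * b) (orderOf b) (h1 ▸ h2)]
  rw [key ha hb hab hco, hab.eq, ← key hb ha hab.symm hco.symm]

/-- Prime-order case of the next theorem. -/
theorem no_prime_commuting (h : Hyp A T) [Finite T] [IsSimpleGroup T] {a b : T} {p r : ℕ}
    (hp : p.Prime) (hr : r.Prime) (hpr : p ≠ r) (hoa : orderOf a = p) (hob : orderOf b = r)
    (hab : Commute a b) : False := by
  haveI := Fact.mk hp
  have ha : a ≠ 1 := by
    intro h0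
    rw [h0, orderOf_one] at hoa
    exact hp.one_lt.ne hoa
  have hb : b ≠ 1 := by
    intro h0
    rw [h0, orderOf_one] at hob
    exact hr.one_lt.ne hob
  have hMb : cent a = cent b :=
    cent_eq_of_coprime h ha hb hab (by rw [hoa, hob]; exact (Nat.coprime_primes hp hr).mpr hpr)
  -- every non-identity element of `M = cent a` has centralizer `M`
  have hMg : ∀ g ∈ cent a, g ≠ 1 → cent g = cent a := by
    intro g hg hg1
    have ho1 : orderOf g ≠ 1 := fun h0 => hg1 (orderOf_eq_one_iff.mp h0)
    have hs : (orderOf g).minFac.Prime := Nat.minFac_prime ho1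
    have ho0 : orderOf g ≠ 0 := (orderOf_pos g).ne'
    have hog' := orderOf_pow_orderOf_div ho0 (Nat.minFac_dvd (orderOf g))
    set g' := g ^ (orderOf g / (orderOf g).minFac) with hg'
    have hg'1 : g' ≠ 1 := by
      intro h0
      rw [h0, orderOf_one] at hog'
      exact hs.one_lt.ne hog'
    rw [← cent_pow h g _ hg'1]
    have hg'M : g' ∈ cent a := Subgroup.pow_mem _ hg _
    by_cases hsp : (orderOf g).minFac = p
    · have hg'b : g' ∈ cent b := hMb ▸ hg'M
      have hc : Commute g' b := mem_cent.mp hg'b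
      rw [hMb]
      exact cent_eq_of_coprime h hg'1 hb hc
        (by rw [hog', hob]; exact (Nat.coprime_primes hs hr).mpr (by rw [hsp]; exact hpr))
    · have hc : Commute g' a := mem_cent.mp hg'M
      exact cent_eq_of_coprime h hg'1 ha hc
        (by rw [hog', hoa]; exact (Nat.coprime_primes hs hp).mpr hsp)
  have hMab : ∀ g ∈ cent a, ∀ k ∈ cent a, g * k = k * g := by
    intro g hg k hk
    by_cases hg1 : g = 1
    · rw [hg1, one_mul, mul_one]
    · rw [← hMg g hg hg1] at hk
      exact (mem_cent.mp hk).symm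
  -- a Sylow subgroup inside `M`
  have hza : IsPGroup p (Subgroup.zpowers a) := by
    apply IsPGroup.of_card (n := 1)
    rw [Nat.card_zpowers, hoa, pow_one]
  obtain ⟨P, hP⟩ := hza.exists_le_sylow
  have haP : a ∈ (P : Subgroup T) := hP (Subgroup.mem_zpowers a)
  haveI : Nontrivial (P : Subgroup T) := ⟨⟨⟨a, haP⟩, 1, fun h0 => ha (congrArg Subtype.val h0)⟩⟩
  haveI := P.2.center_nontrivial
  obtain ⟨z, hz⟩ := exists_ne (1 : Subgroup.center (P : Subgroup T))
  have hzT1 : ((z : (P : Subgroup T)) : T) ≠ 1 := by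
    intro h0
    apply hz
    apply Subtype.ext
    apply Subtype.ext
    exact h0
  have hzcomm : ∀ g ∈ (P : Subgroup T), g * ((z : (P : Subgroup T)) : T) =
      ((z : (P : Subgroup T)) : T) * g := by
    intro g hg
    have := Subgroup.mem_center_iff.mp z.2 ⟨g, hg⟩
    exact congrArg Subtype.val this
  have hzM : ((z : (P : Subgroup T)) : T) ∈ cent a := by
    rw [mem_cent]
    exact (hzcomm a haP).symm
  have hcz : cent ((z : (P : Subgroup T)) : T) = cent a := hMg _ hzM hzT1
  have hPM : (P : Subgroup T) ≤ cent a := by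
    intro g hg
    rw [← hcz, mem_cent]
    exact hzcomm g hg
  have hNM : Subgroup.normalizer ((P : Subgroup T) : Set T) ≤ cent a := by
    intro g hg
    rw [← normalizer_cent h.aa h.inn h.cen a ha (h.max a ha)]
    set zT := ((z : (P : Subgroup T)) : T) with hzTdef
    have hz'P : g * zT * g⁻¹ ∈ (P : Subgroup T) :=
      (Subgroup.mem_normalizer_iff.mp hg zT).mp (z : (P : Subgroup T)).2
    have hz'1 : g * zT * g⁻¹ ≠ 1 := by
      intro h0
      apply hzT1
      have : zT = g⁻¹ * (g * zT * g⁻¹) * g := by group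
      rw [this, h0]
      group
    have hcz' : cent (g * zT * g⁻¹) = cent a := hMg _ (hPM hz'P) hz'1
    rw [Subgroup.mem_normalizer_iff]
    intro m
    constructor
    · intro hm
      rw [← hcz, mem_cent] at hm
      rw [← hcz', mem_cent]
      calc g * m * g⁻¹ * (g * zT * g⁻¹) = g * (m * zT) * g⁻¹ := by group
        _ = g * (zT * m) * g⁻¹ := by rw [hm]
        _ = g * zT * g⁻¹ * (g * m * g⁻¹) := by group
    · intro hm
      rw [← hcz', mem_cent] at hm
      rw [← hcz, mem_cent]
      calc m * zT = g⁻¹ * (g * m * g⁻¹ * (g * zT * g⁻¹)) * g := by group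
        _ = g⁻¹ * (g * zT * g⁻¹ * (g * m * g⁻¹)) * g := by rw [hm]
        _ = zT * m := by group
  have hPc : Subgroup.normalizer ((P : Subgroup T) : Set T) ≤
      Subgroup.centralizer ((P : Subgroup T) : Set T) := by
    intro g hg
    rw [Subgroup.mem_centralizer_iff]
    intro k hk
    exact hMab k (hPM hk) g (hNM hg)
  have hcompl := MonoidHom.ker_transferSylow_isComplement' P hPc
  rcases (MonoidHom.normal_ker (MonoidHom.transferSylow P hPc)).eq_bot_or_eq_top with h0 | h0
  · rw [h0, Subgroup.isComplement'_bot_left] at hcompl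
    apply cent_ne_top h ha
    rw [eq_top_iff, ← hcompl]
    exact hPM
  · rw [h0, Subgroup.isComplement'_top_left] at hcompl
    rw [hcompl, Subgroup.mem_bot] at haP
    exact ha haP

/-- (E): no two non-identity elements of coprime orders commute. -/
theorem no_coprime_commuting (h : Hyp A T) [Finite T] [IsSimpleGroup T] {a b : T} (ha : a ≠ 1)
    (hb : b ≠ 1) (hab : Commute a b) (hco : (orderOf a).Coprime (orderOf b)) : False := by
  have ha1 : orderOf a ≠ 1 := fun h0 => ha (orderOf_eq_one_iff.mp h0)
  have hb1 : orderOf b ≠ 1 := fun h0 => hb (orderOf_eq_one_iff.mp h0)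
  have hp := Nat.minFac_prime ha1
  have hr := Nat.minFac_prime hb1
  have hoa := orderOf_pow_orderOf_div (orderOf_pos a).ne' (Nat.minFac_dvd (orderOf a))
  have hob := orderOf_pow_orderOf_div (orderOf_pos b).ne' (Nat.minFac_dvd (orderOf b))
  have hpr : (orderOf a).minFac ≠ (orderOf b).minFac := by
    intro h0
    have h1 : (orderOf a).minFac ∣ Nat.gcd (orderOf a) (orderOf b) :=
      Nat.dvd_gcd (Nat.minFac_dvd _) (h0 ▸ Nat.minFac_dvd _)
    rw [hco.gcd_eq_one] at h1
    exact hp.one_lt.ne' (Nat.dvd_one.mp h1)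
  exact no_prime_commuting h hp hr hpr hoa hob (hab.pow_pow _ _)

end Cfsg.Agent.Helper1.HSL
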