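import Mathlib
import Cfsg.Agent.Helper1.HSLb

/-!
# Auto/anti-automorphism actions with maximal stabilizers: Sylow structure
-/

set_option autoImplicit false

namespace Cfsg.Agent.Helper1.HSL

open MulAction

variable {T : Type*} [Group T] {A : Type*} [Group A] [MulAction A T]

/-- Every non-identity element has prime power order. -/
theorem exists_prime_pow_order (h : Hyp A T) [Finite T] [IsSimpleGroup T] (x : T) (hx : x ≠ 1) :
    ∃ k : ℕ, orderOf x = (orderOf x).minFac ^ k := by
  have ho1 : orderOf x ≠ 1 := fun h0 => hx (orderOf_eq_one_iff.mp h0)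
  have hp := Nat.minFac_prime ho1
  have ho0 : orderOf x ≠ 0 := (orderOf_pos x).ne'
  refine ⟨_, Nat.eq_prime_pow_of_unique_prime_dvd ho0 ?_⟩
  intro r hr hrd
  by_contra hne
  have hoa := orderOf_pow_orderOf_div ho0 (Nat.minFac_dvd (orderOf x))
  have hob := orderOf_pow_orderOf_div ho0 hrd
  exact no_prime_commuting h hp hr (fun h0 => hne h0.symm) hoa hob
    ((Commute.refl x).pow_pow _ _)

/-- The centralizer of a non-identity `p`-element is a `p`-group. -/
theorem isPGroup_cent (h : Hyp A T) [Finite T] [IsSimpleGroup T] {x : T} {p k : ℕ}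
    (hp : p.Prime) (hx : x ≠ 1) (hox : orderOf x = p ^ k) : IsPGroup p (cent x) := by
  have hk : k ≠ 0 := by
    rintro rfl
    rw [pow_zero] at hox
    exact hx (orderOf_eq_one_iff.mp hox)
  intro g
  by_cases hg : (g : T) = 1
  · refine ⟨0, ?_⟩
    apply Subtype.ext
    rw [pow_zero, pow_one]
    exact hg
  · obtain ⟨j, hj⟩ := exists_prime_pow_order h (g : T) hg
    have ho1 : orderOf (g : T) ≠ 1 := fun h0 => hg (orderOf_eq_one_iff.mp h0)
    have hq := Nat.minFac_prime ho1
    by_cases hqp : (orderOf (g : T)).minFac = p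
    · refine ⟨j, ?_⟩
      apply Subtype.ext
      rw [Subgroup.coe_pow, Subgroup.coe_one, ← hqp, ← hj]
      exact pow_orderOf_eq_one _
    · exfalso
      have hj0 : j ≠ 0 := by
        rintro rfl
        rw [pow_zero] at hj
        exact ho1 hj
      have hc : Commute (g : T) x := mem_cent.mp g.2
      apply no_coprime_commuting h hg hx hc
      rw [hj, hox]
      exact Nat.Coprime.pow _ _ ((Nat.coprime_primes hq hp).mpr hqp)

/-- For a non-trivial Sylow subgroup: a central element whose centralizer is the Sylow subgroup;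
the Sylow subgroup is self-normalizing. -/
theorem sylow_struct (h : Hyp A T) [Finite T] [IsSimpleGroup T] {p : ℕ} [hp : Fact p.Prime]
    (P : Sylow p T) (hP : (P : Subgroup T) ≠ ⊥) :
    (∃ z : T, z ≠ 1 ∧ cent z = P) ∧
      Subgroup.normalizer ((P : Subgroup T) : Set T) = P := by
  haveI : Nontrivial (P : Subgroup T) := (Subgroup.nontrivial_iff_ne_bot _).mpr hP
  haveI := P.2.center_nontrivial
  obtain ⟨z, hz⟩ := exists_ne (1 : Subgroup.center (P : Subgroup T))
  have hzT1 : ((z : (P : Subgroup T)) : T) ≠ 1 := by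
    intro h0
    apply hz
    apply Subtype.ext
    apply Subtype.ext
    exact h0
  have hzcomm : ∀ g ∈ (P : Subgroup T), g * ((z : (P : Subgroup T)) : T) =
      ((z : (P : Subgroup T)) : T) * g := by
    intro g hg
    have := Subgroup.mem_center_iff.mp z.2 ⟨g, hg⟩
    exact congrArg Subtype.val this
  have hPc : (P : Subgroup T) ≤ cent ((z : (P : Subgroup T)) : T) := by
    intro g hg
    rw [mem_cent]
    exact hzcomm g hg
  obtain ⟨k, hk⟩ := (IsPGroup.iff_orderOf.mp P.2) (z : (P : Subgroup T))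
  rw [← Subgroup.orderOf_coe (z : (P : Subgroup T))] at hk
  have hpc := isPGroup_cent h hp.out hzT1 hk
  have heq : cent ((z : (P : Subgroup T)) : T) = P := P.3 hpc hPc
  refine ⟨⟨_, hzT1, heq⟩, ?_⟩
  rw [← heq]
  exact normalizer_cent h.aa h.inn h.cen _ hzT1 (h.max _ hzT1)

/-- Non-trivial Sylow subgroups are non-abelian. -/
theorem sylow_not_comm (h : Hyp A T) [Finite T] [IsSimpleGroup T] {p : ℕ} [hp : Fact p.Prime]
    (P : Sylow p T) (hP : (P : Subgroup T) ≠ ⊥) :
    ¬ ∀ g ∈ (P : Subgroup T), ∀ k ∈ (P : Subgroup T), g * k = k * g := by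
  intro hcomm
  obtain ⟨⟨z, hz1, hz⟩, hN⟩ := sylow_struct h P hP
  have hPc : Subgroup.normalizer ((P : Subgroup T) : Set T) ≤
      Subgroup.centralizer ((P : Subgroup T) : Set T) := by
    rw [hN]
    intro g hg
    rw [Subgroup.mem_centralizer_iff]
    intro k hk
    exact hcomm k hk g hg
  have hcompl := MonoidHom.ker_transferSylow_isComplement' P hPc
  rcases (MonoidHom.normal_ker (MonoidHom.transferSylow P hPc)).eq_bot_or_eq_top with h0 | h0
  · rw [h0, Subgroup.isComplement'_bot_left] at hcompl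
    apply cent_ne_top h hz1
    rw [hz, hcompl]
  · rw [h0, Subgroup.isComplement'_top_left] at hcompl
    exact hP hcompl

/-- The centralizer of a non-identity `p`-element is a Sylow `p`-subgroup. -/
theorem cent_eq_sylow (h : Hyp A T) [Finite T] [IsSimpleGroup T] {x : T} {p k : ℕ}
    [hp : Fact p.Prime] (hx : x ≠ 1) (hox : orderOf x = p ^ k) (P : Sylow p T)
    (hle : cent x ≤ P) : (P : Subgroup T) = cent x := by
  have hpc := isPGroup_cent h hp.out hx hox
  obtain ⟨n, hn⟩ := IsPGroup.iff_card.mp hpc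
  obtain ⟨m, hm⟩ := IsPGroup.iff_card.mp P.2
  have hnd : ¬ p ^ (n + 1) ∣ Nat.card T := by
    intro hdvd
    have h1 := Sylow.prime_pow_dvd_card_normalizer hdvd hn
    rw [normalizer_cent h.aa h.inn h.cen x hx (h.max x hx), hn] at h1
    have := (Nat.pow_dvd_pow_iff_le_right hp.out.one_lt).mp h1
    omega
  have hmn : m ≤ n := by
    by_contra hlt
    push Not at hlt
    apply hnd
    have h1 : p ^ (n + 1) ∣ p ^ m := pow_dvd_pow p hlt
    have h2 : p ^ m ∣ Nat.card T := hm ▸ Subgroup.card_subgroup_dvd_card (P : Subgroup T)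
    exact h1.trans h2
  symm
  apply Subgroup.eq_of_le_of_card_ge hle
  rw [hm, hn]
  exact Nat.pow_le_pow_right hp.out.pos hmn

end Cfsg.Agent.Helper1.HSL
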