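import Mathlib
import Cfsg.Agent.Helper1.HSLc

/-!
# Auto/anti-automorphism actions with maximal stabilizers: the final count
-/

set_option autoImplicit false

namespace Cfsg.Agent.Helper1.HSL

open MulAction

theorem sum_inv_sq_le (N : ℕ) (hN : 2 ≤ N) :
    ∑ n ∈ Finset.Icc 2 N, (1 : ℚ) / ((n : ℚ) ^ 2) ≤ 3 / 4 - 1 / (N : ℚ) := by
  induction N, hN using Nat.le_induction with
  | base => norm_num
  | succ N hN ih =>
    rw [Finset.sum_Icc_succ_top (by omega)]
    have hN0 : (0 : ℚ) < N := by exact_mod_cast (by omega : 0 < N)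
    have h1 : (1 : ℚ) / (((N + 1 : ℕ) : ℚ) ^ 2) ≤ 1 / (N : ℚ) - 1 / ((N + 1 : ℕ) : ℚ) := by
      push_cast
      rw [div_sub_div _ _ hN0.ne' (by positivity), div_le_div_iff₀ (by positivity) (by positivity)]
      nlinarith
    linarith

theorem sum_primes_inv_sq_le (F : Finset ℕ) (hF : ∀ p ∈ F, p.Prime) :
    ∑ p ∈ F, (1 : ℚ) / ((p : ℚ) ^ 2) ≤ 3 / 4 := by
  set N := max 2 (F.sup id) with hN
  have hsub : F ⊆ Finset.Icc 2 N := by
    intro p hp
    rw [Finset.mem_Icc]
    refine ⟨(hF p hp).two_le, ?_⟩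
    exact le_trans (Finset.le_sup (f := id) hp) (le_max_right _ _)
  have h1 := Finset.sum_le_sum_of_subset_of_nonneg hsub
    (f := fun n : ℕ => (1 : ℚ) / ((n : ℚ) ^ 2)) (fun i _ _ => by positivity)
  have h2 := sum_inv_sq_le N (le_max_left _ _)
  have h3 : (0 : ℚ) ≤ 1 / (N : ℚ) := by positivity
  linarith

variable {T : Type*} [Group T]

/-- The center of a Sylow subgroup, as a subgroup of the ambient group. -/
def ZP {p : ℕ} (P : Sylow p T) : Subgroup T :=
  (P : Subgroup T) ⊓ Subgroup.centralizer ((P : Subgroup T) : Set T)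

theorem card_ZP {p : ℕ} (P : Sylow p T) :
    Nat.card (ZP P) = Nat.card (Subgroup.center (P : Subgroup T)) := by
  have h : ZP P = (Subgroup.center (P : Subgroup T)).map (P : Subgroup T).subtype := by
    ext g
    rw [Subgroup.mem_map]
    constructor
    · rintro ⟨hgP, hgc⟩
      refine ⟨⟨g, hgP⟩, ?_, rfl⟩
      rw [Subgroup.mem_center_iff]
      intro k
      apply Subtype.ext
      exact Subgroup.mem_centralizer_iff.mp hgc k k.2
    · rintro ⟨z, hz, rfl⟩
      refine ⟨z.2, ?_⟩
      change (z : T) ∈ Subgroup.centralizer ((P : Subgroup T) : Set T)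
      rw [Subgroup.mem_centralizer_iff]
      intro k hk
      exact congrArg Subtype.val (Subgroup.mem_center_iff.mp hz ⟨k, hk⟩)
  rw [h, Subgroup.card_map_of_injective (Subgroup.subtype_injective _)]

/-- In a non-abelian `p`-group the center has index at least `p ^ 2`. -/
theorem sq_mul_card_ZP_le [Finite T] {p : ℕ} [hp : Fact p.Prime] (P : Sylow p T)
    (hnc : ¬ ∀ g ∈ (P : Subgroup T), ∀ k ∈ (P : Subgroup T), g * k = k * g) :
    p ^ 2 * Nat.card (ZP P) ≤ Nat.card (P : Subgroup T) := by
  rw [card_ZP, ← Subgroup.card_mul_index (Subgroup.center (P : Subgroup T)), mul_comm]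
  apply Nat.mul_le_mul_left
  obtain ⟨j, hj⟩ := P.2.index (Subgroup.center (P : Subgroup T))
  rw [hj]
  apply Nat.pow_le_pow_right hp.out.pos
  by_contra hlt
  push Not at hlt
  apply hnc
  have hcomm : ∀ a b : (P : Subgroup T), a * b = b * a := by
    interval_cases j
    · rw [pow_zero, Subgroup.index_eq_one] at hj
      intro a b
      have : a ∈ Subgroup.center (P : Subgroup T) := hj ▸ Subgroup.mem_top a
      exact (Subgroup.mem_center_iff.mp this b).symm
    · rw [pow_one] at hj
      haveI : IsCyclic ((P : Subgroup T) ⧸ Subgroup.center (P : Subgroup T)) := by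
        apply isCyclic_of_prime_card (p := p)
        exact hj
      have hmc := MonoidHom.isMulCommutative_of_isCyclic_of_ker_le_center
        (QuotientGroup.mk' (Subgroup.center (P : Subgroup T)))
        (by rw [QuotientGroup.ker_mk'])
      exact fun a b => mul_comm' a b
  intro g hg k hk
  exact congrArg Subtype.val (hcomm ⟨g, hg⟩ ⟨k, hk⟩)

variable {A : Type*} [Group A] [MulAction A T]

/-- Every non-identity element is central in some Sylow subgroup. -/
theorem exists_sylow_ZP (h : Hyp A T) [Finite T] [IsSimpleGroup T] (x : T) (hx : x ≠ 1) :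
    ∃ p : ℕ, p ∈ (Nat.card T).primeFactors ∧ ∃ P : Sylow p T, x ∈ ZP P := by
  have ho1 : orderOf x ≠ 1 := fun h0 => hx (orderOf_eq_one_iff.mp h0)
  have hp := Nat.minFac_prime ho1
  obtain ⟨k, hk⟩ := exists_prime_pow_order h x hx
  refine ⟨(orderOf x).minFac, ?_, ?_⟩
  · rw [Nat.mem_primeFactors]
    exact ⟨hp, (Nat.minFac_dvd _).trans (orderOf_dvd_natCard x), Nat.card_pos.ne'⟩
  · haveI := Fact.mk hp
    have hpc := isPGroup_cent h hp hx hk
    obtain ⟨P, hP⟩ := hpc.exists_le_sylow
    have heq := cent_eq_sylow h hx hk P hP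
    refine ⟨P, ?_, ?_⟩
    · rw [heq]
      exact self_mem_cent x
    · change x ∈ Subgroup.centralizer ((P : Subgroup T) : Set T)
      rw [Subgroup.mem_centralizer_iff]
      intro g hg
      rw [SetLike.mem_coe, heq] at hg
      exact mem_cent.mp hg

/-- The hypotheses are contradictory. -/
theorem hyp_false (h : Hyp A T) [Finite T] [IsSimpleGroup T] : False := by
  classical
  haveI := Fintype.ofFinite T
  haveI : ∀ p : ℕ, Fintype (Sylow p T) := fun p => Fintype.ofFinite _
  set t := Nat.card T with ht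
  have ht1 : 1 < t := Finite.one_lt_card
  let V : (p : ℕ) → Sylow p T → Finset T :=
    fun p P => Finset.univ.filter (fun x : T => x ∈ ZP P ∧ x ≠ 1)
  let U : ℕ → Finset T := fun p => (Finset.univ : Finset (Sylow p T)).biUnion (V p)
  -- (1) covering
  have hcover : (Finset.univ.erase (1 : T)) ⊆ (t.primeFactors).biUnion U := by
    intro x hx
    rw [Finset.mem_erase] at hx
    obtain ⟨p, hp, P, hP⟩ := exists_sylow_ZP h x hx.1
    rw [Finset.mem_biUnion]
    refine ⟨p, hp, ?_⟩
    rw [Finset.mem_biUnion]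
    exact ⟨P, Finset.mem_univ _, by rw [Finset.mem_filter]; exact ⟨Finset.mem_univ _, hP, hx.1⟩⟩
  have hc1 : t - 1 ≤ ∑ p ∈ t.primeFactors, (U p).card := by
    have h1 := Finset.card_le_card hcover
    rw [Finset.card_erase_of_mem (Finset.mem_univ _), Finset.card_univ,
      ← Nat.card_eq_fintype_card] at h1
    exact h1.trans Finset.card_biUnion_le
  -- (2) bound for each prime
  have hVcard : ∀ (p : ℕ) (P : Sylow p T), (V p P).card + 1 = Nat.card (ZP P) := by
    intro p P
    have h1 : V p P = (Finset.univ.filter (fun x : T => x ∈ ZP P)).erase 1 := by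
      ext x
      rw [Finset.mem_erase, Finset.mem_filter, Finset.mem_filter]
      tauto
    have h2 : (1 : T) ∈ Finset.univ.filter (fun x : T => x ∈ ZP P) := by
      rw [Finset.mem_filter]
      exact ⟨Finset.mem_univ _, (ZP P).one_mem⟩
    have h3 : (Finset.univ.filter (fun x : T => x ∈ ZP P)).card = Nat.card (ZP P) := by
      rw [Nat.card_eq_fintype_card, Fintype.card_subtype]
    rw [h1, Finset.card_erase_of_mem h2, h3]
    have : 0 < Nat.card (ZP P) := Nat.card_pos
    omega
  have hbound : ∀ p ∈ t.primeFactors, p ^ 2 * ((U p).card + 1) ≤ t := by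
    intro p hp
    rw [Nat.mem_primeFactors] at hp
    haveI := Fact.mk hp.1
    have hne : ∀ P : Sylow p T, (P : Subgroup T) ≠ ⊥ := fun P => P.ne_bot_of_dvd_card hp.2.1
    have h1 : (U p).card + Fintype.card (Sylow p T) ≤ ∑ P : Sylow p T, Nat.card (ZP P) := by
      have h2 : (U p).card ≤ ∑ P : Sylow p T, (V p P).card := Finset.card_biUnion_le
      have h3 : ∑ P : Sylow p T, Nat.card (ZP P) =
          ∑ P : Sylow p T, (V p P).card + Fintype.card (Sylow p T) := by
        rw [Fintype.card, Finset.card_eq_sum_ones, ← Finset.sum_add_distrib]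
        exact Finset.sum_congr rfl (fun P _ => (hVcard p P).symm)
      omega
    have h4 : p ^ 2 * ∑ P : Sylow p T, Nat.card (ZP P) ≤
        ∑ P : Sylow p T, Nat.card (P : Subgroup T) := by
      rw [Finset.mul_sum]
      exact Finset.sum_le_sum
        (fun P _ => sq_mul_card_ZP_le P (sylow_not_comm h P (hne P)))
    have h5 : ∑ P : Sylow p T, Nat.card (P : Subgroup T) = t := by
      obtain ⟨P₀⟩ : Nonempty (Sylow p T) := inferInstance
      have h6 : ∀ P : Sylow p T, Nat.card (P : Subgroup T) = Nat.card (P₀ : Subgroup T) := by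
        intro P
        rw [Sylow.card_eq_multiplicity, Sylow.card_eq_multiplicity]
      have hN : Subgroup.normalizer (P₀ : Set T) = (P₀ : Subgroup T) :=
        (sylow_struct h P₀ (hne P₀)).2
      rw [Finset.sum_congr rfl (fun P _ => h6 P), Finset.sum_const, Finset.card_univ, smul_eq_mul,
        ← Nat.card_eq_fintype_card, Sylow.card_eq_index_normalizer P₀, hN,
        Subgroup.index_mul_card]
    have h7 : 0 < Fintype.card (Sylow p T) := Fintype.card_pos
    calc p ^ 2 * ((U p).card + 1) ≤ p ^ 2 * ((U p).card + Fintype.card (Sylow p T)) := by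
          apply Nat.mul_le_mul_left
          omega
      _ ≤ p ^ 2 * ∑ P : Sylow p T, Nat.card (ZP P) := Nat.mul_le_mul_left _ h1
      _ ≤ t := h4.trans h5.le
  -- (3) the final estimate
  have hq : ∀ p ∈ t.primeFactors, (((U p).card : ℚ) + 1) ≤ (t : ℚ) * (1 / ((p : ℚ) ^ 2)) := by
    intro p hp
    have hb := hbound p hp
    have hp0 : (0 : ℚ) < (p : ℚ) ^ 2 := by
      have := (Nat.mem_primeFactors.mp hp).1.pos
      positivity
    rw [mul_one_div, le_div_iff₀ hp0]
    have : ((p ^ 2 * ((U p).card + 1) : ℕ) : ℚ) ≤ (t : ℚ) := by exact_mod_cast hb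
    push_cast at this
    linarith
  have hsum := Finset.sum_le_sum hq
  rw [← Finset.mul_sum, Finset.sum_add_distrib] at hsum
  have hF := sum_primes_inv_sq_le t.primeFactors (fun p hp => (Nat.mem_primeFactors.mp hp).1)
  have hcardF : (1 : ℚ) ≤ ∑ _p ∈ t.primeFactors, (1 : ℚ) := by
    rw [Finset.sum_const, nsmul_eq_mul, mul_one]
    have : t.primeFactors.Nonempty := Nat.nonempty_primeFactors.mpr ht1
    exact_mod_cast this.card_pos
  have hc1' : ((t : ℚ) - 1) ≤ ∑ p ∈ t.primeFactors, ((U p).card : ℚ) := by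
    have : ((t - 1 : ℕ) : ℚ) ≤ ((∑ p ∈ t.primeFactors, (U p).card : ℕ) : ℚ) := by
      exact_mod_cast hc1
    rw [Nat.cast_sub ht1.le] at this
    push_cast at this
    exact this
  have ht0 : (0 : ℚ) < t := by exact_mod_cast (by omega : 0 < t)
  nlinarith

end Cfsg.Agent.Helper1.HSL
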