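import Mathlib
import Cfsg.Agent.Helper1.OSc

/-!
# Extremely primitive groups: a regular non-abelian minimal normal subgroup with several factors
-/

set_option autoImplicit false

namespace Cfsg.Agent.Helper1.OS

open MulAction

theorem noncommProd_conj_invariant {G : Type*} [Group G] [DecidableEq G] (X : Finset G)
    (comm : (X : Set G).Pairwise (Function.onFun Commute id)) (a : G)
    (hX : ∀ y ∈ X, a * y * a⁻¹ ∈ X) :
    a * X.noncommProd id comm * a⁻¹ = X.noncommProd id comm := by
  have h1 := Finset.map_noncommProd X id comm (MulAut.conj a)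
  have h2 : MulAut.conj a (X.noncommProd id comm) = a * X.noncommProd id comm * a⁻¹ := rfl
  rw [← h2, h1]
  have himg : X.image (fun y => a * y * a⁻¹) = X := by
    apply Finset.eq_of_subset_of_card_le
    · intro y hy
      rw [Finset.mem_image] at hy
      obtain ⟨y', hy', rfl⟩ := hy
      exact hX y' hy'
    · rw [Finset.card_image_of_injective]
      intro y₁ y₂ h
      simpa using h
  have hinj : Set.InjOn (fun y => a * y * a⁻¹) (X : Set G) := by
    intro y₁ _ y₂ _ h
    simpa using h
  have hval : X.1.map (fun i => MulAut.conj a (id i)) = X.1.map id := by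
    rw [Multiset.map_id]
    have := Finset.image_val_of_injOn hinj
    rw [himg] at this
    exact this.symm
  unfold Finset.noncommProd
  congr 1

variable {G : Type*} [Group G] {Ω : Type*} [MulAction G Ω] [FaithfulSMul G Ω]

/-- Conjugates of `S` are realised by elements of the point stabilizer. -/
theorem cj_stab (hprim : IsPreprimitive G Ω) {N S : Subgroup G} [N.Normal] (hN : N ≠ ⊥)
    (h : IsMinIn N S) (α : Ω) (g : G) : ∃ a ∈ stabilizer G α, cj g S = cj a S := by
  obtain ⟨n, hn, a, ha, rfl⟩ := exists_mul_stab hprim N hN α g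
  refine ⟨a, ha, ?_⟩
  rw [cj_mul]
  exact cj_eq_of_mem_normalizer ((h.cj a).norm hn)

omit [FaithfulSMul G Ω] in
/-- If `N` meets the stabilizer trivially then the action of the stabilizer on `N` by conjugation
is equivalent to its action on points. -/
theorem conj_eq_of_fix {N : Subgroup G} [hNn : N.Normal] {α : Ω}
    (hK : N ⊓ stabilizer G α = ⊥) {x a : G} (hx : x ∈ N) (ha : a ∈ stabilizer G α)
    (hfix : a • x • α = x • α) : a * x * a⁻¹ = x := by
  have h1 : x⁻¹ * (a * x * a⁻¹) ∈ N ⊓ stabilizer G α := by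
    refine ⟨N.mul_mem (N.inv_mem hx) (hNn.conj_mem x hx a), ?_⟩
    change x⁻¹ * (a * x * a⁻¹) ∈ stabilizer G α
    rw [mem_stabilizer_iff, mul_smul, mul_smul, mul_smul, inv_smul_eq_iff]
    have : a⁻¹ • α = α := by
      rw [inv_smul_eq_iff]
      exact (mem_stabilizer_iff.mp ha).symm
    rw [this, hfix]
  rw [hK, Subgroup.mem_bot, inv_mul_eq_one] at h1
  exact h1.symm

variable [Finite G]

/-- Case of a regular non-abelian minimal normal subgroup with at least two factors. -/
theorem regular_case (hprim : IsPreprimitive G Ω) (hH : ∀ α : Ω, stabilizer G α ≠ ⊥)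
    (hep : ∀ (α : Ω) (ω : Ω), IsPreprimitive (stabilizer G α) (orbit (stabilizer G α) ω))
    (α : Ω) {N S : Subgroup G} [hNn : N.Normal]
    (hNmin : ∀ M : Subgroup G, M.Normal → M ≤ N → M = ⊥ ∨ M = N)
    (hNnab : ¬ ∀ a ∈ N, ∀ b ∈ N, a * b = b * a) (h : IsMinIn N S)
    (hK : N ⊓ stabilizer G α = ⊥) (a₀ : G) (ha₀ : a₀ ∈ stabilizer G α) (hne : cj a₀ S ≠ S) :
    False := by
  classical
  haveI := Fintype.ofFinite G
  have hSnab := not_comm hNmin hNnab h
  have hSZ := inf_centralizer_eq_bot hSnab h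
  -- Step 1: the normalizer of `S` in the stabilizer centralizes `S`
  have step1 : ∀ b ∈ stabilizer G α, cj b S = S → ∀ x ∈ S, b * x * b⁻¹ = x := by
    intro b hb hbS x hx
    by_cases hx1 : x = 1
    · rw [hx1]
      group
    have hω : x • α ≠ α := by
      intro h0
      have : x ∈ N ⊓ stabilizer G α := ⟨h.le hx, h0⟩
      rw [hK, Subgroup.mem_bot] at this
      exact hx1 this
    let B : Subgroup G := stabilizer G α ⊓ Subgroup.normalizer (S : Set G)
    have hB1 : stabilizer G α ⊓ stabilizer G (x • α) ≤ B := by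
      rintro a ⟨ha, haω⟩
      refine ⟨ha, ?_⟩
      have hax := conj_eq_of_fix hK (h.le hx) ha (mem_stabilizer_iff.mp haω)
      apply mem_normalizer_of_cj_eq
      by_contra hcj
      have hinf := (h.cj a).inf_eq_bot h hcj
      have hxm : x ∈ cj a S ⊓ S := by
        refine ⟨?_, hx⟩
        rw [← hax]
        exact conj_mem_cj hx
      rw [hinf, Subgroup.mem_bot] at hxm
      exact hx1 hxm
    rcases max_stab hprim hH hep α (x • α) hω B hB1 inf_le_left with hB | hB
    · have hbB : b ∈ B := ⟨hb, mem_normalizer_of_cj_eq hbS⟩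
      rw [hB] at hbB
      exact conj_eq_of_fix hK (h.le hx) hb (mem_stabilizer_iff.mp hbB.2)
    · exfalso
      have : a₀ ∈ B := by
        rw [hB]
        exact ha₀
      exact hne (cj_eq_of_mem_normalizer this.2)
  -- Step 2: the product of the conjugates of a non-identity element of `S`
  obtain ⟨x, hxS, hx1⟩ : ∃ x ∈ S, x ≠ 1 := by
    by_contra hcon
    push Not at hcon
    apply h.ne_bot
    rw [Subgroup.eq_bot_iff_forall]
    exact hcon
  let X : Finset G := (Finset.univ.filter (fun a : G => a ∈ stabilizer G α)).image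
    (fun a => a * x * a⁻¹)
  have hXmem : ∀ y, y ∈ X ↔ ∃ a ∈ stabilizer G α, a * x * a⁻¹ = y := by
    intro y
    rw [Finset.mem_image]
    constructor
    · rintro ⟨a, ha, rfl⟩
      exact ⟨a, (Finset.mem_filter.mp ha).2, rfl⟩
    · rintro ⟨a, ha, rfl⟩
      exact ⟨a, Finset.mem_filter.mpr ⟨Finset.mem_univ _, ha⟩, rfl⟩
  have hsame : ∀ a₁ ∈ stabilizer G α, ∀ a₂ ∈ stabilizer G α, cj a₁ S = cj a₂ S →
      a₁ * x * a₁⁻¹ = a₂ * x * a₂⁻¹ := by
    intro a₁ h₁ a₂ h₂ heq
    have hb : cj (a₂⁻¹ * a₁) S = S := by rw [cj_mul, heq, cj_inv_cj]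
    have := step1 (a₂⁻¹ * a₁) (Subgroup.mul_mem _ (Subgroup.inv_mem _ h₂) h₁) hb x hxS
    calc a₁ * x * a₁⁻¹ = a₂ * (a₂⁻¹ * a₁ * x * (a₂⁻¹ * a₁)⁻¹) * a₂⁻¹ := by group
      _ = a₂ * x * a₂⁻¹ := by rw [this]
  have comm : (X : Set G).Pairwise (Function.onFun Commute id) := by
    intro y₁ hy₁ y₂ hy₂ hy
    obtain ⟨a₁, h₁, rfl⟩ := (hXmem y₁).mp hy₁
    obtain ⟨a₂, h₂, rfl⟩ := (hXmem y₂).mp hy₂
    have hcj : cj a₁ S ≠ cj a₂ S := fun heq => hy (hsame a₁ h₁ a₂ h₂ heq)
    exact (h.cj a₁).commute (h.cj a₂) hcj (conj_mem_cj hxS) (conj_mem_cj hxS)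
  set z := X.noncommProd id comm with hz
  have hzN : z ∈ N := by
    apply Subgroup.noncommProd_mem
    intro y hy
    obtain ⟨a, _, rfl⟩ := (hXmem y).mp hy
    exact hNn.conj_mem x (h.le hxS) a
  have hzinv : ∀ a ∈ stabilizer G α, a * z * a⁻¹ = z := by
    intro a ha
    apply noncommProd_conj_invariant
    intro y hy
    obtain ⟨b, hb, rfl⟩ := (hXmem y).mp hy
    rw [hXmem]
    exact ⟨a * b, Subgroup.mul_mem _ ha hb, by group⟩
  have hxX : x ∈ X := (hXmem x).mpr ⟨1, Subgroup.one_mem _, by group⟩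
  have hz1 : z ≠ 1 := by
    intro h0
    have h1 := Finset.mul_noncommProd_erase X hxX id comm
    have hrest : (X.erase x).noncommProd id
        (fun _ hx _ hy hxy => comm (X.mem_of_mem_erase hx) (X.mem_of_mem_erase hy) hxy) ∈
        Subgroup.centralizer (S : Set G) := by
      apply Subgroup.noncommProd_mem
      intro y hy
      rw [Finset.mem_erase] at hy
      obtain ⟨a, ha, rfl⟩ := (hXmem y).mp hy.2
      have hcj : cj a S ≠ S := by
        intro heq
        apply hy.1
        have := hsame a ha 1 (Subgroup.one_mem _) (by rw [heq, cj_one])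
        rw [this]
        group
      rw [id, Subgroup.mem_centralizer_iff]
      intro s hs
      exact ((h.cj a).commute h hcj (conj_mem_cj hxS) hs).symm
    rw [← hz, h0, id] at h1
    have hx' : x ∈ S ⊓ Subgroup.centralizer (S : Set G) := by
      refine ⟨hxS, ?_⟩
      have : x = ((X.erase x).noncommProd id
        (fun _ hx _ hy hxy => comm (X.mem_of_mem_erase hx) (X.mem_of_mem_erase hy) hxy))⁻¹ :=
        eq_inv_of_mul_eq_one_left h1
      rw [this]
      exact Subgroup.inv_mem _ hrest
    rw [hSZ, Subgroup.mem_bot] at hx'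
    exact hx1 hx'
  -- Step 3: the stabilizer fixes `z • α`
  have hfix : ∀ a ∈ stabilizer G α, a • z • α = z • α := by
    intro a ha
    have h1 : a * z = z * a := by
      have := hzinv a ha
      rw [mul_inv_eq_iff_eq_mul] at this
      exact this
    rw [← mul_smul, h1, mul_smul, mem_stabilizer_iff.mp ha]
  have hzα := eq_of_stab_fixes hprim hH α (z • α) hfix
  have : z ∈ N ⊓ stabilizer G α := ⟨hzN, hzα⟩
  rw [hK, Subgroup.mem_bot] at this
  exact hz1 this

end Cfsg.Agent.Helper1.OS
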