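import Mathlib
import Cfsg.Agent.Helper1.OSd

/-!
# Extremely primitive groups: non-regular minimal normal subgroup with several factors
-/

set_option autoImplicit false

namespace Cfsg.Agent.Helper1.OS

open MulAction

variable {G : Type*} [Group G]

/-- The projection to `S` of a subgroup `K` of `N = S × C_N(S)`. -/
def projS (N S K : Subgroup G) : Subgroup G where
  carrier := {s | s ∈ S ∧ ∃ c ∈ N ⊓ Subgroup.centralizer (S : Set G), s * c ∈ K}
  one_mem' := ⟨S.one_mem, 1, Subgroup.one_mem _, by rw [mul_one]; exact K.one_mem⟩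
  mul_mem' := by
    rintro s s' ⟨hs, c, hc, hsc⟩ ⟨hs', c', hc', hsc'⟩
    refine ⟨S.mul_mem hs hs', c * c', Subgroup.mul_mem _ hc hc', ?_⟩
    have h1 := Subgroup.mem_centralizer_iff.mp hc.2 s' hs'
    have e : s * s' * (c * c') = (s * c) * (s' * c') := by
      calc s * s' * (c * c') = s * (s' * c) * c' := by group
        _ = s * (c * s') * c' := by rw [h1]
        _ = (s * c) * (s' * c') := by group
    rw [e]
    exact K.mul_mem hsc hsc'
  inv_mem' := by
    rintro s ⟨hs, c, hc, hsc⟩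
    refine ⟨S.inv_mem hs, c⁻¹, Subgroup.inv_mem _ hc, ?_⟩
    have h1 := Subgroup.mem_centralizer_iff.mp hc.2 s hs
    have e : s⁻¹ * c⁻¹ = (s * c)⁻¹ := by
      rw [mul_inv_rev, ← mul_inv_rev, ← mul_inv_rev, h1]
    rw [e]
    exact K.inv_mem hsc

theorem mem_projS {N S K : Subgroup G} {s : G} :
    s ∈ projS N S K ↔ s ∈ S ∧ ∃ c ∈ N ⊓ Subgroup.centralizer (S : Set G), s * c ∈ K := Iff.rfl

variable {Ω : Type*} [MulAction G Ω] [FaithfulSMul G Ω] [Finite G] [Fintype Ω]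

/-- Product action case: the projection of `N ∩ G_α` to `S` is all of `S`. -/
theorem product_case (hprim : IsPreprimitive G Ω) (hH : ∀ α : Ω, stabilizer G α ≠ ⊥)
    (hep : ∀ (α : Ω) (ω : Ω), IsPreprimitive (stabilizer G α) (orbit (stabilizer G α) ω))
    (α : Ω) {N S : Subgroup G} [hNn : N.Normal]
    (hNmin : ∀ M : Subgroup G, M.Normal → M ≤ N → M = ⊥ ∨ M = N) (h : IsMinIn N S)
    (hK : N ⊓ stabilizer G α ≠ ⊥) (a₀ : G) (ha₀ : a₀ ∈ stabilizer G α) (hne : cj a₀ S ≠ S)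
    (t : G) (htS : t ∈ S) : t ∈ projS N S (N ⊓ stabilizer G α) := by
  by_contra htR
  have hω : t • α ≠ α := by
    intro h0
    apply htR
    refine ⟨htS, 1, Subgroup.one_mem _, ?_⟩
    rw [mul_one]
    exact ⟨h.le htS, h0⟩
  obtain ⟨k, hk, hkω⟩ := normal_stab_trans hprim hH hep α N hK (t • α) hω a₀ ha₀
  set t' := a₀ * t * a₀⁻¹ with ht'
  have ht'S : t' ∈ cj a₀ S := conj_mem_cj htS
  have ht'N : t' ∈ N := (h.cj a₀).le ht'S
  have ht'C : t' ∈ N ⊓ Subgroup.centralizer (S : Set G) := by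
    refine Subgroup.mem_inf.mpr ⟨ht'N, ?_⟩
    rw [Subgroup.mem_centralizer_iff]
    intro s hs
    exact ((h.cj a₀).commute h hne ht'S hs).symm
  have ha₀α : a₀⁻¹ • α = α := by
    rw [inv_smul_eq_iff]
    exact (mem_stabilizer_iff.mp ha₀).symm
  have hk' : t'⁻¹ * k * t ∈ N ⊓ stabilizer G α := by
    refine ⟨N.mul_mem (N.mul_mem (N.inv_mem ht'N) hk.1) (h.le htS), ?_⟩
    change t'⁻¹ * k * t ∈ stabilizer G α
    rw [mem_stabilizer_iff, mul_smul, mul_smul, hkω, inv_smul_eq_iff, ht', mul_smul, mul_smul,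
      ha₀α]
  obtain ⟨s, hs, c, hc, hksc⟩ := exists_mul_of_mem hNmin h hk.1
  have hsR : s ∈ projS N S (N ⊓ stabilizer G α) := ⟨hs, c, hc, hksc ▸ hk⟩
  have hstR : s * t ∈ projS N S (N ⊓ stabilizer G α) := by
    refine ⟨S.mul_mem hs htS, t'⁻¹ * c, Subgroup.mul_mem _ (Subgroup.inv_mem _ ht'C) hc, ?_⟩
    have h1 : t'⁻¹ * s = s * t'⁻¹ :=
      (Subgroup.mem_centralizer_iff.mp (Subgroup.inv_mem _ ht'C.2) s hs).symm
    have h2 : (t'⁻¹ * c) * t = t * (t'⁻¹ * c) :=
      (Subgroup.mem_centralizer_iff.mp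
        (Subgroup.mul_mem _ (Subgroup.inv_mem _ ht'C.2) hc.2) t htS).symm
    have e : s * t * (t'⁻¹ * c) = t'⁻¹ * k * t := by
      rw [hksc]
      calc s * t * (t'⁻¹ * c) = s * ((t'⁻¹ * c) * t) := by rw [h2]; group
        _ = (s * t'⁻¹) * c * t := by group
        _ = (t'⁻¹ * s) * c * t := by rw [h1]
        _ = t'⁻¹ * (s * c) * t := by group
    rw [e]
    exact hk'
  apply htR
  have := Subgroup.mul_mem _ (Subgroup.inv_mem _ hsR) hstR
  rwa [inv_mul_cancel_left] at this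

end Cfsg.Agent.Helper1.OS
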