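import Mathlib
import Cfsg.Agent.Helper1.OSe

/-!
# Extremely primitive groups: the diagonal case
-/

set_option autoImplicit false

namespace Cfsg.Agent.Helper1.OS

open MulAction

variable {G : Type*} [Group G] {Ω : Type*} [MulAction G Ω] [FaithfulSMul G Ω] [Finite G]
  [Fintype Ω]

omit [Finite G] [Fintype Ω] in
/-- In the diagonal case, `N ∩ G_α` meets `S` trivially. -/
theorem diag_inf_eq_bot (hprim : IsPreprimitive G Ω)
    (α : Ω) {N S : Subgroup G} [hNn : N.Normal] (hN : N ≠ ⊥)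
    (hNmin : ∀ M : Subgroup G, M.Normal → M ≤ N → M = ⊥ ∨ M = N) (h : IsMinIn N S)
    (hall : ∀ t ∈ S, t ∈ projS N S (N ⊓ stabilizer G α)) :
    (N ⊓ stabilizer G α) ⊓ S = ⊥ := by
  have key : ∀ n ∈ N, ∀ u ∈ (N ⊓ stabilizer G α) ⊓ S,
      n * u * n⁻¹ ∈ (N ⊓ stabilizer G α) ⊓ S := by
    intro n hn u hu
    obtain ⟨s, hs, c, hc, rfl⟩ := exists_mul_of_mem hNmin h hn
    obtain ⟨-, c', hc', hsc'⟩ := hall s hs
    have h1 : c * u = u * c := (Subgroup.mem_centralizer_iff.mp hc.2 u hu.2).symm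
    have h2 : c' * u = u * c' := (Subgroup.mem_centralizer_iff.mp hc'.2 u hu.2).symm
    have e1 : s * c * u * (s * c)⁻¹ = s * u * s⁻¹ := by
      calc s * c * u * (s * c)⁻¹ = s * (c * u) * c⁻¹ * s⁻¹ := by group
        _ = s * (u * c) * c⁻¹ * s⁻¹ := by rw [h1]
        _ = s * u * s⁻¹ := by group
    have e2 : s * c' * u * (s * c')⁻¹ = s * u * s⁻¹ := by
      calc s * c' * u * (s * c')⁻¹ = s * (c' * u) * c'⁻¹ * s⁻¹ := by group
        _ = s * (u * c') * c'⁻¹ * s⁻¹ := by rw [h2]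
        _ = s * u * s⁻¹ := by group
    rw [e1]
    refine Subgroup.mem_inf.mpr ⟨?_, S.mul_mem (S.mul_mem hs hu.2) (S.inv_mem hs)⟩
    rw [← e2]
    exact Subgroup.mul_mem _ (Subgroup.mul_mem _ hsc' hu.1) (Subgroup.inv_mem _ hsc')
  have hn : N ≤ Subgroup.normalizer (((N ⊓ stabilizer G α) ⊓ S : Subgroup G) : Set G) := by
    intro n hn
    rw [Subgroup.mem_normalizer_iff]
    intro u
    constructor
    · exact key n hn u
    · intro hu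
      have := key n⁻¹ (N.inv_mem hn) _ hu
      have e : n⁻¹ * (n * u * n⁻¹) * n⁻¹⁻¹ = u := by group
      rwa [e] at this
  rcases h.min _ inf_le_right hn with h0 | h0
  · exact h0
  · exfalso
    have hSA : S ≤ stabilizer G α := by
      intro s hs
      have : s ∈ (N ⊓ stabilizer G α) ⊓ S := by
        rw [h0]
        exact hs
      exact this.1.2
    have hNA : N ≤ stabilizer G α := by
      rw [← iSup_cj_eq hNmin h]
      apply iSup_le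
      intro g
      obtain ⟨a, ha, hga⟩ := cj_stab hprim hN h α g
      rw [hga]
      intro x hx
      rw [mem_cj] at hx
      have h1 := hSA hx
      have h2 := Subgroup.mul_mem _ (Subgroup.mul_mem _ ha h1) (Subgroup.inv_mem _ ha)
      have e : a * (a⁻¹ * x * a) * a⁻¹ = x := by group
      rwa [e] at h2
    exact hN (eq_bot_of_normal_le_stab hprim N α hNA)

/-- In the diagonal case, `N ∩ G_α` contains elements `t w` for each `t ∈ S`, with `w` in any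
other given conjugate of `S`. -/
theorem diag_exists (hprim : IsPreprimitive G Ω) (hH : ∀ α : Ω, stabilizer G α ≠ ⊥)
    (hep : ∀ (α : Ω) (ω : Ω), IsPreprimitive (stabilizer G α) (orbit (stabilizer G α) ω))
    (α : Ω) {N S : Subgroup G} [hNn : N.Normal] (h : IsMinIn N S)
    (hK : N ⊓ stabilizer G α ≠ ⊥) (hKS : (N ⊓ stabilizer G α) ⊓ S = ⊥)
    (a : G) (ha : a ∈ stabilizer G α) (t : G) (htS : t ∈ S) :
    ∃ w ∈ cj a S, t * w ∈ N ⊓ stabilizer G α := by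
  by_cases ht1 : t = 1
  · exact ⟨1, Subgroup.one_mem _, by rw [ht1, mul_one]; exact Subgroup.one_mem _⟩
  have hω : t⁻¹ • α ≠ α := by
    intro h0
    have : t⁻¹ ∈ (N ⊓ stabilizer G α) ⊓ S :=
      Subgroup.mem_inf.mpr ⟨⟨h.le (S.inv_mem htS), h0⟩, S.inv_mem htS⟩
    rw [hKS, Subgroup.mem_bot, inv_eq_one] at this
    exact ht1 this
  obtain ⟨k, hk, hkω⟩ := normal_stab_trans hprim hH hep α N hK (t⁻¹ • α) hω a ha
  set t' := a * t⁻¹ * a⁻¹ with ht'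
  have ht'S : t' ∈ cj a S := conj_mem_cj (S.inv_mem htS)
  have ht'N : t' ∈ N := (h.cj a).le ht'S
  have haα : a⁻¹ • α = α := by
    rw [inv_smul_eq_iff]
    exact (mem_stabilizer_iff.mp ha).symm
  have hk' : t'⁻¹ * k * t⁻¹ ∈ N ⊓ stabilizer G α := by
    refine ⟨N.mul_mem (N.mul_mem (N.inv_mem ht'N) hk.1) (h.le (S.inv_mem htS)), ?_⟩
    change t'⁻¹ * k * t⁻¹ ∈ stabilizer G α
    rw [mem_stabilizer_iff, mul_smul, mul_smul, hkω, inv_smul_eq_iff, ht', mul_smul, mul_smul,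
      haα]
  refine ⟨k⁻¹ * t' * k, ?_, ?_⟩
  · have hkn := (h.cj a).norm (N.inv_mem hk.1)
    have := (Subgroup.mem_normalizer_iff.mp hkn t').mp ht'S
    rwa [inv_inv] at this
  · have e : t * (k⁻¹ * t' * k) = (t'⁻¹ * k * t⁻¹)⁻¹ * k := by group
    rw [e]
    exact Subgroup.mul_mem _ (Subgroup.inv_mem _ hk') hk

/-- In the diagonal case there are at most two conjugates of `S`. -/
theorem diag_two (hprim : IsPreprimitive G Ω) (hH : ∀ α : Ω, stabilizer G α ≠ ⊥)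
    (hep : ∀ (α : Ω) (ω : Ω), IsPreprimitive (stabilizer G α) (orbit (stabilizer G α) ω))
    (α : Ω) {N S : Subgroup G} [hNn : N.Normal] (h : IsMinIn N S)
    (hSnab : ¬ ∀ a ∈ S, ∀ b ∈ S, a * b = b * a)
    (hK : N ⊓ stabilizer G α ≠ ⊥) (hKS : (N ⊓ stabilizer G α) ⊓ S = ⊥)
    (a a' : G) (ha : a ∈ stabilizer G α) (ha' : a' ∈ stabilizer G α) (hne : cj a S ≠ S)
    (hne' : cj a' S ≠ S) : cj a S = cj a' S := by
  by_contra hdiff
  apply hSnab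
  intro t₁ ht₁ t₂ ht₂
  obtain ⟨w₁, hw₁, hu₁⟩ := diag_exists hprim hH hep α h hK hKS a ha t₁ ht₁
  obtain ⟨w₂, hw₂, hu₂⟩ := diag_exists hprim hH hep α h hK hKS a' ha' t₂ ht₂
  have c1 : w₁ * t₂ = t₂ * w₁ := (h.cj a).commute h hne hw₁ ht₂
  have c2 : w₁ * w₂ = w₂ * w₁ := (h.cj a).commute (h.cj a') hdiff hw₁ hw₂
  have c3 : w₂ * t₁ = t₁ * w₂ := (h.cj a').commute h hne' hw₂ ht₁
  have e1 : w₁ * (t₂ * w₂) = (t₂ * w₂) * w₁ := by
    calc w₁ * (t₂ * w₂) = (w₁ * t₂) * w₂ := by group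
      _ = t₂ * (w₁ * w₂) := by rw [c1]; group
      _ = (t₂ * w₂) * w₁ := by rw [c2]; group
  have e2 : w₂ * t₁⁻¹ = t₁⁻¹ * w₂ := by
    have : t₁⁻¹ * (w₂ * t₁) * t₁⁻¹ = t₁⁻¹ * (t₁ * w₂) * t₁⁻¹ := by rw [c3]
    calc w₂ * t₁⁻¹ = t₁⁻¹ * (t₁ * w₂) * t₁⁻¹ := by group
      _ = t₁⁻¹ * (w₂ * t₁) * t₁⁻¹ := by rw [c3]
      _ = t₁⁻¹ * w₂ := by group
  have hcomm : (t₁ * w₁) * (t₂ * w₂) * (t₁ * w₁)⁻¹ * (t₂ * w₂)⁻¹ = t₁ * t₂ * t₁⁻¹ * t₂⁻¹ := by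
    calc (t₁ * w₁) * (t₂ * w₂) * (t₁ * w₁)⁻¹ * (t₂ * w₂)⁻¹
        = t₁ * (w₁ * (t₂ * w₂)) * w₁⁻¹ * t₁⁻¹ * (t₂ * w₂)⁻¹ := by group
      _ = t₁ * ((t₂ * w₂) * w₁) * w₁⁻¹ * t₁⁻¹ * (t₂ * w₂)⁻¹ := by rw [e1]
      _ = t₁ * t₂ * (w₂ * t₁⁻¹) * (t₂ * w₂)⁻¹ := by group
      _ = t₁ * t₂ * (t₁⁻¹ * w₂) * (t₂ * w₂)⁻¹ := by rw [e2]
      _ = t₁ * t₂ * t₁⁻¹ * t₂⁻¹ := by group
  have hmem : t₁ * t₂ * t₁⁻¹ * t₂⁻¹ ∈ (N ⊓ stabilizer G α) ⊓ S := by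
    refine Subgroup.mem_inf.mpr ⟨?_, ?_⟩
    · rw [← hcomm]
      exact Subgroup.mul_mem _ (Subgroup.mul_mem _ (Subgroup.mul_mem _ hu₁ hu₂)
        (Subgroup.inv_mem _ hu₁)) (Subgroup.inv_mem _ hu₂)
    · exact S.mul_mem (S.mul_mem (S.mul_mem ht₁ ht₂) (S.inv_mem ht₁)) (S.inv_mem ht₂)
  rw [hKS, Subgroup.mem_bot] at hmem
  calc t₁ * t₂ = (t₁ * t₂ * t₁⁻¹ * t₂⁻¹) * (t₂ * t₁) := by group
    _ = t₂ * t₁ := by rw [hmem, one_mul]

end Cfsg.Agent.Helper1.OS
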