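import Mathlib
import Cfsg.Agent.Helper1.OSf
import Cfsg.Agent.Helper1.HSLd

/-!
# Extremely primitive groups: two commuting regular simple subgroups
-/

set_option autoImplicit false

namespace Cfsg.Agent.Helper1.OS

open MulAction

variable {G : Type*} [Group G] {Ω : Type*} [MulAction G Ω] [FaithfulSMul G Ω] [Finite G]
  [Fintype Ω]

omit [Fintype Ω] in
/-- Two commuting regular subgroups permuted by the point stabilizer, one of them non-abelian
simple, cannot occur in an extremely primitive group. -/
theorem hs_config_false (hprim : IsPreprimitive G Ω) (hH : ∀ α : Ω, stabilizer G α ≠ ⊥)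
    (hep : ∀ (α : Ω) (ω : Ω), IsPreprimitive (stabilizer G α) (orbit (stabilizer G α) ω))
    (α : Ω) (S S' : Subgroup G) (hcomm : ∀ s ∈ S, ∀ c ∈ S', s * c = c * s)
    (hSfree : ∀ s ∈ S, ∀ ω : Ω, s • ω = ω → s = 1) (hStrans : ∀ ω : Ω, ∃ s ∈ S, s • α = ω)
    (hS'trans : ∀ ω : Ω, ∃ s ∈ S', s • α = ω)
    (hperm : ∀ a ∈ stabilizer G α, cj a S = S ∨ cj a S = S')
    [IsSimpleGroup S] (hcen : Subgroup.center S = ⊥) : False := by
  classical
  let e : S → Ω := fun s => (s : G) • α
  have he_inj : Function.Injective e := by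
    intro s₁ s₂ h12
    have h1 : (s₁ : G) • α = (s₂ : G) • α := h12
    have h2 : ((s₂ : G)⁻¹ * (s₁ : G)) • α = α := by rw [mul_smul, h1, inv_smul_smul]
    have h3 := hSfree _ (S.mul_mem (S.inv_mem s₂.2) s₁.2) α h2
    rw [inv_mul_eq_one] at h3
    exact Subtype.ext h3.symm
  have he_surj : Function.Surjective e := by
    intro ω
    obtain ⟨s, hs, hsω⟩ := hStrans ω
    exact ⟨⟨s, hs⟩, hsω⟩
  let E : S ≃ Ω := Equiv.ofBijective e ⟨he_inj, he_surj⟩
  letI : MulAction (stabilizer G α) S :=
    { smul := fun a s => E.symm ((a : G) • E s)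
      one_smul := fun s => by
        change E.symm ((1 : G) • E s) = s
        rw [one_smul, Equiv.symm_apply_apply]
      mul_smul := fun a b s => by
        change E.symm (((a : G) * (b : G)) • E s) =
          E.symm ((a : G) • E (E.symm ((b : G) • E s)))
        rw [Equiv.apply_symm_apply, mul_smul] }
  have hsm : ∀ (a : stabilizer G α) (s : S),
      (((a • s : S) : G)) • α = (a : G) • (s : G) • α := by
    intro a s
    change E (E.symm ((a : G) • E s)) = _
    rw [Equiv.apply_symm_apply]
    rfl
  have huniq : ∀ (a : stabilizer G α) (s s' : S),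
      (s' : G) • α = (a : G) • (s : G) • α → a • s = s' := by
    intro a s s' h
    apply he_inj
    change ((a • s : S) : G) • α = (s' : G) • α
    rw [hsm, h]
  have hinvα : ∀ a : stabilizer G α, (a : G)⁻¹ • α = α := by
    intro a
    rw [inv_smul_eq_iff]
    exact (mem_stabilizer_iff.mp a.2).symm
  -- (h1)
  have h1 : HSL.AutoOrAnti (stabilizer G α) S := by
    intro a
    rcases hperm a a.2 with hS | hS
    · left
      have hconj : ∀ s : S, ((a • s : S) : G) = (a : G) * (s : G) * (a : G)⁻¹ := by
        intro s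
        have hmem : (a : G) * (s : G) * (a : G)⁻¹ ∈ S := by
          have := conj_mem_cj (g := (a : G)) s.2
          rwa [hS] at this
        have := huniq a s ⟨_, hmem⟩ (by
          change ((a : G) * (s : G) * (a : G)⁻¹) • α = _
          rw [mul_smul, mul_smul, hinvα])
        rw [this]
      intro x y
      apply Subtype.ext
      rw [Subgroup.coe_mul, hconj, hconj, hconj, Subgroup.coe_mul]
      group
    · right
      intro x y
      apply huniq
      have hcx : (a : G) * (x : G) * (a : G)⁻¹ ∈ S' := by
        have := conj_mem_cj (g := (a : G)) x.2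
        rwa [hS] at this
      have hx : (a : G) • (x : G) • α = ((a : G) * (x : G) * (a : G)⁻¹) • α := by
        rw [mul_smul, mul_smul, hinvα]
      rw [Subgroup.coe_mul, mul_smul, hsm, hx, ← mul_smul, hcomm _ (a • y : S).2 _ hcx, mul_smul, hsm,
        Subgroup.coe_mul, mul_smul, mul_smul, mul_smul, inv_smul_smul]
  -- (h2)
  have h2 : ∀ s : S, ∃ a : stabilizer G α, ∀ x : S, a • x = s * x * s⁻¹ := by
    intro s
    obtain ⟨c, hc, hcα⟩ := hS'trans ((s : G) • α)
    have hd : c⁻¹ * (s : G) ∈ stabilizer G α := by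
      rw [mem_stabilizer_iff, mul_smul, ← hcα, inv_smul_smul]
    have hcs : c⁻¹ • α = (s : G)⁻¹ • α := by
      have h3 : ((s : G) * c⁻¹) • α = α := by
        rw [hcomm _ s.2 _ (S'.inv_mem hc)]
        exact mem_stabilizer_iff.mp hd
      rw [mul_smul] at h3
      rw [eq_inv_smul_iff]
      exact h3
    refine ⟨⟨c⁻¹ * (s : G), hd⟩, ?_⟩
    intro x
    apply huniq
    change ((s : G) * (x : G) * (s : G)⁻¹) • α = (c⁻¹ * (s : G)) • (x : G) • α
    rw [mul_smul, mul_smul, ← hcs, ← mul_smul, ← mul_smul, ← mul_smul,
      hcomm _ (S.mul_mem s.2 x.2) _ (S'.inv_mem hc)]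
    simp only [mul_assoc]
  -- (h3)
  have h3 : ∀ x : S, x ≠ 1 → ∀ B : Subgroup (stabilizer G α),
      stabilizer (stabilizer G α) x ≤ B → B = stabilizer (stabilizer G α) x ∨ B = ⊤ := by
    intro x hx1 B hB
    have hω : (x : G) • α ≠ α := by
      intro h0
      exact hx1 (Subtype.ext (hSfree _ x.2 α h0))
    have hst : stabilizer (stabilizer G α) x =
        (stabilizer G ((x : G) • α)).subgroupOf (stabilizer G α) := by
      ext a
      rw [mem_stabilizer_iff, Subgroup.mem_subgroupOf, mem_stabilizer_iff]
      constructor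
      · intro h
        have := hsm a x
        rw [h] at this
        exact this.symm
      · intro h
        exact huniq a x x h.symm
    have hB1 : stabilizer G α ⊓ stabilizer G ((x : G) • α) ≤ B.map (stabilizer G α).subtype := by
      rintro a ⟨ha, haω⟩
      refine ⟨⟨a, ha⟩, hB ?_, rfl⟩
      rw [hst, Subgroup.mem_subgroupOf]
      exact haω
    rcases max_stab hprim hH hep α _ hω _ hB1 (Subgroup.map_subtype_le B) with h0 | h0
    · left
      apply le_antisymm _ hB
      intro b hb
      have : (b : G) ∈ B.map (stabilizer G α).subtype := ⟨b, hb, rfl⟩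
      rw [h0] at this
      rw [hst, Subgroup.mem_subgroupOf]
      exact this.2
    · right
      rw [eq_top_iff]
      intro b _
      have : (b : G) ∈ B.map (stabilizer G α).subtype := by
        rw [h0]
        exact b.2
      obtain ⟨b', hb', hbb'⟩ := this
      have : b' = b := Subtype.ext hbb'
      rwa [this] at hb'
  exact HSL.hyp_false (A := stabilizer G α) (T := S) ⟨h1, h2, h3, hcen⟩

end Cfsg.Agent.Helper1.OS
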