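import Mathlib
import Cfsg.Agent.Helper1.OSg

/-!
# Extremely primitive groups are affine or almost simple
-/

set_option autoImplicit false

namespace Cfsg.Agent.Helper1.OS

open MulAction

variable {G : Type*} [Group G] {Ω : Type*} [MulAction G Ω] [FaithfulSMul G Ω] [Finite G]
  [Fintype Ω]

omit [Finite G] [Fintype Ω] [FaithfulSMul G Ω] in
/-- If there are only two conjugates `S`, `S'`, then `N = S S'`. -/
theorem exists_mul_of_two {N S S' : Subgroup G} [hN : N.Normal]
    (hNmin : ∀ M : Subgroup G, M.Normal → M ≤ N → M = ⊥ ∨ M = N) (h : IsMinIn N S)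
    (hcomm : ∀ s ∈ S, ∀ c ∈ S', s * c = c * s)
    (htwo : ∀ g : G, cj g S = S ∨ cj g S = S') {n : G} (hn : n ∈ N) :
    ∃ s ∈ S, ∃ w ∈ S', n = s * w := by
  let SC : Subgroup G :=
    { carrier := {n | ∃ s ∈ S, ∃ c ∈ S', n = s * c}
      one_mem' := ⟨1, S.one_mem, 1, Subgroup.one_mem _, by simp⟩
      mul_mem' := by
        rintro a b ⟨s, hs, c, hc, rfl⟩ ⟨s', hs', c', hc', rfl⟩
        refine ⟨s * s', S.mul_mem hs hs', c * c', Subgroup.mul_mem _ hc hc', ?_⟩
        have := hcomm s' hs' c hc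
        calc s * c * (s' * c') = s * (c * s') * c' := by group
          _ = s * (s' * c) * c' := by rw [this]
          _ = s * s' * (c * c') := by group
      inv_mem' := by
        rintro a ⟨s, hs, c, hc, rfl⟩
        refine ⟨s⁻¹, S.inv_mem hs, c⁻¹, Subgroup.inv_mem _ hc, ?_⟩
        have := hcomm s hs c hc
        rw [mul_inv_rev]
        have e : s⁻¹ * c⁻¹ = (c * s)⁻¹ := by group
        rw [e, ← this]
        group }
  have hle : ∀ g : G, cj g S ≤ SC := by
    intro g x hx
    rcases htwo g with heq | heq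
    · rw [heq] at hx
      exact ⟨x, hx, 1, Subgroup.one_mem _, by simp⟩
    · rw [heq] at hx
      exact ⟨1, S.one_mem, x, hx, by simp⟩
  have : N ≤ SC := by
    rw [← iSup_cj_eq hNmin h]
    exact iSup_le hle
  exact this hn

/-- Extremely primitive groups are of affine type or almost simple. -/
theorem main (hΩ : 2 ≤ Fintype.card Ω) (hprim : IsPreprimitive G Ω)
    (hep : ∀ (α : Ω) (ω : Ω), IsPreprimitive (stabilizer G α) (orbit (stabilizer G α) ω)) :
    (∃ N : Subgroup G, N.Normal ∧ N ≠ ⊥ ∧ IsMulCommutative N ∧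
      ∀ ω : Ω, stabilizer N ω = ⊥) ∨
    (∃ T : Subgroup G, T.Normal ∧ IsSimpleGroup T ∧ ¬ IsMulCommutative T ∧
      Subgroup.centralizer (T : Set G) = ⊥) := by
  classical
  haveI := hprim
  by_cases hA : ∃ N : Subgroup G, N.Normal ∧ N ≠ ⊥ ∧ ∀ a ∈ N, ∀ b ∈ N, a * b = b * a
  · left
    obtain ⟨N, hNn, hN1, hab⟩ := hA
    haveI := hNn
    refine ⟨N, hNn, hN1, ⟨⟨fun a b => Subtype.ext (hab a a.2 b b.2)⟩⟩, ?_⟩
    intro ω
    rw [Subgroup.eq_bot_iff_forall]
    intro n hn
    have h1 : (n : G) • ω = ω := mem_stabilizer_iff.mp hn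
    exact Subtype.ext (ExtPrim.abelian_normal_free (X := Ω) N hN1 hab n n.2 ω h1)
  right
  have hA' : ∀ N : Subgroup G, N.Normal → N ≠ ⊥ → ¬ ∀ a ∈ N, ∀ b ∈ N, a * b = b * a :=
    fun N hn h1 hab => hA ⟨N, hn, h1, hab⟩
  have hcard : 1 < Fintype.card Ω := by omega
  obtain ⟨α, β, hαβ⟩ := Fintype.exists_pair_of_one_lt_card hcard
  haveI : Nontrivial Ω := ⟨⟨α, β, hαβ⟩⟩
  haveI : Nontrivial G := by
    obtain ⟨g, hg⟩ := exists_smul_eq G α β
    refine ⟨⟨g, 1, ?_⟩⟩
    rintro rfl
    rw [one_smul] at hg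
    exact hαβ hg
  -- stabilizers are non-trivial
  have hH : ∀ α : Ω, stabilizer G α ≠ ⊥ := by
    apply ExtPrim.stab_ne_bot_all hprim (α := α)
    intro h0
    have hco := IsPreprimitive.isCoatom_stabilizer_of_isPreprimitive (G := G) α
    rw [h0] at hco
    obtain ⟨g, hg⟩ := exists_ne (1 : G)
    have hz : Subgroup.zpowers g = ⊤ := by
      apply hco.2
      rw [bot_lt_iff_ne_bot]
      intro h1
      rw [Subgroup.zpowers_eq_bot] at h1
      exact hg h1
    have habG : ∀ a ∈ (⊤ : Subgroup G), ∀ b ∈ (⊤ : Subgroup G), a * b = b * a := by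
      intro a _ b _
      have ha : a ∈ Subgroup.zpowers g := hz ▸ Subgroup.mem_top a
      have hb : b ∈ Subgroup.zpowers g := hz ▸ Subgroup.mem_top b
      obtain ⟨i, rfl⟩ := Subgroup.mem_zpowers_iff.mp ha
      obtain ⟨j, rfl⟩ := Subgroup.mem_zpowers_iff.mp hb
      rw [← zpow_add, ← zpow_add, add_comm]
    exact (hA' ⊤ inferInstance top_ne_bot) habG
  -- a minimal normal subgroup
  obtain ⟨N, hNmn⟩ : ∃ N : Subgroup G, N.Normal ∧ N ≠ ⊥ ∧
      ∀ M : Subgroup G, M.Normal → M ≤ N → M = ⊥ ∨ M = N := by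
    let 𝒮 : Set (Subgroup G) := {M | M.Normal ∧ M ≠ ⊥}
    have hT𝒮 : (⊤ : Subgroup G) ∈ 𝒮 := ⟨inferInstance, top_ne_bot⟩
    obtain ⟨N, -, hNmin⟩ := (Set.toFinite 𝒮).exists_le_minimal hT𝒮
    obtain ⟨hNn, hN1⟩ : N ∈ 𝒮 := hNmin.prop
    refine ⟨N, hNn, hN1, ?_⟩
    intro M hMn hMN
    by_cases hM : M = ⊥
    · exact Or.inl hM
    · exact Or.inr (le_antisymm hMN (hNmin.2 ⟨hMn, hM⟩ hMN))
  obtain ⟨hNn, hN1, hNmin⟩ := hNmn
  haveI := hNn
  have hNnab : ¬ ∀ a ∈ N, ∀ b ∈ N, a * b = b * a := hA' N hNn hN1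
  obtain ⟨S, h⟩ := exists_isMinIn N hN1
  have hSnab := not_comm hNmin hNnab h
  have hSZ := inf_centralizer_eq_bot hSnab h
  haveI hsimple : IsSimpleGroup S := isSimpleGroup_of_isMinIn hNmin h
  have hcen : Subgroup.center S = ⊥ := by
    rw [Subgroup.eq_bot_iff_forall]
    intro z hz
    have : (z : G) ∈ S ⊓ Subgroup.centralizer (S : Set G) := by
      refine Subgroup.mem_inf.mpr ⟨z.2, ?_⟩
      rw [Subgroup.mem_centralizer_iff]
      intro s hs
      exact congrArg Subtype.val (Subgroup.mem_center_iff.mp hz ⟨s, hs⟩)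
    rw [hSZ, Subgroup.mem_bot] at this
    exact Subtype.ext this
  by_cases hm : ∀ a ∈ stabilizer G α, cj a S = S
  · -- `S = N` is simple
    have hSn : S.Normal := by
      constructor
      intro s hs g
      obtain ⟨a, ha, hga⟩ := cj_stab hprim hN1 h α g
      have := conj_mem_cj (g := g) hs
      rwa [hga, hm a ha] at this
    have hSN : S = N := by
      rcases hNmin S hSn h.le with h0 | h0
      · exact absurd h0 h.ne_bot
      · exact h0
    by_cases hC : Subgroup.centralizer (S : Set G) = ⊥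
    · refine ⟨S, hSn, hsimple, ?_, hC⟩
      intro hc
      apply hSnab
      intro a ha b hb
      exact congrArg Subtype.val (mul_comm' (⟨a, ha⟩ : S) ⟨b, hb⟩)
    · exfalso
      haveI := hSn
      haveI hCn : (Subgroup.centralizer (S : Set G)).Normal := inferInstance
      haveI := Cfsg.Agent.Helper4.normal_isPretransitive (Ω := Ω)
        (Subgroup.centralizer (S : Set G)) hC
      apply hs_config_false hprim hH hep α S (Subgroup.centralizer (S : Set G))
      · intro s hs c hc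
        exact (Subgroup.mem_centralizer_iff.mp hc s hs)
      · intro s hs ω hω
        exact Cfsg.Agent.Helper4.eq_one_of_commute_transitive
          (Subgroup.centralizer (S : Set G)) s
          (fun k hk => (Subgroup.mem_centralizer_iff.mp hk s hs)) ω hω
      · exact exists_smul_eq_of_normal hprim S h.ne_bot α
      · exact exists_smul_eq_of_normal hprim _ hC α
      · intro a ha
        exact Or.inl (hm a ha)
      · exact hcen
  · exfalso
    push Not at hm
    obtain ⟨a₀, ha₀, hne⟩ := hm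
    by_cases hK : N ⊓ stabilizer G α = ⊥
    · exact regular_case hprim hH hep α hNmin hNnab h hK a₀ ha₀ hne
    · have hall := product_case hprim hH hep α hNmin h hK a₀ ha₀ hne
      have hKS := diag_inf_eq_bot hprim α hN1 hNmin h hall
      have htwoA : ∀ a ∈ stabilizer G α, cj a S = S ∨ cj a S = cj a₀ S := by
        intro a ha
        by_cases hc : cj a S = S
        · exact Or.inl hc
        · exact Or.inr (diag_two hprim hH hep α h hSnab hK hKS a a₀ ha ha₀ hc hne)
      have htwo : ∀ g : G, cj g S = S ∨ cj g S = cj a₀ S := by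
        intro g
        obtain ⟨a, ha, hga⟩ := cj_stab hprim hN1 h α g
        rw [hga]
        exact htwoA a ha
      have hcomm : ∀ s ∈ S, ∀ c ∈ cj a₀ S, s * c = c * s := by
        intro s hs c hc
        exact ((h.cj a₀).commute h hne hc hs).symm
      have hinvα : a₀⁻¹ • α = α := by
        rw [inv_smul_eq_iff]
        exact (mem_stabilizer_iff.mp ha₀).symm
      -- the same facts for `S' = cj a₀ S`
      have hKS' : (N ⊓ stabilizer G α) ⊓ cj a₀ S = ⊥ := by
        rw [Subgroup.eq_bot_iff_forall]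
        intro x hx
        obtain ⟨hxK, hxS⟩ := Subgroup.mem_inf.mp hx
        obtain ⟨hxN, hxA⟩ := Subgroup.mem_inf.mp hxK
        rw [mem_cj] at hxS
        have h1 : a₀⁻¹ * x * a₀ ∈ (N ⊓ stabilizer G α) ⊓ S := by
          refine Subgroup.mem_inf.mpr ⟨Subgroup.mem_inf.mpr ⟨?_, ?_⟩, hxS⟩
          · have := hNn.conj_mem x hxN a₀⁻¹
            rwa [inv_inv] at this
          · exact Subgroup.mul_mem _ (Subgroup.mul_mem _ (Subgroup.inv_mem _ ha₀) hxA) ha₀
        rw [hKS, Subgroup.mem_bot] at h1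
        calc x = a₀ * (a₀⁻¹ * x * a₀) * a₀⁻¹ := by group
          _ = 1 := by rw [h1]; group
      have hex : ∀ t ∈ S, ∃ w ∈ cj a₀ S, t * w ∈ N ⊓ stabilizer G α :=
        fun t ht => diag_exists hprim hH hep α h hK hKS a₀ ha₀ t ht
      have hex' : ∀ w ∈ cj a₀ S, ∃ t ∈ S, w * t ∈ N ⊓ stabilizer G α := by
        intro w hw
        have := diag_exists hprim hH hep α (h.cj a₀) hK hKS' a₀⁻¹ (Subgroup.inv_mem _ ha₀) w hw
        rwa [cj_inv_cj] at this
      have hSfree : ∀ s ∈ S, ∀ ω : Ω, s • ω = ω → s = 1 := by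
        intro s hs ω hω
        obtain ⟨n, hn, rfl⟩ := exists_smul_eq_of_normal hprim N hN1 α ω
        have h1 : n⁻¹ * s * n ∈ (N ⊓ stabilizer G α) ⊓ S := by
          refine Subgroup.mem_inf.mpr ⟨Subgroup.mem_inf.mpr ⟨?_, ?_⟩, ?_⟩
          · exact N.mul_mem (N.mul_mem (N.inv_mem hn) (h.le hs)) hn
          · rw [mem_stabilizer_iff, mul_smul, mul_smul, hω, inv_smul_smul]
          · have := (Subgroup.mem_normalizer_iff.mp (h.norm (N.inv_mem hn)) s).mp hs
            rwa [inv_inv] at this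
        rw [hKS, Subgroup.mem_bot] at h1
        calc s = n * (n⁻¹ * s * n) * n⁻¹ := by group
          _ = 1 := by rw [h1]; group
      have hStrans : ∀ ω : Ω, ∃ s ∈ S, s • α = ω := by
        intro ω
        obtain ⟨n, hn, rfl⟩ := exists_smul_eq_of_normal hprim N hN1 α ω
        obtain ⟨s, hs, w, hw, rfl⟩ := exists_mul_of_two hNmin h hcomm htwo hn
        obtain ⟨t, ht, hwt⟩ := hex' w hw
        have h1 : (t * w) • α = α := by
          rw [hcomm t ht w hw]
          exact mem_stabilizer_iff.mp hwt.2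
        refine ⟨s * t⁻¹, S.mul_mem hs (S.inv_mem ht), ?_⟩
        rw [mul_smul, mul_smul]
        congr 1
        rw [inv_smul_eq_iff, ← mul_smul, h1]
      have hS'trans : ∀ ω : Ω, ∃ s ∈ cj a₀ S, s • α = ω := by
        intro ω
        obtain ⟨n, hn, rfl⟩ := exists_smul_eq_of_normal hprim N hN1 α ω
        obtain ⟨s, hs, w, hw, rfl⟩ := exists_mul_of_two hNmin h hcomm htwo hn
        obtain ⟨w', hw', hsw'⟩ := hex s hs
        have h1 : (w' * s) • α = α := by
          rw [← hcomm s hs w' hw']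
          exact mem_stabilizer_iff.mp hsw'.2
        refine ⟨w * w'⁻¹, Subgroup.mul_mem _ hw (Subgroup.inv_mem _ hw'), ?_⟩
        rw [hcomm s hs w hw, mul_smul, mul_smul]
        congr 1
        rw [inv_smul_eq_iff, ← mul_smul, h1]
      exact hs_config_false hprim hH hep α S (cj a₀ S) hcomm hSfree hStrans hS'trans htwoA hcen

end Cfsg.Agent.Helper1.OS
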