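import Mathlib
import Cfsg.Agent.Helper4.ConjUnion
import Cfsg.Agent.Helper1.OSh

/-!
# Derangements forming a single conjugacy class: the non-affine case is impossible
-/

set_option autoImplicit false

namespace Cfsg.Agent.Helper1.DerClass

open MulAction OS

variable {G : Type*} [Group G] [Finite G] {Ω : Type*} [Fintype Ω] [MulAction G Ω]
  [FaithfulSMul G Ω]

/-- If the derangements form a single class, every non-trivial normal subgroup contains all of
them. -/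
theorem der_mem_normal (hΩ : 2 ≤ Fintype.card Ω) (hprim : IsPreprimitive G Ω)
    (hconj : ∀ g g' : G, (∀ ω : Ω, g • ω ≠ ω) → (∀ ω : Ω, g' • ω ≠ ω) → IsConj g g')
    (M : Subgroup G) [hM : M.Normal] (hM1 : M ≠ ⊥) (g : G) (hg : ∀ ω : Ω, g • ω ≠ ω) :
    g ∈ M := by
  haveI := hprim
  haveI := Cfsg.Agent.Helper4.normal_isPretransitive (Ω := Ω) M hM1
  have h2 : 2 ≤ Nat.card Ω := by
    rw [Nat.card_eq_fintype_card]
    exact hΩ
  obtain ⟨m, hm⟩ := Cfsg.Agent.Helper4.exists_derangement (G := M) (X := Ω) h2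
  obtain ⟨c, hc⟩ := isConj_iff.mp (hconj (m : G) g (fun ω => hm ω) hg)
  rw [← hc]
  exact hM.conj_mem m m.2 c

omit [Fintype Ω] [FaithfulSMul G Ω] in
/-- A subgroup with trivial centre all of whose non-identity elements are derangements
contradicts the single class hypothesis. -/
theorem free_case_false
    (hconj : ∀ g g' : G, (∀ ω : Ω, g • ω ≠ ω) → (∀ ω : Ω, g' • ω ≠ ω) → IsConj g g')
    (S : Subgroup G) (hS1 : S ≠ ⊥) (hcen : Subgroup.center S = ⊥)
    (hSfree : ∀ s ∈ S, ∀ ω : Ω, s • ω = ω → s = 1) : False := by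
  haveI : Nontrivial S := (Subgroup.nontrivial_iff_ne_bot S).mpr hS1
  have hcard : Nat.card S ≠ 1 := by
    intro h
    have := (Nat.card_eq_one_iff_unique.mp h).1
    exact not_subsingleton S this
  obtain ⟨p, hp, hpd⟩ := Nat.exists_prime_and_dvd hcard
  haveI : Fact p.Prime := ⟨hp⟩
  obtain ⟨x, hx⟩ := exists_prime_orderOf_dvd_card' p hpd
  have hx1 : x ≠ 1 := by
    rintro rfl
    rw [orderOf_one] at hx
    exact hp.one_lt.ne hx
  have hxG : orderOf (x : G) = p := by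
    rw [Subgroup.orderOf_coe]
    exact hx
  have hder : ∀ s : S, s ≠ 1 → ∀ ω : Ω, (s : G) • ω ≠ ω := by
    intro s hs ω hω
    apply hs
    exact Subtype.ext (hSfree s s.2 ω hω)
  have hpg : IsPGroup p S := by
    intro g
    by_cases hg : g = 1
    · exact ⟨0, by rw [hg, one_pow]⟩
    · refine ⟨1, ?_⟩
      obtain ⟨c, hc⟩ := isConj_iff.mp (hconj (x : G) (g : G) (hder x hx1) (hder g hg))
      have h1 : orderOf (g : G) = p := by
        rw [← hc, ← hxG]
        exact MulEquiv.orderOf_eq (MulAut.conj c) (x : G)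
      rw [pow_one]
      apply Subtype.ext
      rw [Subgroup.coe_pow, Subgroup.coe_one, ← h1]
      exact pow_orderOf_eq_one _
  haveI := hpg.center_nontrivial
  have : Nontrivial (Subgroup.center S) := inferInstance
  rw [Subgroup.nontrivial_iff_ne_bot] at this
  exact this hcen

omit [Fintype Ω] in
/-- If the projection of `N ∩ G_α` to `S` is proper, there are two non-conjugate derangements. -/
theorem proper_case_false (hprim : IsPreprimitive G Ω) (α : Ω) {N S : Subgroup G}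
    [hNn : N.Normal] (hN1 : N ≠ ⊥)
    (hNmin : ∀ M : Subgroup G, M.Normal → M ≤ N → M = ⊥ ∨ M = N) (h : IsMinIn N S)
    (hSZ : S ⊓ Subgroup.centralizer (S : Set G) = ⊥)
    (hconj : ∀ g g' : G, (∀ ω : Ω, g • ω ≠ ω) → (∀ ω : Ω, g' • ω ≠ ω) → IsConj g g')
    (a₀ : G) (hne : cj a₀ S ≠ S)
    (t₀ : G) (ht₀ : t₀ ∈ S) (ht₀R : t₀ ∉ projS N S (N ⊓ stabilizer G α)) : False := by
  have hne' : (projS N S (N ⊓ stabilizer G α)).subgroupOf S ≠ ⊤ := by
    intro h0
    rw [Subgroup.subgroupOf_eq_top] at h0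
    exact ht₀R (h0 ht₀)
  obtain ⟨t, ht⟩ := Cfsg.Agent.Helper4.exists_not_mem_conj _ hne'
  have htR : ∀ s ∈ S, s⁻¹ * (t : G) * s ∉ projS N S (N ⊓ stabilizer G α) := by
    intro s hs hmem
    apply ht ⟨s, hs⟩
    rw [Subgroup.mem_subgroupOf]
    exact hmem
  have hcomm : ∀ w ∈ cj a₀ S, ∀ s ∈ S, w * s = s * w :=
    fun w hw s hs => (h.cj a₀).commute h hne hw hs
  -- `t w` is a derangement for each `w ∈ S'`
  have hder : ∀ w ∈ cj a₀ S, ∀ ω : Ω, ((t : G) * w) • ω ≠ ω := by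
    intro w hw ω hω
    obtain ⟨n, hn, rfl⟩ := exists_smul_eq_of_normal hprim N hN1 α ω
    obtain ⟨s, hs, c, hc, hnsc⟩ := exists_mul_of_mem hNmin h hn
    have hwN : w ∈ N := (h.cj a₀).le hw
    have hc'S : n⁻¹ * w * n ∈ cj a₀ S := by
      have := (Subgroup.mem_normalizer_iff.mp ((h.cj a₀).norm (N.inv_mem hn)) w).mp hw
      rwa [inv_inv] at this
    have hc' : n⁻¹ * w * n ∈ N ⊓ Subgroup.centralizer (S : Set G) := by
      refine Subgroup.mem_inf.mpr ⟨N.mul_mem (N.mul_mem (N.inv_mem hn) hwN) hn, ?_⟩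
      rw [Subgroup.mem_centralizer_iff]
      intro x hx
      exact (hcomm _ hc'S x hx).symm
    have hsts : s⁻¹ * (t : G) * s ∈ S := S.mul_mem (S.mul_mem (S.inv_mem hs) t.2) hs
    have e1 : n⁻¹ * (t : G) * n = s⁻¹ * (t : G) * s := by
      have := Subgroup.mem_centralizer_iff.mp hc.2 _ hsts
      rw [hnsc]
      calc (s * c)⁻¹ * (t : G) * (s * c) = c⁻¹ * ((s⁻¹ * (t : G) * s) * c) := by group
        _ = c⁻¹ * (c * (s⁻¹ * (t : G) * s)) := by rw [this]
        _ = s⁻¹ * (t : G) * s := by group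
    apply htR s hs
    refine ⟨hsts, n⁻¹ * w * n, hc', ?_⟩
    rw [← e1]
    have e2 : n⁻¹ * (t : G) * n * (n⁻¹ * w * n) = n⁻¹ * ((t : G) * w) * n := by group
    rw [e2]
    refine Subgroup.mem_inf.mpr ⟨?_, ?_⟩
    · exact N.mul_mem (N.mul_mem (N.inv_mem hn) (N.mul_mem (h.le t.2) hwN)) hn
    · rw [mem_stabilizer_iff, mul_smul, mul_smul, hω, inv_smul_smul]
  have hdt : ∀ ω : Ω, (t : G) • ω ≠ ω := by
    have := hder 1 (Subgroup.one_mem _)
    rwa [mul_one] at this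
  have ht1 : (t : G) ≠ 1 := by
    intro h1
    apply hdt α
    rw [h1, one_smul]
  have ht' : a₀ * (t : G) * a₀⁻¹ ∈ cj a₀ S := conj_mem_cj t.2
  obtain ⟨g, hg⟩ := isConj_iff.mp (hconj (t : G) _ hdt (hder _ ht'))
  have hz : (t : G) * (a₀ * (t : G) * a₀⁻¹) ∈ cj g S := by
    rw [← hg]
    exact conj_mem_cj t.2
  by_cases hc : cj g S = S
  · rw [hc] at hz
    have h1 : a₀ * (t : G) * a₀⁻¹ ∈ S := by
      have := S.mul_mem (S.inv_mem t.2) hz
      rwa [inv_mul_cancel_left] at this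
    have h2 : a₀ * (t : G) * a₀⁻¹ ∈ cj a₀ S ⊓ S := Subgroup.mem_inf.mpr ⟨ht', h1⟩
    rw [(h.cj a₀).inf_eq_bot h hne, Subgroup.mem_bot] at h2
    apply ht1
    calc (t : G) = a₀⁻¹ * (a₀ * (t : G) * a₀⁻¹) * a₀ := by group
      _ = 1 := by rw [h2]; group
  · have h1 : (t : G) ∈ S ⊓ Subgroup.centralizer (S : Set G) := by
      refine Subgroup.mem_inf.mpr ⟨t.2, ?_⟩
      rw [Subgroup.mem_centralizer_iff]
      intro x hx
      have c1 := (h.cj g).commute h hc hz hx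
      have c2 := hcomm _ ht' x hx
      have c3 : (a₀ * (t : G) * a₀⁻¹)⁻¹ * x = x * (a₀ * (t : G) * a₀⁻¹)⁻¹ := by
        rw [eq_mul_inv_iff_mul_eq, mul_assoc, ← c2, ← mul_assoc, inv_mul_cancel, one_mul]
      calc x * (t : G) = x * ((t : G) * (a₀ * (t : G) * a₀⁻¹)) * (a₀ * (t : G) * a₀⁻¹)⁻¹ := by
            group
        _ = ((t : G) * (a₀ * (t : G) * a₀⁻¹)) * x * (a₀ * (t : G) * a₀⁻¹)⁻¹ := by rw [← c1]
        _ = ((t : G) * (a₀ * (t : G) * a₀⁻¹)) * ((a₀ * (t : G) * a₀⁻¹)⁻¹ * x) := by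
            rw [c3]; group
        _ = (t : G) * x := by group
    rw [hSZ, Subgroup.mem_bot] at h1
    exact ht1 h1

end Cfsg.Agent.Helper1.DerClass
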