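import Mathlib
import Cfsg.Agent.Helper1.DerClassA
import Cfsg.Agent.Helper1.DerClassB
import Cfsg.Agent.Helper1.DerClassC

/-!
# Primitive non-almost-simple groups with a single class of derangements
-/

set_option autoImplicit false

namespace Cfsg.Agent.Helper1.DerClass

open MulAction OS

variable {G : Type*} [Group G] [Finite G] {Ω : Type*} [Fintype Ω] [MulAction G Ω]
  [FaithfulSMul G Ω]

/-- Without abelian normal subgroups, a single class of derangements forces almost simplicity. -/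
theorem false_of_no_abelian (hΩ : 2 ≤ Fintype.card Ω) (hprim : IsPreprimitive G Ω)
    (hnas : ¬ ∃ T : Subgroup G, T.Normal ∧ IsSimpleGroup T ∧ ¬ IsMulCommutative T ∧
      Subgroup.centralizer (T : Set G) = ⊥)
    (hA : ¬ ∃ N : Subgroup G, N.Normal ∧ N ≠ ⊥ ∧ ∀ a ∈ N, ∀ b ∈ N, a * b = b * a)
    (hex : ∃ g : G, ∀ ω : Ω, g • ω ≠ ω)
    (hconj : ∀ g g' : G, (∀ ω : Ω, g • ω ≠ ω) → (∀ ω : Ω, g' • ω ≠ ω) → IsConj g g') :
    False := by
  classical
  haveI := hprim
  have hA' : ∀ N : Subgroup G, N.Normal → N ≠ ⊥ → ¬ ∀ a ∈ N, ∀ b ∈ N, a * b = b * a :=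
    fun N hn h1 hab => hA ⟨N, hn, h1, hab⟩
  have hcard : 1 < Fintype.card Ω := by omega
  obtain ⟨α, β, hαβ⟩ := Fintype.exists_pair_of_one_lt_card hcard
  haveI : Nontrivial Ω := ⟨⟨α, β, hαβ⟩⟩
  haveI : Nontrivial G := by
    obtain ⟨g, hg⟩ := exists_smul_eq G α β
    refine ⟨⟨g, 1, ?_⟩⟩
    rintro rfl
    rw [one_smul] at hg
    exact hαβ hg
  obtain ⟨d, hd⟩ := hex
  have hd1 : d ≠ 1 := by
    rintro rfl
    exact hd α (one_smul _ _)
  -- a minimal normal subgroup
  obtain ⟨N, hNmn⟩ : ∃ N : Subgroup G, N.Normal ∧ N ≠ ⊥ ∧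
      ∀ M : Subgroup G, M.Normal → M ≤ N → M = ⊥ ∨ M = N := by
    let 𝒮 : Set (Subgroup G) := {M | M.Normal ∧ M ≠ ⊥}
    have hT𝒮 : (⊤ : Subgroup G) ∈ 𝒮 := ⟨inferInstance, top_ne_bot⟩
    obtain ⟨N, -, hNmin⟩ := (Set.toFinite 𝒮).exists_le_minimal hT𝒮
    obtain ⟨hNn, hN1⟩ : N ∈ 𝒮 := hNmin.prop
    refine ⟨N, hNn, hN1, ?_⟩
    intro M hMn hMN
    by_cases hM : M = ⊥
    · exact Or.inl hM
    · exact Or.inr (le_antisymm hMN (hNmin.2 ⟨hMn, hM⟩ hMN))
  obtain ⟨hNn, hN1, hNmin⟩ := hNmn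
  haveI := hNn
  have hNnab : ¬ ∀ a ∈ N, ∀ b ∈ N, a * b = b * a := hA' N hNn hN1
  obtain ⟨S, h⟩ := exists_isMinIn N hN1
  have hSnab := not_comm hNmin hNnab h
  have hSZ := inf_centralizer_eq_bot hSnab h
  haveI hsimple : IsSimpleGroup S := isSimpleGroup_of_isMinIn hNmin h
  have hcen : Subgroup.center S = ⊥ := by
    rw [Subgroup.eq_bot_iff_forall]
    intro z hz
    have : (z : G) ∈ S ⊓ Subgroup.centralizer (S : Set G) := by
      refine Subgroup.mem_inf.mpr ⟨z.2, ?_⟩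
      rw [Subgroup.mem_centralizer_iff]
      intro s hs
      exact congrArg Subtype.val (Subgroup.mem_center_iff.mp hz ⟨s, hs⟩)
    rw [hSZ, Subgroup.mem_bot] at this
    exact Subtype.ext this
  by_cases hm : ∀ a ∈ stabilizer G α, cj a S = S
  · have hSn : S.Normal := by
      constructor
      intro s hs g
      obtain ⟨a, ha, hga⟩ := cj_stab hprim hN1 h α g
      have := conj_mem_cj (g := g) hs
      rwa [hga, hm a ha] at this
    by_cases hC : Subgroup.centralizer (S : Set G) = ⊥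
    · apply hnas
      refine ⟨S, hSn, hsimple, ?_, hC⟩
      intro hc
      apply hSnab
      intro a ha b hb
      exact congrArg Subtype.val (mul_comm' (⟨a, ha⟩ : S) ⟨b, hb⟩)
    · haveI := hSn
      haveI hCn : (Subgroup.centralizer (S : Set G)).Normal := inferInstance
      have h1 := der_mem_normal hΩ hprim hconj S h.ne_bot d hd
      have h2 := der_mem_normal hΩ hprim hconj (Subgroup.centralizer (S : Set G)) hC d hd
      have h3 : d ∈ S ⊓ Subgroup.centralizer (S : Set G) := Subgroup.mem_inf.mpr ⟨h1, h2⟩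
      rw [hSZ, Subgroup.mem_bot] at h3
      exact hd1 h3
  · push Not at hm
    obtain ⟨a₀, ha₀, hne⟩ := hm
    by_cases hall : ∀ t ∈ S, t ∈ projS N S (N ⊓ stabilizer G α)
    · have hKS := diag_inf_eq_bot hprim α hN1 hNmin h hall
      have hSfree : ∀ s ∈ S, ∀ ω : Ω, s • ω = ω → s = 1 := by
        intro s hs ω hω
        obtain ⟨n, hn, rfl⟩ := exists_smul_eq_of_normal hprim N hN1 α ω
        have h1 : n⁻¹ * s * n ∈ (N ⊓ stabilizer G α) ⊓ S := by
          refine Subgroup.mem_inf.mpr ⟨Subgroup.mem_inf.mpr ⟨?_, ?_⟩, ?_⟩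
          · exact N.mul_mem (N.mul_mem (N.inv_mem hn) (h.le hs)) hn
          · rw [mem_stabilizer_iff, mul_smul, mul_smul, hω, inv_smul_smul]
          · have := (Subgroup.mem_normalizer_iff.mp (h.norm (N.inv_mem hn)) s).mp hs
            rwa [inv_inv] at this
        rw [hKS, Subgroup.mem_bot] at h1
        calc s = n * (n⁻¹ * s * n) * n⁻¹ := by group
          _ = 1 := by rw [h1]; group
      exact free_case_false hconj S h.ne_bot hcen hSfree
    · push Not at hall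
      obtain ⟨t₀, ht₀, ht₀R⟩ := hall
      exact proper_case_false hprim α hN1 hNmin h hSZ hconj a₀ hne t₀ ht₀ ht₀R

/-- The theorem: for a primitive group that is not almost simple, the derangements form a single
class iff the group is sharply 2-transitive. -/
theorem main (hΩ : 2 ≤ Fintype.card Ω) (hprim : IsPreprimitive G Ω)
    (hnas : ¬ ∃ T : Subgroup G, T.Normal ∧ IsSimpleGroup T ∧ ¬ IsMulCommutative T ∧
      Subgroup.centralizer (T : Set G) = ⊥) :
    Nat.card {c : ConjClasses G // ∃ g : G, ConjClasses.mk g = c ∧ ∀ ω : Ω, g • ω ≠ ω} = 1 ↔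
      (IsMultiplyPretransitive G Ω 2 ∧
        ∀ g : G, g ≠ 1 → ∀ a b : Ω, a ≠ b → g • a = a → g • b ≠ b) := by
  rw [card_eq_one_iff (fun g : G => ∀ ω : Ω, g • ω ≠ ω)]
  constructor
  · rintro ⟨hex, hconj⟩
    by_cases hA : ∃ N : Subgroup G, N.Normal ∧ N ≠ ⊥ ∧ ∀ a ∈ N, ∀ b ∈ N, a * b = b * a
    · obtain ⟨N, hNn, hN1, hab⟩ := hA
      haveI := hNn
      exact sharp_of_abelian_normal hΩ hprim N hN1 hab hconj
    · exact (false_of_no_abelian hΩ hprim hnas hA hex hconj).elim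
  · rintro ⟨h2, hsharp⟩
    haveI := hprim
    refine ⟨?_, fun g g' hg hg' => isConj_of_sharp hΩ h2 hsharp g g' hg hg'⟩
    have h2' : 2 ≤ Nat.card Ω := by
      rw [Nat.card_eq_fintype_card]
      exact hΩ
    exact Cfsg.Agent.Helper4.exists_derangement (G := G) (X := Ω) h2'

end Cfsg.Agent.Helper1.DerClass
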