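import Mathlib
import Cfsg.Agent.Helper4.ConjUnion
import Cfsg.Agent.Helper1.OSh
import Cfsg.Agent.Helper1.ExtPrimB

/-!
# Primitive groups: derangements in the non-affine, non-almost-simple case
-/

set_option autoImplicit false

namespace Cfsg.Agent.Helper1.DerP

open MulAction OS

variable {G : Type*} [Group G] [Finite G] {Ω : Type*} [MulAction G Ω] [FaithfulSMul G Ω]

/-- If the projection of `N ∩ G_α` to `S` is proper, there is `t ∈ S` such that `t w` is a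
derangement for every `w` in another conjugate of `S`. -/
theorem prod_derangement (hprim : IsPreprimitive G Ω) (α : Ω) {N S : Subgroup G}
    [hNn : N.Normal] (hN1 : N ≠ ⊥)
    (hNmin : ∀ M : Subgroup G, M.Normal → M ≤ N → M = ⊥ ∨ M = N) (h : IsMinIn N S)
    (a₀ : G) (hne : cj a₀ S ≠ S)
    (t₀ : G) (ht₀ : t₀ ∈ S) (ht₀R : t₀ ∉ projS N S (N ⊓ stabilizer G α)) :
    ∃ t ∈ S, ∀ w ∈ cj a₀ S, ∀ ω : Ω, (t * w) • ω ≠ ω := by
  have hne' : (projS N S (N ⊓ stabilizer G α)).subgroupOf S ≠ ⊤ := by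
    intro h0
    rw [Subgroup.subgroupOf_eq_top] at h0
    exact ht₀R (h0 ht₀)
  obtain ⟨t, ht⟩ := Cfsg.Agent.Helper4.exists_not_mem_conj _ hne'
  have htR : ∀ s ∈ S, s⁻¹ * (t : G) * s ∉ projS N S (N ⊓ stabilizer G α) := by
    intro s hs hmem
    apply ht ⟨s, hs⟩
    rw [Subgroup.mem_subgroupOf]
    exact hmem
  have hcomm : ∀ w ∈ cj a₀ S, ∀ s ∈ S, w * s = s * w :=
    fun w hw s hs => (h.cj a₀).commute h hne hw hs
  refine ⟨t, t.2, ?_⟩
  intro w hw ω hω
  obtain ⟨n, hn, rfl⟩ := exists_smul_eq_of_normal hprim N hN1 α ω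
  obtain ⟨s, hs, c, hc, hnsc⟩ := exists_mul_of_mem hNmin h hn
  have hwN : w ∈ N := (h.cj a₀).le hw
  have hc'S : n⁻¹ * w * n ∈ cj a₀ S := by
    have := (Subgroup.mem_normalizer_iff.mp ((h.cj a₀).norm (N.inv_mem hn)) w).mp hw
    rwa [inv_inv] at this
  have hc' : n⁻¹ * w * n ∈ N ⊓ Subgroup.centralizer (S : Set G) := by
    refine Subgroup.mem_inf.mpr ⟨N.mul_mem (N.mul_mem (N.inv_mem hn) hwN) hn, ?_⟩
    rw [Subgroup.mem_centralizer_iff]
    intro x hx
    exact (hcomm _ hc'S x hx).symm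
  have hsts : s⁻¹ * (t : G) * s ∈ S := S.mul_mem (S.mul_mem (S.inv_mem hs) t.2) hs
  have e1 : n⁻¹ * (t : G) * n = s⁻¹ * (t : G) * s := by
    have := Subgroup.mem_centralizer_iff.mp hc.2 _ hsts
    rw [hnsc]
    calc (s * c)⁻¹ * (t : G) * (s * c) = c⁻¹ * ((s⁻¹ * (t : G) * s) * c) := by group
      _ = c⁻¹ * (c * (s⁻¹ * (t : G) * s)) := by rw [this]
      _ = s⁻¹ * (t : G) * s := by group
  apply htR s hs
  refine ⟨hsts, n⁻¹ * w * n, hc', ?_⟩
  rw [← e1]
  have e2 : n⁻¹ * (t : G) * n * (n⁻¹ * w * n) = n⁻¹ * ((t : G) * w) * n := by group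
  rw [e2]
  refine Subgroup.mem_inf.mpr ⟨?_, ?_⟩
  · exact N.mul_mem (N.mul_mem (N.inv_mem hn) (N.mul_mem (h.le t.2) hwN)) hn
  · rw [mem_stabilizer_iff, mul_smul, mul_smul, hω, inv_smul_smul]

omit [Finite G] in
/-- In the diagonal case `S` acts semiregularly. -/
theorem free_of_diag (hprim : IsPreprimitive G Ω) (α : Ω) {N S : Subgroup G}
    [hNn : N.Normal] (hN1 : N ≠ ⊥)
    (hNmin : ∀ M : Subgroup G, M.Normal → M ≤ N → M = ⊥ ∨ M = N) (h : IsMinIn N S)
    (hall : ∀ t ∈ S, t ∈ projS N S (N ⊓ stabilizer G α)) :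
    ∀ s ∈ S, ∀ ω : Ω, s • ω = ω → s = 1 := by
  have hKS := diag_inf_eq_bot hprim α hN1 hNmin h hall
  intro s hs ω hω
  obtain ⟨n, hn, rfl⟩ := exists_smul_eq_of_normal hprim N hN1 α ω
  have h1 : n⁻¹ * s * n ∈ (N ⊓ stabilizer G α) ⊓ S := by
    refine Subgroup.mem_inf.mpr ⟨Subgroup.mem_inf.mpr ⟨?_, ?_⟩, ?_⟩
    · exact N.mul_mem (N.mul_mem (N.inv_mem hn) (h.le hs)) hn
    · rw [mem_stabilizer_iff, mul_smul, mul_smul, hω, inv_smul_smul]
    · have := (Subgroup.mem_normalizer_iff.mp (h.norm (N.inv_mem hn)) s).mp hs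
      rwa [inv_inv] at this
  rw [hKS, Subgroup.mem_bot] at h1
  calc s = n * (n⁻¹ * s * n) * n⁻¹ := by group
    _ = 1 := by rw [h1]; group

/-- A non-trivial finite group with trivial centre has an element of prime order `q ≠ p`. -/
theorem exists_prime_order_ne (S : Subgroup G) (hS1 : S ≠ ⊥) (hcen : Subgroup.center S = ⊥)
    (p : ℕ) (hp : p.Prime) : ∃ q : ℕ, q.Prime ∧ q ≠ p ∧ ∃ x ∈ S, orderOf x = q := by
  haveI : Fact p.Prime := ⟨hp⟩
  haveI : Nontrivial S := (Subgroup.nontrivial_iff_ne_bot S).mpr hS1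
  by_contra hcon
  push Not at hcon
  have hall : ∀ q : ℕ, q.Prime → q ∣ Nat.card S → q = p := by
    intro q hq hqd
    by_contra hqp
    haveI : Fact q.Prime := ⟨hq⟩
    obtain ⟨x, hx⟩ := exists_prime_orderOf_dvd_card' q hqd
    apply hcon q hq hqp (x : G) x.2
    rw [Subgroup.orderOf_coe]
    exact hx
  have hcard : Nat.card S = p ^ (Nat.card S).primeFactorsList.length :=
    Nat.eq_prime_pow_of_unique_prime_dvd Nat.card_pos.ne' (fun {d} hd hdd => hall d hd hdd)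
  have hpg : IsPGroup p S := IsPGroup.of_card hcard
  haveI := hpg.center_nontrivial
  have : Nontrivial (Subgroup.center S) := inferInstance
  rw [Subgroup.nontrivial_iff_ne_bot] at this
  exact this hcen

end Cfsg.Agent.Helper1.DerP
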