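import Mathlib
import Cfsg.Agent.Helper1.DerPA
import Cfsg.Prelude.Def_Transfer

/-!
# Primitive groups all of whose derangements are `p`-elements
-/

set_option autoImplicit false

namespace Cfsg.Agent.Helper1.DerP

open MulAction OS

variable {G : Type*} [Group G] [Finite G] {Ω : Type*} [MulAction G Ω] [FaithfulSMul G Ω]

omit [Finite G] [FaithfulSMul G Ω] in
theorem prime_order_not_ppow {p q : ℕ} (hp : p.Prime) (hq : q.Prime) (hqp : q ≠ p) {g : G}
    (hg : orderOf g = q) : ¬ ∃ k : ℕ, orderOf g = p ^ k := by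
  rintro ⟨k, hk⟩
  rw [hg] at hk
  have h1 : q ∣ p ^ k := by rw [← hk]
  have h2 := hq.dvd_of_dvd_pow h1
  exact hqp ((Nat.prime_dvd_prime_iff_eq hq hp).mp h2)

omit [Finite G] [FaithfulSMul G Ω] in
theorem prod_not_ppow {p q : ℕ} (hp : p.Prime) (hq : q.Prime) (hqp : q ≠ p) {S S' : Subgroup G}
    (hSS' : S ⊓ S' = ⊥) {t w : G} (ht : t ∈ S) (hw : w ∈ S') (hcomm : t * w = w * t)
    (hwq : orderOf w = q) : ¬ ∃ k : ℕ, orderOf (t * w) = p ^ k := by
  rintro ⟨k, hk⟩
  have h1 : (t * w) ^ (p ^ k) = 1 := by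
    rw [← hk]
    exact pow_orderOf_eq_one _
  have hc : Commute t w := hcomm
  rw [hc.mul_pow] at h1
  have h2 : w ^ (p ^ k) = (t ^ (p ^ k))⁻¹ := by
    rw [eq_inv_iff_mul_eq_one, ← (hc.pow_pow _ _).eq]
    exact h1
  have h3 : w ^ (p ^ k) ∈ S ⊓ S' := by
    refine Subgroup.mem_inf.mpr ⟨?_, S'.pow_mem hw _⟩
    rw [h2]
    exact S.inv_mem (S.pow_mem ht _)
  rw [hSS', Subgroup.mem_bot] at h3
  have h4 : q ∣ p ^ k := by
    rw [← hwq]
    exact orderOf_dvd_of_pow_eq_one h3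
  have h5 := hq.dvd_of_dvd_pow h4
  exact hqp ((Nat.prime_dvd_prime_iff_eq hq hp).mp h5)

/-- A primitive group in which every derangement is a `p`-element is affine or almost simple. -/
theorem main_p [Finite Ω] (hprim : IsPreprimitive G Ω) (hΩ : 2 ≤ Nat.card Ω) (p : ℕ)
    (hp : p.Prime)
    (hder : ∀ g : G, (∀ ω : Ω, g • ω ≠ ω) → ∃ k : ℕ, orderOf g = p ^ k) :
    (∃ (N : Subgroup G) (r : ℕ), r.Prime ∧ N.Normal ∧ Cfsg.IsElementaryAbelian r N ∧
      IsPretransitive N Ω ∧ ∀ a : Ω, stabilizer N a = ⊥) ∨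
    (∃ T : Subgroup G, T.Normal ∧ IsSimpleGroup ↥T ∧ ¬ IsMulCommutative ↥T ∧
      Subgroup.centralizer (T : Set G) = ⊥) := by
  classical
  haveI := hprim
  have hpos : 0 < Nat.card Ω := by omega
  haveI : Nonempty Ω := (Nat.card_pos_iff.mp hpos).1
  by_cases hA : ∃ N : Subgroup G, N.Normal ∧ N ≠ ⊥ ∧ ∀ a ∈ N, ∀ b ∈ N, a * b = b * a
  · left
    obtain ⟨N, hNn, hN1, hab⟩ := hA
    haveI : IsMulCommutative N := ⟨⟨fun a b => Subtype.ext (hab a a.2 b b.2)⟩⟩
    have hnil : Group.IsNilpotent N := by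
      open scoped IsMulCommutative in
      exact CommGroup.isNilpotent
    have hNF : N ≤ Cfsg.fittingSubgroup G := Cfsg.Agent.Helper1.le_fittingSubgroup hNn hnil
    have hF : Cfsg.fittingSubgroup G ≠ ⊥ := by
      intro h0
      rw [h0, le_bot_iff] at hNF
      exact hN1 hNF
    obtain ⟨hFab, -, -, r, e, hr, -, hexp⟩ := ExtPrim.fitting_struct (X := Ω) hF
    haveI hFn : (Cfsg.fittingSubgroup G).Normal := Cfsg.Agent.Helper1.fittingSubgroup_normal
    refine ⟨Cfsg.fittingSubgroup G, r, hr, hFn,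
      ⟨⟨⟨fun a b => Subtype.ext (hFab a a.2 b b.2)⟩⟩, hexp⟩,
      Cfsg.Agent.Helper4.normal_isPretransitive (Ω := Ω) _ hF, ?_⟩
    intro a
    rw [Subgroup.eq_bot_iff_forall]
    intro n hn
    have h1 : (n : G) • a = a := mem_stabilizer_iff.mp hn
    exact Subtype.ext (ExtPrim.abelian_normal_free (X := Ω) _ hF hFab n n.2 a h1)
  right
  by_contra hnas
  have hA' : ∀ N : Subgroup G, N.Normal → N ≠ ⊥ → ¬ ∀ a ∈ N, ∀ b ∈ N, a * b = b * a :=
    fun N hn h1 hab => hA ⟨N, hn, h1, hab⟩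
  obtain ⟨α⟩ := ‹Nonempty Ω›
  haveI : Nontrivial G := by
    by_contra hnt
    rw [not_nontrivial_iff_subsingleton] at hnt
    have : ∀ ω : Ω, ω = α := by
      intro ω
      obtain ⟨g, hg⟩ := exists_smul_eq G α ω
      rw [Subsingleton.elim g 1, one_smul] at hg
      exact hg.symm
    have hsub : Subsingleton Ω := ⟨fun a b => (this a).trans (this b).symm⟩
    have : Nat.card Ω ≤ 1 := Finite.card_le_one_iff_subsingleton.mpr hsub
    omega
  -- a minimal normal subgroup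
  obtain ⟨N, hNmn⟩ : ∃ N : Subgroup G, N.Normal ∧ N ≠ ⊥ ∧
      ∀ M : Subgroup G, M.Normal → M ≤ N → M = ⊥ ∨ M = N := by
    let 𝒮 : Set (Subgroup G) := {M | M.Normal ∧ M ≠ ⊥}
    have hT𝒮 : (⊤ : Subgroup G) ∈ 𝒮 := ⟨inferInstance, top_ne_bot⟩
    obtain ⟨N, -, hNmin⟩ := (Set.toFinite 𝒮).exists_le_minimal hT𝒮
    obtain ⟨hNn, hN1⟩ : N ∈ 𝒮 := hNmin.prop
    refine ⟨N, hNn, hN1, ?_⟩
    intro M hMn hMN
    by_cases hM : M = ⊥
    · exact Or.inl hM
    · exact Or.inr (le_antisymm hMN (hNmin.2 ⟨hMn, hM⟩ hMN))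
  obtain ⟨hNn, hN1, hNmin⟩ := hNmn
  haveI := hNn
  have hNnab : ¬ ∀ a ∈ N, ∀ b ∈ N, a * b = b * a := hA' N hNn hN1
  obtain ⟨S, h⟩ := exists_isMinIn N hN1
  have hSnab := not_comm hNmin hNnab h
  have hSZ := inf_centralizer_eq_bot hSnab h
  haveI hsimple : IsSimpleGroup S := isSimpleGroup_of_isMinIn hNmin h
  have hcen : Subgroup.center S = ⊥ := by
    rw [Subgroup.eq_bot_iff_forall]
    intro z hz
    have : (z : G) ∈ S ⊓ Subgroup.centralizer (S : Set G) := by
      refine Subgroup.mem_inf.mpr ⟨z.2, ?_⟩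
      rw [Subgroup.mem_centralizer_iff]
      intro s hs
      exact congrArg Subtype.val (Subgroup.mem_center_iff.mp hz ⟨s, hs⟩)
    rw [hSZ, Subgroup.mem_bot] at this
    exact Subtype.ext this
  -- a free `S` gives a contradiction
  have hfree_false : (∀ s ∈ S, ∀ ω : Ω, s • ω = ω → s = 1) → False := by
    intro hSfree
    obtain ⟨q, hq, hqp, x, hxS, hxq⟩ := exists_prime_order_ne S h.ne_bot hcen p hp
    have hx1 : x ≠ 1 := by
      rintro rfl
      rw [orderOf_one] at hxq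
      exact hq.one_lt.ne hxq
    exact prime_order_not_ppow hp hq hqp hxq
      (hder x (fun ω hω => hx1 (hSfree x hxS ω hω)))
  by_cases hm : ∀ a ∈ stabilizer G α, cj a S = S
  · have hSn : S.Normal := by
      constructor
      intro s hs g
      obtain ⟨a, ha, hga⟩ := cj_stab hprim hN1 h α g
      have := conj_mem_cj (g := g) hs
      rwa [hga, hm a ha] at this
    by_cases hC : Subgroup.centralizer (S : Set G) = ⊥
    · apply hnas
      refine ⟨S, hSn, hsimple, ?_, hC⟩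
      intro hc
      apply hSnab
      intro a ha b hb
      exact congrArg Subtype.val (mul_comm' (⟨a, ha⟩ : S) ⟨b, hb⟩)
    · haveI := hSn
      haveI hCn : (Subgroup.centralizer (S : Set G)).Normal := inferInstance
      haveI := Cfsg.Agent.Helper4.normal_isPretransitive (Ω := Ω)
        (Subgroup.centralizer (S : Set G)) hC
      apply hfree_false
      intro s hs ω hω
      exact Cfsg.Agent.Helper4.eq_one_of_commute_transitive
        (Subgroup.centralizer (S : Set G)) s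
        (fun k hk => (Subgroup.mem_centralizer_iff.mp hk s hs)) ω hω
  · push Not at hm
    obtain ⟨a₀, ha₀, hne⟩ := hm
    by_cases hall : ∀ t ∈ S, t ∈ projS N S (N ⊓ stabilizer G α)
    · exact hfree_false (free_of_diag hprim α hN1 hNmin h hall)
    · push Not at hall
      obtain ⟨t₀, ht₀, ht₀R⟩ := hall
      obtain ⟨t, htS, htw⟩ := prod_derangement hprim α hN1 hNmin h a₀ hne t₀ ht₀ ht₀R
      -- an element of order `q` in the conjugate
      obtain ⟨q, hq, hqp, x, hxS, hxq⟩ := exists_prime_order_ne S h.ne_bot hcen p hp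
      have hw : a₀ * x * a₀⁻¹ ∈ cj a₀ S := conj_mem_cj hxS
      have hwq : orderOf (a₀ * x * a₀⁻¹) = q := by
        rw [← hxq]
        exact MulEquiv.orderOf_eq (MulAut.conj a₀) x
      have hcomm : t * (a₀ * x * a₀⁻¹) = (a₀ * x * a₀⁻¹) * t :=
        ((h.cj a₀).commute h hne hw htS).symm
      have hinf : S ⊓ cj a₀ S = ⊥ := h.inf_eq_bot (h.cj a₀) hne.symm
      exact prod_not_ppow hp hq hqp hinf htS hw hcomm hwq (hder _ (htw _ hw))

end Cfsg.Agent.Helper1.DerP
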