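import Mathlib

/-!
# Exactly two classes satisfying a predicate
-/

set_option autoImplicit false

namespace Cfsg.Agent.Helper1.DerTwo

/-- Exactly two classes meet the predicate: there are two non-conjugate representatives to one of
which every element satisfying the predicate is conjugate. -/
theorem exists_of_card_eq_two {G : Type*} [Group G] (P : G → Prop)
    (h : Nat.card {c : ConjClasses G // ∃ g : G, ConjClasses.mk g = c ∧ P g} = 2) :
    ∃ d₁ d₂ : G, P d₁ ∧ P d₂ ∧ ¬ IsConj d₁ d₂ ∧ ∀ g, P g → IsConj g d₁ ∨ IsConj g d₂ := by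
  obtain ⟨⟨c₁, d₁, rfl, h1⟩, ⟨c₂, d₂, rfl, h2⟩, hne, huniv⟩ := Nat.card_eq_two_iff.mp h
  refine ⟨d₁, d₂, h1, h2, ?_, ?_⟩
  · intro hc
    apply hne
    exact Subtype.ext (ConjClasses.mk_eq_mk_iff_isConj.mpr hc)
  · intro g hg
    have hmem : (⟨ConjClasses.mk g, g, rfl, hg⟩ :
        {c : ConjClasses G // ∃ g : G, ConjClasses.mk g = c ∧ P g}) ∈
        ({⟨ConjClasses.mk d₁, d₁, rfl, h1⟩, ⟨ConjClasses.mk d₂, d₂, rfl, h2⟩} : Set _) := by
      rw [huniv]
      trivial
    rcases hmem with h0 | h0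
    · left
      exact ConjClasses.mk_eq_mk_iff_isConj.mp (congrArg Subtype.val h0)
    · right
      have h0' := Set.mem_singleton_iff.mp h0
      exact ConjClasses.mk_eq_mk_iff_isConj.mp (congrArg Subtype.val h0')

/-- With at most two classes, three pairwise non-conjugate elements cannot exist. -/
theorem three_false {G : Type*} [Group G] (P : G → Prop) {d₁ d₂ : G}
    (hall : ∀ g, P g → IsConj g d₁ ∨ IsConj g d₂) {x₁ x₂ x₃ : G}
    (h1 : P x₁) (h2 : P x₂) (h3 : P x₃) (h12 : ¬ IsConj x₁ x₂) (h13 : ¬ IsConj x₁ x₃)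
    (h23 : ¬ IsConj x₂ x₃) : False := by
  rcases hall x₁ h1 with a1 | a1 <;> rcases hall x₂ h2 with a2 | a2 <;>
    rcases hall x₃ h3 with a3 | a3
  · exact h12 (a1.trans a2.symm)
  · exact h12 (a1.trans a2.symm)
  · exact h13 (a1.trans a3.symm)
  · exact h23 (a2.trans a3.symm)
  · exact h23 (a2.trans a3.symm)
  · exact h13 (a1.trans a3.symm)
  · exact h12 (a1.trans a2.symm)
  · exact h12 (a1.trans a2.symm)

end Cfsg.Agent.Helper1.DerTwo
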