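import Mathlib
import Cfsg.Agent.Helper1.DerPA

/-!
# Three pairwise non-conjugate derangements in primitive groups that are neither affine nor
almost simple
-/

set_option autoImplicit false

namespace Cfsg.Agent.Helper1.DerTwo

open MulAction OS

variable {G : Type*} [Group G]

theorem orderOf_eq_of_isConj {a b : G} (h : IsConj a b) : orderOf a = orderOf b := by
  obtain ⟨c, hc⟩ := isConj_iff.mp h
  rw [← hc]
  exact (MulEquiv.orderOf_eq (MulAut.conj c) a).symm

variable [Finite G] {Ω : Type*} [MulAction G Ω]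

/-- Two commuting semiregular subgroups, one with trivial centre, yield three pairwise
non-conjugate derangements. -/
theorem free_three (S S' : Subgroup G) (hS1 : S ≠ ⊥) (hcen : Subgroup.center S = ⊥)
    (hS'1 : S' ≠ ⊥) (hcomm : ∀ s ∈ S, ∀ c ∈ S', s * c = c * s)
    (hSfree : ∀ s ∈ S, ∀ ω : Ω, s • ω = ω → s = 1)
    (hS'free : ∀ c ∈ S', ∀ ω : Ω, c • ω = ω → c = 1) :
    ∃ x₁ x₂ x₃ : G, (∀ ω : Ω, x₁ • ω ≠ ω) ∧ (∀ ω : Ω, x₂ • ω ≠ ω) ∧ (∀ ω : Ω, x₃ • ω ≠ ω) ∧
      ¬ IsConj x₁ x₂ ∧ ¬ IsConj x₁ x₃ ∧ ¬ IsConj x₂ x₃ := by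
  haveI : Nontrivial S' := (Subgroup.nontrivial_iff_ne_bot S').mpr hS'1
  have hcard : Nat.card S' ≠ 1 := by
    intro h
    have := (Nat.card_eq_one_iff_unique.mp h).1
    exact not_subsingleton S' this
  obtain ⟨r, hr, hrd⟩ := Nat.exists_prime_and_dvd hcard
  haveI : Fact r.Prime := ⟨hr⟩
  obtain ⟨c', hc'⟩ := exists_prime_orderOf_dvd_card' r hrd
  obtain ⟨c, hcS', hcr⟩ : ∃ c ∈ S', orderOf c = r := by
    refine ⟨(c' : G), c'.2, ?_⟩
    rw [Subgroup.orderOf_coe]
    exact hc'
  obtain ⟨p, hp, hpr, s, hsS, hsp⟩ := DerP.exists_prime_order_ne S hS1 hcen r hr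
  have hs1 : s ≠ 1 := by
    rintro rfl
    rw [orderOf_one] at hsp
    exact hp.one_lt.ne hsp
  have hc1 : c ≠ 1 := by
    rintro rfl
    rw [orderOf_one] at hcr
    exact hr.one_lt.ne hcr
  have hsc : Commute s c := hcomm s hsS c hcS'
  have hord : orderOf (s * c) = p * r := by
    rw [← hsp, ← hcr]
    apply hsc.orderOf_mul_eq_mul_orderOf_of_coprime
    rw [hsp, hcr]
    exact (Nat.coprime_primes hp hr).mpr hpr
  refine ⟨s, c, s * c, ?_, ?_, ?_, ?_, ?_, ?_⟩
  · exact fun ω hω => hs1 (hSfree s hsS ω hω)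
  · exact fun ω hω => hc1 (hS'free c hcS' ω hω)
  · intro ω hω
    have h1 : (s * c) ^ r • ω = ω :=
      mem_stabilizer_iff.mp ((stabilizer G ω).pow_mem (mem_stabilizer_iff.mpr hω) r)
    have h2 : (s * c) ^ r = s ^ r := by
      rw [hsc.mul_pow, ← hcr, pow_orderOf_eq_one, mul_one]
    rw [h2] at h1
    have h3 := hSfree _ (S.pow_mem hsS r) ω h1
    have h4 : p ∣ r := by
      rw [← hsp]
      exact orderOf_dvd_of_pow_eq_one h3
    exact hpr ((Nat.prime_dvd_prime_iff_eq hp hr).mp h4)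
  · intro h
    have := orderOf_eq_of_isConj h
    rw [hsp, hcr] at this
    exact hpr this
  · intro h
    have := orderOf_eq_of_isConj h
    rw [hsp, hord] at this
    have h1 : p * 1 = p * r := by rw [mul_one]; exact this
    have := Nat.eq_of_mul_eq_mul_left hp.pos h1
    exact hr.one_lt.ne this
  · intro h
    have := orderOf_eq_of_isConj h
    rw [hcr, hord] at this
    have h1 : 1 * r = p * r := by rw [one_mul]; exact this
    have := Nat.eq_of_mul_eq_mul_right hr.pos h1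
    exact hp.one_lt.ne this

omit [Finite G] in
/-- `t` is not conjugate to `t w` for `1 ≠ w` in another conjugate of `S`. -/
theorem not_isConj_mul {N S : Subgroup G} [hNn : N.Normal] (h : IsMinIn N S)
    (hSZ : S ⊓ Subgroup.centralizer (S : Set G) = ⊥) (a₀ : G) (hne : cj a₀ S ≠ S)
    {t w : G} (htS : t ∈ S) (ht1 : t ≠ 1) (hw : w ∈ cj a₀ S) (hw1 : w ≠ 1) :
    ¬ IsConj t (t * w) := by
  intro hc
  obtain ⟨g, hg⟩ := isConj_iff.mp hc
  have hz : t * w ∈ cj g S := by
    rw [← hg]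
    exact conj_mem_cj htS
  by_cases hcS : cj g S = S
  · rw [hcS] at hz
    have h1 : w ∈ S := by
      have := S.mul_mem (S.inv_mem htS) hz
      rwa [inv_mul_cancel_left] at this
    have h2 : w ∈ cj a₀ S ⊓ S := Subgroup.mem_inf.mpr ⟨hw, h1⟩
    rw [(h.cj a₀).inf_eq_bot h hne, Subgroup.mem_bot] at h2
    exact hw1 h2
  · have h1 : t ∈ S ⊓ Subgroup.centralizer (S : Set G) := by
      refine Subgroup.mem_inf.mpr ⟨htS, ?_⟩
      rw [Subgroup.mem_centralizer_iff]
      intro x hx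
      have c1 := (h.cj g).commute h hcS hz hx
      have c2 := (h.cj a₀).commute h hne hw hx
      have c3 : w⁻¹ * x = x * w⁻¹ := by
        rw [eq_mul_inv_iff_mul_eq, mul_assoc, ← c2, ← mul_assoc, inv_mul_cancel, one_mul]
      calc x * t = x * (t * w) * w⁻¹ := by group
        _ = (t * w) * x * w⁻¹ := by rw [← c1]
        _ = (t * w) * (w⁻¹ * x) := by rw [c3]; group
        _ = t * x := by group
    rw [hSZ, Subgroup.mem_bot] at h1
    exact ht1 h1

omit [Finite G] in
/-- `t t'` is not conjugate to `t w` when `w` and `t` have different orders. -/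
theorem not_isConj_mul_mul {N S : Subgroup G} [hNn : N.Normal]
    (hNmin : ∀ M : Subgroup G, M.Normal → M ≤ N → M = ⊥ ∨ M = N)
    (hNnab : ¬ ∀ a ∈ N, ∀ b ∈ N, a * b = b * a) (h : IsMinIn N S)
    (a₀ : G) (hne : cj a₀ S ≠ S)
    {t w : G} (htS : t ∈ S) (ht1 : t ≠ 1) (hw : w ∈ cj a₀ S)
    (hord : orderOf w ≠ orderOf t) :
    ¬ IsConj (t * (a₀ * t * a₀⁻¹)) (t * w) := by
  intro hc
  obtain ⟨g, hg⟩ := isConj_iff.mp hc
  set u := g * t * g⁻¹ with hu
  set v := g * (a₀ * t * a₀⁻¹) * g⁻¹ with hv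
  have huv : u * v = t * w := by
    rw [← hg, hu, hv]
    group
  have hou : orderOf u = orderOf t := MulEquiv.orderOf_eq (MulAut.conj g) t
  have hov : orderOf v = orderOf t := by
    have h1 : orderOf v = orderOf (a₀ * t * a₀⁻¹) :=
      MulEquiv.orderOf_eq (MulAut.conj g) (a₀ * t * a₀⁻¹)
    rw [h1]
    exact MulEquiv.orderOf_eq (MulAut.conj a₀) t
  have hu1 : u ≠ 1 := by
    intro h1
    apply ht1
    calc t = g⁻¹ * u * g := by rw [hu]; group
      _ = 1 := by rw [h1]; group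
  have hv1 : v ≠ 1 := by
    intro h1
    apply ht1
    calc t = a₀⁻¹ * (g⁻¹ * v * g) * a₀ := by rw [hv]; group
      _ = 1 := by rw [h1]; group
  have hA : IsMinIn N (cj g S) := h.cj g
  have hB : IsMinIn N (cj g (cj a₀ S)) := (h.cj a₀).cj g
  have huA : u ∈ cj g S := conj_mem_cj htS
  have hvB : v ∈ cj g (cj a₀ S) := conj_mem_cj (conj_mem_cj htS)
  have hAB : cj g S ≠ cj g (cj a₀ S) := by
    intro h0
    apply hne
    have := congrArg (cj g⁻¹) h0
    rw [cj_inv_cj, cj_inv_cj] at this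
    exact this.symm
  have hinf : S ⊓ cj a₀ S = ⊥ := h.inf_eq_bot (h.cj a₀) hne.symm
  have hAZ := inf_centralizer_eq_bot (not_comm hNmin hNnab hA) hA
  have hBZ := inf_centralizer_eq_bot (not_comm hNmin hNnab hB) hB
  -- `A` is one of `S`, `S'`
  have hA2 : cj g S = S ∨ cj g S = cj a₀ S := by
    by_contra hcon
    push Not at hcon
    obtain ⟨hAS, hAS'⟩ := hcon
    have : u ∈ cj g S ⊓ Subgroup.centralizer ((cj g S : Subgroup G) : Set G) := by
      refine Subgroup.mem_inf.mpr ⟨huA, ?_⟩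
      rw [Subgroup.mem_centralizer_iff]
      intro a ha
      have c1 : a * t = t * a := hA.commute h hAS ha htS
      have c2 : a * w = w * a := hA.commute (h.cj a₀) hAS' ha hw
      have c3 : a * v = v * a := hA.commute hB hAB ha hvB
      have c3' : v⁻¹ * a = a * v⁻¹ := by
        rw [eq_mul_inv_iff_mul_eq, mul_assoc, c3, ← mul_assoc, inv_mul_cancel, one_mul]
      have e : u = t * w * v⁻¹ := by rw [← huv]; group
      rw [e]
      calc a * (t * w * v⁻¹) = (a * t) * w * v⁻¹ := by group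
        _ = t * (a * w) * v⁻¹ := by rw [c1]; group
        _ = t * w * (a * v⁻¹) := by rw [c2]; group
        _ = t * w * v⁻¹ * a := by rw [← c3']; group
    rw [hAZ, Subgroup.mem_bot] at this
    exact hu1 this
  have hB2 : cj g (cj a₀ S) = S ∨ cj g (cj a₀ S) = cj a₀ S := by
    by_contra hcon
    push Not at hcon
    obtain ⟨hBS, hBS'⟩ := hcon
    have : v ∈ cj g (cj a₀ S) ⊓
        Subgroup.centralizer ((cj g (cj a₀ S) : Subgroup G) : Set G) := by
      refine Subgroup.mem_inf.mpr ⟨hvB, ?_⟩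
      rw [Subgroup.mem_centralizer_iff]
      intro b hb
      have c1 : b * t = t * b := hB.commute h hBS hb htS
      have c2 : b * w = w * b := hB.commute (h.cj a₀) hBS' hb hw
      have c3 : b * u = u * b := hB.commute hA hAB.symm hb huA
      have c3' : u⁻¹ * b = b * u⁻¹ := by
        rw [eq_mul_inv_iff_mul_eq, mul_assoc, c3, ← mul_assoc, inv_mul_cancel, one_mul]
      have e : v = u⁻¹ * (t * w) := by rw [← huv]; group
      rw [e]
      calc b * (u⁻¹ * (t * w)) = (b * u⁻¹) * (t * w) := by group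
        _ = u⁻¹ * (b * t) * w := by rw [← c3']; group
        _ = u⁻¹ * t * (b * w) := by rw [c1]; group
        _ = u⁻¹ * (t * w) * b := by rw [c2]; group
    rw [hBZ, Subgroup.mem_bot] at this
    exact hv1 this
  rcases hA2 with hAS | hAS'
  · rcases hB2 with hBS | hBS'
    · exact hAB (hAS.trans hBS.symm)
    · -- `u ∈ S`, `v ∈ S'`
      rw [hAS] at huA
      rw [hBS'] at hvB
      have h1 : w * v⁻¹ ∈ S ⊓ cj a₀ S := by
        refine Subgroup.mem_inf.mpr ⟨?_, Subgroup.mul_mem _ hw (Subgroup.inv_mem _ hvB)⟩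
        have e : w * v⁻¹ = t⁻¹ * u := by
          have : w = t⁻¹ * (u * v) := by rw [huv]; group
          rw [this]; group
        rw [e]
        exact S.mul_mem (S.inv_mem htS) huA
      rw [hinf, Subgroup.mem_bot, mul_inv_eq_one] at h1
      apply hord
      rw [h1, hov]
  · rcases hB2 with hBS | hBS'
    · -- `u ∈ S'`, `v ∈ S`
      rw [hAS'] at huA
      rw [hBS] at hvB
      have hcuv : u * v = v * u := (h.cj a₀).commute h hne huA hvB
      have h1 : w * u⁻¹ ∈ S ⊓ cj a₀ S := by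
        refine Subgroup.mem_inf.mpr ⟨?_, Subgroup.mul_mem _ hw (Subgroup.inv_mem _ huA)⟩
        have e : w * u⁻¹ = t⁻¹ * v := by
          have : w = t⁻¹ * (v * u) := by rw [← hcuv, huv]; group
          rw [this]; group
        rw [e]
        exact S.mul_mem (S.inv_mem htS) hvB
      rw [hinf, Subgroup.mem_bot, mul_inv_eq_one] at h1
      apply hord
      rw [h1, hou]
    · exact hAB (hAS'.trans hBS'.symm)

end Cfsg.Agent.Helper1.DerTwo
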