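import Mathlib
import Cfsg.Agent.Helper1.DerTwoB

/-!
# Three pairwise non-conjugate derangements: the main non-affine theorem
-/

set_option autoImplicit false

namespace Cfsg.Agent.Helper1.DerTwo

open MulAction OS

variable {G : Type*} [Group G] [Finite G] {Ω : Type*} [MulAction G Ω] [FaithfulSMul G Ω]

/-- A primitive group that is neither affine nor almost simple has at least three classes of
derangements. -/
theorem nonaffine_three [Finite Ω] (hprim : IsPreprimitive G Ω) (hΩ : 2 ≤ Nat.card Ω)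
    (hA : ¬ ∃ N : Subgroup G, N.Normal ∧ N ≠ ⊥ ∧ ∀ a ∈ N, ∀ b ∈ N, a * b = b * a)
    (hnas : ¬ ∃ T : Subgroup G, T.Normal ∧ IsSimpleGroup T ∧ ¬ IsMulCommutative T ∧
      Subgroup.centralizer (T : Set G) = ⊥) :
    ∃ x₁ x₂ x₃ : G, (∀ ω : Ω, x₁ • ω ≠ ω) ∧ (∀ ω : Ω, x₂ • ω ≠ ω) ∧ (∀ ω : Ω, x₃ • ω ≠ ω) ∧
      ¬ IsConj x₁ x₂ ∧ ¬ IsConj x₁ x₃ ∧ ¬ IsConj x₂ x₃ := by
  classical
  haveI := hprim
  have hpos : 0 < Nat.card Ω := by omega
  haveI : Nonempty Ω := (Nat.card_pos_iff.mp hpos).1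
  have hA' : ∀ N : Subgroup G, N.Normal → N ≠ ⊥ → ¬ ∀ a ∈ N, ∀ b ∈ N, a * b = b * a :=
    fun N hn h1 hab => hA ⟨N, hn, h1, hab⟩
  obtain ⟨α⟩ := ‹Nonempty Ω›
  haveI : Nontrivial G := by
    by_contra hnt
    rw [not_nontrivial_iff_subsingleton] at hnt
    have : ∀ ω : Ω, ω = α := by
      intro ω
      obtain ⟨g, hg⟩ := exists_smul_eq G α ω
      rw [Subsingleton.elim g 1, one_smul] at hg
      exact hg.symm
    have hsub : Subsingleton Ω := ⟨fun a b => (this a).trans (this b).symm⟩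
    have : Nat.card Ω ≤ 1 := Finite.card_le_one_iff_subsingleton.mpr hsub
    omega
  obtain ⟨N, hNmn⟩ : ∃ N : Subgroup G, N.Normal ∧ N ≠ ⊥ ∧
      ∀ M : Subgroup G, M.Normal → M ≤ N → M = ⊥ ∨ M = N := by
    let 𝒮 : Set (Subgroup G) := {M | M.Normal ∧ M ≠ ⊥}
    have hT𝒮 : (⊤ : Subgroup G) ∈ 𝒮 := ⟨inferInstance, top_ne_bot⟩
    obtain ⟨N, -, hNmin⟩ := (Set.toFinite 𝒮).exists_le_minimal hT𝒮
    obtain ⟨hNn, hN1⟩ : N ∈ 𝒮 := hNmin.prop
    refine ⟨N, hNn, hN1, ?_⟩
    intro M hMn hMN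
    by_cases hM : M = ⊥
    · exact Or.inl hM
    · exact Or.inr (le_antisymm hMN (hNmin.2 ⟨hMn, hM⟩ hMN))
  obtain ⟨hNn, hN1, hNmin⟩ := hNmn
  haveI := hNn
  have hNnab : ¬ ∀ a ∈ N, ∀ b ∈ N, a * b = b * a := hA' N hNn hN1
  obtain ⟨S, h⟩ := exists_isMinIn N hN1
  have hSnab := not_comm hNmin hNnab h
  have hSZ := inf_centralizer_eq_bot hSnab h
  haveI hsimple : IsSimpleGroup S := isSimpleGroup_of_isMinIn hNmin h
  have hcen : Subgroup.center S = ⊥ := by
    rw [Subgroup.eq_bot_iff_forall]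
    intro z hz
    have : (z : G) ∈ S ⊓ Subgroup.centralizer (S : Set G) := by
      refine Subgroup.mem_inf.mpr ⟨z.2, ?_⟩
      rw [Subgroup.mem_centralizer_iff]
      intro s hs
      exact congrArg Subtype.val (Subgroup.mem_center_iff.mp hz ⟨s, hs⟩)
    rw [hSZ, Subgroup.mem_bot] at this
    exact Subtype.ext this
  by_cases hm : ∀ a ∈ stabilizer G α, cj a S = S
  · have hSn : S.Normal := by
      constructor
      intro s hs g
      obtain ⟨a, ha, hga⟩ := cj_stab hprim hN1 h α g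
      have := conj_mem_cj (g := g) hs
      rwa [hga, hm a ha] at this
    by_cases hC : Subgroup.centralizer (S : Set G) = ⊥
    · exfalso
      apply hnas
      refine ⟨S, hSn, hsimple, ?_, hC⟩
      intro hc
      apply hSnab
      intro a ha b hb
      exact congrArg Subtype.val (mul_comm' (⟨a, ha⟩ : S) ⟨b, hb⟩)
    · haveI := hSn
      haveI hCn : (Subgroup.centralizer (S : Set G)).Normal := inferInstance
      haveI := Cfsg.Agent.Helper4.normal_isPretransitive (Ω := Ω)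
        (Subgroup.centralizer (S : Set G)) hC
      haveI := Cfsg.Agent.Helper4.normal_isPretransitive (Ω := Ω) S h.ne_bot
      apply free_three S (Subgroup.centralizer (S : Set G)) h.ne_bot hcen hC
      · intro s hs c hc
        exact (Subgroup.mem_centralizer_iff.mp hc s hs)
      · intro s hs ω hω
        exact Cfsg.Agent.Helper4.eq_one_of_commute_transitive
          (Subgroup.centralizer (S : Set G)) s
          (fun k hk => (Subgroup.mem_centralizer_iff.mp hk s hs)) ω hω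
      · intro c hc ω hω
        exact Cfsg.Agent.Helper4.eq_one_of_commute_transitive S c
          (fun k hk => (Subgroup.mem_centralizer_iff.mp hc k hk).symm) ω hω
  · push Not at hm
    obtain ⟨a₀, ha₀, hne⟩ := hm
    have hcomm : ∀ s ∈ S, ∀ c ∈ cj a₀ S, s * c = c * s :=
      fun s hs c hc => ((h.cj a₀).commute h hne hc hs).symm
    by_cases hall : ∀ t ∈ S, t ∈ projS N S (N ⊓ stabilizer G α)
    · have hSfree := DerP.free_of_diag hprim α hN1 hNmin h hall
      apply free_three S (cj a₀ S) h.ne_bot hcen (h.cj a₀).ne_bot hcomm hSfree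
      intro c hc ω hω
      rw [mem_cj] at hc
      have h1 : (a₀⁻¹ * c * a₀) • (a₀⁻¹ • ω) = a₀⁻¹ • ω := by
        rw [← mul_smul, mul_assoc, mul_assoc, mul_inv_cancel, mul_one, mul_smul, hω]
      have h2 := hSfree _ hc _ h1
      calc c = a₀ * (a₀⁻¹ * c * a₀) * a₀⁻¹ := by group
        _ = 1 := by rw [h2]; group
    · push Not at hall
      obtain ⟨t₀, ht₀, ht₀R⟩ := hall
      obtain ⟨t, htS, htw⟩ := DerP.prod_derangement hprim α hN1 hNmin h a₀ hne t₀ ht₀ ht₀R
      have hdt : ∀ ω : Ω, t • ω ≠ ω := by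
        have := htw 1 (Subgroup.one_mem _)
        rwa [mul_one] at this
      have ht1 : t ≠ 1 := by
        intro h1
        apply hdt α
        rw [h1, one_smul]
      -- an element `y` of `S` of prime order different from the order of `t`
      obtain ⟨y, hyS, hy1, hyo⟩ : ∃ y ∈ S, y ≠ 1 ∧ orderOf y ≠ orderOf t := by
        obtain ⟨q₁, hq₁, -, y₁, hy₁S, hy₁o⟩ :=
          DerP.exists_prime_order_ne S h.ne_bot hcen 2 Nat.prime_two
        obtain ⟨q₂, hq₂, hq₂₁, y₂, hy₂S, hy₂o⟩ :=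
          DerP.exists_prime_order_ne S h.ne_bot hcen q₁ hq₁
        by_cases h1 : orderOf t = q₁
        · refine ⟨y₂, hy₂S, ?_, ?_⟩
          · rintro rfl
            rw [orderOf_one] at hy₂o
            exact hq₂.one_lt.ne hy₂o
          · rw [hy₂o, h1]
            exact hq₂₁
        · refine ⟨y₁, hy₁S, ?_, ?_⟩
          · rintro rfl
            rw [orderOf_one] at hy₁o
            exact hq₁.one_lt.ne hy₁o
          · rw [hy₁o]
            exact fun h2 => h1 h2.symm
      have hw : a₀ * y * a₀⁻¹ ∈ cj a₀ S := conj_mem_cj hyS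
      have hwo : orderOf (a₀ * y * a₀⁻¹) ≠ orderOf t := by
        have : orderOf (a₀ * y * a₀⁻¹) = orderOf y := MulEquiv.orderOf_eq (MulAut.conj a₀) y
        rw [this]
        exact hyo
      have hw1 : a₀ * y * a₀⁻¹ ≠ 1 := by
        intro h1
        apply hy1
        calc y = a₀⁻¹ * (a₀ * y * a₀⁻¹) * a₀ := by group
          _ = 1 := by rw [h1]; group
      have ht' : a₀ * t * a₀⁻¹ ∈ cj a₀ S := conj_mem_cj htS
      have ht'1 : a₀ * t * a₀⁻¹ ≠ 1 := by
        intro h1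
        apply ht1
        calc t = a₀⁻¹ * (a₀ * t * a₀⁻¹) * a₀ := by group
          _ = 1 := by rw [h1]; group
      refine ⟨t, t * (a₀ * t * a₀⁻¹), t * (a₀ * y * a₀⁻¹), hdt, htw _ ht', htw _ hw, ?_, ?_, ?_⟩
      · exact not_isConj_mul h hSZ a₀ hne htS ht1 ht' ht'1
      · exact not_isConj_mul h hSZ a₀ hne htS ht1 hw hw1
      · exact not_isConj_mul_mul hNmin hNnab h a₀ hne htS ht1 hw hwo

end Cfsg.Agent.Helper1.DerTwo
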