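import Mathlib
import Cfsg.Agent.Helper4.DerangementSubgroup
import Cfsg.Agent.Helper1.DerClassA
import Cfsg.Agent.Helper1.OSc
import Cfsg.Agent.Helper1.ExtPrimA

/-!
# Exactly two classes of derangements: the affine case
-/

set_option autoImplicit false

namespace Cfsg.Agent.Helper1.DerTwo

open MulAction

variable {G : Type*} [Group G] [Finite G] {Ω : Type*} [Fintype Ω] [MulAction G Ω]
  [FaithfulSMul G Ω]

omit [Finite G] [Fintype Ω] in
/-- If the non-identity elements of an abelian normal subgroup of a primitive group are all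
conjugate, the group is 2-transitive. -/
theorem two_trans_of_conj (hprim : IsPreprimitive G Ω)
    (N : Subgroup G) [hNn : N.Normal] (hN : N ≠ ⊥) (hab : ∀ a ∈ N, ∀ b ∈ N, a * b = b * a)
    (hconj : ∀ n₁ ∈ N, ∀ n₂ ∈ N, n₁ ≠ 1 → n₂ ≠ 1 → IsConj n₁ n₂) :
    IsMultiplyPretransitive G Ω 2 := by
  haveI := hprim
  rw [is_two_pretransitive_iff]
  have key : ∀ α β γ : Ω, β ≠ α → γ ≠ α → ∃ h : G, h • α = α ∧ h • β = γ := by
    intro α β γ hβ hγ
    obtain ⟨n₁, hn₁, rfl⟩ := OS.exists_smul_eq_of_normal hprim N hN α β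
    obtain ⟨n₂, hn₂, rfl⟩ := OS.exists_smul_eq_of_normal hprim N hN α γ
    have h1 : n₁ ≠ 1 := by
      rintro rfl
      exact hβ (one_smul _ _)
    have h2 : n₂ ≠ 1 := by
      rintro rfl
      exact hγ (one_smul _ _)
    obtain ⟨g, hg⟩ := isConj_iff.mp (hconj n₁ hn₁ n₂ hn₂ h1 h2)
    obtain ⟨n, hn, a, ha, rfl⟩ := OS.exists_mul_stab hprim N hN α g
    have hm : a * n₁ * a⁻¹ ∈ N := hNn.conj_mem n₁ hn₁ a
    have e : a * n₁ * a⁻¹ = n₂ := by
      have e1 : n * (a * n₁ * a⁻¹) * n⁻¹ = n₂ := by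
        rw [← hg]
        group
      have e2 : n * (a * n₁ * a⁻¹) = (a * n₁ * a⁻¹) * n := hab n hn _ hm
      rw [e2, mul_assoc, mul_inv_cancel, mul_one] at e1
      exact e1
    have haα : a • α = α := mem_stabilizer_iff.mp ha
    refine ⟨a, haα, ?_⟩
    calc a • n₁ • α = (a * n₁ * a⁻¹) • a • α := by
          rw [← mul_smul, ← mul_smul]
          congr 1
          group
      _ = n₂ • α := by rw [e, haα]
  intro a b c d hab' hcd
  obtain ⟨g₁, hg₁⟩ := exists_smul_eq G a c
  have hne : g₁ • b ≠ c := by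
    rw [← hg₁]
    intro h
    exact hab' (smul_left_cancel g₁ h).symm
  obtain ⟨h, hh1, hh2⟩ := key c (g₁ • b) d hne hcd.symm
  refine ⟨h * g₁, ?_, ?_⟩
  · rw [mul_smul, hg₁, hh1]
  · rw [mul_smul, hh2]

omit [FaithfulSMul G Ω] [Finite G] in
theorem sharp_of_card_le (hle : ∀ g : G, g ≠ 1 → Nat.card (fixedBy Ω g) ≤ 1) :
    ∀ g : G, g ≠ 1 → ∀ a b : Ω, a ≠ b → g • a = a → g • b ≠ b := by
  intro g hg a b hab ha hb
  have h1 := Finite.card_le_one_iff_subsingleton.mp (hle g hg)
  have h2 := h1.elim (⟨a, ha⟩ : fixedBy Ω g) ⟨b, hb⟩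
  exact hab (congrArg Subtype.val h2)

/-- The affine case of the two-class theorem. -/
theorem affine_two (hΩ : 2 ≤ Fintype.card Ω) (hprim : IsPreprimitive G Ω)
    (N : Subgroup G) [hNn : N.Normal] (hN : N ≠ ⊥) (hab : ∀ a ∈ N, ∀ b ∈ N, a * b = b * a)
    {d₁ d₂ : G} (hd₁ : ∀ ω : Ω, d₁ • ω ≠ ω) (hd₂ : ∀ ω : Ω, d₂ • ω ≠ ω)
    (hnc : ¬ IsConj d₁ d₂)
    (hall : ∀ g : G, (∀ ω : Ω, g • ω ≠ ω) → IsConj g d₁ ∨ IsConj g d₂) (α : Ω) :
    ((∀ g : G, g ≠ 1 → Nat.card (fixedBy Ω g) ≤ 1) ∧ ¬ 2 ∣ Fintype.card Ω ∧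
        2 * Nat.card (stabilizer G α) = Fintype.card Ω - 1) ∨
    (IsMultiplyPretransitive G Ω 2 ∧ ∃ g : G, g ≠ 1 ∧ 2 ≤ Nat.card (fixedBy Ω g)) := by
  classical
  haveI := hprim
  haveI : Fintype G := Fintype.ofFinite G
  haveI : Nonempty Ω := ⟨α⟩
  have hfree := ExtPrim.abelian_normal_free (X := Ω) N hN hab
  have hder : ∀ n ∈ N, n ≠ 1 → ∀ ω : Ω, n • ω ≠ ω :=
    fun n hn h1 ω hω => h1 (hfree n hn ω hω)
  have hderconj : ∀ (d c : G), (∀ ω : Ω, d • ω ≠ ω) → ∀ ω : Ω, (c * d * c⁻¹) • ω ≠ ω := by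
    intro d c hd ω hω
    apply hd (c⁻¹ • ω)
    rw [mul_smul, mul_smul, smul_eq_iff_eq_inv_smul] at hω
    exact hω
  by_cases hDN : ∀ g : G, (∀ ω : Ω, g • ω ≠ ω) → g ∈ N
  · left
    obtain ⟨-, hone⟩ := Cfsg.Agent.Helper4.derangement_subgroup_aux N hDN
    have hle : ∀ g : G, g ≠ 1 → Nat.card (fixedBy Ω g) ≤ 1 := by
      intro g hg
      by_cases hgN : g ∈ N
      · have : IsEmpty (fixedBy Ω g) := ⟨fun x => hder g hgN hg x.1 x.2⟩
        rw [Nat.card_of_isEmpty]
        exact Nat.zero_le _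
      · exact (hone g hgN).le
    have hsharp := sharp_of_card_le hle
    have hcard := DerClass.card_derangements (G := G) (Ω := Ω) hsharp
    set D := Finset.univ.filter (fun g : G => ∀ ω : Ω, g • ω ≠ ω) with hD
    -- the two classes
    have himg : ∀ d : G, (∀ ω : Ω, d • ω ≠ ω) →
        (Finset.univ.image (fun a : stabilizer G α => (a : G) * d * (a : G)⁻¹)).card =
          Fintype.card (stabilizer G α) := by
      intro d hd
      rw [Finset.card_image_of_injective, Finset.card_univ]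
      intro a a' he
      have he' : (a : G) * d * (a : G)⁻¹ = (a' : G) * d * (a' : G)⁻¹ := he
      have hc : ((a' : G)⁻¹ * (a : G)) * d = d * ((a' : G)⁻¹ * (a : G)) := by
        calc ((a' : G)⁻¹ * (a : G)) * d
            = (a' : G)⁻¹ * ((a : G) * d * (a : G)⁻¹) * (a : G) := by group
          _ = (a' : G)⁻¹ * ((a' : G) * d * (a' : G)⁻¹) * (a : G) := by rw [he']
          _ = d * ((a' : G)⁻¹ * (a : G)) := by group
      have hfix : ((a' : G)⁻¹ * (a : G)) • α = α := by
        have := (stabilizer G α).mul_mem ((stabilizer G α).inv_mem a'.2) a.2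
        exact mem_stabilizer_iff.mp this
      have hfix' : ((a' : G)⁻¹ * (a : G)) • (d • α) = d • α := by
        rw [← mul_smul, hc, mul_smul, hfix]
      have h1 : (a' : G)⁻¹ * (a : G) = 1 := by
        by_contra hne
        exact hsharp _ hne α (d • α) (hd α).symm hfix hfix'
      apply Subtype.ext
      rw [inv_mul_eq_one] at h1
      exact h1.symm
    set I₁ := Finset.univ.image (fun a : stabilizer G α => (a : G) * d₁ * (a : G)⁻¹) with hI₁
    set I₂ := Finset.univ.image (fun a : stabilizer G α => (a : G) * d₂ * (a : G)⁻¹) with hI₂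
    have hdisj : Disjoint I₁ I₂ := by
      rw [Finset.disjoint_left]
      intro x hx₁ hx₂
      obtain ⟨a, -, ha⟩ := Finset.mem_image.mp hx₁
      obtain ⟨b, -, hb⟩ := Finset.mem_image.mp hx₂
      apply hnc
      have c1 : IsConj d₁ x := isConj_iff.mpr ⟨a, ha⟩
      have c2 : IsConj d₂ x := isConj_iff.mpr ⟨b, hb⟩
      exact c1.trans c2.symm
    have hcover : D = I₁ ∪ I₂ := by
      apply Finset.Subset.antisymm
      · intro g hg
        rw [hD, Finset.mem_filter] at hg
        have key : ∀ d : G, d ∈ N → IsConj g d →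
            g ∈ Finset.univ.image (fun a : stabilizer G α => (a : G) * d * (a : G)⁻¹) := by
          intro d hdN hc
          obtain ⟨c, hc⟩ := isConj_iff.mp hc.symm
          obtain ⟨n, hn, a, ha, rfl⟩ := OS.exists_mul_stab hprim N hN α c
          have hm : a * d * a⁻¹ ∈ N := hNn.conj_mem d hdN a
          have e : a * d * a⁻¹ = g := by
            have e1 : n * (a * d * a⁻¹) * n⁻¹ = g := by
              rw [← hc]
              group
            have e2 : n * (a * d * a⁻¹) = (a * d * a⁻¹) * n := hab n hn _ hm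
            rw [e2, mul_assoc, mul_inv_cancel, mul_one] at e1
            exact e1
          exact Finset.mem_image.mpr ⟨⟨a, ha⟩, Finset.mem_univ _, e⟩
        rcases hall g hg.2 with hc | hc
        · exact Finset.mem_union_left _ (key d₁ (hDN d₁ hd₁) hc)
        · exact Finset.mem_union_right _ (key d₂ (hDN d₂ hd₂) hc)
      · intro g hg
        rw [hD, Finset.mem_filter]
        refine ⟨Finset.mem_univ _, ?_⟩
        rcases Finset.mem_union.mp hg with h1 | h1
        · obtain ⟨a, -, rfl⟩ := Finset.mem_image.mp h1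
          exact hderconj d₁ a hd₁
        · obtain ⟨a, -, rfl⟩ := Finset.mem_image.mp h1
          exact hderconj d₂ a hd₂
    have hDcard : D.card = 2 * Fintype.card (stabilizer G α) := by
      rw [hcover, Finset.card_union_of_disjoint hdisj, hI₁, hI₂, himg d₁ hd₁, himg d₂ hd₂]
      ring
    rw [Nat.card_eq_fintype_card]
    refine ⟨hle, ?_, ?_⟩
    · omega
    · omega
  · right
    push Not at hDN
    obtain ⟨d, hd, hdN⟩ := hDN
    have hconjN : ∀ n₁ ∈ N, ∀ n₂ ∈ N, n₁ ≠ 1 → n₂ ≠ 1 → IsConj n₁ n₂ := by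
      intro n₁ hn₁ n₂ hn₂ h1 h2
      have hnot : ∀ n ∈ N, ∀ e : G, IsConj n e → ¬ IsConj d e := by
        intro n hn e hne hde
        apply hdN
        obtain ⟨c, hc⟩ := isConj_iff.mp (hne.trans hde.symm)
        rw [← hc]
        exact hNn.conj_mem n hn c
      rcases hall d hd with hdc | hdc
      · rcases hall n₁ (hder n₁ hn₁ h1) with c1 | c1
        · exact absurd hdc (hnot n₁ hn₁ d₁ c1)
        · rcases hall n₂ (hder n₂ hn₂ h2) with c2 | c2
          · exact absurd hdc (hnot n₂ hn₂ d₁ c2)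
          · exact c1.trans c2.symm
      · rcases hall n₁ (hder n₁ hn₁ h1) with c1 | c1
        · rcases hall n₂ (hder n₂ hn₂ h2) with c2 | c2
          · exact c1.trans c2.symm
          · exact absurd hdc (hnot n₂ hn₂ d₂ c2)
        · exact absurd hdc (hnot n₁ hn₁ d₂ c1)
    refine ⟨two_trans_of_conj hprim N hN hab hconjN, ?_⟩
    by_contra hcon
    push Not at hcon
    have hle : ∀ g : G, g ≠ 1 → Nat.card (fixedBy Ω g) ≤ 1 := by
      intro g hg
      have := hcon g hg
      omega
    have hsharp := sharp_of_card_le hle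
    have hcard := DerClass.card_derangements (G := G) (Ω := Ω) hsharp
    have hNcard : Nat.card N = Nat.card Ω := ExtPrim.card_abelian_normal (X := Ω) N hN hab
    let f : N → {g : G // ∀ ω : Ω, g • ω ≠ ω} := fun n =>
      if h : (n : G) = 1 then ⟨d, hd⟩ else ⟨n, hder n n.2 h⟩
    have hf : Function.Injective f := by
      intro n n' hnn'
      by_cases h : (n : G) = 1
      · by_cases h' : (n' : G) = 1
        · exact Subtype.ext (h.trans h'.symm)
        · exfalso
          have h1 : f n = ⟨d, hd⟩ := dif_pos h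
          have h2 : f n' = ⟨n', hder n' n'.2 h'⟩ := dif_neg h'
          rw [h1, h2] at hnn'
          have hv : d = (n' : G) := Subtype.mk.inj hnn'
          apply hdN
          rw [hv]
          exact n'.2
      · by_cases h' : (n' : G) = 1
        · exfalso
          have h1 : f n = ⟨n, hder n n.2 h⟩ := dif_neg h
          have h2 : f n' = ⟨d, hd⟩ := dif_pos h'
          rw [h1, h2] at hnn'
          have hv : (n : G) = d := Subtype.mk.inj hnn'
          apply hdN
          rw [← hv]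
          exact n.2
        · have h1 : f n = ⟨n, hder n n.2 h⟩ := dif_neg h
          have h2 : f n' = ⟨n', hder n' n'.2 h'⟩ := dif_neg h'
          rw [h1, h2] at hnn'
          have hv : (n : G) = (n' : G) := Subtype.mk.inj hnn'
          exact Subtype.ext hv
    have h1 := Nat.card_le_card_of_injective f hf
    rw [hNcard, Nat.card_eq_fintype_card, Nat.card_eq_fintype_card, Fintype.card_subtype] at h1
    omega

end Cfsg.Agent.Helper1.DerTwo
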