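import Mathlib
import Cfsg.Agent.Helper1.DerTwoA
import Cfsg.Agent.Helper1.DerTwoC
import Cfsg.Agent.Helper1.DerTwoD

/-!
# Primitive non-almost-simple groups with exactly two classes of derangements
-/

set_option autoImplicit false

namespace Cfsg.Agent.Helper1.DerTwo

open MulAction

variable {G : Type*} [Group G] [Finite G] {Ω : Type*} [Fintype Ω] [MulAction G Ω]
  [FaithfulSMul G Ω]

theorem main_two (hΩ : 2 ≤ Fintype.card Ω) (hprim : IsPreprimitive G Ω)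
    (hnas : ¬ ∃ T : Subgroup G, T.Normal ∧ IsSimpleGroup T ∧ ¬ IsMulCommutative T ∧
      Subgroup.centralizer (T : Set G) = ⊥)
    (hκ : Nat.card {c : ConjClasses G // ∃ g : G, ConjClasses.mk g = c ∧
      ∀ ω : Ω, g • ω ≠ ω} = 2) (α : Ω) :
    (Fintype.card Ω = 3 ∧ Nat.card G = 3) ∨
    ((∃ N : Subgroup G, N.Normal ∧ N ≠ ⊥ ∧ IsMulCommutative N ∧
        ∀ ω : Ω, stabilizer N ω = ⊥) ∧
      (∀ g : G, g ≠ 1 → Nat.card (fixedBy Ω g) ≤ 1) ∧ ¬ 2 ∣ Fintype.card Ω ∧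
        2 * Nat.card (stabilizer G α) = Fintype.card Ω - 1) ∨
    ((∃ N : Subgroup G, N.Normal ∧ N ≠ ⊥ ∧ IsMulCommutative N ∧
        ∀ ω : Ω, stabilizer N ω = ⊥) ∧
      IsMultiplyPretransitive G Ω 2 ∧ ∃ g : G, g ≠ 1 ∧ 2 ≤ Nat.card (fixedBy Ω g)) := by
  obtain ⟨d₁, d₂, hd₁, hd₂, hnc, hall⟩ :=
    exists_of_card_eq_two (fun g : G => ∀ ω : Ω, g • ω ≠ ω) hκ
  haveI := hprim
  by_cases hA : ∃ N : Subgroup G, N.Normal ∧ N ≠ ⊥ ∧ ∀ a ∈ N, ∀ b ∈ N, a * b = b * a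
  · obtain ⟨N, hNn, hN1, hab⟩ := hA
    haveI := hNn
    have hNex : ∃ N : Subgroup G, N.Normal ∧ N ≠ ⊥ ∧ IsMulCommutative N ∧
        ∀ ω : Ω, stabilizer N ω = ⊥ := by
      refine ⟨N, hNn, hN1, ⟨⟨fun a b => Subtype.ext (hab a a.2 b b.2)⟩⟩, ?_⟩
      intro ω
      rw [Subgroup.eq_bot_iff_forall]
      intro n hn
      have h1 : (n : G) • ω = ω := mem_stabilizer_iff.mp hn
      exact Subtype.ext (ExtPrim.abelian_normal_free (X := Ω) N hN1 hab n n.2 ω h1)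
    rcases affine_two hΩ hprim N hN1 hab hd₁ hd₂ hnc hall α with h | h
    · exact Or.inr (Or.inl ⟨hNex, h⟩)
    · exact Or.inr (Or.inr ⟨hNex, h⟩)
  · exfalso
    have hΩ' : 2 ≤ Nat.card Ω := by
      rw [Nat.card_eq_fintype_card]
      exact hΩ
    obtain ⟨x₁, x₂, x₃, h1, h2, h3, h12, h13, h23⟩ := nonaffine_three hprim hΩ' hA hnas
    exact three_false (fun g : G => ∀ ω : Ω, g • ω ≠ ω) hall h1 h2 h3 h12 h13 h23

end Cfsg.Agent.Helper1.DerTwo
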