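import Mathlib

set_option autoImplicit false

/-!
Two consecutive cyclic factors in the derived series (from the first term on) force the
series to stop.
-/

namespace Cfsg.Agent.Helper1

open scoped commutatorElement

universe u

variable {G : Type u} [Group G]

/-- If `⟨c⟩` is normal then every commutator centralizes `c`. -/
theorem commutator_commute_of_zpowers_normal (c : G) (hn : (Subgroup.zpowers c).Normal)
    (u v : G) : Commute ⁅u, v⁆ c := by
  -- first: `(uv) c (uv)⁻¹ = (vu) c (vu)⁻¹` for all `u v`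
  have key : ∀ u v : G, (u * v) * c * (u * v)⁻¹ = (v * u) * c * (v * u)⁻¹ := by
    intro u v
    obtain ⟨k, hk⟩ := Subgroup.mem_zpowers_iff.1 (hn.conj_mem c (Subgroup.mem_zpowers c) u)
    obtain ⟨l, hl⟩ := Subgroup.mem_zpowers_iff.1 (hn.conj_mem c (Subgroup.mem_zpowers c) v)
    have h1 : (u * v) * c * (u * v)⁻¹ = c ^ (k * l) := by
      calc (u * v) * c * (u * v)⁻¹ = u * (v * c * v⁻¹) * u⁻¹ := by group
        _ = u * c ^ l * u⁻¹ := by rw [hl]
        _ = (u * c * u⁻¹) ^ l := by rw [conj_zpow]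
        _ = c ^ (k * l) := by rw [← hk, zpow_mul]
    have h2 : (v * u) * c * (v * u)⁻¹ = c ^ (l * k) := by
      calc (v * u) * c * (v * u)⁻¹ = v * (u * c * u⁻¹) * v⁻¹ := by group
        _ = v * c ^ k * v⁻¹ := by rw [hk]
        _ = (v * c * v⁻¹) ^ k := by rw [conj_zpow]
        _ = c ^ (l * k) := by rw [← hl, zpow_mul]
    rw [h1, h2, mul_comm]
  have h := key v⁻¹ u⁻¹
  -- `(v⁻¹u⁻¹) c (v⁻¹u⁻¹)⁻¹ = (u⁻¹v⁻¹) c (u⁻¹v⁻¹)⁻¹`
  show ⁅u, v⁆ * c = c * ⁅u, v⁆
  rw [commutatorElement_def]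
  have h' : c = (u * v) * ((u⁻¹ * v⁻¹) * c * (u⁻¹ * v⁻¹)⁻¹) * (u * v)⁻¹ := by
    rw [← h]; group
  calc u * v * u⁻¹ * v⁻¹ * c = (u * v) * ((u⁻¹ * v⁻¹) * c * (u⁻¹ * v⁻¹)⁻¹) * (u * v)⁻¹
        * (u * v * u⁻¹ * v⁻¹) := by group
    _ = c * (u * v * u⁻¹ * v⁻¹) := by rw [← h']

/-- From cyclicity of `H ⧸ N`, a generator. -/
theorem exists_generator_of_isCyclic_quotient (H N : Subgroup G) [N.Normal]
    (h : IsCyclic (↥H ⧸ N.subgroupOf H)) :
    ∃ c ∈ H, ∀ x ∈ H, ∃ k : ℤ, (QuotientGroup.mk' N) x = ((QuotientGroup.mk' N) c) ^ k := by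
  obtain ⟨g, hg⟩ := h.exists_generator
  obtain ⟨c, rfl⟩ := QuotientGroup.mk_surjective g
  refine ⟨c, c.2, fun x hx => ?_⟩
  obtain ⟨k, hk⟩ := Subgroup.mem_zpowers_iff.1 (hg ((⟨x, hx⟩ : H) : ↥H ⧸ N.subgroupOf H))
  refine ⟨k, ?_⟩
  rw [← QuotientGroup.mk_zpow, QuotientGroup.eq] at hk
  rw [Subgroup.mem_subgroupOf] at hk
  rw [← map_zpow]
  show ((x : G) : G ⧸ N) = (((c : G) ^ k : G) : G ⧸ N)
  rw [eq_comm, QuotientGroup.eq]
  simpa using hk

theorem derivedSeries_stops_of_cyclic (i : ℕ) (hi : 1 ≤ i)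
    (h₁ : IsCyclic (↥(derivedSeries G i) ⧸
      (derivedSeries G (i + 1)).subgroupOf (derivedSeries G i)))
    (h₂ : IsCyclic (↥(derivedSeries G (i + 1)) ⧸
      (derivedSeries G (i + 2)).subgroupOf (derivedSeries G (i + 1)))) :
    derivedSeries G (i + 1) = derivedSeries G (i + 2) := by
  apply le_antisymm _ (derivedSeries_antitone G (by omega))
  set N := derivedSeries G (i + 2) with hN
  set π := QuotientGroup.mk' N with hπ
  obtain ⟨c, hc, hcgen⟩ := exists_generator_of_isCyclic_quotient _ _ h₂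
  obtain ⟨g, hg, hggen⟩ := exists_generator_of_isCyclic_quotient _ _ h₁
  -- `⟨π c⟩` is the image of the normal subgroup `D_{i+1}`
  have hz : Subgroup.zpowers (π c) = (derivedSeries G (i + 1)).map π := by
    apply le_antisymm
    · rw [Subgroup.zpowers_le]
      exact Subgroup.mem_map_of_mem _ hc
    · rintro _ ⟨x, hx, rfl⟩
      obtain ⟨k, hk⟩ := hcgen x hx
      rw [hk]
      exact Subgroup.zpow_mem _ (Subgroup.mem_zpowers _) k
  have hzn : (Subgroup.zpowers (π c)).Normal := by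
    rw [hz]
    exact Subgroup.Normal.map inferInstance π (QuotientGroup.mk'_surjective N)
  -- `π g` commutes with `π c`
  have hgc : Commute (π g) (π c) := by
    have hg1 : g ∈ derivedSeries G 1 := derivedSeries_antitone G hi hg
    rw [derivedSeries_one, commutator_def] at hg1
    have hle : Subgroup.map π (⁅(⊤ : Subgroup G), (⊤ : Subgroup G)⁆ : Subgroup G) ≤ Subgroup.centralizer {π c} := by
      rw [Subgroup.map_commutator, Subgroup.commutator_le]
      intro a _ b _
      rw [Subgroup.mem_centralizer_iff]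
      intro y hy
      rw [Set.mem_singleton_iff] at hy
      subst hy
      exact (commutator_commute_of_zpowers_normal (π c) hzn a b).eq.symm
    have := hle (Subgroup.mem_map_of_mem π hg1)
    rw [Subgroup.mem_centralizer_iff] at this
    exact (this (π c) rfl).symm
  -- hence `π` is commutative on `D_i`
  have hform : ∀ x ∈ derivedSeries G i, ∃ k m : ℤ, π x = (π g) ^ k * (π c) ^ m := by
    intro x hx
    obtain ⟨k, hk⟩ := hggen x hx
    rw [← map_zpow] at hk
    have hk' : ((x : G) : G ⧸ derivedSeries G (i + 1)) =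
        ((g ^ k : G) : G ⧸ derivedSeries G (i + 1)) := hk
    rw [eq_comm, QuotientGroup.eq] at hk'
    obtain ⟨m, hm⟩ := hcgen _ hk'
    refine ⟨k, m, ?_⟩
    rw [← hm, ← map_zpow, ← map_mul]
    congr 1
    group
  rw [derivedSeries_succ, Subgroup.commutator_le]
  intro x hx y hy
  obtain ⟨k, m, hx'⟩ := hform x hx
  obtain ⟨k', m', hy'⟩ := hform y hy
  have hcomm : Commute (π x) (π y) := by
    rw [hx', hy']
    have c1 : Commute (π g ^ k) (π g ^ k') := (Commute.refl _).zpow_zpow _ _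
    have c2 : Commute (π g ^ k) (π c ^ m') := hgc.zpow_zpow _ _
    have c3 : Commute (π c ^ m) (π g ^ k') := hgc.symm.zpow_zpow _ _
    have c4 : Commute (π c ^ m) (π c ^ m') := (Commute.refl _).zpow_zpow _ _
    exact (c1.mul_right c2).mul_left (c3.mul_right c4)
  have : π ⁅x, y⁆ = 1 := by
    rw [map_commutatorElement]
    exact commutatorElement_eq_one_iff_commute.2 hcomm
  exact (QuotientGroup.eq_one_iff _).1 this

end Cfsg.Agent.Helper1
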