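import Mathlib
import Cfsg.Agent.Helper1.FPFSub2
import Cfsg.Agent.Helper1.CoreFree
import Cfsg.Agent.Helper1.CNGroup

set_option autoImplicit false

/-!
Higman: a finite solvable group in which every element has prime power order has order divisible
by at most two primes.
-/

namespace Cfsg.Agent.Helper1

open scoped IsMulCommutative

universe u

variable {G : Type u} [Group G]

/-- an abelian minimal normal `p`-subgroup is elementary abelian -/
theorem minimal_normal_abelian_pow_eq_one [Finite G] {p : ℕ} [hp : Fact p.Prime]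
    (N : Subgroup G) [hNn : N.Normal] (hNne : N ≠ ⊥) (hNp : IsPGroup p N)
    (hNc : IsMulCommutative N)
    (hmin : ∀ K : Subgroup G, K.Normal → K ≤ N → K = ⊥ ∨ K = N) : ∀ x ∈ N, x ^ p = 1 := by
  let Ω : Subgroup G :=
    { carrier := {x | x ∈ N ∧ x ^ p = 1}
      one_mem' := ⟨N.one_mem, one_pow p⟩
      mul_mem' := by
        rintro a b ⟨ha, hap⟩ ⟨hb, hbp⟩
        refine ⟨N.mul_mem ha hb, ?_⟩
        have hc : Commute a b := by
          have := mul_comm' (⟨a, ha⟩ : N) ⟨b, hb⟩
          exact congrArg Subtype.val this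
        rw [hc.mul_pow, hap, hbp, one_mul]
      inv_mem' := by
        rintro a ⟨ha, hap⟩
        exact ⟨N.inv_mem ha, by rw [inv_pow, hap, inv_one]⟩ }
  have hΩn : Ω.Normal := by
    constructor
    rintro x ⟨hx, hxp⟩ g
    refine ⟨hNn.conj_mem x hx g, ?_⟩
    rw [conj_pow, hxp, mul_one, mul_inv_cancel]
  have hΩN : Ω ≤ N := fun x hx => hx.1
  have hΩne : Ω ≠ ⊥ := by
    obtain ⟨k, hk⟩ := IsPGroup.iff_card.1 hNp
    have hk0 : k ≠ 0 := by
      rintro rfl
      rw [pow_zero] at hk
      exact hNne (Subgroup.card_eq_one.1 hk)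
    have hdvd : p ∣ Nat.card N := by rw [hk]; exact dvd_pow_self p hk0
    obtain ⟨x, hx⟩ := exists_prime_orderOf_dvd_card' p hdvd
    intro h
    have hxΩ : (x : G) ∈ Ω := by
      refine ⟨x.2, ?_⟩
      have := pow_orderOf_eq_one (x : G)
      rwa [Subgroup.orderOf_coe, hx] at this
    rw [h, Subgroup.mem_bot] at hxΩ
    have h1 : orderOf (x : G) = 1 := by rw [hxΩ, orderOf_one]
    rw [Subgroup.orderOf_coe, hx] at h1
    exact hp.out.one_lt.ne' h1
  rcases hmin Ω hΩn hΩN with h | h
  · exact absurd h hΩne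
  · intro x hx
    have : x ∈ Ω := by rw [h]; exact hx
    exact this.2

/-- A solvable group whose order is divisible by two primes and which acts fixed-point-freely
on a nontrivial abelian group has an element whose order is the product of two distinct primes. -/
theorem exists_orderOf_eq_mul_of_fpf_solvable [Finite G] (A V : Subgroup G) [IsMulCommutative V]
    (hV : V ≠ ⊥) (hAV : A ≤ Subgroup.normalizer (V : Set G))
    (hfpf : ∀ a ∈ A, a ≠ 1 → V ⊓ Subgroup.centralizer {a} = ⊥) (hA : Group.IsSolvable A)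
    {q r : ℕ} (hq : q.Prime) (hr : r.Prime) (hqr : q ≠ r) (hqA : q ∣ Nat.card A)
    (hrA : r ∣ Nat.card A) :
    ∃ s t : ℕ, s.Prime ∧ t.Prime ∧ s ≠ t ∧ ∃ g ∈ A, orderOf g = s * t := by
  have hnt : Nontrivial A := by
    apply (Finite.one_lt_card_iff_nontrivial).1
    exact lt_of_lt_of_le hq.one_lt (Nat.le_of_dvd Nat.card_pos hqA)
  obtain ⟨s, hs, M, hMn, hMne, hMp, hMc, hmin⟩ := exists_minimal_normal_abelian ↥A
  have hMel := minimal_normal_abelian_pow_eq_one M hMne hMp hMc hmin
  obtain ⟨t, ht, hts, htA⟩ : ∃ t : ℕ, t.Prime ∧ t ≠ s ∧ t ∣ Nat.card A := by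
    by_cases h : q = s
    · exact ⟨r, hr, fun h' => hqr (h.trans h'.symm), hrA⟩
    · exact ⟨q, hq, h, hqA⟩
  have htF := Fact.mk ht
  obtain ⟨y, hy⟩ := exists_prime_orderOf_dvd_card' t htA
  set M' := M.map A.subtype with hM'
  have hM'A : M' ≤ A := Subgroup.map_subtype_le _
  have hM'c : IsMulCommutative M' := Subgroup.map_isMulCommutative M A.subtype
  have hM'cyc : IsCyclic M' := isCyclic_of_fpf_of_comm M' V hV (hM'A.trans hAV)
    (fun a ha => hfpf a (hM'A ha)) hM'c
  have hM'card : Nat.card M' = Nat.card M := Subgroup.card_subtype A M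
  have hMcard : Nat.card M = s := by
    obtain ⟨g, hg⟩ := hM'cyc.exists_generator
    have hgo : orderOf g = Nat.card M' := orderOf_eq_card_of_forall_mem_zpowers hg
    have hgs : g ^ s = 1 := by
      obtain ⟨m, hm, hmg⟩ := Subgroup.mem_map.1 g.2
      apply Subtype.ext
      rw [Subgroup.coe_pow, Subgroup.coe_one, ← hmg, ← map_pow, hMel m hm, map_one]
    have hdvd : Nat.card M' ∣ s := by rw [← hgo]; exact orderOf_dvd_of_pow_eq_one hgs
    rcases (Nat.dvd_prime hs.out).1 hdvd with h | h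
    · rw [hM'card] at h
      exact absurd (Subgroup.card_eq_one.1 h) hMne
    · rw [← hM'card]; exact h
  have hdisj : Subgroup.zpowers y ⊓ M = ⊥ := by
    apply inf_eq_bot_of_coprime_card
    rw [Nat.card_zpowers, hy, hMcard]
    exact (Nat.coprime_primes ht hs.out).2 hts
  set A₀ : Subgroup A := Subgroup.zpowers y ⊔ M with hA₀
  have hA₀card : Nat.card A₀ = t * s := by
    rw [hA₀, card_sup_of_disjoint_normal _ M hdisj, Nat.card_zpowers, hy, hMcard]
  set A' := A₀.map A.subtype with hA'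
  have hA'card : Nat.card A' = t * s := by
    rw [hA', Subgroup.card_subtype, hA₀card]
  have hA'A : A' ≤ A := Subgroup.map_subtype_le _
  have hcyc : IsCyclic A' := isCyclic_of_fpf A' V hV (hA'A.trans hAV)
    (fun a ha => hfpf a (hA'A ha)) (Or.inr ⟨t, s, ht, hs.out, hA'card⟩)
  obtain ⟨g, hg⟩ := hcyc.exists_generator
  refine ⟨t, s, ht, hs.out, hts, (g : G), hA'A g.2, ?_⟩
  rw [Subgroup.orderOf_coe, orderOf_eq_card_of_forall_mem_zpowers hg, hA'card]

theorem not_isPrimePow_mul_primes {s t : ℕ} (hs : s.Prime) (ht : t.Prime) (hst : s ≠ t) :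
    ¬ IsPrimePow (s * t) := by
  intro h
  rw [isPrimePow_nat_iff] at h
  obtain ⟨p, k, hp, hk, hpk⟩ := h
  have h1 : s ∣ p ^ k := by rw [hpk]; exact dvd_mul_right s t
  have h2 : t ∣ p ^ k := by rw [hpk]; exact dvd_mul_left t s
  have h3 := (Nat.prime_dvd_prime_iff_eq hs hp).1 (hs.dvd_of_dvd_pow h1)
  have h4 := (Nat.prime_dvd_prime_iff_eq ht hp).1 (ht.dvd_of_dvd_pow h2)
  exact hst (h3.trans h4.symm)

/-- Higman's theorem on solvable groups all of whose elements have prime power order. -/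
theorem eppo_solvable_aux : ∀ (n : ℕ) (G : Type u) [Group G] [Finite G] [Group.IsSolvable G],
    Nat.card G = n → (∀ g : G, IsPrimePow (orderOf g) ∨ g = 1) →
    (Nat.card G).primeFactors.card ≤ 2 := by
  intro n
  induction n using Nat.strong_induction_on with
  | _ n ih =>
  intro G _ _ _ hn h
  rcases subsingleton_or_nontrivial G with hs | hnt
  · rw [Nat.card_unique]; simp
  obtain ⟨p, hp, N, hNn, hNne, hNp, hNc, hmin⟩ := exists_minimal_normal_abelian G
  -- the quotient
  have hQsolv : Group.IsSolvable (G ⧸ N) :=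
    Group.isSolvable_of_surjective (QuotientGroup.mk'_surjective N)
  have hcard : Nat.card G = Nat.card (G ⧸ N) * Nat.card N :=
    Subgroup.card_eq_card_quotient_mul_card_subgroup N
  obtain ⟨k, hk⟩ := IsPGroup.iff_card.1 hNp
  have hk0 : k ≠ 0 := by
    rintro rfl
    rw [pow_zero] at hk
    exact hNne (Subgroup.card_eq_one.1 hk)
  have hNcard1 : 1 < Nat.card N := by rw [hk]; exact Nat.one_lt_pow hk0 hp.out.one_lt
  have hQlt : Nat.card (G ⧸ N) < n := by
    rw [← hn, hcard]
    have : 0 < Nat.card (G ⧸ N) := Nat.card_pos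
    nlinarith
  have hQeppo : ∀ g : G ⧸ N, IsPrimePow (orderOf g) ∨ g = 1 := by
    intro g
    obtain ⟨x, rfl⟩ := QuotientGroup.mk'_surjective N g
    rcases h x with hx | hx
    · have hdvd : orderOf (QuotientGroup.mk' N x) ∣ orderOf x := orderOf_map_dvd _ x
      rw [isPrimePow_nat_iff] at hx
      obtain ⟨s, j, hs, hj, hsj⟩ := hx
      rw [← hsj] at hdvd
      obtain ⟨i, hi, hio⟩ := (Nat.dvd_prime_pow hs).1 hdvd
      by_cases hi0 : i = 0
      · right
        rw [hi0, pow_zero, orderOf_eq_one_iff] at hio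
        exact hio
      · left
        rw [hio, isPrimePow_nat_iff]
        exact ⟨s, i, hs, Nat.pos_of_ne_zero hi0, rfl⟩
    · right; rw [hx, map_one]
  have hQ2 := ih _ hQlt (G ⧸ N) rfl hQeppo
  have hQpos : Nat.card (G ⧸ N) ≠ 0 := Nat.card_pos.ne'
  have hNpos : Nat.card N ≠ 0 := Nat.card_pos.ne'
  have hpf : (Nat.card G).primeFactors = (Nat.card (G ⧸ N)).primeFactors ∪ {p} := by
    rw [hcard, Nat.primeFactors_mul hQpos hNpos, hk, Nat.primeFactors_prime_pow hk0 hp.out]
  by_cases hpQ : p ∣ Nat.card (G ⧸ N)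
  · have : (Nat.card G).primeFactors = (Nat.card (G ⧸ N)).primeFactors := by
      rw [hpf]
      apply Finset.union_eq_left.2
      rw [Finset.singleton_subset_iff]
      exact Nat.mem_primeFactors.2 ⟨hp.out, hpQ, hQpos⟩
    rw [this]; exact hQ2
  by_contra hcon
  push Not at hcon
  have hQ1 : 1 < (Nat.card (G ⧸ N)).primeFactors.card := by
    rw [hpf] at hcon
    have := Finset.card_union_le (Nat.card (G ⧸ N)).primeFactors {p}
    rw [Finset.card_singleton] at this
    omega
  obtain ⟨q, hqQ, r, hrQ, hqr⟩ := Finset.one_lt_card.1 hQ1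
  have hq := Nat.prime_of_mem_primeFactors hqQ
  have hr := Nat.prime_of_mem_primeFactors hrQ
  have hqd := Nat.dvd_of_mem_primeFactors hqQ
  have hrd := Nat.dvd_of_mem_primeFactors hrQ
  have hcop : (Nat.card N).Coprime N.index := by
    rw [hk, Subgroup.index_eq_card]
    exact Nat.Coprime.pow_left _ ((Nat.Prime.coprime_iff_not_dvd hp.out).2 hpQ)
  obtain ⟨B, hB⟩ := Subgroup.exists_right_complement'_of_coprime hcop
  have hBcard : Nat.card B = Nat.card (G ⧸ N) := by
    have h1 := hB.card_mul_card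
    rw [hcard, mul_comm] at h1
    exact Nat.eq_of_mul_eq_mul_right Nat.card_pos h1
  have hBp : (Nat.card B).Coprime p := by
    rw [hBcard]
    exact ((Nat.Prime.coprime_iff_not_dvd hp.out).2 hpQ).symm
  have hBN : B ≤ Subgroup.normalizer (N : Set G) := by
    rw [Subgroup.normalizer_eq_top]; exact le_top
  have hfpf : ∀ b ∈ B, b ≠ 1 → N ⊓ Subgroup.centralizer {b} = ⊥ := by
    intro b hb hb1
    rw [eq_bot_iff]
    intro x hx
    rw [Subgroup.mem_bot]
    by_contra hx1
    obtain ⟨hxN, hxc⟩ := Subgroup.mem_inf.1 hx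
    have hc : Commute x b := by
      rw [Subgroup.mem_centralizer_iff] at hxc
      exact (hxc b (Set.mem_singleton b)).symm
    obtain ⟨i, hi⟩ := exists_orderOf_eq_pow_of_mem_isPGroup hNp hxN
    have hbo : orderOf b ∣ Nat.card B := by
      have := orderOf_dvd_natCard (⟨b, hb⟩ : B)
      rwa [Subgroup.orderOf_mk] at this
    have hbcop : (orderOf x).Coprime (orderOf b) := by
      rw [hi]
      exact Nat.Coprime.pow_left _ (Nat.Coprime.coprime_dvd_right hbo hBp.symm)
    have hord := hc.orderOf_mul_eq_mul_orderOf_of_coprime hbcop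
    have hi0 : i ≠ 0 := by
      rintro rfl
      rw [pow_zero, orderOf_eq_one_iff] at hi
      exact hx1 hi
    rcases h (x * b) with hpp | h1
    · rw [hord, isPrimePow_nat_iff] at hpp
      obtain ⟨s, j, hs, hj, hsj⟩ := hpp
      have h1 : p ∣ s ^ j := by
        rw [hsj, hi]; exact Dvd.dvd.mul_right (dvd_pow_self p hi0) _
      have hps : p = s := (Nat.prime_dvd_prime_iff_eq hp.out hs).1 (hp.out.dvd_of_dvd_pow h1)
      have h2 : orderOf b ∣ p ^ j := by rw [hps, hsj]; exact dvd_mul_left _ _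
      have h3 : (orderOf b).Coprime (p ^ j) :=
        Nat.Coprime.pow_right _ (Nat.Coprime.coprime_dvd_left hbo hBp)
      have h4 : orderOf b = 1 := Nat.Coprime.eq_one_of_dvd h3 h2
      exact hb1 (orderOf_eq_one_iff.1 h4)
    · have : orderOf (x * b) = 1 := by rw [h1, orderOf_one]
      rw [hord] at this
      exact hx1 (orderOf_eq_one_iff.1 (Nat.eq_one_of_mul_eq_one_right this))
  have hBsolv : Group.IsSolvable B := inferInstance
  obtain ⟨s, t, hs, ht, hst, g, hgB, hgo⟩ := exists_orderOf_eq_mul_of_fpf_solvable B N hNne hBN hfpf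
    hBsolv hq hr hqr (hBcard ▸ hqd) (hBcard ▸ hrd)
  rcases h g with hg | hg
  · rw [hgo] at hg
    exact not_isPrimePow_mul_primes hs ht hst hg
  · rw [hg, orderOf_one] at hgo
    have := hs.two_le; have := ht.two_le
    nlinarith

end Cfsg.Agent.Helper1
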