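import Mathlib
import Cfsg.Prelude.Def_Transfer
import Cfsg.Agent.Helper1.Class2
import Cfsg.Agent.Helper1.PGroup
import Cfsg.Agent.Helper1.Transfer3

set_option autoImplicit false

/-!
Extraspecial groups, odd `p`: `Ω₁` has exponent `p` and index at most `p`.
-/

namespace Cfsg.Agent.Helper1

open scoped commutatorElement

universe u

variable {E : Type u} [Group E]

theorem class_two_of_special {p : ℕ} (h : Cfsg.IsSpecial p E) :
    ⁅commutator E, (⊤ : Subgroup E)⁆ = ⊥ := by
  rw [h.2.2, Subgroup.commutator_eq_bot_iff_le_centralizer, Subgroup.coe_top,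
    Subgroup.centralizer_univ]

theorem extraspecial_omega [Finite E] {p : ℕ} [Fact p.Prime] (hp : p ≠ 2)
    (h : Cfsg.IsExtraspecial p E) :
    (Subgroup.closure {x : E | x ^ p = 1}).index ≤ p ∧
      ∀ g ∈ Subgroup.closure {x : E | x ^ p = 1}, g ^ p = 1 := by
  have h2 := class_two_of_special h.1
  refine ⟨?_, fun g hg => pow_prime_eq_one_of_mem_closure hp h2 g hg⟩
  have hpowmem : ∀ x : E, x ^ p ∈ Subgroup.center E := by
    intro x
    rw [← h.1.2.1]
    exact IsPGroup.pow_mem_frattini h.1.1 x
  have hmul : ∀ x y : E, (x * y) ^ p = x ^ p * y ^ p := by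
    intro x y
    apply mul_pow_prime_of_class_two hp h2
    apply special_center_pow h.1
    rw [← h.1.2.2]
    exact Subgroup.commutator_mem_commutator (Subgroup.mem_top y) (Subgroup.mem_top x)
  let φ : E →* Subgroup.center E :=
    { toFun := fun x => ⟨x ^ p, hpowmem x⟩
      map_one' := by apply Subtype.ext; simp
      map_mul' := by intro x y; apply Subtype.ext; exact hmul x y }
  have hker : φ.ker ≤ Subgroup.closure {x : E | x ^ p = 1} := by
    intro x hx
    apply Subgroup.subset_closure
    rw [MonoidHom.mem_ker] at hx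
    exact congrArg Subtype.val hx
  have h1 : (Subgroup.closure {x : E | x ^ p = 1}).index ≤ φ.ker.index :=
    Nat.le_of_dvd (Nat.pos_of_ne_zero (Subgroup.index_ne_zero_of_finite)) (Subgroup.index_dvd_of_le hker)
  have h3 : φ.ker.index ≤ p := by
    rw [Subgroup.index_ker, ← h.2]
    exact Nat.card_le_card_of_injective _ Subtype.val_injective
  exact h1.trans h3

end Cfsg.Agent.Helper1
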