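import Mathlib
import Cfsg.Prelude.Def_Solvable
import Cfsg.Agent.Lead.FCDefs
import Cfsg.Agent.S0035
import Cfsg.Agent.S0039
import Cfsg.Agent.S0040

/-!
S4291 project (lead), piece FC-0a (helper1): Sylow subgroups of a group isomorphic to a Frobenius complement are
cyclic or generalized quaternion (S0035 + S0039 + S0040, transported along the isomorphism).
-/

set_option autoImplicit false
set_option linter.style.haveILetI false

open Cfsg.Agent.Lead.FC

namespace Cfsg.Agent.Helper1.FC

/-- `SylQ` transports along isomorphisms -/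
theorem sylQ_of_mulEquiv {G H : Type*} [Group G] [Group H] [Finite G] (e : G ≃* H) (hH : SylQ H) :
    SylQ G := by
  intro p _ P
  obtain ⟨P', hP'⟩ : ∃ P' : Sylow p H, (P' : Subgroup H) = (P : Subgroup G).map e.toMonoidHom :=
    ⟨P.mapSurjective (f := e.toMonoidHom) e.surjective, Sylow.coe_mapSurjective _ P⟩
  have eP : ↥(P : Subgroup G) ≃* ↥(P' : Subgroup H) :=
    (e.subgroupMap (P : Subgroup G)).trans (MulEquiv.subgroupCongr hP'.symm)
  rcases hH p P' with hcyc | ⟨n, ⟨f⟩⟩
  · left
    haveI := hcyc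
    exact isCyclic_of_surjective eP.symm eP.symm.surjective
  · right
    exact ⟨n, ⟨eP.trans f⟩⟩

/-- Sylow subgroups of a Frobenius complement -/
theorem sylQ_of_isFrobeniusComplement {L : Type*} [Group L] [Finite L] (H : Subgroup L)
    (hH : Cfsg.IsFrobeniusComplement H) : SylQ ↥H := by
  obtain ⟨N, -, hNn, hc⟩ := Cfsg.Agent.S0035.result H hH
  haveI := hNn
  have hNne : N ≠ ⊥ := by
    rintro rfl
    exact hH.2.1 (Subgroup.isComplement'_bot_left.mp hc)
  have hfpf := (Cfsg.Agent.S0039.result N H hc hNne hH.1).mp hH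
  intro p _ P
  exact Cfsg.Agent.S0040.result N H hc hNne hfpf p P

/-- PIECE FC-0a: Sylow subgroups of (a group isomorphic to) a Frobenius complement. -/
theorem sylQ_of_frobenius_complement {G : Type*} [Group G] [Finite G]
    (hFC : ∃ (L : Type) (_ : Group L) (_ : Finite L) (H : Subgroup L),
      Cfsg.IsFrobeniusComplement H ∧ Nonempty (G ≃* H)) : SylQ G := by
  obtain ⟨L, _, _, H, hH, ⟨e⟩⟩ := hFC
  exact sylQ_of_mulEquiv e (sylQ_of_isFrobeniusComplement H hH)

end Cfsg.Agent.Helper1.FC
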