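import Mathlib
import Cfsg.Prelude.Def_Solvable
import Cfsg.Agent.Lead.FCDefs

/-!
S4291 project (lead), piece FC-II-a (helper4's stub; helper1): passing to the quotient by a normal subgroup of odd
order: `SylQ` descends and `Good` lifts.
-/

set_option autoImplicit false
set_option linter.style.haveILetI false

open Cfsg.Agent.Lead.FC

namespace Cfsg.Agent.Helper1.FC

/-- a `2`-subgroup meets the kernel of a homomorphism trivially if the kernel has odd order -/
theorem injOn_of_two_group_of_odd_ker {G G' : Type*} [Group G] [Finite G] [Group G'] (π : G →* G')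
    (hK : ¬ 2 ∣ Nat.card π.ker) (Q : Subgroup G) (hQ : IsPGroup 2 Q) :
    Function.Injective (π.subgroupMap Q) := by
  rw [injective_iff_map_eq_one]
  intro x hx
  have h1 : π (x : G) = 1 := congrArg Subtype.val hx
  have hxK : (x : G) ∈ π.ker := h1
  obtain ⟨k, hk⟩ := hQ x
  -- the order of `x` is a power of two and divides the odd number `|ker π|`
  have h2 : orderOf (x : G) ∣ 2 ^ k := by
    apply orderOf_dvd_of_pow_eq_one
    have := congrArg Subtype.val hk
    simpa using this
  have h3 : orderOf (x : G) ∣ Nat.card π.ker := by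
    have h4 : orderOf (⟨(x : G), hxK⟩ : π.ker) = orderOf (x : G) := Subgroup.orderOf_mk _ _
    rw [← h4]
    exact orderOf_dvd_natCard _
  obtain ⟨j, -, hj⟩ := (Nat.dvd_prime_pow Nat.prime_two).1 h2
  have hj0 : j = 0 := by
    by_contra hne
    apply hK
    refine Dvd.dvd.trans ?_ h3
    rw [hj]
    exact dvd_pow_self 2 hne
  rw [hj0, pow_zero, orderOf_eq_one_iff] at hj
  exact Subtype.ext hj

/-- a group isomorphic to a generalized quaternion group is a `2`-group -/
theorem isPGroup_two_of_quaternion {Q : Type*} [Group Q] {n : ℕ} (f : Q ≃* QuaternionGroup (2 ^ n)) :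
    IsPGroup 2 Q := by
  haveI : NeZero (2 ^ n) := ⟨pow_ne_zero _ two_ne_zero⟩
  haveI : Finite Q := Finite.of_equiv _ f.symm.toEquiv
  apply IsPGroup.of_card (n := n + 2)
  rw [Nat.card_congr f.toEquiv, Nat.card_eq_fintype_card, QuaternionGroup.card]
  ring

/-- `SylQ` passes to quotients by normal subgroups of odd order -/
theorem sylQ_quotient {G : Type*} [Group G] [Finite G] (hQ : SylQ G) (K : Subgroup G) [K.Normal]
    (hK : ¬ 2 ∣ Nat.card K) : SylQ (G ⧸ K) := by
  intro p _ P
  have hπ : Function.Surjective (QuotientGroup.mk' K) := QuotientGroup.mk'_surjective K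
  obtain ⟨Q⟩ : Nonempty (Sylow p G) := inferInstance
  have hcoe : ((Q.mapSurjective hπ : Sylow p (G ⧸ K)) : Subgroup (G ⧸ K)) =
      (Q : Subgroup G).map (QuotientGroup.mk' K) := rfl
  obtain ⟨g, hg⟩ := MulAction.exists_smul_eq (G ⧸ K) (Q.mapSurjective hπ) P
  have e1 : ↥((Q.mapSurjective hπ : Sylow p (G ⧸ K)) : Subgroup (G ⧸ K)) ≃* ↥(P : Subgroup (G ⧸ K)) := by
    rw [← hg]
    exact Sylow.equivSMul (Q.mapSurjective hπ) g
  rcases hQ p Q with hcyc | ⟨n, ⟨f⟩⟩
  · left
    haveI := hcyc
    have h1 : IsCyclic ↥((Q.mapSurjective hπ : Sylow p (G ⧸ K)) : Subgroup (G ⧸ K)) := by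
      rw [hcoe]
      exact isCyclic_of_surjective ((QuotientGroup.mk' K).subgroupMap (Q : Subgroup G))
        ((QuotientGroup.mk' K).subgroupMap_surjective _)
    exact isCyclic_of_surjective e1 e1.surjective
  · right
    refine ⟨n, ⟨?_⟩⟩
    have hker : ¬ 2 ∣ Nat.card (QuotientGroup.mk' K).ker := by
      rw [QuotientGroup.ker_mk']; exact hK
    have hinj := injOn_of_two_group_of_odd_ker (QuotientGroup.mk' K) hker (Q : Subgroup G)
      (isPGroup_two_of_quaternion f)
    have e2 : ↥(Q : Subgroup G) ≃* ↥((Q : Subgroup G).map (QuotientGroup.mk' K)) :=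
      MulEquiv.ofBijective _ ⟨hinj, (QuotientGroup.mk' K).subgroupMap_surjective _⟩
    have e3 : ↥((Q.mapSurjective hπ : Sylow p (G ⧸ K)) : Subgroup (G ⧸ K)) ≃*
        ↥((Q : Subgroup G).map (QuotientGroup.mk' K)) := MulEquiv.subgroupCongr hcoe
    exact (e1.symm.trans e3).trans (e2.symm.trans f)

/-- `QuotIn` lifts along comaps by surjective homomorphisms -/
theorem quotIn_comap {G G' : Type*} [Group G] [Group G'] (π : G →* G') (hπ : Function.Surjective π)
    {N' : Subgroup G'} (h : QuotIn N') : QuotIn (N'.comap π) := by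
  have key : ∀ {X : Type} [Group X], (∃ f : G' →* X, Function.Surjective f ∧ f.ker = N') →
      ∃ f : G →* X, Function.Surjective f ∧ f.ker = N'.comap π := by
    rintro X _ ⟨f, hf, hker⟩
    exact ⟨f.comp π, hf.comp hπ, by rw [← hker, MonoidHom.comap_ker]⟩
  rcases h with h | h | h | h | h | h
  · left; rw [h, Subgroup.comap_top]
  · right; left; exact key h
  · right; right; left; exact key h
  · right; right; right; left; exact key h
  · right; right; right; right; left; exact key h
  · right; right; right; right; right; exact key h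

/-- Sylow subgroups of a subgroup `N` of a `SylQ`-group are cyclic as soon as `N` has a homomorphism with kernel
of odd order to a group with cyclic Sylow `2`-subgroups -/
theorem sylow_cyclic_of_hom {G : Type*} [Group G] [Finite G] (hQ : SylQ G) (N : Subgroup G)
    {Y : Type*} [Group Y] (φ : ↥N →* Y) (hkerφ : ¬ 2 ∣ Nat.card φ.ker)
    (hsyl : ∀ T : Sylow 2 Y, IsCyclic ↥(T : Subgroup Y))
    (p : ℕ) [Fact p.Prime] (P : Sylow p ↥N) : IsCyclic ↥(P : Subgroup ↥N) := by
  -- `P` inside `G`
  have hP₀ : IsPGroup p ↥((P : Subgroup N).map N.subtype) := P.isPGroup'.map _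
  obtain ⟨S, hS⟩ := hP₀.exists_le_sylow
  have eP : ↥(P : Subgroup N) ≃* ↥((P : Subgroup N).map N.subtype) :=
    (P : Subgroup N).equivMapOfInjective _ N.subtype_injective
  rcases hQ p S with hcyc | ⟨n, ⟨f⟩⟩
  · haveI := hcyc
    haveI : IsCyclic ↥((P : Subgroup N).map N.subtype) := Subgroup.isCyclic_of_le hS
    exact isCyclic_of_surjective eP.symm eP.symm.surjective
  · -- `p = 2`
    have hS2 : IsPGroup 2 ↥(S : Subgroup G) := isPGroup_two_of_quaternion f
    have hP2 : IsPGroup 2 ↥(P : Subgroup N) := by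
      intro x
      obtain ⟨k, hk⟩ := hS2 ⟨(x : G), hS (Subgroup.mem_map.2 ⟨x, x.2, rfl⟩)⟩
      refine ⟨k, ?_⟩
      have := congrArg Subtype.val hk
      apply Subtype.ext
      apply Subtype.ext
      simpa using this
    have hinj := injOn_of_two_group_of_odd_ker φ hkerφ (P : Subgroup N) hP2
    -- the image lies in a cyclic Sylow subgroup of `Y`
    have hP' : IsPGroup 2 ↥((P : Subgroup N).map φ) := hP2.map φ
    haveI : Fact (Nat.Prime 2) := ⟨Nat.prime_two⟩
    obtain ⟨T, hT⟩ := hP'.exists_le_sylow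
    haveI := hsyl T
    haveI : IsCyclic ↥((P : Subgroup N).map φ) := Subgroup.isCyclic_of_le hT
    exact isCyclic_of_injective (φ.subgroupMap (P : Subgroup N)) hinj

/-- `Good` lifts from quotients by normal subgroups of odd order -/
theorem good_comap {G : Type*} [Group G] [Finite G] (hQ : SylQ G) (K : Subgroup G) [K.Normal]
    (hK : ¬ 2 ∣ Nat.card K) {N' : Subgroup (G ⧸ K)} (h : Good N') :
    Good (N'.comap (QuotientGroup.mk' K)) := by
  obtain ⟨hn, hsyl, hquot⟩ := h
  refine ⟨hn.comap _, ?_, quotIn_comap _ (QuotientGroup.mk'_surjective K) hquot⟩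
  haveI : Fact (Nat.Prime 2) := ⟨Nat.prime_two⟩
  intro p _ P
  refine sylow_cyclic_of_hom hQ _ ((QuotientGroup.mk' K).subgroupComap N') ?_ (fun T => hsyl 2 T) p P
  intro h2
  apply hK
  refine Dvd.dvd.trans h2 ?_
  -- the kernel embeds in `K`
  have hle : ∀ x : ↥((QuotientGroup.mk' K).subgroupComap N').ker,
      ((x : ↥(N'.comap (QuotientGroup.mk' K))) : G) ∈ K := by
    intro x
    have h1 : ((QuotientGroup.mk' K).subgroupComap N') (x : ↥(N'.comap (QuotientGroup.mk' K))) = 1 := x.2
    have h2 : (QuotientGroup.mk' K) ((x : ↥(N'.comap (QuotientGroup.mk' K))) : G) = 1 :=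
      congrArg Subtype.val h1
    rwa [QuotientGroup.mk'_apply, QuotientGroup.eq_one_iff] at h2
  let ι : ↥((QuotientGroup.mk' K).subgroupComap N').ker →* ↥K :=
    { toFun := fun x => ⟨((x : ↥(N'.comap (QuotientGroup.mk' K))) : G), hle x⟩
      map_one' := rfl
      map_mul' := fun _ _ => rfl }
  have hι : Function.Injective ι := by
    intro x y hxy
    have : ((x : ↥(N'.comap (QuotientGroup.mk' K))) : G) = ((y : ↥(N'.comap (QuotientGroup.mk' K))) : G) :=
      congrArg (fun z : ↥K => (z : G)) hxy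
    exact Subtype.ext (Subtype.ext this)
  exact Subgroup.card_dvd_of_injective ι hι

/-- PIECE FC-II-a (quotient by a normal subgroup of odd order): `SylQ` descends, `Good` lifts. -/
theorem good_of_quotient {G : Type*} [Group G] [Finite G] (hQ : SylQ G) (K : Subgroup G) [K.Normal]
    (hK : ¬ 2 ∣ Nat.card K) :
    SylQ (G ⧸ K) ∧ ((∃ N' : Subgroup (G ⧸ K), Good N') → ∃ N : Subgroup G, Good N) := by
  refine ⟨sylQ_quotient hQ K hK, ?_⟩
  rintro ⟨N', hN'⟩
  exact ⟨_, good_comap hQ K hK hN'⟩

end Cfsg.Agent.Helper1.FC
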