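import Mathlib
import Cfsg.Prelude.Def_Solvable
import Cfsg.Agent.Lead.FCDefs

/-!
S4291 project (lead), piece FC-II-d2 (helper4's stub; helper1): a group `G` of order `24` or `48` with a normal
self-centralizing quaternion subgroup `R` of order `8` has `G / Z(R) ≃ A₄` resp. `S₄`
(action on the four Sylow `3`-subgroups).
-/

set_option autoImplicit false
set_option linter.style.haveILetI false

open Cfsg.Agent.Lead.FC QuaternionGroup

namespace Cfsg.Agent.Helper1.FC

theorem q8_gen : ∀ q : QuaternionGroup 2, ∃ k l : Fin 4, q = (a 1) ^ (k : ℕ) * (xa 0) ^ (l : ℕ) := by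
  decide

theorem q8_invol : ∀ q : QuaternionGroup 2, q * q = 1 → q = 1 ∨ q = a 2 := by decide

theorem q8_conj1 : (xa 0 : QuaternionGroup 2) * a 1 * (xa 0)⁻¹ = a 1 * a 2 := by decide

theorem q8_conj2 : (a 1 : QuaternionGroup 2) * xa 0 * (a 1)⁻¹ = xa 0 * a 2 := by decide

theorem q8_a2_sq : (a 2 : QuaternionGroup 2) * a 2 = 1 := by decide

theorem q8_a2_ne : (a 2 : QuaternionGroup 2) ≠ 1 := by decide

section

variable {G : Type*} [Group G] {R : Subgroup G} (e : R ≃* QuaternionGroup 2)

/-- the central involution of `R` -/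
def qz : G := ((e.symm (a 2) : R) : G)
/-- a generator of order four -/
def qi : G := ((e.symm (a 1) : R) : G)
/-- the other generator of order four -/
def qj : G := ((e.symm (xa 0) : R) : G)

theorem qz_mem : qz e ∈ R := (e.symm (a 2)).2
theorem qi_mem : qi e ∈ R := (e.symm (a 1)).2
theorem qj_mem : qj e ∈ R := (e.symm (xa 0)).2

theorem qz_sq : qz e * qz e = 1 := by
  have h : e.symm (a 2) * e.symm (a 2) = 1 := by rw [← map_mul, q8_a2_sq, map_one]
  exact congrArg Subtype.val h

theorem qz_ne : qz e ≠ 1 := by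
  intro h
  have h1 : e.symm (a 2) = 1 := Subtype.ext h
  rw [MulEquiv.map_eq_one_iff] at h1
  exact q8_a2_ne h1

/-- `qz` is the only involution of `R` -/
theorem eq_qz_of_sq {r : G} (hr : r ∈ R) (h2 : r * r = 1) : r = 1 ∨ r = qz e := by
  have h : e ⟨r, hr⟩ * e ⟨r, hr⟩ = 1 := by
    rw [← map_mul]
    have : (⟨r, hr⟩ : R) * ⟨r, hr⟩ = 1 := Subtype.ext h2
    rw [this, map_one]
  rcases q8_invol _ h with h1 | h1
  · left
    rw [MulEquiv.map_eq_one_iff] at h1
    exact congrArg Subtype.val h1
  · right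
    have h3 : (⟨r, hr⟩ : R) = e.symm (a 2) := by rw [← h1, MulEquiv.symm_apply_apply]
    exact congrArg Subtype.val h3

/-- `qz` is central in `G` when `R` is normal -/
theorem qz_central [hRn : R.Normal] (g : G) : g * qz e = qz e * g := by
  have hmem : g * qz e * g⁻¹ ∈ R := hRn.conj_mem _ (qz_mem e) g
  have hsq : g * qz e * g⁻¹ * (g * qz e * g⁻¹) = 1 := by
    have : g * qz e * g⁻¹ * (g * qz e * g⁻¹) = g * (qz e * qz e) * g⁻¹ := by group
    rw [this, qz_sq, mul_one, mul_inv_cancel]
  rcases eq_qz_of_sq e hmem hsq with h | h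
  · exfalso
    apply qz_ne e
    have : qz e = g⁻¹ * (g * qz e * g⁻¹) * g := by group
    rw [this, h, mul_one, inv_mul_cancel]
  · calc g * qz e = g * qz e * g⁻¹ * g := by group
      _ = qz e * g := by rw [h]

theorem qj_conj_qi : qj e * qi e * (qj e)⁻¹ = qi e * qz e := by
  have h : e.symm (xa 0) * e.symm (a 1) * (e.symm (xa 0))⁻¹ = e.symm (a 1) * e.symm (a 2) := by
    rw [← map_inv, ← map_mul, ← map_mul, ← map_mul, q8_conj1]
  exact congrArg Subtype.val h

theorem qi_conj_qj : qi e * qj e * (qi e)⁻¹ = qj e * qz e := by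
  have h : e.symm (a 1) * e.symm (xa 0) * (e.symm (a 1))⁻¹ = e.symm (xa 0) * e.symm (a 2) := by
    rw [← map_inv, ← map_mul, ← map_mul, ← map_mul, q8_conj2]
  exact congrArg Subtype.val h

/-- an element commuting with the two generators centralizes `R` -/
theorem mem_centralizer_of_commute {g : G} (hi : g * qi e = qi e * g) (hj : g * qj e = qj e * g) :
    g ∈ Subgroup.centralizer (R : Set G) := by
  rw [Subgroup.mem_centralizer_iff]
  intro r hr
  obtain ⟨k, l, hkl⟩ := q8_gen (e ⟨r, hr⟩)
  have h1 : (⟨r, hr⟩ : R) = e.symm (a 1) ^ (k : ℕ) * e.symm (xa 0) ^ (l : ℕ) := by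
    rw [← map_pow, ← map_pow, ← map_mul, ← hkl, MulEquiv.symm_apply_apply]
  have h2 : r = qi e ^ (k : ℕ) * qj e ^ (l : ℕ) := by
    have := congrArg Subtype.val h1
    simpa [qi, qj] using this
  have ci : Commute g (qi e) := hi
  have cj : Commute g (qj e) := hj
  rw [h2]
  exact ((ci.pow_right _).mul_right (cj.pow_right _)).eq.symm

include e in
theorem card_of_q8 [Finite G] : Nat.card R = 8 := by
  rw [Nat.card_congr e.toEquiv, Nat.card_eq_fintype_card, QuaternionGroup.card]

/-- the centralizer in `R` of an element of order three is `Z(R)` -/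
theorem eq_qz_of_commute_order_three [Finite G] [hRn : R.Normal]
    (hcent : Subgroup.centralizer (R : Set G) ≤ R)
    {x : G} (hx : orderOf x = 3) {r : G} (hr : r ∈ R) (hc : x * r = r * x) : r = 1 ∨ r = qz e := by
  classical
  haveI : Fact (Nat.Prime 3) := ⟨by norm_num⟩
  have hR8 : Nat.card R = 8 := card_of_q8 e
  -- the action of `⟨x⟩` on `R`
  let Z : Subgroup G := Subgroup.zpowers x
  have hZ3 : IsPGroup 3 Z := by
    apply IsPGroup.of_card (n := 1)
    rw [Nat.card_zpowers, hx, pow_one]
  let ψ : Z →* MulAut R := (MulAut.conjNormal (H := R)).comp Z.subtype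
  letI : MulAction Z R := MulAction.compHom R ψ
  have hsmul : ∀ (g : Z) (r : R), ((g • r : R) : G) = (g : G) * r * (g : G)⁻¹ := fun g r => rfl
  have hmod := hZ3.card_modEq_card_fixedPoints R
  -- the fixed points form the centralizer
  let C : Subgroup R := (Subgroup.centralizer {x}).subgroupOf R
  have hmemC : ∀ r : R, r ∈ C ↔ x * (r : G) = (r : G) * x := by
    intro r
    rw [Subgroup.mem_subgroupOf, Subgroup.mem_centralizer_iff]
    constructor
    · intro h; exact (h x rfl)
    · intro h y hy
      rw [Set.mem_singleton_iff] at hy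
      rw [hy]; exact h
  have hfix : (MulAction.fixedPoints Z R : Set R) = (C : Set R) := by
    ext r
    rw [MulAction.mem_fixedPoints, SetLike.mem_coe, hmemC]
    constructor
    · intro h
      have h1 := h ⟨x, Subgroup.mem_zpowers x⟩
      have h2 : x * (r : G) * x⁻¹ = (r : G) := by
        have := congrArg Subtype.val h1
        rwa [hsmul] at this
      calc x * (r : G) = x * (r : G) * x⁻¹ * x := by group
        _ = (r : G) * x := by rw [h2]
    · intro h g
      apply Subtype.ext
      rw [hsmul]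
      obtain ⟨k, hk⟩ := Subgroup.mem_zpowers_iff.1 g.2
      have hcomm : Commute (g : G) (r : G) := by
        rw [← hk]
        exact Commute.zpow_left h k
      rw [hcomm.eq, mul_inv_cancel_right]
  have hcardfix : Nat.card (MulAction.fixedPoints Z R) = Nat.card C := by
    rw [hfix]; rfl
  rw [hR8, hcardfix] at hmod
  have hdvd : Nat.card C ∣ 8 := by
    rw [← hR8]; exact Subgroup.card_subgroup_dvd_card C
  have hle : Nat.card C ≤ 8 := Nat.le_of_dvd (by norm_num) hdvd
  have hpos : 0 < Nat.card C := Nat.card_pos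
  have hcases : Nat.card C = 2 ∨ Nat.card C = 8 := by
    have hm : 8 % 3 = Nat.card C % 3 := hmod
    have h8 : (8 : ℕ) = 2 ^ 3 := by norm_num
    rw [h8] at hdvd
    obtain ⟨m, hm3, hm'⟩ := (Nat.dvd_prime_pow Nat.prime_two).1 hdvd
    interval_cases m <;> omega
  rcases hcases with h2 | h8
  · -- `C = {1, z}`
    obtain ⟨y, -, hy⟩ := (Nat.card_eq_two_iff' (1 : C)).1 h2
    have hzC : (⟨qz e, qz_mem e⟩ : R) ∈ C := by
      rw [hmemC]
      exact qz_central e x
    have hrC : (⟨r, hr⟩ : R) ∈ C := by
      rw [hmemC]; exact hc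
    by_cases hr1 : r = 1
    · left; exact hr1
    · right
      have e1 : (⟨⟨r, hr⟩, hrC⟩ : C) = y := hy _ (by
        intro h
        apply hr1
        exact congrArg (fun c : C => ((c : R) : G)) h)
      have e2 : (⟨⟨qz e, qz_mem e⟩, hzC⟩ : C) = y := hy _ (by
        intro h
        apply qz_ne e
        exact congrArg (fun c : C => ((c : R) : G)) h)
      exact congrArg (fun c : C => ((c : R) : G)) (e1.trans e2.symm)
  · exfalso
    have hCtop : C = ⊤ := by
      apply Subgroup.eq_top_of_card_eq
      rw [h8, hR8]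
    have hxcent : x ∈ Subgroup.centralizer (R : Set G) := by
      rw [Subgroup.mem_centralizer_iff]
      intro s hs
      have : (⟨s, hs⟩ : R) ∈ C := by rw [hCtop]; exact Subgroup.mem_top _
      rw [hmemC] at this
      exact this.symm
    have hxR : x ∈ R := hcent hxcent
    have h3 : orderOf (⟨x, hxR⟩ : R) ∣ Nat.card R := orderOf_dvd_natCard _
    rw [Subgroup.orderOf_mk, hx, hR8] at h3
    omega

end

end Cfsg.Agent.Helper1.FC
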