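import Mathlib
import Cfsg.Prelude.Def_Solvable
import Cfsg.Agent.Lead.FCDefs
import Cfsg.Agent.Helper1.FC2d

/-!
S4291 project (lead), piece FC-II-d2 (helper4's stub; helper1), part 2: the action on the Sylow `3`-subgroups.
-/

set_option autoImplicit false
set_option linter.style.haveILetI false

open Cfsg.Agent.Lead.FC QuaternionGroup

namespace Cfsg.Agent.Helper1.FC

theorem q8_a1_ne : (a 1 : QuaternionGroup 2) ≠ 1 ∧ (a 1 : QuaternionGroup 2) ≠ a 2 := by decide

section

variable {G : Type*} [Group G] [Finite G] {R : Subgroup G} [hRn : R.Normal]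
  (e : R ≃* QuaternionGroup 2)

theorem qi_ne : qi e ≠ 1 ∧ qi e ≠ qz e := by
  constructor
  · intro h
    have h1 : e.symm (a 1) = 1 := Subtype.ext h
    rw [MulEquiv.map_eq_one_iff] at h1
    exact q8_a1_ne.1 h1
  · intro h
    have h1 : e.symm (a 1) = e.symm (a 2) := Subtype.ext h
    exact q8_a1_ne.2 (e.symm.injective h1)

/-- Sylow `3`-subgroups have order three -/
theorem card_sylow_three (hcard : Nat.card G = 24 ∨ Nat.card G = 48) [Fact (Nat.Prime 3)]
    (P : Sylow 3 G) : Nat.card (P : Subgroup G) = 3 := by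
  obtain ⟨n, hn⟩ := (IsPGroup.iff_card (p := 3)).1 P.isPGroup'
  have h3 : 3 ∣ Nat.card (P : Subgroup G) := P.dvd_card_of_dvd_card (by
    rcases hcard with h | h <;> rw [h] <;> norm_num)
  have hdvd : Nat.card (P : Subgroup G) ∣ Nat.card G := Subgroup.card_subgroup_dvd_card _
  rw [hn] at h3 hdvd ⊢
  have hn2 : n < 2 := by
    by_contra hge
    rw [not_lt] at hge
    have h9 : 3 ^ 2 ∣ Nat.card G := (pow_dvd_pow 3 hge).trans hdvd
    rcases hcard with h | h <;> rw [h] at h9 <;> omega
  have hn0 : n ≠ 0 := by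
    rintro rfl
    norm_num at h3
  have : n = 1 := by omega
  rw [this, pow_one]

/-- elements of `R` normalizing a Sylow `3`-subgroup lie in `Z(R)` -/
theorem eq_qz_of_mem_normalizer (hcent : Subgroup.centralizer (R : Set G) ≤ R)
    (hcard : Nat.card G = 24 ∨ Nat.card G = 48) [Fact (Nat.Prime 3)] (P : Sylow 3 G)
    {r : G} (hr : r ∈ R) (hrP : r ∈ Subgroup.normalizer ((P : Subgroup G) : Set G)) :
    r = 1 ∨ r = qz e := by
  have hP3 := card_sylow_three hcard P
  -- an element of order three in `P`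
  obtain ⟨x, hx⟩ := exists_prime_orderOf_dvd_card' (G := ↥(P : Subgroup G)) 3 (by rw [hP3])
  have hx3 : orderOf (x : G) = 3 := by rw [Subgroup.orderOf_coe]; exact hx
  apply eq_qz_of_commute_order_three e hcent hx3 hr
  -- the commutator lies in `P ⊓ R = ⊥`
  have hdisj : (P : Subgroup G) ⊓ R = ⊥ := by
    apply (Subgroup.disjoint_of_coprime_natCard ?_).eq_bot
    rw [hP3, card_of_q8 e]
    norm_num
  have h1 : r * (x : G) * r⁻¹ ∈ (P : Subgroup G) :=
    (Subgroup.mem_normalizer_iff.1 hrP (x : G)).1 x.2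
  have h2 : r * (x : G) * r⁻¹ * (x : G)⁻¹ ∈ (P : Subgroup G) :=
    Subgroup.mul_mem _ h1 (Subgroup.inv_mem _ x.2)
  have h3 : r * (x : G) * r⁻¹ * (x : G)⁻¹ ∈ R := by
    have : r * (x : G) * r⁻¹ * (x : G)⁻¹ = r * ((x : G) * r⁻¹ * (x : G)⁻¹) := by group
    rw [this]
    exact Subgroup.mul_mem _ hr (hRn.conj_mem _ (Subgroup.inv_mem _ hr) _)
  have h4 : r * (x : G) * r⁻¹ * (x : G)⁻¹ ∈ (P : Subgroup G) ⊓ R := Subgroup.mem_inf.mpr ⟨h2, h3⟩
  rw [hdisj, Subgroup.mem_bot] at h4
  calc (x : G) * r = (r * (x : G) * r⁻¹ * (x : G)⁻¹)⁻¹ * (r * (x : G)) := by group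
    _ = r * (x : G) := by rw [h4, inv_one, one_mul]

include e in
/-- there are four Sylow `3`-subgroups -/
theorem card_sylow_eq_four (hcent : Subgroup.centralizer (R : Set G) ≤ R)
    (hcard : Nat.card G = 24 ∨ Nat.card G = 48) [Fact (Nat.Prime 3)] :
    Nat.card (Sylow 3 G) = 4 := by
  obtain ⟨P⟩ : Nonempty (Sylow 3 G) := inferInstance
  have hmod : Nat.card (Sylow 3 G) ≡ 1 [MOD 3] := card_sylow_modEq_one 3 G
  have hidx : Nat.card (Sylow 3 G) = (Subgroup.normalizer ((P : Subgroup G) : Set G)).index :=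
    P.card_eq_index_normalizer
  set M := Subgroup.normalizer ((P : Subgroup G) : Set G) with hM
  have hmul : M.index * Nat.card M = Nat.card G := M.index_mul_card
  have hP3 := card_sylow_three hcard P
  have h3 : 3 ∣ Nat.card M := by
    rw [← hP3]
    exact Subgroup.card_dvd_of_le Subgroup.le_normalizer
  have h2 : 2 ∣ Nat.card M := by
    have hz : qz e ∈ M := by
      rw [hM, Subgroup.mem_normalizer_iff]
      intro h
      have : qz e * h * (qz e)⁻¹ = h := by
        rw [← qz_central e h, mul_inv_cancel_right]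
      rw [this]
    have ho : orderOf (⟨qz e, hz⟩ : M) = 2 := by
      rw [Subgroup.orderOf_mk]
      exact orderOf_eq_prime (by rw [pow_two]; exact qz_sq e) (qz_ne e)
    rw [← ho]
    exact orderOf_dvd_natCard _
  have h6 : 6 ∣ Nat.card M := Nat.Coprime.mul_dvd_of_dvd_of_dvd (by norm_num) h2 h3
  -- `index ≠ 1`
  have hne1 : M.index ≠ 1 := by
    intro h1
    have hMtop : M = ⊤ := Subgroup.index_eq_one.1 h1
    have hqi : qi e ∈ M := by rw [hMtop]; exact Subgroup.mem_top _
    rcases eq_qz_of_mem_normalizer e hcent hcard P (qi_mem e) hqi with h | h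
    · exact (qi_ne e).1 h
    · exact (qi_ne e).2 h
  rw [hidx]
  have hm : M.index % 3 = 1 % 3 := by rw [← hidx]; exact hmod
  obtain ⟨c, hc⟩ := h6
  rw [hc] at hmul
  have hpos : 0 < M.index := Nat.pos_of_ne_zero (by
    intro h0; rw [h0, zero_mul] at hmul; rcases hcard with h | h <;> omega)
  have key : ∀ n : ℕ, M.index * (6 * c) = 6 * n → M.index ∣ n := by
    intro n hn
    have h1 : 6 * (M.index * c) = 6 * n := by rw [← hn]; ring
    have h2 : M.index * c = n := Nat.eq_of_mul_eq_mul_left (by norm_num) h1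
    exact Dvd.intro _ h2
  rcases hcard with h | h
  · rw [h] at hmul
    have hd : M.index ∣ 4 := key 4 (by rw [hmul])
    have hle : M.index ≤ 4 := Nat.le_of_dvd (by norm_num) hd
    interval_cases M.index <;> omega
  · rw [h] at hmul
    have hd : M.index ∣ 8 := key 8 (by rw [hmul])
    have hle : M.index ≤ 8 := Nat.le_of_dvd (by norm_num) hd
    interval_cases M.index <;> omega

/-- the kernel of the action on the Sylow `3`-subgroups is `Z(R)` -/
theorem ker_toPermHom_sylow (hcent : Subgroup.centralizer (R : Set G) ≤ R)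
    (hcard : Nat.card G = 24 ∨ Nat.card G = 48) [Fact (Nat.Prime 3)] :
    (MulAction.toPermHom G (Sylow 3 G)).ker = Subgroup.zpowers (qz e) := by
  have hmemker : ∀ x : G, x ∈ (MulAction.toPermHom G (Sylow 3 G)).ker ↔
      ∀ P : Sylow 3 G, x ∈ Subgroup.normalizer ((P : Subgroup G) : Set G) := by
    intro x
    rw [MonoidHom.mem_ker]
    constructor
    · intro h P
      apply Sylow.smul_eq_iff_mem_normalizer.1
      have := congrArg (fun σ : Equiv.Perm (Sylow 3 G) => σ P) h
      exact this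
    · intro h
      ext P : 1
      exact Sylow.smul_eq_iff_mem_normalizer.2 (h P)
  obtain ⟨P₀⟩ : Nonempty (Sylow 3 G) := inferInstance
  -- elements of `R` in the kernel
  have hRker : ∀ r ∈ R, r ∈ (MulAction.toPermHom G (Sylow 3 G)).ker → r = 1 ∨ r = qz e := by
    intro r hr hrk
    exact eq_qz_of_mem_normalizer e hcent hcard P₀ hr ((hmemker r).1 hrk P₀)
  have hzc : ∀ g : G, Commute g (qz e) := fun g => qz_central e g
  apply le_antisymm
  · intro x hx
    -- commutators with `R` lie in `{1, z}`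
    have hcomm : ∀ r ∈ R, x * r * x⁻¹ = r ∨ x * r * x⁻¹ = r * qz e := by
      intro r hr
      have h1 : x * r * x⁻¹ * r⁻¹ ∈ R :=
        Subgroup.mul_mem _ (hRn.conj_mem r hr x) (Subgroup.inv_mem _ hr)
      have h2 : x * r * x⁻¹ * r⁻¹ ∈ (MulAction.toPermHom G (Sylow 3 G)).ker := by
        have : x * r * x⁻¹ * r⁻¹ = x * (r * x⁻¹ * r⁻¹) := by group
        rw [this]
        exact Subgroup.mul_mem _ hx
          ((MonoidHom.normal_ker _).conj_mem _ (Subgroup.inv_mem _ hx) r)
      rcases hRker _ h1 h2 with h | h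
      · left
        calc x * r * x⁻¹ = x * r * x⁻¹ * r⁻¹ * r := by group
          _ = r := by rw [h, one_mul]
      · right
        calc x * r * x⁻¹ = x * r * x⁻¹ * r⁻¹ * r := by group
          _ = r * qz e := by rw [h]; exact ((hzc r).eq).symm
    -- adjust `x` by an element of `R`
    have hadj : ∀ s ∈ R, s * qi e * s⁻¹ = x * qi e * x⁻¹ → s * qj e * s⁻¹ = x * qj e * x⁻¹ →
        x ∈ R := by
      intro s hs h1 h2
      have hc : s⁻¹ * x ∈ Subgroup.centralizer (R : Set G) := by
        apply mem_centralizer_of_commute e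
        · calc s⁻¹ * x * qi e = s⁻¹ * (x * qi e * x⁻¹) * x := by group
            _ = s⁻¹ * (s * qi e * s⁻¹) * x := by rw [h1]
            _ = qi e * (s⁻¹ * x) := by group
        · calc s⁻¹ * x * qj e = s⁻¹ * (x * qj e * x⁻¹) * x := by group
            _ = s⁻¹ * (s * qj e * s⁻¹) * x := by rw [h2]
            _ = qj e * (s⁻¹ * x) := by group
      have : x = s * (s⁻¹ * x) := by group
      rw [this]
      exact Subgroup.mul_mem _ hs (hcent hc)
    have hxR : x ∈ R := by
      rcases hcomm _ (qi_mem e) with hi | hi <;> rcases hcomm _ (qj_mem e) with hj | hj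
      · exact hadj 1 (Subgroup.one_mem _) (by rw [hi]; group) (by rw [hj]; group)
      · refine hadj (qi e) (qi_mem e) (by rw [hi]; group) (by rw [hj]; exact qi_conj_qj e)
      · refine hadj (qj e) (qj_mem e) (by rw [hi]; exact qj_conj_qi e) (by rw [hj]; group)
      · refine hadj (qj e * qi e) (Subgroup.mul_mem _ (qj_mem e) (qi_mem e)) ?_ ?_
        · rw [hi]
          calc qj e * qi e * qi e * (qj e * qi e)⁻¹ = qj e * qi e * (qj e)⁻¹ := by group
            _ = qi e * qz e := qj_conj_qi e
        · rw [hj]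
          calc qj e * qi e * qj e * (qj e * qi e)⁻¹
              = qj e * (qi e * qj e * (qi e)⁻¹) * (qj e)⁻¹ := by group
            _ = qj e * (qj e * qz e) * (qj e)⁻¹ := by rw [qi_conj_qj]
            _ = qj e * qj e * (qz e * (qj e)⁻¹) := by group
            _ = qj e * qj e * ((qj e)⁻¹ * qz e) := by rw [((hzc (qj e)⁻¹).eq)]
            _ = qj e * qz e := by group
    rcases hRker x hxR hx with h | h
    · rw [h]; exact Subgroup.one_mem _
    · rw [h]; exact Subgroup.mem_zpowers _
  · rw [Subgroup.zpowers_le, hmemker]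
    intro P
    rw [Subgroup.mem_normalizer_iff]
    intro h
    have : qz e * h * (qz e)⁻¹ = h := by
      rw [← qz_central e h, mul_inv_cancel_right]
    rw [this]

end

end Cfsg.Agent.Helper1.FC
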