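import Mathlib
import Cfsg.Prelude.Def_Solvable
import Cfsg.Agent.Lead.FCDefs
import Cfsg.Agent.Helper1.FC2e

/-!
S4291 project (lead), piece FC-II-d2 (helper4's stub; helper1), part 3: assembly.
-/

set_option autoImplicit false
set_option linter.style.haveILetI false

open Cfsg.Agent.Lead.FC QuaternionGroup

namespace Cfsg.Agent.Helper1.FC

/-- PIECE FC-II-d2 (recognition): `R ⊴ G`, `R ≃ Q₈`, `C_G(R) ≤ R`, `|G| ∈ {24, 48}` ⇒ `G / Z(R) ≃ A₄` or `S₄`. -/
theorem good_of_q8_core {G : Type*} [Group G] [Finite G] (R : Subgroup G) [R.Normal]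
    (e : R ≃* QuaternionGroup 2) (hcent : Subgroup.centralizer (R : Set G) ≤ R)
    (hcard : Nat.card G = 24 ∨ Nat.card G = 48) : ∃ N : Subgroup G, Good N := by
  classical
  haveI : Fact (Nat.Prime 3) := ⟨by norm_num⟩
  have hker := ker_toPermHom_sylow e hcent hcard
  have h4 := card_sylow_eq_four e hcent hcard
  -- transport to `Fin 4`
  let σ : Sylow 3 G ≃ Fin 4 := Finite.equivFinOfCardEq h4
  let φ : G →* Equiv.Perm (Fin 4) :=
    (Equiv.permCongrHom σ).toMonoidHom.comp (MulAction.toPermHom G (Sylow 3 G))
  have hkerφ : φ.ker = Subgroup.zpowers (qz e) := by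
    rw [← hker]
    ext x
    simp only [φ, MonoidHom.mem_ker, MonoidHom.coe_comp, MulEquiv.coe_toMonoidHom,
      Function.comp_apply, MulEquiv.map_eq_one_iff]
  have hcardN : Nat.card (Subgroup.zpowers (qz e)) = 2 := by
    rw [Nat.card_zpowers]
    exact orderOf_eq_prime (by rw [pow_two]; exact qz_sq e) (qz_ne e)
  have hrange : Nat.card φ.range * 2 = Nat.card G := by
    rw [← Subgroup.index_ker, hkerφ, ← hcardN]
    exact Subgroup.index_mul_card _
  have hperm : Nat.card (Equiv.Perm (Fin 4)) = 24 := by
    rw [Nat.card_perm, Nat.card_eq_fintype_card, Fintype.card_fin]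
    rfl
  refine ⟨Subgroup.zpowers (qz e), ?_, ?_, ?_⟩
  · -- normal
    constructor
    intro n hn g
    obtain ⟨k, rfl⟩ := Subgroup.mem_zpowers_iff.1 hn
    have hc : Commute g (qz e ^ k) := (show Commute g (qz e) from qz_central e g).zpow_right k
    rw [hc.eq, mul_inv_cancel_right]
    exact Subgroup.zpow_mem _ (Subgroup.mem_zpowers _) k
  · -- Sylow subgroups cyclic
    intro p _ P
    infer_instance
  · rcases hcard with h | h
    · -- `A₄`
      right; right; left
      rw [h] at hrange
      have hr12 : Nat.card φ.range = 12 := by omega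
      have hidx : φ.range.index = 2 := by
        have := φ.range.index_mul_card
        rw [hr12, hperm] at this
        omega
      have halt : φ.range = alternatingGroup (Fin 4) :=
        Equiv.Perm.eq_alternatingGroup_of_index_eq_two hidx
      have hmem : ∀ g : G, φ g ∈ alternatingGroup (Fin 4) := by
        intro g
        rw [← halt]
        exact ⟨g, rfl⟩
      refine ⟨φ.codRestrict (alternatingGroup (Fin 4)) hmem, ?_, ?_⟩
      · rintro ⟨y, hy⟩
        rw [← halt] at hy
        obtain ⟨g, hg⟩ := hy
        exact ⟨g, Subtype.ext hg⟩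
      · rw [MonoidHom.ker_codRestrict, hkerφ]
    · -- `S₄`
      right; right; right; left
      rw [h] at hrange
      have hr24 : Nat.card φ.range = 24 := by omega
      have htop : φ.range = ⊤ := by
        apply Subgroup.eq_top_of_card_eq
        rw [hr24, hperm]
      exact ⟨φ, MonoidHom.range_eq_top.1 htop, hkerφ⟩

end Cfsg.Agent.Helper1.FC
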