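import Mathlib

set_option autoImplicit false

/-!
Lifting multiplicative maps from a finite group of order prime to `p` along a surjection of
finite rings with kernel `p S`, `p ^ k = 0` (via Schur–Zassenhaus in the unit group).
-/

namespace Cfsg.Agent.Helper1.FCR

open Finset

/-- In a ring with `p ^ k = 0`, `1 + p * Y` has `p`-power order. -/
theorem one_add_mul_pow_eq_one {S : Type*} [Ring S] (p k : ℕ) (hpk : (p : S) ^ k = 0)
    (hk : 0 < k) (Y : S) : (1 + (p : S) * Y) ^ (p ^ (k - 1)) = 1 := by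
  let C : Subring S := Subring.closure {Y}
  letI : CommRing C := Subring.closureCommRingOfComm (by
    intro a ha b hb
    rw [Set.mem_singleton_iff] at ha hb
    rw [ha, hb])
  let y : C := ⟨Y, Subring.subset_closure rfl⟩
  have h1 : ((p : ℕ) : C) ∣ (1 + (p : C) * y) - 1 := ⟨y, by ring⟩
  have h2 := dvd_sub_pow_of_dvd_sub h1 (k - 1)
  have h3 : ((p : C) ^ (k - 1 + 1)) = 0 := by
    apply Subtype.ext
    rw [Nat.sub_add_cancel hk]
    push_cast
    exact hpk
  rw [h3, zero_dvd_iff, one_pow, sub_eq_zero] at h2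
  have := congrArg (Subtype.val) h2
  simpa [y] using this


/-- An idempotent which is a multiple of the central nilpotent `p` vanishes; consequence for
geometric sums. -/
theorem geom_sum_eq_zero_of_red {S T : Type*} [Ring S] [Ring T] (red : S →+* T) (p k : ℕ)
    (hk : 0 < k) (hpk : (p : S) ^ k = 0) (hker : ∀ x : S, red x = 0 → ∃ y : S, x = (p : S) * y)
    (x : S) (o : ℕ) (hx : x ^ o = 1) (hcop : o.Coprime p)
    (hred : ∑ i ∈ range o, (red x) ^ i = 0) : ∑ i ∈ range o, x ^ i = 0 := by
  set M := ∑ i ∈ range o, x ^ i with hM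
  have hredM : red M = 0 := by
    rw [hM, map_sum]
    simp_rw [map_pow]
    exact hred
  obtain ⟨Y, hY⟩ := hker M hredM
  -- x * M = M
  have hxM : x * M = M := by
    have h1 := geom_sum_succ (x := x) (n := o)
    have h2 := geom_sum_succ' (x := x) (n := o)
    rw [h1, hx] at h2
    -- h2 : x * M + 1 = 1 + M
    have : x * M + 1 = M + 1 := by rw [h2, add_comm]
    exact add_right_cancel this
  have hpowM : ∀ i : ℕ, x ^ i * M = M := by
    intro i
    induction i with
    | zero => rw [pow_zero, one_mul]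
    | succ i ih => rw [pow_succ, mul_assoc, hxM, ih]
  have hMM : M * M = (o : S) * M := by
    conv_lhs => rw [hM, Finset.sum_mul]
    rw [Finset.sum_congr rfl (fun i _ => hpowM i), Finset.sum_const, Finset.card_range,
      nsmul_eq_mul]
  -- inverse of o
  have hcop' : Nat.Coprime o (p ^ k) := Nat.Coprime.pow_right k hcop
  have hbez : (o : ℤ) * Nat.gcdA o (p ^ k) + ((p ^ k : ℕ) : ℤ) * Nat.gcdB o (p ^ k) = 1 := by
    have := Nat.gcd_eq_gcd_ab o (p ^ k)
    rw [hcop'] at this
    exact_mod_cast this.symm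
  set u : S := ((Nat.gcdA o (p ^ k) : ℤ) : S) with hu
  have huo : (o : S) * u = 1 := by
    have := congrArg (fun z : ℤ => (z : S)) hbez
    simp only [Int.cast_add, Int.cast_mul, Int.cast_natCast, Nat.cast_pow, Int.cast_one,
      Int.cast_pow] at this
    rw [hpk, zero_mul, add_zero] at this
    exact this
  have hucomm : ∀ z : S, u * z = z * u := fun z => (Int.cast_commute _ z).eq
  have hpcomm : ∀ z : S, (p : S) * z = z * (p : S) := fun z => (Nat.cast_commute _ z).eq
  set E := u * M with hE
  have hEE : E * E = E := by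
    rw [hE]
    calc u * M * (u * M) = u * (u * (M * M)) := by
          rw [mul_assoc, ← mul_assoc M u M, ← hucomm M, mul_assoc u M M]
      _ = u * (u * ((o : S) * M)) := by rw [hMM]
      _ = u * (((o : S) * u) * M) := by rw [← mul_assoc u (o : S) M, hucomm (o : S)]
      _ = u * M := by rw [huo, one_mul]
  have hEp : E = (p : S) * (u * Y) := by
    rw [hE, hY, ← mul_assoc, hucomm (p : S), mul_assoc]
  have hEk : E ^ k = E := by
    have : IsIdempotentElem E := hEE
    exact this.pow_eq (Nat.pos_iff_ne_zero.1 hk)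
  have hE0 : E = 0 := by
    rw [← hEk, hEp, (Nat.cast_commute p (u * Y)).mul_pow, hpk, zero_mul]
  calc M = ((o : S) * u) * M := by rw [huo, one_mul]
    _ = (o : S) * E := by rw [mul_assoc]
    _ = 0 := by rw [hE0, mul_zero]


/-- Schur–Zassenhaus lifting of a multiplicative map from a `p'`-group. -/
theorem exists_lift_of_ring {A : Type*} [Group A] [Finite A] {S T : Type*} [Ring S] [Ring T]
    [Finite S] (red : S →+* T) (hsurj : Function.Surjective red) (p k : ℕ) [hp : Fact p.Prime]
    (hk : 0 < k) (hpk : (p : S) ^ k = 0)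
    (hker : ∀ x : S, red x = 0 → ∃ y : S, x = (p : S) * y)
    (hpA : ¬ p ∣ Nat.card A) (ρ : A →* T) :
    ∃ σ : A →* S, ∀ a, red (σ a) = ρ a := by
  classical
  let redU : Sˣ →* Tˣ := Units.map (red : S →* T)
  let ρU : A →* Tˣ := ρ.toHomUnits
  have hpnil : ∀ y : S, IsNilpotent ((p : S) * y) := by
    intro y
    refine ⟨k, ?_⟩
    rw [(Nat.cast_commute p y).mul_pow, hpk, zero_mul]
  -- units lift
  have hlift : ∀ u : Tˣ, ∃ g : Sˣ, redU g = u := by
    intro u
    obtain ⟨x, hx⟩ := hsurj (u : T)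
    obtain ⟨y, hy⟩ := hsurj ((u⁻¹ : Tˣ) : T)
    have h1 : red (x * y - 1) = 0 := by
      rw [map_sub, map_mul, hx, hy, map_one, Units.mul_inv, sub_self]
    have h2 : red (y * x - 1) = 0 := by
      rw [map_sub, map_mul, hx, hy, map_one, Units.inv_mul, sub_self]
    obtain ⟨z1, hz1⟩ := hker _ h1
    obtain ⟨z2, hz2⟩ := hker _ h2
    have hu1 : IsUnit (x * y) := by
      have : x * y = 1 + (p : S) * z1 := by rw [← hz1]; abel
      rw [this]
      exact (hpnil z1).isUnit_one_add
    have hu2 : IsUnit (y * x) := by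
      have : y * x = 1 + (p : S) * z2 := by rw [← hz2]; abel
      rw [this]
      exact (hpnil z2).isUnit_one_add
    have hxu : IsUnit x := by
      obtain ⟨v1, hv1⟩ := hu1
      obtain ⟨v2, hv2⟩ := hu2
      have hr : x * (y * (v1⁻¹ : Sˣ)) = 1 := by
        rw [← mul_assoc, ← hv1, Units.mul_inv]
      have hl : ((v2⁻¹ : Sˣ) * y) * x = 1 := by
        rw [mul_assoc, ← hv2, Units.inv_mul]
      have heq : ((v2⁻¹ : Sˣ) : S) * y = y * ((v1⁻¹ : Sˣ) : S) := by
        calc ((v2⁻¹ : Sˣ) : S) * y = ((v2⁻¹ : Sˣ) : S) * y * (x * (y * (v1⁻¹ : Sˣ))) := by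
              rw [hr, mul_one]
          _ = (((v2⁻¹ : Sˣ) : S) * y * x) * (y * (v1⁻¹ : Sˣ)) := by
              simp only [mul_assoc]
          _ = y * ((v1⁻¹ : Sˣ) : S) := by rw [hl, one_mul]
      exact ⟨⟨x, y * (v1⁻¹ : Sˣ), hr, by rw [← heq]; exact hl⟩, rfl⟩
    obtain ⟨g, hg⟩ := hxu
    refine ⟨g, ?_⟩
    apply Units.ext
    change red (g : S) = u
    rw [hg, hx]
  -- kernel elements have p-power order
  have hkerp : ∀ g : Sˣ, redU g = 1 → g ^ (p ^ (k - 1)) = 1 := by
    intro g hg
    have h1 : red ((g : S) - 1) = 0 := by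
      have : red (g : S) = 1 := by
        have := congrArg (fun u : Tˣ => (u : T)) hg
        simpa [redU] using this
      rw [map_sub, this, map_one, sub_self]
    obtain ⟨Y, hY⟩ := hker _ h1
    have h2 : (g : S) = 1 + (p : S) * Y := by rw [← hY]; abel
    apply Units.ext
    rw [Units.val_pow_eq_pow_val, h2, Units.val_one]
    exact one_add_mul_pow_eq_one p k hpk hk Y
  let At : Subgroup Sˣ := ρU.range.comap redU
  let f : At →* ρU.range := (redU.comp At.subtype).codRestrict ρU.range (fun g => g.2)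
  have hfsurj : Function.Surjective f := by
    rintro ⟨t, ht⟩
    obtain ⟨g, hg⟩ := hlift t
    have hgA : g ∈ At := by
      change redU g ∈ ρU.range
      rw [hg]; exact ht
    exact ⟨⟨g, hgA⟩, Subtype.ext hg⟩
  have hNp : IsPGroup p f.ker := by
    intro g
    refine ⟨k - 1, ?_⟩
    have hg : redU (g : At) = 1 := by
      have := g.2
      rw [MonoidHom.mem_ker] at this
      exact congrArg Subtype.val this
    have := hkerp _ hg
    apply Subtype.ext
    apply Subtype.ext
    simpa using this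
  have hcop : (Nat.card f.ker).Coprime f.ker.index := by
    obtain ⟨n, hn⟩ := hNp.exists_card_eq
    rw [hn, Subgroup.index_ker, MonoidHom.range_eq_top.2 hfsurj, Subgroup.card_top]
    apply Nat.Coprime.pow_left
    rw [Nat.Prime.coprime_iff_not_dvd hp.out]
    intro hdvd
    exact hpA (hdvd.trans (Subgroup.card_range_dvd ρU))
  obtain ⟨C, hC⟩ := Subgroup.exists_right_complement'_of_coprime hcop
  let fC : C →* ρU.range := f.comp C.subtype
  have hbij : Function.Bijective fC := by
    constructor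
    · rw [injective_iff_map_eq_one]
      intro c hc
      have h1 : (c : At) ∈ f.ker := hc
      have h2 : (c : At) ∈ f.ker ⊓ C := ⟨h1, c.2⟩
      rw [hC.disjoint.eq_bot, Subgroup.mem_bot] at h2
      exact Subtype.ext h2
    · intro t
      obtain ⟨g, hg⟩ := hfsurj t
      obtain ⟨⟨n, c⟩, hnc⟩ := hC.2 g
      refine ⟨c, ?_⟩
      change f (c : At) = t
      rw [← hg, ← hnc]
      change f (c : At) = f ((n : At) * (c : At))
      rw [map_mul, (MonoidHom.mem_ker).1 n.2, one_mul]
  let e := MulEquiv.ofBijective fC hbij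
  refine ⟨(Units.coeHom S).comp (At.subtype.comp (C.subtype.comp
    (e.symm.toMonoidHom.comp ρU.rangeRestrict))), ?_⟩
  intro a
  set c : C := e.symm (ρU.rangeRestrict a) with hc
  have h1 : fC c = ρU.rangeRestrict a := e.apply_symm_apply _
  have h2 := congrArg (fun t : ρU.range => ((t : Tˣ) : T)) h1
  have h3 : ((fC c : ρU.range) : Tˣ) = redU ((c : At) : Sˣ) := rfl
  have h4 : ((redU ((c : At) : Sˣ) : Tˣ) : T) = red (((c : At) : Sˣ) : S) := rfl
  have h5 : (((ρU.rangeRestrict a : ρU.range) : Tˣ) : T) = ρ a := rfl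
  simp only [h3, h4, h5] at h2
  exact h2

end Cfsg.Agent.Helper1.FCR
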