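import Mathlib
import Cfsg.Agent.Helper1.FCRa

set_option autoImplicit false

/-!
Lifting a fixed-point-free matrix representation from `ZMod p` to `ZMod (p ^ k)`.
-/

namespace Cfsg.Agent.Helper1.FCR

open Finset

/-- The geometric-sum condition expressing fixed-point-freeness. -/
def IsFpfRep {A : Type*} [Group A] {R : Type*} [CommRing R] {n : ℕ}
    (ρ : A →* Matrix (Fin n) (Fin n) R) : Prop :=
  ∀ a : A, a ≠ 1 → ∑ i ∈ range (orderOf a), ρ a ^ i = 0

theorem exists_lift_matrix {A : Type*} [Group A] [Finite A] (p : ℕ) [hp : Fact p.Prime]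
    (hpA : ¬ p ∣ Nat.card A) (n : ℕ) (ρ : A →* Matrix (Fin n) (Fin n) (ZMod p))
    (hρ : IsFpfRep ρ) (k : ℕ) (hk : 0 < k) :
    ∃ σ : A →* Matrix (Fin n) (Fin n) (ZMod (p ^ k)), IsFpfRep σ := by
  classical
  haveI : NeZero (p ^ k) := ⟨pow_ne_zero k hp.out.ne_zero⟩
  let c : ZMod (p ^ k) →+* ZMod p := ZMod.castHom (dvd_pow_self p hk.ne') (ZMod p)
  let red : Matrix (Fin n) (Fin n) (ZMod (p ^ k)) →+* Matrix (Fin n) (Fin n) (ZMod p) :=
    c.mapMatrix
  have hc : ∀ m : ℕ, c (m : ZMod (p ^ k)) = (m : ZMod p) := fun m => map_natCast c m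
  have hsurj : Function.Surjective red := by
    intro t
    refine ⟨t.map (fun z => ((z.val : ℕ) : ZMod (p ^ k))), ?_⟩
    ext i j
    change c (((t i j).val : ℕ) : ZMod (p ^ k)) = t i j
    rw [hc, ZMod.natCast_zmod_val]
  have hpk : ((p : ℕ) : Matrix (Fin n) (Fin n) (ZMod (p ^ k))) ^ k = 0 := by
    rw [← Nat.cast_pow]
    ext i j
    rw [Matrix.natCast_apply]
    split_ifs
    · rw [ZMod.natCast_self]; rfl
    · rw [Nat.cast_zero]; rfl
  have hker : ∀ x : Matrix (Fin n) (Fin n) (ZMod (p ^ k)), red x = 0 →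
      ∃ y, x = ((p : ℕ) : Matrix (Fin n) (Fin n) (ZMod (p ^ k))) * y := by
    intro x hx
    refine ⟨Matrix.of fun i j => (((x i j).val / p : ℕ) : ZMod (p ^ k)), ?_⟩
    ext i j
    have h1 : c (x i j) = 0 := by
      have := congrFun (congrFun hx i) j
      exact this
    have h2 : ((x i j).val : ZMod (p ^ k)) = x i j := ZMod.natCast_zmod_val _
    rw [← h2, hc] at h1
    have h3 : p ∣ (x i j).val := (ZMod.natCast_eq_zero_iff _ _).1 h1
    rw [← Matrix.diagonal_natCast, Matrix.diagonal_mul, Matrix.of_apply, ← Nat.cast_mul,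
      Nat.mul_div_cancel' h3, h2]
  obtain ⟨σ, hσ⟩ := exists_lift_of_ring red hsurj p k hk hpk hker hpA ρ
  refine ⟨σ, ?_⟩
  intro a ha
  apply geom_sum_eq_zero_of_red red p k hk hpk hker (σ a) (orderOf a)
  · rw [← map_pow, pow_orderOf_eq_one, map_one]
  · rw [Nat.coprime_comm, Nat.Prime.coprime_iff_not_dvd hp.out]
    intro hdvd
    exact hpA (hdvd.trans (orderOf_dvd_natCard a))
  · rw [hσ]
    exact hρ a ha

end Cfsg.Agent.Helper1.FCR
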