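import Mathlib
import Cfsg.Agent.Helper1.FCRb

set_option autoImplicit false

/-!
From fixed-point-free representations over all `ZMod (p ^ k)` to one over `ℤ`.
-/

namespace Cfsg.Agent.Helper1.FCR

open Finset

variable {A : Type*} [Group A]

/-- The element `g * (1 + a + ... + a^(o-1)) * h` of the integral group ring (as a finsupp). -/
noncomputable def gen (g a h : A) : A →₀ ℤ :=
  ∑ i ∈ range (orderOf a), Finsupp.single (g * a ^ i * h) (1 : ℤ)

variable (A) in
/-- The span of the relators. -/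
noncomputable def relI : Submodule ℤ (A →₀ ℤ) :=
  Submodule.span ℤ {y | ∃ g a h : A, a ≠ 1 ∧ y = gen g a h}

variable (A) in
/-- The saturation of `relI`. -/
noncomputable def relJ : Submodule ℤ (A →₀ ℤ) where
  carrier := {x | ∃ m : ℤ, m ≠ 0 ∧ m • x ∈ relI A}
  add_mem' := by
    rintro x y ⟨m, hm, hx⟩ ⟨m', hm', hy⟩
    refine ⟨m * m', mul_ne_zero hm hm', ?_⟩
    rw [smul_add]
    apply (relI A).add_mem
    · rw [mul_comm, mul_smul]; exact (relI A).smul_mem m' hx
    · rw [mul_smul]; exact (relI A).smul_mem m hy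
  zero_mem' := ⟨1, one_ne_zero, by rw [smul_zero]; exact (relI A).zero_mem⟩
  smul_mem' := by
    rintro c x ⟨m, hm, hx⟩
    exact ⟨m, hm, by rw [smul_comm]; exact (relI A).smul_mem c hx⟩

theorem mem_relJ {x : A →₀ ℤ} : x ∈ relJ A ↔ ∃ m : ℤ, m ≠ 0 ∧ m • x ∈ relI A := Iff.rfl

theorem relI_le_relJ : relI A ≤ relJ A := fun x hx => ⟨1, one_ne_zero, by rwa [one_smul]⟩

/-- Left multiplication by a group element. -/
noncomputable def lmul (x : A) : (A →₀ ℤ) →ₗ[ℤ] (A →₀ ℤ) :=
  Finsupp.lmapDomain ℤ ℤ (fun y => x * y)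

theorem lmul_single (x y : A) (c : ℤ) : lmul x (Finsupp.single y c) = Finsupp.single (x * y) c := by
  simp [lmul, Finsupp.lmapDomain_apply, Finsupp.mapDomain_single]

theorem lmul_gen (x g a h : A) : lmul x (gen g a h) = gen (x * g) a h := by
  simp only [gen, map_sum, lmul_single, mul_assoc]

theorem lmul_one : lmul (1 : A) = LinearMap.id := by
  apply Finsupp.lhom_ext
  intro y c
  rw [lmul_single, one_mul, LinearMap.id_apply]

theorem lmul_mul (x y : A) : lmul (x * y) = (lmul x).comp (lmul y) := by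
  apply Finsupp.lhom_ext
  intro z c
  rw [LinearMap.comp_apply, lmul_single, lmul_single, lmul_single, mul_assoc]

theorem relI_le_comap (x : A) : relI A ≤ (relI A).comap (lmul x) := by
  rw [relI, Submodule.span_le]
  rintro y ⟨g, a, h, ha, rfl⟩
  rw [SetLike.mem_coe, Submodule.mem_comap, lmul_gen]
  exact Submodule.subset_span ⟨x * g, a, h, ha, rfl⟩

theorem relJ_le_comap (x : A) : relJ A ≤ (relJ A).comap (lmul x) := by
  rintro y ⟨m, hm, hy⟩
  refine ⟨m, hm, ?_⟩
  rw [← map_smul]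
  exact relI_le_comap x hy

theorem sum_lmul_pow_mem (a : A) (ha : a ≠ 1) (v : A →₀ ℤ) :
    ∑ i ∈ range (orderOf a), lmul (a ^ i) v ∈ relI A := by
  induction v using Finsupp.induction_linear with
  | zero => simp
  | add f g hf hg =>
    simp only [map_add, Finset.sum_add_distrib]
    exact (relI A).add_mem hf hg
  | single y c =>
    have : ∑ i ∈ range (orderOf a), lmul (a ^ i) (Finsupp.single y c) = c • gen 1 a y := by
      simp only [gen, lmul_single, one_mul, Finset.smul_sum, Finsupp.smul_single, smul_eq_mul,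
        mul_one]
    rw [this]
    exact (relI A).smul_mem c (Submodule.subset_span ⟨1, a, y, ha, rfl⟩)


/-- The induced action on the quotient. -/
noncomputable def lbar (x : A) : ((A →₀ ℤ) ⧸ relJ A) →ₗ[ℤ] ((A →₀ ℤ) ⧸ relJ A) :=
  (relJ A).mapQ (relJ A) (lmul x) (relJ_le_comap x)

theorem lbar_mk (x : A) (v : A →₀ ℤ) :
    lbar x (Submodule.Quotient.mk v) = Submodule.Quotient.mk (lmul x v) := rfl

theorem lbar_one : lbar (1 : A) = 1 := by
  apply Submodule.linearMap_qext
  ext v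
  simp [lbar_mk, lmul_one]

theorem lbar_mul (x y : A) : lbar (x * y) = lbar x * lbar y := by
  apply Submodule.linearMap_qext
  ext v
  simp [lbar_mk, lmul_mul]

/-- The action as a monoid homomorphism. -/
noncomputable def lbarHom : A →* Module.End ℤ ((A →₀ ℤ) ⧸ relJ A) where
  toFun := lbar
  map_one' := lbar_one
  map_mul' := lbar_mul

theorem sum_lbarHom_pow (a : A) (ha : a ≠ 1) :
    ∑ i ∈ range (orderOf a), lbarHom a ^ i = 0 := by
  simp_rw [← map_pow]
  apply Submodule.linearMap_qext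
  apply LinearMap.ext
  intro v
  simp only [LinearMap.comp_apply, Submodule.mkQ_apply, LinearMap.sum_apply, LinearMap.zero_apply]
  change ∑ i ∈ range (orderOf a), lbar (a ^ i) (Submodule.Quotient.mk v) = 0
  simp_rw [lbar_mk]
  have h1 : ∑ i ∈ range (orderOf a), (Submodule.Quotient.mk (lmul (a ^ i) v) : (A →₀ ℤ) ⧸ relJ A)
      = (relJ A).mkQ (∑ i ∈ range (orderOf a), lmul (a ^ i) v) := by
    rw [map_sum]; rfl
  rw [h1, Submodule.mkQ_apply, Submodule.Quotient.mk_eq_zero]
  exact relI_le_relJ (sum_lmul_pow_mem a ha v)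

instance : Module.IsTorsionFree ℤ ((A →₀ ℤ) ⧸ relJ A) := by
  apply Module.IsTorsionFree.of_smul_eq_zero
  intro r q hq
  by_cases hr : r = 0
  · exact Or.inl hr
  right
  induction q using Submodule.Quotient.induction_on with
  | H v =>
    rw [← Submodule.Quotient.mk_smul, Submodule.Quotient.mk_eq_zero] at hq
    rw [Submodule.Quotient.mk_eq_zero]
    obtain ⟨m, hm, hv⟩ := hq
    exact ⟨m * r, mul_ne_zero hm hr, by rwa [mul_smul]⟩


/-- The linear extension of a matrix representation to the integral group ring. -/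
noncomputable def phi {R : Type*} [CommRing R] {n : ℕ} (σ : A →* Matrix (Fin n) (Fin n) R) :
    (A →₀ ℤ) →ₗ[ℤ] Matrix (Fin n) (Fin n) R :=
  Finsupp.linearCombination ℤ (fun g => σ g)

theorem phi_single {R : Type*} [CommRing R] {n : ℕ} (σ : A →* Matrix (Fin n) (Fin n) R)
    (g : A) (c : ℤ) : phi σ (Finsupp.single g c) = c • σ g := by
  rw [phi, Finsupp.linearCombination_single]

theorem phi_relI {R : Type*} [CommRing R] {n : ℕ} (σ : A →* Matrix (Fin n) (Fin n) R)
    (hσ : IsFpfRep σ) : relI A ≤ LinearMap.ker (phi σ) := by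
  rw [relI, Submodule.span_le]
  rintro y ⟨g, a, h, ha, rfl⟩
  rw [SetLike.mem_coe, LinearMap.mem_ker, gen, map_sum]
  simp_rw [phi_single, one_smul, map_mul, map_pow]
  rw [← Finset.sum_mul, ← Finset.mul_sum, hσ a ha, mul_zero, zero_mul]

theorem single_notMem_relJ [Finite A] (p : ℕ) [hp : Fact p.Prime] (n : ℕ) (hn : 0 < n)
    (h : ∀ k : ℕ, 0 < k → ∃ σ : A →* Matrix (Fin n) (Fin n) (ZMod (p ^ k)), IsFpfRep σ) :
    (Finsupp.single (1 : A) (1 : ℤ)) ∉ relJ A := by
  rintro ⟨m, hm, hmem⟩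
  have hk : 0 < m.natAbs := Int.natAbs_pos.2 hm
  obtain ⟨σ, hσ⟩ := h m.natAbs hk
  have h1 := phi_relI σ hσ hmem
  rw [LinearMap.mem_ker, Finsupp.smul_single, smul_eq_mul, mul_one, phi_single, map_one] at h1
  have h2 := congrFun (congrFun h1 ⟨0, hn⟩) ⟨0, hn⟩
  rw [Matrix.smul_apply, Matrix.one_apply_eq, Matrix.zero_apply, zsmul_eq_mul, mul_one] at h2
  rw [ZMod.intCast_zmod_eq_zero_iff_dvd] at h2
  have h3 : p ^ m.natAbs ∣ m.natAbs := by
    have := Int.natAbs_dvd_natAbs.2 h2
    rwa [Int.natAbs_natCast] at this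
  have h4 := Nat.le_of_dvd hk h3
  have h5 := Nat.lt_pow_self hp.out.one_lt (n := m.natAbs)
  omega

/-- Main result: an integral matrix representation with the fixed-point-free property. -/
theorem exists_int_rep [Finite A] (p : ℕ) [hp : Fact p.Prime] (n : ℕ) (hn : 0 < n)
    (h : ∀ k : ℕ, 0 < k → ∃ σ : A →* Matrix (Fin n) (Fin n) (ZMod (p ^ k)), IsFpfRep σ) :
    ∃ (m : ℕ) (τ : A →* Matrix (Fin m) (Fin m) ℤ), 0 < m ∧ IsFpfRep τ := by
  classical
  have hnt : Nontrivial ((A →₀ ℤ) ⧸ relJ A) := by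
    refine ⟨⟨Submodule.Quotient.mk (Finsupp.single 1 1), 0, ?_⟩⟩
    rw [Ne, Submodule.Quotient.mk_eq_zero]
    exact single_notMem_relJ p n hn h
  obtain ⟨m, b⟩ := Module.basisOfFiniteTypeTorsionFree' (R := ℤ) (M := (A →₀ ℤ) ⧸ relJ A)
  have hm : 0 < m := by
    rcases Nat.eq_zero_or_pos m with h0 | h0
    · subst h0
      exfalso
      obtain ⟨x, y, hxy⟩ := hnt
      apply hxy
      apply b.repr.injective
      ext i
      exact i.elim0
    · exact h0
  let e := LinearMap.toMatrixAlgEquiv b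
  refine ⟨m, (e : Module.End ℤ ((A →₀ ℤ) ⧸ relJ A) →* Matrix (Fin m) (Fin m) ℤ).comp lbarHom,
    hm, ?_⟩
  intro a ha
  have h1 := sum_lbarHom_pow a ha
  have h2 := congrArg e h1
  rw [map_sum, map_zero] at h2
  simp_rw [map_pow] at h2
  exact h2

end Cfsg.Agent.Helper1.FCR
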