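import Mathlib
import Cfsg.Prelude.Def_Solvable
import Cfsg.Agent.Helper1.Frobenius2
import Cfsg.Agent.Helper1.Frobenius3
import Cfsg.Agent.Helper1.FrobKernelNilp
import Cfsg.Agent.Helper1.FCRc

set_option autoImplicit false

/-!
A Frobenius complement has a fixed-point-free matrix representation over some `ZMod p`
with `p` prime to its order; hence one over `ℤ`.
-/

namespace Cfsg.Agent.Helper1.FCR

open Finset
open scoped commutatorElement

/-- A nontrivial nilpotent subgroup has a nontrivial central element. -/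
theorem exists_central_of_isNilpotent {L : Type*} [Group L] (N : Subgroup L)
    (hnil : Group.IsNilpotent N) (hN : N ≠ ⊥) :
    ∃ z ∈ N, z ≠ 1 ∧ ∀ y ∈ N, y * z = z * y := by
  classical
  have hex : ∃ n, N.lowerCentralSeries n = ⊥ := (Subgroup.isNilpotent_iff_lowerCentralSeries N).1 hnil
  set m := Nat.find hex with hm
  have hm0 : N.lowerCentralSeries m = ⊥ := Nat.find_spec hex
  have hmpos : m ≠ 0 := by
    intro h0
    rw [h0, Subgroup.lowerCentralSeries_zero] at hm0
    exact hN hm0
  obtain ⟨j, hj⟩ := Nat.exists_eq_succ_of_ne_zero hmpos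
  have hj1 : N.lowerCentralSeries j ≠ ⊥ := Nat.find_min hex (by omega)
  have hjN : N.lowerCentralSeries j ≤ N := by
    have := Subgroup.lowerCentralSeries_antitone (S := N) (Nat.zero_le j)
    rwa [Subgroup.lowerCentralSeries_zero] at this
  obtain ⟨z, hz1⟩ := (Subgroup.ne_bot_iff_exists_ne_one).1 hj1
  refine ⟨z, hjN z.2, fun h => hz1 (Subtype.ext h), ?_⟩
  intro y hy
  rw [hj, Subgroup.lowerCentralSeries_succ] at hm0
  have : ⁅(z : L), y⁆ ∈ ⁅N.lowerCentralSeries j, N⁆ := Subgroup.commutator_mem_commutator z.2 hy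
  rw [hm0, Subgroup.mem_bot, commutatorElement_eq_one_iff_mul_comm] at this
  exact this.symm


/-- A fixed-point-free action on a nontrivial finite elementary abelian `p`-group gives a
fixed-point-free matrix representation over `ZMod p`. -/
theorem exists_rep_of_action {G : Type*} [Group G] {E : Type*} [AddCommGroup E] [Finite E]
    [Nontrivial E] (p : ℕ) [hp : Fact p.Prime] (hE : ∀ x : E, p • x = 0)
    (φ : G →* AddMonoid.End E)
    (hfpf : ∀ g : G, g ≠ 1 → ∀ x : E, φ g x = x → x = 0) :
    ∃ (n : ℕ) (ρ : G →* Matrix (Fin n) (Fin n) (ZMod p)), 0 < n ∧ IsFpfRep ρ := by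
  classical
  letI : Module (ZMod p) E := AddCommGroup.zmodModule (n := p) hE
  haveI : Module.Finite (ZMod p) E := Module.Finite.of_finite
  let Ψ : G →* Module.End (ZMod p) E :=
    { toFun := fun g => AddMonoidHom.toZModLinearMap p (φ g)
      map_one' := by
        apply LinearMap.ext
        intro x
        rw [Module.End.one_apply, map_one]
        rfl
      map_mul' := by
        intro g h
        apply LinearMap.ext
        intro x
        rw [Module.End.mul_apply, map_mul]
        rfl }
  have hΨ : ∀ (g : G) (x : E), Ψ g x = φ g x := by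
    intro g x
    rfl
  let b := Module.finBasis (ZMod p) E
  have hn : 0 < Module.finrank (ZMod p) E := Module.finrank_pos
  let e := LinearMap.toMatrixAlgEquiv b
  refine ⟨Module.finrank (ZMod p) E,
    (e : Module.End (ZMod p) E →* Matrix _ _ (ZMod p)).comp Ψ, hn, ?_⟩
  intro a ha
  set S := ∑ i ∈ range (orderOf a), Ψ a ^ i with hS
  have hpow : Ψ a ^ orderOf a = 1 := by rw [← map_pow, pow_orderOf_eq_one, map_one]
  have hxS : Ψ a * S = S := by
    have h1 := geom_sum_succ (x := Ψ a) (n := orderOf a)
    have h2 := geom_sum_succ' (x := Ψ a) (n := orderOf a)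
    rw [h1, hpow] at h2
    have : Ψ a * S + 1 = S + 1 := by rw [hS, h2, add_comm]
    exact add_right_cancel this
  have hS0 : S = 0 := by
    apply LinearMap.ext
    intro x
    have h1 : Ψ a (S x) = S x := by
      have := congrArg (fun f : Module.End (ZMod p) E => f x) hxS
      exact this
    rw [hΨ] at h1
    rw [hfpf a ha _ h1]
    rfl
  have h2 := congrArg e hS0
  rw [hS, map_sum, map_zero] at h2
  simp_rw [map_pow] at h2
  exact h2


/-- The elements of order dividing `p` in the centre of `N`, as a subgroup of the ambient group. -/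
def omegaCenter {L : Type*} [Group L] (N : Subgroup L) (p : ℕ) : Subgroup L where
  carrier := {x | x ∈ N ∧ (∀ y ∈ N, y * x = x * y) ∧ x ^ p = 1}
  mul_mem' := by
    rintro x x' ⟨hx, hxc, hxp⟩ ⟨hx', hxc', hxp'⟩
    refine ⟨N.mul_mem hx hx', ?_, ?_⟩
    · intro y hy
      rw [← mul_assoc, hxc y hy, mul_assoc, hxc' y hy, mul_assoc]
    · have hc : Commute x x' := (hxc x' hx').symm
      rw [hc.mul_pow, hxp, hxp', one_mul]
  one_mem' := ⟨N.one_mem, fun y _ => by rw [mul_one, one_mul], one_pow p⟩
  inv_mem' := by
    rintro x ⟨hx, hxc, hxp⟩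
    refine ⟨N.inv_mem hx, ?_, by rw [inv_pow, hxp, inv_one]⟩
    intro y hy
    have := hxc y hy
    calc y * x⁻¹ = x⁻¹ * (x * y) * x⁻¹ := by group
      _ = x⁻¹ * (y * x) * x⁻¹ := by rw [this]
      _ = x⁻¹ * y := by group

theorem mem_omegaCenter {L : Type*} [Group L] {N : Subgroup L} {p : ℕ} {x : L} :
    x ∈ omegaCenter N p ↔ x ∈ N ∧ (∀ y ∈ N, y * x = x * y) ∧ x ^ p = 1 := Iff.rfl

instance omegaCenter_normal {L : Type*} [Group L] (N : Subgroup L) [hN : N.Normal] (p : ℕ) :
    (omegaCenter N p).Normal := by
  constructor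
  rintro x ⟨hx, hxc, hxp⟩ g
  refine ⟨hN.conj_mem x hx g, ?_, ?_⟩
  · intro y hy
    have h1 : g⁻¹ * y * g ∈ N := by
      have := hN.conj_mem y hy g⁻¹
      rwa [inv_inv] at this
    have h2 := hxc _ h1
    calc y * (g * x * g⁻¹) = g * ((g⁻¹ * y * g) * x) * g⁻¹ := by group
      _ = g * (x * (g⁻¹ * y * g)) * g⁻¹ := by rw [h2]
      _ = g * x * g⁻¹ * y := by group
  · rw [conj_pow, hxp, mul_one, mul_inv_cancel]

/-- A Frobenius complement has a fixed-point-free representation over some `ZMod p`,
`p` prime to its order. -/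
theorem exists_modp_rep_of_frobenius {G : Type*} [Group G] [Finite G] {L : Type*} [Group L]
    [Finite L] (H : Subgroup L) (hF : Cfsg.IsFrobeniusComplement H) (e : G ≃* H) :
    ∃ (p : ℕ) (_ : Fact p.Prime) (n : ℕ) (ρ : G →* Matrix (Fin n) (Fin n) (ZMod p)),
      ¬ p ∣ Nat.card G ∧ 0 < n ∧ IsFpfRep ρ := by
  classical
  obtain ⟨N, hNset, hNn, hNc⟩ := Cfsg.Agent.Helper6.frobenius_kernel_theorem H hF
  obtain ⟨N', hN'set, -, hnil⟩ := Cfsg.Agent.Helper1.frobenius_kernel_nilpotent H hF
  have hNN : N' = N := SetLike.coe_injective (hN'set.trans hNset.symm)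
  subst hNN
  haveI := hNn
  have hN : N' ≠ ⊥ := by
    intro h
    rw [h, Subgroup.isComplement'_bot_left] at hNc
    exact hF.2.1 hNc
  have fpf := (Cfsg.Agent.Helper1.frobenius_iff_fpf N' H hNc hN hF.1).1 hF
  obtain ⟨z, hzN, hz1, hzc⟩ := exists_central_of_isNilpotent N' hnil hN
  have ho1 : orderOf z ≠ 1 := by rwa [Ne, orderOf_eq_one_iff]
  have ho0 : 0 < orderOf z := orderOf_pos z
  set p := (orderOf z).minFac with hp
  have hpp : p.Prime := Nat.minFac_prime ho1
  haveI : Fact p.Prime := ⟨hpp⟩
  have hpd : p ∣ orderOf z := Nat.minFac_dvd _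
  set z' := z ^ (orderOf z / p) with hz'
  have hz'o : orderOf z' = p := by
    have hd : orderOf z / p ∣ orderOf z := Nat.div_dvd_of_dvd hpd
    have hne : orderOf z / p ≠ 0 := (Nat.div_pos (Nat.le_of_dvd ho0 hpd) hpp.pos).ne'
    rw [hz', orderOf_pow_of_dvd hne hd, Nat.div_div_self hpd ho0.ne']
  have hz'N : z' ∈ N' := N'.pow_mem hzN _
  have hz'c : ∀ y ∈ N', y * z' = z' * y := by
    intro y hy
    have : Commute y z := hzc y hy
    exact (this.pow_right _).eq
  have hz'p : z' ^ p = 1 := by rw [← hz'o, pow_orderOf_eq_one]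
  have hz'1 : z' ≠ 1 := by
    intro h
    rw [h, orderOf_one] at hz'o
    exact hpp.one_lt.ne hz'o
  have hz'V : z' ∈ omegaCenter N' p := ⟨hz'N, hz'c, hz'p⟩
  -- coprimality
  have hpG : ¬ p ∣ Nat.card G := by
    intro hdvd
    rw [Nat.card_congr e.toEquiv] at hdvd
    have h1 : p ∣ Nat.card N' := by
      have := orderOf_dvd_natCard (⟨z', hz'N⟩ : N')
      rwa [Subgroup.orderOf_mk, hz'o] at this
    rw [← hNc.index_eq_card] at h1
    have hcop := Cfsg.Agent.Helper1.frobenius_coprime H hF
    have := Nat.dvd_gcd hdvd h1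
    rw [hcop] at this
    exact hpp.one_lt.ne' (Nat.dvd_one.1 this)
  refine ⟨p, inferInstance, ?_⟩
  letI : CommGroup (omegaCenter N' p) :=
    { (inferInstance : Group (omegaCenter N' p)) with
      mul_comm := fun a b => Subtype.ext (a.2.2.1 b b.2.1).symm }
  haveI : Nontrivial (Additive (omegaCenter N' p)) := by
    refine ⟨⟨Additive.ofMul ⟨z', hz'V⟩, 0, ?_⟩⟩
    intro h
    apply hz'1
    have : (⟨z', hz'V⟩ : omegaCenter N' p) = 1 := Additive.ofMul.injective h
    exact congrArg Subtype.val this
  have hE : ∀ x : Additive (omegaCenter N' p), p • x = 0 := by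
    intro x
    induction x using Additive.rec with
    | ofMul v =>
      rw [← ofMul_pow]
      have : v ^ p = 1 := Subtype.ext (by rw [Subgroup.coe_pow]; exact v.2.2.2)
      rw [this, ofMul_one]
  obtain ⟨n, ρ, hn, hρ⟩ := exists_rep_of_action (G := G) (E := Additive (omegaCenter N' p)) p hE
    { toFun := fun g => MonoidHom.toAdditive
        ((MulAut.conjNormal ((e g : H) : L) : MulAut (omegaCenter N' p)).toMonoidHom)
      map_one' := by
        apply AddMonoid.End.ext
        intro x
        induction x using Additive.rec with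
        | ofMul v =>
          change Additive.ofMul ((MulAut.conjNormal ((e 1 : H) : L) :
            MulAut (omegaCenter N' p)) v) = Additive.ofMul v
          rw [map_one, Subgroup.coe_one, map_one, MulAut.one_apply]
      map_mul' := by
        intro g h
        apply AddMonoid.End.ext
        intro x
        induction x using Additive.rec with
        | ofMul v =>
          change Additive.ofMul ((MulAut.conjNormal ((e (g * h) : H) : L) :
            MulAut (omegaCenter N' p)) v) =
            Additive.ofMul ((MulAut.conjNormal ((e g : H) : L) : MulAut (omegaCenter N' p))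
              ((MulAut.conjNormal ((e h : H) : L) : MulAut (omegaCenter N' p)) v))
          rw [map_mul, Subgroup.coe_mul, map_mul, MulAut.mul_apply] }
    (by
      intro g hg x hx
      induction x using Additive.rec with
      | ofMul v =>
        have h1 : (MulAut.conjNormal ((e g : H) : L) : MulAut (omegaCenter N' p)) v = v :=
          Additive.ofMul.injective hx
        have h2 : ((e g : H) : L) * v * ((e g : H) : L)⁻¹ = v := by
          have := congrArg Subtype.val h1
          rwa [MulAut.conjNormal_apply] at this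
        have hg1 : ((e g : H) : L) ≠ 1 := by
          intro h
          apply hg
          apply e.injective
          rw [map_one]
          exact Subtype.ext h
        have h3 : (v : L) ∈ N' ⊓ Subgroup.centralizer {((e g : H) : L)} := by
          refine Subgroup.mem_inf.2 ⟨v.2.1, ?_⟩
          rw [Subgroup.mem_centralizer_iff]
          intro h hh
          rw [Set.mem_singleton_iff] at hh
          subst hh
          calc ((e g : H) : L) * v = ((e g : H) : L) * v * ((e g : H) : L)⁻¹ * ((e g : H) : L) := by
                group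
            _ = v * ((e g : H) : L) := by rw [h2]
        rw [fpf _ (e g).2 hg1, Subgroup.mem_bot] at h3
        have : v = 1 := Subtype.ext h3
        rw [this]
        rfl)
  exact ⟨n, ρ, hpG, hn, hρ⟩

/-- A Frobenius complement has a fixed-point-free integral matrix representation. -/
theorem exists_int_rep_of_frobenius {G : Type*} [Group G] [Finite G] {L : Type*} [Group L]
    [Finite L] (H : Subgroup L) (hF : Cfsg.IsFrobeniusComplement H) (e : G ≃* H) :
    ∃ (m : ℕ) (τ : G →* Matrix (Fin m) (Fin m) ℤ), 0 < m ∧ IsFpfRep τ := by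
  obtain ⟨p, hp, n, ρ, hpG, hn, hρ⟩ := exists_modp_rep_of_frobenius H hF e
  exact exists_int_rep p n hn (fun k hk => exists_lift_matrix p hpG n ρ hρ k hk)

end Cfsg.Agent.Helper1.FCR
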