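import Mathlib
import Cfsg.Agent.Helper1.FCRb

set_option autoImplicit false

/-!
From a fixed-point-free matrix representation over a field to an irreducible one.
-/

namespace Cfsg.Agent.Helper1.FCR

open Finset

/-- Base change of a matrix representation along a ring homomorphism. -/
def mapRep {A : Type*} [Group A] {R S : Type*} [CommRing R] [CommRing S] (f : R →+* S) {n : ℕ}
    (ρ : A →* Matrix (Fin n) (Fin n) R) : A →* Matrix (Fin n) (Fin n) S :=
  ((f.mapMatrix : Matrix (Fin n) (Fin n) R →+* Matrix (Fin n) (Fin n) S) :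
    Matrix (Fin n) (Fin n) R →* Matrix (Fin n) (Fin n) S).comp ρ

theorem mapRep_apply {A : Type*} [Group A] {R S : Type*} [CommRing R] [CommRing S] (f : R →+* S)
    {n : ℕ} (ρ : A →* Matrix (Fin n) (Fin n) R) (a : A) : mapRep f ρ a = f.mapMatrix (ρ a) := rfl

theorem isFpfRep_mapRep {A : Type*} [Group A] {R S : Type*} [CommRing R] [CommRing S]
    (f : R →+* S) {n : ℕ} (ρ : A →* Matrix (Fin n) (Fin n) R) (hρ : IsFpfRep ρ) :
    IsFpfRep (mapRep f ρ) := by
  intro a ha
  have h : ∀ i : ℕ, mapRep f ρ a ^ i = f.mapMatrix (ρ a ^ i) := by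
    intro i
    rw [mapRep_apply, map_pow]
  rw [Finset.sum_congr rfl (fun i _ => h i), ← map_sum, hρ a ha, map_zero]

/-- The geometric-sum condition implies fixed-point-freeness when the orders are invertible. -/
theorem fpf_of_isFpfRep {A : Type*} [Group A] {K : Type*} [Field K] {n : ℕ}
    (ρ : A →* Matrix (Fin n) (Fin n) K) (hρ : IsFpfRep ρ) (a : A) (ha : a ≠ 1)
    (ho : ((orderOf a : ℕ) : K) ≠ 0) (v : Fin n → K) (hv : (ρ a).mulVec v = v) : v = 0 := by
  have h1 : ∀ i : ℕ, (ρ a ^ i).mulVec v = v := by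
    intro i
    induction i with
    | zero => rw [pow_zero, Matrix.one_mulVec]
    | succ i ih => rw [pow_succ, ← Matrix.mulVec_mulVec, hv, ih]
  have h2 : (∑ i ∈ range (orderOf a), ρ a ^ i).mulVec v = (orderOf a : K) • v := by
    rw [Matrix.sum_mulVec]
    rw [Finset.sum_congr rfl (fun i _ => h1 i), Finset.sum_const, Finset.card_range,
      Nat.cast_smul_eq_nsmul]
  rw [hρ a ha, Matrix.zero_mulVec] at h2
  have := smul_eq_zero.1 h2.symm
  rcases this with h | h
  · exact absurd h ho
  · exact h


/-- Fixed-point-freeness for `GL`-valued representations. -/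
def IsFpf {A : Type*} [Group A] {K : Type*} [Field K] {n : ℕ} (ρ : A →* GL (Fin n) K) : Prop :=
  ∀ g : A, g ≠ 1 → ∀ v : Fin n → K,
    ((ρ g : GL (Fin n) K) : Matrix (Fin n) (Fin n) K).mulVec v = v → v = 0

/-- Invariant-subspace irreducibility for `GL`-valued representations. -/
def IsIrr {A : Type*} [Group A] {K : Type*} [Field K] {n : ℕ} (ρ : A →* GL (Fin n) K) : Prop :=
  ∀ W : Submodule K (Fin n → K),
    (∀ g : A, ∀ w ∈ W, ((ρ g : GL (Fin n) K) : Matrix (Fin n) (Fin n) K).mulVec w ∈ W) →
      W = ⊥ ∨ W = ⊤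

theorem exists_irreducible_fpf {A : Type*} [Group A] {K : Type*} [Field K] :
    ∀ (n₀ : ℕ) (ρ₀ : A →* GL (Fin n₀) K), 0 < n₀ → IsFpf ρ₀ →
      ∃ (n : ℕ) (ρ : A →* GL (Fin n) K), 0 < n ∧ IsIrr ρ ∧ IsFpf ρ := by
  intro n₀
  induction n₀ using Nat.strong_induction_on with
  | _ n₀ ih =>
  intro ρ₀ hn₀ hfpf
  by_cases hirr : IsIrr ρ₀
  · exact ⟨n₀, ρ₀, hn₀, hirr, hfpf⟩
  · unfold IsIrr at hirr
    push Not at hirr
    obtain ⟨W, hWinv, hWbot, hWtop⟩ := hirr
    have hd0 : 0 < Module.finrank K W := by
      haveI : Nontrivial W := (Submodule.nontrivial_iff_ne_bot).2 hWbot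
      exact Module.finrank_pos
    have hdn : Module.finrank K W < n₀ := by
      have := Submodule.finrank_lt hWtop
      rwa [Module.finrank_fin_fun] at this
    have hmaps : ∀ g : A, ∀ w ∈ W,
        Matrix.toLin' ((ρ₀ g : GL (Fin n₀) K) : Matrix (Fin n₀) (Fin n₀) K) w ∈ W := by
      intro g w hw
      rw [Matrix.toLin'_apply]
      exact hWinv g w hw
    let f : A → (W →ₗ[K] W) := fun g =>
      (Matrix.toLin' ((ρ₀ g : GL (Fin n₀) K) : Matrix (Fin n₀) (Fin n₀) K)).restrict (hmaps g)
    have hf : ∀ (g : A) (w : W), ((f g w : W) : Fin n₀ → K) =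
        ((ρ₀ g : GL (Fin n₀) K) : Matrix (Fin n₀) (Fin n₀) K).mulVec (w : Fin n₀ → K) := by
      intro g w
      rfl
    let bW := Module.finBasis K W
    let M : A →* Matrix (Fin (Module.finrank K W)) (Fin (Module.finrank K W)) K :=
      { toFun := fun g => LinearMap.toMatrix bW bW (f g)
        map_one' := by
          have : f 1 = LinearMap.id := by
            apply LinearMap.ext
            intro w
            apply Subtype.ext
            rw [hf, map_one, Units.val_one, Matrix.one_mulVec, LinearMap.id_apply]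
          rw [this, LinearMap.toMatrix_id]
        map_mul' := by
          intro g h
          have : f (g * h) = (f g).comp (f h) := by
            apply LinearMap.ext
            intro w
            apply Subtype.ext
            rw [LinearMap.comp_apply, hf, hf, hf, map_mul, Units.val_mul, Matrix.mulVec_mulVec]
          rw [this, LinearMap.toMatrix_comp bW bW bW] }
    apply ih (Module.finrank K W) hdn M.toHomUnits hd0
    intro g hg c hc
    rw [MonoidHom.coe_toHomUnits] at hc
    set w : W := bW.equivFun.symm c with hw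
    have hc' : (bW.repr w : Fin (Module.finrank K W) → K) = c := by
      rw [← Module.Basis.equivFun_apply, hw, LinearEquiv.apply_symm_apply]
    have h1 := LinearMap.toMatrix_mulVec_repr bW bW (f g) w
    rw [hc'] at h1
    have h2 : (M g) = LinearMap.toMatrix bW bW (f g) := rfl
    rw [← h2, hc, ← hc'] at h1
    have h3 : f g w = w := by
      apply bW.repr.injective
      exact (DFunLike.coe_injective h1).symm
    have h4 := congrArg (Subtype.val) h3
    rw [hf] at h4
    have h5 := hfpf g hg _ h4
    have h6 : w = 0 := Subtype.ext h5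
    rw [← hc', h6, map_zero]
    rfl

end Cfsg.Agent.Helper1.FCR
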