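import Mathlib
import Cfsg.Prelude.Def_Solvable
import Cfsg.Agent.Helper1.FCRd
import Cfsg.Agent.Helper1.FCRe
import Cfsg.Agent.Helper1.FrobComplSylow
import Cfsg.Agent.Helper4.FrobeniusSemidirect
import Cfsg.Agent.Helper4.FrobeniusTransport

set_option autoImplicit false

/-!
Frobenius complements: subgroups and direct products.
-/

namespace Cfsg.Agent.Helper1.FCR

open Finset

/-- A fixed-point-free action of a nontrivial finite group on a nontrivial finite group yields a
Frobenius complement (in `Type`). -/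
theorem exists_frobenius_of_action {N K : Type*} [Group N] [Group K] [Finite N] [Finite K]
    [Nontrivial N] [Nontrivial K] (φ : K →* MulAut N)
    (hfpf : ∀ k : K, k ≠ 1 → ∀ a : N, φ k a = a → a = 1) :
    ∃ (L : Type) (_ : Group L) (_ : Finite L) (C : Subgroup L),
      Cfsg.IsFrobeniusComplement C ∧ Nonempty (K ≃* C) := by
  have hfin : Finite (N ⋊[φ] K) := Finite.of_equiv _ SemidirectProduct.equivProd.symm
  have hC := Cfsg.Agent.Helper4.isFrobeniusComplement_inr_range φ hfpf
  obtain ⟨L, hL1, hL2, C, hCfrob, ⟨e⟩⟩ := Cfsg.Agent.Helper4.exists_small_frobenius_copy _ hC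
  refine ⟨L, hL1, hL2, C, hCfrob, ⟨?_⟩⟩
  have e2 : K ≃* (SemidirectProduct.inr : K →* N ⋊[φ] K).range :=
    MonoidHom.ofInjective SemidirectProduct.inr_injective
  exact e2.trans e

/-- A nontrivial group embedding into a Frobenius complement is a Frobenius complement. -/
theorem exists_frobenius_of_embedding {G : Type*} [Group G] [Finite G] [Nontrivial G]
    {L : Type*} [Group L] [Finite L] (H : Subgroup L) (hF : Cfsg.IsFrobeniusComplement H)
    (ι : G →* H) (hι : Function.Injective ι) :
    ∃ (L' : Type) (_ : Group L') (_ : Finite L') (C : Subgroup L'),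
      Cfsg.IsFrobeniusComplement C ∧ Nonempty (G ≃* C) := by
  classical
  obtain ⟨N, -, hNn, hNc⟩ := Cfsg.Agent.Helper6.frobenius_kernel_theorem H hF
  haveI := hNn
  have hN : N ≠ ⊥ := by
    intro h
    rw [h, Subgroup.isComplement'_bot_left] at hNc
    exact hF.2.1 hNc
  have fpf := (Cfsg.Agent.Helper1.frobenius_iff_fpf N H hNc hN hF.1).1 hF
  haveI : Nontrivial N := (Subgroup.nontrivial_iff_ne_bot N).2 hN
  let φ : G →* MulAut N := (MulAut.conjNormal (H := N)).comp (H.subtype.comp ι)
  apply exists_frobenius_of_action φ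
  intro g hg a ha
  have h1 : ((ι g : H) : L) * a * ((ι g : H) : L)⁻¹ = a := by
    have := congrArg Subtype.val ha
    rwa [MonoidHom.comp_apply, MulAut.conjNormal_apply] at this
  have hg1 : ((ι g : H) : L) ≠ 1 := by
    intro h
    apply hg
    apply hι
    rw [map_one]
    exact Subtype.ext h
  have h3 : (a : L) ∈ N ⊓ Subgroup.centralizer {((ι g : H) : L)} := by
    refine Subgroup.mem_inf.2 ⟨a.2, ?_⟩
    rw [Subgroup.mem_centralizer_iff]
    intro h hh
    rw [Set.mem_singleton_iff] at hh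
    subst hh
    calc ((ι g : H) : L) * a = ((ι g : H) : L) * a * ((ι g : H) : L)⁻¹ * ((ι g : H) : L) := by
          group
      _ = a * ((ι g : H) : L) := by rw [h1]
  rw [fpf _ (ι g).2 hg1, Subgroup.mem_bot] at h3
  exact Subtype.ext h3


/-- The two factors of a direct product which is a Frobenius complement have coprime orders. -/
theorem coprime_of_prod_frobenius {A B : Type*} [Group A] [Group B] [Finite A] [Finite B]
    {L : Type*} [Group L] [Finite L] (H : Subgroup L) (hF : Cfsg.IsFrobeniusComplement H)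
    (e : (A × B) ≃* H) : (Nat.card A).Coprime (Nat.card B) := by
  classical
  by_contra hcop
  obtain ⟨q, hq, hqA, hqB⟩ := Nat.Prime.not_coprime_iff_dvd.1 hcop
  haveI : Fact q.Prime := ⟨hq⟩
  obtain ⟨a, ha⟩ := exists_prime_orderOf_dvd_card' q hqA
  obtain ⟨b, hb⟩ := exists_prime_orderOf_dvd_card' q hqB
  obtain ⟨N, -, hNn, hNc⟩ := Cfsg.Agent.Helper6.frobenius_kernel_theorem H hF
  haveI := hNn
  have hN : N ≠ ⊥ := by
    intro h
    rw [h, Subgroup.isComplement'_bot_left] at hNc
    exact hF.2.1 hNc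
  have fpf := (Cfsg.Agent.Helper1.frobenius_iff_fpf N H hNc hN hF.1).1 hF
  have ha1 : a ≠ 1 := by
    rintro rfl
    rw [orderOf_one] at ha
    exact hq.one_lt.ne ha
  have hb1 : b ≠ 1 := by
    rintro rfl
    rw [orderOf_one] at hb
    exact hq.one_lt.ne hb
  have haq : a ^ q = 1 := by rw [← ha, pow_orderOf_eq_one]
  have hbq : b ^ q = 1 := by rw [← hb, pow_orderOf_eq_one]
  refine Cfsg.Agent.Helper1.frobenius_complement_no_rank_two N H hN fpf (p := q)
    ((e (a, 1) : H) : L) ((e (1, b) : H) : L) (e (a, 1)).2 (e (1, b)).2 ?_ ?_ ?_ ?_ ?_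
  · rw [← Subgroup.coe_mul, ← Subgroup.coe_mul, ← map_mul, ← map_mul]
    simp
  · rw [← Subgroup.coe_pow, ← map_pow]
    simp [haq]
  · rw [← Subgroup.coe_pow, ← map_pow]
    simp [hbq]
  · intro h
    have h1 : e (a, 1) = 1 := Subtype.ext h
    rw [← map_one e] at h1
    have h2 := e.injective h1
    exact ha1 (congrArg Prod.fst h2)
  · intro h
    obtain ⟨k, hk⟩ := Subgroup.mem_zpowers_iff.1 h
    have h1 : e ((a, 1) ^ k) = e (1, b) := by
      apply Subtype.ext
      rw [map_zpow, Subgroup.coe_zpow]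
      exact hk
    have h2 := e.injective h1
    have h3 := congrArg Prod.snd h2
    simp at h3
    exact hb1 h3.symm


theorem eq_zero_of_mul_eq_self_left {K : Type*} [Field K] {m n : ℕ}
    (M : Matrix (Fin m) (Fin m) K) (X : Matrix (Fin m) (Fin n) K) (o : ℕ)
    (hsum : ∑ i ∈ range o, M ^ i = 0) (ho : (o : K) ≠ 0) (h : M * X = X) : X = 0 := by
  have h1 : ∀ i : ℕ, M ^ i * X = X := by
    intro i
    induction i with
    | zero => rw [pow_zero, Matrix.one_mul]
    | succ i ih => rw [pow_succ, Matrix.mul_assoc, h, ih]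
  have h2 : (∑ i ∈ range o, M ^ i) * X = (o : K) • X := by
    rw [Matrix.sum_mul, Finset.sum_congr rfl (fun i _ => h1 i), Finset.sum_const,
      Finset.card_range, Nat.cast_smul_eq_nsmul]
  rw [hsum, Matrix.zero_mul] at h2
  rcases smul_eq_zero.1 h2.symm with h | h
  · exact absurd h ho
  · exact h

theorem eq_zero_of_mul_eq_self_right {K : Type*} [Field K] {m n : ℕ}
    (M : Matrix (Fin n) (Fin n) K) (X : Matrix (Fin m) (Fin n) K) (o : ℕ)
    (hsum : ∑ i ∈ range o, M ^ i = 0) (ho : (o : K) ≠ 0) (h : X * M = X) : X = 0 := by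
  have h1 : ∀ i : ℕ, X * M ^ i = X := by
    intro i
    induction i with
    | zero => rw [pow_zero, Matrix.mul_one]
    | succ i ih => rw [pow_succ', ← Matrix.mul_assoc, h, ih]
  have h2 : X * (∑ i ∈ range o, M ^ i) = (o : K) • X := by
    rw [Matrix.mul_sum, Finset.sum_congr rfl (fun i _ => h1 i), Finset.sum_const,
      Finset.card_range, Nat.cast_smul_eq_nsmul]
  rw [hsum, Matrix.mul_zero] at h2
  rcases smul_eq_zero.1 h2.symm with h | h
  · exact absurd h ho
  · exact h

/-- The two-sided action of `A × B` on `m × n` matrices. -/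
noncomputable def prodAction {A B : Type*} [Group A] [Group B] {K : Type*} [Field K] {m n : ℕ}
    (σA : A →* Matrix (Fin m) (Fin m) K) (σB : B →* Matrix (Fin n) (Fin n) K) :
    A × B →* MulAut (Multiplicative (Matrix (Fin m) (Fin n) K)) where
  toFun g :=
    { toFun := fun X => Multiplicative.ofAdd (σA g.1 * X.toAdd * σB g.2⁻¹)
      invFun := fun X => Multiplicative.ofAdd (σA g.1⁻¹ * X.toAdd * σB g.2)
      left_inv := by
        intro X
        change Multiplicative.ofAdd (σA g.1⁻¹ * (σA g.1 * X.toAdd * σB g.2⁻¹) * σB g.2) = X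
        rw [Matrix.mul_assoc, Matrix.mul_assoc, ← map_mul σB, inv_mul_cancel, map_one,
          Matrix.mul_one, ← Matrix.mul_assoc, ← map_mul σA, inv_mul_cancel, map_one,
          Matrix.one_mul]
        rfl
      right_inv := by
        intro X
        change Multiplicative.ofAdd (σA g.1 * (σA g.1⁻¹ * X.toAdd * σB g.2) * σB g.2⁻¹) = X
        rw [Matrix.mul_assoc, Matrix.mul_assoc, ← map_mul σB, mul_inv_cancel, map_one,
          Matrix.mul_one, ← Matrix.mul_assoc, ← map_mul σA, mul_inv_cancel, map_one,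
          Matrix.one_mul]
        rfl
      map_mul' := by
        intro X Y
        change Multiplicative.ofAdd (σA g.1 * (X.toAdd + Y.toAdd) * σB g.2⁻¹) =
          Multiplicative.ofAdd (σA g.1 * X.toAdd * σB g.2⁻¹ + σA g.1 * Y.toAdd * σB g.2⁻¹)
        rw [Matrix.mul_add, Matrix.add_mul] }
  map_one' := by
    apply MulEquiv.ext
    intro X
    change Multiplicative.ofAdd (σA 1 * X.toAdd * σB 1⁻¹) = X
    rw [inv_one, map_one, map_one, Matrix.one_mul, Matrix.mul_one]
    rfl
  map_mul' := by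
    intro g h
    apply MulEquiv.ext
    intro X
    change Multiplicative.ofAdd (σA (g.1 * h.1) * X.toAdd * σB (g.2 * h.2)⁻¹) =
      Multiplicative.ofAdd (σA g.1 * (σA h.1 * X.toAdd * σB h.2⁻¹) * σB g.2⁻¹)
    rw [mul_inv_rev, map_mul, map_mul]
    simp only [Matrix.mul_assoc]

theorem prodAction_apply {A B : Type*} [Group A] [Group B] {K : Type*} [Field K] {m n : ℕ}
    (σA : A →* Matrix (Fin m) (Fin m) K) (σB : B →* Matrix (Fin n) (Fin n) K) (g : A × B)
    (X : Matrix (Fin m) (Fin n) K) :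
    prodAction σA σB g (Multiplicative.ofAdd X) =
      Multiplicative.ofAdd (σA g.1 * X * σB g.2⁻¹) := rfl


/-- The direct product of two groups of coprime orders with fixed-point-free integral
representations is a Frobenius complement. -/
theorem exists_frobenius_prod {A B : Type*} [Group A] [Group B] [Finite A] [Finite B]
    [Nontrivial A] [Nontrivial B] {m n : ℕ}
    (τA : A →* Matrix (Fin m) (Fin m) ℤ) (hm : 0 < m) (hA : IsFpfRep τA)
    (τB : B →* Matrix (Fin n) (Fin n) ℤ) (hn : 0 < n) (hB : IsFpfRep τB)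
    (hcop : (Nat.card A).Coprime (Nat.card B)) :
    ∃ (L : Type) (_ : Group L) (_ : Finite L) (C : Subgroup L),
      Cfsg.IsFrobeniusComplement C ∧ Nonempty ((A × B) ≃* C) := by
  classical
  obtain ⟨r, hr1, hr⟩ := Nat.exists_infinite_primes (Nat.card A * Nat.card B + 1)
  haveI : Fact r.Prime := ⟨hr⟩
  have hcA : 0 < Nat.card A := Nat.card_pos
  have hcB : 0 < Nat.card B := Nat.card_pos
  have hrA : Nat.card A < r := by nlinarith
  have hrB : Nat.card B < r := by nlinarith
  set σA := mapRep (Int.castRingHom (ZMod r)) τA with hσA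
  set σB := mapRep (Int.castRingHom (ZMod r)) τB with hσB
  have hfA : IsFpfRep σA := isFpfRep_mapRep _ τA hA
  have hfB : IsFpfRep σB := isFpfRep_mapRep _ τB hB
  have hoA : ∀ a : A, ((orderOf a : ℕ) : ZMod r) ≠ 0 := by
    intro a h
    rw [ZMod.natCast_eq_zero_iff] at h
    have h1 := Nat.le_of_dvd (orderOf_pos a) h
    have h2 := Nat.le_of_dvd hcA (orderOf_dvd_natCard a)
    omega
  have hoB : ∀ b : B, ((orderOf b : ℕ) : ZMod r) ≠ 0 := by
    intro b h
    rw [ZMod.natCast_eq_zero_iff] at h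
    have h1 := Nat.le_of_dvd (orderOf_pos b) h
    have h2 := Nat.le_of_dvd hcB (orderOf_dvd_natCard b)
    omega
  haveI : NeZero m := ⟨hm.ne'⟩
  haveI : NeZero n := ⟨hn.ne'⟩
  haveI : Nontrivial (Multiplicative (Matrix (Fin m) (Fin n) (ZMod r))) :=
    inferInstanceAs (Nontrivial (Matrix (Fin m) (Fin n) (ZMod r)))
  haveI : Finite (Multiplicative (Matrix (Fin m) (Fin n) (ZMod r))) :=
    inferInstanceAs (Finite (Matrix (Fin m) (Fin n) (ZMod r)))
  apply exists_frobenius_of_action (prodAction σA σB)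
  rintro ⟨a, b⟩ hg x hx
  induction x using Multiplicative.rec with
  | ofAdd X =>
  rw [prodAction_apply] at hx
  have hfix : σA a * X * σB b⁻¹ = X := Multiplicative.ofAdd.injective hx
  have hpow : ∀ j : ℕ, σA (a ^ j) * X * σB (b ^ j)⁻¹ = X := by
    intro j
    induction j with
    | zero => rw [pow_zero, pow_zero, inv_one, map_one, map_one, Matrix.one_mul, Matrix.mul_one]
    | succ j ih =>
      have h1 : (b ^ (j + 1))⁻¹ = (b ^ j)⁻¹ * b⁻¹ := by
        rw [pow_succ', mul_inv_rev]
      rw [pow_succ' a, h1, map_mul, map_mul]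
      calc σA a * σA (a ^ j) * X * (σB (b ^ j)⁻¹ * σB b⁻¹)
          = σA a * (σA (a ^ j) * X * σB (b ^ j)⁻¹) * σB b⁻¹ := by
            simp only [Matrix.mul_assoc]
        _ = X := by rw [ih, hfix]
  suffices hX : X = 0 by rw [hX]; rfl
  by_cases ha : a = 1
  · have hb : b ≠ 1 := by
      intro hb
      apply hg
      rw [ha, hb]
      rfl
    have hb' : b⁻¹ ≠ 1 := by rwa [Ne, inv_eq_one]
    rw [ha, map_one, Matrix.one_mul] at hfix
    exact eq_zero_of_mul_eq_self_right (σB b⁻¹) X (orderOf b⁻¹) (hfB b⁻¹ hb') (hoB b⁻¹) hfix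
  · have h1 := hpow (Nat.card B)
    rw [pow_card_eq_one', inv_one, map_one, Matrix.mul_one] at h1
    have ha' : a ^ Nat.card B ≠ 1 := by
      intro h
      apply ha
      have h2 : orderOf a ∣ Nat.card B := orderOf_dvd_of_pow_eq_one h
      have h3 : orderOf a ∣ Nat.card A := orderOf_dvd_natCard a
      have h4 := Nat.dvd_gcd h3 h2
      rw [hcop, Nat.dvd_one] at h4
      exact orderOf_eq_one_iff.1 h4
    exact eq_zero_of_mul_eq_self_left (σA (a ^ Nat.card B)) X (orderOf (a ^ Nat.card B))
      (hfA _ ha') (hoA _) h1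

end Cfsg.Agent.Helper1.FCR
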