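import Mathlib

set_option autoImplicit false

/-!
Products of the conjugates of an element under a finite subgroup, when these conjugates commute
pairwise ("norm maps" for coprime operator groups).
-/

namespace Cfsg.Agent.Helper1.NmProd

universe u

variable {G : Type u} [Group G]

/-- The `Y`-conjugates of `g` commute pairwise. -/
def CommConj (Y : Subgroup G) (g : G) : Prop :=
  ∀ y y' : ↥Y, Commute ((y : G) * g * (y : G)⁻¹) ((y' : G) * g * (y' : G)⁻¹)

open Classical in
/-- The product of all `Y`-conjugates of `g`, when these commute pairwise (and `1` otherwise). -/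
noncomputable def nm [Finite G] (Y : Subgroup G) (g : G) : G :=
  if hc : CommConj Y g then
    (@Finset.univ ↥Y (Fintype.ofFinite ↥Y)).noncommProd (fun y => (y : G) * g * (y : G)⁻¹)
      (fun a _ b _ _ => hc a b)
  else 1

theorem nm_eq [Finite G] {Y : Subgroup G} {g : G} (hc : CommConj Y g) :
    nm Y g = (@Finset.univ ↥Y (Fintype.ofFinite ↥Y)).noncommProd
      (fun y => (y : G) * g * (y : G)⁻¹) (fun a _ b _ _ => hc a b) := by
  unfold nm
  rw [dif_pos hc]

theorem nm_mem [Finite G] {Y : Subgroup G} {g : G} (S : Subgroup G)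
    (h : ∀ y ∈ Y, y * g * y⁻¹ ∈ S) : nm Y g ∈ S := by
  by_cases hc : CommConj Y g
  · rw [nm_eq hc]
    apply Subgroup.noncommProd_mem
    intro y _
    exact h y y.2
  · unfold nm
    rw [dif_neg hc]
    exact S.one_mem

theorem multiset_noncommProd_congr {M : Type*} [Monoid M] {s t : Multiset M} (h : s = t)
    (hs : {x | x ∈ s}.Pairwise Commute) (ht : {x | x ∈ t}.Pairwise Commute) :
    s.noncommProd hs = t.noncommProd ht := by
  subst h
  rfl

/-- Reindexing a noncommutative product over a whole fintype. -/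
theorem noncommProd_univ_equiv {α : Type*} [Fintype α] {M : Type*} [Monoid M] (σ : α ≃ α)
    (f : α → M) (comm : ((Finset.univ : Finset α) : Set α).Pairwise (Function.onFun Commute f))
    (comm' : ((Finset.univ : Finset α) : Set α).Pairwise (Function.onFun Commute (fun a => f (σ a)))) :
    (Finset.univ : Finset α).noncommProd (fun a => f (σ a)) comm' =
      (Finset.univ : Finset α).noncommProd f comm := by
  unfold Finset.noncommProd
  apply multiset_noncommProd_congr
  have h1 : Multiset.map (fun a => f (σ a)) (Finset.univ : Finset α).val =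
      Multiset.map f (Multiset.map σ (Finset.univ : Finset α).val) := by
    rw [Multiset.map_map]; rfl
  rw [h1, Multiset.map_univ_val_equiv]

theorem commConj_conj {Y : Subgroup G} {g : G} (hc : CommConj Y g) (d : G)
    (hd : ∀ y ∈ Y, d * y = y * d) : CommConj Y (d * g * d⁻¹) := by
  intro y y'
  have h1 := (hc y y').map (MulAut.conj d)
  have h2 : ∀ z : ↥Y, (MulAut.conj d) ((z : G) * g * (z : G)⁻¹) =
      (z : G) * (d * g * d⁻¹) * (z : G)⁻¹ := by
    intro z
    rw [MulAut.conj_apply]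
    have hz := hd z z.2
    calc d * ((z : G) * g * (z : G)⁻¹) * d⁻¹ = (d * (z : G)) * g * (d * (z : G))⁻¹ := by group
      _ = ((z : G) * d) * g * ((z : G) * d)⁻¹ := by rw [hz]
      _ = (z : G) * (d * g * d⁻¹) * (z : G)⁻¹ := by group
  rw [h2, h2] at h1
  exact h1

/-- Elements commuting with `Y` commute with the formation of `nm`. -/
theorem conj_nm_of_commute [Finite G] {Y : Subgroup G} {g : G} (hc : CommConj Y g) (d : G)
    (hd : ∀ y ∈ Y, d * y = y * d) : d * nm Y g * d⁻¹ = nm Y (d * g * d⁻¹) := by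
  rw [nm_eq hc, nm_eq (commConj_conj hc d hd)]
  have h1 := Finset.map_noncommProd (@Finset.univ ↥Y (Fintype.ofFinite ↥Y))
    (fun y : ↥Y => (y : G) * g * (y : G)⁻¹) (fun a _ b _ _ => hc a b) (MulAut.conj d)
  rw [MulAut.conj_apply] at h1
  rw [h1]
  apply Finset.noncommProd_congr rfl
  intro z _
  rw [MulAut.conj_apply]
  have hz := hd z z.2
  calc d * ((z : G) * g * (z : G)⁻¹) * d⁻¹ = (d * (z : G)) * g * (d * (z : G))⁻¹ := by group
    _ = ((z : G) * d) * g * ((z : G) * d)⁻¹ := by rw [hz]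
    _ = (z : G) * (d * g * d⁻¹) * (z : G)⁻¹ := by group

/-- `nm Y g` is centralized by `Y`. -/
theorem conj_nm [Finite G] {Y : Subgroup G} {g : G} (hc : CommConj Y g) {z : G} (hz : z ∈ Y) :
    z * nm Y g * z⁻¹ = nm Y g := by
  rw [nm_eq hc]
  have h1 := Finset.map_noncommProd (@Finset.univ ↥Y (Fintype.ofFinite ↥Y))
    (fun y : ↥Y => (y : G) * g * (y : G)⁻¹) (fun a _ b _ _ => hc a b) (MulAut.conj z)
  rw [MulAut.conj_apply] at h1
  rw [h1]
  have h2 := @noncommProd_univ_equiv ↥Y (Fintype.ofFinite ↥Y) G _ (Equiv.mulLeft (⟨z, hz⟩ : ↥Y))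
    (fun y : ↥Y => (y : G) * g * (y : G)⁻¹) (fun a _ b _ _ => hc a b)
    (fun a _ b _ _ => hc _ _)
  rw [← h2]
  apply Finset.noncommProd_congr rfl
  intro y _
  rw [MulAut.conj_apply]
  show z * ((y : G) * g * (y : G)⁻¹) * z⁻¹ =
    (((⟨z, hz⟩ : ↥Y) * y : ↥Y) : G) * g * (((⟨z, hz⟩ : ↥Y) * y : ↥Y) : G)⁻¹
  rw [Subgroup.coe_mul]
  show z * ((y : G) * g * (y : G)⁻¹) * z⁻¹ = (z * (y : G)) * g * (z * (y : G))⁻¹
  group

theorem mem_centralizer_nm [Finite G] {Y : Subgroup G} {g : G} (hc : CommConj Y g) :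
    nm Y g ∈ Subgroup.centralizer (Y : Set G) := by
  rw [Subgroup.mem_centralizer_iff]
  intro z hz
  have h := conj_nm hc hz
  calc z * nm Y g = z * nm Y g * z⁻¹ * z := by group
    _ = nm Y g * z := by rw [h]

/-- `nm` is multiplicative on commuting families. -/
theorem nm_mul [Finite G] {Y : Subgroup G} {V : Subgroup G}
    (hV : ∀ a ∈ V, ∀ b ∈ V, a * b = b * a) (hYV : Y ≤ Subgroup.normalizer (V : Set G))
    {u v : G} (hu : u ∈ V) (hv : v ∈ V) : nm Y (u * v) = nm Y u * nm Y v := by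
  have hconj : ∀ (w : G), w ∈ V → ∀ y : ↥Y, (y : G) * w * (y : G)⁻¹ ∈ V := by
    intro w hw y
    exact (Subgroup.mem_normalizer_iff.1 (hYV y.2) w).1 hw
  have hcc : ∀ w ∈ V, ∀ w' ∈ V, ∀ y y' : ↥Y,
      Commute ((y : G) * w * (y : G)⁻¹) ((y' : G) * w' * (y' : G)⁻¹) :=
    fun w hw w' hw' y y' => hV _ (hconj w hw y) _ (hconj w' hw' y')
  have hcu : CommConj Y u := fun y y' => hcc u hu u hu y y'
  have hcv : CommConj Y v := fun y y' => hcc v hv v hv y y'
  have hcuv : CommConj Y (u * v) := fun y y' => hcc _ (V.mul_mem hu hv) _ (V.mul_mem hu hv) y y'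
  rw [nm_eq hcu, nm_eq hcv, nm_eq hcuv]
  rw [← Finset.noncommProd_mul_distrib (fun y : ↥Y => (y : G) * u * (y : G)⁻¹)
    (fun y : ↥Y => (y : G) * v * (y : G)⁻¹) (fun a _ b _ _ => hcu a b) (fun a _ b _ _ => hcv a b)
    (fun a _ b _ _ => hcc v hv u hu a b)]
  apply Finset.noncommProd_congr rfl
  intro y _
  show (y : G) * (u * v) * (y : G)⁻¹ = ((y : G) * u * (y : G)⁻¹) * ((y : G) * v * (y : G)⁻¹)
  group

theorem commConj_one (Y : Subgroup G) : CommConj Y (1 : G) := by
  intro y y'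
  simp

theorem nm_one [Finite G] (Y : Subgroup G) : nm Y (1 : G) = 1 := by
  rw [nm_eq (commConj_one Y)]
  have h := Finset.noncommProd_eq_pow_card (@Finset.univ ↥Y (Fintype.ofFinite ↥Y))
    (fun y : ↥Y => (y : G) * 1 * (y : G)⁻¹) (fun a _ b _ _ => commConj_one Y a b) (1 : G)
    (by intro y _; simp)
  rw [h, one_pow]

/-- Splitting off the contribution of the stabilizer. -/
theorem nm_split [Finite G] {Y Y₁ : Subgroup G} {g : G} (hc : CommConj Y g) (hY₁ : Y₁ ≤ Y)
    (hfix : ∀ y ∈ Y₁, y * g * y⁻¹ = g) (S : Subgroup G)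
    (hS : ∀ y ∈ Y, y ∉ Y₁ → y * g * y⁻¹ ∈ S) :
    ∃ z ∈ S, nm Y g = g ^ Nat.card ↥Y₁ * z := by
  classical
  letI : Fintype ↥Y := Fintype.ofFinite ↥Y
  letI : Fintype ↥Y₁ := Fintype.ofFinite ↥Y₁
  rw [nm_eq hc]
  set s₁ : Finset ↥Y := Finset.univ.filter (fun y : ↥Y => (y : G) ∈ Y₁) with hs₁
  set s₂ : Finset ↥Y := Finset.univ.filter (fun y : ↥Y => ¬ (y : G) ∈ Y₁) with hs₂
  have hdisj : Disjoint s₁ s₂ := Finset.disjoint_filter_filter_not _ _ _
  have hunion : s₁ ∪ s₂ = (Finset.univ : Finset ↥Y) := Finset.filter_union_filter_not_eq _ _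
  have hcomm : ((s₁ ∪ s₂ : Finset ↥Y) : Set ↥Y).Pairwise
      (Function.onFun Commute (fun y : ↥Y => (y : G) * g * (y : G)⁻¹)) := fun a _ b _ _ => hc a b
  have h1 := Finset.noncommProd_union_of_disjoint hdisj (fun y : ↥Y => (y : G) * g * (y : G)⁻¹)
    hcomm
  have h2 : (Finset.univ : Finset ↥Y).noncommProd (fun y : ↥Y => (y : G) * g * (y : G)⁻¹)
      (fun a _ b _ _ => hc a b) = (s₁ ∪ s₂).noncommProd (fun y : ↥Y => (y : G) * g * (y : G)⁻¹)
      hcomm := by
    apply Finset.noncommProd_congr hunion.symm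
    intro y _; rfl
  have h3 : s₁.noncommProd (fun y : ↥Y => (y : G) * g * (y : G)⁻¹)
      (hcomm.mono (Finset.coe_subset.2 Finset.subset_union_left)) = g ^ s₁.card := by
    apply Finset.noncommProd_eq_pow_card
    intro y hy
    rw [hs₁, Finset.mem_filter] at hy
    exact hfix y hy.2
  have h4 : s₁.card = Nat.card ↥Y₁ := by
    rw [Nat.card_eq_fintype_card, ← Finset.card_univ]
    symm
    apply Finset.card_bij (fun (y : ↥Y₁) _ => (⟨(y : G), hY₁ y.2⟩ : ↥Y))
    · intro y _
      rw [hs₁, Finset.mem_filter]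
      exact ⟨Finset.mem_univ _, y.2⟩
    · intro a _ b _ hab
      apply Subtype.ext
      exact congrArg (fun t : ↥Y => (t : G)) hab
    · intro y hy
      rw [hs₁, Finset.mem_filter] at hy
      exact ⟨⟨(y : G), hy.2⟩, Finset.mem_univ _, rfl⟩
  refine ⟨s₂.noncommProd (fun y : ↥Y => (y : G) * g * (y : G)⁻¹)
    (hcomm.mono (Finset.coe_subset.2 Finset.subset_union_right)), ?_, ?_⟩
  · apply Subgroup.noncommProd_mem
    intro y hy
    rw [hs₂, Finset.mem_filter] at hy
    exact hS y y.2 hy.2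
  · rw [h2, h1, h3, h4]

end Cfsg.Agent.Helper1.NmProd
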