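import Mathlib
import Cfsg.Prelude.Def_PLocal
import Cfsg.Agent.Helper1.FFact14
import Cfsg.Agent.Helper1.FFCoprimeA
import Cfsg.Agent.Helper1.BG16d
import Cfsg.Agent.Helper2.PComp1
import Cfsg.Agent.Helper4.SylowCoprime
import Cfsg.Agent.Helper7.SL2Sylow
import Cfsg.Agent.Helper5.Misc

set_option autoImplicit false

/-!
Failure of factorization with a coprime abelian operator group `Y` (Kurzweil–Stellmacher 9.3.9):
the fixed points of `Y` cover each `SL(2, p)`-component modulo its centralizer.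
-/

namespace Cfsg.Agent.Helper1.FFact

open scoped Pointwise commutatorElement

open Cfsg.Agent.Helper1

universe u

variable {G : Type u} [Group G]

/-- `N_G(H)` normalizes `O_{p'}(H)`. -/
theorem ppc_map_conj (p : ℕ) (H : Subgroup G) {y : G}
    (hy : y ∈ Subgroup.normalizer (H : Set G)) :
    (ppc p H).map (MulAut.conj y).toMonoidHom = ppc p H := by
  have h1 := BG16.normalizer_le_normalizer_map_of_characteristic H (Cfsg.pPrimeCore p ↥H) hy
  exact (Subgroup.mem_normalizer_iff_map_conj_eq).1 h1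

theorem EA_map_conj (p : ℕ) (H A : Subgroup G) {y : G}
    (hy : y ∈ Subgroup.normalizer (H : Set G)) :
    (⁅ppc p H, A⁆ ⊔ A).map (MulAut.conj y).toMonoidHom =
      ⁅ppc p H, A.map (MulAut.conj y).toMonoidHom⁆ ⊔ A.map (MulAut.conj y).toMonoidHom := by
  rw [Subgroup.map_sup, Subgroup.map_commutator, ppc_map_conj p H hy]

theorem map_conj_le_of_mem_normalizer {H A : Subgroup G} (hAH : A ≤ H) {y : G}
    (hy : y ∈ Subgroup.normalizer (H : Set G)) : A.map (MulAut.conj y).toMonoidHom ≤ H := by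
  rintro _ ⟨a, ha, rfl⟩
  exact (Subgroup.mem_normalizer_iff.1 hy a).1 (hAH ha)

/-- The standing hypotheses with a coprime abelian `q`-group of operators `Y`. -/
structure CopHyp (p q : ℕ) (V H Y : Subgroup G) : Prop where
  hyp : Hyp p V H
  hS3 : H = ⨆ A : {A : Subgroup G // A ≤ H ∧ Cfsg.IsBestOffenderOn p V A}, (A : Subgroup G)
  hYV : Y ≤ Subgroup.normalizer (V : Set G)
  hYH : Y ≤ Subgroup.normalizer (H : Set G)
  hYq : IsPGroup q Y
  hYab : ∀ a ∈ Y, ∀ b ∈ Y, a * b = b * a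
  hqH : ¬ q ∣ Nat.card H

namespace CopHyp

variable {p q : ℕ} {V H Y : Subgroup G}

theorem EA_le [Finite G] (_c : CopHyp p q V H Y) {A : Subgroup G} (hAH : A ≤ H) :
    ⁅ppc p H, A⁆ ⊔ A ≤ H := by
  have hAQ : A ≤ Subgroup.normalizer ((ppc p H : Subgroup G) : Set G) :=
    hAH.trans (le_normalizer_ppc p H)
  exact sup_le ((Subgroup.le_normalizer_iff_commutator_le_left.1 hAQ).trans (ppc_le p H)) hAH

/-- `E_A` normalizes `[V, E_A]`. -/
theorem H_le_normalizer_U [Finite G] [hp : Fact p.Prime] (c : CopHyp p q V H Y) {A : Subgroup G}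
    (hAH : A ≤ H) (hA : IsTrv p V A) :
    H ≤ Subgroup.normalizer ((⁅V, ⁅ppc p H, A⁆ ⊔ A⁆ : Subgroup G) : Set G) :=
  le_normalizer_commutator c.hyp.hHV (c.hyp.le_normalizer_E c.hS3 hAH hA)

/-- An element normalizing `E_A` and centralizing `[V, E_A]` centralizes `E_A`. -/
theorem mem_centralizer_EA [Finite G] [hp : Fact p.Prime] (c : CopHyp p q V H Y) {A : Subgroup G}
    (hAH : A ≤ H) (hA : IsTrv p V A) {g : G}
    (hgE : g ∈ Subgroup.normalizer ((⁅ppc p H, A⁆ ⊔ A : Subgroup G) : Set G))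
    (hgU : g ∈ Subgroup.centralizer ((⁅V, ⁅ppc p H, A⁆ ⊔ A⁆ : Subgroup G) : Set G)) :
    g ∈ Subgroup.centralizer ((⁅ppc p H, A⁆ ⊔ A : Subgroup G) : Set G) := by
  obtain ⟨-, -, -, -, -, -, hfaith, -⟩ := c.hyp.E_structure hAH hA
  set E := ⁅ppc p H, A⁆ ⊔ A with hE
  set U := ⁅V, E⁆ with hU
  have hEU : E ≤ Subgroup.normalizer (U : Set G) := (c.EA_le hAH).trans (c.H_le_normalizer_U hAH hA)
  rw [Subgroup.mem_centralizer_iff]
  intro e he
  have hc1 : g * e * g⁻¹ * e⁻¹ ∈ E :=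
    E.mul_mem ((Subgroup.mem_normalizer_iff.1 hgE e).1 he) (E.inv_mem he)
  have hc2 : g * e * g⁻¹ * e⁻¹ ∈ Subgroup.centralizer (U : Set G) := by
    rw [Subgroup.mem_centralizer_iff]
    intro u hu
    have hu' : e⁻¹ * u * e ∈ U := by
      have := (Subgroup.mem_normalizer_iff.1 (hEU (E.inv_mem he)) u).1 hu
      simpa using this
    have h1 : e⁻¹ * u * e * g = g * (e⁻¹ * u * e) := Subgroup.mem_centralizer_iff.1 hgU _ hu'
    have h2 : u * g = g * u := Subgroup.mem_centralizer_iff.1 hgU _ hu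
    have h1' : g⁻¹ * (e⁻¹ * u * e) = (e⁻¹ * u * e) * g⁻¹ := by
      calc g⁻¹ * (e⁻¹ * u * e) = g⁻¹ * ((e⁻¹ * u * e) * g) * g⁻¹ := by group
        _ = g⁻¹ * (g * (e⁻¹ * u * e)) * g⁻¹ := by rw [h1]
        _ = (e⁻¹ * u * e) * g⁻¹ := by group
    calc u * (g * e * g⁻¹ * e⁻¹) = (u * g) * e * g⁻¹ * e⁻¹ := by group
      _ = (g * u) * e * g⁻¹ * e⁻¹ := by rw [h2]
      _ = g * e * ((e⁻¹ * u * e) * g⁻¹) * e⁻¹ := by group
      _ = g * e * (g⁻¹ * (e⁻¹ * u * e)) * e⁻¹ := by rw [h1']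
      _ = g * e * g⁻¹ * e⁻¹ * u := by group
  have hc3 : g * e * g⁻¹ * e⁻¹ ∈ E ⊓ Subgroup.centralizer (U : Set G) := ⟨hc1, hc2⟩
  rw [hfaith, Subgroup.mem_bot] at hc3
  calc e * g = (g * e * g⁻¹ * e⁻¹)⁻¹ * g * e := by group
    _ = g * e := by rw [hc3]; group

/-- Conjugates under `Y` of transvection subgroups. -/
theorem trv_conj [Finite G] (c : CopHyp p q V H Y) {A : Subgroup G} (hAH : A ≤ H)
    (hA : IsTrv p V A) {y : G} (hy : y ∈ Y) :
    A.map (MulAut.conj y).toMonoidHom ≤ H ∧ IsTrv p V (A.map (MulAut.conj y).toMonoidHom) :=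
  ⟨map_conj_le_of_mem_normalizer hAH (c.hYH hy), hA.conj (c.hYV hy)⟩

/-- `q` is neither `2` nor `3`. -/
theorem q_ne [Finite G] [hp : Fact p.Prime] (c : CopHyp p q V H Y) {A : Subgroup G}
    (hAH : A ≤ H) (hA : IsTrv p V A) : q ≠ 2 ∧ q ≠ 3 := by
  obtain ⟨h23, ⟨e⟩, -, -, -, -, -, -⟩ := c.hyp.E_structure hAH hA
  have h1 : Nat.card ↥(⁅ppc p H, A⁆ ⊔ A) ∣ Nat.card H := Subgroup.card_dvd_of_le (c.EA_le hAH)
  rw [Nat.card_congr e.toEquiv, Cfsg.Agent.Helper7.SL2.card_SL2, ZMod.card] at h1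
  have h6 : 6 ∣ Nat.card H := by
    rcases h23 with rfl | rfl
    · exact h1
    · exact Dvd.dvd.trans (by norm_num) h1
  constructor
  · rintro rfl
    exact c.hqH (Dvd.dvd.trans (by norm_num) h6)
  · rintro rfl
    exact c.hqH (Dvd.dvd.trans (by norm_num) h6)

/-- The normalizer in `Y` of `E_A` centralizes `[V, E_A]`. -/
theorem inf_normalizer_le_centralizer_U [Finite G] [hp : Fact p.Prime] [hq : Fact q.Prime]
    (c : CopHyp p q V H Y) {A : Subgroup G} (hAH : A ≤ H) (hA : IsTrv p V A) :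
    Y ⊓ Subgroup.normalizer ((⁅ppc p H, A⁆ ⊔ A : Subgroup G) : Set G) ≤
      Subgroup.centralizer ((⁅V, ⁅ppc p H, A⁆ ⊔ A⁆ : Subgroup G) : Set G) := by
  obtain ⟨h23, -, hUc, -, -, -, -, -⟩ := c.hyp.E_structure hAH hA
  obtain ⟨hq2, hq3⟩ := c.q_ne hAH hA
  set E := ⁅ppc p H, A⁆ ⊔ A with hE
  set U := ⁅V, E⁆ with hU
  set Y₁ := Y ⊓ Subgroup.normalizer (E : Set G) with hY₁
  have hY₁U : Y₁ ≤ Subgroup.normalizer (U : Set G) :=
    le_normalizer_commutator (inf_le_left.trans c.hYV) inf_le_right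
  have hY₁q : IsPGroup q Y₁ := c.hYq.to_le inf_le_left
  have hmod := Cfsg.Agent.Helper4.card_modEq_card_inf_centralizer Y₁ U hY₁q hY₁U
  have hdvd : Nat.card ↥(U ⊓ Subgroup.centralizer (Y₁ : Set G)) ∣ p ^ 2 := by
    rw [← hUc]; exact Subgroup.card_dvd_of_le inf_le_left
  obtain ⟨j, hj2, hj⟩ := (Nat.dvd_prime_pow hp.out).1 hdvd
  rw [hUc, hj] at hmod
  have hj2' : j = 2 := by
    by_contra hne
    have hle : p ^ j ≤ p ^ 2 := Nat.pow_le_pow_right hp.out.pos hj2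
    have hd : q ∣ p ^ 2 - p ^ j := (Nat.modEq_iff_dvd' hle).1 hmod.symm
    have hq' := hq.out
    have hj01 : j = 0 ∨ j = 1 := by omega
    rcases h23 with rfl | rfl <;> rcases hj01 with rfl | rfl
    · have : q ∣ 3 := by simpa using hd
      exact hq3 ((Nat.prime_dvd_prime_iff_eq hq' (by norm_num)).1 this)
    · have : q ∣ 2 := by simpa using hd
      exact hq2 ((Nat.prime_dvd_prime_iff_eq hq' (by norm_num)).1 this)
    · have h8 : q ∣ 2 ^ 3 := by
        have : q ∣ 8 := by simpa using hd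
        simpa using this
      have := hq'.dvd_of_dvd_pow h8
      exact hq2 ((Nat.prime_dvd_prime_iff_eq hq' (by norm_num)).1 this)
    · have h6 : q ∣ 2 * 3 := by
        have : q ∣ 6 := by simpa using hd
        simpa using this
      rcases (Nat.Prime.dvd_mul hq').1 h6 with h | h
      · exact hq2 ((Nat.prime_dvd_prime_iff_eq hq' (by norm_num)).1 h)
      · exact hq3 ((Nat.prime_dvd_prime_iff_eq hq' (by norm_num)).1 h)
  have heq : U ⊓ Subgroup.centralizer (Y₁ : Set G) = U := by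
    apply Subgroup.eq_of_le_of_card_ge inf_le_left
    rw [hj, hj2', hUc]
  rw [Subgroup.le_centralizer_iff]
  rw [← heq]
  exact inf_le_right

/-- Elements of `Y` normalizing `E_A` centralize it. -/
theorem conj_eq_of_mem_normalizer [Finite G] [hp : Fact p.Prime] [hq : Fact q.Prime]
    (c : CopHyp p q V H Y) {A : Subgroup G} (hAH : A ≤ H) (hA : IsTrv p V A) {y : G}
    (hy : y ∈ Y) (hyE : y ∈ Subgroup.normalizer ((⁅ppc p H, A⁆ ⊔ A : Subgroup G) : Set G))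
    {e : G} (he : e ∈ ⁅ppc p H, A⁆ ⊔ A) : y * e * y⁻¹ = e := by
  have h1 := c.mem_centralizer_EA hAH hA hyE (c.inf_normalizer_le_centralizer_U hAH hA ⟨hy, hyE⟩)
  have h2 := Subgroup.mem_centralizer_iff.1 h1 e he
  rw [← h2]; group

theorem conjU_eq_of_mem_normalizer [Finite G] [hp : Fact p.Prime] [hq : Fact q.Prime]
    (c : CopHyp p q V H Y) {A : Subgroup G} (hAH : A ≤ H) (hA : IsTrv p V A) {y : G}
    (hy : y ∈ Y) (hyE : y ∈ Subgroup.normalizer ((⁅ppc p H, A⁆ ⊔ A : Subgroup G) : Set G))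
    {u : G} (hu : u ∈ ⁅V, ⁅ppc p H, A⁆ ⊔ A⁆) : y * u * y⁻¹ = u := by
  have h1 := c.inf_normalizer_le_centralizer_U hAH hA ⟨hy, hyE⟩
  have h2 := Subgroup.mem_centralizer_iff.1 h1 u hu
  rw [← h2]; group

/-- Conjugates of `E_A` by elements of `Y` not normalizing it centralize `[V, E_A]` and `E_A`. -/
theorem conj_mem_of_not_mem_normalizer [Finite G] [hp : Fact p.Prime]
    (c : CopHyp p q V H Y) {A : Subgroup G} (hAH : A ≤ H) (hA : IsTrv p V A) {y : G}
    (hy : y ∈ Y) (hyE : y ∉ Subgroup.normalizer ((⁅ppc p H, A⁆ ⊔ A : Subgroup G) : Set G))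
    {e : G} (he : e ∈ ⁅ppc p H, A⁆ ⊔ A) :
    y * e * y⁻¹ ∈ H ⊓ Subgroup.centralizer ((⁅V, ⁅ppc p H, A⁆ ⊔ A⁆ : Subgroup G) : Set G) ⊓
      Subgroup.centralizer ((⁅ppc p H, A⁆ ⊔ A : Subgroup G) : Set G) := by
  obtain ⟨hA'H, hA'⟩ := c.trv_conj hAH hA hy
  have hne : ⁅ppc p H, A.map (MulAut.conj y).toMonoidHom⁆ ⊔ A.map (MulAut.conj y).toMonoidHom ≠
      ⁅ppc p H, A⁆ ⊔ A := by
    rw [← EA_map_conj p H A (c.hYH hy)]
    intro h
    exact hyE (Subgroup.mem_normalizer_iff_map_conj_eq.2 h)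
  have h1 := c.hyp.E_le_of_ne c.hS3 hAH hA hA'H hA' hne
  rw [← EA_map_conj p H A (c.hYH hy)] at h1
  have hmem : y * e * y⁻¹ ∈ (⁅ppc p H, A⁆ ⊔ A).map (MulAut.conj y).toMonoidHom :=
    ⟨e, he, rfl⟩
  have h2 := h1 hmem
  refine ⟨h2, ?_⟩
  exact c.mem_centralizer_EA hAH hA (c.hyp.le_normalizer_E c.hS3 hAH hA h2.1) h2.2

/-- Conjugates of `[V, E_A]` by elements of `Y` not normalizing `E_A` lie in `C_V(E_A)`. -/
theorem conjU_mem_of_not_mem_normalizer [Finite G] [hp : Fact p.Prime]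
    (c : CopHyp p q V H Y) {A : Subgroup G} (hAH : A ≤ H) (hA : IsTrv p V A) {y : G}
    (hy : y ∈ Y) (hyE : y ∉ Subgroup.normalizer ((⁅ppc p H, A⁆ ⊔ A : Subgroup G) : Set G))
    {u : G} (hu : u ∈ ⁅V, ⁅ppc p H, A⁆ ⊔ A⁆) :
    y * u * y⁻¹ ∈ V ⊓ Subgroup.centralizer ((⁅ppc p H, A⁆ ⊔ A : Subgroup G) : Set G) := by
  obtain ⟨hA'H, hA'⟩ := c.trv_conj hAH hA hy
  have hne : ⁅ppc p H, A⁆ ⊔ A ≠
      ⁅ppc p H, A.map (MulAut.conj y).toMonoidHom⁆ ⊔ A.map (MulAut.conj y).toMonoidHom := by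
    rw [← EA_map_conj p H A (c.hYH hy)]
    intro h
    exact hyE (Subgroup.mem_normalizer_iff_map_conj_eq.2 h.symm)
  have h1 := c.hyp.E_le_of_ne c.hS3 hA'H hA' hAH hA hne
  rw [← EA_map_conj p H A (c.hYH hy)] at h1
  have hVy : V.map (MulAut.conj y).toMonoidHom = V :=
    Subgroup.mem_normalizer_iff_map_conj_eq.1 (c.hYV hy)
  have hmem : y * u * y⁻¹ ∈ ⁅V, (⁅ppc p H, A⁆ ⊔ A).map (MulAut.conj y).toMonoidHom⁆ := by
    have : y * u * y⁻¹ ∈ (⁅V, ⁅ppc p H, A⁆ ⊔ A⁆).map (MulAut.conj y).toMonoidHom := ⟨u, hu, rfl⟩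
    rwa [Subgroup.map_commutator, hVy] at this
  have hUV : ⁅V, ⁅ppc p H, A⁆ ⊔ A⁆ ≤ V :=
    Subgroup.le_normalizer_iff_commutator_le_left.1 ((c.EA_le hAH).trans c.hyp.hHV)
  refine ⟨(Subgroup.mem_normalizer_iff.1 (c.hYV hy) u).1 (hUV hu), ?_⟩
  have h2 : ⁅ppc p H, A⁆ ⊔ A ≤ Subgroup.centralizer
      ((⁅V, (⁅ppc p H, A⁆ ⊔ A).map (MulAut.conj y).toMonoidHom⁆ : Subgroup G) : Set G) :=
    h1.trans inf_le_right
  exact (Subgroup.le_centralizer_iff.1 h2) hmem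

theorem commConj_E [Finite G] [hp : Fact p.Prime] [hq : Fact q.Prime]
    (c : CopHyp p q V H Y) {A : Subgroup G} (hAH : A ≤ H) (hA : IsTrv p V A)
    {e : G} (he : e ∈ ⁅ppc p H, A⁆ ⊔ A) : NmProd.CommConj Y e := by
  intro y y'
  have hz : (y : G)⁻¹ * (y' : G) ∈ Y := Y.mul_mem (Y.inv_mem y.2) y'.2
  have h0 : Commute e (((y : G)⁻¹ * (y' : G)) * e * ((y : G)⁻¹ * (y' : G))⁻¹) := by
    by_cases hzE : (y : G)⁻¹ * (y' : G) ∈
        Subgroup.normalizer ((⁅ppc p H, A⁆ ⊔ A : Subgroup G) : Set G)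
    · rw [c.conj_eq_of_mem_normalizer hAH hA hz hzE he]
    · have h1 := (c.conj_mem_of_not_mem_normalizer hAH hA hz hzE he).2
      exact Subgroup.mem_centralizer_iff.1 h1 e he
  have h1 := h0.map (MulAut.conj (y : G))
  rw [MulAut.conj_apply, MulAut.conj_apply] at h1
  have h2 : (y : G) * (((y : G)⁻¹ * (y' : G)) * e * ((y : G)⁻¹ * (y' : G))⁻¹) * (y : G)⁻¹ =
      (y' : G) * e * (y' : G)⁻¹ := by group
  rwa [h2] at h1

theorem commConj_V [Finite G] (c : CopHyp p q V H Y) {v : G} (hv : v ∈ V) :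
    NmProd.CommConj Y v := by
  intro y y'
  exact c.hyp.commV _ ((Subgroup.mem_normalizer_iff.1 (c.hYV y.2) v).1 hv) _
    ((Subgroup.mem_normalizer_iff.1 (c.hYV y'.2) v).1 hv)

theorem card_inf_normalizer_coprime [Finite G] [hq : Fact q.Prime] (c : CopHyp p q V H Y)
    (N : Subgroup G) {n : ℕ} (hn : n ∣ Nat.card H) :
    (Nat.card ↥(Y ⊓ N)).Coprime n := by
  obtain ⟨k, hk⟩ := IsPGroup.iff_card.1 (c.hYq.to_le (inf_le_left : Y ⊓ N ≤ Y))
  rw [hk]
  apply Nat.Coprime.pow_left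
  exact (Nat.Prime.coprime_iff_not_dvd hq.out).2 (fun h => c.hqH (h.trans hn))

/-- The fixed points of `Y` in `H` cover `E_A` modulo its centralizer. -/
theorem exists_fixed_cover [Finite G] [hp : Fact p.Prime] [hq : Fact q.Prime]
    (c : CopHyp p q V H Y) {A : Subgroup G} (hAH : A ≤ H) (hA : IsTrv p V A)
    {e : G} (he : e ∈ ⁅ppc p H, A⁆ ⊔ A) :
    ∃ d ∈ H ⊓ Subgroup.centralizer (Y : Set G),
      d * e⁻¹ ∈ Subgroup.centralizer ((⁅V, ⁅ppc p H, A⁆ ⊔ A⁆ : Subgroup G) : Set G) ⊓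
        Subgroup.centralizer ((⁅ppc p H, A⁆ ⊔ A : Subgroup G) : Set G) := by
  have hcc := c.commConj_E hAH hA he
  set E := ⁅ppc p H, A⁆ ⊔ A with hE
  set U := ⁅V, E⁆ with hU
  set Y₁ := Y ⊓ Subgroup.normalizer (E : Set G) with hY₁
  obtain ⟨z, hz, hnm⟩ := NmProd.nm_split hcc (inf_le_left : Y₁ ≤ Y)
    (fun y hy => c.conj_eq_of_mem_normalizer hAH hA hy.1 hy.2 he)
    (H ⊓ Subgroup.centralizer (U : Set G) ⊓ Subgroup.centralizer (E : Set G))
    (fun y hy hy1 => c.conj_mem_of_not_mem_normalizer hAH hA hy (fun h => hy1 ⟨hy, h⟩) he)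
  have heH : e ∈ H := c.EA_le hAH he
  have hord : orderOf e ∣ Nat.card H := by
    have h1 : orderOf (⟨e, heH⟩ : ↥H) ∣ Nat.card H := orderOf_dvd_natCard _
    rwa [Subgroup.orderOf_mk] at h1
  have hcop : (Nat.card ↥Y₁).Coprime (orderOf e) := c.card_inf_normalizer_coprime _ hord
  obtain ⟨m, hm⟩ := exists_pow_eq_self_of_coprime hcop
  have hnmH : NmProd.nm Y e ∈ H := by
    apply NmProd.nm_mem
    intro y hy
    exact (Subgroup.mem_normalizer_iff.1 (c.hYH hy) e).1 heH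
  refine ⟨NmProd.nm Y e ^ m, ⟨Subgroup.pow_mem _ hnmH m,
    Subgroup.pow_mem _ (NmProd.mem_centralizer_nm hcc) m⟩, ?_⟩
  have hez : Commute e z := Subgroup.mem_centralizer_iff.1 hz.2 e he
  have hcomm : Commute (e ^ Nat.card ↥Y₁) z := hez.pow_left _
  rw [hnm, hcomm.mul_pow, hm]
  have h3 : e * z ^ m * e⁻¹ = z ^ m := by
    have h4 : Commute e (z ^ m) := hez.pow_right m
    calc e * z ^ m * e⁻¹ = (z ^ m * e) * e⁻¹ := by rw [h4.eq]
      _ = z ^ m := by group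
  rw [h3]
  exact ⟨Subgroup.pow_mem _ hz.1.2 m, Subgroup.pow_mem _ hz.2 m⟩

theorem U_le_V [Finite G] (c : CopHyp p q V H Y) {A : Subgroup G} (hAH : A ≤ H) :
    ⁅V, ⁅ppc p H, A⁆ ⊔ A⁆ ≤ V :=
  Subgroup.le_normalizer_iff_commutator_le_left.1 ((c.EA_le hAH).trans c.hyp.hHV)

theorem nm_U_eq [Finite G] [hp : Fact p.Prime] [hq : Fact q.Prime]
    (c : CopHyp p q V H Y) {A : Subgroup G} (hAH : A ≤ H) (hA : IsTrv p V A)
    {u : G} (hu : u ∈ ⁅V, ⁅ppc p H, A⁆ ⊔ A⁆) :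
    ∃ w ∈ V ⊓ Subgroup.centralizer ((⁅ppc p H, A⁆ ⊔ A : Subgroup G) : Set G),
      NmProd.nm Y u = u ^ Nat.card ↥(Y ⊓ Subgroup.normalizer
        ((⁅ppc p H, A⁆ ⊔ A : Subgroup G) : Set G)) * w :=
  NmProd.nm_split (c.commConj_V (c.U_le_V hAH hu)) inf_le_left
    (fun _ hy => c.conjU_eq_of_mem_normalizer hAH hA hy.1 hy.2 hu) _
    (fun _ hy hy1 => c.conjU_mem_of_not_mem_normalizer hAH hA hy (fun h => hy1 ⟨hy, h⟩) hu)

theorem nm_U_eq_one [Finite G] [hp : Fact p.Prime] [hq : Fact q.Prime]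
    (c : CopHyp p q V H Y) {A : Subgroup G} (hAH : A ≤ H) (hA : IsTrv p V A)
    {u : G} (hu : u ∈ ⁅V, ⁅ppc p H, A⁆ ⊔ A⁆) (h1 : NmProd.nm Y u = 1) : u = 1 := by
  obtain ⟨w, hw, hnm⟩ := c.nm_U_eq hAH hA hu
  obtain ⟨-, -, -, -, hdisj, -, -, -⟩ := c.hyp.E_structure hAH hA
  set E := ⁅ppc p H, A⁆ ⊔ A with hE
  set U := ⁅V, E⁆ with hU
  set n := Nat.card ↥(Y ⊓ Subgroup.normalizer (E : Set G)) with hn
  rw [h1] at hnm
  have h2 : u ^ n = w⁻¹ := eq_inv_of_mul_eq_one_left hnm.symm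
  have h3 : u ^ n ∈ U ⊓ (V ⊓ Subgroup.centralizer (E : Set G)) :=
    ⟨Subgroup.pow_mem _ hu n, by rw [h2]; exact Subgroup.inv_mem _ hw⟩
  rw [hdisj, Subgroup.mem_bot] at h3
  have h4 : u ^ p = 1 := c.hyp.hV.2 u (c.U_le_V hAH hu)
  have hpH : p ∣ Nat.card H := by
    rw [← hA.card]; exact Subgroup.card_dvd_of_le hAH
  have hcop : n.Coprime p := c.card_inf_normalizer_coprime _ hpH
  have h5 : orderOf u = 1 :=
    Nat.eq_one_of_dvd_coprimes hcop (orderOf_dvd_of_pow_eq_one h3) (orderOf_dvd_of_pow_eq_one h4)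
  exact orderOf_eq_one_iff.1 h5

/-- The norm map on `[V, E_A]` as a homomorphism. -/
noncomputable def nmHom [Finite G] (c : CopHyp p q V H Y) {A : Subgroup G} (hAH : A ≤ H) :
    ↥(⁅V, ⁅ppc p H, A⁆ ⊔ A⁆) →* G where
  toFun u := NmProd.nm Y (u : G)
  map_one' := NmProd.nm_one Y
  map_mul' u v := NmProd.nm_mul c.hyp.commV c.hYV (c.U_le_V hAH u.2) (c.U_le_V hAH v.2)

theorem nmHom_apply [Finite G] (c : CopHyp p q V H Y) {A : Subgroup G} (hAH : A ≤ H)
    (u : ↥(⁅V, ⁅ppc p H, A⁆ ⊔ A⁆)) : c.nmHom hAH u = NmProd.nm Y (u : G) := rfl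

theorem nmHom_injective [Finite G] [hp : Fact p.Prime] [hq : Fact q.Prime]
    (c : CopHyp p q V H Y) {A : Subgroup G} (hAH : A ≤ H) (hA : IsTrv p V A) :
    Function.Injective (c.nmHom hAH) := by
  rw [injective_iff_map_eq_one]
  intro u hu
  apply Subtype.ext
  exact c.nm_U_eq_one hAH hA u.2 hu

set_option maxHeartbeats 1600000 in
/-- Kurzweil–Stellmacher 9.3.9, abstract form, for a given component. -/
theorem exists_fixed_plane_of_trv [Finite G] [hp : Fact p.Prime] [hq : Fact q.Prime]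
    (c : CopHyp p q V H Y) {A : Subgroup G} (hAH : A ≤ H) (hA : IsTrv p V A) :
    ∃ W : Subgroup G, W ≤ V ⊓ Subgroup.centralizer (Y : Set G) ∧ Nat.card W = p ^ 2 ∧
      H ⊓ Subgroup.centralizer (Y : Set G) ≤ Subgroup.normalizer (W : Set G) ∧
      ∃ φ : ↥(H ⊓ Subgroup.centralizer (Y : Set G)) →*
          Matrix.SpecialLinearGroup (Fin 2) (ZMod p),
        Function.Surjective φ ∧
        ∀ d : ↥(H ⊓ Subgroup.centralizer (Y : Set G)),
          φ d = 1 ↔ (d : G) ∈ Subgroup.centralizer (W : Set G) := by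
  obtain ⟨-, ⟨eiso⟩, hUc, -, -, -, hfaith, -⟩ := c.hyp.E_structure hAH hA
  have hHE := c.hyp.le_normalizer_E c.hS3 hAH hA
  have hHU := c.H_le_normalizer_U hAH hA
  have hEsup := c.hyp.le_E_sup c.hS3 hAH hA
  have hEH := c.EA_le hAH
  have hUV := c.U_le_V hAH
  have hinj := c.nmHom_injective hAH hA
  have hcover := fun e he => c.exists_fixed_cover hAH hA (e := e) he
  set E := ⁅ppc p H, A⁆ ⊔ A with hE
  set U := ⁅V, E⁆ with hU
  set D := H ⊓ Subgroup.centralizer (Y : Set G) with hD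
  set N := c.nmHom hAH with hN
  have hDcomm : ∀ d ∈ D, ∀ y ∈ Y, d * y = y * d := by
    intro d hd y hy
    exact (Subgroup.mem_centralizer_iff.1 hd.2 y hy).symm
  have hDU : D ≤ Subgroup.normalizer (U : Set G) := inf_le_left.trans hHU
  have hEU : E ≤ Subgroup.normalizer (U : Set G) := hEH.trans hHU
  -- conjugation and the norm map
  have hconjN : ∀ d ∈ D, ∀ u : ↥U, ∃ hu' : d * (u : G) * d⁻¹ ∈ U,
      d * N u * d⁻¹ = N ⟨d * (u : G) * d⁻¹, hu'⟩ := by
    intro d hd u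
    have hu' : d * (u : G) * d⁻¹ ∈ U := (Subgroup.mem_normalizer_iff.1 (hDU hd) u).1 u.2
    refine ⟨hu', ?_⟩
    show d * NmProd.nm Y (u : G) * d⁻¹ = NmProd.nm Y (d * (u : G) * d⁻¹)
    exact NmProd.conj_nm_of_commute (c.commConj_V (hUV u.2)) d (hDcomm d hd)
  refine ⟨N.range, ?_, ?_, ?_, ?_⟩
  · rintro _ ⟨u, rfl⟩
    refine ⟨?_, NmProd.mem_centralizer_nm (c.commConj_V (hUV u.2))⟩
    apply NmProd.nm_mem
    intro y hy
    exact (Subgroup.mem_normalizer_iff.1 (c.hYV hy) u).1 (hUV u.2)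
  · rw [← hUc]
    exact (Nat.card_congr (MonoidHom.ofInjective hinj).toEquiv).symm
  · apply Cfsg.Agent.Helper5.le_normalizer_of_conj_mem
    rintro d hd _ ⟨u, rfl⟩
    obtain ⟨hu', heq⟩ := hconjN d hd u
    rw [heq]
    exact ⟨_, rfl⟩
  · -- the homomorphism
    set φD : ↥D →* MulAut ↥U := conjHom D U hDU with hφD
    set φE : ↥E →* MulAut ↥U := conjHom E U hEU with hφE
    have hφEinj : Function.Injective φE := by
      rw [injective_iff_map_eq_one]
      intro e he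
      have h1 := mem_centralizer_of_conjHom_eq_one hEU he
      have h2 : (e : G) ∈ E ⊓ Subgroup.centralizer (U : Set G) := ⟨e.2, h1⟩
      rw [hfaith, Subgroup.mem_bot] at h2
      exact Subtype.ext h2
    -- same action
    have hsame : ∀ (d : ↥D) (e : ↥E),
        (d : G) * (e : G)⁻¹ ∈ Subgroup.centralizer (U : Set G) → φD d = φE e := by
      intro d e hde
      ext u
      rw [hφD, hφE, conjHom_coe, conjHom_coe]
      have hu' : (e : G) * (u : G) * (e : G)⁻¹ ∈ U :=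
        (Subgroup.mem_normalizer_iff.1 (hEU e.2) u).1 u.2
      have h1 := Subgroup.mem_centralizer_iff.1 hde _ hu'
      calc (d : G) * (u : G) * (d : G)⁻¹
          = ((d : G) * (e : G)⁻¹) * ((e : G) * (u : G) * (e : G)⁻¹) * ((d : G) * (e : G)⁻¹)⁻¹ := by
            group
        _ = ((e : G) * (u : G) * (e : G)⁻¹) * ((d : G) * (e : G)⁻¹) * ((d : G) * (e : G)⁻¹)⁻¹ := by
            rw [h1]
        _ = (e : G) * (u : G) * (e : G)⁻¹ := by group
    have hrange : ∀ d : ↥D, φD d ∈ φE.range := by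
      intro d
      have hd : (d : G) ∈ E ⊔ (H ⊓ Subgroup.centralizer (U : Set G) ⊓
          Subgroup.centralizer (E : Set G)) := hEsup d.2.1
      have hnorm : H ⊓ Subgroup.centralizer (U : Set G) ⊓ Subgroup.centralizer (E : Set G) ≤
          Subgroup.normalizer (E : Set G) :=
        inf_le_right.trans (Subgroup.centralizer_le_normalizer _)
      obtain ⟨e, he, r, hr, hder⟩ := mem_sup_of_le_normalizer hnorm hd
      refine ⟨⟨e, he⟩, (hsame d ⟨e, he⟩ ?_).symm⟩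
      show (d : G) * e⁻¹ ∈ Subgroup.centralizer (U : Set G)
      rw [hder]
      have hEC : e * r = r * e := (Subgroup.mem_centralizer_iff.1 hr.2 e he)
      have : e * r * e⁻¹ = r := by rw [hEC]; group
      rw [this]
      exact hr.1.2
    set φD' : ↥D →* ↥φE.range := φD.codRestrict φE.range hrange with hφD'
    set ψ : ↥D →* ↥E := (MonoidHom.ofInjective hφEinj).symm.toMonoidHom.comp φD' with hψ
    have hψ_spec : ∀ d : ↥D, φE (ψ d) = φD d := by
      intro d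
      have h1 : (MonoidHom.ofInjective hφEinj) (ψ d) = φD' d := by
        rw [hψ]
        exact (MonoidHom.ofInjective hφEinj).apply_symm_apply (φD' d)
      have h2 := congrArg Subtype.val h1
      exact h2
    have hker : ∀ d : ↥D, φD d = 1 ↔ (d : G) ∈ Subgroup.centralizer (U : Set G) := by
      intro d
      constructor
      · intro h
        exact mem_centralizer_of_conjHom_eq_one hDU h
      · intro h
        ext u
        rw [hφD, conjHom_coe, MulAut.one_apply]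
        have := Subgroup.mem_centralizer_iff.1 h u u.2
        rw [← this]; group
    have hUW : ∀ d : ↥D, (d : G) ∈ Subgroup.centralizer (U : Set G) ↔
        (d : G) ∈ Subgroup.centralizer ((N.range : Subgroup G) : Set G) := by
      intro d
      constructor
      · intro h
        rw [Subgroup.mem_centralizer_iff]
        rintro _ ⟨u, rfl⟩
        obtain ⟨hu', heq⟩ := hconjN d d.2 u
        have h1 : (d : G) * (u : G) * (d : G)⁻¹ = u := by
          have := Subgroup.mem_centralizer_iff.1 h u u.2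
          rw [← this]; group
        have h2 : (⟨(d : G) * (u : G) * (d : G)⁻¹, hu'⟩ : ↥U) = u := Subtype.ext h1
        rw [h2] at heq
        calc N u * (d : G) = ((d : G) * N u * (d : G)⁻¹) * d := by rw [heq]
          _ = (d : G) * N u := by group
      · intro h
        rw [Subgroup.mem_centralizer_iff]
        intro u hu
        obtain ⟨hu', heq⟩ := hconjN d d.2 ⟨u, hu⟩
        have h1 := Subgroup.mem_centralizer_iff.1 h (N ⟨u, hu⟩) ⟨_, rfl⟩
        have h2 : (d : G) * N ⟨u, hu⟩ * (d : G)⁻¹ = N ⟨u, hu⟩ := by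
          rw [← h1]; group
        rw [h2] at heq
        have h3 := hinj heq
        have h4 : u = (d : G) * u * (d : G)⁻¹ := congrArg Subtype.val h3
        calc u * (d : G) = ((d : G) * u * (d : G)⁻¹) * d := by rw [← h4]
          _ = (d : G) * u := by group
    refine ⟨eiso.toMonoidHom.comp ψ, ?_, ?_⟩
    · intro s
      obtain ⟨d, hd, hde⟩ := hcover (eiso.symm s : G) (eiso.symm s).2
      refine ⟨⟨d, hd⟩, ?_⟩
      have h1 : φD ⟨d, hd⟩ = φE (eiso.symm s) := hsame ⟨d, hd⟩ (eiso.symm s) hde.1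
      have h2 : ψ ⟨d, hd⟩ = eiso.symm s := hφEinj ((hψ_spec ⟨d, hd⟩).trans h1)
      show eiso (ψ ⟨d, hd⟩) = s
      rw [h2, MulEquiv.apply_symm_apply]
    · intro d
      rw [← hUW d, ← hker d, ← hψ_spec d]
      show eiso (ψ d) = 1 ↔ _
      constructor
      · intro h
        have : ψ d = 1 := eiso.injective (h.trans (map_one eiso).symm)
        rw [this, map_one]
      · intro h
        have : ψ d = 1 := hφEinj (h.trans (map_one φE).symm)
        rw [this, map_one]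

theorem exists_trv [Finite G] [hp : Fact p.Prime] (c : CopHyp p q V H Y) (hH1 : H ≠ ⊥) :
    ∃ A : Subgroup G, A ≤ H ∧ IsTrv p V A := by
  obtain ⟨A₀, hA₀H, hm₀⟩ : ∃ A : Subgroup G, A ≤ H ∧ IsMinBest p V A := by
    by_contra hno
    apply hH1
    rw [eq_bot_iff]
    exact c.hyp.le_of_forall_minBest c.hS3 (fun A hAH hm => (hno ⟨A, hAH, hm⟩).elim)
  exact ⟨A₀, hA₀H, c.hyp.isTrv_of_isMinBest hA₀H hm₀⟩

/-- Kurzweil–Stellmacher 9.3.9, abstract form. -/
theorem exists_fixed_plane [Finite G] [hp : Fact p.Prime] [hq : Fact q.Prime]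
    (c : CopHyp p q V H Y) (hH1 : H ≠ ⊥) :
    (p = 2 ∨ p = 3) ∧
    ∃ W : Subgroup G, W ≤ V ⊓ Subgroup.centralizer (Y : Set G) ∧ Nat.card W = p ^ 2 ∧
      H ⊓ Subgroup.centralizer (Y : Set G) ≤ Subgroup.normalizer (W : Set G) ∧
      ∃ φ : ↥(H ⊓ Subgroup.centralizer (Y : Set G)) →*
          Matrix.SpecialLinearGroup (Fin 2) (ZMod p),
        Function.Surjective φ ∧
        ∀ d : ↥(H ⊓ Subgroup.centralizer (Y : Set G)),
          φ d = 1 ↔ (d : G) ∈ Subgroup.centralizer (W : Set G) := by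
  obtain ⟨A, hAH, hA⟩ := c.exists_trv hH1
  exact ⟨(c.hyp.E_structure hAH hA).1, c.exists_fixed_plane_of_trv hAH hA⟩

end CopHyp

end Cfsg.Agent.Helper1.FFact
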