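import Mathlib
import Cfsg.Prelude.Def_PLocal
import Cfsg.Agent.Helper1.Basic
import Cfsg.Agent.Helper1.Coprime
import Cfsg.Agent.Helper1.Subnormal
import Cfsg.Agent.Helper1.ThompsonSub2
import Cfsg.Agent.Helper1.OmegaCenterSup
import Cfsg.Agent.Lead.Thompson

set_option autoImplicit false

/-!
Thompson factorizability with trivial `p'`-core.
-/

namespace Cfsg.Agent.Helper1

open scoped Pointwise

universe u

variable {G : Type u} [Group G]

theorem thompson_factorizable_iff [Finite G] {p : ℕ} [Fact p.Prime]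
    (hO : Cfsg.pPrimeCore p G = ⊥) :
    Cfsg.IsThompsonFactorizable p G ↔
      Cfsg.thompsonSubgroup p G ≤ Subgroup.centralizer (omegaCenterSup p G : Set G) := by
  constructor
  · intro hTF
    rw [thompsonSubgroup_eq_iSup_sylow]
    apply iSup_le
    intro S
    rw [Subgroup.le_centralizer_iff]
    unfold omegaCenterSup
    apply iSup_le
    intro S'
    unfold Cfsg.omegaOne
    rw [Subgroup.closure_le]
    rintro x ⟨hx, hxp⟩
    obtain ⟨g, hg⟩ := MulAction.exists_smul_eq G S S'
    have hS' : (S' : Subgroup G) = MulAut.conj g • (S : Subgroup G) := by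
      rw [← hg]; rfl
    rw [hS'] at hx
    obtain ⟨hxS, hxC⟩ := Subgroup.mem_inf.1 hx
    set z := g⁻¹ * x * g with hz
    have hzS : z ∈ (S : Subgroup G) := mem_conj_smul.1 hxS
    have hzC : z ∈ Subgroup.centralizer ((S : Subgroup G) : Set G) := by
      rw [Subgroup.mem_centralizer_iff]
      intro s hs
      have h1 : g * s * g⁻¹ ∈ MulAut.conj g • (S : Subgroup G) := conj_mem_conj_smul hs
      have h2 := Subgroup.mem_centralizer_iff.1 hxC _ h1
      calc s * z = g⁻¹ * ((g * s * g⁻¹) * x) * g := by rw [hz]; group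
        _ = g⁻¹ * (x * (g * s * g⁻¹)) * g := by rw [h2]
        _ = z * s := by rw [hz]; group
    have hzp : z ^ p = 1 := by
      have : z = g⁻¹ * x * g⁻¹⁻¹ := by rw [hz, inv_inv]
      rw [this, conj_pow, hxp, mul_one, mul_inv_cancel]
    have hzZ : z ∈ Cfsg.omegaOne p ((S : Subgroup G) ⊓
        Subgroup.centralizer ((S : Subgroup G) : Set G)) :=
      Subgroup.subset_closure ⟨Subgroup.mem_inf.2 ⟨hzS, hzC⟩, hzp⟩
    obtain ⟨x0, hx0, c, hc, n, hn, hgcn⟩ := hTF S g⁻¹
    rw [hO, Subgroup.mem_bot] at hx0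
    subst hx0
    rw [one_mul] at hgcn
    have hcz : z * c = c * z := Subgroup.mem_centralizer_iff.1 hc z hzZ
    have hxn : x = n⁻¹ * z * n := by
      have h1 : x = g * z * g⁻¹ := by rw [hz]; group
      have h2 : g = n⁻¹ * c⁻¹ := by
        have := congrArg Inv.inv hgcn
        rwa [inv_inv, mul_inv_rev] at this
      rw [h1, h2]
      calc n⁻¹ * c⁻¹ * z * (n⁻¹ * c⁻¹)⁻¹ = n⁻¹ * (c⁻¹ * (z * c)) * n := by group
        _ = n⁻¹ * (c⁻¹ * (c * z)) * n := by rw [hcz]
        _ = n⁻¹ * z * n := by group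
    show x ∈ Subgroup.centralizer (Cfsg.thompsonSubgroupOf p (S : Subgroup G) : Set G)
    rw [Subgroup.mem_centralizer_iff]
    intro y hy
    have hy' : n * y * n⁻¹ ∈ Cfsg.thompsonSubgroupOf p (S : Subgroup G) :=
      (Subgroup.mem_normalizer_iff.1 hn y).1 hy
    have hy'S : n * y * n⁻¹ ∈ (S : Subgroup G) :=
      Cfsg.Agent.Lead.thompsonSubgroupOf_le p _ hy'
    have h3 := Subgroup.mem_centralizer_iff.1 hzC _ hy'S
    rw [hxn]
    calc y * (n⁻¹ * z * n) = n⁻¹ * ((n * y * n⁻¹) * z) * n := by group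
      _ = n⁻¹ * (z * (n * y * n⁻¹)) * n := by rw [h3]
      _ = n⁻¹ * z * n * y := by group
  · intro hJ S g
    refine ⟨1, Subgroup.one_mem _, ?_⟩
    haveI hVn : (omegaCenterSup p G).Normal := omegaCenterSup_normal p
    set C := Subgroup.centralizer (omegaCenterSup p G : Set G) with hC
    haveI hCn : C.Normal := Subgroup.normal_centralizer
    have hJS : Cfsg.thompsonSubgroupOf p (S : Subgroup G) ≤ C := by
      refine le_trans ?_ hJ
      rw [thompsonSubgroup_eq_iSup_sylow]
      exact le_iSup (fun S : Sylow p G => Cfsg.thompsonSubgroupOf p (S : Subgroup G)) S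
    obtain ⟨Q, hQ⟩ := sylow_inf_subnormal p C hCn.isSubnormal S
    have hQmap : (Q : Subgroup C).map C.subtype = (S : Subgroup G) ⊓ C := by
      rw [hQ, Subgroup.subgroupOf_map_subtype]
    have hfr := Sylow.normalizer_sup_eq_top Q
    rw [hQmap, sup_comm] at hfr
    have hg : g ∈ C ⊔ Subgroup.normalizer (((S : Subgroup G) ⊓ C : Subgroup G) : Set G) := by
      rw [hfr]; exact Subgroup.mem_top g
    have hnorm : Subgroup.normalizer (((S : Subgroup G) ⊓ C : Subgroup G) : Set G) ≤
        Subgroup.normalizer (C : Set G) := by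
      have h1 : Subgroup.normalizer (C : Set G) = ⊤ := Subgroup.normalizer_eq_top C
      rw [h1]; exact le_top
    obtain ⟨c, hc, n, hn, rfl⟩ := mem_sup_of_le_normalizer hnorm hg
    refine ⟨c, ?_, n, ?_, by rw [one_mul]⟩
    · -- `C ≤ C(Z_S)`
      apply Subgroup.centralizer_le _ hc
      exact le_iSup (fun S : Sylow p G => Cfsg.omegaOne p ((S : Subgroup G) ⊓
        Subgroup.centralizer ((S : Subgroup G) : Set G))) S
    · -- `n` normalizes `J(S)` by weak closure
      have hle : (Cfsg.thompsonSubgroupOf p (S : Subgroup G)).map (MulAut.conj n).toMonoidHom ≤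
          (S : Subgroup G) := by
        rintro _ ⟨y, hy, rfl⟩
        have hyQ : y ∈ (S : Subgroup G) ⊓ C :=
          ⟨Cfsg.Agent.Lead.thompsonSubgroupOf_le p _ hy, hJS hy⟩
        have := (Subgroup.mem_normalizer_iff.1 hn y).1 hyQ
        exact this.1
      have heq := Cfsg.Agent.Lead.thompsonSubgroupOf_map_conj_eq p (S : Subgroup G) n hle
      apply mem_normalizer_of_conj_smul_eq
      rw [conj_smul_eq_map]
      exact heq

end Cfsg.Agent.Helper1
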