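import Mathlib
import Cfsg.Prelude.Def_Transfer
import Cfsg.Prelude.Def_PLocal
import Cfsg.Agent.Helper1.Basic
import Cfsg.Agent.Helper1.Card
import Cfsg.Agent.Helper1.ThompsonSub

set_option autoImplicit false

/-!
Maximal elementary abelian subgroups are best offenders.
-/

namespace Cfsg.Agent.Helper1

universe u

variable {G : Type u} [Group G]

theorem le_centralizer_self_of_isElementaryAbelian {p : ℕ} {A : Subgroup G}
    (hA : Cfsg.IsElementaryAbelian p A) : A ≤ Subgroup.centralizer (A : Set G) := by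
  intro a ha
  rw [Subgroup.mem_centralizer_iff]
  intro b hb
  exact isElementaryAbelian_commute hA hb ha

theorem isBestOffenderOn_of_maxEA [Finite G] {p : ℕ} (V : Subgroup G)
    (hV : Cfsg.IsElementaryAbelian p V) (A : Subgroup G)
    (hA : A ∈ Cfsg.maxElementaryAbelianSubgroups p G) : Cfsg.IsBestOffenderOn p V A := by
  have hAc := le_centralizer_self_of_isElementaryAbelian hA.1
  refine ⟨?_, ?_, ?_⟩
  · intro B hBA
    have hB : Cfsg.IsElementaryAbelian p B := IsElementaryAbelian_of_le hA.1 hBA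
    have hBc := le_centralizer_self_of_isElementaryAbelian hB
    obtain ⟨C, hC⟩ : ∃ C : Subgroup G, C = V ⊓ Subgroup.centralizer (B : Set G) := ⟨_, rfl⟩
    have hCel : Cfsg.IsElementaryAbelian p C := IsElementaryAbelian_of_le hV (hC ▸ inf_le_left)
    have hCB : C ≤ Subgroup.centralizer (B : Set G) := hC ▸ inf_le_right
    have hE : Cfsg.IsElementaryAbelian p (B ⊔ C) := IsElementaryAbelian_sup hB hCel hCB
    have h1 : Nat.card (B ⊔ C : Subgroup G) ≤ Nat.card A := hA.2 _ hE
    have h2 := card_sup_mul_card_inf (N := B) (A := C)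
      (hCB.trans (Subgroup.centralizer_le_normalizer _))
    have h3 : B ⊓ C ≤ V ⊓ Subgroup.centralizer (A : Set G) := by
      rw [hC]
      intro x hx
      have hxB : x ∈ B := hx.1
      have hxV : x ∈ V := hx.2.1
      exact ⟨hxV, hAc (hBA hxB)⟩
    have h4 : Nat.card (B ⊓ C : Subgroup G) ≤
        Nat.card (V ⊓ Subgroup.centralizer (A : Set G) : Subgroup G) :=
      Nat.le_of_dvd Nat.card_pos (Subgroup.card_dvd_of_le h3)
    rw [← hC, ← h2]
    exact Nat.mul_le_mul h1 h4
  · have : ⁅A, A⁆ = ⊥ := Subgroup.commutator_eq_bot_iff_le_centralizer.2 hAc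
    rw [this]; exact bot_le
  · intro a ha
    rw [hA.1.2 a ha]
    exact Subgroup.one_mem _

end Cfsg.Agent.Helper1
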