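import Mathlib
import Cfsg.Prelude.Def_PLocal
import Cfsg.Agent.Helper1.HolHyp
import Cfsg.Agent.Helper1.ThompsonFactor
import Cfsg.Agent.Helper1.ThompsonSub3
import Cfsg.Agent.Helper4.HallHigman

set_option autoImplicit false

/-!
Failure of Thompson factorization in a `p`-solvable group with `O_{p'} = 1`: `p ≤ 3` and `J(G)`
induces a group containing a normal `SL(2, p)` on the normal closure of `Ω₁(Z(S))`.
-/

namespace Cfsg.Agent.Helper1.Hol

open scoped Pointwise commutatorElement

open Cfsg.Agent.Helper1 SemidirectProduct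

universe u

variable {G : Type u} [Group G]

/-- The image of `J(G)` in the holomorph of a normal elementary abelian `V` is generated by best
offenders on `V`. -/
theorem map_thompsonSubgroup_eq_iSup [Finite G] {p : ℕ} (V : Subgroup G) [V.Normal]
    (hV : Cfsg.IsElementaryAbelian p V) :
    (Cfsg.thompsonSubgroup p G).map (psi V) =
      ⨆ A : {A : Subgroup (HolG V) // A ≤ (Cfsg.thompsonSubgroup p G).map (psi V) ∧
        Cfsg.IsBestOffenderOn p (VV V) A}, (A : Subgroup (HolG V)) := by
  apply le_antisymm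
  · rw [Subgroup.map_le_iff_le_comap]
    apply sSup_le
    intro A hA
    rw [← Subgroup.map_le_iff_le_comap]
    exact le_iSup (fun A : {A : Subgroup (HolG V) //
      A ≤ (Cfsg.thompsonSubgroup p G).map (psi V) ∧ Cfsg.IsBestOffenderOn p (VV V) A} =>
        (A : Subgroup (HolG V)))
      ⟨A.map (psi V), Subgroup.map_mono (le_thompsonSubgroup hA),
        isBestOffenderOn_map V (isBestOffenderOn_of_maxEA V hV A hA)⟩
  · exact iSup_le fun A => A.2.1

set_option maxHeartbeats 1600000 in
/-- S0618 for a general normal elementary abelian `V` with `O_p(G/C_G(V)) = 1` on which `J(G)` acts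
nontrivially. -/
theorem exists_sl2_section [Finite G] {p : ℕ} [hp : Fact p.Prime] (V : Subgroup G) [V.Normal]
    (hV : Cfsg.IsElementaryAbelian p V) (hsep : Cfsg.IsPSolvable p G)
    (hOp : ∀ D : Subgroup G, D.Normal → Subgroup.centralizer (V : Set G) ≤ D →
      (∃ k : ℕ, (Subgroup.centralizer (V : Set G)).relIndex D = p ^ k) →
      D = Subgroup.centralizer (V : Set G))
    (hJ : ¬ Cfsg.thompsonSubgroup p G ≤ Subgroup.centralizer (V : Set G)) :
    (p = 2 ∨ p = 3) ∧ ∃ E : Subgroup G, Subgroup.centralizer (V : Set G) ≤ E ∧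
      E ≤ Cfsg.thompsonSubgroup p G ⊔ Subgroup.centralizer (V : Set G) ∧
      Cfsg.thompsonSubgroup p G ⊔ Subgroup.centralizer (V : Set G) ≤
        Subgroup.normalizer (E : Set G) ∧
      ∃ hn : ((Subgroup.centralizer (V : Set G)).subgroupOf E).Normal,
        Nonempty ((↥E ⧸ (Subgroup.centralizer (V : Set G)).subgroupOf E) ≃*
          Matrix.SpecialLinearGroup (Fin 2) (ZMod p)) := by
  set J := Cfsg.thompsonSubgroup p G with hJdef
  haveI hJc : J.Characteristic := thompsonSubgroup_characteristic p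
  haveI hJn : J.Normal := inferInstance
  have h := hyp_map V hV hsep hOp J
  have hS3 := map_thompsonSubgroup_eq_iSup (p := p) V hV
  set ℋ := J.map (psi V) with hℋ
  have hℋ1 : ℋ ≠ ⊥ := by
    intro hb
    apply hJ
    intro j hj
    rw [← mem_ker_psi_iff, MonoidHom.mem_ker]
    have : psi V j ∈ ℋ := Subgroup.mem_map_of_mem _ hj
    rw [hb, Subgroup.mem_bot] at this
    exact this
  obtain ⟨h23, hE, -, hsup, -, -⟩ := h.structure_thm hS3 hℋ1
  obtain ⟨Eh⟩ : Nonempty {E : Subgroup (HolG V) // FFact.IsE p (VV V) ℋ E} := by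
    by_contra hne
    rw [not_nonempty_iff] at hne
    rw [iSup_of_empty] at hsup
    exact hℋ1 hsup.symm
  obtain ⟨hN, ⟨e⟩, -⟩ := hE Eh
  have hEhℋ : (Eh : Subgroup (HolG V)) ≤ ℋ := by
    exact (le_iSup (fun E : {E : Subgroup (HolG V) // FFact.IsE p (VV V) ℋ E} =>
      (E : Subgroup (HolG V))) Eh).trans hsup.le
  set C := Subgroup.centralizer (V : Set G) with hC
  haveI hCn : C.Normal := Subgroup.normal_centralizer
  set E := (Eh : Subgroup (HolG V)).comap (psi V) with hEdef
  have hCE : C ≤ E := by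
    intro c hc
    show psi V c ∈ (Eh : Subgroup (HolG V))
    rw [MonoidHom.mem_ker.1 ((mem_ker_psi_iff V c).2 hc)]
    exact Subgroup.one_mem _
  refine ⟨h23, E, hCE, ?_, ?_, ?_⟩
  · intro g hg
    obtain ⟨j, hj, hjg⟩ := hEhℋ hg
    have h1 : j⁻¹ * g ∈ C := by
      rw [hC, ← mem_ker_psi_iff, MonoidHom.mem_ker, map_mul, map_inv, hjg, inv_mul_cancel]
    have h2 : g = j * (j⁻¹ * g) := by group
    rw [h2]
    exact Subgroup.mul_mem _ (Subgroup.mem_sup_left hj) (Subgroup.mem_sup_right h1)
  · refine sup_le ?_ (hCE.trans Subgroup.le_normalizer)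
    intro j hj
    have h1 : psi V j ∈ Subgroup.normalizer ((Eh : Subgroup (HolG V)) : Set (HolG V)) :=
      hN (Subgroup.mem_map_of_mem _ hj)
    exact Subgroup.le_normalizer_comap (psi V) h1
  · set f : ↥E →* ↥(Eh : Subgroup (HolG V)) := (psi V).subgroupComap (Eh : Subgroup (HolG V)) with hf
    have hsurj : Function.Surjective f := by
      rintro ⟨y, hy⟩
      obtain ⟨j, -, rfl⟩ := hEhℋ hy
      exact ⟨⟨j, hy⟩, rfl⟩
    have hker : C.subgroupOf E = f.ker := by
      ext x
      rw [Subgroup.mem_subgroupOf, MonoidHom.mem_ker, hC, ← mem_ker_psi_iff, MonoidHom.mem_ker]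
      constructor
      · intro hx
        exact Subtype.ext hx
      · intro hx
        exact congrArg Subtype.val hx
    have hn : (C.subgroupOf E).Normal := inferInstance
    exact ⟨hn, ⟨((QuotientGroup.quotientMulEquivOfEq hker).trans
      (QuotientGroup.quotientKerEquivOfSurjective f hsurj)).trans e⟩⟩

end Cfsg.Agent.Helper1.Hol
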