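import Mathlib
import Cfsg.Prelude.Def_PLocal
import Cfsg.Agent.Helper1.FFGlobal1
import Cfsg.Agent.Helper1.FFCoprimeB

set_option autoImplicit false

/-!
Extending the holomorph transport of a subgroup `K ≤ G` to the normalizer `N_G(K)`, for a
characteristic subgroup `V` of `K`.
-/

namespace Cfsg.Agent.Helper1

open scoped Pointwise

universe u

/-- The join of the `Ω₁(Z(S))` is characteristic. -/
theorem omegaCenterSup_characteristic (p : ℕ) (K : Type u) [Group K] :
    (omegaCenterSup p K).Characteristic := by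
  rw [Subgroup.characteristic_iff_map_le]
  intro φ
  unfold omegaCenterSup
  rw [Subgroup.map_iSup]
  apply iSup_le
  intro S
  refine le_trans ?_ (le_iSup _ ((φ : MulAut K) • S))
  unfold Cfsg.omegaOne
  rw [MonoidHom.map_closure]
  apply Subgroup.closure_mono
  rintro _ ⟨y, ⟨hy, hyp⟩, rfl⟩
  obtain ⟨hyS, hyC⟩ := Subgroup.mem_inf.1 hy
  have hS' : (((φ : MulAut K) • S : Sylow p K) : Subgroup K) = (φ : MulAut K) • (S : Subgroup K) :=
    rfl
  refine ⟨?_, ?_⟩
  · rw [hS']
    refine Subgroup.mem_inf.2 ⟨?_, ?_⟩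
    · exact Subgroup.smul_mem_pointwise_smul y (φ : MulAut K) (S : Subgroup K) hyS
    · rw [Subgroup.mem_centralizer_iff]
      rintro h ⟨s, hs, rfl⟩
      have h1 := Subgroup.mem_centralizer_iff.1 hyC s hs
      show φ s * φ y = φ y * φ s
      rw [← map_mul, ← map_mul, h1]
  · show (φ y) ^ p = 1
    rw [← map_pow, hyp, map_one]

namespace Hol

open SemidirectProduct

section charRestrict

variable {K : Type u} [Group K] (V : Subgroup K) [hV : V.Characteristic]

theorem char_map_mem (φ : K ≃* K) {v : K} (hv : v ∈ V) : φ v ∈ V := by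
  have h := hV.fixed φ.symm
  rw [← h]
  show φ.symm (φ v) ∈ V
  rw [MulEquiv.symm_apply_apply]
  exact hv

/-- Restriction of automorphisms to a characteristic subgroup. -/
def charRestrict : MulAut K →* MulAut ↥V where
  toFun φ :=
    { toFun := fun v => ⟨φ v, char_map_mem V φ v.2⟩
      invFun := fun v => ⟨φ.symm v, char_map_mem V φ.symm v.2⟩
      left_inv := fun v => Subtype.ext (φ.symm_apply_apply v)
      right_inv := fun v => Subtype.ext (φ.apply_symm_apply v)
      map_mul' := fun v w => Subtype.ext (map_mul φ (v : K) (w : K)) }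
  map_one' := by ext v; rfl
  map_mul' φ ψ := by ext v; rfl

theorem charRestrict_coe (φ : MulAut K) (v : ↥V) : ((charRestrict V φ v : ↥V) : K) = φ v := rfl

end charRestrict

variable {G : Type u} [Group G] (K : Subgroup G) (V : Subgroup ↥K) [hV : V.Characteristic]

/-- The action of `N_G(K)` on the characteristic subgroup `V` of `K`, in the holomorph of `V`. -/
def xi : ↥(Subgroup.normalizer (K : Set G)) →* HolG V :=
  (inr : MulAut ↥V →* HolG V).comp ((charRestrict V).comp K.normalizerMonoidHom)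

theorem xi_apply (n : ↥(Subgroup.normalizer (K : Set G))) :
    xi K V n = inr (charRestrict V (K.normalizerMonoidHom n)) := rfl

theorem normalizerMonoidHom_coe (n : ↥(Subgroup.normalizer (K : Set G))) (k : ↥K) :
    ((K.normalizerMonoidHom n k : ↥K) : G) = (n : G) * k * (n : G)⁻¹ := rfl

theorem xi_inclusion (k : ↥K) :
    xi K V ⟨(k : G), Subgroup.le_normalizer k.2⟩ = psi V k := by
  rw [xi_apply, psi_apply]
  congr 1

theorem xi_conj_inl (n : ↥(Subgroup.normalizer (K : Set G))) (v : ↥V) :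
    xi K V n * inl v * (xi K V n)⁻¹ = inl (charRestrict V (K.normalizerMonoidHom n) v) := by
  rw [xi_apply, ← map_inv]
  exact (inl_aut (φ := MonoidHom.id (MulAut ↥V)) (charRestrict V (K.normalizerMonoidHom n)) v).symm

theorem xi_conj_psi (n : ↥(Subgroup.normalizer (K : Set G))) (k : ↥K) :
    xi K V n * psi V k * (xi K V n)⁻¹ = psi V (K.normalizerMonoidHom n k) := by
  rw [← xi_inclusion K V k, ← xi_inclusion K V (K.normalizerMonoidHom n k), ← map_inv, ← map_mul,
    ← map_mul]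
  congr 1

/-- The image of `X` in the holomorph. -/
def YX (X : Subgroup G) : Subgroup (HolG V) :=
  (X.subgroupOf (Subgroup.normalizer (K : Set G))).map (xi K V)

theorem mem_YX {X : Subgroup G} (hXK : X ≤ Subgroup.normalizer (K : Set G)) {x : G} (hx : x ∈ X) :
    xi K V ⟨x, hXK hx⟩ ∈ YX K V X :=
  ⟨⟨x, hXK hx⟩, Subgroup.mem_subgroupOf.2 hx, rfl⟩

theorem exists_of_mem_YX {X : Subgroup G} {y : HolG V} (hy : y ∈ YX K V X) :
    ∃ (n : ↥(Subgroup.normalizer (K : Set G))), (n : G) ∈ X ∧ xi K V n = y := by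
  obtain ⟨n, hn, rfl⟩ := hy
  exact ⟨n, Subgroup.mem_subgroupOf.1 hn, rfl⟩

theorem card_map_psi_dvd [Finite G] (J : Subgroup ↥K) :
    Nat.card ↥(J.map (psi V)) ∣ Nat.card K :=
  (Dvd.intro _ (card_map_mul_card_inf_ker (psi V) J)).trans (Subgroup.card_subgroup_dvd_card J)

/-- The coprime-operator hypotheses in the holomorph. -/
theorem copHyp_map [Finite G] {p q : ℕ} [hp : Fact p.Prime] [hq : Fact q.Prime] {X : Subgroup G}
    (_hXK : X ≤ Subgroup.normalizer (K : Set G)) (hX : Cfsg.IsElementaryAbelian q X)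
    (hqK : ¬ q ∣ Nat.card K) (hVe : Cfsg.IsElementaryAbelian p V)
    (hsep : Cfsg.IsPSolvable p ↥K)
    (hOp : ∀ D : Subgroup ↥K, D.Normal → Subgroup.centralizer (V : Set ↥K) ≤ D →
      (∃ k : ℕ, (Subgroup.centralizer (V : Set ↥K)).relIndex D = p ^ k) →
      D = Subgroup.centralizer (V : Set ↥K)) :
    FFact.CopHyp p q (VV V) ((Cfsg.thompsonSubgroup p ↥K).map (psi V)) (YX K V X) := by
  haveI hJc : (Cfsg.thompsonSubgroup p ↥K).Characteristic := thompsonSubgroup_characteristic p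
  haveI hJn : (Cfsg.thompsonSubgroup p ↥K).Normal := inferInstance
  refine ⟨hyp_map V hVe hsep hOp _, map_thompsonSubgroup_eq_iSup (p := p) V hVe, ?_, ?_, ?_, ?_, ?_⟩
  · rw [Subgroup.normalizer_eq_top]; exact le_top
  · apply Cfsg.Agent.Helper5.le_normalizer_of_conj_mem
    rintro y hy _ ⟨j, hj, rfl⟩
    obtain ⟨n, -, rfl⟩ := exists_of_mem_YX K V hy
    rw [xi_conj_psi]
    exact ⟨_, char_map_mem _ (K.normalizerMonoidHom n) hj, rfl⟩
  · apply IsPGroup.map
    exact (isElementaryAbelian_isPGroup hX).comap_of_injective _ (Subgroup.subtype_injective _)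
  · intro a ha b hb
    obtain ⟨n, hn, rfl⟩ := exists_of_mem_YX K V ha
    obtain ⟨m, hm, rfl⟩ := exists_of_mem_YX K V hb
    rw [← map_mul, ← map_mul]
    congr 1
    apply Subtype.ext
    have := hX.1.is_comm.comm ⟨(n : G), hn⟩ ⟨(m : G), hm⟩
    show (n : G) * (m : G) = (m : G) * (n : G)
    exact congrArg Subtype.val this
  · intro h
    exact hqK (h.trans (card_map_psi_dvd K V _))

/-- Lifting fixed points of `X` through `psi`. -/
theorem exists_lift [Finite G] {q : ℕ} [hq : Fact q.Prime] {X : Subgroup G}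
    (hXK : X ≤ Subgroup.normalizer (K : Set G)) (hX : Cfsg.IsElementaryAbelian q X)
    (hqK : ¬ q ∣ Nat.card K) {d : HolG V} (hd : d ∈ (psi V).range)
    (hdY : d ∈ Subgroup.centralizer ((YX K V X : Subgroup (HolG V)) : Set (HolG V))) :
    ∃ c : ↥K, (c : G) ∈ Subgroup.centralizer (X : Set G) ∧ psi V c = d := by
  obtain ⟨j, rfl⟩ := hd
  set N : Subgroup G := ((psi V).ker).map K.subtype with hN
  have hXq : IsPGroup q X := isElementaryAbelian_isPGroup hX
  have hcop : (Nat.card X).Coprime (Nat.card K) := by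
    obtain ⟨k, hk⟩ := IsPGroup.iff_card.1 hXq
    rw [hk]
    exact Nat.Coprime.pow_left k ((Nat.Prime.coprime_iff_not_dvd hq.out).2 hqK)
  have hsolv : Group.IsSolvable X := by
    haveI := hX.1
    exact isSolvable_of_isMulCommutative X
  have hNK : N ≤ K := Subgroup.map_subtype_le _
  have hmemN : ∀ k : ↥K, (k : G) ∈ N ↔ psi V k = 1 := by
    intro k
    constructor
    · rintro ⟨k', hk', hkk'⟩
      have : k' = k := Subtype.ext hkk'
      rw [← this]; exact hk'
    · intro h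
      exact ⟨k, h, rfl⟩
  have hKN : K ≤ Subgroup.normalizer (N : Set G) := by
    apply Cfsg.Agent.Helper5.le_normalizer_of_conj_mem
    rintro k hk _ ⟨c, hc, rfl⟩
    have h1 : k * (c : G) * k⁻¹ = ((⟨k, hk⟩ * c * ⟨k, hk⟩⁻¹ : ↥K) : G) := rfl
    show k * (c : G) * k⁻¹ ∈ N
    rw [h1, hmemN, map_mul, map_mul, map_inv, MonoidHom.mem_ker.1 hc]
    group
  have hconj : ∀ x (hx : x ∈ X) (k : ↥K),
      psi V (K.normalizerMonoidHom ⟨x, hXK hx⟩ k) =
        xi K V ⟨x, hXK hx⟩ * psi V k * (xi K V ⟨x, hXK hx⟩)⁻¹ := fun x hx k =>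
    (xi_conj_psi K V ⟨x, hXK hx⟩ k).symm
  have hXN : X ≤ Subgroup.normalizer (N : Set G) := by
    apply Cfsg.Agent.Helper5.le_normalizer_of_conj_mem
    rintro x hx _ ⟨c, hc, rfl⟩
    have h1 : x * (c : G) * x⁻¹ = ((K.normalizerMonoidHom ⟨x, hXK hx⟩ c : ↥K) : G) := rfl
    show x * (c : G) * x⁻¹ ∈ N
    rw [h1, hmemN, hconj x hx, MonoidHom.mem_ker.1 hc]
    group
  have hfix : ∀ x ∈ X, x * (j : G) * x⁻¹ * (j : G)⁻¹ ∈ N := by
    intro x hx
    have h1 : x * (j : G) * x⁻¹ * (j : G)⁻¹ =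
        ((K.normalizerMonoidHom ⟨x, hXK hx⟩ j * j⁻¹ : ↥K) : G) := rfl
    rw [h1, hmemN, map_mul, hconj x hx, map_inv]
    have h2 := Subgroup.mem_centralizer_iff.1 hdY _ (mem_YX K V hXK hx)
    rw [h2]; group
  obtain ⟨c, hc, hjc⟩ := coprime_fixed_coset X K hXK hcop (Or.inl hsolv) N hNK hKN hXN (j : G) j.2
    hfix
  refine ⟨⟨c, hc.1⟩, hc.2, ?_⟩
  have h3 : (j : G)⁻¹ * c = ((j⁻¹ * ⟨c, hc.1⟩ : ↥K) : G) := rfl
  rw [h3, hmemN, map_mul, map_inv] at hjc
  calc psi V ⟨c, hc.1⟩ = psi V j * ((psi V j)⁻¹ * psi V ⟨c, hc.1⟩) := by group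
    _ = psi V j := by rw [hjc, mul_one]

end Hol

end Cfsg.Agent.Helper1
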