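import Mathlib
import Cfsg.Prelude.Def_PLocal
import Cfsg.Agent.Helper1.FFCoprimeC

set_option autoImplicit false

/-!
Kurzweil–Stellmacher 9.3.9: failure of Thompson factorization under a coprime operator group.
-/

namespace Cfsg.Agent.Helper1.Hol

open scoped Pointwise

open SemidirectProduct

universe u

variable {G : Type u} [Group G]

set_option maxHeartbeats 3200000 in
/-- K-S 9.3.9 for a characteristic elementary abelian `V` of `K` with `O_p(K / C_K(V)) = 1` on
which `J(K)` acts nontrivially. -/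
theorem exists_fixed_sl2_section [Finite G] {p q : ℕ} [hp : Fact p.Prime] [hq : Fact q.Prime]
    (K X : Subgroup G) (V : Subgroup ↥K) [hV : V.Characteristic]
    (hXK : X ≤ Subgroup.normalizer (K : Set G)) (hX : Cfsg.IsElementaryAbelian q X)
    (hqK : ¬ q ∣ Nat.card K) (hVe : Cfsg.IsElementaryAbelian p V)
    (hsep : Cfsg.IsPSolvable p ↥K)
    (hOp : ∀ D : Subgroup ↥K, D.Normal → Subgroup.centralizer (V : Set ↥K) ≤ D →
      (∃ k : ℕ, (Subgroup.centralizer (V : Set ↥K)).relIndex D = p ^ k) →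
      D = Subgroup.centralizer (V : Set ↥K))
    (hJ : ¬ Cfsg.thompsonSubgroup p ↥K ≤ Subgroup.centralizer (V : Set ↥K)) :
    (p = 2 ∨ p = 3) ∧ ∃ W D : Subgroup G,
      W ≤ K ⊓ Subgroup.centralizer (X : Set G) ∧ D ≤ K ⊓ Subgroup.centralizer (X : Set G) ∧
      Cfsg.IsElementaryAbelian p W ∧ Nat.card W = p ^ 2 ∧
      D ≤ Subgroup.normalizer (W : Set G) ∧
      ∃ hn : ((Subgroup.centralizer (W : Set G)).subgroupOf D).Normal,
        Nonempty ((↥D ⧸ (Subgroup.centralizer (W : Set G)).subgroupOf D) ≃*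
          Matrix.SpecialLinearGroup (Fin 2) (ZMod p)) := by
  have c := copHyp_map K V hXK hX hqK hVe hsep hOp
  set J := Cfsg.thompsonSubgroup p ↥K with hJdef
  set ℋ := J.map (psi V) with hℋ
  set Y := YX K V X with hY
  have hℋ1 : ℋ ≠ ⊥ := by
    intro hb
    apply hJ
    intro j hj
    rw [← mem_ker_psi_iff, MonoidHom.mem_ker]
    have : psi V j ∈ ℋ := Subgroup.mem_map_of_mem _ hj
    rw [hb, Subgroup.mem_bot] at this
    exact this
  obtain ⟨h23, Wb, hWb, hWbcard, hDW, φ, hφs, hφk⟩ := c.exists_fixed_plane hℋ1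
  set WV : Subgroup ↥V := Wb.comap (inl : ↥V →* HolG V) with hWV
  set W : Subgroup G := (WV.map V.subtype).map K.subtype with hW
  set DK : Subgroup ↥K := (ℋ ⊓ Subgroup.centralizer (Y : Set (HolG V))).comap (psi V) ⊓ (Subgroup.centralizer (X : Set G)).subgroupOf K
    with hDK
  set D : Subgroup G := DK.map K.subtype with hD
  have hWmem : ∀ w ∈ W, ∃ v : ↥V, (inl v : HolG V) ∈ Wb ∧ ((v : ↥K) : G) = w := by
    rintro _ ⟨_, ⟨v, hv, rfl⟩, rfl⟩
    exact ⟨v, hv, rfl⟩
  have hWmem' : ∀ v : ↥V, (inl v : HolG V) ∈ Wb → ((v : ↥K) : G) ∈ W := by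
    intro v hv
    exact ⟨(v : ↥K), ⟨v, hv, rfl⟩, rfl⟩
  have hWb_inl : ∀ b ∈ Wb, ∃ v : ↥V, (inl v : HolG V) = b := by
    intro b hb
    obtain ⟨v, hv⟩ := (hWb hb).1
    exact ⟨v, hv⟩
  have hDmem : ∀ d ∈ D, ∃ k : ↥K, psi V k ∈ (ℋ ⊓ Subgroup.centralizer (Y : Set (HolG V))) ∧ (k : G) ∈ Subgroup.centralizer (X : Set G) ∧
      (k : G) = d := by
    rintro _ ⟨k, hk, rfl⟩
    exact ⟨k, hk.1, Subgroup.mem_subgroupOf.1 hk.2, rfl⟩
  have hDKle : D ≤ K := Subgroup.map_subtype_le _
  -- conjugation by `K` on `V` in coordinates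
  have hconjK : ∀ (k : ↥K) (v : ↥V),
      ((((MulAut.conjNormal k : MulAut ↥V) v : ↥V) : ↥K) : G) = (k : G) * ((v : ↥K) : G) * (k : G)⁻¹ := by
    intro k v
    rw [MulAut.conjNormal_apply]
    rfl
  have hconjX : ∀ (n : ↥(Subgroup.normalizer (K : Set G))) (v : ↥V),
      (((charRestrict V (K.normalizerMonoidHom n) v : ↥V) : ↥K) : G) =
        (n : G) * ((v : ↥K) : G) * (n : G)⁻¹ := fun n v => rfl
  refine ⟨h23, W, D, ?_, ?_, ?_, ?_, ?_, ?_⟩
  · -- `W ≤ K ⊓ C(X)`
    intro w hw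
    obtain ⟨v, hv, rfl⟩ := hWmem w hw
    refine Subgroup.mem_inf.2 ⟨(v : ↥K).2, ?_⟩
    rw [Subgroup.mem_centralizer_iff]
    intro x hx
    have h1 := xi_conj_inl K V ⟨x, hXK hx⟩ v
    have h2 := Subgroup.mem_centralizer_iff.1 (hWb hv).2 _ (mem_YX K V hXK hx)
    have h3 : xi K V ⟨x, hXK hx⟩ * inl v * (xi K V ⟨x, hXK hx⟩)⁻¹ = inl v := by
      rw [h2]; group
    rw [h3] at h1
    have h4 := inl_injective h1
    have h5 : (((charRestrict V (K.normalizerMonoidHom ⟨x, hXK hx⟩) v : ↥V) : ↥K) : G) =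
        ((v : ↥K) : G) := congrArg (fun t : ↥V => ((t : ↥K) : G)) h4.symm
    rw [hconjX] at h5
    calc x * ((v : ↥K) : G) = (x * ((v : ↥K) : G) * x⁻¹) * x := by group
      _ = ((v : ↥K) : G) * x := by rw [h5]
  · intro d hd
    obtain ⟨k, -, hkX, rfl⟩ := hDmem d hd
    exact ⟨k.2, hkX⟩
  · apply IsElementaryAbelian_map
    exact IsElementaryAbelian_of_le hVe (Subgroup.map_subtype_le _)
  · rw [hW, Subgroup.card_map_of_injective K.subtype_injective,
      Subgroup.card_map_of_injective V.subtype_injective, ← hWbcard]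
    have h1 : WV.map (inl : ↥V →* HolG V) = Wb := by
      rw [hWV, Subgroup.map_comap_eq_self]
      exact hWb.trans inf_le_left
    rw [← h1, Subgroup.card_map_of_injective inl_injective]
  · apply Cfsg.Agent.Helper5.le_normalizer_of_conj_mem
    intro d hd w hw
    obtain ⟨k, hk, -, rfl⟩ := hDmem d hd
    obtain ⟨v, hv, rfl⟩ := hWmem w hw
    rw [← hconjK]
    apply hWmem'
    rw [← psi_conj]
    exact (Subgroup.mem_normalizer_iff.1 (hDW hk) _).1 hv
  · -- the quotient
    set ι : ↥D →* ↥K := Subgroup.inclusion hDKle with hι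
    have hιmem : ∀ d : ↥D, ((psi V).comp ι) d ∈ (ℋ ⊓ Subgroup.centralizer (Y : Set (HolG V))) := by
      intro d
      obtain ⟨k, hk, -, hkd⟩ := hDmem d d.2
      have : ι d = k := Subtype.ext hkd.symm
      show psi V (ι d) ∈ (ℋ ⊓ Subgroup.centralizer (Y : Set (HolG V)))
      rw [this]; exact hk
    set g₀ : ↥D →* ↥(ℋ ⊓ Subgroup.centralizer (Y : Set (HolG V))) := ((psi V).comp ι).codRestrict (ℋ ⊓ Subgroup.centralizer (Y : Set (HolG V))) hιmem with hg₀
    set g : ↥D →* Matrix.SpecialLinearGroup (Fin 2) (ZMod p) := φ.comp g₀ with hg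
    have hsurj : Function.Surjective g := by
      intro s
      obtain ⟨⟨db, hdb⟩, rfl⟩ := hφs s
      have hrange : db ∈ (psi V).range := (Subgroup.map_le_range _ _) hdb.1
      obtain ⟨c', hcX, hc'⟩ := exists_lift K V hXK hX hqK hrange hdb.2
      have hcDK : c' ∈ DK := by
        refine ⟨?_, Subgroup.mem_subgroupOf.2 hcX⟩
        show psi V c' ∈ (ℋ ⊓ Subgroup.centralizer (Y : Set (HolG V)))
        rw [hc']; exact hdb
      refine ⟨⟨(c' : G), ⟨c', hcDK, rfl⟩⟩, ?_⟩
      show φ (g₀ ⟨(c' : G), ⟨c', hcDK, rfl⟩⟩) = φ ⟨db, hdb⟩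
      congr 1
      apply Subtype.ext
      show psi V (ι ⟨(c' : G), ⟨c', hcDK, rfl⟩⟩) = db
      have : ι ⟨(c' : G), ⟨c', hcDK, rfl⟩⟩ = c' := Subtype.ext rfl
      rw [this, hc']
    have hker : (Subgroup.centralizer (W : Set G)).subgroupOf D = g.ker := by
      ext d
      rw [Subgroup.mem_subgroupOf, MonoidHom.mem_ker]
      show _ ↔ φ (g₀ d) = 1
      rw [hφk]
      show _ ↔ psi V (ι d) ∈ Subgroup.centralizer (Wb : Set (HolG V))
      have hιd : ((ι d : ↥K) : G) = (d : G) := rfl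
      constructor
      · intro h
        rw [Subgroup.mem_centralizer_iff]
        intro b hb
        obtain ⟨v, rfl⟩ := hWb_inl b hb
        have h1 := Subgroup.mem_centralizer_iff.1 h _ (hWmem' v hb)
        have h2 : (MulAut.conjNormal (ι d) : MulAut ↥V) v = v := by
          apply Subtype.ext
          apply Subtype.ext
          rw [hconjK, hιd, ← h1]
          group
        have h3 := psi_conj V (ι d) v
        rw [h2] at h3
        calc inl v * psi V (ι d) = (psi V (ι d) * inl v * (psi V (ι d))⁻¹) * psi V (ι d) := by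
              rw [h3]
          _ = psi V (ι d) * inl v := by group
      · intro h
        rw [Subgroup.mem_centralizer_iff]
        intro w hw
        obtain ⟨v, hv, rfl⟩ := hWmem w hw
        have h1 := Subgroup.mem_centralizer_iff.1 h _ hv
        have h3 := psi_conj V (ι d) v
        have h4 : psi V (ι d) * inl v * (psi V (ι d))⁻¹ = inl v := by
          rw [← h1]; group
        rw [h4] at h3
        have h5 := inl_injective h3
        have h6 : ((((MulAut.conjNormal (ι d) : MulAut ↥V) v : ↥V) : ↥K) : G) = ((v : ↥K) : G) :=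
          congrArg (fun t : ↥V => ((t : ↥K) : G)) h5.symm
        rw [hconjK, hιd] at h6
        calc ((v : ↥K) : G) * (d : G) = ((d : G) * ((v : ↥K) : G) * (d : G)⁻¹) * d := by
              rw [h6]
          _ = (d : G) * ((v : ↥K) : G) := by group
    have hn : ((Subgroup.centralizer (W : Set G)).subgroupOf D).Normal := by
      rw [hker]; infer_instance
    exact ⟨hn, ⟨(QuotientGroup.quotientMulEquivOfEq hker).trans
      (QuotientGroup.quotientKerEquivOfSurjective g hsurj)⟩⟩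

end Cfsg.Agent.Helper1.Hol
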