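import Mathlib
import Cfsg.Prelude.Def_PLocal
import Cfsg.Agent.Helper1.FFCoprimeB

set_option autoImplicit false

/-!
Generation by fixed points of a coprime operator group (towards Kurzweil–Stellmacher 9.3.10),
abstract form.
-/

namespace Cfsg.Agent.Helper1.FFact

open scoped Pointwise commutatorElement

open Cfsg.Agent.Helper1

universe u

variable {G : Type u} [Group G]

namespace CopHyp

variable {p q : ℕ} {V H Y : Subgroup G}

/-- A subgroup containing the fixed points of `Y` on `H` and a transvection subgroup `B` contains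
the whole component `E_B`. -/
theorem EA_le_of_le [Finite G] [hp : Fact p.Prime] [hq : Fact q.Prime]
    (c : CopHyp p q V H Y) {B : Subgroup G} (hBH : B ≤ H) (hB : IsTrv p V B) (K₀ : Subgroup G)
    (hfix : H ⊓ Subgroup.centralizer (Y : Set G) ≤ K₀) (hBK : B ≤ K₀) :
    ⁅ppc p H, B⁆ ⊔ B ≤ K₀ := by
  set Q := ppc p H with hQ
  set E := ⁅Q, B⁆ ⊔ B with hE
  set M := K₀ ⊓ E with hM
  have hEM : E ≤ Subgroup.normalizer (M : Set G) := by
    apply Cfsg.Agent.Helper5.le_normalizer_of_conj_mem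
    intro e he m hm
    obtain ⟨d, hd, hr⟩ := c.exists_fixed_cover hBH hB he
    have hdK : d ∈ K₀ := hfix hd
    have hE1 : e * m * e⁻¹ ∈ E := E.mul_mem (E.mul_mem he hm.2) (E.inv_mem he)
    have h1 := Subgroup.mem_centralizer_iff.1 hr.2 _ hE1
    have h2 : d * m * d⁻¹ = e * m * e⁻¹ := by
      calc d * m * d⁻¹ = (d * e⁻¹) * (e * m * e⁻¹) * (d * e⁻¹)⁻¹ := by group
        _ = (e * m * e⁻¹) * (d * e⁻¹) * (d * e⁻¹)⁻¹ := by rw [h1]
        _ = e * m * e⁻¹ := by group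
    refine ⟨?_, hE1⟩
    rw [← h2]
    exact K₀.mul_mem (K₀.mul_mem hdK hm.1) (K₀.inv_mem hdK)
  have hBM : B ≤ M := le_inf hBK le_sup_right
  have hBQ : B ≤ Subgroup.normalizer (Q : Set G) := hBH.trans (le_normalizer_ppc p H)
  have hcop : (Nat.card B).Coprime (Nat.card Q) := by
    rw [hB.card]; exact (card_ppc_coprime p H).symm
  haveI : Group.IsNilpotent ↥B := hB.isPGroup.isNilpotent
  have hsolv : Group.IsSolvable ↥B ∨ Group.IsSolvable ↥Q := Or.inl inferInstance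
  have h3 := coprime_commutator_commutator B Q hBQ hcop hsolv
  have h4 : ⁅Q, B⁆ ≤ M := by
    rw [← h3]
    refine (Subgroup.commutator_mono (le_sup_left : ⁅Q, B⁆ ≤ E) hBM).trans ?_
    rw [Subgroup.commutator_comm]
    exact Subgroup.le_normalizer_iff_commutator_le_left.1 hEM
  exact (sup_le h4 hBM).trans inf_le_left

/-- The join of the components contained in `K₀`. -/
noncomputable def goodSup (p : ℕ) (V H K₀ : Subgroup G) : Subgroup G :=
  ⨆ B : {B : Subgroup G // B ≤ H ∧ IsTrv p V B ∧ ⁅ppc p H, B⁆ ⊔ B ≤ K₀},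
    ⁅ppc p H, (B : Subgroup G)⁆ ⊔ (B : Subgroup G)

theorem goodSup_le (p : ℕ) (V H K₀ : Subgroup G) : goodSup p V H K₀ ≤ K₀ :=
  iSup_le fun B => B.2.2.2

theorem le_normalizer_goodSup [Finite G] [hp : Fact p.Prime] (c : CopHyp p q V H Y)
    (K₀ : Subgroup G) : H ≤ Subgroup.normalizer (goodSup p V H K₀ : Set G) := by
  intro h hh
  rw [Subgroup.mem_normalizer_iff_map_conj_eq]
  unfold goodSup
  rw [Subgroup.map_iSup]
  congr 1
  funext B
  exact Subgroup.mem_normalizer_iff_map_conj_eq.1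
    (c.hyp.le_normalizer_E c.hS3 B.2.1 B.2.2.1 hh)

theorem mem_normalizer_goodSup [Finite G] (K₀ : Subgroup G) {n : G} (hnV : n ∈ Subgroup.normalizer (V : Set G))
    (hnH : n ∈ Subgroup.normalizer (H : Set G)) (hnK : n ∈ K₀) :
    n ∈ Subgroup.normalizer (goodSup p V H K₀ : Set G) := by
  apply Cfsg.Agent.Helper5.mem_normalizer_of_conj_mem
  have hle : (goodSup p V H K₀).map (MulAut.conj n).toMonoidHom ≤ goodSup p V H K₀ := by
    unfold goodSup
    rw [Subgroup.map_iSup]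
    apply iSup_le
    intro B
    rw [EA_map_conj p H B.1 hnH]
    have hB' : (B : Subgroup G).map (MulAut.conj n).toMonoidHom ≤ H :=
      map_conj_le_of_mem_normalizer B.2.1 hnH
    have hT' : IsTrv p V ((B : Subgroup G).map (MulAut.conj n).toMonoidHom) := B.2.2.1.conj hnV
    have hK' : ⁅ppc p H, (B : Subgroup G).map (MulAut.conj n).toMonoidHom⁆ ⊔
        (B : Subgroup G).map (MulAut.conj n).toMonoidHom ≤ K₀ := by
      rw [← EA_map_conj p H B.1 hnH]
      rintro _ ⟨x, hx, rfl⟩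
      exact K₀.mul_mem (K₀.mul_mem hnK (B.2.2.2 hx)) (K₀.inv_mem hnK)
    exact le_iSup (fun B : {B : Subgroup G // B ≤ H ∧ IsTrv p V B ∧ ⁅ppc p H, B⁆ ⊔ B ≤ K₀} =>
      ⁅ppc p H, (B : Subgroup G)⁆ ⊔ (B : Subgroup G)) ⟨_, hB', hT', hK'⟩
  intro x hx
  exact hle ⟨x, hx, rfl⟩

/-- Best offenders inside `K₀` lie in the join of the components inside `K₀`. -/
theorem best_le_goodSup [Finite G] [hp : Fact p.Prime] [hq : Fact q.Prime]
    (c : CopHyp p q V H Y) (K₀ : Subgroup G)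
    (hfix : H ⊓ Subgroup.centralizer (Y : Set G) ≤ K₀) {A : Subgroup G} (hAH : A ≤ H)
    (hA : Cfsg.IsBestOffenderOn p V A) (hAK : A ≤ K₀) : A ≤ goodSup p V H K₀ := by
  obtain ⟨k, Bi, hBi, -, hsup⟩ := c.hyp.decomp _ A rfl hAH hA
  rw [← hsup]
  apply iSup_le
  intro i
  have hiH := (hBi i).1.trans hAH
  have hT := c.hyp.isTrv_of_isMinBest hiH (hBi i).2
  have hE := c.EA_le_of_le hiH hT K₀ hfix ((hBi i).1.trans hAK)
  exact (le_sup_right : Bi i ≤ ⁅ppc p H, Bi i⁆ ⊔ Bi i).trans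
    (le_iSup (fun B : {B : Subgroup G // B ≤ H ∧ IsTrv p V B ∧ ⁅ppc p H, B⁆ ⊔ B ≤ K₀} =>
      ⁅ppc p H, (B : Subgroup G)⁆ ⊔ (B : Subgroup G)) ⟨Bi i, hiH, hT, hE⟩)

end CopHyp

end Cfsg.Agent.Helper1.FFact
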