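import Mathlib
import Cfsg.Prelude.Def_PLocal
import Cfsg.Agent.Helper1.FFCoprimeC
import Cfsg.Agent.Helper1.FFCoprimeE

set_option autoImplicit false

/-!
Kurzweil–Stellmacher 9.3.10: generation by the normalizer of `J(S)`, the centralizer of `Ω₁(Z(S))`
and the fixed points of a coprime operator group.
-/

namespace Cfsg.Agent.Helper1

open scoped Pointwise

universe u

section general

variable {G : Type u} [Group G]

/-- Frattini argument for the Thompson subgroup of a Sylow subgroup. -/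
theorem frattini_thompson [Finite G] {p : ℕ} [Fact p.Prime] (S : Sylow p G) (L : Subgroup G)
    [hLn : L.Normal] (hJL : Cfsg.thompsonSubgroupOf p (S : Subgroup G) ≤ L) :
    L ⊔ Subgroup.normalizer (Cfsg.thompsonSubgroupOf p (S : Subgroup G) : Set G) = ⊤ := by
  obtain ⟨Q, hQ⟩ := sylow_inf_subnormal p L hLn.isSubnormal S
  have hQmap : (Q : Subgroup L).map L.subtype = (S : Subgroup G) ⊓ L := by
    rw [hQ, Subgroup.subgroupOf_map_subtype]
  have hfr := Sylow.normalizer_sup_eq_top Q
  rw [hQmap, sup_comm] at hfr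
  rw [eq_top_iff, ← hfr]
  apply sup_le_sup_left
  intro n hn
  have hle : (Cfsg.thompsonSubgroupOf p (S : Subgroup G)).map (MulAut.conj n).toMonoidHom ≤
      (S : Subgroup G) := by
    rintro _ ⟨y, hy, rfl⟩
    have hyQ : y ∈ (S : Subgroup G) ⊓ L :=
      ⟨Cfsg.Agent.Lead.thompsonSubgroupOf_le p _ hy, hJL hy⟩
    have := (Subgroup.mem_normalizer_iff.1 hn y).1 hyQ
    exact this.1
  have heq := Cfsg.Agent.Lead.thompsonSubgroupOf_map_conj_eq p (S : Subgroup G) n hle
  apply mem_normalizer_of_conj_smul_eq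
  rw [conj_smul_eq_map]
  exact heq

/-- `J(S) ≤ L` as soon as `L` contains the elementary abelian subgroups of maximal order of `G`
lying in `S`. -/
theorem thompsonSubgroupOf_le_of_forall [Finite G] {p : ℕ} [Fact p.Prime] (S : Sylow p G)
    (L : Subgroup G)
    (h : ∀ A ∈ Cfsg.maxElementaryAbelianSubgroups p G, A ≤ (S : Subgroup G) → A ≤ L) :
    Cfsg.thompsonSubgroupOf p (S : Subgroup G) ≤ L := by
  obtain ⟨A1, hA1⟩ := maxElementaryAbelianSubgroups_nonempty (G := G) p
  obtain ⟨Q, hQ⟩ := (isElementaryAbelian_isPGroup hA1.1).exists_le_sylow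
  obtain ⟨g, hg⟩ := MulAction.exists_smul_eq G Q S
  have hA0 : MulAut.conj g • A1 ∈ Cfsg.maxElementaryAbelianSubgroups p G := by
    refine ⟨?_, ?_⟩
    · rw [conj_smul_eq_map]; exact IsElementaryAbelian_map hA1.1 _
    · intro B hB
      rw [card_conj_smul]
      exact hA1.2 B hB
  have hA0S : MulAut.conj g • A1 ≤ S := by
    rw [← hg, Sylow.coe_subgroup_smul]
    exact Subgroup.pointwise_smul_le_pointwise_smul_iff.2 hQ
  rw [Cfsg.thompsonSubgroupOf, Subgroup.map_le_iff_le_comap]
  apply sSup_le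
  intro A' hA'
  rw [← Subgroup.map_le_iff_le_comap]
  exact h _ ((maxEA_transfer (S : Subgroup G) _ hA0 hA0S).1 A' hA') (Subgroup.map_subtype_le _)

theorem thompsonSubgroupOf_sylow_le [Finite G] {p : ℕ} [Fact p.Prime] (S : Sylow p G) :
    Cfsg.thompsonSubgroupOf p (S : Subgroup G) ≤ Cfsg.thompsonSubgroup p G := by
  rw [thompsonSubgroup_eq_iSup_sylow]
  exact le_iSup (fun S : Sylow p G => Cfsg.thompsonSubgroupOf p (S : Subgroup G)) S

end general

namespace Hol

open SemidirectProduct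

variable {G : Type u} [Group G]

set_option maxHeartbeats 1600000 in
/-- K-S 9.3.10 for a characteristic elementary abelian `V` of `K` with `O_p(K / C_K(V)) = 1`. -/
theorem coprime_generation [Finite G] {p q : ℕ} [hp : Fact p.Prime] [hq : Fact q.Prime]
    (K X : Subgroup G) (V : Subgroup ↥K) [hV : V.Characteristic]
    (hXK : X ≤ Subgroup.normalizer (K : Set G)) (hX : Cfsg.IsElementaryAbelian q X)
    (hqK : ¬ q ∣ Nat.card K) (hVe : Cfsg.IsElementaryAbelian p V)
    (hsep : Cfsg.IsPSolvable p ↥K)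
    (hOp : ∀ D : Subgroup ↥K, D.Normal → Subgroup.centralizer (V : Set ↥K) ≤ D →
      (∃ k : ℕ, (Subgroup.centralizer (V : Set ↥K)).relIndex D = p ^ k) →
      D = Subgroup.centralizer (V : Set ↥K))
    (S : Sylow p ↥K) (K₀ : Subgroup ↥K)
    (hN : Subgroup.normalizer (Cfsg.thompsonSubgroupOf p (S : Subgroup ↥K) : Set ↥K) ≤ K₀)
    (hC : Subgroup.centralizer (V : Set ↥K) ≤ K₀)
    (hCX : (Subgroup.centralizer (X : Set G)).subgroupOf K ≤ K₀) : K₀ = ⊤ := by
  have c := copHyp_map K V hXK hX hqK hVe hsep hOp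
  set J := Cfsg.thompsonSubgroup p ↥K with hJdef
  haveI hJc : J.Characteristic := thompsonSubgroup_characteristic p
  haveI hJn : J.Normal := inferInstance
  set ℋ := J.map (psi V) with hℋ
  set Y := YX K V X with hY
  set JS := Cfsg.thompsonSubgroupOf p (S : Subgroup ↥K) with hJS
  set NJ := Subgroup.normalizer (JS : Set ↥K) with hNJ
  set Kb := K₀.map (psi V) with hKb
  have hker : (psi V).ker ≤ K₀ := by rw [ker_psi]; exact hC
  have hfix : ℋ ⊓ Subgroup.centralizer (Y : Set (HolG V)) ≤ Kb := by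
    intro d hd
    have hrange : d ∈ (psi V).range := (Subgroup.map_le_range _ _) hd.1
    obtain ⟨c', hcX, hc'⟩ := exists_lift K V hXK hX hqK hrange hd.2
    exact ⟨c', hCX (Subgroup.mem_subgroupOf.2 hcX), hc'⟩
  set P := FFact.CopHyp.goodSup p (VV V) ℋ Kb with hP
  have hPK : P ≤ Kb := FFact.CopHyp.goodSup_le p (VV V) ℋ Kb
  -- stage 1
  have hJSJ : JS ≤ J := thompsonSubgroupOf_sylow_le S
  haveI hkn : ((psi V).ker).Normal := MonoidHom.normal_ker _
  haveI hL₁n : (J ⊔ (psi V).ker).Normal := Subgroup.sup_normal J (psi V).ker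
  have hfr1 := frattini_thompson S (J ⊔ (psi V).ker) (hJSJ.trans le_sup_left)
  have hψN : ∀ k : ↥K, psi V k ∈ Subgroup.normalizer (P : Set (HolG V)) := by
    intro k
    have hk : k ∈ (J ⊔ (psi V).ker) ⊔ NJ := by rw [hfr1]; exact Subgroup.mem_top k
    have hnorm1 : NJ ≤ Subgroup.normalizer ((J ⊔ (psi V).ker : Subgroup ↥K) : Set ↥K) := by
      rw [Subgroup.normalizer_eq_top]; exact le_top
    obtain ⟨l, hl, n, hn, rfl⟩ := mem_sup_of_le_normalizer hnorm1 hk
    have hnorm2 : (psi V).ker ≤ Subgroup.normalizer (J : Set ↥K) := by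
      rw [Subgroup.normalizer_eq_top]; exact le_top
    obtain ⟨j, hj, c', hc', rfl⟩ := mem_sup_of_le_normalizer hnorm2 hl
    rw [map_mul, map_mul, MonoidHom.mem_ker.1 hc', mul_one]
    apply Subgroup.mul_mem
    · exact FFact.CopHyp.le_normalizer_goodSup c Kb (Subgroup.mem_map_of_mem _ hj)
    · apply FFact.CopHyp.mem_normalizer_goodSup Kb
      · rw [Subgroup.normalizer_eq_top]; exact Subgroup.mem_top _
      · exact psi_range_le_normalizer_map V J ⟨n, rfl⟩
      · exact Subgroup.mem_map_of_mem _ (hN hn)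
  set L := P.comap (psi V) with hL
  haveI hLn : L.Normal := by
    constructor
    intro l hl k
    show psi V (k * l * k⁻¹) ∈ P
    rw [map_mul, map_mul, map_inv]
    exact (Subgroup.mem_normalizer_iff.1 (hψN k) _).1 hl
  have hJSL : JS ≤ L := by
    apply thompsonSubgroupOf_le_of_forall
    intro A hA hAS
    have hAJS : A ≤ JS := le_thompsonSubgroupOf (S : Subgroup ↥K) A hA hAS
    have hAK₀ : A ≤ K₀ := (hAJS.trans Subgroup.le_normalizer).trans hN
    have hbest := isBestOffenderOn_map V (isBestOffenderOn_of_maxEA V hVe A hA)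
    have hAℋ : A.map (psi V) ≤ ℋ := Subgroup.map_mono (le_thompsonSubgroup hA)
    have := FFact.CopHyp.best_le_goodSup c Kb hfix hAℋ hbest (Subgroup.map_mono hAK₀)
    rw [Subgroup.map_le_iff_le_comap] at this
    exact this
  have hLK : L ≤ K₀ := by
    intro l hl
    obtain ⟨k₀, hk₀, hk₀l⟩ := hPK hl
    have h1 : k₀⁻¹ * l ∈ (psi V).ker := by
      rw [MonoidHom.mem_ker, map_mul, map_inv, hk₀l, inv_mul_cancel]
    have h2 : l = k₀ * (k₀⁻¹ * l) := by group
    rw [h2]
    exact K₀.mul_mem hk₀ (hker h1)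
  have hfr2 := frattini_thompson S L hJSL
  rw [eq_top_iff, ← hfr2]
  exact sup_le hLK hN

end Hol

end Cfsg.Agent.Helper1
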