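import Mathlib
import Cfsg.Prelude.Def_PLocal
import Cfsg.Agent.Helper1.FFGlobal1
import Cfsg.Agent.Helper1.ThompsonSub2

set_option autoImplicit false

/-!
`[Ω₁(Z(J(C_G(V)))), J(G)] ≤ V` for a normal elementary abelian `V` of a `p`-solvable group `G` with
`O_p(G / C_G(V)) = 1`.
-/

namespace Cfsg.Agent.Helper1.Hol

open scoped Pointwise commutatorElement

open Cfsg.Agent.Helper1 SemidirectProduct

universe u

variable {G : Type u} [Group G]

theorem commutator_le_iff_le_comap_centralizer (N : Subgroup G) [N.Normal] (X Y : Subgroup G) :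
    ⁅X, Y⁆ ≤ N ↔ Y ≤ (Subgroup.centralizer ((X.map (QuotientGroup.mk' N) :
      Subgroup (G ⧸ N)) : Set (G ⧸ N))).comap (QuotientGroup.mk' N) := by
  rw [← Subgroup.map_le_iff_le_comap, ← Subgroup.le_centralizer_iff,
    ← Subgroup.commutator_eq_bot_iff_le_centralizer, ← Subgroup.map_commutator,
    Subgroup.map_eq_bot_iff, QuotientGroup.ker_mk']

/-- The subgroup form of `O_p(G / C) = 1`. -/
theorem eq_of_pCore_quotient_eq_bot [Finite G] {p : ℕ} [Fact p.Prime] (C : Subgroup G) [C.Normal]
    (hO : Cfsg.pCore p (G ⧸ C) = ⊥) (D : Subgroup G) (hDn : D.Normal) (hCD : C ≤ D)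
    (hk : ∃ k : ℕ, C.relIndex D = p ^ k) : D = C := by
  obtain ⟨k, hk⟩ := hk
  apply le_antisymm _ hCD
  have hmapn : (D.map (QuotientGroup.mk' C)).Normal :=
    hDn.map _ (QuotientGroup.mk'_surjective C)
  have hmapp : IsPGroup p (D.map (QuotientGroup.mk' C)) := by
    apply IsPGroup.of_card (n := k)
    rw [← Subgroup.relIndex_ker, QuotientGroup.ker_mk', hk]
  have hle := Cfsg.Agent.Helper5.le_pCore hmapn hmapp
  rw [hO, le_bot_iff, Subgroup.map_eq_bot_iff, QuotientGroup.ker_mk'] at hle
  exact hle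

set_option maxHeartbeats 1600000 in
/-- S0619. -/
theorem commutator_omegaCenterThompson_le [Finite G] {p : ℕ} [hp : Fact p.Prime]
    (hsep : Cfsg.IsPSolvable p G) (V : Subgroup G) [hVn : V.Normal]
    (hV : Cfsg.IsElementaryAbelian p V)
    (hO : Cfsg.pCore p (G ⧸ Subgroup.centralizer (V : Set G)) = ⊥) :
    ⁅Cfsg.omegaOne p (Cfsg.centerThompsonOf p (Subgroup.centralizer (V : Set G))),
      Cfsg.thompsonSubgroup p G⁆ ≤ V := by
  set C := Subgroup.centralizer (V : Set G) with hC
  haveI hCn : C.Normal := Subgroup.normal_centralizer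
  have hOp := eq_of_pCore_quotient_eq_bot C hO
  have h := hyp_map V hV hsep hOp ⊤
  set Z₁ := Cfsg.omegaOne p (Cfsg.centerThompsonOf p C) with hZ₁
  have hVC : V ≤ C := le_centralizer_self_of_isElementaryAbelian hV
  -- generators of `Z₁` centralize every maximal elementary abelian subgroup inside `C`
  have key1 : ∀ x ∈ Cfsg.centerThompsonOf p C, ∀ B ∈ Cfsg.maxElementaryAbelianSubgroups p G,
      B ≤ C → x ∈ Subgroup.centralizer (B : Set G) := by
    intro x hx B hB hBC
    exact Subgroup.centralizer_le (le_thompsonSubgroupOf C B hB hBC) hx.2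
  have hZ₁le : Z₁ ≤ Cfsg.centerThompsonOf p C := by
    rw [hZ₁, Cfsg.omegaOne, Subgroup.closure_le]
    intro x hx
    exact hx.1
  rw [Cfsg.thompsonSubgroup, commutator_le_iff_le_comap_centralizer]
  apply sSup_le
  intro A hA
  rw [← commutator_le_iff_le_comap_centralizer]
  have hAc : A ≤ Subgroup.centralizer (A : Set G) :=
    le_centralizer_self_of_isElementaryAbelian hA.1
  by_cases hAC : A ≤ C
  · have : ⁅Z₁, A⁆ = ⊥ := by
      rw [Subgroup.commutator_eq_bot_iff_le_centralizer]
      intro z hz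
      exact key1 z (hZ₁le hz) A hA hAC
    rw [this]; exact bot_le
  · have hbest := isBestOffenderOn_map V (isBestOffenderOn_of_maxEA V hV A hA)
    have hA1 : A.map (psi V) ≠ ⊥ := by
      intro hb
      apply hAC
      intro a ha
      rw [hC, ← mem_ker_psi_iff, MonoidHom.mem_ker]
      have : psi V a ∈ A.map (psi V) := Subgroup.mem_map_of_mem _ ha
      rw [hb, Subgroup.mem_bot] at this
      exact this
    have hcb := h.card_best (Subgroup.map_mono le_top) hbest hA1
    rw [card_VV_inf_centralizer_map, card_VV] at hcb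
    have hc2 := card_map_mul_card_inf_ker (psi V) A
    rw [ker_psi] at hc2
    -- `C_V(A) ≤ A`
    have hVCA : V ⊓ Subgroup.centralizer (A : Set G) ≤ A := by
      have hB : Cfsg.IsElementaryAbelian p (A ⊔ (V ⊓ Subgroup.centralizer (A : Set G))) :=
        IsElementaryAbelian_sup hA.1 (IsElementaryAbelian_of_le hV inf_le_left) inf_le_right
      have h1 := hA.2 _ hB
      have h2 : A = A ⊔ (V ⊓ Subgroup.centralizer (A : Set G)) :=
        Subgroup.eq_of_le_of_card_ge le_sup_left h1
      exact le_sup_right.trans h2.ge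
    have hAV : V ⊓ (A ⊓ C) = V ⊓ Subgroup.centralizer (A : Set G) := by
      apply le_antisymm
      · exact le_inf inf_le_left ((inf_le_right.trans inf_le_left).trans hAc)
      · exact le_inf inf_le_left (le_inf hVCA (inf_le_left.trans hVC))
    set A' := V ⊔ (A ⊓ C) with hA'
    have hA'card : Nat.card A' = Nat.card A := by
      have h1 := card_sup_mul_card_inf (N := V) (A := A ⊓ C)
        (by rw [Subgroup.normalizer_eq_top]; exact le_top)
      rw [hAV] at h1
      have hpos : 0 < Nat.card ↥(V ⊓ Subgroup.centralizer (A : Set G)) := Nat.card_pos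
      have h2 : Nat.card A' * Nat.card ↥(V ⊓ Subgroup.centralizer (A : Set G)) =
          Nat.card A * Nat.card ↥(V ⊓ Subgroup.centralizer (A : Set G)) := by
        rw [h1, ← hcb, ← hc2]; ring
      exact Nat.eq_of_mul_eq_mul_right hpos h2
    have hA'ea : Cfsg.IsElementaryAbelian p A' := by
      apply IsElementaryAbelian_sup hV (IsElementaryAbelian_of_le hA.1 inf_le_left)
      exact inf_le_right
    have hA'max : A' ∈ Cfsg.maxElementaryAbelianSubgroups p G :=
      ⟨hA'ea, fun B hB => (hA.2 B hB).trans hA'card.ge⟩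
    have hA'C : A' ≤ C := sup_le hVC inf_le_right
    have hZ₁A' : Z₁ ≤ A' := by
      rw [hZ₁, Cfsg.omegaOne, Subgroup.closure_le]
      rintro x ⟨hx, hxp⟩
      have hxc := key1 x hx A' hA'max hA'C
      have hB : Cfsg.IsElementaryAbelian p (A' ⊔ Subgroup.zpowers x) := by
        apply IsElementaryAbelian_sup hA'ea (isElementaryAbelian_zpowers hxp)
        rw [Subgroup.zpowers_le]; exact hxc
      have h1 := hA'max.2 _ hB
      have h2 : A' = A' ⊔ Subgroup.zpowers x := Subgroup.eq_of_le_of_card_ge le_sup_left h1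
      rw [SetLike.mem_coe, h2]
      exact (le_sup_right : Subgroup.zpowers x ≤ _) (Subgroup.mem_zpowers x)
    refine (Subgroup.commutator_mono hZ₁A' le_rfl).trans ?_
    rw [Subgroup.commutator_le]
    intro x hx a ha
    obtain ⟨v, hv, y, hy, rfl⟩ := mem_sup_of_le_normalizer (N := V) (A := A ⊓ C)
      (by rw [Subgroup.normalizer_eq_top]; exact le_top) hx
    have hya : y * a = a * y := Subgroup.mem_centralizer_iff.1 (hAc ha) y hy.1
    have h1 : ⁅v * y, a⁆ = v * (a * v⁻¹ * a⁻¹) := by
      rw [commutatorElement_def]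
      have : v * y * a * (v * y)⁻¹ * a⁻¹ = v * (y * a) * y⁻¹ * v⁻¹ * a⁻¹ := by group
      rw [this, hya]; group
    rw [h1]
    exact V.mul_mem hv (hVn.conj_mem _ (V.inv_mem hv) a)

end Cfsg.Agent.Helper1.Hol
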