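import Mathlib
import Cfsg.Agent.Helper1.FTF

/-!
Glauberman's Engel-condition theorem on control of transfer: the transfer computation.
-/

set_option autoImplicit false

universe u

namespace Cfsg.Agent.Helper1.FT

open Cfsg Cfsg.Agent.Lead Cfsg.Agent.Helper5.TF
open scoped commutatorElement

variable {p : ℕ}

/-- The Engel identity for a homomorphism whose values have order dividing `p`. -/
theorem engel_sum' [hp : Fact p.Prime] {S : Type*} [Group S] {A : Type*} [CommGroup A]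
    (τ : S →* S) (ρ : S →* A) (hρ : ∀ s, ρ s ^ p = 1) (s : S) :
    ρ ((fun x => x⁻¹ * τ x)^[p - 1] s) = ∏ i ∈ Finset.range p, ρ (τ^[i] s) := by
  have hA : ∀ a : ↥ρ.range, a ^ p = 1 := by
    rintro ⟨a, ⟨s, rfl⟩⟩
    apply Subtype.ext
    simp [hρ]
  have h := Cfsg.Agent.Helper1.engel_sum (p := p) hA τ ρ.rangeRestrict s
  have h2 := congrArg ρ.range.subtype h
  rw [map_prod] at h2
  simpa using h2

/-- Iterating the commutator map with a conjugate of a power of `u` stays in the conjugated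
iterated commutator chain. -/
theorem iter_comm_mem {X : Type*} [Group X] (R : Subgroup X) [hRn : R.Normal] (u g₀ w : X)
    (hw : w ∈ Subgroup.zpowers u) (x : X) (hx : x ∈ R) :
    ∀ k : ℕ, g₀⁻¹ * ((fun z => z⁻¹ * ((g₀ * w * g₀⁻¹) * z * (g₀ * w * g₀⁻¹)⁻¹))^[k] x) * g₀ ∈
      Cfsg.iterCommutator R (Subgroup.zpowers u) k := by
  intro k
  induction k with
  | zero =>
    show g₀⁻¹ * x * g₀ ∈ R
    have := hRn.conj_mem x hx g₀⁻¹
    simpa using this
  | succ k ih =>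
    rw [Function.iterate_succ_apply']
    set z := (fun z => z⁻¹ * ((g₀ * w * g₀⁻¹) * z * (g₀ * w * g₀⁻¹)⁻¹))^[k] x with hz
    show g₀⁻¹ * (z⁻¹ * ((g₀ * w * g₀⁻¹) * z * (g₀ * w * g₀⁻¹)⁻¹)) * g₀ ∈
      ⁅Cfsg.iterCommutator R (Subgroup.zpowers u) k, Subgroup.zpowers u⁆
    have e : g₀⁻¹ * (z⁻¹ * ((g₀ * w * g₀⁻¹) * z * (g₀ * w * g₀⁻¹)⁻¹)) * g₀ =
        ⁅(g₀⁻¹ * z * g₀)⁻¹, w⁆ := by
      rw [commutatorElement_def]; group
    rw [e]
    exact Subgroup.commutator_mem_commutator (Subgroup.inv_mem _ ih) hw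

/-- The transfer computation: for a chief factor `R / R₀` inside `O_p(X)` on which `u ∈ S ∖ O_p(X)`
satisfies the Engel condition, `R ∩ X' ≤ T R₀`. -/
theorem engel_step {X : Type*} [Group X] [Finite X] [hp : Fact p.Prime] (S : Sylow p X)
    (T : Subgroup X) (hcomm : ⁅(S : Subgroup X), (S : Subgroup X)⁆ ≤ T)
    (hH : ∀ H : Subgroup X, (S : Subgroup X) ≤ H → H ≠ ⊤ → ∀ h ∈ H, ∀ x ∈ Cfsg.pCore p X,
      x⁻¹ * (h⁻¹ * x * h) ∈ T)
    (u : X) (huS : u ∈ (S : Subgroup X)) (huQ : u ∉ Cfsg.pCore p X)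
    (R R₀ : Subgroup X) (hch : Cfsg.IsChiefFactor R R₀) (hRQ : R ≤ Cfsg.pCore p X)
    (hE : Cfsg.iterCommutator R (Subgroup.zpowers u) (p - 1) ≤ R₀)
    (y : X) (hyR : y ∈ R) (hy' : y ∈ commutator X) : y ∈ T ⊔ R₀ := by
  classical
  set Q := Cfsg.pCore p X with hQ
  haveI hQn : Q.Normal := pCore_normal p
  have hQS : Q ≤ (S : Subgroup X) := pCore_le_sylow S
  have hQp : IsPGroup p Q := pCore_isPGroup p
  have hlt := hch.1
  haveI hRn : R.Normal := hch.2.1
  haveI hR₀n : R₀.Normal := hch.2.2.1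
  have hpow := pow_mem_of_isChiefFactor hch (hQp.to_le hRQ)
  set F : Subgroup X := T ⊔ R₀ with hF
  set S₀ : Subgroup X := (S : Subgroup X) with hS₀
  set N : Subgroup ↥S₀ := F.subgroupOf S₀ with hN
  let φ : ↥S₀ →* (Abelianization ↥S₀ ⧸ N.map Abelianization.of) :=
    (QuotientGroup.mk' _).comp Abelianization.of
  have hφN : ∀ t : ↥S₀, t ∈ N → φ t = 1 := by
    intro t ht
    show (QuotientGroup.mk' _) (Abelianization.of t) = 1
    rw [QuotientGroup.mk'_apply, QuotientGroup.eq_one_iff]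
    exact ⟨t, ht, rfl⟩
  have hker : ∀ t : ↥S₀, φ t = 1 → t ∈ N := by
    intro t ht
    have h1 : Abelianization.of t ∈ N.map Abelianization.of :=
      (QuotientGroup.eq_one_iff _).mp ht
    obtain ⟨n, hn, hnt⟩ := h1
    have h2 : Abelianization.of (n⁻¹ * t) = 1 := by
      rw [map_mul, map_inv, hnt, inv_mul_cancel]
    have h3 : n⁻¹ * t ∈ commutator ↥S₀ := by
      rw [← Abelianization.ker_of]; exact h2
    have h4 : ((n⁻¹ * t : ↥S₀) : X) ∈ ⁅S₀, S₀⁆ := by
      rw [← Subgroup.map_subtype_commutator]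
      exact ⟨_, h3, rfl⟩
    have h5 : n⁻¹ * t ∈ N := Subgroup.mem_subgroupOf.mpr (le_sup_left (a := T) (hcomm h4))
    have := N.mul_mem hn h5
    rwa [mul_inv_cancel_left] at this
  -- the conjugation maps
  let cj : X → (↥Q →* ↥S₀) := fun g =>
    (Subgroup.inclusion hQS).comp (MulAut.conjNormal g⁻¹ : ↥Q ≃* ↥Q).toMonoidHom
  let ρ : X → (↥Q →* (Abelianization ↥S₀ ⧸ N.map Abelianization.of)) := fun g => φ.comp (cj g)
  have hcj : ∀ (g : X) (r : ↥Q), ((cj g r : ↥S₀) : X) = g⁻¹ * r * g := by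
    intro g r
    simp [cj]
  have hρS : ∀ (g s : X) (hs : s ∈ S₀) (r : ↥Q), ρ (g * s) r = ρ g r := by
    intro g s hs r
    have e : cj (g * s) r = (⟨s, hs⟩ : ↥S₀)⁻¹ * cj g r * ⟨s, hs⟩ := by
      apply Subtype.ext
      rw [hcj]
      simp only [Subgroup.coe_mul, Subgroup.coe_inv, hcj]
      group
    show φ (cj (g * s) r) = φ (cj g r)
    rw [e, map_mul, map_mul, map_inv, mul_comm, ← mul_assoc, mul_inv_cancel, one_mul]
  have hρx : ∀ (x g : X) (r : ↥Q), ρ (x * g) r = ρ g ((MulAut.conjNormal x⁻¹ : ↥Q ≃* ↥Q) r) := by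
    intro x g r
    have e : cj (x * g) r = cj g ((MulAut.conjNormal x⁻¹ : ↥Q ≃* ↥Q) r) := by
      apply Subtype.ext
      rw [hcj, hcj, MulAut.conjNormal_apply]
      group
    show φ (cj (x * g) r) = φ (cj g _)
    rw [e]
  have hρR₀ : ∀ (g : X) (r : ↥Q), (r : X) ∈ R₀ → ρ g r = 1 := by
    intro g r hr
    apply hφN
    apply Subgroup.mem_subgroupOf.mpr
    rw [hcj]
    have := hR₀n.conj_mem (r : X) hr g⁻¹
    rw [inv_inv] at this
    exact le_sup_right (a := T) this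
  have hyQ : y ∈ Q := hRQ hyR
  have hyS : y ∈ S₀ := hQS hyQ
  haveI : Fintype (X ⧸ S₀) := Fintype.ofFinite _
  let f : X ⧸ S₀ → (Abelianization ↥S₀ ⧸ N.map Abelianization.of) :=
    fun q => ρ (Quotient.out q) ⟨y, hyQ⟩
  have hf : ∀ g : X, f (g : X ⧸ S₀) = ρ g ⟨y, hyQ⟩ := by
    intro g
    obtain ⟨h, hh⟩ := QuotientGroup.mk_out_eq_mul S₀ g
    show ρ (Quotient.out (g : X ⧸ S₀)) ⟨y, hyQ⟩ = ρ g ⟨y, hyQ⟩
    have : Quotient.out (g : X ⧸ S₀) = g * h := hh
    rw [this]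
    exact hρS g h h.2 _
  -- the transfer as a product of `f`
  have hfix : ∀ q : X ⧸ S₀, y⁻¹ • q = q := by
    intro q
    induction q using QuotientGroup.induction_on with
    | H g =>
      show ((y⁻¹ * g : X) : X ⧸ S₀) = (g : X ⧸ S₀)
      rw [eq_comm, QuotientGroup.eq]
      have h1 : g⁻¹ * y⁻¹ * g ∈ Q := by
        have := hQn.conj_mem y⁻¹ (Q.inv_mem hyQ) g⁻¹
        simpa using this
      have : g⁻¹ * (y⁻¹ * g) = g⁻¹ * y⁻¹ * g := by group
      rw [this]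
      exact hQS h1
  have hout : ∀ q : X ⧸ S₀, ((Quotient.out q : X) : X ⧸ S₀) = q := fun q => QuotientGroup.out_eq' q
  have htr := transfer_eq_prod_section φ (fun q : X ⧸ S₀ => (Quotient.out q : X)) hout y
  have hterm : ∀ q : X ⧸ S₀,
      φ ⟨(Quotient.out q : X)⁻¹ * y * Quotient.out (y⁻¹ • q),
        transferSec_mem (fun q : X ⧸ S₀ => (Quotient.out q : X)) hout y q⟩ = f q := by
    intro q
    show _ = φ (cj (Quotient.out q) ⟨y, hyQ⟩)
    congr 1
    apply Subtype.ext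
    rw [hcj]
    simp only [hfix q]
  rw [Finset.prod_congr rfl (fun q _ => hterm q)] at htr
  have htr1 : MonoidHom.transfer φ y = 1 :=
    Abelianization.commutator_subset_ker (MonoidHom.transfer φ) hy'
  rw [htr1] at htr
  -- the weak closure of `u` in `S`
  set 𝒰X : Set X := {v | v ∈ S₀ ∧ ∃ g : X, v = g * u * g⁻¹} with h𝒰X
  set Us : Subgroup X := Subgroup.closure 𝒰X with hUs
  have hUS : Us ≤ S₀ := (Subgroup.closure_le _).mpr (fun v hv => hv.1)
  have huU : u ∈ Us := Subgroup.subset_closure ⟨huS, 1, by simp⟩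
  have hnormal_of : ∀ g : X, (∀ v ∈ 𝒰X, g⁻¹ * v * g ∈ S₀) →
      g ∈ Subgroup.normalizer (Us : Set X) := by
    intro g hg
    apply mem_normalizer_of_conjR_subset
    rw [conjR_coe, hUs, MonoidHom.map_closure]
    intro z hz
    refine (Subgroup.closure_le _).mpr ?_ hz
    rintro _ ⟨v, hv, rfl⟩
    apply Subgroup.subset_closure
    refine ⟨?_, ?_⟩
    · have := hg v hv
      simpa using this
    · obtain ⟨g₁, hg₁⟩ := hv.2
      refine ⟨g⁻¹ * g₁, ?_⟩
      simp only [MulEquiv.coe_toMonoidHom, MulAut.conj_apply, hg₁]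
      group
  set HN : Subgroup X := Subgroup.normalizer (Us : Set X) with hHN
  have hSHN : S₀ ≤ HN := by
    intro s hs
    apply hnormal_of
    intro v hv
    exact S₀.mul_mem (S₀.mul_mem (S₀.inv_mem hs) hv.1) hs
  have hHNne : HN ≠ ⊤ := by
    intro htop
    have hUn : Us.Normal := Subgroup.normalizer_eq_top_iff.mp htop
    exact huQ (le_pCore hUn (S.2.to_le hUS) huU)
  have hPp : IsPGroup p ↥Us := S.2.to_le hUS
  set 𝒰P : Set ↥Us := {v | (v : X) ∈ 𝒰X} with h𝒰P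
  have hgen : Subgroup.closure 𝒰P = ⊤ := Subgroup.closure_closure_coe_preimage
  -- evaluation at fixed points
  have hfixed : ∀ q : X ⧸ S₀, q ∈ MulAction.fixedPoints ↥Us (X ⧸ S₀) → f q = φ ⟨y, hyS⟩ := by
    intro q hq
    obtain ⟨g, rfl⟩ := QuotientGroup.mk_surjective q
    have hg : g ∈ HN := by
      apply hnormal_of
      intro v hv
      have hvU : v ∈ Us := Subgroup.subset_closure hv
      have h1 : (⟨v, hvU⟩ : ↥Us)⁻¹ • ((g : X) : X ⧸ S₀) = ((g : X) : X ⧸ S₀) := hq _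
      have h2 : ((v⁻¹ * g : X) : X ⧸ S₀) = ((g : X) : X ⧸ S₀) := h1
      have h3 := QuotientGroup.eq.mp h2
      have e : (v⁻¹ * g)⁻¹ * g = g⁻¹ * v * g := by group
      rwa [e] at h3
    rw [hf]
    have hmem : y⁻¹ * (g⁻¹ * y * g) ∈ T := hH HN hSHN hHNne g hg y hyQ
    have hmemS : y⁻¹ * (g⁻¹ * y * g) ∈ S₀ := by
      have h1 : g⁻¹ * y * g ∈ Q := by
        have := hQn.conj_mem y hyQ g⁻¹
        simpa using this
      exact hQS (Q.mul_mem (Q.inv_mem hyQ) h1)
    have e : cj g ⟨y, hyQ⟩ = (⟨y, hyS⟩ : ↥S₀) * ⟨y⁻¹ * (g⁻¹ * y * g), hmemS⟩ := by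
      apply Subtype.ext
      rw [hcj]
      simp only [Subgroup.coe_mul]
      group
    show φ (cj g ⟨y, hyQ⟩) = _
    rw [e, map_mul, hφN ⟨y⁻¹ * (g⁻¹ * y * g), hmemS⟩
      (Subgroup.mem_subgroupOf.mpr (le_sup_left (a := T) hmem)), mul_one]
  -- vanishing of the norm along conjugates of `u`
  have hnorm : ∀ v ∈ 𝒰P, ∀ q : X ⧸ S₀, ∏ j ∈ Finset.range p, f (v ^ j • q) = 1 := by
    rintro ⟨v, hvU⟩ hv q
    obtain ⟨g, rfl⟩ := QuotientGroup.mk_surjective q
    obtain ⟨hvS, g₀, hvg₀⟩ := (hv : v ∈ 𝒰X)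
    let τ : ↥R →* ↥R := (MulAut.conjNormal v⁻¹ : ↥R ≃* ↥R).toMonoidHom
    let ρR : ↥R →* (Abelianization ↥S₀ ⧸ N.map Abelianization.of) :=
      (ρ g).comp (Subgroup.inclusion hRQ)
    have hτ : ∀ (j : ℕ) (r : ↥R), ((τ^[j] r : ↥R) : X) = (v ^ j)⁻¹ * r * v ^ j := by
      intro j r
      induction j with
      | zero => simp
      | succ j ih =>
        rw [Function.iterate_succ_apply']
        show ((MulAut.conjNormal v⁻¹ : ↥R ≃* ↥R) (τ^[j] r) : X) = _
        rw [MulAut.conjNormal_apply, ih, pow_succ]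
        group
    have hρp : ∀ r : ↥R, ρR r ^ p = 1 := by
      intro r
      rw [← map_pow]
      apply hρR₀
      exact hpow r r.2
    have hes := engel_sum' τ ρR hρp ⟨y, hyR⟩
    have hL : ρR ((fun x => x⁻¹ * τ x)^[p - 1] ⟨y, hyR⟩) = 1 := by
      apply hρR₀
      have hcoe : ∀ k : ℕ, (((fun x => x⁻¹ * τ x)^[k] (⟨y, hyR⟩ : ↥R) : ↥R) : X) =
          (fun z => z⁻¹ * ((g₀ * u⁻¹ * g₀⁻¹) * z * (g₀ * u⁻¹ * g₀⁻¹)⁻¹))^[k] y := by
        intro k
        induction k with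
        | zero => rfl
        | succ k ih =>
          rw [Function.iterate_succ_apply', Function.iterate_succ_apply', ← ih]
          have hτ1 : ∀ z : ↥R, ((τ z : ↥R) : X) = v⁻¹ * z * v⁻¹⁻¹ := fun z => rfl
          have hvg₀' : v = g₀ * u * g₀⁻¹ := hvg₀
          simp only [Subgroup.coe_mul, Subgroup.coe_inv, hτ1]
          rw [hvg₀']
          group
      have h1 := iter_comm_mem R u g₀ u⁻¹ (Subgroup.inv_mem _ (Subgroup.mem_zpowers u)) y hyR
        (p - 1)
      have h2 := hE h1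
      show ((Subgroup.inclusion hRQ ((fun x => x⁻¹ * τ x)^[p - 1] ⟨y, hyR⟩) : ↥Q) : X) ∈ R₀
      rw [Subgroup.coe_inclusion, hcoe]
      have := hR₀n.conj_mem _ h2 g₀
      have e : g₀ * (g₀⁻¹ * (fun z => z⁻¹ * ((g₀ * u⁻¹ * g₀⁻¹) * z * (g₀ * u⁻¹ * g₀⁻¹)⁻¹))^[p - 1] y
          * g₀) * g₀⁻¹ =
          (fun z => z⁻¹ * ((g₀ * u⁻¹ * g₀⁻¹) * z * (g₀ * u⁻¹ * g₀⁻¹)⁻¹))^[p - 1] y := by group
      rwa [e] at this
    rw [hL] at hes
    rw [hes]
    refine Finset.prod_congr rfl (fun j _ => ?_)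
    have h1 : (⟨v, hvU⟩ : ↥Us) ^ j • ((g : X) : X ⧸ S₀) = ((v ^ j * g : X) : X ⧸ S₀) := rfl
    rw [h1, hf, hρx]
    show ρ g _ = ρ g _
    congr 1
    apply Subtype.ext
    rw [MulAut.conjNormal_apply, Subgroup.coe_inclusion, hτ]
    simp
  -- split the product
  have hsplit := Finset.prod_filter_mul_prod_filter_not (Finset.univ : Finset (X ⧸ S₀))
    (fun q => q ∈ MulAction.fixedPoints ↥Us (X ⧸ S₀)) f
  have h1 : ∏ q ∈ Finset.univ.filter (fun q => q ∈ MulAction.fixedPoints ↥Us (X ⧸ S₀)), f q =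
      φ ⟨y, hyS⟩ ^ (Finset.univ.filter
        (fun q => q ∈ MulAction.fixedPoints ↥Us (X ⧸ S₀))).card := by
    rw [Finset.prod_congr rfl (fun q hq => hfixed q (Finset.mem_filter.mp hq).2), Finset.prod_const]
  have h2 : ∏ q ∈ Finset.univ.filter (fun q => ¬ q ∈ MulAction.fixedPoints ↥Us (X ⧸ S₀)), f q =
      1 := by
    apply prod_eq_one_of_orbits (P := ↥Us) f _ _ rfl
    · intro q hq x
      rw [Finset.mem_filter] at hq ⊢
      refine ⟨Finset.mem_univ _, fun hfx => hq.2 ?_⟩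
      intro z
      have h3 := hfx (x * z * x⁻¹)
      rw [smul_smul, inv_mul_cancel_right, mul_smul] at h3
      exact smul_left_cancel x h3
    · intro q hq
      rw [Finset.mem_filter] at hq
      apply prod_orbit_eq_one hPp f 𝒰P hgen hnorm q
      intro htop
      apply hq.2
      intro z
      have : z ∈ MulAction.stabilizer ↥Us q := by rw [htop]; exact Subgroup.mem_top z
      exact this
  rw [h1, h2, mul_one] at hsplit
  rw [← hsplit] at htr
  -- the number of fixed points is prime to `p`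
  have hcardfix : ¬ p ∣ (Finset.univ.filter
      (fun q => q ∈ MulAction.fixedPoints ↥Us (X ⧸ S₀))).card := by
    have h3 := hPp.card_modEq_card_fixedPoints (X ⧸ S₀)
    have h4 : Nat.card (MulAction.fixedPoints ↥Us (X ⧸ S₀)) = (Finset.univ.filter
        (fun q => q ∈ MulAction.fixedPoints ↥Us (X ⧸ S₀))).card := by
      rw [Nat.card_eq_fintype_card, Fintype.card_subtype]
    rw [h4, ← Subgroup.index_eq_card] at h3
    intro hd
    have h5 : p ∣ S₀.index := (Nat.modEq_zero_iff_dvd.mp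
      (h3.trans (Nat.modEq_zero_iff_dvd.mpr hd)))
    exact S.not_dvd_index h5
  obtain ⟨k, hk⟩ := (IsPGroup.iff_orderOf.mp S.2) ⟨y, hyS⟩
  rw [Subgroup.orderOf_mk] at hk
  have h5 : φ ⟨y, hyS⟩ ^ (p ^ k) = 1 := by
    rw [← map_pow]
    have : (⟨y, hyS⟩ : ↥S₀) ^ p ^ k = 1 := by
      apply Subtype.ext
      simp only [Subgroup.coe_pow, Subgroup.coe_one]
      rw [← hk, pow_orderOf_eq_one]
    rw [this, map_one]
  have hcop : Nat.Coprime (p ^ k) (Finset.univ.filter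
      (fun q => q ∈ MulAction.fixedPoints ↥Us (X ⧸ S₀))).card :=
    Nat.Coprime.pow_left k ((Nat.Prime.coprime_iff_not_dvd hp.out).mpr hcardfix)
  have h6 := pow_gcd_eq_one.mpr ⟨h5, htr.symm⟩
  rw [hcop.gcd_eq_one, pow_one] at h6
  exact Subgroup.mem_subgroupOf.mp (hker _ h6)

/-- Glauberman's Engel-condition theorem, core form: if every proper subgroup over `S` acts on
`O_p(X)` trivially modulo `T`, and some `u ∈ S ∖ O_p(X)` satisfies the `(p-1)`-Engel condition on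
every chief factor inside `O_p(X)`, then `O_p(X) ∩ X' ≤ T`. -/
theorem engel_core {X : Type*} [Group X] [Finite X] [hp : Fact p.Prime] (S : Sylow p X)
    (T : Subgroup X) (hcomm : ⁅(S : Subgroup X), (S : Subgroup X)⁆ ≤ T)
    (hTc : T ≤ commutator X)
    (hH : ∀ H : Subgroup X, (S : Subgroup X) ≤ H → H ≠ ⊤ → ∀ h ∈ H, ∀ x ∈ Cfsg.pCore p X,
      x⁻¹ * (h⁻¹ * x * h) ∈ T)
    (u : X) (huS : u ∈ (S : Subgroup X)) (huQ : u ∉ Cfsg.pCore p X)
    (hE : ∀ U V : Subgroup X, Cfsg.IsChiefFactor U V → U ≤ Cfsg.pCore p X →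
      Cfsg.iterCommutator U (Subgroup.zpowers u) (p - 1) ≤ V) :
    Cfsg.pCore p X ⊓ commutator X ≤ T := by
  have key : ∀ n : ℕ, ∀ R : Subgroup X, R.Normal → R ≤ Cfsg.pCore p X → Nat.card R = n →
      R ⊓ commutator X ≤ T := by
    intro n
    induction n using Nat.strong_induction_on with
    | _ n ih =>
      intro R hRn hRQ hcard
      by_cases hR : R = ⊥
      · rw [hR, bot_inf_eq]; exact bot_le
      obtain ⟨R₀, hch⟩ := exists_isChiefFactor_below hRn hR
      have hlt := hch.1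
      haveI hR₀n : R₀.Normal := hch.2.2.1
      have hclt : Nat.card R₀ < n := by
        rw [← hcard]
        exact lt_of_le_of_ne (Subgroup.card_le_of_le hlt.le)
          (fun h => hlt.ne (Subgroup.eq_of_le_of_card_ge hlt.le h.ge))
      have hIH := ih (Nat.card R₀) hclt R₀ hR₀n (hlt.le.trans hRQ) rfl
      rintro y ⟨hyR, hy'⟩
      have h1 := engel_step S T hcomm hH u huS huQ R R₀ hch hRQ (hE R R₀ hch hRQ) y hyR hy'
      obtain ⟨t, ht, r, hr, rfl⟩ := Subgroup.mem_sup_of_normal_right.mp h1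
      have hr' : r ∈ commutator X := by
        have := (commutator X).mul_mem ((commutator X).inv_mem (hTc ht)) hy'
        simpa using this
      exact T.mul_mem ht (hIH ⟨hr, hr'⟩)
  exact key _ _ (pCore_normal p) le_rfl rfl

end Cfsg.Agent.Helper1.FT
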