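import Mathlib
import Cfsg.Agent.Helper1.FTG
import Cfsg.Agent.Helper1.FTE

/-!
Glauberman's Engel-condition theorem on control of transfer: structure of a minimal failure
(`S1998`).
-/

set_option autoImplicit false

universe u

namespace Cfsg.Agent.Helper1.FT

open Cfsg Cfsg.Agent.Lead Cfsg.Agent.Helper5.TF
open scoped commutatorElement

variable {p : ℕ}

/-- From control in all proper sections to control in proper subgroups and proper quotients. -/
theorem hsub_hquot_of_hsec {G : Type u} [Group G] [Finite G] [Fact p.Prime]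
    (𝓦 : Set (∀ (Q : Type u) [Group Q], Subgroup Q))
    (h𝓦 : ∀ W ∈ 𝓦, Cfsg.IsCharPFunctor.{u} p W)
    (hsec : ∀ (K R : Subgroup G) [(R.subgroupOf K).Normal], (K = ⊤ → R ≠ ⊥) →
      Cfsg.FamilyControlsTransferIn p
        ((fun W => Cfsg.inducedFunctor (G := (↥K ⧸ R.subgroupOf K)) W) '' 𝓦) ⊤) :
    (∀ H : Subgroup G, H ≠ ⊤ → Cfsg.FamilyControlsTransferIn p (ind 𝓦 G) H) ∧
    (∀ (N : Subgroup G) [N.Normal], N ≠ ⊥ →
      Cfsg.FamilyControlsTransferIn p (ind 𝓦 (G ⧸ N)) ⊤) := by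
  constructor
  · intro H hH
    haveI : ((⊥ : Subgroup G).subgroupOf H).Normal := by
      rw [Subgroup.bot_subgroupOf]; infer_instance
    have h1 := hsec H ⊥ (fun h => absurd h hH)
    let e : (↥H ⧸ (⊥ : Subgroup G).subgroupOf H) ≃* ↥H :=
      (QuotientGroup.quotientMulEquivOfEq (Subgroup.bot_subgroupOf H)).trans
        QuotientGroup.quotientBot
    have h2 := tf_of_equiv 𝓦 h𝓦 e h1
    have h3 := tf_map_injective 𝓦 h𝓦 H.subtype H.subtype_injective h2
    rwa [Subgroup.range_subtype] at h3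
  · intro N _ hN
    haveI : (N.subgroupOf ⊤).Normal := inferInstance
    have h1 := hsec ⊤ N (fun _ => hN)
    have hmap : (N.subgroupOf ⊤).map (Subgroup.topEquiv : ↥(⊤ : Subgroup G) ≃* G).toMonoidHom =
        N := by
      ext x
      constructor
      · rintro ⟨y, hy, rfl⟩
        exact hy
      · intro hx
        exact ⟨⟨x, Subgroup.mem_top x⟩, hx, rfl⟩
    let e : (↥(⊤ : Subgroup G) ⧸ N.subgroupOf ⊤) ≃* G ⧸ N :=
      QuotientGroup.congr (N.subgroupOf ⊤) N Subgroup.topEquiv hmap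
    exact tf_of_equiv 𝓦 h𝓦 e h1

/-- A subgroup acting trivially on `D` modulo `D` normalizes `D`. -/
theorem le_normalizer_of_comm_mem {G : Type*} [Group G] (K D : Subgroup G)
    (h : ∀ k ∈ K, ∀ x ∈ D, x⁻¹ * (k⁻¹ * x * k) ∈ D) : K ≤ Subgroup.normalizer (D : Set G) := by
  intro k hk
  rw [Subgroup.mem_normalizer_iff]
  intro x
  constructor
  · intro hx
    have h1 := h k⁻¹ (K.inv_mem hk) x hx
    have := D.mul_mem hx h1
    have e : x * (x⁻¹ * (k⁻¹⁻¹ * x * k⁻¹)) = k * x * k⁻¹ := by group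
    rwa [e] at this
  · intro hx
    have h1 := h k hk _ hx
    have := D.mul_mem hx h1
    have e : k * x * k⁻¹ * ((k * x * k⁻¹)⁻¹ * (k⁻¹ * (k * x * k⁻¹) * k)) = x := by group
    rwa [e] at this

/-- `S1998`: the structure of a minimal failure of control of transfer. -/
theorem minimal_failure_structure {G : Type u} [Group G] [Finite G] [hp : Fact p.Prime]
    (S : Sylow p G) (𝓦 : Set (∀ (Q : Type u) [Group Q], Subgroup Q))
    (h𝓦 : ∀ W ∈ 𝓦, Cfsg.IsCharPFunctor.{u} p W) (hne : 𝓦.Nonempty)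
    (hsec : ∀ (K R : Subgroup G) [(R.subgroupOf K).Normal], (K = ⊤ → R ≠ ⊥) →
      Cfsg.FamilyControlsTransferIn p
        ((fun W => Cfsg.inducedFunctor (G := (↥K ⧸ R.subgroupOf K)) W) '' 𝓦) ⊤)
    (hG : ¬ Cfsg.FamilyControlsTransferIn p ((fun W => Cfsg.inducedFunctor (G := G) W) '' 𝓦) ⊤)
    (T M : Subgroup G)
    (hT : T = (⨆ W ∈ 𝓦, (S : Subgroup G) ⊓
      ⁅Subgroup.normalizer ((Cfsg.inducedFunctor (G := G) W (S : Subgroup G) : Subgroup G) : Set G),
        Subgroup.normalizer ((Cfsg.inducedFunctor (G := G) W (S : Subgroup G) : Subgroup G) :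
          Set G)⁆))
    (hM : M = Subgroup.normalizer ((T ⊓ Cfsg.pCore p G : Subgroup G) : Set G)) :
    Subgroup.centralizer ((Cfsg.pCore p G : Subgroup G) : Set G) ≤ Cfsg.pCore p G ∧
    (M ≠ ⊤ ∧ ∀ H : Subgroup G, (S : Subgroup G) ≤ H → H ≠ ⊤ → H ≤ M) ∧
    (⁅Cfsg.pCore p G, M⁆ ≤ Cfsg.pCore p G ⊓ ⁅M, M⁆ ∧
      Cfsg.pCore p G ⊓ ⁅M, M⁆ ≤ Cfsg.pCore p G ⊓ T) ∧
    ∀ u : G, u ∈ (S : Subgroup G) → u ∉ Cfsg.pCore p G →
      ∃ U V : Subgroup G, Cfsg.IsChiefFactor U V ∧ U ≤ Cfsg.pCore p G ∧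
        ¬ Cfsg.iterCommutator U (Subgroup.zpowers u) (p - 1) ≤ V := by
  obtain ⟨hsub, hquot⟩ := hsub_hquot_of_hsec 𝓦 h𝓦 hsec
  have hconj := ind_isConj h𝓦 G
  set Q := Cfsg.pCore p G with hQ
  haveI hQn : Q.Normal := pCore_normal p
  have hQS : Q ≤ (S : Subgroup G) := pCore_le_sylow S
  have hQp : IsPGroup p Q := pCore_isPGroup p
  have htg : (⨆ V ∈ ind 𝓦 G, (S : Subgroup G) ⊓
      ⁅(⊤ : Subgroup G) ⊓ Subgroup.normalizer ((V (S : Subgroup G) : Subgroup G) : Set G),
       (⊤ : Subgroup G) ⊓ Subgroup.normalizer ((V (S : Subgroup G) : Subgroup G) : Set G)⁆) = T := by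
    rw [hT]
    unfold ind
    rw [iSup_image]
    simp only [top_inf_eq]
  have hGind : ¬ Cfsg.FamilyControlsTransferIn p (ind 𝓦 G) ⊤ := hG
  have hnotle : ¬ ((S : Subgroup G) ⊓ ⁅(⊤ : Subgroup G), (⊤ : Subgroup G)⁆ ≤ T) := by
    intro h
    apply hGind
    apply tf_top_of_le _ S
    rw [htg]
    exact h
  -- PC
  have hpc : PC p G := by
    by_contra hnpc
    exact hGind (tf_step 𝓦 h𝓦 hnpc hsub hquot)
  obtain ⟨W₀, hW₀⟩ := hne
  have hV₀ : Cfsg.inducedFunctor (G := G) W₀ ∈ ind 𝓦 G := ⟨W₀, hW₀, rfl⟩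
  have hV₀c := hconj _ hV₀
  have hterm₀ : (S : Subgroup G) ⊓
      ⁅Subgroup.normalizer ((Cfsg.inducedFunctor (G := G) W₀ (S : Subgroup G) : Subgroup G) : Set G),
        Subgroup.normalizer ((Cfsg.inducedFunctor (G := G) W₀ (S : Subgroup G) : Subgroup G) :
          Set G)⁆ ≤ T := by
    rw [hT]
    exact le_iSup₂ (f := fun W (_ : W ∈ 𝓦) => (S : Subgroup G) ⊓
      ⁅Subgroup.normalizer ((Cfsg.inducedFunctor (G := G) W (S : Subgroup G) : Subgroup G) : Set G),
        Subgroup.normalizer ((Cfsg.inducedFunctor (G := G) W (S : Subgroup G) : Subgroup G) :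
          Set G)⁆) W₀ hW₀
  -- `S ≰ Q`
  have hSQ : ¬ (S : Subgroup G) ≤ Q := by
    intro hle
    have hSeq : (S : Subgroup G) = Q := le_antisymm hle hQS
    have hSn : (S : Subgroup G).Normal := hSeq ▸ hQn
    have hNtop : Subgroup.normalizer
        ((Cfsg.inducedFunctor (G := G) W₀ (S : Subgroup G) : Subgroup G) : Set G) = ⊤ := by
      rw [eq_top_iff]
      have h1 : Subgroup.normalizer (((S : Subgroup G) : Subgroup G) : Set G) = ⊤ :=
        Subgroup.normalizer_eq_top_iff.mpr hSn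
      rw [← h1]
      exact normalizer_le_normalizer_functor hV₀c S.2
    apply hnotle
    rw [hNtop] at hterm₀
    exact hterm₀
  have hSne : (S : Subgroup G) ≠ ⊤ := by
    intro h
    apply hSQ
    have hSn : (S : Subgroup G).Normal := h ▸ inferInstance
    exact le_pCore hSn S.2
  have hQne : Q ≠ ⊥ := by
    intro h
    apply hSQ
    have h1 : Subgroup.centralizer ((Q : Subgroup G) : Set G) = ⊤ := by
      rw [h]; exact Subgroup.centralizer_eq_top_iff_subset.mpr (by simp)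
    have h2 : (⊤ : Subgroup G) ≤ Q := h1 ▸ hpc
    exact le_top.trans h2
  have hcommS : ⁅(S : Subgroup G), (S : Subgroup G)⁆ ≤ T := by
    refine le_trans (le_inf (Subgroup.commutator_le_self _) ?_) hterm₀
    exact Subgroup.commutator_mono (le_normalizer_functor hV₀c S.2) (le_normalizer_functor hV₀c S.2)
  have hTc : T ≤ commutator G := by
    rw [hT, commutator_def]
    exact iSup_le fun W => iSup_le fun _ => inf_le_right.trans
      (Subgroup.commutator_mono le_top le_top)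
  have hHall : ∀ H : Subgroup G, (S : Subgroup G) ≤ H → H ≠ ⊤ →
      (S : Subgroup G) ⊓ ⁅H, H⁆ ≤ T := by
    intro H hSH hH
    have := sub_le_tgt hconj S H hSH (hsub H hH)
    rwa [htg] at this
  have hHQ : ∀ H : Subgroup G, (S : Subgroup G) ≤ H → H ≠ ⊤ → ∀ h ∈ H, ∀ x ∈ Q,
      x⁻¹ * (h⁻¹ * x * h) ∈ T ⊓ Q := by
    intro H hSH hH h hh x hx
    have hxH : x ∈ H := hSH (hQS hx)
    have h1 : h⁻¹ * x * h ∈ Q := by
      have := hQn.conj_mem x hx h⁻¹
      simpa using this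
    have h2 : x⁻¹ * (h⁻¹ * x * h) ∈ Q := Q.mul_mem (Q.inv_mem hx) h1
    refine ⟨hHall H hSH hH ⟨hQS h2, ?_⟩, h2⟩
    have e : x⁻¹ * (h⁻¹ * x * h) = ⁅x⁻¹, h⁻¹⁆ := by
      rw [commutatorElement_def]; group
    rw [e]
    exact Subgroup.commutator_mem_commutator (H.inv_mem hxH) (H.inv_mem hh)
  -- final contradiction from `Q ∩ G' ≤ T`
  have hfinal : Q ⊓ ⁅(⊤ : Subgroup G), (⊤ : Subgroup G)⁆ ≤ T → False := by
    intro hle
    apply hnotle
    intro x hx
    obtain ⟨y, hy, q, hq, rfl⟩ := tf_part_i 𝓦 h𝓦 S hSQ hsub (hquot Q hQne) x hx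
    rw [htg] at hy
    exact T.mul_mem hy (hle hq)
  have hle_M : ∀ H : Subgroup G, (S : Subgroup G) ≤ H → H ≠ ⊤ → H ≤ M := by
    intro H hSH hH
    rw [hM]
    apply le_normalizer_of_comm_mem
    intro h hh x hx
    exact hHQ H hSH hH h hh x hx.2
  have hMne : M ≠ ⊤ := by
    intro hMtop
    set D : Subgroup G := T ⊓ Q with hD
    haveI hDn : D.Normal := by
      rw [hM] at hMtop
      exact Subgroup.normalizer_eq_top_iff.mp hMtop
    set π := QuotientGroup.mk' D with hπ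
    haveI hQbar : (Q.map π).Normal := hQn.map π (QuotientGroup.mk'_surjective D)
    set K₀ : Subgroup G := (Subgroup.centralizer ((Q.map π : Subgroup (G ⧸ D)) : Set (G ⧸ D))).comap π
      with hK₀
    haveI hCn : (Subgroup.centralizer ((Q.map π : Subgroup (G ⧸ D)) : Set (G ⧸ D))).Normal :=
      Subgroup.normal_centralizer
    haveI hK₀n : K₀.Normal := hCn.comap π
    have hHK₀ : ∀ H : Subgroup G, (S : Subgroup G) ≤ H → H ≠ ⊤ → H ≤ K₀ := by
      intro H hSH hH h hh
      show π h ∈ Subgroup.centralizer ((Q.map π : Subgroup (G ⧸ D)) : Set (G ⧸ D))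
      rw [Subgroup.mem_centralizer_iff]
      rintro _ ⟨x, hx, rfl⟩
      have h1 := hHQ H hSH hH h hh x hx
      have h2 : π (x⁻¹ * (h⁻¹ * x * h)) = 1 := (QuotientGroup.eq_one_iff _).mpr h1
      rw [map_mul, map_mul, map_mul, map_inv, map_inv] at h2
      have h3 : (π h)⁻¹ * π x * π h = π x := by
        have := congrArg (π x * ·) h2
        simpa [mul_assoc] using this
      have := congrArg (π h * ·) h3
      simpa [mul_assoc] using this
    have hNSne : Subgroup.normalizer (((S : Subgroup G) : Subgroup G) : Set G) ≠ ⊤ := by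
      intro h
      apply hSQ
      exact le_pCore (Subgroup.normalizer_eq_top_iff.mp h) S.2
    have hSK₀ : (S : Subgroup G) ≤ K₀ := hHK₀ _ le_rfl hSne
    have hNK₀ : Subgroup.normalizer (((S : Subgroup G) : Subgroup G) : Set G) ≤ K₀ :=
      hHK₀ _ Subgroup.le_normalizer hNSne
    have hfr : Subgroup.normalizer (((S : Subgroup G) : Subgroup G) : Set G) ⊔ K₀ = ⊤ := by
      have hpM : IsPGroup p ((S : Subgroup G).subgroupOf K₀) := S.2.comap_subtype
      have hidx : ¬ p ∣ ((S : Subgroup G).subgroupOf K₀).index := by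
        intro hd
        have h2 : (S : Subgroup G).relIndex K₀ ∣ (S : Subgroup G).index :=
          Subgroup.relIndex_dvd_index_of_le hSK₀
        exact S.not_dvd_index (hd.trans h2)
      have h3 := Sylow.normalizer_sup_eq_top (hpM.toSylow hidx)
      rw [IsPGroup.toSylow_coe, Subgroup.subgroupOf_map_subtype, inf_of_le_left hSK₀] at h3
      exact h3
    have hK₀top : K₀ = ⊤ := by
      rw [← hfr]
      exact (sup_eq_right.mpr hNK₀).symm
    apply hfinal
    rintro x ⟨hxQ, hx'⟩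
    apply mem_of_transfer S T hcommS Q hQS x hxQ (by rwa [commutator_def])
    intro g
    have hg : g ∈ K₀ := by rw [hK₀top]; exact Subgroup.mem_top g
    have hg' : π g ∈ Subgroup.centralizer ((Q.map π : Subgroup (G ⧸ D)) : Set (G ⧸ D)) := hg
    have h1 := (Subgroup.mem_centralizer_iff.mp hg') (π x) ⟨x, hxQ, rfl⟩
    have h2 : π (x⁻¹ * (g⁻¹ * x * g)) = 1 := by
      rw [map_mul, map_mul, map_mul, map_inv, map_inv, mul_assoc (π g)⁻¹, h1]
      group
    have h3 : x⁻¹ * (g⁻¹ * x * g) ∈ D := (QuotientGroup.eq_one_iff _).mp h2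
    exact h3.1
  have hSM : (S : Subgroup G) ≤ M := hle_M _ le_rfl hSne
  refine ⟨hpc, ⟨hMne, hle_M⟩, ⟨?_, ?_⟩, ?_⟩
  · exact le_inf (Subgroup.commutator_le_left Q M) (Subgroup.commutator_mono (hQS.trans hSM) le_rfl)
  · exact le_inf inf_le_left (le_trans (inf_le_inf_right _ hQS) (hHall M hSM hMne))
  · intro u huS huQ
    by_contra hcon
    push Not at hcon
    apply hfinal
    rw [← commutator_def]
    apply engel_core S T hcommS hTc ?_ u huS huQ hcon
    intro H hSH hH h hh x hx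
    exact (hHQ H hSH hH h hh x hx).1

end Cfsg.Agent.Helper1.FT
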