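import Mathlib
import Cfsg.Agent.Helper1.FTH

/-!
Glauberman's Engel-condition theorem on control of transfer (`S1972`).
-/

set_option autoImplicit false

universe u

namespace Cfsg.Agent.Helper1.FT

open Cfsg Cfsg.Agent.Lead Cfsg.Agent.Helper5.TF
open scoped commutatorElement

variable {p : ℕ}

/-- In a `p`-constrained group in which the family controls transfer in all proper subgroups and
proper quotients, an Engel element in `S ∖ O_p(X)` forces control of transfer. -/
theorem engel_control {X : Type u} [Group X] [Finite X] [hp : Fact p.Prime]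
    (𝓦 : Set (∀ (Q : Type u) [Group Q], Subgroup Q))
    (h𝓦 : ∀ W ∈ 𝓦, Cfsg.IsCharPFunctor.{u} p W) (hne : 𝓦.Nonempty) (hpc : PC p X)
    (hsub : ∀ H : Subgroup X, H ≠ ⊤ → Cfsg.FamilyControlsTransferIn p (ind 𝓦 X) H)
    (hquot : ∀ (N : Subgroup X) [N.Normal], N ≠ ⊥ →
      Cfsg.FamilyControlsTransferIn p (ind 𝓦 (X ⧸ N)) ⊤)
    (S : Sylow p X) (u : X) (huS : u ∈ (S : Subgroup X)) (huQ : u ∉ Cfsg.pCore p X)
    (hE : ∀ U V : Subgroup X, Cfsg.IsChiefFactor U V → U ≤ Cfsg.pCore p X →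
      Cfsg.iterCommutator U (Subgroup.zpowers u) (p - 1) ≤ V) :
    Cfsg.FamilyControlsTransferIn p (ind 𝓦 X) ⊤ := by
  have hconj := ind_isConj h𝓦 X
  set Q := Cfsg.pCore p X with hQ
  haveI hQn : Q.Normal := pCore_normal p
  have hQS : Q ≤ (S : Subgroup X) := pCore_le_sylow S
  set T : Subgroup X := ⨆ V ∈ ind 𝓦 X, (S : Subgroup X) ⊓
      ⁅(⊤ : Subgroup X) ⊓ Subgroup.normalizer ((V (S : Subgroup X) : Subgroup X) : Set X),
       (⊤ : Subgroup X) ⊓ Subgroup.normalizer ((V (S : Subgroup X) : Subgroup X) : Set X)⁆ with hT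
  obtain ⟨W₀, hW₀⟩ := hne
  have hV₀ : Cfsg.inducedFunctor (G := X) W₀ ∈ ind 𝓦 X := ⟨W₀, hW₀, rfl⟩
  have hV₀c := hconj _ hV₀
  have hSQ : ¬ (S : Subgroup X) ≤ Q := fun h => huQ (h huS)
  have hQne : Q ≠ ⊥ := by
    intro h
    apply hSQ
    have h1 : Subgroup.centralizer ((Q : Subgroup X) : Set X) = ⊤ := by
      rw [h]; exact Subgroup.centralizer_eq_top_iff_subset.mpr (by simp)
    have h2 : (⊤ : Subgroup X) ≤ Q := h1 ▸ hpc
    exact le_top.trans h2
  have hcommS : ⁅(S : Subgroup X), (S : Subgroup X)⁆ ≤ T := by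
    refine le_trans (le_inf (Subgroup.commutator_le_self _) ?_)
      (le_iSup₂ (f := fun V (_ : V ∈ ind 𝓦 X) => (S : Subgroup X) ⊓
        ⁅(⊤ : Subgroup X) ⊓ Subgroup.normalizer ((V (S : Subgroup X) : Subgroup X) : Set X),
         (⊤ : Subgroup X) ⊓ Subgroup.normalizer ((V (S : Subgroup X) : Subgroup X) : Set X)⁆)
        (Cfsg.inducedFunctor (G := X) W₀) hV₀)
    rw [top_inf_eq]
    exact Subgroup.commutator_mono (le_normalizer_functor hV₀c S.2) (le_normalizer_functor hV₀c S.2)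
  have hTc : T ≤ commutator X := by
    rw [hT, commutator_def]
    exact iSup_le fun V => iSup_le fun _ => inf_le_right.trans
      (Subgroup.commutator_mono le_top le_top)
  have hHQ : ∀ H : Subgroup X, (S : Subgroup X) ≤ H → H ≠ ⊤ → ∀ h ∈ H, ∀ x ∈ Q,
      x⁻¹ * (h⁻¹ * x * h) ∈ T := by
    intro H hSH hH h hh x hx
    have hxH : x ∈ H := hSH (hQS hx)
    have h1 : h⁻¹ * x * h ∈ Q := by
      have := hQn.conj_mem x hx h⁻¹
      simpa using this
    have h2 : x⁻¹ * (h⁻¹ * x * h) ∈ Q := Q.mul_mem (Q.inv_mem hx) h1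
    refine sub_le_tgt hconj S H hSH (hsub H hH) ⟨hQS h2, ?_⟩
    have e : x⁻¹ * (h⁻¹ * x * h) = ⁅x⁻¹, h⁻¹⁆ := by
      rw [commutatorElement_def]; group
    rw [e]
    exact Subgroup.commutator_mem_commutator (H.inv_mem hxH) (H.inv_mem hh)
  have hcore := engel_core S T hcommS hTc hHQ u huS huQ hE
  rw [commutator_def] at hcore
  apply tf_top_of_le _ S
  intro x hx
  obtain ⟨y, hy, q, hq, rfl⟩ := tf_part_i 𝓦 h𝓦 S hSQ hsub (hquot Q hQne) x hx
  exact Subgroup.mul_mem _ hy (hcore hq)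

theorem iterCommutator_map {Y X : Type*} [Group Y] [Group X] (f : Y →* X) (N K : Subgroup Y) :
    ∀ k : ℕ, (Cfsg.iterCommutator N K k).map f = Cfsg.iterCommutator (N.map f) (K.map f) k := by
  intro k
  induction k with
  | zero => rfl
  | succ k ih =>
    show (⁅Cfsg.iterCommutator N K k, K⁆).map f = ⁅Cfsg.iterCommutator (N.map f) (K.map f) k, K.map f⁆
    rw [Subgroup.map_commutator, ih]

/-- The local hypothesis of `S1972` in the group `X`. -/
def Loc1972 (p : ℕ) (W : ∀ (Q : Type u) [Group Q], Subgroup Q) (X : Type u) [Group X] : Prop :=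
  ∀ T : Sylow p X, ¬ (Cfsg.inducedFunctor (G := X) W (T : Subgroup X)).Normal →
    ∃ g : X, g ∈ (T : Subgroup X) ∧ g ∉ Cfsg.pCore p X ∧
      ∀ U V : Subgroup X, Cfsg.IsChiefFactor U V → U ≤ Cfsg.pCore p X →
        Cfsg.iterCommutator U (Subgroup.zpowers g) (p - 1) ≤ V

theorem isChiefFactor_comap {Y X : Type*} [Group Y] [Group X] (e : Y ≃* X) {U V : Subgroup X}
    (h : Cfsg.IsChiefFactor U V) :
    Cfsg.IsChiefFactor (U.comap e.toMonoidHom) (V.comap e.toMonoidHom) := by
  obtain ⟨hlt, hUn, hVn, hmin⟩ := h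
  have hsurj : Function.Surjective e.toMonoidHom := e.surjective
  have hinj : Function.Injective e.toMonoidHom := e.injective
  refine ⟨?_, hUn.comap _, hVn.comap _, ?_⟩
  · refine lt_of_le_of_ne (Subgroup.comap_mono hlt.le) (fun heq => hlt.ne ?_)
    have := congrArg (Subgroup.map e.toMonoidHom) heq
    rwa [Subgroup.map_comap_eq_self_of_surjective hsurj,
      Subgroup.map_comap_eq_self_of_surjective hsurj] at this
  · intro N hN h1 h2
    have hNn : (N.map e.toMonoidHom).Normal := hN.map _ hsurj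
    have h1' : V ≤ N.map e.toMonoidHom := by
      have := Subgroup.map_mono (f := e.toMonoidHom) h1
      rwa [Subgroup.map_comap_eq_self_of_surjective hsurj] at this
    have h2' : N.map e.toMonoidHom ≤ U := by
      have := Subgroup.map_mono (f := e.toMonoidHom) h2
      rwa [Subgroup.map_comap_eq_self_of_surjective hsurj] at this
    rcases hmin _ hNn h1' h2' with h | h
    · left
      rw [← h, Subgroup.comap_map_eq_self_of_injective hinj]
    · right
      rw [← h, Subgroup.comap_map_eq_self_of_injective hinj]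

theorem Loc1972.of_equiv [Fact p.Prime] {Y X : Type u} [Group Y] [Group X] [Finite Y] [Finite X]
    {W : ∀ (Q : Type u) [Group Q], Subgroup Q} (hW : Cfsg.IsCharPFunctor.{u} p W) (e : Y ≃* X)
    (h : Loc1972 p W Y) : Loc1972 p W X := by
  intro T hnn
  have hinj : Function.Injective e.toMonoidHom := e.injective
  have hsurj : Function.Surjective e.toMonoidHom := e.surjective
  have hsurj' : Function.Surjective e.symm.toMonoidHom := e.symm.surjective
  have hTT : ((T : Subgroup X).map e.symm.toMonoidHom).map e.toMonoidHom = (T : Subgroup X) := by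
    rw [Subgroup.map_map]
    have : e.toMonoidHom.comp e.symm.toMonoidHom = MonoidHom.id X := by
      ext x; simp
    rw [this, Subgroup.map_id]
  have h1 := h (T.mapSurjective hsurj')
  rw [Sylow.coe_mapSurjective] at h1
  have hnn' : ¬ (Cfsg.inducedFunctor (G := Y) W ((T : Subgroup X).map e.symm.toMonoidHom)).Normal := by
    intro hn
    apply hnn
    have := hn.map e.toMonoidHom hsurj
    rwa [← inducedFunctor_map W hW e.toMonoidHom hinj _ (T.2.map e.symm.toMonoidHom), hTT] at this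
  obtain ⟨g, hgT, hgQ, hE⟩ := h1 hnn'
  refine ⟨e g, ?_, ?_, ?_⟩
  · obtain ⟨t, ht, rfl⟩ := hgT
    have e1 : e (e.symm.toMonoidHom t) = t := by simp
    rw [e1]
    exact ht
  · intro hmem
    apply hgQ
    rw [← pCore_map_equiv e] at hmem
    obtain ⟨g', hg', hg'e⟩ := hmem
    have : g' = g := e.injective hg'e
    rwa [← this]
  · intro U V hch hUQ
    have hch' := isChiefFactor_comap e hch
    have hUQ' : U.comap e.toMonoidHom ≤ Cfsg.pCore p Y := by
      intro y hy
      have h2 : e y ∈ Cfsg.pCore p X := hUQ hy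
      rw [← pCore_map_equiv e] at h2
      obtain ⟨y', hy', hy'e⟩ := h2
      have : y' = y := e.injective hy'e
      rwa [← this]
    have h3 := hE _ _ hch' hUQ'
    have h4 := Subgroup.map_mono (f := e.toMonoidHom) h3
    rw [iterCommutator_map, Subgroup.map_comap_eq_self_of_surjective hsurj,
      Subgroup.map_comap_eq_self_of_surjective hsurj, MonoidHom.map_zpowers] at h4
    exact h4

/-- The handler for `p`-constrained sections in `S1972`. -/
theorem handler1972 [Fact p.Prime] {X : Type u} [Group X] [Finite X]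
    (W : ∀ (Q : Type u) [Group Q], Subgroup Q) (hW : Cfsg.IsCharPFunctor.{u} p W)
    (hloc : Loc1972 p W X) (hpc : PC p X)
    (hsub : ∀ H : Subgroup X, H ≠ ⊤ → Cfsg.FamilyControlsTransferIn p (ind {W} X) H)
    (hquot : ∀ (N : Subgroup X) [N.Normal], N ≠ ⊥ →
      Cfsg.FamilyControlsTransferIn p (ind {W} (X ⧸ N)) ⊤) :
    Cfsg.FamilyControlsTransferIn p (ind {W} X) ⊤ := by
  have h𝓦 : ∀ W' ∈ ({W} : Set (∀ (Q : Type u) [Group Q], Subgroup Q)),
      Cfsg.IsCharPFunctor.{u} p W' := by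
    rintro W' rfl; exact hW
  have S : Sylow p X := default
  have hWc := isConjugacyFunctor_induced (X := X) W hW
  have hmem : Cfsg.inducedFunctor (G := X) W ∈ ind {W} X := ⟨W, rfl, rfl⟩
  by_cases hn : (Cfsg.inducedFunctor (G := X) W (S : Subgroup X)).Normal
  · apply tf_top_of_le _ S
    have hN : Subgroup.normalizer ((Cfsg.inducedFunctor (G := X) W (S : Subgroup X) : Subgroup X) :
        Set X) = ⊤ := Subgroup.normalizer_eq_top_iff.mpr hn
    refine le_trans ?_ (le_iSup₂ (f := fun V (_ : V ∈ ind {W} X) => (S : Subgroup X) ⊓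
      ⁅(⊤ : Subgroup X) ⊓ Subgroup.normalizer ((V (S : Subgroup X) : Subgroup X) : Set X),
        (⊤ : Subgroup X) ⊓ Subgroup.normalizer ((V (S : Subgroup X) : Subgroup X) : Set X)⁆)
      (Cfsg.inducedFunctor (G := X) W) hmem)
    rw [hN, top_inf_eq]
  · obtain ⟨u, huS, huQ, hE⟩ := hloc S hn
    exact engel_control {W} h𝓦 ⟨W, rfl⟩ hpc hsub hquot S u huS huQ hE

/-- `S1972`. -/
theorem transfer_of_engel_constrained {G : Type u} [Group G] [Finite G] [Fact p.Prime]
    (W : ∀ (Q : Type u) [Group Q], Subgroup Q) (hW : Cfsg.IsCharPFunctor.{u} p W)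
    (hloc : ∀ (K R : Subgroup G) [(R.subgroupOf K).Normal],
      Subgroup.centralizer ((Cfsg.pCore p (↥K ⧸ R.subgroupOf K) :
        Subgroup (↥K ⧸ R.subgroupOf K)) : Set (↥K ⧸ R.subgroupOf K)) ≤
        Cfsg.pCore p (↥K ⧸ R.subgroupOf K) → Loc1972 p W (↥K ⧸ R.subgroupOf K)) :
    ∀ (K R : Subgroup G) [(R.subgroupOf K).Normal],
      Cfsg.ControlsTransferIn p (Cfsg.inducedFunctor (G := (↥K ⧸ R.subgroupOf K)) W) ⊤ := by
  intro K R _
  have h𝓦 : ∀ W' ∈ ({W} : Set (∀ (Q : Type u) [Group Q], Subgroup Q)),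
      Cfsg.IsCharPFunctor.{u} p W' := by
    rintro W' rfl; exact hW
  apply controlsTransferIn_of_family_singleton
  have hsec : IsSectionOf (↥K ⧸ R.subgroupOf K) G :=
    ⟨K, QuotientGroup.mk' _, QuotientGroup.mk'_surjective _⟩
  apply tf_induction (G := G) {W} h𝓦 ?_ (Nat.card (↥K ⧸ R.subgroupOf K)) _ rfl hsec
  intro X _ _ hsecX hpc hsub hquot
  obtain ⟨K', R', hn, ⟨e⟩⟩ := exists_equiv_of_isSectionOf hsecX
  have h1 := hloc K' R' (PC.of_equiv e.symm hpc)
  exact handler1972 W hW (Loc1972.of_equiv hW e h1) hpc hsub hquot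

end Cfsg.Agent.Helper1.FT
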