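import Cfsg.Agent.Helper1.FermatSymp

/-!
Lemma F for a quotient `G ⧸ N` of a (possibly non-abelian) finite group, stated without the
quotient: for the exceptional case of Ward's theorem S3796.
-/

set_option autoImplicit false
set_option linter.style.haveILetI false
set_option linter.unusedSectionVars false

namespace Cfsg.Agent.Helper1.FermatSymp

theorem map_eq_of_forall_mem {G : Type*} [Group G] [Finite G] (N : Subgroup G) (a : MulAut G)
    (haN : ∀ g ∈ N, a g ∈ N) : N.map (a : G →* G) = N := by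
  apply Subgroup.eq_of_le_of_card_ge
  · rintro _ ⟨g, hg, rfl⟩
    exact haN g hg
  · rw [Subgroup.card_map_of_injective]
    exact a.injective

/-- **Lemma F, quotient form.** -/
theorem mem_of_quotient {G : Type*} [Group G] [Finite G] {M : Type*} [Group M]
    (N : Subgroup G) [hN : N.Normal] (hcomm : ∀ g h : G, g * h * g⁻¹ * h⁻¹ ∈ N)
    (n : ℕ) (hp : (2 ^ n + 1).Prime) (hidx : N.index = 2 ^ (2 * n))
    (a y : MulAut G) (haN : ∀ g ∈ N, a g ∈ N) (hyN : ∀ g ∈ N, y g ∈ N)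
    (hap : a ^ (2 ^ n + 1) = 1)
    (hfix : ∀ g, (a g)⁻¹ * g ∈ N → g ∈ N)
    (hay : ∀ g, a (y g) = y (a g))
    (m : ℕ) (hm : m.Coprime (2 ^ n + 1)) (hym : y ^ m = 1)
    (κ : G → G → M) (hκl : ∀ g g' x, κ (g * g') x = κ g x * κ g' x)
    (hκr : ∀ g x x', κ g (x * x') = κ g x * κ g x')
    (hκN : ∀ g x, g ∈ N → κ g x = 1) (hκN' : ∀ g x, x ∈ N → κ g x = 1)
    (hnd : ∀ x, (∀ g, κ g x = 1) → x ∈ N)
    (haκ : ∀ g x, κ (a g) (a x) = κ g x) (hyκ : ∀ g x, κ (y g) (y x) = κ g x) :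
    ∀ g, (y g)⁻¹ * g ∈ N := by
  classical
  letI : CommGroup (G ⧸ N) :=
    { (inferInstance : Group (G ⧸ N)) with
      mul_comm := by
        intro u v
        obtain ⟨g, rfl⟩ := QuotientGroup.mk_surjective u
        obtain ⟨h, rfl⟩ := QuotientGroup.mk_surjective v
        rw [← QuotientGroup.mk_mul, ← QuotientGroup.mk_mul, QuotientGroup.eq]
        have := hcomm h⁻¹ g⁻¹
        simpa [mul_assoc] using this }
  obtain ⟨aq, haq⟩ : ∃ aq : MulAut (G ⧸ N), ∀ g : G, aq (g : G ⧸ N) = ((a g : G) : G ⧸ N) :=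
    ⟨QuotientGroup.congr N N a (map_eq_of_forall_mem N a haN), fun g => rfl⟩
  obtain ⟨yq, hyq⟩ : ∃ yq : MulAut (G ⧸ N), ∀ g : G, yq (g : G ⧸ N) = ((y g : G) : G ⧸ N) :=
    ⟨QuotientGroup.congr N N y (map_eq_of_forall_mem N y hyN), fun g => rfl⟩
  have hpowa : ∀ (k : ℕ) (g : G), (aq ^ k) (g : G ⧸ N) = (((a ^ k) g : G) : G ⧸ N) := by
    intro k
    induction k with
    | zero => intro g; rfl
    | succ k ih =>
      intro g
      rw [pow_succ', MulAut.mul_apply, ih, haq, pow_succ', MulAut.mul_apply]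
  have hpowy : ∀ (k : ℕ) (g : G), (yq ^ k) (g : G ⧸ N) = (((y ^ k) g : G) : G ⧸ N) := by
    intro k
    induction k with
    | zero => intro g; rfl
    | succ k ih =>
      intro g
      rw [pow_succ', MulAut.mul_apply, ih, hyq, pow_succ', MulAut.mul_apply]
  obtain ⟨β, hβ⟩ : ∃ β : G ⧸ N → G ⧸ N → M, ∀ g x : G, β (g : G ⧸ N) (x : G ⧸ N) = κ g x := by
    refine ⟨fun u v => κ u.out v.out, ?_⟩
    intro g x
    obtain ⟨n₁, hn₁⟩ := QuotientGroup.mk_out_eq_mul N g
    obtain ⟨n₂, hn₂⟩ := QuotientGroup.mk_out_eq_mul N x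
    change κ (g : G ⧸ N).out (x : G ⧸ N).out = κ g x
    rw [hn₁, hn₂, hκl, hκr, hκr, hκN' g _ n₂.2, hκN _ x n₁.2, hκN _ _ n₁.2, mul_one, mul_one,
      mul_one]
  have hcard : Nat.card (G ⧸ N) = 2 ^ (2 * n) := by
    rw [← hidx, Subgroup.index_eq_card]
  have key := pow_eq_one_of_group (E := G ⧸ N) (M := M) n hp hcard aq yq
    (by
      ext u
      obtain ⟨g, rfl⟩ := QuotientGroup.mk_surjective u
      rw [hpowa, hap]; rfl)
    (by
      intro u hu
      obtain ⟨g, rfl⟩ := QuotientGroup.mk_surjective u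
      rw [haq, QuotientGroup.eq] at hu
      exact (QuotientGroup.eq_one_iff g).2 (hfix g hu))
    (by
      ext u
      obtain ⟨g, rfl⟩ := QuotientGroup.mk_surjective u
      rw [MulAut.mul_apply, MulAut.mul_apply, hyq, haq, haq, hyq, hay])
    β
    (by
      intro u u' w
      obtain ⟨g, rfl⟩ := QuotientGroup.mk_surjective u
      obtain ⟨g', rfl⟩ := QuotientGroup.mk_surjective u'
      obtain ⟨x, rfl⟩ := QuotientGroup.mk_surjective w
      rw [← QuotientGroup.mk_mul, hβ, hβ, hβ, hκl])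
    (by
      intro u w w'
      obtain ⟨g, rfl⟩ := QuotientGroup.mk_surjective u
      obtain ⟨x, rfl⟩ := QuotientGroup.mk_surjective w
      obtain ⟨x', rfl⟩ := QuotientGroup.mk_surjective w'
      rw [← QuotientGroup.mk_mul, hβ, hβ, hβ, hκr])
    (by
      intro w hw
      obtain ⟨x, rfl⟩ := QuotientGroup.mk_surjective w
      apply (QuotientGroup.eq_one_iff x).2
      apply hnd
      intro g
      rw [← hβ]
      exact hw _)
    (by
      intro u w
      obtain ⟨g, rfl⟩ := QuotientGroup.mk_surjective u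
      obtain ⟨x, rfl⟩ := QuotientGroup.mk_surjective w
      rw [haq, haq, hβ, hβ, haκ])
    (by
      intro u w
      obtain ⟨g, rfl⟩ := QuotientGroup.mk_surjective u
      obtain ⟨x, rfl⟩ := QuotientGroup.mk_surjective w
      rw [hyq, hyq, hβ, hβ, hyκ])
  have hym' : yq ^ m = 1 := by
    ext u
    obtain ⟨g, rfl⟩ := QuotientGroup.mk_surjective u
    rw [hpowy, hym]; rfl
  have h1 : yq = 1 := by
    have h2 := pow_gcd_eq_one.2 ⟨hym', key⟩
    rw [Nat.Coprime.gcd_eq_one hm, pow_one] at h2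
    exact h2
  intro g
  have h3 : yq (g : G ⧸ N) = (g : G ⧸ N) := by rw [h1]; rfl
  rw [hyq, QuotientGroup.eq] at h3
  exact h3

end Cfsg.Agent.Helper1.FermatSymp
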