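import Mathlib

/-!
The centralizer of a fixed-point-free element of Fermat prime order `p = 2 ^ n + 1` in the
symplectic group of a space of order `2 ^ (2 n)`: an isometry commuting with it has order
dividing `p`.  (Exceptional case of Ward's theorem S3796.)
-/

set_option autoImplicit false
set_option linter.style.haveILetI false
set_option linter.unusedSectionVars false

namespace Cfsg.Agent.Helper1.FermatSymp

open Polynomial

/-- if `2 ^ n + 1` divides `2 ^ j - 1` with `j ≤ 2 n` then `j = 0` or `j = 2 n`. -/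
theorem eq_of_dvd_two_pow_sub_one {n j : ℕ} (hj : j ≤ 2 * n) (h : 2 ^ n + 1 ∣ 2 ^ j - 1) :
    j = 0 ∨ j = 2 * n := by
  have hpos : 0 < 2 ^ j := by positivity
  rcases Nat.lt_or_ge n j with hnj | hjn
  · -- `n < j`
    obtain ⟨i, rfl⟩ : ∃ i, j = n + i := ⟨j - n, by omega⟩
    have hi : 0 < i := by omega
    rcases Nat.lt_or_ge i n with hin | hni
    · exfalso
      have h1 : 2 ^ (n + i) - 1 + (2 ^ i + 1) = 2 ^ i * (2 ^ n + 1) := by
        have : 2 ^ (n + i) = 2 ^ i * 2 ^ n := by rw [pow_add, mul_comm]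
        have h2 : 0 < 2 ^ (n + i) := by positivity
        rw [mul_add, mul_one, ← this]
        omega
      have h3 : 2 ^ n + 1 ∣ 2 ^ i + 1 := by
        have h4 : 2 ^ n + 1 ∣ 2 ^ (n + i) - 1 + (2 ^ i + 1) := by
          rw [h1]; exact dvd_mul_left _ _
        exact (Nat.dvd_add_right h).1 h4
      have h5 := Nat.le_of_dvd (by positivity) h3
      have h6 : 2 ^ i < 2 ^ n := Nat.pow_lt_pow_right (by norm_num) hin
      omega
    · right; omega
  · -- `j ≤ n`
    left
    by_contra hj0
    have h1 : 2 ^ j ≤ 2 ^ n := Nat.pow_le_pow_right (by norm_num) hjn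
    have h2 : 2 ≤ 2 ^ j := by
      calc 2 = 2 ^ 1 := by norm_num
        _ ≤ 2 ^ j := Nat.pow_le_pow_right (by norm_num) (by omega)
    have h3 := Nat.le_of_dvd (by omega) h
    omega

/-- a fixed-point-free map of prime order `p`: the order of an invariant subgroup is `1`
modulo `p`. -/
theorem card_modEq_one {V : Type*} [AddCommGroup V] [Finite V] {p : ℕ} [hp : Fact p.Prime]
    (a : V → V) (hap : ∀ x, a^[p] x = x) (hfix : ∀ x, a x = x → x = 0) (ha0 : a 0 = 0)
    (U : AddSubgroup V) (hU : ∀ x ∈ U, a x ∈ U) : Nat.card U ≡ 1 [MOD p] := by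
  classical
  haveI : Fintype U := Fintype.ofFinite U
  obtain ⟨f, hf⟩ : ∃ f : Function.End U, ∀ x : U, ((f x : U) : V) = a x :=
    ⟨fun x : U => (⟨a x, hU x x.2⟩ : U), fun x => rfl⟩
  have hfk : ∀ (k : ℕ) (x : U), (((f ^ k) x : U) : V) = a^[k] x := by
    intro k
    induction k with
    | zero => intro x; rfl
    | succ k ih =>
      intro x
      rw [pow_succ']
      change ((f ((f ^ k) x) : U) : V) = _
      rw [hf, ih, Function.iterate_succ_apply']
  have hfp : f ^ p ^ 1 = 1 := by
    rw [pow_one]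
    funext x
    apply Subtype.ext
    rw [hfk, hap]; rfl
  have h1 := Equiv.Perm.card_fixedPoints_modEq (f := f) (p := p) (n := 1) hfp
  have h1' : Nat.card U ≡ Nat.card (Function.fixedPoints f) [MOD p] := by
    rw [Nat.card_eq_fintype_card, Nat.card_eq_fintype_card]
    convert h1
  have h2 : Nat.card (Function.fixedPoints f) = 1 := by
    rw [Nat.card_eq_one_iff_exists]
    refine ⟨⟨0, ?_⟩, ?_⟩
    · change f 0 = 0
      apply Subtype.ext
      rw [hf]; exact ha0
    · rintro ⟨x, hx⟩
      apply Subtype.ext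
      apply Subtype.ext
      change f x = x at hx
      have h3 := congrArg Subtype.val hx
      rw [hf] at h3
      exact hfix _ h3
  rw [h2] at h1'
  exact h1'

/-- irreducibility: an invariant subgroup is trivial or everything. -/
theorem eq_bot_or_eq_top {V : Type*} [AddCommGroup V] [Finite V] {n : ℕ}
    (hp : (2 ^ n + 1).Prime) (hcard : Nat.card V = 2 ^ (2 * n)) (a : V → V)
    (hap : ∀ x, a^[2 ^ n + 1] x = x) (hfix : ∀ x, a x = x → x = 0) (ha0 : a 0 = 0)
    (U : AddSubgroup V) (hU : ∀ x ∈ U, a x ∈ U) : U = ⊥ ∨ U = ⊤ := by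
  haveI : Fact (2 ^ n + 1).Prime := ⟨hp⟩
  have h1 := card_modEq_one a hap hfix ha0 U hU
  have h2 : Nat.card U ∣ 2 ^ (2 * n) := hcard ▸ AddSubgroup.card_addSubgroup_dvd_card U
  obtain ⟨j, hj, hj'⟩ := (Nat.dvd_prime_pow Nat.prime_two).1 h2
  rw [hj'] at h1
  have h3 : 2 ^ n + 1 ∣ 2 ^ j - 1 := (Nat.modEq_iff_dvd' Nat.one_le_two_pow).1 h1.symm
  rcases eq_of_dvd_two_pow_sub_one hj h3 with h | h
  · left
    rw [h, pow_zero] at hj'
    exact AddSubgroup.card_eq_one.1 hj'
  · right
    apply AddSubgroup.eq_top_of_card_eq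
    rw [hj', h, hcard]

theorem expand_two_pow (f : (ZMod 2)[X]) (n : ℕ) : f ^ 2 ^ n = expand (ZMod 2) (2 ^ n) f := by
  induction n with
  | zero => simp
  | succ n ih =>
    rw [pow_succ, pow_mul, ih, ← ZMod.expand_card, ← Polynomial.expand_mul, mul_comm]

section modF

variable {V : Type*} [AddCommGroup V] [Module (ZMod 2) V] {M : Type*} [Group M]

/-- the adjoint of a polynomial in `a` with respect to an `a`-invariant pairing. -/
theorem adjoint_aeval (a a' : Module.End (ZMod 2) V) (haa' : a * a' = 1)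
    (B : V → V → M) (hBl : ∀ u u' w, B (u + u') w = B u w * B u' w)
    (hBr : ∀ u w w', B u (w + w') = B u w * B u w')
    (haB : ∀ u w, B (a u) (a w) = B u w) (g : (ZMod 2)[X]) :
    ∀ u w, B (aeval a g u) w = B u (aeval a' g w) := by
  have hB0l : ∀ w, B 0 w = 1 := by
    intro w
    have := hBl 0 0 w
    rw [add_zero] at this
    exact (mul_eq_left.1 this.symm)
  have hB0r : ∀ u, B u 0 = 1 := by
    intro u
    have := hBr u 0 0
    rw [add_zero] at this
    exact (mul_eq_left.1 this.symm)
  have hpow : ∀ (i : ℕ) (u w : V), B ((a ^ i) u) w = B u ((a' ^ i) w) := by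
    intro i
    induction i with
    | zero => intro u w; simp
    | succ i ih =>
      intro u w
      have h1 : w = a (a' w) := by
        rw [← Module.End.mul_apply, haa', Module.End.one_apply]
      rw [pow_succ', Module.End.mul_apply]
      conv_lhs => rw [h1]
      rw [haB, ih, pow_succ, Module.End.mul_apply]
  induction g using Polynomial.induction_on' with
  | add g h ihg ihh =>
    intro u w
    rw [map_add, map_add, LinearMap.add_apply, LinearMap.add_apply, hBl, hBr, ihg, ihh]
  | monomial i c =>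
    intro u w
    rw [aeval_monomial, aeval_monomial]
    have hc : c = 0 ∨ c = 1 := by
      fin_cases c
      · left; rfl
      · right; rfl
    rcases hc with rfl | rfl
    · simp [hB0l, hB0r]
    · rw [map_one, one_mul, one_mul]
      exact hpow i u w

/-- **Lemma F, linear form.** -/
theorem pow_eq_one_of_mod [Finite V] (n : ℕ) (hp : (2 ^ n + 1).Prime)
    (hcard : Nat.card V = 2 ^ (2 * n))
    (a a' y : Module.End (ZMod 2) V) (haa' : a * a' = 1) (hap : a ^ (2 ^ n + 1) = 1)
    (hfix : ∀ x, a x = x → x = 0) (hay : a * y = y * a)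
    (B : V → V → M) (hBl : ∀ u u' w, B (u + u') w = B u w * B u' w)
    (hBr : ∀ u w w', B u (w + w') = B u w * B u w')
    (hnd : ∀ w, (∀ u, B u w = 1) → w = 0)
    (haB : ∀ u w, B (a u) (a w) = B u w) (hyB : ∀ u w, B (y u) (y w) = B u w) :
    y ^ (2 ^ n + 1) = 1 := by
  have hirr : ∀ U : Submodule (ZMod 2) V, (∀ x ∈ U, a x ∈ U) → U = ⊥ ∨ U = ⊤ := by
    intro U hU
    have hapi : ∀ x, (⇑a)^[2 ^ n + 1] x = x := by
      intro x
      rw [← Module.End.pow_apply, hap, Module.End.one_apply]
    rcases eq_bot_or_eq_top hp hcard a hapi hfix (map_zero a) U.toAddSubgroup hU with h | h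
    · left
      apply Submodule.toAddSubgroup_injective
      rw [h, Submodule.bot_toAddSubgroup]
    · right
      apply Submodule.toAddSubgroup_injective
      rw [h, Submodule.top_toAddSubgroup]
  by_cases hV : Subsingleton V
  · ext x; exact Subsingleton.elim _ _
  rw [not_subsingleton_iff_nontrivial] at hV
  obtain ⟨v, hv⟩ := exists_ne (0 : V)
  obtain ⟨φ, hφ⟩ : ∃ φ : (ZMod 2)[X] →ₗ[ZMod 2] V, ∀ g, φ g = aeval a g v :=
    ⟨(LinearMap.applyₗ v).comp (aeval a).toLinearMap, fun g => rfl⟩
  have hrange : LinearMap.range φ = ⊤ := by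
    have hinv : ∀ x ∈ LinearMap.range φ, a x ∈ LinearMap.range φ := by
      rintro _ ⟨g, rfl⟩
      refine ⟨X * g, ?_⟩
      rw [hφ, hφ, map_mul, aeval_X, Module.End.mul_apply]
    rcases hirr (LinearMap.range φ) hinv with h | h
    · exfalso
      apply hv
      have h1 : v ∈ LinearMap.range φ := ⟨1, by rw [hφ, map_one, Module.End.one_apply]⟩
      rw [h] at h1
      exact (Submodule.mem_bot _).1 h1
    · exact h
  obtain ⟨f, hf⟩ : ∃ f, aeval a f v = y v := by
    have h1 : y v ∈ LinearMap.range φ := by rw [hrange]; trivial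
    obtain ⟨f, hf⟩ := h1
    exact ⟨f, by rw [← hφ, hf]⟩
  have hcomm : a * aeval a f = aeval a f * a := by
    have h1 : aeval a (X * f) = aeval a (f * X) := by rw [mul_comm]
    rw [map_mul, map_mul, aeval_X] at h1
    exact h1
  have hyf : y = aeval a f := by
    have hinv : ∀ x ∈ LinearMap.ker (y - aeval a f), a x ∈ LinearMap.ker (y - aeval a f) := by
      intro x hx
      rw [LinearMap.mem_ker, LinearMap.sub_apply] at hx ⊢
      have h1 : y (a x) = a (y x) := by
        rw [← Module.End.mul_apply, ← hay, Module.End.mul_apply]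
      have h2 : aeval a f (a x) = a (aeval a f x) := by
        rw [← Module.End.mul_apply, ← hcomm, Module.End.mul_apply]
      rw [h1, h2, ← map_sub, hx, map_zero]
    have hker : LinearMap.ker (y - aeval a f) = ⊤ := by
      rcases hirr _ hinv with h | h
      · exfalso
        apply hv
        have h1 : v ∈ LinearMap.ker (y - aeval a f) := by
          rw [LinearMap.mem_ker, LinearMap.sub_apply, hf, sub_self]
        rw [h] at h1
        exact (Submodule.mem_bot _).1 h1
      · exact h
    ext x
    have h1 : x ∈ LinearMap.ker (y - aeval a f) := by rw [hker]; trivial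
    rw [LinearMap.mem_ker, LinearMap.sub_apply, sub_eq_zero] at h1
    exact h1
  have ha' : a ^ 2 ^ n = a' := by
    have h1 : a ^ 2 ^ n * a = 1 := by rw [← pow_succ, hap]
    calc a ^ 2 ^ n = a ^ 2 ^ n * (a * a') := by rw [haa', mul_one]
      _ = a' := by rw [← mul_assoc, h1, one_mul]
  have hfrob : aeval a f ^ 2 ^ n = aeval a' f := by
    rw [← map_pow, expand_two_pow, expand_aeval, ha']
  have hadj := adjoint_aeval a a' haa' B hBl hBr haB f
  have hone : aeval a' f * y = 1 := by
    ext w
    rw [Module.End.mul_apply, Module.End.one_apply]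
    have h1 : ∀ u, B u (aeval a' f (y w) - w) = 1 := by
      intro u
      have h2 := hBr u (aeval a' f (y w) - w) w
      rw [sub_add_cancel, ← hadj, ← hyf, hyB] at h2
      exact mul_eq_right.1 h2.symm
    exact sub_eq_zero.1 (hnd _ h1)
  have hfrob' : y ^ 2 ^ n = aeval a' f := by
    rw [← hfrob, ← hyf]
  rw [pow_succ, hfrob', hone]

end modF

/-- the exponent is `2`. -/
theorem sq_eq_one_of_fpf {E : Type*} [CommGroup E] [Finite E] (n : ℕ) (hp : (2 ^ n + 1).Prime)
    (hcard : Nat.card E = 2 ^ (2 * n)) (a : MulAut E) (hap : a ^ (2 ^ n + 1) = 1)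
    (hfix : ∀ x, a x = x → x = 1) : ∀ x : E, x ^ 2 = 1 := by
  rcases Nat.eq_zero_or_pos n with hn | hn
  · intro x
    rw [hn, mul_zero, pow_zero] at hcard
    haveI : Subsingleton E := (Nat.card_eq_one_iff_unique.1 hcard).1
    exact Subsingleton.elim _ _
  obtain ⟨α, hα⟩ : ∃ α : Additive E → Additive E,
      ∀ x, α x = Additive.ofMul (a (Additive.toMul x)) := ⟨_, fun x => rfl⟩
  have hαk : ∀ (k : ℕ) (x : Additive E), α^[k] x = Additive.ofMul ((a ^ k) (Additive.toMul x)) := by
    intro k
    induction k with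
    | zero => intro x; rfl
    | succ k ih =>
      intro x
      rw [Function.iterate_succ_apply', ih, hα, pow_succ', MulAut.mul_apply]
      rfl
  have hαp : ∀ x, α^[2 ^ n + 1] x = x := by
    intro x
    rw [hαk, hap]; rfl
  have hαfix : ∀ x, α x = x → x = 0 := by
    intro x hx
    rw [hα] at hx
    have h1 : a (Additive.toMul x) = Additive.toMul x := congrArg Additive.toMul hx
    have h2 := hfix _ h1
    exact congrArg Additive.ofMul h2
  have hα0 : α 0 = 0 := by
    rw [hα]
    change Additive.ofMul (a 1) = 0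
    rw [map_one]; rfl
  obtain ⟨U, hU⟩ : ∃ U : AddSubgroup (Additive E), ∀ x, x ∈ U ↔ 2 • x = 0 :=
    ⟨(nsmulAddMonoidHom 2 : Additive E →+ Additive E).ker, fun x => Iff.rfl⟩
  have hUinv : ∀ x ∈ U, α x ∈ U := by
    intro x hx
    rw [hU] at hx ⊢
    rw [hα]
    have h1 : (Additive.toMul x) ^ 2 = 1 := congrArg Additive.toMul hx
    change Additive.ofMul ((a (Additive.toMul x)) ^ 2) = 0
    rw [← map_pow, h1, map_one]; rfl
  have hcard' : Nat.card (Additive E) = 2 ^ (2 * n) := hcard
  rcases eq_bot_or_eq_top hp hcard' α hαp hαfix hα0 U hUinv with h | h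
  · exfalso
    haveI : Fact (Nat.Prime 2) := ⟨Nat.prime_two⟩
    have h2 : 2 ∣ Nat.card (Additive E) := by
      rw [hcard']
      exact dvd_pow_self 2 (by omega)
    obtain ⟨x, hx⟩ := exists_prime_addOrderOf_dvd_card' 2 h2
    have h3 : x ∈ U := by
      rw [hU, ← hx]
      exact addOrderOf_nsmul_eq_zero x
    rw [h, AddSubgroup.mem_bot] at h3
    rw [h3, addOrderOf_zero] at hx
    omega
  · intro x
    have h1 : Additive.ofMul x ∈ U := by rw [h]; trivial
    rw [hU] at h1
    exact congrArg Additive.toMul h1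

/-- **Lemma F.** Let `E` be an abelian group of order `2 ^ (2 n)` with `p = 2 ^ n + 1` prime,
`a` a fixed-point-free automorphism with `a ^ p = 1`, and `β` a non-degenerate `a`-invariant
pairing.  An automorphism `y` commuting with `a` and preserving `β` satisfies `y ^ p = 1`. -/
theorem pow_eq_one_of_group {E : Type*} [CommGroup E] [Finite E] {M : Type*} [Group M]
    (n : ℕ) (hp : (2 ^ n + 1).Prime) (hcard : Nat.card E = 2 ^ (2 * n))
    (a y : MulAut E) (hap : a ^ (2 ^ n + 1) = 1) (hfix : ∀ x, a x = x → x = 1)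
    (hay : a * y = y * a)
    (β : E → E → M) (hβl : ∀ u u' w, β (u * u') w = β u w * β u' w)
    (hβr : ∀ u w w', β u (w * w') = β u w * β u w')
    (hnd : ∀ w, (∀ u, β u w = 1) → w = 1)
    (haβ : ∀ u w, β (a u) (a w) = β u w) (hyβ : ∀ u w, β (y u) (y w) = β u w) :
    y ^ (2 ^ n + 1) = 1 := by
  have hexp := sq_eq_one_of_fpf n hp hcard a hap hfix
  letI : Module (ZMod 2) (Additive E) := AddCommGroup.zmodModule (n := 2)
    (fun x => congrArg Additive.ofMul (hexp (Additive.toMul x)))
  obtain ⟨L, hL⟩ : ∃ L : MulAut E →* Module.End (ZMod 2) (Additive E),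
      ∀ (e : MulAut E) (x : Additive E), L e x = Additive.ofMul (e (Additive.toMul x)) :=
    ⟨{ toFun := fun e => AddMonoidHom.toZModLinearMap 2 (MonoidHom.toAdditive e.toMonoidHom)
       map_one' := by ext x; rfl
       map_mul' := by intro e e'; ext x; rfl }, fun e x => rfl⟩
  have hcard' : Nat.card (Additive E) = 2 ^ (2 * n) := hcard
  have key := pow_eq_one_of_mod (V := Additive E) (M := M) n hp hcard' (L a) (L a⁻¹) (L y)
    (by rw [← map_mul, mul_inv_cancel, map_one]) (by rw [← map_pow, hap, map_one])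
    (by
      intro x hx
      rw [hL] at hx
      exact congrArg Additive.ofMul (hfix _ (congrArg Additive.toMul hx)))
    (by rw [← map_mul, ← map_mul, hay])
    (fun u w => β (Additive.toMul u) (Additive.toMul w))
    (fun u u' w => hβl _ _ _) (fun u w w' => hβr _ _ _)
    (fun w hw => congrArg Additive.ofMul (hnd (Additive.toMul w) (fun u => hw (Additive.ofMul u))))
    (fun u w => by rw [hL, hL]; exact haβ _ _)
    (fun u w => by rw [hL, hL]; exact hyβ _ _)
  rw [← map_pow] at key
  ext x
  have h1 := LinearMap.congr_fun key (Additive.ofMul x)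
  rw [hL] at h1
  exact congrArg Additive.toMul h1

end Cfsg.Agent.Helper1.FermatSymp
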