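import Cfsg.Agent.Helper1.FermatQuot
import Cfsg.Agent.Helper3.ShLinMain
import Cfsg.Agent.Helper3.ShAbsA

/-!
The exceptional case of Ward's theorem S3796: an `s`-group `Q` of class at most two acted on
by an element `a` of prime order `p` which centralizes `Z(Q)`, with `C_Q(a) ≤ Z(Q)`, and by a
`t`-group `T` centralizing `a` and `Z(Q)`; if `a` has no fixed vectors in a faithful
representation, then `[T, Q] ≤ Z(Q)`.
-/

set_option autoImplicit false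
set_option linter.style.haveILetI false
set_option linter.unusedSectionVars false

namespace Cfsg.Agent.Helper1.FermatX

open Module Cfsg.Agent.Helper3.Shult Cfsg.Agent.Helper3.FrobActC

/-- fixed points of a coprime automorphism of prime order lift modulo an invariant normal
subgroup. -/
theorem exists_fixed_in_coset {G : Type*} [Group G] [Finite G] {p s : ℕ} (hp : p.Prime)
    (hs : s.Prime) (hsp : s ≠ p) (hG : IsPGroup s G) (α : MulAut G) (hα : α ^ p = 1)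
    (D : Subgroup G) [hDn : D.Normal] (hD : ∀ d ∈ D, α d ∈ D) (g : G) (hg : α g * g⁻¹ ∈ D) :
    ∃ c : G, α c = c ∧ g⁻¹ * c ∈ D := by
  classical
  haveI : Fact p.Prime := ⟨hp⟩
  haveI : Fact s.Prime := ⟨hs⟩
  obtain ⟨X, hX⟩ : ∃ X : Set G, ∀ c, c ∈ X ↔ g⁻¹ * c ∈ D := ⟨{c | g⁻¹ * c ∈ D}, fun c => Iff.rfl⟩
  have hXα : ∀ c ∈ X, α c ∈ X := by
    intro c hc
    rw [hX] at hc ⊢
    have h1 : g⁻¹ * α c = (g⁻¹ * (α g * g⁻¹) * g⁻¹⁻¹) * α (g⁻¹ * c) := by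
      rw [map_mul, map_inv]; group
    rw [h1]
    exact D.mul_mem (hDn.conj_mem _ hg _) (hD _ hc)
  haveI : Fintype X := Fintype.ofFinite X
  obtain ⟨f, hf⟩ : ∃ f : Function.End X, ∀ c : X, ((f c : X) : G) = α c :=
    ⟨fun c : X => (⟨α c, hXα c c.2⟩ : X), fun c => rfl⟩
  have hfk : ∀ (k : ℕ) (c : X), (((f ^ k) c : X) : G) = (α ^ k) c := by
    intro k
    induction k with
    | zero => intro c; rfl
    | succ k ih =>
      intro c
      rw [pow_succ']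
      change ((f ((f ^ k) c) : X) : G) = _
      rw [hf, ih, pow_succ', MulAut.mul_apply]
  have hfp : f ^ p ^ 1 = 1 := by
    rw [pow_one]
    funext c
    apply Subtype.ext
    rw [hfk, hα]; rfl
  have h1 := Equiv.Perm.card_fixedPoints_modEq (f := f) (p := p) (n := 1) hfp
  have h1' : Nat.card X ≡ Nat.card (Function.fixedPoints f) [MOD p] := by
    rw [Nat.card_eq_fintype_card, Nat.card_eq_fintype_card]
    convert h1
  have hcardX : Nat.card X = Nat.card D := by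
    apply Nat.card_congr
    exact
      { toFun := fun c => ⟨g⁻¹ * (c : G), (hX _).1 c.2⟩
        invFun := fun d => ⟨g * (d : G), by rw [hX, inv_mul_cancel_left]; exact d.2⟩
        left_inv := by intro c; apply Subtype.ext; simp
        right_inv := by intro d; apply Subtype.ext; simp }
  by_contra hcon
  push Not at hcon
  have h2 : Nat.card (Function.fixedPoints f) = 0 := by
    rw [Nat.card_eq_zero]
    left
    constructor
    rintro ⟨c, hc⟩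
    change f c = c at hc
    have h3 := congrArg Subtype.val hc
    rw [hf] at h3
    exact hcon c h3 ((hX _).1 c.2)
  rw [h2, hcardX] at h1'
  have h4 : p ∣ Nat.card D := (Nat.modEq_zero_iff_dvd).1 h1'
  obtain ⟨e, he⟩ := IsPGroup.iff_card.1 hG
  have h5 : p ∣ s ^ e := he ▸ h4.trans (Subgroup.card_subgroup_dvd_card D)
  have h6 : p ∣ s := hp.dvd_of_dvd_pow h5
  exact hsp ((Nat.prime_dvd_prime_iff_eq hp hs).1 h6).symm

/-- conjugation by an element of the normalizer, as an automorphism of the subgroup. -/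
def conjNorm {Γ : Type*} [Group Γ] (Q : Subgroup Γ) :
    ↥(Subgroup.normalizer (Q : Set Γ)) →* MulAut ↥Q where
  toFun g :=
    { toFun := fun x => ⟨(g : Γ) * x * (g : Γ)⁻¹, (Subgroup.mem_normalizer_iff.1 g.2 x).1 x.2⟩
      invFun := fun x => ⟨(g : Γ)⁻¹ * x * (g : Γ), by
        have := (Subgroup.mem_normalizer_iff.1 (Subgroup.inv_mem _ g.2) x).1 x.2
        simpa using this⟩
      left_inv := by intro x; apply Subtype.ext; simp [mul_assoc]
      right_inv := by intro x; apply Subtype.ext; simp [mul_assoc]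
      map_mul' := by intro x y; apply Subtype.ext; simp [mul_assoc] }
  map_one' := by ext x; simp
  map_mul' := by intro g h; ext x; simp [mul_assoc]

theorem conjNorm_apply {Γ : Type*} [Group Γ] (Q : Subgroup Γ)
    (g : ↥(Subgroup.normalizer (Q : Set Γ))) (x : ↥Q) :
    ((conjNorm Q g x : ↥Q) : Γ) = (g : Γ) * x * (g : Γ)⁻¹ := rfl

section main

variable {k : Type*} [Field k] [IsAlgClosed k] {Γ : Type*} [Group Γ] [Finite Γ]
  {W : Type*} [AddCommGroup W] [Module k W] [Module.Finite k W] (ρ : Representation k Γ W)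

/-- number theory: `d * d ∣ s ^ e`, `d + 1 = p`, `d ≠ 1`, `s`, `p` primes: then `s = 2` and
`d = 2 ^ j`. -/
theorem two_pow_of_dvd {s p d e : ℕ} (hs : s.Prime) (hp : p.Prime) (hd : d * d ∣ s ^ e)
    (hdp : d + 1 = p) (hd1 : d ≠ 1) : ∃ j : ℕ, d = 2 ^ j := by
  have h1 : d ∣ s ^ e := (dvd_mul_right d d).trans hd
  obtain ⟨j, -, hj⟩ := (Nat.dvd_prime_pow hs).1 h1
  rcases hs.eq_two_or_odd' with h | hodd
  · exact ⟨j, by rw [hj, h]⟩
  · exfalso
    have h2 : Odd d := by rw [hj]; exact hodd.pow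
    have h3 : Even p := by rw [← hdp]; exact h2.add_one
    have h4 : p = 2 := (Nat.Prime.even_iff hp).1 h3
    omega

set_option maxHeartbeats 1000000 in
/-- **The Shult step**: the index of the "centre modulo the kernel on `M'`". -/
theorem shult_index {p s : ℕ} (hp : p.Prime) (hs : s.Prime) (hsp : s ≠ p)
    (hpk : (p : k) ≠ 0) (hsk : (s : k) ≠ 0) (Q : Subgroup Γ) (hQ : IsPGroup s Q) (a : Γ)
    (hap : a ^ p = 1) (haQ : a ∈ Subgroup.normalizer (Q : Set Γ))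
    (hclass : ∀ g ∈ Q, ∀ h ∈ Q, ∀ x ∈ Q, (g * h * g⁻¹ * h⁻¹) * x = x * (g * h * g⁻¹ * h⁻¹))
    (haZ : ∀ z ∈ Q, (∀ x ∈ Q, z * x = x * z) → a * z = z * a)
    (hCa : ∀ c ∈ Q, a * c = c * a → ∀ x ∈ Q, c * x = x * c)
    (M' : Submodule k W) (hM0 : M' ≠ ⊥) (hMQ : FInv ρ Q M') (hMa : M'.map (ρ a) ≤ M')
    (hmin : ∀ U : Submodule k W, U ≤ M' → FInv ρ Q U → U.map (ρ a) ≤ U → U = ⊥ ∨ U = M')
    (hfix : ∀ w ∈ M', ρ a w = w → w = 0)
    (N : Subgroup ↥Q)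
    (hN : ∀ g : ↥Q, g ∈ N ↔
      ∀ x : ↥Q, ∀ w ∈ M', ρ ((g : Γ) * x * (g : Γ)⁻¹ * (x : Γ)⁻¹) w = w) :
    (finrank k M' = 1 ∨ finrank k M' + 1 = p) ∧ N.index = finrank k M' * finrank k M' := by
  classical
  haveI : Fact s.Prime := ⟨hs⟩
  haveI : Nontrivial ↥M' := Submodule.nontrivial_iff_ne_bot.2 hM0
  obtain ⟨B, hB⟩ : ∃ B : Subgroup Γ, B = stab ρ M' := ⟨_, rfl⟩
  have hBmem : ∀ g : Γ, g ∈ B ↔ M'.map (ρ g) ≤ M' ∧ M'.map (ρ g⁻¹) ≤ M' := by
    intro g; rw [hB]; exact mem_stab ρ M' g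
  have hQB : Q ≤ B := fun g hg => (hBmem g).2 ⟨hMQ g hg, hMQ g⁻¹ (Q.inv_mem hg)⟩
  have haB : a ∈ B := (hBmem a).2 ⟨hMa, map_inv_le_of_pow ρ a p hp.pos hap M' hMa⟩
  have hBinv : ∀ g : ↥B, ∀ w ∈ M', (ρ.comp B.subtype) g w ∈ M' := by
    intro g w hw
    exact ((hBmem (g : Γ)).1 g.2).1 (Submodule.mem_map_of_mem hw)
  obtain ⟨ρ₁, hρ₁⟩ : ∃ ρ₁ : Representation k ↥B ↥M',
      ∀ (g : ↥B) (w : ↥M'), ((ρ₁ g w : ↥M') : W) = ρ (g : Γ) (w : W) :=
    ⟨subRep (ρ.comp B.subtype) M' hBinv, fun g w => rfl⟩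
  obtain ⟨ρ₂, hρ₂⟩ : ∃ ρ₂ : Representation k (Module.End k ↥M')ˣ ↥M',
      ∀ u : (Module.End k ↥M')ˣ, ρ₂ u = (u : Module.End k ↥M') :=
    ⟨Units.coeHom (Module.End k ↥M'), fun u => rfl⟩
  obtain ⟨ψ, hψ⟩ : ∃ ψ : ↥B →* (Module.End k ↥M')ˣ,
      ∀ g : ↥B, ((ψ g : (Module.End k ↥M')ˣ) : Module.End k ↥M') = ρ₁ g :=
    ⟨MonoidHom.toHomUnits ρ₁, fun g => rfl⟩
  obtain ⟨ψQ, hψQ⟩ : ∃ ψQ : ↥Q →* (Module.End k ↥M')ˣ, ∀ g : ↥Q, ψQ g = ψ ⟨g, hQB g.2⟩ :=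
    ⟨ψ.comp (Subgroup.inclusion hQB), fun g => rfl⟩
  obtain ⟨x, hx⟩ : ∃ x : (Module.End k ↥M')ˣ, x = ψ ⟨a, haB⟩ := ⟨_, rfl⟩
  have hψQw : ∀ (g : ↥Q) (w : ↥M'),
      ((((ψQ g : (Module.End k ↥M')ˣ) : Module.End k ↥M') w : ↥M') : W) = ρ (g : Γ) (w : W) := by
    intro g w; rw [hψQ, hψ, hρ₁]
  have hxw : ∀ w : ↥M',
      ((((x : (Module.End k ↥M')ˣ) : Module.End k ↥M') w : ↥M') : W) = ρ a (w : W) := by
    intro w; rw [hx, hψ, hρ₁]
  have hψQ1 : ∀ g : ↥Q, ψQ g = 1 ↔ ∀ w ∈ M', ρ (g : Γ) w = w := by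
    intro g
    constructor
    · intro h w hw
      have h1 := hψQw g ⟨w, hw⟩
      rw [h, Units.val_one, Module.End.one_apply] at h1
      exact h1.symm
    · intro h
      apply Units.ext
      apply LinearMap.ext
      intro w
      apply Subtype.ext
      rw [hψQw, Units.val_one, Module.End.one_apply]
      exact h w w.2
  obtain ⟨α, hα⟩ : ∃ α : MulAut ↥Q, α = conjNorm Q ⟨a, haQ⟩ := ⟨_, rfl⟩
  have hαv : ∀ g : ↥Q, ((α g : ↥Q) : Γ) = a * g * a⁻¹ := by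
    intro g; rw [hα]; rfl
  have hconj : ∀ g : ↥Q, x * ψQ g * x⁻¹ = ψQ (α g) := by
    intro g
    rw [hx, hψQ, hψQ, ← map_inv, ← map_mul, ← map_mul]
    congr 1
    apply Subtype.ext
    rw [Subgroup.coe_mul, Subgroup.coe_mul, Subgroup.coe_inv]
    exact (hαv g).symm
  have hαp : α ^ p = 1 := by
    rw [hα, ← map_pow]
    have : (⟨a, haQ⟩ : ↥(Subgroup.normalizer (Q : Set Γ))) ^ p = 1 := by
      apply Subtype.ext
      rw [Subgroup.coe_pow, Subgroup.coe_one]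
      exact hap
    rw [this, map_one]
  -- commutators
  have hcomm_central : ∀ g h : ↥Q, ∀ y : ↥Q,
      (g * h * g⁻¹ * h⁻¹) * y = y * (g * h * g⁻¹ * h⁻¹) := by
    intro g h y
    apply Subtype.ext
    simp only [Subgroup.coe_mul, Subgroup.coe_inv]
    exact hclass _ g.2 _ h.2 _ y.2
  have hcomm_fix : ∀ g h : ↥Q, α (g * h * g⁻¹ * h⁻¹) = g * h * g⁻¹ * h⁻¹ := by
    intro g h
    apply Subtype.ext
    rw [hαv]
    have h1 := haZ ((g * h * g⁻¹ * h⁻¹ : ↥Q) : Γ) (g * h * g⁻¹ * h⁻¹ : ↥Q).2 (by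
      intro y hy
      have := congrArg Subtype.val (hcomm_central g h ⟨y, hy⟩)
      simpa using this)
    rw [h1, mul_inv_cancel_right]
  have hfixed_central : ∀ c : ↥Q, α c = c → ∀ y : ↥Q, c * y = y * c := by
    intro c hc y
    apply Subtype.ext
    rw [Subgroup.coe_mul, Subgroup.coe_mul]
    apply hCa _ c.2 _ _ y.2
    have h1 := congrArg Subtype.val hc
    rw [hαv] at h1
    calc a * (c : Γ) = a * (c : Γ) * a⁻¹ * a := by group
      _ = (c : Γ) * a := by rw [h1]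
  obtain ⟨Qb, hQb⟩ : ∃ Qb : Subgroup (Module.End k ↥M')ˣ, Qb = ψQ.range := ⟨_, rfl⟩
  have hQbmem : ∀ u, u ∈ Qb ↔ ∃ g : ↥Q, ψQ g = u := by
    intro u; rw [hQb]; exact MonoidHom.mem_range
  haveI : Finite ↥Qb := by
    rw [hQb]; exact Finite.of_surjective ψQ.rangeRestrict ψQ.rangeRestrict_surjective
  have hQbp : IsPGroup s Qb := by
    rw [hQb]; exact IsPGroup.of_surjective hQ ψQ.rangeRestrict ψQ.rangeRestrict_surjective
  have hQbK : ((Nat.card Qb : ℕ) : k) ≠ 0 := by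
    obtain ⟨e, he⟩ := IsPGroup.iff_card.1 hQbp
    rw [he, Nat.cast_pow]
    exact pow_ne_zero e hsk
  have hxp : x ^ p = 1 := by
    rw [hx, ← map_pow]
    have : (⟨a, haB⟩ : ↥B) ^ p = 1 := by
      apply Subtype.ext
      rw [Subgroup.coe_pow, Subgroup.coe_one]
      exact hap
    rw [this, map_one]
  obtain ⟨C, hCdef⟩ : ∃ C : Subgroup (Module.End k ↥M')ˣ, C = Qb ⊓ Subgroup.centralizer {x} :=
    ⟨_, rfl⟩
  have hC : ∀ g, g ∈ C ↔ g ∈ Qb ∧ x * g * x⁻¹ = g := by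
    intro g
    rw [hCdef, Subgroup.mem_inf, Subgroup.mem_centralizer_singleton_iff]
    constructor
    · rintro ⟨h1, h2⟩
      refine ⟨h1, ?_⟩
      rw [← h2, mul_assoc, mul_inv_cancel, mul_one]
    · rintro ⟨h1, h2⟩
      refine ⟨h1, ?_⟩
      conv_lhs => rw [← h2]
      group
  -- the kernel of `ψQ`
  have hkerα : ∀ d ∈ ψQ.ker, α d ∈ ψQ.ker := by
    intro d hd
    rw [MonoidHom.mem_ker] at hd ⊢
    rw [← hconj, hd, mul_one, mul_inv_cancel]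
  have hc2 : ∀ c ∈ Qb, x * c * x⁻¹ = c → ∀ g ∈ Qb, c * g = g * c := by
    intro c hc hcx g hg
    obtain ⟨g₁, rfl⟩ := (hQbmem c).1 hc
    obtain ⟨g₂, rfl⟩ := (hQbmem g).1 hg
    rw [hconj] at hcx
    have h1 : α g₁ * g₁⁻¹ ∈ ψQ.ker := by
      rw [MonoidHom.mem_ker, map_mul, map_inv, hcx, mul_inv_cancel]
    obtain ⟨c', hc', hgc'⟩ := exists_fixed_in_coset hp hs hsp hQ α hαp ψQ.ker hkerα g₁ h1
    rw [MonoidHom.mem_ker, map_mul, map_inv, inv_mul_eq_one] at hgc'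
    rw [hgc', ← map_mul, ← map_mul, hfixed_central c' hc' g₂]
  have hlin := shult_linear ρ₂ Qb x p hp hxp
    (by
      intro n hn
      obtain ⟨g, rfl⟩ := (hQbmem n).1 hn
      rw [hconj]
      exact (hQbmem _).2 ⟨_, rfl⟩)
    hQbK hpk
    (by
      intro U hU hUx
      have hU'Q : FInv ρ Q (U.map M'.subtype) := by
        apply finv_of_mem
        rintro g hg _ ⟨u, hu, rfl⟩
        have h1 : ρ₂ (ψQ ⟨g, hg⟩) u ∈ U := hU.mem ((hQbmem _).2 ⟨_, rfl⟩) hu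
        refine ⟨_, h1, ?_⟩
        rw [Submodule.subtype_apply, hρ₂, hψQw]
        rfl
      have hU'x : (U.map M'.subtype).map (ρ a) ≤ U.map M'.subtype := by
        rintro _ ⟨_, ⟨u, hu, rfl⟩, rfl⟩
        have h1 : ρ₂ x u ∈ U := hUx (Submodule.mem_map_of_mem hu)
        refine ⟨_, h1, ?_⟩
        rw [Submodule.subtype_apply, hρ₂, hxw]
        rfl
      have hle : U.map M'.subtype ≤ M' := by
        rintro _ ⟨u, _, rfl⟩
        exact u.2
      rcases hmin _ hle hU'Q hU'x with h | h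
      · left
        rw [eq_bot_iff]
        intro u hu
        have h1 : (u : W) ∈ U.map M'.subtype := ⟨u, hu, rfl⟩
        rw [h, Submodule.mem_bot] at h1
        rw [Submodule.mem_bot]
        exact Subtype.ext h1
      · right
        rw [eq_top_iff]
        intro w _
        have h1 : (w : W) ∈ U.map M'.subtype := by rw [h]; exact w.2
        obtain ⟨u, hu, hue⟩ := h1
        have : u = w := Subtype.ext hue
        rw [← this]; exact hu)
    (by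
      intro w hw
      rw [hρ₂] at hw
      have h1 := congrArg Subtype.val hw
      rw [hxw] at h1
      exact Subtype.ext (hfix (w : W) w.2 h1))
    (by
      intro g hg h hh
      obtain ⟨g₁, rfl⟩ := (hQbmem g).1 hg
      obtain ⟨g₂, rfl⟩ := (hQbmem h).1 hh
      rw [← map_inv, ← map_inv, ← map_mul, ← map_mul, ← map_mul, hconj, hcomm_fix])
    hc2
    (by
      intro g _ hsc
      obtain ⟨l, hl⟩ := hsc
      rw [hρ₂] at hl
      apply Units.ext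
      rw [Units.val_mul, Units.val_mul, hl, mul_smul_comm, mul_one, smul_mul_assoc,
        ← Units.val_mul, mul_inv_cancel, Units.val_one])
    (by
      intro c hc _ hcr
      exact eq_one_of_pgroup_of_pow hs hp hsp Qb hQbp c hc hcr)
    C hC
  obtain ⟨hD, hcard, hcent⟩ := hlin
  have hdim : finrank k ↥M' = finrank k M' := rfl
  refine ⟨hD, ?_⟩
  -- `N` is the preimage of `C`
  have hcomm1 : ∀ g y : ↥Q, ψQ g * ψQ y = ψQ y * ψQ g ↔
      ∀ w ∈ M', ρ ((g : Γ) * y * (g : Γ)⁻¹ * (y : Γ)⁻¹) w = w := by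
    intro g y
    have h1 := hψQ1 (g * y * g⁻¹ * y⁻¹)
    simp only [Subgroup.coe_mul, Subgroup.coe_inv] at h1
    rw [← h1, map_mul, map_mul, map_mul, map_inv, map_inv]
    constructor
    · intro h
      rw [h]; group
    · intro h
      calc ψQ g * ψQ y = (ψQ g * ψQ y * (ψQ g)⁻¹ * (ψQ y)⁻¹) * (ψQ y * ψQ g) := by group
        _ = ψQ y * ψQ g := by rw [h, one_mul]
  have hNC : N = C.comap ψQ := by
    ext g
    rw [Subgroup.mem_comap, hN, hC]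
    constructor
    · intro h
      refine ⟨(hQbmem _).2 ⟨g, rfl⟩, ?_⟩
      apply hcent _ ((hQbmem _).2 ⟨g, rfl⟩)
      intro u hu
      obtain ⟨y, rfl⟩ := (hQbmem u).1 hu
      exact (hcomm1 g y).2 (h y)
    · rintro ⟨h1, h2⟩ y
      exact (hcomm1 g y).1 (hc2 _ h1 h2 _ ((hQbmem _).2 ⟨y, rfl⟩))
  have hCle : C ≤ Qb := fun g hg => ((hC g).1 hg).1
  have h3 : Nat.card C * C.relIndex Qb = Nat.card Qb := by
    have := Subgroup.relIndex_mul_relIndex (⊥ : Subgroup (Module.End k ↥M')ˣ) C Qb bot_le hCle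
    rwa [Subgroup.relIndex_bot_left, Subgroup.relIndex_bot_left] at this
  haveI : Finite ↥C := Finite.of_injective (Subgroup.inclusion hCle)
    (Subgroup.inclusion_injective hCle)
  have hCpos : 0 < Nat.card C := Nat.card_pos
  rw [hNC, Subgroup.index_comap, ← hQb]
  have h4 : Nat.card C * C.relIndex Qb = Nat.card C * (finrank k M' * finrank k M') := by
    rw [h3, ← hcard, hdim]; ring
  exact Nat.eq_of_mul_eq_mul_left hCpos h4

set_option maxHeartbeats 1000000 in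
/-- **The exceptional case of Ward's theorem.** -/
theorem comm_central_of_fpf {p s t : ℕ} (hp : p.Prime) (hs : s.Prime) (ht : t.Prime)
    (hsp : s ≠ p) (htp : t ≠ p) (hpk : (p : k) ≠ 0) (hsk : (s : k) ≠ 0)
    (Q T : Subgroup Γ) (hQ : IsPGroup s Q) (hT : IsPGroup t T) (a : Γ) (hap : a ^ p = 1)
    (hTQ : T ≤ Subgroup.normalizer (Q : Set Γ)) (haQ : a ∈ Subgroup.normalizer (Q : Set Γ))
    (haT : ∀ y ∈ T, a * y = y * a)
    (hclass : ∀ g ∈ Q, ∀ h ∈ Q, ∀ x ∈ Q, (g * h * g⁻¹ * h⁻¹) * x = x * (g * h * g⁻¹ * h⁻¹))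
    (haZ : ∀ z ∈ Q, (∀ x ∈ Q, z * x = x * z) → a * z = z * a)
    (hTZ : ∀ z ∈ Q, (∀ x ∈ Q, z * x = x * z) → ∀ y ∈ T, y * z = z * y)
    (hCa : ∀ c ∈ Q, a * c = c * a → ∀ x ∈ Q, c * x = x * c)
    (hfaith : ∀ g ∈ Q, ρ g = 1 → g = 1)
    (hfix : ∀ w, ρ a w = w → w = 0) :
    ∀ y ∈ T, ∀ g ∈ Q, ∀ x ∈ Q, (y * g * y⁻¹ * g⁻¹) * x = x * (y * g * y⁻¹ * g⁻¹) := by
  classical
  haveI : Fact s.Prime := ⟨hs⟩
  haveI : Fact t.Prime := ⟨ht⟩
  by_contra hcon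
  push Not at hcon
  obtain ⟨y₀, hy₀, g₀, hg₀, x₀, hx₀, hne⟩ := hcon
  have hy₀Q : y₀ ∈ Subgroup.normalizer (Q : Set Γ) := hTQ hy₀
  obtain ⟨c₀, hc₀def⟩ : ∃ c₀, c₀ = y₀ * g₀ * y₀⁻¹ * g₀⁻¹ := ⟨_, rfl⟩
  have hc₀ : c₀ ∈ Q := by
    rw [hc₀def]
    exact Q.mul_mem ((Subgroup.mem_normalizer_iff.1 hy₀Q g₀).1 hg₀) (Q.inv_mem hg₀)
  rw [← hc₀def] at hne
  obtain ⟨z₀, hz₀def⟩ : ∃ z₀, z₀ = c₀ * x₀ * c₀⁻¹ * x₀⁻¹ := ⟨_, rfl⟩
  have hz₀Q : z₀ ∈ Q := by
    rw [hz₀def]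
    exact Q.mul_mem (Q.mul_mem (Q.mul_mem hc₀ hx₀) (Q.inv_mem hc₀)) (Q.inv_mem hx₀)
  have hz₀1 : z₀ ≠ 1 := by
    intro h
    apply hne
    rw [hz₀def] at h
    calc c₀ * x₀ = (c₀ * x₀ * c₀⁻¹ * x₀⁻¹) * (x₀ * c₀) := by group
      _ = x₀ * c₀ := by rw [h, one_mul]
  have hz₀c : ∀ x ∈ Q, z₀ * x = x * z₀ := by
    rw [hz₀def]; exact hclass c₀ hc₀ x₀ hx₀
  have hz₀a : a * z₀ = z₀ * a := haZ z₀ hz₀Q hz₀c
  -- `Z = ⟨z₀⟩`
  obtain ⟨Z, hZdef⟩ : ∃ Z : Subgroup Γ, Z = Subgroup.zpowers z₀ := ⟨_, rfl⟩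
  have hZcent : Z ≤ Subgroup.centralizer ((Q : Set Γ) ∪ {a}) := by
    rw [hZdef, Subgroup.zpowers_le, Subgroup.mem_centralizer_iff]
    rintro h (hh | hh)
    · exact (hz₀c h hh).symm
    · rw [Set.mem_singleton_iff] at hh
      rw [hh]; exact hz₀a
  have hZQ' : Z ≤ Q := by
    rw [hZdef, Subgroup.zpowers_le]; exact hz₀Q
  have hZQ : ∀ g ∈ Q, ∀ z ∈ Z, g * z * g⁻¹ ∈ Z := by
    intro g hg z hz
    have h1 := Subgroup.mem_centralizer_iff.1 (hZcent hz) g (Or.inl hg)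
    rw [h1, mul_inv_cancel_right]
    exact hz
  have hZa : ∀ z ∈ Z, a * z * a⁻¹ ∈ Z := by
    intro z hz
    have h1 := Subgroup.mem_centralizer_iff.1 (hZcent hz) a (Or.inr rfl)
    rw [h1, mul_inv_cancel_right]
    exact hz
  have hZK : ((Nat.card Z : ℕ) : k) ≠ 0 := by
    obtain ⟨e, he⟩ := IsPGroup.iff_card.1 (hQ.to_le hZQ')
    rw [he, Nat.cast_pow]
    exact pow_ne_zero e hsk
  have hZ1 : ∃ z ∈ Z, ρ z ≠ 1 :=
    ⟨z₀, by rw [hZdef]; exact Subgroup.mem_zpowers z₀, fun h => hz₀1 (hfaith z₀ hz₀Q h)⟩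
  obtain ⟨M', hM0, hMQ, hMa, hmin, hfixZ⟩ := exists_min_sub ρ Q Z a hZQ hZa hZK hZ1
  -- the kernel on `M'`
  obtain ⟨K', hK'⟩ : ∃ K' : Subgroup ↥Q, ∀ g : ↥Q, g ∈ K' ↔ ∀ w ∈ M', ρ (g : Γ) w = w := by
    refine ⟨{ carrier := {g | ∀ w ∈ M', ρ (g : Γ) w = w}
              mul_mem' := ?_
              one_mem' := ?_
              inv_mem' := ?_ }, fun g => Iff.rfl⟩
    · intro g h hg hh w hw
      rw [Subgroup.coe_mul, map_mul, Module.End.mul_apply, hh w hw, hg w hw]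
    · intro w _
      rw [Subgroup.coe_one, map_one, Module.End.one_apply]
    · intro g hg w hw
      have := hg w hw
      conv_lhs => rw [← this]
      rw [Subgroup.coe_inv]
      exact rho_inv_mul ρ _ w
  haveI hK'n : K'.Normal := by
    constructor
    intro g hg h
    rw [hK'] at hg ⊢
    intro w hw
    have h1 : ρ ((h : Γ)⁻¹) w ∈ M' := hMQ.mem (Q.inv_mem h.2) hw
    rw [Subgroup.coe_mul, Subgroup.coe_mul, Subgroup.coe_inv, map_mul, map_mul,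
      Module.End.mul_apply, Module.End.mul_apply, hg _ h1]
    exact rho_mul_inv ρ _ w
  obtain ⟨π, hπ⟩ : ∃ π : ↥Q →* ↥Q ⧸ K', π = QuotientGroup.mk' K' := ⟨_, rfl⟩
  have hπsurj : Function.Surjective π := by rw [hπ]; exact QuotientGroup.mk'_surjective K'
  have hπ1 : ∀ g : ↥Q, π g = 1 ↔ ∀ w ∈ M', ρ (g : Γ) w = w := by
    intro g
    rw [hπ, QuotientGroup.mk'_apply, QuotientGroup.eq_one_iff, hK']
  obtain ⟨N, hNdef⟩ : ∃ N : Subgroup ↥Q, N = (Subgroup.center (↥Q ⧸ K')).comap π := ⟨_, rfl⟩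
  haveI hNn : N.Normal := by rw [hNdef]; infer_instance
  have hNmem : ∀ g : ↥Q, g ∈ N ↔ ∀ x : ↥Q, π (g * x * g⁻¹ * x⁻¹) = 1 := by
    intro g
    rw [hNdef, Subgroup.mem_comap, Subgroup.mem_center_iff]
    constructor
    · intro h x
      rw [map_mul, map_mul, map_mul, map_inv, map_inv, ← h (π x)]
      group
    · intro h u
      obtain ⟨x, rfl⟩ := hπsurj u
      have h1 := h x
      rw [map_mul, map_mul, map_mul, map_inv, map_inv] at h1
      calc π x * π g = (π g * π x * (π g)⁻¹ * (π x)⁻¹)⁻¹ * (π g * π x) := by group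
        _ = π g * π x := by rw [h1, inv_one, one_mul]
  have hN : ∀ g : ↥Q, g ∈ N ↔
      ∀ x : ↥Q, ∀ w ∈ M', ρ ((g : Γ) * x * (g : Γ)⁻¹ * (x : Γ)⁻¹) w = w := by
    intro g
    rw [hNmem]
    constructor
    · intro h x
      have := (hπ1 _).1 (h x)
      simpa using this
    · intro h x
      rw [hπ1]
      have := h x
      simpa using this
  obtain ⟨hD, hidx⟩ := shult_index ρ hp hs hsp hpk hsk Q hQ a hap haQ hclass haZ hCa M' hM0 hMQ hMa
    hmin (fun w _ => hfix w) N hN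
  -- the final contradiction
  have hfinal : (⟨c₀, hc₀⟩ : ↥Q) ∈ N → False := by
    intro hmem
    have h1 := (hN _).1 hmem ⟨x₀, hx₀⟩
    obtain ⟨S, hS⟩ : ∃ S : Subgroup Γ, ∀ g, g ∈ S ↔ ∀ w ∈ M', ρ g w = w := by
      refine ⟨{ carrier := {g | ∀ w ∈ M', ρ g w = w}
                mul_mem' := ?_
                one_mem' := ?_
                inv_mem' := ?_ }, fun g => Iff.rfl⟩
      · intro g h hg hh w hw
        rw [map_mul, Module.End.mul_apply, hh w hw, hg w hw]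
      · intro w _
        rw [map_one, Module.End.one_apply]
      · intro g hg w hw
        have := hg w hw
        conv_lhs => rw [← this]
        exact rho_inv_mul ρ _ w
    have h2 : Z ≤ S := by
      rw [hZdef, Subgroup.zpowers_le, hS, hz₀def]
      exact h1
    apply hM0
    rw [eq_bot_iff]
    intro w hw
    rw [Submodule.mem_bot]
    exact hfixZ w hw (fun z hz => (hS z).1 (h2 hz) w hw)
  by_cases hd1 : finrank k M' = 1
  · rw [hd1, mul_one, Subgroup.index_eq_one] at hidx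
    apply hfinal
    rw [hidx]; trivial
  have hdp : finrank k M' + 1 = p := by
    rcases hD with h | h
    · exact absurd h hd1
    · exact h
  obtain ⟨e, he⟩ := IsPGroup.iff_card.1 hQ
  have hdvd : finrank k M' * finrank k M' ∣ s ^ e := by
    rw [← hidx, ← he]
    exact Subgroup.index_dvd_card N
  obtain ⟨j, hj⟩ := two_pow_of_dvd hs hp hdvd hdp hd1
  rw [hj] at hdp hidx
  subst hdp
  have hidx' : N.index = 2 ^ (2 * j) := by
    rw [hidx, two_mul, pow_add]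
  -- the automorphisms
  obtain ⟨α, hα⟩ : ∃ α : MulAut ↥Q, α = conjNorm Q ⟨a, haQ⟩ := ⟨_, rfl⟩
  have hαv : ∀ g : ↥Q, ((α g : ↥Q) : Γ) = a * g * a⁻¹ := by
    intro g; rw [hα]; rfl
  obtain ⟨υ, hυ⟩ : ∃ υ : MulAut ↥Q, υ = conjNorm Q ⟨y₀, hy₀Q⟩ := ⟨_, rfl⟩
  have hυv : ∀ g : ↥Q, ((υ g : ↥Q) : Γ) = y₀ * g * y₀⁻¹ := by
    intro g; rw [hυ]; rfl
  have hαp : α ^ (2 ^ j + 1) = 1 := by
    rw [hα, ← map_pow]
    have : (⟨a, haQ⟩ : ↥(Subgroup.normalizer (Q : Set Γ))) ^ (2 ^ j + 1) = 1 := by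
      apply Subtype.ext
      rw [Subgroup.coe_pow, Subgroup.coe_one]
      exact hap
    rw [this, map_one]
  have hυm : υ ^ Nat.card T = 1 := by
    rw [hυ, ← map_pow]
    have : (⟨y₀, hy₀Q⟩ : ↥(Subgroup.normalizer (Q : Set Γ))) ^ Nat.card T = 1 := by
      apply Subtype.ext
      rw [Subgroup.coe_pow, Subgroup.coe_one]
      have h1 : (⟨y₀, hy₀⟩ : ↥T) ^ Nat.card T = 1 := pow_card_eq_one'
      have h2 := congrArg Subtype.val h1
      rwa [Subgroup.coe_pow, Subgroup.coe_one] at h2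
    rw [this, map_one]
  have hm : (Nat.card T).Coprime (2 ^ j + 1) := by
    obtain ⟨e', he'⟩ := IsPGroup.iff_card.1 hT
    rw [he']
    exact Nat.Coprime.pow_left e' ((Nat.coprime_primes ht hp).2 htp)
  -- commutators
  have hcc : ∀ g h y : ↥Q, (g * h * g⁻¹ * h⁻¹) * y = y * (g * h * g⁻¹ * h⁻¹) := by
    intro g h y
    apply Subtype.ext
    simp only [Subgroup.coe_mul, Subgroup.coe_inv]
    exact hclass _ g.2 _ h.2 _ y.2
  have hcZ : ∀ g h : ↥Q, ∀ x ∈ Q,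
      ((g * h * g⁻¹ * h⁻¹ : ↥Q) : Γ) * x = x * ((g * h * g⁻¹ * h⁻¹ : ↥Q) : Γ) := by
    intro g h x hx
    have := congrArg Subtype.val (hcc g h ⟨x, hx⟩)
    simpa using this
  have hαc : ∀ g h : ↥Q, α (g * h * g⁻¹ * h⁻¹) = g * h * g⁻¹ * h⁻¹ := by
    intro g h
    apply Subtype.ext
    rw [hαv]
    have h1 := haZ ((g * h * g⁻¹ * h⁻¹ : ↥Q) : Γ) (g * h * g⁻¹ * h⁻¹ : ↥Q).2 (hcZ g h)
    rw [h1, mul_inv_cancel_right]
  have hυc : ∀ g h : ↥Q, υ (g * h * g⁻¹ * h⁻¹) = g * h * g⁻¹ * h⁻¹ := by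
    intro g h
    apply Subtype.ext
    rw [hυv]
    have h1 := hTZ ((g * h * g⁻¹ * h⁻¹ : ↥Q) : Γ) (g * h * g⁻¹ * h⁻¹ : ↥Q).2 (hcZ g h) y₀ hy₀
    rw [h1, mul_inv_cancel_right]
  have hE3 : ∀ g g' x : ↥Q, (g * g') * x * (g * g')⁻¹ * x⁻¹ =
      (g * x * g⁻¹ * x⁻¹) * (g' * x * g'⁻¹ * x⁻¹) := by
    intro g g' x
    calc (g * g') * x * (g * g')⁻¹ * x⁻¹
        = g * (g' * x * g'⁻¹ * x⁻¹) * (x * g⁻¹ * x⁻¹) := by group
      _ = (g' * x * g'⁻¹ * x⁻¹) * g * (x * g⁻¹ * x⁻¹) := by rw [← hcc g' x g]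
      _ = (g' * x * g'⁻¹ * x⁻¹) * (g * x * g⁻¹ * x⁻¹) := by group
      _ = (g * x * g⁻¹ * x⁻¹) * (g' * x * g'⁻¹ * x⁻¹) := hcc g' x _
  have hE4 : ∀ g x x' : ↥Q, g * (x * x') * g⁻¹ * (x * x')⁻¹ =
      (g * x * g⁻¹ * x⁻¹) * (g * x' * g⁻¹ * x'⁻¹) := by
    intro g x x'
    calc g * (x * x') * g⁻¹ * (x * x')⁻¹
        = (g * x * g⁻¹ * x⁻¹) * (x * (g * x' * g⁻¹ * x'⁻¹)) * x⁻¹ := by group
      _ = (g * x * g⁻¹ * x⁻¹) * ((g * x' * g⁻¹ * x'⁻¹) * x) * x⁻¹ := by rw [hcc g x' x]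
      _ = (g * x * g⁻¹ * x⁻¹) * (g * x' * g⁻¹ * x'⁻¹) := by group
  have hE1 : ∀ g x : ↥Q, α g * α x * (α g)⁻¹ * (α x)⁻¹ = g * x * g⁻¹ * x⁻¹ := by
    intro g x
    rw [← map_inv, ← map_inv, ← map_mul, ← map_mul, ← map_mul, hαc]
  have hE2 : ∀ g x : ↥Q, υ g * υ x * (υ g)⁻¹ * (υ x)⁻¹ = g * x * g⁻¹ * x⁻¹ := by
    intro g x
    rw [← map_inv, ← map_inv, ← map_mul, ← map_mul, ← map_mul, hυc]
  have hswap : ∀ g x : ↥Q, π (g * x * g⁻¹ * x⁻¹) = 1 → π (x * g * x⁻¹ * g⁻¹) = 1 := by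
    intro g x h
    have h1 : x * g * x⁻¹ * g⁻¹ = (g * x * g⁻¹ * x⁻¹)⁻¹ := by group
    rw [h1, map_inv, h, inv_one]
  have hαN : ∀ g ∈ N, α g ∈ N := by
    intro g hg
    rw [hNmem] at hg ⊢
    intro x
    have h1 := hE1 g (α⁻¹ x)
    rw [MulAut.apply_inv_self] at h1
    rw [h1]
    exact hg _
  have hυN : ∀ g ∈ N, υ g ∈ N := by
    intro g hg
    rw [hNmem] at hg ⊢
    intro x
    have h1 := hE2 g (υ⁻¹ x)
    rw [MulAut.apply_inv_self] at h1
    rw [h1]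
    exact hg _
  have key := Cfsg.Agent.Helper1.FermatSymp.mem_of_quotient (M := ↥Q ⧸ K') N
    (by
      intro g h
      rw [hNmem]
      intro x
      have h1 : (g * h * g⁻¹ * h⁻¹) * x * (g * h * g⁻¹ * h⁻¹)⁻¹ * x⁻¹ = 1 := by
        rw [hcc g h x]; group
      rw [h1, map_one])
    j hp hidx' α υ hαN hυN hαp
    (by
      intro g hg
      have h1 : α g * g⁻¹ ∈ N := by
        have h2 : α g * g⁻¹ = g * ((α g)⁻¹ * g)⁻¹ * g⁻¹ := by group
        rw [h2]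
        exact hNn.conj_mem _ (N.inv_mem hg) _
      obtain ⟨c, hc, hgc⟩ := exists_fixed_in_coset hp hs hsp hQ α hαp N hαN g h1
      have hcN : c ∈ N := by
        rw [hNmem]
        intro x
        have h3 : (c : Γ) * x = x * c := by
          apply hCa _ c.2 _ _ x.2
          have h4 := congrArg Subtype.val hc
          rw [hαv] at h4
          calc a * (c : Γ) = a * (c : Γ) * a⁻¹ * a := by group
            _ = (c : Γ) * a := by rw [h4]
        have h5 : c * x * c⁻¹ * x⁻¹ = 1 := by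
          apply Subtype.ext
          simp only [Subgroup.coe_mul, Subgroup.coe_inv, Subgroup.coe_one]
          rw [h3]; group
        rw [h5, map_one]
      have h6 : g = c * (g⁻¹ * c)⁻¹ := by group
      rw [h6]
      exact N.mul_mem hcN (N.inv_mem hgc))
    (by
      intro g
      apply Subtype.ext
      rw [hαv, hυv, hυv, hαv]
      have hay := haT y₀ hy₀
      calc a * (y₀ * (g : Γ) * y₀⁻¹) * a⁻¹ = (a * y₀) * (g : Γ) * (a * y₀)⁻¹ := by group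
        _ = (y₀ * a) * (g : Γ) * (y₀ * a)⁻¹ := by rw [hay]
        _ = y₀ * (a * (g : Γ) * a⁻¹) * y₀⁻¹ := by group)
    (Nat.card T) hm hυm
    (fun g x => π (g * x * g⁻¹ * x⁻¹))
    (by intro g g' x; rw [hE3, map_mul])
    (by intro g x x'; rw [hE4, map_mul])
    (by intro g x hg; exact (hNmem g).1 hg x)
    (by intro g x hx; exact hswap x g ((hNmem x).1 hx g))
    (by
      intro x hx
      rw [hNmem]
      intro g
      exact hswap g x (hx g))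
    (by intro g x; rw [hE1])
    (by intro g x; rw [hE2])
  apply hfinal
  have h7 := key (⟨g₀, hg₀⟩ : ↥Q)⁻¹
  have h8 : (υ (⟨g₀, hg₀⟩ : ↥Q)⁻¹)⁻¹ * (⟨g₀, hg₀⟩ : ↥Q)⁻¹ = ⟨c₀, hc₀⟩ := by
    apply Subtype.ext
    change _ = c₀
    rw [Subgroup.coe_mul, Subgroup.coe_inv, hυv, Subgroup.coe_inv]
    change (y₀ * g₀⁻¹ * y₀⁻¹)⁻¹ * g₀⁻¹ = c₀
    rw [hc₀def]
    group
  rw [h8] at h7
  exact h7

end main

end Cfsg.Agent.Helper1.FermatX
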