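import Mathlib
import Cfsg.Agent.Lead.ThreeTransR3
import Cfsg.Agent.Helper4.TT5C
import Cfsg.Agent.Helper9.S3
import Cfsg.Agent.Helper1.Fitting

set_option autoImplicit false

/-!
# Fischer's `O(⟨D_x⟩)`-lemma (S1615): definitions

`star D a` (lead's `Cfsg.Agent.Lead.TTW.star`) is the set `D_a` of members of `D` other than `a`
commuting with `a`.
-/

namespace Cfsg.Agent.Helper1.Fo3

open Cfsg.Agent.Lead.TTW

variable {G : Type*} [Group G]

/-- `y` and `z` are twins inside the star of `x ∈ D`: both commute with `x`, they do not commute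
with each other, and they have the same commuting members inside the star of `x`. -/
def Twin (D : Set G) (x y z : G) : Prop :=
  x ∈ D ∧ y ∈ star D x ∧ z ∈ star D x ∧ ¬ Commute y z ∧
    star D x ∩ star D y = star D x ∩ star D z

/-- every star is pairwise non-commuting (the commuting graph on `D` has no triangles) -/
def TriFree (D : Set G) : Prop :=
  ∀ a ∈ D, ∀ b ∈ star D a, ∀ c ∈ star D a, b ≠ c → ¬ Commute b c

/-- the commuting graph on the subtype of `D` -/
def cg (D : Set G) : SimpleGraph ↥D :=
  SimpleGraph.fromRel fun a b => Commute (a : G) (b : G)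

theorem cg_adj {D : Set G} (a b : ↥D) : (cg D).Adj a b ↔ a ≠ b ∧ Commute (a : G) (b : G) := by
  unfold cg
  rw [SimpleGraph.fromRel_adj]
  constructor
  · rintro ⟨h1, h2 | h2⟩
    · exact ⟨h1, h2⟩
    · exact ⟨h1, h2.symm⟩
  · rintro ⟨h1, h2⟩
    exact ⟨h1, Or.inl h2⟩

end Cfsg.Agent.Helper1.Fo3
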