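import Mathlib
import Cfsg.Agent.Helper1.Fo3Defs

set_option autoImplicit false

/-!
# S1615, label F2: with `O₃(G) = 1`, non-commuting members of the class have different stars
-/

namespace Cfsg.Agent.Helper1.Fo3

open Cfsg.Agent.Lead.TTW

variable {G : Type*} [Group G]

/-- the star of a conjugate is the conjugate of the star -/
theorem star_conj_eq_image {D : Set G} (hT : TT3 D) (g a : G) :
    star D (g * a * g⁻¹) = (fun u => g * u * g⁻¹) '' star D a := by
  ext u
  rw [mem_star_conj hT]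
  constructor
  · intro hu
    exact ⟨g⁻¹ * u * g, hu, by group⟩
  · rintro ⟨v, hv, rfl⟩
    have e : g⁻¹ * (g * v * g⁻¹) * g = v := by group
    rw [e]; exact hv

theorem exists_star_diff [Finite G] {D : Set G} (hT : TT3 D)
    (hcl : ∀ a ∈ D, ∀ b ∈ D, ∃ g : G, g * a * g⁻¹ = b) (h3 : Cfsg.pCore 3 G = ⊥) {y z : G}
    (hy : y ∈ D) (hz : z ∈ D) (hyz : ¬ Commute y z) : ∃ w ∈ star D y, w ∉ star D z := by
  by_contra hcon
  push Not at hcon
  have hsub : star D y ⊆ star D z := hcon
  obtain ⟨g, hg⟩ := hcl y hy z hz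
  have hcard : (star D z).ncard = (star D y).ncard := by
    rw [← hg, star_conj_eq_image hT]
    apply Set.ncard_image_of_injective
    intro u v huv
    have huv' : g * u * g⁻¹ = g * v * g⁻¹ := huv
    exact mul_left_cancel (mul_right_cancel huv')
  have heq : star D y = star D z :=
    Set.eq_of_subset_of_ncard_le hsub hcard.le (Set.toFinite _)
  have hW := (main_W hT hy).2
  have hzmem : z ∈ {w : G | w ∈ D ∧ {y' : G | y' ∈ D ∧ y' ≠ y ∧ Commute y y'} =
      {y' : G | y' ∈ D ∧ y' ≠ w ∧ Commute w y'}} := ⟨hz, heq⟩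
  rw [hW] at hzmem
  obtain ⟨c, hc, hzc⟩ := hzmem
  rw [h3, Subgroup.mem_bot] at hc
  subst hc
  apply hyz
  rw [hzc]
  simp

end Cfsg.Agent.Helper1.Fo3
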