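import Mathlib
import Cfsg.Agent.Helper1.Fo3Defs

set_option autoImplicit false

/-!
# S1615, label F3: conjugation, symmetry and the third point for twins
-/

namespace Cfsg.Agent.Helper1.Fo3

open Cfsg.Agent.Lead.TTW

variable {G : Type*} [Group G]

theorem Twin.conj {D : Set G} (hT : TT3 D) {x y z : G} (h : Twin D x y z) (g : G) :
    Twin D (g * x * g⁻¹) (g * y * g⁻¹) (g * z * g⁻¹) := by
  obtain ⟨hxD, hyx, hzx, hyz, heq⟩ := h
  have hin : ∀ u : G, g⁻¹ * (g * u * g⁻¹) * g = u := fun u => by group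
  refine ⟨hT.conj g x hxD, ?_, ?_, ?_, ?_⟩
  · rw [mem_star_conj hT, hin]; exact hyx
  · rw [mem_star_conj hT, hin]; exact hzx
  · intro hc
    exact hyz ((Commute.conj_iff g).mp hc)
  · ext u
    simp only [Set.mem_inter_iff]
    rw [mem_star_conj hT, mem_star_conj hT, mem_star_conj hT]
    have := Set.ext_iff.mp heq (g⁻¹ * u * g)
    simpa only [Set.mem_inter_iff] using this

theorem Twin.symm {D : Set G} {x y z : G} (h : Twin D x y z) : Twin D x z y := by
  obtain ⟨hxD, hyx, hzx, hyz, heq⟩ := h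
  exact ⟨hxD, hzx, hyx, fun hc => hyz hc.symm, heq.symm⟩

theorem Twin.third {D : Set G} (hT : TT3 D) {x y z : G} (h : Twin D x y z) :
    Twin D x y (z * y * z) := by
  have hc := h.conj hT z
  obtain ⟨hxD, hyx, hzx, hyz, heq⟩ := h
  have hzD : z ∈ D := hzx.1
  have e1 : z * x * z⁻¹ = x := by
    rw [← hzx.2.2.eq]; group
  have e2 : z * z * z⁻¹ = z := by group
  have e3 : z * y * z⁻¹ = z * y * z := by rw [hT.inv hzD]
  rw [e1, e2, e3] at hc
  obtain ⟨-, htx, -, htz, heq2⟩ := hc
  refine ⟨hxD, hyx, htx, ?_, heq.trans heq2.symm⟩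
  intro hcy
  -- y commutes with z y z ⇒ y commutes with z
  apply hyz
  have hy2 := hT.sq y hyx.1
  have hz2 := hT.sq z hzD
  have h1 : y * (z * y * z) = z * y * z * y := hcy
  have hbr := braid hy2 hz2 (hT.cube y hyx.1 z hzD hyz)
  -- y z y = z y z, so y * (z y z) = y * (y z y) = z y and (z y z) * y = (y z y) * y = y z
  show y * z = z * y
  have a1 : y * (z * y * z) = z * y := by
    rw [← hbr]
    calc y * (y * z * y) = (y * y) * z * y := by group
      _ = z * y := by rw [hy2, one_mul]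
  have a2 : z * y * z * y = y * z := by
    rw [← hbr]
    calc y * z * y * y = y * z * (y * y) := by group
      _ = y * z := by rw [hy2, mul_one]
  exact a2.symm.trans (h1.symm.trans a1)

end Cfsg.Agent.Helper1.Fo3
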