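import Mathlib
import Cfsg.Agent.Helper1.Fo3Defs
import Cfsg.Agent.Helper1.Fo3_F3

set_option autoImplicit false

/-!
# S1615, label F4: the `A₄`-diagram `x – w – z – y` and the move of the twin relation along `S₅`
-/

namespace Cfsg.Agent.Helper1.Fo3

open Cfsg.Agent.Lead.TTW

variable {G : Type*} [Group G]

/-- the basic relations between a twin triple and a member of `D_y \ D_z` -/
theorem twin_rel {D : Set G} {x y z w : G} (h : Twin D x y z)
    (hw : w ∈ star D y) (hwz : w ∉ star D z) : ¬ Commute x w ∧ ¬ Commute w z := by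
  obtain ⟨hxD, hyx, hzx, hyz, heq⟩ := h
  have hwz' : ¬ Commute w z := by
    intro hc
    apply hwz
    refine ⟨hw.1, ?_, hc.symm⟩
    rintro rfl
    exact hyz hw.2.2
  refine ⟨?_, hwz'⟩
  intro hc
  have hwx : w ≠ x := by
    rintro rfl
    exact hwz' hzx.2.2
  have h1 : w ∈ star D x ∩ star D y := ⟨⟨hw.1, hwx, hc⟩, hw⟩
  rw [heq] at h1
  exact hwz h1.2

theorem twin_s5 {D : Set G} (hT : TT3 D) {x y z w : G} (h : Twin D x y z)
    (hw : w ∈ star D y) (hwz : w ∉ star D z) :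
    ∃ φ : Equiv.Perm (Fin 5) →* G, Function.Injective φ ∧ φ (Equiv.swap 0 1) = x ∧
      φ (Equiv.swap 1 2) = w ∧ φ (Equiv.swap 2 3) = z ∧ φ (Equiv.swap 3 4) = y := by
  obtain ⟨hxw, hwz'⟩ := twin_rel h hw hwz
  obtain ⟨hxD, hyx, hzx, hyz, heq⟩ := h
  have hwD : w ∈ D := hw.1
  have hzD : z ∈ D := hzx.1
  have hyD : y ∈ D := hyx.1
  obtain ⟨φ, h01, h12, h23, h34⟩ := Cfsg.Agent.Helper4.S5Pres.exists_hom x w z y
    (hT.sq x hxD) (hT.sq w hwD) (hT.sq z hzD) (hT.sq y hyD)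
    (hT.cube x hxD w hwD hxw) (hT.cube w hwD z hzD hwz')
    (hT.cube z hzD y hyD (fun hc => hyz hc.symm)) hzx.2.2 hyx.2.2 hw.2.2.symm
  refine ⟨φ, ?_, h01, h12, h23, h34⟩
  apply Cfsg.Agent.Helper4.S5Pres.injective_of_ne_one
  rw [map_mul, h01, h12]
  intro h1
  apply hxw
  have : x = w⁻¹ := eq_inv_of_mul_eq_one_left h1
  rw [hT.inv hwD] at this
  rw [this]

theorem twin_swap {D : Set G} (hT : TT3 D) {x y z w : G} (h : Twin D x y z)
    (hw : w ∈ star D y) (hwz : w ∉ star D z) : Twin D y x w := by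
  obtain ⟨φ, -, h01, h12, h23, h34⟩ := twin_s5 hT h hw hwz
  have hc := Twin.conj hT h (φ (Equiv.swap 0 4 * Equiv.swap 1 3))
  have e1 : (Equiv.swap (0 : Fin 5) 4 * Equiv.swap 1 3) * Equiv.swap 0 1 *
      (Equiv.swap (0 : Fin 5) 4 * Equiv.swap 1 3)⁻¹ = Equiv.swap 3 4 := by decide
  have e2 : (Equiv.swap (0 : Fin 5) 4 * Equiv.swap 1 3) * Equiv.swap 3 4 *
      (Equiv.swap (0 : Fin 5) 4 * Equiv.swap 1 3)⁻¹ = Equiv.swap 0 1 := by decide
  have e3 : (Equiv.swap (0 : Fin 5) 4 * Equiv.swap 1 3) * Equiv.swap 2 3 *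
      (Equiv.swap (0 : Fin 5) 4 * Equiv.swap 1 3)⁻¹ = Equiv.swap 1 2 := by decide
  have f1 := congrArg φ e1
  have f2 := congrArg φ e2
  have f3 := congrArg φ e3
  simp only [map_mul, map_inv] at f1 f2 f3
  rw [h01, h34] at f1
  rw [h34, h01] at f2
  rw [h23, h12] at f3
  rw [map_mul, f1, f2, f3] at hc
  exact hc

end Cfsg.Agent.Helper1.Fo3
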