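import Mathlib
import Cfsg.Agent.Helper1.Fo3Defs
import Cfsg.Agent.Helper1.Fo3_F3
import Cfsg.Agent.Helper1.Fo3_F4

set_option autoImplicit false

/-!
# S1615, label F5: every member of `D_x` not commuting with `y` is a twin of `y`
-/

namespace Cfsg.Agent.Helper1.Fo3

open Cfsg.Agent.Lead.TTW

variable {G : Type*} [Group G]

/-- step (i): a non-twin `d` commutes with every member of `D_p \ D_q` -/
theorem commute_of_not_twin {D : Set G} (hT : TT3 D) {x y p q d : G} (hy : y ∈ star D x)
    (hpq : Twin D x p q) (heq : star D x ∩ star D p = star D x ∩ star D y)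
    (hd : d ∈ star D x) (hdy : ¬ Commute y d) (hnot : ¬ Twin D x y d) {w' : G}
    (hw' : w' ∈ star D p) (hw'q : w' ∉ star D q) : Commute d w' := by
  by_contra hnc
  have h1 : Twin D p x w' := twin_swap hT hpq hw' hw'q
  have hdw : d ∉ star D w' := fun hm => hnc hm.2.2.symm
  have h2 : Twin D x p d := twin_swap hT h1 hd hdw
  apply hnot
  obtain ⟨hxD, -, -, -, heq2⟩ := h2
  exact ⟨hxD, hy, hd, hdy, by rw [← heq, heq2]⟩

theorem twin_of_not_commute {D : Set G} (hT : TT3 D) {x y z w : G} (h : Twin D x y z)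
    (hw : w ∈ star D y) (hwz : w ∉ star D z) {d : G} (hd : d ∈ star D x)
    (hdy : ¬ Commute y d) : Twin D x y d := by
  by_contra hnot
  obtain ⟨φ, hinj, h01, h12, h23, h34⟩ := twin_s5 hT h hw hwz
  have h3 : Twin D x y (z * y * z) := h.third hT
  obtain ⟨hxD, hyx, hzx, hyz, heq⟩ := id h
  obtain ⟨-, -, htx, hyt, heqt⟩ := id h3
  have hdD : d ∈ D := hd.1
  -- d does not commute with z
  have hdz : ¬ Commute z d := by
    intro hc
    have hne : d ≠ z := by
      rintro rfl
      exact hnot h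
    have : d ∈ star D x ∩ star D z := ⟨hd, hdD, hne, hc⟩
    rw [← heq] at this
    exact hdy this.2.2.2
  -- d does not commute with t
  have hdt : ¬ Commute (z * y * z) d := by
    intro hc
    have hne : d ≠ z * y * z := by
      rintro rfl
      exact hnot h3
    have : d ∈ star D x ∩ star D (z * y * z) := ⟨hd, hdD, hne, hc⟩
    rw [← heqt] at this
    exact hdy this.2.2.2
  -- the elements u₁ = φ (0 4), u₂ = φ (0 3)
  have hmemD : ∀ σ : Equiv.Perm (Fin 5), φ (σ * Equiv.swap 0 1 * σ⁻¹) ∈ D := by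
    intro σ
    rw [map_mul, map_mul, map_inv, h01]
    exact hT.conj _ x hxD
  have hu1D : φ (Equiv.swap 0 4) ∈ D := by
    have e : (Equiv.swap (1 : Fin 5) 4) * Equiv.swap 0 1 * (Equiv.swap (1 : Fin 5) 4)⁻¹ =
        Equiv.swap 0 4 := by decide
    rw [← e]; exact hmemD _
  have hu2D : φ (Equiv.swap 0 3) ∈ D := by
    have e : (Equiv.swap (1 : Fin 5) 3) * Equiv.swap 0 1 * (Equiv.swap (1 : Fin 5) 3)⁻¹ =
        Equiv.swap 0 3 := by decide
    rw [← e]; exact hmemD _
  have hcomm : ∀ {σ τ : Equiv.Perm (Fin 5)}, σ * τ = τ * σ → Commute (φ σ) (φ τ) := by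
    intro σ τ hst
    show φ σ * φ τ = φ τ * φ σ
    rw [← map_mul, ← map_mul, hst]
  have hncomm : ∀ {σ τ : Equiv.Perm (Fin 5)}, σ * τ ≠ τ * σ → ¬ Commute (φ σ) (φ τ) := by
    intro σ τ hst hc
    apply hst
    apply hinj
    rw [map_mul, map_mul]
    exact hc
  have ht : z * y * z = φ (Equiv.swap 2 4) := by
    have e : (Equiv.swap (2 : Fin 5) 3) * Equiv.swap 3 4 * Equiv.swap 2 3 = Equiv.swap 2 4 := by
      decide
    rw [← e, map_mul, map_mul, h23, h34]
  -- u₁ ∈ D_z \ D_y
  have hu1z : φ (Equiv.swap 0 4) ∈ star D z := by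
    refine ⟨hu1D, ?_, ?_⟩
    · rw [← h23]
      intro he
      have := hinj he
      revert this; decide
    · rw [← h23]
      exact hcomm (by decide)
  have hu1y : φ (Equiv.swap 0 4) ∉ star D y := by
    intro hm
    have := hm.2.2
    rw [← h34] at this
    exact hncomm (by decide) this
  -- u₂ ∈ D_t \ D_y
  have hu2t : φ (Equiv.swap 0 3) ∈ star D (z * y * z) := by
    rw [ht]
    refine ⟨hu2D, ?_, ?_⟩
    · intro he
      have := hinj he
      revert this; decide
    · exact hcomm (by decide)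
  have hu2y : φ (Equiv.swap 0 3) ∉ star D y := by
    intro hm
    have := hm.2.2
    rw [← h34] at this
    exact hncomm (by decide) this
  have c1 : Commute d (φ (Equiv.swap 0 4)) :=
    commute_of_not_twin hT hyx h.symm heq.symm hd hdy hnot hu1z hu1y
  have c2 : Commute d (φ (Equiv.swap 0 3)) :=
    commute_of_not_twin hT hyx (h3.symm) heqt.symm hd hdy hnot hu2t hu2y
  have hy' : y = φ (Equiv.swap 0 4) * φ (Equiv.swap 0 3) * φ (Equiv.swap 0 4) := by
    have e : Equiv.swap (0 : Fin 5) 4 * Equiv.swap 0 3 * Equiv.swap 0 4 = Equiv.swap 3 4 := by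
      decide
    rw [← map_mul, ← map_mul, e, h34]
  apply hdy
  rw [hy']
  exact ((c1.mul_right c2).mul_right c1).symm

end Cfsg.Agent.Helper1.Fo3
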