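import Mathlib
import Cfsg.Agent.Helper1.Fo3Defs
import Cfsg.Agent.Helper1.Fo3_F2
import Cfsg.Agent.Helper1.Fo3_F3
import Cfsg.Agent.Helper1.Fo3_F4
import Cfsg.Agent.Helper1.Fo3_F5
import Cfsg.Agent.Helper3.Fo3_F1
import Cfsg.Agent.Helper5.Fo3_F6
import Cfsg.Agent.Helper3.Fo3_F7
import Cfsg.Agent.Helper4.Fo3_F8
import Cfsg.Agent.Helper6.Fo3_F9
import Cfsg.Agent.Helper4.Fo3_F10
import Cfsg.Agent.Helper4.Fo3_F11

set_option autoImplicit false
set_option linter.style.haveILetI false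

/-!
# S1615: Fischer's theorem on a non-central odd core of `⟨D_x⟩` — assembly
-/

namespace Cfsg.Agent.Helper1.Fo3

open Cfsg.Agent.Lead.TTW Cfsg.Agent.Lead.TTM

variable {G : Type*} [Group G]

theorem main [Finite G] (hsol : ∀ N : Subgroup G, N.Normal → Group.IsSolvable ↥N → N = ⊥)
    (hperf : ⁅commutator G, commutator G⁆ = commutator G) {D : Set G}
    (hD : Cfsg.IsThreeTranspositionClass D) (x : G) (hx : x ∈ D)
    (h : ¬ Cfsg.oddCore ↥(Subgroup.closure {y : G | y ∈ D ∧ y ≠ x ∧ Commute x y}) ≤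
      Subgroup.center ↥(Subgroup.closure {y : G | y ∈ D ∧ y ≠ x ∧ Commute x y})) :
    Nonempty (G ≃* Equiv.Perm (Fin 5)) := by
  classical
  have hT : TT3 D := tt3_of_class hD
  have hDg := Cfsg.Agent.Lead.TTF.group_of_class hD
  obtain ⟨y, z, htw⟩ := exists_twin hT hx h
  obtain ⟨-, hyx, hzx, hyz, heq⟩ := id htw
  have hyD : y ∈ D := hyx.1
  have hzD : z ∈ D := hzx.1
  have hD2 : ∃ a ∈ D, ∃ b ∈ D, a ≠ b := ⟨x, hx, y, hyD, hyx.2.1.symm⟩
  have hprim := Cfsg.Agent.Lead.TTR.primitive_of_sol_perf hsol hperf hD hD2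
  have hcl : ∀ a ∈ D, ∀ b ∈ D, ∃ g : G, g * a * g⁻¹ = b := hprim.1
  haveI : Fact (Nat.Prime 3) := ⟨Nat.prime_three⟩
  have h3 : Cfsg.pCore 3 G = ⊥ := by
    apply hsol _ (Cfsg.Agent.Helper1.pCore_normal 3)
    haveI : Group.IsNilpotent (Cfsg.pCore 3 G) :=
      (Cfsg.Agent.Helper1.pCore_isPGroup (G := G) 3).isNilpotent
    infer_instance
  obtain ⟨w, hw, hwz⟩ := exists_star_diff hT hcl h3 hyD hzD hyz
  have htr := Cfsg.Agent.Lead.TTR.transitive_Da hDg hprim
    ⟨x, hx, y, hyD, hyx.2.1.symm, hyx.2.2⟩ hx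
  have hp := star_pairwise hT htw hw hwz htr
  have htf : TriFree D := triFree_of_star hT hcl hx hp
  -- the parameters
  obtain ⟨m, hm⟩ := NN_const hT hprim ⟨y, hyD, z, hzD, hyz⟩
  have hk : ∀ a ∈ D, (star D a).ncard = (star D x).ncard := fun a ha =>
    ncard_star_eq hT hcl ha hx
  have hμ : ∀ a ∈ D, ∀ b ∈ D, ¬ Commute a b → (T D a b).ncard = m := hm
  -- k is a power of three
  obtain ⟨a, hka⟩ := ncard_pow_three hT (S := star D x) (fun u hu => hu.1) ⟨y, hyx⟩
    (by
      intro u hu v hv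
      refine ⟨hT.conj u v hv.1, ?_, ?_⟩
      · intro he
        apply hv.2.1
        have : u * v * u⁻¹ = u * x * u⁻¹ := by
          rw [he, ← hu.2.2.eq]; group
        exact mul_left_cancel (mul_right_cancel this)
      · have e : u * x * u⁻¹ = x := by rw [← hu.2.2.eq]; group
        have := (Commute.conj_iff u).mpr hv.2.2
        rwa [e] at this)
    (by
      intro u hu v hv hc
      by_contra hne
      exact hp u hu v hv hne hc)
  -- μ is a power of three
  have hxT : x ∈ T D y z := ⟨hx, hyx.2.2, hzx.2.2⟩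
  have hTsub : T D y z ⊆ star D y := by
    rintro u ⟨huD, huy, huz⟩
    refine ⟨huD, ?_, huy.symm⟩
    rintro rfl
    exact hyz huz
  obtain ⟨f, hmf⟩ := ncard_pow_three hT (S := T D y z) (fun u hu => hu.1) ⟨x, hxT⟩
    (by
      rintro u ⟨huD, huy, huz⟩ v ⟨hvD, hvy, hvz⟩
      refine ⟨hT.conj u v hvD, ?_, ?_⟩
      · have e : u * y * u⁻¹ = y := by rw [huy.eq]; group
        have := (Commute.conj_iff u).mpr hvy
        rwa [e] at this
      · have e : u * z * u⁻¹ = z := by rw [huz.eq]; group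
        have := (Commute.conj_iff u).mpr hvz
        rwa [e] at this)
    (by
      intro u hu v hv hc
      by_contra hne
      exact htf y hyD u (hTsub hu) v (hTsub hv) hne hc)
  have hmμ : (T D y z).ncard = m := hμ y hyD z hzD hyz
  -- f < a
  have hlt : (T D y z).ncard < (star D y).ncard := by
    apply Set.ncard_lt_ncard _ (Set.toFinite _)
    refine ⟨hTsub, ?_⟩
    intro hsub
    have hwT := hsub hw
    apply hwz
    refine ⟨hw.1, ?_, hwT.2.2.symm⟩
    rintro rfl
    exact hyz hw.2.2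
  rw [hk y hyD, hka, hmf] at hlt
  have hfa : f < a := (Nat.pow_lt_pow_iff_right (by norm_num)).mp hlt
  -- the graph
  haveI : Fintype ↥D := Fintype.ofFinite _
  haveI : Nonempty ↥D := ⟨⟨x, hx⟩⟩
  have hsrg := isSRG htf hk hμ
  rw [hka, ← hmμ, hmf] at hsrg
  have hint := srg_integrality (cg D) hsrg (by positivity)
    (Nat.pow_le_pow_right (by norm_num) hfa.le)
  have ha1 : a = 1 := by
    rcases hint with hsum | ⟨s, hs⟩
    · exfalso
      have h1 : 3 ^ 1 ≤ 3 ^ a := Nat.pow_le_pow_right (by norm_num) (by omega)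
      have h2 : 0 < 3 ^ f := by positivity
      omega
    · exact arith hfa hs
  have hk3 : ∀ b ∈ D, (star D b).ncard = 3 := by
    intro b hb
    rw [hk b hb, hka, ha1]; norm_num
  have hL := locS3_of_card hT htf hk3
  have hnW : Cfsg.Agent.Helper4.TT5.NoW D := by
    intro d hd e he hde
    by_contra hne
    have hnc : ¬ Commute d e := WRel.not_commute he hde hne
    obtain ⟨u, hu, hue⟩ := exists_star_diff hT hcl h3 hd he hnc
    apply hue
    have : star D d = star D e := hde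
    rw [← this]; exact hu
  obtain ⟨e⟩ := Cfsg.Agent.Helper4.TT5.partII hT hL hnW ⟨x, hx⟩
  have htop : Subgroup.closure D = ⊤ := hD.2.2
  exact ⟨(Subgroup.topEquiv.symm.trans (MulEquiv.subgroupCongr htop.symm)).trans e⟩

end Cfsg.Agent.Helper1.Fo3
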