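import Mathlib
import Cfsg.Agent.Helper1.Basic
import Cfsg.Agent.Helper1.Coprime
import Cfsg.Agent.Helper1.PGroup
import Cfsg.Agent.Helper1.MinNormal

set_option autoImplicit false

/-!
Gaschütz: `Inn(H) ≤ Φ(Aut H)` for normal `H ≤ Φ(G)`.
-/

namespace Cfsg.Agent.Helper1

open scoped Pointwise

universe u

variable {G : Type u} [Group G]

theorem inn_normal (H : Type u) [Group H] : ((MulAut.conj : H →* MulAut H).range).Normal := by
  constructor
  rintro _ ⟨h, rfl⟩ φ
  refine ⟨φ h, ?_⟩
  ext x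
  simp [MulAut.conj_apply]

theorem inn_le_frattini_aut [Finite G] (H : Subgroup G) [H.Normal] (hH : H ≤ frattini G) :
    (MulAut.conj : ↥H →* MulAut ↥H).range ≤ frattini (MulAut ↥H) := by
  rw [le_frattini_iff]
  intro M hM
  by_contra hnot
  have hInn : ((MulAut.conj : ↥H →* MulAut ↥H).range).Normal := inn_normal H
  have hsup : (MulAut.conj : ↥H →* MulAut ↥H).range ⊔ M = ⊤ := by
    rw [sup_comm]
    apply hM.2
    apply lt_of_le_of_ne le_sup_left
    intro h
    apply hnot
    rw [h]; exact le_sup_right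
  set θ : G →* MulAut ↥H := MulAut.conjNormal with hθ
  set X := M.comap θ with hX
  have hHX : H ⊔ X = ⊤ := by
    rw [eq_top_iff]
    intro g _
    have hg : θ g ∈ (MulAut.conj : ↥H →* MulAut ↥H).range ⊔ M := hsup ▸ Subgroup.mem_top _
    obtain ⟨i, ⟨h, rfl⟩, m, hm, hgim⟩ :=
      mem_sup_of_le_normalizer (le_normalizer_of_normal M _) hg
    have h1 : θ ((h : G)⁻¹ * g) = m := by
      rw [map_mul, map_inv, hgim, hθ, MulAut.conjNormal_val, inv_mul_cancel_left]
    have h2 : (h : G)⁻¹ * g ∈ X := by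
      rw [hX, Subgroup.mem_comap, h1]; exact hm
    have : g = (h : G) * ((h : G)⁻¹ * g) := by group
    rw [this]
    exact Subgroup.mul_mem _ (Subgroup.mem_sup_left h.2) (Subgroup.mem_sup_right h2)
  have hXtop : X = ⊤ := by
    apply frattini_nongenerating
    rw [eq_top_iff, ← hHX, sup_comm]
    exact sup_le_sup_left hH X
  apply hnot
  rintro _ ⟨h, rfl⟩
  have : (h : G) ∈ X := hXtop ▸ Subgroup.mem_top _
  rw [hX, Subgroup.mem_comap, hθ, MulAut.conjNormal_val] at this
  exact this

end Cfsg.Agent.Helper1
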