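import Mathlib
import Cfsg.Agent.Helper1.Coprime

/-!
# Lemma R for S4306, part A: reduction to the faithful irreducible whole-space case
-/

set_option autoImplicit false

namespace Cfsg.Agent.Helper1.FrobCharRed

open Cfsg.Agent.Helper1

universe u v w

/-- the faithful irreducible whole-space case of Lemma R (proved by lead in Lead/FpqR*.lean). -/
def FaithIrredHyp (k : Type u) [Field k] (r : ℕ) : Prop :=
  ∀ (Γ : Type v) [Group Γ] [Finite Γ] (W : Type w) [AddCommGroup W] [Module k W]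
    [Module.Finite k W] (ρ : Representation k Γ W) (s q : ℕ) (Q T : Subgroup Γ) (y : Γ),
    s.Prime → q.Prime → s ≠ r → q ≠ r → s ≠ q → IsPGroup s Q → IsPGroup r T → y ^ q = 1 →
    T ≤ Subgroup.normalizer (Q : Set Γ) → y ∈ Subgroup.normalizer (Q : Set Γ) →
    y ∈ Subgroup.normalizer (T : Set Γ) →
    (∀ x ∈ T, y * x * y⁻¹ = x → x = 1) →
    (∀ g : Γ, ρ g = 1 → g = 1) →
    (∀ w : W, ρ y w = w → w = 0) →
    (∀ g ∈ Q, ∀ h ∈ Q, ∃ c : k, ∀ w : W, ρ (g * h * g⁻¹ * h⁻¹) w = c • w) →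
    (∀ M₁ : Submodule k W, (∀ g ∈ Q, ∀ w ∈ M₁, ρ g w ∈ M₁) → (∀ x ∈ T, ∀ w ∈ M₁, ρ x w ∈ M₁) →
      (∀ w ∈ M₁, ρ y w ∈ M₁) → M₁ = ⊥ ∨ M₁ = ⊤) →
    ∀ x ∈ T, ∀ g ∈ Q, x * g = g * x

section basic

variable {k : Type u} [Field k] {Γ : Type v} [Group Γ] {W : Type w} [AddCommGroup W] [Module k W]

/-- the stabilizer of a submodule. -/
def stab (ρ : Representation k Γ W) (M : Submodule k W) : Subgroup Γ where
  carrier := {g | ∀ w ∈ M, ρ g w ∈ M ∧ ρ g⁻¹ w ∈ M}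
  one_mem' := by
    intro w hw
    simp [hw]
  mul_mem' := by
    intro a b ha hb w hw
    refine ⟨?_, ?_⟩
    · rw [map_mul]
      exact (ha _ (hb w hw).1).1
    · rw [mul_inv_rev, map_mul]
      exact (hb _ (ha w hw).2).2
  inv_mem' := by
    intro a ha w hw
    rw [inv_inv]
    exact ⟨(ha w hw).2, (ha w hw).1⟩

theorem le_stab (ρ : Representation k Γ W) (M : Submodule k W) (H : Subgroup Γ)
    (h : ∀ g ∈ H, ∀ w ∈ M, ρ g w ∈ M) : H ≤ stab ρ M := by
  intro g hg w hw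
  exact ⟨h g hg w hw, h g⁻¹ (H.inv_mem hg) w hw⟩

theorem pow_mem_of_mem (ρ : Representation k Γ W) (M : Submodule k W) (y : Γ)
    (h : ∀ w ∈ M, ρ y w ∈ M) (n : ℕ) : ∀ w ∈ M, ρ (y ^ n) w ∈ M := by
  induction n with
  | zero => intro w hw; simpa using hw
  | succ n ih =>
    intro w hw
    rw [pow_succ, map_mul]
    exact ih _ (h w hw)

theorem mem_stab_of_pow (ρ : Representation k Γ W) (M : Submodule k W) (y : Γ) (q : ℕ)
    (hq : 0 < q) (hyq : y ^ q = 1) (h : ∀ w ∈ M, ρ y w ∈ M) : y ∈ stab ρ M := by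
  intro w hw
  refine ⟨h w hw, ?_⟩
  have : y⁻¹ = y ^ (q - 1) := by
    apply inv_eq_of_mul_eq_one_right
    rw [← pow_succ', Nat.sub_add_cancel hq, hyq]
  rw [this]
  exact pow_mem_of_mem ρ M y h _ w hw

/-- everything in the closure of `Q ∪ T ∪ {y}` preserves a `Q, T, y`-invariant submodule. -/
theorem closure_le_stab (ρ : Representation k Γ W) (M : Submodule k W) (Q T : Subgroup Γ) (y : Γ)
    (q : ℕ) (hq : 0 < q) (hyq : y ^ q = 1)
    (hMQ : ∀ g ∈ Q, ∀ w ∈ M, ρ g w ∈ M) (hMT : ∀ x ∈ T, ∀ w ∈ M, ρ x w ∈ M)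
    (hMy : ∀ w ∈ M, ρ y w ∈ M) :
    Subgroup.closure ((Q : Set Γ) ∪ (T : Set Γ) ∪ {y}) ≤ stab ρ M := by
  rw [Subgroup.closure_le]
  rintro g ((hg | hg) | hg)
  · exact le_stab ρ M Q hMQ hg
  · exact le_stab ρ M T hMT hg
  · rw [Set.mem_singleton_iff] at hg
    rw [hg]
    exact mem_stab_of_pow ρ M y q hq hyq hMy

end basic

section linear

variable {k : Type u} [Field k] {W : Type w} [AddCommGroup W] [Module k W]

/-- a unipotent endomorphism with `(u - 1)^2 = 0` and `u ^ m = 1`, `m` invertible, is trivial. -/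
theorem eq_one_of_sq_zero (u : Module.End k W) (hN : (u - 1) * (u - 1) = 0) (m : ℕ)
    (hm : (m : k) ≠ 0) (hu : u ^ m = 1) : u = 1 := by
  set N := u - 1 with hNdef
  have hu1 : u = 1 + N := by rw [hNdef]; abel
  have key : ∀ j : ℕ, u ^ j = 1 + (j : k) • N := by
    intro j
    induction j with
    | zero => simp
    | succ j ih =>
      rw [pow_succ, ih]
      conv_lhs => rw [hu1]
      rw [add_mul, mul_add, mul_add, one_mul, mul_one, one_mul, smul_mul_assoc, hN, smul_zero,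
        add_zero, Nat.cast_succ, add_smul, one_smul]
      abel
  have h1 := key m
  rw [hu] at h1
  have h2 : (m : k) • N = 0 := by
    have := h1.symm
    rwa [add_eq_left] at this
  have h3 : N = 0 := (smul_eq_zero.1 h2).resolve_left hm
  rw [hu1, h3, add_zero]

/-- averaging: if `a ^ q = 1`, `q` invertible, `a` preserves `M₁`, has no nonzero fixed vector,
and `a w ≡ w` modulo `M₁`, then `w ∈ M₁`. -/
theorem mem_of_fixed_mod (a : Module.End k W) (q : ℕ) (hq : (q : k) ≠ 0) (haq : a ^ q = 1)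
    (M₁ : Submodule k W) (hM : ∀ w ∈ M₁, a w ∈ M₁) (hfix : ∀ w : W, a w = w → w = 0)
    (w : W) (hw : a w - w ∈ M₁) : w ∈ M₁ := by
  have h1 : ∀ i : ℕ, (a ^ i) w - w ∈ M₁ := by
    intro i
    induction i with
    | zero => simp
    | succ i ih =>
      have e : (a ^ (i + 1)) w - w = a ((a ^ i) w - w) + (a w - w) := by
        rw [pow_succ', Module.End.mul_apply, map_sub]; abel
      rw [e]
      exact M₁.add_mem (hM _ ih) hw
  set w' : W := ∑ i ∈ Finset.range q, (a ^ i) w with hw'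
  have h2 : a w' = w' := by
    rw [hw', map_sum]
    have e1 : ∀ i ∈ Finset.range q, a ((a ^ i) w) = (a ^ (i + 1)) w := by
      intro i _
      rw [pow_succ', Module.End.mul_apply]
    rw [Finset.sum_congr rfl e1]
    have e2 := Finset.sum_range_succ' (fun i => (a ^ i) w) q
    have e3 := Finset.sum_range_succ (fun i => (a ^ i) w) q
    rw [e3, haq, pow_zero] at e2
    exact (add_right_cancel e2).symm
  have h3 : w' = 0 := hfix w' h2
  have h4 : w' - (q : k) • w ∈ M₁ := by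
    have : w' - (q : k) • w = ∑ i ∈ Finset.range q, ((a ^ i) w - w) := by
      rw [Finset.sum_sub_distrib, Finset.sum_const, Finset.card_range, hw', Nat.cast_smul_eq_nsmul]
    rw [this]
    exact M₁.sum_mem (fun i _ => h1 i)
  rw [h3, zero_sub, Submodule.neg_mem_iff] at h4
  have h5 := M₁.smul_mem (q : k)⁻¹ h4
  rwa [smul_smul, inv_mul_cancel₀ hq, one_smul] at h5

end linear

section cfg

variable {k : Type u} [Field k] (r : ℕ)

/-- the whole-space configuration with `Γ = ⟨Q, T, y⟩`. -/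
structure Cfg {Γ : Type v} [Group Γ] {W : Type w} [AddCommGroup W] [Module k W]
    (ρ : Representation k Γ W) (s q : ℕ) (Q T : Subgroup Γ) (y : Γ) : Prop where
  hQ : IsPGroup s Q
  hT : IsPGroup r T
  hyq : y ^ q = 1
  hTQ : T ≤ Subgroup.normalizer (Q : Set Γ)
  hyQ : y ∈ Subgroup.normalizer (Q : Set Γ)
  hyT : y ∈ Subgroup.normalizer (T : Set Γ)
  hfreeT : ∀ x ∈ T, y * x * y⁻¹ = x → x = 1
  hgen : Subgroup.closure ((Q : Set Γ) ∪ (T : Set Γ) ∪ {y}) = ⊤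
  hfix : ∀ w : W, ρ y w = w → w = 0
  hsc : ∀ g ∈ Q, ∀ h ∈ Q, ∃ c : k, ∀ w : W, ρ (g * h * g⁻¹ * h⁻¹) w = c • w

variable {r} {Γ : Type v} [Group Γ] {W : Type w} [AddCommGroup W] [Module k W]
  {ρ : Representation k Γ W} {s q : ℕ} {Q T : Subgroup Γ} {y : Γ}

theorem Cfg.invariant (cfg : Cfg r ρ s q Q T y) (hq : 0 < q) (M₁ : Submodule k W)
    (hMQ : ∀ g ∈ Q, ∀ w ∈ M₁, ρ g w ∈ M₁) (hMT : ∀ x ∈ T, ∀ w ∈ M₁, ρ x w ∈ M₁)
    (hMy : ∀ w ∈ M₁, ρ y w ∈ M₁) : ∀ g : Γ, M₁ ≤ M₁.comap (ρ g) := by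
  intro g w hw
  have h1 := closure_le_stab ρ M₁ Q T y q hq cfg.hyq hMQ hMT hMy
  rw [cfg.hgen] at h1
  exact (h1 (Subgroup.mem_top g) w hw).1

theorem Cfg.sub (cfg : Cfg r ρ s q Q T y) (M₁ : Submodule k W)
    (hinv : ∀ g : Γ, M₁ ≤ M₁.comap (ρ g)) :
    Cfg r (ρ.subrepresentation M₁ hinv) s q Q T y where
  hQ := cfg.hQ
  hT := cfg.hT
  hyq := cfg.hyq
  hTQ := cfg.hTQ
  hyQ := cfg.hyQ
  hyT := cfg.hyT
  hfreeT := cfg.hfreeT
  hgen := cfg.hgen
  hfix := by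
    intro w hw
    have h1 := congrArg Subtype.val hw
    simp only [Representation.subrepresentation_apply, LinearMap.coe_restrict_apply] at h1
    exact Subtype.ext (cfg.hfix _ h1)
  hsc := by
    intro g hg h hh
    obtain ⟨c, hc⟩ := cfg.hsc g hg h hh
    refine ⟨c, fun w => ?_⟩
    apply Subtype.ext
    simp only [Representation.subrepresentation_apply, LinearMap.coe_restrict_apply,
      Submodule.coe_smul]
    exact hc _

theorem Cfg.quot (cfg : Cfg r ρ s q Q T y) (hq : (q : k) ≠ 0) (M₁ : Submodule k W)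
    (hinv : ∀ g : Γ, M₁ ≤ M₁.comap (ρ g)) :
    Cfg r (ρ.quotient M₁ hinv) s q Q T y where
  hQ := cfg.hQ
  hT := cfg.hT
  hyq := cfg.hyq
  hTQ := cfg.hTQ
  hyQ := cfg.hyQ
  hyT := cfg.hyT
  hfreeT := cfg.hfreeT
  hgen := cfg.hgen
  hfix := by
    intro w hw
    obtain ⟨w, rfl⟩ := Submodule.mkQ_surjective M₁ w
    simp only [Representation.quotient_apply, Submodule.mkQ_apply, Submodule.mapQ_apply] at hw
    rw [Submodule.mkQ_apply, Submodule.Quotient.mk_eq_zero]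
    have h1 : ρ y w - w ∈ M₁ := by
      rw [← Submodule.Quotient.mk_eq_zero, Submodule.Quotient.mk_sub, hw, sub_self]
    have haq : (ρ y) ^ q = 1 := by rw [← map_pow, cfg.hyq, map_one]
    exact mem_of_fixed_mod (ρ y) q hq haq M₁ (fun w hw => hinv y hw) cfg.hfix w h1
  hsc := by
    intro g hg h hh
    obtain ⟨c, hc⟩ := cfg.hsc g hg h hh
    refine ⟨c, fun w => ?_⟩
    obtain ⟨w, rfl⟩ := Submodule.mkQ_surjective M₁ w
    simp only [Representation.quotient_apply, Submodule.mkQ_apply, Submodule.mapQ_apply]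
    rw [hc w, Submodule.Quotient.mk_smul]

end cfg

section irred

variable {k : Type u} [Field k] {r : ℕ} {Γ : Type v} [Group Γ] [Finite Γ] {W : Type w}
  [AddCommGroup W] [Module k W] [Module.Finite k W]
  {ρ : Representation k Γ W} {s q : ℕ} {Q T : Subgroup Γ} {y : Γ}

/-- fixed points of `y` on `T` lift modulo a normal subgroup `K` of `Γ`. -/
theorem fixed_lift (hr : r.Prime) (hq : q.Prime) (hqr : q ≠ r) (hT : IsPGroup r T)
    (hyq : y ^ q = 1) (hyT : y ∈ Subgroup.normalizer (T : Set Γ))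
    (hfreeT : ∀ x ∈ T, y * x * y⁻¹ = x → x = 1) (K : Subgroup Γ) [hKn : K.Normal]
    (x : Γ) (hx : x ∈ T) (h : y * x * y⁻¹ * x⁻¹ ∈ K) : x ∈ K := by
  haveI : Fact r.Prime := ⟨hr⟩
  set A : Subgroup Γ := Subgroup.zpowers y with hA
  have hAT : A ≤ Subgroup.normalizer (T : Set Γ) := by
    rw [hA, Subgroup.zpowers_le]; exact hyT
  have hcop : (Nat.card A).Coprime (Nat.card T) := by
    obtain ⟨a, ha⟩ := IsPGroup.iff_card.1 hT
    rw [ha, hA, Nat.card_zpowers]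
    apply Nat.Coprime.pow_right
    exact Nat.Coprime.coprime_dvd_left (orderOf_dvd_of_pow_eq_one hyq)
      ((Nat.coprime_primes hq hr).2 hqr)
  have hsolv : Group.IsSolvable A ∨ Group.IsSolvable T := by
    left
    rw [hA]
    infer_instance
  have hKnorm : ∀ X : Subgroup Γ, X ≤ Subgroup.normalizer (K : Set Γ) := by
    intro X
    rw [Subgroup.normalizer_eq_top_iff.2 hKn]
    exact le_top
  have hNT : T ≤ Subgroup.normalizer ((T ⊓ K : Subgroup Γ) : Set Γ) :=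
    le_normalizer_inf Subgroup.le_normalizer (hKnorm T)
  have hNA : A ≤ Subgroup.normalizer ((T ⊓ K : Subgroup Γ) : Set Γ) :=
    le_normalizer_inf hAT (hKnorm A)
  have hfix : ∀ a ∈ A, a * x * a⁻¹ * x⁻¹ ∈ T ⊓ K := by
    intro a ha
    refine ⟨?_, ?_⟩
    · have := (Subgroup.mem_normalizer_iff.1 (hAT ha) x).1 hx
      exact T.mul_mem this (T.inv_mem hx)
    · obtain ⟨i, rfl⟩ := Subgroup.mem_zpowers_iff.1 ha
      show y ^ i * x * (y ^ i)⁻¹ * x⁻¹ ∈ K
      rw [← QuotientGroup.eq_one_iff] at h ⊢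
      have hc : Commute ((y : Γ) : Γ ⧸ K) ((x : Γ) : Γ ⧸ K) := by
        have h2 : ((y : Γ) : Γ ⧸ K) * x * (y : Γ ⧸ K)⁻¹ * (x : Γ ⧸ K)⁻¹ = 1 := by
          simpa using h
        have h3 : ((y : Γ) : Γ ⧸ K) * x = x * y := by
          calc ((y : Γ) : Γ ⧸ K) * x
              = (((y : Γ) : Γ ⧸ K) * x * (y : Γ ⧸ K)⁻¹ * (x : Γ ⧸ K)⁻¹) * (x * y) := by group
            _ = x * y := by rw [h2, one_mul]
        exact h3
      have hc2 := (hc.zpow_left i).eq
      have : (((y ^ i * x * (y ^ i)⁻¹ * x⁻¹ : Γ)) : Γ ⧸ K) =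
          ((y : Γ) : Γ ⧸ K) ^ i * x * (((y : Γ) : Γ ⧸ K) ^ i)⁻¹ * (x : Γ ⧸ K)⁻¹ := by
        simp
      rw [this, hc2]
      group
  obtain ⟨c, hc, hxc⟩ := coprime_fixed_coset A T hAT hcop hsolv (T ⊓ K) inf_le_left hNT hNA x hx hfix
  have hcy : y * c * y⁻¹ = c := by
    have := Subgroup.mem_centralizer_iff.1 hc.2 y (Subgroup.mem_zpowers y)
    rw [this]; group
  have hc1 : c = 1 := hfreeT c hc.1 hcy
  rw [hc1, mul_one] at hxc
  have := (Subgroup.inv_mem_iff _).1 hxc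
  exact this.2

theorem Cfg.irred_case (hyp : FaithIrredHyp.{u, v, w} k r)
    (cfg : Cfg r ρ s q Q T y) (hr : r.Prime) (hs : s.Prime) (hq : q.Prime) (hsr : s ≠ r)
    (hqr : q ≠ r) (hsq : s ≠ q)
    (hirr : ∀ M₁ : Submodule k W, (∀ g ∈ Q, ∀ w ∈ M₁, ρ g w ∈ M₁) →
      (∀ x ∈ T, ∀ w ∈ M₁, ρ x w ∈ M₁) → (∀ w ∈ M₁, ρ y w ∈ M₁) → M₁ = ⊥ ∨ M₁ = ⊤) :
    ∀ x ∈ T, ∀ g ∈ Q, ρ (x * g * x⁻¹ * g⁻¹) = 1 := by
  obtain ⟨K, hK⟩ : ∃ K : Subgroup Γ, K = (ρ : Γ →* Module.End k W).ker := ⟨_, rfl⟩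
  haveI hKn : K.Normal := by rw [hK]; infer_instance
  obtain ⟨π, hπ⟩ : ∃ π : Γ →* Γ ⧸ K, π = QuotientGroup.mk' K := ⟨_, rfl⟩
  have hπ1 : ∀ g : Γ, π g = 1 ↔ g ∈ K := by
    intro g
    rw [hπ, QuotientGroup.mk'_apply, QuotientGroup.eq_one_iff]
  obtain ⟨ρ₃, hρ₃π⟩ : ∃ ρ₃ : Representation k (Γ ⧸ K) W, ∀ g : Γ, ρ₃ (π g) = ρ g := by
    refine ⟨QuotientGroup.lift K (ρ : Γ →* Module.End k W) (le_of_eq hK), fun g => ?_⟩
    rw [hπ]
    exact QuotientGroup.lift_mk K _ g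
  have hπs : Function.Surjective π := by rw [hπ]; exact QuotientGroup.mk'_surjective K
  have hfaith : ∀ g : Γ ⧸ K, ρ₃ g = 1 → g = 1 := by
    intro g hg
    obtain ⟨g, rfl⟩ := hπs g
    rw [hρ₃π] at hg
    rw [hπ1, hK, MonoidHom.mem_ker]
    exact hg
  have hfree : ∀ x ∈ T.map π, π y * x * (π y)⁻¹ = x → x = 1 := by
    rintro _ ⟨x, hx, rfl⟩ h
    have h1 : y * x * y⁻¹ * x⁻¹ ∈ K := by
      rw [← hπ1]
      simp only [map_mul, map_inv]
      rw [h, mul_inv_cancel]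
    rw [hπ1]
    exact fixed_lift hr hq hqr cfg.hT cfg.hyq cfg.hyT cfg.hfreeT K x hx h1
  have hfix : ∀ w : W, ρ₃ (π y) w = w → w = 0 := by
    intro w hw
    rw [hρ₃π] at hw
    exact cfg.hfix w hw
  have hsc : ∀ g ∈ Q.map π, ∀ h ∈ Q.map π, ∃ c : k, ∀ w : W,
      ρ₃ (g * h * g⁻¹ * h⁻¹) w = c • w := by
    rintro _ ⟨g, hg, rfl⟩ _ ⟨h, hh, rfl⟩
    obtain ⟨c, hc⟩ := cfg.hsc g hg h hh
    refine ⟨c, fun w => ?_⟩
    have : π g * π h * (π g)⁻¹ * (π h)⁻¹ = π (g * h * g⁻¹ * h⁻¹) := by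
      simp only [map_mul, map_inv]
    rw [this, hρ₃π]
    exact hc w
  have hirr' : ∀ M₁ : Submodule k W, (∀ g ∈ Q.map π, ∀ w ∈ M₁, ρ₃ g w ∈ M₁) →
      (∀ x ∈ T.map π, ∀ w ∈ M₁, ρ₃ x w ∈ M₁) → (∀ w ∈ M₁, ρ₃ (π y) w ∈ M₁) →
      M₁ = ⊥ ∨ M₁ = ⊤ := by
    intro M₁ h1 h2 h3
    apply hirr M₁
    · intro g hg w hw
      rw [← hρ₃π]; exact h1 _ (Subgroup.mem_map_of_mem π hg) w hw
    · intro x hx w hw
      rw [← hρ₃π]; exact h2 _ (Subgroup.mem_map_of_mem π hx) w hw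
    · intro w hw
      rw [← hρ₃π]; exact h3 w hw
  have hyq' : π y ^ q = 1 := by rw [← map_pow, cfg.hyq, map_one]
  have hTQ' : T.map π ≤ Subgroup.normalizer ((Q.map π : Subgroup (Γ ⧸ K)) : Set (Γ ⧸ K)) :=
    (Subgroup.map_mono cfg.hTQ).trans (Subgroup.le_normalizer_map π)
  have hyQ' : π y ∈ Subgroup.normalizer ((Q.map π : Subgroup (Γ ⧸ K)) : Set (Γ ⧸ K)) :=
    Subgroup.le_normalizer_map π (Subgroup.mem_map_of_mem π cfg.hyQ)
  have hyT' : π y ∈ Subgroup.normalizer ((T.map π : Subgroup (Γ ⧸ K)) : Set (Γ ⧸ K)) :=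
    Subgroup.le_normalizer_map π (Subgroup.mem_map_of_mem π cfg.hyT)
  have key := hyp (Γ ⧸ K) W ρ₃ s q (Q.map π) (T.map π) (π y) hs hq hsr hqr hsq
    (cfg.hQ.map π) (cfg.hT.map π) hyq' hTQ' hyQ' hyT' hfree hfaith hfix hsc hirr'
  intro x hx g hg
  have h1 := key (π x) (Subgroup.mem_map_of_mem π hx) (π g) (Subgroup.mem_map_of_mem π hg)
  have h2 : π (x * g * x⁻¹ * g⁻¹) = 1 := by
    simp only [map_mul, map_inv]
    rw [h1]; group
  rw [hπ1, hK, MonoidHom.mem_ker] at h2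
  exact h2

end irred

section main

variable {k : Type u} [Field k] {r : ℕ} [hrF : Fact r.Prime] [CharP k r]

theorem natCast_ne_zero_of_prime_ne {t : ℕ} (ht : t.Prime) (htr : t ≠ r) : (t : k) ≠ 0 := by
  rw [Ne, CharP.cast_eq_zero_iff k r t]
  intro hd
  exact htr ((Nat.prime_dvd_prime_iff_eq hrF.out ht).1 hd).symm

/-- the whole-space case with `Γ = ⟨Q, T, y⟩`, by induction on the dimension. -/
theorem whole (hyp : FaithIrredHyp.{u, v, w} k r) {Γ : Type v} [Group Γ] [Finite Γ] {s q : ℕ}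
    (hs : s.Prime) (hq : q.Prime) (hsr : s ≠ r) (hqr : q ≠ r) (hsq : s ≠ q)
    (Q T : Subgroup Γ) (y : Γ) :
    ∀ (n : ℕ) (W : Type w) [AddCommGroup W] [Module k W] [Module.Finite k W]
      (ρ : Representation k Γ W), Module.finrank k W = n → Cfg r ρ s q Q T y →
      ∀ x ∈ T, ∀ g ∈ Q, ρ (x * g * x⁻¹ * g⁻¹) = 1 := by
  intro n
  induction n using Nat.strong_induction_on with
  | _ n ih =>
    intro W _ _ _ ρ hn cfg
    by_cases hirr : ∀ M₁ : Submodule k W, (∀ g ∈ Q, ∀ w ∈ M₁, ρ g w ∈ M₁) →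
        (∀ x ∈ T, ∀ w ∈ M₁, ρ x w ∈ M₁) → (∀ w ∈ M₁, ρ y w ∈ M₁) → M₁ = ⊥ ∨ M₁ = ⊤
    · exact cfg.irred_case hyp hrF.out hs hq hsr hqr hsq hirr
    · push Not at hirr
      obtain ⟨M₁, h1, h2, h3, hbot, htop⟩ := hirr
      have hinv := cfg.invariant hq.pos M₁ h1 h2 h3
      have hqk : (q : k) ≠ 0 := natCast_ne_zero_of_prime_ne hq hqr
      have hlt1 : Module.finrank k M₁ < n := by
        rw [← hn]; exact Submodule.finrank_lt htop
      have hlt2 : Module.finrank k (W ⧸ M₁) < n := by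
        have h4 := Submodule.finrank_quotient_add_finrank M₁
        have hpos : 0 < Module.finrank k M₁ := by
          rw [Module.finrank_pos_iff]
          exact (Submodule.nontrivial_iff_ne_bot).2 hbot
        omega
      have ih1 := ih _ hlt1 M₁ (ρ.subrepresentation M₁ hinv) rfl (cfg.sub M₁ hinv)
      have ih2 := ih _ hlt2 (W ⧸ M₁) (ρ.quotient M₁ hinv) rfl (cfg.quot hqk M₁ hinv)
      intro x hx g hg
      obtain ⟨c₀, hc₀⟩ : ∃ c₀ : Γ, c₀ = x * g * x⁻¹ * g⁻¹ := ⟨_, rfl⟩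
      rw [← hc₀]
      have hc₀Q : c₀ ∈ Q := by
        rw [hc₀]
        exact Q.mul_mem ((Subgroup.mem_normalizer_iff.1 (cfg.hTQ hx) g).1 hg) (Q.inv_mem hg)
      obtain ⟨m, hm⟩ := cfg.hQ ⟨c₀, hc₀Q⟩
      have hpow : (ρ c₀) ^ (s ^ m) = 1 := by
        rw [← map_pow]
        have h5 := congrArg Subtype.val hm
        simp only [Subgroup.coe_pow, Subgroup.coe_one] at h5
        rw [h5, map_one]
      have e1 := ih1 x hx g hg
      have e2 := ih2 x hx g hg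
      rw [← hc₀] at e1 e2
      have hw2 : ∀ v ∈ M₁, ρ c₀ v = v := by
        intro v hv
        have h6 := congrArg (fun f : Module.End k M₁ => ((f ⟨v, hv⟩ : M₁) : W)) e1
        simpa using h6
      have hw1 : ∀ v : W, ρ c₀ v - v ∈ M₁ := by
        intro v
        have h6 := congrArg (fun f : Module.End k (W ⧸ M₁) => f (Submodule.Quotient.mk v)) e2
        simp only [Representation.quotient_apply, Submodule.mapQ_apply, Module.End.one_apply] at h6
        rw [← Submodule.Quotient.mk_eq_zero, Submodule.Quotient.mk_sub, h6, sub_self]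
      apply eq_one_of_sq_zero (ρ c₀) ?_ (s ^ m) ?_ hpow
      · ext v
        simp only [Module.End.mul_apply, LinearMap.sub_apply, Module.End.one_apply,
          LinearMap.zero_apply]
        rw [hw2 _ (hw1 v), sub_self]
      · rw [Nat.cast_pow]
        exact pow_ne_zero _ (natCast_ne_zero_of_prime_ne hs hsr)

end main

section final

variable {k : Type u} [Field k] {r : ℕ} [hrF : Fact r.Prime] [CharP k r]

/-- **Lemma R, part A**: reduction of Lemma R to its faithful irreducible whole-space case. -/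
theorem frob_char_r_of_hyp
    (hyp : FaithIrredHyp.{u, v, w} k r)
    {Γ : Type v} [Group Γ] [Finite Γ] {W : Type w} [AddCommGroup W] [Module k W] [Module.Finite k W]
    (ρ : Representation k Γ W)
    {s q : ℕ} (hs : s.Prime) (hq : q.Prime) (hsr : s ≠ r) (hqr : q ≠ r) (hsq : s ≠ q)
    (Q T : Subgroup Γ) (hQ : IsPGroup s Q) (hT : IsPGroup r T) (y : Γ) (hyq : y ^ q = 1)
    (hTQ : T ≤ Subgroup.normalizer (Q : Set Γ))
    (hyQ : y ∈ Subgroup.normalizer (Q : Set Γ)) (hyT : y ∈ Subgroup.normalizer (T : Set Γ))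
    (hfreeT : ∀ x ∈ T, y * x * y⁻¹ = x → x = 1)
    (M : Submodule k W) (hMQ : ∀ g ∈ Q, ∀ w ∈ M, ρ g w ∈ M) (hMT : ∀ x ∈ T, ∀ w ∈ M, ρ x w ∈ M)
    (hMy : ∀ w ∈ M, ρ y w ∈ M)
    (hfix : ∀ w ∈ M, ρ y w = w → w = 0)
    (hsc : ∀ g ∈ Q, ∀ h ∈ Q, ∃ c : k, ∀ w ∈ M, ρ (g * h * g⁻¹ * h⁻¹) w = c • w) :
    ∀ x ∈ T, ∀ g ∈ Q, ∀ w ∈ M, ρ (x * g * x⁻¹ * g⁻¹) w = w := by
  obtain ⟨Γ', hΓ'⟩ : ∃ Γ' : Subgroup Γ,
      Γ' = Subgroup.closure ((Q : Set Γ) ∪ (T : Set Γ) ∪ {y}) := ⟨_, rfl⟩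
  have hstab : Γ' ≤ stab ρ M := by
    rw [hΓ']; exact closure_le_stab ρ M Q T y q hq.pos hyq hMQ hMT hMy
  have hQΓ : Q ≤ Γ' := by
    rw [hΓ']
    exact fun g hg => Subgroup.subset_closure (Or.inl (Or.inl hg))
  have hTΓ : T ≤ Γ' := by
    rw [hΓ']
    exact fun g hg => Subgroup.subset_closure (Or.inl (Or.inr hg))
  have hyΓ : y ∈ Γ' := by
    rw [hΓ']
    exact Subgroup.subset_closure (Or.inr rfl)
  obtain ⟨ρ₀, hρ₀⟩ : ∃ ρ₀ : Representation k ↥Γ' W, ∀ g : ↥Γ', ρ₀ g = ρ (g : Γ) :=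
    ⟨(ρ : Γ →* Module.End k W).comp Γ'.subtype, fun g => rfl⟩
  have hinv : ∀ g : ↥Γ', M ≤ M.comap (ρ₀ g) := by
    intro g w hw
    rw [Submodule.mem_comap, hρ₀]
    exact (hstab g.2 w hw).1
  have hρ' : ∀ (g : ↥Γ') (w : ↥M), ((ρ₀.subrepresentation M hinv g w : ↥M) : W) = ρ (g : Γ) w := by
    intro g w
    simp only [Representation.subrepresentation_apply, LinearMap.coe_restrict_apply, hρ₀]
  have cfg' : Cfg r (ρ₀.subrepresentation M hinv) s q (Q.subgroupOf Γ') (T.subgroupOf Γ')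
      (⟨y, hyΓ⟩ : ↥Γ') :=
    { hQ := hQ.comap_subtype
      hT := hT.comap_subtype
      hyq := by
        apply Subtype.ext
        simpa using hyq
      hTQ := by
        intro x hx
        rw [Subgroup.mem_normalizer_iff]
        intro n
        simp only [Subgroup.mem_subgroupOf]
        have := Subgroup.mem_normalizer_iff.1 (hTQ (Subgroup.mem_subgroupOf.1 hx)) (n : Γ)
        simpa using this
      hyQ := by
        rw [Subgroup.mem_normalizer_iff]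
        intro n
        simp only [Subgroup.mem_subgroupOf]
        have := Subgroup.mem_normalizer_iff.1 hyQ (n : Γ)
        simpa using this
      hyT := by
        rw [Subgroup.mem_normalizer_iff]
        intro n
        simp only [Subgroup.mem_subgroupOf]
        have := Subgroup.mem_normalizer_iff.1 hyT (n : Γ)
        simpa using this
      hfreeT := by
        intro x hx h
        apply Subtype.ext
        have h1 := congrArg Subtype.val h
        simp only [Subgroup.coe_mul, Subgroup.coe_inv] at h1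
        exact hfreeT (x : Γ) (Subgroup.mem_subgroupOf.1 hx) h1
      hgen := by
        have h1 := Subgroup.closure_closure_coe_preimage
          (k := ((Q : Set Γ) ∪ (T : Set Γ) ∪ {y}))
        subst hΓ'
        convert h1 using 2
        ext ⟨g, hg⟩
        simp [Subgroup.mem_subgroupOf]
      hfix := by
        intro w hw
        apply Subtype.ext
        have h1 := congrArg Subtype.val hw
        rw [hρ'] at h1
        exact hfix (w : W) w.2 h1
      hsc := by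
        intro g hg h hh
        obtain ⟨c, hc⟩ := hsc (g : Γ) (Subgroup.mem_subgroupOf.1 hg) (h : Γ)
          (Subgroup.mem_subgroupOf.1 hh)
        refine ⟨c, fun w => ?_⟩
        apply Subtype.ext
        rw [hρ']
        simp only [Subgroup.coe_mul, Subgroup.coe_inv, Submodule.coe_smul]
        exact hc (w : W) w.2 }
  have key := whole hyp hs hq hsr hqr hsq (Q.subgroupOf Γ') (T.subgroupOf Γ') (⟨y, hyΓ⟩ : ↥Γ')
    (Module.finrank k ↥M) ↥M (ρ₀.subrepresentation M hinv) rfl cfg'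
  intro x hx g hg w hw
  have h1 := key ⟨x, hTΓ hx⟩ (by rw [Subgroup.mem_subgroupOf]; exact hx) ⟨g, hQΓ hg⟩
    (by rw [Subgroup.mem_subgroupOf]; exact hg)
  have h2 := congrArg (fun f : Module.End k ↥M => ((f ⟨w, hw⟩ : ↥M) : W)) h1
  simp only [hρ', Module.End.one_apply] at h2
  simpa using h2

end final

end Cfsg.Agent.Helper1.FrobCharRed
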