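import Mathlib
import Cfsg.Agent.Helper1.FrobClosedA

set_option autoImplicit false

/-!
A Frobenius normal `p`-complement criterion relative to a strongly closed subgroup: three lemmas.
-/

namespace Cfsg.Agent.Helper1

namespace FrobClosed

open scoped Pointwise commutatorElement
open StrongClosedNPC

universe u

variable {p : ℕ} {G : Type u} [Group G]

/-- Lemma Y: if `x = c n` is a `p'`-element with `c` centralizing the `p`-group `Q` and `n` in a
`p`-nilpotent subgroup `M ≥ Q` normalizing `Q`, then `x` centralizes `Q`. -/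
theorem mem_centralizer_of_factor [Finite G] [hp : Fact p.Prime] (Q M : Subgroup G)
    (hQ : IsPGroup p Q) (hM : Cfsg.HasNormalPComplement p M) (hQM : Q ≤ M)
    (x c n : G) (hx : x = c * n) (hc : c ∈ Subgroup.centralizer (Q : Set G)) (hn : n ∈ M)
    (hnQ : n ∈ Subgroup.normalizer (Q : Set G)) (hcop : (orderOf x).Coprime p) :
    x ∈ Subgroup.centralizer (Q : Set G) := by
  obtain ⟨L, hLn, hLcop, k, hLk⟩ := hasNormalPComplement_iff_exists.1 hM
  -- `n ^ (p ^ k)` lies in `L`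
  have h1 : (⟨n, hn⟩ : M) ^ p ^ k ∈ L := by
    rw [← hLk]; exact Subgroup.pow_index_mem L _
  -- `n ^ (p ^ k)` centralizes `Q`
  have hnpow : ∀ j : ℕ, n ^ j ∈ Subgroup.normalizer (Q : Set G) := fun j =>
    Subgroup.pow_mem _ hnQ j
  have h2 : ∀ q ∈ Q, q * n ^ p ^ k = n ^ p ^ k * q := by
    intro q hq
    set m := n ^ p ^ k with hm
    have hmM : m ∈ M := Subgroup.pow_mem _ hn _
    have hmL : (⟨m, hmM⟩ : M) ∈ L := h1
    -- the commutator lies in `Q` and in `L`
    have hcQ : m * q * m⁻¹ * q⁻¹ ∈ Q :=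
      Q.mul_mem ((Subgroup.mem_normalizer_iff.1 (hnpow _) q).1 hq) (Q.inv_mem hq)
    have hcL : (⟨m, hmM⟩ : M) * (⟨q, hQM hq⟩ * (⟨m, hmM⟩ : M)⁻¹ * (⟨q, hQM hq⟩ : M)⁻¹) ∈ L :=
      L.mul_mem hmL (hLn.conj_mem _ (L.inv_mem hmL) _)
    have hc1 : m * q * m⁻¹ * q⁻¹ ∈ L.map M.subtype := by
      refine ⟨_, hcL, ?_⟩
      simp [mul_assoc]
    have hcard : Nat.card (L.map M.subtype) = Nat.card L :=
      Subgroup.card_map_of_injective M.subtype_injective
    have hdisj : Q ⊓ L.map M.subtype = ⊥ := by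
      apply inf_eq_bot_of_coprime_card
      obtain ⟨a, ha⟩ := IsPGroup.iff_card.1 hQ
      rw [hcard, ha]
      exact (Nat.Coprime.pow_right a hLcop).symm
    have h3 : m * q * m⁻¹ * q⁻¹ ∈ Q ⊓ L.map M.subtype := ⟨hcQ, hc1⟩
    rw [hdisj, Subgroup.mem_bot] at h3
    have : m * q = q * m := by
      have e : m * q = (m * q * m⁻¹ * q⁻¹) * (q * m) := by group
      rw [e, h3, one_mul]
    exact this.symm
  -- `x ^ j` acts on `Q` as `n ^ j`
  have hxn : ∀ j : ℕ, ∀ q ∈ Q, x ^ j * q * (x ^ j)⁻¹ = n ^ j * q * (n ^ j)⁻¹ := by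
    intro j
    induction j with
    | zero => intro q _; simp
    | succ j ih =>
      intro q hq
      have e1 : x ^ (j + 1) * q * (x ^ (j + 1))⁻¹ = x * (x ^ j * q * (x ^ j)⁻¹) * x⁻¹ := by
        rw [pow_succ']; group
      have e2 : n ^ (j + 1) * q * (n ^ (j + 1))⁻¹ = n * (n ^ j * q * (n ^ j)⁻¹) * n⁻¹ := by
        rw [pow_succ']; group
      rw [e1, e2, ih q hq]
      set q' := n ^ j * q * (n ^ j)⁻¹ with hq'
      have hq'Q : q' ∈ Q := (Subgroup.mem_normalizer_iff.1 (hnpow j) q).1 hq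
      have hq'' : n * q' * n⁻¹ ∈ Q := (Subgroup.mem_normalizer_iff.1 hnQ q').1 hq'Q
      have h4 := Subgroup.mem_centralizer_iff.1 hc _ hq''
      rw [hx]
      calc c * n * q' * (c * n)⁻¹ = c * (n * q' * n⁻¹) * c⁻¹ := by group
        _ = (n * q' * n⁻¹) * c * c⁻¹ := by rw [← h4]
        _ = n * q' * n⁻¹ := by group
  -- `x ^ (p ^ k)` centralizes `Q`
  have h5 : x ^ p ^ k ∈ Subgroup.centralizer (Q : Set G) := by
    rw [Subgroup.mem_centralizer_iff]
    intro q hq
    have h6 := hxn (p ^ k) q hq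
    have h7 := h2 q hq
    have h8 : x ^ p ^ k * q * (x ^ p ^ k)⁻¹ = q := by
      rw [h6, ← h7]; group
    calc q * x ^ p ^ k = (x ^ p ^ k * q * (x ^ p ^ k)⁻¹) * x ^ p ^ k := by rw [h8]
      _ = x ^ p ^ k * q := by group
  have hcop' : (p ^ k).Coprime (orderOf x) := (Nat.Coprime.pow_right k hcop).symm
  obtain ⟨m, hm⟩ := exists_pow_eq_self_of_coprime hcop'
  rw [← hm]
  exact Subgroup.pow_mem _ h5 m

/-- Lemma Z (Frattini): for a normal subgroup `C` and a Sylow subgroup `S`, every element is a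
product of an element of `C` and one normalizing `S ⊓ C`. -/
theorem exists_factor_normalizer_inf [Finite G] [hp : Fact p.Prime] (C : Subgroup G) [hC : C.Normal]
    (S : Sylow p G) (x : G) :
    ∃ c ∈ C, ∃ n ∈ Subgroup.normalizer (((S : Subgroup G) ⊓ C : Subgroup G) : Set G),
      x = c * n := by
  obtain ⟨Q, hQ⟩ := sylow_inf_subnormal p C hC.isSubnormal S
  have h1 := Sylow.normalizer_sup_eq_top Q
  have h2 : (Q : Subgroup C).map C.subtype = (S : Subgroup G) ⊓ C := by
    rw [hQ, Subgroup.subgroupOf_map_subtype]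
  rw [h2, sup_comm] at h1
  have hx : x ∈ (C ⊔ Subgroup.normalizer (((S : Subgroup G) ⊓ C : Subgroup G) : Set G) :
      Subgroup G) := by rw [h1]; exact Subgroup.mem_top x
  rw [← SetLike.mem_coe, Subgroup.normal_mul] at hx
  obtain ⟨c, hc, n, hn, hcn⟩ := hx
  exact ⟨c, hc, n, hn, hcn.symm⟩

/-- Lemma X: if `U` is a normal `p`-subgroup centralized by all `p'`-elements and `G ⧸ U` has a
normal `p`-complement, so has `G`. -/
theorem hasNormalPComplement_of_quotient [Finite G] [hp : Fact p.Prime] (U : Subgroup G)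
    [hU : U.Normal] (hquot : Cfsg.HasNormalPComplement p (G ⧸ U))
    (hcen : ∀ x : G, (orderOf x).Coprime p → x ∈ Subgroup.centralizer (U : Set G)) :
    Cfsg.HasNormalPComplement p G := by
  apply frobenius_pcomplement
  intro R hR x hxR hcop
  have hloc := plocalCentral_of_hasNormalPComplement hquot
  have hxb : (QuotientGroup.mk' U) x ∈
      Subgroup.normalizer ((R.map (QuotientGroup.mk' U) : Subgroup (G ⧸ U)) : Set (G ⧸ U)) :=
    Subgroup.le_normalizer_map _ ⟨x, hxR, rfl⟩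
  have hcopb : (orderOf ((QuotientGroup.mk' U) x)).Coprime p :=
    Nat.Coprime.coprime_dvd_left (orderOf_map_dvd _ x) hcop
  have h1 := hloc (R.map (QuotientGroup.mk' U)) (hR.map _) _ hxb hcopb
  rw [Subgroup.mem_centralizer_iff]
  intro r hr
  symm
  apply commute_of_coprime_of_stable hR hcop hr
  · -- `x` commutes with `u = r⁻¹ x r x⁻¹ ∈ U`
    have huU : r⁻¹ * (x * r * x⁻¹) ∈ U := by
      rw [← QuotientGroup.eq_one_iff, ← QuotientGroup.mk'_apply]
      have h2 := Subgroup.mem_centralizer_iff.1 h1 ((QuotientGroup.mk' U) r) ⟨r, hr, rfl⟩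
      rw [map_mul, map_mul, map_mul, map_inv, map_inv, ← h2]
      group
    have := Subgroup.mem_centralizer_iff.1 (hcen x hcop) _ huU
    exact this.symm
  · exact R.mul_mem (R.inv_mem hr) ((Subgroup.mem_normalizer_iff.1 hxR r).1 hr)

end FrobClosed

end Cfsg.Agent.Helper1
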