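import Mathlib
import Cfsg.Agent.Helper1.FrobClosedB

set_option autoImplicit false

/-!
A Frobenius normal `p`-complement criterion relative to a strongly closed subgroup: inheritance
by normalizers of subgroups of `D`.
-/

namespace Cfsg.Agent.Helper1

namespace FrobClosed

open scoped Pointwise commutatorElement
open StrongClosedNPC

universe u

variable {p : ℕ} {G : Type u} [Group G]

theorem stronglyClosed_inf_subgroupOf {D S'' : Subgroup G} (hD : Cfsg.IsStronglyClosed D S'')
    (N : Subgroup G) (T : Subgroup N) (hT : T.map N.subtype ≤ S'') :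
    Cfsg.IsStronglyClosed ((D ⊓ T.map N.subtype).subgroupOf N) T := by
  refine ⟨?_, ?_⟩
  · intro x hx
    rw [Subgroup.mem_subgroupOf] at hx
    obtain ⟨r, hr, hrx⟩ := hx.2
    have : r = x := Subtype.ext hrx
    rw [← this]; exact hr
  · intro x hx n hn
    rw [Subgroup.mem_subgroupOf] at hx ⊢
    have h1 : (n : G) * (x : G) * (n : G)⁻¹ ∈ T.map N.subtype := ⟨n * x * n⁻¹, hn, rfl⟩
    refine ⟨?_, h1⟩
    exact hD.2 _ hx.1 _ (hT h1)

theorem mem_normalizer_sup {A B : Subgroup G} {y : G} (hA : y ∈ Subgroup.normalizer (A : Set G))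
    (hB : y ∈ Subgroup.normalizer (B : Set G)) : y ∈ Subgroup.normalizer ((A ⊔ B : Subgroup G) : Set G) := by
  apply mem_normalizer_of_conj_smul_eq
  rw [Subgroup.smul_sup, conj_smul_eq_of_mem_normalizer hA, conj_smul_eq_of_mem_normalizer hB]

/-- a Sylow subgroup of `N` contained in the Sylow subgroup `S''` of `G` equals `S'' ⊓ N` -/
theorem sylow_inf_le_map [Finite G] [hp : Fact p.Prime] (S'' : Sylow p G) (N : Subgroup G)
    (T : Sylow p N) (hT : (T : Subgroup N).map N.subtype ≤ S'') :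
    (S'' : Subgroup G) ⊓ N ≤ (T : Subgroup N).map N.subtype := by
  have h1 : IsPGroup p (((S'' : Subgroup G) ⊓ N).subgroupOf N) :=
    (S''.2.to_le inf_le_left).comap_of_injective _ (Subgroup.subtype_injective _)
  have h2 : (T : Subgroup N) ≤ ((S'' : Subgroup G) ⊓ N).subgroupOf N := by
    intro x hx
    rw [Subgroup.mem_subgroupOf]
    exact ⟨hT ⟨x, hx, rfl⟩, x.2⟩
  have h3 := T.3 h1 h2
  intro x hx
  have h4 : (⟨x, hx.2⟩ : N) ∈ ((S'' : Subgroup G) ⊓ N).subgroupOf N := by
    rw [Subgroup.mem_subgroupOf]; exact hx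
  rw [h3] at h4
  exact ⟨⟨x, hx.2⟩, h4, rfl⟩

theorem le_map_conj_of_le {D S : Subgroup G} (hD : Cfsg.IsStronglyClosed D S) {U : Subgroup G}
    (hUD : U ≤ D) (g : G) (hUS : U ≤ S.map (MulAut.conj g).toMonoidHom) :
    U ≤ D.map (MulAut.conj g).toMonoidHom := by
  intro u hu
  obtain ⟨s, hs, hsu⟩ := hUS hu
  rw [conj_toMonoidHom_apply] at hsu
  have e : g⁻¹ * u * g⁻¹⁻¹ = s := by rw [← hsu]; group
  have h1 : g⁻¹ * u * g⁻¹⁻¹ ∈ D := hD.2 u (hUD hu) g⁻¹ (by rw [e]; exact hs)
  refine ⟨g⁻¹ * u * g⁻¹⁻¹, h1, ?_⟩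
  rw [conj_toMonoidHom_apply]; group

theorem sylow_smul_coe [Finite G] [hp : Fact p.Prime] (S : Sylow p G) (g : G) :
    ((g • S : Sylow p G) : Subgroup G) = (S : Subgroup G).map (MulAut.conj g).toMonoidHom := by
  rw [Sylow.coe_subgroup_smul]; rfl

/-- the inductive hypothesis -/
def IH (p : ℕ) (G : Type u) [Group G] : Prop :=
  ∀ (H : Type u) [Group H] [Finite H], Nat.card H < Nat.card G → ∀ (T : Sylow p H)
    (E : Subgroup H), Cfsg.IsStronglyClosed E (T : Subgroup H) → HypF p H E →
    Cfsg.HasNormalPComplement p H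

/-- L1: normalizers of non-normal subgroups of `D` have normal `p`-complements. -/
theorem hasNormalPComplement_normalizer_of_ih [Finite G] [hp : Fact p.Prime] (ih : IH p G)
    (S : Sylow p G) (D : Subgroup G) (hD : Cfsg.IsStronglyClosed D (S : Subgroup G))
    (hH : HypF p G D) (U : Subgroup G) (hUD : U ≤ D)
    (hN : Subgroup.normalizer (U : Set G) ≠ ⊤) :
    Cfsg.HasNormalPComplement p ↥(Subgroup.normalizer (U : Set G)) := by
  obtain ⟨N, hNdef⟩ : ∃ N : Subgroup G, N = Subgroup.normalizer (U : Set G) := ⟨_, rfl⟩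
  rw [← hNdef] at hN ⊢
  obtain ⟨T⟩ : Nonempty (Sylow p N) := inferInstance
  have hT'p : IsPGroup p ((T : Subgroup N).map N.subtype) := T.2.map _
  obtain ⟨S'', hTS''⟩ := hT'p.exists_le_sylow
  obtain ⟨g, hg⟩ := MulAction.exists_smul_eq G S S''
  have e : (S'' : Subgroup G) = (S : Subgroup G).map (MulAut.conj g).toMonoidHom := by
    rw [← hg]; exact sylow_smul_coe S g
  have hD'' : Cfsg.IsStronglyClosed (D.map (MulAut.conj g).toMonoidHom) (S'' : Subgroup G) := by
    rw [e]; exact stronglyClosed_conj hD g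
  have hH'' := hypF_conj hH g
  obtain ⟨D'', hD''def⟩ : ∃ D'' : Subgroup G, D'' = D.map (MulAut.conj g).toMonoidHom := ⟨_, rfl⟩
  rw [← hD''def] at hD'' hH''
  have hUp : IsPGroup p U := S.2.to_le (hUD.trans hD.1)
  have hUT' : U ≤ (T : Subgroup N).map N.subtype := by
    have h1 : IsPGroup p (U.subgroupOf N) :=
      hUp.comap_of_injective _ (Subgroup.subtype_injective _)
    haveI : (U.subgroupOf N).Normal := by rw [hNdef]; exact Subgroup.normal_in_normalizer
    have h2 : U.subgroupOf N ≤ T := h1.le_sylow_of_normal T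
    intro x hx
    have hxN : x ∈ N := by rw [hNdef]; exact Subgroup.le_normalizer hx
    exact ⟨⟨x, hxN⟩, h2 (by rw [Subgroup.mem_subgroupOf]; exact hx), rfl⟩
  have hUD'' : U ≤ D'' := by
    rw [hD''def]
    apply le_map_conj_of_le hD hUD g
    rw [← e]
    exact hUT'.trans hTS''
  have hPN := sylow_inf_le_map S'' N T hTS''
  have hsc := stronglyClosed_inf_subgroupOf hD'' N (T : Subgroup N) hTS''
  have hHN : HypF p N ((D'' ⊓ (T : Subgroup N).map N.subtype).subgroupOf N) := by
    intro V hVE hVcen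
    have hV'E : V.map N.subtype ≤ D'' ⊓ (T : Subgroup N).map N.subtype := by
      rintro _ ⟨v, hv, rfl⟩
      have := hVE hv
      rwa [Subgroup.mem_subgroupOf] at this
    have hWD : V.map N.subtype ⊔ U ≤ D'' := sup_le (hV'E.trans inf_le_left) hUD''
    have hWcen : D'' ⊓ Subgroup.centralizer ((V.map N.subtype ⊔ U : Subgroup G) : Set G) ≤
        V.map N.subtype ⊔ U := by
      intro x hx
      have hxD : x ∈ D'' := hx.1
      have hxC : x ∈ Subgroup.centralizer ((V.map N.subtype ⊔ U : Subgroup G) : Set G) := hx.2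
      have hxCU : x ∈ Subgroup.centralizer (U : Set G) :=
        Subgroup.centralizer_le (show (U : Set G) ⊆ ((V.map N.subtype ⊔ U : Subgroup G) : Set G)
          from (le_sup_right : U ≤ V.map N.subtype ⊔ U)) hxC
      have hxN : x ∈ N := by rw [hNdef]; exact Subgroup.centralizer_le_normalizer _ hxCU
      have hxT' : x ∈ (T : Subgroup N).map N.subtype := hPN ⟨hD''.1 hxD, hxN⟩
      have h1 : (⟨x, hxN⟩ : N) ∈ (D'' ⊓ (T : Subgroup N).map N.subtype).subgroupOf N ⊓
          Subgroup.centralizer (V : Set N) := by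
        refine Subgroup.mem_inf.2 ⟨by rw [Subgroup.mem_subgroupOf]; exact ⟨hxD, hxT'⟩, ?_⟩
        rw [Subgroup.mem_centralizer_iff]
        intro v hv
        apply Subtype.ext
        have hvW : (v : G) ∈ ((V.map N.subtype ⊔ U : Subgroup G) : Set G) :=
          (le_sup_left : V.map N.subtype ≤ V.map N.subtype ⊔ U) ⟨v, hv, rfl⟩
        exact Subgroup.mem_centralizer_iff.1 hxC _ hvW
      have h2 := hVcen h1
      exact (le_sup_left : V.map N.subtype ≤ V.map N.subtype ⊔ U) ⟨⟨x, hxN⟩, h2, rfl⟩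
    have h1 := hH'' _ hWD hWcen
    have e1 : (Subgroup.normalizer (V : Set N)).map N.subtype ≤
        Subgroup.normalizer ((V.map N.subtype ⊔ U : Subgroup G) : Set G) := by
      rintro _ ⟨y, hy, rfl⟩
      apply mem_normalizer_sup
      · exact Subgroup.le_normalizer_map _ ⟨y, hy, rfl⟩
      · have hle : N ≤ Subgroup.normalizer (U : Set G) := hNdef.le
        exact hle y.2
    have e2 := hasNormalPComplement_of_le e1 h1
    exact hasNormalPComplement_of_mulEquiv
      (Subgroup.equivMapOfInjective _ N.subtype N.subtype_injective).symm e2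
  have hcard : Nat.card N < Nat.card G := by
    have := card_lt_card_of_lt (lt_top_iff_ne_top.2 hN)
    rwa [Subgroup.card_top] at this
  exact ih N hcard T _ hsc hHN

end FrobClosed

end Cfsg.Agent.Helper1
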