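import Mathlib
import Cfsg.Agent.Helper1.FrobClosedC

set_option autoImplicit false

/-!
A Frobenius normal `p`-complement criterion relative to a strongly closed subgroup: the case of a
nontrivial normal subgroup inside `D`.
-/

namespace Cfsg.Agent.Helper1

namespace FrobClosed

open scoped Pointwise commutatorElement
open StrongClosedNPC

universe u

variable {p : ℕ} {G : Type u} [Group G]

theorem mem_normalizer_of_forall_conj_mem {A : Subgroup G} {m : G}
    (h1 : ∀ y ∈ A, m * y * m⁻¹ ∈ A) (h2 : ∀ y ∈ A, m⁻¹ * y * m⁻¹⁻¹ ∈ A) :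
    m ∈ Subgroup.normalizer (A : Set G) := by
  rw [Subgroup.mem_normalizer_iff]
  intro y
  constructor
  · exact h1 y
  · intro hy
    have h3 := h2 _ hy
    have e : m⁻¹ * (m * y * m⁻¹) * m⁻¹⁻¹ = y := by group
    rwa [e] at h3

/-- passing the hypothesis to the quotient by a normal subgroup contained in `D` -/
theorem hypF_quot [Finite G] [hp : Fact p.Prime] (D : Subgroup G) (hH : HypF p G D)
    (U : Subgroup G) [hUn : U.Normal] (hUD : U ≤ D) :
    HypF p (G ⧸ U) (D.map (QuotientGroup.mk' U)) := by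
  have hsurj : Function.Surjective (QuotientGroup.mk' U) := QuotientGroup.mk'_surjective U
  intro Vb hVb hVcen
  obtain ⟨V, hVdef⟩ : ∃ V : Subgroup G, V = Vb.comap (QuotientGroup.mk' U) := ⟨_, rfl⟩
  have hmemV : ∀ v, v ∈ V ↔ (QuotientGroup.mk' U) v ∈ Vb := by
    intro v; rw [hVdef, Subgroup.mem_comap]
  have hVD : V ≤ D := by
    intro v hv
    obtain ⟨d, hd, hdv⟩ := hVb ((hmemV v).1 hv)
    have h1 : d⁻¹ * v ∈ U := by
      rw [← QuotientGroup.eq_one_iff, ← QuotientGroup.mk'_apply, map_mul, map_inv, hdv,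
        inv_mul_cancel]
    have : v = d * (d⁻¹ * v) := by group
    rw [this]
    exact D.mul_mem hd (hUD h1)
  have hVcen' : D ⊓ Subgroup.centralizer (V : Set G) ≤ V := by
    intro x hx
    have hxD : x ∈ D := hx.1
    have hxC : x ∈ Subgroup.centralizer (V : Set G) := hx.2
    rw [hmemV]
    apply hVcen
    refine Subgroup.mem_inf.2 ⟨⟨x, hxD, rfl⟩, ?_⟩
    rw [Subgroup.mem_centralizer_iff]
    intro vb hvb
    obtain ⟨v, rfl⟩ := hsurj vb
    have hv : v ∈ V := (hmemV v).2 hvb
    have := Subgroup.mem_centralizer_iff.1 hxC v hv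
    rw [← map_mul, ← map_mul, this]
  have h1 := hH V hVD hVcen'
  have h2 : Subgroup.normalizer (Vb : Set (G ⧸ U)) =
      (Subgroup.normalizer (V : Set G)).map (QuotientGroup.mk' U) := by
    rw [hVdef, ← Subgroup.comap_normalizer_eq_of_surjective Vb hsurj,
      Subgroup.map_comap_eq_self_of_surjective hsurj]
  rw [h2]
  exact hasNormalPComplement_map _ _ h1

/-- Case I: a nontrivial normal subgroup of `G` inside `D`. -/
theorem hasNormalPComplement_of_normal_le [Finite G] [hp : Fact p.Prime] (ih : IH p G)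
    (S : Sylow p G) (D : Subgroup G) (hD : Cfsg.IsStronglyClosed D (S : Subgroup G))
    (hH : HypF p G D) (U : Subgroup G) [hUn : U.Normal] (hUD : U ≤ D) (hU1 : U ≠ ⊥) :
    Cfsg.HasNormalPComplement p G := by
  have hsurj : Function.Surjective (QuotientGroup.mk' U) := QuotientGroup.mk'_surjective U
  have hUp : IsPGroup p U := S.2.to_le (hUD.trans hD.1)
  have hcard : Nat.card (G ⧸ U) < Nat.card G := by
    rw [Subgroup.card_eq_card_quotient_mul_card_subgroup U]
    have h1 : 1 < Nat.card U := by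
      rw [Subgroup.one_lt_card_iff_ne_bot]; exact hU1
    have h2 : 0 < Nat.card (G ⧸ U) := Nat.card_pos
    nlinarith
  have hquot : Cfsg.HasNormalPComplement p (G ⧸ U) := by
    refine ih (G ⧸ U) hcard (S.mapSurjective hsurj) (D.map (QuotientGroup.mk' U)) ?_
      (hypF_quot D hH U hUD)
    rw [Sylow.coe_mapSurjective]
    exact stronglyClosed_quot U S hD
  apply hasNormalPComplement_of_quotient U hquot
  -- all `p'`-elements centralize `U`
  haveI hCn : (Subgroup.centralizer (U : Set G)).Normal := Subgroup.normal_centralizer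
  have hWD : U ⊔ (D ⊓ Subgroup.centralizer (U : Set G)) ≤ D := sup_le hUD inf_le_left
  have hWcen : D ⊓ Subgroup.centralizer
      ((U ⊔ (D ⊓ Subgroup.centralizer (U : Set G)) : Subgroup G) : Set G) ≤
      U ⊔ (D ⊓ Subgroup.centralizer (U : Set G)) := by
    intro x hx
    have hxD : x ∈ D := hx.1
    have hxC : x ∈ Subgroup.centralizer
      ((U ⊔ (D ⊓ Subgroup.centralizer (U : Set G)) : Subgroup G) : Set G) := hx.2
    have hxCU : x ∈ Subgroup.centralizer (U : Set G) :=
      Subgroup.centralizer_le (show (U : Set G) ⊆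
        ((U ⊔ (D ⊓ Subgroup.centralizer (U : Set G)) : Subgroup G) : Set G)
        from (le_sup_left : U ≤ U ⊔ (D ⊓ Subgroup.centralizer (U : Set G)))) hxC
    exact (le_sup_right : D ⊓ Subgroup.centralizer (U : Set G) ≤ _) ⟨hxD, hxCU⟩
  have hM := hH _ hWD hWcen
  intro x hcop
  obtain ⟨c, hc, n, hn, hxcn⟩ := exists_factor_normalizer_inf (Subgroup.centralizer (U : Set G)) S x
  have key : ∀ m ∈ Subgroup.normalizer
      (((S : Subgroup G) ⊓ Subgroup.centralizer (U : Set G) : Subgroup G) : Set G),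
      ∀ y ∈ D ⊓ Subgroup.centralizer (U : Set G),
      m * y * m⁻¹ ∈ D ⊓ Subgroup.centralizer (U : Set G) := by
    intro m hm y hy
    have h1 : y ∈ (S : Subgroup G) ⊓ Subgroup.centralizer (U : Set G) := ⟨hD.1 hy.1, hy.2⟩
    have h2 := (Subgroup.mem_normalizer_iff.1 hm y).1 h1
    exact ⟨hD.2 y hy.1 m h2.1, h2.2⟩
  have hnU : n ∈ Subgroup.normalizer (U : Set G) := by
    rw [Subgroup.normalizer_eq_top U]; exact Subgroup.mem_top n
  have hnW : n ∈ Subgroup.normalizer
      ((U ⊔ (D ⊓ Subgroup.centralizer (U : Set G)) : Subgroup G) : Set G) := by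
    apply mem_normalizer_sup hnU
    exact mem_normalizer_of_forall_conj_mem (key n hn) (key n⁻¹ (Subgroup.inv_mem _ hn))
  have hUM : U ≤ Subgroup.normalizer
      ((U ⊔ (D ⊓ Subgroup.centralizer (U : Set G)) : Subgroup G) : Set G) :=
    le_sup_left.trans Subgroup.le_normalizer
  exact mem_centralizer_of_factor U _ hUp hM hUM x c n hxcn hc hnW hnU hcop

end FrobClosed

end Cfsg.Agent.Helper1
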