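import Mathlib
import Cfsg.Agent.Helper1.FrobClosedD

set_option autoImplicit false

/-!
A Frobenius normal `p`-complement criterion relative to a strongly closed subgroup: the theorem.
-/

namespace Cfsg.Agent.Helper1

namespace FrobClosed

open scoped Pointwise commutatorElement
open StrongClosedNPC

universe u

variable {p : ℕ} {G : Type u} [Group G]

/-- The generic case: no nontrivial subgroup of a conjugate of `D` is normal in `G`; every
normalizer of a nontrivial subgroup of a conjugate of `D` has a normal `p`-complement. -/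
theorem plocalCentral_of_claim [Finite G] [hp : Fact p.Prime]
    (S : Sylow p G) (D : Subgroup G) (hD : Cfsg.IsStronglyClosed D (S : Subgroup G))
    (hD1 : D ≠ ⊥)
    (hclaim : ∀ g : G, ∀ U : Subgroup G, U ≤ D.map (MulAut.conj g).toMonoidHom → U ≠ ⊥ →
      Cfsg.HasNormalPComplement p ↥(Subgroup.normalizer (U : Set G))) :
    PLocalCentral p G := by
  intro R hR x hxR hcop
  obtain ⟨T⟩ : Nonempty (Sylow p ↥(Subgroup.normalizer (R : Set G))) := inferInstance
  have hT'p : IsPGroup p ((T : Subgroup ↥(Subgroup.normalizer (R : Set G))).map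
      (Subgroup.normalizer (R : Set G)).subtype) := T.2.map _
  obtain ⟨S'', hTS''⟩ := hT'p.exists_le_sylow
  obtain ⟨g, hg⟩ := MulAction.exists_smul_eq G S S''
  have e : (S'' : Subgroup G) = (S : Subgroup G).map (MulAut.conj g).toMonoidHom := by
    rw [← hg]; exact sylow_smul_coe S g
  have hD'' : Cfsg.IsStronglyClosed (D.map (MulAut.conj g).toMonoidHom) (S'' : Subgroup G) := by
    rw [e]; exact stronglyClosed_conj hD g
  have hcl := hclaim g
  have hD''1 : D.map (MulAut.conj g).toMonoidHom ≠ ⊥ := by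
    rw [Ne, Subgroup.map_eq_bot_iff_of_injective _ (MulAut.conj g).injective]
    exact hD1
  obtain ⟨D'', hD''def⟩ : ∃ D'' : Subgroup G, D'' = D.map (MulAut.conj g).toMonoidHom := ⟨_, rfl⟩
  rw [← hD''def] at hD'' hcl hD''1
  have hRT' : R ≤ (T : Subgroup ↥(Subgroup.normalizer (R : Set G))).map
      (Subgroup.normalizer (R : Set G)).subtype := by
    have h1 : IsPGroup p (R.subgroupOf (Subgroup.normalizer (R : Set G))) :=
      hR.comap_of_injective _ (Subgroup.subtype_injective _)
    haveI : (R.subgroupOf (Subgroup.normalizer (R : Set G))).Normal :=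
      Subgroup.normal_in_normalizer
    have h2 : R.subgroupOf (Subgroup.normalizer (R : Set G)) ≤ T := h1.le_sylow_of_normal T
    intro y hy
    have hyN : y ∈ Subgroup.normalizer (R : Set G) := Subgroup.le_normalizer hy
    exact ⟨⟨y, hyN⟩, h2 (by rw [Subgroup.mem_subgroupOf]; exact hy), rfl⟩
  have hRS'' : R ≤ S'' := hRT'.trans hTS''
  have hPN := sylow_inf_le_map S'' (Subgroup.normalizer (R : Set G)) T hTS''
  have hSD'' := stronglyClosed_le_normalizer hD''
  -- conjugation by elements of `N_G(R)` preserves `R ⊓ D''`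
  by_cases hRD : R ⊓ D'' = ⊥
  swap
  · have hM := hcl (R ⊓ D'') inf_le_right hRD
    have key : ∀ m ∈ Subgroup.normalizer (R : Set G), ∀ y ∈ R ⊓ D'', m * y * m⁻¹ ∈ R ⊓ D'' := by
      intro m hm y hy
      have h1 := (Subgroup.mem_normalizer_iff.1 hm y).1 hy.1
      exact ⟨h1, hD''.2 y hy.2 m (hRS'' h1)⟩
    have hnorm : Subgroup.normalizer (R : Set G) ≤
        Subgroup.normalizer ((R ⊓ D'' : Subgroup G) : Set G) := fun m hm =>
      mem_normalizer_of_forall_conj_mem (key m hm) (key m⁻¹ (Subgroup.inv_mem _ hm))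
    exact mem_centralizer_of_factor R _ hR hM (Subgroup.le_normalizer.trans hnorm) x 1 x
      (one_mul x).symm (Subgroup.one_mem _) (hnorm hxR) hxR hcop
  -- now `R ⊓ D'' = ⊥`
  obtain ⟨d, hdD, hd1, hdc⟩ := exists_central_of_normal S''.2 hD''.1 hSD'' hD''1
  have hdN : d ∈ Subgroup.normalizer (R : Set G) := by
    apply Subgroup.centralizer_le_normalizer
    rw [Subgroup.mem_centralizer_iff]
    intro y hy
    exact hdc y (hRS'' hy)
  set E := D'' ⊓ (T : Subgroup ↥(Subgroup.normalizer (R : Set G))).map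
      (Subgroup.normalizer (R : Set G)).subtype with hE
  have hdE : d ∈ E := ⟨hdD, hPN ⟨hD''.1 hdD, hdN⟩⟩
  have hE1 : E ≠ ⊥ := by
    intro h
    rw [h, Subgroup.mem_bot] at hdE
    exact hd1 hdE
  have hT'N : (T : Subgroup ↥(Subgroup.normalizer (R : Set G))).map
      (Subgroup.normalizer (R : Set G)).subtype ≤ Subgroup.normalizer (R : Set G) := by
    rintro _ ⟨y, _, rfl⟩
    exact y.2
  have hEcen : E ≤ Subgroup.centralizer (R : Set G) := by
    intro y hy
    rw [Subgroup.mem_centralizer_iff]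
    intro r hr
    have h1 : y * r * y⁻¹ * r⁻¹ ∈ R :=
      R.mul_mem ((Subgroup.mem_normalizer_iff.1 (hT'N hy.2) r).1 hr) (R.inv_mem hr)
    have h2 : y * r * y⁻¹ * r⁻¹ ∈ D'' := by
      have h3 : r * y⁻¹ * r⁻¹ ∈ D'' :=
        (Subgroup.mem_normalizer_iff.1 (hSD'' (hRS'' hr)) y⁻¹).1 (D''.inv_mem hy.1)
      have e1 : y * r * y⁻¹ * r⁻¹ = y * (r * y⁻¹ * r⁻¹) := by group
      rw [e1]
      exact D''.mul_mem hy.1 h3
    have h4 : y * r * y⁻¹ * r⁻¹ ∈ R ⊓ D'' := ⟨h1, h2⟩
    rw [hRD, Subgroup.mem_bot] at h4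
    have e2 : y * r = (y * r * y⁻¹ * r⁻¹) * (r * y) := by group
    rw [e2, h4, one_mul]
  have hM := hcl E inf_le_left hE1
  -- Frattini argument inside `N_G(R)`
  obtain ⟨c, hc, n, hn, hxcn⟩ := exists_factor_normalizer_inf
    ((Subgroup.centralizer (R : Set G)).subgroupOf (Subgroup.normalizer (R : Set G))) T ⟨x, hxR⟩
  have hcC : (c : G) ∈ Subgroup.centralizer (R : Set G) := by
    rwa [Subgroup.mem_subgroupOf] at hc
  have key : ∀ m : ↥(Subgroup.normalizer (R : Set G)),
      m ∈ Subgroup.normalizer ((((T : Subgroup ↥(Subgroup.normalizer (R : Set G))) ⊓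
        (Subgroup.centralizer (R : Set G)).subgroupOf (Subgroup.normalizer (R : Set G)) :
          Subgroup ↥(Subgroup.normalizer (R : Set G))) : Set ↥(Subgroup.normalizer (R : Set G)))) →
      ∀ y ∈ E, (m : G) * y * (m : G)⁻¹ ∈ E := by
    intro m hm y hy
    obtain ⟨t, ht, hty⟩ := hy.2
    have htC : t ∈ (Subgroup.centralizer (R : Set G)).subgroupOf
        (Subgroup.normalizer (R : Set G)) := by
      rw [Subgroup.mem_subgroupOf]
      have : ((Subgroup.normalizer (R : Set G)).subtype t) = y := hty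
      rw [Subgroup.coe_subtype] at this
      rw [this]
      exact hEcen hy
    have h1 := (Subgroup.mem_normalizer_iff.1 hm t).1 ⟨ht, htC⟩
    have h2 : (m : G) * y * (m : G)⁻¹ ∈ (T : Subgroup ↥(Subgroup.normalizer (R : Set G))).map
        (Subgroup.normalizer (R : Set G)).subtype := by
      refine ⟨m * t * m⁻¹, h1.1, ?_⟩
      have : ((Subgroup.normalizer (R : Set G)).subtype t) = y := hty
      rw [map_mul, map_mul, map_inv, this]
      rfl
    exact ⟨hD''.2 y hy.1 (m : G) (hTS'' h2), h2⟩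
  have hnE : (n : G) ∈ Subgroup.normalizer (E : Set G) := by
    apply mem_normalizer_of_forall_conj_mem (key n hn)
    have := key n⁻¹ (Subgroup.inv_mem _ hn)
    simpa using this
  have hRM : R ≤ Subgroup.normalizer (E : Set G) :=
    (Subgroup.le_centralizer_iff.1 hEcen).trans (Subgroup.centralizer_le_normalizer _)
  have hxeq : x = (c : G) * (n : G) := by
    have := congrArg Subtype.val hxcn
    simpa using this
  exact mem_centralizer_of_factor R _ hR hM hRM x c n hxeq hcC hnE n.2 hcop

theorem frobenius_closed_aux [hp : Fact p.Prime] : ∀ n : ℕ, ∀ (G : Type u) [Group G] [Finite G]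
    (S : Sylow p G) (D : Subgroup G), Nat.card G = n →
    Cfsg.IsStronglyClosed D (S : Subgroup G) → HypF p G D → Cfsg.HasNormalPComplement p G := by
  intro n
  induction n using Nat.strong_induction_on with
  | _ n ih =>
  intro G _ _ S D hn hD hH
  have ih' : IH p G := fun H _ _ hlt T E hE hHE =>
    ih (Nat.card H) (by rw [← hn]; exact hlt) H T E rfl hE hHE
  by_cases hD1 : D = ⊥
  · have h1 : D ⊓ Subgroup.centralizer (((⊥ : Subgroup G)) : Set G) ≤ ⊥ := by
      rw [hD1]; exact inf_le_left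
    have h2 := hH ⊥ bot_le h1
    rw [Subgroup.normalizer_eq_top (⊥ : Subgroup G)] at h2
    exact hasNormalPComplement_of_mulEquiv Subgroup.topEquiv h2
  by_cases hI : ∃ U : Subgroup G, U ≤ D ∧ U ≠ ⊥ ∧ U.Normal
  · obtain ⟨U, hUD, hU1, hUn⟩ := hI
    exact hasNormalPComplement_of_normal_le ih' S D hD hH U hUD hU1
  apply frobenius_pcomplement
  apply plocalCentral_of_claim S D hD hD1
  intro g U hU hU1
  apply hasNormalPComplement_normalizer_of_ih ih' (g • S) (D.map (MulAut.conj g).toMonoidHom)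
    (by rw [sylow_smul_coe]; exact stronglyClosed_conj hD g) (hypF_conj hH g) U hU
  intro htop
  apply hI
  have hUn : U.Normal := Subgroup.normalizer_eq_top_iff.1 htop
  refine ⟨U, ?_, hU1, hUn⟩
  intro u hu
  have h1 : g * u * g⁻¹ ∈ U := hUn.conj_mem u hu g
  obtain ⟨d, hd, hdu⟩ := hU h1
  rw [conj_toMonoidHom_apply] at hdu
  have : u = d := by
    have h2 : g⁻¹ * (g * d * g⁻¹) * g = g⁻¹ * (g * u * g⁻¹) * g := by rw [hdu]
    have e1 : g⁻¹ * (g * d * g⁻¹) * g = d := by group
    have e2 : g⁻¹ * (g * u * g⁻¹) * g = u := by group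
    rw [e1, e2] at h2
    exact h2.symm
  rw [this]; exact hd

/-- The Frobenius normal `p`-complement criterion relative to a strongly closed subgroup. -/
theorem frobenius_closed [hp : Fact p.Prime] (G : Type u) [Group G] [Finite G]
    (S : Sylow p G) (D : Subgroup G) (hD : Cfsg.IsStronglyClosed D (S : Subgroup G))
    (hH : ∀ U : Subgroup G, U ≤ D → D ⊓ Subgroup.centralizer (U : Set G) ≤ U →
      Cfsg.HasNormalPComplement p ↥(Subgroup.normalizer (U : Set G))) :
    Cfsg.HasNormalPComplement p G :=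
  frobenius_closed_aux _ G S D rfl hD hH

end FrobClosed

end Cfsg.Agent.Helper1
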