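import Mathlib
import Cfsg.Prelude.Def_Solvable
import Cfsg.Agent.Helper1.Basic
import Cfsg.Agent.Helper1.Frobenius
import Cfsg.Agent.Helper1.Frobenius3

set_option autoImplicit false

/-!
If a Frobenius complement contains an involution then the Frobenius kernel is closed under
multiplication (elementary argument).
-/

namespace Cfsg.Agent.Helper1

open scoped Pointwise

universe u

variable {G : Type u} [Group G]

theorem mem_of_conj_smul_eq {H : Subgroup G} (hH : Cfsg.IsFrobeniusComplement H) {a b : G}
    (h : MulAut.conj a • H = MulAut.conj b • H) : a⁻¹ * b ∈ H := by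
  obtain ⟨x, hxH, hx1⟩ : ∃ x ∈ H, x ≠ 1 := by
    by_contra hcon
    push Not at hcon
    exact hH.1 ((Subgroup.eq_bot_iff_forall H).2 hcon)
  apply mem_of_frobenius hH hx1 hxH
  rw [mem_conj_smul]
  have h1 : a * x * a⁻¹ ∈ MulAut.conj b • H := by rw [← h]; exact conj_mem_conj_smul hxH
  rw [mem_conj_smul] at h1
  have : (a⁻¹ * b)⁻¹ * x * (a⁻¹ * b) = b⁻¹ * (a * x * a⁻¹) * b := by group
  rw [this]; exact h1

theorem frobeniusKernel_mul_mem_of_involution [Finite G] (H : Subgroup G)
    (hH : Cfsg.IsFrobeniusComplement H) (t : G) (ht : t ∈ H) (ht1 : t ≠ 1) (ht2 : t * t = 1) :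
    ∀ x ∈ Cfsg.frobeniusKernel H, ∀ y ∈ Cfsg.frobeniusKernel H,
      x * y ∈ Cfsg.frobeniusKernel H := by
  classical
  -- one involution in each conjugate of `H`
  set τ : G ⧸ H → G := fun c => c.out * t * c.out⁻¹ with hτ
  have hτmem : ∀ c, τ c ∈ MulAut.conj c.out • H := fun c => conj_mem_conj_smul ht
  have hτ1 : ∀ c, τ c ≠ 1 := by
    intro c h
    apply ht1
    have : t = c.out⁻¹ * τ c * c.out := by simp only [hτ]; group
    rw [this, h]; group
  have hτ2 : ∀ c, τ c * τ c = 1 := by
    intro c
    have : τ c * τ c = c.out * (t * t) * c.out⁻¹ := by simp only [hτ]; group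
    rw [this, ht2]; group
  have hτinv : ∀ c, (τ c)⁻¹ = τ c := fun c => inv_eq_of_mul_eq_one_left (hτ2 c)
  have hceq : ∀ c c' : G ⧸ H, MulAut.conj c.out • H = MulAut.conj c'.out • H → c = c' := by
    intro c c' h
    rw [← QuotientGroup.out_eq' c, ← QuotientGroup.out_eq' c']
    exact QuotientGroup.eq.2 (mem_of_conj_smul_eq hH h)
  have hτinj : Function.Injective τ := by
    intro c c' h
    apply hceq
    apply frobenius_conj_eq_of_common hH (hτ1 c) (hτmem c)
    rw [h]; exact hτmem c'
  -- products of two of these involutions lie in the kernel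
  have hprod : ∀ c c', τ c * τ c' ∈ Cfsg.frobeniusKernel H := by
    intro c c'
    by_cases hcc : c = c'
    · left; rw [hcc]; exact hτ2 c'
    right
    intro g hg
    apply hcc
    have hw1 : τ c * τ c' ≠ 1 := by
      intro h
      apply hcc
      apply hτinj
      calc τ c = τ c * (τ c' * τ c') := by rw [hτ2, mul_one]
        _ = (τ c * τ c') * τ c' := by group
        _ = τ c' := by rw [h, one_mul]
    have hF := frobenius_conj H hH g
    -- `τ c ∈ H^g`
    have hu : τ c ∈ MulAut.conj g • H := by
      have : (τ c)⁻¹ ∈ MulAut.conj g • H := by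
        apply mem_of_frobenius hF hw1 hg
        rw [mem_conj_smul, inv_inv, hτinv]
        have : τ c * (τ c * τ c') * τ c = (τ c * τ c) * τ c' * τ c := by group
        rw [this, hτ2, one_mul]
        have : τ c' * τ c = (τ c * τ c')⁻¹ := by rw [mul_inv_rev, hτinv, hτinv]
        rw [this]
        exact Subgroup.inv_mem _ hg
      rw [hτinv] at this; exact this
    have hv : τ c' ∈ MulAut.conj g • H := by
      have : (τ c') ∈ MulAut.conj g • H := by
        apply mem_of_frobenius hF hw1 hg
        rw [mem_conj_smul, hτinv]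
        have : τ c' * (τ c * τ c') * τ c' = τ c' * τ c * (τ c' * τ c') := by group
        rw [this, hτ2, mul_one]
        have : τ c' * τ c = (τ c * τ c')⁻¹ := by rw [mul_inv_rev, hτinv, hτinv]
        rw [this]
        exact Subgroup.inv_mem _ hg
      exact this
    have e1 := frobenius_conj_eq_of_common hH (hτ1 c) (hτmem c) hu
    have e2 := frobenius_conj_eq_of_common hH (hτ1 c') (hτmem c') hv
    exact hceq c c' (e1.trans e2.symm)
  have hcard : Nat.card (Cfsg.frobeniusKernel H) = Nat.card (G ⧸ H) := by
    rw [(frobenius_count H hH).1, Subgroup.index_eq_card]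
  have hfin : Finite (Cfsg.frobeniusKernel H) := Subtype.finite
  -- the two bijections
  have hbijL : ∀ b, Function.Surjective
      (fun c => (⟨τ b * τ c, hprod b c⟩ : Cfsg.frobeniusKernel H)) := by
    intro b
    apply Function.Bijective.surjective
    apply Function.Injective.bijective_of_nat_card_le _ hcard.le
    intro c c' h
    have h1 : τ b * τ c = τ b * τ c' := congrArg Subtype.val h
    exact hτinj (mul_left_cancel h1)
  have hbijR : ∀ b, Function.Surjective
      (fun c => (⟨τ c * τ b, hprod c b⟩ : Cfsg.frobeniusKernel H)) := by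
    intro b
    apply Function.Bijective.surjective
    apply Function.Injective.bijective_of_nat_card_le _ hcard.le
    intro c c' h
    have h1 : τ c * τ b = τ c' * τ b := congrArg Subtype.val h
    exact hτinj (mul_right_cancel h1)
  intro x hx y hy
  let b : G ⧸ H := ((1 : G) : G ⧸ H)
  obtain ⟨a, ha⟩ := hbijR b ⟨x, hx⟩
  obtain ⟨c, hc⟩ := hbijL b ⟨y, hy⟩
  have hxa : τ a * τ b = x := congrArg Subtype.val ha
  have hyc : τ b * τ c = y := congrArg Subtype.val hc
  have : x * y = τ a * τ c := by
    rw [← hxa, ← hyc]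
    calc τ a * τ b * (τ b * τ c) = τ a * (τ b * τ b) * τ c := by group
      _ = τ a * τ c := by rw [hτ2, mul_one]
  rw [this]
  exact hprod a c

end Cfsg.Agent.Helper1
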