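import Mathlib

/-!
# Groups of order `p * q` and a nilpotency criterion (sub-lemmas for S4306)

* `exists_frob_gens`: the structure of a non-abelian group of order `p * q`.
* `isNilpotent_of_sylow_normal`: all Sylow subgroups normal implies nilpotent.
* `isNilpotent_of_sup`: nilpotency of `N ⊔ T` for `N` normal nilpotent and `T` a Sylow
  `t`-subgroup centralizing the `t'`-part of `N`.
-/

namespace Cfsg.Agent.Helper1.FrobPQ

open Subgroup

/-- Ordered version: `q < p`. -/
theorem exists_frob_gens_aux {A : Type*} [Group A] [Finite A] (p q : ℕ) (hp : p.Prime)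
    (hq : q.Prime) (hqp : q < p) (hA : Nat.card A = p * q) (hAna : ¬ IsMulCommutative A) :
    ∃ (m : ℕ) (f h : A), q ∣ p - 1 ∧
      f ^ p = 1 ∧ h ^ q = 1 ∧ h * f * h⁻¹ = f ^ m ∧
      (∀ j : ℕ, ¬ q ∣ j → ¬ (m ^ j ≡ 1 [MOD p])) ∧ Subgroup.closure {f, h} = ⊤ := by
  haveI : Fact p.Prime := ⟨hp⟩
  haveI : Fact q.Prime := ⟨hq⟩
  obtain ⟨f, hf⟩ := exists_prime_orderOf_dvd_card' (G := A) p (by rw [hA]; exact dvd_mul_right _ _)
  obtain ⟨h, hh⟩ := exists_prime_orderOf_dvd_card' (G := A) q (by rw [hA]; exact dvd_mul_left _ _)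
  have hfp : f ^ p = 1 := by rw [← hf]; exact pow_orderOf_eq_one f
  have hhq : h ^ q = 1 := by rw [← hh]; exact pow_orderOf_eq_one h
  -- `zpowers f` is normal
  have hcardP : Nat.card (zpowers f) = p := by rw [Nat.card_zpowers, hf]
  have hidx : (zpowers f).index = q := by
    have := (zpowers f).index_mul_card
    rw [hcardP, hA, mul_comm] at this
    exact Nat.eq_of_mul_eq_mul_left hp.pos this
  have hminFac : (Nat.card A).minFac = q := by
    rw [hA]
    have h1 : (p * q).minFac ≤ q := Nat.minFac_le_of_dvd hq.two_le (dvd_mul_left _ _)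
    have h2 : (p * q).minFac.Prime := Nat.minFac_prime (by
      intro h1
      have := hp.one_lt
      have := hq.one_lt
      nlinarith)
    have h3 : (p * q).minFac ∣ p * q := Nat.minFac_dvd _
    rcases (Nat.Prime.dvd_mul h2).1 h3 with h4 | h4
    · have := (Nat.prime_dvd_prime_iff_eq h2 hp).1 h4
      omega
    · exact (Nat.prime_dvd_prime_iff_eq h2 hq).1 h4
  haveI hnorm : (zpowers f).Normal :=
    Subgroup.normal_of_index_eq_minFac_card (by rw [hidx, hminFac])
  -- conjugation acts as a power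
  have hconj : h * f * h⁻¹ ∈ zpowers f := hnorm.conj_mem f (mem_zpowers f) h
  rw [← (isOfFinOrder_of_finite f).mem_powers_iff_mem_zpowers] at hconj
  obtain ⟨m, hm⟩ := hconj
  have hm' : h * f * h⁻¹ = f ^ m := hm.symm
  -- iterate
  have hiter : ∀ j : ℕ, h ^ j * f * (h ^ j)⁻¹ = f ^ (m ^ j) := by
    intro j
    induction j with
    | zero => simp
    | succ j ih =>
      have : h ^ (j + 1) * f * (h ^ (j + 1))⁻¹ = h * (h ^ j * f * (h ^ j)⁻¹) * h⁻¹ := by
        rw [pow_succ']; group
      rw [this, ih]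
      have h2 : h * f ^ (m ^ j) * h⁻¹ = (h * f * h⁻¹) ^ (m ^ j) := by
        rw [conj_pow]
      rw [h2, hm', ← pow_mul, pow_succ']
  -- closure is everything
  have hclos : Subgroup.closure {f, h} = ⊤ := by
    apply Subgroup.eq_top_of_le_card
    have hfm : f ∈ Subgroup.closure {f, h} := Subgroup.subset_closure (by simp)
    have hhm : h ∈ Subgroup.closure {f, h} := Subgroup.subset_closure (by simp)
    have h1 : p ∣ Nat.card (Subgroup.closure {f, h}) := by
      rw [← hf]; exact Subgroup.orderOf_dvd_natCard _ hfm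
    have h2 : q ∣ Nat.card (Subgroup.closure {f, h}) := by
      rw [← hh]; exact Subgroup.orderOf_dvd_natCard _ hhm
    have hcop : Nat.Coprime p q := (Nat.coprime_primes hp hq).2 (by omega)
    have h3 : p * q ∣ Nat.card (Subgroup.closure {f, h}) := hcop.mul_dvd_of_dvd_of_dvd h1 h2
    rw [hA]
    exact Nat.le_of_dvd Nat.card_pos h3
  -- the key non-congruence
  have hkey : ∀ j : ℕ, ¬ q ∣ j → ¬ (m ^ j ≡ 1 [MOD p]) := by
    intro j hj hmod
    apply hAna
    -- `h ^ j` commutes with `f`
    have h1 : h ^ j * f * (h ^ j)⁻¹ = f := by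
      rw [hiter j]
      have : f ^ (m ^ j) = f ^ 1 := by
        rw [pow_eq_pow_iff_modEq, hf]; exact hmod
      rw [this, pow_one]
    have hcj : Commute (h ^ j) f := by
      have : h ^ j * f = f * h ^ j := by
        calc h ^ j * f = (h ^ j * f * (h ^ j)⁻¹) * h ^ j := by group
          _ = f * h ^ j := by rw [h1]
      exact this
    -- hence `h` commutes with `f`
    have hcop : Nat.Coprime j q := ((Nat.Prime.coprime_iff_not_dvd hq).2 hj).symm
    obtain ⟨i, -, hi⟩ := Nat.exists_mul_mod_eq_one_of_coprime hcop hq.one_lt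
    have hhji : (h ^ j) ^ i = h := by
      rw [← pow_mul, ← pow_mod_orderOf, hh, hi, pow_one]
    have hc : Commute h f := by
      rw [← hhji]; exact hcj.pow_left i
    -- so everything is central
    have hfc : Subgroup.closure {f, h} ≤ Subgroup.centralizer {f} := by
      rw [Subgroup.closure_le]
      intro x hx
      rcases hx with rfl | rfl
      · exact Subgroup.mem_centralizer_iff.2 (fun y hy => by
          rw [Set.mem_singleton_iff] at hy; rw [hy])
      · exact Subgroup.mem_centralizer_iff.2 (fun y hy => by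
          rw [Set.mem_singleton_iff] at hy; rw [hy]; exact hc.eq.symm)
    have hhc : Subgroup.closure {f, h} ≤ Subgroup.centralizer {h} := by
      rw [Subgroup.closure_le]
      intro x hx
      rcases hx with rfl | rfl
      · exact Subgroup.mem_centralizer_iff.2 (fun y hy => by
          rw [Set.mem_singleton_iff] at hy; rw [hy]; exact hc.eq)
      · exact Subgroup.mem_centralizer_iff.2 (fun y hy => by
          rw [Set.mem_singleton_iff] at hy; rw [hy])
    have hcen : Subgroup.closure {f, h} ≤ Subgroup.center A := by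
      rw [Subgroup.closure_le]
      intro x hx
      rw [SetLike.mem_coe, Subgroup.mem_center_iff]
      intro g
      rcases hx with rfl | rfl
      · have hg : g ∈ Subgroup.centralizer {x} := hfc (by rw [hclos]; trivial)
        exact (Subgroup.mem_centralizer_iff.1 hg x rfl).symm
      · have hg : g ∈ Subgroup.centralizer {x} := hhc (by rw [hclos]; trivial)
        exact (Subgroup.mem_centralizer_iff.1 hg x rfl).symm
    refine ⟨⟨fun a b => ?_⟩⟩
    have ha : a ∈ Subgroup.center A := hcen (by rw [hclos]; trivial)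
    exact ((Subgroup.mem_center_iff.1 ha) b).symm
  -- `q ∣ p - 1`
  have hdiv : q ∣ p - 1 := by
    by_contra hnd
    apply hkey (p - 1) hnd
    have hmcop : Nat.Coprime m p := by
      rw [Nat.coprime_comm, Nat.Prime.coprime_iff_not_dvd hp]
      intro hpm
      have h1 : f ^ m = 1 := by
        rw [← hf] at hpm
        exact orderOf_dvd_iff_pow_eq_one.1 hpm
      have h2 : f = 1 := by
        have : h * f * h⁻¹ = 1 := by rw [hm', h1]
        have h3 : f = h⁻¹ * (h * f * h⁻¹) * h := by group
        rw [h3, this]; group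
      rw [h2, orderOf_one] at hf
      exact hp.ne_one hf.symm
    have := Nat.ModEq.pow_totient hmcop
    rwa [Nat.totient_prime hp] at this
  exact ⟨m, f, h, hdiv, hfp, hhq, hm', hkey, hclos⟩

/-- Structure of a non-abelian group of order `p * q`. -/
theorem exists_frob_gens {A : Type*} [Group A] [Finite A] (p q : ℕ) (hp : p.Prime)
    (hq : q.Prime) (hpq : p ≠ q) (hA : Nat.card A = p * q) (hAna : ¬ IsMulCommutative A) :
    ∃ (p' q' m : ℕ) (f h : A), p'.Prime ∧ q'.Prime ∧ p' * q' = p * q ∧ q' ∣ p' - 1 ∧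
      f ^ p' = 1 ∧ h ^ q' = 1 ∧ h * f * h⁻¹ = f ^ m ∧
      (∀ j : ℕ, ¬ q' ∣ j → ¬ (m ^ j ≡ 1 [MOD p'])) ∧ Subgroup.closure {f, h} = ⊤ := by
  rcases lt_or_gt_of_ne hpq with hlt | hlt
  · obtain ⟨m, f, h, h1, h2, h3, h4, h5, h6⟩ :=
      exists_frob_gens_aux q p hq hp hlt (by rw [hA, mul_comm]) hAna
    exact ⟨q, p, m, f, h, hq, hp, mul_comm _ _, h1, h2, h3, h4, h5, h6⟩
  · obtain ⟨m, f, h, h1, h2, h3, h4, h5, h6⟩ :=
      exists_frob_gens_aux p q hp hq hlt hA hAna
    exact ⟨p, q, m, f, h, hp, hq, rfl, h1, h2, h3, h4, h5, h6⟩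

/-! ### Nilpotency criteria -/

/-- A finite group all of whose Sylow subgroups are normal is nilpotent. -/
theorem isNilpotent_of_sylow_normal {H : Type*} [Group H] [Finite H]
    (h : ∀ (t : ℕ) [Fact t.Prime] (P : Sylow t H), (P : Subgroup H).Normal) :
    Group.IsNilpotent H :=
  (Group.isNilpotent_of_finite_tfae.out 0 3 rfl rfl).2 (fun t ht P => @h t ht P)

/-- In a finite nilpotent group all Sylow subgroups are normal. -/
theorem sylow_normal_of_isNilpotent {H : Type*} [Group H] [Finite H] (hH : Group.IsNilpotent H)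
    (t : ℕ) [Fact t.Prime] (P : Sylow t H) : (P : Subgroup H).Normal :=
  (Group.isNilpotent_of_finite_tfae.out 0 3 rfl rfl).1 hH t inferInstance P

/-- A Sylow subgroup of a normal nilpotent subgroup is normal in the whole group. -/
theorem sylow_map_normal {G : Type*} [Group G] [Finite G] (N : Subgroup G) [N.Normal]
    (hN : Group.IsNilpotent ↥N) (s : ℕ) [Fact s.Prime] (Q : Sylow s ↥N) :
    ((Q : Subgroup ↥N).map N.subtype).Normal := by
  haveI hQn : (Q : Subgroup ↥N).Normal := sylow_normal_of_isNilpotent hN s Q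
  haveI : (Q : Subgroup ↥N).Characteristic := Sylow.characteristic_of_normal Q hQn
  exact ConjAct.normal_of_characteristic_of_normal

/-- A normal `t`-subgroup lies in every Sylow `t`-subgroup. -/
theorem normal_pgroup_le_sylow {G : Type*} [Group G] [Finite G] (t : ℕ) [Fact t.Prime]
    (Q : Subgroup G) [hQn : Q.Normal] (hQ : IsPGroup t Q) (T : Sylow t G) : Q ≤ T := by
  obtain ⟨P, hP⟩ := hQ.exists_le_sylow
  obtain ⟨g, hg⟩ := MulAction.exists_smul_eq G P T
  intro x hx
  have h1 : g⁻¹ * x * g ∈ Q := by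
    have := hQn.conj_mem x hx g⁻¹
    simpa using this
  have h2 : g⁻¹ * x * g ∈ (P : Subgroup G) := hP h1
  have h3 : x ∈ ((g • P : Sylow t G) : Subgroup G) := by
    rw [Sylow.coe_subgroup_smul, Subgroup.mem_pointwise_smul_iff_inv_smul_mem]
    simpa [MulAut.smul_def, MulAut.conj_apply] using h2
  rw [hg] at h3
  exact h3

/-- Type-level version: `N` normal nilpotent, `T` a Sylow `t`-subgroup with `N ⊔ T = ⊤`, and
every `s`-element of `N` (`s ≠ t`) commutes with `T`. Then the group is nilpotent. -/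
theorem isNilpotent_of_sup_top {G : Type*} [Group G] [Finite G] (t : ℕ) [Fact t.Prime]
    (N : Subgroup G) [N.Normal] (hN : Group.IsNilpotent ↥N) (T : Sylow t G)
    (hsup : N ⊔ (T : Subgroup G) = ⊤)
    (hcent : ∀ s : ℕ, s.Prime → s ≠ t → ∀ x ∈ N, ∀ k : ℕ, x ^ (s ^ k) = 1 →
      ∀ y ∈ (T : Subgroup G), x * y = y * x) :
    Group.IsNilpotent G := by
  apply isNilpotent_of_sylow_normal
  intro s _ P
  by_cases hst : s = t
  · subst hst
    -- suffices `T` normal
    suffices hTn : (T : Subgroup G).Normal by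
      obtain ⟨g, hg⟩ := MulAction.exists_smul_eq G T P
      rw [← hg, Sylow.smul_eq_of_normal]
      exact hTn
    rw [← Subgroup.normalizer_eq_top_iff]
    -- `N ≤ normalizer T`
    have hNle : N ≤ Subgroup.normalizer ((T : Subgroup G) : Set G) := by
      -- every Sylow subgroup of `N` lies in the normalizer
      have hsyl : ∀ (r : ℕ) [Fact r.Prime] (Q : Sylow r ↥N),
          (Q : Subgroup ↥N).map N.subtype ≤ Subgroup.normalizer ((T : Subgroup G) : Set G) := by
        intro r _ Q
        by_cases hrt : r = s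
        · subst hrt
          haveI := sylow_map_normal N hN r Q
          have hQp : IsPGroup r ((Q : Subgroup ↥N).map N.subtype) := Q.2.map _
          exact (normal_pgroup_le_sylow r _ hQp T).trans Subgroup.le_normalizer
        · rintro _ ⟨x, hx, rfl⟩
          obtain ⟨k, hk⟩ := Q.2 ⟨x, hx⟩
          have hk' : ((x : ↥N) : G) ^ (r ^ k) = 1 := by
            have := congrArg Subtype.val hk
            have h2 := congrArg Subtype.val this
            simpa using h2
          have hc := hcent r (Fact.out) hrt x x.2 k hk'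
          have hxc : (N.subtype x) ∈ Subgroup.centralizer ((T : Subgroup G) : Set G) := by
            rw [Subgroup.mem_centralizer_iff]
            intro y hy
            exact (hc y hy).symm
          exact Subgroup.centralizer_le_normalizer _ hxc
      -- count
      set M : Subgroup ↥N := (Subgroup.normalizer ((T : Subgroup G) : Set G)).subgroupOf N with hM
      have hMtop : M = ⊤ := by
        apply Subgroup.eq_top_of_le_card
        apply Nat.le_of_dvd Nat.card_pos
        rw [← Nat.factorization_prime_le_iff_dvd Nat.card_pos.ne' Nat.card_pos.ne']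
        intro r hr
        haveI : Fact r.Prime := ⟨hr⟩
        obtain ⟨Q⟩ : Nonempty (Sylow r ↥N) := inferInstance
        have hQM : (Q : Subgroup ↥N) ≤ M := by
          intro x hx
          rw [hM, Subgroup.mem_subgroupOf]
          exact hsyl r Q ⟨x, hx, rfl⟩
        have h1 : Nat.card (Q : Subgroup ↥N) ∣ Nat.card M := Subgroup.card_dvd_of_le hQM
        rw [Sylow.card_eq_multiplicity] at h1
        exact (hr.pow_dvd_iff_le_factorization Nat.card_pos.ne').1 h1
      intro x hx
      have : (⟨x, hx⟩ : ↥N) ∈ M := by rw [hMtop]; trivial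
      rw [hM, Subgroup.mem_subgroupOf] at this
      exact this
    rw [eq_top_iff, ← hsup]
    exact sup_le hNle Subgroup.le_normalizer
  · -- `s ≠ t`: the Sylow `s`-subgroup of `N` is a normal Sylow `s`-subgroup of `G`
    obtain ⟨Q⟩ : Nonempty (Sylow s ↥N) := inferInstance
    haveI hQn := sylow_map_normal N hN s Q
    have hQp : IsPGroup s ((Q : Subgroup ↥N).map N.subtype) := Q.2.map _
    have hNidx : N.index ∣ Nat.card (T : Subgroup G) := by
      have h1 : N.relIndex (N ⊔ (T : Subgroup G)) = N.relIndex (T : Subgroup G) :=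
        Subgroup.relIndex_sup_left _ _
      rw [hsup, Subgroup.relIndex_top_right] at h1
      rw [h1]
      exact Subgroup.relIndex_dvd_card _ _
    have hidx : ¬ s ∣ ((Q : Subgroup ↥N).map N.subtype).index := by
      rw [Subgroup.index_map_subtype]
      intro hdvd
      rcases (Nat.Prime.dvd_mul Fact.out).1 hdvd with h | h
      · exact Q.not_dvd_index h
      · have h2 : s ∣ Nat.card (T : Subgroup G) := h.trans hNidx
        obtain ⟨k, hk⟩ := (IsPGroup.iff_card.1 T.2)
        rw [hk] at h2
        have := (Nat.prime_dvd_prime_iff_eq Fact.out Fact.out).1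
          ((Fact.out : s.Prime).dvd_of_dvd_pow h2)
        exact hst this
    set Q' : Sylow s G := hQp.toSylow hidx with hQ'
    haveI : (Q' : Subgroup G).Normal := by
      rw [hQ', IsPGroup.toSylow_coe]; exact hQn
    obtain ⟨g, hg⟩ := MulAction.exists_smul_eq G Q' P
    rw [← hg, Sylow.smul_eq_of_normal]
    infer_instance

/-- In a nilpotent subgroup `N`, if one Sylow `s`-subgroup of `N` is centralized elementwise by
`T`, then every `s`-element of `N` commutes with `T`. -/
theorem commute_of_sylow_centralized {Γ : Type*} [Group Γ] [Finite Γ] (N T : Subgroup Γ)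
    (hN : Group.IsNilpotent ↥N) (s : ℕ) [Fact s.Prime] (Q : Sylow s ↥N)
    (hQ : ∀ x ∈ (Q : Subgroup ↥N), ∀ y ∈ T, ((x : ↥N) : Γ) * y = y * x) :
    ∀ x ∈ N, ∀ k : ℕ, x ^ (s ^ k) = 1 → ∀ y ∈ T, x * y = y * x := by
  intro x hx k hk y hy
  set x' : ↥N := ⟨x, hx⟩ with hx'
  have hord : orderOf x' ∣ s ^ k := by
    rw [orderOf_dvd_iff_pow_eq_one]
    apply Subtype.ext
    simpa using hk
  obtain ⟨j, -, hj⟩ := (Nat.dvd_prime_pow Fact.out).1 hord
  have hp : IsPGroup s (zpowers x') := IsPGroup.of_card (n := j) (by rw [Nat.card_zpowers, hj])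
  obtain ⟨Q', hQ'⟩ := hp.exists_le_sylow
  haveI hQn : (Q : Subgroup ↥N).Normal := sylow_normal_of_isNilpotent hN s Q
  haveI := Sylow.unique_of_normal Q hQn
  have : Q' = Q := Subsingleton.elim _ _
  rw [this] at hQ'
  exact hQ x' (hQ' (mem_zpowers x')) y hy

/-- Subgroup version. `H = N ⊔ T ≤ Γ`, `N` nilpotent and normalized by `H`, `T` a maximal
`t`-subgroup of `H`, and every `s`-element of `N` (`s ≠ t` prime) commutes with `T`.
Then `H` is nilpotent. -/
theorem isNilpotent_of_sup {Γ : Type*} [Group Γ] [Finite Γ] (t : ℕ) [Fact t.Prime]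
    (H N T : Subgroup Γ) (hNH : N ≤ H) (hTH : T ≤ H)
    (hnorm : H ≤ Subgroup.normalizer (N : Set Γ))
    (hN : Group.IsNilpotent ↥N) (hT : IsPGroup t ↥T)
    (hTmax : ∀ T' : Subgroup Γ, IsPGroup t ↥T' → T ≤ T' → T' ≤ H → T' = T)
    (hsup : N ⊔ T = H)
    (hcent : ∀ s : ℕ, s.Prime → s ≠ t → ∀ x ∈ N, ∀ k : ℕ, x ^ (s ^ k) = 1 →
      ∀ y ∈ T, x * y = y * x) :
    Group.IsNilpotent ↥H := by
  haveI hNn : (N.subgroupOf H).Normal := (Subgroup.normal_subgroupOf_iff_le_normalizer hNH).2 hnorm
  have hN' : Group.IsNilpotent ↥(N.subgroupOf H) :=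
    (Group.isNilpotent_congr (Subgroup.subgroupOfEquivOfLe hNH)).2 hN
  have hT' : IsPGroup t ↥(T.subgroupOf H) := hT.comap_subtype
  let T' : Sylow t ↥H :=
    { toSubgroup := T.subgroupOf H
      isPGroup' := hT'
      is_maximal' := by
        intro Q hQ hle
        have h1 : Q.map H.subtype = T := by
          apply hTmax _ (hQ.map _)
          · intro x hx
            exact ⟨⟨x, hTH hx⟩, hle (by rw [Subgroup.mem_subgroupOf]; exact hx), rfl⟩
          · rintro _ ⟨y, -, rfl⟩
            exact y.2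
        apply le_antisymm _ hle
        intro y hy
        rw [Subgroup.mem_subgroupOf, ← h1]
        exact ⟨y, hy, rfl⟩ }
  have hsup' : N.subgroupOf H ⊔ (T' : Subgroup ↥H) = ⊤ := by
    change N.subgroupOf H ⊔ T.subgroupOf H = ⊤
    rw [← Subgroup.subgroupOf_sup hNH hTH, hsup, Subgroup.subgroupOf_self]
  apply isNilpotent_of_sup_top t (N.subgroupOf H) hN' T' hsup'
  intro s hs hst x hx k hk y hy
  apply Subtype.ext
  have hy' : (y : Γ) ∈ T := hy
  have hx2 : (x : Γ) ∈ N := hx
  have hk' : (x : Γ) ^ (s ^ k) = 1 := by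
    have := congrArg Subtype.val hk
    simpa using this
  simpa using hcent s hs hst x hx2 k hk' y hy'

/-- Subgroup version with the hypothesis stated via Sylow subgroups of `N`: for every prime
`s ≠ t` some (hence the) Sylow `s`-subgroup of `N` is centralized by `T`. -/
theorem isNilpotent_of_sup_sylow {Γ : Type*} [Group Γ] [Finite Γ] (t : ℕ) [Fact t.Prime]
    (H N T : Subgroup Γ) (hNH : N ≤ H) (hTH : T ≤ H)
    (hnorm : H ≤ Subgroup.normalizer (N : Set Γ))
    (hN : Group.IsNilpotent ↥N) (hT : IsPGroup t ↥T)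
    (hTmax : ∀ T' : Subgroup Γ, IsPGroup t ↥T' → T ≤ T' → T' ≤ H → T' = T)
    (hsup : N ⊔ T = H)
    (hcent : ∀ (s : ℕ) [Fact s.Prime], s ≠ t → ∃ Q : Sylow s ↥N,
      ∀ x ∈ (Q : Subgroup ↥N), ∀ y ∈ T, ((x : ↥N) : Γ) * y = y * x) :
    Group.IsNilpotent ↥H := by
  apply isNilpotent_of_sup t H N T hNH hTH hnorm hN hT hTmax hsup
  intro s hs hst
  haveI : Fact s.Prime := ⟨hs⟩
  obtain ⟨Q, hQ⟩ := hcent s hst
  exact commute_of_sylow_centralized N T hN s Q hQ

end Cfsg.Agent.Helper1.FrobPQ
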