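import Mathlib
import Cfsg.Agent.Helper1.FrobPQ
import Cfsg.Agent.Helper1.SylowInt

/-!
# Lemma P for S4306: a non-nilpotent minimal configuration contains a non-commuting
`(Q, T)` pair of invariant subgroups of coprime prime-power orders.
-/

set_option autoImplicit false

namespace Cfsg.Agent.Helper1.FrobPQ

open scoped Pointwise commutatorElement

variable {Γ : Type*} [Group Γ]

/-- In a nilpotent group every `s`-element lies in the (unique) Sylow `s`-subgroup. -/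
theorem mem_sylow_of_pow_eq_one {N : Type*} [Group N] [Finite N] (hN : Group.IsNilpotent N)
    (s : ℕ) [Fact s.Prime] (Q : Sylow s N) (x : N) (k : ℕ) (hx : x ^ (s ^ k) = 1) :
    x ∈ (Q : Subgroup N) := by
  have hord : orderOf x ∣ s ^ k := orderOf_dvd_iff_pow_eq_one.2 hx
  obtain ⟨j, -, hj⟩ := (Nat.dvd_prime_pow Fact.out).1 hord
  have hp : IsPGroup s (Subgroup.zpowers x) :=
    IsPGroup.of_card (n := j) (by rw [Nat.card_zpowers, hj])
  obtain ⟨Q', hQ'⟩ := hp.exists_le_sylow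
  haveI hQn : (Q : Subgroup N).Normal := sylow_normal_of_isNilpotent hN s Q
  haveI := Sylow.unique_of_normal Q hQn
  have : Q' = Q := Subsingleton.elim _ _
  rw [this] at hQ'
  exact hQ' (Subgroup.mem_zpowers x)

/-- The Sylow subgroups of a nilpotent subgroup `N` are normalized by everything normalizing `N`. -/
theorem le_normalizer_sylow_map [Finite Γ] (N X : Subgroup Γ) (hN : Group.IsNilpotent ↥N)
    (s : ℕ) [Fact s.Prime] (Q : Sylow s ↥N) (hX : X ≤ Subgroup.normalizer (N : Set Γ)) :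
    X ≤ Subgroup.normalizer (((Q : Subgroup ↥N).map N.subtype : Subgroup Γ) : Set Γ) := by
  rw [Subgroup.le_normalizer_iff]
  rintro g hg _ ⟨x, hx, rfl⟩
  have hgN : g * (x : Γ) * g⁻¹ ∈ N := (Subgroup.le_normalizer_iff.1 hX) g hg x x.2
  obtain ⟨k, hk⟩ := Q.2 ⟨x, hx⟩
  have hk' : (x : Γ) ^ (s ^ k) = 1 := by
    have h2 := congrArg Subtype.val (congrArg Subtype.val hk)
    simpa using h2
  have h1 : (⟨g * (x : Γ) * g⁻¹, hgN⟩ : ↥N) ^ (s ^ k) = 1 := by
    apply Subtype.ext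
    simp only [Subgroup.coe_pow, Subgroup.coe_one]
    rw [conj_pow, hk']; group
  exact ⟨⟨g * (x : Γ) * g⁻¹, hgN⟩, mem_sylow_of_pow_eq_one hN s Q _ k h1, rfl⟩

theorem le_normalizer_commutator_self (X H : Subgroup Γ)
    (hX : X ≤ Subgroup.normalizer (H : Set Γ)) :
    X ≤ Subgroup.normalizer ((⁅H, H⁆ : Subgroup Γ) : Set Γ) := by
  intro g hg
  apply mem_normalizer_of_conj_smul_eq
  have h1 : MulAut.conj g • H = H := conj_smul_eq_of_mem_normalizer (hX hg)
  have e : ∀ K : Subgroup Γ, MulAut.conj g • K = K.map (MulAut.conj g).toMonoidHom := fun K => rfl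
  rw [e, Subgroup.map_commutator, ← e, h1]

theorem le_normalizer_sup_of_le (X K L : Subgroup Γ)
    (hK : X ≤ Subgroup.normalizer (K : Set Γ)) (hL : X ≤ Subgroup.normalizer (L : Set Γ)) :
    X ≤ Subgroup.normalizer ((K ⊔ L : Subgroup Γ) : Set Γ) := by
  intro g hg
  apply mem_normalizer_of_conj_smul_eq
  rw [Subgroup.smul_sup, conj_smul_eq_of_mem_normalizer (hK hg),
    conj_smul_eq_of_mem_normalizer (hL hg)]

theorem le_normalizer_of_commutator_le (H N : Subgroup Γ) (hN : ⁅H, H⁆ ≤ N) (hNH : N ≤ H) :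
    H ≤ Subgroup.normalizer (N : Set Γ) := by
  rw [Subgroup.le_normalizer_iff]
  intro g hg x hx
  have h1 : ⁅g, x⁆ ∈ ⁅H, H⁆ := Subgroup.commutator_mem_commutator hg (hNH hx)
  have h2 : g * x * g⁻¹ = ⁅g, x⁆ * x := by
    rw [commutatorElement_def]; group
  rw [h2]
  exact N.mul_mem (hN h1) hx

/-- **Lemma P.** -/
theorem exists_pair [Finite Γ] {r : ℕ} (hr : r.Prime) (𝔸 H : Subgroup Γ)
    (hAH : 𝔸 ≤ Subgroup.normalizer (H : Set Γ)) (hsolv : Group.IsSolvable H)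
    (hcop : (Nat.card 𝔸).Coprime (Nat.card H))
    (hA1 : ∀ N₀ : Subgroup Γ, N₀ ≤ H → N₀ ≠ H → (∀ g ∈ H, ∀ x ∈ N₀, g * x * g⁻¹ ∈ N₀) →
      𝔸 ≤ Subgroup.normalizer (N₀ : Set Γ) → Group.IsNilpotent ↥N₀)
    (hOp : ∀ P : Subgroup Γ, P ≤ H → (∀ g ∈ H, ∀ x ∈ P, g * x * g⁻¹ ∈ P) →
      𝔸 ≤ Subgroup.normalizer (P : Set Γ) → IsPGroup r P → P = ⊥)
    (hnil : ¬ Group.IsNilpotent ↥H) :
    ∃ (s t : ℕ) (Q T : Subgroup Γ), s.Prime ∧ t.Prime ∧ s ≠ t ∧ s ≠ r ∧ Q ≤ H ∧ T ≤ H ∧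
      IsPGroup s Q ∧ IsPGroup t T ∧ (∀ g ∈ H, ∀ x ∈ Q, g * x * g⁻¹ ∈ Q) ∧
      𝔸 ≤ Subgroup.normalizer (Q : Set Γ) ∧ 𝔸 ≤ Subgroup.normalizer (T : Set Γ) ∧
      ∃ x ∈ T, ∃ g ∈ Q, x * g ≠ g * x := by
  classical
  -- the derived subgroup is proper
  have hHne : Nontrivial ↥H := by
    by_contra hnt
    rw [not_nontrivial_iff_subsingleton] at hnt
    exact hnil inferInstance
  have hder : ⁅H, H⁆ ≠ H := by
    intro heq
    have h1 := Group.IsSolvable.commutator_lt_top_of_nontrivial ↥H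
    have h2 : (⁅(⊤ : Subgroup ↥H), (⊤ : Subgroup ↥H)⁆ : Subgroup ↥H).map H.subtype = ⁅H, H⁆ := by
      rw [Subgroup.map_commutator, ← MonoidHom.range_eq_map, Subgroup.range_subtype]
    have h3 : (⁅(⊤ : Subgroup ↥H), (⊤ : Subgroup ↥H)⁆ : Subgroup ↥H).map H.subtype =
        (⊤ : Subgroup ↥H).map H.subtype := by
      rw [h2, heq, ← MonoidHom.range_eq_map, Subgroup.range_subtype]
    exact h1.ne (Subgroup.map_injective H.subtype_injective h3)
  -- a maximal proper invariant normal subgroup above the derived subgroup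
  set 𝒩 : Set (Subgroup Γ) := {N | N ≤ H ∧ N ≠ H ∧ ⁅H, H⁆ ≤ N ∧
    𝔸 ≤ Subgroup.normalizer (N : Set Γ)} with h𝒩
  have hder𝒩 : ⁅H, H⁆ ∈ 𝒩 :=
    ⟨Subgroup.commutator_le_self H, hder, le_rfl, le_normalizer_commutator_self 𝔸 H hAH⟩
  obtain ⟨N, -, ⟨⟨hNH, hNne, hderN, hAN⟩, hNmax⟩⟩ := (Set.toFinite 𝒩).exists_le_maximal hder𝒩
  have hHN : H ≤ Subgroup.normalizer (N : Set Γ) := le_normalizer_of_commutator_le H N hderN hNH
  have hNnil : Group.IsNilpotent ↥N :=
    hA1 N hNH hNne (Subgroup.le_normalizer_iff.1 hHN) hAN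
  -- a prime dividing the index
  have hidx : N.relIndex H ≠ 1 := by
    intro h
    exact hNne (le_antisymm hNH (Subgroup.relIndex_eq_one.1 h))
  set t := (N.relIndex H).minFac with ht
  have htp : t.Prime := Nat.minFac_prime hidx
  haveI : Fact t.Prime := ⟨htp⟩
  obtain ⟨T₀, hT₀A⟩ := exists_invariant_sylow (p := t) 𝔸 H hAH hcop (Or.inr hsolv)
  set T : Subgroup Γ := (T₀ : Subgroup ↥H).map H.subtype with hT
  have hTH : T ≤ H := Subgroup.map_subtype_le _
  have hTp : IsPGroup t ↥T := T₀.2.map _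
  have hTN : ¬ T ≤ N := by
    intro hle
    have h1 : Nat.card T = t ^ (Nat.card H).factorization t := by
      rw [hT, Subgroup.card_map_of_injective H.subtype_injective, Sylow.card_eq_multiplicity]
    have h2 : t ^ (Nat.card H).factorization t ∣ Nat.card N := by
      rw [← h1]; exact Subgroup.card_dvd_of_le hle
    have h3 : Nat.card N * N.relIndex H = Nat.card H := by
      have := Subgroup.relIndex_mul_relIndex ⊥ N H bot_le hNH
      rwa [Subgroup.relIndex_bot_left, Subgroup.relIndex_bot_left] at this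
    have h4 : t ∣ N.relIndex H := Nat.minFac_dvd _
    have h5 : t ^ ((Nat.card H).factorization t + 1) ∣ Nat.card H := by
      rw [pow_succ]
      calc t ^ (Nat.card H).factorization t * t ∣ Nat.card N * N.relIndex H :=
            Nat.mul_dvd_mul h2 h4
        _ = Nat.card H := h3
    exact Nat.pow_succ_factorization_not_dvd Nat.card_pos.ne' htp h5
  -- `N ⊔ T = H`
  have hsup : N ⊔ T = H := by
    by_contra hne
    have hmem : N ⊔ T ∈ 𝒩 :=
      ⟨sup_le hNH hTH, hne, hderN.trans le_sup_left, le_normalizer_sup_of_le 𝔸 N T hAN hT₀A⟩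
    exact hTN (le_sup_right.trans (hNmax hmem le_sup_left))
  -- `T` is a maximal `t`-subgroup of `H`
  have hTmax : ∀ T' : Subgroup Γ, IsPGroup t ↥T' → T ≤ T' → T' ≤ H → T' = T := by
    intro T' hT'p hle hT'H
    have h1 : (T₀ : Subgroup ↥H) ≤ T'.subgroupOf H := by
      intro x hx
      rw [Subgroup.mem_subgroupOf]
      exact hle ⟨x, hx, rfl⟩
    have h2 : T'.subgroupOf H = T₀ := T₀.3 hT'p.comap_subtype h1
    apply le_antisymm _ hle
    intro y hy
    have : (⟨y, hT'H hy⟩ : ↥H) ∈ T'.subgroupOf H := by rw [Subgroup.mem_subgroupOf]; exact hy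
    rw [h2] at this
    exact ⟨⟨y, hT'H hy⟩, this, rfl⟩
  -- the non-centralized Sylow subgroup of `N`
  have hex : ∃ (s : ℕ) (_ : Fact s.Prime), s ≠ t ∧ ∀ Q : Sylow s ↥N,
      ¬ (∀ x ∈ (Q : Subgroup ↥N), ∀ y ∈ T, ((x : ↥N) : Γ) * y = y * x) := by
    by_contra hno
    apply hnil
    apply isNilpotent_of_sup_sylow t H N T hNH hTH hHN hNnil hTp hTmax hsup
    intro s hs hst
    by_contra hno2
    apply hno
    refine ⟨s, hs, hst, ?_⟩
    intro Q hQ
    exact hno2 ⟨Q, hQ⟩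
  obtain ⟨s, hs, hst, hQs⟩ := hex
  obtain ⟨Q₀⟩ : Nonempty (Sylow s ↥N) := inferInstance
  have hQ₀ := hQs Q₀
  push Not at hQ₀
  obtain ⟨x, hxQ, y, hyT, hxy⟩ := hQ₀
  set Q : Subgroup Γ := (Q₀ : Subgroup ↥N).map N.subtype with hQ
  have hQH : Q ≤ H := (Subgroup.map_subtype_le _).trans hNH
  have hQp : IsPGroup s ↥Q := Q₀.2.map _
  have hHQ : H ≤ Subgroup.normalizer (Q : Set Γ) := le_normalizer_sylow_map N H hNnil s Q₀ hHN
  have hAQ : 𝔸 ≤ Subgroup.normalizer (Q : Set Γ) := le_normalizer_sylow_map N 𝔸 hNnil s Q₀ hAN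
  have hxQ' : ((x : ↥N) : Γ) ∈ Q := ⟨x, hxQ, rfl⟩
  have hsr : s ≠ r := by
    rintro rfl
    have := hOp Q hQH (Subgroup.le_normalizer_iff.1 hHQ) hAQ hQp
    rw [this, Subgroup.mem_bot] at hxQ'
    apply hxy
    rw [hxQ', one_mul, mul_one]
  exact ⟨s, t, Q, T, hs.out, htp, hst, hsr, hQH, hTH, hQp, hTp, Subgroup.le_normalizer_iff.1 hHQ,
    hAQ, hT₀A, y, hyT, (x : Γ), hxQ', fun h => hxy h.symm⟩

end Cfsg.Agent.Helper1.FrobPQ
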