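import Mathlib
import Cfsg.Agent.Helper1.FrobPQb

/-!
# Lemma P for S4306 (alias file; the proof lives in `Helper1/FrobPQb.lean`)
-/

set_option autoImplicit false

namespace Cfsg.Agent.Helper1.FrobPair

/-- **Lemma P.** A non-nilpotent minimal configuration contains a non-commuting pair `(Q, T)`
of invariant subgroups of coprime prime-power orders. -/
theorem exists_pair {Γ : Type*} [Group Γ] [Finite Γ] {r : ℕ} (hr : r.Prime) (𝔸 H : Subgroup Γ)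
    (hAH : 𝔸 ≤ Subgroup.normalizer (H : Set Γ)) (hsolv : Group.IsSolvable H)
    (hcop : (Nat.card 𝔸).Coprime (Nat.card H))
    (hA1 : ∀ N₀ : Subgroup Γ, N₀ ≤ H → N₀ ≠ H → (∀ g ∈ H, ∀ x ∈ N₀, g * x * g⁻¹ ∈ N₀) →
      𝔸 ≤ Subgroup.normalizer (N₀ : Set Γ) → Group.IsNilpotent ↥N₀)
    (hOp : ∀ P : Subgroup Γ, P ≤ H → (∀ g ∈ H, ∀ x ∈ P, g * x * g⁻¹ ∈ P) →
      𝔸 ≤ Subgroup.normalizer (P : Set Γ) → IsPGroup r P → P = ⊥)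
    (hnil : ¬ Group.IsNilpotent ↥H) :
    ∃ (s t : ℕ) (Q T : Subgroup Γ), s.Prime ∧ t.Prime ∧ s ≠ t ∧ s ≠ r ∧ Q ≤ H ∧ T ≤ H ∧
      IsPGroup s Q ∧ IsPGroup t T ∧ (∀ g ∈ H, ∀ x ∈ Q, g * x * g⁻¹ ∈ Q) ∧
      𝔸 ≤ Subgroup.normalizer (Q : Set Γ) ∧ 𝔸 ≤ Subgroup.normalizer (T : Set Γ) ∧
      ∃ x ∈ T, ∃ g ∈ Q, x * g ≠ g * x :=
  Cfsg.Agent.Helper1.FrobPQ.exists_pair hr 𝔸 H hAH hsolv hcop hA1 hOp hnil

end Cfsg.Agent.Helper1.FrobPair
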