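import Mathlib
import Cfsg.Agent.Helper3.GlaubDefs

/-!
# Theorem G (perfect form of Glauberman's corollary of Z*), piece G-odd

The case `O(K) ≠ 1`: pass to `N_G(K) / O(K)` and apply the induction hypothesis.
-/

set_option autoImplicit false

namespace Cfsg.Agent.Helper1.Glaub

open Cfsg.Agent.Helper2 Cfsg.Agent.Helper3.Glaub

universe u

section quot

variable {G : Type u} [Group G]

/-- the image of a subgroup `X` of `G` in `N / V`. -/
def img (N V : Subgroup G) [(V.subgroupOf N).Normal] (X : Subgroup G) :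
    Subgroup (↥N ⧸ V.subgroupOf N) :=
  (X.subgroupOf N).map (QuotientGroup.mk' (V.subgroupOf N))

theorem mem_img {N V : Subgroup G} [(V.subgroupOf N).Normal] {X : Subgroup G}
    {y : ↥N ⧸ V.subgroupOf N} :
    y ∈ img N V X ↔ ∃ x : ↥N, (x : G) ∈ X ∧ QuotientGroup.mk' (V.subgroupOf N) x = y := by
  unfold img
  rw [Subgroup.mem_map]
  constructor
  · rintro ⟨x, hx, rfl⟩
    exact ⟨x, Subgroup.mem_subgroupOf.mp hx, rfl⟩
  · rintro ⟨x, hx, rfl⟩
    exact ⟨x, Subgroup.mem_subgroupOf.mpr hx, rfl⟩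

theorem mk_mem_img {N V : Subgroup G} [(V.subgroupOf N).Normal] {X : Subgroup G}
    {x : G} (hxN : x ∈ N) (hx : x ∈ X) :
    QuotientGroup.mk' (V.subgroupOf N) ⟨x, hxN⟩ ∈ img N V X :=
  mem_img.mpr ⟨⟨x, hxN⟩, hx, rfl⟩

theorem img_mono {N V : Subgroup G} [(V.subgroupOf N).Normal] {X Y : Subgroup G} (h : X ≤ Y) :
    img N V X ≤ img N V Y := by
  intro y hy
  obtain ⟨x, hx, rfl⟩ := mem_img.mp hy
  exact mem_img.mpr ⟨x, h hx, rfl⟩

theorem coreOf_normal_in_normalizer (p : ℕ) (K : Subgroup G) :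
    ((coreOf p K).subgroupOf (Subgroup.normalizer (K : Set G))).Normal := by
  constructor
  intro v hv g
  rw [Subgroup.mem_subgroupOf] at hv ⊢
  have hg : cj (g : G) K = K := (mem_normalizer_iff_cj K g).mp g.2
  have h1 : coreOf p (cj (g : G) K) = cj (g : G) (coreOf p K) := coreOf_cj p K g
  rw [hg] at h1
  have h2 := conj_mem_cj (coreOf p K) (g : G) (v : G) hv
  rw [← h1] at h2
  simpa using h2

/-- images of commuting elements commute. -/
theorem img_le_centralizer {N V : Subgroup G} [(V.subgroupOf N).Normal] {L S : Subgroup G}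
    (h : L ≤ Subgroup.centralizer (S : Set G)) :
    img N V L ≤ Subgroup.centralizer ((img N V S : Subgroup _) : Set (↥N ⧸ V.subgroupOf N)) := by
  intro y hy
  obtain ⟨l, hl, rfl⟩ := mem_img.mp hy
  rw [Subgroup.mem_centralizer_iff]
  intro z hz
  obtain ⟨s, hs, rfl⟩ := mem_img.mp hz
  rw [← map_mul, ← map_mul]
  congr 1
  apply Subtype.ext
  exact (Subgroup.mem_centralizer_iff.mp (h hl)) (s : G) hs

theorem img_perfect {N V : Subgroup G} [(V.subgroupOf N).Normal] {L : Subgroup G} (hLN : L ≤ N)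
    (h : ⁅L, L⁆ = L) : ⁅img N V L, img N V L⁆ = img N V L := by
  unfold img
  rw [← Subgroup.map_commutator]
  congr 1
  apply Subgroup.map_injective N.subtype_injective
  rw [Subgroup.map_commutator, Subgroup.map_subgroupOf_eq_of_le hLN, h]

theorem img_isPGroup {p : ℕ} {N V : Subgroup G} [(V.subgroupOf N).Normal] {S : Subgroup G}
    (h : IsPGroup p ↥S) : IsPGroup p ↥(img N V S) := by
  unfold img
  exact (h.comap_subtype (K := N)).map _

/-- the restriction `X → img X` of the quotient map. -/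
def imgHom (N V : Subgroup G) [(V.subgroupOf N).Normal] {X : Subgroup G} (hXN : X ≤ N) :
    ↥X →* ↥(img N V X) :=
  ((QuotientGroup.mk' (V.subgroupOf N)).comp (Subgroup.inclusion hXN)).codRestrict _
    (fun x => mk_mem_img (hXN x.2) x.2)

theorem imgHom_coe {N V : Subgroup G} [(V.subgroupOf N).Normal] {X : Subgroup G} (hXN : X ≤ N)
    (x : ↥X) : ((imgHom N V hXN x : ↥(img N V X)) : ↥N ⧸ V.subgroupOf N) =
      QuotientGroup.mk' (V.subgroupOf N) ⟨(x : G), hXN x.2⟩ := rfl

theorem imgHom_surjective {N V : Subgroup G} [(V.subgroupOf N).Normal] {X : Subgroup G}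
    (hXN : X ≤ N) : Function.Surjective (imgHom N V hXN) := by
  rintro ⟨y, hy⟩
  obtain ⟨x, hx, rfl⟩ := mem_img.mp hy
  exact ⟨⟨(x : G), hx⟩, Subtype.ext rfl⟩

theorem imgHom_ker {N V : Subgroup G} [(V.subgroupOf N).Normal] {X : Subgroup G}
    (hXN : X ≤ N) : (imgHom N V hXN).ker = V.subgroupOf X := by
  ext x
  rw [MonoidHom.mem_ker, Subgroup.mem_subgroupOf, ← Subtype.coe_inj, imgHom_coe, Subgroup.coe_one,
    QuotientGroup.mk'_apply, QuotientGroup.eq_one_iff, Subgroup.mem_subgroupOf]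

theorem card_img_mul {N V : Subgroup G} [(V.subgroupOf N).Normal] {X : Subgroup G} [Finite G]
    (hXN : X ≤ N) (hVX : V ≤ X) : Nat.card ↥(img N V X) * Nat.card ↥V = Nat.card ↥X := by
  have e := QuotientGroup.quotientKerEquivOfSurjective (imgHom N V hXN) (imgHom_surjective hXN)
  rw [← Nat.card_congr e.toEquiv, imgHom_ker hXN,
    ← Nat.card_congr (Subgroup.subgroupOfEquivOfLe hVX).toEquiv]
  exact (Subgroup.card_eq_card_quotient_mul_card_subgroup (V.subgroupOf X)).symm

theorem relIndex_img_dvd {N V : Subgroup G} [(V.subgroupOf N).Normal] {S K : Subgroup G}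
    (hKN : K ≤ N) : (img N V S).relIndex (img N V K) ∣ S.relIndex K := by
  have h1 : (S.subgroupOf K).map (imgHom N V hKN) ≤ (img N V S).subgroupOf (img N V K) := by
    rintro _ ⟨x, hx, rfl⟩
    rw [Subgroup.mem_subgroupOf, imgHom_coe]
    exact mk_mem_img _ (Subgroup.mem_subgroupOf.mp hx)
  exact (Subgroup.index_dvd_of_le h1).trans
    (Subgroup.index_map_dvd _ (imgHom_surjective hKN))

theorem coreOf_img_eq_bot [Finite G] (p : ℕ) {N K : Subgroup G}
    [((coreOf p K).subgroupOf N).Normal] (hKN : K ≤ N) :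
    coreOf p (img N (coreOf p K) K) = ⊥ := by
  have hker : (imgHom N (coreOf p K) hKN).ker = Cfsg.pPrimeCore p ↥K := by
    rw [imgHom_ker hKN]
    ext x
    rw [Subgroup.mem_subgroupOf]
    unfold coreOf
    constructor
    · rintro ⟨y, hy, hyx⟩
      have : y = x := Subtype.ext hyx
      rwa [← this]
    · intro hx
      exact ⟨x, hx, rfl⟩
  have e1 := QuotientGroup.quotientKerEquivOfSurjective (imgHom N (coreOf p K) hKN)
    (imgHom_surjective hKN)
  have e2 := QuotientGroup.quotientMulEquivOfEq hker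
  have e : (↥K ⧸ Cfsg.pPrimeCore p ↥K) ≃* ↥(img N (coreOf p K) K) := e2.symm.trans e1
  have h1 := pPrimeCore_map_equiv p e
  rw [Cfsg.Agent.Helper1.pPrimeCore_quotient_pPrimeCore, Subgroup.map_bot] at h1
  show (Cfsg.pPrimeCore p ↥(img N (coreOf p K) K)).map (img N (coreOf p K) K).subtype = ⊥
  rw [← h1, Subgroup.map_bot]

end quot

/-- PIECE G-odd: case `O(K) ≠ 1` (pass to `N_G(K) / O(K)`). -/
theorem odd_case (n : ℕ) (ih : Stmt.{u} n) {G : Type u} [Group G] [Finite G] (K L S : Subgroup G)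
    (hcard : Nat.card K ≤ n + 1) (h : Hyp K L S) (hV : coreOf 2 K ≠ ⊥) : Concl K L := by
  obtain ⟨N, hN⟩ : ∃ N : Subgroup G, N = Subgroup.normalizer (K : Set G) := ⟨_, rfl⟩
  obtain ⟨V, hVdef⟩ : ∃ V : Subgroup G, V = coreOf 2 K := ⟨_, rfl⟩
  have hKN : K ≤ N := by rw [hN]; exact Subgroup.le_normalizer
  have hLN : L ≤ N := by rw [hN]; exact h.norm
  have hVK : V ≤ K := by rw [hVdef]; exact coreOf_le 2 K
  have hVn : (V.subgroupOf N).Normal := by
    rw [hVdef, hN]; exact coreOf_normal_in_normalizer 2 K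
  have hKn : (K.subgroupOf N).Normal := by
    rw [hN]; exact Subgroup.normal_in_normalizer
  -- the image of `K` is normal
  have hKbar : (img N V K).Normal := by
    unfold img
    exact Subgroup.Normal.map hKn _ (QuotientGroup.mk'_surjective _)
  have hyp : Hyp (img N V K) (img N V L) (img N V S) := by
    refine ⟨?_, img_perfect hLN h.perf, img_mono h.le, img_isPGroup h.pgroup, ?_,
      img_le_centralizer h.cent⟩
    · rw [Subgroup.normalizer_eq_top]
      exact le_top
    · intro h2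
      exact h.odd (h2.trans (relIndex_img_dvd hKN))
  have hVcard : 2 ≤ Nat.card ↥V := by
    have : Nat.card ↥V ≠ 1 := by
      intro h1
      apply hV
      rw [← hVdef]
      exact Subgroup.card_eq_one.mp h1
    have : Nat.card ↥V ≠ 0 := Nat.card_pos.ne'
    omega
  have hcard' : Nat.card ↥(img N V K) ≤ n := by
    have h1 := card_img_mul (V := V) hKN hVK
    have h2 : 1 ≤ Nat.card ↥(img N V K) := Nat.card_pos
    have h3 : Nat.card ↥(img N V K) * 2 ≤ Nat.card ↥(img N V K) * Nat.card ↥V :=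
      Nat.mul_le_mul_left _ hVcard
    omega
  have hc := ih (↥N ⧸ V.subgroupOf N) (img N V K) (img N V L) (img N V S) hcard' hyp
  have hbot : coreOf 2 (img N V K) = ⊥ := by
    subst hVdef
    exact coreOf_img_eq_bot 2 hKN
  intro τ hτ hτ2 k hk
  have h1 := hc (QuotientGroup.mk' (V.subgroupOf N) ⟨τ, hLN hτ⟩) (mk_mem_img (hLN hτ) hτ)
    (by
      obtain ⟨j, hj⟩ := hτ2
      refine ⟨j, ?_⟩
      rw [← map_pow]
      have : (⟨τ, hLN hτ⟩ : ↥N) ^ 2 ^ j = 1 := Subtype.ext (by simpa using hj)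
      rw [this, map_one])
    (QuotientGroup.mk' (V.subgroupOf N) ⟨k, hKN hk⟩) (mk_mem_img (hKN hk) hk)
  rw [hbot, Subgroup.mem_bot, ← map_inv, ← map_inv, ← map_mul, ← map_mul, ← map_mul,
    QuotientGroup.mk'_apply, QuotientGroup.eq_one_iff, Subgroup.mem_subgroupOf] at h1
  rw [← hVdef]
  exact h1

end Cfsg.Agent.Helper1.Glaub
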