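import Mathlib
import Cfsg.Agent.Helper2.PComp3
import Cfsg.Agent.Helper1.GlaubOdd

/-!
# S1301, B-side, piece (II.a): STEP

`O₁` of odd order, `R` a 2-group, `Y` perfect and generated by its 2-elements, both normalizing
`O₁`, with `[R, Y] ≤ O₁`.  Then some `Y₁ ≤ O₁ Y` of the same kind centralizes `R` and covers
`O₁ Y / O₁`.
-/

set_option autoImplicit false

namespace Cfsg.Agent.Helper1.GLP

open Cfsg.Agent.Helper2 Cfsg.Agent.Helper1.Glaub
open scoped commutatorElement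

universe u

section fixed

variable {Γ : Type u} [Group Γ]

/-- A `p`-group acting by conjugation on a coset `w O` of a `p'`-group has a fixed point. -/
theorem exists_fixed_in_coset_of_isPGroup [Finite Γ] {p : ℕ} [Fact p.Prime] (O R : Subgroup Γ)
    (hO : (Nat.card ↥O).Coprime p) (hR : IsPGroup p ↥R) (w : Γ)
    (hw : ∀ r ∈ R, ∀ o ∈ O, w⁻¹ * (r * (w * o) * r⁻¹) ∈ O) :
    ∃ c : Γ, w⁻¹ * c ∈ O ∧ ∀ r ∈ R, r * c * r⁻¹ = c := by
  classical
  let T : Type u := {x : Γ // w⁻¹ * x ∈ O}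
  have hmem : ∀ (r : ↥R) (x : T), w⁻¹ * ((r : Γ) * x.1 * (r : Γ)⁻¹) ∈ O := by
    intro r x
    have := hw r r.2 (w⁻¹ * x.1) x.2
    rwa [mul_inv_cancel_left] at this
  let _inst : MulAction ↥R T :=
    { smul := fun r x => ⟨(r : Γ) * x.1 * (r : Γ)⁻¹, hmem r x⟩
      one_smul := fun x => Subtype.ext (by
        show ((1 : ↥R) : Γ) * x.1 * ((1 : ↥R) : Γ)⁻¹ = x.1
        simp)
      mul_smul := fun a b x => Subtype.ext (by
        show ((a * b : ↥R) : Γ) * x.1 * ((a * b : ↥R) : Γ)⁻¹ =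
          (a : Γ) * ((b : Γ) * x.1 * (b : Γ)⁻¹) * (a : Γ)⁻¹
        rw [Subgroup.coe_mul]; group) }
  have hcard : Nat.card T = Nat.card ↥O := by
    apply Nat.card_congr
    exact
      { toFun := fun x => ⟨w⁻¹ * x.1, x.2⟩
        invFun := fun o => ⟨w * (o : Γ), by rw [inv_mul_cancel_left]; exact o.2⟩
        left_inv := fun x => Subtype.ext (by simp)
        right_inv := fun o => Subtype.ext (by simp) }
  have hnd : ¬ p ∣ Nat.card T := by
    rw [hcard]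
    intro h
    have h1 : p ∣ Nat.gcd (Nat.card ↥O) p := Nat.dvd_gcd h dvd_rfl
    rw [hO] at h1
    exact (Fact.out : p.Prime).one_lt.ne' (Nat.dvd_one.mp h1)
  obtain ⟨x, hx⟩ := hR.nonempty_fixed_point_of_prime_not_dvd_card T hnd
  refine ⟨x.1, x.2, fun r hr => ?_⟩
  have := hx ⟨r, hr⟩
  exact congrArg Subtype.val this

end fixed

section imgs

variable {Γ : Type u} [Group Γ]

theorem le_sup_of_img_le {N V : Subgroup Γ} [(V.subgroupOf N).Normal] {X X' : Subgroup Γ}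
    (hXN : X ≤ N) (h : img N V X ≤ img N V X') : X ≤ V ⊔ X' := by
  intro x hx
  have h1 := h (mk_mem_img (V := V) (hXN hx) hx)
  obtain ⟨x', hx', he⟩ := mem_img.mp h1
  rw [QuotientGroup.mk'_apply, QuotientGroup.mk'_apply, QuotientGroup.eq,
    Subgroup.mem_subgroupOf] at he
  have h2 : x = (x' : Γ) * ((x' : Γ)⁻¹ * x) := by group
  rw [h2]
  refine Subgroup.mul_mem _ (Subgroup.mem_sup_right hx') (Subgroup.mem_sup_left ?_)
  simpa using he

theorem img_self_eq_bot {N V : Subgroup Γ} [(V.subgroupOf N).Normal] : img N V V = ⊥ := by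
  rw [eq_bot_iff]
  intro y hy
  obtain ⟨x, hx, rfl⟩ := mem_img.mp hy
  rw [Subgroup.mem_bot, QuotientGroup.mk'_apply, QuotientGroup.eq_one_iff,
    Subgroup.mem_subgroupOf]
  exact hx

theorem img_sup_left {N V : Subgroup Γ} [(V.subgroupOf N).Normal] {X : Subgroup Γ}
    (hVN : V ≤ N) (hXN : X ≤ N) : img N V (V ⊔ X) = img N V X := by
  apply le_antisymm _ (img_mono le_sup_right)
  unfold img
  rw [Subgroup.subgroupOf_sup hVN hXN, Subgroup.map_sup]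
  have h1 : (V.subgroupOf N).map (QuotientGroup.mk' (V.subgroupOf N)) = ⊥ := img_self_eq_bot
  rw [h1, bot_sup_eq]

theorem img_commutator {N V : Subgroup Γ} [(V.subgroupOf N).Normal] {X : Subgroup Γ}
    (hXN : X ≤ N) : img N V ⁅X, X⁆ = ⁅img N V X, img N V X⁆ := by
  unfold img
  rw [← Subgroup.map_commutator]
  congr 1
  apply Subgroup.map_injective N.subtype_injective
  rw [Subgroup.map_commutator, Subgroup.map_subgroupOf_eq_of_le hXN,
    Subgroup.map_subgroupOf_eq_of_le ((Subgroup.commutator_le_self X).trans hXN)]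

theorem img_opp [Finite Γ] (p : ℕ) [Fact p.Prime] {N V : Subgroup Γ} [(V.subgroupOf N).Normal]
    {X : Subgroup Γ} (hXN : X ≤ N) : img N V (opp p X) = opp p (img N V X) := by
  unfold img
  rw [← map_opp_eq]
  congr 1
  apply Subgroup.map_injective N.subtype_injective
  rw [map_opp_eq, Subgroup.map_subgroupOf_eq_of_le hXN,
    Subgroup.map_subgroupOf_eq_of_le ((opp_le p X).trans hXN)]

end imgs

/-- PIECE (II.a): STEP. (`⁅Y, Y⁆ = Y ∧ opp 2 Y = Y` is `TwoPerf Y` of helper2's stubs.) -/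
theorem step {Γ : Type u} [Group Γ] [Finite Γ] (O₁ R Y : Subgroup Γ)
    (hO₁ : (Nat.card ↥O₁).Coprime 2)
    (hR : IsPGroup 2 ↥R) (hY : ⁅Y, Y⁆ = Y ∧ opp 2 Y = Y)
    (hRO : R ≤ Subgroup.normalizer (O₁ : Set Γ))
    (hYO : Y ≤ Subgroup.normalizer (O₁ : Set Γ)) (hRY : ⁅R, Y⁆ ≤ O₁) :
    ∃ Y₁ : Subgroup Γ, (⁅Y₁, Y₁⁆ = Y₁ ∧ opp 2 Y₁ = Y₁) ∧ Y₁ ≤ O₁ ⊔ Y ∧
      Y₁ ≤ Subgroup.centralizer (R : Set Γ) ∧ O₁ ⊔ Y₁ = O₁ ⊔ Y := by
  have : Fact (Nat.Prime 2) := ⟨Nat.prime_two⟩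
  obtain ⟨N, hN⟩ : ∃ N : Subgroup Γ, N = Subgroup.normalizer (O₁ : Set Γ) := ⟨_, rfl⟩
  have hON : O₁ ≤ N := by rw [hN]; exact Subgroup.le_normalizer
  have hYN : Y ≤ N := by rw [hN]; exact hYO
  have hRN : R ≤ N := by rw [hN]; exact hRO
  have hVn : (O₁.subgroupOf N).Normal := by rw [hN]; exact Subgroup.normal_in_normalizer
  obtain ⟨W, hW⟩ : ∃ W : Subgroup Γ, W = O₁ ⊔ Y := ⟨_, rfl⟩
  have hWN : W ≤ N := by rw [hW]; exact sup_le hON hYN
  have hOW : O₁ ≤ W := by rw [hW]; exact le_sup_left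
  have himgW : img N O₁ W = img N O₁ Y := by rw [hW]; exact img_sup_left hON hYN
  -- `R` centralizes `W` modulo `O₁`
  have hcomm : ∀ w ∈ W, ∀ r ∈ R, w⁻¹ * r * w * r⁻¹ ∈ O₁ := by
    intro w hw r hr
    have h1 : QuotientGroup.mk' (O₁.subgroupOf N) ⟨w, hWN hw⟩ ∈ img N O₁ Y := by
      rw [← himgW]; exact mk_mem_img (hWN hw) hw
    obtain ⟨y, hy, he⟩ := mem_img.mp h1
    have h2 : QuotientGroup.mk' (O₁.subgroupOf N) ⟨r, hRN hr⟩ *
        QuotientGroup.mk' (O₁.subgroupOf N) y =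
        QuotientGroup.mk' (O₁.subgroupOf N) y *
        QuotientGroup.mk' (O₁.subgroupOf N) ⟨r, hRN hr⟩ := by
      rw [← map_mul, ← map_mul, QuotientGroup.mk'_apply, QuotientGroup.mk'_apply,
        QuotientGroup.eq, Subgroup.mem_subgroupOf]
      have h3 : ⁅(y : Γ)⁻¹, r⁻¹⁆ ∈ ⁅Y, R⁆ :=
        Subgroup.commutator_mem_commutator (Y.inv_mem hy) (R.inv_mem hr)
      rw [Subgroup.commutator_comm] at h3
      have h4 := hRY h3
      rw [commutatorElement_def] at h4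
      simpa [mul_assoc] using h4
    rw [he] at h2
    have key : ∀ a b : ↥N ⧸ O₁.subgroupOf N, b * a = a * b → a⁻¹ * b * a * b⁻¹ = 1 := by
      intro a b h
      calc a⁻¹ * b * a * b⁻¹ = a⁻¹ * (b * a) * b⁻¹ := by group
        _ = a⁻¹ * (a * b) * b⁻¹ := by rw [h]
        _ = 1 := by group
    have h5 : QuotientGroup.mk' (O₁.subgroupOf N)
        ((⟨w, hWN hw⟩ : ↥N)⁻¹ * ⟨r, hRN hr⟩ * ⟨w, hWN hw⟩ * (⟨r, hRN hr⟩ : ↥N)⁻¹) = 1 := by
      rw [map_mul, map_mul, map_mul, map_inv, map_inv]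
      exact key _ _ h2
    rw [QuotientGroup.mk'_apply, QuotientGroup.eq_one_iff, Subgroup.mem_subgroupOf] at h5
    exact h5
  -- fixed points on the cosets
  have hfix : ∀ w ∈ W, ∃ c ∈ W ⊓ Subgroup.centralizer (R : Set Γ), w⁻¹ * c ∈ O₁ := by
    intro w hw
    obtain ⟨c, hc, hcr⟩ := exists_fixed_in_coset_of_isPGroup O₁ R hO₁ hR w (by
      intro r hr o ho
      have h1 := hcomm w hw r hr
      have h2 : r * o * r⁻¹ ∈ O₁ := (Subgroup.mem_normalizer_iff.mp (hRO hr) o).mp ho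
      have h3 : w⁻¹ * (r * (w * o) * r⁻¹) = (w⁻¹ * r * w * r⁻¹) * (r * o * r⁻¹) := by group
      rw [h3]
      exact O₁.mul_mem h1 h2)
    refine ⟨c, Subgroup.mem_inf.mpr ⟨?_, ?_⟩, hc⟩
    · have h1 : c = w * (w⁻¹ * c) := by group
      rw [h1]
      exact W.mul_mem hw (hOW hc)
    · rw [Subgroup.mem_centralizer_iff]
      intro r hr
      have := hcr r hr
      calc r * c = (r * c * r⁻¹) * r := by group
        _ = c * r := by rw [this]
  obtain ⟨C, hC⟩ : ∃ C : Subgroup Γ, C = W ⊓ Subgroup.centralizer (R : Set Γ) := ⟨_, rfl⟩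
  have hCW : C ≤ W := by rw [hC]; exact inf_le_left
  have hOC : O₁ ⊔ C = W := by
    apply le_antisymm (sup_le hOW hCW)
    intro w hw
    obtain ⟨c, hc, hwc⟩ := hfix w hw
    have h1 : w = c * (w⁻¹ * c)⁻¹ := by group
    rw [h1]
    refine Subgroup.mul_mem _ (Subgroup.mem_sup_right ?_) (Subgroup.mem_sup_left (O₁.inv_mem hwc))
    rw [hC]; exact hc
  -- a minimal cover
  obtain ⟨Y₁, hY₁, hmin⟩ := wellFounded_lt.has_min
    {Y' : Subgroup Γ | Y' ≤ C ∧ O₁ ⊔ Y' = W} ⟨C, le_rfl, hOC⟩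
  obtain ⟨hY₁C, hY₁W⟩ := hY₁
  have hY₁N : Y₁ ≤ N := hY₁C.trans (hCW.trans hWN)
  have himgY₁ : img N O₁ Y₁ = img N O₁ Y := by
    rw [← himgW, ← hY₁W]; exact (img_sup_left hON hY₁N).symm
  have hminimal : ∀ Y' : Subgroup Γ, Y' ≤ Y₁ → img N O₁ Y ≤ img N O₁ Y' → Y' = Y₁ := by
    intro Y' hle himg
    by_contra hne
    refine hmin Y' ⟨hle.trans hY₁C, ?_⟩ (lt_of_le_of_ne hle hne)
    apply le_antisymm
    · rw [← hY₁W]; exact sup_le_sup_left hle _
    · rw [hW]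
      exact sup_le le_sup_left (le_sup_of_img_le hYN himg)
  refine ⟨Y₁, ⟨?_, ?_⟩, ?_, ?_, ?_⟩
  · apply hminimal _ (Subgroup.commutator_le_self Y₁)
    rw [img_commutator hY₁N, himgY₁, ← img_commutator hYN, hY.1]
  · apply hminimal _ (opp_le 2 Y₁)
    rw [img_opp 2 hY₁N, himgY₁, ← img_opp 2 hYN, hY.2]
  · rw [← hW]; exact hY₁C.trans hCW
  · refine hY₁C.trans ?_
    rw [hC]; exact inf_le_right
  · rw [hY₁W, hW]

end Cfsg.Agent.Helper1.GLP
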