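import Mathlib
import Cfsg.Agent.Helper3.GlaubDefs
import Cfsg.Agent.Helper1.Fitting

/-!
# S1301, B-side, piece (I): `glp` as a corollary of Theorem G (hypothesis form)

`K ⊴ Γ`, `S` a Sylow 2-subgroup of `K`, `Y` perfect and generated by its 2-elements, centralizing
`S`.  Then `[K, Y] ≤ O(Γ)`.  Theorem G (`glauberman_perfect` of helper3's stubs) is a hypothesis.
-/

set_option autoImplicit false

namespace Cfsg.Agent.Helper1.GLP

open Cfsg.Agent.Helper2 Cfsg.Agent.Helper3.Glaub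
open scoped commutatorElement

universe u

/-- `O(K) ≤ O(Γ)` for `K ⊴ Γ`. -/
theorem coreOf_le_pPrimeCore {Γ : Type u} [Group Γ] [Finite Γ] (p : ℕ) (K : Subgroup Γ)
    [hK : K.Normal] : coreOf p K ≤ Cfsg.pPrimeCore p Γ := by
  apply Cfsg.Agent.Helper1.le_pPrimeCore
  · apply normal_of_cj_le
    intro g
    rw [← coreOf_cj, cj_eq_of_normal K g]
  · unfold coreOf
    rw [Nat.card_congr (Subgroup.equivMapOfInjective _ K.subtype K.subtype_injective).symm.toEquiv]
    exact Cfsg.Agent.Helper1.card_pPrimeCore_coprime p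

/-- PIECE (I) in hypothesis form: `hG` is Theorem G (`glauberman_perfect`). -/
theorem glp_of
    (hG : ∀ {G : Type u} [Group G] [Finite G] (K L S : Subgroup G), Hyp K L S → Concl K L)
    {Γ : Type u} [Group Γ] [Finite Γ] (K : Subgroup Γ) [hK : K.Normal] (S Y : Subgroup Γ)
    (hSK : S ≤ K) (hS : IsPGroup 2 ↥S) (hSyl : ¬ 2 ∣ S.relIndex K)
    (hY : ⁅Y, Y⁆ = Y ∧ opp 2 Y = Y)
    (hYS : Y ≤ Subgroup.centralizer (S : Set Γ)) : ⁅K, Y⁆ ≤ Cfsg.pPrimeCore 2 Γ := by
  have hyp : Hyp K Y S :=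
    ⟨by rw [Subgroup.normalizer_eq_top]; exact le_top, hY.1, hSK, hS, hSyl, hYS⟩
  have hc := hG K Y S hyp
  obtain ⟨O, hO⟩ : ∃ O : Subgroup Γ, O = Cfsg.pPrimeCore 2 Γ := ⟨_, rfl⟩
  have hOn : O.Normal := by
    rw [hO]; exact Cfsg.Agent.Helper1.pPrimeCore_normal 2
  have hcore : coreOf 2 K ≤ O := by rw [hO]; exact coreOf_le_pPrimeCore 2 K
  -- the centralizer of `K` modulo `O`
  obtain ⟨D, hD⟩ : ∃ D : Subgroup Γ, D =
      (Subgroup.centralizer ((K.map (QuotientGroup.mk' O) : Subgroup (Γ ⧸ O)) : Set (Γ ⧸ O))).comap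
        (QuotientGroup.mk' O) := ⟨_, rfl⟩
  have hmemD : ∀ y : Γ, y ∈ D ↔ ∀ k ∈ K, y * k * y⁻¹ * k⁻¹ ∈ O := by
    intro y
    rw [hD, Subgroup.mem_comap, Subgroup.mem_centralizer_iff]
    constructor
    · intro h k hk
      have h1 := h (QuotientGroup.mk' O k) ⟨k, hk, rfl⟩
      rw [← QuotientGroup.eq_one_iff, ← QuotientGroup.mk'_apply, map_mul, map_mul, map_mul,
        map_inv, map_inv, ← h1]
      group
    · rintro h _ ⟨k, hk, rfl⟩
      have h1 := h k hk
      rw [← QuotientGroup.eq_one_iff, ← QuotientGroup.mk'_apply, map_mul, map_mul, map_mul,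
        map_inv, map_inv] at h1
      calc QuotientGroup.mk' O k * QuotientGroup.mk' O y
          = (QuotientGroup.mk' O y * QuotientGroup.mk' O k * (QuotientGroup.mk' O y)⁻¹ *
              (QuotientGroup.mk' O k)⁻¹)⁻¹ * (QuotientGroup.mk' O y * QuotientGroup.mk' O k) := by
            group
        _ = QuotientGroup.mk' O y * QuotientGroup.mk' O k := by rw [h1, inv_one, one_mul]
  have hYD : Y ≤ D := by
    rw [← hY.2]
    unfold opp
    rw [Subgroup.closure_le]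
    rintro τ ⟨hτY, hτ2⟩
    exact (hmemD τ).mpr (fun k hk => hcore (hc τ hτY hτ2 k hk))
  rw [Subgroup.commutator_le]
  intro k hk y hy
  have h1 := (hmemD y).mp (hYD hy) k hk
  have h2 : ⁅k, y⁆ = (y * k * y⁻¹ * k⁻¹)⁻¹ := by
    rw [commutatorElement_def]; group
  rw [← hO, h2]
  exact O.inv_mem h1

end Cfsg.Agent.Helper1.GLP
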