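import Mathlib

set_option autoImplicit false

/-!
Product lemmas for the orbit-product argument in Glauberman's weak closure theorem.
-/

namespace Cfsg.Agent.Helper1

namespace GW

open scoped BigOperators

/-- The product of a homomorphism over a finite group is trivial when the elements of order at
most two are killed. -/
theorem prod_hom_eq_one_of_inv {U : Type*} [Group U] [Fintype U] {W : Type*} [CommGroup W]
    (g : U →* W) (h : ∀ t : U, t * t = 1 → g t = 1) : ∏ t : U, g t = 1 := by
  apply Finset.prod_ninvolution (fun t => t⁻¹)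
  · intro a
    rw [← map_mul, mul_inv_cancel, map_one]
  · intro a ha hinv
    apply ha
    apply h
    have h1 : a⁻¹ * a = 1 := inv_mul_cancel a
    rw [hinv] at h1
    exact h1
  · intro a
    exact Finset.mem_univ _
  · intro a
    exact inv_inv a

/-- The product of a homomorphism with values of order at most two over a `2`-group of order at
least four is trivial. -/
theorem prod_hom_eq_one_of_two_group {U : Type*} [Group U] [Fintype U] {W : Type*} [CommGroup W]
    (g : U →* W) (hg : ∀ t : U, g t * g t = 1) (hU : IsPGroup 2 U) (h4 : 4 ≤ Nat.card U) :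
    ∏ t : U, g t = 1 := by
  classical
  haveI : Fact (Nat.Prime 2) := ⟨Nat.prime_two⟩
  obtain ⟨j, hj⟩ := IsPGroup.iff_card.1 hU
  have hj2 : 2 ≤ j := by
    by_contra hlt
    push Not at hlt
    interval_cases j <;> omega
  obtain ⟨U₁, hU₁⟩ := Sylow.exists_subgroup_card_pow_prime 2 (G := U) (n := j - 1)
    (by rw [hj]; exact pow_dvd_pow 2 (by omega))
  have hidx : U₁.index = 2 := by
    have h1 := U₁.card_mul_index
    rw [hU₁, hj] at h1
    have h2 : 2 ^ j = 2 ^ (j - 1) * 2 := by
      rw [← pow_succ]; congr 1; omega
    rw [h2] at h1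
    exact Nat.eq_of_mul_eq_mul_left (by positivity) h1
  obtain ⟨s, hs⟩ : ∃ s : U, s ∉ U₁ := by
    by_contra hcon
    push Not at hcon
    have : U₁ = ⊤ := eq_top_iff.2 (fun x _ => hcon x)
    rw [this, Subgroup.index_top] at hidx
    omega
  rw [← Finset.prod_filter_mul_prod_filter_not Finset.univ (· ∈ U₁)]
  have h2 : ∏ t ∈ Finset.univ.filter (fun t => ¬ t ∈ U₁), g t =
      ∏ t ∈ Finset.univ.filter (· ∈ U₁), g (s * t) := by
    symm
    apply Finset.prod_bij (fun t _ => s * t)
    · intro t ht
      simp only [Finset.mem_filter, Finset.mem_univ, true_and] at ht ⊢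
      rw [Subgroup.mul_mem_iff_of_index_two hidx]
      tauto
    · intro a _ b _ hab
      exact mul_left_cancel hab
    · intro b hb
      simp only [Finset.mem_filter, Finset.mem_univ, true_and] at hb
      refine ⟨s⁻¹ * b, ?_, by group⟩
      simp only [Finset.mem_filter, Finset.mem_univ, true_and]
      rw [Subgroup.mul_mem_iff_of_index_two hidx, Subgroup.inv_mem_iff]
      tauto
    · intro t _
      rfl
  rw [h2]
  simp_rw [map_mul]
  rw [Finset.prod_mul_distrib, Finset.prod_const]
  have hcard : (Finset.univ.filter (· ∈ U₁)).card = 2 ^ (j - 1) := by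
    rw [← hU₁, Nat.card_eq_fintype_card, Fintype.card_subtype]
  have heven : Even (Finset.univ.filter (· ∈ U₁)).card := by
    rw [hcard]
    exact (Nat.even_pow.2 ⟨even_two, by omega⟩)
  obtain ⟨m, hm⟩ := heven
  have h3 : g s ^ (Finset.univ.filter (· ∈ U₁)).card = 1 := by
    rw [hm, ← two_mul, pow_mul, pow_two, hg, one_pow]
  rw [h3, one_mul, ← Finset.prod_mul_distrib]
  apply Finset.prod_eq_one
  intro t _
  exact hg t

end GW

end Cfsg.Agent.Helper1
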