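import Mathlib
import Cfsg.Agent.Helper1.Basic
import Cfsg.Agent.Helper1.PaQ

set_option autoImplicit false

/-!
The orbit-product ("trace") lemma: if a `p`-group `J` is generated by a normal family of subgroups
each of which has trivial products over its nontrivial orbits on a finite set `Y` (under
conjugation), then the product over `Y` equals the product over the fixed points of `J`.
-/

namespace Cfsg.Agent.Helper1

namespace GW

open scoped BigOperators

variable {G : Type*} [Group G]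

/-- `g` fixes `y` under conjugation iff `g` centralizes `y`. -/
theorem conj_eq_iff_mem_centralizer {g y : G} :
    g * y * g⁻¹ = y ↔ g ∈ Subgroup.centralizer ({y} : Set G) := by
  rw [Subgroup.mem_centralizer_iff]
  constructor
  · intro h z hz
    rw [Set.mem_singleton_iff] at hz
    rw [hz]
    calc y * g = (g * y * g⁻¹) * g := by rw [h]
      _ = g * y := by group
  · intro h
    have := h y rfl
    calc g * y * g⁻¹ = (y * g) * g⁻¹ := by rw [this]
      _ = y := by group

theorem fix_iff_le_centralizer {B : Subgroup G} {y : G} :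
    (∀ b ∈ B, b * y * b⁻¹ = y) ↔ B ≤ Subgroup.centralizer ({y} : Set G) := by
  constructor
  · intro h b hb
    exact conj_eq_iff_mem_centralizer.1 (h b hb)
  · intro h b hb
    exact conj_eq_iff_mem_centralizer.2 (h hb)

open Classical in
theorem trace_step {W : Type*} [CommGroup W] (f : G → W) (Y : Finset G) (A B : Subgroup G)
    (hAB : A ≤ Subgroup.normalizer (B : Set G))
    (horb : ∀ y ∈ Y, (∃ a ∈ A, a * y * a⁻¹ ≠ y) →
      ∏ y' ∈ Y.filter (fun y' => ∃ a ∈ A, a * y * a⁻¹ = y'), f y' = 1) :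
    ∏ y ∈ Y.filter (fun y => ∀ b ∈ B, b * y * b⁻¹ = y), f y =
      ∏ y ∈ Y.filter (fun y => ∀ b ∈ B ⊔ A, b * y * b⁻¹ = y), f y := by
  classical
  rw [← Finset.prod_filter_mul_prod_filter_not (Y.filter (fun y => ∀ b ∈ B, b * y * b⁻¹ = y))
    (fun y => ∀ a ∈ A, a * y * a⁻¹ = y)]
  have h1 : (Y.filter (fun y => ∀ b ∈ B, b * y * b⁻¹ = y)).filter
      (fun y => ∀ a ∈ A, a * y * a⁻¹ = y) =
      Y.filter (fun y => ∀ b ∈ B ⊔ A, b * y * b⁻¹ = y) := by
    ext y
    simp only [Finset.mem_filter]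
    rw [fix_iff_le_centralizer, fix_iff_le_centralizer, fix_iff_le_centralizer, sup_le_iff]
    tauto
  rw [h1]
  have h2 : ∏ y ∈ (Y.filter (fun y => ∀ b ∈ B, b * y * b⁻¹ = y)).filter
      (fun y => ¬ ∀ a ∈ A, a * y * a⁻¹ = y), f y = 1 := by
    let R : Setoid G :=
      { r := fun y y' => ∃ a ∈ A, a * y * a⁻¹ = y'
        iseqv :=
          { refl := fun y => ⟨1, A.one_mem, by group⟩
            symm := by
              rintro y y' ⟨a, ha, rfl⟩
              exact ⟨a⁻¹, A.inv_mem ha, by group⟩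
            trans := by
              rintro y y' y'' ⟨a, ha, rfl⟩ ⟨b, hb, rfl⟩
              exact ⟨b * a, A.mul_mem hb ha, by group⟩ } }
    apply Finset.prod_cancels_of_partition_cancels R
    intro x hx
    simp only [Finset.mem_filter] at hx
    obtain ⟨⟨hxY, hxB⟩, hxA⟩ := hx
    push Not at hxA
    have h3 : ((Y.filter (fun y => ∀ b ∈ B, b * y * b⁻¹ = y)).filter
        (fun y => ¬ ∀ a ∈ A, a * y * a⁻¹ = y)).filter (fun y' => R y' x) =
        Y.filter (fun y' => ∃ a ∈ A, a * x * a⁻¹ = y') := by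
      ext y'
      simp only [Finset.mem_filter]
      constructor
      · rintro ⟨⟨⟨hy'Y, -⟩, -⟩, a, ha, rfl⟩
        exact ⟨hy'Y, a⁻¹, A.inv_mem ha, by group⟩
      · rintro ⟨hy'Y, a, ha, rfl⟩
        refine ⟨⟨⟨hy'Y, ?_⟩, ?_⟩, a⁻¹, A.inv_mem ha, by group⟩
        · intro b hb
          have hb' : a⁻¹ * b * a⁻¹⁻¹ ∈ B :=
            (Subgroup.mem_normalizer_iff.1 (hAB (A.inv_mem ha)) b).1 hb
          have h4 := hxB _ hb'
          calc b * (a * x * a⁻¹) * b⁻¹ = a * ((a⁻¹ * b * a⁻¹⁻¹) * x * (a⁻¹ * b * a⁻¹⁻¹)⁻¹) * a⁻¹ := by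
                group
            _ = a * x * a⁻¹ := by rw [h4]
        · intro hcon
          obtain ⟨c, hc, hcx⟩ := hxA
          apply hcx
          have h4 := hcon (a * c * a⁻¹) (A.mul_mem (A.mul_mem ha hc) (A.inv_mem ha))
          have h5 : a * c * a⁻¹ * (a * x * a⁻¹) * (a * c * a⁻¹)⁻¹ = a * (c * x * c⁻¹) * a⁻¹ := by
            group
          rw [h5] at h4
          exact mul_left_cancel (mul_right_cancel h4)
    rw [h3]
    exact horb x hxY hxA
  rw [h2, mul_one]

open Classical in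
theorem trace_lemma [Finite G] {p : ℕ} [hp : Fact p.Prime] {W : Type*} [CommGroup W]
    (f : G → W) (Y : Finset G) (𝒟 : Set (Subgroup G)) (J : Subgroup G) (hJ : J = sSup 𝒟)
    (hJp : IsPGroup p J)
    (hconj : ∀ A ∈ 𝒟, ∀ s ∈ J, A.map (MulAut.conj s).toMonoidHom ∈ 𝒟)
    (horb : ∀ A ∈ 𝒟, ∀ y ∈ Y, (∃ a ∈ A, a * y * a⁻¹ ≠ y) →
        ∏ y' ∈ Y.filter (fun y' => ∃ a ∈ A, a * y * a⁻¹ = y'), f y' = 1) :
    ∏ y ∈ Y, f y = ∏ y ∈ Y.filter (fun y => ∀ a ∈ J, a * y * a⁻¹ = y), f y := by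
  classical
  have hle : ∀ A ∈ 𝒟, A ≤ J := fun A hA => hJ ▸ le_sSup hA
  -- the set of good subgroups
  let 𝔅 : Set (Subgroup G) := {B | B ≤ J ∧ B = sSup {A | A ∈ 𝒟 ∧ A ≤ B} ∧
    ∏ y ∈ Y, f y = ∏ y ∈ Y.filter (fun y => ∀ b ∈ B, b * y * b⁻¹ = y), f y}
  have hbot : (⊥ : Subgroup G) ∈ 𝔅 := by
    refine ⟨bot_le, ?_, ?_⟩
    · apply le_antisymm bot_le
      apply sSup_le
      rintro A ⟨-, hA⟩
      exact hA
    · congr 1
      ext y
      simp only [Finset.mem_filter, Subgroup.mem_bot]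
      constructor
      · intro hy
        refine ⟨hy, ?_⟩
        rintro b rfl
        group
      · exact fun h => h.1
  obtain ⟨B, hB𝔅, hBmax⟩ := Set.exists_max_image 𝔅 (fun B => Nat.card B) (Set.toFinite _) ⟨⊥, hbot⟩
  obtain ⟨hBJ, hBgen, hBgood⟩ := hB𝔅
  suffices hBeq : B = J by rw [hBgood, hBeq]
  by_contra hne
  have hlt : B < J := lt_of_le_of_ne hBJ hne
  -- it suffices to find `A ∈ 𝒟` normalizing `B` and not contained in `B`
  have key : ¬ ∃ A ∈ 𝒟, A ≤ Subgroup.normalizer (B : Set G) ∧ ¬ A ≤ B := by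
    rintro ⟨A, hA𝒟, hAN, hAB⟩
    have hmem : B ⊔ A ∈ 𝔅 := by
      refine ⟨sup_le hBJ (hle A hA𝒟), ?_, ?_⟩
      · apply le_antisymm
        · apply sup_le
          · refine hBgen.le.trans ?_
            apply sSup_le_sSup
            rintro A' ⟨h1, h2⟩
            exact ⟨h1, h2.trans le_sup_left⟩
          · exact le_sSup ⟨hA𝒟, le_sup_right⟩
        · apply sSup_le
          rintro A' ⟨-, h2⟩
          exact h2
      · exact hBgood.trans (trace_step f Y A B hAN (horb A hA𝒟))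
    have h1 := hBmax (B ⊔ A) hmem
    have h2 : B < B ⊔ A := lt_of_le_of_ne le_sup_left (fun h => hAB (h ▸ le_sup_right))
    have h3 := card_lt_card_of_lt h2
    omega
  push Not at key
  -- N₁ = N_J(B)
  obtain ⟨x, hxJ, hxN, hxB⟩ := exists_mem_normalizer_not_mem hJp hlt
  by_cases hN₁ : J ≤ Subgroup.normalizer (B : Set G)
  · apply hne
    apply le_antisymm hBJ
    rw [hJ]
    apply sSup_le
    intro A hA
    exact key A hA ((hle A hA).trans hN₁)
  · have hlt2 : J ⊓ Subgroup.normalizer (B : Set G) < J :=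
      lt_of_le_of_ne inf_le_left (fun h => hN₁ (h ▸ inf_le_right))
    obtain ⟨s, hsJ, hsN, hsN₁⟩ := exists_mem_normalizer_not_mem hJp hlt2
    apply hsN₁
    refine ⟨hsJ, ?_⟩
    -- `B^s ≤ B`
    have hBs : B.map (MulAut.conj s).toMonoidHom ≤ B := by
      rw [Subgroup.map_le_iff_le_comap]
      refine hBgen.le.trans (sSup_le ?_)
      rintro A ⟨hA𝒟, hAB⟩
      rw [← Subgroup.map_le_iff_le_comap]
      apply key _ (hconj A hA𝒟 s hsJ)
      have h1 : A.map (MulAut.conj s).toMonoidHom ≤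
          (J ⊓ Subgroup.normalizer (B : Set G)).map (MulAut.conj s).toMonoidHom :=
        Subgroup.map_mono (le_inf (hle A hA𝒟) (hAB.trans Subgroup.le_normalizer))
      have h2 : (J ⊓ Subgroup.normalizer (B : Set G)).map (MulAut.conj s).toMonoidHom =
          J ⊓ Subgroup.normalizer (B : Set G) :=
        (Subgroup.mem_normalizer_iff_map_conj_eq.1 hsN)
      rw [h2] at h1
      exact h1.trans inf_le_right
    have hBs' : B.map (MulAut.conj s).toMonoidHom = B := by
      apply Subgroup.eq_of_le_of_card_ge hBs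
      rw [Subgroup.card_map_of_injective (MulAut.conj s).injective]
    exact Subgroup.mem_normalizer_iff_map_conj_eq.2 hBs'

end GW

end Cfsg.Agent.Helper1
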