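import Mathlib
import Cfsg.Agent.Helper1.GWa
import Cfsg.Agent.Helper1.GWb

set_option autoImplicit false

/-!
Quadratic action on an abelian normal subgroup: orbits are cosets, and the orbit products.
-/

namespace Cfsg.Agent.Helper1

namespace GW

open scoped BigOperators

variable {G : Type*} [Group G]

/-- `A` acts quadratically on `V` (by conjugation). -/
def Quad (V A : Subgroup G) : Prop :=
  ∀ v ∈ V, ∀ a ∈ A, ∀ b ∈ A, b * (a * v * a⁻¹ * v⁻¹) = (a * v * a⁻¹ * v⁻¹) * b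

theorem Quad.mono {V A B : Subgroup G} (h : Quad V A) (hBA : B ≤ A) : Quad V B :=
  fun v hv a ha b hb => h v hv a (hBA ha) b (hBA hb)

theorem Quad.conj {V A : Subgroup G} [hVn : V.Normal] (h : Quad V A) (g : G) :
    Quad V (A.map (MulAut.conj g).toMonoidHom) := by
  rintro v hv _ ⟨a, ha, rfl⟩ _ ⟨b, hb, rfl⟩
  have hv' : g⁻¹ * v * g⁻¹⁻¹ ∈ V := hVn.conj_mem v hv g⁻¹
  have h1 := h _ hv' a ha b hb
  simp only [MulEquiv.coe_toMonoidHom, MulAut.conj_apply]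
  have e1 : g * b * g⁻¹ * (g * a * g⁻¹ * v * (g * a * g⁻¹)⁻¹ * v⁻¹) =
      g * (b * (a * (g⁻¹ * v * g⁻¹⁻¹) * a⁻¹ * (g⁻¹ * v * g⁻¹⁻¹)⁻¹)) * g⁻¹ := by group
  have e2 : g * a * g⁻¹ * v * (g * a * g⁻¹)⁻¹ * v⁻¹ * (g * b * g⁻¹) =
      g * ((a * (g⁻¹ * v * g⁻¹⁻¹) * a⁻¹ * (g⁻¹ * v * g⁻¹⁻¹)⁻¹) * b) * g⁻¹ := by group
  rw [e1, e2, h1]

/-- The commutator homomorphism `a ↦ [a, y]` of a quadratically acting group. -/
def kap {V A : Subgroup G} [hVn : V.Normal] (hVc : ∀ x ∈ V, ∀ y ∈ V, x * y = y * x)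
    (hq : Quad V A) (y : G) (hy : y ∈ V) : ↥A →* G :=
  MonoidHom.mk' (fun a => (a : G) * y * (a : G)⁻¹ * y⁻¹) (by
    intro a b
    have hb : (b : G) * y * (b : G)⁻¹ * y⁻¹ ∈ V :=
      V.mul_mem (hVn.conj_mem y hy b) (V.inv_mem hy)
    have ha : (a : G) * y * (a : G)⁻¹ * y⁻¹ ∈ V :=
      V.mul_mem (hVn.conj_mem y hy a) (V.inv_mem hy)
    have h1 := hq y hy b b.2 a a.2
    have h2 := hVc _ ha _ hb
    show ((a * b : A) : G) * y * ((a * b : A) : G)⁻¹ * y⁻¹ = _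
    rw [Subgroup.coe_mul]
    calc (a : G) * b * y * ((a : G) * b)⁻¹ * y⁻¹
        = ((a : G) * ((b : G) * y * (b : G)⁻¹ * y⁻¹)) * (a : G)⁻¹ * ((a : G) * y * (a : G)⁻¹ * y⁻¹) := by
          group
      _ = (((b : G) * y * (b : G)⁻¹ * y⁻¹) * (a : G)) * (a : G)⁻¹ *
          ((a : G) * y * (a : G)⁻¹ * y⁻¹) := by rw [h1]
      _ = ((b : G) * y * (b : G)⁻¹ * y⁻¹) * ((a : G) * y * (a : G)⁻¹ * y⁻¹) := by group
      _ = _ := h2.symm)

theorem kap_apply {V A : Subgroup G} [hVn : V.Normal] (hVc : ∀ x ∈ V, ∀ y ∈ V, x * y = y * x)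
    (hq : Quad V A) (y : G) (hy : y ∈ V) (a : A) :
    kap hVc hq y hy a = (a : G) * y * (a : G)⁻¹ * y⁻¹ := rfl

theorem kap_range_le {V A : Subgroup G} [hVn : V.Normal] (hVc : ∀ x ∈ V, ∀ y ∈ V, x * y = y * x)
    (hq : Quad V A) (y : G) (hy : y ∈ V) : (kap hVc hq y hy).range ≤ V := by
  rintro _ ⟨a, rfl⟩
  rw [kap_apply]
  exact V.mul_mem (hVn.conj_mem y hy a) (V.inv_mem hy)

theorem card_kap_range {V A : Subgroup G} [hVn : V.Normal]
    (hVc : ∀ x ∈ V, ∀ y ∈ V, x * y = y * x) (hq : Quad V A) (y : G) (hy : y ∈ V) :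
    Nat.card (kap hVc hq y hy).range =
      (A ⊓ Subgroup.centralizer ({y} : Set G)).relIndex A := by
  rw [← Subgroup.index_ker]
  unfold Subgroup.relIndex
  congr 1
  ext a
  rw [MonoidHom.mem_ker, kap_apply, Subgroup.mem_subgroupOf, Subgroup.mem_inf,
    ← conj_eq_iff_mem_centralizer]
  constructor
  · intro h
    refine ⟨a.2, ?_⟩
    calc (a : G) * y * (a : G)⁻¹ = ((a : G) * y * (a : G)⁻¹ * y⁻¹) * y := by group
      _ = y := by rw [h, one_mul]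
  · rintro ⟨-, h⟩
    rw [h, mul_inv_cancel]

open Classical in
/-- The `A`-orbit of `y` is a coset. -/
theorem orbit_eq_image [Finite G] {V A : Subgroup G} [hVn : V.Normal]
    (hVc : ∀ x ∈ V, ∀ y ∈ V, x * y = y * x) (hq : Quad V A) (Y : Finset G)
    (hYA : ∀ a ∈ A, ∀ y ∈ Y, a * y * a⁻¹ ∈ Y) (y : G) (hyY : y ∈ Y) (hyV : y ∈ V)
    [Fintype (kap hVc hq y hyV).range] :
    Y.filter (fun y' => ∃ a ∈ A, a * y * a⁻¹ = y') =
      Finset.univ.image (fun t : (kap hVc hq y hyV).range => (t : G) * y) := by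
  ext y'
  simp only [Finset.mem_filter, Finset.mem_image, Finset.mem_univ, true_and]
  constructor
  · rintro ⟨-, a, ha, rfl⟩
    refine ⟨⟨kap hVc hq y hyV ⟨a, ha⟩, ⟨⟨a, ha⟩, rfl⟩⟩, ?_⟩
    show kap hVc hq y hyV ⟨a, ha⟩ * y = _
    rw [kap_apply]
    group
  · rintro ⟨⟨_, ⟨a, rfl⟩⟩, rfl⟩
    have e : kap hVc hq y hyV a * y = (a : G) * y * (a : G)⁻¹ := by
      rw [kap_apply]; group
    refine ⟨?_, a, a.2, ?_⟩
    · show kap hVc hq y hyV a * y ∈ Y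
      rw [e]
      exact hYA a a.2 y hyY
    · exact e.symm

open Classical in
/-- The length of the `A`-orbit of `y`. -/
theorem orbit_card [Finite G] {V A : Subgroup G} [hVn : V.Normal]
    (hVc : ∀ x ∈ V, ∀ y ∈ V, x * y = y * x) (hq : Quad V A) (Y : Finset G)
    (hYA : ∀ a ∈ A, ∀ y ∈ Y, a * y * a⁻¹ ∈ Y) (y : G) (hyY : y ∈ Y) (hyV : y ∈ V) :
    (Y.filter (fun y' => ∃ a ∈ A, a * y * a⁻¹ = y')).card =
      Nat.card (kap hVc hq y hyV).range := by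
  haveI : Fintype (kap hVc hq y hyV).range := Fintype.ofFinite _
  rw [orbit_eq_image hVc hq Y hYA y hyY hyV, Finset.card_image_of_injective, Finset.card_univ,
    Nat.card_eq_fintype_card]
  intro t t' h
  exact Subtype.ext (mul_right_cancel h)

open Classical in
/-- The product of `f` over the `A`-orbit of `y`. -/
theorem orbit_prod [Finite G] {V A : Subgroup G} [hVn : V.Normal]
    (hVc : ∀ x ∈ V, ∀ y ∈ V, x * y = y * x) (hq : Quad V A) {W : Type*} [CommGroup W]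
    (f : G → W) (hmul : ∀ u ∈ V, ∀ v ∈ V, f (u * v) = f u * f v) (Y : Finset G)
    (hYA : ∀ a ∈ A, ∀ y ∈ Y, a * y * a⁻¹ ∈ Y) (y : G) (hyY : y ∈ Y) (hyV : y ∈ V)
    [Fintype (kap hVc hq y hyV).range] :
    ∏ y' ∈ Y.filter (fun y' => ∃ a ∈ A, a * y * a⁻¹ = y'), f y' =
      (∏ t : (kap hVc hq y hyV).range, f (t : G)) *
        f y ^ Nat.card (kap hVc hq y hyV).range := by
  rw [orbit_eq_image hVc hq Y hYA y hyY hyV, Finset.prod_image]
  · have h2 : ∀ t : (kap hVc hq y hyV).range, f ((t : G) * y) = f (t : G) * f y :=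
      fun t => hmul _ (kap_range_le hVc hq y hyV t.2) _ hyV
    simp_rw [h2]
    rw [Finset.prod_mul_distrib, Finset.prod_const, Finset.card_univ, Nat.card_eq_fintype_card]
  · intro t _ t' _ h
    exact Subtype.ext (mul_right_cancel h)

theorem kap_range_isPGroup [Finite G] {p : ℕ} {V A : Subgroup G} [hVn : V.Normal]
    (hVc : ∀ x ∈ V, ∀ y ∈ V, x * y = y * x) (hq : Quad V A) (hAp : IsPGroup p A) (y : G)
    (hy : y ∈ V) : IsPGroup p (kap hVc hq y hy).range :=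
  hAp.of_surjective (kap hVc hq y hy).rangeRestrict (kap hVc hq y hy).rangeRestrict_surjective

theorem one_lt_card_kap_range [Finite G] {V A : Subgroup G} [hVn : V.Normal]
    (hVc : ∀ x ∈ V, ∀ y ∈ V, x * y = y * x) (hq : Quad V A) (y : G) (hy : y ∈ V)
    (hne : ∃ a ∈ A, a * y * a⁻¹ ≠ y) : 1 < Nat.card (kap hVc hq y hy).range := by
  rw [Subgroup.one_lt_card_iff_ne_bot]
  intro hbot
  obtain ⟨a, ha, hay⟩ := hne
  apply hay
  have h1 : kap hVc hq y hy ⟨a, ha⟩ ∈ (kap hVc hq y hy).range := ⟨_, rfl⟩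
  rw [hbot, Subgroup.mem_bot, kap_apply] at h1
  calc a * y * a⁻¹ = (a * y * a⁻¹ * y⁻¹) * y := by group
    _ = y := by rw [h1, one_mul]

open Classical in
/-- Orbit products vanish: the case where involutions are killed. -/
theorem orbit_prod_eq_one_ab [Finite G] {p : ℕ} [hp : Fact p.Prime] {V A : Subgroup G}
    [hVn : V.Normal] (hVc : ∀ x ∈ V, ∀ y ∈ V, x * y = y * x) (hq : Quad V A)
    (hAp : IsPGroup p A) {W : Type*} [CommGroup W]
    (f : G → W) (hmul : ∀ u ∈ V, ∀ v ∈ V, f (u * v) = f u * f v)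
    (h2 : ∀ t ∈ V, t * t = 1 → f t = 1) (Y : Finset G)
    (hYA : ∀ a ∈ A, ∀ y ∈ Y, a * y * a⁻¹ ∈ Y) (y : G) (hyY : y ∈ Y) (hyV : y ∈ V)
    (h3 : f y ^ p = 1) (hne : ∃ a ∈ A, a * y * a⁻¹ ≠ y) :
    ∏ y' ∈ Y.filter (fun y' => ∃ a ∈ A, a * y * a⁻¹ = y'), f y' = 1 := by
  haveI : Fintype (kap hVc hq y hyV).range := Fintype.ofFinite _
  rw [orbit_prod hVc hq f hmul Y hYA y hyY hyV]
  have hUV := kap_range_le hVc hq y hyV
  let g : (kap hVc hq y hyV).range →* W :=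
    MonoidHom.mk' (fun t => f (t : G)) (fun a b => hmul _ (hUV a.2) _ (hUV b.2))
  have h4 : ∏ t : (kap hVc hq y hyV).range, f (t : G) = 1 := by
    apply prod_hom_eq_one_of_inv g
    intro t ht
    apply h2 _ (hUV t.2)
    have := congrArg Subtype.val ht
    simpa using this
  rw [h4, one_mul]
  obtain ⟨k, hk⟩ := IsPGroup.iff_card.1 (kap_range_isPGroup hVc hq hAp y hyV)
  have h1 := one_lt_card_kap_range hVc hq y hyV hne
  rw [hk] at h1 ⊢
  have hk0 : k ≠ 0 := by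
    rintro rfl
    simp at h1
  obtain ⟨k', rfl⟩ := Nat.exists_eq_succ_of_ne_zero hk0
  rw [pow_succ', pow_mul, h3, one_pow]

open Classical in
/-- Orbit products vanish: the case `p = 2` with no orbits of length two. -/
theorem orbit_prod_eq_one_c [Finite G] {V A : Subgroup G}
    [hVn : V.Normal] (hVc : ∀ x ∈ V, ∀ y ∈ V, x * y = y * x) (hq : Quad V A)
    (hAp : IsPGroup 2 A) {W : Type*} [CommGroup W]
    (f : G → W) (hmul : ∀ u ∈ V, ∀ v ∈ V, f (u * v) = f u * f v)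
    (hsq : ∀ t ∈ V, f t * f t = 1) (Y : Finset G)
    (hYA : ∀ a ∈ A, ∀ y ∈ Y, a * y * a⁻¹ ∈ Y) (y : G) (hyY : y ∈ Y) (hyV : y ∈ V)
    (hidx : (A ⊓ Subgroup.centralizer ({y} : Set G)).relIndex A ≠ 2)
    (hne : ∃ a ∈ A, a * y * a⁻¹ ≠ y) :
    ∏ y' ∈ Y.filter (fun y' => ∃ a ∈ A, a * y * a⁻¹ = y'), f y' = 1 := by
  haveI : Fact (Nat.Prime 2) := ⟨Nat.prime_two⟩
  haveI : Fintype (kap hVc hq y hyV).range := Fintype.ofFinite _
  rw [orbit_prod hVc hq f hmul Y hYA y hyY hyV]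
  have hUV := kap_range_le hVc hq y hyV
  let g : (kap hVc hq y hyV).range →* W :=
    MonoidHom.mk' (fun t => f (t : G)) (fun a b => hmul _ (hUV a.2) _ (hUV b.2))
  obtain ⟨k, hk⟩ := IsPGroup.iff_card.1 (kap_range_isPGroup hVc hq hAp y hyV)
  have h1 := one_lt_card_kap_range hVc hq y hyV hne
  have h2 : Nat.card (kap hVc hq y hyV).range ≠ 2 := by
    rw [card_kap_range]; exact hidx
  have hk2 : 2 ≤ k := by
    by_contra hlt
    push Not at hlt
    interval_cases k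
    · rw [hk] at h1; omega
    · exact h2 (by rw [hk]; norm_num)
  have h4 : ∏ t : (kap hVc hq y hyV).range, f (t : G) = 1 := by
    apply prod_hom_eq_one_of_two_group g (fun t => hsq _ (hUV t.2))
      (kap_range_isPGroup hVc hq hAp y hyV)
    rw [hk]
    calc 4 = 2 ^ 2 := by norm_num
      _ ≤ 2 ^ k := Nat.pow_le_pow_right (by norm_num) hk2
  rw [h4, one_mul, hk]
  obtain ⟨k', rfl⟩ := Nat.exists_eq_succ_of_ne_zero (show k ≠ 0 by omega)
  rw [pow_succ', pow_mul, pow_two, hsq y hyV, one_pow]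

end GW

end Cfsg.Agent.Helper1
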