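import Mathlib
import Cfsg.Prelude.Def_PLocal
import Cfsg.Agent.Helper1.ThompsonNPC
import Cfsg.Agent.Helper1.ThompsonRedAbs
import Cfsg.Agent.Lead.ZJ2

set_option autoImplicit false

/-!
Thompson's normal `p`-complement theorem for the Thompson subgroup generated by the abelian
subgroups of largest order: the functor, basic facts on `J(P)`, and the final contradiction for
odd `p` (through Glauberman's `ZJ`-theorem).
-/

namespace Cfsg.Agent.Helper1

namespace TN

open scoped commutatorElement
open ThompsonRed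
open Cfsg.Agent.Lead.ZJ

universe u

/-- The functor `R ↦ J(R)` (abelian version). -/
def jaFunctor : CharFunctor.{u} where
  W := fun R _ => Cfsg.thompsonSubgroupA R
  map_equiv := fun e => thompsonSubgroupA_map_equiv e

variable {G : Type u} [Group G]

theorem jaFunctor_of (P : Subgroup G) : jaFunctor.of P = Cfsg.thompsonSubgroupAOf P := rfl

theorem jaFunctor_ne_bot {p : ℕ} (R : Type u) [Group R] [Finite R]
    (_hR : IsPGroup p R) (hnt : Nontrivial R) : jaFunctor.W R ≠ ⊥ := by
  show Cfsg.thompsonSubgroupA R ≠ ⊥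
  obtain ⟨x, hx⟩ := exists_ne (1 : R)
  obtain ⟨A, hA⟩ := Cfsg.Agent.Lead.ZJ.maxAb_nonempty R
  have hzc : IsMulCommutative (Subgroup.zpowers x) := inferInstance
  have h1 := hA.2 (Subgroup.zpowers x) hzc
  intro hbot
  have hAJ : A ≤ Cfsg.thompsonSubgroupA R := le_sSup hA
  rw [hbot, le_bot_iff] at hAJ
  rw [hAJ, Subgroup.card_bot] at h1
  have h2 : Nat.card (Subgroup.zpowers x) = 1 := le_antisymm h1 Nat.card_pos
  rw [Subgroup.card_eq_one, Subgroup.zpowers_eq_bot] at h2
  exact hx h2

/-- `J(P)` is the join of the abelian subgroups of `P` of largest order. -/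
theorem thompsonSubgroupAOf_eq_sSup [Finite G] (P : Subgroup G) :
    Cfsg.thompsonSubgroupAOf P = sSup ((goodAb G).fam P) := by
  have h1 : (goodAb G).fam P = Set.image (fun A₀ : Subgroup ↥P => A₀.map P.subtype)
      (Cfsg.maxAbelianSubgroups ↥P) :=
    fam_eq_image (goodAb G) P (fun A₀ => IsMulCommutative A₀) (isMulCommutative_iff_map P)
  rw [h1]
  unfold Cfsg.thompsonSubgroupAOf Cfsg.thompsonSubgroupA
  apply le_antisymm
  · rw [Subgroup.map_le_iff_le_comap]
    apply sSup_le
    intro A hA
    rw [← Subgroup.map_le_iff_le_comap]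
    exact le_sSup ⟨A, hA, rfl⟩
  · apply sSup_le
    rintro _ ⟨A, hA, rfl⟩
    exact Subgroup.map_mono (le_sSup hA)

theorem le_thompsonSubgroupAOf [Finite G] {P A : Subgroup G} (hA : A ∈ (goodAb G).fam P) :
    A ≤ Cfsg.thompsonSubgroupAOf P := by
  rw [thompsonSubgroupAOf_eq_sSup]
  exact le_sSup hA

/-- `J(T) = J(P)` when `J(P) ≤ T ≤ P`. -/
theorem thompsonSubgroupAOf_eq_of_le [Finite G] {T P : Subgroup G} (hTP : T ≤ P)
    (hJT : Cfsg.thompsonSubgroupAOf P ≤ T) :
    Cfsg.thompsonSubgroupAOf T = Cfsg.thompsonSubgroupAOf P := by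
  rw [thompsonSubgroupAOf_eq_sSup, thompsonSubgroupAOf_eq_sSup]
  congr 1
  obtain ⟨A', hA'⟩ := (goodAb G).fam_nonempty P
  have hA'T : A' ∈ (goodAb G).fam T :=
    Good.mem_fam_of_le hTP hA' ((le_thompsonSubgroupAOf hA').trans hJT)
  ext A
  constructor
  · intro hA
    refine ⟨hA.1.trans hTP, hA.2.1, ?_⟩
    intro B hBP hB
    have h1 := hA'.2.2 B hBP hB
    have h2 := hA.2.2 A' hA'T.1 hA'T.2.1
    exact h1.trans h2
  · intro hA
    exact Good.mem_fam_of_le hTP hA ((le_thompsonSubgroupAOf hA).trans hJT)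

/-- Two commuting abelian subgroups generate an abelian subgroup. -/
theorem comm_sup {A B : Subgroup G} (hA : ∀ x ∈ A, ∀ y ∈ A, x * y = y * x)
    (hB : ∀ x ∈ B, ∀ y ∈ B, x * y = y * x) (hAB : ∀ x ∈ A, ∀ y ∈ B, x * y = y * x) :
    ∀ x ∈ A ⊔ B, ∀ y ∈ A ⊔ B, x * y = y * x := by
  have h1 : A ≤ Subgroup.centralizer ((A ⊔ B : Subgroup G) : Set G) := by
    intro a ha
    rw [Subgroup.mem_centralizer_iff]
    intro y hy
    have hle : A ⊔ B ≤ Subgroup.centralizer ({a} : Set G) := by
      apply sup_le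
      · intro z hz
        rw [Subgroup.mem_centralizer_iff]
        intro w hw
        rw [Set.mem_singleton_iff] at hw
        rw [hw]; exact hA a ha z hz
      · intro z hz
        rw [Subgroup.mem_centralizer_iff]
        intro w hw
        rw [Set.mem_singleton_iff] at hw
        rw [hw]; exact hAB a ha z hz
    exact (Subgroup.mem_centralizer_iff.1 (hle hy) a rfl).symm
  have h2 : B ≤ Subgroup.centralizer ((A ⊔ B : Subgroup G) : Set G) := by
    intro b hb
    rw [Subgroup.mem_centralizer_iff]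
    intro y hy
    have hle : A ⊔ B ≤ Subgroup.centralizer ({b} : Set G) := by
      apply sup_le
      · intro z hz
        rw [Subgroup.mem_centralizer_iff]
        intro w hw
        rw [Set.mem_singleton_iff] at hw
        rw [hw]; exact (hAB z hz b hb).symm
      · intro z hz
        rw [Subgroup.mem_centralizer_iff]
        intro w hw
        rw [Set.mem_singleton_iff] at hw
        rw [hw]; exact hB b hb z hz
    exact (Subgroup.mem_centralizer_iff.1 (hle hy) b rfl).symm
  intro x hx y hy
  exact Subgroup.mem_centralizer_iff.1 ((sup_le h1 h2) hy) x hx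

/-- `Z(P)` lies in every abelian subgroup of `P` of largest order. -/
theorem center_le_of_mem_fam [Finite G] {P A : Subgroup G} (hA : A ∈ (goodAb G).fam P) :
    P ⊓ Subgroup.centralizer (P : Set G) ≤ A := by
  set Z := P ⊓ Subgroup.centralizer (P : Set G) with hZ
  have hZc : ∀ x ∈ Z, ∀ y ∈ Z, x * y = y * x := fun x hx y hy =>
    (Subgroup.mem_centralizer_iff.1 hx.2 y hy.1).symm
  have hAZ : ∀ x ∈ A, ∀ y ∈ Z, x * y = y * x := fun x hx y hy =>
    Subgroup.mem_centralizer_iff.1 hy.2 x (hA.1 hx)
  have hab := comm_sup hA.2.1 hZc hAZ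
  have hle : A ⊔ Z ≤ P := sup_le hA.1 inf_le_left
  have hcard := hA.2.2 (A ⊔ Z) hle hab
  have heq : A = A ⊔ Z := Subgroup.eq_of_le_of_card_ge le_sup_left hcard
  rw [heq]
  exact le_sup_right

theorem center_le_centerThompsonAOf [Finite G] (P : Subgroup G) :
    P ⊓ Subgroup.centralizer (P : Set G) ≤ Cfsg.centerThompsonAOf P := by
  rw [← inter_goodAb]
  unfold Good.inter
  apply le_sInf
  intro A hA
  exact center_le_of_mem_fam hA

/-- overgroups of `P` with a normal `p`-complement equal `P` -/
theorem struct_eq_of_npc {p : ℕ} [hp : Fact p.Prime] [Finite G] {P : Subgroup G}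
    (hS : Struct p G P) (H : Subgroup G) (hPH : P ≤ H)
    (hH : Cfsg.HasNormalPComplement p ↥H) : H = P := by
  rcases hS.maximal H hPH with h | h
  · exact h
  · exfalso
    apply hS.not_nilp
    rw [h] at hH
    exact hasNormalPComplement_of_mulEquiv Subgroup.topEquiv hH

theorem struct_normalizer_ja {p : ℕ} [hp : Fact p.Prime] [Finite G] {P : Subgroup G}
    (hS : Struct p G P) (hyp : Hyp p jaFunctor centerFunctor G P) :
    Subgroup.normalizer (Cfsg.thompsonSubgroupAOf P : Set G) = P := by
  apply struct_eq_of_npc hS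
  · have := jaFunctor.normalizer_le P
    rw [jaFunctor_of] at this
    exact Subgroup.le_normalizer.trans this
  · have := hyp.1
    rwa [jaFunctor_of] at this

theorem struct_centralizer_center {p : ℕ} [hp : Fact p.Prime] [Finite G] {P : Subgroup G}
    (hS : Struct p G P) (hyp : Hyp p jaFunctor centerFunctor G P) :
    Subgroup.centralizer ((P ⊓ Subgroup.centralizer (P : Set G) : Subgroup G) : Set G) = P := by
  apply struct_eq_of_npc hS
  · intro x hx
    rw [Subgroup.mem_centralizer_iff]
    intro z hz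
    exact (Subgroup.mem_centralizer_iff.1 hz.2 x hx).symm
  · have := hyp.2
    rwa [centerFunctor_of] at this

/-- A group equal to its Sylow `p`-subgroup has a normal `p`-complement. -/
theorem hasNormalPComplement_of_sylow_eq_top {p : ℕ} [hp : Fact p.Prime] [Finite G]
    (P : Sylow p G) (h : (P : Subgroup G) = ⊤) : Cfsg.HasNormalPComplement p G := by
  apply hasNormalPComplement_of_isPGroup
  intro g
  obtain ⟨m, hm⟩ := P.2 ⟨g, h ▸ Subgroup.mem_top g⟩
  exact ⟨m, by simpa using congrArg Subtype.val hm⟩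

/-- The final contradiction for odd `p`. -/
theorem final_odd {p : ℕ} [hp : Fact p.Prime] (hp2 : p ≠ 2) (G : Type u) [Group G] [Finite G]
    (P : Sylow p G) (hyp : Hyp p jaFunctor centerFunctor G P) (hS : Struct p G P) : False := by
  have hst : ∀ (V : Subgroup G) [V.Normal], IsPGroup p V → Cfsg.IsPStableOn p V :=
    fun V _ hV => hS.isPStableOn hp2 V hV
  haveI hchar := Cfsg.Agent.Lead.ZJ.zj_abelian hp2 hS.cent_le hst P
  have hNJ := struct_normalizer_ja hS hyp
  have hCZ := struct_centralizer_center hS hyp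
  obtain ⟨C, hC⟩ : ∃ C, C = Subgroup.centralizer
      (Cfsg.centerThompsonAOf (P : Subgroup G) : Set G) := ⟨_, rfl⟩
  haveI hCn : C.Normal := by rw [hC]; infer_instance
  have hJC : Cfsg.thompsonSubgroupAOf (P : Subgroup G) ≤ C := by
    rw [hC]
    intro x hx
    rw [Subgroup.mem_centralizer_iff]
    intro z hz
    exact (Subgroup.mem_centralizer_iff.1 hz.2 x hx).symm
  have hCP : C ≤ (P : Subgroup G) := by
    rw [← hCZ, hC]
    exact Subgroup.centralizer_le (center_le_centerThompsonAOf (P : Subgroup G))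
  have hJP : Cfsg.thompsonSubgroupAOf (P : Subgroup G) ≤ P := by
    rw [← jaFunctor_of]; exact jaFunctor.of_le _
  have htop : (P : Subgroup G) = ⊤ := by
    rw [eq_top_iff]
    intro g _
    obtain ⟨n, hn, c, hc, rfl⟩ := Cfsg.Agent.Lead.Fusion.frattini_decomp p P C g
    have h1 := jaFunctor.normalizer_le ((P : Subgroup G) ⊓ C) hn
    rw [jaFunctor_of, thompsonSubgroupAOf_eq_of_le inf_le_left (le_inf hJP hJC), hNJ] at h1
    exact (P : Subgroup G).mul_mem h1 (hCP hc)
  exact hS.not_nilp (hasNormalPComplement_of_sylow_eq_top P htop)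

end TN

end Cfsg.Agent.Helper1
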