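import Mathlib
import Cfsg.Prelude.Def_PLocal
import Cfsg.Prelude.Def_LocalEven
import Cfsg.Agent.Helper1.TNa
import Cfsg.Agent.Helper1.QuadFreeA

set_option autoImplicit false

/-!
Glauberman's weak closure theorem: the hypothesis on a pair `(S, x)` and its transport.
-/

namespace Cfsg.Agent.Helper1

namespace GW

open Cfsg.Agent.Helper1.TN Cfsg.Agent.Helper1.ThompsonRed

universe u

/-- The hypothesis of the weak closure theorem on `(S, x)`. -/
structure Hyp (p : ℕ) {G : Type u} [Group G] (S : Subgroup G) (x : G) : Prop where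
  mem : x ∈ S
  nj : ∀ n ∈ Subgroup.normalizer (Cfsg.thompsonSubgroupAOf S : Set G), n * x = x * n
  alt : p ≠ 2 ∨ (∃ z ∈ S, (∀ s ∈ S, s * z = z * s) ∧ z ^ p = x) ∨
    ¬ Cfsg.Involves (Equiv.Perm (Fin 4)) G

/-- `x` is weakly closed in `S`. -/
def WC {G : Type u} [Group G] (S : Subgroup G) (x : G) : Prop :=
  ∀ g : G, g * x * g⁻¹ ∈ S → g * x * g⁻¹ = x

/-- The weak closure theorem for the group `G`. -/
def PW (p : ℕ) (G : Type u) [Group G] : Prop :=
  ∀ (S : Sylow p G) (x : G), Hyp p (S : Subgroup G) x → WC (S : Subgroup G) x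

variable {p : ℕ} {G : Type u} [Group G]

theorem le_normalizer_ja (S : Subgroup G) :
    S ≤ Subgroup.normalizer (Cfsg.thompsonSubgroupAOf S : Set G) :=
  Subgroup.le_normalizer.trans (jaFunctor.normalizer_le S)

theorem Hyp.cent {S : Subgroup G} {x : G} (h : Hyp p S x) : ∀ s ∈ S, s * x = x * s :=
  fun s hs => h.nj s (le_normalizer_ja S hs)

theorem hyp_of_local (H : Subgroup G) (R : Subgroup H) (x : H)
    (hx : (x : G) ∈ R.map H.subtype)
    (hnj : ∀ n ∈ Subgroup.normalizer (Cfsg.thompsonSubgroupAOf (R.map H.subtype) : Set G),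
      n ∈ H → n * (x : G) = (x : G) * n)
    (halt : p ≠ 2 ∨ (∃ z ∈ R.map H.subtype, (∀ s ∈ R.map H.subtype, s * z = z * s) ∧
      z ^ p = (x : G)) ∨ ¬ Cfsg.Involves (Equiv.Perm (Fin 4)) G) :
    Hyp p R x := by
  refine ⟨?_, ?_, ?_⟩
  · obtain ⟨y, hy, hyx⟩ := hx
    have : y = x := Subtype.ext hyx
    rw [← this]; exact hy
  · intro n hn
    have h1 : (n : G) ∈ Subgroup.normalizer
        (Cfsg.thompsonSubgroupAOf (R.map H.subtype) : Set G) := by
      have e1 : (Subgroup.normalizer (jaFunctor.of R : Set H)).map H.subtype ≤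
          Subgroup.normalizer (jaFunctor.of (R.map H.subtype) : Set G) := by
        rw [jaFunctor.of_map_of_injective H.subtype H.subtype_injective]
        exact Subgroup.le_normalizer_map _
      exact e1 ⟨n, hn, rfl⟩
    exact Subtype.ext (hnj _ h1 n.2)
  · rcases halt with h | h | h
    · exact Or.inl h
    · right; left
      obtain ⟨z, ⟨z', hz'R, rfl⟩, hzc, hzp⟩ := h
      refine ⟨z', hz'R, ?_, Subtype.ext hzp⟩
      intro s hs
      exact Subtype.ext (hzc _ ⟨s, hs, rfl⟩)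
    · right; right
      intro hinv
      exact h (QuadFree.involves_of_injective H.subtype H.subtype_injective hinv)

theorem Hyp.conj {S : Subgroup G} {x : G} (h : Hyp p S x) (g : G) :
    Hyp p (S.map (MulAut.conj g).toMonoidHom) (g * x * g⁻¹) := by
  refine ⟨⟨x, h.mem, rfl⟩, ?_, ?_⟩
  · intro n hn
    have h1 : Cfsg.thompsonSubgroupAOf (S.map (MulAut.conj g).toMonoidHom) =
        (Cfsg.thompsonSubgroupAOf S).map (MulAut.conj g).toMonoidHom := jaFunctor.of_conj g S
    rw [h1] at hn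
    have h2 : g⁻¹ * n * g⁻¹⁻¹ ∈ Subgroup.normalizer (Cfsg.thompsonSubgroupAOf S : Set G) := by
      rw [Subgroup.mem_normalizer_iff] at hn ⊢
      intro y
      have := hn (g * y * g⁻¹)
      constructor
      · intro hy
        have h3 : g * y * g⁻¹ ∈ (Cfsg.thompsonSubgroupAOf S).map (MulAut.conj g).toMonoidHom :=
          ⟨y, hy, rfl⟩
        obtain ⟨w, hw, hwe⟩ := this.1 h3
        have : g⁻¹ * n * g⁻¹⁻¹ * y * (g⁻¹ * n * g⁻¹⁻¹)⁻¹ = w := by
          have e : (MulAut.conj g).toMonoidHom w = g * w * g⁻¹ := rfl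
          rw [e] at hwe
          calc g⁻¹ * n * g⁻¹⁻¹ * y * (g⁻¹ * n * g⁻¹⁻¹)⁻¹ = g⁻¹ * (n * (g * y * g⁻¹) * n⁻¹) * g := by
                group
            _ = g⁻¹ * (g * w * g⁻¹) * g := by rw [hwe]
            _ = w := by group
        rw [this]; exact hw
      · intro hy
        have h3 : n * (g * y * g⁻¹) * n⁻¹ ∈
            (Cfsg.thompsonSubgroupAOf S).map (MulAut.conj g).toMonoidHom := by
          refine ⟨g⁻¹ * n * g⁻¹⁻¹ * y * (g⁻¹ * n * g⁻¹⁻¹)⁻¹, hy, ?_⟩
          show g * (g⁻¹ * n * g⁻¹⁻¹ * y * (g⁻¹ * n * g⁻¹⁻¹)⁻¹) * g⁻¹ = _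
          group
        obtain ⟨w, hw, hwe⟩ := this.2 h3
        have e : (MulAut.conj g).toMonoidHom w = g * w * g⁻¹ := rfl
        rw [e] at hwe
        have : y = w := by
          have := mul_left_cancel (mul_right_cancel hwe)
          exact this.symm
        rw [this]; exact hw
    have h3 := h.nj _ h2
    calc n * (g * x * g⁻¹) = g * ((g⁻¹ * n * g⁻¹⁻¹) * x) * g⁻¹ := by group
      _ = g * (x * (g⁻¹ * n * g⁻¹⁻¹)) * g⁻¹ := by rw [h3]
      _ = g * x * g⁻¹ * n := by group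
  · rcases h.alt with h1 | h1 | h1
    · exact Or.inl h1
    · right; left
      obtain ⟨z, hzS, hzc, hzp⟩ := h1
      refine ⟨g * z * g⁻¹, ⟨z, hzS, rfl⟩, ?_, ?_⟩
      · rintro _ ⟨s, hs, rfl⟩
        show g * s * g⁻¹ * (g * z * g⁻¹) = g * z * g⁻¹ * (g * s * g⁻¹)
        have := hzc s hs
        calc g * s * g⁻¹ * (g * z * g⁻¹) = g * (s * z) * g⁻¹ := by group
          _ = g * (z * s) * g⁻¹ := by rw [this]
          _ = _ := by group
      · rw [conj_pow, hzp]
    · exact Or.inr (Or.inr h1)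

theorem Hyp.pow {S : Subgroup G} {x : G} (h : Hyp p S x) :
    Hyp p S (x ^ p) := by
  refine ⟨S.pow_mem h.mem p, ?_, ?_⟩
  · intro n hn
    exact (Commute.pow_right (h.nj n hn) p)
  · rcases h.alt with h1 | h1 | h1
    · exact Or.inl h1
    · right; left
      obtain ⟨z, hzS, hzc, hzp⟩ := h1
      refine ⟨z ^ p, S.pow_mem hzS p, ?_, by rw [hzp]⟩
      intro s hs
      exact (Commute.pow_right (hzc s hs) p)
    · exact Or.inr (Or.inr h1)

end GW

end Cfsg.Agent.Helper1
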