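import Mathlib
import Cfsg.Agent.Helper1.GWc
import Cfsg.Agent.Helper1.GWd
import Cfsg.Agent.Helper1.Cores
import Cfsg.Agent.Lead.ConjFamily
import Cfsg.Agent.Lead.SylowLemmas

set_option autoImplicit false

/-!
The generic final step of the weak closure theorem: a conjugation-invariant family of
quadratically acting subgroups whose nontrivial orbit products vanish forces `x` to be central.
-/

namespace Cfsg.Agent.Helper1

namespace GW

open scoped BigOperators

universe u

variable {p : ℕ} {G : Type u} [Group G]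

/-- The conjugacy class of `z` as a finset. -/
noncomputable def conjFinset [Finite G] (z : G) : Finset G :=
  (Set.toFinite (Set.range fun g : G => g * z * g⁻¹)).toFinset

theorem mem_conjFinset [Finite G] {z y : G} : y ∈ conjFinset z ↔ ∃ g : G, g * z * g⁻¹ = y := by
  unfold conjFinset
  rw [Set.Finite.mem_toFinset]
  rfl

theorem self_mem_conjFinset [Finite G] (z : G) : z ∈ conjFinset z :=
  mem_conjFinset.2 ⟨1, by group⟩

theorem conj_mem_conjFinset [Finite G] {z y : G} (hy : y ∈ conjFinset z) (g : G) :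
    g * y * g⁻¹ ∈ conjFinset z := by
  obtain ⟨h, rfl⟩ := mem_conjFinset.1 hy
  exact mem_conjFinset.2 ⟨g * h, by group⟩

/-- The number of conjugates is the index of the centralizer. -/
theorem card_conjFinset [Finite G] (z : G) :
    (conjFinset z).card = (Subgroup.centralizer ({z} : Set G)).index := by
  classical
  let C := Subgroup.centralizer ({z} : Set G)
  let q : G ⧸ C → G := Quotient.lift (fun g : G => g * z * g⁻¹) (by
    intro a b hab
    have h1 : a⁻¹ * b ∈ C := QuotientGroup.leftRel_apply.1 hab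
    have h2 := conj_eq_iff_mem_centralizer.2 h1
    show a * z * a⁻¹ = b * z * b⁻¹
    calc a * z * a⁻¹ = a * (a⁻¹ * b * z * (a⁻¹ * b)⁻¹) * a⁻¹ := by rw [h2]
      _ = b * z * b⁻¹ := by group)
  have hq : Function.Injective q := by
    intro a b
    refine Quotient.inductionOn₂ a b ?_
    intro a b hab
    apply Quotient.sound
    apply QuotientGroup.leftRel_apply.2
    apply conj_eq_iff_mem_centralizer.1
    have h1 : a * z * a⁻¹ = b * z * b⁻¹ := hab
    calc a⁻¹ * b * z * (a⁻¹ * b)⁻¹ = a⁻¹ * (b * z * b⁻¹) * a := by group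
      _ = a⁻¹ * (a * z * a⁻¹) * a := by rw [h1]
      _ = z := by group
  have hrange : Set.range q = Set.range fun g : G => g * z * g⁻¹ := by
    ext y
    constructor
    · rintro ⟨a, rfl⟩
      refine Quotient.inductionOn a ?_
      intro a
      exact ⟨a, rfl⟩
    · rintro ⟨g, rfl⟩
      exact ⟨Quotient.mk _ g, rfl⟩
  have h1 : Nat.card (G ⧸ C) = Nat.card (Set.range q) :=
    Nat.card_congr (Equiv.ofInjective q hq)
  show (conjFinset z).card = Nat.card (G ⧸ C)
  rw [h1, hrange, Nat.card_coe_set_eq, Set.ncard_eq_toFinset_card _ (Set.toFinite _)]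
  rfl

open Classical in
/-- Extension of a function on a subgroup by the value one. -/
noncomputable def ext1 {V : Subgroup G} {W : Type*} [One W] (F : ↥V → W) (g : G) : W :=
  if h : g ∈ V then F ⟨g, h⟩ else 1

theorem ext1_of_mem {V : Subgroup G} {W : Type*} [One W] (F : ↥V → W) {g : G} (h : g ∈ V) :
    ext1 F g = F ⟨g, h⟩ := by
  unfold ext1
  rw [dif_pos h]

theorem ext1_mul {V : Subgroup G} {W : Type*} [CommGroup W] (F : ↥V →* W) :
    ∀ u ∈ V, ∀ v ∈ V, ext1 F (u * v) = ext1 F u * ext1 F v := by
  intro u hu v hv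
  rw [ext1_of_mem _ hu, ext1_of_mem _ hv, ext1_of_mem _ (V.mul_mem hu hv), ← map_mul]
  rfl

theorem ofAdd_one_pow (p n : ℕ) :
    (Multiplicative.ofAdd (1 : ZMod p)) ^ n = Multiplicative.ofAdd (n : ZMod p) := by
  rw [← ofAdd_nsmul]
  simp

end GW

end Cfsg.Agent.Helper1
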