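import Mathlib
import Cfsg.Agent.Helper1.GWe

set_option autoImplicit false

/-!
The generic final step of the weak closure theorem.
-/

namespace Cfsg.Agent.Helper1

namespace GW

open scoped BigOperators
open Cfsg.Agent.Lead

universe u

variable {p : ℕ} {G : Type u} [Group G]

/-- Fixed points of `J = ⟨𝒟⟩` in the class of `z` are conjugates of `z` under `N_G(J)`. -/
theorem fix_subset_conj_normalizer [Finite G] [hp : Fact p.Prime] (S : Sylow p G) (z : G)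
    (hzS : ∀ s ∈ (S : Subgroup G), s * z = z * s)
    (Pr : Subgroup G → Prop)
    (hPrconj : ∀ A g, Pr A → Pr (A.map (MulAut.conj g).toMonoidHom))
    (y : G) (hy : y ∈ conjFinset z)
    (hJy : ∀ a ∈ sSup {A : Subgroup G | A ≤ (S : Subgroup G) ∧ Pr A}, a * y * a⁻¹ = y) :
    ∃ n ∈ Subgroup.normalizer
      ((sSup {A : Subgroup G | A ≤ (S : Subgroup G) ∧ Pr A} : Subgroup G) : Set G),
      n * z * n⁻¹ = y := by
  obtain ⟨J, hJ⟩ : ∃ J, J = sSup {A : Subgroup G | A ≤ (S : Subgroup G) ∧ Pr A} := ⟨_, rfl⟩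
  rw [← hJ] at hJy ⊢
  have hJS : J ≤ (S : Subgroup G) := by
    rw [hJ]; exact sSup_le (fun A hA => hA.1)
  have hJp : IsPGroup p J := S.2.to_le hJS
  obtain ⟨g, rfl⟩ := mem_conjFinset.1 hy
  obtain ⟨My, hMy⟩ : ∃ My, My = Subgroup.centralizer ({g * z * g⁻¹} : Set G) := ⟨_, rfl⟩
  have hJM : J ≤ My := hMy ▸ fix_iff_le_centralizer.1 hJy
  obtain ⟨Sg, hSg⟩ : ∃ Sg, Sg = (S : Subgroup G).map (MulAut.conj g).toMonoidHom := ⟨_, rfl⟩
  have hSgM : Sg ≤ My := by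
    rw [hSg, hMy]
    rintro _ ⟨s, hs, rfl⟩
    apply conj_eq_iff_mem_centralizer.1
    show g * s * g⁻¹ * (g * z * g⁻¹) * (g * s * g⁻¹)⁻¹ = g * z * g⁻¹
    have := hzS s hs
    calc g * s * g⁻¹ * (g * z * g⁻¹) * (g * s * g⁻¹)⁻¹ = g * (s * z) * s⁻¹ * g⁻¹ := by group
      _ = g * (z * s) * s⁻¹ * g⁻¹ := by rw [this]
      _ = g * z * g⁻¹ := by group
  have hSgp : IsPGroup p Sg := hSg ▸ S.2.map _
  have hcard : Nat.card Sg = p ^ (Nat.card My).factorization p := by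
    apply card_eq_ppart_of_relIndex hSgM hSgp
    intro hdvd
    have h1 : Sg.relIndex My ∣ Sg.index := Subgroup.relIndex_dvd_index_of_le hSgM
    have h2 : Sg.index = (S : Subgroup G).index := by
      rw [hSg]
      have : (S : Subgroup G).map (MulAut.conj g).toMonoidHom =
          ((MulAut.conj g • S : Sylow p G) : Subgroup G) := rfl
      rw [this]
      have h3 := (MulAut.conj g • S : Sylow p G).card_eq_multiplicity
      have h4 := S.card_eq_multiplicity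
      have h5 := ((MulAut.conj g • S : Sylow p G) : Subgroup G).card_mul_index
      have h6 := (S : Subgroup G).card_mul_index
      rw [h3] at h5
      rw [h4] at h6
      have hpos : 0 < p ^ (Nat.card G).factorization p := pow_pos hp.out.pos _
      exact Nat.eq_of_mul_eq_mul_left hpos (h5.trans h6.symm)
    rw [h2] at h1
    exact S.not_dvd_index (hdvd.trans h1)
  obtain ⟨m, hmM, hmJ⟩ := exists_conj_le_of_card_eq_ppart hSgM hcard hJM hJp
  refine ⟨m⁻¹ * g, ?_, ?_⟩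
  · have hle : J ≤ J.map (MulAut.conj (m⁻¹ * g)).toMonoidHom := by
      conv_lhs => rw [hJ]
      apply sSup_le
      rintro A ⟨hAS, hAPr⟩
      have hAJ : A ≤ J := hJ ▸ le_sSup ⟨hAS, hAPr⟩
      have hA' : A.map (MulAut.conj (m⁻¹ * g)⁻¹).toMonoidHom ≤ (S : Subgroup G) := by
        rintro _ ⟨a, ha, rfl⟩
        have h1 : m * a * m⁻¹ ∈ Sg := hmJ ⟨a, hAJ ha, rfl⟩
        rw [hSg] at h1
        obtain ⟨s, hs, hse⟩ := h1
        have e : (MulAut.conj g).toMonoidHom s = g * s * g⁻¹ := rfl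
        rw [e] at hse
        show (m⁻¹ * g)⁻¹ * a * (m⁻¹ * g)⁻¹⁻¹ ∈ (S : Subgroup G)
        have : (m⁻¹ * g)⁻¹ * a * (m⁻¹ * g)⁻¹⁻¹ = s := by
          calc (m⁻¹ * g)⁻¹ * a * (m⁻¹ * g)⁻¹⁻¹ = g⁻¹ * (m * a * m⁻¹) * g := by group
            _ = g⁻¹ * (g * s * g⁻¹) * g := by rw [hse]
            _ = s := by group
        rw [this]; exact hs
      have h2 : A.map (MulAut.conj (m⁻¹ * g)⁻¹).toMonoidHom ≤ J :=
        hJ ▸ le_sSup ⟨hA', hPrconj A _ hAPr⟩
      intro a ha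
      refine ⟨(m⁻¹ * g)⁻¹ * a * (m⁻¹ * g)⁻¹⁻¹, h2 ⟨a, ha, rfl⟩, ?_⟩
      show (m⁻¹ * g) * ((m⁻¹ * g)⁻¹ * a * (m⁻¹ * g)⁻¹⁻¹) * (m⁻¹ * g)⁻¹ = a
      group
    have heq : J = J.map (MulAut.conj (m⁻¹ * g)).toMonoidHom :=
      Subgroup.eq_of_le_of_card_ge hle
        (by rw [Subgroup.card_map_of_injective (MulAut.conj (m⁻¹ * g)).injective])
    exact Subgroup.mem_normalizer_iff_map_conj_eq.2 heq.symm
  · have h1 : m⁻¹ ∈ Subgroup.centralizer ({g * z * g⁻¹} : Set G) := hMy ▸ My.inv_mem hmM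
    have h2 := conj_eq_iff_mem_centralizer.2 h1
    calc m⁻¹ * g * z * (m⁻¹ * g)⁻¹ = m⁻¹ * (g * z * g⁻¹) * m⁻¹⁻¹ := by group
      _ = g * z * g⁻¹ := h2

end GW

end Cfsg.Agent.Helper1
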