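import Mathlib
import Cfsg.Agent.Helper1.GWf

set_option autoImplicit false

/-!
The generic final step of the weak closure theorem (continued).
-/

namespace Cfsg.Agent.Helper1

namespace GW

open scoped BigOperators
open Cfsg.Agent.Lead

universe u

variable {p : ℕ} {G : Type u} [Group G]

/-- The product of the conjugates of `z` (inside the abelian normal subgroup `V`) is a central
element whose image under `F` is the product of the images. -/
theorem exists_central_prod [Finite G] (V : Subgroup G) [hVn : V.Normal]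
    (hVc : ∀ u ∈ V, ∀ v ∈ V, u * v = v * u) (z : G) (hzV : z ∈ V)
    {W : Type*} [CommGroup W] (F : ↥V →* W) :
    ∃ w : V, (w : G) ∈ Subgroup.center G ∧ F w = ∏ y ∈ conjFinset z, ext1 F y := by
  classical
  letI : CommGroup ↥V :=
    { (inferInstance : Group ↥V) with
      mul_comm := fun a b => Subtype.ext (hVc a a.2 b b.2) }
  haveI : Fintype ↥V := Fintype.ofFinite _
  let Ωv : Finset ↥V := Finset.univ.filter (fun v => (v : G) ∈ conjFinset z)
  refine ⟨∏ v ∈ Ωv, v, ?_, ?_⟩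
  · rw [Subgroup.mem_center_iff]
    intro g
    have h1 : (MulAut.conjNormal g : ↥V ≃* ↥V) (∏ v ∈ Ωv, v) = ∏ v ∈ Ωv, v := by
      rw [map_prod]
      apply Finset.prod_bij (fun v _ => (MulAut.conjNormal g : ↥V ≃* ↥V) v)
      · intro v hv
        simp only [Ωv, Finset.mem_filter, Finset.mem_univ, true_and] at hv ⊢
        rw [MulAut.conjNormal_apply]
        exact conj_mem_conjFinset hv g
      · intro a _ b _ hab
        exact (MulAut.conjNormal g : ↥V ≃* ↥V).injective hab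
      · intro b hb
        simp only [Ωv, Finset.mem_filter, Finset.mem_univ, true_and] at hb
        refine ⟨(MulAut.conjNormal g : ↥V ≃* ↥V).symm b, ?_, by simp⟩
        simp only [Ωv, Finset.mem_filter, Finset.mem_univ, true_and]
        rw [MulAut.conjNormal_symm_apply]
        have := conj_mem_conjFinset hb g⁻¹
        rwa [inv_inv] at this
      · intro v _
        rfl
    have h2 := congrArg Subtype.val h1
    rw [MulAut.conjNormal_apply] at h2
    calc g * ((∏ v ∈ Ωv, v : ↥V) : G) = (g * ((∏ v ∈ Ωv, v : ↥V) : G) * g⁻¹) * g := by group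
      _ = ((∏ v ∈ Ωv, v : ↥V) : G) * g := by rw [h2]
  · rw [map_prod]
    apply Finset.prod_bij (fun (v : ↥V) _ => (v : G))
    · intro v hv
      simp only [Ωv, Finset.mem_filter, Finset.mem_univ, true_and] at hv
      exact hv
    · intro a _ b _ hab
      exact Subtype.ext hab
    · intro y hy
      obtain ⟨g, rfl⟩ := mem_conjFinset.1 hy
      refine ⟨⟨g * z * g⁻¹, hVn.conj_mem z hzV g⟩, ?_, rfl⟩
      simp only [Ωv, Finset.mem_filter, Finset.mem_univ, true_and]
      exact hy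
    · intro v _
      rw [ext1_of_mem _ v.2]

open Classical in
/-- The generic final step. -/
theorem final_of_family [Finite G] [hp : Fact p.Prime] (S : Sylow p G) (x z : G) (e : ℕ)
    (hover : ∀ H : Subgroup G, (S : Subgroup G) ≤ H → H ≠ ⊤ →
      H ≤ Subgroup.centralizer ({x} : Set G))
    (V : Subgroup G) [hVn : V.Normal] (hVc : ∀ u ∈ V, ∀ v ∈ V, u * v = v * u)
    (hQV : Cfsg.pCore p G ≤ Subgroup.centralizer (V : Set G))
    (hzV : z ∈ V) (hzS : ∀ s ∈ (S : Subgroup G), s * z = z * s) (hze : z ^ e = x)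
    (hxS : x ∈ (S : Subgroup G))
    (Z₀ : Subgroup G) (hZ₀ : Z₀ ≤ Subgroup.center G)
    {W : Type*} [CommGroup W] (F : ↥V →* W) (hF : ∀ v : V, F v = 1 ↔ (v : G) ^ e ∈ Z₀)
    (Pr : Subgroup G → Prop)
    (hPrconj : ∀ A g, Pr A → Pr (A.map (MulAut.conj g).toMonoidHom))
    (hPrq : ∀ A, Pr A → Quad V A)
    (hPrex : ∃ A, A ≤ (S : Subgroup G) ∧ Pr A ∧ ¬ A ≤ Subgroup.centralizer (V : Set G))
    (horb : ∀ A, A ≤ (S : Subgroup G) → Pr A → ∀ y ∈ conjFinset z,
      (∃ a ∈ A, a * y * a⁻¹ ≠ y) →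
      ∏ y' ∈ (conjFinset z).filter (fun y' => ∃ a ∈ A, a * y * a⁻¹ = y'), ext1 F y' = 1) :
    x ∈ Subgroup.center G := by
  obtain ⟨𝒟, h𝒟⟩ : ∃ 𝒟 : Set (Subgroup G), 𝒟 = {A | A ≤ (S : Subgroup G) ∧ Pr A} := ⟨_, rfl⟩
  obtain ⟨J, hJ⟩ : ∃ J, J = sSup 𝒟 := ⟨_, rfl⟩
  have hJS : J ≤ (S : Subgroup G) := by
    rw [hJ, h𝒟]; exact sSup_le (fun A hA => hA.1)
  have hJp : IsPGroup p J := S.2.to_le hJS
  have hmapS : ∀ A : Subgroup G, A ≤ (S : Subgroup G) → ∀ s ∈ (S : Subgroup G),
      A.map (MulAut.conj s).toMonoidHom ≤ (S : Subgroup G) := by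
    rintro A hA s hs _ ⟨a, ha, rfl⟩
    exact (S : Subgroup G).mul_mem ((S : Subgroup G).mul_mem hs (hA ha)) ((S : Subgroup G).inv_mem hs)
  have hconj : ∀ A ∈ 𝒟, ∀ s ∈ J, A.map (MulAut.conj s).toMonoidHom ∈ 𝒟 := by
    intro A hA s hs
    rw [h𝒟] at hA ⊢
    exact ⟨hmapS A hA.1 s (hJS hs), hPrconj A s hA.2⟩
  have hzΩ : ∀ y ∈ conjFinset z, y ∈ V := by
    intro y hy
    obtain ⟨g, rfl⟩ := mem_conjFinset.1 hy
    exact hVn.conj_mem z hzV g
  -- the trace lemma for `F`
  have h1 := trace_lemma (p := p) (ext1 F) (conjFinset z) 𝒟 J hJ hJp hconj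
    (fun A hA y hy hne => by
      rw [h𝒟] at hA
      exact horb A hA.1 hA.2 y hy hne)
  -- the trace lemma for the counting function
  have h2 := trace_lemma (p := p) (fun _ : G => Multiplicative.ofAdd (1 : ZMod p)) (conjFinset z)
    𝒟 J hJ hJp hconj (fun A hA y hy hne => by
      rw [h𝒟] at hA
      have hq := hPrq A hA.2
      have hAp : IsPGroup p A := S.2.to_le hA.1
      rw [Finset.prod_const, orbit_card hVc hq (conjFinset z)
        (fun a _ y hy => conj_mem_conjFinset hy a) y hy (hzΩ y hy), ofAdd_one_pow]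
      obtain ⟨k, hk⟩ := IsPGroup.iff_card.1 (kap_range_isPGroup hVc hq hAp y (hzΩ y hy))
      have hlt := one_lt_card_kap_range hVc hq y (hzΩ y hy) hne
      rw [hk] at hlt ⊢
      have hk0 : k ≠ 0 := by
        rintro rfl
        simp at hlt
      have : ((p ^ k : ℕ) : ZMod p) = 0 := by
        rw [ZMod.natCast_eq_zero_iff]
        exact dvd_pow_self p hk0
      rw [this]
      rfl)
  rw [Finset.prod_const, Finset.prod_const, ofAdd_one_pow, ofAdd_one_pow] at h2
  have h2' : ((conjFinset z).card : ZMod p) =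
      (((conjFinset z).filter (fun y => ∀ a ∈ J, a * y * a⁻¹ = y)).card : ZMod p) :=
    Multiplicative.ofAdd.injective h2
  -- `p` does not divide the number of conjugates
  have hcop : ¬ p ∣ (conjFinset z).card := by
    rw [card_conjFinset]
    intro hdvd
    have hSC : (S : Subgroup G) ≤ Subgroup.centralizer ({z} : Set G) := by
      intro s hs
      apply conj_eq_iff_mem_centralizer.1
      rw [hzS s hs]; group
    exact S.not_dvd_index (hdvd.trans (Subgroup.index_dvd_of_le hSC))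
  have hk : (((conjFinset z).filter (fun y => ∀ a ∈ J, a * y * a⁻¹ = y)).card).Coprime p := by
    rw [Nat.coprime_comm, Nat.Prime.coprime_iff_not_dvd hp.out]
    intro hdvd
    apply hcop
    rw [← ZMod.natCast_eq_zero_iff] at hdvd ⊢
    rw [h2', hdvd]
  -- `S` normalizes `J`
  have hSN : (S : Subgroup G) ≤ Subgroup.normalizer (J : Set G) := by
    intro s hs
    have hle : ∀ t ∈ (S : Subgroup G), J.map (MulAut.conj t).toMonoidHom ≤ J := by
      intro t ht
      rw [Subgroup.map_le_iff_le_comap]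
      conv_lhs => rw [hJ]
      apply sSup_le
      intro A hA
      rw [← Subgroup.map_le_iff_le_comap, hJ]
      apply le_sSup
      rw [h𝒟] at hA ⊢
      exact ⟨hmapS A hA.1 t ht, hPrconj A t hA.2⟩
    apply Subgroup.mem_normalizer_iff_map_conj_eq.2
    exact Subgroup.eq_of_le_of_card_ge (hle s hs)
      (by rw [Subgroup.card_map_of_injective (MulAut.conj s).injective])
  have hNtop : Subgroup.normalizer (J : Set G) ≠ ⊤ := by
    intro htop
    have hJn : J.Normal := Subgroup.normalizer_eq_top_iff.1 htop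
    have h3 : J ≤ Cfsg.pCore p G := le_pCore hJn hJp
    obtain ⟨A, hAS, hAPr, hAC⟩ := hPrex
    apply hAC
    have : A ≤ J := by
      rw [hJ]; apply le_sSup; rw [h𝒟]; exact ⟨hAS, hAPr⟩
    exact this.trans (h3.trans hQV)
  have hNM := hover _ hSN hNtop
  -- values on the fixed points
  have hval : ∀ y ∈ (conjFinset z).filter (fun y => ∀ a ∈ J, a * y * a⁻¹ = y),
      ext1 F y = F ⟨z, hzV⟩ := by
    intro y hy
    rw [Finset.mem_filter] at hy
    obtain ⟨hyΩ, hyJ⟩ := hy
    have hyJ' : ∀ a ∈ sSup {A : Subgroup G | A ≤ (S : Subgroup G) ∧ Pr A}, a * y * a⁻¹ = y := by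
      rw [← h𝒟, ← hJ]; exact hyJ
    obtain ⟨n, hn, rfl⟩ := fix_subset_conj_normalizer S z hzS Pr hPrconj y hyΩ hyJ'
    rw [← h𝒟, ← hJ] at hn
    have hnx := conj_eq_iff_mem_centralizer.2 (hNM hn)
    have hnV : n * z * n⁻¹ ∈ V := hVn.conj_mem z hzV n
    rw [ext1_of_mem _ hnV]
    rw [← mul_inv_eq_one, ← map_inv, ← map_mul, hF]
    show (n * z * n⁻¹ * z⁻¹) ^ e ∈ Z₀
    have hcomm : Commute (n * z * n⁻¹) z⁻¹ := by
      have := hVc _ hnV _ (V.inv_mem hzV)
      exact this
    rw [hcomm.mul_pow, conj_pow, inv_pow, hze, hnx, mul_inv_cancel]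
    exact Z₀.one_mem
  rw [Finset.prod_congr rfl hval, Finset.prod_const] at h1
  -- the central product
  obtain ⟨w, hwc, hwF⟩ := exists_central_prod V hVc z hzV F
  rw [h1] at hwF
  obtain ⟨k, hk'⟩ : ∃ k, k = ((conjFinset z).filter (fun y => ∀ a ∈ J, a * y * a⁻¹ = y)).card :=
    ⟨_, rfl⟩
  rw [← hk'] at hwF hk
  have h3 : F (w * (⟨z, hzV⟩ ^ k)⁻¹) = 1 := by
    rw [map_mul, map_inv, map_pow, hwF, mul_inv_cancel]
  rw [hF] at h3
  have h4 : ((w * (⟨z, hzV⟩ ^ k)⁻¹ : V) : G) = (w : G) * (z ^ k)⁻¹ := rfl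
  rw [h4] at h3
  have hcomm : Commute (w : G) (z ^ k)⁻¹ :=
    hVc _ w.2 _ (V.inv_mem (V.pow_mem hzV k))
  rw [hcomm.mul_pow, inv_pow, ← pow_mul, mul_comm k e, pow_mul, hze] at h3
  -- `x ^ k` is central
  have hwe : (w : G) ^ e ∈ Subgroup.center G := Subgroup.pow_mem _ hwc e
  have hxk : x ^ k ∈ Subgroup.center G := by
    have h5 := Subgroup.mul_mem _ (Subgroup.inv_mem _ (hZ₀ h3)) hwe
    have e1 : ((w : G) ^ e * (x ^ k)⁻¹)⁻¹ * (w : G) ^ e = x ^ k := by group
    rwa [e1] at h5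
  -- `x` is a power of `x ^ k`
  obtain ⟨j, hj⟩ := S.2 ⟨x, hxS⟩
  have hord : orderOf x ∣ p ^ j := by
    apply orderOf_dvd_of_pow_eq_one
    have := congrArg Subtype.val hj
    simpa using this
  have hcop2 : k.Coprime (orderOf x) :=
    Nat.Coprime.coprime_dvd_right hord (Nat.Coprime.pow_right j hk)
  obtain ⟨m, hm⟩ := exists_pow_eq_self_of_coprime hcop2
  rw [← hm]
  exact Subgroup.pow_mem _ hxk m

end GW

end Cfsg.Agent.Helper1
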