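import Mathlib
import Cfsg.Agent.Helper1.GWg
import Cfsg.Agent.Helper1.Card
import Cfsg.Agent.Lead.GlaubRepl2

set_option autoImplicit false

/-!
The reduced setting of the weak closure theorem: `x ∈ O_p(G)`, the theorem holds in all proper
subgroups.
-/

namespace Cfsg.Agent.Helper1

namespace GW

open scoped BigOperators
open Cfsg.Agent.Lead Cfsg.Agent.Lead.ZJ Cfsg.Agent.Lead.GR Cfsg.Agent.Helper1.TN

universe u

variable {p : ℕ} {G : Type u} [Group G]

/-- Frattini argument for `S ∩ M` with `M` normal. -/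
theorem frattini_sylow_inf [Finite G] [hp : Fact p.Prime] (S : Sylow p G) (M : Subgroup G)
    [hMn : M.Normal] :
    Subgroup.normalizer (((S : Subgroup G) ⊓ M : Subgroup G) : Set G) ⊔ M = ⊤ := by
  have hpM : IsPGroup p ((S : Subgroup G).subgroupOf M) := S.2.comap_subtype
  have hidx : ¬ p ∣ ((S : Subgroup G).subgroupOf M).index := by
    intro hd
    have h2 : (S : Subgroup G).relIndex M ∣ (S : Subgroup G).index :=
      relIndex_dvd_index_of_normalizes (by rw [Subgroup.normalizer_eq_top]; exact le_top)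
    exact S.not_dvd_index (hd.trans h2)
  have h3 := Sylow.normalizer_sup_eq_top (hpM.toSylow hidx)
  rw [IsPGroup.toSylow_coe, Subgroup.subgroupOf_map_subtype] at h3
  exact h3

/-- `S` normalizes `S ∩ M` for `M` normal. -/
theorem le_normalizer_inf_normal (S M : Subgroup G) [hMn : M.Normal] :
    S ≤ Subgroup.normalizer ((S ⊓ M : Subgroup G) : Set G) := by
  intro s hs
  rw [Subgroup.mem_normalizer_iff]
  intro h
  constructor
  · rintro ⟨h1, h2⟩
    exact ⟨S.mul_mem (S.mul_mem hs h1) (S.inv_mem hs), hMn.conj_mem h h2 s⟩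
  · rintro ⟨h1, h2⟩
    refine ⟨?_, ?_⟩
    · have := S.mul_mem (S.mul_mem (S.inv_mem hs) h1) hs
      have e : s⁻¹ * (s * h * s⁻¹) * s = h := by group
      rwa [e] at this
    · have := hMn.conj_mem _ h2 s⁻¹
      have e : s⁻¹ * (s * h * s⁻¹) * s⁻¹⁻¹ = h := by group
      rwa [e] at this

/-- In the reduced setting every proper subgroup containing `S` centralizes `x`. -/
theorem over_le [Finite G] [hp : Fact p.Prime] (ih : ∀ H : Subgroup G, H ≠ ⊤ → PW p ↥H)
    (S : Sylow p G) (x : G) (hyp : Hyp p (S : Subgroup G) x) (hxQ : x ∈ Cfsg.pCore p G) :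
    ∀ H : Subgroup G, (S : Subgroup G) ≤ H → H ≠ ⊤ →
      H ≤ Subgroup.centralizer ({x} : Set G) := by
  intro H hSH hH h hh
  apply conj_eq_iff_mem_centralizer.1
  have hmap : ((S : Subgroup G).subgroupOf H).map H.subtype = (S : Subgroup G) := by
    rw [Subgroup.subgroupOf_map_subtype, inf_eq_left.2 hSH]
  have hyp' : Hyp p ((S.subtype hSH : Sylow p H) : Subgroup H) ⟨x, hSH hyp.mem⟩ := by
    rw [Sylow.coe_subtype]
    apply hyp_of_local
    · rw [hmap]; exact hyp.mem
    · rw [hmap]
      intro n hn _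
      exact hyp.nj n hn
    · rw [hmap]
      exact hyp.alt
  have hwc := ih H hH (S.subtype hSH) ⟨x, hSH hyp.mem⟩ hyp' ⟨h, hh⟩
  have hQn : (Cfsg.pCore p G).Normal := pCore_normal p
  have hmem : h * x * h⁻¹ ∈ (S : Subgroup G) :=
    pCore_le_sylow S (hQn.conj_mem x hxQ h)
  have h1 := hwc (by
    rw [Sylow.coe_subtype, Subgroup.mem_subgroupOf]
    exact hmem)
  exact congrArg Subtype.val h1

/-- The normal closure of a central element of `S` lying in `O_p(G)`. -/
theorem normalClosure_facts [Finite G] [hp : Fact p.Prime] (S : Sylow p G) (z : G)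
    (hzS : ∀ s ∈ (S : Subgroup G), s * z = z * s) (hzQ : z ∈ Cfsg.pCore p G) :
    (∀ u ∈ Subgroup.normalClosure ({z} : Set G), ∀ v ∈ Subgroup.normalClosure ({z} : Set G),
      u * v = v * u) ∧
    Subgroup.normalClosure ({z} : Set G) ≤ Cfsg.pCore p G ∧
    Cfsg.pCore p G ≤ Subgroup.centralizer ((Subgroup.normalClosure ({z} : Set G) : Subgroup G) :
      Set G) := by
  haveI hQn : (Cfsg.pCore p G).Normal := pCore_normal p
  have hQS : Cfsg.pCore p G ≤ (S : Subgroup G) := pCore_le_sylow S
  have hle : Subgroup.normalClosure ({z} : Set G) ≤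
      Cfsg.pCore p G ⊓ Subgroup.centralizer ((Cfsg.pCore p G : Subgroup G) : Set G) := by
    apply Subgroup.normalClosure_le_normal
    intro y hy
    rw [Set.mem_singleton_iff] at hy
    rw [hy]
    refine Subgroup.mem_inf.2 ⟨hzQ, ?_⟩
    rw [Subgroup.mem_centralizer_iff]
    intro q hq
    exact hzS q (hQS hq)
  refine ⟨?_, hle.trans inf_le_left, ?_⟩
  · intro u hu v hv
    have h1 := (Subgroup.mem_inf.1 (hle hv)).2
    rw [Subgroup.mem_centralizer_iff] at h1
    exact h1 u (Subgroup.mem_inf.1 (hle hu)).1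
  · intro q hq
    rw [Subgroup.mem_centralizer_iff]
    intro v hv
    have h1 := (Subgroup.mem_inf.1 (hle hv)).2
    rw [Subgroup.mem_centralizer_iff] at h1
    exact (h1 q hq).symm

/-- In the reduced setting `C_S(O_p(G)) ≤ O_p(G)`. -/
theorem cent_pCore_le [Finite G] [hp : Fact p.Prime] (S : Sylow p G) (x : G)
    (hover : ∀ H : Subgroup G, (S : Subgroup G) ≤ H → H ≠ ⊤ →
      H ≤ Subgroup.centralizer ({x} : Set G))
    (hxQ : x ∈ Cfsg.pCore p G) (hxc : x ∉ Subgroup.center G) :
    (S : Subgroup G) ⊓ Subgroup.centralizer ((Cfsg.pCore p G : Subgroup G) : Set G) ≤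
      Cfsg.pCore p G := by
  haveI hQn : (Cfsg.pCore p G).Normal := pCore_normal p
  obtain ⟨C, hC⟩ : ∃ C, C = Subgroup.centralizer ((Cfsg.pCore p G : Subgroup G) : Set G) :=
    ⟨_, rfl⟩
  haveI hCn : C.Normal := by rw [hC]; infer_instance
  rw [← hC]
  have hfr := frattini_sylow_inf S C
  by_cases hN : Subgroup.normalizer (((S : Subgroup G) ⊓ C : Subgroup G) : Set G) = ⊤
  · have hn : ((S : Subgroup G) ⊓ C).Normal := Subgroup.normalizer_eq_top_iff.1 hN
    exact le_pCore hn (S.2.to_le inf_le_left)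
  · exfalso
    apply hxc
    have h1 := hover _ (le_normalizer_inf_normal (S : Subgroup G) C) hN
    have h2 : C ≤ Subgroup.centralizer ({x} : Set G) := by
      rw [hC]
      apply Subgroup.centralizer_le
      intro y hy
      rw [Set.mem_singleton_iff] at hy
      rw [hy]; exact hxQ
    have h3 : (⊤ : Subgroup G) ≤ Subgroup.centralizer ({x} : Set G) := by
      rw [← hfr]; exact sup_le h1 h2
    rw [Subgroup.mem_center_iff]
    intro g
    have := h3 (Subgroup.mem_top g)
    rw [Subgroup.mem_centralizer_iff] at this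
    exact (this x rfl).symm

end GW

end Cfsg.Agent.Helper1
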