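import Mathlib
import Cfsg.Agent.Helper1.GWh

set_option autoImplicit false

/-!
The reduced setting of the weak closure theorem: a quadratically acting abelian subgroup of
largest order (Thompson replacement).
-/

namespace Cfsg.Agent.Helper1

namespace GW

open scoped BigOperators
open Cfsg.Agent.Lead Cfsg.Agent.Lead.ZJ Cfsg.Agent.Lead.GR Cfsg.Agent.Lead.Alp
  Cfsg.Agent.Helper1.TN

universe u

variable {p : ℕ} {G : Type u} [Group G]

/-- The abelian subgroups of largest order form a class closed under replacement (all `p`). -/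
theorem replClass_ab [Finite G] {P B : Subgroup G} (hBP : B ≤ P) :
    ReplClass p P B ((goodAb G).fam P) where
  le := fun A hA => hA.1
  comm := fun A hA => hA.2.1
  closed := fun A hA b hb A' hle hcomm hcard _ =>
    ⟨hle.trans (sup_le hA.1 (Good.cj_le_of_mem hA.1 (hBP hb))), hcomm,
      fun A'' h1 h2 => hcard ▸ hA.2.2 A'' h1 h2⟩

/-- Some abelian subgroup of `S` of largest order does not centralize `V`. -/
theorem exists_fam_not_le_centralizer [Finite G] [hp : Fact p.Prime] (S : Sylow p G) (x : G)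
    (hnj : ∀ n ∈ Subgroup.normalizer (Cfsg.thompsonSubgroupAOf (S : Subgroup G) : Set G),
      n * x = x * n)
    (hxc : x ∉ Subgroup.center G) (V : Subgroup G) [hVn : V.Normal] (hxV : x ∈ V) :
    ∃ A ∈ (goodAb G).fam (S : Subgroup G), ¬ A ≤ Subgroup.centralizer (V : Set G) := by
  by_contra hcon
  push Not at hcon
  obtain ⟨C, hC⟩ : ∃ C, C = Subgroup.centralizer (V : Set G) := ⟨_, rfl⟩
  haveI hCn : C.Normal := by rw [hC]; infer_instance
  rw [← hC] at hcon
  have hJC : Cfsg.thompsonSubgroupAOf (S : Subgroup G) ≤ (S : Subgroup G) ⊓ C := by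
    rw [thompsonSubgroupAOf_eq_sSup]
    apply sSup_le
    intro A hA
    exact le_inf hA.1 (hcon A hA)
  have h1 := thompsonSubgroupAOf_eq_of_le (inf_le_left : (S : Subgroup G) ⊓ C ≤ S) hJC
  have h2 := jaFunctor.normalizer_le ((S : Subgroup G) ⊓ C)
  rw [jaFunctor_of, h1] at h2
  have hfr := frattini_sylow_inf S C
  apply hxc
  have h3 : Subgroup.normalizer (((S : Subgroup G) ⊓ C : Subgroup G) : Set G) ≤
      Subgroup.centralizer ({x} : Set G) := by
    intro n hn
    apply conj_eq_iff_mem_centralizer.1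
    rw [hnj n (h2 hn)]; group
  have h4 : C ≤ Subgroup.centralizer ({x} : Set G) := by
    rw [hC]
    apply Subgroup.centralizer_le
    intro y hy
    rw [Set.mem_singleton_iff] at hy
    rw [hy]; exact hxV
  have h5 : (⊤ : Subgroup G) ≤ Subgroup.centralizer ({x} : Set G) := by
    rw [← hfr]; exact sup_le h3 h4
  rw [Subgroup.mem_center_iff]
  intro g
  have := h5 (Subgroup.mem_top g)
  rw [Subgroup.mem_centralizer_iff] at this
  exact (this x rfl).symm

/-- Thompson replacement: some abelian subgroup of `S` of largest order acts quadratically and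
nontrivially on the abelian normal subgroup `V`. -/
theorem exists_fam_quad [Finite G] [hp : Fact p.Prime] (S : Sylow p G)
    (V : Subgroup G) [hVn : V.Normal] (hVc : ∀ u ∈ V, ∀ v ∈ V, u * v = v * u)
    (hVS : V ≤ (S : Subgroup G))
    (hex : ∃ A ∈ (goodAb G).fam (S : Subgroup G), ¬ A ≤ Subgroup.centralizer (V : Set G)) :
    ∃ A ∈ (goodAb G).fam (S : Subgroup G), ¬ A ≤ Subgroup.centralizer (V : Set G) ∧
      Quad V A := by
  obtain ⟨A, ⟨hA, hAC⟩, hmax⟩ := Set.exists_max_image
    {A : Subgroup G | A ∈ (goodAb G).fam (S : Subgroup G) ∧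
      ¬ A ≤ Subgroup.centralizer (V : Set G)}
    (fun A => Nat.card (A ⊓ V : Subgroup G)) (Set.toFinite _) (by
      obtain ⟨A, hA, hAC⟩ := hex
      exact ⟨A, hA, hAC⟩)
  have hVN : V ≤ Subgroup.normalizer (A : Set G) := by
    by_contra hnot
    have hC : ReplClass p (S : Subgroup G) V ((goodAb G).fam (S : Subgroup G)) :=
      replClass_ab hVS
    have hSV : (S : Subgroup G) ≤ Subgroup.normalizer (V : Set G) := by
      rw [Subgroup.normalizer_eq_top]; exact le_top
    have hVV : ⁅V, V⁆ ≤ A := by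
      have : ⁅V, V⁆ = ⊥ := by
        rw [Subgroup.commutator_eq_bot_iff_le_centralizer]
        intro v hv
        rw [Subgroup.mem_centralizer_iff]
        intro w hw
        exact hVc w hw v hv
      rw [this]; exact bot_le
    obtain ⟨A', hA', -, hlt, hlt2, -⟩ := hC.step S.2 hVS hSV (fun _ => hVc) hA hVV hnot
    have hA'C : A' ≤ Subgroup.centralizer (V : Set G) := by
      by_contra hA'C
      have h1 := hmax A' ⟨hA', hA'C⟩
      have h2 := card_lt_card_of_lt hlt
      omega
    -- then `V ≤ A'`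
    have hcomm : ∀ x ∈ A' ⊔ V, ∀ y ∈ A' ⊔ V, x * y = y * x := by
      apply comm_sup hA'.2.1 hVc
      intro a ha v hv
      have := hA'C ha
      rw [Subgroup.mem_centralizer_iff] at this
      exact (this v hv).symm
    have h3 := hA'.2.2 (A' ⊔ V) (sup_le hA'.1 hVS) hcomm
    have h4 : A' = A' ⊔ V := Subgroup.eq_of_le_of_card_ge le_sup_left h3
    have h5 : V ≤ A' := h4 ▸ le_sup_right
    have h6 : A' ⊓ V = V := inf_eq_right.2 h5
    rw [h6] at hlt2
    exact lt_irrefl _ hlt2
  refine ⟨A, hA, hAC, ?_⟩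
  intro v hv a ha b hb
  have h1 : v * a⁻¹ * v⁻¹ ∈ A :=
    (Subgroup.mem_normalizer_iff.1 (hVN hv) a⁻¹).1 (A.inv_mem ha)
  have h2 : a * v * a⁻¹ * v⁻¹ ∈ A := by
    have := A.mul_mem ha h1
    have e : a * (v * a⁻¹ * v⁻¹) = a * v * a⁻¹ * v⁻¹ := by group
    rwa [e] at this
  exact hA.2.1 b hb _ h2

/-- A homomorphism on the abelian group `V` with kernel `{v | v ^ e ∈ Z₀}`. -/
theorem exists_hom_ker (V : Subgroup G) (hVc : ∀ u ∈ V, ∀ v ∈ V, u * v = v * u) (e : ℕ)
    (Z₀ : Subgroup G) :
    ∃ (W : Type u) (_ : CommGroup W) (F : ↥V →* W), ∀ v : V, F v = 1 ↔ (v : G) ^ e ∈ Z₀ := by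
  letI : CommGroup ↥V :=
    { (inferInstance : Group ↥V) with
      mul_comm := fun a b => Subtype.ext (hVc a a.2 b b.2) }
  let K : Subgroup ↥V := (Z₀.subgroupOf V).comap (powMonoidHom e : ↥V →* ↥V)
  refine ⟨↥V ⧸ K, inferInstance, QuotientGroup.mk' K, ?_⟩
  intro v
  rw [QuotientGroup.mk'_apply, QuotientGroup.eq_one_iff]
  show v ^ e ∈ Z₀.subgroupOf V ↔ _
  rw [Subgroup.mem_subgroupOf]
  rfl

end GW

end Cfsg.Agent.Helper1
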