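import Mathlib
import Cfsg.Agent.Helper1.GWi

set_option autoImplicit false

/-!
The reduced setting of the weak closure theorem: the cases `p` odd and `x = z ^ p`.
-/

namespace Cfsg.Agent.Helper1

namespace GW

open scoped BigOperators
open Cfsg.Agent.Lead Cfsg.Agent.Lead.ZJ Cfsg.Agent.Helper1.TN

universe u

variable {p : ℕ} {G : Type u} [Group G]

/-- An element of a `p`-group (`p` odd) with trivial square is trivial. -/
theorem eq_one_of_sq_of_odd [hp : Fact p.Prime] (hp2 : p ≠ 2) {t : G} {k : ℕ}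
    (ht : t ^ (p ^ k) = 1) (h2 : t * t = 1) : t = 1 := by
  have h1 : orderOf t ∣ p ^ k := orderOf_dvd_of_pow_eq_one ht
  have h3 : orderOf t ∣ 2 := orderOf_dvd_of_pow_eq_one (by rw [pow_two]; exact h2)
  have hcop : Nat.Coprime (p ^ k) 2 := by
    apply Nat.Coprime.pow_left
    rw [Nat.coprime_primes hp.out Nat.prime_two]
    exact hp2
  have h4 : orderOf t ∣ 1 := by
    have := Nat.dvd_gcd h1 h3
    rwa [hcop] at this
  rw [Nat.dvd_one, orderOf_eq_one_iff] at h4
  exact h4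

/-- The reduced setting, quadratic family: `x = z ^ e` with `e = 1` and `p` odd, or `e = p`. -/
theorem main_quad [Finite G] [hp : Fact p.Prime] (ih : ∀ H : Subgroup G, H ≠ ⊤ → PW p ↥H)
    (S : Sylow p G) (x : G) (hyp : Hyp p (S : Subgroup G) x) (hxQ : x ∈ Cfsg.pCore p G)
    (hxp : x ^ p ∈ Subgroup.center G)
    (z : G) (e : ℕ) (hzS' : z ∈ (S : Subgroup G)) (hzS : ∀ s ∈ (S : Subgroup G), s * z = z * s)
    (hze : z ^ e = x) (he : (e = 1 ∧ p ≠ 2) ∨ e = p) : x ∈ Subgroup.center G := by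
  classical
  by_contra hxc
  have hover := over_le ih S x hyp hxQ
  have hQS : Cfsg.pCore p G ≤ (S : Subgroup G) := pCore_le_sylow S
  have hzQ : z ∈ Cfsg.pCore p G := by
    apply cent_pCore_le S x hover hxQ hxc
    refine Subgroup.mem_inf.2 ⟨hzS', ?_⟩
    rw [Subgroup.mem_centralizer_iff]
    intro q hq
    exact hzS q (hQS hq)
  obtain ⟨hVc, hVQ, hQV⟩ := normalClosure_facts S z hzS hzQ
  obtain ⟨V, hV⟩ : ∃ V, V = Subgroup.normalClosure ({z} : Set G) := ⟨_, rfl⟩
  rw [← hV] at hVc hVQ hQV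
  haveI hVn : V.Normal := by rw [hV]; exact Subgroup.normalClosure_normal
  have hzV : z ∈ V := by
    rw [hV]; exact Subgroup.subset_normalClosure (Set.mem_singleton z)
  have hxV : x ∈ V := hze ▸ V.pow_mem hzV e
  have hVS : V ≤ (S : Subgroup G) := hVQ.trans hQS
  have hex := exists_fam_not_le_centralizer S x hyp.nj hxc V hxV
  obtain ⟨A, hA, hAC, hAq⟩ := exists_fam_quad S V hVc hVS hex
  obtain ⟨Z₀, hZ₀def⟩ : ∃ Z₀, Z₀ = Subgroup.zpowers (x ^ p) := ⟨_, rfl⟩
  have hZ₀ : Z₀ ≤ Subgroup.center G := by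
    rw [hZ₀def, Subgroup.zpowers_le]; exact hxp
  obtain ⟨W, instW, F, hF⟩ := exists_hom_ker V hVc e Z₀
  apply hxc
  apply final_of_family S x z e hover V hVc hQV hzV hzS hze hyp.mem Z₀ hZ₀ F hF
    (fun A => Quad V A) (fun A g h => h.conj g) (fun A h => h) ⟨A, hA.1, hAq, hAC⟩
  intro A hAS hq y hy hne
  have hyV : y ∈ V := by
    obtain ⟨g, rfl⟩ := mem_conjFinset.1 hy
    exact hVn.conj_mem z hzV g
  apply orbit_prod_eq_one_ab hVc hq (S.2.to_le hAS) (ext1 F) (ext1_mul F) ?_ (conjFinset z)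
    (fun a _ y hy => conj_mem_conjFinset hy a) y hy hyV ?_ hne
  · intro t ht htt
    rw [ext1_of_mem _ ht, hF]
    show t ^ e ∈ Z₀
    obtain ⟨k, hk⟩ := S.2 ⟨t, hVS ht⟩
    have hk' : t ^ (p ^ k) = 1 := by
      have := congrArg Subtype.val hk
      simpa using this
    have hte : t ^ e = 1 := by
      rcases he with ⟨he1, hp2⟩ | he
      · rw [eq_one_of_sq_of_odd hp2 hk' htt, one_pow]
      · by_cases hp2 : p = 2
        · rw [he, hp2, pow_two, htt]
        · rw [eq_one_of_sq_of_odd hp2 hk' htt, one_pow]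
    rw [hte]; exact Z₀.one_mem
  · rw [ext1_of_mem _ hyV, ← map_pow, hF]
    show (y ^ p) ^ e ∈ Z₀
    obtain ⟨g, rfl⟩ := mem_conjFinset.1 hy
    rw [← pow_mul, mul_comm p e, pow_mul, conj_pow, hze, conj_pow]
    have h1 := Subgroup.mem_center_iff.1 hxp g
    have h2 : g * x ^ p * g⁻¹ = x ^ p := by
      rw [h1]; group
    rw [h2, hZ₀def]
    exact Subgroup.mem_zpowers _

end GW

end Cfsg.Agent.Helper1
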