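import Mathlib
import Cfsg.Agent.Helper1.GWh
import Cfsg.Agent.Lead.FamilyTransfer

set_option autoImplicit false

/-!
The fusion part of the weak closure theorem: reduction to the case `x ∈ O_p(G)`.
-/

namespace Cfsg.Agent.Helper1

namespace GW

open Cfsg.Agent.Lead Cfsg.Agent.Lead.ZJ Cfsg.Agent.Helper1.TN

universe u

variable {p : ℕ} {G : Type u} [Group G]

/-- Along a conjugation chain through subgroups whose normalizers centralize `x`, the element `x`
is fixed. -/
theorem chain_fix [Finite G] {𝓕 : Set (Subgroup G)} (x : G) (m : ℕ)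
    (hfix : ∀ T ∈ 𝓕, m ≤ Nat.card T → x ∈ T → ∀ n ∈ Subgroup.normalizer (T : Set G),
      n * x = x * n)
    {A : Set G} {g : G} (h : ConjChain 𝓕 A g) (hxA : x ∈ A) (hcard : m ≤ A.ncard) :
    g⁻¹ * x * g = x := by
  induction h with
  | nil A => group
  | cons A T y g' hT hy hAT _ ih =>
    have hxT : x ∈ T := hAT hxA
    have hmT : m ≤ Nat.card T := by
      have h1 : A.ncard ≤ (T : Set G).ncard := Set.ncard_le_ncard hAT (Set.toFinite _)
      have h2 : (T : Set G).ncard = Nat.card T := (Nat.card_coe_set_eq (T : Set G)).symm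
      omega
    have hyx := hfix T hT hmT hxT y hy
    have hyx' : y⁻¹ * x * y = x := by
      calc y⁻¹ * x * y = y⁻¹ * (x * y) := by group
        _ = y⁻¹ * (y * x) := by rw [hyx]
        _ = x := by group
    have hx' : x ∈ conjR y A := by
      rw [mem_conjR]
      have : y * x * y⁻¹ = x := by rw [hyx]; group
      rw [this]; exact hxA
    have hcard' : m ≤ (conjR y A).ncard := by
      have : (conjR y A).ncard = A.ncard := by
        unfold conjR
        apply Set.ncard_image_of_injective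
        intro a b hab
        exact mul_left_cancel (mul_right_cancel hab)
      omega
    have h3 := ih hx' hcard'
    calc (y * g')⁻¹ * x * (y * g') = g'⁻¹ * (y⁻¹ * x * y) * g' := by group
      _ = g'⁻¹ * x * g' := by rw [hyx']
      _ = x := h3

/-- Weak closure inside a proper subgroup containing a Sylow subgroup of it. -/
theorem wc_of_sub [Finite G] [hp : Fact p.Prime] (H : Subgroup G) (hH : PW p ↥H)
    (T : Sylow p H) (x : G) (hxT : x ∈ (T : Subgroup H).map H.subtype)
    (hnj : ∀ n ∈ Subgroup.normalizer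
        (Cfsg.thompsonSubgroupAOf ((T : Subgroup H).map H.subtype) : Set G),
      n ∈ H → n * x = x * n)
    (halt : p ≠ 2 ∨ (∃ z ∈ (T : Subgroup H).map H.subtype,
      (∀ s ∈ (T : Subgroup H).map H.subtype, s * z = z * s) ∧ z ^ p = x) ∨
      ¬ Cfsg.Involves (Equiv.Perm (Fin 4)) G) :
    ∀ h ∈ H, h * x * h⁻¹ ∈ (T : Subgroup H).map H.subtype → h * x * h⁻¹ = x := by
  intro h hh hmem
  have hxH : x ∈ H := Subgroup.map_subtype_le _ hxT
  have hyp' : Hyp p (T : Subgroup H) ⟨x, hxH⟩ := hyp_of_local H T ⟨x, hxH⟩ hxT hnj halt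
  have hwc := hH T ⟨x, hxH⟩ hyp' ⟨h, hh⟩
  have h1 := hwc (by
    obtain ⟨y, hy, hye⟩ := hmem
    have : y = ⟨h, hh⟩ * ⟨x, hxH⟩ * (⟨h, hh⟩ : H)⁻¹ := Subtype.ext hye
    rw [← this]; exact hy)
  exact congrArg Subtype.val h1

/-- A bad triple: `x` is not central in the normalizer of a subgroup `U ≤ S` containing it. -/
def Bad (p : ℕ) (S : Subgroup G) (x : G) (U : Subgroup G) : Prop :=
  Hyp p S x ∧ U ≤ S ∧ x ∈ U ∧ ∃ n ∈ Subgroup.normalizer (U : Set G), n * x ≠ x * n

theorem no_bad [Finite G] [hp : Fact p.Prime] (ih : ∀ H : Subgroup G, H ≠ ⊤ → PW p ↥H)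
    (ml : ∀ (S : Sylow p G) (x : G), Hyp p (S : Subgroup G) x → x ∈ Cfsg.pCore p G →
      x ∈ Subgroup.center G) :
    ∀ (d : ℕ) (S : Sylow p G) (x : G) (U : Subgroup G), Bad p (S : Subgroup G) x U →
      Nat.card G - Nat.card ((S : Subgroup G) ⊓ Subgroup.normalizer (U : Set G) : Subgroup G) = d →
      False := by
  intro d
  induction d using Nat.strong_induction_on with
  | _ d IH =>
  intro S x U hbad hd
  have hmax : ∀ (S' : Sylow p G) (x' : G) (U' : Subgroup G), Bad p (S' : Subgroup G) x' U' →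
      Nat.card ((S' : Subgroup G) ⊓ Subgroup.normalizer (U' : Set G) : Subgroup G) ≤
        Nat.card ((S : Subgroup G) ⊓ Subgroup.normalizer (U : Set G) : Subgroup G) := by
    intro S' x' U' hb
    by_contra hlt
    push Not at hlt
    have hle : Nat.card ((S' : Subgroup G) ⊓ Subgroup.normalizer (U' : Set G) : Subgroup G) ≤
        Nat.card G := Subgroup.card_le_card_group _
    exact IH _ (by omega) S' x' U' hb rfl
  obtain ⟨hyp, hUS, hxU, n, hnN, hnx⟩ := hbad
  obtain ⟨T₀, hT₀⟩ : ∃ T₀, T₀ = (S : Subgroup G) ⊓ Subgroup.normalizer (U : Set G) := ⟨_, rfl⟩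
  rw [← hT₀] at hmax
  have hT₀S : T₀ ≤ (S : Subgroup G) := hT₀ ▸ inf_le_left
  have hUT₀ : U ≤ T₀ := hT₀ ▸ le_inf hUS Subgroup.le_normalizer
  have hxT₀ : x ∈ T₀ := hUT₀ hxU
  have hconjU : n * x * n⁻¹ ∈ U := (Subgroup.mem_normalizer_iff.1 hnN x).1 hxU
  by_cases hSN : (S : Subgroup G) ≤ Subgroup.normalizer (U : Set G)
  · by_cases hN : Subgroup.normalizer (U : Set G) = ⊤
    · have hUn : U.Normal := Subgroup.normalizer_eq_top_iff.1 hN
      have hUQ : U ≤ Cfsg.pCore p G := le_pCore hUn (S.2.to_le hUS)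
      have := ml S x hyp (hUQ hxU)
      exact hnx (Subgroup.mem_center_iff.1 this n)
    · have hmap : ((S.subtype hSN : Sylow p _) : Subgroup _).map
          (Subgroup.normalizer (U : Set G)).subtype = (S : Subgroup G) := by
        rw [Sylow.coe_subtype, Subgroup.subgroupOf_map_subtype, inf_eq_left.2 hSN]
      have hwc := wc_of_sub _ (ih _ hN) (S.subtype hSN) x (by rw [hmap]; exact hyp.mem)
        (by rw [hmap]; intro n hn _; exact hyp.nj n hn) (by rw [hmap]; exact hyp.alt) n hnN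
        (by rw [hmap]; exact hUS hconjU)
      apply hnx
      calc n * x = (n * x * n⁻¹) * n := by group
        _ = x * n := by rw [hwc]
  · have hT₀lt : T₀ < (S : Subgroup G) :=
      lt_of_le_of_ne hT₀S (fun h => hSN (by rw [← h, hT₀]; exact inf_le_right))
    -- subgroups of `S` of order at least `|T₀|` containing `x` have `x` central in their normalizer
    have hfixS : ∀ T : Subgroup G, T ≤ (S : Subgroup G) → Nat.card T₀ ≤ Nat.card T → x ∈ T →
        ∀ n ∈ Subgroup.normalizer (T : Set G), n * x = x * n := by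
      intro T hTS hcard hxT n' hn'
      by_contra hne
      have hb : Bad p (S : Subgroup G) x T := ⟨hyp, hTS, hxT, n', hn', hne⟩
      have h1 := hmax S x T hb
      by_cases hTeq : T = (S : Subgroup G)
      · have h2 : (S : Subgroup G) ⊓ Subgroup.normalizer (T : Set G) = (S : Subgroup G) := by
          rw [hTeq]; exact inf_eq_left.2 Subgroup.le_normalizer
        rw [h2] at h1
        have h3 := card_lt_card_of_lt hT₀lt
        omega
      · have hTlt : T < (S : Subgroup G) := lt_of_le_of_ne hTS hTeq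
        obtain ⟨y, hyS, hyN, hyT⟩ := exists_mem_normalizer_not_mem S.2 hTlt
        have h2 : T < (S : Subgroup G) ⊓ Subgroup.normalizer (T : Set G) :=
          lt_of_le_of_ne (le_inf hTS Subgroup.le_normalizer)
            (fun h => hyT (h ▸ Subgroup.mem_inf.2 ⟨hyS, hyN⟩))
        have h3 := card_lt_card_of_lt h2
        omega
    -- the Alperin family
    obtain ⟨𝓕, h𝓕def⟩ : ∃ 𝓕 : Set (Subgroup G), 𝓕 = {U | U ≤ (S : Subgroup G) ∧
        ¬ p ∣ ((S : Subgroup G) ⊓ Subgroup.normalizer (U : Set G)).relIndex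
          (Subgroup.normalizer (U : Set G))} := ⟨_, rfl⟩
    have h𝓕 : ∀ U ∈ 𝓕, U ≤ (S : Subgroup G) := by
      intro U hU
      rw [h𝓕def] at hU
      exact hU.1
    have hfam : ∀ T : Subgroup G, T ≤ (S : Subgroup G) → ∃ U ∈ 𝓕,
        (∃ g : G, T.map (MulAut.conj g).toMonoidHom = U) ∧
        ¬ p ∣ ((S : Subgroup G) ⊓ Subgroup.normalizer ((U : Subgroup G) : Set G)).relIndex
          (Subgroup.normalizer ((U : Subgroup G) : Set G)) := by
      intro T hT
      obtain ⟨g, hle, hsyl⟩ := exists_fullyNormalized_conj S T hT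
      refine ⟨_, ?_, ⟨g, rfl⟩, hsyl⟩
      rw [h𝓕def]
      exact ⟨hle, hsyl⟩
    have hchain := conjChain_of_family S 𝓕 h𝓕 hfam
    -- a Sylow subgroup of `N_G(U)` containing `T₀`
    obtain ⟨N, hN⟩ : ∃ N, N = Subgroup.normalizer (U : Set G) := ⟨_, rfl⟩
    have hT₀N : T₀ ≤ N := by rw [hN, hT₀]; exact inf_le_right
    have hp₀ : IsPGroup p (T₀.subgroupOf N) := (S.2.to_le hT₀S).comap_subtype
    obtain ⟨T, hT⟩ := hp₀.exists_le_sylow
    obtain ⟨T', hT'⟩ : ∃ T', T' = (T : Subgroup N).map N.subtype := ⟨_, rfl⟩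
    have hT₀T' : T₀ ≤ T' := by
      intro y hy
      rw [hT']
      exact ⟨⟨y, hT₀N hy⟩, hT (Subgroup.mem_subgroupOf.2 hy), rfl⟩
    have hT'N : T' ≤ N := hT' ▸ Subgroup.map_subtype_le _
    have hT'p : IsPGroup p T' := hT' ▸ T.2.map _
    obtain ⟨S', hS'⟩ := hT'p.exists_le_sylow
    obtain ⟨g, hg⟩ := MulAction.exists_smul_eq G S S'
    have hS'map : (S' : Subgroup G) = (S : Subgroup G).map (MulAut.conj g).toMonoidHom := by
      rw [← hg]; rfl
    have hconjR : conjR g (T₀ : Set G) ⊆ (S : Subgroup G) := by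
      intro y hy
      rw [mem_conjR] at hy
      have h1 := hS' (hT₀T' hy)
      rw [hS'map] at h1
      obtain ⟨s, hs, hse⟩ := h1
      have e : (MulAut.conj g).toMonoidHom s = g * s * g⁻¹ := rfl
      rw [e] at hse
      have : y = s := (mul_left_cancel (mul_right_cancel hse)).symm
      rw [this]; exact hs
    have hch := hchain T₀ g hT₀S hconjR
    have hgx : g⁻¹ * x * g = x :=
      chain_fix x (Nat.card T₀) (fun T hT hc hxT => hfixS T (h𝓕 T hT) hc hxT) hch hxT₀
        (by rw [← Nat.card_coe_set_eq]; rfl)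
    have hgx' : g * x * g⁻¹ = x := by
      calc g * x * g⁻¹ = g * (g⁻¹ * x * g) * g⁻¹ := by rw [hgx]
        _ = x := by group
    have hyp' : Hyp p (S' : Subgroup G) x := by
      have := hyp.conj g
      rwa [hgx', ← hS'map] at this
    have hb' : Bad p (S' : Subgroup G) x U :=
      ⟨hyp', hUT₀.trans (hT₀T'.trans hS'), hxU, n, hnN, hnx⟩
    have h1 := hmax S' x U hb'
    have h2 : T' ≤ (S' : Subgroup G) ⊓ Subgroup.normalizer (U : Set G) :=
      le_inf hS' (hN ▸ hT'N)
    have hT'eq : T₀ = T' :=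
      Subgroup.eq_of_le_of_card_ge hT₀T' ((Subgroup.card_le_of_le h2).trans h1)
    have hNtop : N ≠ ⊤ := by
      intro h
      apply hSN
      rw [← hN, h]; exact le_top
    have hmapT : (T : Subgroup N).map N.subtype = T₀ := by rw [hT'eq, hT']
    have hnN' : n ∈ N := hN ▸ hnN
    have hwc := wc_of_sub N (ih N hNtop) T x (by rw [hmapT]; exact hxT₀) ?_ ?_ n hnN'
      (by rw [hmapT]; exact hUT₀ hconjU)
    · apply hnx
      calc n * x = (n * x * n⁻¹) * n := by group
        _ = x * n := by rw [hwc]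
    · rw [hmapT]
      intro n' hn' _
      by_contra hne
      have hJT₀ : Cfsg.thompsonSubgroupAOf T₀ ≤ T₀ := jaFunctor.of_le T₀
      have hxJ : x ∈ Cfsg.thompsonSubgroupAOf T₀ := by
        obtain ⟨A, hA⟩ := (goodAb G).fam_nonempty T₀
        apply le_thompsonSubgroupAOf hA
        apply center_le_of_mem_fam hA
        refine Subgroup.mem_inf.2 ⟨hxT₀, ?_⟩
        rw [Subgroup.mem_centralizer_iff]
        intro t ht
        exact hyp.cent t (hT₀S ht)
      have hb : Bad p (S : Subgroup G) x (Cfsg.thompsonSubgroupAOf T₀) :=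
        ⟨hyp, hJT₀.trans hT₀S, hxJ, n', hn', hne⟩
      have h3 := hmax S x _ hb
      obtain ⟨y, hyS, hyN, hyT⟩ := exists_mem_normalizer_not_mem S.2 hT₀lt
      have h4 : T₀ < (S : Subgroup G) ⊓ Subgroup.normalizer (T₀ : Set G) :=
        lt_of_le_of_ne (le_inf hT₀S Subgroup.le_normalizer)
          (fun h => hyT (h ▸ Subgroup.mem_inf.2 ⟨hyS, hyN⟩))
      have h5 : (S : Subgroup G) ⊓ Subgroup.normalizer (T₀ : Set G) ≤
          (S : Subgroup G) ⊓ Subgroup.normalizer (Cfsg.thompsonSubgroupAOf T₀ : Set G) :=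
        inf_le_inf_left _ (jaFunctor.normalizer_le T₀)
      have h6 := card_lt_card_of_lt h4
      have h7 := Subgroup.card_le_of_le h5
      omega
    · rw [hmapT]
      rcases hyp.alt with h | h | h
      · exact Or.inl h
      · right; left
        obtain ⟨z, hzS, hzc, hzp⟩ := h
        refine ⟨z, ?_, fun s hs => hzc s (hT₀S hs), hzp⟩
        rw [hT₀]
        refine Subgroup.mem_inf.2 ⟨hzS, ?_⟩
        rw [Subgroup.mem_normalizer_iff]
        intro u
        constructor
        · intro hu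
          have : z * u * z⁻¹ = u := by
            rw [← hzc u (hUS hu)]; group
          rw [this]; exact hu
        · intro hu
          have h8 := hzc _ (hUS hu)
          have : u = z * u * z⁻¹ := by
            calc u = z⁻¹ * ((z * u * z⁻¹) * z) := by group
              _ = z⁻¹ * (z * (z * u * z⁻¹)) := by rw [h8]
              _ = z * u * z⁻¹ := by group
          rw [this]; exact hu
      · exact Or.inr (Or.inr h)

/-- The weak closure theorem for `G`, given it for all proper subgroups and given the reduced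
case `x ∈ O_p(G)`. -/
theorem pw_of_main [Finite G] [hp : Fact p.Prime] (ih : ∀ H : Subgroup G, H ≠ ⊤ → PW p ↥H)
    (ml : ∀ (S : Sylow p G) (x : G), Hyp p (S : Subgroup G) x → x ∈ Cfsg.pCore p G →
      x ∈ Subgroup.center G) : PW p G := by
  intro S x hyp g hg
  obtain ⟨𝓕, h𝓕def⟩ : ∃ 𝓕 : Set (Subgroup G), 𝓕 = {U | U ≤ (S : Subgroup G) ∧
      ¬ p ∣ ((S : Subgroup G) ⊓ Subgroup.normalizer (U : Set G)).relIndex
        (Subgroup.normalizer (U : Set G))} := ⟨_, rfl⟩
  have h𝓕 : ∀ U ∈ 𝓕, U ≤ (S : Subgroup G) := by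
    intro U hU
    rw [h𝓕def] at hU
    exact hU.1
  have hfam : ∀ T : Subgroup G, T ≤ (S : Subgroup G) → ∃ U ∈ 𝓕,
      (∃ g : G, T.map (MulAut.conj g).toMonoidHom = U) ∧
      ¬ p ∣ ((S : Subgroup G) ⊓ Subgroup.normalizer ((U : Subgroup G) : Set G)).relIndex
        (Subgroup.normalizer ((U : Subgroup G) : Set G)) := by
    intro T hT
    obtain ⟨g, hle, hsyl⟩ := exists_fullyNormalized_conj S T hT
    refine ⟨_, ?_, ⟨g, rfl⟩, hsyl⟩
    rw [h𝓕def]
    exact ⟨hle, hsyl⟩
  have hchain := conjChain_of_family S 𝓕 h𝓕 hfam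
  have hconjR : conjR g⁻¹ ((Subgroup.zpowers x : Subgroup G) : Set G) ⊆ (S : Subgroup G) := by
    intro y hy
    rw [mem_conjR] at hy
    obtain ⟨k, hk⟩ := Subgroup.mem_zpowers_iff.1 hy
    have h1 : y = (g * x * g⁻¹) ^ k := by
      rw [conj_zpow, hk]; group
    rw [h1]
    exact Subgroup.zpow_mem _ hg k
  have hch := hchain (Subgroup.zpowers x) g⁻¹ (by rw [Subgroup.zpowers_le]; exact hyp.mem) hconjR
  have h1 := chain_fix x 0 (fun T hT _ hxT n hn => by
    by_contra hne
    exact no_bad ih ml _ S x T ⟨hyp, h𝓕 T hT, hxT, n, hn, hne⟩ rfl) hch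
    (Subgroup.mem_zpowers x) (Nat.zero_le _)
  rw [inv_inv] at h1
  exact h1

end GW

end Cfsg.Agent.Helper1
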