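import Mathlib
import Cfsg.Prelude.Def_PLocal
import Cfsg.Prelude.Def_LocalEven
import Cfsg.Agent.Lead.Replacement
import Cfsg.Agent.Helper1.GWi
import Cfsg.Agent.Helper1.GWo

set_option autoImplicit false

/-!
Minimal quadratic offenders on a normal abelian `2`-subgroup `V` of an `S₄`-free group: no
element of `V` has exactly two conjugates under such an offender.
-/

namespace Cfsg.Agent.Helper1

namespace GW

open Cfsg.Agent.Lead Cfsg.Agent.Lead.ZJ Cfsg.Agent.Helper1.TN

universe u

variable {p : ℕ} {G : Type u} [Group G]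

theorem map_conj_of_normal (M : Subgroup G) [hMn : M.Normal] (g : G) :
    M.map (MulAut.conj g).toMonoidHom = M := by
  ext y
  constructor
  · rintro ⟨x, hx, rfl⟩
    exact hMn.conj_mem x hx g
  · intro hy
    refine ⟨g⁻¹ * y * g, ?_, ?_⟩
    · have := hMn.conj_mem y hy g⁻¹
      rwa [inv_inv] at this
    · simp only [MulEquiv.coe_toMonoidHom, MulAut.conj_apply]
      group

theorem map_conj_map_inv (X : Subgroup G) (g : G) :
    (X.map (MulAut.conj g).toMonoidHom).map (MulAut.conj g⁻¹).toMonoidHom = X := by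
  rw [Subgroup.map_map]
  have : (MulAut.conj g⁻¹).toMonoidHom.comp (MulAut.conj g).toMonoidHom = MonoidHom.id G := by
    ext x
    simp only [MonoidHom.comp_apply, MulEquiv.coe_toMonoidHom, MulAut.conj_apply, MonoidHom.id_apply]
    group
  rw [this, Subgroup.map_id]

theorem map_conj_inv_map (X : Subgroup G) (g : G) :
    (X.map (MulAut.conj g⁻¹).toMonoidHom).map (MulAut.conj g).toMonoidHom = X := by
  have := map_conj_map_inv X g⁻¹
  rwa [inv_inv] at this

theorem centralizer_map_conj (A : Subgroup G) (g : G) :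
    Subgroup.centralizer ((A.map (MulAut.conj g).toMonoidHom : Subgroup G) : Set G) =
      (Subgroup.centralizer (A : Set G)).map (MulAut.conj g).toMonoidHom := by
  ext x
  constructor
  · intro hx
    refine ⟨g⁻¹ * x * g, ?_, ?_⟩
    · show g⁻¹ * x * g ∈ Subgroup.centralizer (A : Set G)
      rw [Subgroup.mem_centralizer_iff]
      intro a ha
      have h1 := Subgroup.mem_centralizer_iff.1 hx (g * a * g⁻¹) ⟨a, ha, rfl⟩
      calc a * (g⁻¹ * x * g) = g⁻¹ * ((g * a * g⁻¹) * x) * g := by group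
        _ = g⁻¹ * (x * (g * a * g⁻¹)) * g := by rw [h1]
        _ = g⁻¹ * x * g * a := by group
    · simp only [MulEquiv.coe_toMonoidHom, MulAut.conj_apply]
      group
  · rintro ⟨c, hc, rfl⟩
    rw [Subgroup.mem_centralizer_iff]
    rintro _ ⟨a, ha, rfl⟩
    have h1 := Subgroup.mem_centralizer_iff.1 hc a ha
    simp only [MulEquiv.coe_toMonoidHom, MulAut.conj_apply]
    calc g * a * g⁻¹ * (g * c * g⁻¹) = g * (a * c) * g⁻¹ := by group
      _ = g * (c * a) * g⁻¹ := by rw [h1]
      _ = g * c * g⁻¹ * (g * a * g⁻¹) := by group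

theorem card_map_conj [Finite G] (X : Subgroup G) (g : G) :
    Nat.card (X.map (MulAut.conj g).toMonoidHom) = Nat.card X :=
  Subgroup.card_map_of_injective (MulAut.conj g).injective

theorem two_mul_card_le_of_lt [Finite G] {H K : Subgroup G} (h : H < K) :
    2 * Nat.card H ≤ Nat.card K := by
  have h1 : Nat.card (H.subgroupOf K) * (H.subgroupOf K).index = Nat.card K :=
    Subgroup.card_mul_index _
  rw [card_subgroupOf_of_le h.le] at h1
  have h2 : (H.subgroupOf K).index ≠ 1 := by
    intro h3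
    have : H.relIndex K = 1 := h3
    rw [Subgroup.relIndex_eq_one] at this
    exact (not_le_of_gt h) this
  have h3 : (H.subgroupOf K).index ≠ 0 := Subgroup.index_ne_zero_of_finite
  have h4 : 2 ≤ (H.subgroupOf K).index := by omega
  calc 2 * Nat.card H = Nat.card H * 2 := mul_comm _ _
    _ ≤ Nat.card H * (H.subgroupOf K).index := Nat.mul_le_mul_left _ h4
    _ = Nat.card K := h1

theorem card_eq_relIndex_mul [Finite G] {H K : Subgroup G} (h : H ≤ K) :
    Nat.card K = H.relIndex K * Nat.card H := by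
  have h1 : Nat.card (H.subgroupOf K) * (H.subgroupOf K).index = Nat.card K :=
    Subgroup.card_mul_index _
  rw [card_subgroupOf_of_le h] at h1
  rw [← h1, mul_comm]; rfl

/-- For `V` normal and abelian, `v ↦ a v a⁻¹ v⁻¹` is an endomorphism of `V`. -/
def tau (V : Subgroup G) [hVn : V.Normal] (hVc : ∀ u ∈ V, ∀ v ∈ V, u * v = v * u) (a : G) :
    ↥V →* ↥V where
  toFun v := ⟨a * v * a⁻¹ * (v : G)⁻¹, V.mul_mem (hVn.conj_mem v v.2 a) (V.inv_mem v.2)⟩
  map_one' := Subtype.ext (by simp)
  map_mul' u v := Subtype.ext (by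
    show a * ((u : G) * v) * a⁻¹ * ((u : G) * v)⁻¹ =
      (a * u * a⁻¹ * (u : G)⁻¹) * (a * v * a⁻¹ * (v : G)⁻¹)
    have h1 : (a * v * a⁻¹ * (v : G)⁻¹) * (u : G)⁻¹ = (u : G)⁻¹ * (a * v * a⁻¹ * (v : G)⁻¹) :=
      hVc _ (V.mul_mem (hVn.conj_mem v v.2 a) (V.inv_mem v.2)) _ (V.inv_mem u.2)
    calc a * ((u : G) * v) * a⁻¹ * ((u : G) * v)⁻¹
        = (a * u * a⁻¹) * ((a * v * a⁻¹ * (v : G)⁻¹) * (u : G)⁻¹) := by group
      _ = (a * u * a⁻¹) * ((u : G)⁻¹ * (a * v * a⁻¹ * (v : G)⁻¹)) := by rw [h1]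
      _ = (a * u * a⁻¹ * (u : G)⁻¹) * (a * v * a⁻¹ * (v : G)⁻¹) := by group)

theorem tau_apply (V : Subgroup G) [hVn : V.Normal] (hVc : ∀ u ∈ V, ∀ v ∈ V, u * v = v * u)
    (a : G) (v : V) : ((tau V hVc a v : V) : G) = a * v * a⁻¹ * (v : G)⁻¹ := rfl

theorem ker_tau (V : Subgroup G) [hVn : V.Normal] (hVc : ∀ u ∈ V, ∀ v ∈ V, u * v = v * u)
    (a : G) : (tau V hVc a).ker = (V ⊓ Subgroup.centralizer ({a} : Set G)).subgroupOf V := by
  ext v
  rw [MonoidHom.mem_ker, Subgroup.mem_subgroupOf, Subgroup.mem_inf,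
    Subgroup.mem_centralizer_iff]
  constructor
  · intro h
    refine ⟨v.2, ?_⟩
    intro y hy
    rw [Set.mem_singleton_iff] at hy
    rw [hy]
    have h1 : a * v * a⁻¹ * (v : G)⁻¹ = 1 := by
      have := congrArg Subtype.val h
      rwa [tau_apply] at this
    calc a * (v : G) = (a * v * a⁻¹ * (v : G)⁻¹) * v * a := by group
      _ = v * a := by rw [h1, one_mul]
  · rintro ⟨-, h⟩
    apply Subtype.ext
    rw [tau_apply]
    have h1 := h a rfl
    show a * v * a⁻¹ * (v : G)⁻¹ = 1
    rw [h1]; group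

/-- An element acting on `V` with centralizer of index two is a "transvection". -/
theorem exists_transvection_center [Finite G] (V : Subgroup G) [hVn : V.Normal]
    (hVc : ∀ u ∈ V, ∀ v ∈ V, u * v = v * u) (a : G)
    (hidx : (V ⊓ Subgroup.centralizer ({a} : Set G)).relIndex V = 2) :
    ∃ r ∈ V, r * r = 1 ∧ r ≠ 1 ∧ ∀ v ∈ V, a * v * a⁻¹ * v⁻¹ = 1 ∨ a * v * a⁻¹ * v⁻¹ = r := by
  have h2 : Nat.card (tau V hVc a).range = 2 := by
    rw [← Subgroup.index_ker, ker_tau]; exact hidx
  obtain ⟨r, hr1, hr⟩ := (Nat.card_eq_two_iff' (1 : (tau V hVc a).range)).1 h2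
  have hall : ∀ u : (tau V hVc a).range, u = 1 ∨ u = r := by
    intro u
    by_cases hu : u = 1
    · left; exact hu
    · right; exact hr u hu
  have hrr : r * r = 1 := by
    rcases hall (r * r) with h | h
    · exact h
    · exfalso
      apply hr1
      have : r * r = r * 1 := by rw [mul_one]; exact h
      exact mul_left_cancel this
  refine ⟨((r : V) : G), (r : V).2, ?_, ?_, ?_⟩
  · have := congrArg (fun t : (tau V hVc a).range => ((t : V) : G)) hrr
    simpa using this
  · intro h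
    apply hr1
    apply Subtype.ext
    apply Subtype.ext
    simpa using h
  · intro v hv
    have hm : tau V hVc a ⟨v, hv⟩ ∈ (tau V hVc a).range := ⟨_, rfl⟩
    rcases hall ⟨_, hm⟩ with h | h
    · left
      have := congrArg (fun t : (tau V hVc a).range => ((t : V) : G)) h
      simpa [tau_apply] using this
    · right
      have := congrArg (fun t : (tau V hVc a).range => ((t : V) : G)) h
      simpa [tau_apply] using this

end GW

end Cfsg.Agent.Helper1
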