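import Mathlib
import Cfsg.Prelude.Def_PLocal
import Cfsg.Prelude.Def_LocalEven
import Cfsg.Agent.Helper1.GWp

set_option autoImplicit false

/-!
Minimal quadratic offenders.
-/

namespace Cfsg.Agent.Helper1

namespace GW

open Cfsg.Agent.Lead Cfsg.Agent.Lead.ZJ Cfsg.Agent.Helper1.TN

universe u

variable {p : ℕ} {G : Type u} [Group G]

/-- In the reduced setting, `O_p(G / C_G(V)) = 1`. -/
theorem pCore_quot_trivial [Finite G] [hp : Fact p.Prime] (S : Sylow p G) (x : G)
    (hover : ∀ H : Subgroup G, (S : Subgroup G) ≤ H → H ≠ ⊤ →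
      H ≤ Subgroup.centralizer ({x} : Set G))
    (hxc : x ∉ Subgroup.center G) (V : Subgroup G) (hxV : x ∈ V)
    (hQV : Cfsg.pCore p G ≤ Subgroup.centralizer (V : Set G))
    (D : Subgroup G) (hDn : D.Normal) (hCD : Subgroup.centralizer (V : Set G) ≤ D)
    (hrel : ∃ k : ℕ, (Subgroup.centralizer (V : Set G)).relIndex D = p ^ k) :
    D = Subgroup.centralizer (V : Set G) := by
  haveI := hDn
  obtain ⟨C, hC⟩ : ∃ C, C = Subgroup.centralizer (V : Set G) := ⟨_, rfl⟩
  rw [← hC] at hQV hCD hrel ⊢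
  obtain ⟨T, hT⟩ : ∃ T, T = (S : Subgroup G) ⊓ D := ⟨_, rfl⟩
  have hDM : D ≤ C ⊔ T := by
    rw [← Subgroup.relIndex_eq_one]
    obtain ⟨k, hk⟩ := hrel
    have h1 : (C ⊔ T).relIndex D ∣ p ^ k :=
      hk ▸ Subgroup.relIndex_dvd_of_le_left D (le_sup_left : C ≤ C ⊔ T)
    have h2 : (C ⊔ T).relIndex D ∣ T.relIndex D :=
      Subgroup.relIndex_dvd_of_le_left D (le_sup_right : T ≤ C ⊔ T)
    have h3 : T.relIndex D = (S : Subgroup G).relIndex D := by
      rw [hT, Subgroup.inf_relIndex_right]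
    have h4 : (S : Subgroup G).relIndex D ∣ (S : Subgroup G).index :=
      relIndex_dvd_index_of_normalizes (by rw [Subgroup.normalizer_eq_top]; exact le_top)
    obtain ⟨i, -, hi⟩ := (Nat.dvd_prime_pow hp.out).1 h1
    rcases Nat.eq_zero_or_pos i with h0 | h0
    · rw [hi, h0, pow_zero]
    · exfalso
      apply S.not_dvd_index
      have : p ∣ (C ⊔ T).relIndex D := by rw [hi]; exact dvd_pow_self p h0.ne'
      exact this.trans (h2.trans (h3 ▸ h4))
  have hfr := frattini_sylow_inf S D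
  rw [← hT] at hfr
  by_cases hN : Subgroup.normalizer (T : Set G) = ⊤
  · have hn : T.Normal := Subgroup.normalizer_eq_top_iff.1 hN
    have hTQ : T ≤ Cfsg.pCore p G := le_pCore hn (S.2.to_le (hT ▸ inf_le_left))
    apply le_antisymm _ hCD
    exact hDM.trans (sup_le le_rfl (hTQ.trans hQV))
  · exfalso
    apply hxc
    have h1 := hover _ (hT ▸ le_normalizer_inf_normal (S : Subgroup G) D) hN
    have h2 : C ≤ Subgroup.centralizer ({x} : Set G) := by
      rw [hC]
      apply Subgroup.centralizer_le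
      intro y hy
      rw [Set.mem_singleton_iff] at hy
      rw [hy]; exact hxV
    have hTN : T ≤ Subgroup.normalizer (T : Set G) := Subgroup.le_normalizer
    have h3 : (⊤ : Subgroup G) ≤ Subgroup.centralizer ({x} : Set G) := by
      rw [← hfr]
      exact sup_le h1 (hDM.trans (sup_le h2 (hTN.trans h1)))
    rw [Subgroup.mem_center_iff]
    intro g
    have := h3 (Subgroup.mem_top g)
    rw [Subgroup.mem_centralizer_iff] at this
    exact (this x rfl).symm

/-- `A` is an offender on `V`: `|A / C_A(V)| ≥ |V / C_V(A)|`. -/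
def Off (V A : Subgroup G) : Prop :=
  Nat.card (A ⊓ Subgroup.centralizer (V : Set G) : Subgroup G) * Nat.card V ≤
    Nat.card A * Nat.card (V ⊓ Subgroup.centralizer (A : Set G) : Subgroup G)

theorem Off.conj [Finite G] {V A : Subgroup G} [hVn : V.Normal] (h : Off V A) (g : G) :
    Off V (A.map (MulAut.conj g).toMonoidHom) := by
  unfold Off at h ⊢
  have e1 : A.map (MulAut.conj g).toMonoidHom ⊓ Subgroup.centralizer (V : Set G) =
      (A ⊓ Subgroup.centralizer (V : Set G)).map (MulAut.conj g).toMonoidHom := by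
    rw [Subgroup.map_inf _ _ _ (MulAut.conj g).injective,
      map_conj_of_normal (Subgroup.centralizer (V : Set G))]
  have e2 : V ⊓ Subgroup.centralizer ((A.map (MulAut.conj g).toMonoidHom : Subgroup G) : Set G) =
      (V ⊓ Subgroup.centralizer (A : Set G)).map (MulAut.conj g).toMonoidHom := by
    rw [Subgroup.map_inf _ _ _ (MulAut.conj g).injective, map_conj_of_normal V,
      centralizer_map_conj]
  rw [e1, e2, card_map_conj, card_map_conj, card_map_conj]
  exact h

/-- A minimal quadratic offender on `V` acting nontrivially. -/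
structure MinOff (V A : Subgroup G) : Prop where
  quad : Quad V A
  nc : ¬ A ≤ Subgroup.centralizer (V : Set G)
  off : Off V A
  min : ∀ B : Subgroup G, B ≤ A → ¬ B ≤ Subgroup.centralizer (V : Set G) → Off V B → B = A

theorem MinOff.conj [Finite G] {V A : Subgroup G} [hVn : V.Normal] (h : MinOff V A) (g : G) :
    MinOff V (A.map (MulAut.conj g).toMonoidHom) := by
  refine ⟨h.quad.conj g, ?_, h.off.conj g, ?_⟩
  · intro hle
    apply h.nc
    have := Subgroup.map_mono (f := (MulAut.conj g⁻¹).toMonoidHom) hle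
    rwa [map_conj_map_inv, map_conj_of_normal (Subgroup.centralizer (V : Set G))] at this
  · intro B hB hBC hBoff
    have h1 : B.map (MulAut.conj g⁻¹).toMonoidHom ≤ A := by
      have := Subgroup.map_mono (f := (MulAut.conj g⁻¹).toMonoidHom) hB
      rwa [map_conj_map_inv] at this
    have h2 : ¬ B.map (MulAut.conj g⁻¹).toMonoidHom ≤ Subgroup.centralizer (V : Set G) := by
      intro hle
      apply hBC
      have := Subgroup.map_mono (f := (MulAut.conj g).toMonoidHom) hle
      rwa [map_conj_inv_map, map_conj_of_normal (Subgroup.centralizer (V : Set G))] at this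
    have h3 := h.min _ h1 h2 (hBoff.conj g⁻¹)
    rw [← h3, map_conj_inv_map]

theorem exists_minOff [Finite G] [hp : Fact p.Prime] (S : Sylow p G)
    (V : Subgroup G) [hVn : V.Normal] (hVc : ∀ u ∈ V, ∀ v ∈ V, u * v = v * u)
    (hVS : V ≤ (S : Subgroup G))
    (hex : ∃ A ∈ (goodAb G).fam (S : Subgroup G), ¬ A ≤ Subgroup.centralizer (V : Set G)) :
    ∃ A, A ≤ (S : Subgroup G) ∧ MinOff V A := by
  classical
  obtain ⟨A, hA, hAC, hAq⟩ := exists_fam_quad S V hVc hVS hex
  obtain ⟨C, hC⟩ : ∃ C, C = Subgroup.centralizer (V : Set G) := ⟨_, rfl⟩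
  have hoff : Off V A := by
    unfold Off
    rw [← hC]
    have hBc : ∀ x ∈ (A ⊓ C) ⊔ V, ∀ y ∈ (A ⊓ C) ⊔ V, x * y = y * x := by
      apply comm_sup
      · intro x hx y hy
        exact hA.2.1 x hx.1 y hy.1
      · exact hVc
      · intro x hx y hy
        have hxC : x ∈ Subgroup.centralizer (V : Set G) := hC ▸ hx.2
        exact (Subgroup.mem_centralizer_iff.1 hxC y hy).symm
    have hBP : (A ⊓ C) ⊔ V ≤ (S : Subgroup G) := sup_le (inf_le_left.trans hA.1) hVS
    have h1 := hA.2.2 _ hBP hBc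
    have h2 := Cfsg.Agent.Lead.Repl.card_mul_le (A ⊓ C) V
    have h3 : Nat.card ((A ⊓ C) ⊓ V : Subgroup G) ≤
        Nat.card (V ⊓ Subgroup.centralizer (A : Set G) : Subgroup G) := by
      apply Subgroup.card_le_of_le
      rintro x ⟨⟨hxA, -⟩, hxV⟩
      refine Subgroup.mem_inf.2 ⟨hxV, ?_⟩
      rw [Subgroup.mem_centralizer_iff]
      intro a ha
      exact hA.2.1 a ha x hxA
    calc Nat.card (A ⊓ C : Subgroup G) * Nat.card V
        ≤ Nat.card ((A ⊓ C) ⊔ V : Subgroup G) * Nat.card ((A ⊓ C) ⊓ V : Subgroup G) := h2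
      _ ≤ Nat.card A * Nat.card (V ⊓ Subgroup.centralizer (A : Set G) : Subgroup G) :=
        Nat.mul_le_mul h1 h3
  have hne : ∃ n, ∃ B : Subgroup G, B ≤ A ∧ ¬ B ≤ Subgroup.centralizer (V : Set G) ∧ Off V B ∧
      Nat.card B = n := ⟨_, A, le_rfl, hAC, hoff, rfl⟩
  obtain ⟨B, hBA, hBC, hBoff, hBn⟩ := Nat.find_spec hne
  refine ⟨B, hBA.trans hA.1, hAq.mono hBA, hBC, hBoff, ?_⟩
  intro B' hB'B hB'C hB'off
  have := Nat.find_min' hne ⟨B', hB'B.trans hBA, hB'C, hB'off, rfl⟩
  exact Subgroup.eq_of_le_of_card_ge hB'B (hBn ▸ this)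

end GW

end Cfsg.Agent.Helper1
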