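import Mathlib
import Cfsg.Prelude.Def_PLocal
import Cfsg.Prelude.Def_LocalEven
import Cfsg.Agent.Helper1.GWq

set_option autoImplicit false

/-!
In an `S₄`-free group, no element of `V` has exactly two conjugates under a minimal quadratic
offender.
-/

namespace Cfsg.Agent.Helper1

namespace GW

open Cfsg.Agent.Lead Cfsg.Agent.Lead.ZJ Cfsg.Agent.Helper1.TN

universe u

variable {G : Type u} [Group G]

theorem MinOff.relIndex_ne_two [Finite G] {V A : Subgroup G} [hVn : V.Normal]
    (hVc : ∀ u ∈ V, ∀ v ∈ V, u * v = v * u)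
    (hOp : ∀ D : Subgroup G, D.Normal → Subgroup.centralizer (V : Set G) ≤ D →
      (∃ k : ℕ, (Subgroup.centralizer (V : Set G)).relIndex D = 2 ^ k) →
      D = Subgroup.centralizer (V : Set G))
    (hS4 : ¬ Cfsg.Involves (Equiv.Perm (Fin 4)) G) (hA2 : IsPGroup 2 A) (h : MinOff V A)
    {y : G} (hy : y ∈ V) :
    (A ⊓ Subgroup.centralizer ({y} : Set G)).relIndex A ≠ 2 := by
  intro hidx
  obtain ⟨C, hC⟩ : ∃ C, C = Subgroup.centralizer (V : Set G) := ⟨_, rfl⟩
  obtain ⟨B, hB⟩ : ∃ B, B = A ⊓ Subgroup.centralizer ({y} : Set G) := ⟨_, rfl⟩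
  rw [← hB] at hidx
  have hBA : B ≤ A := hB ▸ inf_le_left
  have hA₀B : A ⊓ C ≤ B := by
    rw [hB]
    refine le_inf inf_le_left ?_
    intro a ha
    have haC : a ∈ Subgroup.centralizer (V : Set G) := hC ▸ ha.2
    rw [Subgroup.mem_centralizer_iff]
    intro t ht
    rw [Set.mem_singleton_iff] at ht
    rw [ht]
    exact Subgroup.mem_centralizer_iff.1 haC y hy
  have hBne : B ≠ A := by
    intro heq
    rw [heq, Subgroup.relIndex_self] at hidx
    omega
  have hBlt : B < A := lt_of_le_of_ne hBA hBne
  have hcardA : Nat.card A = 2 * Nat.card B := by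
    rw [card_eq_relIndex_mul hBA, hidx]
  have hoff := h.off
  unfold Off at hoff
  rw [← hC] at hoff
  by_cases hBC : B ≤ C
  · -- `A / C_A(V)` has order two and acts as a transvection
    have hBeq : B = A ⊓ C := le_antisymm (le_inf hBA hBC) hA₀B
    obtain ⟨a, haA, haB⟩ := SetLike.exists_of_lt hBlt
    have haC : a ∉ C := fun hc => haB (hA₀B ⟨haA, hc⟩)
    have hidx' : (B.subgroupOf A).index = 2 := hidx
    have hle : V ⊓ Subgroup.centralizer ({a} : Set G) ≤ V ⊓ Subgroup.centralizer (A : Set G) := by
      rintro v ⟨hvV, hva⟩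
      refine Subgroup.mem_inf.2 ⟨hvV, ?_⟩
      have hva' : a * v = v * a := Subgroup.mem_centralizer_iff.1 hva a rfl
      rw [Subgroup.mem_centralizer_iff]
      intro a₁ ha₁
      have hBcomm : ∀ b ∈ B, b * v = v * b := by
        intro b hb
        have hbC : b ∈ Subgroup.centralizer (V : Set G) := hC ▸ hBC hb
        exact (Subgroup.mem_centralizer_iff.1 hbC v hvV).symm
      by_cases ha₁B : a₁ ∈ B
      · exact hBcomm a₁ ha₁B
      · have h1 := Subgroup.mul_mem_iff_of_index_two hidx' (a := (⟨a⁻¹, A.inv_mem haA⟩ : A))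
          (b := (⟨a₁, ha₁⟩ : A))
        have h2 : ((⟨a⁻¹, A.inv_mem haA⟩ : A) * ⟨a₁, ha₁⟩ : A) ∈ B.subgroupOf A := by
          rw [h1]
          constructor
          · intro h3
            exfalso
            apply haB
            have : a⁻¹ ∈ B := Subgroup.mem_subgroupOf.1 h3
            have := B.inv_mem this
            rwa [inv_inv] at this
          · intro h3
            exact absurd (Subgroup.mem_subgroupOf.1 h3) ha₁B
        have h3 : a⁻¹ * a₁ ∈ B := Subgroup.mem_subgroupOf.1 h2
        have h4 := hBcomm _ h3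
        calc a₁ * v = a * ((a⁻¹ * a₁) * v) := by group
          _ = a * (v * (a⁻¹ * a₁)) := by rw [h4]
          _ = (a * v) * (a⁻¹ * a₁) := by group
          _ = (v * a) * (a⁻¹ * a₁) := by rw [hva']
          _ = v * a₁ := by group
    have hcardV : Nat.card V ≤
        2 * Nat.card (V ⊓ Subgroup.centralizer ({a} : Set G) : Subgroup G) := by
      have h1 : Nat.card B * Nat.card V ≤
          Nat.card B * (2 * Nat.card (V ⊓ Subgroup.centralizer (A : Set G) : Subgroup G)) := by
        calc Nat.card B * Nat.card V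
            = Nat.card (A ⊓ C : Subgroup G) * Nat.card V := by rw [hBeq]
          _ ≤ Nat.card A * Nat.card (V ⊓ Subgroup.centralizer (A : Set G) : Subgroup G) := hoff
          _ = Nat.card B * (2 * Nat.card (V ⊓ Subgroup.centralizer (A : Set G) : Subgroup G)) := by
            rw [hcardA]; ring
      have h2 := Nat.le_of_mul_le_mul_left h1 Nat.card_pos
      have h3 : Nat.card (V ⊓ Subgroup.centralizer (A : Set G) : Subgroup G) ≤
          Nat.card (V ⊓ Subgroup.centralizer ({a} : Set G) : Subgroup G) := by
        apply Subgroup.card_le_of_le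
        refine le_inf inf_le_left ?_
        refine inf_le_right.trans (Subgroup.centralizer_le ?_)
        intro t ht
        rw [Set.mem_singleton_iff] at ht
        rw [ht]; exact haA
      omega
    have hrel : (V ⊓ Subgroup.centralizer ({a} : Set G)).relIndex V = 2 := by
      have h1 := card_eq_relIndex_mul (inf_le_left :
        V ⊓ Subgroup.centralizer ({a} : Set G) ≤ V)
      have hpos : 0 < Nat.card (V ⊓ Subgroup.centralizer ({a} : Set G) : Subgroup G) :=
        Nat.card_pos
      have hne1 : (V ⊓ Subgroup.centralizer ({a} : Set G)).relIndex V ≠ 1 := by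
        intro h3
        rw [Subgroup.relIndex_eq_one] at h3
        apply haC
        rw [hC, Subgroup.mem_centralizer_iff]
        intro v hv
        have := (h3 hv).2
        exact (Subgroup.mem_centralizer_iff.1 this a rfl).symm
      have hne0 : (V ⊓ Subgroup.centralizer ({a} : Set G)).relIndex V ≠ 0 := by
        intro h0
        rw [h0, zero_mul] at h1
        have : 0 < Nat.card V := Nat.card_pos
        omega
      have hle2 : (V ⊓ Subgroup.centralizer ({a} : Set G)).relIndex V ≤ 2 := by
        by_contra hgt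
        push Not at hgt
        have : 3 * Nat.card (V ⊓ Subgroup.centralizer ({a} : Set G) : Subgroup G) ≤ Nat.card V := by
          rw [h1]; exact Nat.mul_le_mul_right _ hgt
        omega
      omega
    obtain ⟨r, hrV, hrr, hr1, hr⟩ := exists_transvection_center V hVc a hrel
    have ha2 : ∃ k : ℕ, a ^ (2 ^ k) = 1 := by
      obtain ⟨k, hk⟩ := hA2 ⟨a, haA⟩
      refine ⟨k, ?_⟩
      have := congrArg Subtype.val hk
      simpa using this
    exact hS4 (involves_S4_of_transvection V hVc hOp a r ha2 (hC ▸ haC) hrV hrr hr1 hr)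
  · -- `B` is a smaller nontrivially acting subgroup, hence not an offender
    have hnoff : ¬ Off V B := fun ho => hBne (h.min B hBA (hC ▸ hBC) ho)
    unfold Off at hnoff
    rw [← hC] at hnoff
    push Not at hnoff
    have hBCeq : B ⊓ C = A ⊓ C :=
      le_antisymm (inf_le_inf_right C hBA) (le_inf hA₀B inf_le_right)
    rw [hBCeq] at hnoff
    have hyB : y ∈ V ⊓ Subgroup.centralizer (B : Set G) := by
      refine Subgroup.mem_inf.2 ⟨hy, ?_⟩
      rw [Subgroup.mem_centralizer_iff]
      intro b hb
      rw [hB] at hb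
      exact (Subgroup.mem_centralizer_iff.1 hb.2 y rfl).symm
    have hyA : y ∉ V ⊓ Subgroup.centralizer (A : Set G) := by
      intro hyA
      apply hBne
      apply le_antisymm hBA
      intro a ha
      rw [hB]
      refine Subgroup.mem_inf.2 ⟨ha, ?_⟩
      rw [Subgroup.mem_centralizer_iff]
      intro t ht
      rw [Set.mem_singleton_iff] at ht
      rw [ht]
      exact (Subgroup.mem_centralizer_iff.1 hyA.2 a ha).symm
    have hlt : V ⊓ Subgroup.centralizer (A : Set G) < V ⊓ Subgroup.centralizer (B : Set G) := by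
      refine lt_of_le_of_ne (inf_le_inf_left V (Subgroup.centralizer_le hBA)) ?_
      intro heq
      apply hyA
      rw [heq]; exact hyB
    have h2 := two_mul_card_le_of_lt hlt
    have h3 : Nat.card B * Nat.card (V ⊓ Subgroup.centralizer (B : Set G) : Subgroup G) <
        Nat.card B * Nat.card (V ⊓ Subgroup.centralizer (B : Set G) : Subgroup G) := by
      calc Nat.card B * Nat.card (V ⊓ Subgroup.centralizer (B : Set G) : Subgroup G)
          < Nat.card (A ⊓ C : Subgroup G) * Nat.card V := hnoff
        _ ≤ Nat.card A * Nat.card (V ⊓ Subgroup.centralizer (A : Set G) : Subgroup G) := hoff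
        _ = Nat.card B * (2 * Nat.card (V ⊓ Subgroup.centralizer (A : Set G) : Subgroup G)) := by
          rw [hcardA]; ring
        _ ≤ Nat.card B * Nat.card (V ⊓ Subgroup.centralizer (B : Set G) : Subgroup G) :=
          Nat.mul_le_mul_left _ h2
    exact lt_irrefl _ h3

end GW

end Cfsg.Agent.Helper1
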