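import Mathlib
import Cfsg.Prelude.Def_PLocal
import Cfsg.Prelude.Def_LocalEven
import Cfsg.Agent.Helper1.GWj
import Cfsg.Agent.Helper1.GWk
import Cfsg.Agent.Helper1.GWr

set_option autoImplicit false

/-!
The reduced setting of the weak closure theorem: the case `p = 2`, `G` being `S₄`-free; and
the assembly of the theorem.
-/

namespace Cfsg.Agent.Helper1

namespace GW

open scoped BigOperators
open Cfsg.Agent.Lead Cfsg.Agent.Lead.ZJ Cfsg.Agent.Helper1.TN

universe u

variable {p : ℕ} {G : Type u} [Group G]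

/-- The reduced setting, `p = 2` and `G` is `S₄`-free. -/
theorem main_c [Finite G] [hp : Fact p.Prime] (hp2 : p = 2)
    (ih : ∀ H : Subgroup G, H ≠ ⊤ → PW p ↥H)
    (S : Sylow p G) (x : G) (hyp : Hyp p (S : Subgroup G) x) (hxQ : x ∈ Cfsg.pCore p G)
    (hxp : x ^ p ∈ Subgroup.center G) (hS4 : ¬ Cfsg.Involves (Equiv.Perm (Fin 4)) G) :
    x ∈ Subgroup.center G := by
  classical
  subst hp2
  by_contra hxc
  have hover := over_le ih S x hyp hxQ
  have hQS : Cfsg.pCore 2 G ≤ (S : Subgroup G) := pCore_le_sylow S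
  have hxS : ∀ s ∈ (S : Subgroup G), s * x = x * s := hyp.cent
  obtain ⟨hVc, hVQ, hQV⟩ := normalClosure_facts S x hxS hxQ
  obtain ⟨V, hV⟩ : ∃ V, V = Subgroup.normalClosure ({x} : Set G) := ⟨_, rfl⟩
  rw [← hV] at hVc hVQ hQV
  haveI hVn : V.Normal := by rw [hV]; exact Subgroup.normalClosure_normal
  have hxV : x ∈ V := by
    rw [hV]; exact Subgroup.subset_normalClosure (Set.mem_singleton x)
  have hVS : V ≤ (S : Subgroup G) := hVQ.trans hQS
  have hex := exists_fam_not_le_centralizer S x hyp.nj hxc V hxV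
  obtain ⟨A, hAS, hAm⟩ := exists_minOff S V hVc hVS hex
  obtain ⟨Z₀, hZ₀def⟩ : ∃ Z₀, Z₀ = Subgroup.zpowers (x ^ 2) := ⟨_, rfl⟩
  have hZ₀ : Z₀ ≤ Subgroup.center G := by
    rw [hZ₀def, Subgroup.zpowers_le]; exact hxp
  obtain ⟨W, instW, F, hF⟩ := exists_hom_ker V hVc 1 Z₀
  have hOp : ∀ D : Subgroup G, D.Normal → Subgroup.centralizer (V : Set G) ≤ D →
      (∃ k : ℕ, (Subgroup.centralizer (V : Set G)).relIndex D = 2 ^ k) →
      D = Subgroup.centralizer (V : Set G) :=
    fun D hDn hCD hrel => pCore_quot_trivial S x hover hxc V hxV hQV D hDn hCD hrel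
  have hsq : ∀ t ∈ V, t * t ∈ Z₀ := by
    let M : Subgroup G :=
      { carrier := {t | t ∈ V ∧ t * t ∈ Z₀}
        one_mem' := ⟨V.one_mem, by rw [mul_one]; exact Z₀.one_mem⟩
        mul_mem' := by
          rintro s t ⟨hs, hs2⟩ ⟨ht, ht2⟩
          refine ⟨V.mul_mem hs ht, ?_⟩
          have e : s * t * (s * t) = (s * s) * (t * t) := by
            calc s * t * (s * t) = s * (t * s) * t := by group
              _ = s * (s * t) * t := by rw [hVc t ht s hs]
              _ = (s * s) * (t * t) := by group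
          rw [e]; exact Z₀.mul_mem hs2 ht2
        inv_mem' := by
          rintro s ⟨hs, hs2⟩
          refine ⟨V.inv_mem hs, ?_⟩
          have e : s⁻¹ * s⁻¹ = (s * s)⁻¹ := by group
          rw [e]; exact Z₀.inv_mem hs2 }
    haveI hMn : M.Normal := by
      constructor
      rintro t ⟨ht, ht2⟩ g
      refine ⟨hVn.conj_mem t ht g, ?_⟩
      have e : g * t * g⁻¹ * (g * t * g⁻¹) = g * (t * t) * g⁻¹ := by group
      have hc := Subgroup.mem_center_iff.1 (hZ₀ ht2) g
      rw [e, hc]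
      have e2 : t * t * g * g⁻¹ = t * t := by group
      rw [e2]; exact ht2
    have hVM : V ≤ M := by
      rw [hV]
      apply Subgroup.normalClosure_le_normal
      intro t ht
      rw [Set.mem_singleton_iff] at ht
      rw [ht]
      refine ⟨hxV, ?_⟩
      rw [hZ₀def, ← pow_two]
      exact Subgroup.mem_zpowers _
    intro t ht
    exact (hVM ht).2
  apply hxc
  apply final_of_family S x x 1 hover V hVc hQV hxV hxS (pow_one x) hyp.mem Z₀ hZ₀ F hF
    (fun A => MinOff V A) (fun A g h => h.conj g) (fun A h => h.quad) ⟨A, hAS, hAm, hAm.nc⟩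
  intro A hAS hm y hy hne
  have hyV : y ∈ V := by
    obtain ⟨g, rfl⟩ := mem_conjFinset.1 hy
    exact hVn.conj_mem x hxV g
  apply orbit_prod_eq_one_c hVc hm.quad (S.2.to_le hAS) (ext1 F) (ext1_mul F) ?_ (conjFinset x)
    (fun a _ y hy => conj_mem_conjFinset hy a) y hy hyV ?_ hne
  · intro t ht
    rw [ext1_of_mem _ ht, ← map_mul, hF]
    show (t * t) ^ 1 ∈ Z₀
    rw [pow_one]; exact hsq t ht
  · exact hm.relIndex_ne_two hVc hOp hS4 (S.2.to_le hAS) hyV

end GW

end Cfsg.Agent.Helper1
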