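import Mathlib
import Cfsg.Prelude.Def_PLocal
import Cfsg.Prelude.Def_LocalEven
import Cfsg.Agent.Helper1.GWs

set_option autoImplicit false

/-!
Glauberman's weak closure theorem: an element `x` of `S ∩ Z(N_G(J(S)))` is weakly closed in the
Sylow `p`-subgroup `S` provided `p` is odd, or `x = z ^ p` with `z ∈ Z(S)`, or `G` is `S₄`-free.
-/

namespace Cfsg.Agent.Helper1

namespace GW

open Cfsg.Agent.Lead Cfsg.Agent.Lead.ZJ Cfsg.Agent.Helper1.TN

universe u

variable {p : ℕ} {G : Type u} [Group G]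

theorem main_aux [Finite G] [hp : Fact p.Prime] (ih : ∀ H : Subgroup G, H ≠ ⊤ → PW p ↥H)
    (S : Sylow p G) (x : G) (hyp : Hyp p (S : Subgroup G) x) (hxQ : x ∈ Cfsg.pCore p G)
    (hxp : x ^ p ∈ Subgroup.center G) : x ∈ Subgroup.center G := by
  rcases hyp.alt with h | ⟨z, hzS, hzc, hzp⟩ | h
  · exact main_quad ih S x hyp hxQ hxp x 1 hyp.mem hyp.cent (pow_one x) (Or.inl ⟨rfl, h⟩)
  · exact main_quad ih S x hyp hxQ hxp z p hzS hzc hzp (Or.inr rfl)
  · by_cases hp2 : p = 2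
    · exact main_c hp2 ih S x hyp hxQ hxp h
    · exact main_quad ih S x hyp hxQ hxp x 1 hyp.mem hyp.cent (pow_one x) (Or.inl ⟨rfl, hp2⟩)

theorem main_lemma [Finite G] [hp : Fact p.Prime] (ih : ∀ H : Subgroup G, H ≠ ⊤ → PW p ↥H)
    (S : Sylow p G) : ∀ (k : ℕ) (x : G), Hyp p (S : Subgroup G) x → x ∈ Cfsg.pCore p G →
      x ^ (p ^ k) = 1 → x ∈ Subgroup.center G := by
  intro k
  induction k with
  | zero =>
    intro x _ _ h
    rw [pow_zero, pow_one] at h
    rw [h]; exact Subgroup.one_mem _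
  | succ k ihk =>
    intro x hyp hxQ hx
    have h1 : x ^ p ∈ Subgroup.center G :=
      ihk (x ^ p) hyp.pow ((Cfsg.pCore p G).pow_mem hxQ p)
        (by rw [← pow_mul, ← pow_succ']; exact hx)
    exact main_aux ih S x hyp hxQ h1

theorem pw_all [hp : Fact p.Prime] : ∀ (n : ℕ) (G : Type u) [Group G] [Finite G],
    Nat.card G = n → PW p G := by
  intro n
  induction n using Nat.strong_induction_on with
  | _ n ih =>
  intro G _ _ hn
  have ih' : ∀ H : Subgroup G, H ≠ ⊤ → PW p ↥H := by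
    intro H hH
    have hlt : Nat.card H < n := by
      rw [← hn]
      have := card_lt_card_of_lt (lt_top_iff_ne_top.2 hH)
      rwa [Subgroup.card_top] at this
    exact ih _ hlt H rfl
  apply pw_of_main ih'
  intro S x hyp hxQ
  obtain ⟨k, hk⟩ : ∃ k : ℕ, x ^ (p ^ k) = 1 := by
    obtain ⟨k, hk⟩ := S.2 ⟨x, hyp.mem⟩
    refine ⟨k, ?_⟩
    have := congrArg Subtype.val hk
    simpa using this
  exact main_lemma ih' S k x hyp hxQ hk

/-- **Glauberman's weak closure theorem.** -/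
theorem weak_closure [Finite G] [hp : Fact p.Prime] (S : Sylow p G) (x : G)
    (hxS : x ∈ (S : Subgroup G))
    (hxZ : x ∈ (Subgroup.center ↥(Subgroup.normalizer
      ((Cfsg.thompsonSubgroupAOf (S : Subgroup G)) : Set G))).map
      (Subgroup.normalizer ((Cfsg.thompsonSubgroupAOf (S : Subgroup G)) : Set G)).subtype)
    (h : p ≠ 2 ∨ (∃ z ∈ (S : Subgroup G) ⊓ Subgroup.centralizer ((S : Subgroup G) : Set G),
      z ^ p = x) ∨ ¬ Cfsg.Involves (Equiv.Perm (Fin 4)) G) :
    ∀ g : G, g * x * g⁻¹ ∈ (S : Subgroup G) → g * x * g⁻¹ = x := by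
  have hyp : Hyp p (S : Subgroup G) x := by
    refine ⟨hxS, ?_, ?_⟩
    · intro n hn
      obtain ⟨x', hx', hx'x⟩ := hxZ
      have h1 := Subgroup.mem_center_iff.1 hx' ⟨n, hn⟩
      have h2 := congrArg Subtype.val h1
      rw [← hx'x]
      exact h2
    · rcases h with h | ⟨z, hz, hzx⟩ | h
      · exact Or.inl h
      · right; left
        refine ⟨z, (Subgroup.mem_inf.1 hz).1, ?_, hzx⟩
        intro s hs
        exact Subgroup.mem_centralizer_iff.1 (Subgroup.mem_inf.1 hz).2 s hs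
      · exact Or.inr (Or.inr h)
  exact pw_all _ G rfl S x hyp

end GW

end Cfsg.Agent.Helper1
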