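import Mathlib
import Cfsg.Agent.Helper3.GlaubDefs
import Cfsg.Agent.Helper1.GlaubOdd
import Cfsg.Agent.Helper1.Cores
import Cfsg.Agent.Helper1.Fitting

/-!
# Theorem G (perfect form of Glauberman's corollary of Z*), piece G-asm (hypothesis form)

The induction on `|K|`: the three cases `O(K) ≠ 1` (piece G-odd, `odd_case`), `O(K) = 1 ≠ O_2(K)`
(piece G-two) and `O(K) = 1 = O_2(K)` (piece G-main).  The last two pieces enter as hypotheses of
the exact shape of the stubs in `notes/helper3_S1301_stubs.lean.txt`.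
-/

set_option autoImplicit false

namespace Cfsg.Agent.Helper1.Glaub

open Cfsg.Agent.Helper2 Cfsg.Agent.Helper3.Glaub

universe u

section aux

variable {G : Type u} [Group G]

/-- `O_2(K)` as a subgroup of the ambient group. -/
def twoCoreOf (p : ℕ) (K : Subgroup G) : Subgroup G := (Cfsg.pCore p ↥K).map K.subtype

theorem twoCoreOf_le (p : ℕ) (K : Subgroup G) : twoCoreOf p K ≤ K := by
  rintro _ ⟨y, -, rfl⟩
  exact y.2

theorem twoCoreOf_isPGroup (p : ℕ) [Fact p.Prime] (K : Subgroup G) :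
    IsPGroup p ↥(twoCoreOf p K) :=
  (Cfsg.Agent.Helper1.pCore_isPGroup p).map _

/-- conjugation by a normalizing element, as an endomorphism of `K`. -/
def conjEnd (K : Subgroup G) (g : G) (hg : g ∈ Subgroup.normalizer (K : Set G)) : ↥K →* ↥K :=
  ((MulAut.conj g).toMonoidHom.comp K.subtype).codRestrict K
    (fun k => (Subgroup.mem_normalizer_iff.mp hg (k : G)).mp k.2)

theorem conjEnd_coe (K : Subgroup G) (g : G) (hg : g ∈ Subgroup.normalizer (K : Set G)) (k : ↥K) :
    ((conjEnd K g hg k : ↥K) : G) = g * (k : G) * g⁻¹ := rfl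

theorem conjEnd_surjective (K : Subgroup G) (g : G) (hg : g ∈ Subgroup.normalizer (K : Set G)) :
    Function.Surjective (conjEnd K g hg) := by
  intro k
  have hg' : g⁻¹ ∈ Subgroup.normalizer (K : Set G) := inv_mem hg
  refine ⟨⟨g⁻¹ * (k : G) * g, ?_⟩, ?_⟩
  · have := (Subgroup.mem_normalizer_iff.mp hg' (k : G)).mp k.2
    simpa using this
  · apply Subtype.ext
    rw [conjEnd_coe]
    simp [mul_assoc]

theorem conj_mem_twoCoreOf (p : ℕ) [Fact p.Prime] (K : Subgroup G) {g : G}
    (hg : g ∈ Subgroup.normalizer (K : Set G)) {x : G} (hx : x ∈ twoCoreOf p K) :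
    g * x * g⁻¹ ∈ twoCoreOf p K := by
  obtain ⟨y, hy, rfl⟩ := hx
  have h1 : (Cfsg.pCore p ↥K).map (conjEnd K g hg) ≤ Cfsg.pCore p ↥K := by
    apply Cfsg.Agent.Helper1.le_pCore
    · exact Subgroup.Normal.map inferInstance _ (conjEnd_surjective K g hg)
    · exact (Cfsg.Agent.Helper1.pCore_isPGroup p).map _
  exact ⟨conjEnd K g hg y, h1 ⟨y, hy, rfl⟩, rfl⟩

theorem normalizer_le_normalizer_twoCoreOf (p : ℕ) [Fact p.Prime] (K : Subgroup G) :
    Subgroup.normalizer (K : Set G) ≤ Subgroup.normalizer ((twoCoreOf p K : Subgroup G) : Set G) := by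
  intro g hg
  rw [Subgroup.mem_normalizer_iff]
  intro x
  constructor
  · exact fun hx => conj_mem_twoCoreOf p K hg hx
  · intro hx
    have := conj_mem_twoCoreOf p K (inv_mem hg) hx
    simpa [mul_assoc] using this

/-- if `O_{p'}(K) = 1` then `K` has no nontrivial normal `p'`-subgroup. -/
theorem eq_bot_of_coreOf_eq_bot (p : ℕ) {K : Subgroup G} (h : coreOf p K = ⊥) (V : Subgroup G)
    (hVK : V ≤ K) (hn : K ≤ Subgroup.normalizer (V : Set G)) (hc : (Nat.card ↥V).Coprime p) :
    V = ⊥ := by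
  have hN : (V.subgroupOf K).Normal := (Subgroup.normal_subgroupOf_iff_le_normalizer hVK).mpr hn
  have h1 : Cfsg.pPrimeCore p ↥K = ⊥ := by
    unfold coreOf at h
    exact (Subgroup.map_eq_bot_iff_of_injective _ K.subtype_injective).mp h
  have h2 : V.subgroupOf K ≤ Cfsg.pPrimeCore p ↥K := by
    apply Cfsg.Agent.Helper1.le_pPrimeCore hN
    rw [Nat.card_congr (Subgroup.subgroupOfEquivOfLe hVK).toEquiv]
    exact hc
  rw [h1, le_bot_iff, Subgroup.subgroupOf_eq_bot] at h2
  exact disjoint_self.mp (h2.mono_right hVK)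

/-- if `O_p(K) = 1` then `K` has no nontrivial normal `p`-subgroup. -/
theorem eq_bot_of_twoCoreOf_eq_bot (p : ℕ) {K : Subgroup G} (h : twoCoreOf p K = ⊥)
    (Q : Subgroup G) (hQK : Q ≤ K) (hn : K ≤ Subgroup.normalizer (Q : Set G))
    (hQ : IsPGroup p ↥Q) : Q = ⊥ := by
  have hN : (Q.subgroupOf K).Normal := (Subgroup.normal_subgroupOf_iff_le_normalizer hQK).mpr hn
  have h1 : Cfsg.pCore p ↥K = ⊥ := by
    unfold twoCoreOf at h
    exact (Subgroup.map_eq_bot_iff_of_injective _ K.subtype_injective).mp h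
  have h2 : Q.subgroupOf K ≤ Cfsg.pCore p ↥K :=
    Cfsg.Agent.Helper1.le_pCore hN (hQ.comap_subtype (K := K))
  rw [h1, le_bot_iff, Subgroup.subgroupOf_eq_bot] at h2
  exact disjoint_self.mp (h2.mono_right hQK)

end aux

/-- PIECE G-asm, hypothesis form: the induction on `|K|`; `hmain` is piece G-main (`main_case`),
`htwo` is piece G-two (`two_case`). -/
theorem stmt_all_of
    (hmain : ∀ {G : Type u} [Group G] [Finite G] (K L S : Subgroup G) (_ : Hyp K L S)
      (_ : ∀ V : Subgroup G, V ≤ K → K ≤ Subgroup.normalizer (V : Set G) →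
        (Nat.card V).Coprime 2 → V = ⊥)
      (_ : ∀ Q : Subgroup G, Q ≤ K → K ≤ Subgroup.normalizer (Q : Set G) →
        IsPGroup 2 ↥Q → Q = ⊥)
      (_ : ∀ K' S' : Subgroup G, K' < K → Hyp K' L S' → Concl K' L), Concl K L)
    (htwo : ∀ (n : ℕ) (_ : Stmt.{u} n) {G : Type u} [Group G] [Finite G] (K L S : Subgroup G)
      (_ : Nat.card K ≤ n + 1) (_ : Hyp K L S)
      (_ : ∀ V : Subgroup G, V ≤ K → K ≤ Subgroup.normalizer (V : Set G) →
        (Nat.card V).Coprime 2 → V = ⊥)
      (Q : Subgroup G) (_ : Q ≤ K)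
      (_ : Subgroup.normalizer (K : Set G) ≤ Subgroup.normalizer (Q : Set G))
      (_ : IsPGroup 2 ↥Q) (_ : Q ≠ ⊥), Concl K L) :
    ∀ n : ℕ, Stmt.{u} n := by
  intro n
  induction n with
  | zero =>
    intro G _ _ K L S hcard _
    have : 0 < Nat.card ↥K := Nat.card_pos
    omega
  | succ n ih =>
    intro G _ _ K L S hcard h
    have : Fact (Nat.Prime 2) := ⟨Nat.prime_two⟩
    by_cases hV : coreOf 2 K = ⊥
    · have hodd := eq_bot_of_coreOf_eq_bot 2 hV
      by_cases hQ : twoCoreOf 2 K = ⊥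
      · refine hmain K L S h hodd (eq_bot_of_twoCoreOf_eq_bot 2 hQ) ?_
        intro K' S' hlt hyp
        refine ih G K' L S' ?_ hyp
        have h1 : Nat.card ↥K' < Nat.card ↥K :=
          Set.Finite.card_lt_card (Set.toFinite _) (SetLike.coe_ssubset_coe.mpr hlt)
        omega
      · exact htwo n ih K L S hcard h hodd (twoCoreOf 2 K) (twoCoreOf_le 2 K)
          (normalizer_le_normalizer_twoCoreOf 2 K) (twoCoreOf_isPGroup 2 K) hQ
    · exact odd_case n ih K L S hcard h hV

end Cfsg.Agent.Helper1.Glaub
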