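import Mathlib
import Cfsg.Agent.Helper3.GlaubDefs
import Cfsg.Agent.Helper3.GlaubMain
import Cfsg.Agent.Helper6.GlaubTwo
import Cfsg.Agent.Helper1.GlaubAsm
import Cfsg.Agent.Helper1.GLPofG

/-!
# Theorem G (perfect form of Glauberman's corollary of the Z*-theorem): final statements

`glauberman_perfect`: `L ≤ N_G(K)` perfect, centralizing a Sylow 2-subgroup `S` of `K`; then every
2-element of `L` centralizes `K` modulo `O(K)`.  Pieces: `main_case` (helper3), `two_case` (helper6),
`odd_case` and the induction (helper1).  Corollary `glp` (piece (I) of the B-side of S1301).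
-/

set_option autoImplicit false

namespace Cfsg.Agent.Helper1.Glaub

open Cfsg.Agent.Helper2 Cfsg.Agent.Helper3.Glaub

universe u

/-- PIECE G-asm: the induction. -/
theorem stmt_all : ∀ n : ℕ, Stmt.{u} n :=
  stmt_all_of Cfsg.Agent.Helper3.Glaub.main_case Cfsg.Agent.Helper6.Glaub.two_case

/-- **Theorem G** (perfect form of Glauberman's corollary of the Z*-theorem). -/
theorem glauberman_perfect {G : Type u} [Group G] [Finite G] (K L S : Subgroup G) (h : Hyp K L S) :
    Concl K L :=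
  stmt_all (Nat.card K) G K L S le_rfl h

end Cfsg.Agent.Helper1.Glaub

namespace Cfsg.Agent.Helper1.GLP

open Cfsg.Agent.Helper2
open scoped commutatorElement

universe u

/-- PIECE (I) of the B-side: `K ⊴ Γ`, `S` a Sylow 2-subgroup of `K`, `Y` perfect and generated by
its 2-elements, centralizing `S`; then `[K, Y] ≤ O(Γ)`. -/
theorem glp {Γ : Type u} [Group Γ] [Finite Γ] (K : Subgroup Γ) [K.Normal] (S Y : Subgroup Γ)
    (hSK : S ≤ K) (hS : IsPGroup 2 ↥S) (hSyl : ¬ 2 ∣ S.relIndex K)
    (hY : ⁅Y, Y⁆ = Y ∧ opp 2 Y = Y)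
    (hYS : Y ≤ Subgroup.centralizer (S : Set Γ)) : ⁅K, Y⁆ ≤ Cfsg.pPrimeCore 2 Γ :=
  glp_of Cfsg.Agent.Helper1.Glaub.glauberman_perfect K S Y hSK hS hSyl hY hYS

end Cfsg.Agent.Helper1.GLP
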