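import Mathlib

set_option autoImplicit false

/-!
A normalizer-growth step used in Glauberman's replacement theorem.
-/

namespace Cfsg.Agent.Helper1

universe u

variable {S : Type u} [Group S]

theorem exists_mem_normalizer_normalizer [Finite S] {p : ℕ} [Fact p.Prime] (hS : IsPGroup p S)
    (B : Subgroup S) [hBn : B.Normal] (A : Subgroup S)
    (hnot : ¬ B ≤ Subgroup.normalizer (A : Set S)) :
    ∃ b ∈ B, b ∈ Subgroup.normalizer ((Subgroup.normalizer (A : Set S)) : Set S) ∧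
      b ∉ Subgroup.normalizer (A : Set S) := by
  obtain ⟨N, hN⟩ : ∃ N : Subgroup S, N = Subgroup.normalizer (A : Set S) := ⟨_, rfl⟩
  rw [← hN] at hnot ⊢
  obtain ⟨L, hL⟩ : ∃ L : Subgroup S, L = B ⊔ N := ⟨_, rfl⟩
  have hNL : N ≤ L := hL ▸ le_sup_right
  have hBL : B ≤ L := hL ▸ le_sup_left
  have hLp : IsPGroup p L := hS.to_subgroup L
  have hLn : Group.IsNilpotent L := hLp.isNilpotent
  have hlt : N.subgroupOf L < ⊤ := by
    rw [lt_top_iff_ne_top, Ne, Subgroup.subgroupOf_eq_top]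
    intro h
    exact hnot (hBL.trans h)
  have h1 := Group.normalizerCondition_of_isNilpotent (G := L) (N.subgroupOf L) hlt
  obtain ⟨y, hy1, hy2⟩ := SetLike.exists_of_lt h1
  rw [← Subgroup.subgroupOf_normalizer_eq hNL, Subgroup.mem_subgroupOf] at hy1
  rw [Subgroup.mem_subgroupOf] at hy2
  have hyL : (y : S) ∈ B ⊔ N := hL ▸ y.2
  rw [Subgroup.mem_sup_of_normal_left] at hyL
  obtain ⟨b, hb, n, hn, hbn⟩ := hyL
  refine ⟨b, hb, ?_, ?_⟩
  · have : b = (y : S) * n⁻¹ := by rw [← hbn]; group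
    rw [this]
    exact Subgroup.mul_mem _ hy1 (Subgroup.inv_mem _ (Subgroup.le_normalizer hn))
  · intro hbN
    apply hy2
    rw [← hbn]
    exact N.mul_mem hbN hn

end Cfsg.Agent.Helper1
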