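import Mathlib

set_option autoImplicit false

/-!
A commutator lemma of Glauberman: if `A` acts on `B` centralizing `B'` then `[B, A]'` is central
in `B`; and for abelian `A` and `b ∈ B` with `[b, A, A, A] = 1` the derived subgroup of `[b, A]`
has exponent dividing `2`.
-/

namespace Cfsg.Agent.Helper1

open scoped commutatorElement

variable {G : Type*} [Group G]

section part1

variable (A B : Subgroup G)

theorem commutator_self_le (B : Subgroup G) : ⁅B, B⁆ ≤ B :=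
  Subgroup.commutator_le.2 fun _ h₁ _ h₂ =>
    B.mul_mem (B.mul_mem (B.mul_mem h₁ h₂) (B.inv_mem h₁)) (B.inv_mem h₂)

theorem glauberman_comm_centralizes (hc : ⁅⁅B, B⁆, A⁆ = ⊥) : ⁅⁅B, A⁆, ⁅B, B⁆⁆ = ⊥ := by
  apply Subgroup.commutator_commutator_eq_bot_of_rotate
  · rw [Subgroup.commutator_comm A, hc, Subgroup.commutator_bot_left]
  · rw [eq_bot_iff, ← hc]
    exact Subgroup.commutator_mono (Subgroup.commutator_mono (commutator_self_le B) le_rfl) le_rfl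

theorem glauberman_comm_le (hAB : A ≤ Subgroup.normalizer (B : Set G)) : ⁅B, A⁆ ≤ B :=
  Subgroup.le_normalizer_iff_commutator_le_left.1 hAB

theorem glauberman_comm_derived_central (hAB : A ≤ Subgroup.normalizer (B : Set G))
    (hc : ⁅⁅B, B⁆, A⁆ = ⊥) : ⁅⁅B, A⁆, ⁅B, A⁆⁆ ≤ B ⊓ Subgroup.centralizer (B : Set G) := by
  have hL := glauberman_comm_le A B hAB
  have h0 := glauberman_comm_centralizes A B hc
  refine le_inf ((Subgroup.commutator_mono hL hL).trans (commutator_self_le B)) ?_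
  rw [← Subgroup.commutator_eq_bot_iff_le_centralizer]
  apply Subgroup.commutator_commutator_eq_bot_of_rotate
  · rw [eq_bot_iff, ← h0, Subgroup.commutator_comm _ ⁅B, A⁆]
    exact Subgroup.commutator_mono le_rfl (Subgroup.commutator_mono hL le_rfl)
  · rw [eq_bot_iff, ← h0, Subgroup.commutator_comm _ ⁅B, A⁆]
    exact Subgroup.commutator_mono le_rfl (Subgroup.commutator_mono le_rfl hL)

end part1

section part2

/-- abstract form of the key computation -/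
theorem glauberman_key_abstract (w w' ζ fe e u a : G)
    (id1 : a * w * a⁻¹ = u⁻¹ * w' * (u * ζ))
    (id2 : w' = fe * (e * w * e⁻¹))
    (h1 : a * w = w * a) (h2 : u⁻¹ * w' = w' * u⁻¹) (h3 : e * w = w * e) (h4 : ζ * w = w * ζ) :
    fe * ζ = 1 := by
  have e1 : a * w * a⁻¹ = w := by rw [h1, mul_assoc, mul_inv_cancel, mul_one]
  have e2 : e * w * e⁻¹ = w := by rw [h3, mul_assoc, mul_inv_cancel, mul_one]
  have e3 : w = w' * ζ := by
    rw [← e1, id1, h2, mul_assoc, inv_mul_cancel_left]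
  rw [id2, e2] at e3
  -- `w = fe * w * ζ`
  have e4 : w = fe * ζ * w := by
    rw [mul_assoc fe ζ w, h4, ← mul_assoc]; exact e3
  have e5 : fe * ζ * w = 1 * w := by rw [one_mul]; exact e4.symm
  exact mul_right_cancel e5

theorem comm_absorb (x y e : G) (cx : Commute e x) (cy : Commute e y) :
    x⁻¹ * (e * y) * x * (e * y)⁻¹ = x⁻¹ * y * x * y⁻¹ := by
  have ht : Commute e (x⁻¹ * y * x * y⁻¹) :=
    ((cx.inv_right.mul_right cy).mul_right cx).mul_right cy.inv_right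
  calc x⁻¹ * (e * y) * x * (e * y)⁻¹ = (x⁻¹ * e * x) * (x⁻¹ * y * x * y⁻¹) * e⁻¹ := by group
    _ = e * (x⁻¹ * y * x * y⁻¹) * e⁻¹ := by
        rw [show x⁻¹ * e * x = e from by rw [mul_assoc, cx.eq, inv_mul_cancel_left]]
    _ = x⁻¹ * y * x * y⁻¹ := by rw [ht.eq, mul_assoc, mul_inv_cancel, mul_one]

theorem glauberman_sq_abstract (ua uc e₁ e₂ b z : G)
    (hz : z = uc * ua * uc⁻¹ * ua⁻¹)
    (E1 : ua * e₁ * uc = uc * e₂ * ua)
    (K1 : (b⁻¹ * e₁ * b * e₁⁻¹) * (ua⁻¹ * (e₁ * uc) * ua * (e₁ * uc)⁻¹) = 1)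
    (K2 : (b⁻¹ * e₂ * b * e₂⁻¹) * (uc⁻¹ * (e₂ * ua) * uc * (e₂ * ua)⁻¹) = 1)
    (c1a : Commute e₁ ua) (c1c : Commute e₁ uc) (c2a : Commute e₂ ua) (c2c : Commute e₂ uc)
    (za : Commute z ua) (zc : Commute z uc) (zb : Commute z b) (ze₂ : Commute z e₂) :
    z * z = 1 := by
  have s1 : ua⁻¹ * uc * ua * uc⁻¹ = z := by
    calc ua⁻¹ * uc * ua * uc⁻¹ = ua⁻¹ * (uc * ua * uc⁻¹ * ua⁻¹) * ua := by group
      _ = ua⁻¹ * z * ua := by rw [hz]
      _ = z := by rw [mul_assoc, za.eq, inv_mul_cancel_left]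
  have s2 : uc⁻¹ * ua * uc * ua⁻¹ = z⁻¹ := by
    calc uc⁻¹ * ua * uc * ua⁻¹ = uc⁻¹ * (uc * ua * uc⁻¹ * ua⁻¹)⁻¹ * uc := by group
      _ = uc⁻¹ * z⁻¹ * uc := by rw [hz]
      _ = z⁻¹ := by rw [mul_assoc, zc.inv_left.eq, inv_mul_cancel_left]
  have s3 : e₁ = z * e₂ := by
    calc e₁ = ua⁻¹ * (ua * e₁ * uc) * uc⁻¹ := by group
      _ = ua⁻¹ * (uc * e₂ * ua) * uc⁻¹ := by rw [E1]
      _ = ua⁻¹ * uc * (e₂ * ua) * uc⁻¹ := by group
      _ = ua⁻¹ * uc * (ua * e₂) * uc⁻¹ := by rw [c2a.eq]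
      _ = ua⁻¹ * uc * ua * (e₂ * uc⁻¹) := by group
      _ = ua⁻¹ * uc * ua * (uc⁻¹ * e₂) := by rw [c2c.inv_right.eq]
      _ = (ua⁻¹ * uc * ua * uc⁻¹) * e₂ := by group
      _ = z * e₂ := by rw [s1]
  rw [comm_absorb ua uc e₁ c1a c1c, s1] at K1
  rw [comm_absorb uc ua e₂ c2c c2a, s2] at K2
  rw [s3, comm_absorb b e₂ z zb ze₂] at K1
  have h : z = z⁻¹ := mul_left_cancel (K1.trans K2.symm)
  calc z * z = z⁻¹ * z := by rw [← h]
    _ = 1 := inv_mul_cancel z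

variable (A B : Subgroup G)

/-- the key identity: `[b⁻¹, [a, d]] * [u_a⁻¹, a d a⁻¹] = 1`. -/
theorem glauberman_key (hAB : A ≤ Subgroup.normalizer (B : Set G)) (hc : ⁅⁅B, B⁆, A⁆ = ⊥)
    (b : G) (hb : b ∈ B) (D : Subgroup G) (hDL : D ≤ ⁅B, A⁆)
    (hDinv : ∀ a ∈ A, ∀ d ∈ D, a * d * a⁻¹ ∈ D)
    (hu : ∀ a ∈ A, b⁻¹ * a * b * a⁻¹ ∈ D)
    (a : G) (ha : a ∈ A) (d : G) (hd : d ∈ D) :
    (b⁻¹ * (a * d * a⁻¹ * d⁻¹) * b * (a * d * a⁻¹ * d⁻¹)⁻¹) *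
      ((b⁻¹ * a * b * a⁻¹)⁻¹ * (a * d * a⁻¹) * (b⁻¹ * a * b * a⁻¹) * (a * d * a⁻¹)⁻¹) = 1 := by
  have hLB : ⁅B, A⁆ ≤ B := glauberman_comm_le A B hAB
  have hDB : D ≤ B := hDL.trans hLB
  have hBA' : ∀ w ∈ ⁅B, B⁆, ∀ x ∈ A, x * w = w * x := by
    intro w hw x hx
    have h := (Subgroup.commutator_eq_bot_iff_le_centralizer.1 hc) hw
    exact Subgroup.mem_centralizer_iff.1 h x hx
  have hLB' : ∀ l ∈ ⁅B, A⁆, ∀ w ∈ ⁅B, B⁆, l * w = w * l := by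
    intro l hl w hw
    have h := (Subgroup.commutator_eq_bot_iff_le_centralizer.1
      (glauberman_comm_centralizes A B hc)) hl
    exact (Subgroup.mem_centralizer_iff.1 h w hw).symm
  have hZ : ∀ z ∈ ⁅D, D⁆, ∀ y ∈ B, z * y = y * z := by
    intro z hz y hy
    have h1 : z ∈ ⁅⁅B, A⁆, ⁅B, A⁆⁆ := Subgroup.commutator_mono hDL hDL hz
    have h2 := (glauberman_comm_derived_central A B hAB hc h1).2
    exact (Subgroup.mem_centralizer_iff.1 h2 y hy).symm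
  have hbi : b⁻¹ ∈ B := B.inv_mem hb
  have hd' : a * d * a⁻¹ ∈ D := hDinv a ha d hd
  -- memberships
  have hw : b⁻¹ * d * b * d⁻¹ ∈ ⁅B, B⁆ := by
    have := Subgroup.commutator_mem_commutator hbi (hDB hd)
    simpa [commutatorElement_def] using this
  have hw' : b⁻¹ * (a * d * a⁻¹) * b * (a * d * a⁻¹)⁻¹ ∈ ⁅B, B⁆ := by
    have := Subgroup.commutator_mem_commutator hbi (hDB hd')
    simpa [commutatorElement_def] using this
  have he : a * d * a⁻¹ * d⁻¹ ∈ ⁅B, A⁆ := by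
    have := Subgroup.commutator_mem_commutator ha (hDB hd)
    rw [Subgroup.commutator_comm]
    simpa [commutatorElement_def] using this
  have hui : (b⁻¹ * a * b * a⁻¹)⁻¹ ∈ ⁅B, A⁆ := Subgroup.inv_mem _ (hDL (hu a ha))
  have hζ : (b⁻¹ * a * b * a⁻¹)⁻¹ * (a * d * a⁻¹) * (b⁻¹ * a * b * a⁻¹) * (a * d * a⁻¹)⁻¹ ∈
      ⁅D, D⁆ := by
    have := Subgroup.commutator_mem_commutator (D.inv_mem (hu a ha)) hd'
    simpa [commutatorElement_def] using this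
  apply glauberman_key_abstract (b⁻¹ * d * b * d⁻¹) (b⁻¹ * (a * d * a⁻¹) * b * (a * d * a⁻¹)⁻¹)
    _ _ (a * d * a⁻¹ * d⁻¹) (b⁻¹ * a * b * a⁻¹) a
  · group
  · group
  · exact hBA' _ hw a ha
  · exact hLB' _ hui _ hw'
  · exact hLB' _ he _ hw
  · exact hZ _ hζ _ (commutator_self_le B hw)

/-- the subgroup of central elements of `B` squaring to one -/
def centralInvolutions (B : Subgroup G) : Subgroup G where
  carrier := {z | z ∈ B ⊓ Subgroup.centralizer (B : Set G) ∧ z ^ 2 = 1}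
  one_mem' := ⟨Subgroup.one_mem _, one_pow 2⟩
  mul_mem' := by
    rintro x y ⟨hx, hx2⟩ ⟨hy, hy2⟩
    refine ⟨Subgroup.mul_mem _ hx hy, ?_⟩
    have hxy : x * y = y * x := Subgroup.mem_centralizer_iff.1 hy.2 x hx.1
    have : Commute x y := hxy
    rw [this.mul_pow, hx2, hy2, one_mul]
  inv_mem' := by
    rintro x ⟨hx, hx2⟩
    exact ⟨Subgroup.inv_mem _ hx, by rw [inv_pow, hx2, inv_one]⟩

theorem mem_centralInvolutions {B : Subgroup G} {z : G} :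
    z ∈ centralInvolutions B ↔ z ∈ B ⊓ Subgroup.centralizer (B : Set G) ∧ z ^ 2 = 1 := Iff.rfl

/-- if commutators of generators are central involutions so are all commutators -/
theorem commutator_le_centralInvolutions (B D : Subgroup G) (U : Set G) (hDU : D = Subgroup.closure U)
    (hDB : D ≤ B) (hZ : ⁅D, D⁆ ≤ B ⊓ Subgroup.centralizer (B : Set G))
    (hgen : ∀ x ∈ U, ∀ y ∈ U, x * y * x⁻¹ * y⁻¹ ∈ centralInvolutions B) :
    ⁅D, D⁆ ≤ centralInvolutions B := by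
  have hcen : ∀ x ∈ D, ∀ y ∈ D, ∀ g ∈ B, g * (x * y * x⁻¹ * y⁻¹) * g⁻¹ = x * y * x⁻¹ * y⁻¹ := by
    intro x hx y hy g hg
    have h1 : x * y * x⁻¹ * y⁻¹ ∈ ⁅D, D⁆ := Subgroup.commutator_mem_commutator hx hy
    have h2 := Subgroup.mem_centralizer_iff.1 (hZ h1).2 g hg
    rw [h2, mul_assoc, mul_inv_cancel, mul_one]
  -- first variable
  have step1 : ∀ y ∈ U, ∀ x ∈ D, x * y * x⁻¹ * y⁻¹ ∈ centralInvolutions B := by
    intro y hy x hx
    have hyD : y ∈ D := hDU ▸ Subgroup.subset_closure hy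
    rw [hDU] at hx
    induction hx using Subgroup.closure_induction with
    | mem x hx => exact hgen x hx y hy
    | one => simp
    | mul x x' hx hx' ihx ihx' =>
      have hxD : x ∈ D := hDU ▸ hx
      have hx'D : x' ∈ D := hDU ▸ hx'
      have h1 : x * x' * y * (x * x')⁻¹ * y⁻¹ =
          x * (x' * y * x'⁻¹ * y⁻¹) * x⁻¹ * (x * y * x⁻¹ * y⁻¹) := by group
      rw [h1, hcen x' hx'D y hyD x (hDB hxD)]
      exact Subgroup.mul_mem _ ihx' ihx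
    | inv x hx ihx =>
      have hxD : x ∈ D := hDU ▸ hx
      have h1 : x⁻¹ * y * x⁻¹⁻¹ * y⁻¹ = x⁻¹ * (x * y * x⁻¹ * y⁻¹)⁻¹ * x⁻¹⁻¹ := by group
      rw [h1]
      have h2 := hcen x hxD y hyD x⁻¹ (B.inv_mem (hDB hxD))
      have h3 : x⁻¹ * (x * y * x⁻¹ * y⁻¹)⁻¹ * x⁻¹⁻¹ = (x⁻¹ * (x * y * x⁻¹ * y⁻¹) * x⁻¹⁻¹)⁻¹ := by
        group
      rw [h3, h2]
      exact Subgroup.inv_mem _ ihx
  rw [Subgroup.commutator_le]
  intro x hx y hy
  rw [commutatorElement_def]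
  have hy' := hy
  rw [hDU] at hy'
  induction hy' using Subgroup.closure_induction with
  | mem y hyU => exact step1 y hyU x hx
  | one => simp
  | mul y y' hyc hyc' ihy ihy' =>
    have hyD : y ∈ D := hDU ▸ hyc
    have hy'D : y' ∈ D := hDU ▸ hyc'
    have h1 : x * (y * y') * x⁻¹ * (y * y')⁻¹ =
        (x * y * x⁻¹ * y⁻¹) * (y * (x * y' * x⁻¹ * y'⁻¹) * y⁻¹) := by group
    rw [h1, hcen x hx y' hy'D y (hDB hyD)]
    exact Subgroup.mul_mem _ (ihy hyD) (ihy' hy'D)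
  | inv y hyc ihy =>
    have hyD : y ∈ D := hDU ▸ hyc
    have h1 : x * y⁻¹ * x⁻¹ * y⁻¹⁻¹ = (y⁻¹ * (x * y * x⁻¹ * y⁻¹) * y⁻¹⁻¹)⁻¹ := by group
    rw [h1, hcen x hx y hyD y⁻¹ (B.inv_mem (hDB hyD))]
    exact Subgroup.inv_mem _ (ihy hyD)

theorem glauberman_exponent_two (hAB : A ≤ Subgroup.normalizer (B : Set G))
    (hc : ⁅⁅B, B⁆, A⁆ = ⊥) (hA : ∀ a ∈ A, ∀ c ∈ A, a * c = c * a) (b : G) (hb : b ∈ B)
    (D : Subgroup G) (hDdef : D = Subgroup.closure {g : G | ∃ a ∈ A, g = b⁻¹ * a * b * a⁻¹})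
    (hD : ⁅⁅D, A⁆, A⁆ = ⊥) : ∀ w ∈ ⁅D, D⁆, w ^ 2 = 1 := by
  have hLB : ⁅B, A⁆ ≤ B := glauberman_comm_le A B hAB
  have hbi : b⁻¹ ∈ B := B.inv_mem hb
  have hu : ∀ a ∈ A, b⁻¹ * a * b * a⁻¹ ∈ D := by
    intro a ha
    rw [hDdef]
    exact Subgroup.subset_closure ⟨a, ha, rfl⟩
  have hDL : D ≤ ⁅B, A⁆ := by
    rw [hDdef, Subgroup.closure_le]
    rintro _ ⟨a, ha, rfl⟩
    have := Subgroup.commutator_mem_commutator hbi ha
    simpa [commutatorElement_def] using this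
  have hDB : D ≤ B := hDL.trans hLB
  have hDinv : ∀ a ∈ A, ∀ d ∈ D, a * d * a⁻¹ ∈ D := by
    intro a ha d hd
    rw [hDdef] at hd
    induction hd using Subgroup.closure_induction with
    | mem x hx =>
      obtain ⟨c, hc', rfl⟩ := hx
      have h1 : a * (b⁻¹ * c * b * c⁻¹) * a⁻¹ =
          (b⁻¹ * a * b * a⁻¹)⁻¹ * (b⁻¹ * (a * c) * b * (a * c)⁻¹) := by group
      rw [h1]
      exact D.mul_mem (D.inv_mem (hu a ha)) (hu (a * c) (A.mul_mem ha hc'))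
    | one => simp
    | mul x y _ _ ihx ihy =>
      have h1 : a * (x * y) * a⁻¹ = (a * x * a⁻¹) * (a * y * a⁻¹) := by group
      rw [h1]; exact D.mul_mem ihx ihy
    | inv x _ ihx =>
      have h1 : a * x⁻¹ * a⁻¹ = (a * x * a⁻¹)⁻¹ := by group
      rw [h1]; exact D.inv_mem ihx
  have hkey := glauberman_key A B hAB hc b hb D hDL hDinv hu
  have hZD : ⁅D, D⁆ ≤ B ⊓ Subgroup.centralizer (B : Set G) :=
    (Subgroup.commutator_mono hDL hDL).trans (glauberman_comm_derived_central A B hAB hc)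
  have hZ : ∀ z ∈ ⁅D, D⁆, ∀ y ∈ B, z * y = y * z := by
    intro z hz y hy
    exact (Subgroup.mem_centralizer_iff.1 (hZD hz).2 y hy).symm
  -- elements of `[D, A]` are centralized by `A`
  have hNA : ∀ n ∈ ⁅D, A⁆, ∀ a ∈ A, a * n = n * a := by
    intro n hn a ha
    have h := (Subgroup.commutator_eq_bot_iff_le_centralizer.1 hD) hn
    exact Subgroup.mem_centralizer_iff.1 h a ha
  -- elements of `[D, A]` commute with the generators
  have hNu : ∀ n ∈ ⁅D, A⁆, ∀ a ∈ A, n * (b⁻¹ * a * b * a⁻¹) = (b⁻¹ * a * b * a⁻¹) * n := by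
    intro n hn a ha
    have hnD : n ∈ D := by
      have : ⁅D, A⁆ ≤ D := Subgroup.commutator_le.2 fun d hd x hx => by
        have h1 : ⁅d, x⁆ = d * (x * d⁻¹ * x⁻¹) := by rw [commutatorElement_def]; group
        rw [h1]
        have h2 := hDinv x hx d⁻¹ (D.inv_mem hd)
        exact D.mul_mem hd h2
      exact this hn
    have h1 := hkey a ha n hnD
    have h2 : a * n * a⁻¹ = n := by rw [hNA n hn a ha, mul_assoc, mul_inv_cancel, mul_one]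
    rw [h2, mul_inv_cancel, inv_one, mul_one, mul_one, inv_mul_cancel, one_mul] at h1
    have h3 : n * (b⁻¹ * a * b * a⁻¹) =
        (b⁻¹ * a * b * a⁻¹) * ((b⁻¹ * a * b * a⁻¹)⁻¹ * n * (b⁻¹ * a * b * a⁻¹) * n⁻¹) * n := by
      group
    rw [h3, h1, mul_one]
  have hND : ∀ n ∈ ⁅D, A⁆, ∀ d ∈ D, n * d = d * n := by
    intro n hn d hd
    have h1 : D ≤ Subgroup.centralizer ({n} : Set G) := by
      rw [hDdef, Subgroup.closure_le]
      rintro _ ⟨a, ha, rfl⟩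
      rw [SetLike.mem_coe, Subgroup.mem_centralizer_iff]
      intro h hh
      rw [Set.mem_singleton_iff] at hh
      subst hh
      exact hNu h hn a ha
    exact Subgroup.mem_centralizer_iff.1 (h1 hd) n rfl
  -- commutators of generators are central involutions
  have hgen : ∀ a ∈ A, ∀ c ∈ A,
      (b⁻¹ * c * b * c⁻¹) * (b⁻¹ * a * b * a⁻¹) * (b⁻¹ * c * b * c⁻¹)⁻¹ * (b⁻¹ * a * b * a⁻¹)⁻¹ ∈
        centralInvolutions B := by
    intro a ha c hc'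
    have huaD := hu a ha
    have hucD := hu c hc'
    have he₁ : a * (b⁻¹ * c * b * c⁻¹) * a⁻¹ * (b⁻¹ * c * b * c⁻¹)⁻¹ ∈ ⁅D, A⁆ := by
      have := Subgroup.commutator_mem_commutator ha hucD
      rw [Subgroup.commutator_comm]
      simpa [commutatorElement_def] using this
    have he₂ : c * (b⁻¹ * a * b * a⁻¹) * c⁻¹ * (b⁻¹ * a * b * a⁻¹)⁻¹ ∈ ⁅D, A⁆ := by
      have := Subgroup.commutator_mem_commutator hc' huaD
      rw [Subgroup.commutator_comm]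
      simpa [commutatorElement_def] using this
    have hzD : (b⁻¹ * c * b * c⁻¹) * (b⁻¹ * a * b * a⁻¹) * (b⁻¹ * c * b * c⁻¹)⁻¹ *
        (b⁻¹ * a * b * a⁻¹)⁻¹ ∈ ⁅D, D⁆ := Subgroup.commutator_mem_commutator hucD huaD
    refine ⟨hZD hzD, ?_⟩
    rw [sq]
    have hDA_le_B : ⁅D, A⁆ ≤ B := (Subgroup.commutator_mono hDB le_rfl).trans hLB
    have hcoc1 : b⁻¹ * (a * c) * b * (a * c)⁻¹ = (b⁻¹ * a * b * a⁻¹) *
        (a * (b⁻¹ * c * b * c⁻¹) * a⁻¹ * (b⁻¹ * c * b * c⁻¹)⁻¹) * (b⁻¹ * c * b * c⁻¹) := by group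
    have hcoc2 : b⁻¹ * (c * a) * b * (c * a)⁻¹ = (b⁻¹ * c * b * c⁻¹) *
        (c * (b⁻¹ * a * b * a⁻¹) * c⁻¹ * (b⁻¹ * a * b * a⁻¹)⁻¹) * (b⁻¹ * a * b * a⁻¹) := by group
    have hac : a * c = c * a := hA a ha c hc'
    have E1 := hcoc1.symm.trans ((by rw [hac] : b⁻¹ * (a * c) * b * (a * c)⁻¹ =
      b⁻¹ * (c * a) * b * (c * a)⁻¹).trans hcoc2)
    have hr1 : a * (b⁻¹ * c * b * c⁻¹) * a⁻¹ =
        (a * (b⁻¹ * c * b * c⁻¹) * a⁻¹ * (b⁻¹ * c * b * c⁻¹)⁻¹) * (b⁻¹ * c * b * c⁻¹) := by group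
    have hr2 : c * (b⁻¹ * a * b * a⁻¹) * c⁻¹ =
        (c * (b⁻¹ * a * b * a⁻¹) * c⁻¹ * (b⁻¹ * a * b * a⁻¹)⁻¹) * (b⁻¹ * a * b * a⁻¹) := by group
    refine glauberman_sq_abstract (b⁻¹ * a * b * a⁻¹) (b⁻¹ * c * b * c⁻¹)
      (a * (b⁻¹ * c * b * c⁻¹) * a⁻¹ * (b⁻¹ * c * b * c⁻¹)⁻¹)
      (c * (b⁻¹ * a * b * a⁻¹) * c⁻¹ * (b⁻¹ * a * b * a⁻¹)⁻¹) b _ rfl E1 ?_ ?_
      (hND _ he₁ _ huaD) (hND _ he₁ _ hucD) (hND _ he₂ _ huaD) (hND _ he₂ _ hucD)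
      (hZ _ hzD _ (hDB huaD)) (hZ _ hzD _ (hDB hucD)) (hZ _ hzD _ hb)
      (hZ _ hzD _ (hDA_le_B he₂))
    · rw [← hr1]; exact hkey a ha _ hucD
    · rw [← hr2]; exact hkey c hc' _ huaD
  have hle := commutator_le_centralInvolutions B D _ hDdef hDB hZD (by
    rintro _ ⟨c, hc', rfl⟩ _ ⟨a, ha, rfl⟩
    exact hgen a ha c hc')
  intro w hw
  exact (hle hw).2

end part2

end Cfsg.Agent.Helper1
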