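import Mathlib
import Cfsg.Prelude.Def_Transfer
import Cfsg.Agent.Helper1.Basic
import Cfsg.Agent.Helper1.Coprime
import Cfsg.Agent.Helper1.SylowInt

set_option autoImplicit false

/-!
Grün-type results: weakly closed central subgroups control fusion / transfer.
-/

namespace Cfsg.Agent.Helper1

open scoped Pointwise commutatorElement

universe u

variable {G : Type u} [Group G]

/-- Two `p`-subgroups of `C` can be conjugated inside `C` into a common `p`-subgroup. -/
theorem exists_conj_into_common_pgroup [Finite G] {p : ℕ} [Fact p.Prime] (C A B : Subgroup G)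
    (hA : IsPGroup p A) (hB : IsPGroup p B) (hAC : A ≤ C) (hBC : B ≤ C) :
    ∃ k ∈ C, ∃ R : Subgroup G, IsPGroup p R ∧ A ≤ R ∧ MulAut.conj k • B ≤ R := by
  have hA' : IsPGroup p (A.subgroupOf C) := hA.comap_of_injective C.subtype C.subtype_injective
  have hB' : IsPGroup p (B.subgroupOf C) := hB.comap_of_injective C.subtype C.subtype_injective
  obtain ⟨R, hR⟩ := hA'.exists_le_sylow
  obtain ⟨R', hR'⟩ := hB'.exists_le_sylow
  obtain ⟨k, hk, hk'⟩ := exists_conj_sylow_map C R' R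
  refine ⟨k, hk, (R : Subgroup C).map C.subtype, ?_, ?_, ?_⟩
  · exact R.2.map C.subtype
  · intro a ha
    exact ⟨⟨a, hAC ha⟩, hR ha, rfl⟩
  · rw [← hk']
    intro x hx
    rw [mem_conj_smul] at hx ⊢
    exact ⟨⟨_, hBC hx⟩, hR' hx, rfl⟩

/-- A weakly closed subgroup `Z ≤ Z(P)`: fusion in `P` is controlled by `N(Z)`. -/
theorem weaklyClosed_central_controls_fusion [Finite G] {p : ℕ} [Fact p.Prime] (P : Sylow p G)
    (Z : Subgroup G) (hZ : Z ≤ Subgroup.centralizer (P : Set G)) (hW : Cfsg.IsWeaklyClosed Z P)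
    (x u : G) (hx : x ∈ P) (hy : u * x * u⁻¹ ∈ P) :
    ∃ n ∈ Subgroup.normalizer (Z : Set G), n * x * n⁻¹ = u * x * u⁻¹ := by
  set y := u * x * u⁻¹ with hydef
  set C := Subgroup.centralizer ({y} : Set G) with hC
  have hZP : Z ≤ (P : Subgroup G) := hW.1
  have hZp : IsPGroup p Z := P.2.to_le hZP
  have hZC : Z ≤ C := by
    intro z hz
    rw [hC, Subgroup.mem_centralizer_iff]
    intro w hw
    rw [Set.mem_singleton_iff] at hw
    subst hw
    exact Subgroup.mem_centralizer_iff.1 (hZ hz) y hy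
  have hZuC : MulAut.conj u • Z ≤ C := by
    intro w hw
    rw [mem_conj_smul] at hw
    rw [hC, Subgroup.mem_centralizer_iff]
    intro v hv
    rw [Set.mem_singleton_iff] at hv
    subst hv
    have h1 := Subgroup.mem_centralizer_iff.1 (hZ hw) x hx
    -- `x * (u⁻¹ w u) = (u⁻¹ w u) * x`
    have h1' : x * (u⁻¹ * w * u) = u⁻¹ * w * u * x := h1
    calc u * x * u⁻¹ * w = u * (x * (u⁻¹ * w * u)) * u⁻¹ := by group
      _ = u * (u⁻¹ * w * u * x) * u⁻¹ := by rw [h1']
      _ = w * (u * x * u⁻¹) := by group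
  have hZup : IsPGroup p (MulAut.conj u • Z : Subgroup G) := by
    rw [conj_smul_eq_map]; exact hZp.map _
  obtain ⟨k, hk, R, hR, hZR, hkR⟩ := exists_conj_into_common_pgroup C Z (MulAut.conj u • Z)
    hZp hZup hZC hZuC
  obtain ⟨P1, hP1⟩ := hR.exists_le_sylow
  obtain ⟨a, ha⟩ := MulAction.exists_smul_eq G P P1
  have hP1' : (P1 : Subgroup G) = MulAut.conj a • (P : Subgroup G) := by
    rw [← ha, Sylow.coe_subgroup_smul]
  -- general principle: if `g Z g⁻¹ ≤ P1` then `a⁻¹ g ∈ N(Z)`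
  have key : ∀ g : G, MulAut.conj g • Z ≤ (P1 : Subgroup G) →
      a⁻¹ * g ∈ Subgroup.normalizer (Z : Set G) := by
    intro g hg
    have h1 : Z.map (MulAut.conj (a⁻¹ * g)).toMonoidHom ≤ (P : Subgroup G) := by
      rintro _ ⟨z, hz, rfl⟩
      have h2 := hg (conj_mem_conj_smul (g := g) hz)
      rw [hP1', mem_conj_smul] at h2
      have : (MulAut.conj (a⁻¹ * g)).toMonoidHom z = a⁻¹ * (g * z * g⁻¹) * a := by
        simp [MulAut.conj_apply, mul_assoc]
      rw [this]
      exact h2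
    have h3 := hW.2 _ h1
    rw [← conj_smul_eq_map] at h3
    exact mem_normalizer_of_conj_smul_eq h3
  have ha' : a⁻¹ ∈ Subgroup.normalizer (Z : Set G) := by
    have := key 1 (by rw [map_one, one_smul]; exact hZR.trans hP1)
    simpa using this
  have hkuZ : MulAut.conj (k * u) • Z ≤ (P1 : Subgroup G) := by
    rw [map_mul, mul_smul]
    exact hkR.trans hP1
  have h4 := key (k * u) hkuZ
  have h5 : k * u ∈ Subgroup.normalizer (Z : Set G) := by
    have : k * u = (a⁻¹)⁻¹ * (a⁻¹ * (k * u)) := by group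
    rw [this]
    exact Subgroup.mul_mem _ (Subgroup.inv_mem _ ha') h4
  refine ⟨k * u, h5, ?_⟩
  have hky : k * y = y * k := (Subgroup.mem_centralizer_iff.1 hk y rfl).symm
  calc k * u * x * (k * u)⁻¹ = k * (u * x * u⁻¹) * k⁻¹ := by group
    _ = k * y * k⁻¹ := by rw [hydef]
    _ = y := by rw [hky, mul_inv_cancel_right]

/-- Grün: for a weakly closed `Z ≤ Z(P)`, `G' ∩ P = N(Z)' ∩ P`. -/
theorem grun_weaklyClosed [Finite G] {p : ℕ} [Fact p.Prime] (P : Sylow p G)
    (Z : Subgroup G) (hZ : Z ≤ Subgroup.centralizer (P : Set G)) (hW : Cfsg.IsWeaklyClosed Z P) :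
    commutator G ⊓ (P : Subgroup G) =
      ⁅Subgroup.normalizer (Z : Set G), Subgroup.normalizer (Z : Set G)⁆ ⊓ (P : Subgroup G) := by
  have hPN : (P : Subgroup G) ≤ Subgroup.normalizer (Z : Set G) := by
    have h1 : (P : Subgroup G) ≤ Subgroup.centralizer (Z : Set G) :=
      Subgroup.le_centralizer_iff.1 hZ
    exact h1.trans (Subgroup.centralizer_le_normalizer _)
  apply le_antisymm
  · refine le_inf ?_ inf_le_right
    rw [Subgroup.commutator_inf_eq_focalSubgroup, Subgroup.focalSubgroup_def, Subgroup.closure_le]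
    rintro g ⟨hgP, x, hxP, u, rfl⟩
    have h1 : u * x⁻¹ * u⁻¹ ∈ P := by
      have : u * x⁻¹ * u⁻¹ = x⁻¹ * ⁅x, u⁆ := by
        simp [commutatorElement_def, mul_assoc]
      rw [this]
      exact Subgroup.mul_mem _ (Subgroup.inv_mem _ hxP) hgP
    obtain ⟨n, hn, hn'⟩ := weaklyClosed_central_controls_fusion P Z hZ hW x⁻¹ u
      (Subgroup.inv_mem _ hxP) h1
    have : ⁅x, u⁆ = ⁅x, n⁆ := by
      simp only [commutatorElement_def]
      have e1 : x * u * x⁻¹ * u⁻¹ = x * (u * x⁻¹ * u⁻¹) := by group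
      have e2 : x * n * x⁻¹ * n⁻¹ = x * (n * x⁻¹ * n⁻¹) := by group
      rw [e1, e2, hn']
    rw [this]
    exact Subgroup.commutator_mem_commutator (hPN hxP) hn
  · refine inf_le_inf_right _ ?_
    rw [commutator_def]
    exact Subgroup.commutator_mono le_top le_top

end Cfsg.Agent.Helper1
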