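import Mathlib
import Cfsg.Prelude.Def_Solvable
import Cfsg.Agent.Helper1.Cores
import Cfsg.Agent.Helper1.Fitting
import Cfsg.Agent.Helper1.Rank2Fitting

set_option autoImplicit false

/-!
Pieces for helper9's S4415 (HH3): a subgroup of order 13 of a solvable group of order dividing
`2^9 * 5 * 13` is normal.
-/

namespace Cfsg.Agent.Helper1.HH3

open Cfsg.Agent.Helper1

variable {G : Type*} [Group G]

/-- a `q`-group `Q` acting by conjugation on a normal subgroup `L`:
`|L| ≡ |C_L(Q)| (mod q)`. -/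
theorem card_modEq_card_inf_centralizer [Finite G] {q : ℕ} [hq : Fact q.Prime]
    (L Q : Subgroup G) [hLn : L.Normal] (hQ : IsPGroup q Q) :
    Nat.card L ≡ Nat.card ↥(L ⊓ Subgroup.centralizer (Q : Set G)) [MOD q] := by
  let φ : Q →* MulAut L := (MulAut.conjNormal (H := L)).comp Q.subtype
  letI : MulAction Q L := MulAction.compHom L φ
  have hsmul : ∀ (x : Q) (l : L), ((x • l : L) : G) = (x : G) * l * (x : G)⁻¹ := by
    intro x l
    show ((MulAut.conjNormal (H := L) (x : G)) l : G) = _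
    rw [MulAut.conjNormal_apply]
  have h1 := hQ.card_modEq_card_fixedPoints L
  have h2 : Nat.card (MulAction.fixedPoints Q L)
      = Nat.card ↥(L ⊓ Subgroup.centralizer (Q : Set G)) := by
    apply Nat.card_congr
    refine
      { toFun := fun l => ⟨(l.1 : G), Subgroup.mem_inf.2 ⟨l.1.2, ?_⟩⟩
        invFun := fun c => ⟨⟨c.1, (Subgroup.mem_inf.1 c.2).1⟩, ?_⟩
        left_inv := fun l => rfl
        right_inv := fun c => rfl }
    · rw [Subgroup.mem_centralizer_iff]
      intro x hx
      have := l.2 ⟨x, hx⟩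
      have h3 := congrArg Subtype.val this
      rw [hsmul] at h3
      simp only at h3
      calc x * (l.1 : G) = x * l.1 * x⁻¹ * x := by group
        _ = l.1 * x := by rw [h3]
    · intro x
      apply Subtype.ext
      rw [hsmul]
      have hc := (Subgroup.mem_centralizer_iff.1 (Subgroup.mem_inf.1 c.2).2) (x : G) x.2
      show (x : G) * c.1 * (x : G)⁻¹ = c.1
      rw [hc, mul_inv_cancel_right]
  rw [h2] at h1
  exact h1

/-- a `p`-subgroup of the Fitting subgroup lies in `O_p(G)`. -/
theorem le_pCore_of_le_fittingSubgroup [Finite G] {p : ℕ} [hp : Fact p.Prime] (Y : Subgroup G)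
    (hY : IsPGroup p Y) (hYF : Y ≤ Cfsg.fittingSubgroup G) : Y ≤ Cfsg.pCore p G := by
  haveI hnil : Group.IsNilpotent ↥(Cfsg.fittingSubgroup G) := fittingSubgroup_isNilpotent
  have hY' : IsPGroup p (Y.subgroupOf (Cfsg.fittingSubgroup G)) :=
    hY.comap_of_injective _ (Subgroup.subtype_injective _)
  obtain ⟨P, hP⟩ := hY'.exists_le_sylow
  have hPn : (P : Subgroup ↥(Cfsg.fittingSubgroup G)).Normal := inferInstance
  have hPc : (P : Subgroup ↥(Cfsg.fittingSubgroup G)).Characteristic :=
    Sylow.characteristic_of_normal P hPn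
  have hnorm : ((P : Subgroup ↥(Cfsg.fittingSubgroup G)).map
      (Cfsg.fittingSubgroup G).subtype).Normal := inferInstance
  have hpg : IsPGroup p ((P : Subgroup ↥(Cfsg.fittingSubgroup G)).map
      (Cfsg.fittingSubgroup G).subtype) := P.isPGroup'.map _
  refine le_trans ?_ (le_pCore hnorm hpg)
  intro y hy
  exact ⟨⟨y, hYF hy⟩, hP (Subgroup.mem_subgroupOf.2 hy), rfl⟩

/-- **L4** -/
theorem normal_of_card_thirteen [Finite G] [Group.IsSolvable G] (Y : Subgroup G)
    (hY : Nat.card ↥Y = 13) (hG : Nat.card G ∣ 2 ^ 9 * 5 * 13) : Y.Normal := by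
  haveI : Fact (Nat.Prime 13) := ⟨by norm_num⟩
  have hYp : IsPGroup 13 Y := IsPGroup.of_card (n := 1) (by rw [hY]; norm_num)
  -- `Y` centralizes every `O_s(G)`
  have hcent : ∀ s : Nat.Primes, Cfsg.pCore (s : ℕ) G ≤ Subgroup.centralizer (Y : Set G) := by
    intro s
    haveI : Fact (s : ℕ).Prime := ⟨s.2⟩
    set D := Cfsg.pCore (s : ℕ) G with hD
    have hmod := card_modEq_card_inf_centralizer D Y hYp
    obtain ⟨a, ha⟩ := (pCore_isPGroup (G := G) (s : ℕ)).exists_card_eq
    have hFle : D ⊓ Subgroup.centralizer (Y : Set G) ≤ D := inf_le_left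
    have hFp : IsPGroup (s : ℕ) ↥(D ⊓ Subgroup.centralizer (Y : Set G)) :=
      (pCore_isPGroup (G := G) (s : ℕ)).to_le hFle
    obtain ⟨b, hb⟩ := hFp.exists_card_eq
    have hdvd : (s : ℕ) ^ a ∣ 2 ^ 9 * 5 * 13 := by
      rw [← ha]; exact (Subgroup.card_subgroup_dvd_card D).trans hG
    have hba : (s : ℕ) ^ b ∣ (s : ℕ) ^ a := by
      rw [← ha, ← hb]; exact Subgroup.card_dvd_of_le hFle
    have hble : b ≤ a := (Nat.pow_dvd_pow_iff_le_right s.2.one_lt).1 hba
    rw [ha, hb] at hmod
    -- conclude `a = b`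
    have hab : a = b := by
      by_contra hne
      have hlt : b < a := lt_of_le_of_ne hble (Ne.symm hne)
      have hs : (s : ℕ) ∣ 2 ^ 9 * 5 * 13 := (dvd_pow_self (s : ℕ) (by omega)).trans hdvd
      have hs' : (s : ℕ) = 2 ∨ (s : ℕ) = 5 ∨ (s : ℕ) = 13 := by
        have h1 := (Nat.Prime.dvd_mul s.2).1 hs
        rcases h1 with h1 | h1
        · rcases (Nat.Prime.dvd_mul s.2).1 h1 with h2 | h2
          · left
            exact (Nat.prime_dvd_prime_iff_eq s.2 Nat.prime_two).1 (s.2.dvd_of_dvd_pow h2)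
          · right; left
            exact (Nat.prime_dvd_prime_iff_eq s.2 (by norm_num)).1 h2
        · right; right
          exact (Nat.prime_dvd_prime_iff_eq s.2 (by norm_num)).1 h1
      rcases hs' with h2 | h5 | h13
      · rw [h2] at hdvd hmod
        have ha9 : a ≤ 9 := by
          by_contra h
          have : (2 : ℕ) ^ 10 ∣ 2 ^ 9 * 5 * 13 := (pow_dvd_pow 2 (by omega)).trans hdvd
          norm_num at this
        unfold Nat.ModEq at hmod
        interval_cases a <;> interval_cases b <;> simp_all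
      · rw [h5] at hdvd hmod
        have ha1 : a ≤ 1 := by
          by_contra h
          have : (5 : ℕ) ^ 2 ∣ 2 ^ 9 * 5 * 13 := (pow_dvd_pow 5 (by omega)).trans hdvd
          norm_num at this
        unfold Nat.ModEq at hmod
        interval_cases a <;> interval_cases b <;> simp_all
      · rw [h13] at hdvd hmod
        have ha1 : a ≤ 1 := by
          by_contra h
          have : (13 : ℕ) ^ 2 ∣ 2 ^ 9 * 5 * 13 := (pow_dvd_pow 13 (by omega)).trans hdvd
          norm_num at this
        unfold Nat.ModEq at hmod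
        interval_cases a <;> interval_cases b <;> simp_all
    have hcard : Nat.card ↥(D ⊓ Subgroup.centralizer (Y : Set G)) = Nat.card ↥D := by
      rw [ha, hb, hab]
    have heq : D ⊓ Subgroup.centralizer (Y : Set G) = D :=
      Subgroup.eq_of_le_of_card_ge hFle (le_of_eq hcard.symm)
    rw [← heq]
    exact inf_le_right
  have hYF : Y ≤ Cfsg.fittingSubgroup G := by
    intro y hy
    apply Rank2Fitting.mem_fittingSubgroup_of_forall_mem_centralizer_pCore
    intro s
    rw [Subgroup.mem_centralizer_iff]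
    intro d hd
    exact ((Subgroup.mem_centralizer_iff.1 (hcent s hd)) y hy).symm
  have hYO : Y ≤ Cfsg.pCore 13 G := le_pCore_of_le_fittingSubgroup Y hYp hYF
  -- `|O_13(G)|` divides `13`
  obtain ⟨a, ha⟩ := (pCore_isPGroup (G := G) 13).exists_card_eq
  have hdvd : 13 ^ a ∣ 2 ^ 9 * 5 * 13 := by
    rw [← ha]; exact (Subgroup.card_subgroup_dvd_card _).trans hG
  have ha1 : a ≤ 1 := by
    by_contra h
    have : (13 : ℕ) ^ 2 ∣ 2 ^ 9 * 5 * 13 := (pow_dvd_pow 13 (by omega)).trans hdvd
    norm_num at this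
  have hYeq : Y = Cfsg.pCore 13 G := by
    apply Subgroup.eq_of_le_of_card_ge hYO
    rw [hY, ha]
    calc 13 ^ a ≤ 13 ^ 1 := Nat.pow_le_pow_right (by norm_num) ha1
      _ = 13 := by norm_num
  rw [hYeq]
  infer_instance

/-- **L5** -/
theorem card_dvd_of_faithful_on {S E : Type*} [Group S] [AddCommGroup E] [Module (ZMod 3) E]
    (ρ : Representation (ZMod 3) S E) (H : Subgroup S) [Finite ↥H] (V : Submodule (ZMod 3) E)
    [Finite ↥V] (hinv : ∀ h ∈ H, ∀ v ∈ V, ρ h v ∈ V)
    (hfaith : ∀ h ∈ H, (∀ v ∈ V, ρ h v = v) → h = 1) (d : ℕ) (hd : Nat.card ↥V = 3 ^ d) :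
    Nat.card ↥H ∣ ∏ i ∈ Finset.range d, (3 ^ d - 3 ^ i) := by
  haveI : Fact (Nat.Prime 3) := ⟨by norm_num⟩
  -- the restriction hom
  let ψ : ↥H →* Module.End (ZMod 3) ↥V :=
    { toFun := fun h => (ρ h.1).restrict (hinv h.1 h.2)
      map_one' := by
        ext v
        simp
      map_mul' := by
        intro a b
        ext v
        simp }
  let ψu : ↥H →* LinearMap.GeneralLinearGroup (ZMod 3) ↥V := ψ.toHomUnits
  have hψu : ∀ (h : ↥H) (v : ↥V), ((ψu h : Module.End (ZMod 3) ↥V) v : E) = ρ h.1 v := by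
    intro h v
    rfl
  have hinj : Function.Injective ψu := by
    rw [injective_iff_map_eq_one]
    intro h hh
    apply Subtype.ext
    apply hfaith h.1 h.2
    intro v hv
    have := hψu h ⟨v, hv⟩
    rw [hh] at this
    exact this.symm
  -- finrank
  have hfr : Module.finrank (ZMod 3) ↥V = d := by
    have h1 := Module.natCard_eq_pow_finrank (K := ZMod 3) (V := ↥V)
    rw [hd, Nat.card_eq_fintype_card, ZMod.card] at h1
    exact (Nat.pow_right_injective (show 2 ≤ 3 by norm_num) h1).symm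
  let b := Module.finBasisOfFinrankEq (ZMod 3) ↥V hfr
  let e : LinearMap.GeneralLinearGroup (ZMod 3) ↥V ≃* GL (Fin d) (ZMod 3) :=
    (LinearMap.GeneralLinearGroup.congrLinearEquiv b.equivFun).trans
      Matrix.GeneralLinearGroup.toLin.symm
  have h2 := Subgroup.card_dvd_of_injective (e.toMonoidHom.comp ψu)
    (e.injective.comp hinj)
  rw [Matrix.card_GL_field, ZMod.card, Fin.prod_univ_eq_prod_range (fun i => 3 ^ d - 3 ^ i) d]
    at h2
  exact h2

end Cfsg.Agent.Helper1.HH3
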