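import Cfsg.Agent.Helper9.HH3.IndZ2
import Cfsg.Agent.Helper1.Coprime

/-!
# Case Z2b of the structure theorem for `R = [R, B]` (pure group theory)
-/

set_option autoImplicit false

namespace Cfsg.Agent.Helper1.HH3

open Cfsg.Agent.Helper9.HH3
open scoped commutatorElement

theorem exists_isZ2 {S : Type*} [Group S] {b : S} {R : Subgroup S} [Finite ↥R] {c : S}
    (hB : BAct b R) (hc : CenInv b R c) (hR2 : IsPGroup 2 ↥R) :
    ∃ x, IsZ2 R c x ∧ x ≠ 1 ∧ x ≠ c := by
  classical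
  by_cases htriv : Subgroup.center ↥R = ⊤
  · exfalso
    have hall : ∀ r ∈ R, r = 1 ∨ r = c := by
      intro r hr
      apply hc.uniq r hr
      intro s hs
      have hmem : (⟨r, hr⟩ : ↥R) ∈ Subgroup.center ↥R := by rw [htriv]; trivial
      have h := Subgroup.mem_center_iff.1 hmem ⟨s, hs⟩
      exact (congrArg Subtype.val h).symm
    have hle : R ≤ ⊥ := by
      apply hB.le_of_comm
      intro r hr
      rw [Subgroup.mem_bot]
      rcases hall r hr with h | h
      · rw [h]; group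
      · have := hc.fix
        rw [h]
        calc c * b * c⁻¹ * b⁻¹ = c * (b * c * b⁻¹)⁻¹ := by group
          _ = 1 := by rw [this, mul_inv_cancel]
    exact hc.ne (Subgroup.mem_bot.1 (hle hc.mem))
  · have hnt : Nontrivial (↥R ⧸ Subgroup.center ↥R) := by
      rw [QuotientGroup.nontrivial_iff]
      exact htriv
    have hq2 : IsPGroup 2 (↥R ⧸ Subgroup.center ↥R) := hR2.to_quotient _
    haveI : Fact (Nat.Prime 2) := ⟨Nat.prime_two⟩
    have hcen : Nontrivial (Subgroup.center (↥R ⧸ Subgroup.center ↥R)) := hq2.center_nontrivial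
    obtain ⟨⟨q, hq⟩, hq1⟩ := exists_ne (1 : Subgroup.center (↥R ⧸ Subgroup.center ↥R))
    obtain ⟨g, rfl⟩ := QuotientGroup.mk_surjective q
    have hgne : (g : ↥R ⧸ Subgroup.center ↥R) ≠ 1 := by
      intro h
      apply hq1
      exact Subtype.ext h
    have hgnc : g ∉ Subgroup.center ↥R := by
      intro h
      exact hgne ((QuotientGroup.eq_one_iff g).2 h)
    refine ⟨g.1, ⟨g.2, ?_⟩, ?_, ?_⟩
    · intro r hr
      have h1 := Subgroup.mem_center_iff.1 hq ((⟨r, hr⟩ : ↥R) : ↥R ⧸ Subgroup.center ↥R)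
      -- h1 : ↑r * ↑g = ↑g * ↑r
      have h2 : (((⟨r, hr⟩ : ↥R) * g : ↥R) : ↥R ⧸ Subgroup.center ↥R) = ((g * ⟨r, hr⟩ : ↥R) : ↥R ⧸ Subgroup.center ↥R) := h1
      rw [QuotientGroup.eq] at h2
      set z : ↥R := ((⟨r, hr⟩ : ↥R) * g)⁻¹ * (g * ⟨r, hr⟩) with hz
      have hzc : z.1 = 1 ∨ z.1 = c := by
        apply hc.uniq z.1 z.2
        intro s hs
        have h := Subgroup.mem_center_iff.1 h2 ⟨s, hs⟩
        exact (congrArg Subtype.val h).symm
      have hgr : g.1 * r = r * g.1 * z.1 := by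
        rw [hz]
        simp only [Subgroup.coe_mul, Subgroup.coe_inv]
        group
      rcases hzc with h | h
      · left; rw [hgr, h, mul_one]
      · right; rw [hgr, h]
    · intro h
      apply hgnc
      have : g = 1 := Subtype.ext h
      rw [this]
      exact Subgroup.one_mem _
    · intro h
      apply hgnc
      rw [Subgroup.mem_center_iff]
      intro s
      apply Subtype.ext
      simp only [Subgroup.coe_mul]
      rw [h]
      exact (hc.comm s.1 s.2).symm


section cfg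

variable {S : Type*} [Group S]

theorem conj_comm_rel {b p q ζ : S} (hζ : b⁻¹ * ζ = ζ * b⁻¹) (h : p * q = q * p * ζ) :
    (b * p * b⁻¹) * (b * q * b⁻¹) = (b * q * b⁻¹) * (b * p * b⁻¹) * ζ := by
  calc (b * p * b⁻¹) * (b * q * b⁻¹) = b * (p * q) * b⁻¹ := by group
    _ = b * (q * p * ζ) * b⁻¹ := by rw [h]
    _ = b * q * p * (ζ * b⁻¹) := by group
    _ = b * q * p * (b⁻¹ * ζ) := by rw [hζ]
    _ = (b * q * b⁻¹) * (b * p * b⁻¹) * ζ := by group

theorem card_eq_two_mul {H K : Subgroup S} (hHK : H ≤ K) {a : S} (ha : a ∈ K) (haH : a ∉ H)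
    (h : ∀ k ∈ K, k * a ∈ H ∨ k ∈ H) : Nat.card K = 2 * Nat.card H := by
  have h2 : H.relIndex K = 2 :=
    Subgroup.relIndex_eq_two_iff_exists_notMem_and.2 ⟨a, ha, haH, h⟩
  have h3 := Subgroup.relIndex_mul_relIndex ⊥ H K (bot_le : (⊥ : Subgroup S) ≤ H) hHK
  rw [Subgroup.relIndex_bot_left, Subgroup.relIndex_bot_left, h2] at h3
  omega

/-- The configuration of Case Z2b: `x ∈ Z₂(R)`, `y = x^b`, `w = y^b`, `[x, y] = c`. -/
structure Cfg (b : S) (R : Subgroup S) (c x y w : S) : Prop where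
  hB : BAct b R
  hc : CenInv b R c
  hx : IsZ2 R c x
  hy : b * x * b⁻¹ = y
  hw : b * y * b⁻¹ = w
  hxy : x * y = y * x * c

namespace Cfg

variable {b : S} {R : Subgroup S} {c x y w : S} (h : Cfg b R c x y w)
include h

theorem bbb : b * b * b = 1 := by rw [← h.hB.b3, pow_succ, pow_two]

theorem hwx : b * w * b⁻¹ = x := by
  have e : b * w * b⁻¹ = (b * b * b) * x * (b * b * b)⁻¹ := by
    rw [← h.hw, ← h.hy]; group
  rw [e, h.bbb, one_mul, inv_one, mul_one]

theorem c_fix' : b⁻¹ * c = c * b⁻¹ := h.hc.z_fix' (Subgroup.mem_zpowers c)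

theorem isZ2_y : IsZ2 R c y := h.hy ▸ isZ2_conj_b h.hB h.hc h.hx

theorem hyw : y * w = w * y * c := by
  have := conj_comm_rel h.c_fix' h.hxy
  rwa [h.hy, h.hw] at this

theorem rot : Cfg b R c y w x :=
  ⟨h.hB, h.hc, h.isZ2_y, h.hw, h.hwx, h.hyw⟩

theorem isZ2_w : IsZ2 R c w := h.rot.isZ2_y

theorem hwx' : w * x = x * w * c := h.rot.hyw

theorem x_mem : x ∈ R := h.hx.1
theorem y_mem : y ∈ R := h.isZ2_y.1
theorem w_mem : w ∈ R := h.isZ2_w.1

theorem hyx : y * x = x * y * c := by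
  rw [h.hxy, mul_assoc (y * x), h.hc.sq, mul_one]

theorem xy_ne : x * y ≠ y * x := by
  intro e
  have := h.hxy
  rw [e] at this
  exact h.hc.ne (mul_left_cancel (a := y * x) (by rw [← this, mul_one]))

/-- `u = x y w` is central, hence in `{1, c}`. -/
theorem u_mem : x * y * w ∈ Subgroup.zpowers c := by
  have hu : IsZ2 R c (x * y * w) := h.hc.isZ2_mul (h.hc.isZ2_mul h.hx h.isZ2_y) h.isZ2_w
  obtain ⟨ζ, hζ, e⟩ := h.hc.isZ2_conj hu (R.inv_mem h.x_mem)
  have hb : b * (x * y * w) * b⁻¹ = (x * y * w) * ζ := by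
    rw [← e]
    calc b * (x * y * w) * b⁻¹ = (b * x * b⁻¹) * (b * y * b⁻¹) * (b * w * b⁻¹) := by group
      _ = y * w * x := by rw [h.hy, h.hw, h.hwx]
      _ = x⁻¹ * (x * y * w) * x⁻¹⁻¹ := by group
  exact h.hc.z_of_central hu.1 (central_of_conj h.hB h.hc hu hζ hb)

end Cfg

/-- `R* = C_R(x) ∩ C_R(y)` -/
def rstar (R : Subgroup S) (x y : S) : Subgroup S := R ⊓ Subgroup.centralizer {x, y}

theorem mem_rstar {R : Subgroup S} {x y s : S} :
    s ∈ rstar R x y ↔ s ∈ R ∧ x * s = s * x ∧ y * s = s * y := by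
  unfold rstar
  rw [Subgroup.mem_inf, Subgroup.mem_centralizer_iff]
  simp

/-- `C_R(x)` -/
def cx (R : Subgroup S) (x : S) : Subgroup S := R ⊓ Subgroup.centralizer {x}

theorem mem_cx {R : Subgroup S} {x s : S} : s ∈ cx R x ↔ s ∈ R ∧ x * s = s * x := by
  unfold cx
  rw [Subgroup.mem_inf, Subgroup.mem_centralizer_iff]
  simp

theorem rstar_le_cx {R : Subgroup S} {x y : S} : rstar R x y ≤ cx R x := by
  intro s hs
  rw [mem_rstar] at hs
  rw [mem_cx]
  exact ⟨hs.1, hs.2.1⟩

theorem rstar_le {R : Subgroup S} {x y : S} : rstar R x y ≤ R := inf_le_left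

namespace Cfg

variable {b : S} {R : Subgroup S} {c x y w : S} (h : Cfg b R c x y w)
include h

theorem rstar_le_rot : rstar R x y ≤ rstar R y w := by
  intro s hs
  rw [mem_rstar] at hs ⊢
  obtain ⟨hsR, hsx, hsy⟩ := hs
  refine ⟨hsR, hsy, ?_⟩
  have cx' : Commute x s := hsx
  have cy : Commute y s := hsy
  have cu : Commute (x * y * w) s := h.hc.z_comm h.u_mem hsR
  have key : Commute (y⁻¹ * x⁻¹ * (x * y * w)) s := (cy.inv_left.mul_left cx'.inv_left).mul_left cu
  have e : y⁻¹ * x⁻¹ * (x * y * w) = w := by group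
  rw [e] at key
  exact key

theorem rstar_rot_eq : rstar R y w = rstar R x y :=
  le_antisymm (h.rot.rstar_le_rot.trans h.rot.rot.rstar_le_rot) h.rstar_le_rot

theorem rstar_conj {s : S} (hs : s ∈ rstar R x y) : b * s * b⁻¹ ∈ rstar R x y := by
  rw [← h.rstar_rot_eq, mem_rstar]
  rw [mem_rstar] at hs
  obtain ⟨hsR, hsx, hsy⟩ := hs
  refine ⟨h.hB.inv s hsR, ?_, ?_⟩
  · rw [← h.hy]
    calc (b * x * b⁻¹) * (b * s * b⁻¹) = b * (x * s) * b⁻¹ := by group
      _ = b * (s * x) * b⁻¹ := by rw [hsx]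
      _ = (b * s * b⁻¹) * (b * x * b⁻¹) := by group
  · rw [← h.hw]
    calc (b * y * b⁻¹) * (b * s * b⁻¹) = b * (y * s) * b⁻¹ := by group
      _ = b * (s * y) * b⁻¹ := by rw [hsy]
      _ = (b * s * b⁻¹) * (b * y * b⁻¹) := by group

theorem rstar_conj' {s : S} (hs : s ∈ rstar R x y) : b⁻¹ * s * b ∈ rstar R x y :=
  conj_inv_mem h.hB.b3 (fun _ hr => h.rstar_conj hr) hs

theorem z_mem_rstar {ζ : S} (hζ : ζ ∈ Subgroup.zpowers c) : ζ ∈ rstar R x y := by
  rw [mem_rstar]
  exact ⟨h.hc.z_mem hζ, (h.hc.z_comm hζ h.x_mem).symm, (h.hc.z_comm hζ h.y_mem).symm⟩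

theorem x_notMem_rstar : x ∉ rstar R x y := by
  intro hx
  rw [mem_rstar] at hx
  exact h.xy_ne hx.2.2.symm

theorem y_notMem_cx : y ∉ cx R x := by
  intro hy
  rw [mem_cx] at hy
  exact h.xy_ne hy.2

theorem x_mem_cx : x ∈ cx R x := by
  rw [mem_cx]
  exact ⟨h.x_mem, rfl⟩

theorem lemA {r : S} (hr : r ∈ R) : r * y ∈ cx R x ∨ r ∈ cx R x := by
  rcases h.hx.2 r hr with e | e
  · right
    rw [mem_cx]
    exact ⟨hr, e⟩
  · left
    rw [mem_cx]
    refine ⟨R.mul_mem hr h.y_mem, ?_⟩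
    calc x * (r * y) = (x * r) * y := by group
      _ = r * x * c * y := by rw [e]
      _ = r * x * (c * y) := by group
      _ = r * x * (y * c) := by rw [h.hc.comm y h.y_mem]
      _ = r * (x * y) * c := by group
      _ = r * (y * x * c) * c := by rw [h.hxy]
      _ = r * y * x * (c * c) := by group
      _ = r * y * x := by rw [h.hc.sq, mul_one]

theorem lemB {s : S} (hs : s ∈ cx R x) : s * x ∈ rstar R x y ∨ s ∈ rstar R x y := by
  rw [mem_cx] at hs
  obtain ⟨hsR, hsx⟩ := hs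
  rcases h.isZ2_y.2 s hsR with e | e
  · right
    rw [mem_rstar]
    exact ⟨hsR, hsx, e⟩
  · left
    rw [mem_rstar]
    refine ⟨R.mul_mem hsR h.x_mem, ?_, ?_⟩
    · rw [← mul_assoc, hsx]
    · calc y * (s * x) = (y * s) * x := by group
        _ = s * y * c * x := by rw [e]
        _ = s * y * (c * x) := by group
        _ = s * y * (x * c) := by rw [h.hc.comm x h.x_mem]
        _ = s * (y * x) * c := by group
        _ = s * (x * y * c) * c := by rw [h.hyx]
        _ = s * x * y * (c * c) := by group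
        _ = s * x * y := by rw [h.hc.sq, mul_one]

theorem card_eq : Nat.card ↥R = 4 * Nat.card ↥(rstar R x y) := by
  have h1 : Nat.card ↥R = 2 * Nat.card ↥(cx R x) :=
    card_eq_two_mul (inf_le_left) h.y_mem h.y_notMem_cx (fun r hr => h.lemA hr)
  have h2 : Nat.card ↥(cx R x) = 2 * Nat.card ↥(rstar R x y) :=
    card_eq_two_mul rstar_le_cx h.x_mem_cx h.x_notMem_rstar (fun s hs => h.lemB hs)
  omega

/-- every element of `R` is a product of an element of `R*` and an element of `⟨x, y⟩` -/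
theorem exists_decomp {r : S} (hr : r ∈ R) :
    ∃ s ∈ rstar R x y, ∃ d ∈ Subgroup.closure {x, y}, r = s * d := by
  have hxm : x ∈ Subgroup.closure {x, y} := Subgroup.subset_closure (by simp)
  have hym : y ∈ Subgroup.closure {x, y} := Subgroup.subset_closure (by simp)
  have aux : ∀ r₁ ∈ cx R x, ∃ s ∈ rstar R x y, ∃ d ∈ Subgroup.closure {x, y}, r₁ = s * d := by
    intro r₁ hr₁
    rcases h.lemB hr₁ with h1 | h1
    · exact ⟨r₁ * x, h1, x⁻¹, Subgroup.inv_mem _ hxm, by group⟩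
    · exact ⟨r₁, h1, 1, Subgroup.one_mem _, by group⟩
  rcases h.lemA hr with h1 | h1
  · obtain ⟨s, hs, d, hd, e⟩ := aux _ h1
    refine ⟨s, hs, d * y⁻¹, Subgroup.mul_mem _ hd (Subgroup.inv_mem _ hym), ?_⟩
    rw [← mul_assoc, ← e]
    group
  · exact aux r h1

end Cfg

/-- `R** = [R*, ⟨b⟩]` -/
def estar (b : S) (R : Subgroup S) (x y : S) : Subgroup S :=
  ⁅rstar R x y, Subgroup.zpowers b⁆

/-- the second centre, as a subgroup -/
def z2sub {b : S} {R : Subgroup S} {c : S} (hc : CenInv b R c) : Subgroup S where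
  carrier := {x | IsZ2 R c x}
  mul_mem' := fun hx hy => hc.isZ2_mul hx hy
  one_mem' := hc.isZ2_one
  inv_mem' := fun hx => hc.isZ2_inv hx

/-- `D = Z₂(R) ∩ C(R*)` -/
def dsub {b : S} {R : Subgroup S} {c : S} (hc : CenInv b R c) (x y : S) : Subgroup S :=
  z2sub hc ⊓ Subgroup.centralizer (rstar R x y : Set S)

theorem mem_dsub {b : S} {R : Subgroup S} {c : S} {hc : CenInv b R c} {x y d : S} :
    d ∈ dsub hc x y ↔ IsZ2 R c d ∧ ∀ s ∈ rstar R x y, s * d = d * s := by
  unfold dsub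
  rw [Subgroup.mem_inf, Subgroup.mem_centralizer_iff]
  rfl

namespace Cfg

variable {b : S} {R : Subgroup S} {c x y w : S} (h : Cfg b R c x y w)
include h

theorem zpowers_le_normalizer :
    Subgroup.zpowers b ≤ Subgroup.normalizer (rstar R x y : Set S) := by
  rw [Subgroup.zpowers_le, Subgroup.mem_normalizer_iff]
  intro g
  constructor
  · exact h.rstar_conj
  · intro hg
    have := h.rstar_conj' hg
    have e : b⁻¹ * (b * g * b⁻¹) * b = g := by group
    rwa [e] at this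

theorem estar_le_rstar : estar b R x y ≤ rstar R x y :=
  Subgroup.le_normalizer_iff_commutator_le_left.1 h.zpowers_le_normalizer

theorem estar_le : estar b R x y ≤ R := h.estar_le_rstar.trans rstar_le

theorem bact_estar [Finite S] (hR2 : IsPGroup 2 ↥R) : BAct b (estar b R x y) := by
  refine ⟨h.hB.b3, ?_, ?_⟩
  · intro e he
    have hb : b ∈ Subgroup.normalizer ((estar b R x y : Subgroup S) : Set S) :=
      Subgroup.normalizer_commutator_ge_right _ _ (Subgroup.mem_zpowers b)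
    exact (Subgroup.mem_normalizer_iff.1 hb e).1 he
  · unfold estar
    apply coprime_commutator_commutator _ _ h.zpowers_le_normalizer
    · have h3 : Nat.card ↥(Subgroup.zpowers b) ∣ 3 := by
        rw [Nat.card_zpowers]; exact orderOf_dvd_of_pow_eq_one h.hB.b3
      have hP : IsPGroup 2 ↥(rstar R x y) := hR2.to_le rstar_le
      haveI : Fact (Nat.Prime 2) := ⟨Nat.prime_two⟩
      obtain ⟨n, hn⟩ := IsPGroup.iff_card.1 hP
      rw [hn]
      exact Nat.Coprime.pow_right n (Nat.Coprime.coprime_dvd_left h3 (by norm_num))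
    · left; infer_instance

theorem card_estar_lt [Finite S] : Nat.card ↥(estar b R x y) < Nat.card ↥R := by
  have h1 : Nat.card ↥(estar b R x y) ≤ Nat.card ↥(rstar R x y) :=
    Subgroup.card_le_of_le h.estar_le_rstar
  have h2 := h.card_eq
  have h3 : 0 < Nat.card ↥(rstar R x y) := Nat.card_pos
  omega

theorem x_mem_dsub : x ∈ dsub h.hc x y := by
  rw [mem_dsub]
  refine ⟨h.hx, fun s hs => ?_⟩
  rw [mem_rstar] at hs
  exact hs.2.1.symm

theorem y_mem_dsub : y ∈ dsub h.hc x y := by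
  rw [mem_dsub]
  refine ⟨h.isZ2_y, fun s hs => ?_⟩
  rw [mem_rstar] at hs
  exact hs.2.2.symm

theorem closure_le_dsub : Subgroup.closure {x, y} ≤ dsub h.hc x y := by
  rw [Subgroup.closure_le]
  intro g hg
  rcases hg with rfl | hg
  · exact h.x_mem_dsub
  · rw [Set.mem_singleton_iff] at hg
    rw [hg]
    exact h.y_mem_dsub

theorem dsub_conj {d : S} (hd : d ∈ dsub h.hc x y) : b * d * b⁻¹ ∈ dsub h.hc x y := by
  rw [mem_dsub] at hd ⊢
  refine ⟨isZ2_conj_b h.hB h.hc hd.1, fun s hs => ?_⟩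
  calc s * (b * d * b⁻¹) = b * ((b⁻¹ * s * b) * d) * b⁻¹ := by group
    _ = b * (d * (b⁻¹ * s * b)) * b⁻¹ := by rw [hd.2 _ (h.rstar_conj' hs)]
    _ = (b * d * b⁻¹) * s := by group

theorem comm_dsub_estar {d e : S} (hd : d ∈ dsub h.hc x y) (he : e ∈ estar b R x y) :
    e * d = d * e := (mem_dsub.1 hd).2 e (h.estar_le_rstar he)

theorem le_sup : R ≤ dsub h.hc x y ⊔ estar b R x y := by
  apply h.hB.le_of_comm
  intro r hr
  obtain ⟨s, hs, d, hd, rfl⟩ := h.exists_decomp hr
  have hdD : d ∈ dsub h.hc x y := h.closure_le_dsub hd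
  have hδ : d * (b * d⁻¹ * b⁻¹) ∈ dsub h.hc x y :=
    Subgroup.mul_mem _ hdD (h.dsub_conj (Subgroup.inv_mem _ hdD))
  have hε : ⁅s, b⁆ ∈ estar b R x y :=
    Subgroup.commutator_mem_commutator hs (Subgroup.mem_zpowers b)
  have e : (s * d) * b * (s * d)⁻¹ * b⁻¹ = (d * (b * d⁻¹ * b⁻¹)) * ⁅s, b⁆ := by
    calc (s * d) * b * (s * d)⁻¹ * b⁻¹
        = (s * (d * (b * d⁻¹ * b⁻¹))) * (b * s⁻¹ * b⁻¹) := by group
      _ = ((d * (b * d⁻¹ * b⁻¹)) * s) * (b * s⁻¹ * b⁻¹) := by rw [(mem_dsub.1 hδ).2 s hs]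
      _ = (d * (b * d⁻¹ * b⁻¹)) * ⁅s, b⁆ := by rw [commutatorElement_def]; group
  rw [e]
  exact Subgroup.mul_mem _ (Subgroup.mem_sup_left hδ) (Subgroup.mem_sup_right hε)

theorem exists_de {r : S} (hr : r ∈ R) :
    ∃ d ∈ dsub h.hc x y, ∃ e ∈ estar b R x y, r = d * e := by
  have hnorm : estar b R x y ≤ Subgroup.normalizer ((dsub h.hc x y : Subgroup S) : Set S) := by
    refine le_trans ?_ (Subgroup.centralizer_le_normalizer _)
    intro e he
    rw [Subgroup.mem_centralizer_iff]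
    intro d hd
    exact (h.comm_dsub_estar hd he).symm
  exact mem_sup_of_le_normalizer hnorm (h.le_sup hr)

theorem dsub_inf_rstar_le : dsub h.hc x y ⊓ rstar R x y ≤ Subgroup.zpowers c := by
  intro t ht
  obtain ⟨htD, htR⟩ := Subgroup.mem_inf.1 ht
  apply h.hc.z_of_central (rstar_le htR)
  intro r hr
  obtain ⟨s, hs, d, hd, rfl⟩ := h.exists_decomp hr
  have h1 : s * t = t * s := (mem_dsub.1 htD).2 s hs
  have h2 : t * d = d * t := by
    have hd' := Subgroup.closure_le_centralizer_centralizer _ hd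
    rw [Subgroup.mem_centralizer_iff] at hd'
    exact hd' t (Subgroup.mem_inf.1 htR).2
  calc t * (s * d) = (t * s) * d := by group
    _ = (s * t) * d := by rw [h1]
    _ = s * (t * d) := by group
    _ = s * (d * t) := by rw [h2]
    _ = s * d * t := by group

theorem exists_ze {s : S} (hs : s ∈ rstar R x y) :
    ∃ ζ ∈ Subgroup.zpowers c, ∃ e ∈ estar b R x y, s = ζ * e := by
  obtain ⟨d, hd, e, he, rfl⟩ := h.exists_de (rstar_le hs)
  refine ⟨d, ?_, e, he, rfl⟩
  apply h.dsub_inf_rstar_le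
  refine Subgroup.mem_inf.2 ⟨hd, ?_⟩
  have := Subgroup.mul_mem _ hs (Subgroup.inv_mem _ (h.estar_le_rstar he))
  rwa [mul_inv_cancel_right] at this

/-- squares and commutators of `R = D E` lie in `{1, c}` as soon as those of `E` do -/
theorem sq_comm_of (hEsq : ∀ e ∈ estar b R x y, e * e ∈ Subgroup.zpowers c)
    (hEcomm : ∀ e ∈ estar b R x y, ∀ e' ∈ estar b R x y,
      ∃ ζ ∈ Subgroup.zpowers c, e * e' = e' * e * ζ) :
    (∀ r ∈ R, r * r = 1 ∨ r * r = c) ∧
    (∀ r ∈ R, ∀ s ∈ R, r * s = s * r ∨ r * s = s * r * c) := by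
  constructor
  · intro r hr
    obtain ⟨d, hd, e, he, rfl⟩ := h.exists_de hr
    have h1 : d * d ∈ Subgroup.zpowers c := h.hc.isZ2_sq (mem_dsub.1 hd).1
    have h2 := hEsq e he
    have h3 : e * d = d * e := h.comm_dsub_estar hd he
    have e1 : d * e * (d * e) = (d * d) * (e * e) := by
      calc d * e * (d * e) = d * (e * d) * e := by group
        _ = d * (d * e) * e := by rw [h3]
        _ = (d * d) * (e * e) := by group
    rw [e1]
    exact (mem_zpowers_inv h.hc.sq).1 (Subgroup.mul_mem _ h1 h2)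
  · intro r hr r' hr'
    obtain ⟨d, hd, e, he, rfl⟩ := h.exists_de hr
    obtain ⟨d', hd', e', he', rfl⟩ := h.exists_de hr'
    have hd'R : d' ∈ R := (mem_dsub.1 hd').1.1
    obtain ⟨ζ₁, hζ₁, h1⟩ := (h.hc.isZ2_iff.1 (mem_dsub.1 hd).1).2 d' hd'R
    obtain ⟨ζ₂, hζ₂, h2⟩ := hEcomm e he e' he'
    have h3 : e * d' = d' * e := h.comm_dsub_estar hd' he
    have h4 : e' * d = d * e' := h.comm_dsub_estar hd he'
    have h5 : ζ₁ * (e' * e) = (e' * e) * ζ₁ :=
      h.hc.z_comm hζ₁ (R.mul_mem (h.estar_le he') (h.estar_le he))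
    have key : d * e * (d' * e') = d' * e' * (d * e) * (ζ₁ * ζ₂) := by
      calc d * e * (d' * e') = d * (e * d') * e' := by group
        _ = d * (d' * e) * e' := by rw [h3]
        _ = (d * d') * (e * e') := by group
        _ = (d' * d * ζ₁) * (e' * e * ζ₂) := by rw [h1, h2]
        _ = d' * d * (ζ₁ * (e' * e)) * ζ₂ := by group
        _ = d' * d * ((e' * e) * ζ₁) * ζ₂ := by rw [h5]
        _ = d' * (d * e') * e * (ζ₁ * ζ₂) := by group
        _ = d' * (e' * d) * e * (ζ₁ * ζ₂) := by rw [h4]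
        _ = d' * e' * (d * e) * (ζ₁ * ζ₂) := by group
    rcases (mem_zpowers_inv h.hc.sq).1 (Subgroup.mul_mem _ hζ₁ hζ₂) with hz | hz
    · left; rw [key, hz, mul_one]
    · right; rw [key, hz]

theorem card_zpowers_c : Nat.card ↥(Subgroup.zpowers c) = 2 := by
  rw [Nat.card_zpowers]
  haveI : Fact (Nat.Prime 2) := ⟨Nat.prime_two⟩
  exact orderOf_eq_prime (by rw [pow_two]; exact h.hc.sq) h.hc.ne

theorem good_of (hsq : ∀ r ∈ R, r * r = 1 ∨ r * r = c)
    (hcomm : ∀ r ∈ R, ∀ s ∈ R, r * s = s * r ∨ r * s = s * r * c)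
    (hcard : (Nat.card ↥R = 8 ∧ ∃ x ∈ R, x * (b * x * b⁻¹) ≠ (b * x * b⁻¹) * x) ∨
     (Nat.card ↥R = 32 ∧ ∃ x ∈ R, x ≠ 1 ∧ x ≠ c ∧ x * (b * x * b⁻¹) = (b * x * b⁻¹) * x)) :
    Good b R :=
  Or.inr (Or.inr ⟨c, h.hc.mem, h.hc.ne, h.hc.sq, h.hc.fix, h.hc.comm, h.hc.uniq, hsq, hcomm, hcard⟩)

/-- an element of `E` central in `E` is central in `R` -/
theorem central_of_estar {z : S} (hz : z ∈ estar b R x y)
    (hcen : ∀ e ∈ estar b R x y, z * e = e * z) : ∀ r ∈ R, z * r = r * z := by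
  intro r hr
  obtain ⟨d, hd, e, he, rfl⟩ := h.exists_de hr
  have h1 : z * d = d * z := h.comm_dsub_estar hd hz
  calc z * (d * e) = (z * d) * e := by group
    _ = (d * z) * e := by rw [h1]
    _ = d * (z * e) := by group
    _ = d * (e * z) := by rw [hcen e he]
    _ = d * e * z := by group

end Cfg

end cfg

theorem caseZ2b {S : Type*} [Group S] [Finite S] {b : S} {R : Subgroup S} {c : S}
    (hB : BAct b R) (hc : CenInv b R c) (hR2 : IsPGroup 2 ↥R) {x : S} (hx : IsZ2 R c x)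
    (hx1 : x ≠ 1) (hxc : x ≠ c)
    (hno : ∀ x', IsZ2 R c x' → x' ≠ 1 → x' ≠ c →
      x' * (b * x' * b⁻¹) ≠ (b * x' * b⁻¹) * x')
    (IH : ∀ R' : Subgroup S, Nat.card ↥R' < Nat.card ↥R → IsPGroup 2 ↥R' → BAct b R' →
      Good b R') :
    Good b R := by
  have hyR : b * x * b⁻¹ ∈ R := hB.inv x hx.1
  have hxy0 : x * (b * x * b⁻¹) = (b * x * b⁻¹) * x * c := by
    rcases hx.2 _ hyR with e | e
    · exact absurd e (hno x hx hx1 hxc)
    · exact e
  have hnox := hno x hx hx1 hxc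
  obtain ⟨y, hy⟩ : ∃ y, b * x * b⁻¹ = y := ⟨_, rfl⟩
  obtain ⟨w, hw⟩ : ∃ w, b * y * b⁻¹ = w := ⟨_, rfl⟩
  rw [hy] at hxy0 hnox
  have h : Cfg b R c x y w := ⟨hB, hc, hx, hy, hw, hxy0⟩
  have hEB : BAct b (estar b R x y) := h.bact_estar hR2
  have hE2 : IsPGroup 2 ↥(estar b R x y) := hR2.to_le h.estar_le
  have hGE := IH _ h.card_estar_lt hE2 hEB
  rcases hGE with hE | ⟨hE4, hEexp⟩ |
    ⟨c', hc'E, hc'1, hc'sq, hc'fix, hc'comm, hc'uniq, hEsq, hEcomm, hEcard⟩
  · -- `E = ⊥`
    have hbot : ∀ e ∈ estar b R x y, e = 1 := by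
      intro e he; rw [hE] at he; exact Subgroup.mem_bot.1 he
    obtain ⟨hsq, hcomm⟩ := h.sq_comm_of
      (fun e he => by rw [hbot e he, one_mul]; exact Subgroup.one_mem _)
      (fun e he e' he' => ⟨1, Subgroup.one_mem _, by rw [hbot e he, hbot e' he', mul_one, mul_one]⟩)
    apply h.good_of hsq hcomm
    left
    refine ⟨?_, x, hx.1, ?_⟩
    · have hrs : rstar R x y = Subgroup.zpowers c := by
        apply le_antisymm
        · intro s hs
          obtain ⟨ζ, hζ, e, he, rfl⟩ := h.exists_ze hs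
          rw [hbot e he, mul_one]; exact hζ
        · intro ζ hζ; exact h.z_mem_rstar hζ
      rw [h.card_eq, hrs, h.card_zpowers_c]
    · rw [hy]; exact hnox
  · -- four-group: impossible
    exfalso
    have hab : ∀ e ∈ estar b R x y, ∀ e' ∈ estar b R x y, e * e' = e' * e := by
      intro e he e' he'
      have h1 : e⁻¹ = e := inv_eq_of_mul_eq_one_right (hEexp e he)
      have h2 : e'⁻¹ = e' := inv_eq_of_mul_eq_one_right (hEexp e' he')
      have h3 : (e * e')⁻¹ = e * e' :=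
        inv_eq_of_mul_eq_one_right (hEexp _ (Subgroup.mul_mem _ he he'))
      rw [← h3, mul_inv_rev, h1, h2]
    have hle : estar b R x y ≤ Subgroup.zpowers c := by
      intro e he
      exact hc.z_of_central (h.estar_le he)
        (h.central_of_estar he (fun e' he' => hab e he e' he'))
    have := Subgroup.card_le_of_le hle
    rw [h.card_zpowers_c, hE4] at this
    omega
  · -- third alternative
    have hcc : c' = c := by
      rcases hc.uniq c' (h.estar_le hc'E) (h.central_of_estar hc'E hc'comm) with e | e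
      · exact absurd e hc'1
      · exact e
    rw [hcc] at hc'E hEsq hEcomm hEcard
    have hEsq' : ∀ e ∈ estar b R x y, e * e ∈ Subgroup.zpowers c := fun e he =>
      (mem_zpowers_inv hc.sq).2 (hEsq e he)
    have hEcomm' : ∀ e ∈ estar b R x y, ∀ e' ∈ estar b R x y,
        ∃ ζ ∈ Subgroup.zpowers c, e * e' = e' * e * ζ := by
      intro e he e' he'
      rcases hEcomm e he e' he' with h1 | h1
      · exact ⟨1, Subgroup.one_mem _, by rw [mul_one, h1]⟩
      · exact ⟨c, Subgroup.mem_zpowers c, h1⟩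
    obtain ⟨hsq, hcomm⟩ := h.sq_comm_of hEsq' hEcomm'
    apply h.good_of hsq hcomm
    rcases hEcard with ⟨hE8, x', hx'E, hx'⟩ | ⟨hE32, x', hx'E, hx'1, hx'c, hx'⟩
    · right
      have hrs : rstar R x y = estar b R x y := by
        apply le_antisymm
        · intro s hs
          obtain ⟨ζ, hζ, e, he, rfl⟩ := h.exists_ze hs
          have hZE : Subgroup.zpowers c ≤ estar b R x y := by
            rw [Subgroup.zpowers_le]; exact hc'E
          exact Subgroup.mul_mem _ (hZE hζ) he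
        · exact h.estar_le_rstar
      refine ⟨by rw [h.card_eq, hrs, hE8], x * x', R.mul_mem hx.1 (h.estar_le hx'E), ?_, ?_, ?_⟩
      · intro e
        apply h.x_notMem_rstar
        have e' : x'⁻¹ = x := (eq_inv_of_mul_eq_one_left e).symm
        have hx'r : x'⁻¹ ∈ rstar R x y := Subgroup.inv_mem _ (h.estar_le_rstar hx'E)
        rwa [e'] at hx'r
      · intro e
        apply h.x_notMem_rstar
        have hx'r : c * x'⁻¹ ∈ rstar R x y :=
          Subgroup.mul_mem _ (h.z_mem_rstar (Subgroup.mem_zpowers c))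
            (Subgroup.inv_mem _ (h.estar_le_rstar hx'E))
        have e' : c * x'⁻¹ = x := by rw [← e]; group
        rwa [e'] at hx'r
      · obtain ⟨y', hy'⟩ : ∃ y', b * x' * b⁻¹ = y' := ⟨_, rfl⟩
        have hy'E : y' ∈ estar b R x y := hy' ▸ hEB.inv x' hx'E
        rw [hy'] at hx'
        have e0 : b * (x * x') * b⁻¹ = y * y' := by rw [← hy, ← hy']; group
        have e1 : x' * y' = y' * x' * c := by
          rcases hEcomm x' hx'E y' hy'E with e1 | e1
          · exact absurd e1 hx'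
          · exact e1
        have hx'y : y * x' = x' * y := (mem_rstar.1 (h.estar_le_rstar hx'E)).2.2
        have hxy' : x * y' = y' * x := (mem_rstar.1 (h.estar_le_rstar hy'E)).2.1
        have hcc' : c * (y' * x') = (y' * x') * c :=
          hc.comm _ (R.mul_mem (h.estar_le hy'E) (h.estar_le hx'E))
        calc x * x' * (b * (x * x') * b⁻¹) = x * x' * (y * y') := by rw [e0]
          _ = x * (x' * y) * y' := by group
          _ = x * (y * x') * y' := by rw [hx'y]
          _ = (x * y) * (x' * y') := by group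
          _ = (y * x * c) * (y' * x' * c) := by rw [h.hxy, e1]
          _ = y * x * (c * (y' * x')) * c := by group
          _ = y * x * ((y' * x') * c) * c := by rw [hcc']
          _ = y * (x * y') * x' * (c * c) := by group
          _ = y * (y' * x) * x' * (c * c) := by rw [hxy']
          _ = y * y' * (x * x') := by rw [hc.sq, mul_one]; group
          _ = b * (x * x') * b⁻¹ * (x * x') := by rw [e0]
    · exfalso
      have hz2 : IsZ2 R c x' := by
        rw [hc.isZ2_iff]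
        refine ⟨h.estar_le hx'E, fun r hr => ?_⟩
        obtain ⟨d, hd, e, he, rfl⟩ := h.exists_de hr
        obtain ⟨ζ, hζ, h1⟩ := hEcomm' x' hx'E e he
        have h2 : x' * d = d * x' := h.comm_dsub_estar hd hx'E
        refine ⟨ζ, hζ, ?_⟩
        calc x' * (d * e) = (x' * d) * e := by group
          _ = d * x' * e := by rw [h2]
          _ = d * (x' * e) := by group
          _ = d * (e * x' * ζ) := by rw [h1]
          _ = d * e * x' * ζ := by group
      exact hno x' hz2 hx'1 hx'c hx'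

end Cfsg.Agent.Helper1.HH3
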