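import Cfsg.Agent.Helper9.HH3.IndZ2
import Cfsg.Agent.Helper9.HH3.Four3
import Cfsg.Prelude.Def_Transfer

/-!
# From the raw hypotheses of the Hall–Higman statement to the structures `Cub` and `FourCfg`
-/

set_option autoImplicit false

namespace Cfsg.Agent.Helper1.HH3

open Cfsg.Agent.Helper9.HH3
open scoped commutatorElement

theorem cub_of_block {S E : Type*} [Group S] [AddCommGroup E] [Module (ZMod 3) E] [Finite E]
    (ρ : Representation (ZMod 3) S E) (hfaith : Function.Injective ρ) (b : S) (hb3 : b ^ 3 = 1)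
    (E₀ E₁ : Submodule (ZMod 3) E) (hE01' : E₀ ⊔ E₁ = ⊤) (hE1 : ∀ v ∈ E₁, ρ b v = v)
    (hE0inv : ∀ v ∈ E₀, ρ b v ∈ E₀) (hE0 : Nat.card ↥E₀ = 27)
    (hind : ∃ v ∈ E₀, ρ b (ρ b v - v) - (ρ b v - v) ≠ 0) : ∃ v₀, Cub ρ b v₀ := by
  obtain ⟨v₀, hv₀, htop⟩ := hind
  refine ⟨v₀, hfaith, hb3, htop, ?_⟩
  have hNapp : ∀ x, nb ρ b x = ρ b x - x := fun x => rfl
  have hNE0 : ∀ v ∈ E₀, nb ρ b v ∈ E₀ := fun v hv => E₀.sub_mem (hE0inv v hv) hv
  have hNE1 : ∀ v ∈ E₁, nb ρ b v = 0 := fun v hv => by rw [hNapp, hE1 v hv, sub_self]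
  have hb3' : ∀ x, ρ b (ρ b (ρ b x)) = x := by
    intro x
    rw [← rho_mul_apply, ← rho_mul_apply]
    have : b * b * b = b ^ 3 := by rw [pow_succ, pow_two]
    rw [this, hb3, rho_one_apply]
  have hcube : ∀ x, nb ρ b (nb ρ b (nb ρ b x)) = 0 := by
    intro x
    simp only [nb_apply, map_sub]
    rw [hb3']
    have h1 := add_add_self_eq_zero (ρ b (ρ b x))
    have h2 := add_add_self_eq_zero (ρ b x)
    have e : x - ρ b (ρ b x) - (ρ b (ρ b x) - ρ b x) - (ρ b (ρ b x) - ρ b x - (ρ b x - x)) =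
        (ρ b x + ρ b x + ρ b x) - (ρ b (ρ b x) + ρ b (ρ b x) + ρ b (ρ b x)) := by abel
    rw [e, h1, h2, sub_zero]
  obtain ⟨p1, hp1⟩ : ∃ p1, nb ρ b v₀ = p1 := ⟨_, rfl⟩
  obtain ⟨p2, hp2⟩ : ∃ p2, nb ρ b p1 = p2 := ⟨_, rfl⟩
  have hp2ne : p2 ≠ 0 := by
    rw [← hp2, ← hp1]; exact htop
  have hNp2 : nb ρ b p2 = 0 := by
    rw [← hp2, ← hp1]; exact hcube v₀
  have hp1E : p1 ∈ E₀ := hp1 ▸ hNE0 v₀ hv₀
  have hp2E : p2 ∈ E₀ := hp2 ▸ hNE0 p1 hp1E
  have key : ∀ a c d : ZMod 3, a • v₀ + c • p1 + d • p2 = 0 → a = 0 ∧ c = 0 ∧ d = 0 := by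
    intro a c d h0
    have h1 : nb ρ b (nb ρ b (a • v₀ + c • p1 + d • p2)) = 0 := by rw [h0, map_zero, map_zero]
    simp only [map_add, map_smul, hp1, hp2, hNp2, smul_zero, add_zero] at h1
    have ha : a = 0 := (smul_eq_zero.1 h1).resolve_right hp2ne
    subst ha
    have h2 : nb ρ b ((0 : ZMod 3) • v₀ + c • p1 + d • p2) = 0 := by rw [h0, map_zero]
    simp only [map_add, map_smul, hp2, hNp2, smul_zero, add_zero, zero_smul, zero_add] at h2
    have hc : c = 0 := (smul_eq_zero.1 h2).resolve_right hp2ne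
    subst hc
    simp only [zero_smul, zero_add] at h0
    exact ⟨rfl, rfl, (smul_eq_zero.1 h0).resolve_right hp2ne⟩
  let f : ZMod 3 × ZMod 3 × ZMod 3 → ↥E₀ := fun t =>
    ⟨t.1 • v₀ + t.2.1 • p1 + t.2.2 • p2,
      E₀.add_mem (E₀.add_mem (E₀.smul_mem _ hv₀) (E₀.smul_mem _ hp1E)) (E₀.smul_mem _ hp2E)⟩
  have hf : Function.Injective f := by
    rintro ⟨a, c, d⟩ ⟨a', c', d'⟩ hEq
    have h1 : a • v₀ + c • p1 + d • p2 = a' • v₀ + c' • p1 + d' • p2 := congrArg Subtype.val hEq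
    have h2 : (a - a') • v₀ + (c - c') • p1 + (d - d') • p2 = 0 := by
      have : (a - a') • v₀ + (c - c') • p1 + (d - d') • p2 =
          (a • v₀ + c • p1 + d • p2) - (a' • v₀ + c' • p1 + d' • p2) := by module
      rw [this, h1, sub_self]
    obtain ⟨ha, hc, hd⟩ := key _ _ _ h2
    rw [sub_eq_zero] at ha hc hd
    rw [ha, hc, hd]
  have hbij : Function.Bijective f := by
    apply hf.bijective_of_nat_card_le
    rw [hE0, Nat.card_prod, Nat.card_prod, Nat.card_zmod]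
  intro x
  have hx : x ∈ E₀ ⊔ E₁ := by rw [hE01']; trivial
  obtain ⟨e₀, he₀, e₁, he₁, rfl⟩ := Submodule.mem_sup.1 hx
  obtain ⟨⟨a, c, d⟩, hacd⟩ := hbij.2 ⟨e₀, he₀⟩
  have he : e₀ = a • v₀ + c • p1 + d • p2 := (congrArg Subtype.val hacd).symm
  refine ⟨a, c, ?_⟩
  rw [map_add, hNE1 e₁ he₁, add_zero, he, map_add, map_add, map_smul, map_smul, map_smul, hNp2,
    smul_zero, add_zero, hp1, hp2]

theorem fourCfg_of_four {S : Type*} [Group S] (b : S) (hb3 : b ^ 3 = 1) (Q : Subgroup S)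
    (hQ : Cfsg.IsElementaryAbelian 2 Q) (hQ4 : Nat.card ↥Q = 4)
    (hBQ : Subgroup.zpowers b ≤ Subgroup.normalizer (Q : Set S))
    (hBQ' : ¬ Subgroup.zpowers b ≤ Subgroup.centralizer (Q : Set S)) :
    ∃ z₁ z₂ z₃, FourCfg b z₁ z₂ z₃ ∧ (∀ q, q ∈ Q ↔ q = 1 ∨ q = z₁ ∨ q = z₂ ∨ q = z₃) ∧
      ⁅Q, Subgroup.zpowers b⁆ = Q := by
  classical
  have hbN : b ∈ Subgroup.normalizer (Q : Set S) := hBQ (Subgroup.mem_zpowers b)
  have hconj : ∀ q, q ∈ Q ↔ b * q * b⁻¹ ∈ Q := fun q => Subgroup.mem_normalizer_iff.1 hbN q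
  have hbbb : b * b * b = 1 := by rw [← hb3, pow_succ, pow_two]
  have hsq : ∀ q ∈ Q, q * q = 1 := fun q hq => by rw [← pow_two]; exact hQ.2 q hq
  have hcomm : ∀ p ∈ Q, ∀ q ∈ Q, p * q = q * p := by
    intro p hp q hq
    have := hQ.1.is_comm.comm ⟨p, hp⟩ ⟨q, hq⟩
    exact congrArg Subtype.val this
  obtain ⟨z₁, hz₁, hbz₁⟩ : ∃ z₁ ∈ Q, b * z₁ * b⁻¹ ≠ z₁ := by
    by_contra hcon
    push Not at hcon
    apply hBQ'
    rw [Subgroup.zpowers_le, Subgroup.mem_centralizer_iff]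
    intro q hq
    have := hcon q hq
    calc q * b = (b * q * b⁻¹) * b := by rw [this]
      _ = b * q := by group
  have hz₁1 : z₁ ≠ 1 := by
    intro e
    apply hbz₁
    rw [e]; group
  obtain ⟨z₂, hz₂def⟩ : ∃ z₂, b * z₁ * b⁻¹ = z₂ := ⟨_, rfl⟩
  obtain ⟨z₃, hz₃def⟩ : ∃ z₃, b * z₂ * b⁻¹ = z₃ := ⟨_, rfl⟩
  have hz₂ : z₂ ∈ Q := hz₂def ▸ (hconj z₁).1 hz₁
  have hz₃ : z₃ ∈ Q := hz₃def ▸ (hconj z₂).1 hz₂
  have hz₂1 : z₂ ≠ z₁ := by rw [← hz₂def]; exact hbz₁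
  have hz₂ne : z₂ ≠ 1 := by
    intro e
    apply hz₁1
    have : z₁ = b⁻¹ * z₂ * b := by rw [← hz₂def]; group
    rw [this, e]; group
  have hc31 : b * z₃ * b⁻¹ = z₁ := by
    have e : b * z₃ * b⁻¹ = (b * b * b) * z₁ * (b * b * b)⁻¹ := by
      rw [← hz₃def, ← hz₂def]; group
    rw [e, hbbb, one_mul, inv_one, mul_one]
  have hz₁inv : z₁⁻¹ = z₁ := inv_eq_of_mul_eq_one_right (hsq z₁ hz₁)
  -- the four elements
  have hsub : ({1, z₁, z₂, z₁ * z₂} : Set S) ⊆ (Q : Set S) := by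
    intro q hq
    simp only [Set.mem_insert_iff, Set.mem_singleton_iff] at hq
    rcases hq with rfl | rfl | rfl | rfl
    · exact Q.one_mem
    · exact hz₁
    · exact hz₂
    · exact Q.mul_mem hz₁ hz₂
  have hT4 : ({1, z₁, z₂, z₁ * z₂} : Set S).ncard = 4 := by
    rw [Set.ncard_insert_of_notMem, Set.ncard_insert_of_notMem, Set.ncard_pair]
    · intro e
      apply hz₁1
      have : z₁ * z₂ = 1 * z₂ := by rw [one_mul]; exact e.symm
      exact mul_right_cancel this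
    · simp only [Set.mem_insert_iff, Set.mem_singleton_iff, not_or]
      refine ⟨fun e => hz₂1 e.symm, fun e => hz₂ne ?_⟩
      have : z₁ * z₂ = z₁ * 1 := by rw [mul_one]; exact e.symm
      exact mul_left_cancel this
    · simp only [Set.mem_insert_iff, Set.mem_singleton_iff, not_or]
      refine ⟨fun e => hz₁1 e.symm, fun e => hz₂ne e.symm, fun e => hz₂1 ?_⟩
      have : z₂ = z₁⁻¹ := eq_inv_of_mul_eq_one_right e.symm
      rw [this, hz₁inv]
  have hQfin : (Q : Set S).Finite := by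
    have : Finite ↥Q := Nat.finite_of_card_ne_zero (by rw [hQ4]; norm_num)
    exact Set.toFinite _
  have hQcard : (Q : Set S).ncard = 4 := by
    rw [← hQ4]; exact (Nat.card_coe_set_eq (Q : Set S)).symm
  have hTQ : ({1, z₁, z₂, z₁ * z₂} : Set S) = (Q : Set S) :=
    Set.eq_of_subset_of_ncard_le hsub (by rw [hT4, hQcard]) hQfin
  have hmemQ : ∀ q, q ∈ Q ↔ q = 1 ∨ q = z₁ ∨ q = z₂ ∨ q = z₁ * z₂ := by
    intro q
    have : q ∈ Q ↔ q ∈ ({1, z₁, z₂, z₁ * z₂} : Set S) := by rw [hTQ]; rfl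
    rw [this]
    simp only [Set.mem_insert_iff, Set.mem_singleton_iff]
  have hz₃eq : z₁ * z₂ = z₃ := by
    rcases (hmemQ z₃).1 hz₃ with e | e | e | e
    · exfalso
      apply hz₂ne
      have : z₂ = b⁻¹ * z₃ * b := by rw [← hz₃def]; group
      rw [this, e]; group
    · exfalso
      apply hz₂1
      rw [← hz₂def, ← e, hc31, e]
    · exfalso
      apply hbz₁
      have h1 : b * z₂ * b⁻¹ = z₂ := by rw [hz₃def, e]
      have h2 : z₁ = b⁻¹ * z₂ * b := by rw [← hz₂def]; group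
      have h3 : z₂ = b⁻¹ * z₂ * b := by
        calc z₂ = b⁻¹ * (b * z₂ * b⁻¹) * b := by group
          _ = b⁻¹ * z₂ * b := by rw [h1]
      rw [hz₂def, h2, ← h3]
    · exact e.symm
  have hf : FourCfg b z₁ z₂ z₃ :=
    ⟨hsq z₁ hz₁, hz₁1, hz₂def, hz₃def, hc31, hz₃eq, hcomm z₁ hz₁ z₂ hz₂⟩
  refine ⟨z₁, z₂, z₃, hf, ?_, ?_⟩
  · intro q
    rw [hmemQ q, hz₃eq]
  · apply le_antisymm
    · exact Subgroup.le_normalizer_iff_commutator_le_left.1 hBQ
    · have hcm : ∀ z ∈ Q, z * (b * z * b⁻¹) ∈ ⁅Q, Subgroup.zpowers b⁆ := by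
        intro z hz
        have h1 : ⁅z, b⁆ ∈ ⁅Q, Subgroup.zpowers b⁆ :=
          Subgroup.commutator_mem_commutator hz (Subgroup.mem_zpowers b)
        have hzinv : z⁻¹ = z := inv_eq_of_mul_eq_one_right (hsq z hz)
        have e : ⁅z, b⁆ = z * (b * z * b⁻¹) := by
          rw [commutatorElement_def]
          calc z * b * z⁻¹ * b⁻¹ = z * (b * z⁻¹ * b⁻¹) := by group
            _ = z * (b * z * b⁻¹) := by rw [hzinv]
        rwa [e] at h1
      intro q hq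
      rcases (hmemQ q).1 hq with e | e | e | e
      · rw [e]; exact Subgroup.one_mem _
      · have := hcm z₂ hz₂
        rw [hz₃def, hf.mul23] at this
        rw [e]; exact this
      · have := hcm z₃ hz₃
        rw [hc31, hf.mul31] at this
        rw [e]; exact this
      · have := hcm z₁ hz₁
        rw [hz₂def] at this
        rw [e]; exact this

end Cfsg.Agent.Helper1.HH3
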