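import Mathlib

set_option autoImplicit false

/-!
Weights of an elementary abelian `2`-group acting on a vector space in odd characteristic.
-/

namespace Cfsg.Agent.Helper1.HHD3

open Module

variable {H : Type*} [Group H] {F : Type*} [Field F] {V : Type*} [AddCommGroup V] [Module F V]

/-- a family of commuting involutions has a common eigenvector in every nonzero invariant subspace -/
theorem exists_common_eigenvector (ρ : H →* Module.End F V) (Z : Subgroup H) [Finite Z]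
    (hZ2 : ∀ z ∈ Z, z * z = 1) (hZc : ∀ z ∈ Z, ∀ z' ∈ Z, z * z' = z' * z)
    (U : Submodule F V) (hU : U ≠ ⊥) (hUZ : ∀ z ∈ Z, ∀ u ∈ U, ρ z u ∈ U) :
    ∃ v ∈ U, v ≠ 0 ∧ ∀ z ∈ Z, ρ z v = v ∨ ρ z v = -v := by
  classical
  have key : ∀ s : Finset H, (∀ z ∈ s, z ∈ Z) → ∃ U' : Submodule F V, U' ≤ U ∧ U' ≠ ⊥ ∧
      (∀ z ∈ Z, ∀ u ∈ U', ρ z u ∈ U') ∧
      ∀ z ∈ s, (∀ u ∈ U', ρ z u = u) ∨ (∀ u ∈ U', ρ z u = -u) := by
    intro s
    induction s using Finset.induction_on with
    | empty =>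
      intro _
      exact ⟨U, le_rfl, hU, hUZ, by simp⟩
    | insert z₁ s hz₁ ih =>
      intro hs
      have hz₁Z : z₁ ∈ Z := hs z₁ (Finset.mem_insert_self _ _)
      obtain ⟨U', hU'U, hU'0, hU'Z, hU's⟩ := ih (fun z hz => hs z (Finset.mem_insert_of_mem hz))
      obtain ⟨Up, hUp⟩ : ∃ Up : Submodule F V, Up = U' ⊓ LinearMap.ker (ρ z₁ - 1) := ⟨_, rfl⟩
      have hmemUp : ∀ u, u ∈ Up ↔ u ∈ U' ∧ ρ z₁ u = u := by
        intro u
        rw [hUp, Submodule.mem_inf, LinearMap.mem_ker, LinearMap.sub_apply, Module.End.one_apply,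
          sub_eq_zero]
      by_cases hUp0 : Up = ⊥
      · refine ⟨U', hU'U, hU'0, hU'Z, ?_⟩
        intro z hz
        rcases Finset.mem_insert.1 hz with rfl | hz
        · right
          intro u hu
          have h1 : u + ρ z u ∈ Up := by
            rw [hmemUp]
            refine ⟨U'.add_mem hu (hU'Z z hz₁Z u hu), ?_⟩
            rw [map_add, ← Module.End.mul_apply, ← map_mul, hZ2 z hz₁Z, map_one,
              Module.End.one_apply, add_comm]
          rw [hUp0, Submodule.mem_bot] at h1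
          exact (eq_neg_of_add_eq_zero_right h1)
        · exact hU's z hz
      · refine ⟨Up, ?_, hUp0, ?_, ?_⟩
        · rw [hUp]; exact inf_le_left.trans hU'U
        · intro z hz u hu
          rw [hmemUp] at hu ⊢
          refine ⟨hU'Z z hz u hu.1, ?_⟩
          rw [← Module.End.mul_apply, ← map_mul, hZc z₁ hz₁Z z hz, map_mul, Module.End.mul_apply,
            hu.2]
        · intro z hz
          rcases Finset.mem_insert.1 hz with rfl | hz
          · left
            intro u hu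
            exact ((hmemUp u).1 hu).2
          · rcases hU's z hz with h | h
            · left
              intro u hu
              exact h u ((hmemUp u).1 hu).1
            · right
              intro u hu
              exact h u ((hmemUp u).1 hu).1
  haveI : Fintype Z := Fintype.ofFinite Z
  obtain ⟨U', hU'U, hU'0, -, hU's⟩ := key ((Finset.univ : Finset Z).image Subtype.val) (by
    intro z hz
    obtain ⟨w, -, rfl⟩ := Finset.mem_image.1 hz
    exact w.2)
  obtain ⟨v, hvU', hv0⟩ := Submodule.exists_mem_ne_zero_of_ne_bot hU'0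
  refine ⟨v, hU'U hvU', hv0, ?_⟩
  intro z hz
  have hzs : z ∈ (Finset.univ : Finset Z).image Subtype.val :=
    Finset.mem_image.2 ⟨⟨z, hz⟩, Finset.mem_univ _, rfl⟩
  rcases hU's z hzs with h | h
  · left; exact h v hvU'
  · right; exact h v hvU'

/-- the character defined by a common eigenvector -/
theorem exists_character (ρ : H →* Module.End F V) (Z : Subgroup H)
    (v₀ : V) (hv₀ : v₀ ≠ 0) (hv : ∀ z ∈ Z, ρ z v₀ = v₀ ∨ ρ z v₀ = -v₀) :
    ∃ μ : H → F, (∀ z, μ z = 1 ∨ μ z = -1) ∧ (∀ z ∈ Z, ρ z v₀ = μ z • v₀) ∧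
      (∀ z ∈ Z, ∀ z' ∈ Z, μ (z * z') = μ z * μ z') := by
  classical
  obtain ⟨μ, hμdef⟩ : ∃ μ : H → F, ∀ z, μ z = if ρ z v₀ = v₀ then 1 else -1 :=
    ⟨_, fun _ => rfl⟩
  have hval : ∀ z, μ z = 1 ∨ μ z = -1 := by
    intro z
    rw [hμdef]
    by_cases h : ρ z v₀ = v₀
    · left; simp [h]
    · right; simp [h]
  have heig : ∀ z ∈ Z, ρ z v₀ = μ z • v₀ := by
    intro z hz
    rw [hμdef]
    by_cases h : ρ z v₀ = v₀
    · simp [h]
    · rcases hv z hz with h' | h'
      · exact absurd h' h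
      · simp [h']
  have hinj : ∀ a b : F, a • v₀ = b • v₀ → a = b := by
    intro a b hab
    have h1 : (a - b) • v₀ = 0 := by rw [sub_smul, hab, sub_self]
    rcases smul_eq_zero.1 h1 with h | h
    · exact sub_eq_zero.1 h
    · exact absurd h hv₀
  refine ⟨μ, hval, heig, ?_⟩
  intro z hz z' hz'
  apply hinj
  rw [← heig (z * z') (Z.mul_mem hz hz'), map_mul, Module.End.mul_apply]
  conv_lhs => rw [heig z' hz', map_smul, heig z hz]
  rw [smul_smul, mul_comm]

/-- the projection onto the `μ`-weight space -/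
noncomputable def proj (ρ : H →* Module.End F V) (Z : Subgroup H) [Fintype Z] (μ : H → F) :
    Module.End F V :=
  ((Fintype.card Z : F))⁻¹ • ∑ z : Z, μ (z : H) • ρ (z : H)

theorem proj_apply_self (ρ : H →* Module.End F V) (Z : Subgroup H) [Fintype Z] (μ : H → F)
    (hcard : (Fintype.card Z : F) ≠ 0) (hμ : ∀ z, μ z = 1 ∨ μ z = -1)
    (v : V) (hv : ∀ z ∈ Z, ρ z v = μ z • v) : proj ρ Z μ v = v := by
  unfold proj
  rw [LinearMap.smul_apply, LinearMap.sum_apply]
  have h1 : ∀ z : Z, (μ (z : H) • ρ (z : H)) v = v := by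
    intro z
    rw [LinearMap.smul_apply, hv z z.2, smul_smul]
    rcases hμ z with h | h <;> rw [h] <;> simp
  rw [Finset.sum_congr rfl (fun z _ => h1 z), Finset.sum_const, Finset.card_univ,
    ← Nat.cast_smul_eq_nsmul F, smul_smul, inv_mul_cancel₀ hcard, one_smul]

theorem proj_apply_other (ρ : H →* Module.End F V) (Z : Subgroup H) [Fintype Z] (μ ν : H → F)
    (h2 : (2 : F) ≠ 0)
    (hμm : ∀ z ∈ Z, ∀ z' ∈ Z, μ (z * z') = μ z * μ z')
    (hνm : ∀ z ∈ Z, ∀ z' ∈ Z, ν (z * z') = ν z * ν z')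
    (hμ : ∀ z, μ z = 1 ∨ μ z = -1) (hν : ∀ z, ν z = 1 ∨ ν z = -1)
    (z₁ : H) (hz₁ : z₁ ∈ Z) (hne : μ z₁ ≠ ν z₁)
    (u : V) (hu : ∀ z ∈ Z, ρ z u = ν z • u) : proj ρ Z μ u = 0 := by
  unfold proj
  rw [LinearMap.smul_apply, LinearMap.sum_apply]
  have h1 : ∀ z : Z, (μ (z : H) • ρ (z : H)) u = (μ (z : H) * ν (z : H)) • u := by
    intro z
    rw [LinearMap.smul_apply, hu z z.2, smul_smul]
  rw [Finset.sum_congr rfl (fun z _ => h1 z), ← Finset.sum_smul]
  have hS : ∑ z : Z, μ (z : H) * ν (z : H) = 0 := by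
    have hχ : μ z₁ * ν z₁ = -1 := by
      rcases hμ z₁ with h | h <;> rcases hν z₁ with h' | h'
      · exact absurd (h.trans h'.symm) hne
      · rw [h, h']; simp
      · rw [h, h']; simp
      · exact absurd (h.trans h'.symm) hne
    have hre : ∑ z : Z, μ (z : H) * ν (z : H) =
        ∑ z : Z, μ ((z * ⟨z₁, hz₁⟩ : Z) : H) * ν ((z * ⟨z₁, hz₁⟩ : Z) : H) :=
      (Equiv.sum_comp (Equiv.mulRight (⟨z₁, hz₁⟩ : Z)) (fun z : Z => μ (z : H) * ν (z : H))).symm
    have hre2 : ∑ z : Z, μ ((z * ⟨z₁, hz₁⟩ : Z) : H) * ν ((z * ⟨z₁, hz₁⟩ : Z) : H) =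
        -∑ z : Z, μ (z : H) * ν (z : H) := by
      rw [← Finset.sum_neg_distrib]
      refine Finset.sum_congr rfl (fun z _ => ?_)
      rw [Subgroup.coe_mul, hμm _ z.2 _ hz₁, hνm _ z.2 _ hz₁]
      calc μ (z : H) * μ z₁ * (ν (z : H) * ν z₁) = (μ (z : H) * ν (z : H)) * (μ z₁ * ν z₁) := by ring
        _ = -(μ (z : H) * ν (z : H)) := by rw [hχ]; ring
    have h3 : (2 : F) * ∑ z : Z, μ (z : H) * ν (z : H) = 0 := by
      have := hre.trans hre2
      linear_combination this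
    rcases mul_eq_zero.1 h3 with h | h
    · exact absurd h h2
    · exact h
  rw [hS, zero_smul, smul_zero]

theorem proj_comm (ρ : H →* Module.End F V) (Z : Subgroup H) [Fintype Z] (μ : H → F) (a : H)
    (ha : ∀ z ∈ Z, a * z = z * a) : ρ a * proj ρ Z μ = proj ρ Z μ * ρ a := by
  unfold proj
  rw [mul_smul_comm, smul_mul_assoc, Finset.mul_sum, Finset.sum_mul]
  congr 1
  refine Finset.sum_congr rfl (fun z _ => ?_)
  rw [mul_smul_comm, smul_mul_assoc, ← map_mul, ← map_mul, ha z z.2]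

end Cfsg.Agent.Helper1.HHD3
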