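import Mathlib
import Cfsg.Agent.Helper1.HHD3Grp
import Cfsg.Agent.Helper1.HHD3Wt

set_option autoImplicit false

/-!
The minimal configuration in the `p = 3` case of `l_p ≤ d_p`: basic facts.
-/

namespace Cfsg.Agent.Helper1.HHD3

open Module
open scoped commutatorElement

universe u v w

/-- the minimal configuration -/
structure Cfg {H : Type u} [Group H] {F : Type v} [Field F] {V : Type w} [AddCommGroup V]
    [Module F V] (ρ : H →* Module.End F V) (B Q : Subgroup H) (z₀ : H) : Prop where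
  faith : ∀ h : H, ρ h = 1 → h = 1
  z₀B : z₀ ∈ B
  z₀c : ∀ b ∈ B, b * z₀ = z₀ * b
  z₀A : z₀ ∈ ⁅B, B⁆
  quad : (ρ z₀ - 1) ^ 2 = 0
  cubic : ∀ b ∈ B, ∀ b' ∈ B, (ρ z₀ - 1) * (ρ b - 1) * (ρ b' - 1) = 0
  Q2 : IsPGroup 2 Q
  BQ : B ≤ Subgroup.normalizer (Q : Set H)
  gen : Q = ⁅Q, Subgroup.zpowers z₀⁆
  cen : ∀ x ∈ Q, z₀ * x = x * z₀ ↔ ∀ y ∈ Q, x * y = y * x
  comm : ∀ x ∈ Q, ∀ y ∈ Q, z₀ * (x * y * x⁻¹ * y⁻¹) = (x * y * x⁻¹ * y⁻¹) * z₀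
  sq : ∀ x ∈ Q, z₀ * x ^ 2 = x ^ 2 * z₀
  nonab : ∃ x ∈ Q, ∃ y ∈ Q, x * y ≠ y * x
  min : ∀ Q₁ : Subgroup H, Q₁ ≤ Q → B ≤ Subgroup.normalizer (Q₁ : Set H) → Q₁ ≠ Q →
    ∀ x ∈ Q₁, z₀ * x = x * z₀

variable {H : Type u} [Group H] {F : Type v} [Field F] {V : Type w} [AddCommGroup V]
  [Module F V] {ρ : H →* Module.End F V} {B Q : Subgroup H} {z₀ : H}

namespace Cfg

theorem z₀Q (h : Cfg ρ B Q z₀) {x : H} (hx : x ∈ Q) : z₀ * x * z₀⁻¹ ∈ Q :=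
  conj_mem_of_le_normalizer h.BQ h.z₀B hx

theorem z₀Q' (h : Cfg ρ B Q z₀) {x : H} (hx : x ∈ Q) : z₀⁻¹ * x * z₀ ∈ Q := by
  have := conj_mem_of_le_normalizer h.BQ (B.inv_mem h.z₀B) hx
  rwa [inv_inv] at this

theorem comm_mem (_h : Cfg ρ B Q z₀) {x y : H} (hx : x ∈ Q) (hy : y ∈ Q) :
    x * y * x⁻¹ * y⁻¹ ∈ Q :=
  Q.mul_mem (Q.mul_mem (Q.mul_mem hx hy) (Q.inv_mem hx)) (Q.inv_mem hy)

/-- commutators are central -/
theorem comm_central (h : Cfg ρ B Q z₀) {x y w : H} (hx : x ∈ Q) (hy : y ∈ Q) (hw : w ∈ Q) :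
    (x * y * x⁻¹ * y⁻¹) * w = w * (x * y * x⁻¹ * y⁻¹) :=
  (h.cen _ (h.comm_mem hx hy)).1 (h.comm x hx y hy) w hw

/-- squares are central -/
theorem sq_central (h : Cfg ρ B Q z₀) {x w : H} (hx : x ∈ Q) (hw : w ∈ Q) :
    x ^ 2 * w = w * x ^ 2 :=
  (h.cen _ (Q.pow_mem hx 2)).1 (h.sq x hx) w hw

/-- `z₀ ^ 3 = 1` -/
theorem z₀_pow_three [CharP F 3] [Nontrivial V] (h : Cfg ρ B Q z₀) : z₀ ^ 3 = 1 := by
  haveI : Fact (Nat.Prime 3) := ⟨Nat.prime_three⟩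
  haveI : CharP (Module.End F V) 3 :=
    charP_of_injective_algebraMap (algebraMap F (Module.End F V)).injective 3
  apply h.faith
  have h1 : (ρ z₀ - 1) ^ 3 = 0 := by
    rw [pow_succ, h.quad, zero_mul]
  have h2 : (ρ z₀ - 1) ^ 3 = ρ z₀ ^ 3 - 1 := by
    have := sub_pow_char_of_commute (R := Module.End F V) (p := 3) (Commute.one_right (ρ z₀))
    rw [one_pow] at this
    exact this
  rw [h2, sub_eq_zero] at h1
  rw [map_pow, h1]

/-- facts about the derived subgroup of `Q` -/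
theorem derived_facts (h : Cfg ρ B Q z₀) : ∀ z ∈ ⁅Q, Q⁆,
    z ∈ Q ∧ (∀ w ∈ Q, z * w = w * z) ∧ z₀ * z = z * z₀ ∧ z * z = 1 := by
  intro z hz
  rw [Subgroup.commutator_def] at hz
  induction hz using Subgroup.closure_induction with
  | mem g hg =>
    obtain ⟨x, hx, y, hy, rfl⟩ := hg
    rw [commutatorElement_def]
    refine ⟨h.comm_mem hx hy, fun w hw => h.comm_central hx hy hw, h.comm x hx y hy, ?_⟩
    -- `[x,y]^2 = [x^2,y] = 1`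
    have hc := h.comm_central hx hy hx
    have hc' := h.comm_central hx hy hy
    have hsq := h.sq_central hx hy
    rw [pow_two] at hsq
    have e1 : x * x * y * (x * x)⁻¹ * y⁻¹ = x * (x * y * x⁻¹ * y⁻¹) * (y * x⁻¹ * y⁻¹) := by group
    have e2 : x * x * y * (x * x)⁻¹ * y⁻¹ = 1 := by
      rw [hsq]; group
    rw [e2, ← hc] at e1
    have e3 : (x * y * x⁻¹ * y⁻¹) * (x * y * x⁻¹ * y⁻¹) =
        x * y * x⁻¹ * y⁻¹ * x * (y * x⁻¹ * y⁻¹) := by group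
    rw [e3]
    exact e1.symm
  | one => exact ⟨Q.one_mem, fun w _ => by simp, by simp, by simp⟩
  | mul a b _ _ iha ihb =>
    obtain ⟨haQ, hac, haz, ha2⟩ := iha
    obtain ⟨hbQ, hbc, hbz, hb2⟩ := ihb
    refine ⟨Q.mul_mem haQ hbQ, ?_, ?_, ?_⟩
    · intro w hw
      rw [mul_assoc, hbc w hw, ← mul_assoc, hac w hw, mul_assoc]
    · rw [← mul_assoc, haz, mul_assoc, hbz, ← mul_assoc]
    · have : a * b * (a * b) = (a * a) * (b * b) := by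
        rw [mul_assoc, ← mul_assoc b, ← hac b hbQ]; group
      rw [this, ha2, hb2, one_mul]
  | inv a _ iha =>
    obtain ⟨haQ, hac, haz, ha2⟩ := iha
    have hinv : a⁻¹ = a := by
      rw [inv_eq_iff_mul_eq_one]; exact ha2
    rw [hinv]
    exact ⟨haQ, hac, haz, ha2⟩

/-- `B` normalizes the derived subgroup -/
theorem conj_derived (h : Cfg ρ B Q z₀) {b z : H} (hb : b ∈ B) (hz : z ∈ ⁅Q, Q⁆) :
    b * z * b⁻¹ ∈ ⁅Q, Q⁆ :=
  conj_mem_of_le_normalizer (le_normalizer_commutator h.BQ h.BQ) hb hz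

/-- the derived subgroup is nontrivial -/
theorem exists_derived_ne_one (h : Cfg ρ B Q z₀) : ∃ c ∈ ⁅Q, Q⁆, c ≠ 1 := by
  obtain ⟨x, hx, y, hy, hne⟩ := h.nonab
  refine ⟨x * y * x⁻¹ * y⁻¹, ?_, ?_⟩
  · have := Subgroup.commutator_mem_commutator hx hy
    rwa [commutatorElement_def] at this
  · intro h1
    apply hne
    have : x * y = (x * y * x⁻¹ * y⁻¹) * (y * x) := by group
    rw [this, h1, one_mul]

end Cfg

end Cfsg.Agent.Helper1.HHD3
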