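import Mathlib
import Cfsg.Agent.Helper1.HHD3CfgA

set_option autoImplicit false

/-!
The minimal configuration in the `p = 3` case of `l_p ≤ d_p`: an invariant weight.
-/

namespace Cfsg.Agent.Helper1.HHD3

open Module
open scoped commutatorElement

universe u v w

variable {H : Type u} [Group H] {F : Type v} [Field F] {V : Type w} [AddCommGroup V]
  [Module F V] {ρ : H →* Module.End F V} {B Q : Subgroup H} {z₀ : H}

namespace Cfg

theorem two_ne_zero' [CharP F 3] : (2 : F) ≠ 0 := by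
  intro h
  have h1 : ((2 : ℕ) : F) = 0 := by exact_mod_cast h
  have := (CharP.cast_eq_zero_iff F 3 2).1 h1
  omega

set_option maxHeartbeats 1000000 in
/-- an invariant weight of the derived subgroup -/
theorem exists_weight [CharP F 3] [Finite H] (h : Cfg ρ B Q z₀) :
    ∃ (μ : H → F) (v₀ : V), v₀ ≠ 0 ∧ (∀ z, μ z = 1 ∨ μ z = -1) ∧
      (∀ z ∈ ⁅Q, Q⁆, ρ z v₀ = μ z • v₀) ∧
      (∀ z ∈ ⁅Q, Q⁆, ∀ z' ∈ ⁅Q, Q⁆, μ (z * z') = μ z * μ z') ∧ (∃ c ∈ ⁅Q, Q⁆, μ c = -1) ∧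
      (∀ b ∈ B, ∀ z ∈ ⁅Q, Q⁆, μ (b⁻¹ * z * b) = μ z) := by
  classical
  have h2 : (2 : F) ≠ 0 := two_ne_zero'
  obtain ⟨Z, hZ⟩ : ∃ Z : Subgroup H, Z = ⁅Q, Q⁆ := ⟨_, rfl⟩
  rw [← hZ]
  have hZf : ∀ z ∈ Z, z ∈ Q ∧ (∀ w ∈ Q, z * w = w * z) ∧ z₀ * z = z * z₀ ∧ z * z = 1 := by
    rw [hZ]; exact h.derived_facts
  have hZc : ∀ z ∈ Z, ∀ z' ∈ Z, z * z' = z' * z := fun z hz z' hz' =>
    (hZf z hz).2.1 z' (hZf z' hz').1
  have hZ2 : ∀ z ∈ Z, z * z = 1 := fun z hz => (hZf z hz).2.2.2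
  have hZB : ∀ b ∈ B, ∀ z ∈ Z, b * z * b⁻¹ ∈ Z := by
    intro b hb z hz
    rw [hZ] at hz ⊢
    exact h.conj_derived hb hz
  have hZB' : ∀ b ∈ B, ∀ z ∈ Z, b⁻¹ * z * b ∈ Z := by
    intro b hb z hz
    have := hZB b⁻¹ (B.inv_mem hb) z hz
    rwa [inv_inv] at this
  obtain ⟨c, hcZ, hc1⟩ : ∃ c ∈ Z, c ≠ 1 := by
    rw [hZ]; exact h.exists_derived_ne_one
  -- the `-1`-eigenspace of `c`
  obtain ⟨U, hU⟩ : ∃ U : Submodule F V, U = LinearMap.ker (ρ c + 1) := ⟨_, rfl⟩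
  have hmemU : ∀ u, u ∈ U ↔ ρ c u = -u := by
    intro u
    rw [hU, LinearMap.mem_ker, LinearMap.add_apply, Module.End.one_apply,
      add_eq_zero_iff_eq_neg]
  have hcc : ρ c * ρ c = 1 := by rw [← map_mul, hZ2 c hcZ, map_one]
  have hU0 : U ≠ ⊥ := by
    have hρc : ρ c ≠ 1 := fun h1 => hc1 (h.faith c h1)
    obtain ⟨v, hv⟩ : ∃ v, ρ c v ≠ v := by
      by_contra hcon
      push Not at hcon
      apply hρc
      apply LinearMap.ext
      intro v
      rw [hcon v, Module.End.one_apply]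
    intro hbot
    have h1 : v - ρ c v ∈ U := by
      rw [hmemU, map_sub, ← Module.End.mul_apply, hcc, Module.End.one_apply]
      abel
    rw [hbot, Submodule.mem_bot, sub_eq_zero] at h1
    exact hv h1.symm
  have hUZ : ∀ z ∈ Z, ∀ u ∈ U, ρ z u ∈ U := by
    intro z hz u hu
    rw [hmemU] at hu ⊢
    rw [← Module.End.mul_apply, ← map_mul, hZc c hcZ z hz, map_mul, Module.End.mul_apply, hu,
      map_neg]
  haveI : Finite Z := inferInstance
  obtain ⟨v₀, hv₀U, hv₀0, hv₀e⟩ := exists_common_eigenvector ρ Z hZ2 hZc U hU0 hUZ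
  obtain ⟨μ, hμv, hμe, hμm⟩ := exists_character ρ Z v₀ hv₀0 hv₀e
  have hinj : ∀ a b : F, a • v₀ = b • v₀ → a = b := by
    intro a b hab
    have h1 : (a - b) • v₀ = 0 := by rw [sub_smul, hab, sub_self]
    rcases smul_eq_zero.1 h1 with h | h
    · exact sub_eq_zero.1 h
    · exact absurd h hv₀0
  have hμc : μ c = -1 := by
    apply hinj
    rw [← hμe c hcZ, (hmemU v₀).1 hv₀U, neg_smul, one_smul]
  refine ⟨μ, v₀, hv₀0, hμv, hμe, hμm, ⟨c, hcZ, hμc⟩, ?_⟩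
  by_contra hcon
  push Not at hcon
  obtain ⟨b, hb, z₁, hz₁, hne⟩ := hcon
  haveI : Fintype Z := Fintype.ofFinite Z
  have hcard : (Fintype.card Z : F) ≠ 0 := by
    have hZ2' : IsPGroup 2 Z := h.Q2.to_le (fun z hz => (hZf z hz).1)
    obtain ⟨k, hk⟩ := hZ2'.exists_card_eq
    rw [Nat.card_eq_fintype_card] at hk
    rw [hk, Nat.cast_pow]
    exact pow_ne_zero _ (by exact_mod_cast h2)
  -- the weight space is pointwise fixed by `z₀`
  have hfix : ∀ v : V, (∀ z ∈ Z, ρ z v = μ z • v) → ρ z₀ v = v := by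
    intro v hv
    obtain ⟨ν, hν⟩ : ∃ ν : H → F, ν = fun z => μ (b⁻¹ * z * b) := ⟨_, rfl⟩
    obtain ⟨ν', hν'⟩ : ∃ ν' : H → F, ν' = fun z => μ (b * z * b⁻¹) := ⟨_, rfl⟩
    have hνv : ∀ z, ν z = 1 ∨ ν z = -1 := by intro z; rw [hν]; exact hμv _
    have hν'v : ∀ z, ν' z = 1 ∨ ν' z = -1 := by intro z; rw [hν']; exact hμv _
    have hνm : ∀ z ∈ Z, ∀ z' ∈ Z, ν (z * z') = ν z * ν z' := by
      intro z hz z' hz'
      rw [hν]
      show μ (b⁻¹ * (z * z') * b) = μ (b⁻¹ * z * b) * μ (b⁻¹ * z' * b)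
      rw [← hμm _ (hZB' b hb z hz) _ (hZB' b hb z' hz')]
      congr 1; group
    have hν'm : ∀ z ∈ Z, ∀ z' ∈ Z, ν' (z * z') = ν' z * ν' z' := by
      intro z hz z' hz'
      rw [hν']
      show μ (b * (z * z') * b⁻¹) = μ (b * z * b⁻¹) * μ (b * z' * b⁻¹)
      rw [← hμm _ (hZB b hb z hz) _ (hZB b hb z' hz')]
      congr 1; group
    have hu : ∀ z ∈ Z, ρ z (ρ b v) = ν z • ρ b v := by
      intro z hz
      have e : z * b = b * (b⁻¹ * z * b) := by group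
      rw [← Module.End.mul_apply, ← map_mul, e, map_mul, Module.End.mul_apply,
        hv _ (hZB' b hb z hz), map_smul, hν]
    have hu' : ∀ z ∈ Z, ρ z (ρ b⁻¹ v) = ν' z • ρ b⁻¹ v := by
      intro z hz
      have e : z * b⁻¹ = b⁻¹ * (b * z * b⁻¹) := by group
      rw [← Module.End.mul_apply, ← map_mul, e, map_mul, Module.End.mul_apply,
        hv _ (hZB b hb z hz), map_smul, hν']
    have he1 : proj ρ Z μ v = v := proj_apply_self ρ Z μ hcard hμv v hv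
    have he2 : proj ρ Z μ (ρ b v) = 0 :=
      proj_apply_other ρ Z μ ν h2 hμm hνm hμv hνv z₁ hz₁ (by rw [hν]; exact hne.symm) _ hu
    have he3 : proj ρ Z μ (ρ b⁻¹ v) = 0 := by
      refine proj_apply_other ρ Z μ ν' h2 hμm hν'm hμv hν'v (b⁻¹ * z₁ * b) (hZB' b hb z₁ hz₁)
        ?_ _ hu'
      rw [hν']
      show μ (b⁻¹ * z₁ * b) ≠ μ (b * (b⁻¹ * z₁ * b) * b⁻¹)
      have e : b * (b⁻¹ * z₁ * b) * b⁻¹ = z₁ := by group
      rw [e]; exact hne
    have hcub := h.cubic b hb b⁻¹ (B.inv_mem hb)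
    have h3 : (ρ z₀ - 1) (((ρ b - 1) * (ρ b⁻¹ - 1)) v) = 0 := by
      have := congrArg (fun T : Module.End F V => T v) hcub
      simp only [LinearMap.zero_apply] at this
      rw [mul_assoc, Module.End.mul_apply] at this
      exact this
    have h4 : ((ρ b - 1) * (ρ b⁻¹ - 1)) v = (2 : F) • v - ρ b v - ρ b⁻¹ v := by
      have e : ρ b * ρ b⁻¹ = 1 := by rw [← map_mul, mul_inv_cancel, map_one]
      have e' : (ρ b - 1) * (ρ b⁻¹ - 1) = (2 : F) • (1 : Module.End F V) - ρ b - ρ b⁻¹ := by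
        rw [sub_mul, mul_sub, mul_sub, e, mul_one, one_mul, one_mul, two_smul]
        abel
      rw [e']
      simp
    rw [h4] at h3
    have hcomm := proj_comm ρ Z μ z₀ (fun z hz => (hZf z hz).2.2.1)
    have h5 : proj ρ Z μ ((ρ z₀ - 1) ((2 : F) • v - ρ b v - ρ b⁻¹ v)) = 0 := by
      rw [h3, map_zero]
    have h6 : proj ρ Z μ ((ρ z₀ - 1) ((2 : F) • v - ρ b v - ρ b⁻¹ v)) =
        (ρ z₀ - 1) (proj ρ Z μ ((2 : F) • v - ρ b v - ρ b⁻¹ v)) := by
      rw [← Module.End.mul_apply, ← Module.End.mul_apply, mul_sub, sub_mul, mul_one, one_mul,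
        hcomm]
    have h7 : proj ρ Z μ ((2 : F) • v - ρ b v - ρ b⁻¹ v) = (2 : F) • v := by
      rw [map_sub, map_sub, map_smul, he1, he2, he3, sub_zero, sub_zero]
    rw [h6, h7, map_smul, smul_eq_zero] at h5
    rcases h5 with h5 | h5
    · exact absurd h5 h2
    · rw [LinearMap.sub_apply, Module.End.one_apply, sub_eq_zero] at h5
      exact h5
  -- hence `Q` fixes the weight space pointwise
  have hQinv : ∀ g ∈ Q, ∀ v : V, (∀ z ∈ Z, ρ z v = μ z • v) → ∀ z ∈ Z, ρ z (ρ g v) = μ z • ρ g v := by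
    intro g hg v hv z hz
    rw [← Module.End.mul_apply, ← map_mul, (hZf z hz).2.1 g hg, map_mul, Module.End.mul_apply,
      hv z hz, map_smul]
  obtain ⟨Fx, hFx⟩ : ∃ Fx : Subgroup H, ∀ g, g ∈ Fx ↔
      ∀ v : V, (∀ z ∈ Z, ρ z v = μ z • v) → ρ g v = v := by
    refine ⟨{ carrier := {g | ∀ v : V, (∀ z ∈ Z, ρ z v = μ z • v) → ρ g v = v}
              mul_mem' := ?_
              one_mem' := ?_
              inv_mem' := ?_ }, fun g => Iff.rfl⟩
    · intro a b ha hb v hv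
      rw [map_mul, Module.End.mul_apply, hb v hv, ha v hv]
    · intro v _
      rw [map_one, Module.End.one_apply]
    · intro a ha v hv
      conv_lhs => rw [← ha v hv]
      rw [← Module.End.mul_apply, ← map_mul, inv_mul_cancel, map_one, Module.End.one_apply]
  have hz₀Fx : Subgroup.zpowers z₀ ≤ Fx := by
    rw [Subgroup.zpowers_le, hFx]
    exact hfix
  have hQFx : Q ≤ Fx := by
    rw [h.gen, Subgroup.commutator_le]
    intro g hg a ha
    rw [hFx, commutatorElement_def]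
    intro v hv
    have ha' : a⁻¹ ∈ Fx := Fx.inv_mem (hz₀Fx ha)
    rw [hFx] at ha'
    have ha'' := (hFx a).1 (hz₀Fx ha)
    rw [map_mul, map_mul, map_mul, Module.End.mul_apply, Module.End.mul_apply,
      Module.End.mul_apply, ha' v hv, ha'' _ (hQinv g⁻¹ (Q.inv_mem hg) v hv),
      ← Module.End.mul_apply, ← map_mul, mul_inv_cancel, map_one, Module.End.one_apply]
  have hcFx := (hFx c).1 (hQFx (hZf c hcZ).1) v₀ hμe
  rw [hμe c hcZ, hμc, neg_smul, one_smul] at hcFx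
  have : (2 : F) • v₀ = 0 := by
    rw [two_smul]
    nth_rewrite 1 [← hcFx]
    exact neg_add_cancel v₀
  rcases smul_eq_zero.1 this with h' | h'
  · exact h2 h'
  · exact hv₀0 h'

end Cfg

end Cfsg.Agent.Helper1.HHD3
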