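import Mathlib
import Cfsg.Agent.Helper1.HHD3CfgB

set_option autoImplicit false

/-!
The minimal configuration in the `p = 3` case of `l_p ≤ d_p`: the commutator form.
-/

namespace Cfsg.Agent.Helper1.HHD3

open Module
open scoped commutatorElement

universe u v w

/-- the minimal configuration together with an invariant weight -/
structure Wt {H : Type u} [Group H] {F : Type v} [Field F] {V : Type w} [AddCommGroup V]
    [Module F V] (ρ : H →* Module.End F V) (B Q : Subgroup H) (z₀ : H) (μ : H → F) (v₀ : V) :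
    Prop where
  cfg : Cfg ρ B Q z₀
  two_ne : (2 : F) ≠ 0
  v₀0 : v₀ ≠ 0
  val : ∀ z, μ z = 1 ∨ μ z = -1
  eig : ∀ z ∈ ⁅Q, Q⁆, ρ z v₀ = μ z • v₀
  mul : ∀ z ∈ ⁅Q, Q⁆, ∀ z' ∈ ⁅Q, Q⁆, μ (z * z') = μ z * μ z'
  neg : ∃ c ∈ ⁅Q, Q⁆, μ c = -1
  inv : ∀ b ∈ B, ∀ z ∈ ⁅Q, Q⁆, μ (b⁻¹ * z * b) = μ z

/-- the commutator form -/
def kap {H : Type u} [Group H] {F : Type v} (μ : H → F) (g x : H) : F := μ (g * x * g⁻¹ * x⁻¹)

variable {H : Type u} [Group H] {F : Type v} [Field F] {V : Type w} [AddCommGroup V]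
  [Module F V] {ρ : H →* Module.End F V} {B Q : Subgroup H} {z₀ : H} {μ : H → F} {v₀ : V}

namespace Wt

theorem sq_one (t : Wt ρ B Q z₀ μ v₀) (z : H) : μ z * μ z = 1 := by
  rcases t.val z with h | h <;> rw [h] <;> simp

theorem mu_one (t : Wt ρ B Q z₀ μ v₀) : μ 1 = 1 := by
  have h1 := t.mul 1 (Subgroup.one_mem _) 1 (Subgroup.one_mem _)
  rw [one_mul, t.sq_one] at h1
  exact h1

theorem comm_mem (_t : Wt ρ B Q z₀ μ v₀) {g x : H} (hg : g ∈ Q) (hx : x ∈ Q) :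
    g * x * g⁻¹ * x⁻¹ ∈ ⁅Q, Q⁆ := by
  have := Subgroup.commutator_mem_commutator hg hx
  rwa [commutatorElement_def] at this

theorem kap_val (t : Wt ρ B Q z₀ μ v₀) (g x : H) : kap μ g x = 1 ∨ kap μ g x = -1 := t.val _

theorem kap_sq (t : Wt ρ B Q z₀ μ v₀) (g x : H) : kap μ g x * kap μ g x = 1 := t.sq_one _

theorem kap_mul_left (t : Wt ρ B Q z₀ μ v₀) {g g' x : H} (hg : g ∈ Q) (hg' : g' ∈ Q)
    (hx : x ∈ Q) : kap μ (g * g') x = kap μ g x * kap μ g' x := by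
  unfold kap
  rw [mul_comm, ← t.mul _ (t.comm_mem hg' hx) _ (t.comm_mem hg hx)]
  congr 1
  have hc := t.cfg.comm_central hg' hx (Q.inv_mem hg)
  have e : g * g' * x * (g * g')⁻¹ * x⁻¹ =
      g * ((g' * x * g'⁻¹ * x⁻¹) * g⁻¹) * (g * x * g⁻¹ * x⁻¹) := by group
  rw [e, hc]
  group

theorem kap_mul_right (t : Wt ρ B Q z₀ μ v₀) {g x x' : H} (hg : g ∈ Q) (hx : x ∈ Q)
    (hx' : x' ∈ Q) : kap μ g (x * x') = kap μ g x * kap μ g x' := by
  unfold kap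
  rw [← t.mul _ (t.comm_mem hg hx) _ (t.comm_mem hg hx')]
  congr 1
  have hc := t.cfg.comm_central hg hx' (Q.inv_mem hx)
  have e : g * (x * x') * g⁻¹ * (x * x')⁻¹ =
      (g * x * g⁻¹ * x⁻¹) * (x * ((g * x' * g⁻¹ * x'⁻¹) * x⁻¹)) := by group
  rw [e, hc]
  group

theorem kap_symm (t : Wt ρ B Q z₀ μ v₀) {g x : H} (hg : g ∈ Q) (hx : x ∈ Q) :
    kap μ x g = kap μ g x := by
  unfold kap
  congr 1
  have h1 := (t.cfg.derived_facts _ (t.comm_mem hg hx)).2.2.2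
  have e : x * g * x⁻¹ * g⁻¹ = (g * x * g⁻¹ * x⁻¹)⁻¹ := by group
  rw [e, inv_eq_iff_mul_eq_one]
  exact h1

theorem kap_self (t : Wt ρ B Q z₀ μ v₀) (g : H) : kap μ g g = 1 := by
  unfold kap
  have e : g * g * g⁻¹ * g⁻¹ = 1 := by group
  rw [e, t.mu_one]

theorem kap_central (t : Wt ρ B Q z₀ μ v₀) {k x : H} (hx : x ∈ Q)
    (hk : ∀ y ∈ Q, k * y = y * k) : kap μ k x = 1 := by
  unfold kap
  have e : k * x * k⁻¹ * x⁻¹ = 1 := by
    rw [hk x hx]; group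
  rw [e, t.mu_one]

theorem kap_one_left (t : Wt ρ B Q z₀ μ v₀) (x : H) : kap μ 1 x = 1 := by
  unfold kap
  have e : (1 : H) * x * 1⁻¹ * x⁻¹ = 1 := by group
  rw [e, t.mu_one]

theorem kap_inv_left (t : Wt ρ B Q z₀ μ v₀) {g x : H} (hg : g ∈ Q) (hx : x ∈ Q) :
    kap μ g⁻¹ x = kap μ g x := by
  have h1 := t.kap_mul_left (Q.inv_mem hg) hg hx
  rw [inv_mul_cancel, t.kap_one_left] at h1
  have h2 := t.kap_sq g x
  calc kap μ g⁻¹ x = kap μ g⁻¹ x * (kap μ g x * kap μ g x) := by rw [h2, mul_one]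
    _ = (kap μ g⁻¹ x * kap μ g x) * kap μ g x := by ring
    _ = kap μ g x := by rw [← h1, one_mul]

theorem kap_conj_z₀ (t : Wt ρ B Q z₀ μ v₀) {g x : H} (hg : g ∈ Q) (hx : x ∈ Q) :
    kap μ (z₀ * g * z₀⁻¹) (z₀ * x * z₀⁻¹) = kap μ g x := by
  unfold kap
  congr 1
  have h1 := t.cfg.comm g hg x hx
  have e : z₀ * g * z₀⁻¹ * (z₀ * x * z₀⁻¹) * (z₀ * g * z₀⁻¹)⁻¹ * (z₀ * x * z₀⁻¹)⁻¹ =
      z₀ * (g * x * g⁻¹ * x⁻¹) * z₀⁻¹ := by group
  rw [e, h1, mul_inv_cancel_right]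

theorem kap_conj_z₀' (t : Wt ρ B Q z₀ μ v₀) {g x : H} (hg : g ∈ Q) (hx : x ∈ Q) :
    kap μ (z₀⁻¹ * g * z₀) (z₀⁻¹ * x * z₀) = kap μ g x := by
  have h1 := t.kap_conj_z₀ (t.cfg.z₀Q' hg) (t.cfg.z₀Q' hx)
  have e1 : z₀ * (z₀⁻¹ * g * z₀) * z₀⁻¹ = g := by group
  have e2 : z₀ * (z₀⁻¹ * x * z₀) * z₀⁻¹ = x := by group
  rw [e1, e2] at h1
  exact h1.symm

theorem kap_conj_B (t : Wt ρ B Q z₀ μ v₀) {b g x : H} (hb : b ∈ B) (hg : g ∈ Q) (hx : x ∈ Q) :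
    kap μ (b * g * b⁻¹) (b * x * b⁻¹) = kap μ g x := by
  unfold kap
  have h1 := t.inv b⁻¹ (B.inv_mem hb) _ (t.comm_mem hg hx)
  rw [inv_inv] at h1
  rw [← h1]
  congr 1
  group

/-- the radical of the form is central -/
theorem rad_central [Finite H] (t : Wt ρ B Q z₀ μ v₀) {g : H} (hg : g ∈ Q)
    (hrad : ∀ x ∈ Q, kap μ g x = 1) : ∀ y ∈ Q, g * y = y * g := by
  classical
  obtain ⟨R, hR⟩ : ∃ R : Subgroup H, ∀ k, k ∈ R ↔ k ∈ Q ∧ ∀ x ∈ Q, kap μ k x = 1 := by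
    refine ⟨{ carrier := {k | k ∈ Q ∧ ∀ x ∈ Q, kap μ k x = 1}
              mul_mem' := ?_
              one_mem' := ?_
              inv_mem' := ?_ }, fun k => Iff.rfl⟩
    · rintro a b ⟨ha, ha'⟩ ⟨hb, hb'⟩
      refine ⟨Q.mul_mem ha hb, fun x hx => ?_⟩
      rw [t.kap_mul_left ha hb hx, ha' x hx, hb' x hx, one_mul]
    · exact ⟨Q.one_mem, fun x _ => t.kap_one_left x⟩
    · rintro a ⟨ha, ha'⟩
      refine ⟨Q.inv_mem ha, fun x hx => ?_⟩
      rw [t.kap_inv_left ha hx, ha' x hx]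
  have hRQ : R ≤ Q := fun k hk => ((hR k).1 hk).1
  have hRB : B ≤ Subgroup.normalizer (R : Set H) := by
    apply le_normalizer_of_conj_mem
    intro b hb k hk
    rw [hR] at hk ⊢
    refine ⟨conj_mem_of_le_normalizer t.cfg.BQ hb hk.1, fun x hx => ?_⟩
    have hx' : b⁻¹ * x * b ∈ Q := by
      have := conj_mem_of_le_normalizer t.cfg.BQ (B.inv_mem hb) hx
      rwa [inv_inv] at this
    have h1 := t.kap_conj_B hb hk.1 hx'
    have e : b * (b⁻¹ * x * b) * b⁻¹ = x := by group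
    rw [e] at h1
    rw [h1]
    exact hk.2 _ hx'
  have hRne : R ≠ Q := by
    intro hRQ'
    have hall : ∀ z ∈ ⁅Q, Q⁆, μ z = 1 := by
      intro z hz
      have hz' := hz
      rw [Subgroup.commutator_def] at hz'
      induction hz' using Subgroup.closure_induction with
      | mem a ha =>
        obtain ⟨x, hx, y, hy, rfl⟩ := ha
        rw [commutatorElement_def]
        have hxR : x ∈ R := by rw [hRQ']; exact hx
        exact ((hR x).1 hxR).2 y hy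
      | one => exact t.mu_one
      | mul a b ha hb iha ihb =>
        have ha' : a ∈ ⁅Q, Q⁆ := by rw [Subgroup.commutator_def]; exact ha
        have hb' : b ∈ ⁅Q, Q⁆ := by rw [Subgroup.commutator_def]; exact hb
        rw [t.mul a ha' b hb', iha ha', ihb hb', one_mul]
      | inv a ha iha =>
        have ha' : a ∈ ⁅Q, Q⁆ := by rw [Subgroup.commutator_def]; exact ha
        have h1 := (t.cfg.derived_facts a ha').2.2.2
        have hinv : a⁻¹ = a := by rw [inv_eq_iff_mul_eq_one]; exact h1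
        rw [hinv]; exact iha ha'
    obtain ⟨c, hc, hc'⟩ := t.neg
    rw [hall c hc] at hc'
    exact t.two_ne (by linear_combination hc')
  have hgR : g ∈ R := (hR g).2 ⟨hg, hrad⟩
  have := t.cfg.min R hRQ hRB hRne g hgR
  exact (t.cfg.cen g hg).1 this

end Wt

end Cfsg.Agent.Helper1.HHD3
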