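import Mathlib
import Cfsg.Agent.Helper3.ShHHbc

set_option autoImplicit false

/-!
Linear-algebra lemmas for the `p = 3` case of the Hall–Higman bound `l_p ≤ d_p`.
-/

namespace Cfsg.Agent.Helper1.HHD3

open Module

/-- An element `ζ` of order dividing `3` acting quadratically in characteristic `3` cannot act
nontrivially on an abelian `2`-group of linear maps: the abelian case of Hall–Higman's Theorem B. -/
theorem ab_contra {F : Type*} [Field F] [CharP F 3] {W : Type*} [AddCommGroup W] [Module F W]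
    [FiniteDimensional F W] [Finite W] (ζ ξ : (Module.End F W)ˣ) (hζ3 : ζ ^ 3 = 1)
    (hζq : ((ζ : Module.End F W) - 1) ^ 2 = 0) (k : ℕ) (hξ : ξ ^ (2 ^ k) = 1)
    (hcomm : Commute ξ (ζ * ξ * ζ⁻¹)) (hne : ζ * ξ * ζ⁻¹ ≠ ξ) : False := by
  classical
  haveI : Fact (Nat.Prime 3) := ⟨Nat.prime_three⟩
  haveI : Finite (Module.End F W) := DFunLike.finite _
  haveI : Finite (Module.End F W)ˣ := Finite.of_injective _ Units.val_injective
  obtain ⟨c, hc⟩ : ∃ c : MulAut (Module.End F W)ˣ, c = MulAut.conj ζ := ⟨_, rfl⟩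
  have hcapp : ∀ g, c g = ζ * g * ζ⁻¹ := by
    intro g; rw [hc, MulAut.conj_apply]
  have hc3 : ∀ g, c (c (c g)) = g := by
    intro g
    rw [hcapp, hcapp, hcapp]
    have : ζ * (ζ * (ζ * g * ζ⁻¹) * ζ⁻¹) * ζ⁻¹ = ζ ^ 3 * g * (ζ ^ 3)⁻¹ := by
      simp only [pow_succ, pow_zero, one_mul, mul_inv_rev, mul_assoc]
    rw [this, hζ3]; simp
  obtain ⟨ξ₁, hξ₁⟩ : ∃ ξ₁, ξ₁ = c ξ := ⟨_, rfl⟩
  obtain ⟨ξ₂, hξ₂⟩ : ∃ ξ₂, ξ₂ = c ξ₁ := ⟨_, rfl⟩
  have hξ₃ : c ξ₂ = ξ := by rw [hξ₂, hξ₁, hc3]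
  rw [← hcapp, ← hξ₁] at hcomm hne
  have c01 : Commute ξ ξ₁ := hcomm
  have c12 : Commute ξ₁ ξ₂ := by
    rw [hξ₁, hξ₂, hξ₁]
    exact c01.map c |> fun h => by rw [hξ₁] at h; exact h
  have c20 : Commute ξ₂ ξ := by
    have := c12.map c
    rw [← hξ₂, hξ₃] at this
    exact this
  obtain ⟨S, hS⟩ : ∃ S : Set (Module.End F W)ˣ, S = {ξ, ξ₁, ξ₂} := ⟨_, rfl⟩
  have hScomm : ∀ a ∈ S, ∀ b ∈ S, a * b = b * a := by
    intro a ha b hb
    simp only [hS, Set.mem_insert_iff, Set.mem_singleton_iff] at ha hb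
    rcases ha with rfl | rfl | rfl <;> rcases hb with rfl | rfl | rfl
    · rfl
    · exact c01.eq
    · exact c20.eq.symm
    · exact c01.eq.symm
    · rfl
    · exact c12.eq
    · exact c20.eq
    · exact c12.eq.symm
    · rfl
  obtain ⟨Q, hQ⟩ : ∃ Q : Subgroup (Module.End F W)ˣ, Q = Subgroup.closure S := ⟨_, rfl⟩
  have hQcomm : ∀ a ∈ Q, ∀ b ∈ Q, a * b = b * a := by
    intro a ha b hb
    rw [hQ] at ha hb
    haveI := Subgroup.isMulCommutative_closure hScomm
    have := mul_comm' (⟨a, ha⟩ : Subgroup.closure S) ⟨b, hb⟩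
    exact congrArg Subtype.val this
  have hcpow : ∀ g : (Module.End F W)ˣ, g ^ (2 ^ k) = 1 → (c g) ^ (2 ^ k) = 1 := by
    intro g hg
    rw [← map_pow, hg, map_one]
  have hSpow : ∀ a ∈ S, a ^ (2 ^ k) = 1 := by
    intro a ha
    simp only [hS, Set.mem_insert_iff, Set.mem_singleton_iff] at ha
    rcases ha with rfl | rfl | rfl
    · exact hξ
    · rw [hξ₁]; exact hcpow _ hξ
    · rw [hξ₂, hξ₁]; exact hcpow _ (hcpow _ hξ)
  have hQpow : ∀ a ∈ Q, a ^ (2 ^ k) = 1 := by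
    intro a ha
    rw [hQ] at ha
    induction ha using Subgroup.closure_induction with
    | mem x hx => exact hSpow x hx
    | one => exact one_pow _
    | mul x y hx hy ihx ihy =>
      have hxy : Commute x y := hQcomm x (by rw [hQ]; exact hx) y (by rw [hQ]; exact hy)
      rw [hxy.mul_pow, ihx, ihy, one_mul]
    | inv x hx ihx => rw [inv_pow, ihx, inv_one]
  have hQp : IsPGroup 2 Q := by
    intro a
    refine ⟨k, ?_⟩
    apply Subtype.ext
    rw [Subgroup.coe_pow]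
    exact hQpow a a.2
  have hζQ : ∀ g ∈ Q, ζ * g * ζ⁻¹ ∈ Q := by
    intro g hg
    rw [← hcapp]
    rw [hQ] at hg ⊢
    induction hg using Subgroup.closure_induction with
    | mem x hx =>
      simp only [hS, Set.mem_insert_iff, Set.mem_singleton_iff] at hx
      apply Subgroup.subset_closure
      rw [hS]
      rcases hx with rfl | rfl | rfl
      · right; left; exact hξ₁.symm
      · right; right; exact hξ₂.symm
      · left; exact hξ₃
    | one => rw [map_one]; exact Subgroup.one_mem _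
    | mul x y hx hy ihx ihy => rw [map_mul]; exact Subgroup.mul_mem _ ihx ihy
    | inv x hx ihx => rw [map_inv]; exact Subgroup.inv_mem _ ihx
  have hξQ : ξ ∈ Q := by
    rw [hQ]; exact Subgroup.subset_closure (by simp [hS])
  have hmain := Cfsg.Agent.Helper3.Shult.hh_linear (F := F) (V := W) 3
    (Units.coeHom (Module.End F W)) Q 2 Nat.prime_two (by decide) hQp ζ 1 le_rfl
    (by rw [pow_one]; exact hζ3) hζQ
    (by
      intro g _ hg
      apply Units.ext
      exact hg)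
    ⟨ξ, hξQ, by
      rw [Nat.sub_self, pow_zero, pow_one, ← hcapp, ← hξ₁]
      exact hne⟩ 2
    (by
      show ((ζ : Module.End F W) - 1) ^ 2 = 0
      exact hζq)
  rcases hmain with h | ⟨n₀, m, -, -, -, -, ⟨g, hg, h, hh, hgh⟩, -⟩
  · omega
  · exact hgh (hQcomm g hg h hh)

end Cfsg.Agent.Helper1.HHD3
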