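import Mathlib
import Cfsg.Agent.Helper1.HHD3CfgC
import Cfsg.Agent.Helper1.HHD3Lin

set_option autoImplicit false

/-!
The minimal configuration in the `p = 3` case of `l_p ≤ d_p`: non-central elements do not
commute with their `z₀`-conjugates modulo the kernel of the weight.
-/

namespace Cfsg.Agent.Helper1.HHD3

open Module
open scoped commutatorElement

universe u v w

variable {H : Type u} [Group H] {F : Type v} [Field F] {V : Type w} [AddCommGroup V]
  [Module F V] {ρ : H →* Module.End F V} {B Q : Subgroup H} {z₀ : H} {μ : H → F} {v₀ : V}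

namespace Wt

set_option maxHeartbeats 1600000 in
theorem kap_conj_neg [CharP F 3] [Finite H] [Finite V] [FiniteDimensional F V]
    (t : Wt ρ B Q z₀ μ v₀) {x : H} (hx : x ∈ Q) (hnc : ¬ ∀ y ∈ Q, x * y = y * x) :
    kap μ x (z₀ * x * z₀⁻¹) = -1 := by
  classical
  rcases t.kap_val x (z₀ * x * z₀⁻¹) with hk1 | hk1
  swap
  · exact hk1
  exfalso
  haveI : Nontrivial V := ⟨⟨v₀, 0, t.v₀0⟩⟩
  have hz₀3 : z₀ ^ 3 = 1 := t.cfg.z₀_pow_three
  obtain ⟨x', hx'def⟩ : ∃ x', x' = z₀ * x * z₀⁻¹ := ⟨_, rfl⟩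
  rw [← hx'def] at hk1
  have hx'Q : x' ∈ Q := by rw [hx'def]; exact t.cfg.z₀Q hx
  have hZf := t.cfg.derived_facts
  -- the weight space
  obtain ⟨Vμ, hVμ⟩ : ∃ Vμ : Submodule F V, ∀ v, v ∈ Vμ ↔ ∀ z ∈ ⁅Q, Q⁆, ρ z v = μ z • v := by
    refine ⟨{ carrier := {v | ∀ z ∈ ⁅Q, Q⁆, ρ z v = μ z • v}
              add_mem' := ?_
              zero_mem' := ?_
              smul_mem' := ?_ }, fun v => Iff.rfl⟩
    · intro a b ha hb z hz
      rw [map_add, ha z hz, hb z hz, smul_add]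
    · intro z _
      rw [map_zero, smul_zero]
    · intro c a ha z hz
      rw [map_smul, ha z hz, smul_comm]
  have hv₀V : v₀ ∈ Vμ := (hVμ v₀).2 t.eig
  have hinj : ∀ a b : F, a • v₀ = b • v₀ → a = b := by
    intro a b hab
    have h1 : (a - b) • v₀ = 0 := by rw [sub_smul, hab, sub_self]
    rcases smul_eq_zero.1 h1 with h | h
    · exact sub_eq_zero.1 h
    · exact absurd h t.v₀0
  -- invariance
  have hQV : ∀ g ∈ Q, ∀ v ∈ Vμ, ρ g v ∈ Vμ := by
    intro g hg v hv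
    rw [hVμ] at hv ⊢
    intro z hz
    rw [← Module.End.mul_apply, ← map_mul, (hZf z hz).2.1 g hg, map_mul, Module.End.mul_apply,
      hv z hz, map_smul]
  have hz₀V : ∀ v ∈ Vμ, ρ z₀ v ∈ Vμ := by
    intro v hv
    rw [hVμ] at hv ⊢
    intro z hz
    rw [← Module.End.mul_apply, ← map_mul, ← (hZf z hz).2.2.1, map_mul, Module.End.mul_apply,
      hv z hz, map_smul]
  have hz₀V' : ∀ v ∈ Vμ, ρ z₀⁻¹ v ∈ Vμ := by
    intro v hv
    rw [hVμ] at hv ⊢
    intro z hz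
    have e : z * z₀⁻¹ = z₀⁻¹ * z := by
      have := (hZf z hz).2.2.1
      calc z * z₀⁻¹ = z₀⁻¹ * (z₀ * z) * z₀⁻¹ := by group
        _ = z₀⁻¹ * (z * z₀) * z₀⁻¹ := by rw [this]
        _ = z₀⁻¹ * z := by group
    rw [← Module.End.mul_apply, ← map_mul, e, map_mul, Module.End.mul_apply,
      hv z hz, map_smul]
  -- the stabilizer
  obtain ⟨L, hL⟩ : ∃ L : Subgroup H, ∀ g, g ∈ L ↔ ∀ v ∈ Vμ, ρ g v ∈ Vμ ∧ ρ g⁻¹ v ∈ Vμ := by
    refine ⟨{ carrier := {g | ∀ v ∈ Vμ, ρ g v ∈ Vμ ∧ ρ g⁻¹ v ∈ Vμ}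
              mul_mem' := ?_
              one_mem' := ?_
              inv_mem' := ?_ }, fun g => Iff.rfl⟩
    · intro a b ha hb v hv
      constructor
      · rw [map_mul, Module.End.mul_apply]
        exact (ha _ (hb v hv).1).1
      · rw [mul_inv_rev, map_mul, Module.End.mul_apply]
        exact (hb _ (ha v hv).2).2
    · intro v hv
      rw [inv_one, map_one, Module.End.one_apply]
      exact ⟨hv, hv⟩
    · intro a ha v hv
      rw [inv_inv]
      exact ⟨(ha v hv).2, (ha v hv).1⟩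
  have hQL : Q ≤ L := by
    intro g hg
    rw [hL]
    intro v hv
    exact ⟨hQV g hg v hv, hQV g⁻¹ (Q.inv_mem hg) v hv⟩
  have hz₀L : z₀ ∈ L := by
    rw [hL]
    intro v hv
    exact ⟨hz₀V v hv, hz₀V' v hv⟩
  -- the restricted representation
  obtain ⟨φ, hφ⟩ : ∃ φ : L →* Module.End F Vμ, ∀ (g : L) (w : Vμ),
      ((φ g w : Vμ) : V) = ρ (g : H) (w : V) := by
    refine ⟨{ toFun := fun g => (ρ (g : H)).restrict (fun v hv => (((hL g).1 g.2) v hv).1)
              map_one' := ?_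
              map_mul' := ?_ }, fun g w => rfl⟩
    · apply LinearMap.ext
      intro w
      apply Subtype.ext
      simp [LinearMap.restrict_apply]
    · intro a b
      apply LinearMap.ext
      intro w
      apply Subtype.ext
      simp [LinearMap.restrict_apply]
  obtain ⟨φU, hφU⟩ : ∃ φU : L →* (Module.End F Vμ)ˣ, ∀ g : L, ((φU g : (Module.End F Vμ)ˣ) :
      Module.End F Vμ) = φ g := ⟨φ.toHomUnits, fun g => rfl⟩
  obtain ⟨ζ, hζ⟩ : ∃ ζ, ζ = φU ⟨z₀, hz₀L⟩ := ⟨_, rfl⟩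
  obtain ⟨ξ, hξ⟩ : ∃ ξ, ξ = φU ⟨x, hQL hx⟩ := ⟨_, rfl⟩
  have hconj : ζ * ξ * ζ⁻¹ = φU ⟨x', hQL hx'Q⟩ := by
    rw [hζ, hξ, ← map_inv, ← map_mul, ← map_mul]
    congr 1
    apply Subtype.ext
    show z₀ * x * z₀⁻¹ = x'
    exact hx'def.symm
  have hζ3 : ζ ^ 3 = 1 := by
    rw [hζ, ← map_pow]
    have : (⟨z₀, hz₀L⟩ : L) ^ 3 = 1 := by
      apply Subtype.ext
      rw [Subgroup.coe_pow]
      exact hz₀3
    rw [this, map_one]
  have hcoe : ∀ (g : L) (w : Vμ), (((φ g - 1) w : Vμ) : V) = (ρ (g : H) - 1) (w : V) := by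
    intro g w
    rw [LinearMap.sub_apply, LinearMap.sub_apply, Module.End.one_apply, Module.End.one_apply,
      Submodule.coe_sub, hφ]
  have hζq : ((ζ : Module.End F Vμ) - 1) ^ 2 = 0 := by
    rw [hζ, hφU]
    apply LinearMap.ext
    intro w
    apply Subtype.ext
    rw [pow_two, Module.End.mul_apply, hcoe, hcoe, LinearMap.zero_apply, Submodule.coe_zero,
      ← Module.End.mul_apply, ← pow_two, t.cfg.quad, LinearMap.zero_apply]
  obtain ⟨k, hk⟩ := t.cfg.Q2 ⟨x, hx⟩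
  have hξk : ξ ^ (2 ^ k) = 1 := by
    rw [hξ, ← map_pow]
    have : (⟨x, hQL hx⟩ : L) ^ (2 ^ k) = 1 := by
      apply Subtype.ext
      rw [Subgroup.coe_pow]
      have := congrArg Subtype.val hk
      rw [Subgroup.coe_pow] at this
      exact this
    rw [this, map_one]
  have hcomm : Commute ξ (ζ * ξ * ζ⁻¹) := by
    rw [hconj, hξ]
    apply Units.ext
    rw [Units.val_mul, Units.val_mul, hφU, hφU]
    apply LinearMap.ext
    intro w
    apply Subtype.ext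
    rw [Module.End.mul_apply, Module.End.mul_apply, hφ, hφ, hφ, hφ]
    show ρ x (ρ x' (w : V)) = ρ x' (ρ x (w : V))
    have hc : x * x' * x⁻¹ * x'⁻¹ ∈ ⁅Q, Q⁆ := t.comm_mem hx hx'Q
    have e : x * x' = (x * x' * x⁻¹ * x'⁻¹) * (x' * x) := by group
    have hmem : ρ (x' * x) (w : V) ∈ Vμ := by
      rw [map_mul, Module.End.mul_apply]
      exact hQV x' hx'Q _ (hQV x hx _ w.2)
    rw [← Module.End.mul_apply, ← map_mul, e, map_mul, Module.End.mul_apply,
      (hVμ _).1 hmem _ hc]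
    have : μ (x * x' * x⁻¹ * x'⁻¹) = 1 := hk1
    rw [this, one_smul, map_mul, Module.End.mul_apply]
  have hne : ζ * ξ * ζ⁻¹ ≠ ξ := by
    rw [hconj, hξ]
    intro heq
    have heq' : ∀ w ∈ Vμ, ρ x' w = ρ x w := by
      intro w hw
      have h1 := congrArg (fun u : (Module.End F Vμ)ˣ => ((u : Module.End F Vμ) ⟨w, hw⟩ : V)) heq
      simp only [hφU, hφ] at h1
      exact h1
    obtain ⟨kk, hkk⟩ : ∃ kk, kk = x' * x⁻¹ := ⟨_, rfl⟩
    have hkkQ : kk ∈ Q := by rw [hkk]; exact Q.mul_mem hx'Q (Q.inv_mem hx)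
    have hkfix : ∀ w ∈ Vμ, ρ kk w = w := by
      intro w hw
      rw [hkk, map_mul, Module.End.mul_apply, heq' _ (hQV x⁻¹ (Q.inv_mem hx) w hw),
        ← Module.End.mul_apply, ← map_mul, mul_inv_cancel, map_one, Module.End.one_apply]
    have hkfix' : ∀ w ∈ Vμ, ρ kk⁻¹ w = w := by
      intro w hw
      conv_lhs => rw [← hkfix w hw]
      rw [← Module.End.mul_apply, ← map_mul, inv_mul_cancel, map_one, Module.End.one_apply]
    have hrad : ∀ y ∈ Q, kap μ kk y = 1 := by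
      intro y hy
      unfold kap
      apply hinj
      rw [one_smul, ← t.eig _ (t.comm_mem hkkQ hy), map_mul, map_mul, map_mul,
        Module.End.mul_apply, Module.End.mul_apply, Module.End.mul_apply,
        hkfix' _ (hQV y⁻¹ (Q.inv_mem hy) v₀ hv₀V), ← Module.End.mul_apply (ρ y), ← map_mul,
        mul_inv_cancel, map_one, Module.End.one_apply, hkfix v₀ hv₀V]
    have hkcen := t.rad_central hkkQ hrad
    have hkz₀ : z₀ * kk = kk * z₀ := (t.cfg.cen kk hkkQ).2 hkcen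
    have hx'eq : z₀ * x * z₀⁻¹ = kk * x := by
      rw [hkk, ← hx'def]; group
    have hk3 : kk ^ 3 = 1 := by
      have e1 : z₀ ^ 3 * x * (z₀ ^ 3)⁻¹ = kk ^ 3 * x := by
        have e2 : z₀ * (kk * x) * z₀⁻¹ = kk * (z₀ * x * z₀⁻¹) := by
          calc z₀ * (kk * x) * z₀⁻¹ = (z₀ * kk) * x * z₀⁻¹ := by group
            _ = (kk * z₀) * x * z₀⁻¹ := by rw [hkz₀]
            _ = kk * (z₀ * x * z₀⁻¹) := by group
        calc z₀ ^ 3 * x * (z₀ ^ 3)⁻¹ = z₀ * (z₀ * (z₀ * x * z₀⁻¹) * z₀⁻¹) * z₀⁻¹ := by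
              simp only [pow_succ, pow_zero, one_mul, mul_inv_rev, mul_assoc]
          _ = z₀ * (z₀ * (kk * x) * z₀⁻¹) * z₀⁻¹ := by rw [hx'eq]
          _ = z₀ * (kk * (kk * x)) * z₀⁻¹ := by rw [e2, hx'eq]
          _ = (z₀ * kk) * (kk * x) * z₀⁻¹ := by group
          _ = (kk * z₀) * (kk * x) * z₀⁻¹ := by rw [hkz₀]
          _ = kk * (z₀ * (kk * x) * z₀⁻¹) := by group
          _ = kk * (kk * (kk * x)) := by rw [e2, hx'eq]
          _ = kk ^ 3 * x := by
              simp only [pow_succ, pow_zero, one_mul, mul_assoc]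
      rw [hz₀3, inv_one, one_mul, mul_one] at e1
      exact (mul_eq_right.1 e1.symm)
    obtain ⟨j, hj⟩ := t.cfg.Q2 ⟨kk, hkkQ⟩
    have hj' : kk ^ (2 ^ j) = 1 := by
      have := congrArg Subtype.val hj
      rw [Subgroup.coe_pow] at this
      exact this
    have hk1' : kk = 1 := by
      have h1 : orderOf kk ∣ 3 := orderOf_dvd_of_pow_eq_one hk3
      have h2 : orderOf kk ∣ 2 ^ j := orderOf_dvd_of_pow_eq_one hj'
      have h3 : orderOf kk ∣ Nat.gcd 3 (2 ^ j) := Nat.dvd_gcd h1 h2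
      have h4 : Nat.gcd 3 (2 ^ j) = 1 := Nat.Coprime.pow_right j (by decide)
      rw [h4, Nat.dvd_one] at h3
      exact orderOf_eq_one_iff.1 h3
    rw [hk1', one_mul] at hx'eq
    apply hnc
    apply (t.cfg.cen x hx).1
    calc z₀ * x = (z₀ * x * z₀⁻¹) * z₀ := by group
      _ = x * z₀ := by rw [hx'eq]
  exact ab_contra ζ ξ hζ3 hζq k hξk hcomm hne

end Wt

end Cfsg.Agent.Helper1.HHD3
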