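import Mathlib
import Cfsg.Agent.Helper1.HHD3CfgD

set_option autoImplicit false

/-!
The minimal configuration in the `p = 3` case of `l_p ≤ d_p`: the final contradiction.
-/

namespace Cfsg.Agent.Helper1.HHD3

open Module
open scoped commutatorElement

universe u v w

variable {H : Type u} [Group H]

/-- `g` commutes with every element of `Q` -/
def Cen (Q : Subgroup H) (g : H) : Prop := ∀ y ∈ Q, g * y = y * g

theorem Cen.mul {Q : Subgroup H} {a b : H} (ha : Cen Q a) (hb : Cen Q b) : Cen Q (a * b) := by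
  intro y hy
  rw [mul_assoc, hb y hy, ← mul_assoc, ha y hy, mul_assoc]

theorem Cen.inv {Q : Subgroup H} {a : H} (ha : Cen Q a) : Cen Q a⁻¹ := by
  intro y hy
  have := ha y hy
  calc a⁻¹ * y = a⁻¹ * (y * a) * a⁻¹ := by group
    _ = a⁻¹ * (a * y) * a⁻¹ := by rw [this]
    _ = y * a⁻¹ := by group

theorem Cen.conj {B Q : Subgroup H} (hBQ : B ≤ Subgroup.normalizer (Q : Set H)) {b g : H}
    (hb : b ∈ B) (hg : Cen Q g) : Cen Q (b * g * b⁻¹) := by
  intro y hy
  have hy' : b⁻¹ * y * b ∈ Q := by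
    have := conj_mem_of_le_normalizer hBQ (B.inv_mem hb) hy
    rwa [inv_inv] at this
  have := hg _ hy'
  calc b * g * b⁻¹ * y = b * (g * (b⁻¹ * y * b)) * b⁻¹ := by group
    _ = b * ((b⁻¹ * y * b) * g) * b⁻¹ := by rw [this]
    _ = y * (b * g * b⁻¹) := by group

theorem comm_eq_of_central {u a b : H} (hua : u * a = a * u) (hub : u * b = b * u) :
    (u * a) * b * (u * a)⁻¹ * b⁻¹ = a * b * a⁻¹ * b⁻¹ := by
  have h1 : u * (a * b * a⁻¹) = (a * b * a⁻¹) * u := by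
    have hua' : Commute u a := hua
    have hub' : Commute u b := hub
    exact ((hua'.mul_right hub').mul_right hua'.inv_right).eq
  calc (u * a) * b * (u * a)⁻¹ * b⁻¹ = u * (a * b * a⁻¹) * u⁻¹ * b⁻¹ := by group
    _ = (a * b * a⁻¹) * u * u⁻¹ * b⁻¹ := by rw [h1]
    _ = a * b * a⁻¹ * b⁻¹ := by group

theorem comm_eq_of_central' {u a b : H} (hua : u * a = a * u) (hub : u * b = b * u) :
    a * (u * b) * a⁻¹ * (u * b)⁻¹ = a * b * a⁻¹ * b⁻¹ := by
  have hua' : Commute u a := hua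
  have hub' : Commute u b := hub
  have hc : Commute u (a * b * a⁻¹ * b⁻¹) :=
    ((hua'.mul_right hub').mul_right hua'.inv_right).mul_right hub'.inv_right
  calc a * (u * b) * a⁻¹ * (u * b)⁻¹ = (a * u) * b * a⁻¹ * b⁻¹ * u⁻¹ := by group
    _ = (u * a) * b * a⁻¹ * b⁻¹ * u⁻¹ := by rw [hua]
    _ = (u * (a * b * a⁻¹ * b⁻¹)) * u⁻¹ := by group
    _ = ((a * b * a⁻¹ * b⁻¹) * u) * u⁻¹ := by rw [hc.eq]
    _ = a * b * a⁻¹ * b⁻¹ := by group

/-- equality of the functionals `κ(g, ·)` and `κ(h, ·)` on `Q` -/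
def Eqv {F : Type v} (μ : H → F) (Q : Subgroup H) (g h : H) : Prop :=
  ∀ x ∈ Q, kap μ g x = kap μ h x

variable {F : Type v} [Field F] {V : Type w} [AddCommGroup V]
  [Module F V] {ρ : H →* Module.End F V} {B Q : Subgroup H} {z₀ : H} {μ : H → F} {v₀ : V}

namespace Wt

theorem neg_one_ne_one (t : Wt ρ B Q z₀ μ v₀) : (-1 : F) ≠ 1 := by
  intro h
  exact t.two_ne (by linear_combination (-1 : F) * h)

theorem eqv_of_central_mul (t : Wt ρ B Q z₀ μ v₀) {g h : H} (hg : g ∈ Q) (hh : h ∈ Q)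
    (hc : Cen Q (g * h)) : Eqv μ Q g h := by
  intro x hx
  have h1 := t.kap_central hx hc
  rw [t.kap_mul_left hg hh hx] at h1
  have h2 := t.kap_sq h x
  calc kap μ g x = kap μ g x * (kap μ h x * kap μ h x) := by rw [h2, mul_one]
    _ = (kap μ g x * kap μ h x) * kap μ h x := by ring
    _ = kap μ h x := by rw [h1, one_mul]

theorem eqv_conj (t : Wt ρ B Q z₀ μ v₀) {b g h : H} (hb : b ∈ B) (hg : g ∈ Q) (hh : h ∈ Q)
    (he : Eqv μ Q g h) : Eqv μ Q (b * g * b⁻¹) (b * h * b⁻¹) := by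
  intro x hx
  have hx' : b⁻¹ * x * b ∈ Q := by
    have := conj_mem_of_le_normalizer t.cfg.BQ (B.inv_mem hb) hx
    rwa [inv_inv] at this
  have e : b * (b⁻¹ * x * b) * b⁻¹ = x := by group
  have h1 := t.kap_conj_B hb hg hx'
  have h2 := t.kap_conj_B hb hh hx'
  rw [e] at h1 h2
  rw [h1, h2]
  exact he _ hx'

theorem cen_of_eqv_one [Finite H] (t : Wt ρ B Q z₀ μ v₀) {g : H} (hg : g ∈ Q)
    (he : Eqv μ Q g 1) : Cen Q g := by
  apply t.rad_central hg
  intro x hx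
  rw [he x hx, t.kap_one_left]

end Wt

end Cfsg.Agent.Helper1.HHD3
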