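import Mathlib
import Cfsg.Agent.Helper1.HHD3CfgE

set_option autoImplicit false

/-!
The minimal configuration in the `p = 3` case of `l_p ≤ d_p`: `Q / Z(Q)` is a line over `𝔽₄`.
-/

namespace Cfsg.Agent.Helper1.HHD3

open Module
open scoped commutatorElement

universe u v w

variable {H : Type u} [Group H] {F : Type v} [Field F] {V : Type w} [AddCommGroup V]
  [Module F V] {ρ : H →* Module.End F V} {B Q : Subgroup H} {z₀ : H} {μ : H → F} {v₀ : V}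

namespace Wt

theorem noncentral_conj (t : Wt ρ B Q z₀ μ v₀) {x : H} (hn : ¬ Cen Q x) :
    ¬ Cen Q (z₀ * x * z₀⁻¹) := by
  intro h
  apply hn
  have := Cen.conj t.cfg.BQ (B.inv_mem t.cfg.z₀B) h
  have e : z₀⁻¹ * (z₀ * x * z₀⁻¹) * z₀⁻¹⁻¹ = x := by group
  rwa [e] at this

theorem noncentral_conj' (t : Wt ρ B Q z₀ μ v₀) {x : H} (hn : ¬ Cen Q x) :
    ¬ Cen Q (z₀⁻¹ * x * z₀) := by
  intro h
  apply hn
  have := Cen.conj t.cfg.BQ t.cfg.z₀B h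
  have e : z₀ * (z₀⁻¹ * x * z₀) * z₀⁻¹ = x := by group
  rwa [e] at this

/-- no noncentral element is orthogonal to both nontrivial conjugates of a noncentral element -/
theorem no_orth [CharP F 3] [Finite H] [Finite V] [FiniteDimensional F V]
    (t : Wt ρ B Q z₀ μ v₀) {x₁ x₂ : H} (h1 : x₁ ∈ Q) (h2 : x₂ ∈ Q)
    (hn1 : ¬ Cen Q x₁) (hn2 : ¬ Cen Q x₂)
    (ha : kap μ x₂ (z₀ * x₁ * z₀⁻¹) = 1) (hb : kap μ x₂ (z₀⁻¹ * x₁ * z₀) = 1) : False := by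
  have h1' := t.cfg.z₀Q h1
  have h2' := t.cfg.z₀Q h2
  have h1'' := t.cfg.z₀Q' h1
  have k11 := t.kap_conj_neg h1 hn1
  have k22 := t.kap_conj_neg h2 hn2
  have k12 : kap μ x₁ (z₀ * x₂ * z₀⁻¹) = 1 := by
    have := t.kap_conj_z₀' h1 h2'
    have e : z₀⁻¹ * (z₀ * x₂ * z₀⁻¹) * z₀ = x₂ := by group
    rw [e] at this
    rw [← this, t.kap_symm h2 h1'']
    exact hb
  have hw : Cen Q (x₁ * x₂) := by
    by_contra hw
    have h3 := t.kap_conj_neg (Q.mul_mem h1 h2) hw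
    have e : z₀ * (x₁ * x₂) * z₀⁻¹ = (z₀ * x₁ * z₀⁻¹) * (z₀ * x₂ * z₀⁻¹) := by group
    rw [e, t.kap_mul_left h1 h2 (Q.mul_mem h1' h2'), t.kap_mul_right h1 h1' h2',
      t.kap_mul_right h2 h1' h2', k11, k12, ha, k22] at h3
    apply t.neg_one_ne_one
    linear_combination (-1 : F) * h3
  have h4 := t.kap_central h1' hw
  rw [t.kap_mul_left h1 h2 h1', k11, ha] at h4
  apply t.neg_one_ne_one
  linear_combination h4

theorem z₀_sq [CharP F 3] [Nontrivial V] (t : Wt ρ B Q z₀ μ v₀) : z₀ * z₀ = z₀⁻¹ := by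
  have h := t.cfg.z₀_pow_three
  apply eq_inv_of_mul_eq_one_left
  rw [← h]
  simp only [pow_succ, pow_zero, one_mul]

theorem z₀_inv_sq [CharP F 3] [Nontrivial V] (t : Wt ρ B Q z₀ μ v₀) : z₀⁻¹ * z₀⁻¹ = z₀ := by
  rw [← mul_inv_rev, t.z₀_sq, inv_inv]

/-- the three pairings of the conjugates of a noncentral element -/
theorem kap_triple [CharP F 3] [Finite H] [Finite V] [FiniteDimensional F V]
    (t : Wt ρ B Q z₀ μ v₀) {x₁ : H} (h1 : x₁ ∈ Q) (hn1 : ¬ Cen Q x₁) :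
    kap μ x₁ (z₀ * x₁ * z₀⁻¹) = -1 ∧ kap μ x₁ (z₀⁻¹ * x₁ * z₀) = -1 ∧
      kap μ (z₀ * x₁ * z₀⁻¹) (z₀⁻¹ * x₁ * z₀) = -1 := by
  haveI : Nontrivial V := ⟨⟨v₀, 0, t.v₀0⟩⟩
  refine ⟨t.kap_conj_neg h1 hn1, ?_, ?_⟩
  · have := t.kap_conj_neg (t.cfg.z₀Q' h1) (t.noncentral_conj' hn1)
    have e : z₀ * (z₀⁻¹ * x₁ * z₀) * z₀⁻¹ = x₁ := by group
    rw [e, t.kap_symm h1 (t.cfg.z₀Q' h1)] at this
    exact this
  · have := t.kap_conj_neg (t.cfg.z₀Q h1) (t.noncentral_conj hn1)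
    have e : z₀ * (z₀ * x₁ * z₀⁻¹) * z₀⁻¹ = z₀⁻¹ * x₁ * z₀ := by
      calc z₀ * (z₀ * x₁ * z₀⁻¹) * z₀⁻¹ = (z₀ * z₀) * x₁ * (z₀⁻¹ * z₀⁻¹) := by group
        _ = z₀⁻¹ * x₁ * z₀ := by rw [t.z₀_sq, t.z₀_inv_sq]
    rw [e] at this
    exact this

/-- every element of `Q` can be corrected to be orthogonal to both conjugates -/
theorem exists_orth [CharP F 3] [Finite H] [Finite V] [FiniteDimensional F V]
    (t : Wt ρ B Q z₀ μ v₀) {x₁ y : H} (h1 : x₁ ∈ Q) (hy : y ∈ Q) (hn1 : ¬ Cen Q x₁) :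
    ∃ d ∈ Q, (d = 1 ∨ d = x₁ ∨ d = z₀ * x₁ * z₀⁻¹ ∨ d = x₁ * (z₀ * x₁ * z₀⁻¹)) ∧
      kap μ (y * d) (z₀ * x₁ * z₀⁻¹) = 1 ∧ kap μ (y * d) (z₀⁻¹ * x₁ * z₀) = 1 := by
  obtain ⟨k12, k13, k23⟩ := t.kap_triple h1 hn1
  have h1' := t.cfg.z₀Q h1
  have h1'' := t.cfg.z₀Q' h1
  rcases t.kap_val y (z₀ * x₁ * z₀⁻¹) with ha | ha <;>
    rcases t.kap_val y (z₀⁻¹ * x₁ * z₀) with hb | hb
  · refine ⟨1, Q.one_mem, Or.inl rfl, ?_, ?_⟩
    · rw [mul_one]; exact ha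
    · rw [mul_one]; exact hb
  · refine ⟨z₀ * x₁ * z₀⁻¹, h1', Or.inr (Or.inr (Or.inl rfl)), ?_, ?_⟩
    · rw [t.kap_mul_left hy h1' h1', ha, t.kap_self]; ring
    · rw [t.kap_mul_left hy h1' h1'', hb, k23]; ring
  · refine ⟨x₁ * (z₀ * x₁ * z₀⁻¹), Q.mul_mem h1 h1', Or.inr (Or.inr (Or.inr rfl)), ?_, ?_⟩
    · rw [t.kap_mul_left hy (Q.mul_mem h1 h1') h1', ha, t.kap_mul_left h1 h1' h1', k12,
        t.kap_self]; ring
    · rw [t.kap_mul_left hy (Q.mul_mem h1 h1') h1'', hb, t.kap_mul_left h1 h1' h1'', k13, k23]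
      ring
  · refine ⟨x₁, h1, Or.inr (Or.inl rfl), ?_, ?_⟩
    · rw [t.kap_mul_left hy h1 h1', ha, k12]; ring
    · rw [t.kap_mul_left hy h1 h1'', hb, k13]; ring

/-- modulo the center, `Q` consists of `1` and the three conjugates of `x₁` -/
theorem span [CharP F 3] [Finite H] [Finite V] [FiniteDimensional F V]
    (t : Wt ρ B Q z₀ μ v₀) {x₁ : H} (h1 : x₁ ∈ Q) (hn1 : ¬ Cen Q x₁) :
    ∀ y ∈ Q, Eqv μ Q y 1 ∨ Eqv μ Q y x₁ ∨ Eqv μ Q y (z₀ * x₁ * z₀⁻¹) ∨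
      Eqv μ Q y (z₀⁻¹ * x₁ * z₀) := by
  obtain ⟨k12, k13, k23⟩ := t.kap_triple h1 hn1
  have h1' := t.cfg.z₀Q h1
  have h1'' := t.cfg.z₀Q' h1
  have hsp : ∀ y ∈ Q, Eqv μ Q y 1 ∨ Eqv μ Q y x₁ ∨ Eqv μ Q y (z₀ * x₁ * z₀⁻¹) ∨
      Eqv μ Q y (x₁ * (z₀ * x₁ * z₀⁻¹)) := by
    intro y hy
    obtain ⟨d, hd, hdd, ha, hb⟩ := t.exists_orth h1 hy hn1
    have hc : Cen Q (y * d) := by
      by_contra hc
      exact t.no_orth h1 (Q.mul_mem hy hd) hn1 hc ha hb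
    have he := t.eqv_of_central_mul hy hd hc
    rcases hdd with rfl | rfl | rfl | rfl
    · exact Or.inl he
    · exact Or.inr (Or.inl he)
    · exact Or.inr (Or.inr (Or.inl he))
    · exact Or.inr (Or.inr (Or.inr he))
  have hnorm : Eqv μ Q (z₀⁻¹ * x₁ * z₀) (x₁ * (z₀ * x₁ * z₀⁻¹)) := by
    rcases hsp _ h1'' with h | h | h | h
    · exfalso
      have := h x₁ h1
      rw [t.kap_symm h1 h1'', k13, t.kap_one_left] at this
      exact t.neg_one_ne_one this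
    · exfalso
      have := h x₁ h1
      rw [t.kap_symm h1 h1'', k13, t.kap_self] at this
      exact t.neg_one_ne_one this
    · exfalso
      have := h _ h1'
      rw [t.kap_symm h1' h1'', k23, t.kap_self] at this
      exact t.neg_one_ne_one this
    · exact h
  intro y hy
  rcases hsp y hy with h | h | h | h
  · exact Or.inl h
  · exact Or.inr (Or.inl h)
  · exact Or.inr (Or.inr (Or.inl h))
  · exact Or.inr (Or.inr (Or.inr (fun x hx => (h x hx).trans (hnorm x hx).symm)))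

end Wt

end Cfsg.Agent.Helper1.HHD3
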