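import Mathlib
import Cfsg.Agent.Helper1.HHD3CfgF

set_option autoImplicit false

/-!
The minimal configuration in the `p = 3` case of `l_p ≤ d_p`: the final contradiction.
-/

namespace Cfsg.Agent.Helper1.HHD3

open Module
open scoped commutatorElement

universe u v w

variable {H : Type u} [Group H] {F : Type v} [Field F] {V : Type w} [AddCommGroup V]
  [Module F V] {ρ : H →* Module.End F V} {B Q : Subgroup H} {z₀ : H} {μ : H → F} {v₀ : V}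

namespace Wt

/-- the minimal configuration with an invariant weight does not exist -/
theorem false_of_wt [CharP F 3] [Finite H] [Finite V] [FiniteDimensional F V]
    (t : Wt ρ B Q z₀ μ v₀) : False := by
  classical
  haveI : Nontrivial V := ⟨⟨v₀, 0, t.v₀0⟩⟩
  obtain ⟨x₁, h1, y₀, hy₀, hne⟩ := t.cfg.nonab
  have hn1 : ¬ Cen Q x₁ := fun h => hne (h y₀ hy₀)
  have hsp := t.span h1 hn1
  obtain ⟨k12, k13, k23⟩ := t.kap_triple h1 hn1
  have h1' := t.cfg.z₀Q h1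
  have h1'' := t.cfg.z₀Q' h1
  -- the kernel of the action on `Q / Z(Q)`
  obtain ⟨B₁, hB₁⟩ : ∃ B₁ : Subgroup H, ∀ b, b ∈ B₁ ↔ b ∈ B ∧ Eqv μ Q (b * x₁ * b⁻¹) x₁ := by
    refine ⟨{ carrier := {b | b ∈ B ∧ Eqv μ Q (b * x₁ * b⁻¹) x₁}
              mul_mem' := ?_
              one_mem' := ?_
              inv_mem' := ?_ }, fun b => Iff.rfl⟩
    · rintro a b ⟨ha, ha'⟩ ⟨hb, hb'⟩
      refine ⟨B.mul_mem ha hb, ?_⟩
      have h2 := t.eqv_conj ha (conj_mem_of_le_normalizer t.cfg.BQ hb h1) h1 hb'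
      have e : a * b * x₁ * (a * b)⁻¹ = a * (b * x₁ * b⁻¹) * a⁻¹ := by group
      show Eqv μ Q (a * b * x₁ * (a * b)⁻¹) x₁
      rw [e]
      exact fun x hx => (h2 x hx).trans (ha' x hx)
    · refine ⟨B.one_mem, ?_⟩
      have e : (1 : H) * x₁ * 1⁻¹ = x₁ := by group
      show Eqv μ Q ((1 : H) * x₁ * 1⁻¹) x₁
      rw [e]; exact fun x _ => rfl
    · rintro a ⟨ha, ha'⟩
      refine ⟨B.inv_mem ha, ?_⟩
      have h2 := t.eqv_conj (B.inv_mem ha) (conj_mem_of_le_normalizer t.cfg.BQ ha h1) h1 ha'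
      have e : a⁻¹ * (a * x₁ * a⁻¹) * a⁻¹⁻¹ = x₁ := by group
      rw [e] at h2
      exact fun x hx => (h2 x hx).symm
  have hcover : ∀ b ∈ B, ∃ u ∈ B, (∀ c ∈ B, u * c = c * u) ∧ u⁻¹ * b ∈ B₁ := by
    intro b hb
    have hyQ : b * x₁ * b⁻¹ ∈ Q := conj_mem_of_le_normalizer t.cfg.BQ hb h1
    rcases hsp _ hyQ with h | h | h | h
    · exfalso
      apply hn1
      have h2 := t.eqv_conj (B.inv_mem hb) hyQ Q.one_mem h
      have e1 : b⁻¹ * (b * x₁ * b⁻¹) * b⁻¹⁻¹ = x₁ := by group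
      have e2 : b⁻¹ * 1 * b⁻¹⁻¹ = 1 := by group
      rw [e1, e2] at h2
      exact t.cen_of_eqv_one h1 h2
    · refine ⟨1, B.one_mem, fun c _ => by rw [one_mul, mul_one], ?_⟩
      rw [inv_one, one_mul]
      exact (hB₁ b).2 ⟨hb, h⟩
    · refine ⟨z₀, t.cfg.z₀B, fun c hc => (t.cfg.z₀c c hc).symm, ?_⟩
      rw [hB₁]
      refine ⟨B.mul_mem (B.inv_mem t.cfg.z₀B) hb, ?_⟩
      have h2 := t.eqv_conj (B.inv_mem t.cfg.z₀B) hyQ h1' h
      have e1 : z₀⁻¹ * (b * x₁ * b⁻¹) * z₀⁻¹⁻¹ = z₀⁻¹ * b * x₁ * (z₀⁻¹ * b)⁻¹ := by group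
      have e2 : z₀⁻¹ * (z₀ * x₁ * z₀⁻¹) * z₀⁻¹⁻¹ = x₁ := by group
      rw [e1, e2] at h2
      exact h2
    · refine ⟨z₀⁻¹, B.inv_mem t.cfg.z₀B, fun c hc => ?_, ?_⟩
      · have hc' : Commute z₀ c := (t.cfg.z₀c c hc).symm
        exact hc'.inv_left.eq
      · rw [hB₁, inv_inv]
        refine ⟨B.mul_mem t.cfg.z₀B hb, ?_⟩
        have h2 := t.eqv_conj t.cfg.z₀B hyQ h1'' h
        have e1 : z₀ * (b * x₁ * b⁻¹) * z₀⁻¹ = z₀ * b * x₁ * (z₀ * b)⁻¹ := by group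
        have e2 : z₀ * (z₀⁻¹ * x₁ * z₀) * z₀⁻¹ = x₁ := by group
        rw [e1, e2] at h2
        exact h2
  have hcomm : ⁅B, B⁆ ≤ B₁ := by
    rw [Subgroup.commutator_le]
    intro b hb c hc
    obtain ⟨u, huB, hu, hub⟩ := hcover b hb
    obtain ⟨v, hvB, hv, hvc⟩ := hcover c hc
    rw [commutatorElement_def]
    have hb₁B : u⁻¹ * b ∈ B := B.mul_mem (B.inv_mem huB) hb
    have hc₁B : v⁻¹ * c ∈ B := B.mul_mem (B.inv_mem hvB) hc
    have e1 := comm_eq_of_central (u := u) (a := u⁻¹ * b) (b := c) (hu _ hb₁B) (hu c hc)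
    rw [mul_inv_cancel_left] at e1
    have e2 := comm_eq_of_central' (u := v) (a := u⁻¹ * b) (b := v⁻¹ * c) (hv _ hb₁B)
      (hv _ hc₁B)
    rw [mul_inv_cancel_left] at e2
    rw [e1, e2]
    exact B₁.mul_mem (B₁.mul_mem (B₁.mul_mem hub hvc) (B₁.inv_mem hub)) (B₁.inv_mem hvc)
  have hz₀ := ((hB₁ z₀).1 (hcomm t.cfg.z₀A)).2
  have := hz₀ x₁ h1
  rw [t.kap_symm h1 h1', k12, t.kap_self] at this
  exact t.neg_one_ne_one this

end Wt

end Cfsg.Agent.Helper1.HHD3
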