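import Mathlib
import Cfsg.Agent.Helper1.HHD3Grp

set_option autoImplicit false

/-!
`l_p ≤ d_p`: the derived series of a subgroup inside the ambient group, and the Frattini module
computations.
-/

namespace Cfsg.Agent.Helper1.HHD3

open Module
open scoped commutatorElement

universe u v

variable {G : Type u} [Group G]

/-- the derived series of a subgroup, inside the ambient group -/
def der (S : Subgroup G) : ℕ → Subgroup G
  | 0 => S
  | (k + 1) => ⁅der S k, der S k⁆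

theorem der_zero (S : Subgroup G) : der S 0 = S := rfl

theorem der_succ (S : Subgroup G) (k : ℕ) : der S (k + 1) = ⁅der S k, der S k⁆ := rfl

theorem der_eq_map (S : Subgroup G) (k : ℕ) : (derivedSeries ↥S k).map S.subtype = der S k := by
  induction k with
  | zero => rw [derivedSeries_zero, der_zero, ← MonoidHom.range_eq_map, Subgroup.range_subtype]
  | succ k ih => rw [derivedSeries_succ, Subgroup.map_commutator, ih, der_succ]

theorem der_map {G' : Type v} [Group G'] (f : G →* G') (S : Subgroup G) (k : ℕ) :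
    (der S k).map f = der (S.map f) k := by
  induction k with
  | zero => rfl
  | succ k ih => rw [der_succ, Subgroup.map_commutator, ih, der_succ]

theorem der_le (S : Subgroup G) (k : ℕ) : der S k ≤ S := by
  induction k with
  | zero => exact le_rfl
  | succ k ih => rw [der_succ]; exact (Subgroup.commutator_le_self _).trans ih

theorem der_normal (S : Subgroup G) (k : ℕ) : S ≤ Subgroup.normalizer (der S k : Set G) := by
  induction k with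
  | zero => exact Subgroup.le_normalizer
  | succ k ih => rw [der_succ]; exact le_normalizer_commutator ih ih

theorem der_eq_bot_iff (S : Subgroup G) (k : ℕ) : derivedSeries ↥S k = ⊥ ↔ der S k = ⊥ := by
  rw [← der_eq_map]
  exact (Subgroup.map_eq_bot_iff_of_injective _ S.subtype_injective).symm

/-- Sylow `p`-subgroups have derived length at most `d` -/
def DerLE (p d : ℕ) (G : Type u) [Group G] : Prop :=
  ∀ S : Sylow p G, der (S : Subgroup G) d = ⊥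

theorem derLE_of_surjective [Finite G] {H : Type u} [Group H] {p : ℕ} [Fact p.Prime] {d : ℕ}
    (f : G →* H) (hf : Function.Surjective f) (h : DerLE p d G) : DerLE p d H := by
  intro S'
  obtain ⟨S, rfl⟩ := Sylow.mapSurjective_surjective hf p S'
  rw [Sylow.coe_mapSurjective, ← der_map, h S, Subgroup.map_bot]

section FrattiniModule

variable {p : ℕ} [Fact p.Prime] (P : Subgroup G) [hPn : P.Normal] {V : Type u} [AddCommGroup V]
  [Module (ZMod p) V] (θ₀ : ↥P →* Multiplicative V) (ρ₀ : G →* Module.End (ZMod p) V)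

theorem sub_one_apply
    (hequiv : ∀ (g : G) (u : ↥P), ρ₀ g (Multiplicative.toAdd (θ₀ u)) =
      Multiplicative.toAdd (θ₀ ⟨g * u * g⁻¹, hPn.conj_mem u u.2 g⟩))
    (g : G) (u : ↥P) (hc : g * u * g⁻¹ * (u : G)⁻¹ ∈ P) :
    (ρ₀ g - 1) (Multiplicative.toAdd (θ₀ u)) =
      Multiplicative.toAdd (θ₀ ⟨g * u * g⁻¹ * (u : G)⁻¹, hc⟩) := by
  rw [LinearMap.sub_apply, Module.End.one_apply, hequiv, ← toAdd_div, ← map_div]
  congr 2
  apply Subtype.ext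
  rw [div_eq_mul_inv]
  rfl

theorem comm_mem_normal (g : G) (u : ↥P) : g * u * g⁻¹ * (u : G)⁻¹ ∈ P :=
  P.mul_mem (hPn.conj_mem u u.2 g) (P.inv_mem u.2)

theorem prod_two_eq_zero (hθ : Function.Surjective θ₀)
    (hequiv : ∀ (g : G) (u : ↥P), ρ₀ g (Multiplicative.toAdd (θ₀ u)) =
      Multiplicative.toAdd (θ₀ ⟨g * u * g⁻¹, hPn.conj_mem u u.2 g⟩))
    (g₁ g₂ : G)
    (h : ∀ u ∈ P, g₁ * (g₂ * u * g₂⁻¹ * u⁻¹) * g₁⁻¹ * (g₂ * u * g₂⁻¹ * u⁻¹)⁻¹ = 1) :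
    (ρ₀ g₁ - 1) * (ρ₀ g₂ - 1) = 0 := by
  apply LinearMap.ext
  intro w
  obtain ⟨u, hu⟩ := hθ (Multiplicative.ofAdd w)
  have hw : w = Multiplicative.toAdd (θ₀ u) := by rw [hu]; rfl
  rw [hw, Module.End.mul_apply, sub_one_apply P θ₀ ρ₀ hequiv g₂ u (comm_mem_normal P g₂ u),
    sub_one_apply P θ₀ ρ₀ hequiv g₁ _ (comm_mem_normal P g₁ _), LinearMap.zero_apply]
  have e : (⟨g₁ * (g₂ * u * g₂⁻¹ * (u : G)⁻¹) * g₁⁻¹ * (g₂ * u * g₂⁻¹ * (u : G)⁻¹)⁻¹,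
      comm_mem_normal P g₁ ⟨_, comm_mem_normal P g₂ u⟩⟩ : ↥P) = 1 :=
    Subtype.ext (h u u.2)
  rw [e, map_one]
  rfl

theorem prod_three_eq_zero (hθ : Function.Surjective θ₀)
    (hequiv : ∀ (g : G) (u : ↥P), ρ₀ g (Multiplicative.toAdd (θ₀ u)) =
      Multiplicative.toAdd (θ₀ ⟨g * u * g⁻¹, hPn.conj_mem u u.2 g⟩))
    (g₁ g₂ g₃ : G)
    (h : ∀ u ∈ P, g₁ * (g₂ * (g₃ * u * g₃⁻¹ * u⁻¹) * g₂⁻¹ * (g₃ * u * g₃⁻¹ * u⁻¹)⁻¹) * g₁⁻¹ *
      (g₂ * (g₃ * u * g₃⁻¹ * u⁻¹) * g₂⁻¹ * (g₃ * u * g₃⁻¹ * u⁻¹)⁻¹)⁻¹ = 1) :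
    (ρ₀ g₁ - 1) * (ρ₀ g₂ - 1) * (ρ₀ g₃ - 1) = 0 := by
  apply LinearMap.ext
  intro w
  obtain ⟨u, hu⟩ := hθ (Multiplicative.ofAdd w)
  have hw : w = Multiplicative.toAdd (θ₀ u) := by rw [hu]; rfl
  rw [hw, Module.End.mul_apply, Module.End.mul_apply,
    sub_one_apply P θ₀ ρ₀ hequiv g₃ u (comm_mem_normal P g₃ u),
    sub_one_apply P θ₀ ρ₀ hequiv g₂ _ (comm_mem_normal P g₂ _),
    sub_one_apply P θ₀ ρ₀ hequiv g₁ _ (comm_mem_normal P g₁ _), LinearMap.zero_apply]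
  have e : (⟨g₁ * (g₂ * (g₃ * u * g₃⁻¹ * (u : G)⁻¹) * g₂⁻¹ * (g₃ * u * g₃⁻¹ * (u : G)⁻¹)⁻¹) * g₁⁻¹ *
      (g₂ * (g₃ * u * g₃⁻¹ * (u : G)⁻¹) * g₂⁻¹ * (g₃ * u * g₃⁻¹ * (u : G)⁻¹)⁻¹)⁻¹,
      comm_mem_normal P g₁ ⟨_, comm_mem_normal P g₂ ⟨_, comm_mem_normal P g₃ u⟩⟩⟩ : ↥P) = 1 :=
    Subtype.ext (h u u.2)
  rw [e, map_one]
  rfl

end FrattiniModule

end Cfsg.Agent.Helper1.HHD3
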