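import Mathlib
import Cfsg.Agent.Helper1.HHD3CfgG
import Cfsg.Agent.Helper1.HallHigmanDual
import Cfsg.Agent.Helper3.HHAbB

set_option autoImplicit false

/-!
The `p = 3` case of `l_p ≤ d_p`: a `3`-subgroup `B` of a `3`-solvable group `H` with `O_3(H) = 1`
acting faithfully in characteristic `3` such that `⁅B, B⁆` acts quadratically and
`(a - 1)(b - 1)(b' - 1) = 0` for `a ∈ ⁅B, B⁆`, `b, b' ∈ B` is abelian.
-/

namespace Cfsg.Agent.Helper1.HHD3

open Module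
open scoped commutatorElement

universe u v w

/-- a nontrivial normal subgroup of a finite `p`-group meets the centre nontrivially -/
theorem normal_inf_center_ne_bot3 {Q : Type*} [Group Q] [Finite Q] {p : ℕ} [hp : Fact p.Prime]
    (hQ : IsPGroup p Q) (M : Subgroup Q) [hM : M.Normal] (hMne : M ≠ ⊥) :
    ∃ b ∈ M, b ≠ 1 ∧ ∀ g : Q, g * b = b * g := by
  have hQ' : IsPGroup p (ConjAct Q) := hQ
  have hcard : p ∣ Nat.card M := by
    obtain ⟨k, hk⟩ := (hQ.to_subgroup M).exists_card_eq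
    have hk0 : k ≠ 0 := by
      rintro rfl
      rw [pow_zero] at hk
      exact hMne (Subgroup.card_eq_one.1 hk)
    rw [hk]
    exact dvd_pow_self p hk0
  have h1 : (1 : M) ∈ MulAction.fixedPoints (ConjAct Q) M := by
    intro g
    exact smul_one g
  obtain ⟨b, hb, hne⟩ := hQ'.exists_fixed_point_of_prime_dvd_card_of_fixed_point M hcard h1
  refine ⟨(b : Q), b.2, ?_, ?_⟩
  · intro h
    apply hne
    exact (Subtype.ext h).symm
  · intro g
    have h2 := hb (ConjAct.toConjAct g)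
    have h3 := congrArg Subtype.val h2
    rw [ConjAct.Subgroup.val_conj_smul, ConjAct.smul_def, ConjAct.ofConjAct_toConjAct] at h3
    calc g * b = g * b * g⁻¹ * g := by group
      _ = b * g := by rw [h3]

theorem pow_three_of_quad {H : Type u} [Group H] {F : Type v} [Field F] [CharP F 3]
    {V : Type w} [AddCommGroup V] [Module F V] (ρ : H →* Module.End F V)
    (hfaith : ∀ h : H, ρ h = 1 → h = 1) (z : H) (hq : (ρ z - 1) ^ 2 = 0) : z ^ 3 = 1 := by
  haveI : Fact (Nat.Prime 3) := ⟨Nat.prime_three⟩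
  apply hfaith
  by_cases hV : Subsingleton V
  · haveI := hV
    exact Subsingleton.elim _ _
  · haveI : Nontrivial V := not_subsingleton_iff_nontrivial.1 hV
    haveI : CharP (Module.End F V) 3 :=
      charP_of_injective_algebraMap (algebraMap F (Module.End F V)).injective 3
    have h1 : (ρ z - 1) ^ 3 = 0 := by
      rw [pow_succ, hq, zero_mul]
    have h2 : (ρ z - 1) ^ 3 = ρ z ^ 3 - 1 := by
      have := sub_pow_char_of_commute (R := Module.End F V) (p := 3) (Commute.one_right (ρ z))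
      rw [one_pow] at this
      exact this
    rw [h2, sub_eq_zero] at h1
    rw [map_pow, h1]

/-- an element of order `3` acting quadratically in characteristic `3` acts nontrivially only on
nonabelian `2`-groups -/
theorem nonab_of_quad {H : Type u} [Group H] [Finite H] {F : Type v} [Field F] [CharP F 3]
    {V : Type w} [AddCommGroup V] [Module F V] [FiniteDimensional F V]
    (ρ : H →* Module.End F V) (hfaith : ∀ h : H, ρ h = 1 → h = 1)
    (z₀ : H) (hz3 : z₀ ^ 3 = 1) (hquad : (ρ z₀ - 1) ^ 2 = 0)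
    (Q₁ : Subgroup H) (q : ℕ) (hq : q.Prime) (hq3 : q ≠ 3) (hQ₁ : IsPGroup q Q₁)
    (hinv : ∀ g ∈ Q₁, z₀ * g * z₀⁻¹ ∈ Q₁) (hnc : ∃ g ∈ Q₁, z₀ * g * z₀⁻¹ ≠ g) :
    q = 2 ∧ ∃ g ∈ Q₁, ∃ h ∈ Q₁, g * h ≠ h * g := by
  haveI : Fact (Nat.Prime 3) := ⟨Nat.prime_three⟩
  have hmain := Cfsg.Agent.Helper3.Shult.hh_linear 3 ρ Q₁ q hq hq3 hQ₁ z₀ 1 le_rfl
    (by rw [pow_one]; exact hz3) hinv (fun g _ => hfaith g)
    (by
      obtain ⟨g, hg, hne⟩ := hnc
      refine ⟨g, hg, ?_⟩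
      rw [Nat.sub_self, pow_zero, pow_one]
      exact hne) 2 hquad
  rcases hmain with h | ⟨n₀, m, h1, h2, h3, h4, hnab, -⟩
  · norm_num at h
  · have hn₀ : n₀ = 1 := le_antisymm h2 h1
    subst hn₀
    have h5 : q ^ m = 2 := by rw [← h4]; norm_num
    have hq2 : q ∣ 2 := by
      rw [← h5]; exact dvd_pow_self q (by omega)
    exact ⟨(Nat.prime_dvd_prime_iff_eq hq Nat.prime_two).1 hq2, hnab⟩

set_option maxHeartbeats 1000000 in
/-- the `p = 3` case -/
theorem comm_eq_bot_three {H : Type u} [Group H] [Finite H] {F : Type v} [Field F] [CharP F 3]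
    {V : Type w} [AddCommGroup V] [Module F V] [Finite V] [FiniteDimensional F V]
    (ρ : H →* Module.End F V) (hfaith : ∀ h : H, ρ h = 1 → h = 1)
    (hsol : Cfsg.IsPSolvable 3 H) (hO : Cfsg.pCore 3 H = ⊥)
    (B : Subgroup H) (hB : IsPGroup 3 B)
    (hquad : ∀ a ∈ ⁅B, B⁆, (ρ a - 1) ^ 2 = 0)
    (hcubic : ∀ a ∈ ⁅B, B⁆, ∀ b ∈ B, ∀ b' ∈ B, (ρ a - 1) * (ρ b - 1) * (ρ b' - 1) = 0) :
    ⁅B, B⁆ = ⊥ := by
  classical
  haveI : Fact (Nat.Prime 3) := ⟨Nat.prime_three⟩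
  by_contra hne
  -- a central element of `B` in `⁅B, B⁆`
  have hM : commutator ↥B ≠ ⊥ := by
    intro h
    apply hne
    rw [← Subgroup.map_subtype_commutator, h, Subgroup.map_bot]
  obtain ⟨b, hbM, hb1, hbc⟩ := normal_inf_center_ne_bot3 (p := 3) hB (commutator ↥B) hM
  obtain ⟨z₀, hz₀⟩ : ∃ z₀ : H, z₀ = (b : H) := ⟨_, rfl⟩
  have hz₀B : z₀ ∈ B := by rw [hz₀]; exact b.2
  have hz₀A : z₀ ∈ ⁅B, B⁆ := by
    rw [← Subgroup.map_subtype_commutator, hz₀]
    exact ⟨b, hbM, rfl⟩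
  have hz₀1 : z₀ ≠ 1 := by
    rw [hz₀]
    intro h
    exact hb1 (Subtype.ext h)
  have hz₀c : ∀ g ∈ B, g * z₀ = z₀ * g := by
    intro g hg
    rw [hz₀]
    exact congrArg Subtype.val (hbc ⟨g, hg⟩)
  have hz3 : z₀ ^ 3 = 1 := pow_three_of_quad ρ hfaith z₀ (hquad z₀ hz₀A)
  have hord : orderOf z₀ = 3 := orderOf_eq_prime hz3 hz₀1
  -- the `3'`-core
  obtain ⟨N, hNdef⟩ : ∃ N : Subgroup H, N = Cfsg.pPrimeCore 3 H := ⟨_, rfl⟩
  haveI hNn : N.Normal := by rw [hNdef]; exact pPrimeCore_normal 3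
  have hNcop : (Nat.card N).Coprime 3 := by rw [hNdef]; exact card_pPrimeCore_coprime 3
  have hCN : Subgroup.centralizer (N : Set H) ≤ N := by
    rw [hNdef]; exact centralizer_pPrimeCore_le_of_isPSolvable hsol hO
  have h3N : ¬ 3 ∣ Nat.card N := by
    intro h
    have := Nat.Coprime.eq_one_of_dvd hNcop.symm h
    omega
  have hz₀N : z₀ ∉ N := by
    intro h
    apply h3N
    rw [← hord]
    have := orderOf_dvd_natCard (⟨z₀, h⟩ : ↥N)
    rwa [Subgroup.orderOf_mk] at this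
  have hBN : B ≤ Subgroup.normalizer (N : Set H) := by
    rw [Subgroup.normalizer_eq_top_iff.2 hNn]; exact le_top
  have hcopBN : (Nat.card B).Coprime (Nat.card N) := by
    obtain ⟨k, hk⟩ := IsPGroup.iff_card.1 hB
    rw [hk]
    exact Nat.Coprime.pow_left k hNcop.symm
  haveI hBnil : Group.IsNilpotent ↥B := hB.isNilpotent
  have hBsolv : Group.IsSolvable ↥B := inferInstance
  have hex : ∃ (q : ℕ) (_ : Fact q.Prime) (Q : Sylow q N),
      B ≤ Subgroup.normalizer ((Q : Subgroup N).map N.subtype : Set H) ∧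
      ¬ (Q : Subgroup N).map N.subtype ≤ Subgroup.centralizer {z₀} := by
    by_contra hcon
    push Not at hcon
    have h1 := Cfsg.Agent.Helper3.HHAb.le_centralizer_of_invariant_sylow N B hBN hcopBN hBsolv z₀
      (fun q _ Q hQ => hcon q inferInstance Q hQ)
    apply hz₀N
    apply hCN
    rw [Subgroup.mem_centralizer_iff]
    intro w hw
    have := h1 hw
    rw [Subgroup.mem_centralizer_iff] at this
    exact (this z₀ (Set.mem_singleton z₀)).symm
  obtain ⟨q, hqF, Q₀, hQB, hQz⟩ := hex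
  obtain ⟨N₂, hN₂def⟩ : ∃ N₂ : Subgroup H, N₂ = (Q₀ : Subgroup N).map N.subtype := ⟨_, rfl⟩
  rw [← hN₂def] at hQB hQz
  have hN₂N : N₂ ≤ N := by rw [hN₂def]; exact Subgroup.map_subtype_le _
  have hN₂q : IsPGroup q N₂ := by rw [hN₂def]; exact Q₀.isPGroup'.map _
  have hnc : ∃ g ∈ N₂, z₀ * g * z₀⁻¹ ≠ g := by
    by_contra hcon
    push Not at hcon
    apply hQz
    intro g hg
    rw [Subgroup.mem_centralizer_iff]
    intro z hz
    rw [Set.mem_singleton_iff] at hz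
    subst hz
    have := hcon g hg
    rw [mul_inv_eq_iff_eq_mul] at this
    exact this
  have hinv : ∀ g ∈ N₂, z₀ * g * z₀⁻¹ ∈ N₂ := fun g hg =>
    conj_mem_of_le_normalizer hQB hz₀B hg
  have hq3 : q ≠ 3 := by
    rintro rfl
    obtain ⟨g, hg, hgne⟩ := hnc
    apply hgne
    have hg1 : g = 1 := by
      obtain ⟨k, hk⟩ := hN₂q ⟨g, hg⟩
      have hk' : g ^ 3 ^ k = 1 := by
        have := congrArg Subtype.val hk
        rw [Subgroup.coe_pow] at this
        exact this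
      have h1 : orderOf g ∣ 3 ^ k := orderOf_dvd_of_pow_eq_one hk'
      have h2 : orderOf g ∣ Nat.card N := by
        have := orderOf_dvd_natCard (⟨g, hN₂N hg⟩ : ↥N)
        rwa [Subgroup.orderOf_mk] at this
      have h3 : orderOf g ∣ Nat.gcd (3 ^ k) (Nat.card N) := Nat.dvd_gcd h1 h2
      have h4 : Nat.gcd (3 ^ k) (Nat.card N) = 1 := Nat.Coprime.pow_left k hNcop.symm
      rw [h4, Nat.dvd_one] at h3
      exact orderOf_eq_one_iff.1 h3
    rw [hg1]; group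
  obtain ⟨hq2, -⟩ := nonab_of_quad ρ hfaith z₀ hz3 (hquad z₀ hz₀A) N₂ q hqF.out hq3 hN₂q hinv hnc
  subst hq2
  -- the minimal configuration
  have hnc' : ∃ x ∈ N₂, z₀ * x ≠ x * z₀ := by
    obtain ⟨g, hg, hgne⟩ := hnc
    refine ⟨g, hg, fun h => hgne ?_⟩
    rw [mul_inv_eq_iff_eq_mul]
    exact h
  have hEA : ∀ A₁ : Subgroup H, A₁ ≤ N₂ → (∀ x ∈ A₁, z₀ * x * z₀⁻¹ ∈ A₁) →
      (∀ x ∈ A₁, ∀ y ∈ A₁, x * y = y * x) → ∀ x ∈ A₁, z₀ * x = x * z₀ := by
    intro A₁ hA₁ hA₁inv hA₁ab x hx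
    by_contra hxne
    obtain ⟨-, g, hg, h, hh, hgh⟩ := nonab_of_quad ρ hfaith z₀ hz3 (hquad z₀ hz₀A) A₁ 2
      Nat.prime_two (by decide) (hN₂q.to_le hA₁) hA₁inv
      ⟨x, hx, fun h => hxne (by rw [mul_inv_eq_iff_eq_mul] at h; exact h)⟩
    exact hgh (hA₁ab g hg h hh)
  obtain ⟨Q, hQN, hBQ, hgen, hcen, hcomm, hsq, hnonab, hmin⟩ :=
    exists_min_config B N₂ z₀ hB hz₀B hz₀c hN₂q hQB hnc' hEA
  have cfg : Cfg ρ B Q z₀ :=
    ⟨hfaith, hz₀B, hz₀c, hz₀A, hquad z₀ hz₀A, hcubic z₀ hz₀A, hN₂q.to_le hQN, hBQ, hgen, hcen,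
      hcomm, hsq, hnonab, hmin⟩
  obtain ⟨μ, v₀, hv₀, hval, heig, hmul, hneg, hinv'⟩ := cfg.exists_weight
  have wt : Wt ρ B Q z₀ μ v₀ := ⟨cfg, Cfg.two_ne_zero', hv₀, hval, heig, hmul, hneg, hinv'⟩
  exact wt.false_of_wt

end Cfsg.Agent.Helper1.HHD3
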