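import Mathlib
import Cfsg.Agent.Helper1.HHD3Main
import Cfsg.Agent.Helper3.ShHHBabs

set_option autoImplicit false

/-!
`l_p ≤ d_p`: the abstract quadratic-action theorem for all odd primes.
-/

namespace Cfsg.Agent.Helper1.HHD3

open Module
open scoped commutatorElement

universe u v w

/-- for `p ≥ 5` no nontrivial `p`-element acts quadratically -/
theorem eq_one_of_quad_five {H : Type u} [Group H] [Finite H] {p : ℕ} [hp : Fact p.Prime]
    (hp5 : 5 ≤ p) {F : Type v} [Field F] [CharP F p]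
    {V : Type w} [AddCommGroup V] [Module F V] [FiniteDimensional F V]
    (ρ : H →* Module.End F V) (hfaith : ∀ h : H, ρ h = 1 → h = 1)
    (hsol : Cfsg.IsPSolvable p H) (hO : Cfsg.pCore p H = ⊥)
    (a : H) (ha : ∃ k : ℕ, a ^ p ^ k = 1) (hquad : (ρ a - 1) ^ 2 = 0) : a = 1 := by
  classical
  by_contra hne
  obtain ⟨n, hn⟩ : ∃ n, n = Nat.find ha := ⟨_, rfl⟩
  have hn1 : a ^ p ^ n = 1 := by rw [hn]; exact Nat.find_spec ha
  have hn0 : 1 ≤ n := by
    rcases Nat.eq_zero_or_pos n with h | h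
    · exfalso
      rw [h, pow_zero, pow_one] at hn1
      exact hne hn1
    · exact h
  have hmin : a ^ p ^ (n - 1) ≠ 1 := by
    have : n - 1 < Nat.find ha := by rw [← hn]; omega
    exact Nat.find_min ha this
  have hB := Cfsg.Agent.Helper3.Shult.hh_B_abs p hsol hO ρ (fun g _ => hfaith g) a n hn0 hn1 hmin 2
    hquad
  have hpn : p ≤ p ^ n := by
    calc p = p ^ 1 := (pow_one p).symm
      _ ≤ p ^ n := Nat.pow_le_pow_right hp.out.pos hn0
  rcases hB with h | ⟨n₀, q, m, h1, h2, -, -, -, -, -, h3⟩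
  · omega
  · have h4 : p ≤ p ^ n₀ := by
      calc p = p ^ 1 := (pow_one p).symm
        _ ≤ p ^ n₀ := Nat.pow_le_pow_right hp.out.pos h1
    have h5 : 1 ≤ p ^ (n - n₀) := Nat.one_le_pow _ _ hp.out.pos
    have h6 : 4 ≤ p ^ n₀ - 1 := by omega
    have h7 : 1 * 4 ≤ p ^ (n - n₀) * (p ^ n₀ - 1) := Nat.mul_le_mul h5 h6
    omega

/-- the abstract theorem for odd `p` -/
theorem comm_eq_bot_odd {H : Type u} [Group H] [Finite H] {p : ℕ} [hp : Fact p.Prime]
    (hp2 : p ≠ 2) {F : Type v} [Field F] [CharP F p]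
    {V : Type w} [AddCommGroup V] [Module F V] [Finite V] [FiniteDimensional F V]
    (ρ : H →* Module.End F V) (hfaith : ∀ h : H, ρ h = 1 → h = 1)
    (hsol : Cfsg.IsPSolvable p H) (hO : Cfsg.pCore p H = ⊥)
    (B : Subgroup H) (hB : IsPGroup p B)
    (hquad : ∀ a ∈ ⁅B, B⁆, (ρ a - 1) ^ 2 = 0)
    (hcubic : ∀ a ∈ ⁅B, B⁆, ∀ b ∈ B, ∀ b' ∈ B, (ρ a - 1) * (ρ b - 1) * (ρ b' - 1) = 0) :
    ⁅B, B⁆ = ⊥ := by
  by_cases hp3 : p = 3
  · subst hp3
    exact comm_eq_bot_three ρ hfaith hsol hO B hB hquad hcubic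
  · have hp5 : 5 ≤ p := by
      have h2 := hp.out.two_le
      rcases Nat.lt_or_ge p 5 with h | h
      · exfalso
        have : p = 4 := by omega
        rw [this] at hp
        exact absurd hp.out (by decide)
      · exact h
    rw [eq_bot_iff]
    intro a ha
    rw [Subgroup.mem_bot]
    have haB : a ∈ B := Subgroup.commutator_le_self B ha
    apply eq_one_of_quad_five hp5 ρ hfaith hsol hO a _ (hquad a ha)
    obtain ⟨k, hk⟩ := hB ⟨a, haB⟩
    refine ⟨k, ?_⟩
    have := congrArg Subtype.val hk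
    rw [Subgroup.coe_pow] at this
    exact this

end Cfsg.Agent.Helper1.HHD3
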