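import Mathlib
import Cfsg.Agent.Helper1.HHD3Odd
import Cfsg.Agent.Helper1.HHD3Der
import Cfsg.Agent.Helper3.FrMod

set_option autoImplicit false

/-!
Hall–Higman: `l_p ≤ d_p` for odd `p`, where `d_p` is the derived length of a Sylow `p`-subgroup.
-/

namespace Cfsg.Agent.Helper1.HHD3

open Module
open Cfsg.Agent.Helper3.PLen Cfsg.Agent.Helper3.HHAb
open scoped commutatorElement

universe u

set_option maxHeartbeats 1000000 in
/-- the faithful representation of `G / O_p(G)` on the Frattini quotient of `O_p(G)` -/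
theorem exists_faithful_frattini_rep {G : Type u} [Group G] [Finite G] {p : ℕ}
    [hp : Fact p.Prime] (hG : Cfsg.IsPSolvable p G) (hO : Cfsg.pPrimeCore p G = ⊥)
    [hPn : (Cfsg.pCore p G).Normal] :
    ∃ (V : Type u) (_ : AddCommGroup V) (_ : Module (ZMod p) V) (_ : Finite V)
      (θ₀ : ↥(Cfsg.pCore p G) →* Multiplicative V) (ρ₀ : G →* Module.End (ZMod p) V)
      (ρb : G ⧸ Cfsg.pCore p G →* Module.End (ZMod p) V),
      Function.Surjective θ₀ ∧
      (∀ (g : G) (u : ↥(Cfsg.pCore p G)), ρ₀ g (Multiplicative.toAdd (θ₀ u)) =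
        Multiplicative.toAdd (θ₀ ⟨g * u * g⁻¹, hPn.conj_mem u u.2 g⟩)) ∧
      (∀ g : G, ρb (QuotientGroup.mk g) = ρ₀ g) ∧
      (∀ g : G ⧸ Cfsg.pCore p G, ρb g = 1 → g = 1) := by
  classical
  have hPp : IsPGroup p (Cfsg.pCore p G) := Cfsg.Agent.Helper4.pCore_isPGroup
  obtain ⟨V, instV, instM, instF, θ₀, ρ₀, hθsurj, hθker, hequiv⟩ :=
    Cfsg.Agent.Helper3.Wr.exists_frattini_module p (Cfsg.pCore p G) hPp
  have htriv : ∀ u ∈ Cfsg.pCore p G, ρ₀ u = 1 := by
    intro u hu
    apply LinearMap.ext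
    intro w
    obtain ⟨u', hu'⟩ := hθsurj (Multiplicative.ofAdd w)
    have hw : w = Multiplicative.toAdd (θ₀ u') := by rw [hu']; rfl
    rw [hw, hequiv, Module.End.one_apply]
    congr 1
    have hmem : u * (u' : G) * u⁻¹ ∈ Cfsg.pCore p G := hPn.conj_mem _ u'.2 u
    have e1 : (⟨u * u' * u⁻¹, hmem⟩ : ↥(Cfsg.pCore p G)) = ⟨u, hu⟩ * u' * ⟨u, hu⟩⁻¹ :=
      Subtype.ext (by simp)
    rw [e1, map_mul, map_mul, map_inv, mul_comm (θ₀ ⟨u, hu⟩), mul_assoc, mul_inv_cancel,
      mul_one]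
  obtain ⟨ρb, hρb⟩ : ∃ ρb : G ⧸ Cfsg.pCore p G →* Module.End (ZMod p) V,
      ∀ g : G, ρb (QuotientGroup.mk g) = ρ₀ g :=
    ⟨QuotientGroup.lift (Cfsg.pCore p G) ρ₀ htriv, fun g => QuotientGroup.lift_mk _ _ g⟩
  refine ⟨V, instV, instM, instF, θ₀, ρ₀, ρb, hθsurj, hequiv, hρb, ?_⟩
  intro g hg
  obtain ⟨g, rfl⟩ := QuotientGroup.mk_surjective g
  rw [hρb] at hg
  rw [QuotientGroup.eq_one_iff]
  apply Cfsg.Agent.Helper4.mem_pCore_of_commutator_mem_frattini hG hO g
  intro k hk
  have h1 := hequiv g ⟨k, hk⟩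
  rw [hg, Module.End.one_apply] at h1
  have hmem : g * k * g⁻¹ ∈ Cfsg.pCore p G := hPn.conj_mem k hk g
  have h2 : θ₀ ⟨g * k * g⁻¹, hmem⟩ = θ₀ ⟨k, hk⟩ := (congrArg Multiplicative.ofAdd h1).symm
  have h3 : θ₀ (⟨g * k * g⁻¹, hmem⟩ * ⟨k, hk⟩⁻¹) = 1 := by
    rw [map_mul, map_inv, h2, mul_inv_cancel]
  rw [hθker] at h3
  exact ⟨_, h3, rfl⟩

set_option maxHeartbeats 1000000 in
/-- the key step: the last nontrivial term of the derived series of a Sylow `p`-subgroup lies in
`O_p(G)` -/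
theorem key {G : Type u} [Group G] [Finite G] {p : ℕ} [hp : Fact p.Prime] (hp2 : p ≠ 2)
    (hG : Cfsg.IsPSolvable p G) (hO : Cfsg.pPrimeCore p G = ⊥) (d : ℕ) (hd : 1 ≤ d)
    (S : Sylow p G) (hS : der (S : Subgroup G) d = ⊥) :
    der (S : Subgroup G) (d - 1) ≤ Cfsg.pCore p G := by
  classical
  haveI hPn : (Cfsg.pCore p G).Normal := Cfsg.Agent.Helper4.pCore_normal
  have hPS : Cfsg.pCore p G ≤ (S : Subgroup G) := Cfsg.Agent.Helper4.pCore_le_sylow S
  obtain ⟨k, rfl⟩ : ∃ k, d = k + 1 := ⟨d - 1, by omega⟩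
  rw [Nat.add_sub_cancel]
  rcases Nat.eq_zero_or_pos k with rfl | hk
  · -- `S` is abelian
    rw [der_zero]
    rw [zero_add, der_succ, der_zero] at hS
    have h1 : (S : Subgroup G) ≤ Subgroup.centralizer ((S : Subgroup G) : Set G) :=
      Subgroup.commutator_eq_bot_iff_le_centralizer.1 hS
    have h2 : Subgroup.centralizer ((S : Subgroup G) : Set G) ≤
        Subgroup.centralizer ((Cfsg.pCore p G : Subgroup G) : Set G) :=
      Subgroup.centralizer_le hPS
    exact (h1.trans h2).trans (Cfsg.Agent.Helper4.centralizer_pCore_le_of_isPSolvable hG hO)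
  · obtain ⟨j, rfl⟩ : ∃ j, k = j + 1 := ⟨k - 1, by omega⟩
    obtain ⟨B, hBdef⟩ : ∃ B : Subgroup G, B = der (S : Subgroup G) j := ⟨_, rfl⟩
    obtain ⟨A, hAdef⟩ : ∃ A : Subgroup G, A = der (S : Subgroup G) (j + 1) := ⟨_, rfl⟩
    have hAB : A = ⁅B, B⁆ := by rw [hAdef, hBdef, der_succ]
    have hAA : ⁅A, A⁆ = ⊥ := by rw [hAdef, ← der_succ]; exact hS
    rw [← hAdef]
    have hSB : (S : Subgroup G) ≤ Subgroup.normalizer (B : Set G) := by
      rw [hBdef]; exact der_normal _ _
    have hSA : (S : Subgroup G) ≤ Subgroup.normalizer (A : Set G) := by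
      rw [hAdef]; exact der_normal _ _
    have hBS : B ≤ (S : Subgroup G) := by rw [hBdef]; exact der_le _ _
    have hcommA : ∀ a ∈ A, ∀ c ∈ A, a * c * a⁻¹ * c⁻¹ = 1 := by
      intro a ha c hc
      have := Subgroup.commutator_mem_commutator ha hc
      rw [hAA, Subgroup.mem_bot, commutatorElement_def] at this
      exact this
    -- `[x, u] ∈ X` for `x ∈ X`, `X` normalized by `S`, `u ∈ P`
    have hcm : ∀ X : Subgroup G, (S : Subgroup G) ≤ Subgroup.normalizer (X : Set G) →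
        ∀ x ∈ X, ∀ u ∈ Cfsg.pCore p G, x * u * x⁻¹ * u⁻¹ ∈ X := by
      intro X hX x hx u hu
      have h1 : u * x⁻¹ * u⁻¹ ∈ X := conj_mem_of_le_normalizer hX (hPS hu) (X.inv_mem hx)
      have e : x * u * x⁻¹ * u⁻¹ = x * (u * x⁻¹ * u⁻¹) := by group
      rw [e]; exact X.mul_mem hx h1
    obtain ⟨V, instV, instM, instF, θ₀, ρ₀, ρb, hθsurj, hequiv, hρb, hfaith⟩ :=
      exists_faithful_frattini_rep hG hO
    haveI : FiniteDimensional (ZMod p) V := Module.Finite.of_finite
    have hsolH : Cfsg.IsPSolvable p (G ⧸ Cfsg.pCore p G) :=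
      Cfsg.Agent.Helper4.isPSolvable_quotient hG _
    have hOpH : Cfsg.pCore p (G ⧸ Cfsg.pCore p G) = ⊥ := pCore_quotient_pCore p
    obtain ⟨π, hπ⟩ : ∃ π : G →* G ⧸ Cfsg.pCore p G, π = QuotientGroup.mk' (Cfsg.pCore p G) :=
      ⟨_, rfl⟩
    have hπmk : ∀ g : G, ρb (π g) = ρ₀ g := by
      intro g; rw [hπ]; exact hρb g
    have hBp : IsPGroup p (B.map π) := by
      have : IsPGroup p B := S.isPGroup'.to_le hBS
      exact this.map π
    have hquad : ∀ a ∈ ⁅B.map π, B.map π⁆, (ρb a - 1) ^ 2 = 0 := by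
      intro a ha
      rw [← Subgroup.map_commutator, ← hAB] at ha
      obtain ⟨a, ha, rfl⟩ := ha
      rw [hπmk, pow_two]
      apply prod_two_eq_zero (Cfsg.pCore p G) θ₀ ρ₀ hθsurj hequiv
      intro u hu
      exact hcommA a ha _ (hcm A hSA a ha u hu)
    have hcubic : ∀ a ∈ ⁅B.map π, B.map π⁆, ∀ b ∈ B.map π, ∀ b' ∈ B.map π,
        (ρb a - 1) * (ρb b - 1) * (ρb b' - 1) = 0 := by
      intro a ha b hb b' hb'
      rw [← Subgroup.map_commutator, ← hAB] at ha
      obtain ⟨a, ha, rfl⟩ := ha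
      obtain ⟨b, hb, rfl⟩ := hb
      obtain ⟨b', hb', rfl⟩ := hb'
      rw [hπmk, hπmk, hπmk]
      apply prod_three_eq_zero (Cfsg.pCore p G) θ₀ ρ₀ hθsurj hequiv
      intro u hu
      apply hcommA a ha
      have h1 : b' * u * b'⁻¹ * u⁻¹ ∈ B := hcm B hSB b' hb' u hu
      have := Subgroup.commutator_mem_commutator hb h1
      rw [commutatorElement_def, ← hAB] at this
      exact this
    have hmain := comm_eq_bot_odd hp2 ρb hfaith hsolH hOpH (B.map π) hBp hquad hcubic
    rw [← Subgroup.map_commutator, ← hAB, Subgroup.map_eq_bot_iff, hπ, QuotientGroup.ker_mk'] at hmain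
    exact hmain

set_option maxHeartbeats 1000000 in
/-- Hall–Higman: `l_p ≤ d_p` for odd `p` -/
theorem main {p : ℕ} [hp : Fact p.Prime] (hp2 : p ≠ 2) : ∀ N : ℕ, ∀ (G : Type u) [Group G]
    [Finite G], Nat.card G = N → Cfsg.IsPSolvable p G → ∀ d : ℕ, DerLE p d G →
    Cfsg.PLengthLE p d G := by
  intro N
  induction N using Nat.strong_induction_on with
  | _ N IH =>
  intro G _ _ hN hG d hder
  by_cases hO : Cfsg.pPrimeCore p G = ⊥
  · rcases Nat.eq_zero_or_pos d with rfl | hd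
    · -- no `p`-elements
      apply pLengthLE_zero_of_coprime
      obtain ⟨S⟩ : Nonempty (Sylow p G) := inferInstance
      have hS : (S : Subgroup G) = ⊥ := hder S
      have hcard : Nat.card (S : Subgroup G) = 1 := by rw [hS]; exact Subgroup.card_bot
      have hnd : ¬ p ∣ Nat.card G := by
        intro hd
        have hpos : 0 < (Nat.card G).factorization p :=
          hp.out.factorization_pos_of_dvd Nat.card_pos.ne' hd
        rw [S.card_eq_multiplicity] at hcard
        have : 1 < p ^ (Nat.card G).factorization p := Nat.one_lt_pow hpos.ne' hp.out.one_lt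
        omega
      exact ((Nat.Prime.coprime_iff_not_dvd hp.out).2 hnd).symm
    · by_cases hsub : Subsingleton G
      · rw [pLengthLE_iff]; exact Subsingleton.elim _ _
      have hnt : Nontrivial G := not_subsingleton_iff_nontrivial.1 hsub
      set P := Cfsg.pCore p G with hP
      have hPne : P ≠ ⊥ := by
        intro hbot
        have h1 := Cfsg.Agent.Helper4.centralizer_pCore_le_of_isPSolvable hG hO
        rw [← hP, hbot] at h1
        have h2 : (⊤ : Subgroup G) ≤ ⊥ := by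
          refine le_trans ?_ h1
          intro g _
          rw [Subgroup.mem_centralizer_iff]
          intro h hh
          rw [Subgroup.coe_bot, Set.mem_singleton_iff] at hh
          subst hh; simp
        exact bot_ne_top (le_bot_iff.1 h2).symm
      set W := Cfsg.pPrimeCore p (G ⧸ P) with hW
      have hcardlt : Nat.card ((G ⧸ P) ⧸ W) < N := by
        have h1 : Nat.card ((G ⧸ P) ⧸ W) ≤ Nat.card (G ⧸ P) :=
          Nat.le_of_dvd Nat.card_pos (Subgroup.card_quotient_dvd_card _)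
        have h2 : Nat.card (G ⧸ P) < Nat.card G := by
          rw [← Subgroup.index_eq_card, ← Subgroup.card_mul_index P]
          have h3 : 1 < Nat.card P := (Subgroup.one_lt_card_iff_ne_bot _).2 hPne
          have h4 : 0 < P.index := Nat.pos_of_ne_zero Subgroup.index_ne_zero_of_finite
          nlinarith
        omega
      have hsurj : Function.Surjective ((QuotientGroup.mk' W).comp (QuotientGroup.mk' P)) :=
        (QuotientGroup.mk'_surjective W).comp (QuotientGroup.mk'_surjective P)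
      have hder' : DerLE p (d - 1) ((G ⧸ P) ⧸ W) := by
        intro S'
        obtain ⟨S, rfl⟩ := Sylow.mapSurjective_surjective hsurj p S'
        rw [Sylow.coe_mapSurjective, ← der_map, eq_bot_iff]
        rintro _ ⟨x, hx, rfl⟩
        have hk := key hp2 hG hO d hd S (hder S) hx
        rw [Subgroup.mem_bot, MonoidHom.comp_apply]
        have : QuotientGroup.mk' P x = 1 := (QuotientGroup.eq_one_iff x).2 hk
        rw [this, map_one]
      have h1 : Cfsg.PLengthLE p (d - 1) ((G ⧸ P) ⧸ W) :=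
        IH _ hcardlt ((G ⧸ P) ⧸ W) rfl
          (Cfsg.Agent.Helper4.isPSolvable_quotient
            (Cfsg.Agent.Helper4.isPSolvable_quotient hG P) W) (d - 1) hder'
      have h2 : Cfsg.PLengthLE p (d - 1) (G ⧸ P) :=
        pLengthLE_of_quotient_coprime p W (Cfsg.Agent.Helper1.card_pPrimeCore_coprime p) h1
      have hU2 : U p G 2 = P := U_two_eq_pCore hO
      have h3 : Cfsg.PLengthLE p (d - 1) (G ⧸ U p G 2) :=
        pLengthLE_of_mulEquiv p (QuotientGroup.quotientMulEquivOfEq hU2.symm) h2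
      rw [pLengthLE_iff] at h3 ⊢
      have h4 := U_add_even (G := G) p (show Even 2 by decide) (2 * (d - 1) + 1)
      rw [show 2 * (d - 1) + 1 + 2 = 2 * d + 1 by omega, h3, Subgroup.comap_top] at h4
      exact h4
  · -- remove `O_{p'}(G)`
    have hlt : Nat.card (G ⧸ Cfsg.pPrimeCore p G) < N := by
      rw [← hN, ← Subgroup.index_eq_card, ← Subgroup.card_mul_index (Cfsg.pPrimeCore p G)]
      have h3 : 1 < Nat.card (Cfsg.pPrimeCore p G) := (Subgroup.one_lt_card_iff_ne_bot _).2 hO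
      have h4 : 0 < (Cfsg.pPrimeCore p G).index :=
        Nat.pos_of_ne_zero Subgroup.index_ne_zero_of_finite
      nlinarith
    have h1 : Cfsg.PLengthLE p d (G ⧸ Cfsg.pPrimeCore p G) :=
      IH _ hlt (G ⧸ Cfsg.pPrimeCore p G) rfl
        (Cfsg.Agent.Helper4.isPSolvable_quotient hG _) d
        (derLE_of_surjective _ (QuotientGroup.mk'_surjective _) hder)
    exact pLengthLE_of_quotient_coprime p _ (Cfsg.Agent.Helper1.card_pPrimeCore_coprime p) h1

end Cfsg.Agent.Helper1.HHD3
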