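import Mathlib
import Cfsg.Prelude.Def_TwoFusion
import Cfsg.Prelude.Def_Transfer

set_option autoImplicit false

/-!
`ℋ`-subgroups: `E` with `E^g ∩ N_G(E) ≤ E` for all `g`.  Basic properties.
-/

namespace Cfsg.Agent.Helper1

namespace HSub

universe u

variable {G : Type u} [Group G]

/-- the `ℋ`-condition -/
def IsH (E : Subgroup G) : Prop :=
  ∀ g : G, E.map (MulAut.conj g).toMonoidHom ⊓ Subgroup.normalizer (E : Set G) ≤ E

theorem mem_map_conj {E : Subgroup G} {g y : G} :
    y ∈ E.map (MulAut.conj g).toMonoidHom ↔ g⁻¹ * y * g ∈ E := by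
  constructor
  · rintro ⟨x, hx, rfl⟩
    have : g⁻¹ * ((MulAut.conj g).toMonoidHom x) * g = x := by
      show g⁻¹ * (g * x * g⁻¹) * g = x
      group
    rw [this]; exact hx
  · intro h
    refine ⟨g⁻¹ * y * g, h, ?_⟩
    show g * (g⁻¹ * y * g) * g⁻¹ = y
    group

theorem conj_mem_map_conj {E : Subgroup G} {g x : G} (hx : x ∈ E) :
    g * x * g⁻¹ ∈ E.map (MulAut.conj g).toMonoidHom := ⟨x, hx, rfl⟩

theorem IsH.conj_mem {E : Subgroup G} (h : IsH E) {x g : G} (hx : x ∈ E)
    (hn : g * x * g⁻¹ ∈ Subgroup.normalizer (E : Set G)) : g * x * g⁻¹ ∈ E :=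
  h g ⟨conj_mem_map_conj hx, hn⟩

theorem mem_normalizer_map_conj {E : Subgroup G} {h y : G} :
    y ∈ Subgroup.normalizer ((E.map (MulAut.conj h).toMonoidHom : Subgroup G) : Set G) ↔
      h⁻¹ * y * h ∈ Subgroup.normalizer (E : Set G) := by
  rw [Subgroup.mem_normalizer_iff, Subgroup.mem_normalizer_iff]
  constructor
  · intro H z
    have := H (h * z * h⁻¹)
    rw [mem_map_conj, mem_map_conj] at this
    have e1 : h⁻¹ * (h * z * h⁻¹) * h = z := by group
    have e2 : h⁻¹ * (y * (h * z * h⁻¹) * y⁻¹) * h = h⁻¹ * y * h * z * (h⁻¹ * y * h)⁻¹ := by group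
    rw [e1, e2] at this
    exact this
  · intro H z
    rw [mem_map_conj, mem_map_conj]
    have := H (h⁻¹ * z * h)
    have e2 : h⁻¹ * (y * z * y⁻¹) * h = h⁻¹ * y * h * (h⁻¹ * z * h) * (h⁻¹ * y * h)⁻¹ := by group
    rw [e2]
    exact this

theorem IsH.conj {E : Subgroup G} (hE : IsH E) (h : G) :
    IsH (E.map (MulAut.conj h).toMonoidHom) := by
  intro g y hy
  have hy1 : y ∈ (E.map (MulAut.conj h).toMonoidHom).map (MulAut.conj g).toMonoidHom := hy.1
  have hy2 : y ∈ Subgroup.normalizer ((E.map (MulAut.conj h).toMonoidHom : Subgroup G) : Set G) :=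
    hy.2
  rw [mem_map_conj, mem_map_conj] at hy1
  rw [mem_normalizer_map_conj] at hy2
  rw [mem_map_conj]
  -- `h⁻¹ y h = (h⁻¹ g h) e (h⁻¹ g h)⁻¹` with `e ∈ E`
  have e1 : h⁻¹ * y * h = (h⁻¹ * g * h) * (h⁻¹ * (g⁻¹ * y * g) * h) * (h⁻¹ * g * h)⁻¹ := by group
  rw [e1] at hy2 ⊢
  exact hE.conj_mem hy1 hy2

/-- an `ℋ`-subgroup of a `p`-group is normal in it -/
theorem IsH.le_normalizer_of_isPGroup [Finite G] {p : ℕ} [Fact p.Prime] {E R : Subgroup G}
    (hE : IsH E) (hER : E ≤ R) (hR : IsPGroup p R) :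
    R ≤ Subgroup.normalizer (E : Set G) := by
  classical
  -- work inside `R`
  set N : Subgroup R := (Subgroup.normalizer (E : Set G)).subgroupOf R with hN
  by_contra hcon
  have hNtop : N ≠ ⊤ := by
    intro htop
    apply hcon
    intro r hr
    have : (⟨r, hr⟩ : R) ∈ N := by rw [htop]; trivial
    exact this
  have hnil : Group.IsNilpotent R := hR.isNilpotent
  have hnc : NormalizerCondition R := Group.normalizerCondition_of_isNilpotent
  have hlt : N < Subgroup.normalizer (N : Set R) := hnc N (lt_top_iff_ne_top.mpr hNtop)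
  obtain ⟨u, hu, huN⟩ := SetLike.exists_of_lt hlt
  apply huN
  show (u : G) ∈ Subgroup.normalizer (E : Set G)
  -- `u E u⁻¹ ≤ N ≤ N_G(E)`, hence `u E u⁻¹ ≤ E`
  have hEN : ∀ e ∈ E, ∀ v : R, v ∈ Subgroup.normalizer (N : Set R) →
      (v : G) * e * (v : G)⁻¹ ∈ E := by
    intro e he v hv
    have he' : (⟨e, hER he⟩ : R) ∈ N := by
      show e ∈ Subgroup.normalizer (E : Set G)
      exact Subgroup.le_normalizer he
    have h1 := (Subgroup.mem_normalizer_iff.mp hv ⟨e, hER he⟩).mp he'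
    have h2 : (v : G) * e * (v : G)⁻¹ ∈ Subgroup.normalizer (E : Set G) := h1
    exact hE.conj_mem he h2
  rw [Subgroup.mem_normalizer_iff]
  intro e
  constructor
  · intro he
    exact hEN e he u hu
  · intro he
    have h3 := hEN _ he u⁻¹ (Subgroup.inv_mem _ hu)
    have e3 : ((u⁻¹ : R) : G) * ((u : G) * e * (u : G)⁻¹) * ((u⁻¹ : R) : G)⁻¹ = e := by
      simp only [Subgroup.coe_inv]; group
    rwa [e3] at h3

/-- an `ℋ`-subgroup contained in a `p`-group `P` is strongly closed in `P` -/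
theorem IsH.isStronglyClosed [Finite G] {p : ℕ} [Fact p.Prime] {E P : Subgroup G}
    (hE : IsH E) (hEP : E ≤ P) (hP : IsPGroup p P) : Cfsg.IsStronglyClosed E P := by
  refine ⟨hEP, fun x hx g hg => ?_⟩
  exact hE.conj_mem hx (hE.le_normalizer_of_isPGroup hEP hP hg)

/-- quotient by a normal subgroup contained in `E` -/
theorem IsH.map_mk' {E : Subgroup G} (hE : IsH E) (N : Subgroup G) [N.Normal] (hNE : N ≤ E) :
    IsH (E.map (QuotientGroup.mk' N)) := by
  intro gb yb hy
  obtain ⟨g, rfl⟩ := QuotientGroup.mk'_surjective N gb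
  have hy1 : yb ∈ (E.map (QuotientGroup.mk' N)).map
      (MulAut.conj (QuotientGroup.mk' N g)).toMonoidHom := hy.1
  have hy2 : yb ∈ Subgroup.normalizer ((E.map (QuotientGroup.mk' N) : Subgroup (G ⧸ N)) : Set (G ⧸ N)) :=
    hy.2
  rw [mem_map_conj] at hy1
  obtain ⟨e, he, hey⟩ := hy1
  -- `yb = mk (g e g⁻¹)`
  have hyb : yb = QuotientGroup.mk' N (g * e * g⁻¹) := by
    have : yb = (QuotientGroup.mk' N g) * ((QuotientGroup.mk' N g)⁻¹ * yb * (QuotientGroup.mk' N g)) *
        (QuotientGroup.mk' N g)⁻¹ := by group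
    rw [this, ← hey]
    simp only [map_mul, map_inv]
  have hmemE : ∀ z : G, QuotientGroup.mk' N z ∈ E.map (QuotientGroup.mk' N) ↔ z ∈ E := by
    intro z
    constructor
    · rintro ⟨w, hw, hwz⟩
      have h1 : w⁻¹ * z ∈ N := by
        rw [← QuotientGroup.eq]
        exact hwz
      have : z = w * (w⁻¹ * z) := by group
      rw [this]
      exact E.mul_mem hw (hNE h1)
    · intro hz
      exact ⟨z, hz, rfl⟩
  rw [hyb, hmemE]
  apply hE.conj_mem he
  rw [hyb, Subgroup.mem_normalizer_iff] at hy2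
  rw [Subgroup.mem_normalizer_iff]
  intro z
  have := hy2 (QuotientGroup.mk' N z)
  rw [hmemE] at this
  rw [this]
  have e1 : (QuotientGroup.mk' N) (g * e * g⁻¹) * (QuotientGroup.mk' N) z *
      ((QuotientGroup.mk' N) (g * e * g⁻¹))⁻¹ =
      QuotientGroup.mk' N (g * e * g⁻¹ * z * (g * e * g⁻¹)⁻¹) := by
    simp only [map_mul, map_inv]
  rw [e1, hmemE]

/-- restriction to a subgroup -/
theorem IsH.of_map_subtype {L : Subgroup G} {E' : Subgroup L} (hE : IsH (E'.map L.subtype)) :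
    IsH E' := by
  intro g y hy
  have hy1 : y ∈ E'.map (MulAut.conj g).toMonoidHom := hy.1
  have hy2 : y ∈ Subgroup.normalizer (E' : Set L) := hy.2
  rw [mem_map_conj] at hy1
  have hmem : ∀ z : L, (z : G) ∈ E'.map L.subtype ↔ z ∈ E' := by
    intro z
    exact Subgroup.mem_map_iff_mem L.subtype_injective
  have h1 : (g : G)⁻¹ * (y : G) * (g : G) ∈ E'.map L.subtype := by
    have := (hmem (g⁻¹ * y * g)).mpr hy1
    simpa using this
  have h2 : (y : G) ∈ Subgroup.normalizer ((E'.map L.subtype : Subgroup G) : Set G) := by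
    rw [Subgroup.mem_normalizer_iff]
    intro z
    constructor
    · intro hz
      obtain ⟨w, hw, rfl⟩ := hz
      have h3 := (Subgroup.mem_normalizer_iff.mp hy2 w).mp hw
      have := (hmem (y * w * y⁻¹)).mpr h3
      simpa using this
    · intro hz
      -- `z = y⁻¹ (y z y⁻¹) y`, conjugating back inside `L`
      obtain ⟨w, hw, hwz⟩ := hz
      have h3 := (Subgroup.mem_normalizer_iff.mp hy2 (y⁻¹ * w * y)).mpr (by
        have e : y * (y⁻¹ * w * y) * y⁻¹ = w := by group
        rw [e]; exact hw)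
      have h4 := (hmem (y⁻¹ * w * y)).mpr h3
      have e2 : ((y⁻¹ * w * y : L) : G) = z := by
        have : (w : G) = (y : G) * z * (y : G)⁻¹ := hwz
        simp only [Subgroup.coe_mul, Subgroup.coe_inv, this]; group
      rwa [e2] at h4
  have h5 : (y : G) ∈ E'.map L.subtype := by
    have h6 : (y : G) = (g : G) * ((g : G)⁻¹ * (y : G) * (g : G)) * (g : G)⁻¹ := by group
    rw [h6]
    rw [h6] at h2
    exact hE.conj_mem h1 h2
  exact (hmem y).mp h5

end HSub

end Cfsg.Agent.Helper1
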