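import Mathlib
import Cfsg.Prelude.Def_Transfer
import Cfsg.Agent.Helper1.Gaschutz
import Cfsg.Agent.Helper1.CoprimeIndexP
import Cfsg.Agent.Helper1.FrobPCompl
import Cfsg.Agent.Helper1.FrobPCompl2
import Cfsg.Agent.Helper1.Subnormal
import Cfsg.Agent.Helper5.PResidual
import Cfsg.Agent.Helper5.NormalPComplement

set_option autoImplicit false

/-!
Tate's theorem: a normal subgroup meeting a Sylow `p`-subgroup `P` inside `Φ(P)` has a normal
`p`-complement.  The proof goes through Gaschütz's theorem applied to a pullback.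
-/

namespace Cfsg.Agent.Helper1

open scoped commutatorElement

universe u

variable {G : Type u} [Group G]

/-- the pullback of `N P → P / (N ∩ P)` and `P / P₀ → P / (N ∩ P)` -/
def tatePullback (P N : Subgroup G) [hN : N.Normal] (P₀ : Subgroup P) [P₀.Normal] :
    Subgroup (G × (P ⧸ P₀)) where
  carrier := {w | ∃ y : P, (QuotientGroup.mk y : P ⧸ P₀) = w.2 ∧ (y : G)⁻¹ * w.1 ∈ N}
  mul_mem' := by
    rintro ⟨g, x⟩ ⟨g', x'⟩ ⟨y, hy, hyN⟩ ⟨y', hy', hyN'⟩
    dsimp only at hy hyN hy' hyN'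
    refine ⟨y * y', ?_, ?_⟩
    · show (QuotientGroup.mk (y * y') : P ⧸ P₀) = x * x'
      rw [QuotientGroup.mk_mul, hy, hy']
    · show ((y * y' : P) : G)⁻¹ * (g * g') ∈ N
      have h1 : (y' : G)⁻¹ * ((y : G)⁻¹ * g) * ((y' : G)⁻¹)⁻¹ ∈ N := hN.conj_mem _ hyN _
      have h2 := N.mul_mem h1 hyN'
      have h3 : ((y * y' : P) : G)⁻¹ * (g * g') =
          (y' : G)⁻¹ * ((y : G)⁻¹ * g) * ((y' : G)⁻¹)⁻¹ * ((y' : G)⁻¹ * g') := by
        rw [Subgroup.coe_mul]; group
      rw [h3]; exact h2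
  one_mem' := ⟨1, rfl, by simp⟩
  inv_mem' := by
    rintro ⟨g, x⟩ ⟨y, hy, hyN⟩
    dsimp only at hy hyN
    refine ⟨y⁻¹, ?_, ?_⟩
    · show (QuotientGroup.mk y⁻¹ : P ⧸ P₀) = x⁻¹
      rw [QuotientGroup.mk_inv, hy]
    · show ((y⁻¹ : P) : G)⁻¹ * g⁻¹ ∈ N
      have h1 : (y : G) * ((y : G)⁻¹ * g)⁻¹ * (y : G)⁻¹ ∈ N := hN.conj_mem _ (N.inv_mem hyN) _
      have h3 : ((y⁻¹ : P) : G)⁻¹ * g⁻¹ = (y : G) * ((y : G)⁻¹ * g)⁻¹ * (y : G)⁻¹ := by
        rw [Subgroup.coe_inv]; group
      rw [h3]; exact h1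

theorem hasNormalPComplement_of_mulEquiv {H : Type*} [Group H] [Finite G] {p : ℕ}
    [hp : Fact p.Prime] (e : G ≃* H) (h : Cfsg.HasNormalPComplement p G) :
    Cfsg.HasNormalPComplement p H := by
  obtain ⟨P, K, hKn, hK⟩ := h
  haveI : Finite H := Finite.of_equiv G e.toEquiv
  obtain ⟨PH⟩ : Nonempty (Sylow p H) := inferInstance
  have hcopK : Nat.Coprime (Nat.card K) p := by
    rw [← hK.index_eq_card]
    exact ((Nat.Prime.coprime_iff_not_dvd hp.out).2 P.not_dvd_index).symm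
  obtain ⟨a, ha⟩ := IsPGroup.iff_card.1 P.2
  have hidxK : K.index = p ^ a := by rw [hK.symm.index_eq_card, ha]
  refine ⟨PH, K.map e.toMonoidHom, hKn.map e.toMonoidHom e.surjective, ?_⟩
  apply isComplement'_sylow_of_coprime_of_index_ppow _ PH _ (k := a)
  · rw [← hidxK]; exact Subgroup.index_map_equiv K e
  · rw [Subgroup.card_map_of_injective e.injective]; exact hcopK

set_option maxHeartbeats 800000 in
theorem tate_core [Finite G] {p : ℕ} [hp : Fact p.Prime] (P : Sylow p G) (N : Subgroup G)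
    [hN : N.Normal]
    (h : N ⊓ (P : Subgroup G) ≤ (frattini (P : Subgroup G)).map (P : Subgroup G).subtype)
    (hne : N ⊓ (P : Subgroup G) ≠ ⊥) : Cfsg.pResidual p N ≠ ⊤ := by
  intro htop
  set P₁ : Subgroup (P : Subgroup G) := N.subgroupOf (P : Subgroup G) with hP₁
  haveI hP₁n : P₁.Normal := Subgroup.normal_subgroupOf
  set P₀ : Subgroup (P : Subgroup G) := ⁅P₁, P₁⁆ with hP₀
  haveI hP₀n : P₀.Normal := Subgroup.commutator_normal P₁ P₁
  have hP₀le : P₀ ≤ P₁ := Subgroup.commutator_le_left P₁ P₁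
  have hP₁Φ : P₁ ≤ frattini (P : Subgroup G) := by
    intro y hy
    have hy' : (y : G) ∈ N ⊓ (P : Subgroup G) := ⟨Subgroup.mem_subgroupOf.1 hy, y.2⟩
    obtain ⟨z, hz, hzy⟩ := h hy'
    have : z = y := Subtype.ext hzy
    rwa [← this]
  have hP₁ne : P₁ ≠ ⊥ := by
    intro hbot
    apply hne
    rw [eq_bot_iff]
    intro g hg
    have h1 : (⟨g, hg.2⟩ : (P : Subgroup G)) ∈ P₁ := Subgroup.mem_subgroupOf.2 hg.1
    rw [hbot, Subgroup.mem_bot] at h1
    exact Subgroup.mem_bot.2 (congrArg Subtype.val h1)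
  have hP₀ne : P₀ ≠ P₁ := by
    intro heq
    haveI : Nontrivial P₁ := (Subgroup.nontrivial_iff_ne_bot P₁).2 hP₁ne
    haveI : Group.IsSolvable P₁ := isSolvable_of_isPGroup' P₁ (P.2.to_subgroup P₁)
    have h1 := Group.IsSolvable.commutator_lt_top_of_nontrivial (G := P₁)
    apply h1.ne
    apply Subgroup.map_injective P₁.subtype_injective
    rw [Subgroup.map_subtype_commutator, ← hP₀, heq, ← MonoidHom.range_eq_map,
      Subgroup.range_subtype]
  obtain ⟨y₀, hy₀P₁, hy₀P₀⟩ := SetLike.exists_of_lt (lt_of_le_of_ne hP₀le hP₀ne)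
  -- the quotient
  set mk : (P : Subgroup G) →* ((P : Subgroup G) ⧸ P₀) := QuotientGroup.mk' P₀ with hmk
  set Z : Subgroup ((P : Subgroup G) ⧸ P₀) := P₁.map mk with hZ
  have hZΦ : Z ≤ frattini ((P : Subgroup G) ⧸ P₀) := by
    rw [hZ, Subgroup.map_le_iff_le_comap]
    exact hP₁Φ.trans
      (frattini_le_comap_frattini_of_surjective (QuotientGroup.mk'_surjective P₀))
  have hXp : IsPGroup p ((P : Subgroup G) ⧸ P₀) := P.2.to_quotient P₀
  set E := tatePullback (P : Subgroup G) N P₀ with hE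
  let f : E →* G := (MonoidHom.fst G ((P : Subgroup G) ⧸ P₀)).comp E.subtype
  let s : E →* ((P : Subgroup G) ⧸ P₀) :=
    (MonoidHom.snd G ((P : Subgroup G) ⧸ P₀)).comp E.subtype
  have hE2 : ∀ e : E, f e = 1 → s e ∈ Z := by
    rintro ⟨⟨g, x⟩, y, hy, hyN⟩ hfe
    change g = 1 at hfe
    subst hfe
    change x ∈ Z
    dsimp only at hy hyN
    rw [← hy]
    refine Subgroup.mem_map_of_mem mk ?_
    rw [hP₁, Subgroup.mem_subgroupOf]
    have := N.inv_mem hyN
    simpa using this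
  have hE3 : ∀ e : E, s e ∈ Z → f e ∈ N := by
    rintro ⟨⟨g, x⟩, y, hy, hyN⟩ hse
    change x ∈ Z at hse
    change g ∈ N
    dsimp only at hy hyN
    obtain ⟨y₁, hy₁, hy₁x⟩ := hse
    have h1 : y₁⁻¹ * y ∈ P₀ := by
      rw [← QuotientGroup.eq]; exact hy₁x.trans hy.symm
    have h2 : y ∈ P₁ := by
      have := P₁.mul_mem hy₁ (hP₀le h1)
      simpa using this
    have h3 : (y : G) ∈ N := Subgroup.mem_subgroupOf.1 h2
    have := N.mul_mem h3 hyN
    simpa using this
  have hE4 : ∀ n ∈ N, ∃ e : E, f e = n := by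
    intro n hn
    exact ⟨⟨(n, 1), 1, rfl, by simpa using hn⟩, rfl⟩
  let ψ : (P : Subgroup G) →* E :=
    MonoidHom.codRestrict ((P : Subgroup G).subtype.prod mk) E (fun y => ⟨y, rfl, by simp⟩)
  have hfψ : ∀ y, f (ψ y) = y := fun y => rfl
  have hsψ : ∀ y, s (ψ y) = mk y := fun y => rfl
  set K : Subgroup E := f.ker with hK
  haveI hKn : K.Normal := MonoidHom.normal_ker f
  haveI hKcomm : IsMulCommutative K := by
    constructor; constructor
    rintro ⟨a, ha⟩ ⟨b, hb⟩
    have hfa : f a = 1 := ha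
    have hfb : f b = 1 := hb
    obtain ⟨ya, hya, hyax⟩ := hE2 a hfa
    obtain ⟨yb, hyb, hybx⟩ := hE2 b hfb
    apply Subtype.ext
    apply Subtype.ext
    apply Prod.ext
    · change f (a * b) = f (b * a); rw [map_mul, map_mul, hfa, hfb]
    · change s (a * b) = s (b * a)
      rw [map_mul, map_mul, ← hyax, ← hybx, ← map_mul, ← map_mul]
      rw [hmk, QuotientGroup.mk'_apply, QuotientGroup.mk'_apply]
      apply QuotientGroup.eq.2
      have h1 : (ya * yb)⁻¹ * (yb * ya) = ⁅yb⁻¹, ya⁻¹⁆ := by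
        rw [commutatorElement_def]; group
      rw [h1]
      exact Subgroup.commutator_mem_commutator (P₁.inv_mem hyb) (P₁.inv_mem hya)
  have hKp : IsPGroup p K := by
    rintro ⟨a, ha⟩
    have hfa : f a = 1 := ha
    obtain ⟨k, hk⟩ := hXp (s a)
    refine ⟨k, ?_⟩
    have h1 : a ^ p ^ k = 1 := by
      apply Subtype.ext
      apply Prod.ext
      · change f (a ^ p ^ k) = 1; rw [map_pow, hfa, one_pow]
      · change s (a ^ p ^ k) = 1; rw [map_pow, hk]
    exact Subtype.ext h1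
  set U : Subgroup E := (P : Subgroup G).comap f with hU
  have hUidx : ¬ p ∣ U.index := by
    rw [hU, Subgroup.index_comap]
    intro hd
    apply P.not_dvd_index
    refine hd.trans (Subgroup.relIndex_dvd_index_of_le ?_)
    intro y hy
    exact ⟨ψ ⟨y, hy⟩, rfl⟩
  have hcop : (Nat.card K).Coprime U.index := by
    obtain ⟨a, ha⟩ := IsPGroup.iff_card.1 hKp
    rw [ha]
    exact Nat.Coprime.pow_left a ((Nat.Prime.coprime_iff_not_dvd hp.out).2 hUidx)
  set D : Subgroup E := ψ.range with hD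
  have hDK : D ⊓ K = ⊥ := by
    rw [eq_bot_iff]
    rintro d ⟨⟨y, rfl⟩, hdK⟩
    have h1 : f (ψ y) = 1 := hdK
    rw [hfψ] at h1
    have hy1 : y = 1 := Subtype.ext h1
    rw [hy1, map_one]; exact Subgroup.mem_bot.2 rfl
  have hKD : K ⊔ D = U := by
    apply le_antisymm
    · apply sup_le
      · intro k hk
        show f k ∈ (P : Subgroup G)
        rw [MonoidHom.mem_ker.1 hk]; exact one_mem _
      · rintro d ⟨y, rfl⟩
        show f (ψ y) ∈ (P : Subgroup G)
        rw [hfψ]; exact y.2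
    · intro e he
      have heP : f e ∈ (P : Subgroup G) := he
      have h1 : e * (ψ ⟨f e, heP⟩)⁻¹ ∈ K := by
        rw [hK, MonoidHom.mem_ker, map_mul, map_inv, hfψ]; exact mul_inv_cancel _
      have h2 : ψ ⟨f e, heP⟩ ∈ D := ⟨_, rfl⟩
      have := Subgroup.mul_mem_sup h1 h2
      simpa using this
  obtain ⟨C, hC⟩ := gaschutz_exists K U hcop D hDK hKD
  have hKC : K ⊓ C = ⊥ := hC.disjoint.eq_bot
  have hfinj : ∀ c ∈ C, ∀ c' ∈ C, f c = f c' → c = c' := by
    intro c hc c' hc' hcc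
    have h0 : c * c'⁻¹ ∈ K := by
      rw [hK, MonoidHom.mem_ker, map_mul, map_inv, hcc, mul_inv_cancel]
    have h1 : c * c'⁻¹ ∈ K ⊓ C := ⟨h0, C.mul_mem hc (C.inv_mem hc')⟩
    rw [hKC, Subgroup.mem_bot] at h1
    exact mul_inv_eq_one.1 h1
  have hdecomp : ∀ e : E, ∃ k ∈ K, ∃ c ∈ C, k * c = e := by
    intro e
    obtain ⟨⟨⟨k, hk⟩, ⟨c, hc⟩⟩, hkc⟩ := hC.2 e
    exact ⟨k, hk, c, hc, hkc⟩
  have hlift : ∀ n ∈ N, ∃ c ∈ C, f c = n := by
    intro n hn
    obtain ⟨e, hfe⟩ := hE4 n hn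
    obtain ⟨k, hk, c, hc, hkc⟩ := hdecomp e
    refine ⟨c, hc, ?_⟩
    have h1 : f e = f k * f c := by rw [← map_mul, hkc]
    rw [hfe, MonoidHom.mem_ker.1 hk, one_mul] at h1
    exact h1.symm
  have hNL : N ≤ (C ⊓ s.ker).map f := by
    have h1 : N = (Cfsg.pResidual p N).map N.subtype := by
      rw [htop, ← MonoidHom.range_eq_map, Subgroup.range_subtype]
    rw [h1, Cfsg.Agent.Helper5.map_subtype_pResidual, Subgroup.closure_le]
    rintro n ⟨hnN, hncop⟩
    obtain ⟨c, hc, hfc⟩ := hlift n hnN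
    refine ⟨c, ⟨hc, ?_⟩, hfc⟩
    show c ∈ s.ker
    rw [MonoidHom.mem_ker]
    have hcn : c ^ orderOf n = 1 := by
      apply hfinj _ (C.pow_mem hc _) _ C.one_mem
      rw [map_pow, hfc, pow_orderOf_eq_one, map_one]
    obtain ⟨k, hk⟩ := hXp (s c)
    have h2 : (s c) ^ orderOf n = 1 := by rw [← map_pow, hcn, map_one]
    have h3 : (s c) ^ Nat.gcd (orderOf n) (p ^ k) = 1 := pow_gcd_eq_one.mpr ⟨h2, hk⟩
    rwa [Nat.Coprime.pow_right k hncop, pow_one] at h3
  have hstar : ∀ c ∈ C, f c ∈ N → s c = 1 := by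
    intro c hc hfc
    obtain ⟨c', ⟨hc'C, hc's⟩, hfc'⟩ := hNL hfc
    have h1 := hfinj c' hc'C c hc hfc'
    rw [← h1]; exact MonoidHom.mem_ker.1 hc's
  have hsC : C.map s = ⊤ := by
    apply frattini_nongenerating
    rw [eq_top_iff]
    intro x _
    obtain ⟨y, rfl⟩ := QuotientGroup.mk'_surjective P₀ x
    obtain ⟨k, hk, c, hc, hkc⟩ := hdecomp (ψ y)
    have h1 : mk y = s k * s c := by rw [← hsψ, ← map_mul, hkc]
    have h2 := Subgroup.mul_mem_sup (hZΦ (hE2 k (MonoidHom.mem_ker.1 hk)))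
      (Subgroup.mem_map_of_mem s hc)
    rw [← h1, sup_comm] at h2
    exact h2
  have h1 : mk y₀ ∈ C.map s := by rw [hsC]; trivial
  obtain ⟨c, hc, hcs⟩ := h1
  have h2 : f c ∈ N := hE3 c (by rw [hcs]; exact Subgroup.mem_map_of_mem mk hy₀P₁)
  have h3 := hstar c hc h2
  rw [hcs] at h3
  exact hy₀P₀ ((QuotientGroup.eq_one_iff y₀).1 h3)

theorem tate_aux [Finite G] {p : ℕ} [hp : Fact p.Prime] (P : Sylow p G) :
    ∀ (n : ℕ) (N : Subgroup G) [N.Normal], Nat.card N ≤ n →
      N ⊓ (P : Subgroup G) ≤ (frattini (P : Subgroup G)).map (P : Subgroup G).subtype →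
      Cfsg.HasNormalPComplement p N := by
  intro n
  induction n with
  | zero =>
    intro N _ hn _
    have := Nat.card_pos (α := N)
    omega
  | succ n ih =>
    intro N hN hn h
    by_cases hne : N ⊓ (P : Subgroup G) = ⊥
    · apply Cfsg.Agent.Helper5.hasNormalPComplement_of_coprime_pResidual
      obtain ⟨Q, hQ⟩ := sylow_inf_subnormal p N hN.isSubnormal P
      have hQbot : (Q : Subgroup N) = ⊥ := by
        rw [hQ, eq_bot_iff]
        intro x hx
        have h1 : (x : G) ∈ N ⊓ (P : Subgroup G) := ⟨x.2, Subgroup.mem_subgroupOf.1 hx⟩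
        rw [hne, Subgroup.mem_bot] at h1
        exact Subgroup.mem_bot.2 (Subtype.ext h1)
      have h1 : ¬ p ∣ Nat.card N := by
        have h2 := Q.not_dvd_index
        rwa [hQbot, Subgroup.index_bot] at h2
      have h2 : Nat.Coprime (Nat.card N) p :=
        ((Nat.Prime.coprime_iff_not_dvd hp.out).2 h1).symm
      exact Nat.Coprime.coprime_dvd_left (Subgroup.card_subgroup_dvd_card _) h2
    · have hR := tate_core P N h hne
      set R := Cfsg.pResidual p N with hRdef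
      haveI : R.Characteristic := Cfsg.Agent.Helper5.pResidual_characteristic p
      set R' : Subgroup G := R.map N.subtype with hR'
      haveI : R'.Normal := ConjAct.normal_of_characteristic_of_normal
      have hcardR' : Nat.card R' = Nat.card R :=
        Subgroup.card_map_of_injective N.subtype_injective
      have hlt : Nat.card R < Nat.card N := by
        rcases (Subgroup.card_le_card_group R).lt_or_eq with h1 | h1
        · exact h1
        · exact absurd ((Subgroup.card_eq_iff_eq_top R).1 h1) hR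
      have hR'c : Cfsg.HasNormalPComplement p R' :=
        ih R' (by omega) ((inf_le_inf_right _ (Subgroup.map_subtype_le R)).trans h)
      have hRc : Cfsg.HasNormalPComplement p R :=
        hasNormalPComplement_of_mulEquiv
          (R.equivMapOfInjective N.subtype N.subtype_injective).symm hR'c
      obtain ⟨k, hk⟩ := Cfsg.Agent.Helper5.index_pResidual (G := N) p
      exact hasNormalPComplement_of_normal_ppow_index R hk hRc

/-- **Tate's theorem**. -/
theorem tate_normal_pcomplement [Finite G] {p : ℕ} [Fact p.Prime] (P : Sylow p G)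
    (N : Subgroup G) [N.Normal]
    (h : N ⊓ (P : Subgroup G) ≤ (frattini (P : Subgroup G)).map (P : Subgroup G).subtype) :
    Cfsg.HasNormalPComplement p N :=
  tate_aux P (Nat.card N) N le_rfl h

end Cfsg.Agent.Helper1
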