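import Mathlib
import Cfsg.Agent.Helper1.HSubA
import Cfsg.Agent.Helper1.PGroup
import Cfsg.Agent.Helper1.Tate
import Cfsg.Agent.Helper1.FrobPCompl
import Cfsg.Agent.Lead.HyperfocalGroup
import Cfsg.Agent.Helper5.PResidual

set_option autoImplicit false

/-!
If every maximal subgroup of a Sylow `p`-subgroup `P` is strongly closed in `P` with respect to `G`
and `|G|` is coprime to `p - 1`, then `G` has a normal `p`-complement.
-/

namespace Cfsg.Agent.Helper1

namespace HSub

universe u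

variable {G : Type u} [Group G]

/-- An element normalizing a finite cyclic subgroup `C`, of order coprime to `φ(|C|)`,
centralizes `C`. -/
theorem mem_centralizer_of_coprime_totient {H : Type*} [Group H] (C : Subgroup H) [Finite C]
    (hC : IsCyclic C) {h : H} (hh : h ∈ Subgroup.normalizer (C : Set H))
    (hcop : Nat.Coprime (orderOf h) (Nat.totient (Nat.card C))) :
    h ∈ Subgroup.centralizer (C : Set H) := by
  set θ := C.normalizerMonoidHom with hθ
  set a := θ ⟨h, hh⟩ with ha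
  have h1 : orderOf a ∣ orderOf h := by
    have := orderOf_map_dvd θ (⟨h, hh⟩ : Subgroup.normalizer (C : Set H))
    rwa [Subgroup.orderOf_mk] at this
  have h2 : orderOf a ∣ Nat.totient (Nat.card C) := by
    rw [← IsCyclic.card_mulAut]
    exact orderOf_dvd_natCard a
  have h3 : orderOf a = 1 := Nat.eq_one_of_dvd_coprimes hcop h1 h2
  have h4 : a = 1 := orderOf_eq_one_iff.mp h3
  have h5 : (⟨h, hh⟩ : Subgroup.normalizer (C : Set H)) ∈ θ.ker := h4
  rw [hθ, Subgroup.normalizerMonoidHom_ker] at h5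
  exact h5

theorem coprime_pred_of_min {n p : ℕ} (hp : p.Prime)
    (hmin : ∀ q : ℕ, q.Prime → q ∣ n → p ≤ q) : Nat.Coprime n (p - 1) := by
  apply Nat.coprime_of_dvd
  intro q hq hqn hqp
  have h1 : p ≤ q := hmin q hq hqn
  have h2 : q ≤ p - 1 := Nat.le_of_dvd (Nat.sub_pos_of_lt hp.one_lt) hqp
  have := hp.one_lt
  omega

/-- Key step: conjugation by any `g ∈ N_G(Q)` acts trivially on `Q / (Q ∩ M)` when `M` is a
strongly closed normal subgroup of index `p` of `S` and `|G|` is coprime to `p - 1`. -/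
theorem conj_div_mem_of_stronglyClosed [Finite G] {p : ℕ} [hp : Fact p.Prime] {S M : Subgroup G}
    (hM : Cfsg.IsStronglyClosed M S) (hMn : S ≤ Subgroup.normalizer (M : Set G))
    (hidx : M.relIndex S = p) (hcop : Nat.Coprime (Nat.card G) (p - 1))
    {Q : Subgroup G} (hQS : Q ≤ S) {g : G} (hg : g ∈ Subgroup.normalizer (Q : Set G))
    {x : G} (hx : x ∈ Q) : x⁻¹ * (g * x * g⁻¹) ∈ M := by
  classical
  set T : Subgroup G := Q ⊓ M with hT
  set W : Subgroup G := Subgroup.normalizer (T : Set G) with hW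
  have hMS : M ≤ S := hM.1
  -- `Q ≤ W`
  have hQW : Q ≤ W := by
    intro q hq
    rw [hW, Subgroup.mem_normalizer_iff]
    intro t
    have hqM := hMn (hQS hq)
    rw [hT, Subgroup.mem_inf, Subgroup.mem_inf]
    constructor
    · rintro ⟨h1, h2⟩
      exact ⟨Q.mul_mem (Q.mul_mem hq h1) (Q.inv_mem hq),
        (Subgroup.mem_normalizer_iff.mp hqM t).mp h2⟩
    · rintro ⟨h1, h2⟩
      refine ⟨?_, (Subgroup.mem_normalizer_iff.mp hqM t).mpr h2⟩
      have : t = q⁻¹ * (q * t * q⁻¹) * q := by group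
      rw [this]
      exact Q.mul_mem (Q.mul_mem (Q.inv_mem hq) h1) hq
  -- conjugation by `g` and `g⁻¹` preserves `T`
  have hgT : ∀ k : G, k ∈ Subgroup.normalizer (Q : Set G) → ∀ t ∈ T, k * t * k⁻¹ ∈ T := by
    intro k hk t ht
    rw [hT, Subgroup.mem_inf] at ht ⊢
    have h1 : k * t * k⁻¹ ∈ Q := (Subgroup.mem_normalizer_iff.mp hk t).mp ht.1
    exact ⟨h1, hM.2 t ht.2 k (hQS h1)⟩
  have hgW : ∀ k : G, k ∈ Subgroup.normalizer (Q : Set G) → k ∈ W := by
    intro k hk
    rw [hW, Subgroup.mem_normalizer_iff]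
    intro t
    constructor
    · exact hgT k hk t
    · intro ht
      have h1 := hgT k⁻¹ (Subgroup.inv_mem _ hk) _ ht
      have e : k⁻¹ * (k * t * k⁻¹) * k⁻¹⁻¹ = t := by group
      rwa [e] at h1
  have hTW : T ≤ W := Subgroup.le_normalizer
  -- the quotient `W / T`
  set T' : Subgroup W := T.subgroupOf W with hT'
  haveI hT'n : T'.Normal := Subgroup.normal_in_normalizer
  set π := QuotientGroup.mk' T' with hπ
  set Q' : Subgroup W := Q.subgroupOf W with hQ'
  set Qb : Subgroup (W ⧸ T') := Q'.map π with hQb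
  have hcardQb : Nat.card Qb ∣ p := by
    have h1 : Nat.card Qb = T'.relIndex Q' := by
      rw [hQb, ← Subgroup.relIndex_ker, hπ, QuotientGroup.ker_mk']
    have h2 : T'.relIndex Q' = T.relIndex Q := Subgroup.relIndex_subgroupOf hQW
    have h3 : T.relIndex Q = M.relIndex Q := by rw [hT]; exact Subgroup.inf_relIndex_left Q M
    have h4 : M.relIndex Q ∣ p := by
      haveI : (M.subgroupOf S).Normal :=
        (Subgroup.normal_subgroupOf_iff_le_normalizer (H := M) (K := S) hMS).mpr hMn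
      have h5 : (M.subgroupOf S).relIndex (Q.subgroupOf S) ∣ (M.subgroupOf S).index :=
        Subgroup.relIndex_dvd_index_of_normal _ _
      rw [Subgroup.relIndex_subgroupOf hQS] at h5
      have h6 : (M.subgroupOf S).index = p := hidx
      rwa [h6] at h5
    rw [h1, h2, h3]
    exact h4
  haveI : Finite Qb := inferInstance
  have hcyc : IsCyclic Qb := isCyclic_of_card_dvd_prime hcardQb
  have hgW' : g ∈ W := hgW g hg
  set gb : W ⧸ T' := π ⟨g, hgW'⟩ with hgb
  have hord : orderOf gb ∣ Nat.card G := by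
    have h1 : orderOf gb ∣ orderOf (⟨g, hgW'⟩ : W) := orderOf_map_dvd π _
    rw [Subgroup.orderOf_mk] at h1
    exact h1.trans (orderOf_dvd_natCard g)
  have hcop' : Nat.Coprime (orderOf gb) (Nat.totient (Nat.card Qb)) := by
    have h1 : Nat.totient (Nat.card Qb) ∣ p - 1 := by
      rcases (Nat.dvd_prime hp.out).mp hcardQb with h | h
      · rw [h, Nat.totient_one]; exact one_dvd _
      · rw [h, Nat.totient_prime hp.out]
    exact Nat.Coprime.coprime_dvd_left hord (Nat.Coprime.coprime_dvd_right h1 hcop)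
  -- `gb` normalizes `Qb`
  have hconj : ∀ k : G, ∀ hk : k ∈ Subgroup.normalizer (Q : Set G), ∀ z ∈ Qb,
      π ⟨k, hgW k hk⟩ * z * (π ⟨k, hgW k hk⟩)⁻¹ ∈ Qb := by
    intro k hk z hz
    obtain ⟨q, hq, rfl⟩ := hz
    refine ⟨⟨k, hgW k hk⟩ * q * ⟨k, hgW k hk⟩⁻¹, ?_, by simp only [map_mul, map_inv]⟩
    have hq' : (q : G) ∈ Q := hq
    have := (Subgroup.mem_normalizer_iff.mp hk (q : G)).mp hq'
    show ((⟨k, hgW k hk⟩ * q * ⟨k, hgW k hk⟩⁻¹ : W) : G) ∈ Q
    simpa using this
  have hnorm : gb ∈ Subgroup.normalizer (Qb : Set (W ⧸ T')) := by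
    rw [Subgroup.mem_normalizer_iff]
    intro z
    constructor
    · exact hconj g hg z
    · intro hz
      have h1 := hconj g⁻¹ (Subgroup.inv_mem _ hg) _ hz
      have e : π ⟨g⁻¹, hgW g⁻¹ (Subgroup.inv_mem _ hg)⟩ = gb⁻¹ := by
        rw [hgb, ← map_inv]
        rfl
      rw [e] at h1
      have e2 : gb⁻¹ * (gb * z * gb⁻¹) * gb⁻¹⁻¹ = z := by group
      rwa [e2] at h1
  have hcent := mem_centralizer_of_coprime_totient Qb hcyc hnorm hcop'
  have hxW : x ∈ W := hQW hx
  have hxb : π ⟨x, hxW⟩ ∈ Qb := ⟨⟨x, hxW⟩, hx, rfl⟩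
  have hcomm := Subgroup.mem_centralizer_iff.mp hcent _ hxb
  -- `π (x⁻¹ g x g⁻¹) = 1`
  have h1 : π (⟨x, hxW⟩⁻¹ * (⟨g, hgW'⟩ * ⟨x, hxW⟩ * ⟨g, hgW'⟩⁻¹)) = 1 := by
    simp only [map_mul, map_inv]
    rw [← hgb, ← hcomm]
    group
  have h2 : (⟨x, hxW⟩⁻¹ * (⟨g, hgW'⟩ * ⟨x, hxW⟩ * ⟨g, hgW'⟩⁻¹) : W) ∈ T' := by
    rw [← QuotientGroup.ker_mk' T']
    exact h1
  rw [hT', Subgroup.mem_subgroupOf] at h2
  have h3 : x⁻¹ * (g * x * g⁻¹) ∈ T := by simpa using h2
  exact (Subgroup.mem_inf.mp h3).2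

/-- `P ∩ O^p(G) ≤ M` for a strongly closed normal subgroup `M` of index `p` in a Sylow subgroup. -/
theorem sylow_inf_pResidual_le [Finite G] {p : ℕ} [hp : Fact p.Prime] (P : Sylow p G)
    {M : Subgroup G} (hM : Cfsg.IsStronglyClosed M (P : Subgroup G))
    (hMn : (P : Subgroup G) ≤ Subgroup.normalizer (M : Set G))
    (hidx : M.relIndex (P : Subgroup G) = p) (hcop : Nat.Coprime (Nat.card G) (p - 1)) :
    (P : Subgroup G) ⊓ Cfsg.pResidual p G ≤ M := by
  rw [← Cfsg.Agent.Lead.Fusion.hyperfocal_group_eq p P]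
  unfold Cfsg.FusionSystem.hyperfocalSubgroup
  rw [Subgroup.closure_le]
  rintro y ⟨Q, α, x, hQS, -, rfl⟩
  have hα := (Cfsg.Agent.Lead.Fusion.mem_autGroup_iff
    (Cfsg.groupFusionSystem (P : Subgroup G)) hQS α.1).mp α.2
  obtain ⟨-, -, g, hg⟩ := hα
  have hgx : ∀ z : Q, (((α : MulAut Q) z : Q) : G) = g * z * g⁻¹ := fun z => hg z
  have hgn : g ∈ Subgroup.normalizer (Q : Set G) := by
    haveI : Finite Q := inferInstance
    rw [Subgroup.mem_normalizer_iff]
    intro z
    constructor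
    · intro hz
      have := hgx ⟨z, hz⟩
      rw [← this]
      exact ((α : MulAut Q) ⟨z, hz⟩).2
    · intro hz
      -- `z = α⁻¹ (g z g⁻¹)` transported
      have h1 := hgx ((α : MulAut Q)⁻¹ ⟨g * z * g⁻¹, hz⟩)
      rw [MulAut.apply_inv_self] at h1
      have h2 : (((α : MulAut Q)⁻¹ ⟨g * z * g⁻¹, hz⟩ : Q) : G) = z := by
        have h3 : g * z * g⁻¹ = g * (((α : MulAut Q)⁻¹ ⟨g * z * g⁻¹, hz⟩ : Q) : G) * g⁻¹ := h1
        exact (mul_left_cancel (mul_right_cancel h3)).symm
      rw [← h2]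
      exact ((α : MulAut Q)⁻¹ ⟨g * z * g⁻¹, hz⟩).2
  rw [SetLike.mem_coe, hgx]
  exact conj_div_mem_of_stronglyClosed hM hMn hidx hcop hQS hgn x.2

/-- If all maximal subgroups of a Sylow `p`-subgroup are strongly closed and `|G|` is coprime to
`p - 1`, then `G` has a normal `p`-complement. -/
theorem hasNormalPComplement_of_coatoms_stronglyClosed [Finite G] {p : ℕ} [hp : Fact p.Prime]
    (P : Sylow p G) (hcop : Nat.Coprime (Nat.card G) (p - 1))
    (h : ∀ M' : Subgroup (P : Subgroup G), IsCoatom M' →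
      Cfsg.IsStronglyClosed (M'.map (P : Subgroup G).subtype) (P : Subgroup G)) :
    Cfsg.HasNormalPComplement p G := by
  have hPp : IsPGroup p (P : Subgroup G) := P.2
  haveI hN : (Cfsg.pResidual p G).Normal := Cfsg.Agent.Helper5.pResidual_normal p
  have hle : Cfsg.pResidual p G ⊓ (P : Subgroup G) ≤
      (frattini (P : Subgroup G)).map (P : Subgroup G).subtype := by
    intro y hy
    obtain ⟨hy1, hy2⟩ := Subgroup.mem_inf.mp hy
    refine ⟨⟨y, hy2⟩, ?_, rfl⟩
    rw [SetLike.mem_coe, mem_frattini_iff]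
    intro M' hM'
    set M : Subgroup G := M'.map (P : Subgroup G).subtype with hMdef
    have hMP : M ≤ (P : Subgroup G) := Subgroup.map_subtype_le M'
    haveI hM'n : M'.Normal := IsPGroup.coatom_normal hPp hM'
    have hidx' : M'.index = p := IsPGroup.coatom_index hPp hM'
    have hsub : M.subgroupOf (P : Subgroup G) = M' := by
      rw [hMdef]
      exact Subgroup.comap_map_eq_self_of_injective (P : Subgroup G).subtype_injective M'
    have hMn : (P : Subgroup G) ≤ Subgroup.normalizer (M : Set G) := by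
      rw [← Subgroup.normal_subgroupOf_iff_le_normalizer (H := M) (K := (P : Subgroup G)) hMP, hsub]
      exact hM'n
    have hidx : M.relIndex (P : Subgroup G) = p := by
      show (M.subgroupOf (P : Subgroup G)).index = p
      rw [hsub]; exact hidx'
    have hyM : y ∈ M :=
      sylow_inf_pResidual_le P (h M' hM') hMn hidx hcop (Subgroup.mem_inf.mpr ⟨hy2, hy1⟩)
    rw [hMdef] at hyM
    exact (Subgroup.mem_map_iff_mem (P : Subgroup G).subtype_injective (x := ⟨y, hy2⟩)).mp hyM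
  have hT := tate_normal_pcomplement P (Cfsg.pResidual p G) hle
  obtain ⟨k, hk⟩ := Cfsg.Agent.Helper5.index_pResidual (G := G) p
  exact hasNormalPComplement_of_normal_ppow_index (Cfsg.pResidual p G) hk hT

end HSub

end Cfsg.Agent.Helper1
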