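import Mathlib
import Cfsg.Agent.Helper1.OmegaOdd

set_option autoImplicit false

namespace Cfsg.Agent.Helper1

universe u

/-- For odd `p`, a `p'`-automorphism of a `p`-group acting trivially on the elements of order
dividing `p` is trivial. -/
theorem aut_eq_one_of_fix_order_p {G : Type u} [Group G] [Finite G] {p : ℕ} [hpF : Fact p.Prime]
    (hp : p ≠ 2) (hG : IsPGroup p G) (a : MulAut G) (ha : Nat.Coprime (orderOf a) p)
    (h : ∀ x : G, x ^ p = 1 → a x = x) : a = 1 := by
  let A := Subgroup.zpowers a
  let φ : A →* MulAut G := A.subtype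
  have hfin : Finite (G ⋊[φ] A) := Finite.of_equiv _ SemidirectProduct.equivProd.symm
  let c : G ⋊[φ] A := SemidirectProduct.inr ⟨a, Subgroup.mem_zpowers a⟩
  have hc : (orderOf c).Coprime p := by
    have h1 : orderOf c = orderOf (⟨a, Subgroup.mem_zpowers a⟩ : A) :=
      orderOf_injective _ SemidirectProduct.inr_injective _
    rw [h1, Subgroup.orderOf_mk]
    exact ha
  let R : Subgroup (G ⋊[φ] A) := (SemidirectProduct.inl : G →* G ⋊[φ] A).range
  have hRp : IsPGroup p R := hG.of_equiv (MonoidHom.ofInjective SemidirectProduct.inl_injective)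
  have hRn : R.Normal := by
    show (SemidirectProduct.inl : G →* G ⋊[φ] A).range.Normal
    rw [SemidirectProduct.range_inl_eq_ker_rightHom]
    infer_instance
  have hcR : c ∈ Subgroup.normalizer (R : Set (G ⋊[φ] A)) := by
    rw [Subgroup.normalizer_eq_top]; exact Subgroup.mem_top c
  have hconj : ∀ x : G, c * SemidirectProduct.inl x * c⁻¹ = SemidirectProduct.inl (a x) := by
    intro x
    have := SemidirectProduct.inl_aut (φ := φ) ⟨a, Subgroup.mem_zpowers a⟩ x
    rw [map_inv] at this
    exact this.symm
  have hcen : ∀ r ∈ R, orderOf r = p → c * r = r * c := by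
    rintro _ ⟨x, rfl⟩ hx
    have hxp : x ^ p = 1 := by
      have h1 : (SemidirectProduct.inl x : G ⋊[φ] A) ^ p = 1 := by
        rw [← hx]; exact pow_orderOf_eq_one _
      rw [← map_pow] at h1
      exact SemidirectProduct.inl_injective (by rw [h1, map_one])
    have h2 := hconj x
    rw [h x hxp] at h2
    exact mul_inv_eq_iff_eq_mul.1 h2
  have hall := centralizes_of_centralizes_order_p hp c hc R hRp hcR hcen
  ext x
  have h1 := hall (SemidirectProduct.inl x) ⟨x, rfl⟩
  have h2 := hconj x
  rw [h1, mul_inv_cancel_right] at h2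
  exact (SemidirectProduct.inl_injective h2).symm

end Cfsg.Agent.Helper1
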