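import Mathlib
import Cfsg.Agent.Helper1.HSubB
import Cfsg.Agent.Helper1.FrobPCompl2
import Cfsg.Agent.Helper1.OmegaOddAut
import Cfsg.Agent.Lead.OmegaTwoAut

set_option autoImplicit false

/-!
`ℋ`-subgroups: the direct argument when `d = p` or `(p, d) = (2, 4)`.
-/

namespace Cfsg.Agent.Helper1

namespace HSub

universe u

variable {G : Type u} [Group G]

/-- the hypothesis: all `p`-subgroups of order `d` (and `4`, if `d = 2`) are `ℋ`-subgroups -/
def HypD (p d : ℕ) (G : Type u) [Group G] : Prop :=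
  ∀ E : Subgroup G, IsPGroup p E → (Nat.card E = d ∨ (d = 2 ∧ Nat.card E = 4)) → IsH E


theorem mem_normalizer_of_forall_conj_mem {A : Subgroup G} {m : G}
    (h1 : ∀ y ∈ A, m * y * m⁻¹ ∈ A) (h2 : ∀ y ∈ A, m⁻¹ * y * m⁻¹⁻¹ ∈ A) :
    m ∈ Subgroup.normalizer (A : Set G) := by
  rw [Subgroup.mem_normalizer_iff]
  intro y
  constructor
  · exact h1 y
  · intro hy
    have h3 := h2 _ hy
    have e : m⁻¹ * (m * y * m⁻¹) * m⁻¹⁻¹ = y := by group
    rwa [e] at h3

theorem commute_of_coprime_of_stable [Finite G] {p : ℕ} [hp : Fact p.Prime] {R : Subgroup G}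
    (hR : IsPGroup p R) {x : G} (hcop : (orderOf x).Coprime p) {r : G} (hr : r ∈ R)
    (hu : x * (r⁻¹ * (x * r * x⁻¹)) = (r⁻¹ * (x * r * x⁻¹)) * x)
    (huR : r⁻¹ * (x * r * x⁻¹) ∈ R) : x * r = r * x := by
  set u := r⁻¹ * (x * r * x⁻¹) with hudef
  have key : ∀ j : ℕ, x ^ j * r * (x ^ j)⁻¹ = r * u ^ j := by
    intro j
    induction j with
    | zero => simp
    | succ j ih =>
      have e : x ^ (j + 1) * r * (x ^ (j + 1))⁻¹ = x * (x ^ j * r * (x ^ j)⁻¹) * x⁻¹ := by
        rw [pow_succ']; group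
      rw [e, ih]
      have hc : x * u ^ j = u ^ j * x := by
        have : Commute x u := hu
        exact (this.pow_right j).eq
      have e2 : x * (r * u ^ j) * x⁻¹ = (x * r * x⁻¹) * (x * u ^ j * x⁻¹) := by group
      rw [e2, hc]
      have e3 : x * r * x⁻¹ = r * u := by rw [hudef]; group
      rw [e3, pow_succ']
      group
  have h1 := key (orderOf x)
  rw [pow_orderOf_eq_one] at h1
  have h2 : u ^ orderOf x = 1 := by
    have : r = r * u ^ orderOf x := by simpa using h1
    exact (mul_eq_left.1 this.symm)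
  obtain ⟨k, hk⟩ := hR ⟨u, huR⟩
  have hk' : u ^ p ^ k = 1 := by
    have := congrArg Subtype.val hk
    simpa using this
  have h3 : orderOf u ∣ Nat.gcd (orderOf x) (p ^ k) :=
    Nat.dvd_gcd (orderOf_dvd_of_pow_eq_one h2) (orderOf_dvd_of_pow_eq_one hk')
  have h4 : Nat.gcd (orderOf x) (p ^ k) = 1 := Nat.Coprime.pow_right k hcop
  rw [h4, Nat.dvd_one, orderOf_eq_one_iff] at h3
  have e3 : x * r * x⁻¹ = r * u := by rw [hudef]; group
  rw [h3, mul_one] at e3
  calc x * r = (x * r * x⁻¹) * x := by group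
    _ = r * x := by rw [e3]

/-- if `U` is a normal subgroup centralized by all `p'`-elements and `G ⧸ U` has a
normal `p`-complement, so has `G`. -/
theorem hasNormalPComplement_of_quotient [Finite G] {p : ℕ} [hp : Fact p.Prime] (U : Subgroup G)
    [hU : U.Normal] (hquot : Cfsg.HasNormalPComplement p (G ⧸ U))
    (hcen : ∀ x : G, (orderOf x).Coprime p → x ∈ Subgroup.centralizer (U : Set G)) :
    Cfsg.HasNormalPComplement p G := by
  apply frobenius_pcomplement
  intro R hR x hxR hcop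
  have hloc := plocalCentral_of_hasNormalPComplement hquot
  have hxb : (QuotientGroup.mk' U) x ∈
      Subgroup.normalizer ((R.map (QuotientGroup.mk' U) : Subgroup (G ⧸ U)) : Set (G ⧸ U)) :=
    Subgroup.le_normalizer_map _ ⟨x, hxR, rfl⟩
  have hcopb : (orderOf ((QuotientGroup.mk' U) x)).Coprime p :=
    Nat.Coprime.coprime_dvd_left (orderOf_map_dvd _ x) hcop
  have h1 := hloc (R.map (QuotientGroup.mk' U)) (hR.map _) _ hxb hcopb
  rw [Subgroup.mem_centralizer_iff]
  intro r hr
  symm
  apply commute_of_coprime_of_stable hR hcop hr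
  · have huU : r⁻¹ * (x * r * x⁻¹) ∈ U := by
      rw [← QuotientGroup.eq_one_iff, ← QuotientGroup.mk'_apply]
      have h2 := Subgroup.mem_centralizer_iff.1 h1 ((QuotientGroup.mk' U) r) ⟨r, hr, rfl⟩
      rw [map_mul, map_mul, map_mul, map_inv, map_inv, ← h2]
      group
    have := Subgroup.mem_centralizer_iff.1 (hcen x hcop) _ huU
    exact this.symm
  · exact R.mul_mem (R.inv_mem hr) ((Subgroup.mem_normalizer_iff.1 hxR r).1 hr)

theorem mem_normalizer_of_isH [Finite G] {p : ℕ} [Fact p.Prime] {Q E : Subgroup G}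
    (hQ : IsPGroup p Q) (hEQ : E ≤ Q) (hE : IsH E) {g : G}
    (hg : g ∈ Subgroup.normalizer (Q : Set G)) : g ∈ Subgroup.normalizer (E : Set G) := by
  have hQN : Q ≤ Subgroup.normalizer (E : Set G) := hE.le_normalizer_of_isPGroup hEQ hQ
  have key : ∀ k : G, k ∈ Subgroup.normalizer (Q : Set G) → ∀ e ∈ E, k * e * k⁻¹ ∈ E := by
    intro k hk e he
    have h1 : k * e * k⁻¹ ∈ Q := (Subgroup.mem_normalizer_iff.mp hk e).mp (hEQ he)
    exact hE.conj_mem he (hQN h1)
  exact mem_normalizer_of_forall_conj_mem (key g hg)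
    (key g⁻¹ (Subgroup.inv_mem _ hg))

theorem conj_eq_of_mem_centralizer {C : Subgroup G} {g x : G}
    (hg : g ∈ Subgroup.centralizer (C : Set G)) (hx : x ∈ C) : g * x * g⁻¹ = x := by
  have := Subgroup.mem_centralizer_iff.mp hg x hx
  rw [← this]; group

/-- conjugation by `g` fixes `x` when `⟨x⟩` is an `ℋ`-subgroup and `|g|` is coprime to `φ(|x|)` -/
theorem conj_eq_of_isH_zpowers [Finite G] {p : ℕ} [Fact p.Prime] {Q : Subgroup G}
    (hQ : IsPGroup p Q) {g x : G} (hg : g ∈ Subgroup.normalizer (Q : Set G)) (hx : x ∈ Q)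
    (hH : IsH (Subgroup.zpowers x))
    (hcop : Nat.Coprime (orderOf g) (Nat.totient (orderOf x))) : g * x * g⁻¹ = x := by
  have hCQ : Subgroup.zpowers x ≤ Q := Subgroup.zpowers_le.mpr hx
  have hn := mem_normalizer_of_isH hQ hCQ hH hg
  have hcop' : Nat.Coprime (orderOf g) (Nat.totient (Nat.card (Subgroup.zpowers x))) := by
    rw [Nat.card_zpowers]; exact hcop
  have hc := mem_centralizer_of_coprime_totient (Subgroup.zpowers x) inferInstance hn hcop'
  exact conj_eq_of_mem_centralizer hc (Subgroup.mem_zpowers x)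

/-- a finite non-cyclic group has at least two maximal subgroups -/
theorem exists_ne_coatom_of_not_isCyclic {R : Type*} [Group R] [Finite R] (hR : ¬ IsCyclic R)
    (E : Subgroup R) (hE : IsCoatom E) : ∃ E' : Subgroup R, IsCoatom E' ∧ E' ≠ E := by
  by_contra hcon
  push Not at hcon
  have hfr : frattini R = E := by
    apply le_antisymm
    · exact frattini_le_coatom hE
    · rw [le_frattini_iff]
      intro M hM
      rw [hcon M hM]
  obtain ⟨y, hy⟩ : ∃ y : R, y ∉ E := by
    by_contra h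
    push Not at h
    exact hE.1 (eq_top_iff.mpr fun z _ => h z)
  have h1 : Subgroup.zpowers y ⊔ frattini R = ⊤ := by
    rw [hfr]
    apply hE.2
    refine lt_of_le_of_ne le_sup_right ?_
    intro h
    apply hy
    rw [h]
    exact (le_sup_left : Subgroup.zpowers y ≤ _) (Subgroup.mem_zpowers y)
  have h2 : Subgroup.zpowers y = ⊤ := frattini_nongenerating h1
  exact hR ((isCyclic_iff_exists_zpowers_eq_top).mpr ⟨y, h2⟩)

/-- If `g` (of order coprime to `p`) normalizes the `p`-group `E` and a subgroup `F ≤ E` of index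
`2`... general version: `g` centralizes `F`, and `E / F`-classes are preserved; then `g`
centralizes `E`. -/
theorem centralizes_of_chain [Finite G] {p : ℕ} [hp : Fact p.Prime] {E F : Subgroup G}
    (hE : IsPGroup p E) {g : G} (hcop : (orderOf g).Coprime p)
    (hF : g ∈ Subgroup.centralizer (F : Set G)) (hFE : F ≤ E)
    (hEF : ∀ u ∈ E, u⁻¹ * (g * u * g⁻¹) ∈ F) :
    g ∈ Subgroup.centralizer (E : Set G) := by
  rw [Subgroup.mem_centralizer_iff]
  intro u hu
  have hw := hEF u hu
  have hcomm : g * (u⁻¹ * (g * u * g⁻¹)) = (u⁻¹ * (g * u * g⁻¹)) * g :=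
    (Subgroup.mem_centralizer_iff.mp hF _ hw).symm
  exact (commute_of_coprime_of_stable hE hcop hu hcomm (hFE hw)).symm

end HSub

end Cfsg.Agent.Helper1
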