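import Mathlib
import Cfsg.Agent.Helper1.HSubC

set_option autoImplicit false

/-!
`ℋ`-subgroups: the case `(p, d) = (2, 4)`: an odd-order element normalizing a `2`-subgroup `Q`
centralizes every subgroup of order `4` of `Q`.
-/

namespace Cfsg.Agent.Helper1

namespace HSub

universe u

variable {G : Type u} [Group G]

theorem totient_four : Nat.totient 4 = 2 := by decide

set_option maxHeartbeats 800000 in
theorem centralizes_four [Finite G] (hH : HypD 2 4 G) (h8 : 2 ^ 3 ∣ Nat.card G)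
    {Q E : Subgroup G} (hQ : IsPGroup 2 Q) (hEQ : E ≤ Q) (hE4 : Nat.card E = 4) {g : G}
    (hg : g ∈ Subgroup.normalizer (Q : Set G)) (hodd : (orderOf g).Coprime 2) :
    g ∈ Subgroup.centralizer (E : Set G) := by
  classical
  have hEp : IsPGroup 2 E := hQ.to_le hEQ
  have hEH : IsH E := hH E hEp (Or.inl hE4)
  have hgE : g ∈ Subgroup.normalizer (E : Set G) := mem_normalizer_of_isH hQ hEQ hEH hg
  by_cases hEc : IsCyclic E
  · apply mem_centralizer_of_coprime_totient E hEc hgE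
    rw [hE4, totient_four]; exact hodd
  -- non-cyclic case
  obtain ⟨P', hQP'⟩ := hQ.exists_le_sylow
  have hEP' : E ≤ (P' : Subgroup G) := hEQ.trans hQP'
  have h8P : 2 ^ 3 ∣ Nat.card (P' : Subgroup G) := P'.pow_dvd_card_of_pow_dvd_card h8
  -- a subgroup `R₁` of order 8 with `E ≤ R₁ ≤ P'`
  have hcardH₁ : Nat.card (E.subgroupOf (P' : Subgroup G)) = 2 ^ 2 := by
    rw [Nat.card_congr (Subgroup.subgroupOfEquivOfLe hEP').toEquiv, hE4]; norm_num
  obtain ⟨K₁, hK₁card, hK₁⟩ := Sylow.exists_subgroup_card_pow_prime_le 2 h8P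
    (E.subgroupOf (P' : Subgroup G)) hcardH₁ (by norm_num)
  set R₁ : Subgroup G := K₁.map (P' : Subgroup G).subtype with hR₁
  have hR₁P' : R₁ ≤ (P' : Subgroup G) := Subgroup.map_subtype_le K₁
  have hR₁card : Nat.card R₁ = 8 := by
    rw [hR₁, Subgroup.card_map_of_injective (P' : Subgroup G).subtype_injective, hK₁card]; norm_num
  have hER₁ : E ≤ R₁ := by
    intro e he
    exact ⟨⟨e, hEP' he⟩, hK₁ (Subgroup.mem_subgroupOf.mpr he), rfl⟩
  have hR₁p : IsPGroup 2 R₁ := P'.2.to_le hR₁P'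
  -- inside `R₁`
  set E₁ : Subgroup R₁ := E.subgroupOf R₁ with hE₁
  have hE₁card : Nat.card E₁ = 4 := by
    rw [hE₁, Nat.card_congr (Subgroup.subgroupOfEquivOfLe hER₁).toEquiv, hE4]
  have hE₁idx : E₁.index = 2 := by
    have := E₁.card_mul_index
    rw [hE₁card, hR₁card] at this
    omega
  have hE₁co : IsCoatom E₁ := isCoatom_of_index_prime (by rw [hE₁idx]; exact Nat.prime_two)
  have hR₁nc : ¬ IsCyclic R₁ := by
    intro hc
    apply hEc
    haveI : IsCyclic E₁ := Subgroup.isCyclic E₁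
    exact (Subgroup.subgroupOfEquivOfLe hER₁).isCyclic.mp inferInstance
  obtain ⟨E₂, hE₂co, hE₂ne⟩ := exists_ne_coatom_of_not_isCyclic hR₁nc E₁ hE₁co
  have hE₂idx : E₂.index = 2 := IsPGroup.coatom_index hR₁p hE₂co
  have hE₂card : Nat.card E₂ = 4 := by
    have := E₂.card_mul_index
    rw [hE₂idx, hR₁card] at this
    omega
  set E' : Subgroup G := E₂.map R₁.subtype with hE'
  have hE'R₁ : E' ≤ R₁ := Subgroup.map_subtype_le E₂
  have hE'card : Nat.card E' = 4 := by
    rw [hE', Subgroup.card_map_of_injective R₁.subtype_injective, hE₂card]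
  have hE'P' : E' ≤ (P' : Subgroup G) := hE'R₁.trans hR₁P'
  have hE'H : IsH E' := hH E' (P'.2.to_le hE'P') (Or.inl hE'card)
  have hE'sc : Cfsg.IsStronglyClosed E' (P' : Subgroup G) := hE'H.isStronglyClosed hE'P' P'.2
  have hE'sub : E'.subgroupOf R₁ = E₂ := by
    rw [hE']
    exact Subgroup.comap_map_eq_self_of_injective R₁.subtype_injective E₂
  -- `F = E ⊓ E'`
  set F : Subgroup G := E ⊓ E' with hF
  have hFE : F ≤ E := inf_le_left
  have hrel : F.relIndex E = 2 := by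
    have h1 : F.relIndex E = E'.relIndex E := by rw [hF]; exact Subgroup.inf_relIndex_left E E'
    have h2 : E₂.relIndex E₁ = E'.relIndex E := by
      rw [← hE'sub, hE₁]; exact Subgroup.relIndex_subgroupOf hER₁
    have h3 : E₂.relIndex E₁ ≤ 2 := by
      have h4 : E₂.relIndex ⊤ ≠ 0 := by
        rw [Subgroup.relIndex_top_right, hE₂idx]; norm_num
      have := Subgroup.relIndex_le_of_le_right (H := E₂) (le_top : E₁ ≤ ⊤) h4
      rwa [Subgroup.relIndex_top_right, hE₂idx] at this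
    have h5 : E₂.relIndex E₁ ≠ 1 := by
      intro h
      have hle : E₁ ≤ E₂ := Subgroup.relIndex_eq_one.mp h
      rcases eq_or_lt_of_le hle with h6 | h6
      · exact hE₂ne h6.symm
      · exact hE₂co.1 (hE₁co.2 E₂ h6)
    have h6 : E₂.relIndex E₁ ≠ 0 := by
      intro h0
      have h7 : E₂.relIndex E₁ ∣ Nat.card E₁ := Subgroup.relIndex_dvd_card E₂ E₁
      rw [h0, hE₁card] at h7
      omega
    rw [h1, ← h2]; omega
  have hFcard : Nat.card F = 2 := by
    have h1 : (F.subgroupOf E).index = 2 := hrel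
    have h2 := (F.subgroupOf E).card_mul_index
    rw [h1, hE4, Nat.card_congr (Subgroup.subgroupOfEquivOfLe hFE).toEquiv] at h2
    omega
  -- `g` normalizes `F`
  have hginv : g⁻¹ ∈ Subgroup.normalizer (E : Set G) := Subgroup.inv_mem _ hgE
  have hkF : ∀ k : G, k ∈ Subgroup.normalizer (E : Set G) → ∀ t ∈ F, k * t * k⁻¹ ∈ F := by
    intro k hk t ht
    obtain ⟨ht1, ht2⟩ := Subgroup.mem_inf.mp ht
    have h1 : k * t * k⁻¹ ∈ E := (Subgroup.mem_normalizer_iff.mp hk t).mp ht1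
    exact Subgroup.mem_inf.mpr ⟨h1, hE'sc.2 t ht2 k (hEP' h1)⟩
  have hgF : g ∈ Subgroup.normalizer (F : Set G) :=
    mem_normalizer_of_forall_conj_mem (hkF g hgE) (hkF g⁻¹ hginv)
  -- `g` centralizes `F`
  haveI : Fact (Nat.Prime 2) := ⟨Nat.prime_two⟩
  have hFc : IsCyclic F := isCyclic_of_prime_card hFcard
  have hgFc : g ∈ Subgroup.centralizer (F : Set G) := by
    apply mem_centralizer_of_coprime_totient F hFc hgF
    rw [hFcard, Nat.totient_prime Nat.prime_two]; exact Nat.coprime_one_right _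
  -- `g` acts trivially on `E / F`
  obtain ⟨a, haE, ha⟩ := (Subgroup.relIndex_eq_two_iff).mp hrel
  apply centralizes_of_chain hEp hodd hgFc hFE
  intro u hu
  have hv : g * u * g⁻¹ ∈ E := (Subgroup.mem_normalizer_iff.mp hgE u).mp hu
  have hiff : u ∈ F ↔ g * u * g⁻¹ ∈ F := Subgroup.mem_normalizer_iff.mp hgF u
  by_cases huF : u ∈ F
  · exact F.mul_mem (F.inv_mem huF) (hiff.mp huF)
  · have hvF : g * u * g⁻¹ ∉ F := fun h => huF (hiff.mpr h)
    have hu' : u⁻¹ ∉ F := fun h => huF (by simpa using F.inv_mem h)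
    have hv' : (g * u * g⁻¹)⁻¹ ∉ F := fun h => hvF (by simpa using F.inv_mem h)
    have h1 : u⁻¹ * a ∈ F := by
      rcases ha u⁻¹ (E.inv_mem hu) with ⟨h, -⟩ | ⟨h, -⟩
      · exact h
      · exact absurd h hu'
    have h2 : (g * u * g⁻¹)⁻¹ * a ∈ F := by
      rcases ha (g * u * g⁻¹)⁻¹ (E.inv_mem hv) with ⟨h, -⟩ | ⟨h, -⟩
      · exact h
      · exact absurd h hv'
    have e : u⁻¹ * (g * u * g⁻¹) = (u⁻¹ * a) * ((g * u * g⁻¹)⁻¹ * a)⁻¹ := by group
    rw [e]
    exact F.mul_mem h1 (F.inv_mem h2)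

end HSub

end Cfsg.Agent.Helper1
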