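import Mathlib
import Cfsg.Agent.Helper1.HSubD

set_option autoImplicit false

/-!
`ℋ`-subgroups: the direct argument when `d = p` or `(p, d) = (2, 4)`.
-/

namespace Cfsg.Agent.Helper1

namespace HSub

universe u

variable {G : Type u} [Group G]

theorem hasNormalPComplement_of_fix [Finite G] {p : ℕ} [hp : Fact p.Prime]
    (key : ∀ Q : Subgroup G, IsPGroup p Q → ∀ g ∈ Subgroup.normalizer (Q : Set G),
      (orderOf g).Coprime p → ∀ x ∈ Q, (x ^ p = 1 ∨ (p = 2 ∧ x ^ 4 = 1)) → g * x * g⁻¹ = x) :
    Cfsg.HasNormalPComplement p G := by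
  apply frobenius_pcomplement
  intro Q hQ g hg hcopg
  set a : MulAut Q := Q.normalizerMonoidHom ⟨g, hg⟩ with ha
  have ha_apply : ∀ x : Q, ((a x : Q) : G) = g * x * g⁻¹ := fun x => rfl
  have ha_ord : (orderOf a).Coprime p := by
    have h1 : orderOf a ∣ orderOf (⟨g, hg⟩ : Subgroup.normalizer (Q : Set G)) :=
      orderOf_map_dvd _ _
    rw [Subgroup.orderOf_mk] at h1
    exact Nat.Coprime.coprime_dvd_left h1 hcopg
  have ha1 : a = 1 := by
    by_cases hp2 : p = 2
    · subst hp2
      apply Cfsg.Agent.Lead.aut_eq_one_of_fix_order_four hQ a ha_ord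
      intro x hx
      apply Subtype.ext
      rw [ha_apply]
      apply key Q hQ g hg hcopg x x.2 (Or.inr ⟨rfl, ?_⟩)
      have := congrArg Subtype.val hx
      simpa using this
    · apply aut_eq_one_of_fix_order_p hp2 hQ a ha_ord
      intro x hx
      apply Subtype.ext
      rw [ha_apply]
      apply key Q hQ g hg hcopg x x.2 (Or.inl ?_)
      have := congrArg Subtype.val hx
      simpa using this
  have h5 : (⟨g, hg⟩ : Subgroup.normalizer (Q : Set G)) ∈ (Q.normalizerMonoidHom).ker := ha1
  rw [Subgroup.normalizerMonoidHom_ker] at h5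
  exact h5

theorem fix_order_p [Finite G] {p : ℕ} [hp : Fact p.Prime] {d : ℕ} (hd : d = p)
    (hH : HypD p d G) {Q : Subgroup G} (hQ : IsPGroup p Q) {g : G}
    (hg : g ∈ Subgroup.normalizer (Q : Set G)) (hcopg1 : Nat.Coprime (orderOf g) (p - 1))
    {x : G} (hx : x ∈ Q) (hxp : x ^ p = 1) : g * x * g⁻¹ = x := by
  by_cases hx1 : x = 1
  · rw [hx1]; group
  have hord : orderOf x = p := orderOf_eq_prime hxp hx1
  have hCQ : Subgroup.zpowers x ≤ Q := Subgroup.zpowers_le.mpr hx
  have hIH : IsH (Subgroup.zpowers x) :=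
    hH _ (hQ.to_le hCQ) (Or.inl (by rw [Nat.card_zpowers, hord, hd]))
  apply conj_eq_of_isH_zpowers hQ hg hx hIH
  rw [hord, Nat.totient_prime hp.out]
  exact hcopg1

theorem fix_order_four [Finite G] {d : ℕ} (hd : d = 2 ∨ d = 4)
    (hH : HypD 2 d G) {Q : Subgroup G} (hQ : IsPGroup 2 Q) {g : G}
    (hg : g ∈ Subgroup.normalizer (Q : Set G)) (hodd : Nat.Coprime (orderOf g) 2)
    {x : G} (hx : x ∈ Q) (hord : orderOf x = 4) : g * x * g⁻¹ = x := by
  have hCQ : Subgroup.zpowers x ≤ Q := Subgroup.zpowers_le.mpr hx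
  have hcard : Nat.card (Subgroup.zpowers x) = 4 := by rw [Nat.card_zpowers, hord]
  have hIH : IsH (Subgroup.zpowers x) := by
    rcases hd with hd | hd
    · exact hH _ (hQ.to_le hCQ) (Or.inr ⟨hd, hcard⟩)
    · exact hH _ (hQ.to_le hCQ) (Or.inl (by rw [hcard, hd]))
  apply conj_eq_of_isH_zpowers hQ hg hx hIH
  rw [hord, totient_four]
  exact hodd

theorem orderOf_of_pow_four {x : G} (hx : x ^ 4 = 1) :
    x = 1 ∨ orderOf x = 2 ∨ orderOf x = 4 := by
  have h1 : orderOf x ∣ 2 ^ 2 := by
    have := orderOf_dvd_of_pow_eq_one hx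
    norm_num at this ⊢
    exact this
  obtain ⟨k, hk, hkx⟩ := (Nat.dvd_prime_pow Nat.prime_two).mp h1
  interval_cases k
  · left; rwa [pow_zero, orderOf_eq_one_iff] at hkx
  · right; left; simpa using hkx
  · right; right; simpa using hkx

set_option maxHeartbeats 800000 in
theorem caseA [Finite G] {p : ℕ} [hp : Fact p.Prime] (d : ℕ) (hd : d = p ∨ (p = 2 ∧ d = 4))
    (hcop : Nat.Coprime (Nat.card G) (p - 1)) (hdvd : p * d ∣ Nat.card G) (hH : HypD p d G) :
    Cfsg.HasNormalPComplement p G := by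
  apply hasNormalPComplement_of_fix
  intro Q hQ g hg hcopg x hx hxc
  have hgord : orderOf g ∣ Nat.card G := orderOf_dvd_natCard g
  have hcopg1 : Nat.Coprime (orderOf g) (p - 1) := Nat.Coprime.coprime_dvd_left hgord hcop
  rcases hd with hdp | ⟨hp2, hd4⟩
  · rcases hxc with hxp | ⟨hp2, hx4⟩
    · exact fix_order_p hdp hH hQ hg hcopg1 hx hxp
    · subst hp2
      rcases orderOf_of_pow_four hx4 with h1 | h2 | h4
      · rw [h1]; group
      · have hx2 : x ^ 2 = 1 := by rw [← h2]; exact pow_orderOf_eq_one x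
        exact fix_order_p hdp hH hQ hg hcopg1 hx hx2
      · exact fix_order_four (Or.inl hdp) hH hQ hg hcopg hx h4
  · subst hp2
    subst hd4
    have hx4 : x ^ 4 = 1 := by
      rcases hxc with h | ⟨-, h⟩
      · have : x ^ 4 = (x ^ 2) ^ 2 := by rw [← pow_mul]
        rw [this, h, one_pow]
      · exact h
    rcases orderOf_of_pow_four hx4 with h1 | h2 | h4
    · rw [h1]; group
    · -- involution
      by_cases h4Q : 2 ^ 2 ∣ Nat.card Q
      · have hcardH₀ : Nat.card (Subgroup.zpowers (⟨x, hx⟩ : Q)) = 2 ^ 1 := by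
          rw [Nat.card_zpowers, Subgroup.orderOf_mk, h2]; norm_num
        obtain ⟨K, hKcard, hK⟩ := Sylow.exists_subgroup_card_pow_prime_le 2 h4Q
          (Subgroup.zpowers (⟨x, hx⟩ : Q)) hcardH₀ (by norm_num)
        set E : Subgroup G := K.map Q.subtype with hE
        have hEQ : E ≤ Q := Subgroup.map_subtype_le K
        have hE4 : Nat.card E = 4 := by
          rw [hE, Subgroup.card_map_of_injective Q.subtype_injective, hKcard]; norm_num
        have hxE : x ∈ E := ⟨⟨x, hx⟩, hK (Subgroup.mem_zpowers _), rfl⟩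
        have h8 : 2 ^ 3 ∣ Nat.card G := by
          have : (2 : ℕ) ^ 3 = 2 * 4 := by norm_num
          rw [this]; exact hdvd
        have hc := centralizes_four hH h8 hQ hEQ hE4 hg hcopg
        exact conj_eq_of_mem_centralizer hc hxE
      · -- `|Q| ≤ 2`
        obtain ⟨m, hm⟩ := IsPGroup.iff_card.mp hQ
        have hm1 : m ≤ 1 := by
          by_contra hcon
          push Not at hcon
          apply h4Q
          rw [hm]
          exact pow_dvd_pow 2 hcon
        have hcardQ : Nat.card Q ∣ 2 := by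
          rw [hm]
          calc 2 ^ m ∣ 2 ^ 1 := pow_dvd_pow 2 hm1
            _ = 2 := by norm_num
        haveI : Finite Q := inferInstance
        have hQc : IsCyclic Q := isCyclic_of_card_dvd_prime hcardQ
        have htot : Nat.totient (Nat.card Q) = 1 := by
          rcases (Nat.dvd_prime Nat.prime_two).mp hcardQ with h | h
          · rw [h]; exact Nat.totient_one
          · rw [h]; exact Nat.totient_prime Nat.prime_two
        have hc : g ∈ Subgroup.centralizer (Q : Set G) := by
          apply mem_centralizer_of_coprime_totient Q hQc hg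
          rw [htot]; exact Nat.coprime_one_right _
        exact conj_eq_of_mem_centralizer hc hx
    · exact fix_order_four (Or.inr rfl) hH hQ hg hcopg hx h4

end HSub

end Cfsg.Agent.Helper1
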