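import Mathlib
import Cfsg.Agent.Helper1.HSubE

set_option autoImplicit false

/-!
`ℋ`-subgroups: auxiliary lemmas for the main induction.
-/

namespace Cfsg.Agent.Helper1

namespace HSub

universe u

variable {G : Type u} [Group G]

/-- a normal cyclic subgroup of order `p ^ k` (`k ≥ 1`) contains a normal subgroup of order `p` -/
theorem exists_normal_prime_of_cyclic_normal [Finite G] {p : ℕ} [hp : Fact p.Prime] {k : ℕ}
    (hk : 1 ≤ k) (C : Subgroup G) [hCn : C.Normal] (hC : IsCyclic C)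
    (hcard : Nat.card C = p ^ k) :
    ∃ Z : Subgroup G, Z.Normal ∧ Nat.card Z = p ∧ Z ≤ C := by
  obtain ⟨c, hc⟩ := (Subgroup.isCyclic_iff_exists_zpowers_eq_top C).mp hC
  have hordc : orderOf c = p ^ k := by rw [← Nat.card_zpowers, hc, hcard]
  set z : G := c ^ (p ^ (k - 1)) with hz
  have hordz : orderOf z = p := by
    rw [hz, orderOf_pow, hordc]
    have h1 : Nat.gcd (p ^ k) (p ^ (k - 1)) = p ^ (k - 1) :=
      Nat.gcd_eq_right (pow_dvd_pow p (Nat.sub_le k 1))
    rw [h1]
    have h2 : p ^ k = p ^ (k - 1) * p := by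
      rw [← pow_succ]; congr 1; omega
    rw [h2, Nat.mul_div_cancel_left _ (pow_pos hp.out.pos _)]
  have hcC : c ∈ C := by rw [← hc]; exact Subgroup.mem_zpowers c
  refine ⟨Subgroup.zpowers z, ?_, ?_, ?_⟩
  · constructor
    intro n hn g
    obtain ⟨j, rfl⟩ := Subgroup.mem_zpowers_iff.mp hn
    have hgc : g * c * g⁻¹ ∈ Subgroup.zpowers c := by
      rw [hc]; exact hCn.conj_mem c hcC g
    obtain ⟨m, hm⟩ := Subgroup.mem_zpowers_iff.mp hgc
    have h1 : g * z * g⁻¹ = z ^ m := by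
      rw [hz, ← conj_pow, ← hm, ← zpow_natCast, ← zpow_natCast, ← zpow_mul, ← zpow_mul, mul_comm]
    have h2 : g * z ^ j * g⁻¹ = (z ^ m) ^ j := by
      rw [← h1, conj_zpow]
    rw [h2, ← zpow_mul]
    exact Subgroup.zpow_mem_zpowers z _
  · rw [Nat.card_zpowers, hordz]
  · rw [Subgroup.zpowers_le]
    exact C.pow_mem hcC _

theorem prime_pow_eq_two {p j : ℕ} (hp : p.Prime) (h : p ^ j = 2) : p = 2 ∧ j = 1 := by
  have hj : j ≠ 0 := by
    rintro rfl
    simp at h
  have h1 : p ∣ 2 := by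
    rw [← h]; exact dvd_pow_self p hj
  have hp2 : p = 2 := (Nat.prime_dvd_prime_iff_eq hp Nat.prime_two).mp h1
  subst hp2
  refine ⟨rfl, ?_⟩
  have : (2 : ℕ) ^ j = 2 ^ 1 := by rw [h]; norm_num
  exact Nat.pow_right_injective (le_refl 2) this

theorem mem_normalizer_of_conj_le_of_finite {A : Subgroup G} [Finite A] {g : G}
    (h : ∀ y ∈ A, g * y * g⁻¹ ∈ A) : g ∈ Subgroup.normalizer (A : Set G) := by
  classical
  have hmap : A.map (MulAut.conj g).toMonoidHom ≤ A := by
    rintro _ ⟨y, hy, rfl⟩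
    exact h y hy
  have hcard : Nat.card (A.map (MulAut.conj g).toMonoidHom) = Nat.card A :=
    Subgroup.card_map_of_injective (MulAut.conj g).injective
  have heq : A.map (MulAut.conj g).toMonoidHom = A :=
    Subgroup.eq_of_le_of_card_ge hmap (by rw [hcard])
  rw [Subgroup.mem_normalizer_iff]
  intro y
  constructor
  · exact h y
  · intro hy
    rw [← heq] at hy
    obtain ⟨w, hw, hwy⟩ := hy
    have h2 : g * w * g⁻¹ = g * y * g⁻¹ := hwy
    have h3 : w = y := mul_left_cancel (mul_right_cancel h2)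
    rwa [← h3]

end HSub

end Cfsg.Agent.Helper1
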