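import Mathlib
import Cfsg.Agent.Helper1.HSubF
import Cfsg.Agent.Helper1.Basic

set_option autoImplicit false

/-!
`ℋ`-subgroups: the main induction.
-/

namespace Cfsg.Agent.Helper1

namespace HSub

universe u

/-- The case of a normal cyclic subgroup of order `p ^ k`: pass to the quotient by its subgroup of
order `p`. -/
theorem caseB1 {p : ℕ} [hp : Fact p.Prime] {G : Type u} [Group G] [Finite G]
    (IH : ∀ (H : Type u) [Group H] [Finite H], Nat.card H < Nat.card G →
      ∀ k : ℕ, 1 ≤ k → p ^ (k + 1) ∣ Nat.card H →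
      (∀ q : ℕ, q.Prime → q ∣ Nat.card H → p ≤ q) → HypD p (p ^ k) H →
      Cfsg.HasNormalPComplement p H)
    (k : ℕ) (hk2 : 2 ≤ k) (hk22 : ¬ (p = 2 ∧ k = 2)) (hdvd : p ^ (k + 1) ∣ Nat.card G)
    (hmin : ∀ q : ℕ, q.Prime → q ∣ Nat.card G → p ≤ q) (hH : HypD p (p ^ k) G)
    (C : Subgroup G) [hCn : C.Normal] (hC : IsCyclic C) (hCcard : Nat.card C = p ^ k) :
    Cfsg.HasNormalPComplement p G := by
  classical
  have hcop : Nat.Coprime (Nat.card G) (p - 1) := coprime_pred_of_min hp.out hmin
  obtain ⟨Z, hZn, hZcard, hZC⟩ :=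
    exists_normal_prime_of_cyclic_normal (by omega : 1 ≤ k) C hC hCcard
  haveI := hZn
  have hZc : IsCyclic Z := isCyclic_of_prime_card hZcard
  -- every element centralizes `Z`
  have hcen : ∀ x : G, x ∈ Subgroup.centralizer (Z : Set G) := by
    intro x
    have hxn : x ∈ Subgroup.normalizer (Z : Set G) := by
      rw [Subgroup.normalizer_eq_top]; trivial
    apply mem_centralizer_of_coprime_totient Z hZc hxn
    rw [hZcard, Nat.totient_prime hp.out]
    exact Nat.Coprime.coprime_dvd_left (orderOf_dvd_natCard x) hcop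
  apply hasNormalPComplement_of_quotient Z _ (fun x _ => hcen x)
  have hcardG : Nat.card G = Nat.card (G ⧸ Z) * p := by
    rw [Subgroup.card_eq_card_quotient_mul_card_subgroup Z, hZcard]
  have hpos : 0 < Nat.card (G ⧸ Z) := Nat.card_pos
  have hlt : Nat.card (G ⧸ Z) < Nat.card G := by
    rw [hcardG]
    have := hp.out.one_lt
    nlinarith
  have hk1 : k - 1 + 1 = k := by omega
  apply IH (G ⧸ Z) hlt (k - 1) (by omega)
  · rw [hk1]
    have h1 : p ^ k * p ∣ Nat.card (G ⧸ Z) * p := by
      rw [← hcardG, ← pow_succ]; exact hdvd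
    exact Nat.dvd_of_mul_dvd_mul_right hp.out.pos h1
  · intro q hq hqd
    apply hmin q hq
    rw [hcardG]
    exact Dvd.dvd.mul_right hqd p
  · intro Eb hEbp hcard
    have hcard' : Nat.card Eb = p ^ (k - 1) := by
      rcases hcard with h | ⟨h, -⟩
      · exact h
      · exfalso
        obtain ⟨h1, h2⟩ := prime_pow_eq_two hp.out h
        exact hk22 ⟨h1, by omega⟩
    set E : Subgroup G := Eb.comap (QuotientGroup.mk' Z) with hE
    have hZE : Z ≤ E := by
      intro z hz
      rw [hE, Subgroup.mem_comap]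
      have : (QuotientGroup.mk' Z) z = 1 := (QuotientGroup.eq_one_iff z).mpr hz
      rw [this]; exact Eb.one_mem
    have hidx : E.index = Eb.index :=
      Subgroup.index_comap_of_surjective Eb (QuotientGroup.mk'_surjective Z)
    have hEcard : Nat.card E = p ^ k := by
      have h1 := E.card_mul_index
      have h2 := Eb.card_mul_index
      rw [hidx, hcardG, ← h2, hcard'] at h1
      have hidx0 : 0 < Eb.index := Nat.pos_of_ne_zero Subgroup.index_ne_zero_of_finite
      have h3 : Nat.card E * Eb.index = (p ^ (k - 1) * p) * Eb.index := by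
        rw [h1]; ring
      have h4 := Nat.eq_of_mul_eq_mul_right hidx0 h3
      rw [h4, ← pow_succ, hk1]
    have hEp : IsPGroup p E := IsPGroup.of_card hEcard
    have hEH : IsH E := hH E hEp (Or.inl hEcard)
    have hmap : E.map (QuotientGroup.mk' Z) = Eb :=
      Subgroup.map_comap_eq_self_of_surjective (QuotientGroup.mk'_surjective Z) Eb
    rw [← hmap]
    exact hEH.map_mk' Z hZE

end HSub

end Cfsg.Agent.Helper1
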