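import Mathlib
import Cfsg.Agent.Helper1.HSubG

set_option autoImplicit false

/-!
`ℋ`-subgroups: the case without a normal cyclic subgroup of order `p ^ k`, and the main theorem.
-/

namespace Cfsg.Agent.Helper1

namespace HSub

universe u

set_option maxHeartbeats 1600000 in
/-- No normal cyclic subgroup of order `p ^ k`: every maximal subgroup of a Sylow `p`-subgroup is
strongly closed. -/
theorem caseB2 {p : ℕ} [hp : Fact p.Prime] {G : Type u} [Group G] [Finite G]
    (IH : ∀ (H : Type u) [Group H] [Finite H], Nat.card H < Nat.card G →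
      ∀ k : ℕ, 1 ≤ k → p ^ (k + 1) ∣ Nat.card H →
      (∀ q : ℕ, q.Prime → q ∣ Nat.card H → p ≤ q) → HypD p (p ^ k) H →
      Cfsg.HasNormalPComplement p H)
    (k : ℕ) (hk1 : 1 ≤ k) (hdvd : p ^ (k + 1) ∣ Nat.card G)
    (hmin : ∀ q : ℕ, q.Prime → q ∣ Nat.card G → p ≤ q) (hH : HypD p (p ^ k) G)
    (hno : ∀ C : Subgroup G, C.Normal → IsCyclic C → Nat.card C ≠ p ^ k) :
    Cfsg.HasNormalPComplement p G := by
  classical
  have hcop : Nat.Coprime (Nat.card G) (p - 1) := coprime_pred_of_min hp.out hmin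
  obtain ⟨P⟩ : Nonempty (Sylow p G) := inferInstance
  have hPp : IsPGroup p (P : Subgroup G) := P.2
  have hPdvd : p ^ (k + 1) ∣ Nat.card (P : Subgroup G) := P.pow_dvd_card_of_pow_dvd_card hdvd
  apply hasNormalPComplement_of_coatoms_stronglyClosed P hcop
  intro M' hM'
  set M : Subgroup G := M'.map (P : Subgroup G).subtype with hMdef
  have hMP : M ≤ (P : Subgroup G) := Subgroup.map_subtype_le M'
  haveI hM'n : M'.Normal := IsPGroup.coatom_normal hPp hM'
  have hidx' : M'.index = p := IsPGroup.coatom_index hPp hM'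
  have hsub : M.subgroupOf (P : Subgroup G) = M' := by
    rw [hMdef]
    exact Subgroup.comap_map_eq_self_of_injective (P : Subgroup G).subtype_injective M'
  have hMn : (P : Subgroup G) ≤ Subgroup.normalizer (M : Set G) := by
    rw [← Subgroup.normal_subgroupOf_iff_le_normalizer (H := M) (K := (P : Subgroup G)) hMP, hsub]
    exact hM'n
  have hMcard : Nat.card M * p = Nat.card (P : Subgroup G) := by
    rw [hMdef, Subgroup.card_map_of_injective (P : Subgroup G).subtype_injective]
    have := M'.card_mul_index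
    rw [hidx'] at this
    exact this
  have hMdvd : p ^ k ∣ Nat.card M := by
    have h1 : p ^ k * p ∣ Nat.card M * p := by rw [hMcard, ← pow_succ]; exact hPdvd
    exact Nat.dvd_of_mul_dvd_mul_right hp.out.pos h1
  refine ⟨hMP, fun x hx g hgx => ?_⟩
  have hxP : x ∈ (P : Subgroup G) := hMP hx
  obtain ⟨a, ha⟩ := (IsPGroup.iff_orderOf.mp hPp) ⟨x, hxP⟩
  rw [Subgroup.orderOf_mk] at ha
  by_cases hak : a ≤ k
  · -- `x` lies in a subgroup of order `p ^ k` of `M`
    have hcardH₀ : Nat.card (Subgroup.zpowers (⟨x, hx⟩ : M)) = p ^ a := by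
      rw [Nat.card_zpowers, Subgroup.orderOf_mk, ha]
    obtain ⟨K, hKcard, hK⟩ := Sylow.exists_subgroup_card_pow_prime_le p hMdvd
      (Subgroup.zpowers (⟨x, hx⟩ : M)) hcardH₀ hak
    set E : Subgroup G := K.map M.subtype with hE
    have hEM : E ≤ M := Subgroup.map_subtype_le K
    have hEcard : Nat.card E = p ^ k := by
      rw [hE, Subgroup.card_map_of_injective M.subtype_injective, hKcard]
    have hxE : x ∈ E := ⟨⟨x, hx⟩, hK (Subgroup.mem_zpowers _), rfl⟩
    have hEP : E ≤ (P : Subgroup G) := hEM.trans hMP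
    have hEH : IsH E := hH E (hPp.to_le hEP) (Or.inl hEcard)
    exact hEM ((hEH.isStronglyClosed hEP hPp).2 x hxE g hgx)
  · -- `|x| > p ^ k`
    push Not at hak
    set c : G := x ^ (p ^ (a - k)) with hc
    have hordc : orderOf c = p ^ k := by
      rw [hc, orderOf_pow, ha]
      have h1 : Nat.gcd (p ^ a) (p ^ (a - k)) = p ^ (a - k) :=
        Nat.gcd_eq_right (pow_dvd_pow p (Nat.sub_le a k))
      rw [h1]
      have h2 : p ^ a = p ^ (a - k) * p ^ k := by
        rw [← pow_add]; congr 1; omega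
      rw [h2, Nat.mul_div_cancel_left _ (pow_pos hp.out.pos _)]
    set C₀ : Subgroup G := Subgroup.zpowers c with hC₀
    have hcP : c ∈ (P : Subgroup G) := (P : Subgroup G).pow_mem hxP _
    have hC₀P : C₀ ≤ (P : Subgroup G) := Subgroup.zpowers_le.mpr hcP
    have hC₀card : Nat.card C₀ = p ^ k := by rw [hC₀, Nat.card_zpowers, hordc]
    have hC₀H : IsH C₀ := hH C₀ (hPp.to_le hC₀P) (Or.inl hC₀card)
    have hC₀sc := hC₀H.isStronglyClosed hC₀P hPp
    -- `g` normalizes `C₀`
    have hgc : g * c * g⁻¹ ∈ C₀ := by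
      apply hC₀sc.2 c (Subgroup.mem_zpowers c) g
      have : g * c * g⁻¹ = (g * x * g⁻¹) ^ (p ^ (a - k)) := by rw [hc, conj_pow]
      rw [this]
      exact (P : Subgroup G).pow_mem hgx _
    have hgN : g ∈ Subgroup.normalizer (C₀ : Set G) := by
      haveI : Finite C₀ := inferInstance
      apply mem_normalizer_of_conj_le_of_finite
      intro y hy
      obtain ⟨j, rfl⟩ := Subgroup.mem_zpowers_iff.mp hy
      rw [← conj_zpow]
      exact C₀.zpow_mem hgc j
    set L : Subgroup G := Subgroup.normalizer (C₀ : Set G) with hL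
    have hPL : (P : Subgroup G) ≤ L := hC₀H.le_normalizer_of_isPGroup hC₀P hPp
    have hLtop : L ≠ ⊤ := by
      intro htop
      have hn : C₀.Normal := Subgroup.normalizer_eq_top_iff.mp htop
      exact hno C₀ hn (by rw [hC₀]; infer_instance) hC₀card
    have hLlt : Nat.card L < Nat.card G := by
      have := card_lt_card_of_lt (lt_top_iff_ne_top.mpr hLtop)
      rwa [Subgroup.card_top] at this
    have hLdvd : Nat.card L ∣ Nat.card G := Subgroup.card_subgroup_dvd_card L
    have hLnpc : Cfsg.HasNormalPComplement p L := by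
      apply IH L hLlt k hk1
      · exact hPdvd.trans (Subgroup.card_dvd_of_le hPL)
      · intro q hq hqd
        exact hmin q hq (hqd.trans hLdvd)
      · intro E' hE'p hcard
        apply IsH.of_map_subtype
        apply hH _ (hE'p.map _)
        rw [Subgroup.card_map_of_injective L.subtype_injective]
        exact hcard
    have hloc : PLocalCentral p L := plocalCentral_of_hasNormalPComplement hLnpc
    have hxL : x ∈ L := hPL hxP
    have hfus := hloc.controls_fusion (P.subtype hPL) ⟨x, hxL⟩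
      (by
        show (⟨x, hxL⟩ : L) ∈ ((P.subtype hPL : Sylow p L) : Subgroup L)
        rw [Sylow.coe_subtype, Subgroup.mem_subgroupOf]
        exact hxP)
      ⟨g, hgN⟩
      (by
        show (⟨g, hgN⟩ * ⟨x, hxL⟩ * ⟨g, hgN⟩⁻¹ : L) ∈ ((P.subtype hPL : Sylow p L) : Subgroup L)
        rw [Sylow.coe_subtype, Subgroup.mem_subgroupOf]
        exact hgx)
    obtain ⟨u, hu, hux⟩ := hfus
    have huP : (u : G) ∈ (P : Subgroup G) := by
      have h1 : u ∈ ((P.subtype hPL : Sylow p L) : Subgroup L) := hu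
      rw [Sylow.coe_subtype, Subgroup.mem_subgroupOf] at h1
      exact h1
    have hux' : (u : G) * x * (u : G)⁻¹ = g * x * g⁻¹ := by
      have := congrArg Subtype.val hux
      simpa using this
    rw [← hux']
    exact (Subgroup.mem_normalizer_iff.mp (hMn huP) x).mp hx

theorem main_aux {p : ℕ} [hp : Fact p.Prime] : ∀ n : ℕ, ∀ (G : Type u) [Group G] [Finite G],
    Nat.card G = n → ∀ k : ℕ, 1 ≤ k → p ^ (k + 1) ∣ Nat.card G →
    (∀ q : ℕ, q.Prime → q ∣ Nat.card G → p ≤ q) → HypD p (p ^ k) G →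
    Cfsg.HasNormalPComplement p G := by
  intro n
  induction n using Nat.strong_induction_on with
  | _ n ih =>
  intro G _ _ hn k hk1 hdvd hmin hH
  have IH : ∀ (H : Type u) [Group H] [Finite H], Nat.card H < Nat.card G →
      ∀ k : ℕ, 1 ≤ k → p ^ (k + 1) ∣ Nat.card H →
      (∀ q : ℕ, q.Prime → q ∣ Nat.card H → p ≤ q) → HypD p (p ^ k) H →
      Cfsg.HasNormalPComplement p H := by
    intro H _ _ hlt
    exact ih (Nat.card H) (hn ▸ hlt) H rfl
  have hcop : Nat.Coprime (Nat.card G) (p - 1) := coprime_pred_of_min hp.out hmin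
  by_cases hA : k = 1 ∨ (p = 2 ∧ k = 2)
  · apply caseA (p ^ k) _ hcop _ hH
    · rcases hA with h | ⟨h2, hk2⟩
      · left; rw [h, pow_one]
      · right; refine ⟨h2, ?_⟩; rw [h2, hk2]; norm_num
    · rw [← pow_succ']; exact hdvd
  · push Not at hA
    have hk2 : 2 ≤ k := by
      rcases Nat.lt_or_ge k 2 with h | h
      · exfalso; exact hA.1 (by omega)
      · exact h
    have hk22 : ¬ (p = 2 ∧ k = 2) := fun h => hA.2 h.1 h.2
    by_cases hB : ∃ C : Subgroup G, C.Normal ∧ IsCyclic C ∧ Nat.card C = p ^ k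
    · obtain ⟨C, hCn, hC, hCcard⟩ := hB
      haveI := hCn
      exact caseB1 IH k hk2 hk22 hdvd hmin hH C hC hCcard
    · push Not at hB
      exact caseB2 IH k hk1 hdvd hmin hH hB

end HSub

end Cfsg.Agent.Helper1
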