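import Mathlib
import Cfsg.Agent.Helper1.HSubH

set_option autoImplicit false

/-!
`ℋ`-subgroups: a `p`-nilpotency criterion (`p` the smallest prime divisor of `|G|`).
-/

namespace Cfsg.Agent.Helper1

namespace HSub

universe u

open scoped Pointwise

theorem main {G : Type u} [Group G] [Finite G] {p : ℕ} [hp : Fact p.Prime]
    (hdiv : p ∣ Nat.card G)
    (hmin : ∀ q : ℕ, q.Prime → q ∣ Nat.card G → p ≤ q) (P : Sylow p G)
    (h : IsCyclic ↥(P : Subgroup G) ∨ ∃ D : Subgroup G, D ≤ (P : Subgroup G) ∧ 1 < Nat.card D ∧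
      Nat.card D < Nat.card (P : Subgroup G) ∧
      ∀ E : Subgroup G, E ≤ (P : Subgroup G) →
        (Nat.card E = Nat.card D ∨ (Nat.card D = 2 ∧ Nat.card E = 4)) →
        ∀ g : G, E.map (MulAut.conj g).toMonoidHom ⊓ Subgroup.normalizer (E : Set G) ≤ E) :
    Cfsg.HasNormalPComplement p G := by
  classical
  rcases h with hcyc | ⟨D, hDP, hD1, hDlt, hall⟩
  · -- cyclic Sylow subgroup for the smallest prime
    have hcard1 : Nat.card G ≠ 1 := by
      intro h1
      rw [h1] at hdiv
      exact hp.out.one_lt.ne' (Nat.dvd_one.mp hdiv)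
    have hmf : (Nat.card G).minFac = p := by
      apply le_antisymm
      · exact Nat.minFac_le_of_dvd hp.out.two_le hdiv
      · exact hmin _ (Nat.minFac_prime hcard1) (Nat.minFac_dvd _)
    exact ⟨P, _, inferInstance, IsCyclic.isComplement' hmf hcyc⟩
  · have hPp : IsPGroup p (P : Subgroup G) := P.2
    obtain ⟨k, hk⟩ := IsPGroup.iff_card.mp (hPp.to_le hDP)
    obtain ⟨m, hm⟩ := IsPGroup.iff_card.mp hPp
    have hk1 : 1 ≤ k := by
      rcases Nat.eq_zero_or_pos k with h0 | h0
      · rw [h0, pow_zero] at hk; omega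
      · exact h0
    have hkm : k + 1 ≤ m := by
      rw [hk, hm] at hDlt
      have := (Nat.pow_lt_pow_iff_right hp.out.one_lt).mp hDlt
      omega
    have hdvd : p ^ (k + 1) ∣ Nat.card G := by
      have h1 : p ^ (k + 1) ∣ Nat.card (P : Subgroup G) := by
        rw [hm]; exact pow_dvd_pow p hkm
      exact h1.trans (Subgroup.card_subgroup_dvd_card _)
    apply main_aux (Nat.card G) G rfl k hk1 hdvd hmin
    intro E hEp hcard
    obtain ⟨P', hEP'⟩ := hEp.exists_le_sylow
    obtain ⟨g, hg⟩ := MulAction.exists_smul_eq G P' P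
    -- `E' = g E g⁻¹ ≤ P`
    set E' : Subgroup G := E.map (MulAut.conj g).toMonoidHom with hE'
    have hE'P : E' ≤ (P : Subgroup G) := by
      rintro _ ⟨e, he, rfl⟩
      have h1 : e ∈ (P' : Subgroup G) := hEP' he
      have h2 : ((g • P' : Sylow p G) : Subgroup G) = MulAut.conj g • (P' : Subgroup G) :=
        Sylow.coe_subgroup_smul
      rw [← hg, h2]
      exact Subgroup.smul_mem_pointwise_smul e (MulAut.conj g) _ h1
    have hE'card : Nat.card E' = Nat.card E :=
      Subgroup.card_map_of_injective (MulAut.conj g).injective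
    have hE'H : IsH E' := by
      intro g'
      apply hall E' hE'P
      rw [hE'card, hk]
      rcases hcard with h | ⟨h1, h2⟩
      · exact Or.inl h
      · exact Or.inr ⟨h1, h2⟩
    have hback : E = E'.map (MulAut.conj g⁻¹).toMonoidHom := by
      rw [hE', Subgroup.map_map]
      have : (MulAut.conj g⁻¹).toMonoidHom.comp (MulAut.conj g).toMonoidHom = MonoidHom.id G := by
        ext y
        show g⁻¹ * (g * y * g⁻¹) * g⁻¹⁻¹ = y
        group
      rw [this, Subgroup.map_id]
    rw [hback]
    exact hE'H.conj g⁻¹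

end HSub

end Cfsg.Agent.Helper1
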