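import Mathlib
import Cfsg.Prelude.Def_SolvableStructure
import Cfsg.Agent.Helper1.Huppert3

set_option autoImplicit false

/-!
Huppert: a finite group all of whose maximal subgroups have prime index is supersolvable.
-/

namespace Cfsg.Agent.Helper1

open scoped commutatorElement
open Cfsg.Agent.Helper3.IrrCyclic

universe u

set_option maxHeartbeats 1000000 in
theorem huppert_aux : ∀ (n : ℕ) (G : Type u) [Group G] [Finite G], Nat.card G = n →
    (∀ M : Subgroup G, IsCoatom M → M.index.Prime) → Cfsg.IsSupersolvable G := by
  intro n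
  induction n using Nat.strong_induction_on with
  | _ n ih =>
    intro G _ _ hn hmax
    rcases subsingleton_or_nontrivial G with hsub | hnt
    · exact isSupersolvable_of_subsingleton
    have hcard1 : Nat.card G ≠ 1 := by
      have := Finite.one_lt_card (α := G)
      omega
    obtain ⟨p, hpp, hpdvd, hpmax⟩ := exists_max_prime_dvd (m := Nat.card G) Nat.card_pos.ne' hcard1
    haveI : Fact p.Prime := ⟨hpp⟩
    obtain ⟨P⟩ : Nonempty (Sylow p G) := inferInstance
    -- P is normal
    have hPn : (P : Subgroup G).Normal := by
      by_contra hnot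
      have hne : Subgroup.normalizer ((P : Subgroup G) : Set G) ≠ ⊤ :=
        fun h => hnot (Subgroup.normalizer_eq_top_iff.1 h)
      obtain ⟨M, hM, hNM⟩ := (eq_top_or_exists_le_coatom _).resolve_left hne
      have hq := hmax M hM
      have hmod := Cfsg.Agent.Helper4.index_modEq_one_of_normalizer_le P M hNM
      have hqdvd : M.index ∣ Nat.card G := Subgroup.index_dvd_card M
      have hqle := hpmax _ hq hqdvd
      have h2 := hq.two_le
      have h2p := hpp.two_le
      unfold Nat.ModEq at hmod
      rcases Nat.lt_or_ge M.index p with hlt | hge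
      · rw [Nat.mod_eq_of_lt hlt, Nat.mod_eq_of_lt hpp.one_lt] at hmod; omega
      · have : M.index = p := le_antisymm hqle hge
        rw [this, Nat.mod_self, Nat.mod_eq_of_lt hpp.one_lt] at hmod; omega
    haveI := hPn
    have hP1 : (P : Subgroup G) ≠ ⊥ := P.ne_bot_of_dvd_card hpdvd
    -- a minimal normal subgroup inside P
    let 𝒮 : Set (Subgroup G) := {N | N.Normal ∧ N ≠ ⊥ ∧ N ≤ (P : Subgroup G)}
    have hP𝒮 : (P : Subgroup G) ∈ 𝒮 := ⟨hPn, hP1, le_rfl⟩
    obtain ⟨N, -, hNmin⟩ := (Set.toFinite 𝒮).exists_le_minimal hP𝒮
    obtain ⟨hNn, hN1, hNP⟩ : N ∈ 𝒮 := hNmin.prop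
    haveI := hNn
    have hNmin' : ∀ M : Subgroup G, M.Normal → M ≤ N → M = ⊥ ∨ M = N := by
      intro M hMn hMN
      by_cases h : M = ⊥
      · left; exact h
      · right; exact le_antisymm hMN (hNmin.2 ⟨hMn, h, hMN.trans hNP⟩ hMN)
    have hPp : IsPGroup p (P : Subgroup G) := P.isPGroup'
    obtain ⟨x₀, hx₀N, hx₀o, hx₀c⟩ := Cfsg.Agent.Helper5.exists_orderOf_eq_prime_central (p := p)
      (P : Subgroup G) N hPp hNP hN1 (by rw [Subgroup.normalizer_eq_top]; exact le_top)
    have hx₀1 : x₀ ≠ 1 := by
      intro h
      rw [h, orderOf_one] at hx₀o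
      exact hpp.one_lt.ne hx₀o
    -- N is central in P
    have hNcen : N ≤ Subgroup.centralizer ((P : Subgroup G) : Set G) := by
      have hn : (N ⊓ Subgroup.centralizer ((P : Subgroup G) : Set G)).Normal := inferInstance
      rcases hNmin' _ hn inf_le_left with h | h
      · exfalso
        have : x₀ ∈ N ⊓ Subgroup.centralizer ((P : Subgroup G) : Set G) :=
          ⟨hx₀N, Subgroup.mem_centralizer_iff.2 (fun t ht => hx₀c t ht)⟩
        rw [h, Subgroup.mem_bot] at this
        exact hx₀1 this
      · rw [← h]; exact inf_le_right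
    have hNcomm : ∀ x ∈ N, ∀ y ∈ N, x * y = y * x := fun x hx y hy =>
      (Subgroup.mem_centralizer_iff.1 (hNcen hx) y (hNP hy)).symm
    -- N is elementary abelian
    have hNel : Cfsg.IsElementaryAbelian p N := by
      refine ⟨⟨⟨fun x y => Subtype.ext (hNcomm x x.2 y y.2)⟩⟩, ?_⟩
      let Ω : Subgroup G :=
        { carrier := {x | x ∈ N ∧ x ^ p = 1}
          one_mem' := ⟨N.one_mem, one_pow p⟩
          mul_mem' := by
            rintro x y ⟨hx, hxp⟩ ⟨hy, hyp⟩
            refine ⟨N.mul_mem hx hy, ?_⟩
            rw [(show Commute x y from hNcomm x hx y hy).mul_pow, hxp, hyp, one_mul]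
          inv_mem' := by
            rintro x ⟨hx, hxp⟩
            exact ⟨N.inv_mem hx, by rw [inv_pow, hxp, inv_one]⟩ }
      have hΩn : Ω.Normal := by
        constructor
        rintro x ⟨hx, hxp⟩ g
        refine ⟨hNn.conj_mem x hx g, ?_⟩
        rw [conj_pow, hxp, mul_one, mul_inv_cancel]
      rcases hNmin' Ω hΩn (fun x hx => hx.1) with h | h
      · exfalso
        have : x₀ ∈ Ω := ⟨hx₀N, by rw [← hx₀o]; exact pow_orderOf_eq_one x₀⟩
        rw [h, Subgroup.mem_bot] at this
        exact hx₀1 this
      · intro a ha
        have : a ∈ Ω := by rw [h]; exact ha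
        exact this.2
    -- the quotient is supersolvable
    have hGN : Cfsg.IsSupersolvable (G ⧸ N) := by
      apply ih _ (hn ▸ card_quotient_lt N hN1) (G ⧸ N) rfl
      intro Mbar hMbar
      have h1 := Cfsg.Agent.Helper4.isCoatom_comap_of_surjective (QuotientGroup.mk' N)
        (QuotientGroup.mk'_surjective N) Mbar hMbar
      have h2 := hmax _ h1
      rwa [Subgroup.index_comap_of_surjective _ (QuotientGroup.mk'_surjective N)] at h2
    -- |N| = p
    have hNcard : Nat.card N = p := by
      by_cases hfr : ∀ M : Subgroup G, IsCoatom M → N ≤ M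
      · have hNfr : N ≤ frattini G := by
          unfold frattini Order.radical
          exact le_iInf₂ (fun M hM => hfr M hM)
        exact huppert_frattini_case P N hNP hN1 hNmin' hNcen hNel hNfr hGN
      · rw [not_forall] at hfr
        obtain ⟨M, hfr⟩ := hfr
        rw [Classical.not_imp] at hfr
        obtain ⟨hM, hNM⟩ := hfr
        have hsup : M ⊔ N = ⊤ := by
          apply hM.2
          apply lt_of_le_of_ne le_sup_left
          intro h
          apply hNM
          rw [h]; exact le_sup_right
        have hn : (N ⊓ M).Normal := by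
          apply normal_of_sup_le_normalizer hsup
          · apply le_normalizer_inf _ Subgroup.le_normalizer
            rw [Subgroup.normalizer_eq_top]; exact le_top
          · intro u hu
            apply mem_normalizer_of_conj_le
            intro x hx
            have : u * x * u⁻¹ = x := by
              rw [hNcomm u hu x hx.1]; group
            rw [this]; exact hx
        rcases hNmin' _ hn inf_le_left with h | h
        · have hcard := card_sup_of_disjoint_normal M N (by rw [inf_comm]; exact h)
          rw [hsup, Subgroup.card_top] at hcard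
          have h3 := Subgroup.card_mul_index M
          have h4 : Nat.card N = M.index :=
            Nat.eq_of_mul_eq_mul_left Nat.card_pos (hcard.symm.trans h3.symm)
          have hq := hmax M hM
          rw [← h4] at hq
          obtain ⟨k, hk⟩ := (hPp.to_le hNP).exists_card_eq
          rw [hk] at hq
          have hk1 : k = 1 := by
            by_contra hne
            exact (Nat.Prime.not_prime_pow' hne) hq
          rw [hk, hk1, pow_one]
        · exfalso
          apply hNM
          rw [← h]; exact inf_le_right
    haveI : IsCyclic N := isCyclic_of_prime_card hNcard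
    exact isSupersolvable_of_cyclic_normal N hGN

/-- **Huppert.** -/
theorem huppert {G : Type u} [Group G] [Finite G]
    (h : ∀ M : Subgroup G, IsCoatom M → M.index.Prime) : Cfsg.IsSupersolvable G :=
  huppert_aux _ G rfl h

end Cfsg.Agent.Helper1
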