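import Mathlib
import Cfsg.Agent.Helper1.HSubI
import Cfsg.Agent.Helper1.Huppert4
import Cfsg.Agent.Helper1.MinNormal

set_option autoImplicit false

/-!
# S3032, part A: basic lemmas.
-/

namespace Cfsg.Agent.Helper1.HSup

open Cfsg.Agent.Helper1 Cfsg.Agent.Helper1.HSub

universe u

variable {G : Type u} [Group G]

/-- an `ℋ`-subgroup inside a normal `p`-subgroup is normal -/
theorem normal_of_isH [Finite G] {p : ℕ} [Fact p.Prime] {F R : Subgroup G} [hRn : R.Normal]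
    (hF : IsH F) (hFR : F ≤ R) (hR : IsPGroup p R) : F.Normal := by
  constructor
  intro x hx g
  have h1 : g * x * g⁻¹ ∈ R := hRn.conj_mem x (hFR hx) g
  exact hF.conj_mem hx (hF.le_normalizer_of_isPGroup hFR hR h1)

/-- a minimal normal subgroup below a nontrivial normal subgroup -/
theorem exists_minimal_normal_le [Finite G] (P : Subgroup G) [hPn : P.Normal] (hP1 : P ≠ ⊥) :
    ∃ N : Subgroup G, N.Normal ∧ N ≠ ⊥ ∧ N ≤ P ∧
      ∀ M : Subgroup G, M.Normal → M ≤ N → M = ⊥ ∨ M = N := by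
  let 𝒮 : Set (Subgroup G) := {N | N.Normal ∧ N ≠ ⊥ ∧ N ≤ P}
  have hP𝒮 : P ∈ 𝒮 := ⟨hPn, hP1, le_rfl⟩
  obtain ⟨N, -, hNmin⟩ := (Set.toFinite 𝒮).exists_le_minimal hP𝒮
  obtain ⟨hNn, hN1, hNP⟩ : N ∈ 𝒮 := hNmin.prop
  refine ⟨N, hNn, hN1, hNP, ?_⟩
  intro M hMn hMN
  by_cases h : M = ⊥
  · left; exact h
  · right; exact le_antisymm hMN (hNmin.2 ⟨hMn, h, hMN.trans hNP⟩ hMN)

/-- a minimal normal subgroup of `G` inside a normal `p`-subgroup `P` is central in `P` and
elementary abelian -/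
theorem minimal_normal_central [Finite G] {p : ℕ} [hp : Fact p.Prime] (P N : Subgroup G)
    [hPn : P.Normal] [hNn : N.Normal] (hPp : IsPGroup p P) (hNP : N ≤ P) (hN1 : N ≠ ⊥)
    (hNmin : ∀ M : Subgroup G, M.Normal → M ≤ N → M = ⊥ ∨ M = N) :
    N ≤ Subgroup.centralizer (P : Set G) ∧ Cfsg.IsElementaryAbelian p N := by
  obtain ⟨x₀, hx₀N, hx₀o, hx₀c⟩ := Cfsg.Agent.Helper5.exists_orderOf_eq_prime_central (p := p)
    P N hPp hNP hN1 (by rw [Subgroup.normalizer_eq_top]; exact le_top)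
  have hpp : p.Prime := hp.out
  have hx₀1 : x₀ ≠ 1 := by
    intro h
    rw [h, orderOf_one] at hx₀o
    exact hpp.one_lt.ne hx₀o
  have hNcen : N ≤ Subgroup.centralizer (P : Set G) := by
    have hn : (N ⊓ Subgroup.centralizer (P : Set G)).Normal := inferInstance
    rcases hNmin _ hn inf_le_left with h | h
    · exfalso
      have : x₀ ∈ N ⊓ Subgroup.centralizer (P : Set G) :=
        ⟨hx₀N, Subgroup.mem_centralizer_iff.2 (fun t ht => hx₀c t ht)⟩
      rw [h, Subgroup.mem_bot] at this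
      exact hx₀1 this
    · rw [← h]; exact inf_le_right
  have hNcomm : ∀ x ∈ N, ∀ y ∈ N, x * y = y * x := fun x hx y hy =>
    (Subgroup.mem_centralizer_iff.1 (hNcen hx) y (hNP hy)).symm
  refine ⟨hNcen, ⟨⟨fun x y => Subtype.ext (hNcomm x x.2 y y.2)⟩⟩, ?_⟩
  let Ω : Subgroup G :=
    { carrier := {x | x ∈ N ∧ x ^ p = 1}
      one_mem' := ⟨N.one_mem, one_pow p⟩
      mul_mem' := by
        rintro x y ⟨hx, hxp⟩ ⟨hy, hyp⟩
        refine ⟨N.mul_mem hx hy, ?_⟩
        rw [(show Commute x y from hNcomm x hx y hy).mul_pow, hxp, hyp, one_mul]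
      inv_mem' := by
        rintro x ⟨hx, hxp⟩
        exact ⟨N.inv_mem hx, by rw [inv_pow, hxp, inv_one]⟩ }
  have hΩn : Ω.Normal := by
    constructor
    rintro x ⟨hx, hxp⟩ g
    refine ⟨hNn.conj_mem x hx g, ?_⟩
    rw [conj_pow, hxp, mul_one, mul_inv_cancel]
  rcases hNmin Ω hΩn (fun x hx => hx.1) with h | h
  · exfalso
    have : x₀ ∈ Ω := ⟨hx₀N, by rw [← hx₀o]; exact pow_orderOf_eq_one x₀⟩
    rw [h, Subgroup.mem_bot] at this
    exact hx₀1 this
  · intro a ha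
    have : a ∈ Ω := by rw [h]; exact ha
    exact this.2

/-- the order of a product `H K` with `H` normalizing `K` and `H ∩ K = 1` -/
theorem card_sup_of_le_normalizer (H K : Subgroup G)
    (hHK : H ≤ Subgroup.normalizer (K : Set G)) (h : H ⊓ K = ⊥) :
    Nat.card (H ⊔ K : Subgroup G) = Nat.card H * Nat.card K := by
  set L := Subgroup.normalizer (K : Set G) with hL
  have hKL : K ≤ L := Subgroup.le_normalizer
  haveI : (K.subgroupOf L).Normal := Subgroup.normal_in_normalizer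
  have h1 : H.subgroupOf L ⊓ K.subgroupOf L = ⊥ := by
    rw [eq_bot_iff]
    intro x hx
    have hx' : (x : G) ∈ H ⊓ K := ⟨hx.1, hx.2⟩
    rw [h, Subgroup.mem_bot] at hx'
    rw [Subgroup.mem_bot]
    exact Subtype.ext hx'
  have h2 := card_sup_of_disjoint_normal (H.subgroupOf L) (K.subgroupOf L) h1
  rw [← Subgroup.subgroupOf_sup hHK hKL] at h2
  rw [Nat.card_congr (Subgroup.subgroupOfEquivOfLe (sup_le hHK hKL)).toEquiv,
    Nat.card_congr (Subgroup.subgroupOfEquivOfLe hHK).toEquiv,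
    Nat.card_congr (Subgroup.subgroupOfEquivOfLe hKL).toEquiv] at h2
  exact h2

end Cfsg.Agent.Helper1.HSup
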