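import Mathlib
import Cfsg.Agent.Helper1.HSupA

set_option autoImplicit false

/-!
# S3032, part B: a supersolvability criterion (`Lemma U`).

`P ⊴ G` a `p`-group, `C ⊴ G` with `G/C` abelian of exponent dividing `p - 1` and `C / C_C(P)` a
`p`-group, `G/P` supersolvable: then `G` is supersolvable.
-/

namespace Cfsg.Agent.Helper1.HSup

open Cfsg.Agent.Helper1 Cfsg.Agent.Helper1.HSub

open scoped commutatorElement

universe u

variable {G : Type u} [Group G]

/-- a normal subgroup inducing a `p`-group of automorphisms on a nontrivial normal `p`-subgroup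
`N` fixes a nonidentity element of `N` -/
theorem exists_fixed_of_pAction [Finite G] {p : ℕ} [hp : Fact p.Prime] (N C : Subgroup G)
    [hNn : N.Normal] (hNp : IsPGroup p N) (hN1 : N ≠ ⊥)
    (hC : ∀ c ∈ C, ∃ k : ℕ, c ^ (p ^ k) ∈ Subgroup.centralizer (N : Set G)) :
    ∃ b ∈ N, b ≠ 1 ∧ ∀ c ∈ C, c * b * c⁻¹ = b := by
  classical
  let φ : C →* MulAut N := (MulAut.conjNormal (H := N)).comp C.subtype
  set Q : Subgroup (MulAut N) := φ.range with hQ
  have hφ : ∀ (c : C) (n : N), ((φ c) n : G) = (c : G) * n * (c : G)⁻¹ := fun c n => rfl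
  have hQp : IsPGroup p Q := by
    rintro ⟨q, ⟨c, rfl⟩⟩
    obtain ⟨k, hk⟩ := hC c c.2
    refine ⟨k, ?_⟩
    apply Subtype.ext
    rw [Subgroup.coe_pow]
    show (φ c) ^ (p ^ k) = 1
    rw [← map_pow]
    ext n
    rw [hφ]
    simp only [MulAut.one_apply]
    have h1 := Subgroup.mem_centralizer_iff.1 hk n n.2
    have h2 : ((c ^ (p ^ k) : C) : G) = (c : G) ^ (p ^ k) := by simp
    rw [h2, ← h1]; group
  have hpd : p ∣ Nat.card N := by
    obtain ⟨k, hk⟩ := IsPGroup.iff_card.1 hNp
    have hk0 : k ≠ 0 := by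
      rintro rfl
      rw [pow_zero] at hk
      exact hN1 (Subgroup.card_eq_one.1 hk)
    rw [hk]
    exact dvd_pow_self p hk0
  have h1 : (1 : N) ∈ MulAction.fixedPoints Q N := by
    intro a
    show (a : MulAut N) (1 : N) = 1
    exact map_one _
  obtain ⟨b, hb, hb1⟩ := hQp.exists_fixed_point_of_prime_dvd_card_of_fixed_point N hpd h1
  refine ⟨b, b.2, fun h => hb1 (Subtype.ext h.symm), ?_⟩
  intro c hc
  have h2 := hb ⟨φ ⟨c, hc⟩, ⟨⟨c, hc⟩, rfl⟩⟩
  have h3 : (φ ⟨c, hc⟩) b = b := h2
  have h4 := congrArg Subtype.val h3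
  rw [hφ] at h4
  exact h4

theorem lemmaU {p : ℕ} [hp : Fact p.Prime] : ∀ (n : ℕ) (G : Type u) [Group G] [Finite G],
    Nat.card G = n → ∀ (P C : Subgroup G) [P.Normal] [C.Normal], IsPGroup p P →
    (∀ g h : G, ⁅g, h⁆ ∈ C) → (∀ g : G, g ^ (p - 1) ∈ C) →
    (∀ c ∈ C, ∃ k : ℕ, c ^ (p ^ k) ∈ Subgroup.centralizer (P : Set G)) →
    Cfsg.IsSupersolvable (G ⧸ P) → Cfsg.IsSupersolvable G := by
  intro n
  induction n using Nat.strong_induction_on with
  | _ n ih =>
    intro G _ _ hn P C hPn hCn hPp hcomm hpow hcen hGP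
    by_cases hP1 : P = ⊥
    · subst hP1
      exact isSupersolvable_of_surjective hGP (QuotientGroup.quotientBot (G := G)).toMonoidHom
        (QuotientGroup.quotientBot (G := G)).surjective
    obtain ⟨N, hNn, hN1, hNP, hNmin⟩ := exists_minimal_normal_le P hP1
    haveI := hNn
    obtain ⟨hNcen, hNel⟩ := minimal_normal_central P N hPp hNP hN1 hNmin
    -- `C` centralizes `N`
    have hCN : C ≤ Subgroup.centralizer (N : Set G) := by
      obtain ⟨b, hbN, hb1, hbfix⟩ := exists_fixed_of_pAction N C (hPp.to_le hNP) hN1 (by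
        intro c hc
        obtain ⟨k, hk⟩ := hcen c hc
        exact ⟨k, Subgroup.centralizer_le hNP hk⟩)
      have hn : (N ⊓ Subgroup.centralizer (C : Set G)).Normal := inferInstance
      rcases hNmin _ hn inf_le_left with h | h
      · exfalso
        have : b ∈ N ⊓ Subgroup.centralizer (C : Set G) := by
          refine ⟨hbN, ?_⟩
          show b ∈ Subgroup.centralizer (C : Set G)
          rw [Subgroup.mem_centralizer_iff]
          intro c hc
          have := hbfix c hc
          calc c * b = (c * b * c⁻¹) * c := by group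
            _ = b * c := by rw [this]
        rw [h, Subgroup.mem_bot] at this
        exact hb1 this
      · intro c hc
        rw [Subgroup.mem_centralizer_iff]
        intro y hy
        have hy' : y ∈ N ⊓ Subgroup.centralizer (C : Set G) := by rw [h]; exact hy
        exact (Subgroup.mem_centralizer_iff.1 hy'.2 c hc).symm
    have hcard : Nat.card N = p := card_eq_prime_of_minimal_normal N hNel hN1 hNmin
      (fun g h => hCN (hcomm g h)) (fun g => hCN (hpow g))
    have hGN : Cfsg.IsSupersolvable (G ⧸ N) := by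
      have hlt : Nat.card (G ⧸ N) < n := by rw [← hn]; exact card_quotient_lt N hN1
      haveI : (P.map (QuotientGroup.mk' N)).Normal :=
        Subgroup.Normal.map hPn _ (QuotientGroup.mk'_surjective N)
      haveI : (C.map (QuotientGroup.mk' N)).Normal :=
        Subgroup.Normal.map hCn _ (QuotientGroup.mk'_surjective N)
      apply ih _ hlt (G ⧸ N) rfl (P.map (QuotientGroup.mk' N)) (C.map (QuotientGroup.mk' N))
        (hPp.map _)
      · intro gb hb
        obtain ⟨g, rfl⟩ := QuotientGroup.mk'_surjective N gb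
        obtain ⟨h, rfl⟩ := QuotientGroup.mk'_surjective N hb
        rw [← map_commutatorElement]
        exact Subgroup.mem_map_of_mem _ (hcomm g h)
      · intro gb
        obtain ⟨g, rfl⟩ := QuotientGroup.mk'_surjective N gb
        rw [← map_pow]
        exact Subgroup.mem_map_of_mem _ (hpow g)
      · rintro _ ⟨c, hc, rfl⟩
        obtain ⟨k, hk⟩ := hcen c hc
        refine ⟨k, ?_⟩
        rw [← map_pow, Subgroup.mem_centralizer_iff]
        rintro _ ⟨y, hy, rfl⟩
        have := Subgroup.mem_centralizer_iff.1 hk y hy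
        rw [← map_mul, ← map_mul, this]
      · apply isSupersolvable_of_surjective hGP
          (QuotientGroup.map P (P.map (QuotientGroup.mk' N)) (QuotientGroup.mk' N)
            (Subgroup.le_comap_map _ _))
        intro y
        obtain ⟨yb, rfl⟩ := QuotientGroup.mk_surjective y
        obtain ⟨g, rfl⟩ := QuotientGroup.mk'_surjective N yb
        exact ⟨QuotientGroup.mk g, rfl⟩
    haveI : IsCyclic N := isCyclic_of_prime_card hcard
    exact isSupersolvable_of_cyclic_normal N hGN

end Cfsg.Agent.Helper1.HSup
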