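import Mathlib
import Cfsg.Agent.Helper1.HSupB
import Cfsg.Agent.Helper1.OmegaOdd2
import Cfsg.Agent.Lead.OmegaTwoAut
import Cfsg.Agent.Helper1.Supersolvable4

set_option autoImplicit false

/-!
# S3032, part C: the classical case (all subgroups of order `p`, and `4`, normal).
-/

namespace Cfsg.Agent.Helper1.HSup

open Cfsg.Agent.Helper1 Cfsg.Agent.Helper1.HSub

open scoped commutatorElement

universe u

variable {G : Type u} [Group G]

/-- an element of odd order centralizing all elements of order dividing `4` of a normal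
`2`-subgroup centralizes it -/
theorem mem_centralizer_of_fix_order_four [Finite G] (P : Subgroup G) [hPn : P.Normal]
    (hP : IsPGroup 2 P) (x : G) (hx : (orderOf x).Coprime 2)
    (hfix : ∀ y ∈ P, y ^ 4 = 1 → x * y * x⁻¹ = y) : x ∈ Subgroup.centralizer (P : Set G) := by
  have h1 := Cfsg.Agent.Lead.aut_eq_one_of_fix_order_four hP (MulAut.conjNormal x : MulAut P)
    (Nat.Coprime.coprime_dvd_left (orderOf_map_dvd _ x) hx) (by
      intro g hg
      apply Subtype.ext
      rw [MulAut.conjNormal_apply]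
      apply hfix g g.2
      have := congrArg Subtype.val hg
      simpa using this)
  rw [Subgroup.mem_centralizer_iff]
  intro y hy
  have h2 : ((MulAut.conjNormal x : MulAut P) ⟨y, hy⟩ : G) = y := by rw [h1]; rfl
  rw [MulAut.conjNormal_apply] at h2
  calc y * x = (x * y * x⁻¹) * x := by rw [h2]
    _ = x * y := by group

/-- if all elements of odd order centralize the elements of order dividing `4` of the normal
`2`-subgroup `P` and `G/P` is supersolvable, then `G` is supersolvable -/
theorem isSupersolvable_of_odd_centralizes [Finite G] (P : Subgroup G) [hPn : P.Normal]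
    (hP : IsPGroup 2 P)
    (hfix : ∀ x : G, (orderOf x).Coprime 2 → ∀ y ∈ P, y ^ 4 = 1 → x * y * x⁻¹ = y)
    (hGP : Cfsg.IsSupersolvable (G ⧸ P)) : Cfsg.IsSupersolvable G := by
  haveI : Fact (Nat.Prime 2) := ⟨Nat.prime_two⟩
  apply lemmaU (p := 2) _ G rfl P ⊤ hP (fun _ _ => Subgroup.mem_top _)
    (fun _ => Subgroup.mem_top _) _ hGP
  intro c _
  have hm0 : orderOf c ≠ 0 := (orderOf_pos c).ne'
  obtain ⟨k, m, hm, hcm⟩ := Nat.exists_eq_pow_mul_and_not_dvd hm0 2 (by norm_num)
  refine ⟨k, ?_⟩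
  apply mem_centralizer_of_fix_order_four P hP
  · have h1 : (c ^ (2 ^ k)) ^ m = 1 := by
      rw [← pow_mul, ← hcm, pow_orderOf_eq_one]
    have h2 := orderOf_dvd_of_pow_eq_one h1
    have h3 : m.Coprime 2 := by
      rw [Nat.coprime_comm, Nat.Prime.coprime_iff_not_dvd Nat.prime_two]; exact hm
    exact Nat.Coprime.coprime_dvd_left h2 h3
  · intro y hy hy4
    apply hfix _ _ y hy hy4
    have h1 : (c ^ (2 ^ k)) ^ m = 1 := by
      rw [← pow_mul, ← hcm, pow_orderOf_eq_one]
    have h2 := orderOf_dvd_of_pow_eq_one h1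
    have h3 : m.Coprime 2 := by
      rw [Nat.coprime_comm, Nat.Prime.coprime_iff_not_dvd Nat.prime_two]; exact hm
    exact Nat.Coprime.coprime_dvd_left h2 h3

/-- an element of odd order normalizing a cyclic subgroup of order dividing `4` centralizes it -/
theorem conj_eq_of_odd_of_zpowers_normal [Finite G] {x y : G} (hx : (orderOf x).Coprime 2)
    (hy4 : y ^ 4 = 1) (hn : (Subgroup.zpowers y).Normal) : x * y * x⁻¹ = y := by
  have hn' : x ∈ Subgroup.normalizer ((Subgroup.zpowers y : Subgroup G) : Set G) := by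
    rw [Subgroup.normalizer_eq_top]; exact Subgroup.mem_top x
  have hdvd : orderOf y ∣ 4 := orderOf_dvd_of_pow_eq_one hy4
  have hcop : Nat.Coprime (orderOf x) (Nat.totient (Nat.card (Subgroup.zpowers y))) := by
    rw [Nat.card_zpowers]
    have h4 : (4 : ℕ) = 2 ^ 2 := by norm_num
    rw [h4] at hdvd
    obtain ⟨j, hj, hjo⟩ := (Nat.dvd_prime_pow Nat.prime_two).1 hdvd
    rw [hjo]
    interval_cases j
    · simp
    · simp
    · have : Nat.totient (2 ^ 2) = 2 := by decide
      rw [this]; exact hx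
  have hc := mem_centralizer_of_coprime_totient (Subgroup.zpowers y) inferInstance hn' hcop
  exact conj_eq_of_mem_centralizer hc (Subgroup.mem_zpowers y)

/-- the classical case for `p = 2` -/
theorem classical_two [Finite G] (P : Subgroup G) [hPn : P.Normal] (hP : IsPGroup 2 P)
    (hd : ∀ F : Subgroup G, F ≤ P → (Nat.card F = 2 ∨ Nat.card F = 4) → F.Normal)
    (hGP : Cfsg.IsSupersolvable (G ⧸ P)) : Cfsg.IsSupersolvable G := by
  apply isSupersolvable_of_odd_centralizes P hP _ hGP
  intro x hx y hy hy4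
  by_cases hy1 : y = 1
  · rw [hy1]; group
  apply conj_eq_of_odd_of_zpowers_normal hx hy4
  apply hd _ (Subgroup.zpowers_le.2 hy)
  rw [Nat.card_zpowers]
  have hdvd : orderOf y ∣ 4 := orderOf_dvd_of_pow_eq_one hy4
  have h4 : (4 : ℕ) = 2 ^ 2 := by norm_num
  rw [h4] at hdvd
  obtain ⟨j, hj, hjo⟩ := (Nat.dvd_prime_pow Nat.prime_two).1 hdvd
  rw [hjo]
  interval_cases j
  · exfalso
    rw [pow_zero, orderOf_eq_one_iff] at hjo
    exact hy1 hjo
  · left; norm_num
  · right; norm_num

/-- the classical case for `p` odd -/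
theorem classical_odd [Finite G] {p : ℕ} [hp : Fact p.Prime] (hp2 : p ≠ 2) (P : Subgroup G)
    [hPn : P.Normal] (hP : IsPGroup p P)
    (hd : ∀ F : Subgroup G, F ≤ P → Nat.card F = p → F.Normal)
    (hGP : Cfsg.IsSupersolvable (G ⧸ P)) : Cfsg.IsSupersolvable G := by
  have hpp : p.Prime := hp.out
  set Ω : Set G := {x | x ∈ P ∧ x ^ p = 1} with hΩ
  set C : Subgroup G := Subgroup.centralizer Ω with hC
  have hΩconj : ∀ x ∈ Ω, ∀ g : G, g * x * g⁻¹ ∈ Ω := by
    rintro x ⟨hx, hxp⟩ g
    exact ⟨hPn.conj_mem x hx g, by rw [conj_pow, hxp, mul_one, mul_inv_cancel]⟩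
  haveI hCn : C.Normal := by
    constructor
    intro c hc g
    rw [hC, Subgroup.mem_centralizer_iff]
    intro x hx
    have h1 := hΩconj x hx g⁻¹
    rw [inv_inv] at h1
    have h2 := Subgroup.mem_centralizer_iff.1 hc _ h1
    calc x * (g * c * g⁻¹) = g * ((g⁻¹ * x * g) * c) * g⁻¹ := by group
      _ = g * (c * (g⁻¹ * x * g)) * g⁻¹ := by rw [h2]
      _ = g * c * g⁻¹ * x := by group
  -- the subgroup generated by an element of `Ω` is normal of order `p` (or trivial)
  have hzn : ∀ x ∈ Ω, x ≠ 1 → (Subgroup.zpowers x).Normal ∧ Nat.card (Subgroup.zpowers x) = p := by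
    rintro x ⟨hx, hxp⟩ hx1
    have ho : orderOf x = p := orderOf_eq_prime hxp hx1
    have hcard : Nat.card (Subgroup.zpowers x) = p := by rw [Nat.card_zpowers, ho]
    exact ⟨hd _ (Subgroup.zpowers_le.2 hx) hcard, hcard⟩
  apply lemmaU (p := p) _ G rfl P C hP _ _ _ hGP
  · intro g h
    rw [hC, Subgroup.mem_centralizer_iff]
    intro x hx
    by_cases hx1 : x = 1
    · rw [hx1]; simp
    obtain ⟨hn, hcard⟩ := hzn x hx hx1
    haveI := hn
    haveI : IsCyclic (Subgroup.zpowers x) := isCyclic_of_prime_card hcard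
    have h1 : ⁅g, h⁆ ∈ commutator G := Subgroup.commutator_mem_commutator
      (Subgroup.mem_top g) (Subgroup.mem_top h)
    have h2 := commutator_le_centralizer_of_cyclic_normal (Subgroup.zpowers x) h1
    exact Subgroup.mem_centralizer_iff.1 h2 x (Subgroup.mem_zpowers x)
  · intro g
    rw [hC, Subgroup.mem_centralizer_iff]
    intro x hx
    by_cases hx1 : x = 1
    · rw [hx1]; simp
    obtain ⟨hn, hcard⟩ := hzn x hx hx1
    haveI := hn
    have h2 := pow_pred_mem_centralizer_of_card_prime (Subgroup.zpowers x) hcard g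
    exact Subgroup.mem_centralizer_iff.1 h2 x (Subgroup.mem_zpowers x)
  · intro c hc
    have hm0 : orderOf c ≠ 0 := (orderOf_pos c).ne'
    obtain ⟨k, m, hm, hcm⟩ := Nat.exists_eq_pow_mul_and_not_dvd hm0 p hpp.ne_one
    refine ⟨k, ?_⟩
    set c' := c ^ (p ^ k) with hc'
    have h1 : c' ^ m = 1 := by
      rw [hc', ← pow_mul, ← hcm, pow_orderOf_eq_one]
    have h3 : m.Coprime p := by
      rw [Nat.coprime_comm, Nat.Prime.coprime_iff_not_dvd hpp]; exact hm
    have hcop : (Nat.card (Subgroup.zpowers c')).Coprime p := by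
      rw [Nat.card_zpowers]
      exact Nat.Coprime.coprime_dvd_left (orderOf_dvd_of_pow_eq_one h1) h3
    have hc'C : c' ∈ C := C.pow_mem hc _
    have hA := centralizes_of_centralizes_order_p_in_centralizer p hp2 P ⊥ (Subgroup.zpowers c')
      hP bot_le ⟨⟨⟨fun a b => by
        have ha : a = 1 := Subtype.ext (Subgroup.mem_bot.1 a.2)
        have hb : b = 1 := Subtype.ext (Subgroup.mem_bot.1 b.2)
        rw [ha, hb]⟩⟩, fun a ha => by rw [Subgroup.mem_bot.1 ha, one_pow]⟩
      (by rw [Subgroup.normalizer_eq_top]; exact le_top) hcop (by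
        intro x hx hxo
        rw [Subgroup.zpowers_le, Subgroup.mem_centralizer_iff]
        intro z hz
        rw [Set.mem_singleton_iff] at hz
        subst hz
        have hzΩ : z ∈ Ω := ⟨hx.1, by rw [← hxo]; exact pow_orderOf_eq_one z⟩
        exact Subgroup.mem_centralizer_iff.1 hc'C z hzΩ)
    exact hA (Subgroup.mem_zpowers c')

end Cfsg.Agent.Helper1.HSup
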