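import Mathlib
import Cfsg.Agent.Helper1.HSupC
import Cfsg.Agent.Helper1.Hall

set_option autoImplicit false

/-!
# S3032, part D: auxiliary lemmas on subgroups of `p`-groups.
-/

namespace Cfsg.Agent.Helper1.HSup

open Cfsg.Agent.Helper1 Cfsg.Agent.Helper1.HSub

universe u

variable {G : Type u} [Group G]

/-- subgroups of all intermediate orders -/
theorem exists_between [Finite G] {p : ℕ} [Fact p.Prime] {P H : Subgroup G} {n j m : ℕ}
    (hP : Nat.card P = p ^ n) (hHP : H ≤ P) (hH : Nat.card H = p ^ j) (hjm : j ≤ m)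
    (hmn : m ≤ n) : ∃ K : Subgroup G, H ≤ K ∧ K ≤ P ∧ Nat.card K = p ^ m := by
  have hdvd : p ^ m ∣ Nat.card P := by rw [hP]; exact pow_dvd_pow p hmn
  have hH' : Nat.card (H.subgroupOf P) = p ^ j := by
    rw [card_subgroupOf_of_le hHP, hH]
  obtain ⟨K', hK', hHK'⟩ :=
    Sylow.exists_subgroup_card_pow_prime_le p hdvd (H.subgroupOf P) hH' hjm
  refine ⟨K'.map P.subtype, ?_, ?_, ?_⟩
  · intro h hh
    exact ⟨⟨h, hHP hh⟩, hHK' (by rw [Subgroup.mem_subgroupOf]; exact hh), rfl⟩
  · rintro _ ⟨k, -, rfl⟩; exact k.2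
  · rw [Subgroup.card_map_of_injective P.subtype_injective]
    exact hK'

/-- subgroups of all smaller orders -/
theorem exists_sub [Finite G] {p : ℕ} [Fact p.Prime] {P : Subgroup G} {n m : ℕ}
    (hP : Nat.card P = p ^ n) (hmn : m ≤ n) : ∃ K : Subgroup G, K ≤ P ∧ Nat.card K = p ^ m := by
  obtain ⟨K, -, hKP, hK⟩ := exists_between (H := ⊥) hP bot_le
    (by rw [Subgroup.card_bot, pow_zero]) (Nat.zero_le m) hmn
  exact ⟨K, hKP, hK⟩

/-- a second maximal subgroup of a non-cyclic `p`-group -/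
theorem exists_other_max [Finite G] {p : ℕ} [hp : Fact p.Prime] {T V : Subgroup G} {k : ℕ}
    (hT : Nat.card T = p ^ (k + 1)) (hnc : ¬ IsCyclic T) (hVT : V ≤ T)
    (hV : Nat.card V = p ^ k) : ∃ W : Subgroup G, W ≤ T ∧ Nat.card W = p ^ k ∧ W ≠ V := by
  have hTp : IsPGroup p T := IsPGroup.of_card hT
  have hpos : 0 < p ^ k := pow_pos hp.out.pos k
  set V' := V.subgroupOf T with hV'
  have hV'card : Nat.card V' = p ^ k := by rw [hV', card_subgroupOf_of_le hVT, hV]
  have hV'idx : V'.index = p := by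
    have := Subgroup.card_mul_index V'
    rw [hV'card, hT, pow_succ] at this
    exact Nat.eq_of_mul_eq_mul_left hpos this
  have hV'co : IsCoatom V' := isCoatom_of_index_prime (by rw [hV'idx]; exact hp.out)
  obtain ⟨E', hE'co, hE'ne⟩ := exists_ne_coatom_of_not_isCyclic hnc V' hV'co
  have hE'idx := IsPGroup.coatom_index hTp hE'co
  have hE'card : Nat.card E' = p ^ k := by
    have := Subgroup.card_mul_index E'
    rw [hE'idx, hT, pow_succ] at this
    exact Nat.eq_of_mul_eq_mul_right hp.out.pos this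
  refine ⟨E'.map T.subtype, ?_, ?_, ?_⟩
  · rintro _ ⟨k, -, rfl⟩; exact k.2
  · rw [Subgroup.card_map_of_injective T.subtype_injective]; exact hE'card
  · intro h
    apply hE'ne
    ext x
    rw [hV', Subgroup.mem_subgroupOf, ← h]
    constructor
    · intro hx; exact ⟨x, hx, rfl⟩
    · rintro ⟨y, hy, hyx⟩
      have : y = x := Subtype.ext hyx
      rw [← this]; exact hy

/-- the order of a product of disjoint subgroups is bounded by the order of the group -/
theorem card_mul_card_le_of_disjoint [Finite G] {T H K : Subgroup G} (hHT : H ≤ T)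
    (hKT : K ≤ T) (h : H ⊓ K = ⊥) : Nat.card H * Nat.card K ≤ Nat.card T := by
  rw [← Nat.card_prod]
  apply Nat.card_le_card_of_injective
    (fun x : H × K => (⟨x.1 * x.2, T.mul_mem (hHT x.1.2) (hKT x.2.2)⟩ : T))
  rintro ⟨a, b⟩ ⟨a', b'⟩ hab
  have h1 : (a : G) * b = a' * b' := congrArg Subtype.val hab
  have h2 : (a' : G)⁻¹ * a = b' * (b : G)⁻¹ := by
    calc (a' : G)⁻¹ * a = (a' : G)⁻¹ * ((a : G) * b) * (b : G)⁻¹ := by group
      _ = (a' : G)⁻¹ * ((a' : G) * b') * (b : G)⁻¹ := by rw [h1]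
      _ = b' * (b : G)⁻¹ := by group
  have h3 : (a' : G)⁻¹ * a ∈ H ⊓ K :=
    ⟨H.mul_mem (H.inv_mem a'.2) a.2, h2 ▸ K.mul_mem b'.2 (K.inv_mem b.2)⟩
  rw [h, Subgroup.mem_bot] at h3
  have ha : a = a' := by
    apply Subtype.ext
    calc (a : G) = a' * ((a' : G)⁻¹ * a) := by group
      _ = a' := by rw [h3, mul_one]
  subst ha
  have hb : (b : G) = b' := mul_left_cancel h1
  exact Prod.ext rfl (Subtype.ext hb)

/-- an elementary abelian group of order at least `p²` is not cyclic -/
theorem not_isCyclic_of_elementary [Finite G] {p : ℕ} [hp : Fact p.Prime] {N : Subgroup G}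
    {a : ℕ} (hN : ∀ x ∈ N, x ^ p = 1) (hcard : Nat.card N = p ^ a) (ha : 2 ≤ a) :
    ¬ IsCyclic N := by
  intro hc
  obtain ⟨g, hg⟩ := hc.exists_generator
  have h1 : orderOf g = Nat.card N := orderOf_eq_card_of_forall_mem_zpowers hg
  have h2 : g ^ p = 1 := by
    apply Subtype.ext
    have := hN g g.2
    simpa using this
  have h3 : orderOf g ∣ p := orderOf_dvd_of_pow_eq_one h2
  rw [h1, hcard] at h3
  have h4 : p ^ a ≤ p := Nat.le_of_dvd hp.out.pos h3
  have h5 : p ^ 2 ≤ p ^ a := Nat.pow_le_pow_right hp.out.pos ha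
  have h6 : p * p ≤ p := by rw [← pow_two]; exact h5.trans h4
  have := hp.out.two_le
  nlinarith

/-- a group containing a non-cyclic subgroup is not cyclic -/
theorem not_isCyclic_of_le {N T : Subgroup G} (hNT : N ≤ T) (hN : ¬ IsCyclic N) :
    ¬ IsCyclic T := by
  intro hT
  apply hN
  haveI := hT
  have : IsCyclic (N.subgroupOf T) := inferInstance
  exact isCyclic_of_surjective (Subgroup.subgroupOfEquivOfLe hNT).toMonoidHom
    (Subgroup.subgroupOfEquivOfLe hNT).surjective

/-- image of a maximal subgroup containing the kernel -/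
theorem isCoatom_map_mk' (N M : Subgroup G) [N.Normal] (hNM : N ≤ M) (hM : IsCoatom M) :
    IsCoatom (M.map (QuotientGroup.mk' N)) := by
  have hcm : (M.map (QuotientGroup.mk' N)).comap (QuotientGroup.mk' N) = M := by
    apply Subgroup.comap_map_eq_self
    rw [QuotientGroup.ker_mk']; exact hNM
  constructor
  · intro h
    apply hM.1
    rw [← hcm, h, Subgroup.comap_top]
  · intro K hK
    have h1 : M ≤ K.comap (QuotientGroup.mk' N) := by
      rw [← hcm]; exact Subgroup.comap_mono hK.le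
    have h2 : M ≠ K.comap (QuotientGroup.mk' N) := by
      intro h
      apply hK.ne
      rw [h, Subgroup.map_comap_eq_self_of_surjective (QuotientGroup.mk'_surjective N)]
    have h3 := hM.2 _ (lt_of_le_of_ne h1 h2)
    rw [← Subgroup.map_comap_eq_self_of_surjective (QuotientGroup.mk'_surjective N) K, h3,
      Subgroup.map_top_of_surjective _ (QuotientGroup.mk'_surjective N)]

end Cfsg.Agent.Helper1.HSup
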