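import Mathlib
import Cfsg.Agent.Helper1.HSupD

set_option autoImplicit false

/-!
# S3032, part E: the cases of the key lemma.
-/

namespace Cfsg.Agent.Helper1.HSup

open Cfsg.Agent.Helper1 Cfsg.Agent.Helper1.HSub

universe u

variable {G : Type u} [Group G]

/-- all subgroups of `P` of order `p ^ k` (and `4`, if `p ^ k = 2`) are normal in `G` -/
def HypN (p : ℕ) (P : Subgroup G) (k : ℕ) : Prop :=
  ∀ F : Subgroup G, F ≤ P → (Nat.card F = p ^ k ∨ (p ^ k = 2 ∧ Nat.card F = 4)) → F.Normal

/-- case `|N| > p ^ k` -/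
theorem case_big [Finite G] {p : ℕ} [hp : Fact p.Prime] {P N : Subgroup G} {k a : ℕ}
    (hNP : N ≤ P) (hNmin : ∀ M : Subgroup G, M.Normal → M ≤ N → M = ⊥ ∨ M = N)
    (hNcard : Nat.card N = p ^ a) (hk : 1 ≤ k) (hka : k < a) (hH : HypN p P k) : False := by
  obtain ⟨F, hFN, hF⟩ := exists_sub hNcard hka.le
  have hFn : F.Normal := hH F (hFN.trans hNP) (Or.inl hF)
  rcases hNmin F hFn hFN with h | h
  · rw [h, Subgroup.card_bot] at hF
    have : 1 < p ^ k := Nat.one_lt_pow (by omega) hp.out.one_lt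
    omega
  · rw [h, hNcard] at hF
    have := Nat.pow_right_injective hp.out.two_le hF
    omega

/-- case `|N| = p ^ k ≥ p ^ 2` -/
theorem case_eq [Finite G] {p : ℕ} [hp : Fact p.Prime] {P N : Subgroup G} {k m : ℕ}
    (hNP : N ≤ P) (hNmin : ∀ M : Subgroup G, M.Normal → M ≤ N → M = ⊥ ∨ M = N)
    [hNn : N.Normal] (hNel : ∀ x ∈ N, x ^ p = 1)
    (hNcard : Nat.card N = p ^ k) (hPcard : Nat.card P = p ^ m) (hk : 2 ≤ k) (hkm : k < m)
    (hH : HypN p P k) : False := by
  obtain ⟨T, hNT, hTP, hT⟩ := exists_between hPcard hNP hNcard (Nat.le_succ k) hkm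
  have hTnc : ¬ IsCyclic T :=
    not_isCyclic_of_le hNT (not_isCyclic_of_elementary hNel hNcard hk)
  obtain ⟨W, hWT, hW, hWN⟩ := exists_other_max hT hTnc hNT hNcard
  have hWn : W.Normal := hH W (hWT.trans hTP) (Or.inl hW)
  have hn : (W ⊓ N).Normal := inferInstance
  rcases hNmin _ hn inf_le_right with h | h
  · have h1 := card_mul_card_le_of_disjoint hWT hNT h
    rw [hW, hNcard, hT, ← pow_add] at h1
    have := (Nat.pow_le_pow_iff_right hp.out.one_lt).1 h1
    omega
  · apply hWN
    symm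
    apply Subgroup.eq_of_le_of_card_ge
    · rw [← h]; exact inf_le_left
    · rw [hW, hNcard]

/-- case `p = 2`, `k = 2`: all subgroups of order `4` are normal -/
theorem case_two_four [Finite G] {P : Subgroup G} [hPn : P.Normal] {m : ℕ}
    (hPcard : Nat.card P = 2 ^ m) (hm : 2 < m) (hH : HypN 2 P 2)
    (hGP : Cfsg.IsSupersolvable (G ⧸ P)) : Cfsg.IsSupersolvable G := by
  haveI : Fact (Nat.Prime 2) := ⟨Nat.prime_two⟩
  have hP : IsPGroup 2 P := IsPGroup.of_card hPcard
  apply isSupersolvable_of_odd_centralizes P hP _ hGP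
  intro x hx y hy hy4
  have hxn : ∀ F : Subgroup G, F.Normal → x ∈ Subgroup.normalizer (F : Set G) := by
    intro F hF
    rw [Subgroup.normalizer_eq_top]; exact Subgroup.mem_top x
  by_cases hy2 : y ^ 2 = 1
  · by_cases hy1 : y = 1
    · rw [hy1]; group
    have hyo : orderOf y = 2 := orderOf_eq_prime hy2 hy1
    have hzc : Nat.card (Subgroup.zpowers y) = 2 ^ 1 := by rw [Nat.card_zpowers, hyo, pow_one]
    obtain ⟨V, hyV, hVP, hV⟩ := exists_between (p := 2) hPcard (Subgroup.zpowers_le.2 hy) hzc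
      (by norm_num : 1 ≤ 2) hm.le
    have hVn : V.Normal := hH V hVP (Or.inl hV)
    have hyV' : y ∈ V := hyV (Subgroup.mem_zpowers y)
    suffices hxV : x ∈ Subgroup.centralizer (V : Set G) from
      conj_eq_of_mem_centralizer hxV hyV'
    by_cases hVc : IsCyclic V
    · apply mem_centralizer_of_coprime_totient V hVc (hxn V hVn)
      rw [hV]
      have : Nat.totient (2 ^ 2) = 2 := by decide
      rw [this]; exact hx
    · obtain ⟨T, hVT, hTP, hT⟩ := exists_between (p := 2) hPcard hVP hV (Nat.le_succ 2) hm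
      have hTnc : ¬ IsCyclic T := not_isCyclic_of_le hVT hVc
      obtain ⟨W, hWT, hW, hWV⟩ := exists_other_max hT hTnc hVT hV
      have hWn : W.Normal := hH W (hWT.trans hTP) (Or.inl hW)
      set Z := W ⊓ V with hZ
      have hZn : Z.Normal := inferInstance
      have hZ1 : Z ≠ ⊥ := by
        intro h
        have h1 := card_mul_card_le_of_disjoint hWT hVT h
        rw [hW, hV, hT] at h1
        norm_num at h1
      have hZV : Z ≠ V := by
        intro h
        apply hWV
        symm
        apply Subgroup.eq_of_le_of_card_ge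
        · rw [← h]; exact inf_le_left
        · rw [hW, hV]
      have hZcard : Nat.card Z = 2 := by
        have h1 : Nat.card Z ∣ 2 ^ 2 := by
          rw [← hV]; exact Subgroup.card_dvd_of_le inf_le_right
        obtain ⟨j, hj, hjc⟩ := (Nat.dvd_prime_pow Nat.prime_two).1 h1
        interval_cases j
        · exfalso
          rw [pow_zero] at hjc
          exact hZ1 (Subgroup.card_eq_one.1 hjc)
        · rw [hjc, pow_one]
        · exfalso
          apply hZV
          apply Subgroup.eq_of_le_of_card_ge inf_le_right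
          rw [hV, hjc]
      have hZc : IsCyclic Z := isCyclic_of_prime_card (p := 2) hZcard
      have hxZ : x ∈ Subgroup.centralizer (Z : Set G) := by
        apply mem_centralizer_of_coprime_totient Z hZc (hxn Z hZn)
        rw [hZcard]
        simp
      have hVp : IsPGroup 2 V := IsPGroup.of_card hV
      apply centralizes_of_chain hVp hx hxZ inf_le_right
      intro u hu
      have hidx : (Z.subgroupOf V).index = 2 := by
        have h1 := relIndex_mul_card_of_le (inf_le_right : Z ≤ V)
        rw [hZcard, hV] at h1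
        have h5 : Z.relIndex V * 2 = 2 * 2 := by rw [h1]; norm_num
        exact Nat.eq_of_mul_eq_mul_right (by norm_num) h5
      have hxu : x * u * x⁻¹ ∈ V := hVn.conj_mem u hu x
      have h2 := Subgroup.mul_mem_iff_of_index_two hidx (a := (⟨u, hu⟩ : V)⁻¹)
        (b := (⟨x * u * x⁻¹, hxu⟩ : V))
      have h3 : ((⟨u, hu⟩ : V)⁻¹ ∈ Z.subgroupOf V ↔ (⟨x * u * x⁻¹, hxu⟩ : V) ∈ Z.subgroupOf V) := by
        rw [Subgroup.inv_mem_iff, Subgroup.mem_subgroupOf, Subgroup.mem_subgroupOf]
        constructor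
        · intro h; exact hZn.conj_mem u h x
        · intro h
          have := hZn.conj_mem _ h x⁻¹
          have e : x⁻¹ * (x * u * x⁻¹) * x⁻¹⁻¹ = u := by group
          rwa [e] at this
      have h4 := h2.2 h3
      rw [Subgroup.mem_subgroupOf] at h4
      exact h4
  · -- `y` has order `4`
    apply conj_eq_of_odd_of_zpowers_normal hx hy4
    apply hH _ (Subgroup.zpowers_le.2 hy)
    left
    rw [Nat.card_zpowers]
    have hdvd : orderOf y ∣ 4 := orderOf_dvd_of_pow_eq_one hy4
    have h4 : (4 : ℕ) = 2 ^ 2 := by norm_num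
    rw [h4] at hdvd
    obtain ⟨j, hj, hjo⟩ := (Nat.dvd_prime_pow Nat.prime_two).1 hdvd
    interval_cases j
    · exfalso
      rw [pow_zero, orderOf_eq_one_iff] at hjo
      apply hy2; rw [hjo, one_pow]
    · exfalso
      apply hy2
      have h2 : orderOf y = 2 := by rw [hjo, pow_one]
      rw [← h2]; exact pow_orderOf_eq_one y
    · exact hjo

/-- the complemented case: a maximal subgroup not containing `N` leads to a contradiction -/
theorem case_compl [Finite G] {p : ℕ} [hp : Fact p.Prime] {P N M : Subgroup G} [hPn : P.Normal]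
    [hNn : N.Normal] {k m a : ℕ} (hNP : N ≤ P)
    (hNmin : ∀ K : Subgroup G, K.Normal → K ≤ N → K = ⊥ ∨ K = N)
    (hNcen : N ≤ Subgroup.centralizer (P : Set G))
    (hNcard : Nat.card N = p ^ a) (hPcard : Nat.card P = p ^ m) (ha : 2 ≤ a) (hak : a < k)
    (hkm : k < m) (hH : HypN p P k) (hM : IsCoatom M) (hNM : ¬ N ≤ M) : False := by
  have hNcomm : ∀ x ∈ N, ∀ y ∈ N, x * y = y * x := fun x hx y hy =>
    (Subgroup.mem_centralizer_iff.1 (hNcen hx) y (hNP hy)).symm
  have hsup : M ⊔ N = ⊤ := by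
    apply hM.2
    apply lt_of_le_of_ne le_sup_left
    intro h
    apply hNM
    rw [h]; exact le_sup_right
  have hn : (N ⊓ M).Normal := by
    apply normal_of_sup_le_normalizer hsup
    · apply le_normalizer_inf _ Subgroup.le_normalizer
      rw [Subgroup.normalizer_eq_top]; exact le_top
    · intro u hu
      apply mem_normalizer_of_conj_le_of_finite
      intro x hx
      have : u * x * u⁻¹ = x := by
        rw [hNcomm u hu x hx.1]; group
      rw [this]; exact hx
  have hNMbot : N ⊓ M = ⊥ := by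
    rcases hNmin _ hn inf_le_left with h | h
    · exact h
    · exfalso; apply hNM; rw [← h]; exact inf_le_right
  -- `P = N (P ∩ M)`
  set Q := P ⊓ M with hQ
  have hPQ : ∀ x ∈ P, ∃ n ∈ N, ∃ q ∈ Q, x = n * q := by
    intro x hx
    have hx' : x ∈ N ⊔ M := by rw [sup_comm, hsup]; exact Subgroup.mem_top x
    obtain ⟨n, hn', q, hq, rfl⟩ := mem_sup_of_le_normalizer (le_normalizer_of_normal M N) hx'
    refine ⟨n, hn', q, ⟨?_, hq⟩, rfl⟩
    have := P.mul_mem (P.inv_mem (hNP hn')) hx
    simpa using this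
  have hQN : Q ⊓ N = ⊥ := by
    rw [eq_bot_iff, ← hNMbot]
    exact le_inf inf_le_right (inf_le_left.trans inf_le_right)
  have hQcard : Nat.card Q = p ^ (m - a) := by
    have h1 := card_sup_of_disjoint_normal Q N hQN
    have h2 : Q ⊔ N = P := by
      apply le_antisymm (sup_le inf_le_left hNP)
      intro x hx
      obtain ⟨n, hn', q, hq, rfl⟩ := hPQ x hx
      exact Subgroup.mul_mem _ (Subgroup.mem_sup_right hn') (Subgroup.mem_sup_left hq)
    rw [h2, hPcard, hNcard] at h1
    have h3 : p ^ m = p ^ (m - a) * p ^ a := by rw [← pow_add]; congr 1; omega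
    rw [h3] at h1
    exact (Nat.eq_of_mul_eq_mul_right (pow_pos hp.out.pos a) h1).symm
  obtain ⟨N₁, hN₁N, hN₁⟩ := exists_sub hNcard (Nat.sub_le a 1)
  obtain ⟨Y, hYQ, hY⟩ := exists_sub (m := k - a + 1) hQcard (by omega)
  have hYP : Y ≤ P := hYQ.trans inf_le_left
  have hYM : Y ≤ M := hYQ.trans inf_le_right
  have hYn : Y ≤ Subgroup.normalizer (N₁ : Set G) := by
    intro y hy
    apply mem_normalizer_of_conj_le_of_finite
    intro x hx
    have h1 := Subgroup.mem_centralizer_iff.1 (hNcen (hN₁N hx)) y (hYP hy)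
    have : y * x * y⁻¹ = x := by rw [h1]; group
    rw [this]; exact hx
  have hYN₁ : Y ⊓ N₁ = ⊥ := by
    rw [eq_bot_iff, ← hNMbot]
    exact le_inf (inf_le_right.trans hN₁N) (inf_le_left.trans hYM)
  set X := Y ⊔ N₁ with hX
  have hXcard : Nat.card X = p ^ k := by
    rw [hX, card_sup_of_le_normalizer Y N₁ hYn hYN₁, hY, hN₁, ← pow_add]
    congr 1; omega
  have hXP : X ≤ P := sup_le hYP (hN₁N.trans hNP)
  have hXn : X.Normal := hH X hXP (Or.inl hXcard)
  have hn2 : (X ⊓ N).Normal := inferInstance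
  have hN₁1 : N₁ ≠ ⊥ := by
    intro h
    rw [h, Subgroup.card_bot] at hN₁
    have : 1 < p ^ (a - 1) := Nat.one_lt_pow (by omega) hp.out.one_lt
    omega
  rcases hNmin _ hn2 inf_le_right with h | h
  · apply hN₁1
    rw [eq_bot_iff, ← h]
    exact le_inf le_sup_right hN₁N
  · -- `N ≤ X`, so `N ≤ N₁`
    have hNN₁ : N ≤ N₁ := by
      intro n hn'
      have hnX : n ∈ N₁ ⊔ Y := by
        rw [sup_comm, ← hX]
        have : n ∈ X ⊓ N := by rw [h]; exact hn'
        exact this.1
      obtain ⟨n₁, hn₁, y, hy, rfl⟩ := mem_sup_of_le_normalizer hYn hnX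
      have hyN : y ∈ N := by
        have := N.mul_mem (N.inv_mem (hN₁N hn₁)) hn'
        simpa using this
      have hy1 : y ∈ N ⊓ M := ⟨hyN, hYM hy⟩
      rw [hNMbot, Subgroup.mem_bot] at hy1
      rw [hy1, mul_one]; exact hn₁
    have h1 := Subgroup.card_le_of_le hNN₁
    rw [hNcard, hN₁] at h1
    have := (Nat.pow_le_pow_iff_right hp.out.one_lt).1 h1
    omega

end Cfsg.Agent.Helper1.HSup
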