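import Mathlib
import Cfsg.Agent.Helper1.HSupE

set_option autoImplicit false

/-!
# S3032, part F: the key lemma.

`P ⊴ G` a `p`-group of order `p ^ m`, all subgroups of `P` of order `p ^ k` (`1 ≤ k < m`; and of
order `4` if `p ^ k = 2`) normal in `G`, `G/P` supersolvable: then `G` is supersolvable.
-/

namespace Cfsg.Agent.Helper1.HSup

open Cfsg.Agent.Helper1 Cfsg.Agent.Helper1.HSub

universe u

set_option maxHeartbeats 1000000 in
theorem keyLemma {p : ℕ} [hp : Fact p.Prime] : ∀ (n : ℕ) (G : Type u) [Group G] [Finite G],
    Nat.card G = n → ∀ (P : Subgroup G) [P.Normal] (k m : ℕ), Nat.card P = p ^ m → 1 ≤ k →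
    k < m → HypN p P k → Cfsg.IsSupersolvable (G ⧸ P) → Cfsg.IsSupersolvable G := by
  intro n
  induction n using Nat.strong_induction_on with
  | _ n ih =>
    intro G _ _ hn P hPn k m hPcard hk hkm hH hGP
    have hpp := hp.out
    have hPp : IsPGroup p P := IsPGroup.of_card hPcard
    by_cases hk1 : k = 1
    · -- the classical case
      subst hk1
      by_cases hp2 : p = 2
      · subst hp2
        apply classical_two P hPp _ hGP
        intro F hFP hF
        apply hH F hFP
        rcases hF with h | h
        · left; rw [h, pow_one]
        · right; exact ⟨by norm_num, h⟩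
      · apply classical_odd hp2 P hPp _ hGP
        intro F hFP hF
        exact hH F hFP (Or.inl (by rw [hF, pow_one]))
    have hk2 : 2 ≤ k := by omega
    have hP1 : P ≠ ⊥ := by
      intro h
      rw [h, Subgroup.card_bot] at hPcard
      have : 1 < p ^ m := Nat.one_lt_pow (by omega) hpp.one_lt
      omega
    obtain ⟨N, hNn, hN1, hNP, hNmin⟩ := exists_minimal_normal_le P hP1
    haveI := hNn
    obtain ⟨hNcen, hNel⟩ := minimal_normal_central P N hPp hNP hN1 hNmin
    obtain ⟨a, ha⟩ := IsPGroup.iff_card.1 (hPp.to_le hNP)
    have ha1 : 1 ≤ a := by
      by_contra h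
      have : a = 0 := by omega
      rw [this, pow_zero] at ha
      exact hN1 (Subgroup.card_eq_one.1 ha)
    rcases lt_trichotomy a k with hak | hak | hak
    · -- `a < k`
      by_cases hsp : p = 2 ∧ k = 2
      · obtain ⟨rfl, rfl⟩ := hsp
        exact case_two_four hPcard hkm hH hGP
      have hGN : Cfsg.IsSupersolvable (G ⧸ N) := by
        have hlt : Nat.card (G ⧸ N) < n := by rw [← hn]; exact card_quotient_lt N hN1
        haveI : (P.map (QuotientGroup.mk' N)).Normal :=
          Subgroup.Normal.map hPn _ (QuotientGroup.mk'_surjective N)
        have hPbcard : Nat.card (P.map (QuotientGroup.mk' N)) = p ^ (m - a) := by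
          have h1 := card_map_mk'_mul_card N P hNP
          rw [hPcard, ha] at h1
          have h3 : p ^ m = p ^ (m - a) * p ^ a := by rw [← pow_add]; congr 1; omega
          rw [h3] at h1
          exact Nat.eq_of_mul_eq_mul_right (pow_pos hpp.pos a) h1
        apply ih _ hlt (G ⧸ N) rfl (P.map (QuotientGroup.mk' N)) (k - a) (m - a) hPbcard
          (by omega) (by omega)
        · intro Fb hFbP hFb
          set F := Fb.comap (QuotientGroup.mk' N) with hF
          have hFcard : Nat.card F = Nat.card Fb * p ^ a := by rw [hF, card_comap_mk', ha]
          have hFP : F ≤ P := by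
            have := Subgroup.comap_mono (f := QuotientGroup.mk' N) hFbP
            rwa [Subgroup.comap_map_eq_self (by rw [QuotientGroup.ker_mk']; exact hNP)] at this
          have hNF : N ≤ F := by
            intro x hx
            rw [hF, Subgroup.mem_comap, QuotientGroup.mk'_apply,
              (QuotientGroup.eq_one_iff x).2 hx]
            exact Fb.one_mem
          have hFn : F.Normal := by
            rcases hFb with h | ⟨h1, h2⟩
            · apply hH F hFP; left
              rw [hFcard, h, ← pow_add]; congr 1; omega
            · obtain ⟨hp2, hka1⟩ := prime_pow_eq_two hpp h1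
              have ha2 : 2 ≤ a := by
                by_contra hcon
                apply hsp
                exact ⟨hp2, by omega⟩
              have hFcard' : Nat.card F = p ^ (k + 1) := by
                rw [hFcard, h2, hp2]
                have : (4 : ℕ) = 2 ^ 2 := by norm_num
                rw [this, ← pow_add]; congr 1; omega
              have hFnc : ¬ IsCyclic F :=
                not_isCyclic_of_le hNF (not_isCyclic_of_elementary hNel.2 ha ha2)
              obtain ⟨M₁, hM₁F, hM₁⟩ := exists_sub hFcard' (Nat.le_succ k)
              obtain ⟨M₂, hM₂F, hM₂, hM₂₁⟩ := exists_other_max hFcard' hFnc hM₁F hM₁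
              have hM₁n : M₁.Normal := hH M₁ (hM₁F.trans hFP) (Or.inl hM₁)
              have hM₂n : M₂.Normal := hH M₂ (hM₂F.trans hFP) (Or.inl hM₂)
              have hsupF : M₁ ⊔ M₂ = F := by
                have hle : M₁ ⊔ M₂ ≤ F := sup_le hM₁F hM₂F
                have hdvd : Nat.card (M₁ ⊔ M₂ : Subgroup G) ∣ p ^ (k + 1) := by
                  rw [← hFcard']; exact Subgroup.card_dvd_of_le hle
                obtain ⟨j, hj, hjc⟩ := (Nat.dvd_prime_pow hpp).1 hdvd
                have hkj : k ≤ j := by
                  have := Subgroup.card_le_of_le (le_sup_left : M₁ ≤ M₁ ⊔ M₂)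
                  rw [hM₁, hjc] at this
                  exact (Nat.pow_le_pow_iff_right hpp.one_lt).1 this
                have hjk : j ≠ k := by
                  intro h
                  apply hM₂₁
                  have h1 : M₁ = M₁ ⊔ M₂ :=
                    Subgroup.eq_of_le_of_card_ge le_sup_left (by rw [hjc, h, hM₁])
                  have h2 : M₂ ≤ M₁ := by rw [h1]; exact le_sup_right
                  exact Subgroup.eq_of_le_of_card_ge h2 (by rw [hM₁, hM₂])
                apply Subgroup.eq_of_le_of_card_ge hle
                rw [hFcard', hjc]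
                have : j = k + 1 := by omega
                rw [this]
              rw [← hsupF]
              infer_instance
          have := Subgroup.Normal.map hFn (QuotientGroup.mk' N) (QuotientGroup.mk'_surjective N)
          rwa [hF, Subgroup.map_comap_eq_self_of_surjective (QuotientGroup.mk'_surjective N)]
            at this
        · apply isSupersolvable_of_surjective hGP
            (QuotientGroup.map P (P.map (QuotientGroup.mk' N)) (QuotientGroup.mk' N)
              (Subgroup.le_comap_map _ _))
          intro y
          obtain ⟨yb, rfl⟩ := QuotientGroup.mk_surjective y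
          obtain ⟨g, rfl⟩ := QuotientGroup.mk'_surjective N yb
          exact ⟨QuotientGroup.mk g, rfl⟩
      by_cases ha2 : a = 1
      · haveI : IsCyclic N := isCyclic_of_prime_card (p := p) (by rw [ha, ha2, pow_one])
        exact isSupersolvable_of_cyclic_normal N hGN
      · apply huppert
        intro M hM
        by_cases hNM : N ≤ M
        · have h1 := isCoatom_map_mk' N M hNM hM
          have h2 := prime_index_of_isCoatom_of_supersolvable _ (G ⧸ N) rfl hGN _ h1
          rwa [Subgroup.index_map_eq _ (QuotientGroup.mk'_surjective N)
            (by rw [QuotientGroup.ker_mk']; exact hNM)] at h2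
        · exact (case_compl hNP hNmin hNcen ha hPcard (by omega) hak hkm hH hM hNM).elim
    · subst hak
      exact (case_eq hNP hNmin hNel.2 ha hPcard hk2 hkm hH).elim
    · exact (case_big hNP hNmin ha hk hak hH).elim

end Cfsg.Agent.Helper1.HSup
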