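import Mathlib
import Cfsg.Agent.Helper1.HSupF

set_option autoImplicit false

/-!
# S3032, part G: `ℋ`-subgroups in quotients by normal subgroups of coprime order.
-/

namespace Cfsg.Agent.Helper1.HSup

open Cfsg.Agent.Helper1 Cfsg.Agent.Helper1.HSub

universe u v

variable {G : Type u} [Group G]

/-- a suitable power of `x₀` has the same image and prime power order -/
theorem exists_pow_prime_pow_order [Finite G] {G' : Type v} [Group G'] (f : G →* G') {q : ℕ}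
    (hq : q.Prime) (x₀ : G) (hy : ∃ b : ℕ, orderOf (f x₀) = q ^ b) :
    ∃ j : ℕ, f (x₀ ^ j) = f x₀ ∧ ∃ b : ℕ, orderOf (x₀ ^ j) = q ^ b := by
  obtain ⟨b, hb⟩ := hy
  have hm0 : orderOf x₀ ≠ 0 := (orderOf_pos x₀).ne'
  obtain ⟨e, m', hm', hm⟩ := Nat.exists_eq_pow_mul_and_not_dvd hm0 q hq.ne_one
  have hcop : Nat.Coprime m' (q ^ b) := by
    apply Nat.Coprime.pow_right
    exact ((Nat.Prime.coprime_iff_not_dvd hq).2 hm').symm
  obtain ⟨u, hu⟩ : ∃ u : ℕ, m' * u ≡ 1 [MOD q ^ b] := by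
    obtain ⟨u, -, hu⟩ := Nat.exists_mul_mod_eq_of_coprime 1 hcop (pow_pos hq.pos b).ne'
    exact ⟨u, hu⟩
  refine ⟨m' * u, ?_, ?_⟩
  · rw [map_pow]
    have h1 : (f x₀) ^ (m' * u) = (f x₀) ^ 1 := by
      rw [pow_eq_pow_iff_modEq, hb]
      exact hu
    rw [h1, pow_one]
  · have h1 : (x₀ ^ (m' * u)) ^ (q ^ e) = 1 := by
      rw [← pow_mul]
      have : m' * u * q ^ e = orderOf x₀ * u := by rw [hm]; ring
      rw [this, pow_mul, pow_orderOf_eq_one, one_pow]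
    have h2 := orderOf_dvd_of_pow_eq_one h1
    obtain ⟨j, -, hj⟩ := (Nat.dvd_prime_pow hq).1 h2
    exact ⟨j, hj⟩

/-- a `p`-subgroup of `L` is `L`-conjugate into a `p`-subgroup `F` of `L` of index prime to `p` -/
theorem exists_conj_into [Finite G] {p : ℕ} [hp : Fact p.Prime] {L F A : Subgroup G}
    (hFL : F ≤ L) (hFp : IsPGroup p F) (hidx : ¬ p ∣ F.relIndex L) (hAL : A ≤ L)
    (hAp : IsPGroup p A) : ∃ l ∈ L, ∀ a ∈ A, l * a * l⁻¹ ∈ F := by
  have hF' : IsPGroup p (F.subgroupOf L) :=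
    hFp.comap_of_injective L.subtype L.subtype_injective
  have hA' : IsPGroup p (A.subgroupOf L) :=
    hAp.comap_of_injective L.subtype L.subtype_injective
  let S : Sylow p L := hF'.toSylow hidx
  obtain ⟨Q, hQ⟩ := hA'.exists_le_sylow
  obtain ⟨l, hl⟩ := MulAction.exists_smul_eq L Q S
  refine ⟨l, l.2, fun a ha => ?_⟩
  have haQ : (⟨a, hAL ha⟩ : L) ∈ (Q : Subgroup L) := hQ (by
    rw [Subgroup.mem_subgroupOf]; exact ha)
  have h1 : l * ⟨a, hAL ha⟩ * l⁻¹ ∈ ((l • Q : Sylow p L) : Subgroup L) := by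
    rw [Sylow.coe_subgroup_smul]
    exact conj_mem_conj_smul haQ
  rw [hl] at h1
  have h2 : l * ⟨a, hAL ha⟩ * l⁻¹ ∈ F.subgroupOf L := h1
  rw [Subgroup.mem_subgroupOf] at h2
  exact h2

/-- `F` has index `|R|` in `F R` when the orders are coprime -/
theorem relIndex_sup_of_coprime [Finite G] {F R : Subgroup G} [hRn : R.Normal]
    (hcop : (Nat.card F).Coprime (Nat.card R)) : F.relIndex (R ⊔ F) = Nat.card R := by
  have h1 : F ⊓ R = ⊥ := inf_eq_bot_of_coprime_card hcop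
  have h2 := card_sup_of_disjoint_normal F R h1
  have h3 := relIndex_mul_card_of_le (le_sup_right : F ≤ R ⊔ F)
  have h4 : Nat.card (R ⊔ F : Subgroup G) = Nat.card F * Nat.card R := by
    rw [sup_comm]; exact h2
  rw [h4, mul_comm] at h3
  exact Nat.eq_of_mul_eq_mul_left Nat.card_pos h3

/-- the `ℋ`-property passes to quotients by normal subgroups of order prime to `p` -/
theorem isH_map_mk'_of_coprime [Finite G] {p : ℕ} [hp : Fact p.Prime] {F : Subgroup G}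
    (hF : IsH F) (hFp : IsPGroup p F) (R : Subgroup G) [hRn : R.Normal]
    (hcop : (Nat.card R).Coprime p) : IsH (F.map (QuotientGroup.mk' R)) := by
  have hpp := hp.out
  intro gb yb hy
  have hy1 : yb ∈ (F.map (QuotientGroup.mk' R)).map (MulAut.conj gb).toMonoidHom := hy.1
  have hy2 : yb ∈ Subgroup.normalizer
      ((F.map (QuotientGroup.mk' R) : Subgroup (G ⧸ R)) : Set (G ⧸ R)) := hy.2
  obtain ⟨g, rfl⟩ := QuotientGroup.mk'_surjective R gb
  rw [mem_map_conj] at hy1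
  obtain ⟨f₀, hf₀, hf₀y⟩ := hy1
  set y₀ := g * f₀ * g⁻¹ with hy₀
  have hyb : QuotientGroup.mk' R y₀ = yb := by
    rw [hy₀, map_mul, map_mul, map_inv, hf₀y]; group
  -- cardinalities
  have hcopF : ∀ F' : Subgroup G, IsPGroup p F' → (Nat.card F').Coprime (Nat.card R) := by
    intro F' hF'
    obtain ⟨k, hk⟩ := IsPGroup.iff_card.1 hF'
    rw [hk]
    exact Nat.Coprime.pow_left k hcop.symm
  have hidx : ∀ F' : Subgroup G, IsPGroup p F' → ¬ p ∣ F'.relIndex (R ⊔ F') := by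
    intro F' hF'
    rw [relIndex_sup_of_coprime (hcopF F' hF')]
    intro h
    exact hpp.one_lt.ne' (Nat.eq_one_of_dvd_coprimes hcop h (dvd_refl p))
  -- `y₀` normalizes `R F`
  set L := R ⊔ F with hL
  have hLcomap : (F.map (QuotientGroup.mk' R)).comap (QuotientGroup.mk' R) = L :=
    QuotientGroup.comap_map_mk' R F
  have hmemL : ∀ z : G, z ∈ L ↔ QuotientGroup.mk' R z ∈ F.map (QuotientGroup.mk' R) := by
    intro z
    rw [← hLcomap, Subgroup.mem_comap]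
  have hy₀L : ∀ z ∈ L, y₀ * z * y₀⁻¹ ∈ L := by
    intro z hz
    rw [hmemL] at hz ⊢
    have := (Subgroup.mem_normalizer_iff.1 hy2 _).1 hz
    rw [← hyb] at this
    simpa [map_mul, map_inv] using this
  -- Frattini argument: `r y₀ ∈ N_G(F)` for some `r ∈ R`
  set A := F.map (MulAut.conj y₀).toMonoidHom with hA
  have hAL : A ≤ L := by
    rintro _ ⟨z, hz, rfl⟩
    exact hy₀L z (le_sup_right (a := R) hz)
  have hAp : IsPGroup p A := hFp.map _
  obtain ⟨l, hlL, hl⟩ := exists_conj_into (le_sup_right : F ≤ L) hFp (hidx F hFp) hAL hAp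
  obtain ⟨r, hr, hrA⟩ : ∃ r ∈ R, ∀ a ∈ A, r * a * r⁻¹ ∈ F := by
    have hl' : l⁻¹ ∈ R ⊔ F := L.inv_mem hlL
    obtain ⟨r', hr', f₁, hf₁, hlr⟩ := mem_sup_of_le_normalizer (le_normalizer_of_normal F R) hl'
    refine ⟨r'⁻¹, R.inv_mem hr', fun a ha => ?_⟩
    have h1 := hl a ha
    have hl2 : l = f₁⁻¹ * r'⁻¹ := by
      have : l = (l⁻¹)⁻¹ := by rw [inv_inv]
      rw [this, hlr]; group
    rw [hl2] at h1
    have h2 := F.mul_mem (F.mul_mem hf₁ h1) (F.inv_mem hf₁)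
    have e : f₁ * (f₁⁻¹ * r'⁻¹ * a * (f₁⁻¹ * r'⁻¹)⁻¹) * f₁⁻¹ = r'⁻¹ * a * r'⁻¹⁻¹ := by group
    rwa [e] at h2
  set y₁ := r * y₀ with hy₁
  have hy₁N : y₁ ∈ Subgroup.normalizer (F : Set G) := by
    haveI : Finite F := inferInstance
    apply mem_normalizer_of_conj_le_of_finite
    intro z hz
    have h1 : y₀ * z * y₀⁻¹ ∈ A := ⟨z, hz, rfl⟩
    have h2 := hrA _ h1
    have e : y₁ * z * y₁⁻¹ = r * (y₀ * z * y₀⁻¹) * r⁻¹ := by rw [hy₁]; group
    rw [e]; exact h2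
  have hy₁b : QuotientGroup.mk' R y₁ = yb := by
    rw [hy₁, map_mul, hyb]
    have : QuotientGroup.mk' R r = 1 := (QuotientGroup.eq_one_iff r).2 hr
    rw [this, one_mul]
  -- `yb` has `p`-power order
  have hybp : ∃ b : ℕ, orderOf (QuotientGroup.mk' R y₁) = p ^ b := by
    rw [hy₁b, ← hyb]
    have h1 : IsPGroup p (Subgroup.zpowers y₀) := by
      apply hFp.map (MulAut.conj g).toMonoidHom |>.to_le
      rw [Subgroup.zpowers_le]
      exact ⟨f₀, hf₀, rfl⟩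
    have h2 : ∃ b : ℕ, orderOf y₀ = p ^ b := by
      obtain ⟨k, hk⟩ := IsPGroup.iff_card.1 h1
      exact ⟨k, by rw [← Nat.card_zpowers, hk]⟩
    obtain ⟨b, hb⟩ := h2
    have h3 : orderOf (QuotientGroup.mk' R y₀) ∣ p ^ b := by
      rw [← hb]; exact orderOf_map_dvd _ y₀
    obtain ⟨j, -, hj⟩ := (Nat.dvd_prime_pow hpp).1 h3
    exact ⟨j, hj⟩
  obtain ⟨j, hj1, b, hjb⟩ := exists_pow_prime_pow_order (QuotientGroup.mk' R) hpp y₁ hybp
  set yp := y₁ ^ j with hyp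
  have hypN : yp ∈ Subgroup.normalizer (F : Set G) := Subgroup.pow_mem _ hy₁N j
  have hypb : QuotientGroup.mk' R yp = yb := by rw [hj1, hy₁b]
  -- `yp ∈ R F^g`
  set Fg := F.map (MulAut.conj g).toMonoidHom with hFg
  have hFgp : IsPGroup p Fg := hFp.map _
  set L' := R ⊔ Fg with hL'
  have hypL' : yp ∈ L' := by
    rw [hL', ← QuotientGroup.comap_map_mk' R Fg, Subgroup.mem_comap, hypb, ← hyb]
    exact ⟨y₀, ⟨f₀, hf₀, rfl⟩, rfl⟩
  have hZp : IsPGroup p (Subgroup.zpowers yp) := by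
    apply IsPGroup.of_card (n := b)
    rw [Nat.card_zpowers, hjb]
  obtain ⟨u, -, hu⟩ := exists_conj_into (le_sup_right : Fg ≤ L') hFgp (hidx Fg hFgp)
    (Subgroup.zpowers_le.2 hypL') hZp
  obtain ⟨f₂, hf₂, hf₂u⟩ := hu yp (Subgroup.mem_zpowers yp)
  -- `yp = (u⁻¹ g) f₂ (u⁻¹ g)⁻¹`
  have e1 : yp = (u⁻¹ * g) * f₂ * (u⁻¹ * g)⁻¹ := by
    have : (MulAut.conj g).toMonoidHom f₂ = g * f₂ * g⁻¹ := rfl
    rw [this] at hf₂u
    calc yp = u⁻¹ * (u * yp * u⁻¹) * u := by group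
      _ = u⁻¹ * (g * f₂ * g⁻¹) * u := by rw [hf₂u]
      _ = (u⁻¹ * g) * f₂ * (u⁻¹ * g)⁻¹ := by group
  have hypF : yp ∈ F := by
    rw [e1]
    rw [e1] at hypN
    exact hF.conj_mem hf₂ hypN
  rw [← hypb]
  exact Subgroup.mem_map_of_mem _ hypF

end Cfsg.Agent.Helper1.HSup
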