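import Mathlib
import Cfsg.Agent.Helper1.HSupG
import Cfsg.Agent.Helper1.IterFocal

set_option autoImplicit false

/-!
# S3032, part H: a Sylow subgroup of `E` that is normal in `G`.
-/

namespace Cfsg.Agent.Helper1.HSup

open Cfsg.Agent.Helper1 Cfsg.Agent.Helper1.HSub

universe u

variable {G : Type u} [Group G]

/-- the hypothesis of S3032 on the subgroup `E` -/
def HypS (E : Subgroup G) : Prop :=
  ∀ (p : ℕ), p.Prime → ∀ P : Subgroup G, P ≤ E → IsPGroup p P → ¬ p ∣ P.relIndex E →
    ¬ IsCyclic ↥P →
      ∃ D : Subgroup G, D ≤ P ∧ 1 < Nat.card D ∧ Nat.card D < Nat.card P ∧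
        ∀ F : Subgroup G, F ≤ P →
          (Nat.card F = Nat.card D ∨ (Nat.card D = 2 ∧ Nat.card F = 4)) → IsH F

/-- the hypothesis passes to a subgroup `K ≤ E` of `p`-power index and order prime to `p` -/
theorem HypS.of_le [Finite G] {E K : Subgroup G} (hE : HypS E) (hKE : K ≤ E) {p : ℕ}
    (hp : p.Prime) (hcop : (Nat.card K).Coprime p) {a : ℕ} (hidx : K.relIndex E = p ^ a) :
    HypS K := by
  intro q hq Q hQK hQq hQidx hQnc
  haveI : Fact q.Prime := ⟨hq⟩
  have hqp : q ≠ p := by
    intro hqp'
    apply hQnc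
    obtain ⟨j, hj⟩ := IsPGroup.iff_card.1 hQq
    have h1 : Nat.card Q ∣ Nat.card K := Subgroup.card_dvd_of_le hQK
    have h2 : Nat.card Q = 1 := by
      have h3 := Nat.Coprime.coprime_dvd_left h1 hcop
      rw [← hqp'] at h3
      rw [hj] at h3 ⊢
      rcases Nat.eq_zero_or_pos j with h0 | h0
      · rw [h0, pow_zero]
      · exfalso
        have : q ∣ q ^ j := dvd_pow_self q h0.ne'
        exact hq.one_lt.ne' (Nat.eq_one_of_dvd_coprimes h3 this (dvd_refl q))
    have h4 : Q = ⊥ := Subgroup.card_eq_one.1 h2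
    rw [h4]
    infer_instance
  apply hE q hq Q (hQK.trans hKE) hQq _ hQnc
  rw [← Subgroup.relIndex_mul_relIndex Q K E hQK hKE, hidx]
  intro h
  rcases (Nat.Prime.dvd_mul hq).1 h with h1 | h1
  · exact hQidx h1
  · exact hqp ((Nat.prime_dvd_prime_iff_eq hq hp).1 (hq.dvd_of_dvd_pow h1))

set_option maxHeartbeats 1000000 in
/-- some Sylow subgroup of `E` is normal in `G` -/
theorem exists_normal_sylow [Finite G] : ∀ (n : ℕ) (E : Subgroup G) [E.Normal],
    Nat.card E = n → E ≠ ⊥ → HypS E →
    ∃ (r : ℕ) (R : Subgroup G), r.Prime ∧ R ≤ E ∧ R.Normal ∧ R ≠ ⊥ ∧ IsPGroup r R ∧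
      ¬ r ∣ R.relIndex E := by
  intro n
  induction n using Nat.strong_induction_on with
  | _ n ih =>
    intro E hEn hn hE1 hE
    have hcard1 : Nat.card E ≠ 1 := fun h => hE1 (Subgroup.card_eq_one.1 h)
    set p := (Nat.card E).minFac with hpdef
    have hpp : p.Prime := Nat.minFac_prime hcard1
    haveI : Fact p.Prime := ⟨hpp⟩
    have hpd : p ∣ Nat.card E := Nat.minFac_dvd _
    by_cases hEp : IsPGroup p E
    · refine ⟨p, E, hpp, le_rfl, hEn, hE1, hEp, ?_⟩
      rw [Subgroup.relIndex_self]
      exact hpp.one_lt.ne' ∘ Nat.dvd_one.1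
    -- apply the `p`-nilpotency criterion to `E`
    have hnpc : Cfsg.HasNormalPComplement p E := by
      obtain ⟨P'⟩ : Nonempty (Sylow p E) := inferInstance
      apply HSub.main hpd (fun q hq hqd => Nat.minFac_le_of_dvd hq.two_le hqd) P'
      by_cases hcyc : IsCyclic ↥(P' : Subgroup E)
      · left; exact hcyc
      right
      set P := (P' : Subgroup E).map E.subtype with hP
      have hPE : P ≤ E := Subgroup.map_subtype_le _
      have hPp : IsPGroup p P := P'.2.map _
      have hPsub : P.subgroupOf E = (P' : Subgroup E) := by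
        rw [hP, Subgroup.subgroupOf, Subgroup.comap_map_eq_self_of_injective E.subtype_injective]
      have hPidx : ¬ p ∣ P.relIndex E := by
        rw [Subgroup.relIndex, hPsub]
        exact P'.not_dvd_index
      have hPnc : ¬ IsCyclic ↥P := by
        intro h
        apply hcyc
        have e : ↥(P' : Subgroup E) ≃* ↥P :=
          (P' : Subgroup E).equivMapOfInjective E.subtype E.subtype_injective
        exact isCyclic_of_surjective e.symm.toMonoidHom e.symm.surjective
      obtain ⟨D, hDP, hD1, hDlt, hall⟩ := hE p hpp P hPE hPp hPidx hPnc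
      have hPcard : Nat.card P = Nat.card (P' : Subgroup E) :=
        Subgroup.card_map_of_injective E.subtype_injective
      have hDcard : Nat.card (D.subgroupOf E) = Nat.card D :=
        card_subgroupOf_of_le (hDP.trans hPE)
      refine ⟨D.subgroupOf E, ?_, ?_, ?_, ?_⟩
      · intro x hx
        rw [Subgroup.mem_subgroupOf] at hx
        have := hDP hx
        rw [← hPsub, Subgroup.mem_subgroupOf]
        exact this
      · rw [hDcard]; exact hD1
      · rw [hDcard, ← hPcard]; exact hDlt
      · intro E' hE'P hE'card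
        have hFP : E'.map E.subtype ≤ P := by
          rw [hP]; exact Subgroup.map_mono hE'P
        have hFcard : Nat.card (E'.map E.subtype) = Nat.card E' :=
          Subgroup.card_map_of_injective E.subtype_injective
        have hFH : IsH (E'.map E.subtype) := by
          apply hall _ hFP
          rw [hFcard, ← hDcard]
          exact hE'card
        exact IsH.of_map_subtype hFH
    obtain ⟨K', hK'n, hK'cop, a, hK'idx⟩ : ∃ M : Subgroup E, M.Normal ∧
        (Nat.card M).Coprime p ∧ ∃ k : ℕ, M.index = p ^ k := by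
      obtain ⟨P₁, M, hMn, hM⟩ := hnpc
      refine ⟨M, hMn, ?_, ?_⟩
      · rw [← hM.index_eq_card]
        exact ((Nat.Prime.coprime_iff_not_dvd hpp).2 P₁.not_dvd_index).symm
      · obtain ⟨a, ha⟩ := IsPGroup.iff_card.1 P₁.2
        exact ⟨a, by rw [hM.symm.index_eq_card, ha]⟩
    haveI := hK'n
    set K := K'.map E.subtype with hK
    have hKE : K ≤ E := Subgroup.map_subtype_le _
    have hKcard : Nat.card K = Nat.card K' := Subgroup.card_map_of_injective E.subtype_injective
    have hKsub : K.subgroupOf E = K' := by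
      rw [hK, Subgroup.subgroupOf, Subgroup.comap_map_eq_self_of_injective E.subtype_injective]
    have hKidx : K.relIndex E = p ^ a := by
      rw [Subgroup.relIndex, hKsub]; exact hK'idx
    have hKcop : (Nat.card K).Coprime p := by rw [hKcard]; exact hK'cop
    -- `K` is normal in `G`
    have hKn : K.Normal := by
      constructor
      intro x hx g
      have hgx : g * x * g⁻¹ ∈ E := hEn.conj_mem x (hKE hx) g
      set Kg := K.map (MulAut.conj g).toMonoidHom with hKg
      have hKgE : Kg ≤ E := by
        rintro _ ⟨z, hz, rfl⟩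
        exact hEn.conj_mem z (hKE hz) g
      have hKgcard : Nat.card (Kg.subgroupOf E) = Nat.card K' := by
        rw [card_subgroupOf_of_le hKgE, hKg,
          Subgroup.card_map_of_injective (MulAut.conj g).injective, hKcard]
      have hle : Kg.subgroupOf E ≤ K' := by
        apply le_of_coprime_card_index
        rw [hKgcard, hK'idx]
        exact Nat.Coprime.pow_right a hK'cop
      have h1 : (⟨g * x * g⁻¹, hgx⟩ : E) ∈ Kg.subgroupOf E := by
        rw [Subgroup.mem_subgroupOf]
        exact ⟨x, hx, rfl⟩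
      exact ⟨⟨g * x * g⁻¹, hgx⟩, hle h1, rfl⟩
    haveI := hKn
    have hK1 : K ≠ ⊥ := by
      intro h
      apply hEp
      apply IsPGroup.of_card (n := a)
      have h1 := relIndex_mul_card_of_le hKE
      rw [hKidx, h, Subgroup.card_bot, mul_one] at h1
      exact h1.symm
    have hKlt : Nat.card K < n := by
      have h1 := relIndex_mul_card_of_le hKE
      rw [hKidx, hn] at h1
      have ha0 : a ≠ 0 := by
        rintro rfl
        rw [pow_zero, one_mul] at h1
        rw [← hn] at h1
        rw [h1] at hKcop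
        exact hpp.one_lt.ne' (Nat.eq_one_of_dvd_coprimes hKcop hpd (dvd_refl p))
      have h2 : 1 < p ^ a := Nat.one_lt_pow ha0 hpp.one_lt
      have h3 : 0 < Nat.card K := Nat.card_pos
      nlinarith
    obtain ⟨r, R, hr, hRK, hRn, hR1, hRr, hRidx⟩ :=
      ih _ hKlt K rfl hK1 (hE.of_le hKE hpp hKcop hKidx)
    refine ⟨r, R, hr, hRK.trans hKE, hRn, hR1, hRr, ?_⟩
    have hrp : r ≠ p := by
      intro hrp'
      apply hR1
      haveI : Fact r.Prime := ⟨hr⟩
      obtain ⟨j, hj⟩ := IsPGroup.iff_card.1 hRr
      have h1 : Nat.card R ∣ Nat.card K := Subgroup.card_dvd_of_le hRK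
      have h3 := Nat.Coprime.coprime_dvd_left h1 hKcop
      rw [← hrp'] at h3
      apply Subgroup.card_eq_one.1
      rw [hj] at h3 ⊢
      rcases Nat.eq_zero_or_pos j with h0 | h0
      · rw [h0, pow_zero]
      · exfalso
        have : r ∣ r ^ j := dvd_pow_self r h0.ne'
        exact hr.one_lt.ne' (Nat.eq_one_of_dvd_coprimes h3 this (dvd_refl r))
    rw [← Subgroup.relIndex_mul_relIndex R K E hRK hKE, hKidx]
    intro h
    rcases (Nat.Prime.dvd_mul hr).1 h with h1 | h1
    · exact hRidx h1
    · exact hrp ((Nat.prime_dvd_prime_iff_eq hr hpp).1 (hr.dvd_of_dvd_pow h1))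

end Cfsg.Agent.Helper1.HSup
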