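import Mathlib
import Cfsg.Agent.Helper1.HSupH

set_option autoImplicit false

/-!
# S3032, part I: the hypothesis passes to `G / R`, and the main theorem.
-/

namespace Cfsg.Agent.Helper1.HSup

open Cfsg.Agent.Helper1 Cfsg.Agent.Helper1.HSub

universe u

variable {G : Type u} [Group G]

set_option maxHeartbeats 1000000 in
/-- the hypothesis passes to the quotient by a normal Sylow subgroup of `E` -/
theorem HypS.quotient [Finite G] {E : Subgroup G} (hE : HypS E) {r : ℕ} (hr : r.Prime)
    (R : Subgroup G) [hRn : R.Normal] (hRE : R ≤ E) (hRr : IsPGroup r R)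
    (hRidx : ¬ r ∣ R.relIndex E) : HypS (E.map (QuotientGroup.mk' R)) := by
  haveI : Fact r.Prime := ⟨hr⟩
  intro q hq Qb hQbE hQbq hQbidx hQbnc
  haveI : Fact q.Prime := ⟨hq⟩
  set π := QuotientGroup.mk' R with hπ
  have hπs : Function.Surjective π := QuotientGroup.mk'_surjective R
  obtain ⟨j, hj⟩ := IsPGroup.iff_card.1 hQbq
  obtain ⟨t, ht⟩ := IsPGroup.iff_card.1 hRr
  have hEbcard : Nat.card (E.map π) = R.relIndex E := by
    have h1 := card_map_mk'_mul_card R E hRE
    have h2 := relIndex_mul_card_of_le hRE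
    rw [← h2] at h1
    exact Nat.eq_of_mul_eq_mul_right Nat.card_pos h1
  -- `q ≠ r`
  have hqr : q ≠ r := by
    intro hqr'
    apply hQbnc
    have h1 : Nat.card Qb ∣ R.relIndex E := by
      rw [← hEbcard]; exact Subgroup.card_dvd_of_le hQbE
    have h2 : Nat.card Qb = 1 := by
      rw [hj] at h1 ⊢
      rcases Nat.eq_zero_or_pos j with h0 | h0
      · rw [h0, pow_zero]
      · exfalso
        apply hRidx
        rw [← hqr']
        exact (dvd_pow_self q h0.ne').trans h1
    have h4 : Qb = ⊥ := Subgroup.card_eq_one.1 h2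
    rw [h4]
    infer_instance
  have hcopqr : Nat.Coprime q r := (Nat.coprime_primes hq hr).2 hqr
  have hRq : (Nat.card R).Coprime q := by
    rw [ht]; exact Nat.Coprime.pow_left t hcopqr.symm
  -- the full preimage
  set Qt := Qb.comap π with hQt
  have hRQt : R ≤ Qt := by
    intro x hx
    rw [hQt, Subgroup.mem_comap, hπ, QuotientGroup.mk'_apply, (QuotientGroup.eq_one_iff x).2 hx]
    exact Qb.one_mem
  have hQtE : Qt ≤ E := by
    have := Subgroup.comap_mono (f := π) hQbE
    rwa [Subgroup.comap_map_eq_self (by rw [hπ, QuotientGroup.ker_mk']; exact hRE)] at this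
  have hQtcard : Nat.card Qt = Nat.card Qb * Nat.card R := card_comap_mk' R Qb
  -- a complement to `R` in `Qt`
  haveI : (R.subgroupOf Qt).Normal := inferInstance
  have hR'card : Nat.card (R.subgroupOf Qt) = Nat.card R := card_subgroupOf_of_le hRQt
  have hR'idx : (R.subgroupOf Qt).index = Nat.card Qb := by
    have h1 := Subgroup.card_mul_index (R.subgroupOf Qt)
    rw [hR'card, hQtcard, mul_comm] at h1
    exact Nat.eq_of_mul_eq_mul_right Nat.card_pos h1
  obtain ⟨H, hH⟩ := Subgroup.exists_right_complement'_of_coprime (N := R.subgroupOf Qt) (by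
    rw [hR'card, hR'idx, hj]
    exact Nat.Coprime.pow_right j hRq)
  have hHcard : Nat.card H = Nat.card Qb := by
    have h1 := hH.card_mul_card
    rw [hR'card, hQtcard, mul_comm] at h1
    exact Nat.eq_of_mul_eq_mul_right Nat.card_pos h1
  set Q := H.map Qt.subtype with hQ
  have hQQt : Q ≤ Qt := Subgroup.map_subtype_le _
  have hQE : Q ≤ E := hQQt.trans hQtE
  have hQcard : Nat.card Q = Nat.card Qb := by
    rw [hQ, Subgroup.card_map_of_injective Qt.subtype_injective, hHcard]
  have hQq : IsPGroup q Q := IsPGroup.of_card (n := j) (by rw [hQcard, hj])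
  have hQR : Q ⊓ R = ⊥ := inf_eq_bot_of_coprime_card (by
    rw [hQcard, hj]; exact Nat.Coprime.pow_left j hRq.symm)
  have hQmap : Q.map π = Qb := by
    apply Subgroup.eq_of_le_of_card_ge
    · rintro _ ⟨x, hx, rfl⟩
      exact hQQt hx
    · rw [card_map_mk'_of_disjoint R Q hQR, hQcard]
  have hQidx : ¬ q ∣ Q.relIndex E := by
    have h1 := relIndex_mul_card_of_le hQE
    have h2 := card_map_mk'_mul_card R E hRE
    have h3 := relIndex_mul_card_of_le hQbE
    rw [← h2, ← h3, hQcard] at h1
    have h4 : Q.relIndex E = Qb.relIndex (E.map π) * Nat.card R := by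
      have : Q.relIndex E * Nat.card Qb = (Qb.relIndex (E.map π) * Nat.card R) * Nat.card Qb := by
        rw [h1]; ring
      exact Nat.eq_of_mul_eq_mul_right Nat.card_pos this
    rw [h4]
    intro h
    rcases (Nat.Prime.dvd_mul hq).1 h with h5 | h5
    · exact hQbidx h5
    · exact hq.one_lt.ne' (Nat.eq_one_of_dvd_coprimes hRq h5 (dvd_refl q))
  have hQnc : ¬ IsCyclic ↥Q := by
    intro h
    apply hQbnc
    haveI := h
    have h1 : IsCyclic ↥(Q.map π) :=
      isCyclic_of_surjective (π.subgroupMap Q) (π.subgroupMap_surjective Q)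
    rw [hQmap] at h1
    exact h1
  obtain ⟨D, hDQ, hD1, hDlt, hall⟩ := hE q hq Q hQE hQq hQidx hQnc
  have hcardmap : ∀ F : Subgroup G, F ≤ Q → Nat.card (F.map π) = Nat.card F := by
    intro F hFQ
    apply card_map_mk'_of_disjoint R F
    rw [eq_bot_iff, ← hQR]
    exact inf_le_inf_right R hFQ
  refine ⟨D.map π, ?_, ?_, ?_, ?_⟩
  · rw [← hQmap]; exact Subgroup.map_mono hDQ
  · rw [hcardmap D hDQ]; exact hD1
  · rw [hcardmap D hDQ, ← hQcard]; exact hDlt
  · intro Fb hFbQb hFbcard
    set F := Q ⊓ Fb.comap π with hF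
    have hFQ : F ≤ Q := inf_le_left
    have hFmap : F.map π = Fb := by
      apply le_antisymm
      · rintro _ ⟨x, hx, rfl⟩
        exact hx.2
      · intro fb hfb
        have h1 : fb ∈ Q.map π := by rw [hQmap]; exact hFbQb hfb
        obtain ⟨x, hx, rfl⟩ := h1
        exact ⟨x, ⟨hx, hfb⟩, rfl⟩
    have hFcard : Nat.card F = Nat.card Fb := by rw [← hFmap, hcardmap F hFQ]
    have hFH : IsH F := by
      apply hall F hFQ
      rw [hFcard, ← hcardmap D hDQ]
      exact hFbcard
    rw [← hFmap]
    exact isH_map_mk'_of_coprime hFH (hQq.to_le hFQ) R hRq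

set_option maxHeartbeats 1000000 in
theorem main_aux : ∀ (n : ℕ) (G : Type u) [Group G] [Finite G], Nat.card G = n →
    ∀ (E : Subgroup G) [E.Normal], Cfsg.IsSupersolvable (G ⧸ E) → HypS E →
    Cfsg.IsSupersolvable G := by
  intro n
  induction n using Nat.strong_induction_on with
  | _ n ih =>
    intro G _ _ hn E hEn hGE hE
    by_cases hE1 : E = ⊥
    · subst hE1
      exact isSupersolvable_of_surjective hGE (QuotientGroup.quotientBot (G := G)).toMonoidHom
        (QuotientGroup.quotientBot (G := G)).surjective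
    obtain ⟨r, R, hr, hRE, hRn, hR1, hRr, hRidx⟩ := exists_normal_sylow _ E rfl hE1 hE
    haveI := hRn
    haveI : Fact r.Prime := ⟨hr⟩
    have hGR : Cfsg.IsSupersolvable (G ⧸ R) := by
      have hlt : Nat.card (G ⧸ R) < n := by rw [← hn]; exact card_quotient_lt R hR1
      haveI : (E.map (QuotientGroup.mk' R)).Normal :=
        Subgroup.Normal.map hEn _ (QuotientGroup.mk'_surjective R)
      apply ih _ hlt (G ⧸ R) rfl (E.map (QuotientGroup.mk' R)) _ (hE.quotient hr R hRE hRr hRidx)
      apply isSupersolvable_of_surjective hGE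
        (QuotientGroup.map E (E.map (QuotientGroup.mk' R)) (QuotientGroup.mk' R)
          (Subgroup.le_comap_map _ _))
      intro y
      obtain ⟨yb, rfl⟩ := QuotientGroup.mk_surjective y
      obtain ⟨g, rfl⟩ := QuotientGroup.mk'_surjective R yb
      exact ⟨QuotientGroup.mk g, rfl⟩
    by_cases hRc : IsCyclic R
    · exact isSupersolvable_of_cyclic_normal R hGR
    · obtain ⟨D, hDR, hD1, hDlt, hall⟩ := hE r hr R hRE hRr hRidx hRc
      obtain ⟨m, hm⟩ := IsPGroup.iff_card.1 hRr
      obtain ⟨k, hk⟩ := IsPGroup.iff_card.1 (hRr.to_le hDR)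
      have hk1 : 1 ≤ k := by
        by_contra h
        have : k = 0 := by omega
        rw [this, pow_zero] at hk
        omega
      have hkm : k < m := by
        rw [hk, hm] at hDlt
        exact (Nat.pow_lt_pow_iff_right hr.one_lt).1 hDlt
      apply keyLemma (p := r) _ G rfl R k m hm hk1 hkm _ hGR
      intro F hFR hF
      apply normal_of_isH (hall F hFR ?_) hFR hRr
      rcases hF with h | ⟨h1, h2⟩
      · left; rw [h, hk]
      · right; exact ⟨by rw [hk]; exact h1, h2⟩

end Cfsg.Agent.Helper1.HSup
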