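import Mathlib
import Cfsg.Agent.Lead.HallCommOld
import Cfsg.Agent.Helper1.Fitting

set_option autoImplicit false

namespace Cfsg.Agent.Helper1

open scoped commutatorElement

universe u

variable {G : Type u} [Group G]

/-- If `G'` is nilpotent of prime index `r`, then `G / O_{r'}(G)` is an `r`-group. -/
theorem index_pPrimeCore_of_nilpotent_commutator [Finite G]
    (hnil : Group.IsNilpotent ↥(commutator G)) (r : ℕ) [hr : Fact r.Prime]
    (hidx : (commutator G).index = r) :
    ∃ k, (Cfsg.pPrimeCore r G).index = r ^ k := by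
  refine ⟨_, Nat.eq_prime_pow_of_unique_prime_dvd Subgroup.index_ne_zero_of_finite ?_⟩
  intro q hq hqd
  by_contra hqr
  have hqF : Fact q.Prime := ⟨hq⟩
  set D := commutator G with hD
  have hall := ((Group.isNilpotent_of_finite_tfae (G := D)).out 0 3).1 hnil
  obtain ⟨S⟩ : Nonempty (Sylow q D) := inferInstance
  have hSn : (S : Subgroup D).Normal := hall q hqF S
  have hSc : (S : Subgroup D).Characteristic := Sylow.characteristic_of_normal S hSn
  have hDn : D.Normal := inferInstance
  set S' := (S : Subgroup D).map D.subtype with hS'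
  have hS'n : S'.Normal := ConjAct.normal_of_characteristic_of_normal
  have hcard : Nat.card S' = Nat.card (S : Subgroup D) :=
    Subgroup.card_map_of_injective D.subtype_injective
  obtain ⟨k, hk⟩ := IsPGroup.iff_card.1 S.2
  have hS'le : S' ≤ Cfsg.pPrimeCore r G := by
    apply le_pPrimeCore hS'n
    rw [hcard, hk]
    exact Nat.Coprime.pow_left _ ((Nat.coprime_primes hq hr.out).2 hqr)
  have h1 : q ∣ S'.index := hqd.trans (Subgroup.index_dvd_of_le hS'le)
  have hS'D : S' ≤ D := Subgroup.map_subtype_le _
  have h2 : S'.index = S'.relIndex D * D.index := (Subgroup.relIndex_mul_index hS'D).symm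
  have h3 : S'.relIndex D = (S : Subgroup D).index := by
    rw [Subgroup.relIndex, hS']
    congr 1
    exact Subgroup.comap_map_eq_self_of_injective D.subtype_injective _
  rw [h2, h3, hidx] at h1
  rcases (Nat.Prime.dvd_mul hq).1 h1 with h | h
  · exact S.not_dvd_index h
  · exact hqr ((Nat.prime_dvd_prime_iff_eq hq hr.out).1 h)

theorem coprime_of_nilpotent_commutator_prime_index [Finite G]
    (hnil : Group.IsNilpotent ↥(commutator G)) (hr : (commutator G).index.Prime) :
    (Nat.card ↥(commutator G)).Coprime (commutator G).index := by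
  set r := (commutator G).index with hr'
  have hrF : Fact r.Prime := ⟨hr⟩
  obtain ⟨k, hk⟩ := index_pPrimeCore_of_nilpotent_commutator hnil r rfl
  set Q := Cfsg.pPrimeCore r G with hQ
  have hpg : IsPGroup r (G ⧸ Q) := by
    apply IsPGroup.of_card (n := k)
    rw [← Subgroup.index_eq_card, hk]
  have hnilq : Group.IsNilpotent (G ⧸ Q) := hpg.isNilpotent
  have hcyc1 : IsCyclic (Abelianization G) := by
    apply isCyclic_of_prime_card (p := r)
    show Nat.card (G ⧸ commutator G) = r
    rw [← Subgroup.index_eq_card]
  have hsurj : Function.Surjective (Abelianization.map (QuotientGroup.mk' Q)) := by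
    intro y
    obtain ⟨z, rfl⟩ : ∃ z, Abelianization.of z = y := QuotientGroup.mk_surjective y
    obtain ⟨t, rfl⟩ := QuotientGroup.mk'_surjective Q z
    exact ⟨Abelianization.of t, by simp⟩
  have hcyc2 : IsCyclic (Abelianization (G ⧸ Q)) := isCyclic_of_surjective _ hsurj
  have hcomm := commutative_of_isNilpotent_of_isCyclic_abelianization (G ⧸ Q) hcyc2
  have hDQ : commutator G ≤ Q := by
    rw [commutator_def, Subgroup.commutator_le]
    intro g₁ _ g₂ _
    rw [← QuotientGroup.eq_one_iff, ← QuotientGroup.mk'_apply, map_commutatorElement,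
      commutatorElement_eq_one_iff_commute]
    exact hcomm _ _
  exact Nat.Coprime.coprime_dvd_left (Subgroup.card_dvd_of_le hDQ) (card_pPrimeCore_coprime r)

theorem hall_commutator_facts [Finite G] [Group.IsSolvable G] :
    (∀ (H K : Subgroup G), H.Normal → (Nat.card H).Coprime H.index → Subgroup.IsComplement' H K → H ≤ commutator G →
        H = ⁅H, K⁆ ∧ H ⊓ Subgroup.centralizer (K : Set G) ≤ ⁅H, H⁆) ∧
      (Group.IsNilpotent ↥(commutator G) → (commutator G).index.Prime →
        (Nat.card ↥(commutator G)).Coprime (commutator G).index ∧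
        ∀ K : Subgroup G, Subgroup.IsComplement' (commutator G) K → commutator G = ⁅(⊤ : Subgroup G), K⁆) := by
  have ha : ∀ (H K : Subgroup G), H.Normal → (Nat.card H).Coprime H.index → Subgroup.IsComplement' H K → H ≤ commutator G →
        H = ⁅H, K⁆ ∧ H ⊓ Subgroup.centralizer (K : Set G) ≤ ⁅H, H⁆ := by
    intro H K hHn hcop hc hle
    have h1 := eq_commutator_of_complement_le_commutator H K inferInstance hc hle
    exact ⟨h1, inf_centralizer_le_commutator_of_hall H K hcop hc h1⟩
  refine ⟨ha, fun hnil hr => ?_⟩
  have hcop := coprime_of_nilpotent_commutator_prime_index hnil hr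
  refine ⟨hcop, fun K hK => ?_⟩
  have h1 := (ha (commutator G) K inferInstance hcop hK le_rfl).1
  apply le_antisymm
  · calc commutator G = ⁅commutator G, K⁆ := h1
      _ ≤ ⁅(⊤ : Subgroup G), K⁆ := Subgroup.commutator_mono le_top le_rfl
  · rw [commutator_def]
    exact Subgroup.commutator_mono le_rfl le_top

end Cfsg.Agent.Helper1
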