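import Mathlib
import Cfsg.Agent.Helper1.HallExtra
import Cfsg.Agent.Helper1.Card
import Cfsg.Agent.Helper1.CoreFree
import Cfsg.Agent.Helper1.SubnormalComm
import Cfsg.Agent.Helper6.BurnsidePQ

set_option autoImplicit false

/-!
P. Hall's converse theorem: a finite group with a Hall `p`-complement for every prime `p` is
solvable.
-/

namespace Cfsg.Agent.Helper1

universe u

variable {G : Type u} [Group G]

/-- a subgroup of `p`-power index and order prime to `p` has index the full `p`-part. -/
theorem index_eq_ppart_of_dvd [Finite G] {p : ℕ} (hp : p.Prime) (K : Subgroup G) {a m : ℕ}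
    (hidx : K.index ∣ p ^ a) (hcard : Nat.card K ∣ m) (hm : m.Coprime p) :
    K.index = ppart (Nat.card G) p := by
  obtain ⟨c, hc, hidx'⟩ := (Nat.dvd_prime_pow hp).1 hidx
  have hKp : (Nat.card K).Coprime p := Nat.Coprime.coprime_dvd_left hcard hm
  have h1 : K.index * Nat.card K = Nat.card G := K.index_mul_card
  have hfac : (Nat.card G).factorization p = c := by
    rw [← h1, hidx', Nat.factorization_mul (pow_ne_zero _ hp.ne_zero) Nat.card_pos.ne',
      Finsupp.add_apply, hp.factorization_pow, Finsupp.single_eq_same,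
      Nat.factorization_eq_zero_of_not_dvd, add_zero]
    exact (Nat.Prime.coprime_iff_not_dvd hp).1 hKp.symm
  unfold ppart
  rw [hfac, hidx']

theorem card_coprime_of_index_eq_ppart [Finite G] {p : ℕ} (hp : p.Prime) (H : Subgroup G)
    (h : H.index = ppart (Nat.card G) p) : (Nat.card H).Coprime p := by
  have h1 : H.index * Nat.card H = Nat.card G := H.index_mul_card
  have hN : Nat.card G ≠ 0 := Nat.card_pos.ne'
  have h2 : Nat.card H = Nat.card G / p ^ (Nat.card G).factorization p := by
    rw [h] at h1
    unfold ppart at h1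
    exact (Nat.div_eq_of_eq_mul_right (pow_pos hp.pos _) h1.symm).symm
  rw [h2]
  exact (Nat.coprime_ordCompl hp hN).symm

/-- existence of Hall `p`-complements for all primes. -/
def HasPComplements (G : Type u) [Group G] : Prop :=
  ∀ p : ℕ, p.Prime → ∃ H : Subgroup G, H.index = ppart (Nat.card G) p

theorem hasPComplements_subgroup_normal [Finite G] (N : Subgroup G) [N.Normal]
    (h : HasPComplements G) : HasPComplements N := by
  intro p hp
  obtain ⟨H, hH⟩ := h p hp
  refine ⟨H.subgroupOf N, ?_⟩
  apply index_eq_ppart_of_dvd hp (a := (Nat.card G).factorization p) (m := Nat.card H)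
  · show H.relIndex N ∣ _
    have : H.relIndex N ∣ H.index :=
      relIndex_dvd_index_of_normalizes (by rw [Subgroup.normalizer_eq_top]; exact le_top)
    rw [hH] at this
    exact this
  · exact Subgroup.card_comap_dvd_of_injective H N.subtype N.subtype_injective
  · exact card_coprime_of_index_eq_ppart hp H hH

theorem hasPComplements_quotient [Finite G] (N : Subgroup G) [N.Normal]
    (h : HasPComplements G) : HasPComplements (G ⧸ N) := by
  intro p hp
  obtain ⟨H, hH⟩ := h p hp
  refine ⟨H.map (QuotientGroup.mk' N), ?_⟩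
  apply index_eq_ppart_of_dvd hp (a := (Nat.card G).factorization p) (m := Nat.card H)
  · have := Subgroup.index_map_dvd H (QuotientGroup.mk'_surjective N)
    rw [hH] at this
    exact this
  · exact Subgroup.card_map_dvd H _
  · exact card_coprime_of_index_eq_ppart hp H hH

theorem coprime_of_mul_ppart {N i p q : ℕ} (hN : N ≠ 0) (hp : p.Prime)
    (h : i * (ppart N p * ppart N q) = N) : i.Coprime p := by
  apply Nat.Coprime.symm
  rw [Nat.Prime.coprime_iff_not_dvd hp]
  intro hd
  apply Nat.pow_succ_factorization_not_dvd hN hp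
  obtain ⟨j, rfl⟩ := hd
  refine ⟨j * ppart N q, ?_⟩
  conv_lhs => rw [← h]
  unfold ppart
  ring

/-- The key step in Hall's converse theorem. -/
theorem exists_normal_of_pq_hall [Finite G] {p q : ℕ} (hp : p.Prime) (hq : q.Prime) (hpq : p ≠ q)
    (Kp Kq H M : Subgroup G)
    (hKp : Kp.index = ppart (Nat.card G) p) (hKq : Kq.index = ppart (Nat.card G) q)
    (hqG : q ∣ Nat.card G)
    (hH : Nat.card H = ppart (Nat.card G) p * ppart (Nat.card G) q)
    (hMH : M ≤ H) (hMp : IsPGroup p M) (hMn : H ≤ Subgroup.normalizer (M : Set G))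
    (hM1 : M ≠ ⊥) :
    ∃ L : Subgroup G, L.Normal ∧ L ≠ ⊥ ∧ L ≠ ⊤ := by
  have hpF := Fact.mk hp
  set N := Nat.card G with hNdef
  have hN : N ≠ 0 := Nat.card_pos.ne'
  have hi : H.index * (ppart N p * ppart N q) = N := by rw [← hH]; exact H.index_mul_card
  have hi' : H.index * (ppart N q * ppart N p) = N := by rw [mul_comm (ppart N q)]; exact hi
  have hip : H.index.Coprime p := coprime_of_mul_ppart hN hp hi
  have hiq : H.index.Coprime q := coprime_of_mul_ppart hN hq hi'
  have hpq' : (Nat.Coprime p q) := (Nat.coprime_primes hp hq).2 hpq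
  -- `H ⊓ Kq` has order `p^a`
  have hidx1 : (H ⊓ Kq).index = H.index * ppart N q := by
    rw [index_inf_of_coprime, hKq]
    rw [hKq]
    exact Nat.Coprime.pow_right _ hiq
  have hcard1 : Nat.card (H ⊓ Kq : Subgroup G) = ppart N p := by
    have h1 := (H ⊓ Kq).index_mul_card
    rw [hidx1] at h1
    have h2 : H.index * ppart N q * ppart N p = N := by rw [mul_assoc]; exact hi'
    have hpos : 0 < H.index * ppart N q :=
      Nat.mul_pos (Nat.pos_of_ne_zero Subgroup.index_ne_zero_of_finite) (ppart_pos hq)
    exact Nat.eq_of_mul_eq_mul_left hpos (h1.trans h2.symm)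
  have hidx2 : (H ⊓ Kp).index = H.index * ppart N p := by
    rw [index_inf_of_coprime, hKp]
    rw [hKp]
    exact Nat.Coprime.pow_right _ hip
  -- `M ≤ H ⊓ Kq`
  have hfacH : (Nat.card H).factorization p = N.factorization p := by
    rw [hH]
    unfold ppart
    rw [Nat.factorization_mul (pow_ne_zero _ hp.ne_zero) (pow_ne_zero _ hq.ne_zero),
      Finsupp.add_apply, hp.factorization_pow, hq.factorization_pow, Finsupp.single_eq_same,
      Finsupp.single_eq_of_ne hpq, add_zero]
  have hMle : M ≤ H ⊓ Kq := by
    have hc : Nat.card ((H ⊓ Kq).subgroupOf H) = p ^ (Nat.card H).factorization p := by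
      rw [Nat.card_congr (Subgroup.subgroupOfEquivOfLe (inf_le_left : H ⊓ Kq ≤ H)).toEquiv,
        hcard1, hfacH]
      rfl
    let S : Sylow p H := Sylow.ofCard ((H ⊓ Kq).subgroupOf H) hc
    have hMn' : (M.subgroupOf H).Normal :=
      (Subgroup.normal_subgroupOf_iff_le_normalizer hMH).2 hMn
    have hMp' : IsPGroup p (M.subgroupOf H) := hMp.comap_subtype
    have hle : M.subgroupOf H ≤ S := hMp'.le_sylow_of_normal S
    intro m hm
    have : (⟨m, hMH hm⟩ : H) ∈ (S : Subgroup H) := hle (Subgroup.mem_subgroupOf.2 hm)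
    exact Subgroup.mem_subgroupOf.1 this
  -- `G = Kq (H ⊓ Kp)`
  have hcop : Kq.index.Coprime (H ⊓ Kp).index := by
    rw [hKq, hidx2]
    unfold ppart
    apply Nat.Coprime.pow_left
    apply Nat.Coprime.mul_right hiq.symm
    exact Nat.Coprime.pow_right _ hpq'.symm
  have hfac := (Cfsg.Agent.S0007.result Kq (H ⊓ Kp) hcop).2
  refine ⟨Subgroup.normalClosure (M : Set G), Subgroup.normalClosure_normal, ?_, ?_⟩
  · intro h
    apply hM1
    rw [eq_bot_iff, ← h]
    exact Subgroup.le_normalClosure
  · intro h
    have hle : Subgroup.normalClosure (M : Set G) ≤ Kq := by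
      unfold Subgroup.normalClosure
      rw [Subgroup.closure_le]
      intro z hz
      obtain ⟨m, hm, hmz⟩ := Group.mem_conjugatesOfSet_iff.1 hz
      obtain ⟨g, hg⟩ := isConj_iff.1 hmz
      obtain ⟨x, hx, y, hy, rfl⟩ := hfac g
      have hy' : y * m * y⁻¹ ∈ M :=
        (Subgroup.mem_normalizer_iff.1 (hMn (Subgroup.mem_inf.1 hy).1) m).1 hm
      have h3 : y * m * y⁻¹ ∈ Kq := (Subgroup.mem_inf.1 (hMle hy')).2
      have h4 : x * (y * m * y⁻¹) * x⁻¹ ∈ Kq := Kq.mul_mem (Kq.mul_mem hx h3) (Kq.inv_mem hx)
      have h5 : z = x * (y * m * y⁻¹) * x⁻¹ := by rw [← hg]; group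
      rw [h5]; exact h4
    rw [h, top_le_iff] at hle
    rw [hle, Subgroup.index_top] at hKq
    have hb : N.factorization q ≠ 0 := by
      have := (hq.factorization_pos_of_dvd hN hqG)
      omega
    have : 1 < ppart N q := Nat.one_lt_pow hb hq.one_lt
    omega

theorem hall_converse_aux : ∀ (n : ℕ) (G : Type u) [Group G] [Finite G], Nat.card G = n →
    HasPComplements G → Group.IsSolvable G := by
  intro n
  induction n using Nat.strong_induction_on with
  | _ n ih =>
  intro G _ _ hn h
  by_cases hex : ∃ L : Subgroup G, L.Normal ∧ L ≠ ⊥ ∧ L ≠ ⊤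
  · obtain ⟨L, hLn, hL1, hL2⟩ := hex
    have hLlt : Nat.card L < n := by
      rw [← hn]
      apply lt_of_le_of_ne (Subgroup.card_le_card_group L)
      intro heq
      exact hL2 (Subgroup.card_eq_iff_eq_top L |>.1 heq)
    have hQlt : Nat.card (G ⧸ L) < n := by
      rw [← hn, Subgroup.card_eq_card_quotient_mul_card_subgroup L]
      have h1 : 1 < Nat.card L := by
        rcases Nat.lt_or_ge 1 (Nat.card L) with h | h
        · exact h
        · exfalso
          have : Nat.card L = 1 := le_antisymm h Nat.card_pos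
          exact hL1 (Subgroup.card_eq_one.1 this)
      have h2 : 0 < Nat.card (G ⧸ L) := Nat.card_pos
      nlinarith
    have h1 : Group.IsSolvable L := ih _ hLlt L rfl (hasPComplements_subgroup_normal L h)
    have h2 : Group.IsSolvable (G ⧸ L) := ih _ hQlt (G ⧸ L) rfl (hasPComplements_quotient L h)
    exact Group.isSolvable_of_ker_le_range L.subtype (QuotientGroup.mk' L)
      (by rw [QuotientGroup.ker_mk', Subgroup.range_subtype])
  · rcases subsingleton_or_nontrivial G with hs | hnt
    · exact Group.isSolvable_of_comm (fun a b => Subsingleton.elim _ _)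
    classical
    set N := Nat.card G with hNdef
    have hN0 : N ≠ 0 := Nat.card_pos.ne'
    have hN1 : N ≠ 1 := by
      have := (Finite.one_lt_card_iff_nontrivial (α := G)).2 hnt
      omega
    obtain ⟨p, hp, hpN⟩ := Nat.exists_prime_and_dvd hN1
    have hpF := Fact.mk hp
    choose! K hK using h
    by_cases hKp1 : Nat.card (K p) = 1
    · have hcard : Nat.card G = p ^ (N.factorization p) := by
        rw [← (K p).index_mul_card, hKp1, mul_one, hK p hp]
        rfl
      have hGp : IsPGroup p G := IsPGroup.of_card hcard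
      have hnil : Group.IsNilpotent G := hGp.isNilpotent
      infer_instance
    exfalso
    obtain ⟨q, hq, hqK⟩ := Nat.exists_prime_and_dvd hKp1
    have hKpcop := card_coprime_of_index_eq_ppart hp (K p) (hK p hp)
    have hqp : p ≠ q := by
      rintro rfl
      exact (Nat.Prime.coprime_iff_not_dvd hp).1 hKpcop.symm hqK
    have hqN : q ∣ N := dvd_trans hqK (Subgroup.card_subgroup_dvd_card _)
    set T := (N.primeFactors.erase p).erase q with hT
    set H := T.inf K with hHdef
    have hHidx : H.index = ∏ r ∈ T, ppart N r := by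
      apply index_finset_inf K hK T
      intro r hr
      exact Nat.prime_of_mem_primeFactors (Finset.mem_of_mem_erase (Finset.mem_of_mem_erase hr))
    have hHcard : Nat.card H = ppart N p * ppart N q := by
      have h1 := prod_ppart_erase_erase_mul (N := N) hN0 p q hqp
      have h2 := H.index_mul_card
      rw [hHidx] at h2
      have hpos : 0 < ∏ r ∈ T, ppart N r := by
        rw [← hHidx]; exact Nat.pos_of_ne_zero Subgroup.index_ne_zero_of_finite
      rw [← hT] at h1
      have h3 : (∏ r ∈ T, ppart N r) * Nat.card H =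
          (∏ r ∈ T, ppart N r) * (ppart N p * ppart N q) := by
        rw [h2, ← hNdef]
        calc N = (∏ r ∈ T, ppart N r) * ppart N q * ppart N p := h1.symm
          _ = _ := by ring
      exact Nat.eq_of_mul_eq_mul_left hpos h3
    have hHsolv : Group.IsSolvable H :=
      Cfsg.Agent.Helper6.burnside_pq p q _ _ hp hq hHcard
    have hHnt : Nontrivial H := by
      apply (Finite.one_lt_card_iff_nontrivial).1
      rw [hHcard]
      have hb : N.factorization p ≠ 0 := by
        have := (hp.factorization_pos_of_dvd hN0 hpN)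
        omega
      have h1 : 1 < ppart N p := Nat.one_lt_pow hb hp.one_lt
      have h2 : 0 < ppart N q := ppart_pos hq
      nlinarith
    obtain ⟨s, hs, M, hMn, hMne, hMp, hMc, hmin⟩ := exists_minimal_normal_abelian ↥H
    have hsH : s ∣ Nat.card H := by
      obtain ⟨k, hk⟩ := IsPGroup.iff_card.1 hMp
      have hk0 : k ≠ 0 := by
        rintro rfl
        rw [pow_zero] at hk
        exact hMne (Subgroup.card_eq_one.1 hk)
      have : s ∣ Nat.card M := by rw [hk]; exact dvd_pow_self s hk0
      exact dvd_trans this (Subgroup.card_subgroup_dvd_card M)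
    have hspq : s = p ∨ s = q := by
      rw [hHcard] at hsH
      rcases (Nat.Prime.dvd_mul hs.out).1 hsH with h | h
      · left
        exact (Nat.prime_dvd_prime_iff_eq hs.out hp).1 (hs.out.dvd_of_dvd_pow h)
      · right
        exact (Nat.prime_dvd_prime_iff_eq hs.out hq).1 (hs.out.dvd_of_dvd_pow h)
    have hM'H : M.map H.subtype ≤ H := Subgroup.map_subtype_le _
    have hM'n : H ≤ Subgroup.normalizer ((M.map H.subtype : Subgroup G) : Set G) := by
      apply le_normalizer_of_forall_conj_mem
      intro d hd c hc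
      obtain ⟨m, hm, rfl⟩ := Subgroup.mem_map.1 hc
      have := hMn.conj_mem m hm ⟨d, hd⟩
      exact Subgroup.mem_map.2 ⟨_, this, rfl⟩
    have hM'1 : M.map H.subtype ≠ ⊥ := by
      intro h
      apply hMne
      rw [eq_bot_iff]
      intro x hx
      have : (x : G) ∈ M.map H.subtype := Subgroup.mem_map_of_mem _ hx
      rw [h, Subgroup.mem_bot] at this
      rw [Subgroup.mem_bot]
      exact Subtype.ext this
    apply hex
    rcases hspq with rfl | rfl
    · exact exists_normal_of_pq_hall hp hq hqp (K s) (K q) H (M.map H.subtype) (hK s hp)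
        (hK q hq) hqN hHcard hM'H (hMp.map _) hM'n hM'1
    · exact exists_normal_of_pq_hall hq hp hqp.symm (K s) (K p) H (M.map H.subtype) (hK s hq)
        (hK p hp) hpN (by rw [hHcard, mul_comm]) hM'H (hMp.map _) hM'n hM'1

end Cfsg.Agent.Helper1
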