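import Mathlib
import Cfsg.Agent.Helper1.HallConverse

set_option autoImplicit false

namespace Cfsg.Agent.Helper1

universe u

variable {G : Type u} [Group G]

theorem solvable_of_proper_ppow_index [Finite G]
    (h : ∀ H : Subgroup G, H ≠ ⊥ → ∀ p : ℕ, p.Prime → p ∣ Nat.card H →
      ∃ K : Subgroup H, K ≠ ⊤ ∧ ∃ k : ℕ, K.index = p ^ k) :
    Group.IsSolvable G := by
  have key : ∀ n : ℕ, ∀ H : Subgroup G, Nat.card H = n → Group.IsSolvable H := by
    intro n
    induction n using Nat.strong_induction_on with
    | _ n ih =>
    intro H hn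
    apply hall_converse_aux _ ↥H rfl
    intro p hp
    by_cases hpH : p ∣ Nat.card H
    · have hH1 : H ≠ ⊥ := by
        rintro rfl
        rw [Subgroup.card_bot] at hpH
        exact hp.one_lt.ne' (Nat.dvd_one.1 hpH)
      obtain ⟨K, hKtop, k, hk⟩ := h H hH1 p hp hpH
      have hKlt : Nat.card (K.map H.subtype) < n := by
        rw [Subgroup.card_subtype, ← hn]
        exact lt_of_le_of_ne (Subgroup.card_le_card_group K)
          (fun heq => hKtop ((Subgroup.card_eq_iff_eq_top K).1 heq))
      have hK'solv : Group.IsSolvable (K.map H.subtype) := ih _ hKlt _ rfl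
      have hKsolv : Group.IsSolvable K :=
        Group.isSolvable_of_isSolvable_injective
          (f := (K.equivMapOfInjective H.subtype H.subtype_injective).toMonoidHom)
          (MulEquiv.injective _)
      obtain ⟨K₀, hK₀⟩ := exists_pcomplement ↥K p hp
      refine ⟨K₀.map K.subtype, ?_⟩
      apply index_eq_ppart_of_dvd hp (a := (Nat.card K).factorization p + k) (m := Nat.card K₀)
      · rw [Subgroup.index_map_subtype, hK₀, hk, ppart, ← pow_add]
      · rw [Subgroup.card_subtype]
      · exact card_coprime_of_index_eq_ppart hp K₀ hK₀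
    · refine ⟨⊤, ?_⟩
      rw [Subgroup.index_top]
      unfold ppart
      rw [Nat.factorization_eq_zero_of_not_dvd hpH, pow_zero]
  have := key _ ⊤ rfl
  exact Group.isSolvable_of_isSolvable_injective (f := (Subgroup.topEquiv (G := G)).symm.toMonoidHom)
    (MulEquiv.injective _)

end Cfsg.Agent.Helper1
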