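import Mathlib
import Cfsg.Agent.Helper1.NilpHallFusion
import Cfsg.Agent.Helper1.Fusion

set_option autoImplicit false

/-!
If `N_G(P) = H` for every Sylow subgroup `P` of `H` and `H` is not itself a Sylow subgroup, then
`H` has a normal complement.
-/

namespace Cfsg.Agent.Helper1

open scoped Pointwise

universe u

variable {G : Type u} [Group G]

theorem exists_sylow_eq_map_of_normalizer_eq [Finite G] {p : ℕ} [hp : Fact p.Prime]
    (H : Subgroup G) (S : Sylow p H)
    (hN : Subgroup.normalizer ((((S : Subgroup H).map H.subtype : Subgroup G)) : Set G) = H) :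
    ∃ P : Sylow p G, (P : Subgroup G) = (S : Subgroup H).map H.subtype := by
  set P' : Subgroup G := (S : Subgroup H).map H.subtype with hP'
  set n := (Nat.card H).factorization p with hn
  have hcard : Nat.card P' = p ^ n := by
    rw [hP', Subgroup.card_map_of_injective H.subtype_injective, S.card_eq_multiplicity]
  have hnot : ¬ p ^ (n + 1) ∣ Nat.card G := by
    intro hdvd
    have h1 := Sylow.prime_pow_dvd_card_normalizer hdvd hcard
    rw [hN] at h1
    exact Nat.pow_succ_factorization_not_dvd Nat.card_pos.ne' hp.out h1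
  have hdvd : p ^ n ∣ Nat.card G := by
    rw [← hcard]; exact Subgroup.card_subgroup_dvd_card P'
  have hG0 : Nat.card G ≠ 0 := Nat.card_pos.ne'
  have hfac : (Nat.card G).factorization p = n := by
    have h1 := (hp.out.pow_dvd_iff_le_factorization hG0).1 hdvd
    have h2 : ¬ n + 1 ≤ (Nat.card G).factorization p :=
      fun h => hnot ((hp.out.pow_dvd_iff_le_factorization hG0).2 h)
    omega
  have hcard' : Nat.card P' = p ^ (Nat.card G).factorization p := by rw [hfac, hcard]
  exact ⟨Sylow.ofCard _ hcard', Sylow.coe_ofCard _ hcard'⟩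

theorem normal_complement_of_sylow_normalizers [Finite G] (H : Subgroup G)
    (hnot : ∀ p : ℕ, p.Prime → ∀ P : Sylow p G, (P : Subgroup G) ≠ H)
    (hnorm : ∀ p : ℕ, p.Prime → p ∣ Nat.card H → ∀ P : Sylow p H,
      Subgroup.normalizer (((P : Subgroup H).map H.subtype : Subgroup G) : Set G) = H) :
    ∃ N : Subgroup G, N.Normal ∧ Subgroup.IsComplement' N H := by
  -- `H` is a Hall subgroup
  have hHall : (Nat.card H).Coprime H.index := by
    apply Nat.coprime_of_dvd
    intro p hp hpH hpi
    have : Fact p.Prime := ⟨hp⟩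
    obtain ⟨S⟩ : Nonempty (Sylow p H) := inferInstance
    obtain ⟨P, hP⟩ := exists_sylow_eq_map_of_normalizer_eq H S (hnorm p hp hpH S)
    have hPH : (P : Subgroup G) ≤ H := by rw [hP]; exact Subgroup.map_subtype_le _
    exact P.not_dvd_index (hpi.trans (Subgroup.index_dvd_of_le hPH))
  -- `H` is nilpotent
  have hnil : Group.IsNilpotent H := by
    apply ((Group.isNilpotent_of_finite_tfae (G := H)).out 0 3).2
    intro p hp S
    by_cases hpH : p ∣ Nat.card H
    · have hN := hnorm p hp.out hpH S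
      constructor
      intro x hx h
      have hh : (h : G) ∈ Subgroup.normalizer
          (((S : Subgroup H).map H.subtype : Subgroup G) : Set G) := by rw [hN]; exact h.2
      have h1 := (Subgroup.mem_normalizer_iff.1 hh (x : G)).1 ⟨x, hx, rfl⟩
      obtain ⟨y, hy, hyx⟩ := h1
      have : y = h * x * h⁻¹ := Subtype.ext (by simpa using hyx)
      rw [← this]; exact hy
    · have : (S : Subgroup H) = ⊥ := by
        rw [← Subgroup.card_eq_one, S.card_eq_multiplicity,
          Nat.factorization_eq_zero_of_not_dvd hpH, pow_zero]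
      rw [this]; infer_instance
  apply exists_normal_complement_of_hall H hHall
  intro p hp hpH
  have : Fact p.Prime := ⟨hp⟩
  obtain ⟨S⟩ : Nonempty (Sylow p H) := inferInstance
  obtain ⟨P, hP⟩ := exists_sylow_eq_map_of_normalizer_eq H S (hnorm p hp hpH S)
  -- a second prime
  have hq : ∃ q : ℕ, q.Prime ∧ q ∣ Nat.card H ∧ q ≠ p := by
    by_contra hno
    push Not at hno
    have hpow := Nat.eq_prime_pow_of_unique_prime_dvd (Nat.card_pos (α := H)).ne'
      (fun {d} hd hdH => hno d hd hdH)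
    obtain ⟨k, hk⟩ : ∃ k, Nat.card H = p ^ k := ⟨_, hpow⟩
    have hStop : (S : Subgroup H) = ⊤ := by
      apply (Subgroup.card_eq_iff_eq_top _).1
      rw [S.card_eq_multiplicity, hk, hp.factorization_pow]
      simp
    apply hnot p hp P
    rw [hP, hStop]
    ext x
    simp
  obtain ⟨q, hq, hqH, hqp⟩ := hq
  have : Fact q.Prime := ⟨hq⟩
  obtain ⟨T⟩ : Nonempty (Sylow q H) := inferInstance
  obtain ⟨Q, hQ⟩ := exists_sylow_eq_map_of_normalizer_eq H T (hnorm q hq hqH T)
  have hQN : Subgroup.normalizer ((Q : Subgroup G) : Set G) = H := by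
    rw [hQ]; exact hnorm q hq hqH T
  -- elements of `P` and `Q` commute
  have hcomm : ∀ a ∈ (P : Subgroup G), ∀ b ∈ (Q : Subgroup G), a * b = b * a := by
    intro a ha b hb
    rw [hP] at ha
    rw [hQ] at hb
    obtain ⟨a₀, ha₀, rfl⟩ := ha
    obtain ⟨b₀, hb₀, rfl⟩ := hb
    obtain ⟨i, hi⟩ := (IsPGroup.iff_orderOf.1 S.2) ⟨a₀, ha₀⟩
    obtain ⟨j, hj⟩ := (IsPGroup.iff_orderOf.1 T.2) ⟨b₀, hb₀⟩
    rw [Subgroup.orderOf_mk] at hi hj
    have hcop : (orderOf a₀).Coprime (orderOf b₀) := by
      rw [hi, hj]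
      exact Nat.Coprime.pow _ _ ((Nat.coprime_primes hp hq).2 hqp.symm)
    have := commute_of_coprime_orderOf a₀ b₀ hcop
    have := congrArg Subtype.val this
    simpa using this
  rw [hasNormalPComplement_iff P]
  apply exists_normal_complement_of_controls_fusion
  rintro x hx y hy ⟨g, hg⟩
  set C : Subgroup G := Subgroup.centralizer ({y} : Set G) with hC
  have hmemC : ∀ c : G, c ∈ C ↔ y * c = c * y := by
    intro c
    rw [hC, Subgroup.mem_centralizer_iff]
    simp
  have hQC : (Q : Subgroup G) ≤ C := fun b hb => (hmemC b).2 (hcomm y hy b hb)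
  have hgQC : ((g • Q : Sylow q G) : Subgroup G) ≤ C := by
    rw [Sylow.coe_subgroup_smul]
    intro b hb
    rw [mem_conj_smul] at hb
    rw [hmemC]
    have h1 := hcomm x hx _ hb
    rw [← hg]
    have e1 : g * x * g⁻¹ * b = g * (x * (g⁻¹ * b * g)) * g⁻¹ := by group
    have e2 : b * (g * x * g⁻¹) = g * ((g⁻¹ * b * g) * x) * g⁻¹ := by group
    rw [e1, e2, h1]
  obtain ⟨c, hc, hcQ⟩ := sylow_conj_in_subgroup C (g • Q) Q hgQC hQC
  rw [Sylow.coe_subgroup_smul, ← mul_smul, ← map_mul] at hcQ
  have hcgH : c * g ∈ H := by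
    rw [← hQN]
    exact mem_normalizer_of_conj_smul_eq hcQ
  have hcy : c * y * c⁻¹ = y := by
    rw [← (hmemC c).1 hc, mul_inv_cancel_right]
  have hxH : x ∈ H := by
    have : x ∈ (S : Subgroup H).map H.subtype := by rw [← hP]; exact hx
    exact Subgroup.map_subtype_le _ this
  have hx' : x ∈ (S : Subgroup H).map H.subtype := by rw [← hP]; exact hx
  obtain ⟨x₀, hx₀, rfl⟩ := hx'
  obtain ⟨z, hz, hzx⟩ := nilpotent_sylow_controls hnil S x₀ hx₀ ⟨c * g, hcgH⟩
  refine ⟨z, ?_, ?_⟩
  · show (z : G) ∈ (P : Subgroup G)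
    rw [hP]; exact ⟨z, hz, rfl⟩
  · have := congrArg Subtype.val hzx
    simp only [Subgroup.coe_mul, Subgroup.coe_inv] at this
    show (z : G) * (x₀ : G) * (z : G)⁻¹ = y
    rw [this, ← hcy, ← hg]
    show c * g * (x₀ : G) * (c * g)⁻¹ = c * (g * (x₀ : G) * g⁻¹) * c⁻¹
    group

end Cfsg.Agent.Helper1
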