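import Mathlib
import Cfsg.Agent.Helper1.TransferSec
import Cfsg.Agent.Helper1.HallWielandtA
import Cfsg.Agent.Helper1.PGroup
import Cfsg.Agent.Helper5.TransferEval

set_option autoImplicit false

/-!
The `p`-group step in the Hall–Wielandt transfer theorem.
-/

namespace Cfsg.Agent.Helper1

open MonoidHom Subgroup MulAction

/-- transfer into a subgroup that is everything -/
theorem transfer_eq_of_eq_top {G : Type*} [Group G] {A : Type*} [CommGroup A] {H : Subgroup G}
    [H.FiniteIndex] (hH : H = ⊤) (ϕ : H →* A) (g : G) :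
    transfer ϕ g = ϕ ⟨g, hH ▸ Subgroup.mem_top g⟩ := by
  subst hH
  haveI : Subsingleton (G ⧸ (⊤ : Subgroup G)) := QuotientGroup.subsingleton_quotient_top
  letI : Fintype (G ⧸ (⊤ : Subgroup G)) := Fintype.ofFinite _
  rw [transfer_eq_prod_section ϕ (fun _ => 1) (fun q => Subsingleton.elim _ _) g]
  rw [Fintype.prod_subsingleton _ ((1 : G) : G ⧸ (⊤ : Subgroup G))]
  congr 1
  apply Subtype.ext
  simp

theorem inv_mul_pow_mul' {U : Type*} [Group U] (g x : U) (j : ℕ) :
    (g⁻¹ * x * g) ^ j = g⁻¹ * x ^ j * g := by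
  have := conj_pow (a := g⁻¹) (b := x) (i := j)
  simpa using this

theorem orderOf_mk_eq_prime {p : ℕ} [hp : Fact p.Prime] {U : Type*} [Group U] [Finite U]
    (S : Subgroup U) [S.Normal] (hSidx : S.index = p) (z : U) (hz : z ∉ S) :
    orderOf (z : U ⧸ S) = p := by
  apply orderOf_eq_prime
  · have h1 : Nat.card (U ⧸ S) = p := by rw [← Subgroup.index_eq_card, hSidx]
    rw [← h1]
    exact pow_card_eq_one'
  · intro h
    exact hz ((QuotientGroup.eq_one_iff z).1 h)

theorem transfer_pgroup_step {p : ℕ} [hp : Fact p.Prime] {U : Type*} [Group U] [Finite U]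
    (hU : IsPGroup p U) {A : Type*} [CommGroup A] (hA : ∀ a : A, a ^ p = 1)
    (St : Subgroup U) (ψ : St →* A) (k : U) (W' : Subgroup U)
    (hgen : zpowers k ⊔ W' = ⊤) (hW : ¬ W' ≤ St)
    (hψ : ∀ c : St, (∃ g : U, ∃ m : ℕ, p ∣ m ∧ (c : U) = g⁻¹ * k ^ m * g) → ψ c = 1)
    (hEngel : ∀ z ∈ W', (fun y : U => y⁻¹ * z⁻¹ * y * z)^[p - 1] k = 1) :
    transfer ψ k = 1 := by
  classical
  have hSt : St ≠ ⊤ := fun h => hW (h ▸ le_top)
  obtain ⟨S, hS, hStS⟩ : ∃ S, IsCoatom S ∧ St ≤ S :=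
    (eq_top_or_exists_le_coatom St).resolve_left hSt
  haveI hSn : S.Normal := IsPGroup.coatom_normal hU hS
  have hSidx : S.index = p := IsPGroup.coatom_index hU hS
  rw [transfer_trans hStS ψ k]
  set ψ' := ψ.comp (subgroupOfEquivOfLe hStS).toMonoidHom with hψ'
  set ρ : S →* A := transfer ψ' with hρ
  have hKρ : ∀ s : S, (∃ g : U, ∃ m : ℕ, p ∣ m ∧ (s : U) = g⁻¹ * k ^ m * g) → ρ s = 1 := by
    rintro s ⟨g, m, hm, hs⟩
    apply Cfsg.Agent.Helper5.transfer_eq_one_of_forall
    intro j g' hmem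
    show ψ ((subgroupOfEquivOfLe hStS) ⟨_, hmem⟩) = 1
    apply hψ
    refine ⟨g * g', m * j, Dvd.dvd.mul_right hm j, ?_⟩
    rw [subgroupOfEquivOfLe_apply_coe]
    show ((g'⁻¹ * s ^ j * g' : S) : U) = _
    rw [Subgroup.coe_mul, Subgroup.coe_mul, Subgroup.coe_inv, Subgroup.coe_pow, hs,
      inv_mul_pow_mul', pow_mul]
    group
  by_cases hkS : k ∈ S
  · have hWS : ¬ W' ≤ S := by
      intro h
      have h1 : (⊤ : Subgroup U) ≤ S := hgen ▸ sup_le (zpowers_le.2 hkS) h
      exact hS.1 (top_le_iff.1 h1)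
    obtain ⟨z, hzW, hzS⟩ := SetLike.not_le_iff_exists.1 hWS
    have hord : orderOf (z : U ⧸ S) = p := orderOf_mk_eq_prime S hSidx z hzS
    letI : Fintype (U ⧸ S) := Fintype.ofFinite _
    let r : Fin p → U := fun i => z ^ (i : ℕ)
    have hr : Function.Bijective (fun i => ((r i : U) : U ⧸ S)) := by
      rw [Fintype.bijective_iff_injective_and_card]
      constructor
      · intro i j hij
        have h1 : (z : U ⧸ S) ^ (i : ℕ) = (z : U ⧸ S) ^ (j : ℕ) := hij
        have hi : (i : ℕ) ∈ Set.Iio (orderOf (z : U ⧸ S)) := by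
          rw [hord]; exact i.2
        have hj : (j : ℕ) ∈ Set.Iio (orderOf (z : U ⧸ S)) := by
          rw [hord]; exact j.2
        exact Fin.ext (pow_injOn_Iio_orderOf hi hj h1)
      · rw [Fintype.card_fin, ← Nat.card_eq_fintype_card, ← Subgroup.index_eq_card, hSidx]
    have hσ : ∀ i, ((r (id i) : U) : U ⧸ S) = k⁻¹ • ((r i : U) : U ⧸ S) := by
      intro i
      show ((r i : U) : U ⧸ S) = ((k⁻¹ * r i : U) : U ⧸ S)
      rw [QuotientGroup.eq, ← mul_assoc]
      exact hSn.conj_mem' _ (S.inv_mem hkS) _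
    rw [transfer_eq_prod_index ρ r hr k id hσ]
    let τ : S →* S := (MulAut.conjNormal z⁻¹ : MulAut S).toMonoidHom
    let kS : S := ⟨k, hkS⟩
    have hτ1 : ∀ s : S, ((τ s : S) : U) = z⁻¹ * s * z := by
      intro s
      show ((MulAut.conjNormal z⁻¹ s : S) : U) = _
      rw [MulAut.conjNormal_apply, inv_inv]
    have hτ : ∀ (i : ℕ) (s : S), ((τ^[i] s : S) : U) = (z ^ i)⁻¹ * s * z ^ i := by
      intro i
      induction i with
      | zero => intro s; simp
      | succ i ih =>
        intro s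
        rw [Function.iterate_succ_apply', hτ1, ih, pow_succ]
        group
    have hterm : ∀ i : Fin p, ρ ⟨(r i)⁻¹ * k * r (id i), transferIdx_mem r k id hσ i⟩ =
        ρ (τ^[(i : ℕ)] kS) := by
      intro i
      congr 1
      apply Subtype.ext
      rw [hτ]
      rfl
    rw [Finset.prod_congr rfl (fun i _ => hterm i)]
    rw [Fin.prod_univ_eq_prod_range (fun i => ρ (τ^[i] kS)) p]
    rw [← engel_sum hA τ ρ kS]
    have hc : ∀ (n : ℕ) (s : S), (((fun x : S => x⁻¹ * τ x)^[n] s : S) : U) =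
        (fun y : U => y⁻¹ * z⁻¹ * y * z)^[n] (s : U) := by
      intro n
      induction n with
      | zero => intro s; rfl
      | succ n ih =>
        intro s
        rw [Function.iterate_succ_apply', Function.iterate_succ_apply', ← ih]
        show (((fun x : S => x⁻¹ * τ x)^[n] s)⁻¹ * τ ((fun x : S => x⁻¹ * τ x)^[n] s) : S).1 = _
        rw [Subgroup.coe_mul, Subgroup.coe_inv, hτ1]
        simp only [mul_assoc]
    have h1 : (fun x : S => x⁻¹ * τ x)^[p - 1] kS = 1 := by
      apply Subtype.ext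
      rw [hc]
      exact hEngel z hzW
    rw [h1, map_one]
  · apply Cfsg.Agent.Helper5.transfer_eq_one_of_forall
    intro j g hmem
    apply hKρ
    refine ⟨g, j, ?_, rfl⟩
    have h1 : k ^ j ∈ S := by
      have := hSn.conj_mem _ hmem g
      simpa [mul_assoc] using this
    have hord : orderOf (k : U ⧸ S) = p := orderOf_mk_eq_prime S hSidx k hkS
    rw [← hord]
    apply orderOf_dvd_of_pow_eq_one
    rw [← QuotientGroup.mk_pow]
    exact (QuotientGroup.eq_one_iff _).2 h1

end Cfsg.Agent.Helper1
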