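import Mathlib
import Cfsg.Prelude.Def_Transfer
import Cfsg.Agent.Helper1.HallWielandtB
import Cfsg.Agent.Helper1.Brodkey

set_option autoImplicit false

/-!
The Hall–Wielandt transfer theorem, elementary abelian version.
-/

namespace Cfsg.Agent.Helper1

open MonoidHom Subgroup MulAction
open scoped Pointwise

universe u

variable {G : Type u} [Group G]

theorem weaklyClosed_le_normalizer {W P : Subgroup G} (hW : Cfsg.IsWeaklyClosed W P) :
    P ≤ Subgroup.normalizer (W : Set G) := by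
  intro y hy
  have h1 : W.map (MulAut.conj y).toMonoidHom ≤ P := by
    rintro _ ⟨w, hw, rfl⟩
    show y * w * y⁻¹ ∈ P
    exact P.mul_mem (P.mul_mem hy (hW.1 hw)) (P.inv_mem hy)
  exact Subgroup.mem_normalizer_iff_map_conj_eq.2 (hW.2 y h1)

theorem coe_engel_iterate (U : Subgroup G) (z : U) :
    ∀ (n : ℕ) (y : U), (((fun y : U => y⁻¹ * z⁻¹ * y * z)^[n] y : U) : G) =
      (fun y : G => y⁻¹ * (z : G)⁻¹ * y * (z : G))^[n] (y : G) := by
  intro n
  induction n with
  | zero => intro y; rfl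
  | succ n ih =>
    intro y
    rw [Function.iterate_succ_apply', Function.iterate_succ_apply', ← ih]
    simp only [Subgroup.coe_mul, Subgroup.coe_inv]

set_option maxHeartbeats 1000000 in
theorem hall_wielandt_elem [Finite G] {p : ℕ} [hp : Fact p.Prime] (P : Sylow p G)
    (W : Subgroup G) (hW : Cfsg.IsWeaklyClosed W (P : Subgroup G))
    (hEngel : ∀ u ∈ (P : Subgroup G), ∀ z ∈ W,
      (fun y : G => y⁻¹ * z⁻¹ * y * z)^[p - 1] u = 1)
    {A : Type*} [CommGroup A] (hA : ∀ a : A, a ^ p = 1) :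
    ∀ (n : ℕ) (u : G), u ∈ (P : Subgroup G) → orderOf u ≤ n → (∀ Λ : G →* A, Λ u = 1) →
      ∀ (μ : Subgroup.normalizer (W : Set G) →* A)
        (hu' : u ∈ Subgroup.normalizer (W : Set G)), μ ⟨u, hu'⟩ = 1 := by
  classical
  set N := Subgroup.normalizer (W : Set G) with hN
  have hPN : (P : Subgroup G) ≤ N := weaklyClosed_le_normalizer hW
  intro n
  induction n using Nat.strong_induction_on with
  | _ n ih =>
  intro u hu hn hΛ μ hu'
  by_cases hu1 : u = 1
  · subst hu1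
    exact map_one μ
  have huo : ∃ j : ℕ, orderOf u = p ^ (j + 1) := by
    obtain ⟨j, hj⟩ := (IsPGroup.iff_orderOf.1 P.2) ⟨u, hu⟩
    rw [Subgroup.orderOf_mk] at hj
    cases j with
    | zero =>
      rw [pow_zero, orderOf_eq_one_iff] at hj
      exact absurd hj hu1
    | succ j => exact ⟨j, hj⟩
  obtain ⟨j₀, hj₀⟩ := huo
  -- K0
  have hK0 : ∀ (v : G) (hv : v ∈ N),
      (∃ g : G, ∃ m : ℕ, p ∣ m ∧ v = g⁻¹ * u ^ m * g) → μ ⟨v, hv⟩ = 1 := by
    rintro v hv ⟨g, m, hm, hvg⟩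
    have hvk : v ^ p ^ (j₀ + 1) = 1 := by
      rw [hvg, inv_mul_pow_mul', ← pow_mul, mul_comm, pow_mul, ← hj₀, pow_orderOf_eq_one, one_pow]
      group
    have hvp : IsPGroup p (zpowers v) := by
      rintro ⟨y, hy⟩
      obtain ⟨i, rfl⟩ := mem_zpowers_iff.1 hy
      refine ⟨j₀ + 1, Subtype.ext ?_⟩
      show (v ^ i) ^ p ^ (j₀ + 1) = 1
      rw [← zpow_natCast, ← zpow_mul, mul_comm, zpow_mul, zpow_natCast, hvk, one_zpow]
    obtain ⟨c, hc, hcP⟩ := exists_conj_le_sylow_of_le N P hPN (zpowers v) hvp (zpowers_le.2 hv)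
    have hv'P : c * v * c⁻¹ ∈ (P : Subgroup G) := hcP (conj_mem_conj_smul (mem_zpowers v))
    have hv'N : c * v * c⁻¹ ∈ N := hPN hv'P
    have hord1 : orderOf (c * v * c⁻¹) = orderOf (u ^ m) := by
      have h1 : c * v * c⁻¹ = MulAut.conj (c * g⁻¹) (u ^ m) := by
        rw [MulAut.conj_apply, hvg]; group
      rw [h1, MulEquiv.orderOf_eq]
    have hord2 : orderOf (u ^ m) < orderOf u := by
      rw [orderOf_pow]
      have hpos : 0 < orderOf u := orderOf_pos u
      have hd : p ∣ Nat.gcd (orderOf u) m := by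
        apply Nat.dvd_gcd _ hm
        rw [hj₀, pow_succ]; exact dvd_mul_left _ _
      have hgpos : 0 < Nat.gcd (orderOf u) m := Nat.gcd_pos_of_pos_left _ hpos
      have h2 : 2 ≤ Nat.gcd (orderOf u) m :=
        le_trans hp.out.two_le (Nat.le_of_dvd hgpos hd)
      exact Nat.div_lt_self hpos h2
    have hΛ' : ∀ Λ : G →* A, Λ (c * v * c⁻¹) = 1 := by
      intro Λ
      rw [hvg]
      simp only [map_mul, map_inv, map_pow, hΛ Λ, one_pow, mul_one]
      simp
    have h3 := ih (orderOf (c * v * c⁻¹)) (by rw [hord1]; exact lt_of_lt_of_le hord2 hn)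
      (c * v * c⁻¹) hv'P le_rfl hΛ' μ hv'N
    have h4 : (⟨c * v * c⁻¹, hv'N⟩ : N) = ⟨c, hc⟩ * ⟨v, hv⟩ * ⟨c, hc⟩⁻¹ := rfl
    rw [h4, map_mul, map_mul, map_inv, mul_comm, inv_mul_cancel_left] at h3
    exact h3
  -- the subgroup U
  set U : Subgroup G := zpowers u ⊔ W with hUdef
  have hWP : W ≤ (P : Subgroup G) := hW.1
  have hUP : U ≤ (P : Subgroup G) := sup_le (zpowers_le.2 hu) hWP
  have hUN : U ≤ N := hUP.trans hPN
  have hWU : W ≤ U := le_sup_right
  have hUp : IsPGroup p U := P.2.to_le hUP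
  let k : U := ⟨u, le_sup_left (α := Subgroup G) (mem_zpowers u)⟩
  letI : Fintype (orbitRel.Quotient U (G ⧸ N)) := Fintype.ofFinite _
  have hmackey := transfer_mackey μ U k
  have hΛu : transfer μ (k : G) = 1 := hΛ (transfer μ)
  rw [hΛu] at hmackey
  set ω₀ : orbitRel.Quotient U (G ⧸ N) := Quotient.mk'' ((1 : G) : G ⧸ N) with hω₀
  -- facts
  have hF1 : ∀ ω : orbitRel.Quotient U (G ⧸ N), ω.out.out ∈ N → ω = ω₀ := by
    intro ω ht
    have h1 : ((ω.out.out : G) : G ⧸ N) = ((1 : G) : G ⧸ N) := by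
      rw [QuotientGroup.eq]
      exact N.mul_mem (N.inv_mem ht) N.one_mem
    rw [QuotientGroup.out_eq'] at h1
    rw [hω₀, ← h1, Quotient.out_eq']
  have hF0 : ω₀.out.out ∈ N := by
    have h1 : (Quotient.mk'' ω₀.out : orbitRel.Quotient U (G ⧸ N)) =
        Quotient.mk'' ((1 : G) : G ⧸ N) := Quotient.out_eq' ω₀
    obtain ⟨c, hc⟩ : ∃ c : U, c • ((1 : G) : G ⧸ N) = ω₀.out := Quotient.exact' h1
    have h2 : (((c : G) * 1 : G) : G ⧸ N) = ((ω₀.out.out : G) : G ⧸ N) := by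
      rw [QuotientGroup.out_eq']; exact hc
    have h3 := QuotientGroup.eq.1 h2
    have h4 := N.mul_mem (hUN c.2) h3
    simpa using h4
  have hF2 : ∀ t : G, t ∈ N → transfer (conjStabHom μ U t) k = μ ⟨u, hu'⟩ := by
    intro t ht
    have hstab : stabilizer U ((t : G) : G ⧸ N) = ⊤ := by
      rw [eq_top_iff]
      intro c _
      show c • ((t : G) : G ⧸ N) = ((t : G) : G ⧸ N)
      show ((((c : U) : G) * t : G) : G ⧸ N) = ((t : G) : G ⧸ N)
      rw [QuotientGroup.eq]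
      have := N.mul_mem (N.inv_mem (N.mul_mem (hUN c.2) ht)) ht
      exact this
    rw [transfer_eq_of_eq_top hstab, conjStabHom_apply]
    have h4 : (⟨t⁻¹ * u * t, conjStab_mem U t ⟨k, hstab ▸ Subgroup.mem_top k⟩⟩ : N) =
        ⟨t, ht⟩⁻¹ * ⟨u, hu'⟩ * ⟨t, ht⟩ := rfl
    show μ ⟨t⁻¹ * u * t, _⟩ = _
    rw [h4, map_mul, map_mul, map_inv, mul_comm, mul_inv_cancel_left]
  have hF3 : ∀ t : G, W.subgroupOf U ≤ stabilizer U ((t : G) : G ⧸ N) → t ∈ N := by
    intro t hWs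
    have h1 : ∀ w ∈ W, t⁻¹ * w * t ∈ N := by
      intro w hw
      have h2 : (⟨w, hWU hw⟩ : U) ∈ stabilizer U ((t : G) : G ⧸ N) :=
        hWs (Subgroup.mem_subgroupOf.2 hw)
      have h3 : ((w * t : G) : G ⧸ N) = ((t : G) : G ⧸ N) := h2
      rw [mul_assoc]
      exact QuotientGroup.eq.1 h3.symm
    set Q : Subgroup G := W.map (MulAut.conj t⁻¹).toMonoidHom with hQ
    have hQN : Q ≤ N := by
      rintro _ ⟨w, hw, rfl⟩
      show t⁻¹ * w * t⁻¹⁻¹ ∈ N
      rw [inv_inv]; exact h1 w hw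
    have hQp : IsPGroup p Q := (P.2.to_le hWP).map _
    obtain ⟨c, hc, hcP⟩ := exists_conj_le_sylow_of_le N P hPN Q hQp hQN
    have h5 : W.map (MulAut.conj (c * t⁻¹)).toMonoidHom ≤ (P : Subgroup G) := by
      rintro _ ⟨w, hw, rfl⟩
      apply hcP
      rw [mem_conj_smul]
      refine ⟨w, hw, ?_⟩
      show t⁻¹ * w * t⁻¹⁻¹ = c⁻¹ * (c * t⁻¹ * w * (c * t⁻¹)⁻¹) * c
      group
    have h6 : c * t⁻¹ ∈ N := Subgroup.mem_normalizer_iff_map_conj_eq.2 (hW.2 _ h5)
    have h7 := N.mul_mem (N.inv_mem hc) h6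
    have h8 : t⁻¹ ∈ N := by simpa using h7
    simpa using N.inv_mem h8
  have hgen : zpowers k ⊔ W.subgroupOf U = ⊤ := by
    apply Subgroup.map_injective U.subtype_injective
    rw [Subgroup.map_sup, MonoidHom.map_zpowers, Subgroup.subgroupOf_map_subtype,
      ← MonoidHom.range_eq_map, Subgroup.range_subtype, inf_eq_left.2 hWU]
    rfl
  have hF4 : ∀ t : G, t ∉ N → transfer (conjStabHom μ U t) k = 1 := by
    intro t ht
    apply transfer_pgroup_step hUp hA _ _ k (W.subgroupOf U) hgen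
    · intro h; exact ht (hF3 t h)
    · rintro c ⟨g, m, hm, hcg⟩
      rw [conjStabHom_apply]
      apply hK0
      refine ⟨(g : G) * t, m, hm, ?_⟩
      have h1 : (((c : U) : G)) = (g : G)⁻¹ * u ^ m * (g : G) := by
        have := congrArg (Subtype.val) hcg
        simpa using this
      rw [h1]; group
    · intro z hz
      apply Subtype.ext
      rw [coe_engel_iterate]
      exact hEngel u hu (z : G) (Subgroup.mem_subgroupOf.1 hz)
  rw [Finset.prod_eq_single ω₀] at hmackey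
  · rw [hF2 _ hF0] at hmackey
    exact hmackey.symm
  · intro ω _ hω
    apply hF4
    intro ht
    exact hω (hF1 ω ht)
  · intro h
    exact absurd (Finset.mem_univ ω₀) h

end Cfsg.Agent.Helper1
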