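import Mathlib
import Cfsg.Prelude.Def_Transfer
import Cfsg.Agent.Helper1.Tate
import Cfsg.Agent.Helper1.PGroup

set_option autoImplicit false

/-!
Tate's theorem, general form: if `P ≤ H ≤ G` with `P` a Sylow `p`-subgroup of `G` and every
homomorphism `H → Z/p` kills `P ∩ O^p(G)`, then `O^p(G) ∩ H = O^p(H)`.
The proof goes through Gaschütz's theorem applied to a pullback.
-/

namespace Cfsg.Agent.Helper1

open scoped commutatorElement Pointwise

universe u

variable {G : Type u} [Group G]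

/-- homomorphisms into groups of exponent `p` kill `O^p` -/
theorem hom_pResidual_eq_one {H : Type*} [Group H] {p : ℕ} {A : Type*} [Group A]
    (hA : ∀ a : A, a ^ p = 1) (μ : H →* A) {x : H} (hx : x ∈ Cfsg.pResidual p H) : μ x = 1 := by
  have h0 : Cfsg.pResidual p H ≤ μ.ker := by
    unfold Cfsg.pResidual
    rw [Subgroup.closure_le]
    intro g hg
    rw [SetLike.mem_coe, MonoidHom.mem_ker]
    have hg' : Nat.Coprime (orderOf g) p := hg
    have h1 : (μ g) ^ orderOf g = 1 := by rw [← map_pow, pow_orderOf_eq_one, map_one]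
    have h2 : (μ g) ^ p = 1 := hA _
    have h3 : (μ g) ^ Nat.gcd (orderOf g) p = 1 := pow_gcd_eq_one.mpr ⟨h1, h2⟩
    rwa [Nat.Coprime.gcd_eq_one hg', pow_one] at h3
  exact h0 hx

set_option maxHeartbeats 1600000 in
theorem tate_general [Finite G] {p : ℕ} [hp : Fact p.Prime] (P : Sylow p G) (H : Subgroup G)
    (hPH : (P : Subgroup G) ≤ H)
    (hE : ∀ (x : G) (hx : x ∈ (P : Subgroup G)), x ∈ Cfsg.pResidual p G →
      ∀ μ : H →* Multiplicative (ZMod p), μ ⟨x, hPH hx⟩ = 1) :
    Cfsg.pResidual p G ⊓ H ≤ (Cfsg.pResidual p H).map H.subtype := by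
  classical
  set N := Cfsg.pResidual p G with hNdef
  haveI hN : N.Normal := Cfsg.Agent.Helper5.pResidual_normal p
  set H₁ : Subgroup H := N.subgroupOf H with hH₁
  haveI hH₁n : H₁.Normal := Subgroup.normal_subgroupOf
  set M₀ : Subgroup H := Cfsg.pResidual p H with hM₀
  haveI hM₀n : M₀.Normal := Cfsg.Agent.Helper5.pResidual_normal p
  have hAZ : ∀ a : Multiplicative (ZMod p), a ^ p = 1 := by
    intro a
    have h1 : Nat.card (Multiplicative (ZMod p)) = p := by
      rw [Nat.card_eq_fintype_card, Fintype.card_multiplicative, ZMod.card]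
    have h2 := pow_card_eq_one' (G := Multiplicative (ZMod p)) (x := a)
    rwa [h1] at h2
  have hM₀H₁ : M₀ ≤ H₁ := by
    rw [hM₀]
    unfold Cfsg.pResidual
    rw [Subgroup.closure_le]
    intro g hg
    show g ∈ H₁
    rw [hH₁, Subgroup.mem_subgroupOf]
    apply Subgroup.subset_closure
    show Nat.Coprime (orderOf (g : G)) p
    rw [Subgroup.orderOf_coe]
    exact hg
  -- every hom to `Z/p` kills `H₁`
  have hE' : ∀ y ∈ H₁, ∀ μ : H →* Multiplicative (ZMod p), μ y = 1 := by
    intro y hy μ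
    have htop : M₀ ⊔ ((P.subtype hPH : Sylow p H) : Subgroup H) = ⊤ :=
      Cfsg.Agent.Helper5.pResidual_sup_sylow (P.subtype hPH)
    have hy' : y ∈ M₀ ⊔ ((P.subtype hPH : Sylow p H) : Subgroup H) := by rw [htop]; trivial
    have hy'' : y ∈ ((M₀ : Set H) * (((P.subtype hPH : Sylow p H) : Subgroup H) : Set H)) := by
      rw [← Subgroup.normal_mul]; exact hy'
    obtain ⟨m, hm, z, hz, rfl⟩ := Set.mem_mul.1 hy''
    have hzP : (z : G) ∈ (P : Subgroup G) := by
      have : z ∈ (P : Subgroup G).subgroupOf H := by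
        rw [← Sylow.coe_subtype]; exact hz
      exact Subgroup.mem_subgroupOf.1 this
    have hzN : (z : G) ∈ N := by
      have h1 : m⁻¹ * (m * z) ∈ H₁ := H₁.mul_mem (H₁.inv_mem (hM₀H₁ hm)) hy
      rw [inv_mul_cancel_left] at h1
      exact Subgroup.mem_subgroupOf.1 h1
    rw [map_mul, hom_pResidual_eq_one hAZ μ hm, one_mul]
    exact hE (z : G) hzP hzN μ
  have hmain : H₁ ≤ M₀ := by
    by_contra hnot
    set mk₀ : H →* (H ⧸ M₀) := QuotientGroup.mk' M₀ with hmk₀
    set Z₀ : Subgroup (H ⧸ M₀) := H₁.map mk₀ with hZ₀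
    haveI hZ₀n : Z₀.Normal := hH₁n.map mk₀ (QuotientGroup.mk'_surjective M₀)
    have hX₀p : IsPGroup p (H ⧸ M₀) := Cfsg.Agent.Helper5.isPGroup_quotient_pResidual p
    have hZ₀ne : Z₀ ≠ ⊥ := by
      intro hbot
      apply hnot
      intro y hy
      have h1 : mk₀ y ∈ Z₀ := Subgroup.mem_map_of_mem _ hy
      rw [hbot, Subgroup.mem_bot] at h1
      exact (QuotientGroup.eq_one_iff y).1 h1
    have hZ₀' : ⁅Z₀, Z₀⁆ ≠ Z₀ := by
      intro heq
      haveI : Nontrivial Z₀ := (Subgroup.nontrivial_iff_ne_bot Z₀).2 hZ₀ne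
      haveI : Group.IsSolvable Z₀ := isSolvable_of_isPGroup' Z₀ (hX₀p.to_subgroup Z₀)
      have h1 := Group.IsSolvable.commutator_lt_top_of_nontrivial (G := Z₀)
      apply h1.ne
      apply Subgroup.map_injective Z₀.subtype_injective
      rw [Subgroup.map_subtype_commutator, heq, ← MonoidHom.range_eq_map,
        Subgroup.range_subtype]
    haveI hcn : (⁅Z₀, Z₀⁆).Normal := Subgroup.commutator_normal Z₀ Z₀
    set M₁ : Subgroup H := (⁅Z₀, Z₀⁆).comap mk₀ with hM₁
    haveI hM₁n : M₁.Normal := hcn.comap mk₀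
    have hM₀M₁ : M₀ ≤ M₁ := by
      intro m hm
      show mk₀ m ∈ ⁅Z₀, Z₀⁆
      have : mk₀ m = 1 := (QuotientGroup.eq_one_iff m).2 hm
      rw [this]; exact one_mem _
    have hM₁H₁ : M₁ ≤ H₁ := by
      intro y hy
      have h1 : mk₀ y ∈ Z₀ := Subgroup.commutator_le_left Z₀ Z₀ hy
      obtain ⟨y', hy', hyy⟩ := h1
      have h2 : y'⁻¹ * y ∈ M₀ := QuotientGroup.eq.1 hyy
      have := H₁.mul_mem hy' (hM₀H₁ h2)
      simpa using this
    have hcomm : ⁅H₁, H₁⁆ ≤ M₁ := by
      rw [hM₁, ← Subgroup.map_le_iff_le_comap, Subgroup.map_commutator]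
    obtain ⟨y₀, hy₀H₁, hy₀M₁⟩ : ∃ y₀ ∈ H₁, y₀ ∉ M₁ := by
      by_contra hcon
      push Not at hcon
      apply hZ₀'
      apply le_antisymm (Subgroup.commutator_le_left _ _)
      rintro _ ⟨y, hy, rfl⟩
      exact hcon y hy
    -- the quotient
    set mk : H →* (H ⧸ M₁) := QuotientGroup.mk' M₁ with hmk
    set Z : Subgroup (H ⧸ M₁) := H₁.map mk with hZ
    have hXp : IsPGroup p (H ⧸ M₁) := by
      intro x
      obtain ⟨y, rfl⟩ := QuotientGroup.mk'_surjective M₁ x
      obtain ⟨k, hk⟩ := hX₀p (mk₀ y)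
      refine ⟨k, ?_⟩
      have h1 : y ^ p ^ k ∈ M₀ := by
        rw [← QuotientGroup.eq_one_iff]
        exact hk
      show mk y ^ p ^ k = 1
      rw [← map_pow]
      exact (QuotientGroup.eq_one_iff _).2 (hM₀M₁ h1)
    have hZΦ : Z ≤ frattini (H ⧸ M₁) := by
      rw [le_frattini_iff]
      intro L hL
      haveI hLn : L.Normal := IsPGroup.coatom_normal hXp hL
      have hLidx : L.index = p := IsPGroup.coatom_index hXp hL
      have hc1 : Nat.card ((H ⧸ M₁) ⧸ L) = p := by rw [← Subgroup.index_eq_card, hLidx]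
      have hc2 : Nat.card (Multiplicative (ZMod p)) = p := by
        rw [Nat.card_eq_fintype_card, Fintype.card_multiplicative, ZMod.card]
      let e : ((H ⧸ M₁) ⧸ L) ≃* Multiplicative (ZMod p) := mulEquivOfPrimeCardEq hc1 hc2
      let μ : H →* Multiplicative (ZMod p) :=
        e.toMonoidHom.comp ((QuotientGroup.mk' L).comp mk)
      rintro _ ⟨y, hy, rfl⟩
      have h1 : μ y = 1 := hE' y hy μ
      have h2 : e (QuotientGroup.mk' L (mk y)) = 1 := h1
      have h3 : QuotientGroup.mk' L (mk y) = 1 := by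
        rw [← e.map_one] at h2
        exact e.injective h2
      exact (QuotientGroup.eq_one_iff _).1 h3
    set E := tatePullback H N M₁ with hEdef
    let f : E →* G := (MonoidHom.fst G (H ⧸ M₁)).comp E.subtype
    let s : E →* (H ⧸ M₁) := (MonoidHom.snd G (H ⧸ M₁)).comp E.subtype
    have hE2 : ∀ e : E, f e = 1 → s e ∈ Z := by
      rintro ⟨⟨g, x⟩, y, hy, hyN⟩ hfe
      change g = 1 at hfe
      subst hfe
      change x ∈ Z
      dsimp only at hy hyN
      rw [← hy]
      refine Subgroup.mem_map_of_mem mk ?_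
      rw [hH₁, Subgroup.mem_subgroupOf]
      have := N.inv_mem hyN
      simpa using this
    have hE3 : ∀ e : E, s e ∈ Z → f e ∈ N := by
      rintro ⟨⟨g, x⟩, y, hy, hyN⟩ hse
      change x ∈ Z at hse
      change g ∈ N
      dsimp only at hy hyN
      obtain ⟨y₁, hy₁, hy₁x⟩ := hse
      have h1 : y₁⁻¹ * y ∈ M₁ := by
        rw [← QuotientGroup.eq]; exact hy₁x.trans hy.symm
      have h2 : y ∈ H₁ := by
        have := H₁.mul_mem hy₁ (hM₁H₁ h1)
        simpa using this
      have h3 : (y : G) ∈ N := Subgroup.mem_subgroupOf.1 h2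
      have := N.mul_mem h3 hyN
      simpa using this
    have hE4 : ∀ n ∈ N, ∃ e : E, f e = n := by
      intro n hn
      exact ⟨⟨(n, 1), 1, rfl, by simpa using hn⟩, rfl⟩
    let ψ : H →* E :=
      MonoidHom.codRestrict (H.subtype.prod mk) E (fun y => ⟨y, rfl, by simp⟩)
    have hfψ : ∀ y, f (ψ y) = y := fun y => rfl
    have hsψ : ∀ y, s (ψ y) = mk y := fun y => rfl
    set K : Subgroup E := f.ker with hK
    haveI hKn : K.Normal := MonoidHom.normal_ker f
    haveI hKcomm : IsMulCommutative K := by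
      constructor; constructor
      rintro ⟨a, ha⟩ ⟨b, hb⟩
      have hfa : f a = 1 := ha
      have hfb : f b = 1 := hb
      obtain ⟨ya, hya, hyax⟩ := hE2 a hfa
      obtain ⟨yb, hyb, hybx⟩ := hE2 b hfb
      apply Subtype.ext
      apply Subtype.ext
      apply Prod.ext
      · change f (a * b) = f (b * a); rw [map_mul, map_mul, hfa, hfb]
      · change s (a * b) = s (b * a)
        rw [map_mul, map_mul, ← hyax, ← hybx, ← map_mul, ← map_mul]
        rw [hmk, QuotientGroup.mk'_apply, QuotientGroup.mk'_apply]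
        apply QuotientGroup.eq.2
        have h1 : (ya * yb)⁻¹ * (yb * ya) = ⁅yb⁻¹, ya⁻¹⁆ := by
          rw [commutatorElement_def]; group
        rw [h1]
        exact hcomm (Subgroup.commutator_mem_commutator (H₁.inv_mem hyb) (H₁.inv_mem hya))
    have hKp : IsPGroup p K := by
      rintro ⟨a, ha⟩
      have hfa : f a = 1 := ha
      obtain ⟨k, hk⟩ := hXp (s a)
      refine ⟨k, ?_⟩
      have h1 : a ^ p ^ k = 1 := by
        apply Subtype.ext
        apply Prod.ext
        · change f (a ^ p ^ k) = 1; rw [map_pow, hfa, one_pow]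
        · change s (a ^ p ^ k) = 1; rw [map_pow, hk]
      exact Subtype.ext h1
    set U : Subgroup E := H.comap f with hU
    have hUidx : ¬ p ∣ U.index := by
      rw [hU, Subgroup.index_comap]
      intro hd
      apply P.not_dvd_index
      have h1 : H.relIndex f.range ∣ H.index := by
        apply Subgroup.relIndex_dvd_index_of_le
        intro y hy
        exact ⟨ψ ⟨y, hy⟩, rfl⟩
      exact (hd.trans h1).trans (Subgroup.index_dvd_of_le hPH)
    have hcop : (Nat.card K).Coprime U.index := by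
      obtain ⟨a, ha⟩ := IsPGroup.iff_card.1 hKp
      rw [ha]
      exact Nat.Coprime.pow_left a ((Nat.Prime.coprime_iff_not_dvd hp.out).2 hUidx)
    set D : Subgroup E := ψ.range with hD
    have hDK : D ⊓ K = ⊥ := by
      rw [eq_bot_iff]
      rintro d ⟨⟨y, rfl⟩, hdK⟩
      have h1 : f (ψ y) = 1 := hdK
      rw [hfψ] at h1
      have hy1 : y = 1 := Subtype.ext h1
      rw [hy1, map_one]; exact Subgroup.mem_bot.2 rfl
    have hKD : K ⊔ D = U := by
      apply le_antisymm
      · apply sup_le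
        · intro k hk
          show f k ∈ H
          rw [MonoidHom.mem_ker.1 hk]; exact one_mem _
        · rintro d ⟨y, rfl⟩
          show f (ψ y) ∈ H
          rw [hfψ]; exact y.2
      · intro e he
        have heP : f e ∈ H := he
        have h1 : e * (ψ ⟨f e, heP⟩)⁻¹ ∈ K := by
          rw [hK, MonoidHom.mem_ker, map_mul, map_inv, hfψ]; exact mul_inv_cancel _
        have h2 : ψ ⟨f e, heP⟩ ∈ D := ⟨_, rfl⟩
        have := Subgroup.mul_mem_sup h1 h2
        simpa using this
    obtain ⟨C, hC⟩ := gaschutz_exists K U hcop D hDK hKD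
    have hKC : K ⊓ C = ⊥ := hC.disjoint.eq_bot
    have hfinj : ∀ c ∈ C, ∀ c' ∈ C, f c = f c' → c = c' := by
      intro c hc c' hc' hcc
      have h0 : c * c'⁻¹ ∈ K := by
        rw [hK, MonoidHom.mem_ker, map_mul, map_inv, hcc, mul_inv_cancel]
      have h1 : c * c'⁻¹ ∈ K ⊓ C := ⟨h0, C.mul_mem hc (C.inv_mem hc')⟩
      rw [hKC, Subgroup.mem_bot] at h1
      exact mul_inv_eq_one.1 h1
    have hdecomp : ∀ e : E, ∃ k ∈ K, ∃ c ∈ C, k * c = e := by
      intro e
      obtain ⟨⟨⟨k, hk⟩, ⟨c, hc⟩⟩, hkc⟩ := hC.2 e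
      exact ⟨k, hk, c, hc, hkc⟩
    have hlift : ∀ n ∈ N, ∃ c ∈ C, f c = n := by
      intro n hn
      obtain ⟨e, hfe⟩ := hE4 n hn
      obtain ⟨k, hk, c, hc, hkc⟩ := hdecomp e
      refine ⟨c, hc, ?_⟩
      have h1 : f e = f k * f c := by rw [← map_mul, hkc]
      rw [hfe, MonoidHom.mem_ker.1 hk, one_mul] at h1
      exact h1.symm
    have hNL : N ≤ (C ⊓ s.ker).map f := by
      rw [hNdef]
      unfold Cfsg.pResidual
      rw [Subgroup.closure_le]
      intro n hncop'
      have hncop : Nat.Coprime (orderOf n) p := hncop'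
      have hnN : n ∈ N := Subgroup.subset_closure hncop'
      obtain ⟨c, hc, hfc⟩ := hlift n hnN
      refine ⟨c, ⟨hc, ?_⟩, hfc⟩
      show c ∈ s.ker
      rw [MonoidHom.mem_ker]
      have hcn : c ^ orderOf n = 1 := by
        apply hfinj _ (C.pow_mem hc _) _ C.one_mem
        rw [map_pow, hfc, pow_orderOf_eq_one, map_one]
      obtain ⟨k, hk⟩ := hXp (s c)
      have h2 : (s c) ^ orderOf n = 1 := by rw [← map_pow, hcn, map_one]
      have h3 : (s c) ^ Nat.gcd (orderOf n) (p ^ k) = 1 := pow_gcd_eq_one.mpr ⟨h2, hk⟩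
      rwa [Nat.Coprime.pow_right k hncop, pow_one] at h3
    have hstar : ∀ c ∈ C, f c ∈ N → s c = 1 := by
      intro c hc hfc
      obtain ⟨c', ⟨hc'C, hc's⟩, hfc'⟩ := hNL hfc
      have h1 := hfinj c' hc'C c hc hfc'
      rw [← h1]; exact MonoidHom.mem_ker.1 hc's
    have hsC : C.map s = ⊤ := by
      apply frattini_nongenerating
      rw [eq_top_iff]
      intro x _
      obtain ⟨y, rfl⟩ := QuotientGroup.mk'_surjective M₁ x
      obtain ⟨k, hk, c, hc, hkc⟩ := hdecomp (ψ y)
      have h1 : mk y = s k * s c := by rw [← hsψ, ← map_mul, hkc]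
      have h2 := Subgroup.mul_mem_sup (hZΦ (hE2 k (MonoidHom.mem_ker.1 hk)))
        (Subgroup.mem_map_of_mem s hc)
      rw [← h1, sup_comm] at h2
      exact h2
    have h1 : mk y₀ ∈ C.map s := by rw [hsC]; trivial
    obtain ⟨c, hc, hcs⟩ := h1
    have h2 : f c ∈ N := hE3 c (by rw [hcs]; exact Subgroup.mem_map_of_mem mk hy₀H₁)
    have h3 := hstar c hc h2
    rw [hcs] at h3
    exact hy₀M₁ ((QuotientGroup.eq_one_iff y₀).1 h3)
  rintro x ⟨hxN, hxH⟩
  exact ⟨⟨x, hxH⟩, hmain (Subgroup.mem_subgroupOf.2 hxN), rfl⟩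

end Cfsg.Agent.Helper1
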