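import Mathlib
import Cfsg.Prelude.Def_Transfer
import Cfsg.Prelude.Def_BaumannBlocks
import Cfsg.Agent.Helper1.HallWielandtC
import Cfsg.Agent.Helper1.TateGen

set_option autoImplicit false

/-!
The Hall–Wielandt theorem: a weakly closed subgroup satisfying an Engel condition controls
`p`-transfer.
-/

namespace Cfsg.Agent.Helper1

open scoped commutatorElement

universe u

variable {G : Type u} [Group G]

theorem zmod_mul_pow_eq_one {p : ℕ} [hp : Fact p.Prime] (a : Multiplicative (ZMod p)) :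
    a ^ p = 1 := by
  have h1 : Nat.card (Multiplicative (ZMod p)) = p := by
    rw [Nat.card_eq_fintype_card, Fintype.card_multiplicative, ZMod.card]
  have h2 := pow_card_eq_one' (G := Multiplicative (ZMod p)) (x := a)
  rwa [h1] at h2

/-- **Hall–Wielandt**, in the `O^p` form. -/
theorem hall_wielandt_pResidual [Finite G] {p : ℕ} [hp : Fact p.Prime] (P : Sylow p G)
    (Q : Subgroup G) (hQ : Cfsg.IsWeaklyClosed Q (P : Subgroup G))
    (h : ∀ u ∈ (P : Subgroup G), ∀ z ∈ Q, (fun y : G => y⁻¹ * z⁻¹ * y * z)^[p - 1] u = 1) :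
    Cfsg.pResidualOf p (Subgroup.normalizer (Q : Set G)) =
      Cfsg.pResidual p G ⊓ Subgroup.normalizer (Q : Set G) := by
  have hPN : (P : Subgroup G) ≤ Subgroup.normalizer (Q : Set G) := weaklyClosed_le_normalizer hQ
  apply le_antisymm
  · unfold Cfsg.pResidualOf
    rw [Cfsg.Agent.Helper5.map_subtype_pResidual, Subgroup.closure_le]
    rintro g ⟨hgN, hgcop⟩
    exact ⟨Subgroup.subset_closure hgcop, hgN⟩
  · unfold Cfsg.pResidualOf
    apply tate_general P _ hPN
    intro x hx hxres μ
    exact hall_wielandt_elem P Q hQ h zmod_mul_pow_eq_one (orderOf x) x hx le_rfl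
      (fun Λ => hom_pResidual_eq_one zmod_mul_pow_eq_one Λ hxres) μ (hPN hx)

theorem engel_mem_lowerCentralSeries (S : Subgroup G) (u z : G) (hu : u ∈ S) (hz : z ∈ S) :
    ∀ n : ℕ, (fun y : G => y⁻¹ * z⁻¹ * y * z)^[n] u ∈ S.lowerCentralSeries n := by
  intro n
  induction n with
  | zero => exact hu
  | succ n ih =>
    rw [Function.iterate_succ_apply', Subgroup.lowerCentralSeries_succ]
    have h1 : ((fun y : G => y⁻¹ * z⁻¹ * y * z)^[n] u)⁻¹ * z⁻¹ *
        ((fun y : G => y⁻¹ * z⁻¹ * y * z)^[n] u) * z =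
        ⁅((fun y : G => y⁻¹ * z⁻¹ * y * z)^[n] u)⁻¹, z⁻¹⁆ := by
      rw [commutatorElement_def, inv_inv, inv_inv]
    show _ * z⁻¹ * _ * z ∈ _
    rw [h1]
    exact Subgroup.commutator_mem_commutator (Subgroup.inv_mem _ ih) (S.inv_mem hz)

theorem isWeaklyClosed_self [Finite G] (S : Subgroup G) : Cfsg.IsWeaklyClosed S S := by
  refine ⟨le_rfl, fun g hg => ?_⟩
  apply Subgroup.eq_of_le_of_card_ge hg
  rw [Subgroup.card_map_of_injective (MulAut.conj g).injective]

/-- Sylow normalizer controls `p`-transfer when the class is `< p`. -/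
theorem sylow_normalizer_pResidual [Finite G] {p : ℕ} [hp : Fact p.Prime] (P : Sylow p G)
    (hcl : (P : Subgroup G).lowerCentralSeries (p - 1) = ⊥) :
    Cfsg.pResidualOf p (Subgroup.normalizer ((P : Subgroup G) : Set G)) =
      Cfsg.pResidual p G ⊓ Subgroup.normalizer ((P : Subgroup G) : Set G) := by
  apply hall_wielandt_pResidual P (P : Subgroup G) (isWeaklyClosed_self _)
  intro u hu z hz
  have h1 := engel_mem_lowerCentralSeries (P : Subgroup G) u z hu hz (p - 1)
  rw [hcl, Subgroup.mem_bot] at h1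
  exact h1

end Cfsg.Agent.Helper1
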