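import Mathlib
import Cfsg.Prelude.Def_Transfer
import Cfsg.Agent.Helper1.HallWielandtD
import Cfsg.Agent.Helper1.HallWielandt

set_option autoImplicit false

/-!
Glauberman's refinement of the Hall–Wielandt theorem (focal subgroup form).
-/

namespace Cfsg.Agent.Helper1

open MonoidHom Subgroup MulAction
open scoped Pointwise commutatorElement

/-- homomorphisms into abelian groups of exponent `p` kill the Frattini subgroup -/
theorem frattini_le_ker_of_exponent_prime {X : Type*} [Group X] [Finite X] {p : ℕ}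
    [hp : Fact p.Prime] {A : Type*} [CommGroup A] (hA : ∀ a : A, a ^ p = 1) (θ : X →* A) :
    frattini X ≤ θ.ker := by
  intro x hx
  by_contra hxk
  obtain ⟨K, hKle, hKmax⟩ := Finite.exists_le_maximal
    (p := fun K : Subgroup X => θ.ker ≤ K ∧ x ∉ K) (a := θ.ker) ⟨le_rfl, hxk⟩
  have hKF : θ.ker ≤ K ∧ x ∉ K := hKmax.prop
  haveI hKn : K.Normal := by
    constructor
    intro k hk g
    have h1 : g * k * g⁻¹ * k⁻¹ ∈ θ.ker := by
      rw [MonoidHom.mem_ker]
      simp only [map_mul, map_inv]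
      rw [mul_comm (θ g), mul_assoc (θ k), mul_inv_cancel, mul_one, mul_inv_cancel]
    have := K.mul_mem (hKF.1 h1) hk
    simpa using this
  have hcoatom : IsCoatom K := by
    refine ⟨fun h => hKF.2 (h ▸ Subgroup.mem_top x), fun L hKL => ?_⟩
    have hxL : x ∈ L := by
      by_contra hxL
      exact hKL.not_ge (hKmax.le_of_ge ⟨hKF.1.trans hKL.le, hxL⟩ hKL.le)
    rw [eq_top_iff]
    intro y _
    by_cases hyK : y ∈ K
    · exact hKL.le hyK
    · have hx' : x ∈ K ⊔ zpowers y := by
        by_contra hx'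
        have h2 := hKmax.le_of_ge (y := K ⊔ zpowers y) ⟨hKF.1.trans le_sup_left, hx'⟩ le_sup_left
        exact hyK (h2 (le_sup_right (α := Subgroup X) (mem_zpowers y)))
      have hx'' : x ∈ ((K : Set X) * (zpowers y : Set X)) := by
        rw [← Subgroup.normal_mul]; exact hx'
      obtain ⟨k, hk, w, hw, hkw⟩ := Set.mem_mul.1 hx''
      obtain ⟨i, rfl⟩ := mem_zpowers_iff.1 hw
      have hyiL : y ^ i ∈ L := by
        have : y ^ i = k⁻¹ * x := by rw [← hkw]; group
        rw [this]
        exact L.mul_mem (L.inv_mem (hKL.le hk)) hxL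
      have hypK : y ^ (p : ℤ) ∈ K := by
        apply hKF.1
        rw [MonoidHom.mem_ker, zpow_natCast, map_pow, hA]
      have hpi : ¬ (p : ℤ) ∣ i := by
        rintro ⟨j, rfl⟩
        apply hKF.2
        rw [← hkw, zpow_mul]
        exact K.mul_mem hk (K.zpow_mem hypK j)
      have hcop : IsCoprime i (p : ℤ) :=
        ((Nat.prime_iff_prime_int.1 hp.out).coprime_iff_not_dvd.2 hpi).symm
      obtain ⟨a, b, hab⟩ := hcop
      have : y = (y ^ i) ^ a * (y ^ (p : ℤ)) ^ b := by
        rw [← zpow_mul, ← zpow_mul, ← zpow_add, mul_comm i a, mul_comm (p : ℤ) b, hab, zpow_one]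
      rw [this]
      exact L.mul_mem (L.zpow_mem hyiL a) (L.zpow_mem (hKL.le hypK) b)
  exact hKF.2 (frattini_le_coatom hcoatom hx)

universe u

variable {G : Type u} [Group G]

/-- control of `O^p` gives equality of focal subgroups -/
theorem focal_le_of_pResidual_control [Finite G] {p : ℕ} [hp : Fact p.Prime] (P : Sylow p G)
    (N : Subgroup G) (hPN : (P : Subgroup G) ≤ N)
    (hctl : Cfsg.pResidual p G ⊓ N ≤ (Cfsg.pResidual p N).map N.subtype) :
    (P : Subgroup G) ⊓ commutator G ≤ ⁅N, N⁆ := by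
  rintro x ⟨hxP, hxG⟩
  set R := Cfsg.pResidual p G with hR
  haveI hRn : R.Normal := Cfsg.Agent.Helper5.pResidual_normal p
  set π : G →* G ⧸ R := QuotientGroup.mk' R with hπ
  have hNtop : N.map π = ⊤ := by
    rw [eq_top_iff]
    intro y _
    obtain ⟨g, rfl⟩ := QuotientGroup.mk'_surjective R y
    have htop : R ⊔ (P : Subgroup G) = ⊤ := Cfsg.Agent.Helper5.pResidual_sup_sylow P
    have hg : g ∈ ((R : Set G) * ((P : Subgroup G) : Set G)) := by
      rw [← Subgroup.normal_mul, htop]; trivial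
    obtain ⟨r, hr, y, hy, rfl⟩ := Set.mem_mul.1 hg
    refine ⟨y, hPN hy, ?_⟩
    rw [map_mul π r y]
    have : π r = 1 := (QuotientGroup.eq_one_iff r).2 hr
    rw [this, one_mul]
  have h1 : π x ∈ (⁅N, N⁆).map π := by
    rw [Subgroup.map_commutator, hNtop]
    have h2 : π x ∈ (commutator G).map π := Subgroup.mem_map_of_mem π hxG
    rw [_root_.commutator_def, Subgroup.map_commutator,
      Subgroup.map_top_of_surjective π (QuotientGroup.mk'_surjective R)] at h2
    exact h2
  obtain ⟨n', hn', hn'x⟩ := h1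
  have hcN : ⁅N, N⁆ ≤ N := by
    rw [← Subgroup.map_subtype_commutator]; exact Subgroup.map_subtype_le _
  have hn'N : n' ∈ N := hcN hn'
  have hxN : x ∈ N := hPN hxP
  have h3 : n'⁻¹ * x ∈ R ⊓ N := by
    refine ⟨?_, N.mul_mem (N.inv_mem hn'N) hxN⟩
    exact QuotientGroup.eq.1 hn'x
  obtain ⟨rN, hrN, hrNx⟩ := hctl h3
  have hn'' : n' ∈ (commutator N).map N.subtype := by
    rw [Subgroup.map_subtype_commutator]; exact hn'
  obtain ⟨n'N, hn'N', hn'Nx⟩ := hn''
  set xN : N := ⟨x, hxN⟩ with hxNdef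
  have hxeq : xN = n'N * rN := by
    apply Subtype.ext
    have e1 : (n'N : G) = n' := hn'Nx
    have e2 : (rN : G) = n'⁻¹ * x := hrNx
    show x = (n'N : G) * (rN : G)
    rw [e1, e2]
    group
  -- the power map on the abelianization
  set B := Abelianization N with hB
  set m : ℕ := ordCompl[p] (Nat.card B) with hm
  have hmcop : Nat.Coprime p m := Nat.coprime_ordCompl hp.out Nat.card_pos.ne'
  have hcard : p ^ (Nat.card B).factorization p * m = Nat.card B :=
    Nat.ordProj_mul_ordCompl_eq_self _ _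
  let θ : N →* B := (powMonoidHom m).comp Abelianization.of
  have hθres : ∀ r ∈ Cfsg.pResidual p N, θ r = 1 := by
    intro r hr
    have h0 : Cfsg.pResidual p N ≤ θ.ker := by
      unfold Cfsg.pResidual
      rw [Subgroup.closure_le]
      intro g hg
      have hg' : Nat.Coprime (orderOf g) p := hg
      rw [SetLike.mem_coe, MonoidHom.mem_ker]
      show (Abelianization.of g) ^ m = 1
      apply orderOf_dvd_iff_pow_eq_one.1
      have h4 : orderOf (Abelianization.of g) ∣ orderOf g := orderOf_map_dvd _ g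
      have h5 : orderOf (Abelianization.of g) ∣ Nat.card B := orderOf_dvd_natCard _
      rw [← hcard] at h5
      have h6 : Nat.Coprime (orderOf (Abelianization.of g)) (p ^ (Nat.card B).factorization p) :=
        Nat.Coprime.pow_right _ (Nat.Coprime.coprime_dvd_left h4 hg')
      exact h6.dvd_of_dvd_mul_left h5
    exact h0 hr
  have hθc : θ n'N = 1 := by
    show (Abelianization.of n'N) ^ m = 1
    have : Abelianization.of n'N = 1 := by
      rw [← MonoidHom.mem_ker, Abelianization.ker_of]; exact hn'N'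
    rw [this, one_pow]
  have hθx : (Abelianization.of xN) ^ m = 1 := by
    have : θ xN = 1 := by rw [hxeq, map_mul, hθc, hθres rN hrN, one_mul]
    exact this
  obtain ⟨k, hk⟩ := (IsPGroup.iff_orderOf.1 P.2) ⟨x, hxP⟩
  rw [Subgroup.orderOf_mk] at hk
  have hxk : (Abelianization.of xN) ^ p ^ k = 1 := by
    rw [← map_pow]
    have : xN ^ p ^ k = 1 := by
      apply Subtype.ext
      rw [Subgroup.coe_pow, Subgroup.coe_one, ← hk]
      exact pow_orderOf_eq_one x
    rw [this, map_one]
  have hgcd : (Abelianization.of xN) ^ Nat.gcd m (p ^ k) = 1 := pow_gcd_eq_one.mpr ⟨hθx, hxk⟩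
  have hg1 : Nat.gcd m (p ^ k) = 1 := Nat.Coprime.pow_right k hmcop.symm
  rw [hg1, pow_one] at hgcd
  have hxc : xN ∈ commutator N := by
    rw [← Abelianization.ker_of, MonoidHom.mem_ker]; exact hgcd
  rw [← Subgroup.map_subtype_commutator]
  exact ⟨xN, hxc, rfl⟩

theorem engel_iterate_mem (S : Subgroup G) (u z : G) (hu : u ∈ S) (hz : z ∈ S) :
    ∀ n : ℕ, (fun y : G => y⁻¹ * z⁻¹ * y * z)^[n] u ∈ S := by
  intro n
  induction n with
  | zero => exact hu
  | succ n ih =>
    rw [Function.iterate_succ_apply']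
    exact S.mul_mem (S.mul_mem (S.mul_mem (S.inv_mem ih) (S.inv_mem hz)) ih) hz

set_option maxHeartbeats 1000000 in
/-- Glauberman's refinement of Hall–Wielandt. -/
theorem weaklyClosed_transfer_iterated_commutator [Finite G] {p : ℕ} [hp : Fact p.Prime]
    (S : Sylow p G) (W : Subgroup G) (hW : Cfsg.IsWeaklyClosed W (S : Subgroup G))
    (h : (S : Subgroup G) ⊓ commutator G ≠
      (S : Subgroup G) ⊓ ⁅Subgroup.normalizer (W : Set G), Subgroup.normalizer (W : Set G)⁆) :
    ∃ x ∈ (S : Subgroup G), ∃ z ∈ W, ∃ W₀ : Subgroup ↥W, IsCoatom W₀ ∧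
      (fun y : G => y⁻¹ * z⁻¹ * y * z)^[p - 1] x ∈ W₀.map W.subtype ∧
      (fun y : G => y⁻¹ * z⁻¹ * y * z)^[p - 1] x ∉
        ((frattini ↥W₀).map W₀.subtype).map W.subtype := by
  classical
  by_contra hcon
  push Not at hcon
  apply h
  have hPN : (S : Subgroup G) ≤ Subgroup.normalizer (W : Set G) := weaklyClosed_le_normalizer hW
  apply le_antisymm
  · refine le_inf inf_le_left ?_
    apply focal_le_of_pResidual_control S _ hPN
    apply tate_general S _ hPN
    intro x hx hxres μ
    refine hall_wielandt_elem' S W hW zmod_mul_pow_eq_one ?_ (orderOf x) x hx le_rfl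
      (fun Λ => hom_pResidual_eq_one zmod_mul_pow_eq_one Λ hxres) μ (hPN hx)
    intro u hu Smax hSn hSidx hkS hWS
    obtain ⟨z, hzW', hzS⟩ := SetLike.not_le_iff_exists.1 hWS
    have hzW : (z : G) ∈ W := Subgroup.mem_subgroupOf.1 hzW'
    refine ⟨z, hzW, hzS, ?_⟩
    intro ρ c hc
    have hWU : W ≤ zpowers u ⊔ W := le_sup_right
    set cG : G := (fun y : G => y⁻¹ * (z : G)⁻¹ * y * (z : G))^[p - 1] u with hcG
    have hcW : cG ∈ W := by
      obtain ⟨n, hn⟩ : ∃ n, p - 1 = n + 1 := ⟨p - 2, by have := hp.out.two_le; omega⟩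
      rw [hcG, hn, Function.iterate_succ_apply']
      set y := (fun y : G => y⁻¹ * (z : G)⁻¹ * y * (z : G))^[n] u with hy
      have hyS : y ∈ (S : Subgroup G) := engel_iterate_mem _ u (z : G) hu (hW.1 hzW) n
      have hyN : y⁻¹ ∈ Subgroup.normalizer (W : Set G) := Subgroup.inv_mem _ (hPN hyS)
      have h1 : y⁻¹ * (z : G)⁻¹ * y⁻¹⁻¹ ∈ W :=
        (Subgroup.mem_normalizer_iff.1 hyN _).1 (W.inv_mem hzW)
      rw [inv_inv] at h1
      exact W.mul_mem h1 hzW
    set W₀ : Subgroup ↥W := Smax.comap (Subgroup.inclusion hWU) with hW₀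
    have hSco : IsCoatom Smax := isCoatom_of_index_prime (by rw [hSidx]; exact hp.out)
    have hsup : W.subgroupOf (zpowers u ⊔ W) ⊔ Smax = ⊤ := by
      apply hSco.2
      refine lt_of_le_of_ne le_sup_right ?_
      intro heq
      apply hWS
      rw [heq]; exact le_sup_left
    have hidx : W₀.index = p := by
      rw [hW₀, Subgroup.index_comap, Subgroup.inclusion_range, ← Subgroup.relIndex_sup_right,
        hsup, Subgroup.relIndex_top_right, hSidx]
    have hcoatom : IsCoatom W₀ := isCoatom_of_index_prime (by rw [hidx]; exact hp.out)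
    have hcW₀ : cG ∈ W₀.map W.subtype := by
      refine ⟨⟨cG, hcW⟩, ?_, rfl⟩
      show Subgroup.inclusion hWU ⟨cG, hcW⟩ ∈ Smax
      have : Subgroup.inclusion hWU ⟨cG, hcW⟩ = (c : ↥(zpowers u ⊔ W)) := Subtype.ext hc.symm
      rw [this]; exact c.2
    obtain ⟨w, ⟨w₀, hw₀, rfl⟩, hwc⟩ := hcon u hu (z : G) hzW W₀ hcoatom hcW₀
    let j : ↥W₀ →* ↥Smax :=
      MonoidHom.codRestrict ((Subgroup.inclusion hWU).comp W₀.subtype) Smax (fun w => w.2)
    have h2 := frattini_le_ker_of_exponent_prime zmod_mul_pow_eq_one (ρ.comp j) hw₀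
    rw [MonoidHom.mem_ker] at h2
    have h3 : j w₀ = c := by
      apply Subtype.ext
      apply Subtype.ext
      rw [hc]
      exact hwc
    rw [← h3]
    exact h2
  · refine inf_le_inf_left _ ?_
    rw [_root_.commutator_def]
    exact Subgroup.commutator_mono le_top le_top

end Cfsg.Agent.Helper1
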