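import Mathlib
import Cfsg.Agent.Helper7.CoxeterOfExchange

/-!
# Generic Iwahori-Hecke operators on `W → K` : shared definitions (S2319 project)

`W` is a finite group, `ι : B → W` a family of involutions (the simple reflections), the length is
`len (Set.range ι)` of `Helper7/InvolutionWords`.  For a parameter `u : K` the matrices `hkLam u b`
and `hkRho u b` are left and right multiplication by the generator `T_b` of the generic Hecke
algebra with basis `d_w = Pi.single w 1`:
`T_b d_w = d_{sw}` if `sw` is longer than `w`, and `u d_{sw} + (u-1) d_w` if it is shorter.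
`hkZ u` is the space of `v` with `T_b v = v T_b` for all `b` (the centre of the Hecke algebra).
-/

set_option autoImplicit false
set_option linter.unusedSectionVars false

namespace Cfsg.Agent.Helper1.HeckeDefs

open Cfsg.Agent.Helper7.InvWords Cfsg.Agent.Helper7.CoxExch

variable (K : Type*) [Field K] {W : Type*} [Group W] [Fintype W] [DecidableEq W]
  {B : Type*} (ι : B → W)

/-- The length of `w` with respect to the generators `ι b`. -/
noncomputable def hkLen (w : W) : ℕ := len (Set.range ι) w

theorem hkLen_def (w : W) : hkLen ι w = len (Set.range ι) w := rfl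

/-- Left multiplication by `T_b` in the generic Hecke algebra with parameter `u`, as a matrix
acting on `W → K` by `mulVec`. -/
noncomputable def hkLam (u : K) (b : B) : Matrix W W K := Matrix.of fun x y =>
  if hkLen ι (ι b * x) < hkLen ι x then
    (if y = ι b * x then 1 else 0) + (if y = x then u - 1 else 0)
  else (if y = ι b * x then u else 0)

/-- Right multiplication by `T_b` in the generic Hecke algebra with parameter `u`. -/
noncomputable def hkRho (u : K) (b : B) : Matrix W W K := Matrix.of fun x y =>
  if hkLen ι (x * ι b) < hkLen ι x then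
    (if y = x * ι b then 1 else 0) + (if y = x then u - 1 else 0)
  else (if y = x * ι b then u else 0)

theorem hkLam_apply (u : K) (b : B) (x y : W) :
    hkLam K ι u b x y = if hkLen ι (ι b * x) < hkLen ι x then
      (if y = ι b * x then 1 else 0) + (if y = x then u - 1 else 0)
    else (if y = ι b * x then u else 0) := rfl

theorem hkRho_apply (u : K) (b : B) (x y : W) :
    hkRho K ι u b x y = if hkLen ι (x * ι b) < hkLen ι x then
      (if y = x * ι b then 1 else 0) + (if y = x then u - 1 else 0)
    else (if y = x * ι b then u else 0) := rfl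

theorem hkLam_mulVec (u : K) (b : B) (f : W → K) (x : W) :
    (hkLam K ι u b).mulVec f x = if hkLen ι (ι b * x) < hkLen ι x then
      f (ι b * x) + (u - 1) * f x else u * f (ι b * x) := by
  unfold Matrix.mulVec dotProduct
  simp only [hkLam_apply]
  split_ifs with h
  · simp only [add_mul, ite_mul, one_mul, zero_mul, Finset.sum_add_distrib,
      Finset.sum_ite_eq', Finset.mem_univ, if_true]
  · simp only [ite_mul, zero_mul, Finset.sum_ite_eq', Finset.mem_univ, if_true]

theorem hkRho_mulVec (u : K) (b : B) (f : W → K) (x : W) :
    (hkRho K ι u b).mulVec f x = if hkLen ι (x * ι b) < hkLen ι x then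
      f (x * ι b) + (u - 1) * f x else u * f (x * ι b) := by
  unfold Matrix.mulVec dotProduct
  simp only [hkRho_apply]
  split_ifs with h
  · simp only [add_mul, ite_mul, one_mul, zero_mul, Finset.sum_add_distrib,
      Finset.sum_ite_eq', Finset.mem_univ, if_true]
  · simp only [ite_mul, zero_mul, Finset.sum_ite_eq', Finset.mem_univ, if_true]

/-- The centre of the generic Hecke algebra, inside `W → K`. -/
def hkZ (u : K) : Submodule K (W → K) where
  carrier := {v | ∀ b : B, (hkLam K ι u b).mulVec v = (hkRho K ι u b).mulVec v}
  add_mem' := by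
    intro v w hv hw b
    rw [Matrix.mulVec_add, Matrix.mulVec_add, hv b, hw b]
  zero_mem' := by
    intro b
    rw [Matrix.mulVec_zero, Matrix.mulVec_zero]
  smul_mem' := by
    intro c v hv b
    rw [Matrix.mulVec_smul, Matrix.mulVec_smul, hv b]

theorem mem_hkZ (u : K) (v : W → K) :
    v ∈ hkZ K ι u ↔ ∀ b : B, (hkLam K ι u b).mulVec v = (hkRho K ι u b).mulVec v := Iff.rfl

open Classical in
/-- A chosen reduced word for `w` (the empty word if there is none). -/
noncomputable def hkWord (w : W) : List B :=
  if h : ∃ ω : List B, wp ι ω = w ∧ ω.length = hkLen ι w then h.choose else []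

theorem hkWord_spec {w : W} (h : ∃ ω : List B, wp ι ω = w ∧ ω.length = hkLen ι w) :
    wp ι (hkWord ι w) = w ∧ (hkWord ι w).length = hkLen ι w := by
  unfold hkWord
  rw [dif_pos h]
  exact h.choose_spec

/-- `L_w` : left multiplication by `T_w`, the product of the `hkLam` along the chosen reduced word
of `w`. -/
noncomputable def hkL (u : K) (w : W) : Matrix W W K :=
  ((hkWord ι w).map (hkLam K ι u)).prod

/-- `R_w` : right multiplication by `T_w`, the product of the `hkRho` along the reversed chosen
reduced word of `w`. -/
noncomputable def hkR (u : K) (w : W) : Matrix W W K :=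
  ((hkWord ι w).reverse.map (hkRho K ι u)).prod

/-- The Casimir (averaging) operator `v ↦ ∑_w u^{-l(w)} T_w v T_{w⁻¹}`. -/
noncomputable def hkCas (u : K) : Matrix W W K :=
  ∑ w : W, (u ^ hkLen ι w)⁻¹ • (hkL K ι u w * hkR K ι u w⁻¹)

/-- Left multiplication by the central element `∑_w u^{-l(w)} T_w T_{w⁻¹}`. -/
noncomputable def hkLc (u : K) : Matrix W W K :=
  ∑ w : W, (u ^ hkLen ι w)⁻¹ • (hkL K ι u w * hkL K ι u w⁻¹)

end Cfsg.Agent.Helper1.HeckeDefs
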