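import Mathlib
import Cfsg.Agent.Helper1.ThompsonFPF2

set_option autoImplicit false

/-!
Kegel's theorem: a finite group with a splitting automorphism of prime order is nilpotent.
Part 1: generalities on splitting automorphisms.
-/

namespace Cfsg.Agent.Helper1

namespace SplitAut

open Function TFPF

universe u

variable {G : Type u} [Group G]

/-- the ordered norm `g * φ g * ⋯ * φ^(n-1) g` -/
def nrm (φ : G ≃* G) (n : ℕ) (g : G) : G := ((List.range n).map (fun i => (⇑φ)^[i] g)).prod

theorem nrm_zero (φ : G ≃* G) (g : G) : nrm φ 0 g = 1 := by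
  simp [nrm]

theorem nrm_succ (φ : G ≃* G) (n : ℕ) (g : G) : nrm φ (n + 1) g = nrm φ n g * (⇑φ)^[n] g := by
  unfold nrm
  rw [List.range_succ, List.map_append, List.prod_append]
  simp

/-- `φ` is a splitting automorphism with `φ ^ r = 1`. -/
structure Split (r : ℕ) (φ : G ≃* G) : Prop where
  per : ∀ g, (⇑φ)^[r] g = g
  nrm_eq : ∀ g, nrm φ r g = 1

theorem nrm_restrict (φ : G ≃* G) (H : Subgroup G) (hH : H.map φ.toMonoidHom = H) (n : ℕ)
    (x : H) : ((nrm (restrict φ H hH) n x : H) : G) = nrm φ n x := by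
  induction n with
  | zero => rw [nrm_zero, nrm_zero]; rfl
  | succ n ih => rw [nrm_succ, nrm_succ, Subgroup.coe_mul, ih, restrict_iterate_coe]

theorem Split.restrict {r : ℕ} {φ : G ≃* G} (h : Split r φ) (H : Subgroup G)
    (hH : H.map φ.toMonoidHom = H) : Split r (restrict φ H hH) := by
  constructor
  · intro x
    apply Subtype.ext
    rw [restrict_iterate_coe]
    exact h.per _
  · intro x
    apply Subtype.ext
    rw [nrm_restrict, h.nrm_eq]
    rfl

theorem nrm_quot (φ : G ≃* G) (N : Subgroup G) [N.Normal] (hN : N.map φ.toMonoidHom = N)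
    (n : ℕ) (x : G) :
    nrm (quot φ N hN) n (QuotientGroup.mk x) = QuotientGroup.mk (nrm φ n x) := by
  induction n with
  | zero => rw [nrm_zero, nrm_zero]; rfl
  | succ n ih => rw [nrm_succ, nrm_succ, ih, quot_iterate_mk, QuotientGroup.mk_mul]

theorem Split.quot {r : ℕ} {φ : G ≃* G} (h : Split r φ) (N : Subgroup G) [N.Normal]
    (hN : N.map φ.toMonoidHom = N) : Split r (quot φ N hN) := by
  constructor
  · intro x
    obtain ⟨g, rfl⟩ := QuotientGroup.mk_surjective x
    rw [quot_iterate_mk, h.per]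
  · intro x
    obtain ⟨g, rfl⟩ := QuotientGroup.mk_surjective x
    rw [nrm_quot, h.nrm_eq]
    rfl

theorem iterate_fixed (φ : G ≃* G) {g : G} (hg : φ g = g) (n : ℕ) : (⇑φ)^[n] g = g :=
  Function.iterate_fixed hg n

theorem nrm_fixed (φ : G ≃* G) {g : G} (hg : φ g = g) (n : ℕ) : nrm φ n g = g ^ n := by
  induction n with
  | zero => rw [nrm_zero, pow_zero]
  | succ n ih => rw [nrm_succ, ih, iterate_fixed φ hg, pow_succ]

theorem Split.pow_eq_one_of_fixed {r : ℕ} {φ : G ≃* G} (h : Split r φ) {g : G} (hg : φ g = g) :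
    g ^ r = 1 := by
  rw [← nrm_fixed φ hg, h.nrm_eq]

theorem Split.fixed_of_iterate {r : ℕ} {φ : G ≃* G} (h : Split r φ) (hr : r.Prime) {k : ℕ}
    (hk0 : 0 < k) (hkr : k < r) (g : G) (hg : (⇑φ)^[k] g = g) : φ g = g := by
  have h1 : Function.IsPeriodicPt (⇑φ) k g := hg
  have h2 : Function.IsPeriodicPt (⇑φ) r g := h.per g
  have h3 := h1.gcd h2
  have h4 : Nat.gcd k r = 1 := by
    rw [Nat.gcd_comm]
    exact (Nat.Prime.coprime_iff_not_dvd hr).2 (Nat.not_dvd_of_pos_of_lt hk0 hkr)
  rw [h4] at h3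
  exact h3

/-- fixed points of iterates in a subgroup of order prime to `r` are trivial -/
theorem Split.eq_one_of_iterate_fixed [Finite G] {r : ℕ} {φ : G ≃* G} (h : Split r φ)
    (hr : r.Prime) {k : ℕ} (hk0 : 0 < k) (hkr : k < r) (P : Subgroup G)
    (hP : (Nat.card P).Coprime r) (g : G) (hgP : g ∈ P) (hg : (⇑φ)^[k] g = g) : g = 1 := by
  have h1 := h.pow_eq_one_of_fixed (h.fixed_of_iterate hr hk0 hkr g hg)
  have h2 : orderOf g ∣ r := orderOf_dvd_of_pow_eq_one h1
  have h3 : orderOf g ∣ Nat.card P := by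
    have := orderOf_dvd_natCard (⟨g, hgP⟩ : P)
    rwa [← Subgroup.orderOf_coe] at this
  exact orderOf_eq_one_iff.1 (Nat.eq_one_of_dvd_coprimes hP h3 h2)

/-- the composite of `φ` with an inner automorphism -/
def twist (φ : G ≃* G) (a : G) : G ≃* G := (MulAut.conj a * (φ : MulAut G) : MulAut G)

theorem twist_apply (φ : G ≃* G) (a x : G) : twist φ a x = a * φ x * a⁻¹ := rfl

theorem twist_iterate (φ : G ≃* G) (a : G) (n : ℕ) (x : G) :
    (⇑(twist φ a))^[n] x = nrm φ n a * (⇑φ)^[n] x * (nrm φ n a)⁻¹ := by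
  induction n generalizing x with
  | zero => rw [nrm_zero]; simp
  | succ n ih =>
    rw [Function.iterate_succ_apply, ih, twist_apply, nrm_succ, TFPF.iterate_mul,
      TFPF.iterate_mul, TFPF.iterate_inv, ← Function.iterate_succ_apply (⇑φ) n x]
    group

theorem nrm_twist (φ : G ≃* G) (a : G) (n : ℕ) (x : G) :
    nrm (twist φ a) n x = nrm φ n (x * a) * (nrm φ n a)⁻¹ := by
  induction n with
  | zero => simp [nrm_zero]
  | succ n ih =>
    rw [nrm_succ, ih, twist_iterate, nrm_succ, nrm_succ, TFPF.iterate_mul]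
    group

theorem Split.twist {r : ℕ} {φ : G ≃* G} (h : Split r φ) (a : G) : Split r (twist φ a) := by
  constructor
  · intro x
    rw [twist_iterate, h.nrm_eq, h.per]
    group
  · intro x
    rw [nrm_twist, h.nrm_eq, h.nrm_eq]
    group

theorem Split.prod_eq_one {M : Type*} [CommGroup M] {r : ℕ} {β : M ≃* M} (h : Split r β)
    (m : M) : ∏ k ∈ Finset.range r, (⇑β)^[k] m = 1 := by
  rw [← list_prod_eq_finset_prod]
  exact h.nrm_eq m

end SplitAut

end Cfsg.Agent.Helper1
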