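import Mathlib
import Cfsg.Agent.Helper1.SplitAut
import Cfsg.Agent.Helper6.FaithfulIrr

set_option autoImplicit false

/-!
Kegel's theorem, part 2: invariant subgroups centralize invariant abelian normal subgroups.
-/

namespace Cfsg.Agent.Helper1

namespace SplitAut

open Function TFPF

universe u

section abstract

variable {M : Type*} [CommGroup M]

/-- the norm of `u` under the cyclic group generated by `a` -/
theorem cyc_fixed (a : MulAut M) (r : ℕ) (ha : a ^ r = 1) (u : M) :
    a (∏ i ∈ Finset.range r, (a ^ i) u) = ∏ i ∈ Finset.range r, (a ^ i) u := by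
  rw [map_prod]
  have h1 : ∀ i ∈ Finset.range r, a ((a ^ i) u) = (a ^ (i + 1)) u := by
    intro i _
    rw [pow_succ', MulAut.mul_apply]
  rw [Finset.prod_congr rfl h1]
  have h2 := Finset.prod_range_succ (fun i => (a ^ i) u) r
  have h3 := Finset.prod_range_succ' (fun i => (a ^ i) u) r
  rw [h2] at h3
  simp only [ha, pow_zero, MulAut.one_apply] at h3
  exact (mul_right_cancel h3).symm

theorem fixed_of_pow_fixed {r : ℕ} (hr : r.Prime) (x : MulAut M) (hx : x ^ r = 1) {j : ℕ}
    (hj0 : 0 < j) (hjr : j < r) (v : M) (hv : (x ^ j) v = v) : x v = v := by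
  have h1 : Function.IsPeriodicPt (⇑x) j v := by
    show (⇑x)^[j] v = v
    rw [iterate_eq_pow]; exact hv
  have h2 : Function.IsPeriodicPt (⇑x) r v := by
    show (⇑x)^[r] v = v
    rw [iterate_eq_pow, hx]; rfl
  have h3 := h1.gcd h2
  have h4 : Nat.gcd j r = 1 := by
    rw [Nat.gcd_comm]
    exact (Nat.Prime.coprime_iff_not_dvd hr).2 (Nat.not_dvd_of_pos_of_lt hj0 hjr)
  rw [h4] at h3
  exact h3

theorem eq_one_of_commute_of_norms [Finite M] {r : ℕ} (hr : r.Prime)
    (x β : MulAut M) (hx : x ^ r = 1) (hcomm : Commute x β)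
    (hnorm : ∀ i : ℕ, ∀ w : M, ∏ j ∈ Finset.range r, ((x ^ i * β) ^ j) w = 1)
    (hcop : (Nat.card M).Coprime r) : x = 1 := by
  apply MulEquiv.ext
  intro w
  show x w = w
  have h1 : ∏ i ∈ Finset.range r, ∏ j ∈ Finset.range r, ((x ^ i * β) ^ j) w = 1 :=
    Finset.prod_eq_one (fun i _ => hnorm i w)
  have h2 : ∀ i j : ℕ, ((x ^ i * β) ^ j) w = ((x ^ j) ^ i) ((β ^ j) w) := by
    intro i j
    rw [(hcomm.pow_left i).mul_pow j, MulAut.mul_apply, ← pow_mul, ← pow_mul, mul_comm]
  simp only [h2] at h1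
  rw [Finset.prod_comm] at h1
  obtain ⟨r', rfl⟩ : ∃ r', r = r' + 1 := ⟨r - 1, by have := hr.pos; omega⟩
  rw [Finset.prod_range_succ' (fun j => ∏ i ∈ Finset.range (r' + 1), ((x ^ j) ^ i) ((β ^ j) w))] at h1
  have h3 : ∏ i ∈ Finset.range (r' + 1), ((x ^ 0) ^ i) ((β ^ 0) w) = w ^ (r' + 1) := by
    simp
  rw [h3] at h1
  set Y := ∏ k ∈ Finset.range r', ∏ i ∈ Finset.range (r' + 1), ((x ^ (k + 1)) ^ i) ((β ^ (k + 1)) w)
    with hY
  have hYfix : x Y = Y := by
    rw [hY, map_prod]
    apply Finset.prod_congr rfl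
    intro k hk
    have hk' : k + 1 < r' + 1 := by
      have := Finset.mem_range.1 hk
      omega
    apply fixed_of_pow_fixed hr x hx (Nat.succ_pos k) hk'
    apply cyc_fixed
    rw [← pow_mul, mul_comm, pow_mul, hx, one_pow]
  have h4 : w ^ (r' + 1) = Y⁻¹ := eq_inv_of_mul_eq_one_right h1
  have h5 : x (w ^ (r' + 1)) = w ^ (r' + 1) := by
    rw [h4, map_inv, hYfix]
  rw [map_pow] at h5
  exact (powCoprime hcop).injective h5

end abstract

variable {G : Type u} [Group G]

theorem Split.bijective_commutator [Finite G] {r : ℕ} {φ : G ≃* G} (h : Split r φ) (hr : r.Prime)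
    (hG : (Nat.card G).Coprime r) {k : ℕ} (hk0 : 0 < k) (hkr : k < r) :
    Function.Bijective (fun y : G => y⁻¹ * (⇑φ)^[k] y) := by
  apply Finite.injective_iff_bijective.1
  intro y z hyz
  have hyz' : y⁻¹ * (⇑φ)^[k] y = z⁻¹ * (⇑φ)^[k] z := hyz
  have h1 : (⇑φ)^[k] (z * y⁻¹) = z * y⁻¹ := by
    rw [TFPF.iterate_mul, TFPF.iterate_inv]
    have e : (⇑φ)^[k] z = z * (y⁻¹ * (⇑φ)^[k] y) := by rw [hyz']; group
    rw [e]
    group
  have h2 := h.eq_one_of_iterate_fixed hr hk0 hkr ⊤ (by rw [Subgroup.card_top]; exact hG) _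
    (Subgroup.mem_top _) h1
  rw [mul_inv_eq_one] at h2
  exact h2.symm

open scoped IsMulCommutative in
/-- an invariant subgroup of order prime to `r` acting coprimely on an invariant abelian normal
subgroup centralizes it -/
theorem centralizes_of_split [Finite G] {r : ℕ} (hr : r.Prime) {φ : G ≃* G} (h : Split r φ)
    (M P : Subgroup G) [hMn : M.Normal] (hMc : IsMulCommutative M)
    (hMφ : M.map φ.toMonoidHom = M) (hPφ : P.map φ.toMonoidHom = P)
    (hcop : (Nat.card P).Coprime (Nat.card M)) (hPr : (Nat.card P).Coprime r) :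
    P ≤ Subgroup.centralizer (M : Set G) := by
  haveI := hMc
  haveI : Fintype P := Fintype.ofFinite P
  let ρ : P →* MulAut M := (MulAut.conjNormal (H := M)).comp P.subtype
  have hρ : ∀ (y : P) (m : M), ((ρ y m : M) : G) = (y : G) * m * (y : G)⁻¹ := fun y m => rfl
  have hcompat : ∀ (y : P) (m : M), restrict φ M hMφ (ρ y m) =
      ρ (restrict φ P hPφ y) (restrict φ M hMφ m) := by
    intro y m
    apply Subtype.ext
    rw [restrict_coe, hρ, hρ, restrict_coe, restrict_coe, map_mul, map_mul, map_inv]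
  have key := pow_card_eq_prod_of_fpf ρ (restrict φ P hPφ) (restrict φ M hMφ) r hcompat
    (h.restrict M hMφ).prod_eq_one
    (fun k hk0 hkr => (h.restrict P hPφ).bijective_commutator hr hPr hk0 hkr) hr.pos
  have hfix : ∀ (z : P) (m : M), ρ z m = m := by
    intro z m
    have h1 : ρ z (m ^ Fintype.card P) = m ^ Fintype.card P := by
      rw [key, map_prod]
      have : ∀ y : P, ρ z (ρ y m) = ρ (z * y) m := fun y => by rw [map_mul, MulAut.mul_apply]
      simp_rw [this]
      exact (Group.mulLeft_bijective z).prod_comp (fun y => ρ y m)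
    rw [map_pow] at h1
    have hcop' : (Nat.card M).Coprime (Fintype.card P) := by
      rw [← Nat.card_eq_fintype_card]
      exact hcop.symm
    exact (powCoprime hcop').injective h1
  intro z hz
  rw [Subgroup.mem_centralizer_iff]
  intro m hm
  have := congrArg Subtype.val (hfix ⟨z, hz⟩ ⟨m, hm⟩)
  rw [hρ] at this
  calc m * z = (z * m * z⁻¹) * z := by rw [this]
    _ = z * m := by group

end SplitAut

end Cfsg.Agent.Helper1
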