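import Mathlib
import Cfsg.Agent.Helper1.SplitAut2

set_option autoImplicit false

/-!
Kegel's theorem, part 3: invariant `r`-subgroups centralize invariant abelian normal `r'`-subgroups.
-/

namespace Cfsg.Agent.Helper1

namespace SplitAut

open Function TFPF

universe u

variable {G : Type u} [Group G]

open scoped IsMulCommutative in
/-- an invariant `r`-subgroup centralizes an invariant abelian normal subgroup of order prime
to `r` -/
theorem centralizes_of_split_r [Finite G] {r : ℕ} (hr : r.Prime) {φ : G ≃* G} (h : Split r φ)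
    (M P : Subgroup G) [hMn : M.Normal] (hMc : IsMulCommutative M)
    (hMφ : M.map φ.toMonoidHom = M) (hPφ : P.map φ.toMonoidHom = P)
    (hP : IsPGroup r P) (hMr : (Nat.card M).Coprime r) :
    P ≤ Subgroup.centralizer (M : Set G) := by
  haveI := hMc
  haveI : Fact r.Prime := ⟨hr⟩
  let ρ : G →* MulAut M := MulAut.conjNormal (H := M)
  have hρ : ∀ (y : G) (m : M), ((ρ y m : M) : G) = y * m * y⁻¹ := fun y m => rfl
  let β : MulAut M := restrict φ M hMφ
  have hβ : ∀ m : M, ((β m : M) : G) = φ m := fun m => rfl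
  have hcompat : ∀ y : G, β * ρ y = ρ (φ y) * β := by
    intro y
    apply MulEquiv.ext
    intro m
    apply Subtype.ext
    rw [MulAut.mul_apply, MulAut.mul_apply, hβ, hρ, hρ, hβ, map_mul, map_mul, map_inv]
  have hβr : β ^ r = 1 := by
    apply MulEquiv.ext
    intro m
    rw [← iterate_eq_pow]
    exact (h.restrict M hMφ).per m
  -- the norm condition for `ρ y * β`
  have hnorm : ∀ y : G, ∀ w : M, ∏ j ∈ Finset.range r, ((ρ y * β) ^ j) w = 1 := by
    intro y w
    have h1 : (M.map (twist φ y).toMonoidHom) = M := by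
      apply map_eq_of_forall_mem
      intro x hx
      rw [twist_apply]
      have h2 : φ x ∈ M := by
        rw [← hMφ]; exact ⟨x, hx, rfl⟩
      exact hMn.conj_mem _ h2 y
    have h3 := ((h.twist y).restrict M h1).prod_eq_one w
    have h4 : (ρ y * β : MulAut M) = restrict (twist φ y) M h1 := by
      apply MulEquiv.ext
      intro m
      apply Subtype.ext
      rw [MulAut.mul_apply, hρ, hβ, restrict_coe, twist_apply]
    rw [h4]
    simp only [← iterate_eq_pow]
    exact h3
  set Pb : Subgroup (MulAut M) := P.map ρ with hPb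
  have hPbr : IsPGroup r Pb := hP.map ρ
  have hβnorm : β ∈ Subgroup.normalizer (Pb : Set (MulAut M)) := by
    rw [Subgroup.mem_normalizer_iff]
    intro n
    constructor
    · rintro ⟨y, hy, rfl⟩
      refine ⟨φ y, ?_, ?_⟩
      · rw [← hPφ]; exact ⟨y, hy, rfl⟩
      · show ρ (φ y) = β * ρ y * β⁻¹
        rw [hcompat, mul_inv_cancel_right]
    · rintro ⟨y, hy, hyn⟩
      rw [← hPφ] at hy
      obtain ⟨y', hy', rfl⟩ := hy
      refine ⟨y', hy', ?_⟩
      have h1 : ρ (φ y') = β * ρ y' * β⁻¹ := by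
        rw [hcompat, mul_inv_cancel_right]
      have h2 : β * ρ y' * β⁻¹ = β * n * β⁻¹ := by
        rw [← h1]; exact hyn
      have h3 := congrArg (fun t => β⁻¹ * t * β) h2
      simpa [mul_assoc] using h3
  have hZr : IsPGroup r (Subgroup.zpowers β) := by
    rintro ⟨g, hg⟩
    obtain ⟨i, rfl⟩ := Subgroup.mem_zpowers_iff.1 hg
    refine ⟨1, ?_⟩
    apply Subtype.ext
    rw [pow_one, Subgroup.coe_pow, Subgroup.coe_one]
    show (β ^ i) ^ r = 1
    rw [← zpow_natCast, ← zpow_mul, mul_comm, zpow_mul, zpow_natCast, hβr, one_zpow]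
  set R : Subgroup (MulAut M) := Pb ⊔ Subgroup.zpowers β with hR
  have hRr : IsPGroup r R :=
    hPbr.to_sup_of_normal_left' hZr (Subgroup.zpowers_le.2 hβnorm)
  have hPbR : Pb ≤ R := le_sup_left
  have hβR : β ∈ R := (le_sup_right : Subgroup.zpowers β ≤ R) (Subgroup.mem_zpowers β)
  have hRnorm : R ≤ Subgroup.normalizer (Pb : Set (MulAut M)) :=
    sup_le Subgroup.le_normalizer (Subgroup.zpowers_le.2 hβnorm)
  haveI hNn : (Pb.subgroupOf R).Normal := Subgroup.normal_subgroupOf_of_le_normalizer hRnorm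
  by_contra hcon
  have hPbne : Pb.subgroupOf R ≠ ⊥ := by
    intro hbot
    apply hcon
    intro z hz
    rw [Subgroup.mem_centralizer_iff]
    intro m hm
    have h1 : ρ z ∈ Pb := ⟨z, hz, rfl⟩
    have h2 : (⟨ρ z, hPbR h1⟩ : R) ∈ Pb.subgroupOf R := Subgroup.mem_subgroupOf.2 h1
    rw [hbot, Subgroup.mem_bot] at h2
    have h3 : ρ z = 1 := congrArg Subtype.val h2
    have h4 := congrArg Subtype.val (congrArg (fun f : MulAut M => f ⟨m, hm⟩) h3)
    simp only [hρ, MulAut.one_apply] at h4
    calc m * z = (z * m * z⁻¹) * z := by rw [h4]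
      _ = z * m := by group
  obtain ⟨b, hbN, hbZ, hb1⟩ :=
    Cfsg.Agent.Helper6.exists_mem_center_of_normal_ne_bot r hRr (Pb.subgroupOf R) hPbne
  have hbPb : (b : MulAut M) ∈ Pb := Subgroup.mem_subgroupOf.1 hbN
  have hbβ : Commute (b : MulAut M) β := by
    have := Subgroup.mem_center_iff.1 hbZ ⟨β, hβR⟩
    have h2 := congrArg Subtype.val this
    exact h2.symm
  have hb1' : (b : MulAut M) ≠ 1 := fun hh => hb1 (Subtype.ext hh)
  -- an element of order `r`
  obtain ⟨k, hk⟩ := (IsPGroup.iff_orderOf.1 hPbr) ⟨(b : MulAut M), hbPb⟩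
  rw [Subgroup.orderOf_mk] at hk
  obtain ⟨j, rfl⟩ : ∃ j, k = j + 1 := by
    rcases k with _ | j
    · rw [pow_zero, orderOf_eq_one_iff] at hk
      exact absurd hk hb1'
    · exact ⟨j, rfl⟩
  set x : MulAut M := (b : MulAut M) ^ r ^ j with hx
  have hxo : orderOf x = r := by
    rw [hx, orderOf_pow' _ (pow_ne_zero j hr.ne_zero), hk,
      Nat.gcd_eq_right (pow_dvd_pow r (Nat.le_succ j)), pow_succ,
      Nat.mul_div_cancel_left _ (pow_pos hr.pos j)]
  have hxPb : ∀ i : ℕ, x ^ i ∈ Pb := fun i => Pb.pow_mem (Pb.pow_mem hbPb _) i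
  have hxβ : Commute x β := hbβ.pow_left _
  have hx1 : x = 1 := by
    apply eq_one_of_commute_of_norms hr x β (by rw [← hxo]; exact pow_orderOf_eq_one x) hxβ ?_ hMr
    intro i w
    obtain ⟨y, -, hy⟩ := hxPb i
    rw [← hy]
    exact hnorm y w
  rw [hx1, orderOf_one] at hxo
  exact hr.one_lt.ne hxo

end SplitAut

end Cfsg.Agent.Helper1
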