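import Mathlib
import Cfsg.Agent.Helper1.SplitAut3

set_option autoImplicit false

/-!
Kegel's theorem, part 4: the induction.
-/

namespace Cfsg.Agent.Helper1

namespace SplitAut

open Function TFPF
open scoped commutatorElement Pointwise

universe u

variable {G : Type u} [Group G]

/-- every Sylow subgroup is invariant under a suitable twist -/
theorem exists_twist_sylow [Finite G] (φ : G ≃* G) (p : ℕ) [Fact p.Prime] (P : Sylow p G) :
    ∃ a : G, (P : Subgroup G).map (twist φ a).toMonoidHom = P := by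
  set Q : Sylow p G := (φ : MulAut G) • P with hQ
  obtain ⟨g, hg⟩ := MulAction.exists_smul_eq G Q P
  refine ⟨g, ?_⟩
  apply map_eq_of_forall_mem
  intro x hx
  rw [twist_apply]
  have h1 : φ x ∈ (Q : Subgroup G) := by
    rw [hQ, Sylow.pointwise_smul_def]
    exact Subgroup.smul_mem_pointwise_smul x (φ : MulAut G) _ hx
  have h2 : g * φ x * g⁻¹ ∈ ((g • Q : Sylow p G) : Subgroup G) := by
    rw [Sylow.coe_subgroup_smul]
    exact Subgroup.smul_mem_pointwise_smul (φ x) (MulAut.conj g) _ h1
  rw [hg] at h2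
  exact h2

/-- The induction hypothesis. -/
def IH' (r n : ℕ) : Prop :=
  ∀ m < n, ∀ (H : Type u) [Group H] [Finite H] (ψ : H ≃* H), Nat.card H = m → Split r ψ →
    Group.IsNilpotent H

theorem IH'.quot [Finite G] {r n : ℕ} (ih : IH'.{u} r n) (hn : Nat.card G = n) {φ : G ≃* G}
    (h : Split r φ) (N : Subgroup G) [N.Normal] (hNφ : N.map φ.toMonoidHom = N) (hN : N ≠ ⊥) :
    Group.IsNilpotent (G ⧸ N) :=
  ih _ (hn ▸ card_quotient_lt N hN) (G ⧸ N) (TFPF.quot φ N hNφ) rfl (h.quot N hNφ)

theorem IH'.sub [Finite G] {r n : ℕ} (ih : IH'.{u} r n) (hn : Nat.card G = n) {φ : G ≃* G}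
    (h : Split r φ) (H : Subgroup G) (hHφ : H.map φ.toMonoidHom = H) (hH : H ≠ ⊤) :
    Group.IsNilpotent H :=
  ih _ (hn ▸ card_subgroup_lt H hH) H (TFPF.restrict φ H hHφ) rfl (h.restrict H hHφ)

/-- The solvable case. -/
theorem nilpotent_of_solvable' [Finite G] {r n : ℕ} (hr : r.Prime) (ih : IH'.{u} r n)
    (hn : Nat.card G = n) {φ : G ≃* G} (h : Split r φ) (hsolv : Group.IsSolvable G) :
    Group.IsNilpotent G := by
  by_cases htriv : Subsingleton G
  · infer_instance
  rw [not_subsingleton_iff_nontrivial] at htriv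
  -- the last nontrivial term of the derived series
  have hex : ∃ k, derivedSeries G k = ⊥ := hsolv.solvable
  classical
  obtain ⟨k, hk, hkmin⟩ : ∃ k, derivedSeries G k = ⊥ ∧ ∀ j < k, derivedSeries G j ≠ ⊥ :=
    ⟨Nat.find hex, Nat.find_spec hex, fun j hj => Nat.find_min hex hj⟩
  have hk0 : k ≠ 0 := by
    rintro rfl
    rw [derivedSeries_zero] at hk
    exact top_ne_bot hk
  obtain ⟨D, hD⟩ : ∃ D, D = derivedSeries G (k - 1) := ⟨_, rfl⟩
  have hD1 : D ≠ ⊥ := hD ▸ hkmin (k - 1) (by omega)
  haveI hDchar : D.Characteristic := hD ▸ derivedSeries_characteristic G (k - 1)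
  have hDD : ⁅D, D⁆ = ⊥ := by
    have : derivedSeries G (k - 1 + 1) = ⊥ := by
      have e : k - 1 + 1 = k := by omega
      rw [e]; exact hk
    rw [derivedSeries_succ] at this
    rw [hD]; exact this
  have hDc : IsMulCommutative D := by
    refine ⟨⟨fun x y => Subtype.ext ?_⟩⟩
    have h1 : ⁅(x : G), (y : G)⁆ ∈ ⁅D, D⁆ := Subgroup.commutator_mem_commutator x.2 y.2
    rw [hDD, Subgroup.mem_bot, commutatorElement_eq_one_iff_mul_comm] at h1
    exact h1
  -- a prime `q` dividing `|D|`
  have hDcard : Nat.card D ≠ 1 := fun hc => hD1 (Subgroup.card_eq_one.1 hc)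
  obtain ⟨q, hq, hqD⟩ := Nat.exists_prime_and_dvd hDcard
  haveI : Fact q.Prime := ⟨hq⟩
  obtain ⟨M, hM⟩ : ∃ M, M = PStableStruct.omegaAb D hDc q := ⟨_, rfl⟩
  haveI hMn : M.Normal := hM ▸ PStableStruct.omegaAb_normal D hDc q
  have hMD : M ≤ D := hM ▸ PStableStruct.omegaAb_le D hDc q
  have hM1 : M ≠ ⊥ := by
    obtain ⟨z, hz⟩ := exists_prime_orderOf_dvd_card' q hqD
    intro hbot
    have hzM : (z : G) ∈ M := by
      rw [hM, PStableStruct.mem_omegaAb]
      refine ⟨z.2, ?_⟩
      have : z ^ q = 1 := by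
        have h := pow_orderOf_eq_one z
        rwa [hz] at h
      exact_mod_cast congrArg Subtype.val this
    rw [hbot, Subgroup.mem_bot] at hzM
    have hz1 : z = 1 := Subtype.ext hzM
    rw [hz1, orderOf_one] at hz
    exact hq.one_lt.ne hz
  have hMq : IsPGroup q M := by
    rintro ⟨x, hx⟩
    rw [hM, PStableStruct.mem_omegaAb] at hx
    exact ⟨1, Subtype.ext (by simpa using hx.2)⟩
  have hMc : IsMulCommutative M := by
    refine ⟨⟨fun x y => Subtype.ext ?_⟩⟩
    have := mul_comm' (⟨x, hMD x.2⟩ : D) ⟨y, hMD y.2⟩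
    have h := congrArg Subtype.val this
    show (x : G) * y = y * x
    exact h
  have hMaut : ∀ ψ : G ≃* G, M.map ψ.toMonoidHom = M := by
    intro ψ
    apply map_eq_of_forall_mem
    intro x hx
    rw [hM, PStableStruct.mem_omegaAb] at hx ⊢
    refine ⟨?_, by rw [← map_pow, hx.2, map_one]⟩
    have := Subgroup.characteristic_iff_map_eq.1 hDchar ψ
    rw [← this]
    exact ⟨x, hx.1, rfl⟩
  have hQnil : Group.IsNilpotent (G ⧸ M) := ih.quot hn h M (hMaut φ) hM1
  -- every Sylow subgroup is normal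
  have hall : ∀ (p : ℕ) (_ : Fact p.Prime) (P : Sylow p G), (P : Subgroup G).Normal := by
    intro p hp P
    obtain ⟨a, hPψ⟩ := exists_twist_sylow φ p P
    obtain ⟨N, hN⟩ : ∃ N, N = (P : Subgroup G) ⊔ M := ⟨_, rfl⟩
    have hNn : N.Normal := by
      have hsylall := ((Group.isNilpotent_of_finite_tfae (G := G ⧸ M)).out 0 3).1 hQnil
      have hsyl := hsylall p hp (P.mapSurjective (QuotientGroup.mk'_surjective M))
      have h2 := Subgroup.Normal.comap hsyl (QuotientGroup.mk' M)
      rw [Sylow.coe_mapSurjective, Subgroup.comap_map_eq, QuotientGroup.ker_mk'] at h2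
      rw [hN]
      exact h2
    by_cases hpq : p = q
    · subst hpq
      have hMP : M ≤ P := Cfsg.Agent.Lead.ZJ.le_sylow_of_normal P hMn hMq
      have : N = P := by rw [hN]; exact sup_eq_left.2 hMP
      rw [← this]
      exact hNn
    · have hcop : (Nat.card (P : Subgroup G)).Coprime (Nat.card M) := by
        obtain ⟨a, ha⟩ := IsPGroup.iff_card.1 P.2
        obtain ⟨b, hb⟩ := IsPGroup.iff_card.1 hMq
        rw [ha, hb]
        exact Nat.Coprime.pow _ _ ((Nat.coprime_primes hp.out hq).2 hpq)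
      have hcent : (P : Subgroup G) ≤ Subgroup.centralizer (M : Set G) := by
        by_cases hpr : p = r
        · subst hpr
          refine centralizes_of_split_r hr (h.twist a) M P hMc (hMaut _) hPψ P.2 ?_
          obtain ⟨b, hb⟩ := IsPGroup.iff_card.1 hMq
          rw [hb]
          exact Nat.Coprime.pow_left _ ((Nat.coprime_primes hq hp.out).2 (Ne.symm hpq))
        · refine centralizes_of_split hr (h.twist a) M P hMc (hMaut _) hPψ hcop ?_
          obtain ⟨b, hb⟩ := IsPGroup.iff_card.1 P.2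
          rw [hb]
          exact Nat.Coprime.pow_left _ ((Nat.coprime_primes hp.out hr).2 hpr)
      have hMcent : M ≤ Subgroup.centralizer ((P : Subgroup G) : Set G) :=
        Subgroup.le_centralizer_iff.1 hcent
      have hNnorm : N ≤ Subgroup.normalizer ((P : Subgroup G) : Set G) := by
        rw [hN]
        exact sup_le Subgroup.le_normalizer (hMcent.trans (Subgroup.centralizer_le_normalizer _))
      haveI := hNn
      have hle : (P : Subgroup G) ≤ N := hN ▸ le_sup_left
      have hsyl : ((P.subtype hle : Sylow p N) : Subgroup N).Normal := by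
        rw [Sylow.coe_subtype]
        exact Subgroup.normal_subgroupOf_of_le_normalizer hNnorm
      haveI hchar : ((P.subtype hle : Sylow p N) : Subgroup N).Characteristic :=
        Sylow.characteristic_of_normal _ hsyl
      have h4 : (((P.subtype hle : Sylow p N) : Subgroup N).map N.subtype).Normal :=
        inferInstance
      have h5 : ((P.subtype hle : Sylow p N) : Subgroup N).map N.subtype = P := by
        rw [Sylow.coe_subtype, Subgroup.subgroupOf_map_subtype, inf_eq_left.2 hle]
      rw [h5] at h4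
      exact h4
  exact ((Group.isNilpotent_of_finite_tfae (G := G)).out 0 3).2 hall

/-- The general step: `G` is solvable. -/
theorem solvable_of_ih' [Finite G] {r n : ℕ} (ih : IH'.{u} r n)
    (hn : Nat.card G = n) {φ : G ≃* G} (h : Split r φ) : Group.IsSolvable G := by
  by_cases hodd : ∃ p : ℕ, p.Prime ∧ p ∣ Nat.card G ∧ p ≠ 2
  swap
  · -- `G` is a `2`-group
    push Not at hodd
    have hcard : Nat.card G = 2 ^ (Nat.card G).primeFactorsList.length := by
      apply Nat.eq_prime_pow_of_unique_prime_dvd Nat.card_pos.ne'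
      intro d hd hdvd
      exact hodd d hd hdvd
    haveI : Fact (Nat.Prime 2) := ⟨Nat.prime_two⟩
    have hG : IsPGroup 2 G := IsPGroup.of_card hcard
    haveI := hG.isNilpotent
    infer_instance
  obtain ⟨p, hp, hpG, hp2⟩ := hodd
  haveI hpF : Fact p.Prime := ⟨hp⟩
  obtain ⟨P⟩ : Nonempty (Sylow p G) := inferInstance
  obtain ⟨a, hPφ⟩ := exists_twist_sylow φ p P
  obtain ⟨ψ, hψ⟩ : ∃ ψ, ψ = twist φ a := ⟨_, rfl⟩
  rw [← hψ] at hPφ
  have hs : Split r ψ := hψ ▸ h.twist a
  -- `P` is nontrivial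
  have hPnt : Nontrivial (P : Subgroup G) := by
    rw [← Finite.one_lt_card_iff_nontrivial, P.card_eq_multiplicity]
    apply Nat.one_lt_pow _ hp.one_lt
    exact (Nat.Prime.factorization_pos_of_dvd hp Nat.card_pos.ne' hpG).ne'
  obtain ⟨J, hJ⟩ : ∃ J, J = Cfsg.thompsonSubgroupOf p (P : Subgroup G) := ⟨_, rfl⟩
  obtain ⟨Z, hZ⟩ : ∃ Z, Z = (P : Subgroup G) ⊓ Subgroup.centralizer ((P : Subgroup G) : Set G) :=
    ⟨_, rfl⟩
  have hJ1 : J ≠ ⊥ := by
    have := ThompsonRed.jFunctor_ne_bot (p := p) (P : Subgroup G) P.2 hPnt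
    intro hbot
    apply this
    rw [hJ, ← ThompsonRed.jFunctor_of] at hbot
    exact (Subgroup.map_eq_bot_iff_of_injective _ (Subgroup.subtype_injective _)).1 hbot
  have hZ1 : Z ≠ ⊥ := by
    have := ThompsonRed.centerFunctor_ne_bot (p := p) (P : Subgroup G) P.2 hPnt
    intro hbot
    apply this
    rw [hZ, ← ThompsonRed.centerFunctor_of] at hbot
    exact (Subgroup.map_eq_bot_iff_of_injective _ (Subgroup.subtype_injective _)).1 hbot
  have hJP : J ≤ P := hJ ▸ Subgroup.map_subtype_le _
  have hZP : Z ≤ P := hZ ▸ inf_le_left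
  have hJφ : J.map ψ.toMonoidHom = J := by
    have := (ThompsonRed.jFunctor p).of_map_of_injective ψ.toMonoidHom ψ.injective (P : Subgroup G)
    rw [hPφ, ThompsonRed.jFunctor_of] at this
    rw [hJ]
    exact this.symm
  have hZφ : Z.map ψ.toMonoidHom = Z := by
    have := ThompsonRed.centerFunctor.of_map_of_injective ψ.toMonoidHom ψ.injective (P : Subgroup G)
    rw [hPφ, ThompsonRed.centerFunctor_of] at this
    rw [hZ]
    exact this.symm
  have hNφ : (Subgroup.normalizer (J : Set G)).map ψ.toMonoidHom = Subgroup.normalizer (J : Set G) := by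
    rw [Subgroup.map_equiv_normalizer_eq, hJφ]
  have hCφ : (Subgroup.centralizer (Z : Set G)).map ψ.toMonoidHom =
      Subgroup.centralizer (Z : Set G) := by
    rw [ThompsonRed.centralizer_map_equiv', hZφ]
  -- a nontrivial invariant normal `p`-subgroup gives solvability
  have key : ∀ Q : Subgroup G, Q.Normal → Q ≤ P → Q.map ψ.toMonoidHom = Q → Q ≠ ⊥ →
      Group.IsSolvable G := by
    intro Q hQn hQP hQφ hQ1
    haveI := hQn
    have h1 : Group.IsNilpotent (G ⧸ Q) := ih.quot hn hs Q hQφ hQ1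
    have h2 : IsPGroup p Q := P.2.to_le hQP
    haveI := h2.isNilpotent
    exact isSolvable_of_normal Q inferInstance inferInstance
  by_cases hNtop : Subgroup.normalizer (J : Set G) = ⊤
  · exact key J (Subgroup.normalizer_eq_top_iff.1 hNtop) hJP hJφ hJ1
  by_cases hCtop : Subgroup.centralizer (Z : Set G) = ⊤
  · refine key Z ?_ hZP hZφ hZ1
    rw [← Subgroup.normalizer_eq_top_iff, eq_top_iff, ← hCtop]
    exact Subgroup.centralizer_le_normalizer _
  -- both are proper, hence nilpotent, hence `G` has a normal `p`-complement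
  have hNnil : Group.IsNilpotent (Subgroup.normalizer (J : Set G)) := ih.sub hn hs _ hNφ hNtop
  have hCnil : Group.IsNilpotent (Subgroup.centralizer (Z : Set G)) := ih.sub hn hs _ hCφ hCtop
  have h1 := hasNormalPComplement_of_isNilpotent hNnil p
  have h2 := hasNormalPComplement_of_isNilpotent hCnil p
  rw [hJ] at h1
  rw [hZ] at h2
  have h3 := ThompsonRed.thompson_npc hp2 G P h1 h2
  obtain ⟨M, hMn, hMcop, k, hMidx⟩ := hasNormalPComplement_iff_exists.1 h3
  haveI := hMn
  have hMφ := hall_invariant ψ M hMcop hMidx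
  have hMtop : M ≠ ⊤ := by
    rintro rfl
    rw [Subgroup.card_top] at hMcop
    exact (Nat.Prime.coprime_iff_not_dvd hp).1 hMcop.symm hpG
  have hMnil : Group.IsNilpotent M := ih.sub hn hs M hMφ hMtop
  have hQp : IsPGroup p (G ⧸ M) := by
    apply IsPGroup.of_card (n := k)
    rw [← Subgroup.index_eq_card, hMidx]
  haveI := hQp.isNilpotent
  exact isSolvable_of_normal M inferInstance inferInstance

/-- Kegel's theorem. -/
theorem nilpotent_of_split {r : ℕ} (hr : r.Prime) : ∀ n : ℕ, ∀ (G : Type u) [Group G] [Finite G]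
    (φ : G ≃* G), Nat.card G = n → Split r φ → Group.IsNilpotent G := by
  intro n
  induction n using Nat.strong_induction_on with
  | _ n ih =>
  intro G _ _ φ hn h
  have ih' : IH'.{u} r n := fun m hm H _ _ ψ hH hψ => ih m hm H ψ hH hψ
  exact nilpotent_of_solvable' hr ih' hn h (solvable_of_ih' ih' hn h)

theorem kegel_split {G : Type u} [Group G] [Finite G] (α : MulAut G) (hp : (orderOf α).Prime)
    (hsplit : ∀ x : G, (((List.range (orderOf α)).map (fun i : ℕ => (α ^ i) x)).prod = 1)) :
    Group.IsNilpotent G := by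
  refine nilpotent_of_split hp _ G α rfl ⟨fun g => ?_, fun g => ?_⟩
  · rw [iterate_eq_pow, pow_orderOf_eq_one]
    rfl
  · unfold nrm
    simp only [iterate_eq_pow]
    exact hsplit g

end SplitAut

end Cfsg.Agent.Helper1
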