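import Mathlib
import Cfsg.Agent.Helper1.SplitAut4

set_option autoImplicit false

/-!
The Hughes--Thompson--Kegel theorem: if `G` is not a `p`-group and the Hughes subgroup `H_p(G)` is
proper, then it is nilpotent of index `p`.
-/

namespace Cfsg.Agent.Helper1

namespace HughesThompson

open Function TFPF SplitAut

universe u

variable {G : Type u} [Group G]

theorem conj_iterate (x : G) (n : ℕ) (g : G) :
    (⇑(MulAut.conj x : G ≃* G))^[n] g = x ^ n * g * (x ^ n)⁻¹ := by
  rw [iterate_eq_pow, ← map_pow, MulAut.conj_apply]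

theorem nrm_conj (x : G) (n : ℕ) (g : G) :
    nrm (MulAut.conj x : G ≃* G) n g = (g * x) ^ n * (x ^ n)⁻¹ := by
  induction n with
  | zero => simp [nrm_zero]
  | succ n ih =>
    rw [nrm_succ, ih, conj_iterate, pow_succ (g * x), pow_succ x]
    group

/-- conjugation by an element outside the Hughes subgroup is a splitting automorphism of any
invariant subgroup of it -/
theorem split_conj {p : ℕ} (H : Subgroup G) (hH : ∀ g : G, g ∉ H → g ^ p = 1) (x : G) (hx : x ∉ H)
    (K : Subgroup G) (hKH : K ≤ H) (hK : K.map (MulAut.conj x : G ≃* G).toMonoidHom = K) :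
    Split p (restrict (MulAut.conj x : G ≃* G) K hK) := by
  constructor
  · intro g
    apply Subtype.ext
    rw [restrict_iterate_coe, conj_iterate, hH x hx]
    simp
  · intro g
    apply Subtype.ext
    rw [nrm_restrict, nrm_conj, hH x hx]
    have h1 : (g : G) * x ∉ H := by
      intro hcon
      apply hx
      have : x = (g : G)⁻¹ * ((g : G) * x) := by group
      rw [this]
      exact H.mul_mem (H.inv_mem (hKH g.2)) hcon
    rw [hH _ h1]
    simp

theorem map_conj_normal (K : Subgroup G) [hK : K.Normal] (x : G) :
    K.map (MulAut.conj x : G ≃* G).toMonoidHom = K := by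
  apply le_antisymm
  · rintro _ ⟨k, hk, rfl⟩
    exact hK.conj_mem k hk x
  · intro k hk
    refine ⟨x⁻¹ * k * x, ?_, ?_⟩
    · have := hK.conj_mem k hk x⁻¹
      simpa using this
    · show x * (x⁻¹ * k * x) * x⁻¹ = k
      group

/-- the Hughes subgroup is normal -/
theorem hughes_normal (p : ℕ) : (Subgroup.closure {g : G | g ^ p ≠ 1}).Normal := by
  constructor
  intro n hn g
  induction hn using Subgroup.closure_induction with
  | mem s hs =>
    apply Subgroup.subset_closure
    show (g * s * g⁻¹) ^ p ≠ 1
    rw [conj_pow]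
    intro h
    apply hs
    have := congrArg (fun t => g⁻¹ * t * g) h
    simpa [mul_assoc] using this
  | one => simp
  | mul a b _ _ ha hb =>
    have : g * (a * b) * g⁻¹ = (g * a * g⁻¹) * (g * b * g⁻¹) := by group
    rw [this]
    exact Subgroup.mul_mem _ ha hb
  | inv a _ ha =>
    have : g * a⁻¹ * g⁻¹ = (g * a * g⁻¹)⁻¹ := by group
    rw [this]
    exact Subgroup.inv_mem _ ha

end HughesThompson

end Cfsg.Agent.Helper1
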