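import Mathlib
import Cfsg.Agent.Helper1.HughesThompson

set_option autoImplicit false

/-!
The Hughes--Thompson--Kegel theorem, part 2.
-/

namespace Cfsg.Agent.Helper1

namespace HughesThompson

open Function TFPF SplitAut

universe u

variable {G : Type u} [Group G]

open scoped IsMulCommutative in
/-- a nontrivial abelian normal `q`-subgroup inside a nilpotent normal subgroup -/
theorem exists_normal_abelian_pgroup [Finite G] (H : Subgroup G) [hHn : H.Normal]
    (hHnil : Group.IsNilpotent H) (q : ℕ) [hq : Fact q.Prime] (hqH : q ∣ Nat.card H) :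
    ∃ V : Subgroup G, V.Normal ∧ V ≤ H ∧ IsPGroup q V ∧ V ≠ ⊥ ∧ IsMulCommutative V := by
  classical
  obtain ⟨Ps⟩ : Nonempty (Sylow q ↥H) := inferInstance
  haveI : (Ps : Subgroup ↥H).Normal := inferInstance
  haveI : (Ps : Subgroup ↥H).Characteristic := Sylow.characteristic_of_normal Ps inferInstance
  set P : Subgroup G := (Ps : Subgroup ↥H).map H.subtype with hP
  haveI hPn : P.Normal := ConjAct.normal_of_characteristic_of_normal
  have hPp : IsPGroup q ↥P := Ps.2.map _
  have hPH : P ≤ H := Subgroup.map_subtype_le _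
  have hPne : P ≠ ⊥ := by
    intro hbot
    have h1 : Nat.card P = Nat.card (Ps : Subgroup ↥H) :=
      (Nat.card_congr ((Ps : Subgroup ↥H).equivMapOfInjective H.subtype
        H.subtype_injective).toEquiv).symm
    rw [hbot, Subgroup.card_bot] at h1
    have h2 : q ∣ Nat.card (Ps : Subgroup ↥H) := Ps.dvd_card_of_dvd_card hqH
    rw [← h1] at h2
    exact hq.out.one_lt.ne' (Nat.dvd_one.1 h2)
  haveI : Nontrivial ↥P := (Subgroup.nontrivial_iff_ne_bot P).2 hPne
  haveI : (Subgroup.center ↥P).Characteristic := inferInstance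
  set V : Subgroup G := (Subgroup.center ↥P).map P.subtype with hV
  haveI hVn : V.Normal := ConjAct.normal_of_characteristic_of_normal
  have hVP : V ≤ P := Subgroup.map_subtype_le _
  have hVp : IsPGroup q ↥V := hPp.to_le hVP
  have hVne : V ≠ ⊥ := by
    intro hbot
    have h1 := (IsPGroup.bot_lt_center hPp).ne'
    apply h1
    rw [eq_bot_iff]
    intro z hz
    have : (z : G) ∈ V := ⟨z, hz, rfl⟩
    rw [hbot, Subgroup.mem_bot] at this
    rw [Subgroup.mem_bot]
    exact Subtype.ext this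
  have hVc : IsMulCommutative ↥V := by
    refine ⟨⟨?_⟩⟩
    rintro ⟨_, a, ha, rfl⟩ ⟨_, b, hb, rfl⟩
    apply Subtype.ext
    have := Subgroup.mem_center_iff.1 ha b
    have h5 := congrArg (fun z : ↥P => (z : G)) this
    simpa using h5.symm
  exact ⟨V, hVn, hVP.trans hPH, hVp, hVne, hVc⟩

open scoped IsMulCommutative in
set_option maxHeartbeats 1000000 in
theorem hughes_thompson_kegel [Finite G] (p : ℕ) (hp : p.Prime) (hG : ¬ IsPGroup p G)
    (hH : Subgroup.closure {g : G | g ^ p ≠ 1} ≠ ⊤) :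
    Group.IsNilpotent (Subgroup.closure {g : G | g ^ p ≠ 1}) ∧
      (Subgroup.closure {g : G | g ^ p ≠ 1}).index = p := by
  classical
  haveI : Fact p.Prime := ⟨hp⟩
  set H : Subgroup G := Subgroup.closure {g : G | g ^ p ≠ 1} with hHdef
  haveI hHn : H.Normal := hughes_normal p
  have hout : ∀ g : G, g ∉ H → g ^ p = 1 := by
    intro g hg
    by_contra h
    exact hg (Subgroup.subset_closure h)
  -- an element outside `H`
  obtain ⟨x, hx⟩ : ∃ x : G, x ∉ H := by
    by_contra hcon
    push Not at hcon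
    exact hH (eq_top_iff.2 fun g _ => hcon g)
  -- `H` is nilpotent by Kegel's theorem
  have hHnil : Group.IsNilpotent H :=
    nilpotent_of_split hp _ H (restrict (MulAut.conj x : G ≃* G) H (map_conj_normal H x)) rfl
      (split_conj H hout x hx H le_rfl _)
  refine ⟨hHnil, ?_⟩
  -- `G ⧸ H` is a `p`-group
  have hQp : IsPGroup p (G ⧸ H) := by
    intro y
    obtain ⟨g, rfl⟩ := QuotientGroup.mk_surjective y
    refine ⟨1, ?_⟩
    rw [pow_one, ← QuotientGroup.mk_pow, QuotientGroup.eq_one_iff]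
    by_cases hg : g ∈ H
    · exact H.pow_mem hg p
    · rw [hout g hg]; exact H.one_mem
  obtain ⟨k, hk⟩ := IsPGroup.iff_card.1 hQp
  have hidx : H.index = p ^ k := by rw [Subgroup.index_eq_card]; exact hk
  -- a prime `q ≠ p` dividing `|H|`
  obtain ⟨q, hq, hqG, hqp⟩ : ∃ q : ℕ, q.Prime ∧ q ∣ Nat.card G ∧ q ≠ p := by
    by_contra hcon
    push Not at hcon
    apply hG
    have hcard : Nat.card G = p ^ (Nat.card G).primeFactorsList.length := by
      apply Nat.eq_prime_pow_of_unique_prime_dvd Nat.card_pos.ne'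
      intro d hd hdvd
      exact hcon d hd hdvd
    exact IsPGroup.of_card hcard
  haveI : Fact q.Prime := ⟨hq⟩
  have hqH : q ∣ Nat.card H := by
    have h1 : Nat.card H * H.index = Nat.card G := Subgroup.card_mul_index H
    rw [← h1, hidx] at hqG
    rcases (Nat.Prime.dvd_mul hq).1 hqG with h | h
    · exact h
    · exact absurd ((Nat.prime_dvd_prime_iff_eq hq hp).1 (hq.dvd_of_dvd_pow h)) hqp
  obtain ⟨V, hVn, hVH, hVq, hVne, hVc⟩ := exists_normal_abelian_pgroup H hHnil q hqH
  haveI := hVn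
  haveI := hVc
  have hVcop : (Nat.card V).Coprime p := by
    obtain ⟨b, hb⟩ := IsPGroup.iff_card.1 hVq
    rw [hb]
    exact Nat.Coprime.pow_left _ ((Nat.coprime_primes hq hp).2 hqp)
  let ρ : G →* MulAut V := MulAut.conjNormal (H := V)
  have hρ : ∀ (y : G) (m : V), ((ρ y m : V) : G) = y * m * y⁻¹ := fun y m => rfl
  -- norm condition
  have hnorm : ∀ y : G, y ∉ H → ∀ w : V, ∏ j ∈ Finset.range p, ((ρ y) ^ j) w = 1 := by
    intro y hy w
    have h3 := (split_conj H hout y hy V hVH (map_conj_normal V y)).prod_eq_one w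
    have h4 : (ρ y : MulAut V) = restrict (MulAut.conj y : G ≃* G) V (map_conj_normal V y) := by
      apply MulEquiv.ext
      intro m
      apply Subtype.ext
      rw [hρ, restrict_coe]
      rfl
    rw [h4]
    simp only [← iterate_eq_pow]
    exact h3
  -- elements outside `H` act nontrivially
  have hnontriv : ∀ y : G, y ∉ H → ρ y ≠ 1 := by
    intro y hy h1
    apply hVne
    rw [eq_bot_iff]
    intro w hw
    have h2 := hnorm y hy ⟨w, hw⟩
    rw [h1] at h2
    simp only [one_pow, MulAut.one_apply, Finset.prod_const, Finset.card_range] at h2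
    have h3 : (⟨w, hw⟩ : V) = 1 := by
      have := (powCoprime hVcop).injective (a₁ := (⟨w, hw⟩ : V)) (a₂ := 1)
      apply this
      simp only [powCoprime_apply, one_pow]
      exact h2
    rw [Subgroup.mem_bot]
    exact congrArg Subtype.val h3
  -- a Sylow `p`-subgroup
  obtain ⟨P⟩ : Nonempty (Sylow p G) := inferInstance
  have hPH : (P : Subgroup G) ⊔ H = ⊤ := by
    rw [← Subgroup.index_eq_one]
    have h1 : ((P : Subgroup G) ⊔ H).index ∣ (P : Subgroup G).index :=
      Subgroup.index_dvd_of_le le_sup_left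
    have h2 : ((P : Subgroup G) ⊔ H).index ∣ H.index := Subgroup.index_dvd_of_le le_sup_right
    rw [hidx] at h2
    have h3 : ((P : Subgroup G).index).Coprime (p ^ k) :=
      Nat.Coprime.pow_right _ ((Nat.Prime.coprime_iff_not_dvd hp).2 P.not_dvd_index).symm
    exact Nat.eq_one_of_dvd_coprimes h3 h1 h2
  have hdecomp : ∀ g : G, ∃ t ∈ (P : Subgroup G), ∃ h ∈ H, t * h = g := by
    intro g
    have h1 : g ∈ ((P : Subgroup G) ⊔ H : Subgroup G) := by rw [hPH]; exact Subgroup.mem_top g
    rw [← SetLike.mem_coe, Subgroup.mul_normal] at h1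
    obtain ⟨t, ht, h, hh, rfl⟩ := Set.mem_mul.1 h1
    exact ⟨t, ht, h, hh, rfl⟩
  -- `P` is not contained in `H`
  obtain ⟨t₀, ht₀P, ht₀H⟩ : ∃ t ∈ (P : Subgroup G), t ∉ H := by
    obtain ⟨t, ht, h, hh, hth⟩ := hdecomp x
    refine ⟨t, ht, ?_⟩
    intro htH
    apply hx
    rw [← hth]
    exact H.mul_mem htH hh
  -- the image of `P` in `MulAut V`
  set T : Subgroup (MulAut V) := (P : Subgroup G).map ρ with hT
  have hTp : IsPGroup p T := P.2.map ρ
  haveI hTnt : Nontrivial T := by
    refine ⟨⟨⟨ρ t₀, t₀, ht₀P, rfl⟩, 1, ?_⟩⟩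
    intro h
    exact hnontriv t₀ ht₀H (congrArg Subtype.val h)
  haveI := hTp.center_nontrivial
  obtain ⟨b, hb1⟩ := exists_ne (1 : Subgroup.center T)
  have hbT : ((b : T) : MulAut V) ∈ T := (b : T).2
  have hb1' : ((b : T) : MulAut V) ≠ 1 := by
    intro h
    apply hb1
    apply Subtype.ext
    apply Subtype.ext
    exact h
  have hbcomm : ∀ a ∈ T, Commute ((b : T) : MulAut V) a := by
    intro a ha
    have := Subgroup.mem_center_iff.1 b.2 ⟨a, ha⟩
    have h2 := congrArg Subtype.val this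
    exact h2.symm
  -- an element of order `p`
  obtain ⟨e, he⟩ := (IsPGroup.iff_orderOf.1 hTp) (b : T)
  rw [← Subgroup.orderOf_coe] at he
  obtain ⟨j, rfl⟩ : ∃ j, e = j + 1 := by
    rcases e with _ | j
    · rw [pow_zero, orderOf_eq_one_iff] at he
      exact absurd he hb1'
    · exact ⟨j, rfl⟩
  set z : MulAut V := ((b : T) : MulAut V) ^ p ^ j with hz
  have hzo : orderOf z = p := by
    rw [hz, orderOf_pow' _ (pow_ne_zero j hp.ne_zero), he,
      Nat.gcd_eq_right (pow_dvd_pow p (Nat.le_succ j)), pow_succ,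
      Nat.mul_div_cancel_left _ (pow_pos hp.pos j)]
  have hzT : z ∈ T := T.pow_mem hbT _
  have hzcomm : ∀ a ∈ T, Commute z a := fun a ha => (hbcomm a ha).pow_left _
  obtain ⟨z₀, hz₀P, hz₀⟩ := hzT
  -- the key property of `z₀`
  have hkey : ∀ t ∈ (P : Subgroup G), t ∉ H → ∃ i : ℕ, z₀ ^ i * t ∈ H := by
    intro t htP htH
    by_contra hcon
    push Not at hcon
    have hz1 : z = 1 := by
      apply eq_one_of_commute_of_norms hp z (ρ t) (by rw [← hzo]; exact pow_orderOf_eq_one z)
        (hzcomm _ ⟨t, htP, rfl⟩) ?_ hVcop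
      intro i w
      have := hnorm (z₀ ^ i * t) (hcon i) w
      rw [map_mul, map_pow, hz₀] at this
      exact this
    rw [hz1, orderOf_one] at hzo
    exact hp.one_lt.ne hzo
  -- `G ⧸ H` is generated by the image of `z₀`
  have hgen : ∀ y : G ⧸ H, y ∈ Subgroup.zpowers (QuotientGroup.mk z₀ : G ⧸ H) := by
    intro y
    obtain ⟨g, rfl⟩ := QuotientGroup.mk_surjective y
    obtain ⟨t, htP, h, hh, rfl⟩ := hdecomp g
    have h1 : (QuotientGroup.mk (t * h) : G ⧸ H) = QuotientGroup.mk t := by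
      rw [QuotientGroup.mk_mul, (QuotientGroup.eq_one_iff h).2 hh, mul_one]
    rw [h1]
    by_cases htH : t ∈ H
    · rw [(QuotientGroup.eq_one_iff t).2 htH]
      exact Subgroup.one_mem _
    · obtain ⟨i, hi⟩ := hkey t htP htH
      have h2 : (QuotientGroup.mk z₀ : G ⧸ H) ^ i * QuotientGroup.mk t = 1 := by
        rw [← QuotientGroup.mk_pow, ← QuotientGroup.mk_mul, QuotientGroup.eq_one_iff]
        exact hi
      have h3 : (QuotientGroup.mk t : G ⧸ H) = ((QuotientGroup.mk z₀ : G ⧸ H) ^ i)⁻¹ :=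
        eq_inv_of_mul_eq_one_right h2
      rw [h3]
      exact Subgroup.inv_mem _ (Subgroup.pow_mem _ (Subgroup.mem_zpowers _) i)
  have hcard : Nat.card (G ⧸ H) = orderOf (QuotientGroup.mk z₀ : G ⧸ H) := by
    rw [← Nat.card_zpowers]
    have : Subgroup.zpowers (QuotientGroup.mk z₀ : G ⧸ H) = ⊤ := eq_top_iff.2 fun y _ => hgen y
    rw [this, Subgroup.card_top]
  have hpow : (QuotientGroup.mk z₀ : G ⧸ H) ^ p = 1 := by
    obtain ⟨n, hn⟩ := hQp (QuotientGroup.mk z₀ : G ⧸ H)
    rw [← QuotientGroup.mk_pow, QuotientGroup.eq_one_iff]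
    by_cases hz₀H : z₀ ∈ H
    · exact H.pow_mem hz₀H p
    · rw [hout z₀ hz₀H]; exact H.one_mem
  have hdvd : orderOf (QuotientGroup.mk z₀ : G ⧸ H) ∣ p := orderOf_dvd_of_pow_eq_one hpow
  rw [Subgroup.index_eq_card, hcard]
  rcases (Nat.dvd_prime hp).1 hdvd with h | h
  · exfalso
    apply hH
    rw [← Subgroup.index_eq_one, Subgroup.index_eq_card, hcard, h]
  · exact h

end HughesThompson

end Cfsg.Agent.Helper1
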