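import Mathlib
import Cfsg.Agent.Helper1.Basic
import Cfsg.Agent.Helper1.AbelianAct
import Cfsg.Agent.Helper1.SubnormalComm

set_option autoImplicit false

/-!
Maschke-type theorem: coprime action on an abelian group, invariant complements.
-/

namespace Cfsg.Agent.Helper1

open scoped Pointwise commutatorElement IsMulCommutative

universe u

variable {G : Type u} [Group G]

/-- A retraction of an abelian group onto a complemented subgroup. -/
theorem exists_retraction {V : Type u} [CommGroup V] (U W : Subgroup V) (h1 : U ⊓ W = ⊥)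
    (h2 : U ⊔ W = ⊤) : ∃ π : V →* V, (∀ v, π v ∈ U) ∧ ∀ u ∈ U, π u = u := by
  have hbij : Function.Bijective (MonoidHom.coprod U.subtype W.subtype) := by
    constructor
    · rw [injective_iff_map_eq_one]
      rintro ⟨u, w⟩ h
      rw [MonoidHom.coprod_apply] at h
      have h : (u : V) * (w : V) = 1 := h
      have hu : (u : V) = (w : V)⁻¹ := eq_inv_of_mul_eq_one_left h
      have hmem : (u : V) ∈ U ⊓ W := ⟨u.2, by rw [hu]; exact W.inv_mem w.2⟩
      rw [h1, Subgroup.mem_bot] at hmem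
      have hw : (w : V) = 1 := by
        rw [hmem, one_mul] at h; exact h
      exact Prod.ext (Subtype.ext hmem) (Subtype.ext hw)
    · intro v
      have hv : v ∈ U ⊔ W := h2 ▸ Subgroup.mem_top v
      rw [Subgroup.mem_sup] at hv
      obtain ⟨y, hy, z, hz, rfl⟩ := hv
      exact ⟨(⟨y, hy⟩, ⟨z, hz⟩), rfl⟩
  let e := MulEquiv.ofBijective (MonoidHom.coprod U.subtype W.subtype) hbij
  refine ⟨U.subtype.comp ((MonoidHom.fst U W).comp e.symm.toMonoidHom), ?_, ?_⟩
  · intro v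
    exact Subtype.prop _
  · intro u hu
    have : e.symm u = (⟨u, hu⟩, 1) := by
      rw [MulEquiv.symm_apply_eq]
      simp [e]
    simp [this]

theorem exists_invariant_complement [Finite G] (V A U : Subgroup G) (hVab : IsMulCommutative V)
    (hAV : A ≤ Subgroup.normalizer (V : Set G)) (hcop : (Nat.card A).Coprime (Nat.card V))
    (hUV : U ≤ V) (hAU : A ≤ Subgroup.normalizer (U : Set G)) (W : Subgroup G) (hWV : W ≤ V)
    (hUW : U ⊓ W = ⊥) (hUWV : U ⊔ W = V) :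
    ∃ W' : Subgroup G, W' ≤ V ∧ A ≤ Subgroup.normalizer (W' : Set G) ∧ U ⊓ W' = ⊥ ∧
      U ⊔ W' = V := by
  classical
  have : Fintype A := Fintype.ofFinite A
  have h1 : U.subgroupOf V ⊓ W.subgroupOf V = ⊥ := by
    rw [eq_bot_iff]
    intro x hx
    obtain ⟨hx1, hx2⟩ := Subgroup.mem_inf.1 hx
    rw [Subgroup.mem_subgroupOf] at hx1 hx2
    have : (x : G) ∈ U ⊓ W := Subgroup.mem_inf.2 ⟨hx1, hx2⟩
    rw [hUW, Subgroup.mem_bot] at this
    rw [Subgroup.mem_bot]
    exact Subtype.ext this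
  have h2 : U.subgroupOf V ⊔ W.subgroupOf V = ⊤ := by
    rw [← Subgroup.subgroupOf_sup hUV hWV, hUWV, Subgroup.subgroupOf_self]
  obtain ⟨π, hπ1, hπ2⟩ := exists_retraction (U.subgroupOf V) (W.subgroupOf V) h1 h2
  -- averaged retraction
  obtain ⟨θ, hθ⟩ : ∃ θ : V →* V,
      θ = ∏ a : A, (conjOn A V hAV a).comp (π.comp (conjOn A V hAV a⁻¹)) := ⟨_, rfl⟩
  have hθapp : ∀ v, θ v = ∏ a : A, conjOn A V hAV a (π (conjOn A V hAV a⁻¹ v)) := by
    intro v
    rw [hθ, MonoidHom.finsetProd_apply]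
    rfl
  have hconjU : ∀ (a : A) (v : V), v ∈ U.subgroupOf V →
      conjOn A V hAV a v ∈ U.subgroupOf V := by
    intro a v hv
    rw [Subgroup.mem_subgroupOf] at hv ⊢
    rw [conjOn_coe]
    exact ((Subgroup.mem_normalizer_iff.1 (hAU a.2)) _).1 hv
  have hθU : ∀ v, θ v ∈ U.subgroupOf V := by
    intro v
    rw [hθapp]
    exact Subgroup.prod_mem _ (fun a _ => hconjU a _ (hπ1 _))
  have hone : ∀ v : V, conjOn A V hAV 1 v = v := by
    intro v; ext; simp
  have hθu : ∀ u ∈ U.subgroupOf V, θ u = u ^ Nat.card A := by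
    intro u hu
    rw [hθapp]
    have : ∀ a : A, conjOn A V hAV a (π (conjOn A V hAV a⁻¹ u)) = u := by
      intro a
      rw [hπ2 _ (hconjU a⁻¹ u hu), ← conjOn_mul, mul_inv_cancel, hone]
    simp only [this, Finset.prod_const, Finset.card_univ, Nat.card_eq_fintype_card]
  have hθconj : ∀ (b : A) (v : V), θ (conjOn A V hAV b v) = conjOn A V hAV b (θ v) := by
    intro b v
    rw [hθapp, hθapp, map_prod]
    refine Fintype.prod_equiv (Equiv.mulLeft b⁻¹) _ _ (fun a => ?_)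
    have e1 : b * (b⁻¹ * a) = a := mul_inv_cancel_left b a
    have e2 : (b⁻¹ * a)⁻¹ = a⁻¹ * b := by rw [mul_inv_rev, inv_inv]
    rw [Equiv.coe_mulLeft, ← conjOn_mul, ← conjOn_mul, e1, e2]
  refine ⟨θ.ker.map V.subtype, Subgroup.map_subtype_le _, ?_, ?_, ?_⟩
  · apply le_normalizer_of_forall_conj_mem
    intro a ha x hx
    obtain ⟨w, hw, rfl⟩ := hx
    refine ⟨conjOn A V hAV ⟨a, ha⟩ w, ?_, rfl⟩
    rw [SetLike.mem_coe, MonoidHom.mem_ker] at hw ⊢
    rw [hθconj, hw, map_one]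
  · rw [eq_bot_iff]
    intro x hx
    obtain ⟨hxU, hxK⟩ := Subgroup.mem_inf.1 hx
    obtain ⟨w, hw, rfl⟩ := hxK
    rw [SetLike.mem_coe, MonoidHom.mem_ker, hθu w (Subgroup.mem_subgroupOf.2 hxU)] at hw
    have h3 : orderOf w ∣ Nat.card A := orderOf_dvd_of_pow_eq_one hw
    have h4 : orderOf w ∣ Nat.card V := orderOf_dvd_natCard w
    have h5 : orderOf w = 1 := Nat.eq_one_of_dvd_coprimes hcop h3 h4
    rw [orderOf_eq_one_iff] at h5
    rw [Subgroup.mem_bot, h5]
    rfl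
  · apply le_antisymm (sup_le hUV (Subgroup.map_subtype_le _))
    intro v hv
    obtain ⟨x, hx⟩ : ∃ x : V, x = θ ⟨v, hv⟩ := ⟨_, rfl⟩
    have hcopx : (Nat.card A).Coprime (orderOf x) :=
      Nat.Coprime.coprime_dvd_right (orderOf_dvd_natCard x) hcop
    obtain ⟨m, hm⟩ := exists_pow_eq_self_of_coprime hcopx
    have hxU : x ∈ U.subgroupOf V := hx ▸ hθU _
    have huU : x ^ m ∈ U.subgroupOf V := Subgroup.pow_mem _ hxU m
    have hθu' : θ (x ^ m) = x := by
      rw [hθu _ huU, ← pow_mul, mul_comm, pow_mul, hm]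
    have hker : (⟨v, hv⟩ : V) * (x ^ m)⁻¹ ∈ θ.ker := by
      rw [MonoidHom.mem_ker, map_mul, map_inv, hθu', ← hx, mul_inv_cancel]
    have hV' : (⟨v, hv⟩ : V) = x ^ m * ((⟨v, hv⟩ : V) * (x ^ m)⁻¹) := by
      rw [mul_comm (⟨v, hv⟩ : V) _, mul_inv_cancel_left]
    have hv' : v = ((x ^ m : V) : G) * (((⟨v, hv⟩ : V) * (x ^ m)⁻¹ : V) : G) :=
      congrArg Subtype.val hV'
    rw [hv']
    exact Subgroup.mul_mem_sup (Subgroup.mem_subgroupOf.1 huU) ⟨_, hker, rfl⟩

end Cfsg.Agent.Helper1
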