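import Mathlib
import Cfsg.Agent.Helper1.FPFSub

set_option autoImplicit false

/-!
Isaacs, Character Theory, Lemma 12.3 (group-theoretic part): a finite solvable nonabelian group
all of whose proper quotients are abelian is a `p`-group or a Frobenius-like group with abelian
kernel `G'`.
-/

namespace Cfsg.Agent.Helper1.Isaacs123

open scoped commutatorElement

variable {G : Type*} [Group G]

/-- The commutator subgroup is abelian when it is contained in every nontrivial normal
subgroup of a solvable group. -/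
theorem comm_comm_eq_bot [Group.IsSolvable G]
    (hq : ∀ M : Subgroup G, M.Normal → M ≠ ⊥ → commutator G ≤ M) :
    ⁅commutator G, commutator G⁆ = ⊥ := by
  by_contra hne
  have hN : commutator G ≠ ⊥ := by
    intro h
    apply hne
    rw [h]
    exact Subgroup.commutator_bot_left _
  have hlt := Group.IsSolvable.commutator_lt_of_ne_bot hN
  have hnorm : (⁅commutator G, commutator G⁆ : Subgroup G).Normal :=
    Subgroup.commutator_normal _ _
  exact absurd (hq _ hnorm hne) (not_le_of_gt hlt)

/-- elements of order dividing `p` in an abelian subgroup. -/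
def omega (N : Subgroup G) (hab : ∀ x ∈ N, ∀ y ∈ N, x * y = y * x) (p : ℕ) : Subgroup G where
  carrier := {x | x ∈ N ∧ x ^ p = 1}
  mul_mem' := by
    rintro a b ⟨ha, hap⟩ ⟨hb, hbp⟩
    refine ⟨N.mul_mem ha hb, ?_⟩
    have hc : Commute a b := hab a ha b hb
    rw [hc.mul_pow, hap, hbp, one_mul]
  one_mem' := ⟨N.one_mem, one_pow _⟩
  inv_mem' := by
    rintro a ⟨ha, hap⟩
    exact ⟨N.inv_mem ha, by rw [inv_pow, hap, inv_one]⟩

theorem mem_omega {N : Subgroup G} {hab : ∀ x ∈ N, ∀ y ∈ N, x * y = y * x} {p : ℕ} {x : G} :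
    x ∈ omega N hab p ↔ x ∈ N ∧ x ^ p = 1 := Iff.rfl

theorem omega_normal (N : Subgroup G) [hN : N.Normal] (hab : ∀ x ∈ N, ∀ y ∈ N, x * y = y * x)
    (p : ℕ) : (omega N hab p).Normal := by
  constructor
  intro n hn g
  rw [mem_omega] at hn ⊢
  refine ⟨hN.conj_mem n hn.1 g, ?_⟩
  rw [conj_pow, hn.2, mul_one, mul_inv_cancel]

/-- the commutator subgroup has prime exponent. -/
theorem exists_prime_exponent [Finite G]
    (hne : commutator G ≠ ⊥)
    (hab : ∀ x ∈ commutator G, ∀ y ∈ commutator G, x * y = y * x)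
    (hq : ∀ M : Subgroup G, M.Normal → M ≠ ⊥ → commutator G ≤ M) :
    ∃ p : ℕ, p.Prime ∧ ∀ x ∈ commutator G, x ^ p = 1 := by
  have hcard : Nat.card (commutator G) ≠ 1 := by
    intro h
    exact hne ((Subgroup.card_eq_one).1 h)
  obtain ⟨p, hp, hpd⟩ := Nat.exists_prime_and_dvd hcard
  refine ⟨p, hp, ?_⟩
  haveI : Fact p.Prime := ⟨hp⟩
  obtain ⟨x, hx⟩ := exists_prime_orderOf_dvd_card' p hpd
  have hOn : (omega (commutator G) hab p).Normal := omega_normal _ hab p
  have hOne : omega (commutator G) hab p ≠ ⊥ := by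
    intro h
    have hx1 : (x : G) ∈ omega (commutator G) hab p := by
      refine ⟨x.2, ?_⟩
      rw [← Subgroup.coe_pow, ← hx, pow_orderOf_eq_one]
      rfl
    rw [h, Subgroup.mem_bot] at hx1
    have hx2 : x = 1 := Subtype.ext hx1
    rw [hx2, orderOf_one] at hx
    exact hp.one_lt.ne hx
  intro y hy
  exact (hq _ hOn hOne hy).2

/-- **Isaacs 12.3, group part** for a group all of whose nontrivial normal subgroups contain
the (nontrivial) commutator subgroup. -/
theorem dichotomy_strong [Finite G] [Group.IsSolvable G]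
    (hne : commutator G ≠ ⊥)
    (hq : ∀ M : Subgroup G, M.Normal → M ≠ ⊥ → commutator G ≤ M) :
    ∃ p : ℕ, p.Prime ∧ (∀ x ∈ commutator G, x ^ p = 1) ∧
      (∀ x ∈ commutator G, ∀ y ∈ commutator G, x * y = y * x) ∧
      commutator G ≠ ⊤ ∧
      (IsPGroup p G ∨
        ((Nat.card (commutator G)).Coprime (commutator G).index ∧
          ∀ x : G, x ∉ commutator G → ∀ n ∈ commutator G, x * n = n * x → n = 1)) := by
  classical
  have hNn : (commutator G).Normal := inferInstance
  have hcc := comm_comm_eq_bot hq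
  have hab : ∀ x ∈ commutator G, ∀ y ∈ commutator G, x * y = y * x := by
    intro x hx y hy
    have h1 : ⁅x, y⁆ ∈ ⁅commutator G, commutator G⁆ := Subgroup.commutator_mem_commutator hx hy
    rw [hcc, Subgroup.mem_bot, commutatorElement_eq_one_iff_mul_comm] at h1
    exact h1
  obtain ⟨p, hp, hNp⟩ := exists_prime_exponent hne hab hq
  haveI : Fact p.Prime := ⟨hp⟩
  have hntop : commutator G ≠ ⊤ := by
    haveI : Nontrivial G := by
      by_contra hnt
      rw [not_nontrivial_iff_subsingleton] at hnt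
      exact hne (Subsingleton.elim _ _)
    exact (Group.IsSolvable.commutator_lt_top_of_nontrivial G).ne
  refine ⟨p, hp, hNp, hab, hntop, ?_⟩
  by_cases hG : IsPGroup p G
  · exact Or.inl hG
  right
  have hNpg : IsPGroup p (commutator G) := by
    intro x
    refine ⟨1, ?_⟩
    rw [pow_one]
    exact Subtype.ext (by rw [Subgroup.coe_pow]; exact hNp x x.2)
  obtain ⟨q, hqp, hqne, hqd⟩ : ∃ q : ℕ, q.Prime ∧ q ≠ p ∧ q ∣ Nat.card G := by
    by_contra hcon
    push Not at hcon
    apply hG
    rw [IsPGroup.iff_card]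
    refine ⟨_, Nat.eq_prime_pow_of_unique_prime_dvd Nat.card_pos.ne' ?_⟩
    intro d hd hdd
    by_contra hdp
    exact hcon d hd hdp hdd
  haveI : Fact q.Prime := ⟨hqp⟩
  obtain ⟨Q⟩ : Nonempty (Sylow q G) := inferInstance
  have hQne : (Q : Subgroup G) ≠ ⊥ := Q.ne_bot_of_dvd_card hqd
  have hQN : Disjoint (Q : Subgroup G) (commutator G) :=
    IsPGroup.disjoint_of_ne q p hqne _ _ Q.2 hNpg
  haveI hQNn : ((Q : Subgroup G) ⊔ commutator G).Normal :=
    Subgroup.Normal.of_commutator_le G le_sup_right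
  set L : Subgroup G := Subgroup.normalizer ((Q : Subgroup G) : Set G) with hL
  have hfr : L ⊔ ((Q : Subgroup G) ⊔ commutator G) = ⊤ :=
    Sylow.normalizer_sup_eq_top' (N := (Q : Subgroup G) ⊔ commutator G) Q le_sup_left
  have hQL : (Q : Subgroup G) ≤ L := Subgroup.le_normalizer
  have hLN : L ⊔ commutator G = ⊤ := by
    rw [← hfr, ← sup_assoc, sup_eq_left.2 hQL]
  -- every element is `l * n`
  have hdec : ∀ g : G, ∃ l ∈ L, ∃ n ∈ commutator G, l * n = g := by
    intro g
    have : g ∈ L ⊔ commutator G := by rw [hLN]; exact Subgroup.mem_top g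
    exact Subgroup.mem_sup_of_normal_right.1 this
  -- `N ⊓ L = ⊥`
  have hNL : commutator G ⊓ L = ⊥ := by
    by_contra hne2
    have hnorm : (commutator G ⊓ L).Normal := by
      constructor
      intro x hx g
      obtain ⟨l, hl, n, hn, rfl⟩ := hdec g
      have hx1 := (Subgroup.mem_inf.1 hx).1
      have hx2 := (Subgroup.mem_inf.1 hx).2
      have e : l * n * x * (l * n)⁻¹ = l * x * l⁻¹ := by
        have := hab n hn x hx1
        rw [mul_inv_rev, mul_assoc l n x, this]
        group
      rw [e]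
      exact Subgroup.mem_inf.2 ⟨hNn.conj_mem x hx1 l,
        L.mul_mem (L.mul_mem hl hx2) (L.inv_mem hl)⟩
    have hle : commutator G ≤ L := (hq _ hnorm hne2).trans inf_le_right
    have hLtop : L = ⊤ := by rw [← hLN, sup_eq_left.2 hle]
    have hQn : (Q : Subgroup G).Normal := Subgroup.normalizer_eq_top_iff.1 hLtop
    have := hq _ hQn hQne
    have h2 : commutator G ≤ (Q : Subgroup G) ⊓ commutator G := le_inf this le_rfl
    rw [hQN.eq_bot, le_bot_iff] at h2
    exact hne h2
  -- `L` abelian
  have hLab : ∀ a ∈ L, ∀ b ∈ L, a * b = b * a := by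
    intro a ha b hb
    have h1 : ⁅a, b⁆ ∈ commutator G ⊓ L := by
      refine Subgroup.mem_inf.2 ⟨?_, ?_⟩
      · rw [commutator_def]
        exact Subgroup.commutator_mem_commutator (Subgroup.mem_top a) (Subgroup.mem_top b)
      · rw [commutatorElement_def]
        exact L.mul_mem (L.mul_mem (L.mul_mem ha hb) (L.inv_mem ha)) (L.inv_mem hb)
    rw [hNL, Subgroup.mem_bot, commutatorElement_eq_one_iff_mul_comm] at h1
    exact h1
  -- fixed-point-freeness
  have hfpf : ∀ l ∈ L, l ≠ 1 → commutator G ⊓ Subgroup.centralizer {l} = ⊥ := by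
    intro l hl hl1
    by_contra hne2
    have hnorm : (commutator G ⊓ Subgroup.centralizer {l}).Normal := by
      constructor
      intro x hx g
      obtain ⟨a, ha, n, hn, rfl⟩ := hdec g
      have hx1 := (Subgroup.mem_inf.1 hx).1
      have hx2 : l * x = x * l := by
        have := (Subgroup.mem_inf.1 hx).2
        rw [Subgroup.mem_centralizer_iff] at this
        exact this l rfl
      have e : a * n * x * (a * n)⁻¹ = a * x * a⁻¹ := by
        have := hab n hn x hx1
        rw [mul_inv_rev, mul_assoc a n x, this]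
        group
      rw [e]
      refine Subgroup.mem_inf.2 ⟨hNn.conj_mem x hx1 a, ?_⟩
      rw [Subgroup.mem_centralizer_iff]
      intro h hh
      rw [Set.mem_singleton_iff] at hh
      subst hh
      have hla := hLab h hl a ha
      calc h * (a * x * a⁻¹) = (h * a) * x * a⁻¹ := by group
        _ = a * (h * x) * a⁻¹ := by rw [hla]; group
        _ = a * x * (h * a⁻¹) := by rw [hx2]; group
        _ = a * x * (a⁻¹ * h) := by
            have : h * a⁻¹ = a⁻¹ * h := by
              rw [eq_inv_mul_iff_mul_eq, ← mul_assoc, ← hla, mul_assoc, mul_inv_cancel, mul_one]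
            rw [this]
        _ = a * x * a⁻¹ * h := by group
    have hle : commutator G ≤ Subgroup.centralizer {l} := (hq _ hnorm hne2).trans inf_le_right
    -- `l` is central
    have hlc : l ∈ Subgroup.center G := by
      rw [Subgroup.mem_center_iff]
      intro g
      obtain ⟨a, ha, n, hn, rfl⟩ := hdec g
      have h1 : l * n = n * l := by
        have := hle hn
        rw [Subgroup.mem_centralizer_iff] at this
        exact this l rfl
      have h2 := hLab l hl a ha
      calc a * n * l = a * (n * l) := by group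
        _ = a * (l * n) := by rw [h1]
        _ = (a * l) * n := by group
        _ = (l * a) * n := by rw [h2]
        _ = l * (a * n) := by group
    have hzn : (Subgroup.zpowers l).Normal := by
      constructor
      intro x hx g
      have hxc : x ∈ Subgroup.center G := (Subgroup.zpowers_le.2 hlc) hx
      rw [Subgroup.mem_center_iff] at hxc
      rw [hxc g, mul_inv_cancel_right]
      exact hx
    have hzne : Subgroup.zpowers l ≠ ⊥ := by
      rw [Ne, Subgroup.zpowers_eq_bot]
      exact hl1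
    have hle2 : commutator G ≤ L := (hq _ hzn hzne).trans (Subgroup.zpowers_le.2 hl)
    have h3 : commutator G ≤ commutator G ⊓ L := le_inf le_rfl hle2
    rw [hNL, le_bot_iff] at h3
    exact hne h3
  -- complement
  have hcompl : Subgroup.IsComplement' L (commutator G) := by
    apply Subgroup.isComplement'_of_disjoint_and_mul_eq_univ
    · rw [disjoint_iff, inf_comm]
      exact hNL
    · rw [Set.eq_univ_iff_forall]
      intro g
      obtain ⟨a, ha, n, hn, rfl⟩ := hdec g
      exact Set.mul_mem_mul ha hn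
  have hidx : (commutator G).index = Nat.card L := hcompl.index_eq_card
  have hLnorm : L ≤ Subgroup.normalizer ((commutator G : Subgroup G) : Set G) := by
    rw [Subgroup.normalizer_eq_top]
    exact le_top
  have hF := Cfsg.Agent.Helper1.conjHom_isFPF L (commutator G) hLnorm hfpf
  refine ⟨?_, ?_⟩
  · -- coprime
    rw [hidx]
    apply Nat.coprime_of_dvd
    intro r hr hrN hrL
    haveI : Fact r.Prime := ⟨hr⟩
    obtain ⟨l, hl⟩ := exists_prime_orderOf_dvd_card' r hrL
    have := hF.coprime_card l hl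
    exact (Nat.Prime.coprime_iff_not_dvd hr).1 this.symm hrN
  · -- fpf
    intro x hx n hn hxn
    obtain ⟨a, ha, m, hm, rfl⟩ := hdec x
    have ha1 : a ≠ 1 := by
      rintro rfl
      rw [one_mul] at hx
      exact hx hm
    have hmn := hab m hm n hn
    have han : a * n = n * a := by
      have h1 : a * (m * n) = n * a * m := by rw [← mul_assoc]; rw [hxn]; group
      rw [hmn] at h1
      have h2 : a * n * m = n * a * m := by rw [← h1]; group
      exact mul_right_cancel h2
    have hmem : n ∈ commutator G ⊓ Subgroup.centralizer {a} := by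
      refine Subgroup.mem_inf.2 ⟨hn, ?_⟩
      rw [Subgroup.mem_centralizer_iff]
      intro h hh
      rw [Set.mem_singleton_iff] at hh
      subst hh
      exact han
    rw [hfpf a ha ha1, Subgroup.mem_bot] at hmem
    exact hmem

/-- **Isaacs 12.3, group part**, in the weaker form without the prime. -/
theorem dichotomy [Finite G] [Group.IsSolvable G]
    (hne : commutator G ≠ ⊥)
    (hq : ∀ M : Subgroup G, M.Normal → M ≠ ⊥ → commutator G ≤ M) :
    (∃ p : ℕ, p.Prime ∧ IsPGroup p G) ∨
    ((∀ x ∈ commutator G, ∀ y ∈ commutator G, x * y = y * x) ∧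
     commutator G ≠ ⊤ ∧
     (Nat.card (commutator G)).Coprime (commutator G).index ∧
     ∀ x : G, x ∉ commutator G → ∀ n ∈ commutator G, x * n = n * x → n = 1) := by
  obtain ⟨p, hp, -, hab, hntop, h | ⟨h1, h2⟩⟩ := dichotomy_strong hne hq
  · exact Or.inl ⟨p, hp, h⟩
  · exact Or.inr ⟨hab, hntop, h1, h2⟩

end Cfsg.Agent.Helper1.Isaacs123

namespace Cfsg.Agent.Helper1

/-- **Isaacs, Lemma 12.3** (group part), strong form exposing the prime `p`: `K G' / K` is an
elementary abelian `p`-group, proper in `G ⧸ K`; and `G ⧸ K` is a `p`-group or is Frobenius-like. -/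
theorem isaacs_twelve_three_strong {G : Type*} [Group G] [Finite G] (K : Subgroup G) [K.Normal]
    (hsolv : Group.IsSolvable (G ⧸ K))
    (hna : ¬ commutator G ≤ K)
    (hmax : ∀ M : Subgroup G, M.Normal → K < M → commutator G ≤ M) :
    ∃ p : ℕ, p.Prime ∧ (∀ y ∈ K ⊔ commutator G, y ^ p ∈ K) ∧
      (∀ a ∈ K ⊔ commutator G, ∀ b ∈ K ⊔ commutator G, a * b * a⁻¹ * b⁻¹ ∈ K) ∧
      K ⊔ commutator G ≠ ⊤ ∧
      (IsPGroup p (G ⧸ K) ∨
        ((K.relIndex (K ⊔ commutator G)).Coprime (K ⊔ commutator G).index ∧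
          ∀ x : G, x ∉ K ⊔ commutator G → ∀ y ∈ K ⊔ commutator G,
            x * y * x⁻¹ * y⁻¹ ∈ K → y ∈ K)) := by
  classical
  set π := QuotientGroup.mk' K with hπ
  have hπs : Function.Surjective π := QuotientGroup.mk'_surjective K
  have hker : π.ker = K := QuotientGroup.ker_mk' K
  have hone : ∀ x : G, π x = 1 ↔ x ∈ K := fun x => by rw [← MonoidHom.mem_ker, hker]
  have hcomm : commutator (G ⧸ K) = (commutator G).map π := by
    rw [commutator_def, commutator_def, Subgroup.map_commutator,
      Subgroup.map_top_of_surjective π hπs]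
  have hcomap : (commutator (G ⧸ K)).comap π = K ⊔ commutator G := by
    rw [hcomm, Subgroup.comap_map_eq, hker, sup_comm]
  have hmem : ∀ x : G, x ∈ K ⊔ commutator G ↔ π x ∈ commutator (G ⧸ K) := by
    intro x
    rw [← hcomap]
    exact Subgroup.mem_comap
  have hne : commutator (G ⧸ K) ≠ ⊥ := by
    intro h
    apply hna
    intro x hx
    have h1 : π x ∈ commutator (G ⧸ K) := by
      rw [hcomm]
      exact Subgroup.mem_map_of_mem π hx
    rw [h, Subgroup.mem_bot] at h1
    exact (hone x).1 h1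
  have hq : ∀ M : Subgroup (G ⧸ K), M.Normal → M ≠ ⊥ → commutator (G ⧸ K) ≤ M := by
    intro M hM hMne
    have h1 : (M.comap π).Normal := hM.comap π
    have h2 : K < M.comap π := by
      rw [lt_iff_le_and_ne]
      constructor
      · intro x hx
        rw [Subgroup.mem_comap, (hone x).2 hx]
        exact M.one_mem
      · intro h
        apply hMne
        rw [← Subgroup.map_comap_eq_self_of_surjective hπs M, ← h, Subgroup.map_eq_bot_iff, hker]
    have h3 := hmax _ h1 h2
    rw [hcomm]
    exact Subgroup.map_le_iff_le_comap.2 h3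
  obtain ⟨p, hp, hexp, hab, hntop, hdich⟩ := Isaacs123.dichotomy_strong hne hq
  refine ⟨p, hp, ?_, ?_, ?_, ?_⟩
  · intro y hy
    have h1 := hexp (π y) ((hmem y).1 hy)
    rw [← map_pow, hone] at h1
    exact h1
  · intro a ha b hb
    have h1 := hab (π a) ((hmem a).1 ha) (π b) ((hmem b).1 hb)
    rw [← hone, map_mul, map_mul, map_mul, map_inv, map_inv, h1]
    group
  · intro htop
    apply hntop
    rw [eq_top_iff]
    intro y _
    obtain ⟨x, rfl⟩ := hπs y
    exact (hmem x).1 (by rw [htop]; exact Subgroup.mem_top x)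
  rcases hdich with hpg | ⟨hcop, hfpf⟩
  · exact Or.inl hpg
  right
  refine ⟨?_, ?_⟩
  · have h1 : (K ⊔ commutator G).index = (commutator (G ⧸ K)).index := by
      rw [← hcomap, Subgroup.index_comap_of_surjective _ hπs]
    have h2 : K.relIndex (K ⊔ commutator G) = Nat.card (commutator (G ⧸ K)) := by
      have h3 : (⊥ : Subgroup (G ⧸ K)).comap π = K := by rw [MonoidHom.comap_bot, hker]
      have h4 : ((⊥ : Subgroup (G ⧸ K)).comap π).relIndex ((commutator (G ⧸ K)).comap π) =
          Nat.card (commutator (G ⧸ K)) := by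
        rw [Subgroup.relIndex_comap, Subgroup.map_comap_eq_self_of_surjective hπs,
          Subgroup.relIndex_bot_left]
      rw [h3, hcomap] at h4
      exact h4
    rw [h1, h2]
    exact hcop
  · intro x hx y hy hxy
    have h1 : π x ∉ commutator (G ⧸ K) := fun h => hx ((hmem x).2 h)
    have h2 : π y ∈ commutator (G ⧸ K) := (hmem y).1 hy
    have h3 : π x * π y = π y * π x := by
      have := (hone _).2 hxy
      rw [map_mul, map_mul, map_mul, map_inv, map_inv] at this
      calc π x * π y = (π x * π y * (π x)⁻¹ * (π y)⁻¹) * (π y * π x) := by group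
        _ = π y * π x := by rw [this, one_mul]
    exact (hone y).1 (hfpf (π x) h1 (π y) h2 h3)

/-- **Isaacs, Lemma 12.3** (group part), in the form requested for S4460: `K ⊴ G` with `G ⧸ K`
solvable nonabelian and all larger normal subgroups containing `G'`. Then `G ⧸ K` is a `p`-group, or
`K G' / K` is abelian, proper, of order coprime to its index, and every element outside `K G'` acts
fixed-point-freely on `K G' / K`. -/
theorem isaacs_twelve_three {G : Type*} [Group G] [Finite G] (K : Subgroup G) [K.Normal]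
    (hsolv : Group.IsSolvable (G ⧸ K))
    (hna : ¬ commutator G ≤ K)
    (hmax : ∀ M : Subgroup G, M.Normal → K < M → commutator G ≤ M) :
    (∃ p : ℕ, p.Prime ∧ IsPGroup p (G ⧸ K)) ∨
    ((∀ a ∈ K ⊔ commutator G, ∀ b ∈ K ⊔ commutator G, a * b * a⁻¹ * b⁻¹ ∈ K) ∧
      K ⊔ commutator G ≠ ⊤ ∧
      (K.relIndex (K ⊔ commutator G)).Coprime (K ⊔ commutator G).index ∧
      ∀ x : G, x ∉ K ⊔ commutator G → ∀ y ∈ K ⊔ commutator G, x * y * x⁻¹ * y⁻¹ ∈ K → y ∈ K) := by
  obtain ⟨p, hp, -, hab, hntop, h | ⟨h1, h2⟩⟩ := isaacs_twelve_three_strong K hsolv hna hmax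
  · exact Or.inl ⟨p, hp, h⟩
  · exact Or.inr ⟨hab, hntop, h1, h2⟩

/-- if `y ^ p ∈ K` for all `y ∈ L` then `|L : L ∩ K|` is a power of `p`. -/
theorem relIndex_eq_prime_pow_of_exponent {G : Type*} [Group G] [Finite G] (K L : Subgroup G)
    [K.Normal] {p : ℕ} (hp : p.Prime) (hexp : ∀ y ∈ L, y ^ p ∈ K) :
    ∃ j : ℕ, K.relIndex L = p ^ j := by
  haveI : Fact p.Prime := ⟨hp⟩
  have h1 : IsPGroup p (L ⧸ K.subgroupOf L) := by
    intro x
    obtain ⟨y, rfl⟩ := QuotientGroup.mk_surjective x
    refine ⟨1, ?_⟩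
    rw [pow_one, ← QuotientGroup.mk_pow, QuotientGroup.eq_one_iff, Subgroup.mem_subgroupOf,
      Subgroup.coe_pow]
    exact hexp y y.2
  exact IsPGroup.iff_card.1 h1

/-- **Isaacs, Lemma 12.3** (group part), fullest form: additionally `|K G' : K| = p ^ j` with
`0 < j`, `|G : K| = p ^ k` in the `p`-group case and `p ∤ |G : K G'|` in the Frobenius case. -/
theorem isaacs_twelve_three_full {G : Type*} [Group G] [Finite G] (K : Subgroup G) [K.Normal]
    (hsolv : Group.IsSolvable (G ⧸ K))
    (hna : ¬ commutator G ≤ K)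
    (hmax : ∀ M : Subgroup G, M.Normal → K < M → commutator G ≤ M) :
    ∃ p j : ℕ, p.Prime ∧ 0 < j ∧ K.relIndex (K ⊔ commutator G) = p ^ j ∧
      (∀ y ∈ K ⊔ commutator G, y ^ p ∈ K) ∧
      (∀ a ∈ K ⊔ commutator G, ∀ b ∈ K ⊔ commutator G, a * b * a⁻¹ * b⁻¹ ∈ K) ∧
      K ⊔ commutator G ≠ ⊤ ∧
      ((IsPGroup p (G ⧸ K) ∧ ∃ k : ℕ, K.index = p ^ k) ∨
        ((K ⊔ commutator G).index.Coprime p ∧
          (K.relIndex (K ⊔ commutator G)).Coprime (K ⊔ commutator G).index ∧
          ∀ x : G, x ∉ K ⊔ commutator G → ∀ y ∈ K ⊔ commutator G,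
            x * y * x⁻¹ * y⁻¹ ∈ K → y ∈ K)) := by
  obtain ⟨p, hp, hexp, hab, hntop, hd⟩ := isaacs_twelve_three_strong K hsolv hna hmax
  haveI : Fact p.Prime := ⟨hp⟩
  obtain ⟨j, hj⟩ := relIndex_eq_prime_pow_of_exponent K (K ⊔ commutator G) hp hexp
  have hj0 : 0 < j := by
    rcases Nat.eq_zero_or_pos j with h0 | h0
    · exfalso
      rw [h0, pow_zero, Subgroup.relIndex_eq_one] at hj
      exact hna (le_sup_right.trans hj)
    · exact h0
  refine ⟨p, j, hp, hj0, hj, hexp, hab, hntop, ?_⟩
  rcases hd with hpg | ⟨hcop, hfpf⟩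
  · left
    refine ⟨hpg, ?_⟩
    obtain ⟨k, hk⟩ := IsPGroup.iff_card.1 hpg
    exact ⟨k, hk⟩
  · right
    refine ⟨?_, hcop, hfpf⟩
    rw [hj] at hcop
    exact ((Nat.coprime_pow_left_iff hj0 _ _).1 hcop).symm

/-- existence of a normal subgroup `K` maximal with `G ⧸ K` nonabelian (for a nonabelian finite
group `G`), as needed to apply `isaacs_twelve_three`. More generally above any given normal `K₀`
with nonabelian quotient. -/
theorem exists_max_nonabelian_quotient {G : Type*} [Group G] [Finite G] (K₀ : Subgroup G)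
    (hK₀ : K₀.Normal) (hna : ¬ commutator G ≤ K₀) :
    ∃ K : Subgroup G, K.Normal ∧ K₀ ≤ K ∧ ¬ commutator G ≤ K ∧
      ∀ M : Subgroup G, M.Normal → K < M → commutator G ≤ M := by
  classical
  have hfin : {K : Subgroup G | K.Normal ∧ ¬ commutator G ≤ K}.Finite := Set.toFinite _
  obtain ⟨K, hK₀K, hK⟩ := hfin.exists_le_maximal (a := K₀) ⟨hK₀, hna⟩
  refine ⟨K, hK.1.1, hK₀K, hK.1.2, ?_⟩
  intro M hM hKM
  by_contra hcon
  exact absurd (hK.2 (show M ∈ {K : Subgroup G | K.Normal ∧ ¬ commutator G ≤ K} from ⟨hM, hcon⟩)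
    hKM.le) (not_le_of_gt hKM)

end Cfsg.Agent.Helper1
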