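import Mathlib
import Cfsg.Prelude.Def_JComponents
import Cfsg.Agent.Helper1.Subnormal
import Cfsg.Agent.Helper1.FFact1
import Cfsg.Agent.Helper2.CommNorm
import Cfsg.Agent.Helper5.Cores
import Cfsg.Agent.Helper4.ThreeSubgroups

set_option autoImplicit false

/-!
General lemmas for the structure theory of the groups `L` in `jOvergroups T` (KS ch. 12).
-/

namespace Cfsg.Agent.Helper1.JLS

open scoped Pointwise commutatorElement

universe u

variable {X : Type u} [Group X]

/-- If `D ⊴ X` normalizes `T ∩ D` for a Sylow `p`-subgroup `T`, then `T ∩ D ≤ O_p(X)`. -/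
theorem inf_le_pCore_of_normalizes [Finite X] {p : ℕ} [Fact p.Prime] (T : Sylow p X)
    (D : Subgroup X) [hD : D.Normal]
    (h : D ≤ Subgroup.normalizer (((T : Subgroup X) ⊓ D : Subgroup X) : Set X)) :
    (T : Subgroup X) ⊓ D ≤ Cfsg.pCore p X := by
  obtain ⟨Q, hQ⟩ := sylow_inf_subnormal p D (Subgroup.Normal.isSubnormal hD) T
  have hQn : (Q : Subgroup ↥D).Normal := by
    rw [hQ]
    constructor
    intro n hn g
    rw [Subgroup.mem_subgroupOf] at hn ⊢
    have h1 := (Subgroup.mem_normalizer_iff.1 (h g.2) (n : X)).1 ⟨hn, n.2⟩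
    exact h1.1
  haveI : (Q : Subgroup ↥D).Characteristic := Sylow.characteristic_of_normal Q hQn
  have hn : ((Q : Subgroup ↥D).map D.subtype).Normal :=
    ConjAct.normal_of_characteristic_of_normal
  have hmap : (Q : Subgroup ↥D).map D.subtype = (T : Subgroup X) ⊓ D := by
    rw [hQ, Subgroup.subgroupOf_map_subtype]
  rw [hmap] at hn
  exact Cfsg.Agent.Helper5.le_pCore hn (T.2.to_le inf_le_left)

/-- The abstract form of S2941. -/
theorem le_normalizer_of_gen_odd {K J Q : Subgroup X}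
    (hgen : Subgroup.closure {g : X | g ∈ K ∧ Odd (orderOf g)} = K) (hKJ : ⁅K, J⁆ = K)
    (hJ2 : IsPGroup 2 ↥J)
    (hQ1 : K ⊔ J ≤ Subgroup.normalizer (Q : Set X)) (hQ2 : Q ≤ Subgroup.normalizer (J : Set X)) :
    Q ≤ Subgroup.normalizer (K : Set X) := by
  have hJK : J ≤ Subgroup.normalizer (K : Set X) := by
    have := Cfsg.Agent.Helper2.le_normalizer_commutator_right K J
    rwa [hKJ] at this
  have hKQ : K ≤ Subgroup.normalizer (Q : Set X) := le_sup_left.trans hQ1
  have hJQ : J ≤ Subgroup.normalizer (Q : Set X) := le_sup_right.trans hQ1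
  have hstep : ∀ q ∈ Q, ∀ x ∈ K, q * x * q⁻¹ ∈ K ⊔ J := by
    intro q hq
    have hle : ⁅K, J⁆ ≤ Subgroup.comap (MulAut.conj q).toMonoidHom (K ⊔ J) := by
      rw [Subgroup.commutator_le]
      intro k hk j hj
      rw [Subgroup.mem_comap]
      change q * ⁅k, j⁆ * q⁻¹ ∈ K ⊔ J
      have hq'' : k⁻¹ * q * k ∈ Q := by
        have := Cfsg.Agent.Helper2.conj_mem_of_le_normalizer hKQ _ (K.inv_mem hk) _ hq
        simpa using this
      have hj' : (k⁻¹ * q * k) * j * (k⁻¹ * q * k)⁻¹ ∈ J :=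
        Cfsg.Agent.Helper2.conj_mem_of_le_normalizer hQ2 _ hq'' _ hj
      have hj2 : q * j⁻¹ * q⁻¹ ∈ J :=
        Cfsg.Agent.Helper2.conj_mem_of_le_normalizer hQ2 _ hq _ (J.inv_mem hj)
      have h1 : q * ⁅k, j⁆ * q⁻¹ =
          (k * ((k⁻¹ * q * k) * j * (k⁻¹ * q * k)⁻¹) * k⁻¹) * (q * j⁻¹ * q⁻¹) := by
        simp only [commutatorElement_def]; group
      rw [h1]
      have hkM : k ∈ K ⊔ J := le_sup_left (a := K) hk
      exact (K ⊔ J).mul_mem ((K ⊔ J).mul_mem ((K ⊔ J).mul_mem hkM (le_sup_right (a := K) hj'))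
        ((K ⊔ J).inv_mem hkM)) (le_sup_right (a := K) hj2)
    intro x hx
    rw [← hKJ] at hx
    exact hle hx
  apply Cfsg.Agent.Helper2.le_normalizer_of_conj_mem
  intro q hq
  have hle : K ≤ Subgroup.comap (MulAut.conj q).toMonoidHom K := by
    conv_lhs => rw [← hgen]
    rw [Subgroup.closure_le]
    rintro g ⟨hgK, hgodd⟩
    change q * g * q⁻¹ ∈ K
    apply Cfsg.Agent.Helper2.mem_of_coprime_orderOf_of_mem_sup (p := 2) hJ2 hJK (hstep q hq g hgK)
    have h1 : orderOf (q * g * q⁻¹) = orderOf g := by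
      have := orderOf_injective (MulAut.conj q).toMonoidHom (MulAut.conj q).injective g
      simpa using this
    rw [h1]
    exact Nat.Coprime.symm (Nat.coprime_two_left.mpr hgodd)
  intro x hx
  exact hle hx

/-- Two subgroups generated by their elements of odd order, normalized by the same `2`-group `Q`
and having the same product with `Q`, coincide. -/
theorem eq_of_sup_eq_of_gen_odd {K K' Q : Subgroup X}
    (hgen : Subgroup.closure {g : X | g ∈ K ∧ Odd (orderOf g)} = K)
    (hgen' : Subgroup.closure {g : X | g ∈ K' ∧ Odd (orderOf g)} = K')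
    (hQ2 : IsPGroup 2 ↥Q) (hQK : Q ≤ Subgroup.normalizer (K : Set X))
    (hQK' : Q ≤ Subgroup.normalizer (K' : Set X)) (h : K ⊔ Q = K' ⊔ Q) : K = K' := by
  have key : ∀ {K₁ K₂ : Subgroup X},
      Subgroup.closure {g : X | g ∈ K₁ ∧ Odd (orderOf g)} = K₁ →
      Q ≤ Subgroup.normalizer (K₂ : Set X) → K₁ ⊔ Q = K₂ ⊔ Q → K₁ ≤ K₂ := by
    intro K₁ K₂ h1 h2 h3
    conv_lhs => rw [← h1]
    rw [Subgroup.closure_le]
    rintro g ⟨hg, hodd⟩
    apply Cfsg.Agent.Helper2.mem_of_coprime_orderOf_of_mem_sup (p := 2) hQ2 h2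
    · rw [← h3]; exact Subgroup.mem_sup_left hg
    · exact Nat.Coprime.symm (Nat.coprime_two_left.mpr hodd)
  exact le_antisymm (key hgen hQK' h) (key hgen' hQK h.symm)

/-- A `2`-subgroup of a group generated by its odd-order elements and having a normal `2`-subgroup
`R` of odd prime index is contained in... (helper): a `2`-group generated by its elements of odd
order is trivial. -/
theorem eq_bot_of_gen_odd_of_isPGroup {K : Subgroup X}
    (hgen : Subgroup.closure {g : X | g ∈ K ∧ Odd (orderOf g)} = K) (hK2 : IsPGroup 2 ↥K) :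
    K = ⊥ := by
  rw [← hgen, Subgroup.closure_eq_bot_iff]
  rintro g ⟨hg, hodd⟩
  obtain ⟨k, hk⟩ := hK2 ⟨g, hg⟩
  have h1 : g ^ 2 ^ k = 1 := congrArg Subtype.val hk
  have h2 : orderOf g ∣ 2 ^ k := orderOf_dvd_of_pow_eq_one h1
  have h3 : orderOf g = 1 := by
    have hc : (orderOf g).Coprime (2 ^ k) :=
      Nat.Coprime.pow_right k (Nat.Coprime.symm (Nat.coprime_two_left.mpr hodd))
    exact Nat.eq_one_of_dvd_coprimes hc (dvd_refl _) h2
  exact orderOf_eq_one_iff.1 h3

end Cfsg.Agent.Helper1.JLS
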