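import Mathlib
import Cfsg.Prelude.Def_JComponents
import Cfsg.Agent.Helper1.JLSA
import Cfsg.Agent.Helper1.Fitting
import Cfsg.Agent.Lead.SylowLemmas

set_option autoImplicit false

/-!
The abstract set-up for the structure theory of `L ∈ jOvergroups T`: a finite group `X` with Sylow
`2`-subgroup `T`, `C_X(O₂(X)) ≤ O₂(X)`, `V = Ω₁(Z(O₂(X)))` and `C_X(V) ≤ N_X(T)`.
-/

namespace Cfsg.Agent.Helper1.JLS

open scoped Pointwise commutatorElement

universe u

variable (X : Type u) [Group X]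

/-- `V = Ω₁(Z(O₂(X)))`. -/
def VX : Subgroup X :=
  Cfsg.omegaOne 2 (Cfsg.pCore 2 X ⊓ Subgroup.centralizer (Cfsg.pCore 2 X : Set X))

theorem VX_le : VX X ≤ Cfsg.pCore 2 X ⊓ Subgroup.centralizer (Cfsg.pCore 2 X : Set X) := by
  unfold VX Cfsg.omegaOne
  rw [Subgroup.closure_le]
  intro x hx
  exact hx.1

theorem VX_le_pCore : VX X ≤ Cfsg.pCore 2 X := (VX_le X).trans inf_le_left

theorem pCore_le_centralizer_VX : Cfsg.pCore 2 X ≤ Subgroup.centralizer (VX X : Set X) := by
  rw [Subgroup.le_centralizer_iff]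
  exact (VX_le X).trans inf_le_right

instance VX_normal : (VX X).Normal := by
  constructor
  intro n hn g
  have key : VX X ≤ (VX X).comap (MulAut.conj g).toMonoidHom := by
    conv_lhs => unfold VX Cfsg.omegaOne
    rw [Subgroup.closure_le]
    rintro x ⟨⟨hxQ, hxC⟩, hx2⟩
    have hxQ : x ∈ Cfsg.pCore 2 X := hxQ
    have hxC : x ∈ Subgroup.centralizer (Cfsg.pCore 2 X : Set X) := hxC
    show g * x * g⁻¹ ∈ VX X
    unfold VX Cfsg.omegaOne
    apply Subgroup.subset_closure
    refine ⟨⟨(pCore_normal 2).conj_mem x hxQ g, ?_⟩, ?_⟩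
    · show g * x * g⁻¹ ∈ Subgroup.centralizer (Cfsg.pCore 2 X : Set X)
      rw [Subgroup.mem_centralizer_iff] at hxC ⊢
      intro q hq
      have h1 : g⁻¹ * q * g ∈ Cfsg.pCore 2 X := by
        have := (pCore_normal (G := X) 2).conj_mem q hq g⁻¹
        simpa using this
      have h2 := hxC _ h1
      have h3 : q * (g * x * g⁻¹) = g * ((g⁻¹ * q * g) * x) * g⁻¹ := by group
      rw [h3, h2]; group
    · rw [conj_pow, hx2]; simp
  exact key hn

theorem VX_isElementaryAbelian : Cfsg.IsElementaryAbelian 2 (VX X) := by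
  have hc : ∀ a ∈ VX X, ∀ b ∈ VX X, a * b = b * a := by
    intro a ha b hb
    exact (Subgroup.mem_centralizer_iff.1 ((VX_le X) hb).2 a ((VX_le X) ha).1)
  refine ⟨⟨⟨?_⟩⟩, ?_⟩
  · rintro ⟨a, ha⟩ ⟨b, hb⟩
    exact Subtype.ext (hc a ha b hb)
  · intro a ha
    unfold VX Cfsg.omegaOne at ha
    induction ha using Subgroup.closure_induction with
    | mem x hx => exact hx.2
    | one => simp
    | mul x y hx hy hx2 hy2 =>
      have hx' : x ∈ VX X := hx
      have hy' : y ∈ VX X := hy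
      have hcm : Commute x y := hc x hx' y hy'
      rw [hcm.mul_pow, hx2, hy2, one_mul]
    | inv x hx hx2 => rw [inv_pow, hx2, inv_one]

/-- every element of exponent `2` in `Z(O₂(X))` lies in `V`. -/
theorem mem_VX {x : X} (hxQ : x ∈ Cfsg.pCore 2 X)
    (hxC : x ∈ Subgroup.centralizer (Cfsg.pCore 2 X : Set X)) (hx2 : x ^ 2 = 1) : x ∈ VX X := by
  unfold VX Cfsg.omegaOne
  exact Subgroup.subset_closure ⟨⟨hxQ, hxC⟩, hx2⟩

/-- The standing hypotheses. -/
structure LSHyp {X : Type u} [Group X] (T : Subgroup X) : Prop where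
  hT2 : IsPGroup 2 ↥T
  hTsyl : ∃ S : Sylow 2 X, (S : Subgroup X) = T
  hsolv : Cfsg.IsPSolvable 2 X
  hCQ : Subgroup.centralizer (Cfsg.pCore 2 X : Set X) ≤ Cfsg.pCore 2 X
  hCN : Subgroup.centralizer (VX X : Set X) ≤ Subgroup.normalizer (T : Set X)

end Cfsg.Agent.Helper1.JLS

namespace Cfsg.Agent.Helper1.JLS

open scoped Pointwise commutatorElement

universe u

variable {X : Type u} [Group X]

namespace LSHyp

variable {T : Subgroup X}

theorem pCore_le_T (h : LSHyp T) : Cfsg.pCore 2 X ≤ T := by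
  obtain ⟨S, hS⟩ := h.hTsyl
  rw [← hS]
  exact Cfsg.Agent.Helper5.pCore_le_sylow S

theorem T_inf_C [Finite X] (h : LSHyp T) :
    T ⊓ Subgroup.centralizer (VX X : Set X) = Cfsg.pCore 2 X := by
  apply le_antisymm
  · obtain ⟨S, hS⟩ := h.hTsyl
    haveI : (Subgroup.centralizer (VX X : Set X)).Normal := Subgroup.normal_centralizer
    have := inf_le_pCore_of_normalizes (p := 2) S (Subgroup.centralizer (VX X : Set X)) (by
      rw [hS]
      exact FFact.le_normalizer_inf h.hCN Subgroup.le_normalizer)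
    rwa [hS] at this
  · exact le_inf h.pCore_le_T (pCore_le_centralizer_VX X)

theorem comm_C_T [Finite X] (h : LSHyp T) :
    ⁅Subgroup.centralizer (VX X : Set X), T⁆ ≤ Cfsg.pCore 2 X := by
  rw [← h.T_inf_C]
  haveI : (Subgroup.centralizer (VX X : Set X)).Normal := Subgroup.normal_centralizer
  refine le_inf ?_ (Subgroup.commutator_le_left _ _)
  rw [Subgroup.commutator_comm]
  exact Subgroup.le_normalizer_iff_commutator_le_left.1 h.hCN

/-- `2`-subgroups of `C_X(V)` lie in `O₂(X)`. -/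
theorem le_pCore_of_isPGroup [Finite X] (h : LSHyp T) {R : Subgroup X} (hR2 : IsPGroup 2 ↥R)
    (hRC : R ≤ Subgroup.centralizer (VX X : Set X)) : R ≤ Cfsg.pCore 2 X := by
  obtain ⟨S, hS⟩ := h.hTsyl
  obtain ⟨g, hg⟩ := Cfsg.Agent.Lead.exists_conj_le_sylow S R hR2
  haveI : (Subgroup.centralizer (VX X : Set X)).Normal := Subgroup.normal_centralizer
  intro r hr
  have h1 : g * r * g⁻¹ ∈ T ⊓ Subgroup.centralizer (VX X : Set X) := by
    refine ⟨?_, ?_⟩
    · rw [← hS]; exact hg ⟨r, hr, rfl⟩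
    · exact (inferInstance : (Subgroup.centralizer (VX X : Set X)).Normal).conj_mem r (hRC hr) g
  rw [h.T_inf_C] at h1
  have := (pCore_normal (G := X) 2).conj_mem _ h1 g⁻¹
  simpa [mul_assoc] using this

/-- `O₂(X / C_X(V)) = 1`, in subgroup form. -/
theorem hOp [Finite X] (h : LSHyp T) (D : Subgroup X) (hDn : D.Normal)
    (hCD : Subgroup.centralizer (VX X : Set X) ≤ D)
    (hk : ∃ k : ℕ, (Subgroup.centralizer (VX X : Set X)).relIndex D = 2 ^ k) :
    D = Subgroup.centralizer (VX X : Set X) := by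
  obtain ⟨k, hk⟩ := hk
  obtain ⟨S, hS⟩ := h.hTsyl
  set C := Subgroup.centralizer (VX X : Set X) with hC
  -- `D = C (T ∩ D)`
  have hsup : D ≤ C ⊔ (T ⊓ D) := by
    have hle : C ⊔ (T ⊓ D) ≤ D := sup_le hCD inf_le_right
    have h1 : (C ⊔ (T ⊓ D)).relIndex D ∣ 2 ^ k := by
      rw [← hk]
      exact Subgroup.relIndex_dvd_of_le_left D le_sup_left
    have h2 : (C ⊔ (T ⊓ D)).relIndex D ∣ (T ⊓ D).relIndex D :=
      Subgroup.relIndex_dvd_of_le_left D le_sup_right
    have h3 : ¬ 2 ∣ (T ⊓ D).relIndex D := by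
      have := sylow_relIndex_subnormal 2 S (Subgroup.Normal.isSubnormal hDn)
      rw [hS] at this
      rwa [Subgroup.inf_relIndex_right]
    have h4 : (C ⊔ (T ⊓ D)).relIndex D = 1 := by
      obtain ⟨j, -, hj⟩ := (Nat.dvd_prime_pow Nat.prime_two).1 h1
      rcases Nat.eq_zero_or_pos j with rfl | hjpos
      · simpa using hj
      · exfalso
        apply h3
        refine dvd_trans ?_ h2
        rw [hj]
        exact dvd_pow_self 2 hjpos.ne'
    exact Subgroup.relIndex_eq_one.1 h4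
  have hnorm : D ≤ Subgroup.normalizer (((T ⊓ D : Subgroup X)) : Set X) := by
    refine hsup.trans (sup_le ?_ Subgroup.le_normalizer)
    exact FFact.le_normalizer_inf h.hCN (hCD.trans (by
      haveI := hDn
      rw [Subgroup.normalizer_eq_top]; exact le_top))
  have hTD : T ⊓ D ≤ C := by
    haveI := hDn
    have := inf_le_pCore_of_normalizes (p := 2) S D (by rw [hS]; exact hnorm)
    rw [hS] at this
    exact this.trans (pCore_le_centralizer_VX X)
  exact le_antisymm (hsup.trans (sup_le le_rfl hTD)) hCD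

end LSHyp

end Cfsg.Agent.Helper1.JLS
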