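import Mathlib
import Cfsg.Prelude.Def_JComponents
import Cfsg.Agent.Helper1.JLSB
import Cfsg.Agent.Helper1.FFGlobal1
import Cfsg.Agent.Helper1.FFact14
import Cfsg.Agent.Helper1.ThompsonSub2

set_option autoImplicit false

/-!
The image of `J(X)` in the holomorph of `V = Ω₁(Z(O₂(X)))`: the failure of factorization
hypotheses and first structural consequences.
-/

namespace Cfsg.Agent.Helper1.JLS

open scoped Pointwise commutatorElement

open Cfsg.Agent.Helper1 Cfsg.Agent.Helper1.Hol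

universe u

variable {X : Type u} [Group X]

/-- A maximal elementary abelian subgroup inside a given Sylow subgroup. -/
theorem exists_maxEA_le_sylow [Finite X] {p : ℕ} [Fact p.Prime] (S : Sylow p X) :
    ∃ A0 : Subgroup X, A0 ∈ Cfsg.maxElementaryAbelianSubgroups p X ∧ A0 ≤ S := by
  obtain ⟨A, hA⟩ := maxElementaryAbelianSubgroups_nonempty (G := X) p
  obtain ⟨g, hg⟩ := Cfsg.Agent.Lead.exists_conj_le_sylow S A (isElementaryAbelian_isPGroup hA.1)
  refine ⟨A.map (MulAut.conj g).toMonoidHom, ⟨IsElementaryAbelian_map hA.1 _, ?_⟩, hg⟩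
  intro B hB
  rw [Subgroup.card_map_of_injective (MulAut.conj g).injective]
  exact hA.2 B hB

variable (X)

/-- The image of `J(X)` in the holomorph of `V`. -/
noncomputable def HH : Subgroup (HolG (VX X)) := (Cfsg.thompsonSubgroup 2 X).map (psi (VX X))

/-- `O(HH)`. -/
noncomputable def OO : Subgroup (HolG (VX X)) := FFact.ppc 2 (HH X)

variable {X}

instance : Fact (Nat.Prime 2) := ⟨Nat.prime_two⟩

theorem OO_le : OO X ≤ HH X := FFact.ppc_le 2 _

theorem HH_le_normalizer_OO : HH X ≤ Subgroup.normalizer (OO X : Set (HolG (VX X))) :=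
  FFact.le_normalizer_ppc 2 _

theorem card_OO_odd [Finite X] : Odd (Nat.card (OO X)) := by
  have := FFact.card_ppc_coprime 2 (HH X)
  exact Nat.Coprime.odd_of_right this

theorem psi_range_le_normalizer_HH [Finite X] :
    (psi (VX X)).range ≤ Subgroup.normalizer (HH X : Set (HolG (VX X))) := by
  haveI : (Cfsg.thompsonSubgroup 2 X).Characteristic := thompsonSubgroup_characteristic 2
  exact psi_range_le_normalizer_map (VX X) (Cfsg.thompsonSubgroup 2 X)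

namespace LSHyp

variable {T : Subgroup X}

theorem JT_le_JX [Finite X] (h : LSHyp T) :
    Cfsg.thompsonSubgroupOf 2 T ≤ Cfsg.thompsonSubgroup 2 X := by
  obtain ⟨S, hS⟩ := h.hTsyl
  obtain ⟨A0, hA0, hA0S⟩ := exists_maxEA_le_sylow S
  exact Cfsg.Agent.Helper1.thompsonSubgroupOf_le T A0 hA0 (hS ▸ hA0S)

theorem hyp [Finite X] (h : LSHyp T) : FFact.Hyp 2 (VV (VX X)) (HH X) := by
  haveI : (Cfsg.thompsonSubgroup 2 X).Characteristic := thompsonSubgroup_characteristic 2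
  exact hyp_map (VX X) (VX_isElementaryAbelian X) h.hsolv h.hOp (Cfsg.thompsonSubgroup 2 X)

theorem hS3 [Finite X] :
    HH X = ⨆ A : {A : Subgroup (HolG (VX X)) // A ≤ HH X ∧
      Cfsg.IsBestOffenderOn 2 (VV (VX X)) A}, (A : Subgroup (HolG (VX X))) :=
  map_thompsonSubgroup_eq_iSup (p := 2) (VX X) (VX_isElementaryAbelian X)

/-- the images of elements outside `C_X(V)` are nontrivial. -/
theorem psi_eq_one_iff (x : X) :
    psi (VX X) x = 1 ↔ x ∈ Subgroup.centralizer (VX X : Set X) := by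
  rw [← mem_ker_psi_iff, MonoidHom.mem_ker]

theorem map_psi_eq_bot_iff (B : Subgroup X) :
    B.map (psi (VX X)) = ⊥ ↔ B ≤ Subgroup.centralizer (VX X : Set X) := by
  rw [Subgroup.map_eq_bot_iff, ker_psi]

theorem HH_ne_bot [Finite X] (h : LSHyp T)
    (hJQ : ¬ Cfsg.thompsonSubgroupOf 2 T ≤ Cfsg.pCore 2 X) : HH X ≠ ⊥ := by
  intro hb
  apply hJQ
  have h1 : Cfsg.thompsonSubgroup 2 X ≤ Subgroup.centralizer (VX X : Set X) :=
    (map_psi_eq_bot_iff _).1 hb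
  rw [← h.T_inf_C]
  exact le_inf (Cfsg.Agent.Lead.thompsonSubgroupOf_le 2 T) (h.JT_le_JX.trans h1)

/-- A "Sylow" `2`-subgroup of `HH` together with `O(HH)` generates `HH`. -/
theorem HH_le_OO_sup [Finite X] (h : LSHyp T) {𝒮 : Subgroup (HolG (VX X))} (h𝒮H : 𝒮 ≤ HH X)
    (h𝒮2 : IsPGroup 2 ↥𝒮) (h𝒮c : Nat.card 𝒮 = 2 ^ (Nat.card (HH X)).factorization 2)
    (hH1 : HH X ≠ ⊥) : HH X ≤ OO X ⊔ 𝒮 := by
  have hyp := h.hyp
  obtain ⟨-, hE, -, hsup, -, -⟩ := hyp.structure_thm hS3 hH1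
  rw [← hsup]
  apply iSup_le
  rintro ⟨E, A, hAH, hb, hne, hmin, rfl⟩
  have hA2 : IsPGroup 2 ↥A := isElementaryAbelian_isPGroup (hyp.isElementaryAbelian hAH hb)
  obtain ⟨m, hm, hmA⟩ := Cfsg.Agent.Lead.exists_conj_le_of_card_eq_ppart h𝒮H h𝒮c hAH hA2
  have hEn := (hE ⟨_, A, hAH, hb, hne, hmin, rfl⟩).1
  have hmE : (⁅FFact.ppc 2 (HH X), A⁆ ⊔ A).map (MulAut.conj m).toMonoidHom =
      ⁅FFact.ppc 2 (HH X), A⁆ ⊔ A :=
    (Subgroup.mem_normalizer_iff_map_conj_eq).1 (hEn hm)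
  show ⁅FFact.ppc 2 (HH X), A⁆ ⊔ A ≤ OO X ⊔ 𝒮
  rw [← hmE, Subgroup.map_sup]
  apply sup_le_sup _ hmA
  have hOm : (FFact.ppc 2 (HH X)).map (MulAut.conj m).toMonoidHom = FFact.ppc 2 (HH X) :=
    (Subgroup.mem_normalizer_iff_map_conj_eq).1 (FFact.le_normalizer_ppc 2 _ hm)
  have h1 : ⁅FFact.ppc 2 (HH X), A⁆ ≤ FFact.ppc 2 (HH X) :=
    Subgroup.le_normalizer_iff_commutator_le_left.1 (hAH.trans (FFact.le_normalizer_ppc 2 _))
  calc (⁅FFact.ppc 2 (HH X), A⁆).map (MulAut.conj m).toMonoidHom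
      ≤ (FFact.ppc 2 (HH X)).map (MulAut.conj m).toMonoidHom := Subgroup.map_mono h1
    _ = OO X := hOm

/-- Elements of odd order of `HH` lie in `O(HH)`. -/
theorem mem_OO_of_odd [Finite X] (h : LSHyp T) (hH1 : HH X ≠ ⊥) {y : HolG (VX X)}
    (hy : y ∈ HH X) (hodd : Odd (orderOf y)) : y ∈ OO X := by
  obtain ⟨𝒮, -, h𝒮H, h𝒮2, h𝒮c⟩ := Cfsg.Agent.Lead.exists_le_card_eq_ppart (p := 2)
    (U := (⊥ : Subgroup (HolG (VX X)))) (H := HH X) IsPGroup.of_bot bot_le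
  apply Cfsg.Agent.Helper2.mem_of_coprime_orderOf_of_mem_sup (p := 2) h𝒮2
    (h𝒮H.trans HH_le_normalizer_OO) (h.HH_le_OO_sup h𝒮H h𝒮2 h𝒮c hH1 hy)
  exact Nat.Coprime.symm (Nat.coprime_two_left.mpr hodd)

end LSHyp

end Cfsg.Agent.Helper1.JLS
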