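import Mathlib
import Cfsg.Prelude.Def_JComponents
import Cfsg.Agent.Helper1.JLSC
import Cfsg.Agent.Helper1.FFact10
import Cfsg.Agent.Lead.Thompson

set_option autoImplicit false

/-!
`J(T)`-component-like subgroups of `X` and their images in the holomorph.
-/

namespace Cfsg.Agent.Helper1.JLS

open scoped Pointwise commutatorElement

open Cfsg.Agent.Helper1 Cfsg.Agent.Helper1.Hol

universe u

variable {X : Type u} [Group X]

/-- `N(T) ≤ N(J(T))`. -/
theorem normalizer_le_normalizer_thompsonSubgroupOf [Finite X] (p : ℕ) (T : Subgroup X) :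
    Subgroup.normalizer (T : Set X) ≤
      Subgroup.normalizer (Cfsg.thompsonSubgroupOf p T : Set X) := by
  intro g hg
  rw [Subgroup.mem_normalizer_iff_map_conj_eq]
  apply Cfsg.Agent.Lead.thompsonSubgroupOf_map_conj_eq
  have h1 : T.map (MulAut.conj g).toMonoidHom = T :=
    (Subgroup.mem_normalizer_iff_map_conj_eq).1 hg
  calc (Cfsg.thompsonSubgroupOf p T).map (MulAut.conj g).toMonoidHom
      ≤ T.map (MulAut.conj g).toMonoidHom :=
        Subgroup.map_mono (Cfsg.Agent.Lead.thompsonSubgroupOf_le p T)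
    _ = T := h1

/-- The hypotheses on a `J(T)`-component used in the structure theory. -/
structure CompHyp (T K R : Subgroup X) : Prop where
  hgen : Subgroup.closure {g : X | g ∈ K ∧ Odd (orderOf g)} = K
  hKJ : ⁅K, Cfsg.thompsonSubgroupOf 2 T⁆ = K
  hRK : R ≤ K
  hR2 : IsPGroup 2 ↥R
  hidx : R.relIndex K = 3

namespace CompHyp

variable {T K R : Subgroup X}

theorem J_le_normalizer (hK : CompHyp T K R) :
    Cfsg.thompsonSubgroupOf 2 T ≤ Subgroup.normalizer (K : Set X) := by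
  have := Cfsg.Agent.Helper2.le_normalizer_commutator_right K (Cfsg.thompsonSubgroupOf 2 T)
  rwa [hK.hKJ] at this

theorem K_ne_bot (hK : CompHyp T K R) : K ≠ ⊥ := by
  intro hb
  have h1 := hK.hidx
  have h2 : R = ⊥ := by
    rw [eq_bot_iff, ← hb]; exact hK.hRK
  rw [hb, h2, Subgroup.relIndex_bot_left, Subgroup.card_bot] at h1
  omega

theorem not_isPGroup (hK : CompHyp T K R) : ¬ IsPGroup 2 ↥K := fun h2 =>
  hK.K_ne_bot (eq_bot_of_gen_odd_of_isPGroup hK.hgen h2)

theorem K_le_JX [Finite X] (hK : CompHyp T K R) (h : LSHyp T) :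
    K ≤ Cfsg.thompsonSubgroup 2 X := by
  haveI : (Cfsg.thompsonSubgroup 2 X).Characteristic := thompsonSubgroup_characteristic 2
  rw [← hK.hKJ]
  exact (Subgroup.commutator_mono le_top h.JT_le_JX).trans (Subgroup.commutator_le_right _ _)

theorem map_K_le_HH [Finite X] (hK : CompHyp T K R) (h : LSHyp T) :
    K.map (psi (VX X)) ≤ HH X := Subgroup.map_mono (hK.K_le_JX h)

theorem pCore_le_normalizer [Finite X] (hK : CompHyp T K R) (h : LSHyp T) :
    Cfsg.pCore 2 X ≤ Subgroup.normalizer (K : Set X) := by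
  apply le_normalizer_of_gen_odd hK.hgen hK.hKJ
    (h.hT2.to_le (Cfsg.Agent.Lead.thompsonSubgroupOf_le 2 T))
  · rw [Subgroup.normalizer_eq_top]; exact le_top
  · exact h.pCore_le_T.trans
      (Subgroup.le_normalizer.trans (normalizer_le_normalizer_thompsonSubgroupOf 2 T))

/-- `K` does not centralize `V`. -/
theorem not_le_centralizer [Finite X] (hK : CompHyp T K R) (h : LSHyp T) :
    ¬ K ≤ Subgroup.centralizer (VX X : Set X) := by
  intro hKC
  apply hK.not_isPGroup
  have h1 : K ≤ Cfsg.pCore 2 X := by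
    rw [← hK.hKJ]
    exact (Subgroup.commutator_mono hKC (Cfsg.Agent.Lead.thompsonSubgroupOf_le 2 T)).trans
      h.comm_C_T
  exact (Cfsg.Agent.Helper5.isPGroup_pCore 2).to_le h1

theorem HH_ne_bot [Finite X] (hK : CompHyp T K R) (h : LSHyp T) : HH X ≠ ⊥ := by
  intro hb
  apply hK.not_le_centralizer h
  rw [← LSHyp.map_psi_eq_bot_iff, eq_bot_iff, ← hb]
  exact hK.map_K_le_HH h

theorem map_K_le_OO [Finite X] (hK : CompHyp T K R) (h : LSHyp T) :
    K.map (psi (VX X)) ≤ OO X := by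
  rw [Subgroup.map_le_iff_le_comap]
  conv_lhs => rw [← hK.hgen]
  rw [Subgroup.closure_le]
  rintro g ⟨hgK, hodd⟩
  show psi (VX X) g ∈ OO X
  apply h.mem_OO_of_odd (hK.HH_ne_bot h) (hK.map_K_le_HH h (Subgroup.mem_map_of_mem _ hgK))
  exact Odd.of_dvd_nat hodd (orderOf_map_dvd _ g)

/-- `2`-subgroups of `K` lie in `O₂(X)`. -/
theorem le_pCore_of_isPGroup [Finite X] (hK : CompHyp T K R) (h : LSHyp T) {P : Subgroup X}
    (hPK : P ≤ K) (hP2 : IsPGroup 2 ↥P) : P ≤ Cfsg.pCore 2 X := by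
  apply h.le_pCore_of_isPGroup hP2
  rw [← LSHyp.map_psi_eq_bot_iff]
  have h1 : P.map (psi (VX X)) ≤ OO X := (Subgroup.map_mono hPK).trans (hK.map_K_le_OO h)
  have h2 : IsPGroup 2 ↥(P.map (psi (VX X))) := hP2.map _
  obtain ⟨k, hk⟩ := IsPGroup.iff_card.1 h2
  have h3 : Nat.card ↥(P.map (psi (VX X))) ∣ Nat.card ↥(OO X) := Subgroup.card_dvd_of_le h1
  have h4 : Odd (Nat.card ↥(P.map (psi (VX X)))) := Odd.of_dvd_nat card_OO_odd h3
  rw [hk] at h4
  rcases Nat.eq_zero_or_pos k with rfl | hkpos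
  · rw [pow_zero] at hk
    exact Subgroup.card_eq_one.1 hk
  · exfalso
    have : Even (2 ^ k) := (Nat.even_pow.2 ⟨even_two, hkpos.ne'⟩)
    exact (Nat.not_odd_iff_even.2 this) h4

theorem R_le_pCore [Finite X] (hK : CompHyp T K R) (h : LSHyp T) : R ≤ Cfsg.pCore 2 X :=
  hK.le_pCore_of_isPGroup h hK.hRK hK.hR2

theorem K_inf_C [Finite X] (hK : CompHyp T K R) (h : LSHyp T) :
    K ⊓ Subgroup.centralizer (VX X : Set X) = R := by
  have hRC : R ≤ K ⊓ Subgroup.centralizer (VX X : Set X) :=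
    le_inf hK.hRK ((hK.R_le_pCore h).trans (pCore_le_centralizer_VX X))
  have h1 : R.relIndex (K ⊓ Subgroup.centralizer (VX X : Set X)) *
      (K ⊓ Subgroup.centralizer (VX X : Set X)).relIndex K = 3 := by
    rw [Subgroup.relIndex_mul_relIndex _ _ _ hRC inf_le_left]
    exact hK.hidx
  have h2 : (K ⊓ Subgroup.centralizer (VX X : Set X)).relIndex K ≠ 1 := by
    intro h2
    apply hK.not_le_centralizer h
    exact (Subgroup.relIndex_eq_one.1 h2).trans inf_le_right
  have h3 : (K ⊓ Subgroup.centralizer (VX X : Set X)).relIndex K ∣ 3 := ⟨_, by rw [← h1, mul_comm]⟩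
  have h4 : (K ⊓ Subgroup.centralizer (VX X : Set X)).relIndex K = 3 := by
    rcases (Nat.dvd_prime Nat.prime_three).1 h3 with h5 | h5
    · exact absurd h5 h2
    · exact h5
  rw [h4] at h1
  have h5 : R.relIndex (K ⊓ Subgroup.centralizer (VX X : Set X)) = 1 := by omega
  exact le_antisymm (Subgroup.relIndex_eq_one.1 h5) hRC

theorem K_inf_pCore [Finite X] (hK : CompHyp T K R) (h : LSHyp T) :
    K ⊓ Cfsg.pCore 2 X = R :=
  le_antisymm ((inf_le_inf_left K (pCore_le_centralizer_VX X)).trans (hK.K_inf_C h).le)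
    (le_inf hK.hRK (hK.R_le_pCore h))

theorem card_map_K [Finite X] (hK : CompHyp T K R) (h : LSHyp T) :
    Nat.card ↥(K.map (psi (VX X))) = 3 := by
  have h1 := card_map_mul_card_inf_ker (psi (VX X)) K
  rw [ker_psi, hK.K_inf_C h] at h1
  have h2 : R.relIndex K * Nat.card R = Nat.card K := relIndex_mul_card_of_le hK.hRK
  rw [hK.hidx] at h2
  have h3 : 0 < Nat.card R := Nat.card_pos
  nlinarith

/-- `[K, C_X(V)] ≤ O₂(X)`. -/
theorem comm_K_C [Finite X] (hK : CompHyp T K R) (h : LSHyp T) :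
    ⁅K, Subgroup.centralizer (VX X : Set X)⁆ ≤ Cfsg.pCore 2 X := by
  haveI : (Subgroup.centralizer (VX X : Set X)).Normal := Subgroup.normal_centralizer
  set C := Subgroup.centralizer (VX X : Set X) with hC
  set J := Cfsg.thompsonSubgroupOf 2 T with hJ
  have hJT : J ≤ T := Cfsg.Agent.Lead.thompsonSubgroupOf_le 2 T
  have hJC : ⁅J, C⁆ ≤ Cfsg.pCore 2 X := by
    rw [Subgroup.commutator_comm]
    exact (Subgroup.commutator_mono le_rfl hJT).trans h.comm_C_T
  conv_lhs => rw [← hK.hKJ]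
  apply Cfsg.Agent.Helper4.three_subgroups_normal
  · -- ⁅⁅J, C⁆, K⁆
    exact (Subgroup.commutator_mono hJC le_top).trans (Subgroup.commutator_le_left _ _)
  · -- ⁅⁅C, K⁆, J⁆
    have h1 : ⁅C, K⁆ ≤ C := Subgroup.commutator_le_left _ _
    refine (Subgroup.commutator_mono h1 le_rfl).trans ?_
    rw [Subgroup.commutator_comm]
    exact hJC

end CompHyp

end Cfsg.Agent.Helper1.JLS
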