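import Mathlib
import Cfsg.Prelude.Def_JComponents
import Cfsg.Agent.Helper1.JLSD

set_option autoImplicit false

/-!
The image of a `J(T)`-component in the holomorph lies in one of the `SL₂(2)`-factors.
-/

namespace Cfsg.Agent.Helper1.JLS

open scoped Pointwise commutatorElement

open Cfsg.Agent.Helper1 Cfsg.Agent.Helper1.Hol

universe u

variable {X : Type u} [Group X]

namespace LSHyp

variable {T : Subgroup X}

/-- The image of `J(T)` is generated by the minimal best offenders it contains. -/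
theorem map_JT_le_sSup [Finite X] (h : LSHyp T) :
    (Cfsg.thompsonSubgroupOf 2 T).map (psi (VX X)) ≤
      sSup {B : Subgroup (HolG (VX X)) | B ≤ (Cfsg.thompsonSubgroupOf 2 T).map (psi (VX X)) ∧
        FFact.IsMinBest 2 (VV (VX X)) B} := by
  obtain ⟨S, hS⟩ := h.hTsyl
  obtain ⟨A0, hA0, hA0S⟩ := exists_maxEA_le_sylow S
  have hA0T : A0 ≤ T := hS ▸ hA0S
  have hyp := h.hyp
  set 𝔅 := {B : Subgroup (HolG (VX X)) | B ≤ (Cfsg.thompsonSubgroupOf 2 T).map (psi (VX X)) ∧
        FFact.IsMinBest 2 (VV (VX X)) B} with h𝔅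
  have key : ∀ A' : Subgroup ↥T, A' ∈ Cfsg.maxElementaryAbelianSubgroups 2 ↥T →
      (A'.map T.subtype).map (psi (VX X)) ≤ sSup 𝔅 := by
    intro A' hA'
    have hA : A'.map T.subtype ∈ Cfsg.maxElementaryAbelianSubgroups 2 X :=
      (maxEA_transfer T A0 hA0 hA0T).1 A' hA'
    have hAJ : A'.map T.subtype ≤ Cfsg.thompsonSubgroupOf 2 T :=
      Cfsg.Agent.Lead.map_le_thompsonSubgroupOf 2 T A' hA'
    have hb : Cfsg.IsBestOffenderOn 2 (VV (VX X)) ((A'.map T.subtype).map (psi (VX X))) :=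
      isBestOffenderOn_map (VX X) (isBestOffenderOn_of_maxEA (VX X) (VX_isElementaryAbelian X) _ hA)
    have hAH : (A'.map T.subtype).map (psi (VX X)) ≤ HH X :=
      Subgroup.map_mono (le_thompsonSubgroup hA)
    obtain ⟨k, B, hB, -, hsup⟩ := hyp.decomp _ _ rfl hAH hb
    rw [← hsup]
    apply iSup_le
    intro i
    apply le_sSup
    exact ⟨(hB i).1.trans (Subgroup.map_mono hAJ), (hB i).2⟩
  conv_lhs => rw [Cfsg.thompsonSubgroupOf, Cfsg.thompsonSubgroup]
  rw [Subgroup.map_le_iff_le_comap, Subgroup.map_le_iff_le_comap]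
  apply sSup_le
  intro A' hA'
  rw [← Subgroup.map_le_iff_le_comap, ← Subgroup.map_le_iff_le_comap]
  exact key A' hA'

end LSHyp

namespace CompHyp

variable {T K R : Subgroup X}

/-- A transvection in the image of `J(T)` acting nontrivially on the image of `K`. -/
theorem exists_trv [Finite X] (hK : CompHyp T K R) (h : LSHyp T) :
    ∃ (a : X) (B : Subgroup (HolG (VX X))), a ∈ Cfsg.thompsonSubgroupOf 2 T ∧
      B = Subgroup.zpowers (psi (VX X) a) ∧ FFact.IsMinBest 2 (VV (VX X)) B ∧ B ≤ HH X ∧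
      ⁅K.map (psi (VX X)), B⁆ = K.map (psi (VX X)) := by
  have hyp := h.hyp
  set ψ := psi (VX X) with hψ
  set J := Cfsg.thompsonSubgroupOf 2 T with hJ
  have hcard := hK.card_map_K h
  have hJK : J.map ψ ≤ Subgroup.normalizer ((K.map ψ : Subgroup (HolG (VX X))) : Set (HolG (VX X))) :=
    (Subgroup.map_mono hK.J_le_normalizer).trans (Subgroup.le_normalizer_map ψ)
  -- some minimal best offender in the image of `J` does not centralize the image of `K`
  obtain ⟨B, ⟨hBJ, hBmin⟩, hBc⟩ : ∃ B ∈ {B : Subgroup (HolG (VX X)) | B ≤ J.map ψ ∧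
      FFact.IsMinBest 2 (VV (VX X)) B},
      ¬ B ≤ Subgroup.centralizer ((K.map ψ : Subgroup (HolG (VX X))) : Set (HolG (VX X))) := by
    by_contra hcon
    push Not at hcon
    have h1 : J.map ψ ≤ Subgroup.centralizer ((K.map ψ : Subgroup (HolG (VX X))) :
        Set (HolG (VX X))) := h.map_JT_le_sSup.trans (sSup_le hcon)
    have h2 : ⁅K.map ψ, J.map ψ⁆ = ⊥ := by
      rw [Subgroup.commutator_comm, Subgroup.commutator_eq_bot_iff_le_centralizer]
      exact h1
    rw [← Subgroup.map_commutator, hK.hKJ] at h2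
    rw [h2, Subgroup.card_bot] at hcard
    omega
  have hBH : B ≤ HH X := hBJ.trans (Subgroup.map_mono h.JT_le_JX)
  have hT : FFact.IsTrv 2 (VV (VX X)) B := hyp.isTrv_of_isMinBest hBH hBmin
  obtain ⟨b, hbB, -, -, hbz⟩ := hT.exists_generator
  obtain ⟨a, haJ, rfl⟩ := hBJ hbB
  refine ⟨a, B, haJ, hbz.symm, hBmin, hBH, ?_⟩
  have hle : ⁅K.map ψ, B⁆ ≤ K.map ψ :=
    Subgroup.le_normalizer_iff_commutator_le_left.1 (hBJ.trans hJK)
  apply Subgroup.eq_of_le_of_card_ge hle
  have hne : ⁅K.map ψ, B⁆ ≠ ⊥ := by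
    intro hb
    apply hBc
    rw [Subgroup.commutator_comm, Subgroup.commutator_eq_bot_iff_le_centralizer] at hb
    exact hb
  have hdvd : Nat.card ↥(⁅K.map ψ, B⁆) ∣ 3 := hcard ▸ Subgroup.card_dvd_of_le hle
  rcases (Nat.dvd_prime Nat.prime_three).1 hdvd with h1 | h1
  · exact absurd (Subgroup.card_eq_one.1 h1) hne
  · rw [h1, hcard]

end CompHyp

end Cfsg.Agent.Helper1.JLS
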