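import Mathlib
import Cfsg.Prelude.Def_JComponents
import Cfsg.Agent.Helper1.JLSE

set_option autoImplicit false

/-!
`J(T)`-components are subnormal (abstract form of S2942).
-/

namespace Cfsg.Agent.Helper1.JLS

open scoped Pointwise commutatorElement

open Cfsg.Agent.Helper1 Cfsg.Agent.Helper1.Hol

universe u

variable {X : Type u} [Group X]

namespace LSHyp

variable {T : Subgroup X}

/-- The structure of `E = [O(HH), B] B` for a minimal best offender `B ≤ HH`. -/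
theorem E_facts [Finite X] (h : LSHyp T) (hH1 : HH X ≠ ⊥) {B : Subgroup (HolG (VX X))}
    (hBH : B ≤ HH X) (hB : FFact.IsMinBest 2 (VV (VX X)) B) :
    FFact.IsE 2 (VV (VX X)) (HH X) (⁅OO X, B⁆ ⊔ B) ∧
    HH X ≤ Subgroup.normalizer ((⁅OO X, B⁆ ⊔ B : Subgroup (HolG (VX X))) : Set (HolG (VX X))) ∧
    Nat.card ↥(⁅OO X, B⁆ ⊔ B : Subgroup (HolG (VX X))) = 6 ∧
    Nat.card ↥(⁅VV (VX X), ⁅OO X, B⁆ ⊔ B⁆) = 4 ∧
    ⁅OO X, B⁆ ⊔ B ≤ HH X := by
  have hyp := h.hyp
  have hE : FFact.IsE 2 (VV (VX X)) (HH X) (⁅OO X, B⁆ ⊔ B) :=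
    ⟨B, hBH, hB.1, hB.2.1, hB.2.2, rfl⟩
  obtain ⟨-, hall, -, hsup, -, -⟩ := hyp.structure_thm hS3 hH1
  obtain ⟨hn, ⟨e⟩, hc⟩ := hall ⟨_, hE⟩
  refine ⟨hE, hn, ?_, ?_, ?_⟩
  · rw [Nat.card_congr e.toEquiv]; exact FFact.card_SL2_two
  · simpa using hc
  · rw [← hsup]
    exact le_iSup (fun E : {E : Subgroup (HolG (VX X)) // FFact.IsE 2 (VV (VX X)) (HH X) E} =>
      (E : Subgroup (HolG (VX X)))) ⟨_, hE⟩

/-- Two of the subgroups `E` with nontrivial intersection coincide. -/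
theorem E_eq_of_inf_ne_bot [Finite X] (h : LSHyp T) (hH1 : HH X ≠ ⊥)
    {E E' : Subgroup (HolG (VX X))} (hE : FFact.IsE 2 (VV (VX X)) (HH X) E)
    (hE' : FFact.IsE 2 (VV (VX X)) (HH X) E') (hne : E ⊓ E' ≠ ⊥) : E = E' := by
  have hyp := h.hyp
  obtain ⟨-, -, hind, -, -, -⟩ := hyp.structure_thm hS3 hH1
  by_contra hEE
  apply hne
  have h1 : (⟨E, hE⟩ : {E : Subgroup (HolG (VX X)) // FFact.IsE 2 (VV (VX X)) (HH X) E}) ≠
      ⟨E', hE'⟩ := fun h2 => hEE (congrArg Subtype.val h2)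
  exact (hind.pairwiseDisjoint h1).eq_bot

/-- Two of the subgroups `E` whose commutators with `V` meet nontrivially coincide. -/
theorem E_eq_of_comm_inf_ne_bot [Finite X] (h : LSHyp T) (hH1 : HH X ≠ ⊥)
    {E E' : Subgroup (HolG (VX X))} (hE : FFact.IsE 2 (VV (VX X)) (HH X) E)
    (hE' : FFact.IsE 2 (VV (VX X)) (HH X) E') (hne : ⁅VV (VX X), E⁆ ⊓ ⁅VV (VX X), E'⁆ ≠ ⊥) :
    E = E' := by
  have hyp := h.hyp
  obtain ⟨-, -, -, -, hind, -⟩ := hyp.structure_thm hS3 hH1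
  by_contra hEE
  apply hne
  have h1 : (some ⟨E, hE⟩ : Option {E : Subgroup (HolG (VX X)) //
      FFact.IsE 2 (VV (VX X)) (HH X) E}) ≠ some ⟨E', hE'⟩ :=
    fun h2 => hEE (congrArg Subtype.val (Option.some_injective _ h2))
  exact (hind.pairwiseDisjoint h1).eq_bot

end LSHyp

namespace CompHyp

variable {T K R : Subgroup X}

/-- The image of `K` is `O(HH) ∩ E`. -/
theorem map_K_eq [Finite X] (hK : CompHyp T K R) (h : LSHyp T) {B : Subgroup (HolG (VX X))}
    (hBH : B ≤ HH X) (hB : FFact.IsMinBest 2 (VV (VX X)) B)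
    (hKB : ⁅K.map (psi (VX X)), B⁆ = K.map (psi (VX X))) :
    K.map (psi (VX X)) = OO X ⊓ (⁅OO X, B⁆ ⊔ B) := by
  obtain ⟨-, -, h6, -, -⟩ := h.E_facts (hK.HH_ne_bot h) hBH hB
  have hle : K.map (psi (VX X)) ≤ OO X ⊓ (⁅OO X, B⁆ ⊔ B) := by
    refine le_inf (hK.map_K_le_OO h) ?_
    rw [← hKB]
    exact (Subgroup.commutator_mono (hK.map_K_le_OO h) le_rfl).trans le_sup_left
  apply Subgroup.eq_of_le_of_card_ge hle
  rw [hK.card_map_K h]
  have h1 : Nat.card ↥(OO X ⊓ (⁅OO X, B⁆ ⊔ B)) ∣ 6 := h6 ▸ Subgroup.card_dvd_of_le inf_le_right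
  have h2 : Odd (Nat.card ↥(OO X ⊓ (⁅OO X, B⁆ ⊔ B))) :=
    Odd.of_dvd_nat card_OO_odd (Subgroup.card_dvd_of_le inf_le_left)
  have h3 : Nat.card ↥(OO X ⊓ (⁅OO X, B⁆ ⊔ B)) ≤ 6 := Nat.le_of_dvd (by norm_num) h1
  obtain ⟨m, hm⟩ := h2
  have h4 : m ≤ 2 := by omega
  interval_cases m
  · omega
  · omega
  · exfalso
    rw [hm] at h1
    norm_num at h1

/-- The abstract form of S2942: a `J(T)`-component is subnormal. -/
theorem isSubnormal [Finite X] (hK : CompHyp T K R) (h : LSHyp T) : K.IsSubnormal := by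
  obtain ⟨a, B, -, -, hBmin, hBH, hKB⟩ := hK.exists_trv h
  obtain ⟨-, hEn, -, -, hEH⟩ := h.E_facts (hK.HH_ne_bot h) hBH hBmin
  have hKmap := hK.map_K_eq h hBH hBmin hKB
  set ψ := psi (VX X) with hψ
  set C := Subgroup.centralizer (VX X : Set X) with hC
  haveI hCn : C.Normal := Subgroup.normal_centralizer
  set E := ⁅OO X, B⁆ ⊔ B with hE
  -- the chain
  have h1 : ((HH X).comap ψ).IsSubnormal := by
    have hn : ((HH X).comap ψ).Normal := by
      constructor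
      intro n hn g
      show ψ (g * n * g⁻¹) ∈ HH X
      rw [map_mul, map_mul, map_inv]
      exact (Subgroup.mem_normalizer_iff.1 (psi_range_le_normalizer_HH ⟨g, rfl⟩) _).1 hn
    exact Subgroup.Normal.isSubnormal hn
  have h2 : (E.comap ψ).IsSubnormal := by
    refine Subgroup.IsSubnormal.step _ _ (Subgroup.comap_mono hEH) h1 ?_
    rw [Subgroup.normal_subgroupOf_iff_le_normalizer (Subgroup.comap_mono hEH)]
    exact (Subgroup.comap_mono hEn).trans (Subgroup.le_normalizer_comap ψ)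
  have hKC : K ⊔ C = (K.map ψ).comap ψ := by
    rw [Subgroup.comap_map_eq, ker_psi]
  have hKCE : K ⊔ C ≤ E.comap ψ := by
    rw [hKC]
    apply Subgroup.comap_mono
    rw [hKmap]; exact inf_le_right
  have h3 : (K ⊔ C).IsSubnormal := by
    refine Subgroup.IsSubnormal.step _ _ hKCE h2 ?_
    rw [Subgroup.normal_subgroupOf_iff_le_normalizer hKCE, hKC]
    refine le_trans ?_ (Subgroup.le_normalizer_comap ψ)
    apply Subgroup.comap_mono
    rw [hKmap]
    exact FFact.le_normalizer_inf (hEH.trans HH_le_normalizer_OO) Subgroup.le_normalizer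
  have hQC : Cfsg.pCore 2 X ≤ C := pCore_le_centralizer_VX X
  have hKQC : K ⊔ Cfsg.pCore 2 X ≤ K ⊔ C := sup_le_sup_left hQC K
  have hCnorm : C ≤ Subgroup.normalizer ((K ⊔ Cfsg.pCore 2 X : Subgroup X) : Set X) := by
    apply Cfsg.Agent.Helper2.le_normalizer_of_conj_mem
    intro c hc
    have hle : K ⊔ Cfsg.pCore 2 X ≤
        (K ⊔ Cfsg.pCore 2 X).comap (MulAut.conj c).toMonoidHom := by
      refine sup_le ?_ ?_
      · intro k hk
        show c * k * c⁻¹ ∈ K ⊔ Cfsg.pCore 2 X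
        have h5 : ⁅k, c⁆ ∈ Cfsg.pCore 2 X :=
          hK.comm_K_C h (Subgroup.commutator_mem_commutator hk hc)
        have h6 : c * k * c⁻¹ = (⁅k, c⁆)⁻¹ * k := by
          rw [commutatorElement_def]; group
        rw [h6]
        exact Subgroup.mul_mem _ (Subgroup.mem_sup_right (Subgroup.inv_mem _ h5))
          (Subgroup.mem_sup_left hk)
      · intro q hq
        exact Subgroup.mem_sup_right ((pCore_normal (G := X) 2).conj_mem q hq c)
    intro x hx
    exact hle hx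
  have h4 : (K ⊔ Cfsg.pCore 2 X).IsSubnormal := by
    refine Subgroup.IsSubnormal.step _ _ hKQC h3 ?_
    rw [Subgroup.normal_subgroupOf_iff_le_normalizer hKQC]
    refine sup_le ?_ hCnorm
    exact le_sup_left.trans Subgroup.le_normalizer
  refine Subgroup.IsSubnormal.step _ _ le_sup_left h4 ?_
  rw [Subgroup.normal_subgroupOf_iff_le_normalizer le_sup_left]
  exact sup_le Subgroup.le_normalizer (hK.pCore_le_normalizer h)

end CompHyp

end Cfsg.Agent.Helper1.JLS
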