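import Mathlib
import Cfsg.Prelude.Def_JComponents
import Cfsg.Agent.Helper1.JLSF
import Cfsg.Agent.Helper1.StableNormalClosure
import Cfsg.Agent.Helper4.SolvPSolv
import Cfsg.Agent.Lead.KInfD

set_option autoImplicit false

/-!
Passing from `L ∈ jOvergroups T` inside `G` to the abstract set-up in `↥L`.
-/

namespace Cfsg.Agent.Helper1.JLS

open scoped Pointwise commutatorElement

open Cfsg.Agent.Helper1

universe u

variable {G : Type u} [Group G]

theorem thompsonSubgroupOf_map_injective {G' : Type u} [Group G'] (p : ℕ) (f : G →* G')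
    (hf : Function.Injective f) (P : Subgroup G) :
    Cfsg.thompsonSubgroupOf p (P.map f) = (Cfsg.thompsonSubgroupOf p P).map f := by
  unfold Cfsg.thompsonSubgroupOf
  rw [← thompsonSubgroup_map_equiv p (P.equivMapOfInjective f hf), Subgroup.map_map,
    Subgroup.map_map]
  congr 1

theorem thompsonSubgroupOf_subgroupOf (p : ℕ) {T L : Subgroup G} (hTL : T ≤ L) :
    (Cfsg.thompsonSubgroupOf p (T.subgroupOf L)).map L.subtype = Cfsg.thompsonSubgroupOf p T := by
  have h := thompsonSubgroupOf_map_injective p L.subtype L.subtype_injective (T.subgroupOf L)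
  rw [Subgroup.map_subgroupOf_eq_of_le hTL] at h
  exact h.symm

theorem map_inf_centralizer_self {G' : Type*} [Group G'] (f : G →* G')
    (hf : Function.Injective f) (Q : Subgroup G) :
    (Q ⊓ Subgroup.centralizer (Q : Set G)).map f =
      Q.map f ⊓ Subgroup.centralizer ((Q.map f : Subgroup G') : Set G') := by
  ext y
  constructor
  · rintro ⟨x, ⟨hxQ, hxC⟩, rfl⟩
    refine ⟨⟨x, hxQ, rfl⟩, ?_⟩
    have hxC : x ∈ Subgroup.centralizer (Q : Set G) := hxC
    show f x ∈ Subgroup.centralizer ((Q.map f : Subgroup G') : Set G')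
    rw [Subgroup.mem_centralizer_iff]
    rintro _ ⟨q, hq, rfl⟩
    rw [← map_mul, ← map_mul, Subgroup.mem_centralizer_iff.1 hxC q hq]
  · rintro ⟨⟨x, hxQ, rfl⟩, hyC⟩
    refine ⟨x, ⟨hxQ, ?_⟩, rfl⟩
    have hyC : f x ∈ Subgroup.centralizer ((Q.map f : Subgroup G') : Set G') := hyC
    show x ∈ Subgroup.centralizer (Q : Set G)
    rw [Subgroup.mem_centralizer_iff]
    intro q hq
    apply hf
    rw [map_mul, map_mul]
    exact Subgroup.mem_centralizer_iff.1 hyC (f q) ⟨q, hq, rfl⟩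

theorem VX_map (L : Subgroup G) :
    (VX ↥L).map L.subtype = Cfsg.omegaCenterOf (Cfsg.pCoreOf 2 L) := by
  unfold VX Cfsg.omegaCenterOf Cfsg.pCoreOf
  rw [omegaOne_map_of_injective 2 _ L.subtype L.subtype_injective,
    map_inf_centralizer_self L.subtype L.subtype_injective]

theorem omegaCenterOf_le (Q : Subgroup G) :
    Cfsg.omegaCenterOf Q ≤ Q ⊓ Subgroup.centralizer (Q : Set G) := by
  unfold Cfsg.omegaCenterOf Cfsg.omegaOne
  rw [Subgroup.closure_le]
  intro x hx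
  exact hx.1

theorem mem_omegaCenterOf {Q : Subgroup G} {x : G} (hxQ : x ∈ Q)
    (hxC : x ∈ Subgroup.centralizer (Q : Set G)) (hx2 : x ^ 2 = 1) : x ∈ Cfsg.omegaCenterOf Q := by
  unfold Cfsg.omegaCenterOf Cfsg.omegaOne
  exact Subgroup.subset_closure ⟨⟨hxQ, hxC⟩, hx2⟩

/-- A `2`-subgroup of `L` containing a Sylow `2`-subgroup `T` of `L` equals `T`. -/
theorem eq_of_isSylowTwoIn [Finite G] {T L P : Subgroup G} (hTL : Cfsg.IsSylowTwoIn T L)
    (hP2 : IsPGroup 2 ↥P) (hTP : T ≤ P) (hPL : P ≤ L) : P = T := by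
  obtain ⟨hTL', hT2, hodd⟩ := hTL
  apply le_antisymm _ hTP
  have h1 : T.relIndex P ∣ T.relIndex L :=
    ⟨P.relIndex L, (Subgroup.relIndex_mul_relIndex T P L hTP hPL).symm⟩
  have h2 : Odd (T.relIndex P) := Odd.of_dvd_nat hodd h1
  obtain ⟨k, hk⟩ := IsPGroup.iff_card.1 hP2
  have h3 : T.relIndex P ∣ 2 ^ k := by
    rw [← hk]; exact Subgroup.relIndex_dvd_card T P
  obtain ⟨j, -, hj⟩ := (Nat.dvd_prime_pow Nat.prime_two).1 h3
  have h4 : T.relIndex P = 1 := by
    rcases Nat.eq_zero_or_pos j with rfl | hjpos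
    · simpa using hj
    · exfalso
      rw [hj] at h2
      exact (Nat.not_odd_iff_even.2 (Nat.even_pow.2 ⟨even_two, hjpos.ne'⟩)) h2
  exact Subgroup.relIndex_eq_one.1 h4

/-- The abstract hypotheses for `L ∈ jOvergroups T`. -/
theorem lsHyp_of_mem_jOvergroups [Finite G]
    (hN : ∀ N : Subgroup G, Cfsg.IsTwoLocal N → Group.IsSolvable ↥N)
    (hZ : ∀ S : Sylow 2 G, Subgroup.centralizer (Cfsg.omegaCenterOf (S : Subgroup G) : Set G) ≤
      Subgroup.normalizer ((S : Subgroup G) : Set G))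
    {T : Subgroup G} (hT1 : T ≠ ⊥) {L : Subgroup G} (hLT : L ∈ Cfsg.jOvergroups T) :
    LSHyp (T.subgroupOf L) ∧
      ¬ Cfsg.thompsonSubgroupOf 2 (T.subgroupOf L) ≤ Cfsg.pCore 2 ↥L := by
  obtain ⟨hsyl, hJQ, hCQ⟩ := hLT
  obtain ⟨hTL, hT2, hodd⟩ := hsyl
  set Q₀ := Cfsg.pCoreOf 2 L with hQ₀
  have hQ₀2 : IsPGroup 2 ↥Q₀ := (Cfsg.Agent.Helper5.isPGroup_pCore 2).map _
  have hQ₀T : Q₀ ≤ T := Cfsg.Agent.Lead.KInf.pCoreOf_le_of_sylow hTL hT2
    (fun h2 => (Nat.not_even_iff_odd.2 hodd) (even_iff_two_dvd.2 h2))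
  have hQ₀1 : Q₀ ≠ ⊥ := by
    intro hb
    apply hT1
    rw [eq_bot_iff]
    intro t _
    have : t ∈ Subgroup.centralizer (Q₀ : Set G) := by
      rw [hb, Subgroup.mem_centralizer_iff]
      intro y hy
      have : y = 1 := hy
      rw [this, one_mul, mul_one]
    have := hCQ this
    rwa [hb] at this
  refine ⟨⟨hT2.comap_subtype, ?_, ?_, ?_, ?_⟩, ?_⟩
  · have hidx : ¬ 2 ∣ (T.subgroupOf L).index :=
      fun h2 => (Nat.not_even_iff_odd.2 hodd) (even_iff_two_dvd.2 h2)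
    have hT2' : IsPGroup 2 ↥(T.subgroupOf L) := hT2.comap_subtype
    exact ⟨hT2'.toSylow hidx, IsPGroup.toSylow_coe _ _⟩
  · apply Cfsg.Agent.Helper4.SolvPSolv.isPSolvable_of_isSolvable
    have hsolvN : Group.IsSolvable ↥(Subgroup.normalizer (Q₀ : Set G)) :=
      hN _ ⟨Q₀, hQ₀2, hQ₀1, rfl⟩
    have hLN : L ≤ Subgroup.normalizer (Q₀ : Set G) := Cfsg.Agent.Lead.KInf.pCoreOf_le_normalizer 2 L
    exact Group.isSolvable_of_isSolvable_injective (Subgroup.inclusion_injective hLN)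
  · intro x hx
    have h1 : (x : G) ∈ Subgroup.centralizer (Q₀ : Set G) := by
      rw [Subgroup.mem_centralizer_iff]
      rintro _ ⟨q, hq, rfl⟩
      have := Subgroup.mem_centralizer_iff.1 hx q hq
      exact congrArg Subtype.val this
    obtain ⟨q, hq, hqx⟩ := hCQ h1
    have : q = x := Subtype.ext hqx
    rwa [← this]
  · -- `C_L(V) ≤ N_L(T)`
    obtain ⟨S, hS⟩ := hT2.exists_le_sylow
    have hZS : Cfsg.omegaCenterOf (S : Subgroup G) ≤ Cfsg.omegaCenterOf Q₀ := by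
      conv_lhs => unfold Cfsg.omegaCenterOf Cfsg.omegaOne
      rw [Subgroup.closure_le]
      rintro z ⟨⟨-, hzC⟩, hz2⟩
      have hzQ : z ∈ Subgroup.centralizer (Q₀ : Set G) :=
        Subgroup.centralizer_le (SetLike.coe_subset_coe.2 (hQ₀T.trans hS)) hzC
      exact mem_omegaCenterOf (hCQ hzQ) hzQ hz2
    have hSL : (S : Subgroup G) ⊓ L = T :=
      eq_of_isSylowTwoIn ⟨hTL, hT2, hodd⟩ (S.2.to_le inf_le_left) (le_inf hS hTL) inf_le_right
    intro x hx
    have h1 : (x : G) ∈ Subgroup.centralizer (Cfsg.omegaCenterOf Q₀ : Set G) := by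
      rw [← VX_map, Subgroup.mem_centralizer_iff]
      rintro _ ⟨v, hv, rfl⟩
      have := Subgroup.mem_centralizer_iff.1 hx v hv
      exact congrArg Subtype.val this
    have h2 : (x : G) ∈ Subgroup.normalizer ((S : Subgroup G) : Set G) :=
      hZ S (Subgroup.centralizer_le (SetLike.coe_subset_coe.2 hZS) h1)
    have h3 : (x : G) ∈ Subgroup.normalizer (((S : Subgroup G) ⊓ L : Subgroup G) : Set G) :=
      FFact.le_normalizer_inf (A := Subgroup.zpowers (x : G))
        (Subgroup.zpowers_le.2 h2) (Subgroup.zpowers_le.2 (Subgroup.le_normalizer x.2))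
        (Subgroup.mem_zpowers _)
    rw [hSL] at h3
    rw [Subgroup.mem_normalizer_iff] at h3 ⊢
    intro y
    rw [Subgroup.mem_subgroupOf, Subgroup.mem_subgroupOf]
    exact h3 (y : G)
  · intro hle
    apply hJQ
    rw [← thompsonSubgroupOf_subgroupOf 2 hTL]
    exact Subgroup.map_mono hle

/-- The abstract hypotheses for a `J(T)`-component inside `L`. -/
theorem compHyp_of_isJComponent {T K L : Subgroup G} (hTL : T ≤ L) (hKL : K ≤ L)
    (hK : Cfsg.IsJComponent T K) :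
    CompHyp (T.subgroupOf L) (K.subgroupOf L) ((Cfsg.pCoreOf 2 K).subgroupOf L) := by
  obtain ⟨hgen, hKJ, hidx, -, -, -⟩ := hK
  have hRK : Cfsg.pCoreOf 2 K ≤ K := Subgroup.map_subtype_le _
  refine ⟨?_, ?_, ?_, ?_, ?_⟩
  · apply Subgroup.map_injective L.subtype_injective
    rw [MonoidHom.map_closure, Subgroup.map_subgroupOf_eq_of_le hKL]
    conv_rhs => rw [← hgen]
    congr 1
    ext g
    constructor
    · rintro ⟨x, ⟨hxK, hodd⟩, rfl⟩
      refine ⟨hxK, ?_⟩
      rw [Subgroup.coe_subtype, Subgroup.orderOf_coe]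
      exact hodd
    · rintro ⟨hgK, hodd⟩
      refine ⟨⟨g, hKL hgK⟩, ⟨hgK, ?_⟩, rfl⟩
      rw [← Subgroup.orderOf_coe]
      exact hodd
  · apply Subgroup.map_injective L.subtype_injective
    rw [Subgroup.map_commutator, Subgroup.map_subgroupOf_eq_of_le hKL,
      thompsonSubgroupOf_subgroupOf 2 hTL]
    exact hKJ
  · intro x hx
    exact hRK hx
  · have : IsPGroup 2 ↥(Cfsg.pCoreOf 2 K) := (Cfsg.Agent.Helper5.isPGroup_pCore 2).map _
    exact this.comap_subtype
  · rw [Subgroup.relIndex_subgroupOf hKL]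
    exact hidx

end Cfsg.Agent.Helper1.JLS
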