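import Mathlib
import Cfsg.Prelude.Def_JComponents
import Cfsg.Agent.Helper1.JLSF
import Cfsg.Agent.Helper1.FFact7

set_option autoImplicit false

/-!
A `J(T)`-component of `X` is determined by its image in the holomorph of `V`, even across different
Sylow `2`-subgroups `T`.
-/

namespace Cfsg.Agent.Helper1.JLS

open scoped Pointwise commutatorElement

open Cfsg.Agent.Helper1 Cfsg.Agent.Helper1.Hol

universe u

variable {X : Type u} [Group X]

namespace CompHyp

variable {T K R : Subgroup X}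

theorem C_le_normalizer_sup [Finite X] (hK : CompHyp T K R) (h : LSHyp T) :
    Subgroup.centralizer (VX X : Set X) ≤
      Subgroup.normalizer ((K ⊔ Cfsg.pCore 2 X : Subgroup X) : Set X) := by
  apply Cfsg.Agent.Helper2.le_normalizer_of_conj_mem
  intro c hc
  have hle : K ⊔ Cfsg.pCore 2 X ≤
      (K ⊔ Cfsg.pCore 2 X).comap (MulAut.conj c).toMonoidHom := by
    refine sup_le ?_ ?_
    · intro k hk
      show c * k * c⁻¹ ∈ K ⊔ Cfsg.pCore 2 X
      have h5 : ⁅k, c⁆ ∈ Cfsg.pCore 2 X :=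
        hK.comm_K_C h (Subgroup.commutator_mem_commutator hk hc)
      have h6 : c * k * c⁻¹ = (⁅k, c⁆)⁻¹ * k := by
        rw [commutatorElement_def]; group
      rw [h6]
      exact Subgroup.mul_mem _ (Subgroup.mem_sup_right (Subgroup.inv_mem _ h5))
        (Subgroup.mem_sup_left hk)
    · intro q hq
      exact Subgroup.mem_sup_right ((pCore_normal (G := X) 2).conj_mem q hq c)
  intro x hx
  exact hle hx

theorem K_le_normalizer_sup (K : Subgroup X) :
    K ≤ Subgroup.normalizer ((K ⊔ Cfsg.pCore 2 X : Subgroup X) : Set X) :=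
  le_sup_left.trans Subgroup.le_normalizer

theorem J_le_normalizer_sup (hK : CompHyp T K R) :
    Cfsg.thompsonSubgroupOf 2 T ≤
      Subgroup.normalizer ((K ⊔ Cfsg.pCore 2 X : Subgroup X) : Set X) := by
  apply Cfsg.Agent.Helper2.le_normalizer_of_conj_mem
  intro a ha
  have hle : K ⊔ Cfsg.pCore 2 X ≤
      (K ⊔ Cfsg.pCore 2 X).comap (MulAut.conj a).toMonoidHom := by
    refine sup_le ?_ ?_
    · intro k hk
      exact Subgroup.mem_sup_left
        (Cfsg.Agent.Helper2.conj_mem_of_le_normalizer hK.J_le_normalizer a ha k hk)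
    · intro q hq
      exact Subgroup.mem_sup_right ((pCore_normal (G := X) 2).conj_mem q hq a)
  intro x hx
  exact hle hx

/-- the key inclusion for the uniqueness. -/
theorem le_sup_of_map_eq [Finite X] {T' K' R' : Subgroup X} (hK : CompHyp T K R) (h : LSHyp T)
    (hK' : CompHyp T' K' R') (h' : LSHyp T')
    (hmap : K.map (psi (VX X)) = K'.map (psi (VX X))) : K' ≤ K ⊔ Cfsg.pCore 2 X := by
  have hyp := h.hyp
  have hH1 := hK.HH_ne_bot h
  obtain ⟨a, B, haJ, hBz, hBmin, hBH, hKB⟩ := hK.exists_trv h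
  obtain ⟨a', B', ha'J, hB'z, hB'min, hB'H, hK'B'⟩ := hK'.exists_trv h'
  obtain ⟨hE, hEn, hE6, -, hEH⟩ := h.E_facts hH1 hBH hBmin
  obtain ⟨hE', -, -, -, -⟩ := h.E_facts hH1 hB'H hB'min
  have hKmap := hK.map_K_eq h hBH hBmin hKB
  have hK'map := hK'.map_K_eq h' hB'H hB'min hK'B'
  set ψ := psi (VX X) with hψ
  set C := Subgroup.centralizer (VX X : Set X) with hC
  haveI hCn : C.Normal := Subgroup.normal_centralizer
  set Q := Cfsg.pCore 2 X with hQ
  have hcardK := hK.card_map_K h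
  -- the two `E` coincide
  have hEE : ⁅OO X, B⁆ ⊔ B = ⁅OO X, B'⁆ ⊔ B' := by
    apply h.E_eq_of_inf_ne_bot hH1 hE hE'
    intro hb
    have h1 : K.map ψ ≤ (⁅OO X, B⁆ ⊔ B) ⊓ (⁅OO X, B'⁆ ⊔ B') := by
      refine le_inf ?_ ?_
      · rw [hKmap]; exact inf_le_right
      · rw [hmap, hK'map]; exact inf_le_right
    rw [hb, le_bot_iff] at h1
    rw [h1, Subgroup.card_bot] at hcardK
    omega
  set E := ⁅OO X, B⁆ ⊔ B with hEdef
  have hBE : B ≤ E := le_sup_right
  have hB'E : B' ≤ E := by rw [hEE]; exact le_sup_right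
  have hBcard : Nat.card B = 2 := (hyp.isTrv_of_isMinBest hBH hBmin).card
  have hB'card : Nat.card B' = 2 := (hyp.isTrv_of_isMinBest hB'H hB'min).card
  have hfac : (6 : ℕ).factorization 2 = 1 := by
    have h6 : (6 : ℕ) = 2 * 3 := rfl
    rw [h6, Nat.factorization_mul (by norm_num) (by norm_num)]
    simp [Nat.Prime.factorization Nat.prime_two, Nat.Prime.factorization Nat.prime_three]
  have hB'2 : IsPGroup 2 ↥B' := IsPGroup.of_card (n := 1) (by rw [hB'card, pow_one])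
  obtain ⟨m, hmE, hm⟩ := Cfsg.Agent.Lead.exists_conj_le_of_card_eq_ppart (p := 2) hBE
    (by rw [hBcard, hE6, hfac, pow_one]) hB'E hB'2
  -- `ψ a'` is conjugate to `ψ a`
  have hb'1 : ψ a' ≠ 1 := by
    intro h1
    rw [hB'z, h1, Subgroup.zpowers_one_eq_bot, Subgroup.card_bot] at hB'card
    omega
  have hb2 : ψ a * ψ a = 1 := by
    have h1 : orderOf (ψ a) ∣ 2 := by
      rw [← hBcard, hBz, Nat.card_zpowers]
    have := orderOf_dvd_iff_pow_eq_one.1 h1
    rwa [pow_two] at this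
  have hconj : m * ψ a' * m⁻¹ = ψ a := by
    have h1 : m * ψ a' * m⁻¹ ∈ B := hm ⟨ψ a', by rw [hB'z]; exact Subgroup.mem_zpowers _, rfl⟩
    rw [hBz, Subgroup.mem_zpowers_iff] at h1
    obtain ⟨k, hk⟩ := h1
    rcases Int.even_or_odd k with ⟨j, hj⟩ | ⟨j, hj⟩
    · exfalso
      apply hb'1
      have h2 : ψ a ^ k = 1 := by
        rw [hj, ← two_mul, zpow_mul, zpow_two, hb2, one_zpow]
      rw [h2] at hk
      have h3 : m * ψ a' * m⁻¹ = 1 := hk.symm
      have h4 : ψ a' = m⁻¹ * (m * ψ a' * m⁻¹) * m := by group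
      rw [h4, h3]; group
    · rw [← hk, hj, zpow_add, zpow_mul, zpow_two, hb2, one_zpow, one_mul, zpow_one]
  -- decompose `m⁻¹`
  have hBnK : B ≤ Subgroup.normalizer ((K.map ψ : Subgroup (HolG (VX X))) : Set (HolG (VX X))) := by
    rw [hKmap]
    exact FFact.le_normalizer_inf (hBH.trans HH_le_normalizer_OO)
      (hBE.trans Subgroup.le_normalizer)
  have hsupE : K.map ψ ⊔ B = E := by
    have hle : K.map ψ ⊔ B ≤ E := sup_le (by rw [hKmap]; exact inf_le_right) hBE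
    apply Subgroup.eq_of_le_of_card_ge hle
    have hdisj : B ⊓ K.map ψ = ⊥ := by
      apply inf_eq_bot_of_coprime_card
      rw [hBcard, hcardK]; norm_num
    rw [card_sup_of_le_normalizer hBnK hdisj, hBcard, hcardK, hE6]
  have hm' : m⁻¹ ∈ K.map ψ ⊔ B := by rw [hsupE]; exact E.inv_mem hmE
  obtain ⟨x, hx, β, hβ, hmx⟩ := mem_sup_of_le_normalizer hBnK hm'
  obtain ⟨k, hkK, rfl⟩ := hx
  have hβa : β * ψ a * β⁻¹ = ψ a := by
    rw [hBz, Subgroup.mem_zpowers_iff] at hβ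
    obtain ⟨j, rfl⟩ := hβ
    have : Commute (ψ a ^ j) (ψ a) := (Commute.refl _).zpow_left j
    rw [this.eq, mul_assoc, mul_inv_cancel, mul_one]
  have hψa' : ψ a' = ψ (k * a * k⁻¹) := by
    have h1 : ψ a' = m⁻¹ * ψ a * m⁻¹⁻¹ := by
      rw [← hconj]; group
    rw [h1, hmx, map_mul, map_mul, map_inv]
    have h2 : ψ k * β * ψ a * (ψ k * β)⁻¹ = ψ k * (β * ψ a * β⁻¹) * (ψ k)⁻¹ := by group
    rw [h2, hβa]
  set c := (k * a * k⁻¹)⁻¹ * a' with hcdef
  have hcC : c ∈ C := by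
    rw [hC, ← mem_ker_psi_iff, MonoidHom.mem_ker, hcdef, map_mul, map_inv, ← hψa', inv_mul_cancel]
  have ha'eq : a' = (k * a * k⁻¹) * c := by rw [hcdef]; group
  -- `a'` normalizes `K ⊔ Q`
  set M₀ := K ⊔ Q with hM₀
  have ha'N : a' ∈ Subgroup.normalizer (M₀ : Set X) := by
    rw [ha'eq]
    refine Subgroup.mul_mem _ (Subgroup.mul_mem _ (Subgroup.mul_mem _ ?_ ?_) (Subgroup.inv_mem _ ?_))
      (hK.C_le_normalizer_sup h hcC)
    · exact K_le_normalizer_sup K hkK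
    · exact hK.J_le_normalizer_sup haJ
    · exact K_le_normalizer_sup K hkK
  have ha'T' : a' ∈ T' := Cfsg.Agent.Lead.thompsonSubgroupOf_le 2 T' ha'J
  -- `[K ⊔ C, ⟨a'⟩] ≤ K ⊔ Q`
  have hcomm : ⁅K ⊔ C, Subgroup.zpowers a'⁆ ≤ M₀ := by
    apply FFact.commutator_le_of_closure {a'} (Subgroup.zpowers_eq_closure a')
      (Subgroup.zpowers_le.2 ha'N)
    intro g hg v hv
    rw [Set.mem_singleton_iff] at hg
    subst hg
    rw [sup_comm] at hv
    obtain ⟨c₁, hc₁, k₁, hk₁, rfl⟩ := mem_sup_of_le_normalizer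
      (N := C) (A := K) (by rw [Subgroup.normalizer_eq_top]; exact le_top) hv
    have h1 : ⁅c₁ * k₁, g⁆ = c₁ * ⁅k₁, g⁆ * c₁⁻¹ * ⁅c₁, g⁆ := by
      simp only [commutatorElement_def]; group
    rw [h1]
    have h2 : ⁅k₁, g⁆ ∈ M₀ := by
      have h3 : g * k₁⁻¹ * g⁻¹ ∈ M₀ :=
        (Subgroup.mem_normalizer_iff.1 ha'N _).1 (M₀.inv_mem (Subgroup.mem_sup_left hk₁))
      have h4 : ⁅k₁, g⁆ = k₁ * (g * k₁⁻¹ * g⁻¹) := by
        rw [commutatorElement_def]; group
      rw [h4]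
      exact M₀.mul_mem (Subgroup.mem_sup_left hk₁) h3
    have h5 : c₁ * ⁅k₁, g⁆ * c₁⁻¹ ∈ M₀ :=
      (Subgroup.mem_normalizer_iff.1 (hK.C_le_normalizer_sup h hc₁) _).1 h2
    have h6 : ⁅c₁, g⁆ ∈ Q := h'.comm_C_T (Subgroup.commutator_mem_commutator hc₁ ha'T')
    exact M₀.mul_mem h5 (Subgroup.mem_sup_right h6)
  -- `K' ≤ K ⊔ C`
  have hK'KC : K' ≤ K ⊔ C := by
    have h1 : K' ≤ (K'.map ψ).comap ψ := Subgroup.le_comap_map ψ K'
    rw [← hmap, Subgroup.comap_map_eq, ker_psi] at h1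
    exact h1
  have ha'K' : Subgroup.zpowers a' ≤ Subgroup.normalizer (K' : Set X) :=
    Subgroup.zpowers_le.2 (hK'.J_le_normalizer ha'J)
  have hcK' : ⁅K', Subgroup.zpowers a'⁆ ≤ K' :=
    Subgroup.le_normalizer_iff_commutator_le_left.1 ha'K'
  intro k' hk'
  have h1 : ψ k' ∈ (⁅K', Subgroup.zpowers a'⁆).map ψ := by
    rw [Subgroup.map_commutator, MonoidHom.map_zpowers, ← hB'z, hK'B']
    exact Subgroup.mem_map_of_mem _ hk'
  obtain ⟨y, hy, hyk⟩ := h1
  have h2 : y⁻¹ * k' ∈ K' ⊓ C := by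
    refine ⟨K'.mul_mem (K'.inv_mem (hcK' hy)) hk', ?_⟩
    show y⁻¹ * k' ∈ Subgroup.centralizer (VX X : Set X)
    rw [← mem_ker_psi_iff, MonoidHom.mem_ker, map_mul, map_inv, hyk, inv_mul_cancel]
  rw [hK'.K_inf_C h'] at h2
  have h3 : k' = y * (y⁻¹ * k') := by group
  rw [h3]
  exact M₀.mul_mem (hcomm (Subgroup.commutator_mono hK'KC le_rfl hy))
    (Subgroup.mem_sup_right (hK'.R_le_pCore h' h2))

/-- A `J(T)`-component is determined by its image in the holomorph. -/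
theorem eq_of_map_eq [Finite X] {T' K' R' : Subgroup X} (hK : CompHyp T K R) (h : LSHyp T)
    (hK' : CompHyp T' K' R') (h' : LSHyp T')
    (hmap : K.map (psi (VX X)) = K'.map (psi (VX X))) : K = K' := by
  apply eq_of_sup_eq_of_gen_odd hK.hgen hK'.hgen (Cfsg.Agent.Helper5.isPGroup_pCore 2)
    (hK.pCore_le_normalizer h) (hK'.pCore_le_normalizer h')
  apply le_antisymm
  · exact sup_le (hK'.le_sup_of_map_eq h' hK h hmap.symm) le_sup_right
  · exact sup_le (hK.le_sup_of_map_eq h hK' h' hmap) le_sup_right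

end CompHyp

end Cfsg.Agent.Helper1.JLS
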