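import Mathlib
import Cfsg.Prelude.Def_JComponents
import Cfsg.Agent.Helper1.JLSH
import Cfsg.Agent.Helper1.JLSG
import Cfsg.Agent.Helper1.PQLemma
import Cfsg.Agent.Helper5.PGroupCenter

set_option autoImplicit false

/-!
The four-group `W_K` of a `J(T)`-component: `W_K ≤ V` and `W_K` is one of the `[V, E]`.
-/

namespace Cfsg.Agent.Helper1.JLS

open scoped Pointwise commutatorElement

open Cfsg.Agent.Helper1 Cfsg.Agent.Helper1.Hol SemidirectProduct

universe u

variable {X : Type u} [Group X]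

/-- An element of odd order centralizing the involution `[ω, g]` commutes with `ω`. -/
theorem comm_eq_one_of_odd {ω g : X} (hodd : Odd (orderOf g)) (hc2 : ⁅ω, g⁆ * ⁅ω, g⁆ = 1)
    (hcg : g * ⁅ω, g⁆ = ⁅ω, g⁆ * g) : ⁅ω, g⁆ = 1 := by
  set c := ⁅ω, g⁆ with hc
  have h1 : ω * g * ω⁻¹ = c * g := by rw [hc, commutatorElement_def]; group
  have hcomm : Commute c g := hcg.symm
  have h2 : ∀ n : ℕ, ω * g ^ n * ω⁻¹ = c ^ n * g ^ n := by
    intro n
    rw [← hcomm.mul_pow, ← h1, conj_pow]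
  have h3 := h2 (orderOf g)
  rw [pow_orderOf_eq_one, mul_one, mul_one, mul_inv_cancel] at h3
  obtain ⟨m, hm⟩ := hodd
  have h4 : c ^ orderOf g = c := by
    rw [hm, pow_succ, pow_mul, pow_two, hc2, one_pow, one_mul]
  rw [h4] at h3
  exact h3.symm

theorem normalizer_le_normalizer_omegaCenterOf (R : Subgroup X) :
    Subgroup.normalizer (R : Set X) ≤
      Subgroup.normalizer (Cfsg.omegaCenterOf R : Set X) := by
  apply Cfsg.Agent.Helper2.le_normalizer_of_conj_mem
  intro g hg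
  have hle : Cfsg.omegaCenterOf R ≤ (Cfsg.omegaCenterOf R).comap (MulAut.conj g).toMonoidHom := by
    conv_lhs => unfold Cfsg.omegaCenterOf Cfsg.omegaOne
    rw [Subgroup.closure_le]
    rintro x ⟨⟨hxR, hxC⟩, hx2⟩
    have hxR : x ∈ R := hxR
    have hxC : x ∈ Subgroup.centralizer (R : Set X) := hxC
    show g * x * g⁻¹ ∈ Cfsg.omegaCenterOf R
    apply mem_omegaCenterOf
    · exact (Subgroup.mem_normalizer_iff.1 hg x).1 hxR
    · rw [Subgroup.mem_centralizer_iff] at hxC ⊢
      intro r hr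
      have h1 : g⁻¹ * r * g ∈ R := by
        have := (Subgroup.mem_normalizer_iff.1 (Subgroup.inv_mem _ hg) r).1 hr
        simpa using this
      have h2 := hxC _ h1
      have h3 : r * (g * x * g⁻¹) = g * ((g⁻¹ * r * g) * x) * g⁻¹ := by group
      rw [h3, h2]; group
    · rw [conj_pow, hx2]; simp
  intro x hx
  exact hle hx

/-- The hypotheses on the four-group `W_K`. -/
structure WHyp (K R W : Subgroup X) : Prop where
  hRn : K ≤ Subgroup.normalizer (R : Set X)
  hW : W = ⁅Cfsg.omegaCenterOf R, K⁆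
  hW4 : Nat.card W = 4
  hW2 : ∀ w ∈ W, w * w = 1

namespace WHyp

variable {T K R W : Subgroup X}

theorem K_le_normalizer_omega (hW : WHyp K R W) :
    K ≤ Subgroup.normalizer (Cfsg.omegaCenterOf R : Set X) :=
  hW.hRn.trans (normalizer_le_normalizer_omegaCenterOf R)

theorem W_le_omega (hW : WHyp K R W) : W ≤ Cfsg.omegaCenterOf R := by
  rw [hW.hW]
  exact Subgroup.le_normalizer_iff_commutator_le_left.1 hW.K_le_normalizer_omega

theorem W_le_R (hW : WHyp K R W) : W ≤ R :=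
  hW.W_le_omega.trans ((omegaCenterOf_le R).trans inf_le_left)

theorem K_le_normalizer_W (hW : WHyp K R W) : K ≤ Subgroup.normalizer (W : Set X) := by
  rw [hW.hW]
  exact le_normalizer_commutator hW.K_le_normalizer_omega Subgroup.le_normalizer

theorem R_le_centralizer_W (hW : WHyp K R W) : R ≤ Subgroup.centralizer (W : Set X) := by
  rw [Subgroup.le_centralizer_iff]
  exact hW.W_le_omega.trans ((omegaCenterOf_le R).trans inf_le_right)

theorem W_ne_bot (hW : WHyp K R W) : W ≠ ⊥ := by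
  intro hb
  have := hW.hW4
  rw [hb, Subgroup.card_bot] at this
  omega

/-- if every odd-order element of `K` centralizes `W`-valued commutators... -/
theorem not_le_centralizer (hW : WHyp K R W)
    (hgen : Subgroup.closure {g : X | g ∈ K ∧ Odd (orderOf g)} = K) :
    ¬ K ≤ Subgroup.centralizer (W : Set X) := by
  intro hKW
  apply hW.W_ne_bot
  rw [hW.hW, Subgroup.commutator_eq_bot_iff_le_centralizer]
  -- `Ω ≤ C(K)` iff `K ≤ C(Ω)`
  rw [Subgroup.le_centralizer_iff]
  conv_lhs => rw [← hgen]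
  rw [Subgroup.closure_le]
  rintro g ⟨hgK, hodd⟩
  show g ∈ Subgroup.centralizer (Cfsg.omegaCenterOf R : Set X)
  rw [Subgroup.mem_centralizer_iff]
  intro ω hω
  have hcW : ⁅ω, g⁆ ∈ W := by
    rw [hW.hW]; exact Subgroup.commutator_mem_commutator hω hgK
  have h1 := comm_eq_one_of_odd hodd (hW.hW2 _ hcW)
    (Subgroup.mem_centralizer_iff.1 (hKW hgK) _ hcW).symm
  exact (commutatorElement_eq_one_iff_mul_comm.1 h1)

/-- `C_K(W) = R`. -/
theorem K_inf_centralizer_W (hW : WHyp K R W) (hK : CompHyp T K R) :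
    K ⊓ Subgroup.centralizer (W : Set X) = R := by
  have hRC : R ≤ K ⊓ Subgroup.centralizer (W : Set X) := le_inf hK.hRK hW.R_le_centralizer_W
  have h1 : R.relIndex (K ⊓ Subgroup.centralizer (W : Set X)) *
      (K ⊓ Subgroup.centralizer (W : Set X)).relIndex K = 3 := by
    rw [Subgroup.relIndex_mul_relIndex _ _ _ hRC inf_le_left]
    exact hK.hidx
  have h2 : (K ⊓ Subgroup.centralizer (W : Set X)).relIndex K ≠ 1 := by
    intro h2
    apply hW.not_le_centralizer hK.hgen
    exact (Subgroup.relIndex_eq_one.1 h2).trans inf_le_right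
  have h3 : (K ⊓ Subgroup.centralizer (W : Set X)).relIndex K ∣ 3 := ⟨_, by rw [← h1, mul_comm]⟩
  have h4 : (K ⊓ Subgroup.centralizer (W : Set X)).relIndex K = 3 := by
    rcases (Nat.dvd_prime Nat.prime_three).1 h3 with h5 | h5
    · exact absurd h5 h2
    · exact h5
  rw [h4] at h1
  have h5 : R.relIndex (K ⊓ Subgroup.centralizer (W : Set X)) = 1 := by omega
  exact le_antisymm (Subgroup.relIndex_eq_one.1 h5) hRC

/-- `K` acts irreducibly on `W`. -/
theorem eq_of_le_of_normalizes [Finite X] (hW : WHyp K R W)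
    (hgen : Subgroup.closure {g : X | g ∈ K ∧ Odd (orderOf g)} = K)
    {Z₁ : Subgroup X} (hZW : Z₁ ≤ W) (hZ1 : Z₁ ≠ ⊥)
    (hKZ : K ≤ Subgroup.normalizer (Z₁ : Set X)) : Z₁ = W := by
  have hdvd : Nat.card Z₁ ∣ 4 := hW.hW4 ▸ Subgroup.card_dvd_of_le hZW
  have hle4 : Nat.card Z₁ ≤ 4 := Nat.le_of_dvd (by norm_num) hdvd
  have hne1 : Nat.card Z₁ ≠ 1 := fun h1 => hZ1 (Subgroup.card_eq_one.1 h1)
  have hpos : 0 < Nat.card Z₁ := Nat.card_pos
  by_cases h4 : Nat.card Z₁ = 4
  · exact Subgroup.eq_of_le_of_card_ge hZW (by rw [hW.hW4, h4])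
  exfalso
  have h2 : Nat.card Z₁ = 2 := by
    interval_cases (Nat.card Z₁) <;> simp_all
  -- `K` centralizes `Z₁`
  have hrel : Z₁.relIndex W = 2 := by
    have := relIndex_mul_card_of_le hZW
    rw [h2, hW.hW4] at this
    omega
  have hKW := hW.K_le_normalizer_W
  apply hW.not_le_centralizer hgen
  conv_lhs => rw [← hgen]
  rw [Subgroup.closure_le]
  rintro g ⟨hgK, hodd⟩
  show g ∈ Subgroup.centralizer (W : Set X)
  rw [Subgroup.mem_centralizer_iff]
  intro w hw
  have hgN : g ∈ Subgroup.normalizer (Z₁ : Set X) := hKZ hgK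
  have hgNW : g ∈ Subgroup.normalizer (W : Set X) := hKW hgK
  -- `g` centralizes `Z₁`
  have hgZ : ∀ z ∈ Z₁, g * z = z * g := by
    intro z hz
    by_cases hz1 : z = 1
    · rw [hz1, mul_one, one_mul]
    have hz' : g * z * g⁻¹ ∈ Z₁ := (Subgroup.mem_normalizer_iff.1 hgN z).1 hz
    have hz'1 : g * z * g⁻¹ ≠ 1 := by
      intro h1
      apply hz1
      have : z = g⁻¹ * (g * z * g⁻¹) * g := by group
      rw [this, h1]; group
    obtain ⟨x, y, hxy, huniv⟩ := Nat.card_eq_two_iff.1 h2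
    have hall : ∀ t : ↥Z₁, t = x ∨ t = y := by
      intro t
      have : t ∈ ({x, y} : Set ↥Z₁) := by rw [huniv]; trivial
      simpa using this
    have key : ∀ a b : ↥Z₁, a ≠ 1 → b ≠ 1 → a = b := by
      intro a b ha hb
      rcases hall 1 with h1 | h1 <;> rcases hall a with h3 | h3 <;> rcases hall b with h4 | h4
      all_goals first
        | exact (ha (h3.trans h1.symm)).elim
        | exact (hb (h4.trans h1.symm)).elim
        | exact h3.trans h4.symm
    have h3 := key ⟨g * z * g⁻¹, hz'⟩ ⟨z, hz⟩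
      (fun h => hz'1 (congrArg Subtype.val h)) (fun h => hz1 (congrArg Subtype.val h))
    have h4 : g * z * g⁻¹ = z := congrArg Subtype.val h3
    calc g * z = g * z * g⁻¹ * g := by group
      _ = z * g := by rw [h4]
  -- `[w, g] ∈ Z₁`
  have hcZ : ⁅w, g⁆ ∈ Z₁ := by
    have hc : ⁅w, g⁆ = w * (g * w * g⁻¹)⁻¹ := by rw [commutatorElement_def]; group
    by_cases hwZ : w ∈ Z₁
    · rw [hc]
      exact Z₁.mul_mem hwZ (Z₁.inv_mem ((Subgroup.mem_normalizer_iff.1 hgN w).1 hwZ))
    · have hw' : g * w * g⁻¹ ∈ W := (Subgroup.mem_normalizer_iff.1 hgNW w).1 hw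
      have hw'Z : g * w * g⁻¹ ∉ Z₁ := by
        intro h1
        exact hwZ ((Subgroup.mem_normalizer_iff.1 hgN w).2 h1)
      obtain ⟨a, -, ha⟩ := Subgroup.relIndex_eq_two_iff.1 hrel
      have h1 : w * a ∈ Z₁ := by
        rcases ha w hw with ⟨h1, -⟩ | ⟨h1, -⟩
        · exact h1
        · exact absurd h1 hwZ
      have h3 : g * w * g⁻¹ * a ∈ Z₁ := by
        rcases ha _ hw' with ⟨h1, -⟩ | ⟨h1, -⟩
        · exact h1
        · exact absurd h1 hw'Z
      have h4 : w * (g * w * g⁻¹)⁻¹ = (w * a) * (g * w * g⁻¹ * a)⁻¹ := by group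
      rw [hc, h4]
      exact Z₁.mul_mem h1 (Z₁.inv_mem h3)
  have h1 := comm_eq_one_of_odd hodd (hW.hW2 _ (hZW hcZ)) (hgZ _ hcZ)
  exact (commutatorElement_eq_one_iff_mul_comm.1 h1)

end WHyp

end Cfsg.Agent.Helper1.JLS
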