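import Mathlib
import Cfsg.Prelude.Def_JComponents
import Cfsg.Agent.Helper1.JLSI

set_option autoImplicit false

/-!
`W_K ≤ V = Ω₁(Z(O₂(X)))`, the identification of `W_K` with `[V, E]`, and the abstract form of S2943:
`J(T)`-components whose four-groups meet nontrivially coincide.
-/

namespace Cfsg.Agent.Helper1.JLS

open scoped Pointwise commutatorElement

open Cfsg.Agent.Helper1 Cfsg.Agent.Helper1.Hol SemidirectProduct

universe u

variable {X : Type u} [Group X]

/-- commutators in the holomorph. -/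
theorem commutator_inl_psi (V : Subgroup X) [V.Normal] (v : ↥V) (k : X) :
    ⁅(inl v : HolG V), psi V k⁆ =
      inl (⟨⁅(v : X), k⁆, by
        rw [commutatorElement_def]
        have h1 : k * (v : X)⁻¹ * k⁻¹ ∈ V :=
          (inferInstance : V.Normal).conj_mem _ (V.inv_mem v.2) k
        have h2 : (v : X) * k * (v : X)⁻¹ * k⁻¹ = (v : X) * (k * (v : X)⁻¹ * k⁻¹) := by group
        rw [h2]
        exact V.mul_mem v.2 h1⟩ : ↥V) := by
  rw [commutatorElement_def]
  have h1 : (inl v : HolG V) * psi V k * (inl v)⁻¹ * (psi V k)⁻¹ =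
      inl v * (psi V k * inl v⁻¹ * (psi V k)⁻¹) := by
    rw [map_inv]; group
  rw [h1, psi_conj, ← map_mul]
  congr 1
  apply Subtype.ext
  simp only [Subgroup.coe_mul, MulAut.conjNormal_apply, Subgroup.coe_inv, commutatorElement_def]
  group

/-- The image in the holomorph of `[V, K]`. -/
theorem map_inl_commutator (V : Subgroup X) [V.Normal] (K : Subgroup X) :
    ((⁅V, K⁆ : Subgroup X).subgroupOf V).map (inl : ↥V →* HolG V) =
      ⁅VV V, K.map (psi V)⁆ := by
  apply le_antisymm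
  · -- `⁅V, K⁆ ≤ D`
    set D : Subgroup X := ((⁅VV V, K.map (psi V)⁆ : Subgroup (HolG V)).comap
      (inl : ↥V →* HolG V)).map V.subtype with hD
    have hle : ⁅V, K⁆ ≤ D := by
      rw [Subgroup.commutator_le]
      intro v hv k hk
      refine ⟨⟨⁅v, k⁆, ?_⟩, ?_, rfl⟩
      · rw [commutatorElement_def]
        have h1 : k * v⁻¹ * k⁻¹ ∈ V := (inferInstance : V.Normal).conj_mem _ (V.inv_mem hv) k
        have h2 : v * k * v⁻¹ * k⁻¹ = v * (k * v⁻¹ * k⁻¹) := by group
        rw [h2]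
        exact V.mul_mem hv h1
      · show (inl _ : HolG V) ∈ ⁅VV V, K.map (psi V)⁆
        have := commutator_inl_psi V ⟨v, hv⟩ k
        rw [← this]
        exact Subgroup.commutator_mem_commutator ⟨_, rfl⟩ (Subgroup.mem_map_of_mem _ hk)
    rintro _ ⟨u, hu, rfl⟩
    rw [SetLike.mem_coe, Subgroup.mem_subgroupOf] at hu
    obtain ⟨u', hu', huu⟩ := hle hu
    have : u' = u := Subtype.ext huu
    rw [← this]
    exact hu'
  · rw [Subgroup.commutator_le]
    rintro _ ⟨v, rfl⟩ _ ⟨k, hk, rfl⟩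
    rw [commutator_inl_psi]
    refine Subgroup.mem_map_of_mem _ ?_
    rw [Subgroup.mem_subgroupOf]
    exact Subgroup.commutator_mem_commutator v.2 hk

namespace WHyp

variable {T K R W : Subgroup X}

theorem pCore_le_normalizer_W [Finite X] (hW : WHyp K R W) (hK : CompHyp T K R) (h : LSHyp T) :
    Cfsg.pCore 2 X ≤ Subgroup.normalizer (W : Set X) := by
  have h1 : Cfsg.pCore 2 X ≤ Subgroup.normalizer (R : Set X) := by
    rw [← hK.K_inf_pCore h]
    exact FFact.le_normalizer_inf (hK.pCore_le_normalizer h) Subgroup.le_normalizer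
  rw [hW.hW]
  exact le_normalizer_commutator (h1.trans (normalizer_le_normalizer_omegaCenterOf R))
    (hK.pCore_le_normalizer h)

theorem W_le_pCore [Finite X] (hW : WHyp K R W) (hK : CompHyp T K R) (h : LSHyp T) :
    W ≤ Cfsg.pCore 2 X := hW.W_le_R.trans (hK.R_le_pCore h)

theorem W_le_centralizer_pCore [Finite X] (hW : WHyp K R W) (hK : CompHyp T K R)
    (h : LSHyp T) : W ≤ Subgroup.centralizer (Cfsg.pCore 2 X : Set X) := by
  obtain ⟨x, hxW, hx2, hxc⟩ := Cfsg.Agent.Helper5.exists_orderOf_eq_prime_central (p := 2)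
    (Cfsg.pCore 2 X) W (Cfsg.Agent.Helper5.isPGroup_pCore 2) (hW.W_le_pCore hK h) hW.W_ne_bot
    (hW.pCore_le_normalizer_W hK h)
  have hZ : W ⊓ Subgroup.centralizer (Cfsg.pCore 2 X : Set X) = W := by
    apply hW.eq_of_le_of_normalizes hK.hgen inf_le_left
    · intro hb
      have hx : x ∈ W ⊓ Subgroup.centralizer (Cfsg.pCore 2 X : Set X) := by
        refine ⟨hxW, ?_⟩
        show x ∈ Subgroup.centralizer (Cfsg.pCore 2 X : Set X)
        rw [Subgroup.mem_centralizer_iff]
        intro t ht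
        exact hxc t ht
      rw [hb, Subgroup.mem_bot] at hx
      rw [hx, orderOf_one] at hx2
      omega
    · refine FFact.le_normalizer_inf hW.K_le_normalizer_W ?_
      haveI : (Subgroup.centralizer (Cfsg.pCore 2 X : Set X)).Normal := Subgroup.normal_centralizer
      rw [Subgroup.normalizer_eq_top]; exact le_top
  rw [← hZ]
  exact inf_le_right

theorem W_le_VX [Finite X] (hW : WHyp K R W) (hK : CompHyp T K R) (h : LSHyp T) :
    W ≤ VX X := by
  intro w hw
  apply mem_VX X (hW.W_le_pCore hK h hw) (hW.W_le_centralizer_pCore hK h hw)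
  rw [pow_two]; exact hW.hW2 w hw

theorem commutator_W_K [Finite X] (hW : WHyp K R W) (hK : CompHyp T K R) : ⁅W, K⁆ = W := by
  apply hW.eq_of_le_of_normalizes hK.hgen
  · exact Subgroup.le_normalizer_iff_commutator_le_left.1 hW.K_le_normalizer_W
  · intro hb
    apply hW.not_le_centralizer hK.hgen
    rw [Subgroup.commutator_eq_bot_iff_le_centralizer, Subgroup.le_centralizer_iff] at hb
    exact hb
  · exact le_normalizer_commutator hW.K_le_normalizer_W Subgroup.le_normalizer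

/-- The image of `W_K` in the holomorph is `[V, E]`. -/
theorem map_inl_W [Finite X] (hW : WHyp K R W) (hK : CompHyp T K R) (h : LSHyp T)
    {B : Subgroup (HolG (VX X))} (hBH : B ≤ HH X) (hB : FFact.IsMinBest 2 (VV (VX X)) B)
    (hKB : ⁅K.map (psi (VX X)), B⁆ = K.map (psi (VX X))) :
    (W.subgroupOf (VX X)).map (inl : ↥(VX X) →* HolG (VX X)) =
      ⁅VV (VX X), ⁅OO X, B⁆ ⊔ B⁆ := by
  obtain ⟨-, -, -, h4, -⟩ := h.E_facts (hK.HH_ne_bot h) hBH hB
  have hKE : K.map (psi (VX X)) ≤ ⁅OO X, B⁆ ⊔ B := by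
    rw [hK.map_K_eq h hBH hB hKB]; exact inf_le_right
  have hWV := hW.W_le_VX hK h
  have hle : (W.subgroupOf (VX X)).map (inl : ↥(VX X) →* HolG (VX X)) ≤
      ⁅VV (VX X), ⁅OO X, B⁆ ⊔ B⁆ := by
    have h1 : W ≤ ⁅VX X, K⁆ := by
      conv_lhs => rw [← hW.commutator_W_K hK]
      exact Subgroup.commutator_mono hWV le_rfl
    calc (W.subgroupOf (VX X)).map (inl : ↥(VX X) →* HolG (VX X))
        ≤ ((⁅VX X, K⁆ : Subgroup X).subgroupOf (VX X)).map (inl : ↥(VX X) →* HolG (VX X)) :=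
          Subgroup.map_mono (Subgroup.comap_mono h1)
      _ = ⁅VV (VX X), K.map (psi (VX X))⁆ := map_inl_commutator (VX X) K
      _ ≤ ⁅VV (VX X), ⁅OO X, B⁆ ⊔ B⁆ := Subgroup.commutator_mono le_rfl hKE
  apply Subgroup.eq_of_le_of_card_ge hle
  rw [Subgroup.card_map_of_injective inl_injective, card_subgroupOf_of_le hWV, hW.hW4, h4]

end WHyp

/-- The abstract form of S2943/S2944: components whose four-groups meet nontrivially coincide. -/
theorem eq_of_W_inf_ne_bot [Finite X] {T K R W T' K' R' W' : Subgroup X}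
    (h : LSHyp T) (hK : CompHyp T K R) (hW : WHyp K R W)
    (h' : LSHyp T') (hK' : CompHyp T' K' R') (hW' : WHyp K' R' W') (hne : W ⊓ W' ≠ ⊥) :
    K = K' := by
  have hH1 := hK.HH_ne_bot h
  obtain ⟨a, B, -, -, hBmin, hBH, hKB⟩ := hK.exists_trv h
  obtain ⟨a', B', -, -, hB'min, hB'H, hK'B'⟩ := hK'.exists_trv h'
  obtain ⟨hE, -, -, -, -⟩ := h.E_facts hH1 hBH hBmin
  obtain ⟨hE', -, -, -, -⟩ := h.E_facts hH1 hB'H hB'min
  have hWi := hW.map_inl_W hK h hBH hBmin hKB
  have hW'i := hW'.map_inl_W hK' h' hB'H hB'min hK'B'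
  have hEE : ⁅OO X, B⁆ ⊔ B = ⁅OO X, B'⁆ ⊔ B' := by
    apply h.E_eq_of_comm_inf_ne_bot hH1 hE hE'
    rw [← hWi, ← hW'i]
    intro hb
    apply hne
    rw [eq_bot_iff]
    intro w hw
    have hwV : w ∈ VX X := hW.W_le_VX hK h hw.1
    have h1 : (inl (⟨w, hwV⟩ : ↥(VX X)) : HolG (VX X)) ∈
        (W.subgroupOf (VX X)).map (inl : ↥(VX X) →* HolG (VX X)) ⊓
        (W'.subgroupOf (VX X)).map (inl : ↥(VX X) →* HolG (VX X)) :=
      ⟨Subgroup.mem_map_of_mem _ (by rw [Subgroup.mem_subgroupOf]; exact hw.1),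
        Subgroup.mem_map_of_mem _ (by rw [Subgroup.mem_subgroupOf]; exact hw.2)⟩
    rw [hb, Subgroup.mem_bot] at h1
    have h2 : (⟨w, hwV⟩ : ↥(VX X)) = 1 := inl_injective (by rw [h1, map_one])
    rw [Subgroup.mem_bot]
    exact congrArg Subtype.val h2
  apply hK.eq_of_map_eq h hK' h'
  rw [hK.map_K_eq h hBH hBmin hKB, hK'.map_K_eq h' hB'H hB'min hK'B', hEE]

end Cfsg.Agent.Helper1.JLS
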