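import Mathlib
import Cfsg.Prelude.Def_JComponents
import Cfsg.Agent.Helper1.JLSJ

set_option autoImplicit false

/-!
Transport of the component hypotheses along injective homomorphisms, and their derivation from
`IsJComponent`.
-/

namespace Cfsg.Agent.Helper1.JLS

open scoped Pointwise commutatorElement

open Cfsg.Agent.Helper1

universe u

variable {G : Type u} [Group G] {G' : Type u} [Group G']

theorem closure_odd_map (f : G →* G') (hf : Function.Injective f) (K : Subgroup G) :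
    Subgroup.closure {g : G' | g ∈ K.map f ∧ Odd (orderOf g)} =
      (Subgroup.closure {g : G | g ∈ K ∧ Odd (orderOf g)}).map f := by
  rw [MonoidHom.map_closure]
  congr 1
  ext y
  constructor
  · rintro ⟨⟨x, hx, rfl⟩, hodd⟩
    refine ⟨x, ⟨hx, ?_⟩, rfl⟩
    rwa [orderOf_injective f hf] at hodd
  · rintro ⟨x, ⟨hx, hodd⟩, rfl⟩
    refine ⟨⟨x, hx, rfl⟩, ?_⟩
    rwa [orderOf_injective f hf]

theorem omegaCenterOf_map (f : G →* G') (hf : Function.Injective f) (R : Subgroup G) :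
    Cfsg.omegaCenterOf (R.map f) = (Cfsg.omegaCenterOf R).map f := by
  unfold Cfsg.omegaCenterOf
  rw [omegaOne_map_of_injective 2 _ f hf, map_inf_centralizer_self f hf]

theorem map_le_normalizer_map_iff (f : G →* G') (hf : Function.Injective f) (K R : Subgroup G) :
    K.map f ≤ Subgroup.normalizer ((R.map f : Subgroup G') : Set G') ↔
      K ≤ Subgroup.normalizer (R : Set G) := by
  constructor
  · intro h k hk
    have h1 := h (Subgroup.mem_map_of_mem f hk)
    rw [Subgroup.mem_normalizer_iff] at h1 ⊢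
    intro r
    have h2 := h1 (f r)
    rw [← map_inv, ← map_mul, ← map_mul, Subgroup.mem_map_iff_mem hf,
      Subgroup.mem_map_iff_mem hf] at h2
    exact h2
  · intro h
    exact (Subgroup.map_mono h).trans (Subgroup.le_normalizer_map f)

theorem compHyp_map_iff (f : G →* G') (hf : Function.Injective f) (T K R : Subgroup G) :
    CompHyp (T.map f) (K.map f) (R.map f) ↔ CompHyp T K R := by
  have h1 : (Subgroup.closure {g : G' | g ∈ K.map f ∧ Odd (orderOf g)} = K.map f) ↔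
      (Subgroup.closure {g : G | g ∈ K ∧ Odd (orderOf g)} = K) := by
    rw [closure_odd_map f hf]
    exact (Subgroup.map_injective hf).eq_iff
  have h2 : (⁅K.map f, Cfsg.thompsonSubgroupOf 2 (T.map f)⁆ = K.map f) ↔
      (⁅K, Cfsg.thompsonSubgroupOf 2 T⁆ = K) := by
    rw [thompsonSubgroupOf_map_injective 2 f hf, ← Subgroup.map_commutator]
    exact (Subgroup.map_injective hf).eq_iff
  have h3 : IsPGroup 2 ↥(R.map f) ↔ IsPGroup 2 ↥R := by
    constructor
    · intro h
      exact h.of_injective (f.subgroupMap R) (by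
        intro a b hab
        apply Subtype.ext
        apply hf
        exact congrArg Subtype.val hab)
    · intro h; exact h.map f
  constructor
  · rintro ⟨a, b, c, d, e⟩
    exact ⟨h1.1 a, h2.1 b, (Subgroup.map_le_map_iff_of_injective hf).1 c, h3.1 d,
      by rwa [Subgroup.relIndex_map_map_of_injective _ _ hf] at e⟩
  · rintro ⟨a, b, c, d, e⟩
    exact ⟨h1.2 a, h2.2 b, Subgroup.map_mono c, h3.2 d,
      by rwa [Subgroup.relIndex_map_map_of_injective _ _ hf]⟩

theorem wHyp_map_iff (f : G →* G') (hf : Function.Injective f) (K R W : Subgroup G) :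
    WHyp (K.map f) (R.map f) (W.map f) ↔ WHyp K R W := by
  have h2 : (W.map f = ⁅Cfsg.omegaCenterOf (R.map f), K.map f⁆) ↔
      (W = ⁅Cfsg.omegaCenterOf R, K⁆) := by
    rw [omegaCenterOf_map f hf, ← Subgroup.map_commutator]
    exact (Subgroup.map_injective hf).eq_iff
  have h4 : (∀ w ∈ W.map f, w * w = 1) ↔ (∀ w ∈ W, w * w = 1) := by
    constructor
    · intro h w hw
      apply hf
      rw [map_mul, map_one]
      exact h _ (Subgroup.mem_map_of_mem f hw)
    · rintro h _ ⟨w, hw, rfl⟩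
      rw [← map_mul, h w hw, map_one]
  constructor
  · rintro ⟨a, b, c, d⟩
    exact ⟨(map_le_normalizer_map_iff f hf K R).1 a, h2.1 b,
      by rwa [Subgroup.card_map_of_injective hf] at c, h4.1 d⟩
  · rintro ⟨a, b, c, d⟩
    exact ⟨(map_le_normalizer_map_iff f hf K R).2 a, h2.2 b,
      by rwa [Subgroup.card_map_of_injective hf], h4.2 d⟩

/-- The component hypotheses for a `J(T)`-component. -/
theorem compHyp_of_isJComponent' {T K : Subgroup G} (hK : Cfsg.IsJComponent T K) :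
    CompHyp T K (Cfsg.pCoreOf 2 K) ∧ WHyp K (Cfsg.pCoreOf 2 K) (Cfsg.wOf K) := by
  obtain ⟨hgen, hKJ, hidx, -, hW4, hW2⟩ := hK
  refine ⟨⟨hgen, hKJ, Subgroup.map_subtype_le _, (Cfsg.Agent.Helper5.isPGroup_pCore 2).map _,
    hidx⟩, ⟨Cfsg.Agent.Lead.KInf.pCoreOf_le_normalizer 2 K, rfl, hW4, hW2⟩⟩

/-- Transport to a subgroup `L` containing everything. -/
theorem compHyp_subgroupOf {T K R L : Subgroup G} (hTL : T ≤ L) (hKL : K ≤ L) (hRL : R ≤ L)
    (hK : CompHyp T K R) : CompHyp (T.subgroupOf L) (K.subgroupOf L) (R.subgroupOf L) := by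
  rw [← compHyp_map_iff L.subtype L.subtype_injective, Subgroup.map_subgroupOf_eq_of_le hTL,
    Subgroup.map_subgroupOf_eq_of_le hKL, Subgroup.map_subgroupOf_eq_of_le hRL]
  exact hK

theorem wHyp_subgroupOf {K R W L : Subgroup G} (hKL : K ≤ L) (hRL : R ≤ L) (hWL : W ≤ L)
    (hW : WHyp K R W) : WHyp (K.subgroupOf L) (R.subgroupOf L) (W.subgroupOf L) := by
  rw [← wHyp_map_iff L.subtype L.subtype_injective, Subgroup.map_subgroupOf_eq_of_le hKL,
    Subgroup.map_subgroupOf_eq_of_le hRL, Subgroup.map_subgroupOf_eq_of_le hWL]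
  exact hW

/-- The main uniqueness statement inside `G`: two `J`-components of `L` (possibly for different
Sylow `2`-subgroups of `L`) whose four-groups meet nontrivially coincide. -/
theorem eq_of_W_inf_ne_bot_of_le [Finite G]
    (hN : ∀ N : Subgroup G, Cfsg.IsTwoLocal N → Group.IsSolvable ↥N)
    (hZ : ∀ S : Sylow 2 G, Subgroup.centralizer (Cfsg.omegaCenterOf (S : Subgroup G) : Set G) ≤
      Subgroup.normalizer ((S : Subgroup G) : Set G))
    {T T' L K K' R R' W W' : Subgroup G} (hT1 : T ≠ ⊥) (hT'1 : T' ≠ ⊥)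
    (hLT : L ∈ Cfsg.jOvergroups T) (hLT' : L ∈ Cfsg.jOvergroups T')
    (hC : CompHyp T K R) (hW : WHyp K R W) (hC' : CompHyp T' K' R') (hW' : WHyp K' R' W')
    (hKL : K ≤ L) (hK'L : K' ≤ L) (hne : W ⊓ W' ≠ ⊥) : K = K' := by
  obtain ⟨h, -⟩ := lsHyp_of_mem_jOvergroups hN hZ hT1 hLT
  obtain ⟨h', -⟩ := lsHyp_of_mem_jOvergroups hN hZ hT'1 hLT'
  have hTL : T ≤ L := hLT.1.1
  have hT'L : T' ≤ L := hLT'.1.1
  have hRL : R ≤ L := hC.hRK.trans hKL
  have hR'L : R' ≤ L := hC'.hRK.trans hK'L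
  have hWL : W ≤ L := (hW.W_le_R.trans hC.hRK).trans hKL
  have hW'L : W' ≤ L := (hW'.W_le_R.trans hC'.hRK).trans hK'L
  have key := eq_of_W_inf_ne_bot h (compHyp_subgroupOf hTL hKL hRL hC)
    (wHyp_subgroupOf hKL hRL hWL hW) h' (compHyp_subgroupOf hT'L hK'L hR'L hC')
    (wHyp_subgroupOf hK'L hR'L hW'L hW') (by
      intro hb
      apply hne
      rw [eq_bot_iff]
      intro w hw
      have h1 : (⟨w, hWL hw.1⟩ : ↥L) ∈ W.subgroupOf L ⊓ W'.subgroupOf L :=
        ⟨Subgroup.mem_subgroupOf.2 hw.1, Subgroup.mem_subgroupOf.2 hw.2⟩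
      rw [hb, Subgroup.mem_bot] at h1
      rw [Subgroup.mem_bot]
      exact congrArg Subtype.val h1)
  have h1 := congrArg (Subgroup.map L.subtype) key
  rwa [Subgroup.map_subgroupOf_eq_of_le hKL, Subgroup.map_subgroupOf_eq_of_le hK'L] at h1

theorem eq_of_wOf_inf_ne_bot [Finite G]
    (hN : ∀ N : Subgroup G, Cfsg.IsTwoLocal N → Group.IsSolvable ↥N)
    (hZ : ∀ S : Sylow 2 G, Subgroup.centralizer (Cfsg.omegaCenterOf (S : Subgroup G) : Set G) ≤
      Subgroup.normalizer ((S : Subgroup G) : Set G))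
    {T T' L K K' : Subgroup G} (hT1 : T ≠ ⊥) (hT'1 : T' ≠ ⊥) (hLT : L ∈ Cfsg.jOvergroups T)
    (hLT' : L ∈ Cfsg.jOvergroups T') (hK : Cfsg.IsJComponent T K) (hK' : Cfsg.IsJComponent T' K')
    (hKL : K ≤ L) (hK'L : K' ≤ L) (hne : Cfsg.wOf K ⊓ Cfsg.wOf K' ≠ ⊥) : K = K' := by
  obtain ⟨hC, hW⟩ := compHyp_of_isJComponent' hK
  obtain ⟨hC', hW'⟩ := compHyp_of_isJComponent' hK'
  exact eq_of_W_inf_ne_bot_of_le hN hZ hT1 hT'1 hLT hLT' hC hW hC' hW' hKL hK'L hne

end Cfsg.Agent.Helper1.JLS
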