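import Mathlib
import Cfsg.Prelude.Def_JComponents
import Cfsg.Agent.Helper1.JLSK
import Cfsg.Agent.Lead.JCompA
import Cfsg.Agent.Lead.JCompF

set_option autoImplicit false

/-!
Invariance of `IsJComponent` under automorphisms, and a transfer lemma for Thompson subgroups.
-/

namespace Cfsg.Agent.Helper1.JLS

open scoped Pointwise commutatorElement

open Cfsg.Agent.Helper1

universe u

variable {G : Type u} [Group G]

theorem isSylowTwoIn_map_iff {G' : Type*} [Group G'] (f : G →* G') (hf : Function.Injective f)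
    (S M : Subgroup G) :
    Cfsg.IsSylowTwoIn (S.map f) (M.map f) ↔ Cfsg.IsSylowTwoIn S M := by
  unfold Cfsg.IsSylowTwoIn
  rw [Subgroup.map_le_map_iff_of_injective hf, Subgroup.relIndex_map_map_of_injective _ _ hf]
  have h3 : IsPGroup 2 ↥(S.map f) ↔ IsPGroup 2 ↥S := by
    constructor
    · intro h
      exact h.of_injective (f.subgroupMap S) (by
        intro a b hab
        apply Subtype.ext
        apply hf
        exact congrArg Subtype.val hab)
    · intro h; exact h.map f
  rw [h3]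

/-- `IsJComponent` depends on `T` only through `J(T)`. -/
theorem isJComponent_congr {T T' K : Subgroup G}
    (hJ : Cfsg.thompsonSubgroupOf 2 T = Cfsg.thompsonSubgroupOf 2 T')
    (hK : Cfsg.IsJComponent T K) : Cfsg.IsJComponent T' K := by
  unfold Cfsg.IsJComponent at hK ⊢
  rw [← hJ]
  exact hK

/-- `IsJComponent` is invariant under automorphisms. -/
theorem isJComponent_map (φ : G ≃* G) {T K : Subgroup G} (hK : Cfsg.IsJComponent T K) :
    Cfsg.IsJComponent (T.map φ.toMonoidHom) (K.map φ.toMonoidHom) := by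
  obtain ⟨hC, hW⟩ := compHyp_of_isJComponent' hK
  have hinj : Function.Injective φ.toMonoidHom := φ.injective
  have hC' := (compHyp_map_iff φ.toMonoidHom hinj T K _).2 hC
  have hW' := (wHyp_map_iff φ.toMonoidHom hinj K _ _).2 hW
  have hR : (Cfsg.pCoreOf 2 K).map φ.toMonoidHom = Cfsg.pCoreOf 2 (K.map φ.toMonoidHom) :=
    (Cfsg.Agent.Lead.LLem.pCoreOf_map φ.toMonoidHom hinj K).symm
  have hWm : (Cfsg.wOf K).map φ.toMonoidHom = Cfsg.wOf (K.map φ.toMonoidHom) :=
    (Cfsg.Agent.Lead.JComp.wOf_map φ K).symm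
  rw [hR] at hC' hW'
  rw [hWm] at hW'
  refine ⟨hC'.hgen, hC'.hKJ, hC'.hidx, ?_, hW'.hW4, hW'.hW2⟩
  intro S hS hJS
  rw [thompsonSubgroupOf_map_injective 2 φ.toMonoidHom hinj, ← Subgroup.map_sup] at hS
  rw [thompsonSubgroupOf_map_injective 2 φ.toMonoidHom hinj] at hJS ⊢
  have hSeq : S = (S.comap φ.toMonoidHom).map φ.toMonoidHom := by
    rw [Subgroup.map_comap_eq_self_of_surjective φ.surjective]
  rw [hSeq] at hS hJS ⊢
  rw [isSylowTwoIn_map_iff φ.toMonoidHom hinj] at hS
  rw [Subgroup.map_le_map_iff_of_injective hinj] at hJS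
  rw [thompsonSubgroupOf_map_injective 2 φ.toMonoidHom hinj, hK.2.2.2.1 _ hS hJS]

/-- all maximal elementary abelian subgroups have the same order. -/
theorem card_maxEA_eq {P : Type*} [Group P] {p : ℕ} {A B : Subgroup P}
    (hA : A ∈ Cfsg.maxElementaryAbelianSubgroups p P)
    (hB : B ∈ Cfsg.maxElementaryAbelianSubgroups p P) : Nat.card A = Nat.card B :=
  le_antisymm (hB.2 A hA.1) (hA.2 B hB.1)

/-- Transfer: if `J(P) ≤ S` and elementary abelian subgroups of `S` are not larger than those of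
`P`, then `J(P) ≤ J(S)`. -/
theorem thompsonSubgroupOf_le_of_le [Finite G] (p : ℕ) (P S : Subgroup G)
    (h1 : Cfsg.thompsonSubgroupOf p P ≤ S)
    (h2 : ∀ B : Subgroup G, B ≤ S → Cfsg.IsElementaryAbelian p B →
      ∃ A' ∈ Cfsg.maxElementaryAbelianSubgroups p ↥P, Nat.card B ≤ Nat.card A') :
    Cfsg.thompsonSubgroupOf p P ≤ Cfsg.thompsonSubgroupOf p S := by
  obtain ⟨B', hB'⟩ := maxElementaryAbelianSubgroups_nonempty (G := ↥S) p
  have hBS : B'.map S.subtype ≤ S := Subgroup.map_subtype_le _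
  obtain ⟨A'', hA'', hcard⟩ := h2 _ hBS (IsElementaryAbelian_map hB'.1 _)
  rw [Subgroup.card_map_of_injective S.subtype_injective] at hcard
  conv_lhs => rw [Cfsg.thompsonSubgroupOf, Cfsg.thompsonSubgroup]
  rw [Subgroup.map_le_iff_le_comap]
  apply sSup_le
  intro A' hA'
  rw [← Subgroup.map_le_iff_le_comap]
  have hAJ : A'.map P.subtype ≤ Cfsg.thompsonSubgroupOf p P :=
    Cfsg.Agent.Lead.map_le_thompsonSubgroupOf p P A' hA'
  apply Cfsg.Agent.Lead.le_thompsonSubgroupOf_of_card p S _ (hAJ.trans h1)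
    (IsElementaryAbelian_map hA'.1 _) B' hB'
  rw [Subgroup.card_map_of_injective P.subtype_injective, card_maxEA_eq hA' hA'']
  exact hcard

end Cfsg.Agent.Helper1.JLS
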