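import Mathlib
import Cfsg.Prelude.Def_JComponents
import Cfsg.Agent.Helper1.JLSL

set_option autoImplicit false

/-!
S2944: for `K ∈ jComponentsZero T`, `N_G(K) = N_G(W_K)`, and `K` is a `J(T^g)`-component whenever
`J(T^g) ≤ N_G(W_K)`.
-/

namespace Cfsg.Agent.Helper1.JLS

open scoped Pointwise commutatorElement

open Cfsg.Agent.Helper1

universe u

variable {G : Type u} [Group G]

theorem maxEA_map_equiv {P P' : Type*} [Group P] [Group P'] {p : ℕ} (e : P ≃* P')
    {A : Subgroup P} (hA : A ∈ Cfsg.maxElementaryAbelianSubgroups p P) :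
    A.map e.toMonoidHom ∈ Cfsg.maxElementaryAbelianSubgroups p P' := by
  refine ⟨IsElementaryAbelian_map hA.1 _, ?_⟩
  intro B hB
  rw [Subgroup.card_map_of_injective e.injective]
  have h1 := hA.2 (B.map e.symm.toMonoidHom) (IsElementaryAbelian_map hB _)
  rwa [Subgroup.card_map_of_injective e.symm.injective] at h1

/-- `N_G(W_K)` lies in `jOvergroups S` for a Sylow `2`-subgroup `S` of it with `J(S) = J(T)`. -/
theorem normalizer_wOf_mem_jOvergroups [Finite G] (hL : Cfsg.IsCharacteristicTwoType G)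
    {T K S : Subgroup G} (hK : Cfsg.IsJComponent T K)
    (hS : Cfsg.IsSylowTwoIn S (Subgroup.normalizer (Cfsg.wOf K : Set G)))
    (hJS : Cfsg.thompsonSubgroupOf 2 S = Cfsg.thompsonSubgroupOf 2 T) :
    Subgroup.normalizer (Cfsg.wOf K : Set G) ∈ Cfsg.jOvergroups S := by
  obtain ⟨hC, hW⟩ := compHyp_of_isJComponent' hK
  set W := Cfsg.wOf K with hWdef
  set N := Subgroup.normalizer (W : Set G) with hNdef
  have hW2 : IsPGroup 2 ↥W := IsPGroup.of_card (n := 2) (by rw [hW.hW4]; norm_num)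
  have hKN : K ≤ N := hW.K_le_normalizer_W
  have hWN : W ≤ N := Subgroup.le_normalizer
  have hWO : W ≤ Cfsg.pCoreOf 2 N := Cfsg.Agent.Lead.LLem.le_pCoreOf hWN hW2 le_rfl
  refine ⟨hS, ?_, ?_⟩
  · intro hle
    rw [hJS] at hle
    apply hC.not_isPGroup
    have h1 : K ≤ Cfsg.pCoreOf 2 N := by
      rw [← hC.hKJ]
      refine (Subgroup.commutator_mono hKN hle).trans ?_
      rw [Subgroup.commutator_comm]
      exact Subgroup.le_normalizer_iff_commutator_le_left.1
        (Cfsg.Agent.Lead.KInf.pCoreOf_le_normalizer 2 N)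
    exact (Cfsg.Agent.Lead.LLem.isPGroup_pCoreOf N).to_le h1
  · intro x hx
    have hxW : x ∈ Subgroup.centralizer (W : Set G) :=
      Subgroup.centralizer_le (SetLike.coe_subset_coe.2 hWO) hx
    have hxN : x ∈ N := Subgroup.centralizer_le_normalizer _ hxW
    have hchar := hL.2 W hW2 hW.W_ne_bot
    have h1 : (⟨x, hxN⟩ : ↥N) ∈ Subgroup.centralizer (Cfsg.pCore 2 ↥N : Set ↥N) := by
      rw [Subgroup.mem_centralizer_iff]
      intro q hq
      apply Subtype.ext
      exact Subgroup.mem_centralizer_iff.1 hx (q : G) ⟨q, hq, rfl⟩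
    exact ⟨⟨x, hxN⟩, hchar h1, rfl⟩

theorem s2944_core [Finite G] (hL : Cfsg.IsCharacteristicTwoType G)
    (hN : ∀ N : Subgroup G, Cfsg.IsTwoLocal N → Group.IsSolvable ↥N)
    (hZ : ∀ S : Sylow 2 G, Subgroup.centralizer (Cfsg.omegaCenterOf (S : Subgroup G) : Set G) ≤
      Subgroup.normalizer ((S : Subgroup G) : Set G))
    (T : Subgroup G) (hT : IsPGroup 2 ↥T) (K : Subgroup G) (hK : K ∈ Cfsg.jComponentsZero T) :
    Subgroup.normalizer (K : Set G) = Subgroup.normalizer (Cfsg.wOf K : Set G) ∧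
      ∀ g : G, Cfsg.thompsonSubgroupOf 2 (T.map (MulAut.conj g).toMonoidHom) ≤
          Subgroup.normalizer (Cfsg.wOf K : Set G) →
        Cfsg.IsJComponent (T.map (MulAut.conj g).toMonoidHom) K := by
  obtain ⟨hKJ, hzero⟩ := hK
  obtain ⟨hC, hW⟩ := compHyp_of_isJComponent' hKJ
  set J := Cfsg.thompsonSubgroupOf 2 T with hJdef
  set W := Cfsg.wOf K with hWdef
  set N := Subgroup.normalizer (W : Set G) with hNdef
  have hNKW : Subgroup.normalizer (K : Set G) ≤ N := by
    intro g hg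
    rw [hNdef, Subgroup.mem_normalizer_iff_map_conj_eq]
    exact Cfsg.Agent.Lead.JComp.wOf_conj hg
  have hKN : K ≤ N := Subgroup.le_normalizer.trans hNKW
  have hJN : J ≤ N := hC.J_le_normalizer.trans hNKW
  have hJT : J ≤ T := Cfsg.Agent.Lead.thompsonSubgroupOf_le 2 T
  have hJ2 : IsPGroup 2 ↥J := hT.to_le hJT
  obtain ⟨S', hS'syl, hJS'⟩ := Cfsg.Agent.Lead.JComp.exists_sylowTwoIn hJ2 hJN
  have hJS'eq : Cfsg.thompsonSubgroupOf 2 S' = J := hzero S' hJS' hS'syl
  have hNS' := normalizer_wOf_mem_jOvergroups hL hKJ hS'syl hJS'eq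
  have hKS' : Cfsg.IsJComponent S' K := isJComponent_congr hJS'eq.symm hKJ
  have hJ1 : J ≠ ⊥ := by
    intro hb
    apply hC.K_ne_bot
    rw [← hC.hKJ, ← hJdef, hb]
    exact Subgroup.commutator_bot_right K
  have hS'1 : S' ≠ ⊥ := by
    intro hb
    apply hJ1
    rw [eq_bot_iff, ← hb]; exact hJS'
  obtain ⟨hS'N, hS'2, hS'odd⟩ := hS'syl
  -- part 1
  have part1 : N ≤ Subgroup.normalizer (K : Set G) := by
    intro n hn
    rw [Subgroup.mem_normalizer_iff_map_conj_eq]
    set φ := MulAut.conj n with hφ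
    have hinj : Function.Injective φ.toMonoidHom := φ.injective
    have hNn : N.map φ.toMonoidHom = N :=
      (Subgroup.mem_normalizer_iff_map_conj_eq).1 (Subgroup.le_normalizer hn)
    have hWn : W.map φ.toMonoidHom = W := (Subgroup.mem_normalizer_iff_map_conj_eq).1 hn
    have hKn := isJComponent_map φ hKS'
    have hS'n : Cfsg.IsSylowTwoIn (S'.map φ.toMonoidHom) N := by
      have := (isSylowTwoIn_map_iff φ.toMonoidHom hinj S' N).2 ⟨hS'N, hS'2, hS'odd⟩
      rwa [hNn] at this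
    have hNS'n : N ∈ Cfsg.jOvergroups (S'.map φ.toMonoidHom) := by
      refine ⟨hS'n, ?_, hNS'.2.2⟩
      rw [thompsonSubgroupOf_map_injective 2 φ.toMonoidHom hinj]
      intro hle
      apply hNS'.2.1
      have h1 : (Cfsg.pCoreOf 2 N).map φ.toMonoidHom = Cfsg.pCoreOf 2 N :=
        Cfsg.Agent.Lead.JComp.pCoreOf_conj (Subgroup.le_normalizer hn)
      rw [← h1, Subgroup.map_le_map_iff_of_injective hinj] at hle
      exact hle
    have hS'n1 : S'.map φ.toMonoidHom ≠ ⊥ := by
      intro hb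
      apply hS'1
      rwa [Subgroup.map_eq_bot_iff_of_injective _ hinj] at hb
    have hKnN : K.map φ.toMonoidHom ≤ N := by
      rw [← hNn]; exact Subgroup.map_mono hKN
    symm
    apply eq_of_wOf_inf_ne_bot hN hZ hS'1 hS'n1 hNS' hNS'n hKS' hKn hKN hKnN
    rw [Cfsg.Agent.Lead.JComp.wOf_map φ K, ← hWdef, hWn, inf_idem]
    exact hW.W_ne_bot
  refine ⟨le_antisymm hNKW part1, ?_⟩
  -- part 2
  intro g hg
  set P := T.map (MulAut.conj g).toMonoidHom with hP
  have hJP : Cfsg.thompsonSubgroupOf 2 P = J.map (MulAut.conj g).toMonoidHom :=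
    thompsonSubgroupOf_map_injective 2 _ (MulAut.conj g).injective T
  have hJP2 : IsPGroup 2 ↥(Cfsg.thompsonSubgroupOf 2 P) := by
    rw [hJP]; exact hJ2.map _
  have hfacS' : Nat.card S' = 2 ^ (Nat.card N).factorization 2 := by
    obtain ⟨k, hk⟩ := IsPGroup.iff_card.1 hS'2
    have h1 : S'.relIndex N * Nat.card S' = Nat.card N := relIndex_mul_card_of_le hS'N
    rw [hk]
    congr 1
    rw [← h1, hk, Nat.factorization_mul (Nat.pos_of_ne_zero (by
      intro h0; rw [h0] at hS'odd; exact (Nat.not_odd_iff_even.2 (by decide : Even 0)) hS'odd)).ne'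
      (pow_pos (by norm_num) k).ne']
    have h2 : (S'.relIndex N).factorization 2 = 0 := by
      apply Nat.factorization_eq_zero_of_not_dvd
      intro h2
      exact (Nat.not_even_iff_odd.2 hS'odd) (even_iff_two_dvd.2 h2)
    simp [h2, Nat.Prime.factorization_pow Nat.prime_two]
  obtain ⟨m, hmN, hm⟩ := Cfsg.Agent.Lead.exists_conj_le_of_card_eq_ppart (p := 2) hS'N hfacS' hg hJP2
  -- `J(P^m) ≤ S'`, so `J(P^m) = J`
  set P' := P.map (MulAut.conj m).toMonoidHom with hP'
  have hJP' : Cfsg.thompsonSubgroupOf 2 P' =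
      (Cfsg.thompsonSubgroupOf 2 P).map (MulAut.conj m).toMonoidHom :=
    thompsonSubgroupOf_map_injective 2 _ (MulAut.conj m).injective P
  have hJP'S : Cfsg.thompsonSubgroupOf 2 P' ≤ S' := by rw [hJP']; exact hm
  have hinj2 : Function.Injective ((MulAut.conj m).toMonoidHom.comp (MulAut.conj g).toMonoidHom) :=
    (MulAut.conj m).injective.comp (MulAut.conj g).injective
  have hP'eq : P' = T.map ((MulAut.conj m).toMonoidHom.comp (MulAut.conj g).toMonoidHom) := by
    rw [hP', hP, Subgroup.map_map]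
  have hle : Cfsg.thompsonSubgroupOf 2 P' ≤ Cfsg.thompsonSubgroupOf 2 S' := by
    apply thompsonSubgroupOf_le_of_le 2 P' S' hJP'S
    intro B hBS hB
    obtain ⟨B₀', hB₀'⟩ := maxElementaryAbelianSubgroups_nonempty (G := ↥S') 2
    obtain ⟨A_T', hA_T'⟩ := maxElementaryAbelianSubgroups_nonempty (G := ↥T) 2
    have h1 : Nat.card B ≤ Nat.card B₀' := by
      rw [← card_subgroupOf_of_le hBS]
      exact hB₀'.2 _ (Cfsg.Agent.Lead.isElementaryAbelian_subgroupOf 2 B S' hB)
    have hB₀T : B₀'.map S'.subtype ≤ T := by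
      refine le_trans ?_ (hJS'eq.le.trans hJT)
      exact Cfsg.Agent.Lead.map_le_thompsonSubgroupOf 2 S' B₀' hB₀'
    have h2 : Nat.card B₀' ≤ Nat.card A_T' := by
      rw [← Subgroup.card_map_of_injective S'.subtype_injective, ← card_subgroupOf_of_le hB₀T]
      exact hA_T'.2 _ (Cfsg.Agent.Lead.isElementaryAbelian_subgroupOf 2 _ T
        (IsElementaryAbelian_map hB₀'.1 _))
    have e : ↥T ≃* ↥P' :=
      (T.equivMapOfInjective _ hinj2).trans (MulEquiv.subgroupCongr hP'eq.symm)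
    refine ⟨A_T'.map e.toMonoidHom, maxEA_map_equiv e hA_T', ?_⟩
    rw [Subgroup.card_map_of_injective e.injective]
    exact h1.trans h2
  rw [hJS'eq] at hle
  have hcard : Nat.card ↥(Cfsg.thompsonSubgroupOf 2 P') = Nat.card ↥J := by
    rw [hJP', hJP, Subgroup.card_map_of_injective (MulAut.conj m).injective,
      Subgroup.card_map_of_injective (MulAut.conj g).injective]
  have hJeq : Cfsg.thompsonSubgroupOf 2 P' = J :=
    Subgroup.eq_of_le_of_card_ge hle (by rw [hcard])
  -- hence `J(P) = J^{m⁻¹}`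
  have hJPm : Cfsg.thompsonSubgroupOf 2 P = J.map (MulAut.conj m⁻¹).toMonoidHom := by
    rw [← hJeq, hJP', Subgroup.map_map]
    have : (MulAut.conj m⁻¹).toMonoidHom.comp (MulAut.conj m).toMonoidHom = MonoidHom.id G := by
      ext x; simp; group
    rw [this, Subgroup.map_id]
  have hm' : m⁻¹ ∈ Subgroup.normalizer (K : Set G) := part1 (N.inv_mem hmN)
  have hKm := isJComponent_map (MulAut.conj m⁻¹) hKJ
  have hKeq : K.map (MulAut.conj m⁻¹).toMonoidHom = K :=
    (Subgroup.mem_normalizer_iff_map_conj_eq).1 hm'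
  rw [hKeq] at hKm
  apply isJComponent_congr _ hKm
  rw [thompsonSubgroupOf_map_injective 2 _ (MulAut.conj m⁻¹).injective T, hJPm]

end Cfsg.Agent.Helper1.JLS
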