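import Mathlib
import Cfsg.Prelude.Def_JComponents
import Cfsg.Agent.Helper1.JLSM

set_option autoImplicit false

/-!
General lemmas for the construction of `J(T)`-components: relative fixed points of `p`-groups,
an `S₃`-lemma, and the "norm" description of `[Y, d]` for an element `d` of order `3` acting on an
elementary abelian `2`-group `Y`.
-/

namespace Cfsg.Agent.Helper1.JLS

open scoped Pointwise commutatorElement

open Cfsg.Agent.Helper1

universe u

variable {X : Type u} [Group X]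

/-- iterated commutators `[U, P, …, P]`. -/
def iterComm (U P : Subgroup X) : ℕ → Subgroup X
  | 0 => U
  | n + 1 => ⁅iterComm U P n, P⁆

theorem iterComm_le_normalizer {U P : Subgroup X} (hPU : P ≤ Subgroup.normalizer (U : Set X))
    (n : ℕ) : P ≤ Subgroup.normalizer (iterComm U P n : Set X) := by
  induction n with
  | zero => exact hPU
  | succ n ih => exact Cfsg.Agent.Helper2.le_normalizer_commutator_right _ _

theorem iterComm_le {U P : Subgroup X} (hPU : P ≤ Subgroup.normalizer (U : Set X))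
    (n : ℕ) : iterComm U P n ≤ U := by
  induction n with
  | zero => exact le_rfl
  | succ n ih =>
    exact (Subgroup.le_normalizer_iff_commutator_le_left.1 (iterComm_le_normalizer hPU n)).trans ih

theorem iterComm_eq_bot [Finite X] {p : ℕ} [Fact p.Prime] {U P : Subgroup X}
    (hU : IsPGroup p ↥U) (hP : IsPGroup p ↥P) (hPU : P ≤ Subgroup.normalizer (U : Set X)) :
    ∃ n, iterComm U P n = ⊥ := by
  have key : ∀ n, iterComm U P n = ⊥ ∨ Nat.card ↥(iterComm U P n) + n ≤ Nat.card ↥U := by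
    intro n
    induction n with
    | zero => right; simp [iterComm]
    | succ n ih =>
      rcases ih with h0 | h1
      · left
        show ⁅iterComm U P n, P⁆ = ⊥
        rw [h0]
        exact Subgroup.commutator_bot_left P
      · by_cases hb : iterComm U P n = ⊥
        · left
          show ⁅iterComm U P n, P⁆ = ⊥
          rw [hb]
          exact Subgroup.commutator_bot_left P
        · right
          have hlt := commutator_lt_of_isPGroup (hU.to_le (iterComm_le hPU n)) hP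
            (iterComm_le_normalizer hPU n) hb
          have := card_lt_card_of_lt hlt
          show Nat.card ↥(⁅iterComm U P n, P⁆) + (n + 1) ≤ Nat.card ↥U
          omega
  rcases key (Nat.card ↥U) with h0 | h1
  · exact ⟨_, h0⟩
  · exfalso
    have : 0 < Nat.card ↥(iterComm U P (Nat.card ↥U)) := Nat.card_pos
    omega

/-- A `p`-group `P` normalizing a `p`-group `U ≰ W` fixes some coset `yW` with `y ∈ U ∖ W`. -/
theorem exists_rel_fixed [Finite X] {p : ℕ} [Fact p.Prime] {U P W : Subgroup X}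
    (hU : IsPGroup p ↥U) (hP : IsPGroup p ↥P) (hPU : P ≤ Subgroup.normalizer (U : Set X))
    (hUW : ¬ U ≤ W) : ∃ y ∈ U, y ∉ W ∧ ∀ x ∈ P, ⁅y, x⁆ ∈ W := by
  classical
  have hex : ∃ n, iterComm U P n ≤ W := by
    obtain ⟨n, hn⟩ := iterComm_eq_bot hU hP hPU
    exact ⟨n, hn ▸ bot_le⟩
  set n₀ := Nat.find hex with hn₀
  have h1 : iterComm U P n₀ ≤ W := Nat.find_spec hex
  have h0 : n₀ ≠ 0 := by
    intro h0
    rw [h0] at h1
    exact hUW h1
  obtain ⟨m, hm⟩ := Nat.exists_eq_succ_of_ne_zero h0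
  have h2 : ¬ iterComm U P m ≤ W := Nat.find_min hex (by omega)
  obtain ⟨y, hy, hyW⟩ := SetLike.not_le_iff_exists.1 h2
  refine ⟨y, iterComm_le hPU m hy, hyW, ?_⟩
  intro x hx
  apply h1
  rw [hm]
  exact Subgroup.commutator_mem_commutator hy hx

/-- The `S₃`-lemma: if `⟨d, a⟩ ≅ S₃` acts on `N` with `C_N(d) = 1` then `|N| ≤ |N : C_N(a)|²`. -/
theorem card_le_sq_of_s3 [Finite X] {N : Subgroup X} {a d : X} (ha : a * a = 1) (hd : d ^ 3 = 1)
    (hinv : a * d * a⁻¹ = d⁻¹) (hdN : d ∈ Subgroup.normalizer (N : Set X))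
    (hfix : ∀ n ∈ N, d * n = n * d → n = 1) :
    Nat.card ↥N ≤ ((N ⊓ Subgroup.centralizer {a}).relIndex N) ^ 2 := by
  set N₀ := N ⊓ Subgroup.centralizer {a} with hN₀
  set φ := (MulAut.conj d).toMonoidHom with hφ
  have hinj : Function.Injective φ := (MulAut.conj d).injective
  have hNd : N.map φ = N := (Subgroup.mem_normalizer_iff_map_conj_eq).1 hdN
  have hrel : (N₀.map φ).relIndex N = N₀.relIndex N := by
    conv_lhs => rw [← hNd]
    exact Subgroup.relIndex_map_map_of_injective _ _ hinj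
  have hainv : a⁻¹ = a := inv_eq_of_mul_eq_one_left ha
  have hdd : d⁻¹ * d⁻¹ = d := by
    have h3 : d * d * d = 1 := by rw [← hd, pow_succ, pow_two]
    calc d⁻¹ * d⁻¹ = d⁻¹ * d⁻¹ * (d * d * d) := by rw [h3, mul_one]
      _ = d := by group
  have hinf : N₀ ⊓ N₀.map φ = ⊥ := by
    rw [eq_bot_iff]
    rintro _ ⟨⟨hnN, hna⟩, m, ⟨hmN, hma⟩, rfl⟩
    rw [Subgroup.mem_bot]
    set n := φ m with hn
    have hnd : n = d * m * d⁻¹ := rfl
    have hna' : a * n = n * a := Subgroup.mem_centralizer_iff.1 hna a rfl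
    have hma' : a * m = m * a := Subgroup.mem_centralizer_iff.1 hma a rfl
    have hm : m = d⁻¹ * n * d := by rw [hnd]; group
    have h1 : (d * a * d⁻¹) * n = n * (d * a * d⁻¹) := by
      rw [hm] at hma'
      calc (d * a * d⁻¹) * n = d * (a * (d⁻¹ * n * d)) * d⁻¹ := by group
        _ = d * ((d⁻¹ * n * d) * a) * d⁻¹ := by rw [hma']
        _ = n * (d * a * d⁻¹) := by group
    have h2 : a * (d * a * d⁻¹) = d := by
      calc a * (d * a * d⁻¹) = (a * d * a⁻¹) * d⁻¹ := by rw [hainv]; group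
        _ = d := by rw [hinv, hdd]
    apply hfix n hnN
    rw [← h2]
    calc a * (d * a * d⁻¹) * n = a * ((d * a * d⁻¹) * n) := by group
      _ = a * (n * (d * a * d⁻¹)) := by rw [h1]
      _ = (a * n) * (d * a * d⁻¹) := by group
      _ = n * a * (d * a * d⁻¹) := by rw [hna']
      _ = n * (a * (d * a * d⁻¹)) := by group
  have h3 : (N₀ ⊓ N₀.map φ).relIndex N ≤ N₀.relIndex N * (N₀.map φ).relIndex N :=
    Subgroup.relIndex_inf_le
  rw [hinf, Subgroup.relIndex_bot_left, hrel] at h3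
  rw [pow_two]
  exact h3

/-- the "norm" of `y` under conjugation by `d` (of order `3`). -/
def nm (d y : X) : X := y * (d * y * d⁻¹) * (d * d * y * d⁻¹ * d⁻¹)

/-- Hypotheses: `Y` is abelian of exponent `2`, normalized by `d` with `d³ = 1`. -/
structure NmHyp (Y : Subgroup X) (d : X) : Prop where
  hc : ∀ x ∈ Y, ∀ y ∈ Y, x * y = y * x
  h2 : ∀ y ∈ Y, y * y = 1
  hd : d ^ 3 = 1
  hdY : d ∈ Subgroup.normalizer (Y : Set X)

namespace NmHyp

variable {Y : Subgroup X} {d : X}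

theorem conj_mem (h : NmHyp Y d) {y : X} (hy : y ∈ Y) : d * y * d⁻¹ ∈ Y :=
  (Subgroup.mem_normalizer_iff.1 h.hdY y).1 hy

theorem conj_mem' (h : NmHyp Y d) {y : X} (hy : y ∈ Y) : d * d * y * d⁻¹ * d⁻¹ ∈ Y := by
  have := h.conj_mem (h.conj_mem hy)
  have e : d * (d * y * d⁻¹) * d⁻¹ = d * d * y * d⁻¹ * d⁻¹ := by group
  rwa [e] at this

theorem ddd (h : NmHyp Y d) : d * d * d = 1 := by rw [← h.hd, pow_succ, pow_two]

theorem inv_eq (h : NmHyp Y d) {y : X} (hy : y ∈ Y) : y⁻¹ = y :=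
  inv_eq_of_mul_eq_one_left (h.h2 y hy)

theorem nm_mem (h : NmHyp Y d) {y : X} (hy : y ∈ Y) : nm d y ∈ Y :=
  Y.mul_mem (Y.mul_mem hy (h.conj_mem hy)) (h.conj_mem' hy)

theorem nm_mul (h : NmHyp Y d) {u v : X} (hu : u ∈ Y) (hv : v ∈ Y) :
    nm d (u * v) = nm d u * nm d v := by
  unfold nm
  set u' := d * u * d⁻¹ with hu'
  set v' := d * v * d⁻¹ with hv'
  set u'' := d * d * u * d⁻¹ * d⁻¹ with hu''
  set v'' := d * d * v * d⁻¹ * d⁻¹ with hv''
  have e1 : d * (u * v) * d⁻¹ = u' * v' := by rw [hu', hv']; group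
  have e2 : d * d * (u * v) * d⁻¹ * d⁻¹ = u'' * v'' := by rw [hu'', hv'']; group
  rw [e1, e2]
  have hu'Y : u' ∈ Y := h.conj_mem hu
  have hv'Y : v' ∈ Y := h.conj_mem hv
  have hu''Y : u'' ∈ Y := h.conj_mem' hu
  have hv''Y : v'' ∈ Y := h.conj_mem' hv
  calc u * v * (u' * v') * (u'' * v'') = u * (v * u') * v' * u'' * v'' := by group
    _ = u * (u' * v) * v' * u'' * v'' := by rw [h.hc v hv u' hu'Y]
    _ = u * u' * ((v * v') * u'') * v'' := by group
    _ = u * u' * (u'' * (v * v')) * v'' := by rw [h.hc (v * v') (Y.mul_mem hv hv'Y) u'' hu''Y]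
    _ = u * u' * u'' * (v * v' * v'') := by group

/-- `nm d y` is centralized by `d`. -/
theorem nm_fixed (h : NmHyp Y d) {y : X} (hy : y ∈ Y) : d * nm d y * d⁻¹ = nm d y := by
  unfold nm
  set y' := d * y * d⁻¹ with hy'
  set y'' := d * d * y * d⁻¹ * d⁻¹ with hy''
  have hy'Y : y' ∈ Y := h.conj_mem hy
  have hy''Y : y'' ∈ Y := h.conj_mem' hy
  have e3 : d * y'' * d⁻¹ = y := by
    rw [hy'']
    have : d * (d * d * y * d⁻¹ * d⁻¹) * d⁻¹ = (d * d * d) * y * (d * d * d)⁻¹ := by group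
    rw [this, h.ddd]; group
  have e1 : d * (y * y' * y'') * d⁻¹ = (d * y * d⁻¹) * (d * y' * d⁻¹) * (d * y'' * d⁻¹) := by group
  have e2 : d * y' * d⁻¹ = y'' := by rw [hy', hy'']; group
  rw [e1, e2, e3, ← hy']
  calc y' * y'' * y = y * (y' * y'') := (h.hc y hy (y' * y'') (Y.mul_mem hy'Y hy''Y)).symm
    _ = y * y' * y'' := by group

theorem conj3 (h : NmHyp Y d) (y : X) : d * (d * d * y * d⁻¹ * d⁻¹) * d⁻¹ = y := by
  have : d * (d * d * y * d⁻¹ * d⁻¹) * d⁻¹ = (d * d * d) * y * (d * d * d)⁻¹ := by group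
  rw [this, h.ddd]; group

/-- the norm is invariant under conjugation by `d`. -/
theorem nm_conj (h : NmHyp Y d) {y : X} (hy : y ∈ Y) : nm d (d * y * d⁻¹) = nm d y := by
  have h1 := h.nm_fixed hy
  rw [← h1]
  unfold nm
  group

theorem nm_sq (h : NmHyp Y d) {y : X} (hy : y ∈ Y) : nm d y * nm d y = 1 :=
  h.h2 _ (h.nm_mem hy)

theorem nm_one (d : X) : nm d (1 : X) = 1 := by unfold nm; group

/-- elements of `[Y, d]` have trivial norm. -/
theorem nm_eq_one_of_mem (h : NmHyp Y d) {u : X} (hu : u ∈ ⁅Y, Subgroup.zpowers d⁆) :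
    u ∈ Y ∧ nm d u = 1 := by
  rw [Subgroup.commutator_def] at hu
  induction hu using Subgroup.closure_induction with
  | mem x hx =>
    obtain ⟨y, hy, z, hz, rfl⟩ := hx
    obtain ⟨i, rfl⟩ := Subgroup.mem_zpowers_iff.1 hz
    have hi : d ^ i = d ^ (i % 3) := zpow_eq_zpow_emod i (by
      rw [show ((3 : ℤ)) = ((3 : ℕ) : ℤ) from rfl, zpow_natCast]; exact h.hd)
    rw [hi]
    have hy'Y : d * y * d⁻¹ ∈ Y := h.conj_mem hy
    have hy''Y : d * d * y * d⁻¹ * d⁻¹ ∈ Y := h.conj_mem' hy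
    have hyi := h.inv_eq hy
    have h3 : i % 3 = 0 ∨ i % 3 = 1 ∨ i % 3 = 2 := by omega
    rcases h3 with h3 | h3 | h3
    · rw [h3, zpow_zero]
      have : ⁅y, (1 : X)⁆ = 1 := by rw [commutatorElement_def]; group
      rw [this]
      exact ⟨Y.one_mem, nm_one d⟩
    · rw [h3, zpow_one]
      have e : ⁅y, d⁆ = y * (d * y * d⁻¹) := by
        rw [commutatorElement_def]
        calc y * d * y⁻¹ * d⁻¹ = y * (d * y⁻¹ * d⁻¹) := by group
          _ = y * (d * y * d⁻¹) := by rw [hyi]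
      rw [e]
      refine ⟨Y.mul_mem hy hy'Y, ?_⟩
      rw [h.nm_mul hy hy'Y, h.nm_conj hy, h.nm_sq hy]
    · have hd2 : d ^ (2 : ℤ) = d * d := by
        rw [show (2 : ℤ) = ((2 : ℕ) : ℤ) from rfl, zpow_natCast, pow_two]
      have e : ⁅y, d ^ (2 : ℤ)⁆ = y * (d * d * y * d⁻¹ * d⁻¹) := by
        rw [commutatorElement_def, hd2]
        calc y * (d * d) * y⁻¹ * (d * d)⁻¹ = y * (d * d * y⁻¹ * d⁻¹ * d⁻¹) := by group
          _ = y * (d * d * y * d⁻¹ * d⁻¹) := by rw [hyi]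
      rw [h3, e]
      refine ⟨Y.mul_mem hy hy''Y, ?_⟩
      have e2 : d * d * y * d⁻¹ * d⁻¹ = d * (d * y * d⁻¹) * d⁻¹ := by group
      rw [h.nm_mul hy hy''Y, e2, h.nm_conj hy'Y, h.nm_conj hy, h.nm_sq hy]
  | one => exact ⟨Y.one_mem, nm_one d⟩
  | mul x y _ _ hx hy =>
    refine ⟨Y.mul_mem hx.1 hy.1, ?_⟩
    rw [h.nm_mul hx.1 hy.1, hx.2, hy.2, one_mul]
  | inv x _ hx =>
    rw [h.inv_eq hx.1]
    exact hx

/-- an element of trivial norm is a commutator. -/
theorem comm_conj_eq (h : NmHyp Y d) {u : X} (hu : u ∈ Y) (hn : nm d u = 1) :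
    ⁅d * u * d⁻¹, d⁆ = u := by
  have hui := h.inv_eq hu
  rw [commutatorElement_def]
  have e1 : d * u * d⁻¹ * d * (d * u * d⁻¹)⁻¹ * d⁻¹ =
      (d * u * d⁻¹) * (d * d * u⁻¹ * d⁻¹ * d⁻¹) := by group
  rw [e1, hui]
  unfold nm at hn
  calc d * u * d⁻¹ * (d * d * u * d⁻¹ * d⁻¹)
      = u⁻¹ * (u * (d * u * d⁻¹) * (d * d * u * d⁻¹ * d⁻¹)) := by group
    _ = u := by rw [hn, mul_one, hui]

/-- elements of `Y` of trivial norm lie in `[Y, d]`. -/
theorem mem_of_nm_eq_one (h : NmHyp Y d) {u : X} (hu : u ∈ Y) (hn : nm d u = 1) :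
    u ∈ ⁅Y, Subgroup.zpowers d⁆ := by
  have h1 : ⁅d * u * d⁻¹, d⁆ ∈ ⁅Y, Subgroup.zpowers d⁆ :=
    Subgroup.commutator_mem_commutator (h.conj_mem hu) (Subgroup.mem_zpowers d)
  rwa [h.comm_conj_eq hu hn] at h1

/-- `d` has no nontrivial fixed points on `[Y, d]`. -/
theorem eq_one_of_fixed (h : NmHyp Y d) {u : X} (hu : u ∈ ⁅Y, Subgroup.zpowers d⁆)
    (hfix : d * u = u * d) : u = 1 := by
  obtain ⟨huY, hn⟩ := h.nm_eq_one_of_mem hu
  have e1 : d * u * d⁻¹ = u := by rw [hfix]; group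
  have e2 : d * d * u * d⁻¹ * d⁻¹ = u := by
    calc d * d * u * d⁻¹ * d⁻¹ = d * (d * u * d⁻¹) * d⁻¹ := by group
      _ = u := by rw [e1, e1]
  unfold nm at hn
  rw [e1, e2, h.h2 u huY, one_mul] at hn
  exact hn

/-- `[Y, d]` is normalized by `d`. -/
theorem d_mem_normalizer (_h : NmHyp Y d) :
    d ∈ Subgroup.normalizer ((⁅Y, Subgroup.zpowers d⁆ : Subgroup X) : Set X) :=
  Cfsg.Agent.Helper2.le_normalizer_commutator_right Y (Subgroup.zpowers d) (Subgroup.mem_zpowers d)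

end NmHyp

end Cfsg.Agent.Helper1.JLS
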