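import Mathlib
import Cfsg.Prelude.Def_JComponents
import Cfsg.Agent.Helper1.JLSN

set_option autoImplicit false

/-!
The subgroup `K = O^2(Q⟨d⟩)` for a normal `2`-subgroup `Q` and an element `d` of order `3`.
-/

namespace Cfsg.Agent.Helper1.JLS

open scoped Pointwise commutatorElement

open Cfsg.Agent.Helper1

universe u

variable {X : Type u} [Group X]

/-- the subgroup generated by the elements of odd order of `F`. -/
def oddGen (F : Subgroup X) : Subgroup X := Subgroup.closure {g | g ∈ F ∧ Odd (orderOf g)}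

theorem oddGen_le (F : Subgroup X) : oddGen F ≤ F := by
  unfold oddGen
  rw [Subgroup.closure_le]
  intro g hg
  exact hg.1

theorem mem_oddGen {F : Subgroup X} {g : X} (hg : g ∈ F) (hodd : Odd (orderOf g)) :
    g ∈ oddGen F := Subgroup.subset_closure ⟨hg, hodd⟩

theorem oddGen_gen (F : Subgroup X) :
    Subgroup.closure {g | g ∈ oddGen F ∧ Odd (orderOf g)} = oddGen F := by
  apply le_antisymm
  · rw [Subgroup.closure_le]
    intro g hg
    exact hg.1
  · conv_lhs => unfold oddGen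
    apply Subgroup.closure_mono
    intro g hg
    exact ⟨mem_oddGen hg.1 hg.2, hg.2⟩

theorem normalizer_le_normalizer_oddGen (F : Subgroup X) :
    Subgroup.normalizer (F : Set X) ≤ Subgroup.normalizer (oddGen F : Set X) := by
  apply Cfsg.Agent.Helper2.le_normalizer_of_conj_mem
  intro g hg
  have hle : oddGen F ≤ (oddGen F).comap (MulAut.conj g).toMonoidHom := by
    conv_lhs => unfold oddGen
    rw [Subgroup.closure_le]
    intro x hx
    show g * x * g⁻¹ ∈ oddGen F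
    apply mem_oddGen
    · exact (Subgroup.mem_normalizer_iff.1 hg x).1 hx.1
    · have : orderOf (g * x * g⁻¹) = orderOf x := (MulAut.conj g).orderOf_eq x
      rw [this]; exact hx.2
  intro x hx
  exact hle hx

/-- The hypotheses on `Q` and `d`. -/
structure QdHyp (Q : Subgroup X) (d : X) : Prop where
  hQn : Q.Normal
  hQ2 : IsPGroup 2 ↥Q
  hd3 : d ^ 3 = 1
  hd1 : d ≠ 1

namespace QdHyp

variable {Q : Subgroup X} {d : X}

theorem orderOf_d (h : QdHyp Q d) : orderOf d = 3 :=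
  orderOf_eq_prime h.hd3 h.hd1

theorem d_not_mem (h : QdHyp Q d) : d ∉ Q := by
  intro hdQ
  obtain ⟨k, hk⟩ := (IsPGroup.iff_orderOf.1 h.hQ2) ⟨d, hdQ⟩
  have h1 : orderOf (⟨d, hdQ⟩ : Q) = orderOf d := Subgroup.orderOf_mk d hdQ
  rw [h1, h.orderOf_d] at hk
  have : (2 : ℕ) ∣ 3 := by
    rcases Nat.eq_zero_or_pos k with rfl | hkpos
    · norm_num at hk
    · rw [hk]; exact dvd_pow_self 2 hkpos.ne'
  norm_num at this

theorem zpowers_inf [Finite X] (h : QdHyp Q d) : Subgroup.zpowers d ⊓ Q = ⊥ := by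
  apply inf_eq_bot_of_coprime_card
  rw [Nat.card_zpowers, h.orderOf_d]
  obtain ⟨k, hk⟩ := IsPGroup.iff_card.1 h.hQ2
  rw [hk]
  exact Nat.Coprime.pow_right k (by norm_num)

theorem zpowers_le_normalizer (h : QdHyp Q d) :
    Subgroup.zpowers d ≤ Subgroup.normalizer (Q : Set X) := by
  haveI := h.hQn
  rw [Subgroup.normalizer_eq_top]; exact le_top

theorem card_F [Finite X] (h : QdHyp Q d) :
    Nat.card ↥(Q ⊔ Subgroup.zpowers d) = 3 * Nat.card ↥Q := by
  rw [card_sup_of_le_normalizer h.zpowers_le_normalizer h.zpowers_inf, Nat.card_zpowers,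
    h.orderOf_d]

theorem relIndex_F [Finite X] (h : QdHyp Q d) : Q.relIndex (Q ⊔ Subgroup.zpowers d) = 3 := by
  have h1 : Q.relIndex (Q ⊔ Subgroup.zpowers d) * Nat.card ↥Q =
      Nat.card ↥(Q ⊔ Subgroup.zpowers d) := relIndex_mul_card_of_le le_sup_left
  rw [h.card_F] at h1
  have hpos : 0 < Nat.card ↥Q := Nat.card_pos
  exact Nat.eq_of_mul_eq_mul_right hpos h1

theorem d_mem_F (_h : QdHyp Q d) : d ∈ Q ⊔ Subgroup.zpowers d :=
  Subgroup.mem_sup_right (Subgroup.mem_zpowers d)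

theorem d_mem_K (h : QdHyp Q d) : d ∈ oddGen (Q ⊔ Subgroup.zpowers d) := by
  apply mem_oddGen h.d_mem_F
  rw [h.orderOf_d]; decide

theorem K_sup_Q (h : QdHyp Q d) :
    oddGen (Q ⊔ Subgroup.zpowers d) ⊔ Q = Q ⊔ Subgroup.zpowers d := by
  apply le_antisymm
  · exact sup_le (oddGen_le _) le_sup_left
  · refine sup_le le_sup_right ?_
    rw [Subgroup.zpowers_le]
    exact Subgroup.mem_sup_left h.d_mem_K

theorem relIndex_K [Finite X] (h : QdHyp Q d) :
    (oddGen (Q ⊔ Subgroup.zpowers d) ⊓ Q).relIndex (oddGen (Q ⊔ Subgroup.zpowers d)) = 3 := by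
  haveI := h.hQn
  rw [inf_comm, Subgroup.inf_relIndex_right, ← Subgroup.relIndex_sup_left, sup_comm, h.K_sup_Q]
  exact h.relIndex_F

theorem K_le_normalizer_R (h : QdHyp Q d) :
    oddGen (Q ⊔ Subgroup.zpowers d) ≤
      Subgroup.normalizer ((oddGen (Q ⊔ Subgroup.zpowers d) ⊓ Q : Subgroup X) : Set X) := by
  haveI := h.hQn
  apply FFact.le_normalizer_inf Subgroup.le_normalizer
  rw [Subgroup.normalizer_eq_top]; exact le_top

theorem isPGroup_R (h : QdHyp Q d) : IsPGroup 2 ↥(oddGen (Q ⊔ Subgroup.zpowers d) ⊓ Q) :=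
  h.hQ2.to_le inf_le_right

/-- `[Q, d] ≤ K ∩ Q`. -/
theorem comm_mem (h : QdHyp Q d) {q : X} (hq : q ∈ Q) :
    ⁅q, d⁆ ∈ oddGen (Q ⊔ Subgroup.zpowers d) ⊓ Q := by
  constructor
  · have e : ⁅q, d⁆ = (q * d * q⁻¹) * d⁻¹ := by rw [commutatorElement_def]
    rw [e]
    apply Subgroup.mul_mem _ _ (Subgroup.inv_mem _ h.d_mem_K)
    apply mem_oddGen
    · exact Subgroup.mul_mem _ (Subgroup.mul_mem _ (Subgroup.mem_sup_left hq) h.d_mem_F)
        (Subgroup.inv_mem _ (Subgroup.mem_sup_left hq))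
    · have : orderOf (q * d * q⁻¹) = orderOf d := (MulAut.conj q).orderOf_eq d
      rw [this, h.orderOf_d]; decide
  · have e : ⁅q, d⁆ = q * (d * q⁻¹ * d⁻¹) := by rw [commutatorElement_def]; group
    rw [e]
    exact Q.mul_mem hq (h.hQn.conj_mem _ (Q.inv_mem hq) d)

/-- `K = (K ∩ Q)⟨d⟩`. -/
theorem exists_decomp (h : QdHyp Q d) {k : X} (hk : k ∈ oddGen (Q ⊔ Subgroup.zpowers d)) :
    ∃ r ∈ oddGen (Q ⊔ Subgroup.zpowers d) ⊓ Q, ∃ i : ℤ, k = r * d ^ i := by
  obtain ⟨q, hq, z, hz, rfl⟩ := mem_sup_of_le_normalizer h.zpowers_le_normalizer (oddGen_le _ hk)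
  obtain ⟨i, rfl⟩ := Subgroup.mem_zpowers_iff.1 hz
  refine ⟨q, ⟨?_, hq⟩, i, rfl⟩
  have : q = q * d ^ i * (d ^ i)⁻¹ := by group
  rw [this]
  exact Subgroup.mul_mem _ hk (Subgroup.inv_mem _ (Subgroup.zpow_mem _ h.d_mem_K i))

/-- `K` lies in every `Q`-invariant subgroup containing `d`. -/
theorem K_le_of_mem (h : QdHyp Q d) {N : Subgroup X} (hdN : d ∈ N)
    (hQN : Q ≤ Subgroup.normalizer (N : Set X)) : oddGen (Q ⊔ Subgroup.zpowers d) ≤ N := by
  unfold oddGen
  rw [Subgroup.closure_le]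
  rintro g ⟨hgF, hodd⟩
  have h1 : g ∈ N ⊔ Q := by
    have : Q ⊔ Subgroup.zpowers d ≤ N ⊔ Q :=
      sup_le le_sup_right ((Subgroup.zpowers_le.2 hdN).trans le_sup_left)
    exact this hgF
  exact Cfsg.Agent.Helper2.mem_of_coprime_orderOf_of_mem_sup (p := 2) h.hQ2 hQN h1
    (Nat.Coprime.symm (Nat.coprime_two_left.mpr hodd))

end QdHyp

end Cfsg.Agent.Helper1.JLS
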