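import Mathlib
import Cfsg.Prelude.Def_JComponents
import Cfsg.Agent.Helper1.JLSO
import Cfsg.Agent.Helper1.Card
import Cfsg.Agent.Lead.JCompD

set_option autoImplicit false

/-!
Counting lemmas for the computation of `[Ω₁(Z(O₂(K))), K]`.
-/

namespace Cfsg.Agent.Helper1.JLS

open scoped Pointwise commutatorElement

open Cfsg.Agent.Helper1 Cfsg.Agent.Lead.JComp

universe u

variable {X : Type u} [Group X]

theorem mem_normalizer_of_forall_conj_mem [Finite X] {N : Subgroup X} {g : X}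
    (h : ∀ n ∈ N, g * n * g⁻¹ ∈ N) : g ∈ Subgroup.normalizer (N : Set X) := by
  rw [Subgroup.mem_normalizer_iff_map_conj_eq]
  apply Subgroup.eq_of_le_of_card_ge
  · rintro _ ⟨n, hn, rfl⟩
    exact h n hn
  · rw [Subgroup.card_map_of_injective (MulAut.conj g).injective]

theorem two_mul_card_le_of_lt [Finite X] {H K : Subgroup X} (h : H < K) :
    2 * Nat.card ↥H ≤ Nat.card ↥K := by
  have h1 : Nat.card ↥H ∣ Nat.card ↥K := Subgroup.card_dvd_of_le h.le
  have h2 : Nat.card ↥H < Nat.card ↥K := card_lt_card_of_lt h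
  obtain ⟨m, hm⟩ := h1
  have hpos : 0 < Nat.card ↥H := Nat.card_pos
  have hm2 : 2 ≤ m := by
    by_contra hlt
    push Not at hlt
    interval_cases m
    · omega
    · omega
  rw [hm]
  nlinarith

theorem card_sup_zpowers_of_not_mem [Finite X] {B : Subgroup X} {y : X} (hy2 : y * y = 1)
    (hyB : y ∉ B) (hc : ∀ b ∈ B, y * b = b * y) :
    Nat.card ↥(B ⊔ Subgroup.zpowers y) = 2 * Nat.card ↥B := by
  have hy1 : y ≠ 1 := fun h => hyB (h ▸ B.one_mem)
  have hord : orderOf y = 2 := orderOf_eq_prime (by rw [pow_two]; exact hy2) hy1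
  have hnorm : Subgroup.zpowers y ≤ Subgroup.normalizer (B : Set X) := by
    rw [Subgroup.zpowers_le]
    apply mem_normalizer_of_forall_conj_mem
    intro b hb
    have : y * b * y⁻¹ = b := by rw [hc b hb]; group
    rw [this]; exact hb
  have hdisj : Subgroup.zpowers y ⊓ B = ⊥ := by
    rw [eq_bot_iff]
    rintro x ⟨hxy, hxB⟩
    rw [Subgroup.mem_bot]
    obtain ⟨i, rfl⟩ := Subgroup.mem_zpowers_iff.1 hxy
    have hi : y ^ i = y ^ (i % 2) := zpow_eq_zpow_emod i (by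
      rw [show ((2 : ℤ)) = ((2 : ℕ) : ℤ) from rfl, zpow_natCast, pow_two]; exact hy2)
    rw [hi] at hxB ⊢
    have h2 : i % 2 = 0 ∨ i % 2 = 1 := by omega
    rcases h2 with h2 | h2
    · rw [h2, zpow_zero]
    · rw [h2, zpow_one] at hxB
      exact absurd hxB hyB
  rw [card_sup_of_le_normalizer hnorm hdisj, Nat.card_zpowers, hord]

/-- Thompson replacement inequality. -/
theorem card_le_two_mul_of_isMaxEA [Finite X] {T A A₀ N : Subgroup X} (hA : IsMaxEA T A)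
    (hA₀ : A₀ ≤ A) (hcard : Nat.card ↥A = 2 * Nat.card ↥A₀) (hNT : N ≤ T)
    (hN : Cfsg.IsElementaryAbelian 2 N) (hc : ∀ b ∈ A₀, ∀ n ∈ N, b * n = n * b) :
    Nat.card ↥N ≤ 2 * Nat.card ↥(A₀ ⊓ N) := by
  have hA₀e : Cfsg.IsElementaryAbelian 2 A₀ := ea_of_le hA.2.1 hA₀
  have hsup : Cfsg.IsElementaryAbelian 2 (A₀ ⊔ N) := ea_sup hA₀e hN hc
  have h1 : Nat.card ↥(A₀ ⊔ N) ≤ Nat.card ↥A := hA.2.2 _ (sup_le (hA₀.trans hA.1) hNT) hsup
  have hnorm : N ≤ Subgroup.normalizer (A₀ : Set X) := by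
    intro n hn
    apply mem_normalizer_of_forall_conj_mem
    intro b hb
    have : n * b * n⁻¹ = b := by rw [← hc b hb n hn]; group
    rw [this]; exact hb
  have h2 := card_sup_mul_card_inf hnorm
  have hpos : 0 < Nat.card ↥A₀ := Nat.card_pos
  have h3 : Nat.card ↥A₀ * Nat.card ↥N ≤ Nat.card ↥A₀ * (2 * Nat.card ↥(A₀ ⊓ N)) := by
    calc Nat.card ↥A₀ * Nat.card ↥N = Nat.card ↥(A₀ ⊔ N) * Nat.card ↥(A₀ ⊓ N) := h2.symm
      _ ≤ Nat.card ↥A * Nat.card ↥(A₀ ⊓ N) := Nat.mul_le_mul_right _ h1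
      _ = Nat.card ↥A₀ * (2 * Nat.card ↥(A₀ ⊓ N)) := by rw [hcard]; ring
  exact Nat.le_of_mul_le_mul_left h3 hpos

/-- an involution normalizes `F` as soon as it conjugates `F` into itself. -/
theorem relIndex_le_two_of_card_le [Finite X] {N H : Subgroup X}
    (h : Nat.card ↥N ≤ 2 * Nat.card ↥(N ⊓ H)) : (N ⊓ H).relIndex N ≤ 2 := by
  have h1 : (N ⊓ H).relIndex N * Nat.card ↥(N ⊓ H) = Nat.card ↥N :=
    relIndex_mul_card_of_le inf_le_left
  have hpos : 0 < Nat.card ↥(N ⊓ H) := Nat.card_pos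
  rw [← h1] at h
  exact Nat.le_of_mul_le_mul_right h hpos

end Cfsg.Agent.Helper1.JLS
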