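import Mathlib
import Cfsg.Prelude.Def_JComponents
import Cfsg.Agent.Helper1.JLSP

set_option autoImplicit false

/-!
The abstract configuration `(Q, T, V, A, a, d)` and first consequences.
-/

namespace Cfsg.Agent.Helper1.JLS

open scoped Pointwise commutatorElement

open Cfsg.Agent.Helper1 Cfsg.Agent.Lead.JComp

universe u

variable {X : Type u} [Group X]

/-- The configuration: `Q` a normal `2`-subgroup of `X` inside the `2`-group `T`, `V = Ω₁(Z(Q))`,
`A ∈ 𝒜(T)` with `|A : A ∩ Q| = 2`, `a ∈ A` inverting the element `d` of order `3`, which acts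
nontrivially on `V`. -/
structure CData (Q T V A : Subgroup X) (a d : X) : Prop where
  hQd : QdHyp Q d
  hT2 : IsPGroup 2 ↥T
  hQT : Q ≤ T
  hVQ : V ≤ Q
  hVc : ∀ v ∈ V, ∀ q ∈ Q, q * v = v * q
  hV2 : ∀ v ∈ V, v * v = 1
  hVn : V.Normal
  hVmem : ∀ x ∈ Q, (∀ q ∈ Q, q * x = x * q) → x * x = 1 → x ∈ V
  hA : IsMaxEA T A
  haA : a ∈ A
  hAQ : Nat.card ↥A = 2 * Nat.card ↥(A ⊓ Q)
  hinv : a * d * a⁻¹ = d⁻¹
  hdV : d ∉ Subgroup.centralizer (V : Set X)

namespace CData

variable {Q T V A : Subgroup X} {a d : X}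

/-- `K = O^2(Q⟨d⟩)`. -/
abbrev KK (Q : Subgroup X) (d : X) : Subgroup X := oddGen (Q ⊔ Subgroup.zpowers d)

/-- `R = K ∩ Q`. -/
abbrev RR (Q : Subgroup X) (d : X) : Subgroup X := KK Q d ⊓ Q

theorem a_sq (c : CData Q T V A a d) : a * a = 1 := ea_sq c.hA.2.1 c.haA

theorem a_inv (c : CData Q T V A a d) : a⁻¹ = a := ea_inv c.hA.2.1 c.haA

theorem inv' (c : CData Q T V A a d) : a * d⁻¹ * a⁻¹ = d := by
  have h := c.hinv
  have : a * d⁻¹ * a⁻¹ = (a * d * a⁻¹)⁻¹ := by group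
  rw [this, h, inv_inv]

theorem a_mem_T (c : CData Q T V A a d) : a ∈ T := c.hA.1 c.haA

theorem a_mem_normalizer_F [Finite X] (c : CData Q T V A a d) :
    a ∈ Subgroup.normalizer ((Q ⊔ Subgroup.zpowers d : Subgroup X) : Set X) := by
  haveI := c.hQd.hQn
  have hle : Q ⊔ Subgroup.zpowers d ≤
      (Q ⊔ Subgroup.zpowers d).comap (MulAut.conj a).toMonoidHom := by
    refine sup_le ?_ ?_
    · intro q hq
      exact Subgroup.mem_sup_left (c.hQd.hQn.conj_mem q hq a)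
    · rw [Subgroup.zpowers_le]
      show a * d * a⁻¹ ∈ Q ⊔ Subgroup.zpowers d
      rw [c.hinv]
      exact Subgroup.inv_mem _ c.hQd.d_mem_F
  apply mem_normalizer_of_forall_conj_mem
  intro n hn
  exact hle hn

theorem Q_le_normalizer_F (c : CData Q T V A a d) :
    Q ≤ Subgroup.normalizer ((Q ⊔ Subgroup.zpowers d : Subgroup X) : Set X) :=
  le_sup_left.trans Subgroup.le_normalizer

theorem d_mem_normalizer_F (c : CData Q T V A a d) :
    d ∈ Subgroup.normalizer ((Q ⊔ Subgroup.zpowers d : Subgroup X) : Set X) :=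
  Subgroup.le_normalizer c.hQd.d_mem_F

theorem a_mem_normalizer_K [Finite X] (c : CData Q T V A a d) :
    a ∈ Subgroup.normalizer (KK Q d : Set X) :=
  normalizer_le_normalizer_oddGen _ c.a_mem_normalizer_F

theorem Q_le_normalizer_K (c : CData Q T V A a d) :
    Q ≤ Subgroup.normalizer (KK Q d : Set X) :=
  c.Q_le_normalizer_F.trans (normalizer_le_normalizer_oddGen _)

theorem d_mem_normalizer_K (c : CData Q T V A a d) :
    d ∈ Subgroup.normalizer (KK Q d : Set X) :=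
  Subgroup.le_normalizer c.hQd.d_mem_K

/-- anything normalizing `K` normalizes `R = K ∩ Q`. -/
theorem normalizer_K_le_normalizer_R (c : CData Q T V A a d) :
    Subgroup.normalizer (KK Q d : Set X) ≤ Subgroup.normalizer (RR Q d : Set X) := by
  haveI := c.hQd.hQn
  apply FFact.le_normalizer_inf le_rfl
  have : Subgroup.normalizer (Q : Set X) = ⊤ := Subgroup.normalizer_eq_top Q
  rw [this]; exact le_top

theorem normalizer_K_le_normalizer_Z (c : CData Q T V A a d) :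
    Subgroup.normalizer (KK Q d : Set X) ≤
      Subgroup.normalizer (Cfsg.omegaCenterOf (RR Q d) : Set X) :=
  c.normalizer_K_le_normalizer_R.trans (normalizer_le_normalizer_omegaCenterOf _)

theorem normalizer_K_le_normalizer_U (c : CData Q T V A a d) :
    Subgroup.normalizer (KK Q d : Set X) ≤
      Subgroup.normalizer ((⁅Cfsg.omegaCenterOf (RR Q d), KK Q d⁆ : Subgroup X) : Set X) :=
  Cfsg.Agent.Helper1.le_normalizer_commutator c.normalizer_K_le_normalizer_Z le_rfl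

/-- `Z = Ω₁(Z(R))` is abelian of exponent `2` and normalized by `d`. -/
theorem nmHyp_Z (c : CData Q T V A a d) : NmHyp (Cfsg.omegaCenterOf (RR Q d)) d := by
  refine ⟨?_, ?_, c.hQd.hd3, c.normalizer_K_le_normalizer_Z c.d_mem_normalizer_K⟩
  · intro x hx y hy
    exact (Cfsg.Agent.Lead.JComp.mem_omegaCenterOf hy).2.1 x (Cfsg.Agent.Lead.JComp.mem_omegaCenterOf hx).1
  · intro y hy
    exact (Cfsg.Agent.Lead.JComp.mem_omegaCenterOf hy).2.2

theorem nmHyp_V (c : CData Q T V A a d) : NmHyp V d := by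
  refine ⟨?_, c.hV2, c.hQd.hd3, ?_⟩
  · intro x hx y hy
    exact c.hVc y hy x (c.hVQ hx)
  · haveI := c.hVn
    rw [Subgroup.normalizer_eq_top]; exact Subgroup.mem_top d

/-- `R` centralizes `Z`. -/
theorem R_comm_Z (c : CData Q T V A a d) {r z : X} (hr : r ∈ RR Q d)
    (hz : z ∈ Cfsg.omegaCenterOf (RR Q d)) : r * z = z * r :=
  (Cfsg.Agent.Lead.JComp.mem_omegaCenterOf hz).2.1 r hr

theorem Z_le_R (c : CData Q T V A a d) : Cfsg.omegaCenterOf (RR Q d) ≤ RR Q d :=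
  fun _ hz => (Cfsg.Agent.Lead.JComp.mem_omegaCenterOf hz).1

/-- `[Z, K] = [Z, d]`. -/
theorem U_eq (c : CData Q T V A a d) :
    ⁅Cfsg.omegaCenterOf (RR Q d), KK Q d⁆ =
      ⁅Cfsg.omegaCenterOf (RR Q d), Subgroup.zpowers d⁆ := by
  apply le_antisymm
  · rw [Subgroup.commutator_le]
    intro z hz k hk
    obtain ⟨r, hr, i, rfl⟩ := c.hQd.exists_decomp hk
    have e : ⁅z, r * d ^ i⁆ = ⁅z, d ^ i⁆ := by
      rw [commutatorElement_def, commutatorElement_def]
      have h1 : z * r = r * z := (c.R_comm_Z hr hz).symm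
      have hzi : z⁻¹ ∈ Cfsg.omegaCenterOf (RR Q d) := Subgroup.inv_mem _ hz
      have hdz : d ^ i * z⁻¹ * (d ^ i)⁻¹ ∈ Cfsg.omegaCenterOf (RR Q d) := by
        have hn : d ^ i ∈ Subgroup.normalizer (Cfsg.omegaCenterOf (RR Q d) : Set X) :=
          Subgroup.zpow_mem _ (c.normalizer_K_le_normalizer_Z c.d_mem_normalizer_K) i
        exact (Subgroup.mem_normalizer_iff.1 hn _).1 hzi
      have h2 := c.R_comm_Z hr hdz
      calc z * (r * d ^ i) * z⁻¹ * (r * d ^ i)⁻¹
          = (z * r) * (d ^ i * z⁻¹ * (d ^ i)⁻¹) * r⁻¹ := by group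
        _ = r * z * (d ^ i * z⁻¹ * (d ^ i)⁻¹) * r⁻¹ := by rw [h1]
        _ = z * (r * (d ^ i * z⁻¹ * (d ^ i)⁻¹)) * r⁻¹ := by rw [← h1]; group
        _ = z * ((d ^ i * z⁻¹ * (d ^ i)⁻¹) * r) * r⁻¹ := by rw [h2]
        _ = z * d ^ i * z⁻¹ * (d ^ i)⁻¹ := by group
    rw [e]
    exact Subgroup.commutator_mem_commutator hz (Subgroup.zpow_mem _ (Subgroup.mem_zpowers d) i)
  · exact Subgroup.commutator_mono le_rfl (Subgroup.zpowers_le.2 c.hQd.d_mem_K)

end CData

end Cfsg.Agent.Helper1.JLS
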