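import Mathlib
import Cfsg.Prelude.Def_JComponents
import Cfsg.Agent.Helper1.JLSQ

set_option autoImplicit false

/-!
`W = [V, d]` is a four-group contained in `U = [Ω₁(Z(R)), K]`, and `C_U(Q) = W`.
-/

namespace Cfsg.Agent.Helper1.JLS

open scoped Pointwise commutatorElement

open Cfsg.Agent.Helper1 Cfsg.Agent.Lead.JComp

universe u

variable {X : Type u} [Group X]

namespace CData

variable {Q T V A : Subgroup X} {a d : X}

/-- `U = [Ω₁(Z(R)), K]`. -/
abbrev UU (Q : Subgroup X) (d : X) : Subgroup X := ⁅Cfsg.omegaCenterOf (RR Q d), KK Q d⁆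

/-- `W = [V, d]`. -/
abbrev WW (V : Subgroup X) (d : X) : Subgroup X := ⁅V, Subgroup.zpowers d⁆

theorem W_le_V (c : CData Q T V A a d) : WW V d ≤ V := by
  haveI := c.hVn
  exact Subgroup.commutator_le_left V _

theorem mem_U_iff (c : CData Q T V A a d) {u : X} :
    u ∈ UU Q d ↔ u ∈ Cfsg.omegaCenterOf (RR Q d) ∧ nm d u = 1 := by
  rw [UU, c.U_eq]
  constructor
  · intro hu
    exact c.nmHyp_Z.nm_eq_one_of_mem hu
  · rintro ⟨h1, h2⟩
    exact c.nmHyp_Z.mem_of_nm_eq_one h1 h2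

theorem mem_W_iff (c : CData Q T V A a d) {w : X} :
    w ∈ WW V d ↔ w ∈ V ∧ nm d w = 1 := by
  constructor
  · intro hw
    exact c.nmHyp_V.nm_eq_one_of_mem hw
  · rintro ⟨h1, h2⟩
    exact c.nmHyp_V.mem_of_nm_eq_one h1 h2

theorem W_le_U (c : CData Q T V A a d) : WW V d ≤ UU Q d := by
  intro w hw
  obtain ⟨hwV, hn⟩ := c.mem_W_iff.1 hw
  rw [c.mem_U_iff]
  refine ⟨?_, hn⟩
  apply mem_omegaCenterOf_of
  · rw [← c.nmHyp_V.comm_conj_eq hwV hn]
    exact c.hQd.comm_mem (c.hVQ (c.nmHyp_V.conj_mem hwV))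
  · intro r hr
    exact c.hVc w hwV r hr.2
  · exact c.hV2 w hwV

theorem U_le_Z (c : CData Q T V A a d) : UU Q d ≤ Cfsg.omegaCenterOf (RR Q d) :=
  fun _ hu => (c.mem_U_iff.1 hu).1

theorem U_le_Q (c : CData Q T V A a d) : UU Q d ≤ Q :=
  c.U_le_Z.trans (c.Z_le_R.trans inf_le_right)

theorem U_sq (c : CData Q T V A a d) {u : X} (hu : u ∈ UU Q d) : u * u = 1 :=
  (Cfsg.Agent.Lead.JComp.mem_omegaCenterOf (c.U_le_Z hu)).2.2

theorem U_comm (c : CData Q T V A a d) {u v : X} (hu : u ∈ UU Q d) (hv : v ∈ UU Q d) :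
    u * v = v * u :=
  c.nmHyp_Z.hc u (c.U_le_Z hu) v (c.U_le_Z hv)

theorem U_isElementaryAbelian (c : CData Q T V A a d) : Cfsg.IsElementaryAbelian 2 (UU Q d) := by
  refine ⟨⟨⟨?_⟩⟩, ?_⟩
  · rintro ⟨u, hu⟩ ⟨v, hv⟩
    exact Subtype.ext (c.U_comm hu hv)
  · intro u hu
    rw [pow_two]; exact c.U_sq hu

/-- `C_U(Q) ≤ W`. -/
theorem mem_W_of_comm (c : CData Q T V A a d) {u : X} (hu : u ∈ UU Q d)
    (hc : ∀ q ∈ Q, q * u = u * q) : u ∈ WW V d := by
  obtain ⟨huZ, hn⟩ := c.mem_U_iff.1 hu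
  rw [c.mem_W_iff]
  exact ⟨c.hVmem u (c.U_le_Q hu) hc (c.U_sq hu), hn⟩

theorem U_fixed (c : CData Q T V A a d) {u : X} (hu : u ∈ UU Q d) (hfix : d * u = u * d) :
    u = 1 := by
  rw [UU, c.U_eq] at hu
  exact c.nmHyp_Z.eq_one_of_fixed hu hfix

theorem W_fixed (c : CData Q T V A a d) {w : X} (hw : w ∈ WW V d) (hfix : d * w = w * d) :
    w = 1 := c.nmHyp_V.eq_one_of_fixed hw hfix

theorem W_ne_bot (c : CData Q T V A a d) : WW V d ≠ ⊥ := by
  intro hb
  apply c.hdV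
  rw [Subgroup.mem_centralizer_iff]
  intro v hv
  have h1 : ⁅v, d⁆ ∈ WW V d := Subgroup.commutator_mem_commutator hv (Subgroup.mem_zpowers d)
  rw [hb, Subgroup.mem_bot, commutatorElement_eq_one_iff_mul_comm] at h1
  exact h1

theorem d_mem_normalizer_W (c : CData Q T V A a d) :
    d ∈ Subgroup.normalizer (WW V d : Set X) := c.nmHyp_V.d_mem_normalizer

theorem a_mem_normalizer_zpowers (c : CData Q T V A a d) :
    a ∈ Subgroup.normalizer (Subgroup.zpowers d : Set X) := by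
  have h1 : Subgroup.zpowers a ≤ Subgroup.normalizer (Subgroup.zpowers d : Set X) := by
    apply Cfsg.Agent.Helper2.le_normalizer_of_conj_mem
    intro b hb x hx
    obtain ⟨i, rfl⟩ := Subgroup.mem_zpowers_iff.1 hb
    have hi : a ^ i = a ^ (i % 2) := zpow_eq_zpow_emod i (by
      rw [show ((2 : ℤ)) = ((2 : ℕ) : ℤ) from rfl, zpow_natCast, pow_two]; exact c.a_sq)
    rw [hi]
    have h2 : i % 2 = 0 ∨ i % 2 = 1 := by omega
    obtain ⟨j, rfl⟩ := Subgroup.mem_zpowers_iff.1 hx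
    rcases h2 with h2 | h2
    · rw [h2, zpow_zero]; simp
    · rw [h2, zpow_one]
      have : a * d ^ j * a⁻¹ = (a * d * a⁻¹) ^ j := by
        rw [← MulAut.conj_apply, map_zpow, MulAut.conj_apply]
      rw [this, c.hinv]
      exact Subgroup.zpow_mem _ (Subgroup.inv_mem _ (Subgroup.mem_zpowers d)) j
  exact h1 (Subgroup.mem_zpowers a)

theorem a_mem_normalizer_W (c : CData Q T V A a d) :
    a ∈ Subgroup.normalizer (WW V d : Set X) := by
  have h1 : Subgroup.zpowers a ≤ Subgroup.normalizer (WW V d : Set X) := by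
    apply Cfsg.Agent.Helper1.le_normalizer_commutator
    · haveI := c.hVn
      rw [Subgroup.normalizer_eq_top]; exact le_top
    · rw [Subgroup.zpowers_le]; exact c.a_mem_normalizer_zpowers
  exact h1 (Subgroup.mem_zpowers a)

/-- `a` does not centralize `W`. -/
theorem exists_not_comm (c : CData Q T V A a d) : ∃ w ∈ WW V d, a * w ≠ w * a := by
  by_contra hcon
  push Not at hcon
  apply c.W_ne_bot
  rw [eq_bot_iff]
  intro w hw
  rw [Subgroup.mem_bot]
  apply c.W_fixed hw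
  -- `d w d⁻¹ ∈ W` is centralized by `a`
  have hw' : d * w * d⁻¹ ∈ WW V d := (Subgroup.mem_normalizer_iff.1 c.d_mem_normalizer_W w).1 hw
  have h1 := hcon w hw
  have h2 := hcon _ hw'
  -- a d = d⁻¹ a
  have h3 : a * d = d⁻¹ * a := by
    have := c.hinv
    calc a * d = (a * d * a⁻¹) * a := by group
      _ = d⁻¹ * a := by rw [this]
  have h4 : d⁻¹ * w * d = d * w * d⁻¹ := by
    have e1 : a * (d * w * d⁻¹) = d⁻¹ * w * d * a := by
      calc a * (d * w * d⁻¹) = (a * d) * w * d⁻¹ := by group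
        _ = d⁻¹ * (a * w) * d⁻¹ := by rw [h3]; group
        _ = d⁻¹ * w * (a * d⁻¹) := by rw [h1]; group
        _ = d⁻¹ * w * (d * a) := by
            have : a * d⁻¹ = d * a := by
              calc a * d⁻¹ = (a * d⁻¹ * a⁻¹) * a := by group
                _ = d * a := by rw [c.inv']
            rw [this]
        _ = d⁻¹ * w * d * a := by group
    rw [h2] at e1
    exact (mul_right_cancel e1).symm
  -- so `d² w d⁻² = w`, and `d² = d⁻¹`
  have hddd := c.nmHyp_V.ddd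
  have hdi : d⁻¹ = d * d := by
    calc d⁻¹ = d⁻¹ * (d * d * d) := by rw [hddd, mul_one]
      _ = d * d := by group
  calc d * w = d * (d * (d⁻¹ * w * d) * d⁻¹) := by group
    _ = d * (d * (d * w * d⁻¹) * d⁻¹) := by rw [h4]
    _ = (d * d * d) * w * (d * d)⁻¹ := by group
    _ = w * d := by rw [hddd, ← hdi]; group

end CData

end Cfsg.Agent.Helper1.JLS
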