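import Mathlib
import Cfsg.Prelude.Def_JComponents
import Cfsg.Agent.Helper1.JLSR

set_option autoImplicit false

/-!
`|W| = 4` and `C_U(A ∩ Q) = W`.
-/

namespace Cfsg.Agent.Helper1.JLS

open scoped Pointwise commutatorElement

open Cfsg.Agent.Helper1 Cfsg.Agent.Lead.JComp

universe u

variable {X : Type u} [Group X]

namespace CData

variable {Q T V A : Subgroup X} {a d : X}

/-- A `d`-invariant elementary abelian subgroup of `T` centralized by `A ∩ Q` on which `d` acts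
fixed-point-freely has order at most `4`. -/
theorem card_le_four [Finite X] (c : CData Q T V A a d) {N : Subgroup X} (hNT : N ≤ T)
    (hNe : Cfsg.IsElementaryAbelian 2 N) (hNc : ∀ b ∈ A ⊓ Q, ∀ n ∈ N, b * n = n * b)
    (hdN : d ∈ Subgroup.normalizer (N : Set X)) (hfix : ∀ n ∈ N, d * n = n * d → n = 1) :
    Nat.card ↥N ≤ 4 := by
  have h1 := card_le_two_mul_of_isMaxEA c.hA (inf_le_left : A ⊓ Q ≤ A) c.hAQ hNT hNe hNc
  have h2 : (A ⊓ Q) ⊓ N ≤ N ⊓ Subgroup.centralizer {a} := by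
    rintro x ⟨⟨hxA, -⟩, hxN⟩
    refine ⟨hxN, ?_⟩
    show x ∈ Subgroup.centralizer _
    rw [Subgroup.mem_centralizer_iff]
    intro y hy
    rw [Set.mem_singleton_iff] at hy
    rw [hy]
    exact ea_comm c.hA.2.1 c.haA hxA
  have h3 : Nat.card ↥N ≤ 2 * Nat.card ↥(N ⊓ Subgroup.centralizer {a}) :=
    h1.trans (Nat.mul_le_mul_left 2 (Subgroup.card_le_of_le h2))
  have h4 := relIndex_le_two_of_card_le h3
  have h5 := card_le_sq_of_s3 c.a_sq c.hQd.hd3 c.hinv hdN hfix
  calc Nat.card ↥N ≤ ((N ⊓ Subgroup.centralizer {a}).relIndex N) ^ 2 := h5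
    _ ≤ 2 ^ 2 := Nat.pow_le_pow_left h4 2
    _ = 4 := by norm_num

theorem V_le_T (c : CData Q T V A a d) : V ≤ T := c.hVQ.trans c.hQT

theorem V_isElementaryAbelian (c : CData Q T V A a d) : Cfsg.IsElementaryAbelian 2 V := by
  refine ⟨⟨⟨?_⟩⟩, ?_⟩
  · rintro ⟨u, hu⟩ ⟨v, hv⟩
    exact Subtype.ext (c.nmHyp_V.hc u hu v hv)
  · intro u hu
    rw [pow_two]; exact c.hV2 u hu

theorem card_W [Finite X] (c : CData Q T V A a d) : Nat.card ↥(WW V d) = 4 := by
  have hWe : Cfsg.IsElementaryAbelian 2 (WW V d) := ea_of_le c.V_isElementaryAbelian c.W_le_V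
  have h1 : Nat.card ↥(WW V d) ≤ 4 := by
    apply c.card_le_four (c.W_le_V.trans c.V_le_T) hWe
    · intro b hb n hn
      exact c.hVc n (c.W_le_V hn) b hb.2
    · exact c.d_mem_normalizer_W
    · intro n hn
      exact c.W_fixed hn
  haveI : Fact (Nat.Prime 2) := ⟨Nat.prime_two⟩
  obtain ⟨k, hk⟩ := IsPGroup.iff_card.1 (isElementaryAbelian_isPGroup hWe)
  have hne := c.W_ne_bot
  have hk0 : k ≠ 0 := by
    rintro rfl
    rw [pow_zero] at hk
    exact hne (Subgroup.card_eq_one.1 hk)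
  have hk2 : k ≤ 2 := by
    by_contra hlt
    push Not at hlt
    have : 2 ^ 3 ≤ 2 ^ k := Nat.pow_le_pow_right (by norm_num) hlt
    omega
  have hk1 : k ≠ 1 := by
    rintro rfl
    rw [pow_one] at hk
    obtain ⟨w, hw1, hwu⟩ := (Nat.card_eq_two_iff' (1 : ↥(WW V d))).1 hk
    have hw' : d * (w : X) * d⁻¹ ∈ WW V d :=
      (Subgroup.mem_normalizer_iff.1 c.d_mem_normalizer_W w).1 w.2
    have h2 : (⟨d * (w : X) * d⁻¹, hw'⟩ : ↥(WW V d)) = w := by
      apply hwu
      intro h3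
      apply hw1
      have h4 : d * (w : X) * d⁻¹ = 1 := congrArg Subtype.val h3
      apply Subtype.ext
      have : (w : X) = d⁻¹ * (d * (w : X) * d⁻¹) * d := by group
      rw [this, h4]; simp
    have h3 : d * (w : X) * d⁻¹ = w := congrArg Subtype.val h2
    apply hw1
    apply Subtype.ext
    apply c.W_fixed w.2
    calc d * (w : X) = (d * (w : X) * d⁻¹) * d := by group
      _ = w * d := by rw [h3]
  have : k = 2 := by omega
  rw [hk, this]; norm_num

/-- `A ∩ Q` centralizes `W`. -/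
theorem AQ_comm_W (c : CData Q T V A a d) {b w : X} (hb : b ∈ A ⊓ Q) (hw : w ∈ WW V d) :
    b * w = w * b := c.hVc w (c.W_le_V hw) b hb.2

/-- conjugation by `d` moves elements of `Q` by elements of `R`. -/
theorem conj_inv_eq (c : CData Q T V A a d) {q : X} (hq : q ∈ Q) :
    ∃ r ∈ RR Q d, d⁻¹ * q * d = r * q := by
  refine ⟨d⁻¹ * ⁅q, d⁆ * d, ?_, ?_⟩
  · have h1 := c.hQd.comm_mem hq
    have h2 : d⁻¹ ∈ Subgroup.normalizer (RR Q d : Set X) :=
      Subgroup.inv_mem _ (c.normalizer_K_le_normalizer_R c.d_mem_normalizer_K)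
    have := (Subgroup.mem_normalizer_iff.1 h2 _).1 h1
    simpa using this
  · rw [commutatorElement_def]; group

/-- `C_U(A ∩ Q)`. -/
abbrev NN (Q A : Subgroup X) (d : X) : Subgroup X :=
  UU Q d ⊓ Subgroup.centralizer ((A ⊓ Q : Subgroup X) : Set X)

theorem d_conj_mem_N (c : CData Q T V A a d) {n : X} (hn : n ∈ NN Q A d) :
    d * n * d⁻¹ ∈ NN Q A d := by
  obtain ⟨hnU, hnC⟩ := hn
  have hdU : d ∈ Subgroup.normalizer (UU Q d : Set X) :=
    c.normalizer_K_le_normalizer_U c.d_mem_normalizer_K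
  refine ⟨(Subgroup.mem_normalizer_iff.1 hdU n).1 hnU, ?_⟩
  have hnC : n ∈ Subgroup.centralizer ((A ⊓ Q : Subgroup X) : Set X) := hnC
  show d * n * d⁻¹ ∈ Subgroup.centralizer _
  rw [Subgroup.mem_centralizer_iff]
  intro b hb
  obtain ⟨r, hr, hrb⟩ := c.conj_inv_eq hb.2
  have h1 : r * n = n * r := c.R_comm_Z hr (c.U_le_Z hnU)
  have h2 : b * n = n * b := Subgroup.mem_centralizer_iff.1 hnC b hb
  have h3 : (d⁻¹ * b * d) * n = n * (d⁻¹ * b * d) := by
    rw [hrb]
    calc r * b * n = r * (b * n) := by group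
      _ = r * (n * b) := by rw [h2]
      _ = (r * n) * b := by group
      _ = n * r * b := by rw [h1]
      _ = n * (r * b) := by group
  calc b * (d * n * d⁻¹) = d * ((d⁻¹ * b * d) * n) * d⁻¹ := by group
    _ = d * (n * (d⁻¹ * b * d)) * d⁻¹ := by rw [h3]
    _ = d * n * d⁻¹ * b := by group

/-- `C_U(A ∩ Q) = W`. -/
theorem N_eq_W [Finite X] (c : CData Q T V A a d) : NN Q A d = WW V d := by
  symm
  apply Subgroup.eq_of_le_of_card_ge
  · intro w hw
    refine ⟨c.W_le_U hw, ?_⟩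
    show w ∈ Subgroup.centralizer _
    rw [Subgroup.mem_centralizer_iff]
    intro b hb
    exact c.AQ_comm_W hb hw
  · rw [c.card_W]
    apply c.card_le_four (inf_le_left.trans (c.U_le_Q.trans c.hQT))
      (ea_of_le c.U_isElementaryAbelian inf_le_left)
    · intro b hb n hn
      exact Subgroup.mem_centralizer_iff.1 hn.2 b hb
    · apply mem_normalizer_of_forall_conj_mem
      intro n hn
      exact c.d_conj_mem_N hn
    · intro n hn
      exact c.U_fixed hn.1

end CData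

end Cfsg.Agent.Helper1.JLS
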