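import Mathlib
import Cfsg.Prelude.Def_JComponents
import Cfsg.Agent.Helper1.JLSS

set_option autoImplicit false

/-!
A would-be element `y ∈ U ∖ W` in the second `Q`-layer of `U`: the subgroup `A₁ = C_{A ∩ Q}(y)`.
-/

namespace Cfsg.Agent.Helper1.JLS

open scoped Pointwise commutatorElement

open Cfsg.Agent.Helper1 Cfsg.Agent.Lead.JComp

universe u

variable {X : Type u} [Group X]

namespace CData

variable {Q T V A : Subgroup X} {a d : X}

/-- an element of `U ∖ W` whose coset modulo `W` is fixed by `Q` and `a`. -/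
structure BadY (Q V : Subgroup X) (a d y : X) : Prop where
  hyU : y ∈ UU Q d
  hyW : y ∉ WW V d
  hyQ : ∀ q ∈ Q, ⁅y, q⁆ ∈ WW V d
  hya : ⁅y, a⁆ ∈ WW V d

theorem exists_badY [Finite X] (c : CData Q T V A a d) (hUW : ¬ UU Q d ≤ WW V d) :
    ∃ y, BadY Q V a d y := by
  haveI : Fact (Nat.Prime 2) := ⟨Nat.prime_two⟩
  have hP : IsPGroup 2 ↥(Q ⊔ Subgroup.zpowers a) :=
    c.hT2.to_le (sup_le c.hQT (Subgroup.zpowers_le.2 c.a_mem_T))
  have hU2 : IsPGroup 2 ↥(UU Q d) := c.hQd.hQ2.to_le c.U_le_Q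
  have hPU : Q ⊔ Subgroup.zpowers a ≤ Subgroup.normalizer (UU Q d : Set X) := by
    refine sup_le (c.Q_le_normalizer_K.trans c.normalizer_K_le_normalizer_U) ?_
    rw [Subgroup.zpowers_le]
    exact c.normalizer_K_le_normalizer_U c.a_mem_normalizer_K
  obtain ⟨y, hyU, hyW, hy⟩ := exists_rel_fixed hU2 hP hPU hUW
  exact ⟨y, hyU, hyW, fun q hq => hy q (Subgroup.mem_sup_left hq),
    hy a (Subgroup.mem_sup_right (Subgroup.mem_zpowers a))⟩

namespace BadY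

variable {y : X}

theorem y_inv (c : CData Q T V A a d) (hy : BadY Q V a d y) : y⁻¹ = y :=
  inv_eq_of_mul_eq_one_left (c.U_sq hy.hyU)

theorem y_mem_Q (c : CData Q T V A a d) (hy : BadY Q V a d y) : y ∈ Q := c.U_le_Q hy.hyU

/-- `a y a⁻¹ = y w₁` with `w₁ ∈ W`. -/
theorem conj_a (c : CData Q T V A a d) (hy : BadY Q V a d y) :
    a * y * a⁻¹ = y * ⁅y, a⁆ := by
  rw [commutatorElement_def, hy.y_inv c]
  have h1 := c.U_sq hy.hyU
  calc a * y * a⁻¹ = (y * y) * a * y * a⁻¹ := by rw [h1, one_mul]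
    _ = y * (y * a * y * a⁻¹) := by group

/-- for `b ∈ A ∩ Q`, `[y, b] ∈ C_W(a)`. -/
theorem comm_fixed (c : CData Q T V A a d) (hy : BadY Q V a d y) {b : X} (hb : b ∈ A ⊓ Q) :
    a * ⁅y, b⁆ = ⁅y, b⁆ * a := by
  have h1 : a * b * a⁻¹ = b := by
    rw [ea_comm c.hA.2.1 c.haA hb.1]; group
  have hw : ⁅y, a⁆ ∈ V := c.W_le_V hy.hya
  have h2 : b * ⁅y, a⁆ = ⁅y, a⁆ * b := c.hVc _ hw b hb.2
  have h2' : b * (⁅y, a⁆)⁻¹ = (⁅y, a⁆)⁻¹ * b := c.hVc _ (V.inv_mem hw) b hb.2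
  have h3 : a * ⁅y, b⁆ * a⁻¹ = ⁅y, b⁆ := by
    have e : a * ⁅y, b⁆ * a⁻¹ = ⁅a * y * a⁻¹, a * b * a⁻¹⁆ := by
      rw [commutatorElement_def, commutatorElement_def]; group
    rw [e, h1, hy.conj_a c]
    set w := ⁅y, a⁆ with hwdef
    rw [commutatorElement_def, commutatorElement_def]
    calc y * w * b * (y * w)⁻¹ * b⁻¹ = y * (w * (b * w⁻¹)) * y⁻¹ * b⁻¹ := by group
      _ = y * (w * (w⁻¹ * b)) * y⁻¹ * b⁻¹ := by rw [h2']
      _ = y * b * y⁻¹ * b⁻¹ := by group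
  calc a * ⁅y, b⁆ = (a * ⁅y, b⁆ * a⁻¹) * a := by group
    _ = ⁅y, b⁆ * a := by rw [h3]

/-- `b ↦ [y, b]` is multiplicative on `A ∩ Q`. -/
theorem comm_mul (c : CData Q T V A a d) (hy : BadY Q V a d y) {b b' : X} (hb : b ∈ A ⊓ Q)
    (hb' : b' ∈ A ⊓ Q) : ⁅y, b * b'⁆ = ⁅y, b⁆ * ⁅y, b'⁆ := by
  have hw : ⁅y, b'⁆ ∈ V := c.W_le_V (hy.hyQ b' hb'.2)
  have h2 : b * ⁅y, b'⁆ = ⁅y, b'⁆ * b := c.hVc _ hw b hb.2
  have e : ⁅y, b * b'⁆ = ⁅y, b⁆ * (b * ⁅y, b'⁆ * b⁻¹) := by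
    rw [commutatorElement_def, commutatorElement_def, commutatorElement_def]; group
  rw [e, h2]; group

/-- `C_W(a)` has order at most `2`. -/
theorem card_W_fixed [Finite X] (c : CData Q T V A a d) :
    Nat.card ↥(WW V d ⊓ Subgroup.centralizer {a}) ≤ 2 := by
  have hlt : WW V d ⊓ Subgroup.centralizer {a} < WW V d := by
    refine lt_of_le_of_ne inf_le_left ?_
    intro heq
    obtain ⟨w, hw, hwa⟩ := c.exists_not_comm
    apply hwa
    have : w ∈ WW V d ⊓ Subgroup.centralizer {a} := by rw [heq]; exact hw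
    exact Subgroup.mem_centralizer_iff.1 this.2 a rfl
  have := two_mul_card_le_of_lt hlt
  rw [c.card_W] at this
  omega

/-- two nontrivial elements of `C_W(a)` multiply to `1`. -/
theorem mul_eq_one_of_ne [Finite X] (c : CData Q T V A a d) {x z : X}
    (hx : x ∈ WW V d ⊓ Subgroup.centralizer {a}) (hz : z ∈ WW V d ⊓ Subgroup.centralizer {a})
    (hx1 : x ≠ 1) (hz1 : z ≠ 1) : x * z = 1 := by
  have hx2 : x * x = 1 := c.hV2 x (c.W_le_V hx.1)
  have hord : orderOf x = 2 := orderOf_eq_prime (by rw [pow_two]; exact hx2) hx1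
  have hle : Subgroup.zpowers x ≤ WW V d ⊓ Subgroup.centralizer {a} := Subgroup.zpowers_le.2 hx
  have heq : Subgroup.zpowers x = WW V d ⊓ Subgroup.centralizer {a} := by
    apply Subgroup.eq_of_le_of_card_ge hle
    rw [Nat.card_zpowers, hord]
    exact card_W_fixed c
  rw [← heq] at hz
  obtain ⟨i, rfl⟩ := Subgroup.mem_zpowers_iff.1 hz
  have hi : x ^ i = x ^ (i % 2) := zpow_eq_zpow_emod i (by
    rw [show ((2 : ℤ)) = ((2 : ℕ) : ℤ) from rfl, zpow_natCast, pow_two]; exact hx2)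
  rw [hi] at hz1 ⊢
  have h2 : i % 2 = 0 ∨ i % 2 = 1 := by omega
  rcases h2 with h2 | h2
  · rw [h2, zpow_zero] at hz1
    exact absurd rfl hz1
  · rw [h2, zpow_one]; exact hx2

/-- `A₁ = C_{A ∩ Q}(y)`. -/
abbrev A1 (Q A : Subgroup X) (y : X) : Subgroup X := (A ⊓ Q) ⊓ Subgroup.centralizer {y}

theorem mem_A1_iff {b : X} (hb : b ∈ A ⊓ Q) : b ∈ A1 Q A y ↔ ⁅y, b⁆ = 1 := by
  rw [commutatorElement_eq_one_iff_mul_comm]
  constructor
  · intro h
    have h1 : b ∈ Subgroup.centralizer {y} := h.2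
    exact Subgroup.mem_centralizer_iff.1 h1 y rfl
  · intro h
    refine ⟨hb, ?_⟩
    show b ∈ Subgroup.centralizer _
    rw [Subgroup.mem_centralizer_iff]
    intro z hz
    rw [Set.mem_singleton_iff] at hz
    rw [hz]; exact h

/-- `|A ∩ Q : A₁| ≤ 2`. -/
theorem card_AQ_le [Finite X] (c : CData Q T V A a d) (hy : BadY Q V a d y) :
    Nat.card ↥(A ⊓ Q) ≤ 2 * Nat.card ↥(A1 Q A y) := by
  by_cases hall : A ⊓ Q ≤ A1 Q A y
  · have := Subgroup.card_le_of_le hall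
    omega
  · obtain ⟨b₀, hb₀, hb₀1⟩ := SetLike.not_le_iff_exists.1 hall
    have hb₀sq : b₀ * b₀ = 1 := ea_sq c.hA.2.1 hb₀.1
    have hcomm : ∀ b ∈ A1 Q A y, b₀ * b = b * b₀ := fun b hb =>
      ea_comm c.hA.2.1 hb₀.1 hb.1.1
    have hcard := card_sup_zpowers_of_not_mem hb₀sq hb₀1 hcomm
    rw [← hcard]
    apply Subgroup.card_le_of_le
    intro b hb
    by_cases hb1 : b ∈ A1 Q A y
    · exact Subgroup.mem_sup_left hb1
    · have h1 : ⁅y, b⁆ ≠ 1 := fun h => hb1 ((mem_A1_iff hb).2 h)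
      have h2 : ⁅y, b₀⁆ ≠ 1 := fun h => hb₀1 ((mem_A1_iff hb₀).2 h)
      have h3 : ⁅y, b⁆ ∈ WW V d ⊓ Subgroup.centralizer {a} := by
        refine ⟨hy.hyQ b hb.2, ?_⟩
        show ⁅y, b⁆ ∈ Subgroup.centralizer _
        rw [Subgroup.mem_centralizer_iff]
        intro z hz
        rw [Set.mem_singleton_iff] at hz
        rw [hz]; exact hy.comm_fixed c hb
      have h4 : ⁅y, b₀⁆ ∈ WW V d ⊓ Subgroup.centralizer {a} := by
        refine ⟨hy.hyQ b₀ hb₀.2, ?_⟩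
        show ⁅y, b₀⁆ ∈ Subgroup.centralizer _
        rw [Subgroup.mem_centralizer_iff]
        intro z hz
        rw [Set.mem_singleton_iff] at hz
        rw [hz]; exact hy.comm_fixed c hb₀
      have h5 : ⁅y, b * b₀⁆ = 1 := by
        rw [hy.comm_mul c hb hb₀]
        exact mul_eq_one_of_ne c h3 h4 h1 h2
      have h6 : b * b₀ ∈ A1 Q A y := (mem_A1_iff (Subgroup.mul_mem _ hb hb₀)).2 h5
      have : b = (b * b₀) * b₀⁻¹ := by group
      rw [this]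
      exact Subgroup.mul_mem _ (Subgroup.mem_sup_left h6)
        (Subgroup.mem_sup_right (Subgroup.inv_mem _ (Subgroup.mem_zpowers b₀)))

/-- `A₁` centralizes `d y d⁻¹`. -/
theorem A1_comm_conj (c : CData Q T V A a d) (hy : BadY Q V a d y) {b : X}
    (hb : b ∈ A1 Q A y) : b * (d * y * d⁻¹) = (d * y * d⁻¹) * b := by
  obtain ⟨r, hr, hrb⟩ := c.conj_inv_eq hb.1.2
  have h1 : r * y = y * r := c.R_comm_Z hr (c.U_le_Z hy.hyU)
  have hb' : b ∈ Subgroup.centralizer {y} := hb.2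
  have h2 : y * b = b * y := Subgroup.mem_centralizer_iff.1 hb' y rfl
  have h3 : (d⁻¹ * b * d) * y = y * (d⁻¹ * b * d) := by
    rw [hrb]
    calc r * b * y = r * (b * y) := by group
      _ = r * (y * b) := by rw [h2]
      _ = (r * y) * b := by group
      _ = y * r * b := by rw [h1]
      _ = y * (r * b) := by group
  calc b * (d * y * d⁻¹) = d * ((d⁻¹ * b * d) * y) * d⁻¹ := by group
    _ = d * (y * (d⁻¹ * b * d)) * d⁻¹ := by rw [h3]
    _ = d * y * d⁻¹ * b := by group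

end BadY

end CData

end Cfsg.Agent.Helper1.JLS
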