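import Mathlib
import Cfsg.Prelude.Def_JComponents
import Cfsg.Agent.Helper1.JLST

set_option autoImplicit false

/-!
The final count: `U = W`, so `[Ω₁(Z(O₂(K))), K]` is a four-group.
-/

namespace Cfsg.Agent.Helper1.JLS

open scoped Pointwise commutatorElement

open Cfsg.Agent.Helper1 Cfsg.Agent.Lead.JComp

universe u

variable {X : Type u} [Group X]

namespace CData

variable {Q T V A : Subgroup X} {a d : X}

theorem mem_W_of_conj (c : CData Q T V A a d) {y : X} (h : d * y * d⁻¹ ∈ WW V d) :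
    y ∈ WW V d := by
  have h2 : d⁻¹ ∈ Subgroup.normalizer (WW V d : Set X) := Subgroup.inv_mem _ c.d_mem_normalizer_W
  have := (Subgroup.mem_normalizer_iff.1 h2 _).1 h
  have e : d⁻¹ * (d * y * d⁻¹) * d⁻¹⁻¹ = y := by group
  rwa [e] at this

/-- elements of `A₁ V` commute with `A ∩ Q`. -/
theorem comm_of_mem_sup (c : CData Q T V A a d) {y x : X}
    (hx : x ∈ BadY.A1 Q A y ⊔ V) {b' : X} (hb' : b' ∈ A ⊓ Q) : b' * x = x * b' := by
  have hcent : BadY.A1 Q A y ⊔ V ≤ Subgroup.centralizer {b'} := by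
    refine sup_le ?_ ?_
    · intro b hb
      rw [Subgroup.mem_centralizer_iff]
      intro z hz
      rw [Set.mem_singleton_iff] at hz
      rw [hz]
      exact ea_comm c.hA.2.1 hb'.1 hb.1.1
    · intro v hv
      rw [Subgroup.mem_centralizer_iff]
      intro z hz
      rw [Set.mem_singleton_iff] at hz
      rw [hz]
      exact c.hVc v hv b' hb'.2
  exact Subgroup.mem_centralizer_iff.1 (hcent hx) b' rfl

namespace BadY

variable {y : X}

theorem false_of_badY [Finite X] (c : CData Q T V A a d) (hy : BadY Q V a d y) : False := by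
  set A₁ := A1 Q A y with hA₁
  set y' := d * y * d⁻¹ with hy'
  have hA₁Q : A₁ ≤ Q := inf_le_left.trans inf_le_right
  have hA₁A : A₁ ≤ A := inf_le_left.trans inf_le_left
  have hA₁e : Cfsg.IsElementaryAbelian 2 A₁ := ea_of_le c.hA.2.1 hA₁A
  have hVe := c.V_isElementaryAbelian
  have hy2 : y * y = 1 := c.U_sq hy.hyU
  have hdU : d ∈ Subgroup.normalizer (UU Q d : Set X) :=
    c.normalizer_K_le_normalizer_U c.d_mem_normalizer_K
  have hy'U : y' ∈ UU Q d := (Subgroup.mem_normalizer_iff.1 hdU y).1 hy.hyU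
  have hy'2 : y' * y' = 1 := c.U_sq hy'U
  have hyy' : y * y' = y' * y := c.U_comm hy.hyU hy'U
  -- `B₀ = A₁ V`
  have hA₁V : ∀ e ∈ A₁, ∀ f ∈ V, e * f = f * e := fun e he f hf => c.hVc f hf e (hA₁Q he)
  have hB₀e : Cfsg.IsElementaryAbelian 2 (A₁ ⊔ V) := ea_sup hA₁e hVe hA₁V
  have hVnorm : V ≤ Subgroup.normalizer (A₁ : Set X) := by
    intro v hv
    apply mem_normalizer_of_forall_conj_mem
    intro b hb
    have : v * b * v⁻¹ = b := by rw [← hA₁V b hb v hv]; group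
    rw [this]; exact hb
  have hB₀card : 2 * Nat.card ↥A₁ ≤ Nat.card ↥(A₁ ⊔ V) := by
    have h1 := card_sup_mul_card_inf hVnorm
    have h2 : A₁ ⊓ V ≤ V ⊓ Subgroup.centralizer {a} := by
      rintro x ⟨hxA, hxV⟩
      refine ⟨hxV, ?_⟩
      show x ∈ Subgroup.centralizer _
      rw [Subgroup.mem_centralizer_iff]
      intro z hz
      rw [Set.mem_singleton_iff] at hz
      rw [hz]
      exact ea_comm c.hA.2.1 c.haA (hA₁A hxA)
    have h3 : V ⊓ Subgroup.centralizer {a} < V := by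
      refine lt_of_le_of_ne inf_le_left ?_
      intro heq
      obtain ⟨w, hw, hwa⟩ := c.exists_not_comm
      apply hwa
      have : w ∈ V ⊓ Subgroup.centralizer {a} := by rw [heq]; exact c.W_le_V hw
      exact Subgroup.mem_centralizer_iff.1 this.2 a rfl
    have h4 := two_mul_card_le_of_lt h3
    have h5 : Nat.card ↥(A₁ ⊓ V) ≤ Nat.card ↥(V ⊓ Subgroup.centralizer {a}) :=
      Subgroup.card_le_of_le h2
    have hpos : 0 < Nat.card ↥V := Nat.card_pos
    have h6 : 2 * Nat.card ↥A₁ * Nat.card ↥V ≤ Nat.card ↥(A₁ ⊔ V) * Nat.card ↥V := by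
      calc 2 * Nat.card ↥A₁ * Nat.card ↥V = 2 * (Nat.card ↥A₁ * Nat.card ↥V) := by ring
        _ = 2 * (Nat.card ↥(A₁ ⊔ V) * Nat.card ↥(A₁ ⊓ V)) := by rw [h1]
        _ = Nat.card ↥(A₁ ⊔ V) * (2 * Nat.card ↥(A₁ ⊓ V)) := by ring
        _ ≤ Nat.card ↥(A₁ ⊔ V) * Nat.card ↥V :=
          Nat.mul_le_mul_left _ ((Nat.mul_le_mul_left 2 h5).trans h4)
    exact Nat.le_of_mul_le_mul_right h6 hpos
  -- elements of `U` commuting with `A ∩ Q` lie in `W`
  have hNW : ∀ x ∈ UU Q d, x ∈ A₁ ⊔ V → x ∈ WW V d := by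
    intro x hxU hx
    rw [← c.N_eq_W]
    refine ⟨hxU, ?_⟩
    show x ∈ Subgroup.centralizer _
    rw [Subgroup.mem_centralizer_iff]
    intro b' hb'
    exact c.comm_of_mem_sup hx hb'
  have hyB₀ : y ∉ A₁ ⊔ V := fun h => hy.hyW (hNW y hy.hyU h)
  have hB₀y : A₁ ⊔ V ≤ Subgroup.centralizer {y} := by
    refine sup_le inf_le_right ?_
    intro v hv
    rw [Subgroup.mem_centralizer_iff]
    intro z hz
    rw [Set.mem_singleton_iff] at hz
    rw [hz]
    exact c.hVc v hv y (hy.y_mem_Q c)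
  have hycomm : ∀ b ∈ A₁ ⊔ V, y * b = b * y := fun b hb =>
    Subgroup.mem_centralizer_iff.1 (hB₀y hb) y rfl
  have hB₁card := card_sup_zpowers_of_not_mem hy2 hyB₀ hycomm
  have hB₁e : Cfsg.IsElementaryAbelian 2 (A₁ ⊔ V ⊔ Subgroup.zpowers y) := by
    apply ea_sup hB₀e (ea_zpowers hy2)
    intro e he f hf
    obtain ⟨i, rfl⟩ := Subgroup.mem_zpowers_iff.1 hf
    exact (Commute.zpow_right (show Commute e y from (hycomm e he).symm) i).eq
  -- `y'`
  have hy'Q : y' ∈ Q := c.U_le_Q hy'U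
  have hB₁y' : A₁ ⊔ V ⊔ Subgroup.zpowers y ≤ Subgroup.centralizer {y'} := by
    refine sup_le (sup_le ?_ ?_) ?_
    · intro b hb
      rw [Subgroup.mem_centralizer_iff]
      intro z hz
      rw [Set.mem_singleton_iff] at hz
      rw [hz]
      exact (hy.A1_comm_conj c hb).symm
    · intro v hv
      rw [Subgroup.mem_centralizer_iff]
      intro z hz
      rw [Set.mem_singleton_iff] at hz
      rw [hz]
      exact c.hVc v hv y' hy'Q
    · rw [Subgroup.zpowers_le, Subgroup.mem_centralizer_iff]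
      intro z hz
      rw [Set.mem_singleton_iff] at hz
      rw [hz]
      exact hyy'.symm
  have hy'comm : ∀ b ∈ A₁ ⊔ V ⊔ Subgroup.zpowers y, y' * b = b * y' := fun b hb =>
    Subgroup.mem_centralizer_iff.1 (hB₁y' hb) y' rfl
  have hy'B₁ : y' ∉ A₁ ⊔ V ⊔ Subgroup.zpowers y := by
    intro hmem
    have hznorm : Subgroup.zpowers y ≤ Subgroup.normalizer ((A₁ ⊔ V : Subgroup X) : Set X) := by
      rw [Subgroup.zpowers_le]
      apply mem_normalizer_of_forall_conj_mem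
      intro b hb
      have : y * b * y⁻¹ = b := by rw [hycomm b hb]; group
      rw [this]; exact hb
    obtain ⟨b₀, hb₀, z, hz, hyz⟩ := mem_sup_of_le_normalizer hznorm hmem
    obtain ⟨i, rfl⟩ := Subgroup.mem_zpowers_iff.1 hz
    have hi : y ^ i = y ^ (i % 2) := zpow_eq_zpow_emod i (by
      rw [show ((2 : ℤ)) = ((2 : ℕ) : ℤ) from rfl, zpow_natCast, pow_two]; exact hy2)
    rw [hi] at hyz
    have h2 : i % 2 = 0 ∨ i % 2 = 1 := by omega
    rcases h2 with h2 | h2
    · rw [h2, zpow_zero, mul_one] at hyz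
      have : y' ∈ WW V d := hNW y' hy'U (hyz ▸ hb₀)
      exact hy.hyW (c.mem_W_of_conj this)
    · rw [h2, zpow_one] at hyz
      have hb₀eq : b₀ = y' * y := by
        rw [hyz, mul_assoc, hy2, mul_one]
      have hb₀U : b₀ ∈ UU Q d := by rw [hb₀eq]; exact Subgroup.mul_mem _ hy'U hy.hyU
      have hb₀W : b₀ ∈ WW V d := hNW b₀ hb₀U hb₀
      -- `y y' y'' = 1`
      have hnm := (c.mem_U_iff.1 hy.hyU).2
      unfold nm at hnm
      have hy'' : d * d * y * d⁻¹ * d⁻¹ = (y' * y)⁻¹ := by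
        rw [← hyy']
        exact eq_inv_of_mul_eq_one_right hnm
      have h3 : d * d * y * d⁻¹ * d⁻¹ ∈ WW V d := by
        rw [hy'', ← hb₀eq]; exact Subgroup.inv_mem _ hb₀W
      have h4 : d * (d * y * d⁻¹) * d⁻¹ ∈ WW V d := by
        have e : d * (d * y * d⁻¹) * d⁻¹ = d * d * y * d⁻¹ * d⁻¹ := by group
        rw [e]; exact h3
      exact hy.hyW (c.mem_W_of_conj (c.mem_W_of_conj h4))
  have hB₂card := card_sup_zpowers_of_not_mem hy'2 hy'B₁ hy'comm
  have hB₂e : Cfsg.IsElementaryAbelian 2 (A₁ ⊔ V ⊔ Subgroup.zpowers y ⊔ Subgroup.zpowers y') := by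
    apply ea_sup hB₁e (ea_zpowers hy'2)
    intro e he f hf
    obtain ⟨i, rfl⟩ := Subgroup.mem_zpowers_iff.1 hf
    exact (Commute.zpow_right (show Commute e y' from (hy'comm e he).symm) i).eq
  have hB₂T : A₁ ⊔ V ⊔ Subgroup.zpowers y ⊔ Subgroup.zpowers y' ≤ T := by
    refine sup_le (sup_le (sup_le (hA₁Q.trans c.hQT) c.V_le_T) ?_) ?_
    · rw [Subgroup.zpowers_le]; exact c.hQT (hy.y_mem_Q c)
    · rw [Subgroup.zpowers_le]; exact c.hQT hy'Q
  have hmax := c.hA.2.2 _ hB₂T hB₂e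
  have hAQ := c.hAQ
  have hA₁card : Nat.card ↥(A ⊓ Q) ≤ 2 * Nat.card ↥A₁ := hy.card_AQ_le c
  have hpos : 0 < Nat.card ↥A₁ := Nat.card_pos
  rw [hB₂card, hB₁card] at hmax
  omega

end BadY

/-- `U = W`. -/
theorem U_eq_W [Finite X] (c : CData Q T V A a d) : UU Q d = WW V d := by
  apply le_antisymm _ c.W_le_U
  by_contra hUW
  obtain ⟨y, hy⟩ := c.exists_badY hUW
  exact hy.false_of_badY c

/-- The main result: `[Ω₁(Z(R)), K]` is a four-group. -/
theorem card_U [Finite X] (c : CData Q T V A a d) : Nat.card ↥(UU Q d) = 4 := by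
  rw [c.U_eq_W, c.card_W]

end CData

end Cfsg.Agent.Helper1.JLS
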