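import Mathlib
import Cfsg.Prelude.Def_JComponents
import Cfsg.Agent.Helper1.JLSU

set_option autoImplicit false

/-!
Thompson replacement in the `L`-structure setting: a member of `𝒜(T)` whose image in the holomorph
is a given minimal best offender.
-/

namespace Cfsg.Agent.Helper1.JLS

open scoped Pointwise commutatorElement

open Cfsg.Agent.Helper1 Cfsg.Agent.Helper1.Hol Cfsg.Agent.Lead.JComp

universe u

variable {X : Type u} [Group X]

namespace LSHyp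

variable {T : Subgroup X}

/-- members of `𝒜(T)` are of maximal order in `X`. -/
theorem mem_maxEA [Finite X] (h : LSHyp T) {A : Subgroup X} (hA : IsMaxEA T A) :
    A ∈ Cfsg.maxElementaryAbelianSubgroups 2 X := by
  obtain ⟨S, hS⟩ := h.hTsyl
  obtain ⟨A0, hA0, hA0S⟩ := exists_maxEA_le_sylow S
  have hA0T : A0 ≤ T := hS ▸ hA0S
  refine ⟨hA.2.1, ?_⟩
  intro B hB
  exact (hA0.2 B hB).trans (hA.2.2 A0 hA0T hA0.1)

theorem map_le_HH [Finite X] (h : LSHyp T) {A : Subgroup X} (hA : IsMaxEA T A) :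
    A.map (psi (VX X)) ≤ HH X :=
  Subgroup.map_mono (le_thompsonSubgroup (h.mem_maxEA hA))

theorem isBest_map [Finite X] (h : LSHyp T) {A : Subgroup X} (hA : IsMaxEA T A) :
    Cfsg.IsBestOffenderOn 2 (VV (VX X)) (A.map (psi (VX X))) :=
  isBestOffenderOn_map (VX X)
    (isBestOffenderOn_of_maxEA (VX X) (VX_isElementaryAbelian X) _ (h.mem_maxEA hA))

/-- `A ∩ C_X(V) = A ∩ O₂(X)` for `A ≤ T`. -/
theorem inf_C_eq [Finite X] (h : LSHyp T) {A : Subgroup X} (hAT : A ≤ T) :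
    A ⊓ Subgroup.centralizer (VX X : Set X) = A ⊓ Cfsg.pCore 2 X := by
  apply le_antisymm
  · rintro x ⟨hxA, hxC⟩
    refine ⟨hxA, ?_⟩
    rw [← h.T_inf_C]
    exact ⟨hAT hxA, hxC⟩
  · exact inf_le_inf_left _ (pCore_le_centralizer_VX X)

/-- Thompson replacement. -/
theorem exists_replacement [Finite X] (h : LSHyp T) {A₀ : Subgroup X} (hA₀ : IsMaxEA T A₀)
    {B : Subgroup (HolG (VX X))} (hB : B ≤ A₀.map (psi (VX X)))
    (hBmin : FFact.IsMinBest 2 (VV (VX X)) B) :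
    ∃ A : Subgroup X, IsMaxEA T A ∧ A.map (psi (VX X)) = B ∧
      Nat.card ↥A = 2 * Nat.card ↥(A ⊓ Cfsg.pCore 2 X) := by
  have hyp := h.hyp
  set ψ := psi (VX X) with hψ
  have hker : ψ.ker = Subgroup.centralizer (VX X : Set X) := ker_psi (VX X)
  have hA₀H : A₀.map ψ ≤ HH X := h.map_le_HH hA₀
  have hBH : B ≤ HH X := hB.trans hA₀H
  have hB1 : B ≠ ⊥ := FFact.ne_bot_of_commutator_ne_bot hBmin.2.1
  have hA₀1 : A₀.map ψ ≠ ⊥ := fun hb => hB1 (eq_bot_iff.2 (hb ▸ hB))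
  have hcB := hyp.card_best hBH hBmin.1 hB1
  have hcA := hyp.card_best hA₀H (h.isBest_map hA₀) hA₀1
  have hB2 : Nat.card ↥B = 2 := hyp.card_minBest hBH hBmin
  -- `A_B`
  set AB := A₀ ⊓ B.comap ψ with hAB
  have hABmap : AB.map ψ = B := by
    apply le_antisymm
    · rintro _ ⟨x, hx, rfl⟩
      exact hx.2
    · intro b hb
      obtain ⟨x, hx, rfl⟩ := hB hb
      exact ⟨x, ⟨hx, hb⟩, rfl⟩
  have hABC : AB ⊓ ψ.ker = A₀ ⊓ ψ.ker := by
    apply le_antisymm (inf_le_inf_right _ inf_le_left)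
    rintro x ⟨hxA, hxk⟩
    refine ⟨⟨hxA, ?_⟩, hxk⟩
    show ψ x ∈ B
    rw [MonoidHom.mem_ker.1 hxk]; exact B.one_mem
  set VB := VX X ⊓ Subgroup.centralizer (AB : Set X) with hVB
  have hABe : Cfsg.IsElementaryAbelian 2 AB := ea_of_le hA₀.2.1 inf_le_left
  have hVBe : Cfsg.IsElementaryAbelian 2 VB := ea_of_le (VX_isElementaryAbelian X) inf_le_left
  have hcomm : ∀ e ∈ AB, ∀ f ∈ VB, e * f = f * e := by
    intro e he f hf
    have hf' : f ∈ Subgroup.centralizer (AB : Set X) := hf.2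
    exact Subgroup.mem_centralizer_iff.1 hf' e he
  have hAe : Cfsg.IsElementaryAbelian 2 (AB ⊔ VB) := ea_sup hABe hVBe hcomm
  have hAT : AB ⊔ VB ≤ T :=
    sup_le (inf_le_left.trans hA₀.1) (inf_le_left.trans ((VX_le_pCore X).trans h.pCore_le_T))
  have hVBnorm : VB ≤ Subgroup.normalizer (AB : Set X) := by
    intro v hv
    apply mem_normalizer_of_forall_conj_mem
    intro b hb
    have : v * b * v⁻¹ = b := by rw [← hcomm b hb v hv]; group
    rw [this]; exact hb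
  have hprod := card_sup_mul_card_inf hVBnorm
  -- cardinalities
  have h1 := card_map_mul_card_inf_ker ψ AB
  have h2 := card_map_mul_card_inf_ker ψ A₀
  rw [hABmap, hABC] at h1
  have h3 : Nat.card ↥VB = Nat.card ↥(VV (VX X) ⊓ Subgroup.centralizer (B : Set (HolG (VX X)))) := by
    rw [← hABmap, card_VV_inf_centralizer_map]
  have h4 : Nat.card ↥(VX X ⊓ Subgroup.centralizer (A₀ : Set X)) =
      Nat.card ↥(VV (VX X) ⊓ Subgroup.centralizer ((A₀.map ψ : Subgroup (HolG (VX X))) :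
        Set (HolG (VX X)))) := by
    rw [card_VV_inf_centralizer_map]
  have h5 : AB ⊓ VB ≤ VX X ⊓ Subgroup.centralizer (A₀ : Set X) := by
    rintro x ⟨hxA, hxV⟩
    refine ⟨hxV.1, ?_⟩
    show x ∈ Subgroup.centralizer _
    rw [Subgroup.mem_centralizer_iff]
    intro y hy
    exact ea_comm hA₀.2.1 hy hxA.1
  have h6 : Nat.card ↥(AB ⊓ VB) ≤ Nat.card ↥(VX X ⊓ Subgroup.centralizer (A₀ : Set X)) :=
    Subgroup.card_le_of_le h5
  have hipos : 0 < Nat.card ↥(AB ⊓ VB) := Nat.card_pos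
  have hcard : Nat.card ↥A₀ ≤ Nat.card ↥(AB ⊔ VB) := by
    rw [← h3] at hcB
    rw [← h4] at hcA
    -- card A * i = card AB * card VB = (β k) cB = k v = k α cA ≥ k α i = card A₀ * i
    have e1 : Nat.card ↥(AB ⊔ VB) * Nat.card ↥(AB ⊓ VB) =
        Nat.card ↥(A₀ ⊓ ψ.ker) * Nat.card ↥(VV (VX X)) := by
      rw [hprod, ← h1, ← hcB]; ring
    have e2 : Nat.card ↥A₀ * Nat.card ↥(AB ⊓ VB) ≤
        Nat.card ↥(A₀ ⊓ ψ.ker) * Nat.card ↥(VV (VX X)) := by
      rw [← h2, ← hcA]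
      calc Nat.card ↥(A₀.map ψ) * Nat.card ↥(A₀ ⊓ ψ.ker) * Nat.card ↥(AB ⊓ VB)
          ≤ Nat.card ↥(A₀.map ψ) * Nat.card ↥(A₀ ⊓ ψ.ker) *
            Nat.card ↥(VX X ⊓ Subgroup.centralizer (A₀ : Set X)) := Nat.mul_le_mul_left _ h6
        _ = Nat.card ↥(A₀ ⊓ ψ.ker) *
            (Nat.card ↥(A₀.map ψ) * Nat.card ↥(VX X ⊓ Subgroup.centralizer (A₀ : Set X))) := by ring
    rw [← e1] at e2
    exact Nat.le_of_mul_le_mul_right e2 hipos
  have hAmax : IsMaxEA T (AB ⊔ VB) := hA₀.of_card hAT hAe hcard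
  have hVBC : VB ≤ Subgroup.centralizer (VX X : Set X) := inf_le_left.trans ((VX_le_pCore X).trans (pCore_le_centralizer_VX X))
  have hAmap : (AB ⊔ VB).map ψ = B := by
    rw [Subgroup.map_sup, hABmap]
    have : VB.map ψ = ⊥ := by
      rw [Subgroup.map_eq_bot_iff, hker]; exact hVBC
    rw [this, sup_bot_eq]
  refine ⟨AB ⊔ VB, hAmax, hAmap, ?_⟩
  have h7 := card_map_mul_card_inf_ker ψ (AB ⊔ VB)
  rw [hAmap, hB2, hker, h.inf_C_eq hAT] at h7
  exact h7.symm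

end LSHyp

end Cfsg.Agent.Helper1.JLS
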