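import Mathlib
import Cfsg.Prelude.Def_JComponents
import Cfsg.Agent.Helper1.JLSV
import Cfsg.Agent.Helper4.ThreeSubgroups

set_option autoImplicit false

/-!
An element `d` of order `3` inverted by an involution `a ∈ A ∈ 𝒜(T)`, with image in `[O(HH), B]`.
-/

namespace Cfsg.Agent.Helper1.JLS

open scoped Pointwise commutatorElement

open Cfsg.Agent.Helper1 Cfsg.Agent.Helper1.Hol Cfsg.Agent.Lead.JComp

universe u

variable {X : Type u} [Group X]

/-- The data produced from a minimal best offender `B` in the image of `𝒜(T)`. -/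
structure DData (T A : Subgroup X) (B : Subgroup (HolG (VX X))) (a d : X) : Prop where
  hA : IsMaxEA T A
  hAB : A.map (psi (VX X)) = B
  hBmin : FFact.IsMinBest 2 (VV (VX X)) B
  hAQ : Nat.card ↥A = 2 * Nat.card ↥(A ⊓ Cfsg.pCore 2 X)
  haA : a ∈ A
  hBa : B = Subgroup.zpowers (psi (VX X) a)
  hd3 : d ^ 3 = 1
  hinv : a * d * a⁻¹ = d⁻¹
  hdC : d ∉ Subgroup.centralizer (VX X : Set X)
  hdN : psi (VX X) d ∈ ⁅OO X, B⁆
  hcomm : ∀ c ∈ Subgroup.centralizer (VX X : Set X), ⁅d, c⁆ ∈ Cfsg.pCore 2 X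

namespace LSHyp

variable {T : Subgroup X}

/-- `[X, a]` centralizes `C_X(V)` modulo `O₂(X)` for `a ∈ T`. -/
theorem comm_comm_le [Finite X] (h : LSHyp T) {a : X} (ha : a ∈ T) :
    ⁅⁅(⊤ : Subgroup X), Subgroup.zpowers a⁆, Subgroup.centralizer (VX X : Set X)⁆ ≤
      Cfsg.pCore 2 X := by
  haveI : (Subgroup.centralizer (VX X : Set X)).Normal := Subgroup.normal_centralizer
  have haT : Subgroup.zpowers a ≤ T := Subgroup.zpowers_le.2 ha
  have h1 : ⁅Subgroup.zpowers a, Subgroup.centralizer (VX X : Set X)⁆ ≤ Cfsg.pCore 2 X := by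
    rw [Subgroup.commutator_comm]
    exact (Subgroup.commutator_mono le_rfl haT).trans h.comm_C_T
  apply Cfsg.Agent.Helper4.three_subgroups_normal
  · exact (Subgroup.commutator_mono h1 le_top).trans (Subgroup.commutator_le_left _ _)
  · have h2 : ⁅Subgroup.centralizer (VX X : Set X), (⊤ : Subgroup X)⁆ ≤
        Subgroup.centralizer (VX X : Set X) := Subgroup.commutator_le_left _ _
    exact (Subgroup.commutator_mono h2 haT).trans h.comm_C_T

theorem exists_dData [Finite X] (h : LSHyp T) (hH1 : HH X ≠ ⊥) {A : Subgroup X}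
    (hA : IsMaxEA T A) {B : Subgroup (HolG (VX X))} (hAB : A.map (psi (VX X)) = B)
    (hBmin : FFact.IsMinBest 2 (VV (VX X)) B)
    (hAQ : Nat.card ↥A = 2 * Nat.card ↥(A ⊓ Cfsg.pCore 2 X)) :
    ∃ a d : X, DData T A B a d := by
  have hyp := h.hyp
  set ψ := psi (VX X) with hψ
  have hBH : B ≤ HH X := hAB ▸ h.map_le_HH hA
  have hTrv := hyp.isTrv_of_isMinBest hBH hBmin
  obtain ⟨b, hbB, hb1, hbord, hbz⟩ := hyp.exists_generator hBH hBmin
  have hbB' := hbB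
  rw [← hAB] at hbB'
  obtain ⟨a, haA, rfl⟩ := hbB'
  have ha2 : a * a = 1 := ea_sq hA.2.1 haA
  have hainv : a⁻¹ = a := ea_inv hA.2.1 haA
  have haT : a ∈ T := hA.1 haA
  -- an element of `O(HH)` not centralizing `B`
  obtain ⟨xb, hxO, hxB⟩ := hyp.exists_not_mem_centralizer hBH hTrv
  have hxH : xb ∈ HH X := FFact.ppc_le 2 _ hxO
  obtain ⟨x, -, rfl⟩ := hxH
  have hne : ψ a * ψ x ≠ ψ x * ψ a := by
    intro hc
    apply hxB
    rw [Subgroup.mem_centralizer_iff]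
    intro z hz
    rw [← hbz] at hz
    obtain ⟨i, rfl⟩ := Subgroup.mem_zpowers_iff.1 hz
    exact (Commute.zpow_left (show Commute (ψ a) (ψ x) from hc) i).eq
  set y := ⁅x, a⁆ with hy
  have hψy : ψ y = ⁅ψ x, ψ a⁆ := by rw [hy, map_commutatorElement]
  have hψyN : ψ y ∈ ⁅OO X, B⁆ := by
    rw [hψy]; exact Subgroup.commutator_mem_commutator hxO hbB
  have hψy1 : ψ y ≠ 1 := by
    rw [hψy]
    intro h1
    rw [commutatorElement_eq_one_iff_mul_comm] at h1
    exact hne h1.symm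
  -- `|[O, B]| = 3`
  obtain ⟨-, -, h6, -, -⟩ := h.E_facts hH1 hBH hBmin
  have hBnorm : B ≤ Subgroup.normalizer ((⁅OO X, B⁆ : Subgroup (HolG (VX X))) : Set (HolG (VX X))) :=
    Cfsg.Agent.Helper2.le_normalizer_commutator_right _ _
  have hNO : ⁅OO X, B⁆ ≤ OO X :=
    Subgroup.le_normalizer_iff_commutator_le_left.1 (hBH.trans HH_le_normalizer_OO)
  have hB2 : Nat.card ↥B = 2 := hyp.card_minBest hBH hBmin
  have hNodd : Odd (Nat.card ↥(⁅OO X, B⁆)) :=
    Odd.of_dvd_nat card_OO_odd (Subgroup.card_dvd_of_le hNO)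
  have hdisj : B ⊓ ⁅OO X, B⁆ = ⊥ := by
    apply inf_eq_bot_of_coprime_card
    rw [hB2]
    exact Nat.coprime_two_left.mpr hNodd
  have hN3 : Nat.card ↥(⁅OO X, B⁆) = 3 := by
    have := card_sup_of_le_normalizer hBnorm hdisj
    rw [h6, hB2] at this
    omega
  have hordy : orderOf (ψ y) = 3 := by
    have h1 : orderOf (⟨ψ y, hψyN⟩ : ↥(⁅OO X, B⁆)) ∣ 3 := hN3 ▸ orderOf_dvd_natCard _
    rw [Subgroup.orderOf_mk] at h1
    rcases (Nat.dvd_prime Nat.prime_three).1 h1 with h2 | h2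
    · exact absurd (orderOf_eq_one_iff.1 h2) hψy1
    · exact h2
  -- `a` inverts `y`
  have hinvy : a * y * a⁻¹ = y⁻¹ := by
    rw [hy, commutatorElement_def, hainv]
    have e : (x * a * x⁻¹ * a)⁻¹ = a⁻¹ * x * a⁻¹ * x⁻¹ := by group
    rw [e, hainv]
    calc a * (x * a * x⁻¹ * a) * a = a * x * a * x⁻¹ * (a * a) := by group
      _ = a * x * a * x⁻¹ := by rw [ha2, mul_one]
  -- the `3`-part of `y`
  have hn0 : orderOf y ≠ 0 := (orderOf_pos y).ne'
  obtain ⟨k, m, hm3, hn⟩ := Nat.exists_eq_pow_mul_and_not_dvd hn0 3 (by norm_num)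
  set d := y ^ m with hd
  have hd3k : d ^ (3 ^ k) = 1 := by
    rw [hd, ← pow_mul, mul_comm, ← hn, pow_orderOf_eq_one]
  have hψd : ψ d = (ψ y) ^ m := by rw [hd, map_pow]
  have hψd1 : ψ d ≠ 1 := by
    rw [hψd]
    intro h1
    have := orderOf_dvd_of_pow_eq_one h1
    rw [hordy] at this
    exact hm3 this
  have hdC : d ∉ Subgroup.centralizer (VX X : Set X) := by
    intro hc
    apply hψd1
    rw [← MonoidHom.mem_ker, ker_psi]
    exact hc
  have hinvd : a * d * a⁻¹ = d⁻¹ := by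
    have : a * y ^ m * a⁻¹ = (a * y * a⁻¹) ^ m := by
      rw [← MulAut.conj_apply, map_pow, MulAut.conj_apply]
    rw [hd, this, hinvy, inv_pow]
  have hψdN : ψ d ∈ ⁅OO X, B⁆ := by
    rw [hψd]; exact Subgroup.pow_mem _ hψyN m
  -- `d³ ∈ C`
  have hd3C : d ^ 3 ∈ Subgroup.centralizer (VX X : Set X) := by
    rw [← ker_psi, MonoidHom.mem_ker, map_pow, hψd, ← pow_mul, mul_comm, pow_mul, ← hordy,
      pow_orderOf_eq_one, one_pow]
  -- `d⁶ ∈ Q`
  have hd6Q : d ^ 6 ∈ Cfsg.pCore 2 X := by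
    have h1 : ⁅d ^ 3, a⁆ ∈ Cfsg.pCore 2 X :=
      h.comm_C_T (Subgroup.commutator_mem_commutator hd3C haT)
    have e : ⁅d ^ 3, a⁆ = d ^ 6 := by
      rw [commutatorElement_def]
      have e1 : d ^ 3 * a * (d ^ 3)⁻¹ * a⁻¹ = d ^ 3 * (a * d * a⁻¹)⁻¹ ^ 3 := by
        have : a * (d ^ 3)⁻¹ * a⁻¹ = (a * d * a⁻¹)⁻¹ ^ 3 := by
          rw [← inv_pow, ← MulAut.conj_apply, map_pow, map_inv, MulAut.conj_apply, inv_pow]
        calc d ^ 3 * a * (d ^ 3)⁻¹ * a⁻¹ = d ^ 3 * (a * (d ^ 3)⁻¹ * a⁻¹) := by group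
          _ = d ^ 3 * (a * d * a⁻¹)⁻¹ ^ 3 := by rw [this]
      rw [e1, hinvd, inv_inv, ← pow_add]
    rwa [e] at h1
  have hd6 : d ^ 6 = 1 := by
    haveI : Fact (Nat.Prime 2) := ⟨Nat.prime_two⟩
    obtain ⟨j, hj⟩ := (IsPGroup.iff_orderOf.1 (Cfsg.Agent.Helper5.isPGroup_pCore 2 (G := X)))
      ⟨d ^ 6, hd6Q⟩
    rw [Subgroup.orderOf_mk] at hj
    have h1 : orderOf (d ^ 6) ∣ 3 ^ k := by
      apply orderOf_dvd_of_pow_eq_one
      rw [← pow_mul, mul_comm, pow_mul, hd3k, one_pow]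
    rw [hj] at h1
    have h2 : j = 0 := by
      by_contra hj0
      have h3 : 2 ∣ 3 ^ k := (dvd_pow_self 2 hj0).trans h1
      have h4 := Nat.Prime.dvd_of_dvd_pow Nat.prime_two h3
      norm_num at h4
    rw [h2, pow_zero] at hj
    exact orderOf_eq_one_iff.1 hj
  have hd3 : d ^ 3 = 1 := by
    have h1 : orderOf d ∣ 6 := orderOf_dvd_of_pow_eq_one hd6
    have h2 : orderOf d ∣ 3 ^ k := orderOf_dvd_of_pow_eq_one hd3k
    have h3 : Nat.Coprime (orderOf d) 2 := by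
      apply Nat.Coprime.coprime_dvd_left h2
      exact Nat.Coprime.pow_left k (by norm_num)
    have h4 : orderOf d ∣ 3 := by
      have : orderOf d ∣ 2 * 3 := h1
      exact h3.dvd_of_dvd_mul_left this
    exact orderOf_dvd_iff_pow_eq_one.1 h4
  refine ⟨a, d, hA, hAB, hBmin, hAQ, haA, hbz.symm, hd3, hinvd, hdC, hψdN, ?_⟩
  intro c hc
  apply h.comm_comm_le haT
  apply Subgroup.commutator_mem_commutator _ hc
  have hyc : y ∈ ⁅(⊤ : Subgroup X), Subgroup.zpowers a⁆ :=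
    Subgroup.commutator_mem_commutator (Subgroup.mem_top x) (Subgroup.mem_zpowers a)
  exact Subgroup.pow_mem _ hyc m

end LSHyp

end Cfsg.Agent.Helper1.JLS
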