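import Mathlib
import Cfsg.Prelude.Def_JComponents
import Cfsg.Agent.Helper1.JLSW

set_option autoImplicit false

/-!
`J(T)` normalizes `F = O₂(X)⟨d⟩`.
-/

namespace Cfsg.Agent.Helper1.JLS

open scoped Pointwise commutatorElement

open Cfsg.Agent.Helper1 Cfsg.Agent.Helper1.Hol Cfsg.Agent.Lead.JComp

universe u

variable {X : Type u} [Group X]

/-- if `t u t⁻¹ = u c` with `c` commuting with `u` and `t`, `u³ = 1` and `t` a `2`-element, then
`c = 1`. -/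
theorem eq_one_of_conj_eq_mul {G : Type*} [Group G] {u c t : G} (h : t * u * t⁻¹ = u * c)
    (hcu : c * u = u * c) (hct : c * t = t * c) (hu : u ^ 3 = 1) {k : ℕ} (ht : t ^ (2 ^ k) = 1) :
    c = 1 := by
  have key : ∀ n : ℕ, t ^ n * u * (t ^ n)⁻¹ = u * c ^ n := by
    intro n
    induction n with
    | zero => simp
    | succ n ih =>
      have hctn : Commute c (t ^ n) := Commute.pow_right (show Commute c t from hct) n
      calc t ^ (n + 1) * u * (t ^ (n + 1))⁻¹ = t ^ n * (t * u * t⁻¹) * (t ^ n)⁻¹ := by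
            rw [pow_succ]; group
        _ = t ^ n * (u * c) * (t ^ n)⁻¹ := by rw [h]
        _ = (t ^ n * u * (t ^ n)⁻¹) * (t ^ n * c * (t ^ n)⁻¹) := by group
        _ = u * c ^ n * c := by
            rw [ih, ← hctn.eq]; group
        _ = u * c ^ (n + 1) := by rw [pow_succ]; group
  have h1 : c ^ (2 ^ k) = 1 := by
    have := key (2 ^ k)
    rw [ht] at this
    simpa using this.symm
  have h2 : c ^ 3 = 1 := by
    have e1 : (u * c) ^ 3 = u ^ 3 * c ^ 3 := (show Commute u c from hcu.symm).mul_pow 3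
    have e2 : (t * u * t⁻¹) ^ 3 = 1 := by
      rw [← MulAut.conj_apply, ← map_pow, hu, map_one]
    rw [h, e1, hu, one_mul] at e2
    exact e2
  have h3 : orderOf c ∣ 2 ^ k := orderOf_dvd_of_pow_eq_one h1
  have h4 : orderOf c ∣ 3 := orderOf_dvd_of_pow_eq_one h2
  have h5 : orderOf c ∣ Nat.gcd (2 ^ k) 3 := Nat.dvd_gcd h3 h4
  have h6 : Nat.gcd (2 ^ k) 3 = 1 := Nat.Coprime.pow_left k (by norm_num)
  rw [h6, Nat.dvd_one] at h5
  exact orderOf_eq_one_iff.1 h5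

namespace DData

variable {T A : Subgroup X} {B : Subgroup (HolG (VX X))} {a d : X}

theorem d_ne_one (D : DData T A B a d) : d ≠ 1 := by
  rintro rfl
  exact D.hdC (Subgroup.one_mem _)

theorem cData [Finite X] (D : DData T A B a d) (h : LSHyp T) :
    CData (Cfsg.pCore 2 X) T (VX X) A a d where
  hQd := ⟨pCore_normal 2, Cfsg.Agent.Helper5.isPGroup_pCore 2, D.hd3, D.d_ne_one⟩
  hT2 := h.hT2
  hQT := h.pCore_le_T
  hVQ := VX_le_pCore X
  hVc := fun v hv q hq => Subgroup.mem_centralizer_iff.1 ((VX_le X) hv).2 q hq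
  hV2 := fun v hv => by
    have := (VX_isElementaryAbelian X).2 v hv
    rwa [pow_two] at this
  hVn := VX_normal X
  hVmem := fun x hxQ hc hx2 => mem_VX X hxQ (Subgroup.mem_centralizer_iff.2 hc)
    (by rw [pow_two]; exact hx2)
  hA := D.hA
  haA := D.haA
  hAQ := D.hAQ
  hinv := D.hinv
  hdV := D.hdC

/-- `[O(HH), B] = ⟨ψ(d)⟩`. -/
theorem zpowers_psi_d [Finite X] (D : DData T A B a d) (h : LSHyp T) (hH1 : HH X ≠ ⊥) :
    Subgroup.zpowers (psi (VX X) d) = ⁅OO X, B⁆ ∧ Nat.card ↥(⁅OO X, B⁆) = 3 := by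
  have hyp := h.hyp
  have hBH : B ≤ HH X := D.hAB ▸ h.map_le_HH D.hA
  obtain ⟨-, -, h6, -, -⟩ := h.E_facts hH1 hBH D.hBmin
  have hBnorm : B ≤ Subgroup.normalizer ((⁅OO X, B⁆ : Subgroup (HolG (VX X))) : Set (HolG (VX X))) :=
    Cfsg.Agent.Helper2.le_normalizer_commutator_right _ _
  have hNO : ⁅OO X, B⁆ ≤ OO X :=
    Subgroup.le_normalizer_iff_commutator_le_left.1 (hBH.trans HH_le_normalizer_OO)
  have hB2 : Nat.card ↥B = 2 := hyp.card_minBest hBH D.hBmin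
  have hNodd : Odd (Nat.card ↥(⁅OO X, B⁆)) :=
    Odd.of_dvd_nat card_OO_odd (Subgroup.card_dvd_of_le hNO)
  have hdisj : B ⊓ ⁅OO X, B⁆ = ⊥ := by
    apply inf_eq_bot_of_coprime_card
    rw [hB2]
    exact Nat.coprime_two_left.mpr hNodd
  have hN3 : Nat.card ↥(⁅OO X, B⁆) = 3 := by
    have := card_sup_of_le_normalizer hBnorm hdisj
    rw [h6, hB2] at this
    omega
  refine ⟨?_, hN3⟩
  apply Subgroup.eq_of_le_of_card_ge (Subgroup.zpowers_le.2 D.hdN)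
  rw [hN3, Nat.card_zpowers]
  have hψd1 : psi (VX X) d ≠ 1 := by
    intro h1
    apply D.hdC
    rw [← ker_psi, MonoidHom.mem_ker]; exact h1
  have h3 : (psi (VX X) d) ^ 3 = 1 := by rw [← map_pow, D.hd3, map_one]
  rw [orderOf_eq_prime h3 hψd1]

/-- `[O(HH), B] = O(HH) ∩ E`. -/
theorem N_eq_inf [Finite X] (D : DData T A B a d) (h : LSHyp T) (hH1 : HH X ≠ ⊥) :
    ⁅OO X, B⁆ = OO X ⊓ (⁅OO X, B⁆ ⊔ B) := by
  have hBH : B ≤ HH X := D.hAB ▸ h.map_le_HH D.hA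
  obtain ⟨-, -, h6, -, -⟩ := h.E_facts hH1 hBH D.hBmin
  have hNO : ⁅OO X, B⁆ ≤ OO X :=
    Subgroup.le_normalizer_iff_commutator_le_left.1 (hBH.trans HH_le_normalizer_OO)
  apply Subgroup.eq_of_le_of_card_ge (le_inf hNO le_sup_left)
  rw [(D.zpowers_psi_d h hH1).2]
  have h1 : Nat.card ↥(OO X ⊓ (⁅OO X, B⁆ ⊔ B)) ∣ 6 := h6 ▸ Subgroup.card_dvd_of_le inf_le_right
  have h2 : Odd (Nat.card ↥(OO X ⊓ (⁅OO X, B⁆ ⊔ B))) :=
    Odd.of_dvd_nat card_OO_odd (Subgroup.card_dvd_of_le inf_le_left)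
  have h3 : Nat.card ↥(OO X ⊓ (⁅OO X, B⁆ ⊔ B)) ≤ 6 := Nat.le_of_dvd (by norm_num) h1
  obtain ⟨m, hm⟩ := h2
  have h4 : m ≤ 2 := by omega
  interval_cases m
  · omega
  · omega
  · exfalso
    rw [hm] at h1
    norm_num at h1

/-- `HH` normalizes `[O(HH), B]`. -/
theorem HH_le_normalizer_N [Finite X] (D : DData T A B a d) (h : LSHyp T) (hH1 : HH X ≠ ⊥) :
    HH X ≤ Subgroup.normalizer ((⁅OO X, B⁆ : Subgroup (HolG (VX X))) : Set (HolG (VX X))) := by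
  have hBH : B ≤ HH X := D.hAB ▸ h.map_le_HH D.hA
  obtain ⟨-, hEn, -, -, -⟩ := h.E_facts hH1 hBH D.hBmin
  rw [D.N_eq_inf h hH1]
  exact FFact.le_normalizer_inf HH_le_normalizer_OO hEn

end DData

end Cfsg.Agent.Helper1.JLS
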