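import Mathlib
import Cfsg.Prelude.Def_JComponents
import Cfsg.Agent.Helper1.JLSX

set_option autoImplicit false

/-!
`J(T)` normalizes `F = O₂(X)⟨d⟩`, and `K = O^2(F)` satisfies the hypotheses `CompHyp`, `WHyp`.
-/

namespace Cfsg.Agent.Helper1.JLS

open scoped Pointwise commutatorElement

open Cfsg.Agent.Helper1 Cfsg.Agent.Helper1.Hol Cfsg.Agent.Lead.JComp

universe u

variable {X : Type u} [Group X]

namespace DData

variable {T A : Subgroup X} {B : Subgroup (HolG (VX X))} {a d : X}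

/-- case 1: `t ∈ T` centralizes `d` modulo `C_X(V)`. -/
theorem conj_mem_F_of_eq [Finite X] (D : DData T A B a d) (h : LSHyp T) {t : X} (ht : t ∈ T)
    (hψ : psi (VX X) (t * d * t⁻¹) = psi (VX X) d) :
    t * d * t⁻¹ ∈ Cfsg.pCore 2 X ⊔ Subgroup.zpowers d := by
  haveI : (Cfsg.pCore 2 X).Normal := pCore_normal 2
  haveI : Fact (Nat.Prime 2) := ⟨Nat.prime_two⟩
  set c := d⁻¹ * (t * d * t⁻¹) with hc
  have hcC : c ∈ Subgroup.centralizer (VX X : Set X) := by
    rw [← ker_psi, MonoidHom.mem_ker, hc, map_mul, hψ, map_inv, inv_mul_cancel]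
  have h1 : ⁅d, c⁆ ∈ Cfsg.pCore 2 X := D.hcomm c hcC
  have h2 : ⁅c, t⁆ ∈ Cfsg.pCore 2 X := h.comm_C_T (Subgroup.commutator_mem_commutator hcC ht)
  set π := QuotientGroup.mk' (Cfsg.pCore 2 X) with hπ
  have hker : ∀ x : X, π x = 1 ↔ x ∈ Cfsg.pCore 2 X := fun x => by
    rw [hπ, QuotientGroup.mk'_apply, QuotientGroup.eq_one_iff]
  have e1 : π t * π d * (π t)⁻¹ = π d * π c := by
    rw [← map_inv, ← map_mul, ← map_mul, ← map_mul, hc]
    congr 1; group
  have e2 : π c * π d = π d * π c := by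
    have := (hker _).2 h1
    rw [map_commutatorElement, commutatorElement_eq_one_iff_mul_comm] at this
    exact this.symm
  have e3 : π c * π t = π t * π c := by
    have := (hker _).2 h2
    rw [map_commutatorElement, commutatorElement_eq_one_iff_mul_comm] at this
    exact this
  have e4 : (π d) ^ 3 = 1 := by rw [← map_pow, D.hd3, map_one]
  obtain ⟨k, hk⟩ := (IsPGroup.iff_orderOf.1 h.hT2) ⟨t, ht⟩
  rw [Subgroup.orderOf_mk] at hk
  have e5 : (π t) ^ (2 ^ k) = 1 := by rw [← map_pow, ← hk, pow_orderOf_eq_one, map_one]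
  have hc1 : π c = 1 := eq_one_of_conj_eq_mul e1 e2 e3 e4 e5
  have hcQ : c ∈ Cfsg.pCore 2 X := (hker c).1 hc1
  have : t * d * t⁻¹ = d * c := by rw [hc]; group
  rw [this]
  exact Subgroup.mul_mem _ (Subgroup.mem_sup_right (Subgroup.mem_zpowers d))
    (Subgroup.mem_sup_left hcQ)

/-- elements of `T` whose image normalizes `[O(HH), B]` conjugate `d` into `F`. -/
theorem conj_mem_F [Finite X] (D : DData T A B a d) (h : LSHyp T) (hH1 : HH X ≠ ⊥) {t : X}
    (ht : t ∈ T) (hψ : psi (VX X) (t * d * t⁻¹) ∈ ⁅OO X, B⁆) :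
    t * d * t⁻¹ ∈ Cfsg.pCore 2 X ⊔ Subgroup.zpowers d := by
  set ψ := psi (VX X) with hψdef
  have c := D.cData h
  rw [← (D.zpowers_psi_d h hH1).1] at hψ
  obtain ⟨i, hi⟩ := Subgroup.mem_zpowers_iff.1 hψ
  have h3 : (ψ d) ^ (3 : ℤ) = 1 := by
    rw [show ((3 : ℤ)) = ((3 : ℕ) : ℤ) from rfl, zpow_natCast, ← map_pow, D.hd3, map_one]
  have hi' : ψ d ^ i = ψ d ^ (i % 3) := zpow_eq_zpow_emod i h3
  rw [hi'] at hi
  have hcases : i % 3 = 0 ∨ i % 3 = 1 ∨ i % 3 = 2 := by omega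
  rcases hcases with h0 | h1 | h2
  · exfalso
    rw [h0, zpow_zero] at hi
    apply D.hdC
    have h4 : t * d * t⁻¹ ∈ Subgroup.centralizer (VX X : Set X) := by
      rw [← ker_psi, MonoidHom.mem_ker]; exact hi.symm
    haveI : (Subgroup.centralizer (VX X : Set X)).Normal := Subgroup.normal_centralizer
    have := (inferInstance : (Subgroup.centralizer (VX X : Set X)).Normal).conj_mem _ h4 t⁻¹
    have e : t⁻¹ * (t * d * t⁻¹) * t⁻¹⁻¹ = d := by group
    rwa [e] at this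
  · rw [h1, zpow_one] at hi
    exact D.conj_mem_F_of_eq h ht hi.symm
  · rw [h2] at hi
    -- use `a t`
    have haT : a ∈ T := D.hA.1 D.haA
    have hd2 : (ψ d) ^ (2 : ℤ) = ψ d⁻¹ := by
      have : (ψ d) ^ (2 : ℤ) * ψ d = 1 := by
        rw [← zpow_add_one]; exact h3
      rw [map_inv]
      exact eq_inv_of_mul_eq_one_left this
    have h5 : ψ (a * t * d * (a * t)⁻¹) = ψ d := by
      have e : a * t * d * (a * t)⁻¹ = a * (t * d * t⁻¹) * a⁻¹ := by group
      rw [e, map_mul, map_mul, ← hi, hd2, ← map_mul, ← map_mul, c.inv']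
    have h6 := D.conj_mem_F_of_eq h (T.mul_mem haT ht) h5
    have hanorm : a⁻¹ ∈ Subgroup.normalizer
        ((Cfsg.pCore 2 X ⊔ Subgroup.zpowers d : Subgroup X) : Set X) :=
      Subgroup.inv_mem _ c.a_mem_normalizer_F
    have := (Subgroup.mem_normalizer_iff.1 hanorm _).1 h6
    have e : a⁻¹ * (a * t * d * (a * t)⁻¹) * a⁻¹⁻¹ = t * d * t⁻¹ := by group
    rwa [e] at this

/-- `J(T)` normalizes `F`. -/
theorem J_le_normalizer_F [Finite X] (D : DData T A B a d) (h : LSHyp T) (hH1 : HH X ≠ ⊥) :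
    Cfsg.thompsonSubgroupOf 2 T ≤ Subgroup.normalizer
      ((Cfsg.pCore 2 X ⊔ Subgroup.zpowers d : Subgroup X) : Set X) := by
  haveI : (Cfsg.pCore 2 X).Normal := pCore_normal 2
  intro j hj
  have hjT : j ∈ T := Cfsg.Agent.Lead.thompsonSubgroupOf_le 2 T hj
  have hjH : psi (VX X) j ∈ HH X := Subgroup.mem_map_of_mem _ (h.JT_le_JX hj)
  have hjN := D.HH_le_normalizer_N h hH1 hjH
  have h1 : psi (VX X) (j * d * j⁻¹) ∈ ⁅OO X, B⁆ := by
    rw [map_mul, map_mul, map_inv]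
    exact (Subgroup.mem_normalizer_iff.1 hjN _).1 D.hdN
  have h2 := D.conj_mem_F h hH1 hjT h1
  apply mem_normalizer_of_forall_conj_mem
  have hle : Cfsg.pCore 2 X ⊔ Subgroup.zpowers d ≤
      (Cfsg.pCore 2 X ⊔ Subgroup.zpowers d).comap (MulAut.conj j).toMonoidHom := by
    refine sup_le ?_ ?_
    · intro q hq
      exact Subgroup.mem_sup_left ((pCore_normal (G := X) 2).conj_mem q hq j)
    · rw [Subgroup.zpowers_le]
      exact h2
  intro n hn
  exact hle hn

end DData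

end Cfsg.Agent.Helper1.JLS
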