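import Mathlib
import Cfsg.Prelude.Def_JComponents
import Cfsg.Agent.Helper1.JLSY

set_option autoImplicit false

/-!
Existence of `J(T)`-components in the abstract `L`-structure setting.
-/

namespace Cfsg.Agent.Helper1.JLS

open scoped Pointwise commutatorElement

open Cfsg.Agent.Helper1 Cfsg.Agent.Helper1.Hol Cfsg.Agent.Lead.JComp

universe u

variable {X : Type u} [Group X]

namespace DData

variable {T A : Subgroup X} {B : Subgroup (HolG (VX X))} {a d : X}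

theorem a_mem_J (D : DData T A B a d) : a ∈ Cfsg.thompsonSubgroupOf 2 T :=
  D.hA.le_thompson D.haA

theorem compHyp [Finite X] (D : DData T A B a d) (h : LSHyp T) (hH1 : HH X ≠ ⊥) :
    CompHyp T (CData.KK (Cfsg.pCore 2 X) d) (CData.RR (Cfsg.pCore 2 X) d) := by
  have c := D.cData h
  set Q := Cfsg.pCore 2 X with hQ
  set J := Cfsg.thompsonSubgroupOf 2 T with hJ
  have hJK : J ≤ Subgroup.normalizer (CData.KK Q d : Set X) :=
    (D.J_le_normalizer_F h hH1).trans (normalizer_le_normalizer_oddGen _)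
  refine ⟨oddGen_gen _, ?_, inf_le_left, c.hQd.isPGroup_R, c.hQd.relIndex_K⟩
  apply le_antisymm (Subgroup.le_normalizer_iff_commutator_le_left.1 hJK)
  apply c.hQd.K_le_of_mem
  · have h1 : ⁅d, a⁆ ∈ ⁅CData.KK Q d, J⁆ :=
      Subgroup.commutator_mem_commutator c.hQd.d_mem_K D.a_mem_J
    have e : ⁅d, a⁆ = d⁻¹ := by
      rw [commutatorElement_def]
      have hd3 : d * d * d = 1 := c.nmHyp_V.ddd
      calc d * a * d⁻¹ * a⁻¹ = d * (a * d⁻¹ * a⁻¹) := by group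
        _ = d * d := by rw [c.inv']
        _ = d⁻¹ * (d * d * d) := by group
        _ = d⁻¹ := by rw [hd3, mul_one]
    rw [e] at h1
    simpa using Subgroup.inv_mem _ h1
  · apply Cfsg.Agent.Helper1.le_normalizer_commutator c.Q_le_normalizer_K
    exact h.pCore_le_T.trans
      (Subgroup.le_normalizer.trans (normalizer_le_normalizer_thompsonSubgroupOf 2 T))

theorem wHyp [Finite X] (D : DData T A B a d) (h : LSHyp T) :
    WHyp (CData.KK (Cfsg.pCore 2 X) d) (CData.RR (Cfsg.pCore 2 X) d)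
      ⁅Cfsg.omegaCenterOf (CData.RR (Cfsg.pCore 2 X) d), CData.KK (Cfsg.pCore 2 X) d⁆ := by
  have c := D.cData h
  exact ⟨c.hQd.K_le_normalizer_R, rfl, c.card_U, fun w hw => c.U_sq hw⟩

/-- the image of `K` in the holomorph. -/
theorem map_K [Finite X] (D : DData T A B a d) (h : LSHyp T) (hH1 : HH X ≠ ⊥) :
    (CData.KK (Cfsg.pCore 2 X) d).map (psi (VX X)) = ⁅OO X, B⁆ := by
  have c := D.cData h
  have hK := D.compHyp h hH1
  apply Subgroup.eq_of_le_of_card_ge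
  · rw [← (D.zpowers_psi_d h hH1).1]
    intro x hx
    obtain ⟨k, hk, rfl⟩ := hx
    obtain ⟨r, hr, i, rfl⟩ := c.hQd.exists_decomp hk
    have hrC : r ∈ (psi (VX X)).ker := by
      rw [ker_psi]; exact pCore_le_centralizer_VX X hr.2
    rw [map_mul, MonoidHom.mem_ker.1 hrC, one_mul, map_zpow]
    exact Subgroup.zpow_mem _ (Subgroup.mem_zpowers _) i
  · rw [hK.card_map_K h, (D.zpowers_psi_d h hH1).2]

/-- `E ≤ ψ(K J(T))`. -/
theorem E_le_map [Finite X] (D : DData T A B a d) (h : LSHyp T) (hH1 : HH X ≠ ⊥) :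
    ⁅OO X, B⁆ ⊔ B ≤
      (CData.KK (Cfsg.pCore 2 X) d ⊔ Cfsg.thompsonSubgroupOf 2 T).map (psi (VX X)) := by
  rw [Subgroup.map_sup, D.map_K h hH1]
  apply sup_le_sup_left
  rw [D.hBa, Subgroup.zpowers_le]
  exact Subgroup.mem_map_of_mem _ D.a_mem_J

end DData

namespace LSHyp

variable {T : Subgroup X}

/-- Existence of a `J(T)`-component attached to a minimal best offender in the image of `𝒜(T)`. -/
theorem exists_comp_of_minBest [Finite X] (h : LSHyp T) {A₀ : Subgroup X} (hA₀ : IsMaxEA T A₀)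
    {B : Subgroup (HolG (VX X))} (hB : B ≤ A₀.map (psi (VX X)))
    (hBmin : FFact.IsMinBest 2 (VV (VX X)) B) :
    ∃ K R : Subgroup X, CompHyp T K R ∧ WHyp K R ⁅Cfsg.omegaCenterOf R, K⁆ ∧
      K.map (psi (VX X)) = ⁅OO X, B⁆ ∧
      ⁅OO X, B⁆ ⊔ B ≤ (K ⊔ Cfsg.thompsonSubgroupOf 2 T).map (psi (VX X)) := by
  have hB1 : B ≠ ⊥ := FFact.ne_bot_of_commutator_ne_bot hBmin.2.1
  have hH1 : HH X ≠ ⊥ := by
    intro hb
    apply hB1
    rw [eq_bot_iff, ← hb]
    exact hB.trans (h.map_le_HH hA₀)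
  obtain ⟨A, hA, hAB, hAQ⟩ := h.exists_replacement hA₀ hB hBmin
  obtain ⟨a, d, D⟩ := h.exists_dData hH1 hA hAB hBmin hAQ
  exact ⟨_, _, D.compHyp h hH1, D.wHyp h, D.map_K h hH1, D.E_le_map h hH1⟩

/-- Existence of some member of `𝒜(T)` with nontrivial image, and a minimal best offender in it. -/
theorem exists_maxEA_minBest [Finite X] (h : LSHyp T)
    (hJQ : ¬ Cfsg.thompsonSubgroupOf 2 T ≤ Cfsg.pCore 2 X) :
    ∃ (A₀ : Subgroup X) (B : Subgroup (HolG (VX X))), IsMaxEA T A₀ ∧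
      B ≤ A₀.map (psi (VX X)) ∧ FFact.IsMinBest 2 (VV (VX X)) B := by
  have hyp := h.hyp
  have hex : ∃ A₀, IsMaxEA T A₀ ∧ ¬ A₀ ≤ Subgroup.centralizer (VX X : Set X) := by
    by_contra hcon
    push Not at hcon
    apply hJQ
    rw [← h.T_inf_C]
    exact le_inf (Cfsg.Agent.Lead.thompsonSubgroupOf_le 2 T) (thompson_le_of_forall T hcon)
  obtain ⟨A₀, hA₀, hA₀C⟩ := hex
  have hne : A₀.map (psi (VX X)) ≠ ⊥ := by
    intro hb
    apply hA₀C
    rwa [LSHyp.map_psi_eq_bot_iff] at hb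
  obtain ⟨B, hBA, hBmin⟩ := hyp.exists_minBest_le (h.map_le_HH hA₀) (h.isBest_map hA₀) hne
  exact ⟨A₀, B, hA₀, hBA, hBmin⟩

/-- Existence of a `J(T)`-component. -/
theorem exists_comp [Finite X] (h : LSHyp T)
    (hJQ : ¬ Cfsg.thompsonSubgroupOf 2 T ≤ Cfsg.pCore 2 X) :
    ∃ K R : Subgroup X, CompHyp T K R ∧ WHyp K R ⁅Cfsg.omegaCenterOf R, K⁆ := by
  obtain ⟨A₀, B, hA₀, hBA, hBmin⟩ := h.exists_maxEA_minBest hJQ
  obtain ⟨K, R, hK, hW, -, -⟩ := h.exists_comp_of_minBest hA₀ hBA hBmin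
  exact ⟨K, R, hK, hW⟩

end LSHyp

end Cfsg.Agent.Helper1.JLS
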