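import Mathlib
import Cfsg.Prelude.Def_JComponents
import Cfsg.Agent.Helper1.JLSZ

set_option autoImplicit false

/-!
Thompson subgroups of intermediate `2`-groups, and the `G`-level existence of `J(T)`-components.
-/

namespace Cfsg.Agent.Helper1.JLS

open scoped Pointwise commutatorElement

open Cfsg.Agent.Helper1 Cfsg.Agent.Lead.JComp

universe u

variable {G : Type u} [Group G]

theorem exists_isMaxEA [Finite G] (S : Subgroup G) : ∃ A, IsMaxEA S A := by
  obtain ⟨A', hA'⟩ := maxElementaryAbelianSubgroups_nonempty (G := ↥S) 2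
  exact ⟨_, isMaxEA_map S hA'⟩

/-- If `J(S₂) ≤ S₁ ≤ S₂` then `J(S₁) = J(S₂)`. -/
theorem thompsonSubgroupOf_eq_of_le [Finite G] {S₁ S₂ : Subgroup G} (h12 : S₁ ≤ S₂)
    (hJ : Cfsg.thompsonSubgroupOf 2 S₂ ≤ S₁) :
    Cfsg.thompsonSubgroupOf 2 S₁ = Cfsg.thompsonSubgroupOf 2 S₂ := by
  obtain ⟨A, hA⟩ := exists_isMaxEA S₂
  have hAS₁ : A ≤ S₁ := hA.le_thompson.trans hJ
  apply le_antisymm
  · apply thompson_le_of_forall
    intro A' hA'
    have h1 : Nat.card ↥A ≤ Nat.card ↥A' := hA'.2.2 A hAS₁ hA.2.1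
    exact (hA.of_card (hA'.1.trans h12) hA'.2.1 h1).le_thompson
  · apply thompson_le_of_forall
    intro A' hA'
    have h1 : A' ≤ S₁ := hA'.le_thompson.trans hJ
    have h2 : IsMaxEA S₁ A' := ⟨h1, hA'.2.1, fun B hB hBe => hA'.2.2 B (hB.trans h12) hBe⟩
    exact h2.le_thompson

theorem card_eq_of_isSylowTwoIn [Finite G] {T L : Subgroup G} (hTL : Cfsg.IsSylowTwoIn T L) :
    Nat.card ↥T = 2 ^ (Nat.card ↥L).factorization 2 := by
  obtain ⟨hle, h2, hodd⟩ := hTL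
  haveI : Fact (Nat.Prime 2) := ⟨Nat.prime_two⟩
  obtain ⟨k, hk⟩ := IsPGroup.iff_card.1 h2
  have h1 : T.relIndex L * Nat.card ↥T = Nat.card ↥L := relIndex_mul_card_of_le hle
  rw [hk]
  congr 1
  rw [← h1, hk, Nat.factorization_mul (Nat.pos_of_ne_zero (by
    intro h0; rw [h0] at hodd; exact (Nat.not_odd_iff_even.2 (by decide : Even 0)) hodd)).ne'
    (pow_pos (by norm_num) k).ne']
  have h3 : (T.relIndex L).factorization 2 = 0 := by
    apply Nat.factorization_eq_zero_of_not_dvd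
    intro h3
    exact (Nat.not_even_iff_odd.2 hodd) (even_iff_two_dvd.2 h3)
  simp [h3, Nat.Prime.factorization_pow Nat.prime_two]

/-- If `T` is a Sylow `2`-subgroup of `L` and `J(T) ≤ S ≤ L` for a `2`-group `S`, then
`J(S) = J(T)`. -/
theorem thompsonSubgroupOf_eq_of_sylowIn [Finite G] {T L S : Subgroup G}
    (hTL : Cfsg.IsSylowTwoIn T L) (hSL : S ≤ L) (hS2 : IsPGroup 2 ↥S)
    (hJS : Cfsg.thompsonSubgroupOf 2 T ≤ S) :
    Cfsg.thompsonSubgroupOf 2 S = Cfsg.thompsonSubgroupOf 2 T := by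
  haveI : Fact (Nat.Prime 2) := ⟨Nat.prime_two⟩
  obtain ⟨m, hmL, hm⟩ := Cfsg.Agent.Lead.exists_conj_le_of_card_eq_ppart (p := 2) hTL.1
    (card_eq_of_isSylowTwoIn hTL) hSL hS2
  -- `T₂ = T^{m⁻¹} ≥ S`
  set φ := (MulAut.conj m⁻¹).toMonoidHom with hφ
  have hinj : Function.Injective φ := (MulAut.conj m⁻¹).injective
  set T₂ := T.map φ with hT₂
  have hST₂ : S ≤ T₂ := by
    intro s hs
    refine ⟨m * s * m⁻¹, hm ⟨s, hs, rfl⟩, ?_⟩
    show m⁻¹ * (m * s * m⁻¹) * m⁻¹⁻¹ = s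
    group
  have hJT₂ : Cfsg.thompsonSubgroupOf 2 T₂ = Cfsg.thompsonSubgroupOf 2 T := by
    symm
    apply Subgroup.eq_of_le_of_card_ge
    · apply thompson_le_of_forall
      intro A hA
      have hAT₂ : A ≤ T₂ := (hA.le_thompson.trans hJS).trans hST₂
      have h2 : IsMaxEA T₂ A := by
        refine ⟨hAT₂, hA.2.1, ?_⟩
        intro B hB hBe
        -- `B^m ≤ T`
        have hBm : B.map (MulAut.conj m).toMonoidHom ≤ T := by
          rintro _ ⟨b, hb, rfl⟩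
          obtain ⟨t, ht, hbt⟩ := hB hb
          have : (MulAut.conj m).toMonoidHom b = t := by
            rw [← hbt]
            show m * (m⁻¹ * t * m⁻¹⁻¹) * m⁻¹ = t
            group
          rw [this]; exact ht
        have := hA.2.2 _ hBm (ea_map_conj hBe m)
        rwa [Subgroup.card_map_of_injective (MulAut.conj m).injective] at this
      exact h2.le_thompson
    · rw [hT₂, thompsonSubgroupOf_map_injective 2 φ hinj, Subgroup.card_map_of_injective hinj]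
  rw [← hJT₂]
  apply thompsonSubgroupOf_eq_of_le hST₂
  rw [hJT₂]; exact hJS

/-- a normal `2`-subgroup of index `3` is the `2`-core. -/
theorem pCoreOf_eq_of_relIndex [Finite G] {K R : Subgroup G} (hRK : R ≤ K) (hR2 : IsPGroup 2 ↥R)
    (hKR : K ≤ Subgroup.normalizer (R : Set G)) (hidx : R.relIndex K = 3) :
    Cfsg.pCoreOf 2 K = R := by
  have h1 : R ≤ Cfsg.pCoreOf 2 K := Cfsg.Agent.Lead.LLem.le_pCoreOf hRK hR2 hKR
  have h2 : Cfsg.pCoreOf 2 K ≤ K := Cfsg.Agent.Lead.LLem.pCoreOf_le K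
  have h3 := Subgroup.relIndex_mul_relIndex _ _ _ h1 h2
  rw [hidx] at h3
  have h4 : R.relIndex (Cfsg.pCoreOf 2 K) ∣ 3 := ⟨_, h3.symm⟩
  have h5 : R.relIndex (Cfsg.pCoreOf 2 K) ∣ Nat.card ↥(Cfsg.pCoreOf 2 K) :=
    Subgroup.relIndex_dvd_card _ _
  haveI : Fact (Nat.Prime 2) := ⟨Nat.prime_two⟩
  obtain ⟨k, hk⟩ := IsPGroup.iff_card.1 (Cfsg.Agent.Lead.LLem.isPGroup_pCoreOf (p := 2) K)
  rw [hk] at h5
  have h6 : R.relIndex (Cfsg.pCoreOf 2 K) = 1 := by
    rcases (Nat.dvd_prime Nat.prime_three).1 h4 with h | h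
    · exact h
    · exfalso
      rw [h] at h5
      have := Nat.Prime.dvd_of_dvd_pow Nat.prime_three h5
      norm_num at this
  exact le_antisymm (Subgroup.relIndex_eq_one.1 h6) h1

/-- Assembling `IsJComponent` from the component hypotheses. -/
theorem isJComponent_of_hyp [Finite G] {T L K R W : Subgroup G} (hTL : Cfsg.IsSylowTwoIn T L)
    (hKL : K ≤ L) (hC : CompHyp T K R) (hW : WHyp K R W) : Cfsg.IsJComponent T K := by
  have hR : Cfsg.pCoreOf 2 K = R := pCoreOf_eq_of_relIndex hC.hRK hC.hR2 hW.hRn hC.hidx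
  have hWK : Cfsg.wOf K = W := by
    unfold Cfsg.wOf
    rw [hR, hW.hW]
  refine ⟨hC.hgen, hC.hKJ, by rw [hR]; exact hC.hidx, ?_, by rw [hWK]; exact hW.hW4,
    by rw [hWK]; exact hW.hW2⟩
  intro S hS hJS
  exact thompsonSubgroupOf_eq_of_sylowIn hTL
    (hS.1.trans (sup_le hKL ((Cfsg.Agent.Lead.thompsonSubgroupOf_le 2 T).trans hTL.1))) hS.2.1 hJS

/-- Existence of a `J(T)`-component in `L ∈ jOvergroups T`. -/
theorem exists_isJComponent [Finite G]
    (hN : ∀ N : Subgroup G, Cfsg.IsTwoLocal N → Group.IsSolvable ↥N)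
    (hZ : ∀ S : Sylow 2 G, Subgroup.centralizer (Cfsg.omegaCenterOf (S : Subgroup G) : Set G) ≤
      Subgroup.normalizer ((S : Subgroup G) : Set G))
    {T L : Subgroup G} (hT1 : T ≠ ⊥) (hLT : L ∈ Cfsg.jOvergroups T) :
    ∃ K : Subgroup G, Cfsg.IsJComponent T K ∧ K ≤ L := by
  obtain ⟨h, hJ⟩ := lsHyp_of_mem_jOvergroups hN hZ hT1 hLT
  obtain ⟨K', R', hC', hW'⟩ := h.exists_comp hJ
  have hTL : T ≤ L := hLT.1.1
  have hC := (compHyp_map_iff L.subtype L.subtype_injective _ K' R').2 hC'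
  have hW := (wHyp_map_iff L.subtype L.subtype_injective K' R' _).2 hW'
  rw [Subgroup.map_subgroupOf_eq_of_le hTL] at hC
  exact ⟨K'.map L.subtype, isJComponent_of_hyp hLT.1 (Subgroup.map_subtype_le _) hC hW,
    Subgroup.map_subtype_le _⟩

end Cfsg.Agent.Helper1.JLS
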