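import Mathlib
import Cfsg.Prelude.Def_JComponents
import Cfsg.Agent.Helper1.JLTA
import Cfsg.Agent.Helper4.SubnCount

set_option autoImplicit false

/-!
Maximal straddling `2`-subgroups: `N_G(J(T)) ≤ M`.
-/

namespace Cfsg.Agent.Helper1.JLS

open scoped Pointwise commutatorElement

open Cfsg.Agent.Helper1 Cfsg.Agent.Lead.JComp

universe u

variable {G : Type u} [Group G]

theorem maxElemAbelianOrder_eq [Finite G] {P A : Subgroup G} (hA : IsMaxEA P A) :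
    Cfsg.maxElemAbelianOrder P = Nat.card ↥A := by
  unfold Cfsg.maxElemAbelianOrder
  have hA' := subgroupOf_mem_maxEA P hA
  have hset : (fun A' : Subgroup ↥P => Nat.card ↥A') '' Cfsg.maxElementaryAbelianSubgroups 2 ↥P =
      {Nat.card ↥A} := by
    ext n
    rw [Set.mem_singleton_iff]
    constructor
    · rintro ⟨A'', hA'', rfl⟩
      show Nat.card ↥A'' = Nat.card ↥A
      rw [card_maxEA_eq hA'' hA', card_subgroupOf_of_le hA.1]
    · rintro rfl
      exact ⟨A.subgroupOf P, hA', card_subgroupOf_of_le hA.1⟩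
  rw [hset, csSup_singleton]

theorem maxElemAbelianOrder_mono [Finite G] {P P' : Subgroup G} (h : P ≤ P') :
    Cfsg.maxElemAbelianOrder P ≤ Cfsg.maxElemAbelianOrder P' := by
  obtain ⟨A, hA⟩ := exists_isMaxEA P
  obtain ⟨A', hA'⟩ := exists_isMaxEA P'
  rw [maxElemAbelianOrder_eq hA, maxElemAbelianOrder_eq hA']
  exact hA'.2.2 A (hA.1.trans h) hA.2.1

theorem thompsonSubgroupOf_ne_bot [Finite G] {T : Subgroup G} (hT2 : IsPGroup 2 ↥T) (hT1 : T ≠ ⊥) :
    Cfsg.thompsonSubgroupOf 2 T ≠ ⊥ := by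
  haveI : Fact (Nat.Prime 2) := ⟨Nat.prime_two⟩
  intro hb
  unfold Cfsg.thompsonSubgroupOf at hb
  rw [Subgroup.map_eq_bot_iff_of_injective _ T.subtype_injective] at hb
  have h2 : 2 ∣ Nat.card ↥T := by
    obtain ⟨k, hk⟩ := IsPGroup.iff_card.1 hT2
    rcases Nat.eq_zero_or_pos k with rfl | hkpos
    · exfalso
      rw [pow_zero] at hk
      exact hT1 (Subgroup.card_eq_one.1 hk)
    · rw [hk]; exact dvd_pow_self 2 hkpos.ne'
  exact thompsonSubgroup_ne_bot (p := 2) h2 hb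

/-- The key consequence of maximality. -/
theorem maxStraddling_key [Finite G] {M T T₁ : Subgroup G}
    (hT : T ∈ Cfsg.maxStraddlingTwoSubgroups M) (hT₁ : T₁ ∈ Cfsg.straddlingTwoSubgroups M)
    (hJ : Cfsg.thompsonSubgroupOf 2 T ≤ T₁) :
    Cfsg.thompsonSubgroupOf 2 T₁ = Cfsg.thompsonSubgroupOf 2 T ∧ Nat.card ↥T₁ ≤ Nat.card ↥T := by
  obtain ⟨h1, h2⟩ := hT.2 T₁ hT₁
  obtain ⟨A, hA⟩ := exists_isMaxEA T
  obtain ⟨A₁, hA₁⟩ := exists_isMaxEA T₁
  have hAT₁ : A ≤ T₁ := hA.le_thompson.trans hJ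
  have ha : Cfsg.maxElemAbelianOrder T₁ = Cfsg.maxElemAbelianOrder T := by
    apply le_antisymm h1
    rw [maxElemAbelianOrder_eq hA, maxElemAbelianOrder_eq hA₁]
    exact hA₁.2.2 A hAT₁ hA.2.1
  obtain ⟨h3, h4⟩ := h2 ha
  have hcard : Nat.card ↥A₁ = Nat.card ↥A := by
    rw [← maxElemAbelianOrder_eq hA, ← maxElemAbelianOrder_eq hA₁, ha]
  have hle : Cfsg.thompsonSubgroupOf 2 T ≤ Cfsg.thompsonSubgroupOf 2 T₁ := by
    apply thompson_le_of_forall
    intro A' hA'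
    have h5 : Nat.card ↥A₁ ≤ Nat.card ↥A' := by
      rw [hcard]; exact hA'.2.2 A hA.1 hA.2.1
    exact (hA₁.of_card (hA'.le_thompson.trans hJ) hA'.2.1 h5).le_thompson
  have heq : Cfsg.thompsonSubgroupOf 2 T = Cfsg.thompsonSubgroupOf 2 T₁ :=
    Subgroup.eq_of_le_of_card_ge hle h3
  exact ⟨heq.symm, h4 (by rw [heq])⟩

/-- Claim A: `N_G(J(T)) ≤ M`. -/
theorem normalizer_thompson_le [Finite G] (S : Sylow 2 G) {M : Subgroup G}
    (hMJ : Subgroup.normalizer (Cfsg.thompsonSubgroupOf 2 (S : Subgroup G) : Set G) ≤ M)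
    {T : Subgroup G} (hT : T ∈ Cfsg.maxStraddlingTwoSubgroups M) :
    Subgroup.normalizer (Cfsg.thompsonSubgroupOf 2 T : Set G) ≤ M := by
  haveI : Fact (Nat.Prime 2) := ⟨Nat.prime_two⟩
  obtain ⟨hT2, hT1, hTM, -⟩ := hT.1
  set J := Cfsg.thompsonSubgroupOf 2 T with hJ
  set N := Subgroup.normalizer (J : Set G) with hN
  by_contra hNM
  have hJT : J ≤ T := Cfsg.Agent.Lead.thompsonSubgroupOf_le 2 T
  have hJ2 : IsPGroup 2 ↥J := hT2.to_le hJT
  have hJ1 : J ≠ ⊥ := thompsonSubgroupOf_ne_bot hT2 hT1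
  have hN2 : Cfsg.IsTwoLocal N := ⟨J, hJ2, hJ1, rfl⟩
  have hTN : T ≤ N := Subgroup.le_normalizer.trans (normalizer_le_normalizer_thompsonSubgroupOf 2 T)
  -- a Sylow `2`-subgroup `T₁` of `N ∩ M` containing `T`
  obtain ⟨T₁, hT₁syl, hTT₁⟩ := exists_sylowTwoIn hT2 (le_inf hTN hTM)
  have hT₁str : T₁ ∈ Cfsg.straddlingTwoSubgroups M := by
    refine ⟨hT₁syl.2.1, ?_, hT₁syl.1.trans inf_le_right, N, hN2, hT₁syl.1.trans inf_le_left, hNM⟩
    intro hb
    apply hT1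
    rw [eq_bot_iff, ← hb]; exact hTT₁
  obtain ⟨-, hcard⟩ := maxStraddling_key hT hT₁str (hJT.trans hTT₁)
  have hTeq : T = T₁ := Subgroup.eq_of_le_of_card_ge hTT₁ hcard
  -- `T` is a Sylow `2`-subgroup of `M`
  obtain ⟨T₂, hT₂syl, hTT₂⟩ := exists_sylowTwoIn hT2 hTM
  have hT₂eq : T = T₂ := by
    by_contra hne
    have hlt : T < T₂ := lt_of_le_of_ne hTT₂ hne
    have h1 := Cfsg.Agent.Helper4.SubnCount.lt_inf_normalizer hT₂syl.2.1 hlt
    have h2 : T₂ ⊓ Subgroup.normalizer (T : Set G) ≤ N ⊓ M :=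
      le_inf (inf_le_right.trans (normalizer_le_normalizer_thompsonSubgroupOf 2 T))
        (inf_le_left.trans hT₂syl.1)
    have h3 : T₂ ⊓ Subgroup.normalizer (T : Set G) = T₁ :=
      eq_of_isSylowTwoIn hT₁syl (hT₂syl.2.1.to_le inf_le_left) (hTeq ▸ h1.le) h2
    rw [← hTeq] at h3
    exact (ne_of_lt h1) h3.symm
  -- `S ≤ M`
  have hSM : (S : Subgroup G) ≤ M :=
    (Subgroup.le_normalizer.trans
      (normalizer_le_normalizer_thompsonSubgroupOf 2 (S : Subgroup G))).trans hMJ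
  have hTsyl : Cfsg.IsSylowTwoIn T M := hT₂eq ▸ hT₂syl
  obtain ⟨m, hmM, hm⟩ := Cfsg.Agent.Lead.exists_conj_le_of_card_eq_ppart (p := 2) hTM
    (card_eq_of_isSylowTwoIn hTsyl) hSM S.isPGroup'
  set φ := (MulAut.conj m).toMonoidHom with hφ
  have hinj : Function.Injective φ := (MulAut.conj m).injective
  have hSeq : (S : Subgroup G).map φ = T := by
    apply Subgroup.eq_of_le_of_card_ge hm
    rw [Subgroup.card_map_of_injective hinj]
    obtain ⟨g, hg⟩ := Cfsg.Agent.Lead.exists_conj_le_sylow S T hT2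
    have := Subgroup.card_le_of_le hg
    rwa [Subgroup.card_map_of_injective (MulAut.conj g).injective] at this
  have hJeq : J = (Cfsg.thompsonSubgroupOf 2 (S : Subgroup G)).map φ := by
    rw [hJ, ← hSeq, thompsonSubgroupOf_map_injective 2 φ hinj]
  apply hNM
  intro n hn
  -- `m⁻¹ n m` normalizes `J(S)`
  have h1 : m⁻¹ * n * m ∈ Subgroup.normalizer
      (Cfsg.thompsonSubgroupOf 2 (S : Subgroup G) : Set G) := by
    rw [Subgroup.mem_normalizer_iff]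
    intro x
    have h2 := Subgroup.mem_normalizer_iff.1 hn (m * x * m⁻¹)
    rw [hJeq] at h2
    have e1 : m * x * m⁻¹ = φ x := rfl
    have e2 : n * (m * x * m⁻¹) * n⁻¹ = φ (m⁻¹ * n * m * x * (m⁻¹ * n * m)⁻¹) := by
      show n * (m * x * m⁻¹) * n⁻¹ = m * (m⁻¹ * n * m * x * (m⁻¹ * n * m)⁻¹) * m⁻¹
      group
    rw [e2, e1, Subgroup.mem_map_iff_mem hinj, Subgroup.mem_map_iff_mem hinj] at h2
    exact h2
  have h3 := hMJ h1
  have : n = m * (m⁻¹ * n * m) * m⁻¹ := by group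
  rw [this]
  exact M.mul_mem (M.mul_mem hmM h3) (M.inv_mem hmM)

end Cfsg.Agent.Helper1.JLS
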