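import Mathlib
import Cfsg.Prelude.Def_JComponents
import Cfsg.Agent.Helper1.JLTB

set_option autoImplicit false

/-!
S2948: `2`-local overgroups of `J(T)` for a maximal straddling `2`-subgroup `T`.
-/

namespace Cfsg.Agent.Helper1.JLS

open scoped Pointwise commutatorElement

open Cfsg.Agent.Helper1 Cfsg.Agent.Lead.JComp

universe u

variable {G : Type u} [Group G]

/-- `C_G(O₂(L)) ≤ O₂(L)` for a `2`-local subgroup `L` of a group of characteristic `2` type. -/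
theorem centralizer_pCoreOf_le [Finite G] (hL : Cfsg.IsCharacteristicTwoType G) {L : Subgroup G}
    (hL2 : Cfsg.IsTwoLocal L) :
    Subgroup.centralizer (Cfsg.pCoreOf 2 L : Set G) ≤ Cfsg.pCoreOf 2 L := by
  obtain ⟨P, hP2, hP1, rfl⟩ := hL2
  set N := Subgroup.normalizer (P : Set G) with hN
  have hPN : P ≤ N := Subgroup.le_normalizer
  have hPO : P ≤ Cfsg.pCoreOf 2 N := Cfsg.Agent.Lead.LLem.le_pCoreOf hPN hP2 le_rfl
  intro x hx
  have hxP : x ∈ Subgroup.centralizer (P : Set G) :=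
    Subgroup.centralizer_le (SetLike.coe_subset_coe.2 hPO) hx
  have hxN : x ∈ N := Subgroup.centralizer_le_normalizer _ hxP
  have hchar := hL.2 P hP2 hP1
  have h1 : (⟨x, hxN⟩ : ↥N) ∈ Subgroup.centralizer (Cfsg.pCore 2 ↥N : Set ↥N) := by
    rw [Subgroup.mem_centralizer_iff]
    intro q hq
    apply Subtype.ext
    exact Subgroup.mem_centralizer_iff.1 hx (q : G) ⟨q, hq, rfl⟩
  exact ⟨⟨x, hxN⟩, hchar h1, rfl⟩

theorem s2948_core [Finite G] (hL : Cfsg.IsCharacteristicTwoType G) (S : Sylow 2 G)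
    {M : Subgroup G}
    (hMJ : Subgroup.normalizer (Cfsg.thompsonSubgroupOf 2 (S : Subgroup G) : Set G) ≤ M)
    {T : Subgroup G} (hT : T ∈ Cfsg.maxStraddlingTwoSubgroups M) {L : Subgroup G}
    (hL2 : Cfsg.IsTwoLocal L) (hLM : ¬ L ≤ M) {T₀ : Subgroup G} (hT₀ : Cfsg.IsSylowTwoIn T₀ L)
    (hJT₀ : Cfsg.thompsonSubgroupOf 2 T ≤ T₀) :
    Cfsg.thompsonSubgroupOf 2 T = Cfsg.thompsonSubgroupOf 2 T₀ ∧
      T₀ ∈ Cfsg.straddlingTwoSubgroups M ∧ L ∈ Cfsg.jOvergroups T₀ ∧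
      Nat.card ↥T₀ ≤ Nat.card ↥T := by
  haveI : Fact (Nat.Prime 2) := ⟨Nat.prime_two⟩
  obtain ⟨hT2, hT1, hTM, -⟩ := hT.1
  set J := Cfsg.thompsonSubgroupOf 2 T with hJ
  have hNM := normalizer_thompson_le S hMJ hT
  have hJ1 : J ≠ ⊥ := thompsonSubgroupOf_ne_bot hT2 hT1
  -- `T₁ = N_{T₀}(J)`
  set T₁ := T₀ ⊓ Subgroup.normalizer (J : Set G) with hT₁
  have hJT₁ : J ≤ T₁ := le_inf hJT₀ Subgroup.le_normalizer
  have hT₁2 : IsPGroup 2 ↥T₁ := hT₀.2.1.to_le inf_le_left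
  have hT₁str : T₁ ∈ Cfsg.straddlingTwoSubgroups M := by
    refine ⟨hT₁2, ?_, inf_le_right.trans hNM, L, hL2, inf_le_left.trans hT₀.1, hLM⟩
    intro hb
    apply hJ1
    rw [eq_bot_iff, ← hb]; exact hJT₁
  obtain ⟨hJT₁eq, -⟩ := maxStraddling_key hT hT₁str hJT₁
  have hT₁eq : T₁ = T₀ := by
    by_contra hne
    have hlt : T₁ < T₀ := lt_of_le_of_ne inf_le_left hne
    have h1 := Cfsg.Agent.Helper4.SubnCount.lt_inf_normalizer hT₀.2.1 hlt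
    have h2 : T₀ ⊓ Subgroup.normalizer (T₁ : Set G) ≤ T₁ := by
      refine le_inf inf_le_left (inf_le_right.trans ?_)
      have := normalizer_le_normalizer_thompsonSubgroupOf 2 T₁
      rwa [hJT₁eq] at this
    exact absurd (lt_of_lt_of_le h1 h2) (lt_irrefl _)
  rw [hT₁eq] at hT₁str hJT₁eq
  obtain ⟨-, hcard⟩ := maxStraddling_key hT hT₁str hJT₀
  refine ⟨hJT₁eq.symm, hT₁str, ⟨hT₀, ?_, centralizer_pCoreOf_le hL hL2⟩, hcard⟩
  -- `J(T₀) ≰ O₂(L)`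
  intro hle
  apply hLM
  have hQT₀ : Cfsg.pCoreOf 2 L ≤ T₀ := Cfsg.Agent.Lead.KInf.pCoreOf_le_of_sylow hT₀.1 hT₀.2.1
    (fun h2 => (Nat.not_even_iff_odd.2 hT₀.2.2) (even_iff_two_dvd.2 h2))
  have h1 := thompsonSubgroupOf_eq_of_le hQT₀ hle
  have h2 : L ≤ Subgroup.normalizer (Cfsg.thompsonSubgroupOf 2 (Cfsg.pCoreOf 2 L) : Set G) :=
    (Cfsg.Agent.Lead.KInf.pCoreOf_le_normalizer 2 L).trans
      (normalizer_le_normalizer_thompsonSubgroupOf 2 _)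
  rw [h1, hJT₁eq] at h2
  exact h2.trans hNM

theorem s2948 [Finite G] (hL : Cfsg.IsCharacteristicTwoType G)
    (hN : ∀ N : Subgroup G, Cfsg.IsTwoLocal N → Group.IsSolvable ↥N)
    (hZ : ∀ S : Sylow 2 G, Subgroup.centralizer (Cfsg.omegaCenterOf (S : Subgroup G) : Set G) ≤
      Subgroup.normalizer ((S : Subgroup G) : Set G)) (S : Sylow 2 G) (M : Subgroup G)
    (hMJ : Subgroup.normalizer (Cfsg.thompsonSubgroupOf 2 (S : Subgroup G) : Set G) ≤ M)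
    (T : Subgroup G) (hT : T ∈ Cfsg.maxStraddlingTwoSubgroups M)
    (L : Subgroup G) (hL2 : Cfsg.IsTwoLocal L) (hLM : ¬ L ≤ M) (T₀ : Subgroup G)
    (hT₀ : Cfsg.IsSylowTwoIn T₀ L) (hJT₀ : Cfsg.thompsonSubgroupOf 2 T ≤ T₀) :
    Cfsg.thompsonSubgroupOf 2 T = Cfsg.thompsonSubgroupOf 2 T₀ ∧
      T₀ ∈ Cfsg.straddlingTwoSubgroups M ∧ L ∈ Cfsg.jOvergroups T₀ ∧
      (T ≤ L → L ∈ Cfsg.jOvergroups T ∧ ∃ K : Subgroup G, Cfsg.IsJComponent T K ∧ K ≤ L) := by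
  obtain ⟨h1, h2, h3, -⟩ := s2948_core hL S hMJ hT hL2 hLM hT₀ hJT₀
  refine ⟨h1, h2, h3, ?_⟩
  intro hTL
  obtain ⟨hT2, hT1, hTM, -⟩ := hT.1
  obtain ⟨T', hT'syl, hTT'⟩ := exists_sylowTwoIn hT2 hTL
  obtain ⟨-, -, h6, hcard⟩ := s2948_core hL S hMJ hT hL2 hLM hT'syl
    ((Cfsg.Agent.Lead.thompsonSubgroupOf_le 2 T).trans hTT')
  have hTeq : T = T' := Subgroup.eq_of_le_of_card_ge hTT' hcard
  rw [← hTeq] at h6
  exact ⟨h6, exists_isJComponent hN hZ hT1 h6⟩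

end Cfsg.Agent.Helper1.JLS
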