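import Mathlib
import Cfsg.Prelude.Def_JComponents
import Cfsg.Agent.Helper1.JLTC
import Cfsg.Agent.Helper1.Subnormal

set_option autoImplicit false

/-!
Frattini argument for `J(X)`, and conjugating members of `𝒜(X)` into `𝒜(T)` by elements of `J(X)`.
-/

namespace Cfsg.Agent.Helper1.JLS

open scoped Pointwise commutatorElement

open Cfsg.Agent.Helper1 Cfsg.Agent.Helper1.Hol Cfsg.Agent.Lead.JComp

universe u

variable {X : Type u} [Group X]

namespace LSHyp

variable {T : Subgroup X}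

/-- Frattini: `X = N_X(J(T)) J(X)`. -/
theorem frattini [Finite X] (h : LSHyp T) :
    Subgroup.normalizer (Cfsg.thompsonSubgroupOf 2 T : Set X) ⊔ Cfsg.thompsonSubgroup 2 X = ⊤ := by
  haveI : (Cfsg.thompsonSubgroup 2 X).Characteristic := thompsonSubgroup_characteristic 2
  obtain ⟨S, hS⟩ := h.hTsyl
  set JX := Cfsg.thompsonSubgroup 2 X with hJX
  obtain ⟨Q, hQ⟩ := sylow_inf_subnormal 2 JX (Subgroup.Normal.isSubnormal inferInstance) S
  have h1 := Sylow.normalizer_sup_eq_top Q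
  have h2 : (Q : Subgroup ↥JX).map JX.subtype = T ⊓ JX := by
    rw [hQ, hS, Subgroup.subgroupOf_map_subtype]
  rw [h2] at h1
  have h3 : Cfsg.thompsonSubgroupOf 2 (T ⊓ JX) = Cfsg.thompsonSubgroupOf 2 T :=
    thompsonSubgroupOf_eq_of_le inf_le_left
      (le_inf (Cfsg.Agent.Lead.thompsonSubgroupOf_le 2 T) h.JT_le_JX)
  have h4 : Subgroup.normalizer ((T ⊓ JX : Subgroup X) : Set X) ≤
      Subgroup.normalizer (Cfsg.thompsonSubgroupOf 2 T : Set X) := by
    have := normalizer_le_normalizer_thompsonSubgroupOf 2 (T ⊓ JX)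
    rwa [h3] at this
  rw [eq_top_iff, ← h1]
  exact sup_le_sup_right h4 _

/-- every member of `𝒜(X)` is conjugate under `J(X)` to a member of `𝒜(T)`. -/
theorem exists_conj_maxEA [Finite X] (h : LSHyp T) {A : Subgroup X}
    (hA : A ∈ Cfsg.maxElementaryAbelianSubgroups 2 X) :
    ∃ j ∈ Cfsg.thompsonSubgroup 2 X, ∃ A₂ : Subgroup X, IsMaxEA T A₂ ∧
      A = A₂.map (MulAut.conj j).toMonoidHom := by
  haveI : (Cfsg.thompsonSubgroup 2 X).Characteristic := thompsonSubgroup_characteristic 2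
  haveI : Fact (Nat.Prime 2) := ⟨Nat.prime_two⟩
  obtain ⟨S, hS⟩ := h.hTsyl
  obtain ⟨g, hg⟩ := Cfsg.Agent.Lead.exists_conj_le_sylow S A (isElementaryAbelian_isPGroup hA.1)
  rw [hS] at hg
  set A₁ := A.map (MulAut.conj g).toMonoidHom with hA₁
  have hA₁max : IsMaxEA T A₁ := by
    refine ⟨hg, IsElementaryAbelian_map hA.1 _, ?_⟩
    intro B _ hBe
    rw [hA₁, Subgroup.card_map_of_injective (MulAut.conj g).injective]
    exact hA.2 B hBe
  have hg' : g⁻¹ ∈ Cfsg.thompsonSubgroup 2 X ⊔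
      Subgroup.normalizer (Cfsg.thompsonSubgroupOf 2 T : Set X) := by
    rw [sup_comm, h.frattini]; exact Subgroup.mem_top _
  have hnorm : Subgroup.normalizer (Cfsg.thompsonSubgroupOf 2 T : Set X) ≤
      Subgroup.normalizer (Cfsg.thompsonSubgroup 2 X : Set X) := by
    have : Subgroup.normalizer (Cfsg.thompsonSubgroup 2 X : Set X) = ⊤ :=
      Subgroup.normalizer_eq_top _
    rw [this]; exact le_top
  obtain ⟨j, hj, n, hn, hgjn⟩ := mem_sup_of_le_normalizer hnorm hg'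
  set A₂ := A₁.map (MulAut.conj n).toMonoidHom with hA₂
  have hA₂T : A₂ ≤ T := by
    have h1 : A₂ ≤ (Cfsg.thompsonSubgroupOf 2 T).map (MulAut.conj n).toMonoidHom :=
      Subgroup.map_mono hA₁max.le_thompson
    have hJn : (Cfsg.thompsonSubgroupOf 2 T).map (MulAut.conj n).toMonoidHom =
        Cfsg.thompsonSubgroupOf 2 T := (Subgroup.mem_normalizer_iff_map_conj_eq).1 hn
    rw [hJn] at h1
    exact h1.trans (Cfsg.Agent.Lead.thompsonSubgroupOf_le 2 T)
  have hcard₂ : Nat.card ↥A₂ = Nat.card ↥A₁ :=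
    Subgroup.card_map_of_injective (MulAut.conj n).injective
  have hA₂max : IsMaxEA T A₂ := hA₁max.of_card hA₂T (IsElementaryAbelian_map hA₁max.2.1 _)
    hcard₂.ge
  refine ⟨j, hj, A₂, hA₂max, ?_⟩
  rw [hA₂, hA₁, Subgroup.map_map, Subgroup.map_map]
  have : (((MulAut.conj j).toMonoidHom.comp (MulAut.conj n).toMonoidHom).comp
      (MulAut.conj g).toMonoidHom) = MonoidHom.id X := by
    ext x
    show j * (n * (g * x * g⁻¹) * n⁻¹) * j⁻¹ = x
    have e : j * (n * (g * x * g⁻¹) * n⁻¹) * j⁻¹ = (j * n) * g * x * g⁻¹ * (j * n)⁻¹ := by group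
    rw [e, ← hgjn]; group
  rw [this, Subgroup.map_id]

end LSHyp

end Cfsg.Agent.Helper1.JLS
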