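import Mathlib
import Cfsg.Prelude.Def_JComponents
import Cfsg.Agent.Helper1.JLTD

set_option autoImplicit false

/-!
`X` is generated by its `J(T)`-components together with `N_X(J(T))`.
-/

namespace Cfsg.Agent.Helper1.JLS

open scoped Pointwise commutatorElement

open Cfsg.Agent.Helper1 Cfsg.Agent.Helper1.Hol Cfsg.Agent.Lead.JComp

universe u

variable {X : Type u} [Group X]

theorem le_normalizer_iSup {G : Type*} [Group G] {ι : Sort*} (E : ι → Subgroup G)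
    (A : Subgroup G) (h : ∀ i, A ≤ Subgroup.normalizer (E i : Set G)) :
    A ≤ Subgroup.normalizer ((⨆ i, E i : Subgroup G) : Set G) := by
  intro a ha
  rw [Subgroup.mem_normalizer_iff_map_conj_eq]
  have h1 : (⨆ i, E i).map (MulAut.conj a).toMonoidHom = ⨆ i, (E i).map (MulAut.conj a).toMonoidHom :=
    Subgroup.map_iSup _ _
  have h2 : ∀ i, (E i).map (MulAut.conj a).toMonoidHom = E i := fun i =>
    (Subgroup.mem_normalizer_iff_map_conj_eq).1 (h i ha)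
  calc (⨆ i, E i).map (MulAut.conj a : G ≃* G) = ⨆ i, (E i).map (MulAut.conj a).toMonoidHom := h1
    _ = ⨆ i, E i := by simp_rw [h2]

namespace LSHyp

variable {T : Subgroup X}

/-- If all `J(T)`-components and `N_X(J(T))` lie in `M'`, then `M' = X`. -/
theorem eq_top_of_comps_le [Finite X] (h : LSHyp T) {M' : Subgroup X} (hTM : T ≤ M')
    (hNM : Subgroup.normalizer (Cfsg.thompsonSubgroupOf 2 T : Set X) ≤ M')
    (hK : ∀ K R : Subgroup X, CompHyp T K R → WHyp K R ⁅Cfsg.omegaCenterOf R, K⁆ → K ≤ M') :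
    M' = ⊤ := by
  have hyp := h.hyp
  set ψ := psi (VX X) with hψ
  set J := Cfsg.thompsonSubgroupOf 2 T with hJ
  have hCM : Subgroup.centralizer (VX X : Set X) ≤ M' :=
    (h.hCN.trans (normalizer_le_normalizer_thompsonSubgroupOf 2 T)).trans hNM
  have hJM : J ≤ M' := (Cfsg.Agent.Lead.thompsonSubgroupOf_le 2 T).trans hTM
  -- the family of good `B`
  let 𝓑 := {B : Subgroup (HolG (VX X)) // B ≤ HH X ∧ FFact.IsMinBest 2 (VV (VX X)) B ∧
    ⁅OO X, B⁆ ⊔ B ≤ M'.map ψ}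
  set HT : Subgroup (HolG (VX X)) := ⨆ B : 𝓑, (⁅OO X, (B : Subgroup (HolG (VX X)))⁆ ⊔ B) with hHT
  have hHTM : HT ≤ M'.map ψ := iSup_le (fun B => B.2.2.2)
  have hHTn : HH X ≤ Subgroup.normalizer (HT : Set (HolG (VX X))) := by
    apply le_normalizer_iSup
    rintro ⟨B, hBH, hBmin, -⟩
    have hB1 : B ≠ ⊥ := FFact.ne_bot_of_commutator_ne_bot hBmin.2.1
    have hH1 : HH X ≠ ⊥ := fun hb => hB1 (eq_bot_iff.2 (hb ▸ hBH))
    exact (h.E_facts hH1 hBH hBmin).2.1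
  -- images of members of `𝒜(T)`
  have key : ∀ A₂ : Subgroup X, IsMaxEA T A₂ → A₂.map ψ ≤ HT := by
    intro A₂ hA₂
    obtain ⟨k, B, hB, -, hsup⟩ := hyp.decomp _ _ rfl (h.map_le_HH hA₂) (h.isBest_map hA₂)
    rw [← hsup]
    apply iSup_le
    intro i
    obtain ⟨K, R, hC, hW, -, hE⟩ := h.exists_comp_of_minBest hA₂ (hB i).1 (hB i).2
    have hKM : K ≤ M' := hK K R hC hW
    have hEM : ⁅OO X, B i⁆ ⊔ B i ≤ M'.map ψ := hE.trans (Subgroup.map_mono (sup_le hKM hJM))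
    have hBH : B i ≤ HH X := (hB i).1.trans (h.map_le_HH hA₂)
    exact le_sup_right.trans (le_iSup (fun B : 𝓑 => (⁅OO X, (B : Subgroup (HolG (VX X)))⁆ ⊔ B))
      ⟨B i, hBH, (hB i).2, hEM⟩)
  -- `HH ≤ HT`
  have hHH : HH X ≤ HT := by
    show (Cfsg.thompsonSubgroup 2 X).map ψ ≤ HT
    rw [Subgroup.map_le_iff_le_comap]
    apply sSup_le
    intro A hA
    rw [← Subgroup.map_le_iff_le_comap]
    obtain ⟨j, hj, A₂, hA₂, rfl⟩ := h.exists_conj_maxEA hA
    have hjn : ψ j ∈ Subgroup.normalizer (HT : Set (HolG (VX X))) :=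
      hHTn (Subgroup.mem_map_of_mem _ hj)
    have hmap : HT.map (MulAut.conj (ψ j)).toMonoidHom = HT :=
      (Subgroup.mem_normalizer_iff_map_conj_eq).1 hjn
    rw [← hmap]
    rintro _ ⟨_, ⟨x, hx, rfl⟩, rfl⟩
    refine ⟨ψ x, key A₂ hA₂ (Subgroup.mem_map_of_mem _ hx), ?_⟩
    show ψ j * ψ x * (ψ j)⁻¹ = ψ (j * x * j⁻¹)
    rw [map_mul, map_mul, map_inv]
  -- `J(X) ≤ M'`
  have hJXM : Cfsg.thompsonSubgroup 2 X ≤ M' := by
    have h1 : Cfsg.thompsonSubgroup 2 X ≤ (M'.map ψ).comap ψ := by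
      rw [← Subgroup.map_le_iff_le_comap]
      exact hHH.trans hHTM
    rw [Subgroup.comap_map_eq, ker_psi] at h1
    exact h1.trans (sup_le le_rfl hCM)
  rw [eq_top_iff, ← h.frattini]
  exact sup_le hNM hJXM

end LSHyp

end Cfsg.Agent.Helper1.JLS
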