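import Mathlib
import Cfsg.Prelude.Def_JComponents
import Cfsg.Agent.Helper1.JLTE

set_option autoImplicit false

/-!
S2949: for a maximal straddling `2`-subgroup `T` of `M` there is a `J(T)`-component outside `M`.
-/

namespace Cfsg.Agent.Helper1.JLS

open scoped Pointwise commutatorElement

open Cfsg.Agent.Helper1 Cfsg.Agent.Lead.JComp

universe u

variable {G : Type u} [Group G]

/-- A `2`-local subgroup `L ≰ M` containing the maximal straddling `T` lies in `jOvergroups T`. -/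
theorem mem_jOvergroups_of_le [Finite G] (hL : Cfsg.IsCharacteristicTwoType G) (S : Sylow 2 G)
    {M : Subgroup G}
    (hMJ : Subgroup.normalizer (Cfsg.thompsonSubgroupOf 2 (S : Subgroup G) : Set G) ≤ M)
    {T : Subgroup G} (hT : T ∈ Cfsg.maxStraddlingTwoSubgroups M) {L : Subgroup G}
    (hL2 : Cfsg.IsTwoLocal L) (hLM : ¬ L ≤ M) (hTL : T ≤ L) : L ∈ Cfsg.jOvergroups T := by
  obtain ⟨hT2, hT1, hTM, -⟩ := hT.1
  obtain ⟨T', hT'syl, hTT'⟩ := exists_sylowTwoIn hT2 hTL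
  obtain ⟨-, -, h6, hcard⟩ := s2948_core hL S hMJ hT hL2 hLM hT'syl
    ((Cfsg.Agent.Lead.thompsonSubgroupOf_le 2 T).trans hTT')
  have hTeq : T = T' := Subgroup.eq_of_le_of_card_ge hTT' hcard
  rw [← hTeq] at h6
  exact h6

theorem s2949 [Finite G] (hL : Cfsg.IsCharacteristicTwoType G)
    (hN : ∀ N : Subgroup G, Cfsg.IsTwoLocal N → Group.IsSolvable ↥N)
    (hZ : ∀ S : Sylow 2 G, Subgroup.centralizer (Cfsg.omegaCenterOf (S : Subgroup G) : Set G) ≤
      Subgroup.normalizer ((S : Subgroup G) : Set G)) (S : Sylow 2 G) (M : Subgroup G)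
    (hMJ : Subgroup.normalizer (Cfsg.thompsonSubgroupOf 2 (S : Subgroup G) : Set G) ≤ M)
    (T : Subgroup G) (hT : T ∈ Cfsg.maxStraddlingTwoSubgroups M) :
    (Cfsg.jComponentsOutside M T).Nonempty := by
  haveI : Fact (Nat.Prime 2) := ⟨Nat.prime_two⟩
  obtain ⟨hT2, hT1, hTM, L₀, hL₀2, hTL₀, hL₀M⟩ := hT.1
  have hLT := mem_jOvergroups_of_le hL S hMJ hT hL₀2 hL₀M hTL₀
  have hNM := normalizer_thompson_le S hMJ hT
  obtain ⟨h, hJ⟩ := lsHyp_of_mem_jOvergroups hN hZ hT1 hLT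
  -- a component outside `M`
  have hex : ∃ K, Cfsg.IsJComponent T K ∧ K ≤ L₀ ∧ ¬ K ≤ M := by
    by_contra hcon
    push Not at hcon
    apply hL₀M
    have htop : M.subgroupOf L₀ = ⊤ := by
      apply h.eq_top_of_comps_le
      · intro x hx
        rw [Subgroup.mem_subgroupOf] at hx ⊢
        exact hTM hx
      · intro x hx
        rw [Subgroup.mem_subgroupOf]
        apply hNM
        have h1 : (x : G) ∈ Subgroup.normalizer (((Cfsg.thompsonSubgroupOf 2
            (T.subgroupOf L₀)).map L₀.subtype : Subgroup G) : Set G) :=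
          Subgroup.le_normalizer_map L₀.subtype (Subgroup.mem_map_of_mem _ hx)
        rwa [thompsonSubgroupOf_subgroupOf 2 hTL₀] at h1
      · intro K' R' hC' hW'
        have hC := (compHyp_map_iff L₀.subtype L₀.subtype_injective _ K' R').2 hC'
        have hW := (wHyp_map_iff L₀.subtype L₀.subtype_injective K' R' _).2 hW'
        rw [Subgroup.map_subgroupOf_eq_of_le hTL₀] at hC
        have hK := isJComponent_of_hyp hLT.1 (Subgroup.map_subtype_le _) hC hW
        have hKM := hcon _ hK (Subgroup.map_subtype_le _)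
        intro k hk
        rw [Subgroup.mem_subgroupOf]
        exact hKM (Subgroup.mem_map_of_mem _ hk)
    exact Subgroup.subgroupOf_eq_top.1 htop
  obtain ⟨K, hK, hKL₀, hKM⟩ := hex
  obtain ⟨hC, hW⟩ := compHyp_of_isJComponent' hK
  refine ⟨K, ⟨hK, ?_⟩, hKM, ?_⟩
  · -- `K ∈ jComponentsZero T`
    intro S' hJS' hS'syl
    have hW2 : IsPGroup 2 ↥(Cfsg.wOf K) := IsPGroup.of_card (n := 2) (by rw [hW.hW4]; norm_num)
    have hNW2 : Cfsg.IsTwoLocal (Subgroup.normalizer (Cfsg.wOf K : Set G)) :=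
      ⟨Cfsg.wOf K, hW2, hW.W_ne_bot, rfl⟩
    have hNWM : ¬ Subgroup.normalizer (Cfsg.wOf K : Set G) ≤ M :=
      fun hle => hKM (hW.K_le_normalizer_W.trans hle)
    exact (s2948_core hL S hMJ hT hNW2 hNWM hS'syl hJS').1.symm
  · -- `O₂(⟨K, T⟩) ≠ 1`
    obtain ⟨P, hP2, hP1, hPL⟩ := hL₀2
    have hPO : P ≤ Cfsg.pCoreOf 2 L₀ := by
      apply Cfsg.Agent.Lead.LLem.le_pCoreOf _ hP2
      · rw [hPL]
      · rw [hPL]; exact Subgroup.le_normalizer
    have hOT : Cfsg.pCoreOf 2 L₀ ≤ T := Cfsg.Agent.Lead.KInf.pCoreOf_le_of_sylow hLT.1.1 hLT.1.2.1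
      (fun h2 => (Nat.not_even_iff_odd.2 hLT.1.2.2) (even_iff_two_dvd.2 h2))
    have hOle : Cfsg.pCoreOf 2 L₀ ≤ Cfsg.pCoreOf 2 (K ⊔ T) := by
      apply Cfsg.Agent.Lead.LLem.le_pCoreOf (hOT.trans le_sup_right)
        (Cfsg.Agent.Lead.LLem.isPGroup_pCoreOf L₀)
      exact (sup_le hKL₀ hTL₀).trans (Cfsg.Agent.Lead.KInf.pCoreOf_le_normalizer 2 L₀)
    intro hb
    apply hP1
    rw [eq_bot_iff, ← hb]
    exact hPO.trans hOle

end Cfsg.Agent.Helper1.JLS
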