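import Mathlib
import Cfsg.Prelude.Def_JComponents
import Cfsg.Agent.Helper1.JLTF

set_option autoImplicit false

/-!
G-level forms of the `L`-structure theorem: `L` is generated by its `J(T)`-components and
`N_L(J(T))`; distinct components centralize each other's four-groups.
-/

namespace Cfsg.Agent.Helper1.JLS

open scoped Pointwise commutatorElement

open Cfsg.Agent.Helper1 Cfsg.Agent.Helper1.Hol Cfsg.Agent.Lead.JComp SemidirectProduct

universe u

section abstract

variable {X : Type u} [Group X]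

/-- Distinct `J(T)`-components centralize each other's four-groups (abstract form). -/
theorem le_centralizer_W_of_ne [Finite X] {T K R W K' R' : Subgroup X}
    (h : LSHyp T) (hK : CompHyp T K R) (hW : WHyp K R W)
    (hK' : CompHyp T K' R') (hne : K ≠ K') :
    K' ≤ Subgroup.centralizer (W : Set X) := by
  have hH1 := hK.HH_ne_bot h
  have hyp := h.hyp
  obtain ⟨a, B, -, -, hBmin, hBH, hKB⟩ := hK.exists_trv h
  obtain ⟨a', B', -, -, hB'min, hB'H, hK'B'⟩ := hK'.exists_trv h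
  have hWi := hW.map_inl_W hK h hBH hBmin hKB
  have hKm := hK.map_K_eq h hBH hBmin hKB
  have hK'm := hK'.map_K_eq h hB'H hB'min hK'B'
  have hEE : ⁅OO X, B'⁆ ⊔ B' ≠ ⁅OO X, B⁆ ⊔ B := by
    intro hEE
    apply hne
    apply hK.eq_of_map_eq h hK' h
    rw [hKm, hK'm, hEE]
  have hcen := hyp.E_le_of_ne LSHyp.hS3 hBH (hyp.isTrv_of_isMinBest hBH hBmin) hB'H
    (hyp.isTrv_of_isMinBest hB'H hB'min) hEE
  have hK'c : K'.map (psi (VX X)) ≤ Subgroup.centralizer
      ((⁅VV (VX X), ⁅OO X, B⁆ ⊔ B⁆ : Subgroup (HolG (VX X))) : Set (HolG (VX X))) := by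
    rw [hK'm]
    exact inf_le_right.trans (hcen.trans inf_le_right)
  have hWV := hW.W_le_VX hK h
  intro k hk
  show k ∈ Subgroup.centralizer (W : Set X)
  rw [Subgroup.mem_centralizer_iff]
  intro w hw
  have h1 : (inl (⟨w, hWV hw⟩ : ↥(VX X)) : HolG (VX X)) ∈ ⁅VV (VX X), ⁅OO X, B⁆ ⊔ B⁆ := by
    rw [← hWi]
    exact Subgroup.mem_map_of_mem _ (by rw [Subgroup.mem_subgroupOf]; exact hw)
  have h2 := Subgroup.mem_centralizer_iff.1 (hK'c (Subgroup.mem_map_of_mem _ hk)) _ h1
  have h3 : ⁅(inl (⟨w, hWV hw⟩ : ↥(VX X)) : HolG (VX X)), psi (VX X) k⁆ = 1 := by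
    rw [commutatorElement_eq_one_iff_mul_comm]
    exact h2
  rw [commutator_inl_psi] at h3
  have h4 := inl_injective (by rw [h3, map_one] : (inl _ : HolG (VX X)) = inl 1)
  have h5 : ⁅w, k⁆ = 1 := congrArg Subtype.val h4
  exact (commutatorElement_eq_one_iff_mul_comm.1 h5)

end abstract

variable {G : Type u} [Group G]

/-- (E2) distinct `J(T)`-components of `L ∈ jOvergroups T` centralize each other's four-groups. -/
theorem le_centralizer_wOf_of_ne [Finite G]
    (hN : ∀ N : Subgroup G, Cfsg.IsTwoLocal N → Group.IsSolvable ↥N)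
    (hZ : ∀ S : Sylow 2 G, Subgroup.centralizer (Cfsg.omegaCenterOf (S : Subgroup G) : Set G) ≤
      Subgroup.normalizer ((S : Subgroup G) : Set G))
    {T L K K' : Subgroup G} (hT1 : T ≠ ⊥) (hLT : L ∈ Cfsg.jOvergroups T)
    (hK : Cfsg.IsJComponent T K) (hK' : Cfsg.IsJComponent T K')
    (hKL : K ≤ L) (hK'L : K' ≤ L) (hne : K ≠ K') :
    K' ≤ Subgroup.centralizer (Cfsg.wOf K : Set G) := by
  obtain ⟨hC, hW⟩ := compHyp_of_isJComponent' hK
  obtain ⟨hC', hW'⟩ := compHyp_of_isJComponent' hK'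
  obtain ⟨h, -⟩ := lsHyp_of_mem_jOvergroups hN hZ hT1 hLT
  have hTL : T ≤ L := hLT.1.1
  have hRL : Cfsg.pCoreOf 2 K ≤ L := hC.hRK.trans hKL
  have hR'L : Cfsg.pCoreOf 2 K' ≤ L := hC'.hRK.trans hK'L
  have hWL : Cfsg.wOf K ≤ L := (hW.W_le_R.trans hC.hRK).trans hKL
  have key := le_centralizer_W_of_ne h (compHyp_subgroupOf hTL hKL hRL hC)
    (wHyp_subgroupOf hKL hRL hWL hW) (compHyp_subgroupOf hTL hK'L hR'L hC') (by
      intro hb
      apply hne
      have h1 := congrArg (Subgroup.map L.subtype) hb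
      rwa [Subgroup.map_subgroupOf_eq_of_le hKL, Subgroup.map_subgroupOf_eq_of_le hK'L] at h1)
  intro k hk
  show k ∈ Subgroup.centralizer (Cfsg.wOf K : Set G)
  rw [Subgroup.mem_centralizer_iff]
  intro w hw
  have h1 : (⟨k, hK'L hk⟩ : ↥L) ∈ Subgroup.centralizer ((Cfsg.wOf K).subgroupOf L : Set ↥L) :=
    key (Subgroup.mem_subgroupOf.2 hk)
  have h2 := Subgroup.mem_centralizer_iff.1 h1 ⟨w, hWL hw⟩ (Subgroup.mem_subgroupOf.2 hw)
  exact congrArg Subtype.val h2

/-- (E1) `L ∈ jOvergroups T` is generated by its `J(T)`-components and `N_L(J(T))`. -/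
theorem le_of_comps_le [Finite G]
    (hN : ∀ N : Subgroup G, Cfsg.IsTwoLocal N → Group.IsSolvable ↥N)
    (hZ : ∀ S : Sylow 2 G, Subgroup.centralizer (Cfsg.omegaCenterOf (S : Subgroup G) : Set G) ≤
      Subgroup.normalizer ((S : Subgroup G) : Set G))
    {T L : Subgroup G} (hT1 : T ≠ ⊥) (hLT : L ∈ Cfsg.jOvergroups T) {M' : Subgroup G}
    (hNM : L ⊓ Subgroup.normalizer (Cfsg.thompsonSubgroupOf 2 T : Set G) ≤ M')
    (hK : ∀ K : Subgroup G, Cfsg.IsJComponent T K → K ≤ L → K ≤ M') : L ≤ M' := by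
  obtain ⟨h, hJ⟩ := lsHyp_of_mem_jOvergroups hN hZ hT1 hLT
  have hTL : T ≤ L := hLT.1.1
  have hTM : T ≤ M' := by
    refine le_trans (le_inf hTL ?_) hNM
    exact Subgroup.le_normalizer.trans (normalizer_le_normalizer_thompsonSubgroupOf 2 T)
  have htop : M'.subgroupOf L = ⊤ := by
    apply h.eq_top_of_comps_le
    · intro x hx
      rw [Subgroup.mem_subgroupOf] at hx ⊢
      exact hTM hx
    · intro x hx
      rw [Subgroup.mem_subgroupOf]
      apply hNM
      refine ⟨x.2, ?_⟩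
      have h1 : (x : G) ∈ Subgroup.normalizer (((Cfsg.thompsonSubgroupOf 2
          (T.subgroupOf L)).map L.subtype : Subgroup G) : Set G) :=
        Subgroup.le_normalizer_map L.subtype (Subgroup.mem_map_of_mem _ hx)
      rwa [thompsonSubgroupOf_subgroupOf 2 hTL] at h1
    · intro K' R' hC' hW'
      have hC := (compHyp_map_iff L.subtype L.subtype_injective _ K' R').2 hC'
      have hW := (wHyp_map_iff L.subtype L.subtype_injective K' R' _).2 hW'
      rw [Subgroup.map_subgroupOf_eq_of_le hTL] at hC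
      have hK' := isJComponent_of_hyp hLT.1 (Subgroup.map_subtype_le _) hC hW
      have hKM := hK _ hK' (Subgroup.map_subtype_le _)
      intro k hk
      rw [Subgroup.mem_subgroupOf]
      exact hKM (Subgroup.mem_map_of_mem _ hk)
  exact Subgroup.subgroupOf_eq_top.1 htop

end Cfsg.Agent.Helper1.JLS
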