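import Mathlib
import Cfsg.Prelude.Def_JComponents
import Cfsg.Agent.Lead.J51A

/-!
Piece P2 of S2951–S2954 (helper1): per-configuration facts about `P = ⟨K, T⟩` for a configuration
`Cfg M T K L` with `Ω₁Z(T) = Ω₁Z(J(T))`.  Part A: `T` normalizes `K`; the context `Ctx K T`.
-/

set_option autoImplicit false
set_option linter.unusedSectionVars false

namespace Cfsg.Agent.Lead.J51

open Cfsg Cfsg.Agent.Lead.JComp Cfsg.Agent.Helper1.JLS Cfsg.Agent.Lead.JUniq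
open scoped commutatorElement

universe u

variable {G : Type u} [Group G] [Finite G]

namespace Cfg

variable {M T K L : Subgroup G}

/-- `Z₀ ∩ W_K` has order two. -/
theorem card_Z0_inf_W (c : Cfg M T K L) :
    Nat.card ↥(Cfsg.omegaCenterOf (Cfsg.thompsonSubgroupOf 2 T) ⊓ Cfsg.wOf K) = 2 :=
  (Cfsg.Agent.S2946.result c.hL c.hN c.hZ T c.T2 c.T1 K c.isJComponent _ rfl).1

/-- S2952 for the configuration: `T` normalizes `K`. -/
theorem T_le_normalizer (c : Cfg M T K L)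
    (hΩ : Cfsg.omegaCenterOf T = Cfsg.omegaCenterOf (Cfsg.thompsonSubgroupOf 2 T)) :
    T ≤ Subgroup.normalizer (K : Set G) := by
  apply Cfsg.Agent.S2943.result c.hL c.hN c.hZ T c.T2 c.T1 L c.mem_jOvergroups K c.isJComponent c.K_le
  intro hbot
  have h2 := c.card_Z0_inf_W
  have hle : Cfsg.omegaCenterOf (Cfsg.thompsonSubgroupOf 2 T) ⊓ Cfsg.wOf K ≤
      T ⊓ Subgroup.centralizer (T : Set G) ⊓ Cfsg.wOf K := by
    rw [← hΩ]
    exact inf_le_inf_right _ (omegaCenterOf_le T)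
  rw [hbot, le_bot_iff] at hle
  rw [hle] at h2
  simp at h2

/-- A nontrivial element of `Ω₁Z(T) ∩ W_K`. -/
theorem exists_wT (c : Cfg M T K L)
    (hΩ : Cfsg.omegaCenterOf T = Cfsg.omegaCenterOf (Cfsg.thompsonSubgroupOf 2 T)) :
    ∃ w : G, w ∈ Cfsg.omegaCenterOf T ∧ w ∈ Cfsg.wOf K ∧ w ≠ 1 := by
  have h2 := c.card_Z0_inf_W
  rw [← hΩ] at h2
  by_contra hcon
  push Not at hcon
  have : Cfsg.omegaCenterOf T ⊓ Cfsg.wOf K = ⊥ := by
    rw [Subgroup.eq_bot_iff_forall]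
    intro x hx
    exact hcon x (Subgroup.mem_inf.mp hx).1 (Subgroup.mem_inf.mp hx).2
  rw [this] at h2
  simp at h2

/-- `[K, T] = K`. -/
theorem commutator_K_T (c : Cfg M T K L)
    (hΩ : Cfsg.omegaCenterOf T = Cfsg.omegaCenterOf (Cfsg.thompsonSubgroupOf 2 T)) :
    ⁅K, T⁆ = K := by
  apply le_antisymm
  · rw [Subgroup.commutator_le]
    intro k hk t ht
    have h1 : t * k⁻¹ * t⁻¹ ∈ K :=
      (Subgroup.mem_normalizer_iff.mp (c.T_le_normalizer hΩ ht) k⁻¹).mp (K.inv_mem hk)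
    have : ⁅k, t⁆ = k * (t * k⁻¹ * t⁻¹) := by
      rw [commutatorElement_def]; group
    rw [this]
    exact K.mul_mem hk h1
  · conv_lhs => rw [← c.ctx.hKJ]
    exact Subgroup.commutator_mono le_rfl c.J_le_T

/-- The context `Ctx K T`. -/
theorem ctxT (c : Cfg M T K L)
    (hΩ : Cfsg.omegaCenterOf T = Cfsg.omegaCenterOf (Cfsg.thompsonSubgroupOf 2 T)) : Ctx K T :=
  ⟨c.T2, c.ctx.hgen, c.commutator_K_T hΩ, c.ctx.h3, c.ctx.hW4, c.ctx.hWsq⟩

theorem K_sup_T_le (c : Cfg M T K L) : K ⊔ T ≤ L := sup_le c.K_le c.T_le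

/-- `O₂(L) ≤ O₂(⟨K, T⟩)`. -/
theorem pCoreOf_L_le (c : Cfg M T K L)
    (_hΩ : Cfsg.omegaCenterOf T = Cfsg.omegaCenterOf (Cfsg.thompsonSubgroupOf 2 T)) :
    Cfsg.pCoreOf 2 L ≤ Cfsg.pCoreOf 2 (K ⊔ T) := by
  haveI : Fact (Nat.Prime 2) := ⟨Nat.prime_two⟩
  have h1 : Cfsg.pCoreOf 2 L ≤ T := by
    apply Cfsg.Agent.Lead.KInf.pCoreOf_le_of_sylow c.sylow.1 c.sylow.2.1
    intro hdvd
    exact (Nat.not_even_iff_odd.mpr c.sylow.2.2) (even_iff_two_dvd.mpr hdvd)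
  apply Cfsg.Agent.Lead.LLem.le_pCoreOf (h1.trans le_sup_right)
    (Cfsg.Agent.Lead.LLem.isPGroup_pCoreOf L)
  exact c.K_sup_T_le.trans (Cfsg.Agent.Lead.KInf.pCoreOf_le_normalizer 2 L)

end Cfg

end Cfsg.Agent.Lead.J51
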