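import Mathlib
import Cfsg.Prelude.Def_JComponents
import Cfsg.Agent.Helper1.J52A
import Cfsg.Agent.Helper1.Card

/-!
Piece P2 of S2951–S2954 (helper1), part B: the structure of `P = ⟨K, T⟩`:
`T` is a Sylow 2-subgroup of `P` of index 3, `O₂(P) = C_P(W_K)` has index 2 in `T`, and the clause of S2953.
-/

set_option autoImplicit false
set_option linter.unusedSectionVars false

namespace Cfsg.Agent.Lead.J51

open Cfsg Cfsg.Agent.Lead.JComp Cfsg.Agent.Helper1.JLS Cfsg.Agent.Lead.JUniq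
open scoped commutatorElement

universe u

variable {G : Type u} [Group G] [Finite G]

namespace Cfg

variable {M T K L : Subgroup G}

/-- a 2-subgroup of `L` containing `T` equals `T` -/
theorem eq_T_of_le (c : Cfg M T K L) {S : Subgroup G} (hS2 : IsPGroup 2 ↥S) (hTS : T ≤ S)
    (hSL : S ≤ L) : S = T := by
  haveI : Fact (Nat.Prime 2) := ⟨Nat.prime_two⟩
  apply le_antisymm _ hTS
  rw [← Subgroup.relIndex_eq_one]
  have h1 := Subgroup.relIndex_mul_relIndex T S L hTS hSL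
  have hodd : Odd (T.relIndex S) := by
    have := c.sylow.2.2
    rw [← h1] at this
    exact (Nat.odd_mul.mp this).1
  obtain ⟨n, hn⟩ := (IsPGroup.iff_card (p := 2)).mp hS2
  have hdvd : T.relIndex S ∣ 2 ^ n := hn ▸ Subgroup.relIndex_dvd_card T S
  obtain ⟨k, -, hk⟩ := (Nat.dvd_prime_pow Nat.prime_two).mp hdvd
  rw [hk] at hodd ⊢
  rcases Nat.eq_zero_or_pos k with rfl | hpos
  · simp
  · exfalso
    have : Even (2 ^ k) := (Nat.even_pow' hpos.ne').mpr even_two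
    exact (Nat.not_even_iff_odd.mpr hodd) this

/-- `T` is a Sylow 2-subgroup of `P = ⟨K, T⟩`. -/
theorem sylowP (c : Cfg M T K L) : Cfsg.IsSylowTwoIn T (K ⊔ T) := by
  obtain ⟨S, hS, hTS⟩ := exists_sylowTwoIn c.T2 (le_sup_right : T ≤ K ⊔ T)
  have : S = T := c.eq_T_of_le hS.2.1 hTS (hS.1.trans c.K_sup_T_le)
  rw [this] at hS
  exact hS

theorem Q_le_T (c : Cfg M T K L)
    (hΩ : Cfsg.omegaCenterOf T = Cfsg.omegaCenterOf (Cfsg.thompsonSubgroupOf 2 T)) :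
    Qx K T ≤ T := (c.ctxT hΩ).Q_le_S c.sylowP

theorem R_le_T (c : Cfg M T K L)
    (hΩ : Cfsg.omegaCenterOf T = Cfsg.omegaCenterOf (Cfsg.thompsonSubgroupOf 2 T)) :
    Cfsg.pCoreOf 2 K ≤ T := (c.ctxT hΩ).R_le_Q.trans (c.Q_le_T hΩ)

theorem not_K_le_T (c : Cfg M T K L) : ¬ K ≤ T := fun h =>
  c.ctx.R_ne_K (Cfsg.Agent.Lead.LLem.le_pCoreOf le_rfl (c.T2.to_le h) Subgroup.le_normalizer)

/-- `T ∩ K = O₂(K)`. -/
theorem T_inf_K (c : Cfg M T K L)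
    (hΩ : Cfsg.omegaCenterOf T = Cfsg.omegaCenterOf (Cfsg.thompsonSubgroupOf 2 T)) :
    T ⊓ K = Cfsg.pCoreOf 2 K := by
  apply le_antisymm
  · intro x hx
    obtain ⟨hxT, hxK⟩ := Subgroup.mem_inf.mp hx
    by_contra hxR
    apply c.not_K_le_T
    intro k hk
    rcases c.ctx.cosets hxK hxR k hk with h | h | h
    · exact c.R_le_T hΩ h
    · have : k = x * (x⁻¹ * k) := by group
      rw [this]
      exact T.mul_mem hxT (c.R_le_T hΩ h)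
    · have : k = x⁻¹ * (x * k) := by group
      rw [this]
      exact T.mul_mem (T.inv_mem hxT) (c.R_le_T hΩ h)
  · exact le_inf (c.R_le_T hΩ) c.ctx.R_le

/-- `|P : T| = 3`. -/
theorem relIndex_T_P (c : Cfg M T K L)
    (hΩ : Cfsg.omegaCenterOf T = Cfsg.omegaCenterOf (Cfsg.thompsonSubgroupOf 2 T)) :
    T.relIndex (K ⊔ T) = 3 := by
  rw [Cfsg.Agent.Helper1.relIndex_sup_of_le_normalizer' (c.T_le_normalizer hΩ),
    ← Subgroup.inf_relIndex_right, c.T_inf_K hΩ]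
  exact c.ctx.h3

/-- `|P| = 3 |T|`. -/
theorem card_P (c : Cfg M T K L)
    (hΩ : Cfsg.omegaCenterOf T = Cfsg.omegaCenterOf (Cfsg.thompsonSubgroupOf 2 T)) :
    Nat.card ↥(K ⊔ T) = 3 * Nat.card ↥T := by
  have h := Subgroup.relIndex_mul_relIndex (⊥ : Subgroup G) T (K ⊔ T) bot_le le_sup_right
  rw [Subgroup.relIndex_bot_left, Subgroup.relIndex_bot_left, c.relIndex_T_P hΩ] at h
  omega

/-- `C_P(W_K) ≤ O₂(P)`. -/
theorem Q_le_pCoreOf (c : Cfg M T K L)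
    (hΩ : Cfsg.omegaCenterOf T = Cfsg.omegaCenterOf (Cfsg.thompsonSubgroupOf 2 T)) :
    Qx K T ≤ Cfsg.pCoreOf 2 (K ⊔ T) :=
  Cfsg.Agent.Lead.LLem.le_pCoreOf (Ctx.Qx_le K T) (c.ctxT hΩ).Q_pgroup (c.ctxT hΩ).X_le_normQ

/-- `O₂(P) ≤ T`. -/
theorem pCoreOf_P_le_T (c : Cfg M T K L) : Cfsg.pCoreOf 2 (K ⊔ T) ≤ T := by
  haveI : Fact (Nat.Prime 2) := ⟨Nat.prime_two⟩
  apply Cfsg.Agent.Lead.KInf.pCoreOf_le_of_sylow c.sylowP.1 c.sylowP.2.1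
  intro hdvd
  exact (Nat.not_even_iff_odd.mpr c.sylowP.2.2) (even_iff_two_dvd.mpr hdvd)

/-- `T ≰ O₂(P)`. -/
theorem not_T_le_pCoreOf (c : Cfg M T K L) : ¬ T ≤ Cfsg.pCoreOf 2 (K ⊔ T) := by
  intro h
  have e : Cfsg.pCoreOf 2 (K ⊔ T) = T := le_antisymm c.pCoreOf_P_le_T h
  apply c.not_le_normalizer c.T2 c.J_le_T
  have := Cfsg.Agent.Lead.KInf.pCoreOf_le_normalizer 2 (K ⊔ T)
  rw [e] at this
  exact le_sup_left.trans this

/-- `|T : C_P(W_K)| = 2`. -/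
theorem relIndex_Q_T (c : Cfg M T K L)
    (hΩ : Cfsg.omegaCenterOf T = Cfsg.omegaCenterOf (Cfsg.thompsonSubgroupOf 2 T)) :
    (Qx K T).relIndex T = 2 := by
  rw [Subgroup.relIndex_eq_two_iff_exists_notMem_and']
  have : ∃ a ∈ T, a ∉ Qx K T := by
    by_contra hcon
    push Not at hcon
    exact c.not_T_le_pCoreOf (fun a ha => c.Q_le_pCoreOf hΩ (hcon a ha))
  obtain ⟨a, haT, haQ⟩ := this
  refine ⟨a, haT, haQ, ?_⟩
  intro b hb
  by_cases hbQ : b ∈ Qx K T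
  · right; exact hbQ
  · left; exact (c.ctxT hΩ).mul_mem_Q c.sylowP haT hb haQ hbQ

/-- `O₂(P) = C_P(W_K)`. -/
theorem pCoreOf_P_eq (c : Cfg M T K L)
    (hΩ : Cfsg.omegaCenterOf T = Cfsg.omegaCenterOf (Cfsg.thompsonSubgroupOf 2 T)) :
    Cfsg.pCoreOf 2 (K ⊔ T) = Qx K T := by
  apply le_antisymm _ (c.Q_le_pCoreOf hΩ)
  rw [← Subgroup.relIndex_eq_one]
  have h := Subgroup.relIndex_mul_relIndex (Qx K T) (Cfsg.pCoreOf 2 (K ⊔ T)) T (c.Q_le_pCoreOf hΩ)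
    c.pCoreOf_P_le_T
  rw [c.relIndex_Q_T hΩ] at h
  have h1 : (Cfsg.pCoreOf 2 (K ⊔ T)).relIndex T ≠ 1 := by
    rw [Ne, Subgroup.relIndex_eq_one]
    exact c.not_T_le_pCoreOf
  rcases (Nat.dvd_prime Nat.prime_two).mp (Dvd.intro _ h) with h2 | h2
  · exact h2
  · rw [h2] at h
    exfalso
    apply h1
    omega

/-- `|P : O₂(P)| = 6`. -/
theorem relIndex_pCoreOf_P (c : Cfg M T K L)
    (hΩ : Cfsg.omegaCenterOf T = Cfsg.omegaCenterOf (Cfsg.thompsonSubgroupOf 2 T)) :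
    (Cfsg.pCoreOf 2 (K ⊔ T)).relIndex (K ⊔ T) = 6 := by
  have h := Subgroup.relIndex_mul_relIndex (Cfsg.pCoreOf 2 (K ⊔ T)) T (K ⊔ T) c.pCoreOf_P_le_T
    le_sup_right
  rw [c.relIndex_T_P hΩ, c.pCoreOf_P_eq hΩ, c.relIndex_Q_T hΩ] at h
  rw [c.pCoreOf_P_eq hΩ, ← h]

/-- `P' ≰ O₂(P)`. -/
theorem not_commutator_le (c : Cfg M T K L)
    (hΩ : Cfsg.omegaCenterOf T = Cfsg.omegaCenterOf (Cfsg.thompsonSubgroupOf 2 T)) :
    ¬ ⁅K ⊔ T, K ⊔ T⁆ ≤ Cfsg.pCoreOf 2 (K ⊔ T) := by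
  intro h
  apply c.not_K_le_T
  refine le_trans ?_ (h.trans c.pCoreOf_P_le_T)
  conv_lhs => rw [← c.commutator_K_T hΩ]
  exact Subgroup.commutator_mono le_sup_left le_sup_right

/-- `[Ω₁Z(T), P] ≠ 1`. -/
theorem commutator_omega_ne_bot (c : Cfg M T K L)
    (hΩ : Cfsg.omegaCenterOf T = Cfsg.omegaCenterOf (Cfsg.thompsonSubgroupOf 2 T)) :
    ⁅Cfsg.omegaCenterOf T, K ⊔ T⁆ ≠ ⊥ := by
  intro hbot
  obtain ⟨w, hwZ, hwW, hw1⟩ := c.exists_wT hΩ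
  have : ∃ d ∈ K, d ∉ Cfsg.pCoreOf 2 K := by
    by_contra hcon
    push Not at hcon
    exact c.ctx.R_ne_K hcon
  obtain ⟨d, hdK, hdR⟩ := this
  apply hw1
  apply c.ctx.fixedfree hdK hdR hwW
  have hcomm : ⁅w, d⁆ ∈ ⁅Cfsg.omegaCenterOf T, K ⊔ T⁆ :=
    Subgroup.commutator_mem_commutator hwZ (le_sup_left (a := K) hdK)
  rw [hbot, Subgroup.mem_bot, commutatorElement_eq_one_iff_mul_comm] at hcomm
  rw [← hcomm]; group

/-- `C_G(O₂(P)) ≤ O₂(P)`. -/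
theorem centralizer_pCoreOf_P_le (c : Cfg M T K L)
    (hΩ : Cfsg.omegaCenterOf T = Cfsg.omegaCenterOf (Cfsg.thompsonSubgroupOf 2 T)) :
    Subgroup.centralizer (Cfsg.pCoreOf 2 (K ⊔ T) : Set G) ≤ Cfsg.pCoreOf 2 (K ⊔ T) :=
  (Subgroup.centralizer_le (c.pCoreOf_L_le hΩ)).trans
    (c.centralizer_pCoreOf_le.trans (c.pCoreOf_L_le hΩ))

/-- The clause of S2953 for `P = ⟨K, T⟩`. -/
theorem clause (c : Cfg M T K L)
    (hΩ : Cfsg.omegaCenterOf T = Cfsg.omegaCenterOf (Cfsg.thompsonSubgroupOf 2 T)) :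
    Clause T (K ⊔ T) := by
  refine ⟨c.centralizer_pCoreOf_P_le hΩ, c.sylowP, c.relIndex_pCoreOf_P hΩ, c.not_commutator_le hΩ,
    c.commutator_omega_ne_bot hΩ, L, c.hLmax, c.K_sup_T_le, c.sylow, ?_⟩
  intro L' hL' hPL'
  have hle : L' ≤ L :=
    c.le_L hL'.1 (sup_le (le_sup_left.trans hPL') (c.J_le_T.trans (le_sup_right.trans hPL')))
  exact (hL'.2 L c.hLmax.1 hle).symm

end Cfg

end Cfsg.Agent.Lead.J51
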