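import Mathlib
import Cfsg.Prelude.Def_JComponents
import Cfsg.Agent.Helper1.J52B

/-!
Piece P3b(d) of S2951–S2954 (helper1): `L = ⟨K, T⟩` when `O₂(⟨K, T⟩)` is abelian of order at most 8.
Part C: general lemmas and the normality of `K` in `L`.
-/

set_option autoImplicit false
set_option linter.unusedSectionVars false
set_option linter.style.haveILetI false

namespace Cfsg.Agent.Lead.J51

open Cfsg Cfsg.Agent.Lead.JComp Cfsg.Agent.Helper1.JLS Cfsg.Agent.Lead.JUniq
open scoped commutatorElement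

universe u

/-- a group of order 4 has at most 6 automorphisms -/
theorem card_mulAut_le_six {W : Type*} [Group W] [Finite W] (h4 : Nat.card W = 4) :
    Nat.card (MulAut W) ≤ 6 := by
  classical
  let f : MulAut W → Equiv.Perm {w : W // w ≠ 1} := fun φ =>
    φ.toEquiv.subtypeEquiv (fun a => by simp)
  have hf : Function.Injective f := by
    intro φ ψ h
    ext w
    by_cases hw : w = 1
    · subst hw; simp
    · have := congrArg (fun e : Equiv.Perm {w : W // w ≠ 1} => ((e ⟨w, hw⟩ : {w : W // w ≠ 1}) : W)) h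
      simpa [f] using this
  have h1 := Nat.card_le_card_of_injective f hf
  have h3 : Nat.card {w : W // w ≠ 1} = 3 := by
    have := Nat.card_congr (Equiv.optionSubtypeNe (1 : W))
    rw [Finite.card_option, h4] at this
    omega
  rw [Nat.card_perm, h3] at h1
  exact h1

variable {G : Type u} [Group G] [Finite G]

/-- if `L` normalizes a subgroup `W` of order 4 then `|L : C_L(W)| ≤ 6` -/
theorem card_le_six_mul (L W : Subgroup G) (hW4 : Nat.card W = 4)
    (hLW : L ≤ Subgroup.normalizer (W : Set G)) :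
    Nat.card L ≤ 6 * Nat.card ↥(Subgroup.centralizer (W : Set G) ⊓ L) := by
  let f : ↥L →* MulAut ↥W := (Subgroup.normalizerMonoidHom W).comp (Subgroup.inclusion hLW)
  have hker : f.ker = (Subgroup.centralizer (W : Set G)).subgroupOf L := by
    show ((Subgroup.normalizerMonoidHom W).comp (Subgroup.inclusion hLW)).ker = _
    rw [← MonoidHom.comap_ker, Subgroup.normalizerMonoidHom_ker]
    ext ⟨l, hl⟩
    simp [Subgroup.mem_subgroupOf]
  have h1 : Nat.card L = Nat.card f.ker * Nat.card f.range := by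
    rw [← Subgroup.index_ker, mul_comm]; exact (Subgroup.index_mul_card _).symm
  have h2 : Nat.card f.range ≤ 6 := (Subgroup.card_le_card_group _).trans (card_mulAut_le_six hW4)
  rw [h1, hker, Cfsg.Agent.Helper1.card_subgroupOf]
  nlinarith

/-- `jOvergroups` is invariant under automorphisms -/
theorem mem_jOvergroups_map (φ : G ≃* G) {T L : Subgroup G} (h : L ∈ Cfsg.jOvergroups T) :
    L.map φ.toMonoidHom ∈ Cfsg.jOvergroups (T.map φ.toMonoidHom) := by
  obtain ⟨h1, h2, h3⟩ := h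
  have hinj : Function.Injective φ.toMonoidHom := φ.injective
  refine ⟨(isSylowTwoIn_map_iff φ.toMonoidHom hinj T L).2 h1, ?_, ?_⟩
  · rw [thompsonSubgroupOf_map_injective 2 φ.toMonoidHom hinj,
      Cfsg.Agent.Lead.LLem.pCoreOf_map φ.toMonoidHom hinj L,
      Subgroup.map_le_map_iff_of_injective hinj]
    exact h2
  · rw [Cfsg.Agent.Lead.LLem.pCoreOf_map φ.toMonoidHom hinj L, centralizer_map]
    exact Subgroup.map_mono h3

/-- two subgroups of order 4 inside a subgroup of order at most 8 meet nontrivially -/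
theorem inf_ne_bot_of_card {U A B : Subgroup G} (hA : A ≤ U) (hB : B ≤ U) (hA4 : Nat.card A = 4)
    (hB4 : Nat.card B = 4) (hU : Nat.card U ≤ 8) : A ⊓ B ≠ ⊥ := by
  intro hbot
  have hd : Disjoint A B := disjoint_iff.mpr hbot
  have hinj := Subgroup.mul_injective_of_disjoint hd
  let f : ↥A × ↥B → ↥U := fun g => ⟨(g.1 : G) * (g.2 : G), U.mul_mem (hA g.1.2) (hB g.2.2)⟩
  have hf : Function.Injective f := by
    intro x y hxy
    apply hinj
    exact congrArg Subtype.val hxy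
  have := Nat.card_le_card_of_injective f hf
  rw [Nat.card_prod, hA4, hB4] at this
  omega

namespace Cfg

variable {M T K L : Subgroup G}

/-- `W_K ≤ O₂(⟨K, T⟩)` -/
theorem W_le_pCoreOf_P (c : Cfg M T K L)
    (hΩ : Cfsg.omegaCenterOf T = Cfsg.omegaCenterOf (Cfsg.thompsonSubgroupOf 2 T)) :
    Cfsg.wOf K ≤ Cfsg.pCoreOf 2 (K ⊔ T) :=
  ((c.ctxT hΩ).W_le_R.trans (c.ctxT hΩ).R_le_Q).trans (c.Q_le_pCoreOf hΩ)

/-- if `O₂(⟨K, T⟩)` is abelian then `O₂(L) = O₂(⟨K, T⟩)` -/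
theorem pCoreOf_L_eq (c : Cfg M T K L)
    (hΩ : Cfsg.omegaCenterOf T = Cfsg.omegaCenterOf (Cfsg.thompsonSubgroupOf 2 T))
    (hab : ∀ x ∈ Cfsg.pCoreOf 2 (K ⊔ T), ∀ y ∈ Cfsg.pCoreOf 2 (K ⊔ T), x * y = y * x) :
    Cfsg.pCoreOf 2 L = Cfsg.pCoreOf 2 (K ⊔ T) := by
  apply le_antisymm (c.pCoreOf_L_le hΩ)
  refine le_trans ?_ c.centralizer_pCoreOf_le
  intro x hx
  rw [Subgroup.mem_centralizer_iff]
  intro y hy
  exact hab y (c.pCoreOf_L_le hΩ hy) x hx

/-- `2 |O₂(⟨K, T⟩)| = |T|` -/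
theorem card_T_eq (c : Cfg M T K L)
    (hΩ : Cfsg.omegaCenterOf T = Cfsg.omegaCenterOf (Cfsg.thompsonSubgroupOf 2 T)) :
    Nat.card ↥T = 2 * Nat.card ↥(Cfsg.pCoreOf 2 (K ⊔ T)) := by
  rw [c.pCoreOf_P_eq hΩ]
  exact card_eq_of_relIndex_two (c.Q_le_T hΩ) (c.relIndex_Q_T hΩ)

/-- `L` normalizes `K` -/
theorem map_conj_K_eq (c : Cfg M T K L)
    (hΩ : Cfsg.omegaCenterOf T = Cfsg.omegaCenterOf (Cfsg.thompsonSubgroupOf 2 T))
    (hab : ∀ x ∈ Cfsg.pCoreOf 2 (K ⊔ T), ∀ y ∈ Cfsg.pCoreOf 2 (K ⊔ T), x * y = y * x)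
    (h16 : Nat.card ↥T ≤ 16) {l : G} (hl : l ∈ L) :
    K.map (MulAut.conj l).toMonoidHom = K := by
  have hLl : L.map (MulAut.conj l).toMonoidHom = L :=
    map_conj_eq_of_mem_normalizer (Subgroup.le_normalizer hl)
  have hU : Cfsg.pCoreOf 2 L = Cfsg.pCoreOf 2 (K ⊔ T) := c.pCoreOf_L_eq hΩ hab
  have hUl : (Cfsg.pCoreOf 2 (K ⊔ T)).map (MulAut.conj l).toMonoidHom = Cfsg.pCoreOf 2 (K ⊔ T) := by
    rw [← hU]
    exact pCoreOf_conj (Subgroup.le_normalizer hl)
  have hJ' : L ∈ Cfsg.jOvergroups (T.map (MulAut.conj l).toMonoidHom) := by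
    have := mem_jOvergroups_map (MulAut.conj l) c.mem_jOvergroups
    rwa [hLl] at this
  have hT'1 : T.map (MulAut.conj l).toMonoidHom ≠ ⊥ := by
    intro e
    apply c.T1
    rw [eq_bot_iff]
    intro x hx
    have : (MulAut.conj l).toMonoidHom x ∈ T.map (MulAut.conj l).toMonoidHom := ⟨x, hx, rfl⟩
    rw [e, Subgroup.mem_bot] at this
    rw [Subgroup.mem_bot]
    exact (MulAut.conj l).injective (by rw [map_one]; exact this)
  have hK'L : K.map (MulAut.conj l).toMonoidHom ≤ L := by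
    rw [← hLl]; exact Subgroup.map_mono c.K_le
  have hcardU : Nat.card ↥(Cfsg.pCoreOf 2 (K ⊔ T)) ≤ 8 := by
    have := c.card_T_eq hΩ
    omega
  have hW' : Cfsg.wOf (K.map (MulAut.conj l).toMonoidHom) ≤ Cfsg.pCoreOf 2 (K ⊔ T) := by
    rw [wOf_map, ← hUl]
    exact Subgroup.map_mono (c.W_le_pCoreOf_P hΩ)
  have hK' := isJComponent_map (MulAut.conj l) c.isJComponent
  exact (eq_of_wOf_inf_ne_bot c.hN c.hZ c.T1 hT'1 c.mem_jOvergroups hJ' c.isJComponent hK' c.K_le hK'L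
    (inf_ne_bot_of_card (c.W_le_pCoreOf_P hΩ) hW' c.ctx.hW4 hK'.2.2.2.2.1 hcardU)).symm

end Cfg

end Cfsg.Agent.Lead.J51
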