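import Mathlib
import Cfsg.Prelude.Def_JComponents
import Cfsg.Agent.Helper1.J52C

/-!
Piece P3b(d) of S2951–S2954 (helper1), part D: `L = ⟨K, T⟩` when `O₂(⟨K, T⟩)` is abelian and `|T| ≤ 16`.
-/

set_option autoImplicit false
set_option linter.unusedSectionVars false
set_option linter.style.haveILetI false

namespace Cfsg.Agent.Lead.J51

open Cfsg Cfsg.Agent.Lead.JComp Cfsg.Agent.Helper1.JLS Cfsg.Agent.Lead.JUniq
open scoped commutatorElement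

universe u

variable {G : Type u} [Group G] [Finite G]

theorem mem_normalizer_of_map_conj_eq {K : Subgroup G} {g : G}
    (h : K.map (MulAut.conj g).toMonoidHom = K) : g ∈ Subgroup.normalizer (K : Set G) := by
  rw [Subgroup.mem_normalizer_iff]
  intro n
  constructor
  · intro hn; rw [← h]; exact ⟨n, hn, rfl⟩
  · intro hn
    rw [← h] at hn
    obtain ⟨m, hm, e⟩ := hn
    have e' : g * m * g⁻¹ = g * n * g⁻¹ := e
    have : m = n := by simpa using e'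
    rw [← this]; exact hm

namespace Cfg

variable {M T K L : Subgroup G}

theorem L_le_normalizer_K (c : Cfg M T K L)
    (hΩ : Cfsg.omegaCenterOf T = Cfsg.omegaCenterOf (Cfsg.thompsonSubgroupOf 2 T))
    (hab : ∀ x ∈ Cfsg.pCoreOf 2 (K ⊔ T), ∀ y ∈ Cfsg.pCoreOf 2 (K ⊔ T), x * y = y * x)
    (h16 : Nat.card ↥T ≤ 16) : L ≤ Subgroup.normalizer (K : Set G) :=
  fun _ hl => mem_normalizer_of_map_conj_eq (c.map_conj_K_eq hΩ hab h16 hl)

theorem L_le_normalizer_W (c : Cfg M T K L)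
    (hΩ : Cfsg.omegaCenterOf T = Cfsg.omegaCenterOf (Cfsg.thompsonSubgroupOf 2 T))
    (hab : ∀ x ∈ Cfsg.pCoreOf 2 (K ⊔ T), ∀ y ∈ Cfsg.pCoreOf 2 (K ⊔ T), x * y = y * x)
    (h16 : Nat.card ↥T ≤ 16) : L ≤ Subgroup.normalizer (Cfsg.wOf K : Set G) :=
  fun _ hl => mem_normalizer_of_map_conj_eq (wOf_conj (c.L_le_normalizer_K hΩ hab h16 hl))

/-- `C_L(W_K)` is normalized by `L` -/
theorem conj_mem_centralizer_W (c : Cfg M T K L)
    (hΩ : Cfsg.omegaCenterOf T = Cfsg.omegaCenterOf (Cfsg.thompsonSubgroupOf 2 T))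
    (hab : ∀ x ∈ Cfsg.pCoreOf 2 (K ⊔ T), ∀ y ∈ Cfsg.pCoreOf 2 (K ⊔ T), x * y = y * x)
    (h16 : Nat.card ↥T ≤ 16) {l n : G} (hl : l ∈ L)
    (hn : n ∈ Subgroup.centralizer (Cfsg.wOf K : Set G) ⊓ L) :
    l * n * l⁻¹ ∈ Subgroup.centralizer (Cfsg.wOf K : Set G) ⊓ L := by
  obtain ⟨hnW, hnL⟩ := Subgroup.mem_inf.mp hn
  refine Subgroup.mem_inf.mpr ⟨?_, L.mul_mem (L.mul_mem hl hnL) (L.inv_mem hl)⟩
  rw [Subgroup.mem_centralizer_iff] at hnW ⊢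
  intro w hw
  have hlW := c.L_le_normalizer_W hΩ hab h16 (L.inv_mem hl)
  have hw' : l⁻¹ * w * l⁻¹⁻¹ ∈ Cfsg.wOf K := (Subgroup.mem_normalizer_iff.mp hlW w).mp hw
  have e := hnW _ hw'
  have e1 : w * (l * n * l⁻¹) = l * ((l⁻¹ * w * l⁻¹⁻¹) * n) * l⁻¹ := by group
  rw [e1, e]; group

/-- `C_L(W_K)` is a 2-group -/
theorem centralizer_W_pgroup (c : Cfg M T K L)
    (hΩ : Cfsg.omegaCenterOf T = Cfsg.omegaCenterOf (Cfsg.thompsonSubgroupOf 2 T))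
    (hab : ∀ x ∈ Cfsg.pCoreOf 2 (K ⊔ T), ∀ y ∈ Cfsg.pCoreOf 2 (K ⊔ T), x * y = y * x)
    (h16 : Nat.card ↥T ≤ 16) :
    IsPGroup 2 ↥(Subgroup.centralizer (Cfsg.wOf K : Set G) ⊓ L) := by
  haveI : Fact (Nat.Prime 2) := ⟨Nat.prime_two⟩
  have hUL : Cfsg.pCoreOf 2 L = Cfsg.pCoreOf 2 (K ⊔ T) := c.pCoreOf_L_eq hΩ hab
  have hWU : Cfsg.wOf K ≤ Cfsg.pCoreOf 2 (K ⊔ T) := c.W_le_pCoreOf_P hΩ
  have hcardU : Nat.card ↥(Cfsg.pCoreOf 2 (K ⊔ T)) ≤ 8 := by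
    have := c.card_T_eq hΩ
    omega
  -- an odd-order element of `C_L(W)` is trivial
  have key : ∀ t ∈ Subgroup.centralizer (Cfsg.wOf K : Set G) ⊓ L, Odd (orderOf t) → t = 1 := by
    intro t ht hodd
    obtain ⟨htW, htL⟩ := Subgroup.mem_inf.mp ht
    rw [Subgroup.mem_centralizer_iff] at htW
    have htU : ∀ x ∈ Cfsg.pCoreOf 2 (K ⊔ T), t * x * t⁻¹ ∈ Cfsg.pCoreOf 2 (K ⊔ T) := by
      intro x hx
      have := pCoreOf_conj (K := L) (Subgroup.le_normalizer htL)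
      rw [hUL] at this
      exact conj_mem_of_map_eq this hx
    have hcomm : ∀ x ∈ Cfsg.pCoreOf 2 (K ⊔ T), x⁻¹ * (t * x * t⁻¹) ∈ Cfsg.wOf K := by
      intro x hx
      by_cases hxW : x ∈ Cfsg.wOf K
      · have : t * x * t⁻¹ = x := by rw [← htW x hxW]; group
        rw [this, inv_mul_cancel]; exact Subgroup.one_mem _
      · have hidx : (Cfsg.wOf K).relIndex (Cfsg.pCoreOf 2 (K ⊔ T)) = 2 := by
          have h1 := Cfsg.Agent.Helper1.relIndex_mul_card_of_le hWU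
          rw [c.ctx.hW4] at h1
          have h2 : (Cfsg.wOf K).relIndex (Cfsg.pCoreOf 2 (K ⊔ T)) ≠ 1 := by
            rw [Ne, Subgroup.relIndex_eq_one]
            intro hle; exact hxW (hle hx)
          have h3 : (Cfsg.wOf K).relIndex (Cfsg.pCoreOf 2 (K ⊔ T)) ≠ 0 := by
            intro h0; rw [h0] at h1
            have : 0 < Nat.card ↥(Cfsg.pCoreOf 2 (K ⊔ T)) := Nat.card_pos
            omega
          omega
        rw [Subgroup.relIndex_eq_two_iff_exists_notMem_and'] at hidx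
        obtain ⟨a, -, -, hsplit⟩ := hidx
        have h1 : a * x ∈ Cfsg.wOf K := (hsplit x hx).resolve_right hxW
        have hyW : t * x * t⁻¹ ∉ Cfsg.wOf K := by
          intro hy
          apply hxW
          have e : x = t⁻¹ * ((t * x * t⁻¹) * t) := by group
          rw [e, htW _ hy]
          have e2 : t⁻¹ * (t * (t * x * t⁻¹)) = t * x * t⁻¹ := by group
          rw [e2]; exact hy
        have h2 : a * (t * x * t⁻¹) ∈ Cfsg.wOf K := (hsplit _ (htU x hx)).resolve_right hyW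
        have e : x⁻¹ * (t * x * t⁻¹) = (a * x)⁻¹ * (a * (t * x * t⁻¹)) := by group
        rw [e]; exact Subgroup.mul_mem _ (Subgroup.inv_mem _ h1) h2
    have hcent : t ∈ Subgroup.centralizer (Cfsg.pCoreOf 2 (K ⊔ T) : Set G) := by
      rw [Subgroup.mem_centralizer_iff]
      intro x hx
      have hu := hcomm x hx
      have h1 : t * x * t⁻¹ = x * (x⁻¹ * (t * x * t⁻¹)) := by group
      have h2 : t * (x⁻¹ * (t * x * t⁻¹)) = (x⁻¹ * (t * x * t⁻¹)) * t := (htW _ hu).symm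
      have h3 := odd_stab h1 h2 (c.ctx.hWsq _ hu) hodd
      rw [h3, mul_one] at h1
      have := congrArg (· * t) h1
      simpa using this.symm
    have htU' : t ∈ Cfsg.pCoreOf 2 (K ⊔ T) := c.centralizer_pCoreOf_P_le hΩ hcent
    obtain ⟨j, hj⟩ := (Cfsg.Agent.Lead.LLem.isPGroup_pCoreOf (K ⊔ T)) ⟨t, htU'⟩
    have hj' : t ^ 2 ^ j = 1 := by
      have := congrArg Subtype.val hj
      simpa using this
    have hdvd : orderOf t ∣ 2 ^ j := orderOf_dvd_of_pow_eq_one hj'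
    have hcop : Nat.Coprime (orderOf t) (2 ^ j) :=
      Nat.Coprime.pow_right _ (Nat.Coprime.symm (Nat.coprime_two_left.mpr hodd))
    exact orderOf_eq_one_iff.mp (hcop.eq_one_of_dvd hdvd)
  rintro ⟨g, hg⟩
  have hn0 : orderOf g ≠ 0 := (orderOf_pos g).ne'
  obtain ⟨k, m, hm, hkm⟩ := Nat.exists_eq_two_pow_mul_odd hn0
  refine ⟨k, ?_⟩
  apply Subtype.ext
  show g ^ 2 ^ k = 1
  have htm : (g ^ 2 ^ k) ^ m = 1 := by
    rw [← pow_mul, ← hkm]; exact pow_orderOf_eq_one g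
  have hodd : Odd (orderOf (g ^ 2 ^ k)) := Odd.of_dvd_nat hm (orderOf_dvd_of_pow_eq_one htm)
  exact key _ (Subgroup.pow_mem _ hg _) hodd

/-- `C_L(W_K) ≤ O₂(L)` -/
theorem centralizer_W_le (c : Cfg M T K L)
    (hΩ : Cfsg.omegaCenterOf T = Cfsg.omegaCenterOf (Cfsg.thompsonSubgroupOf 2 T))
    (hab : ∀ x ∈ Cfsg.pCoreOf 2 (K ⊔ T), ∀ y ∈ Cfsg.pCoreOf 2 (K ⊔ T), x * y = y * x)
    (h16 : Nat.card ↥T ≤ 16) :
    Subgroup.centralizer (Cfsg.wOf K : Set G) ⊓ L ≤ Cfsg.pCoreOf 2 L := by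
  apply Cfsg.Agent.Lead.LLem.le_pCoreOf inf_le_right (c.centralizer_W_pgroup hΩ hab h16)
  intro l hl
  rw [Subgroup.mem_normalizer_iff]
  intro n
  constructor
  · intro hn; exact c.conj_mem_centralizer_W hΩ hab h16 hl hn
  · intro hn
    have := c.conj_mem_centralizer_W hΩ hab h16 (L.inv_mem hl) hn
    have e : l⁻¹ * (l * n * l⁻¹) * l⁻¹⁻¹ = n := by group
    rwa [e] at this

/-- `L = ⟨K, T⟩` when `O₂(⟨K, T⟩)` is abelian and `|T| ≤ 16` -/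
theorem L_eq_of_abelian (c : Cfg M T K L)
    (hΩ : Cfsg.omegaCenterOf T = Cfsg.omegaCenterOf (Cfsg.thompsonSubgroupOf 2 T))
    (hab : ∀ x ∈ Cfsg.pCoreOf 2 (K ⊔ T), ∀ y ∈ Cfsg.pCoreOf 2 (K ⊔ T), x * y = y * x)
    (h16 : Nat.card ↥T ≤ 16) : L = K ⊔ T := by
  have h1 := card_le_six_mul L (Cfsg.wOf K) c.ctx.hW4 (c.L_le_normalizer_W hΩ hab h16)
  have h2 : Nat.card ↥(Subgroup.centralizer (Cfsg.wOf K : Set G) ⊓ L) ≤
      Nat.card ↥(Cfsg.pCoreOf 2 L) := Subgroup.card_le_of_le (c.centralizer_W_le hΩ hab h16)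
  rw [c.pCoreOf_L_eq hΩ hab] at h2
  have h3 := c.card_T_eq hΩ
  have h4 := c.card_P hΩ
  have h5 : Nat.card ↥L ≤ Nat.card ↥(K ⊔ T) := by omega
  exact (Subgroup.eq_of_le_of_card_ge c.K_sup_T_le h5).symm

/-- part (d) of P3b, the case `|T| = 16` -/
theorem L_eq_of_card_sixteen (c : Cfg M T K L)
    (hΩ : Cfsg.omegaCenterOf T = Cfsg.omegaCenterOf (Cfsg.thompsonSubgroupOf 2 T))
    (h16 : Nat.card ↥T = 16)
    (hab : ∀ x ∈ Cfsg.pCoreOf 2 (K ⊔ T), ∀ y ∈ Cfsg.pCoreOf 2 (K ⊔ T), x * y = y * x) :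
    L = K ⊔ T := c.L_eq_of_abelian hΩ hab h16.le

/-- part (d) of P3b, the case `|T| = 8` -/
theorem L_eq_of_card_eight (c : Cfg M T K L)
    (hΩ : Cfsg.omegaCenterOf T = Cfsg.omegaCenterOf (Cfsg.thompsonSubgroupOf 2 T))
    (h8 : Nat.card ↥T = 8) : L = K ⊔ T := by
  apply c.L_eq_of_abelian hΩ _ (by omega)
  have h3 := c.card_T_eq hΩ
  have hU4 : Nat.card ↥(Cfsg.pCoreOf 2 (K ⊔ T)) ≤ Nat.card ↥(Cfsg.wOf K) := by
    rw [c.ctx.hW4]; omega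
  have hUW : Cfsg.wOf K = Cfsg.pCoreOf 2 (K ⊔ T) :=
    Subgroup.eq_of_le_of_card_ge (c.W_le_pCoreOf_P hΩ) hU4
  rw [← hUW]
  intro x hx y hy
  exact c.ctx.W_comm hx hy

end Cfg

end Cfsg.Agent.Lead.J51
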