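import Mathlib
import Cfsg.Prelude.Def_JComponents
import Cfsg.Agent.Lead.J51G
import Cfsg.Agent.Helper1.J52B

/-!
Piece P2 of S2951–S2954 (helper1): the proposition `P2Prop G` of the lead's assembly.
-/

set_option autoImplicit false

namespace Cfsg.Agent.Lead.J51

universe u

theorem p2Prop (G : Type u) [Group G] [Finite G] : P2Prop G :=
  fun _ _ _ _ c hΩ => ⟨c.T_le_normalizer hΩ, c.clause hΩ⟩

end Cfsg.Agent.Lead.J51
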