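import Mathlib

/-!
Piece P5 (first half) of S2951–S2954 (helper1): `kill_S4`.  Part A: concrete facts about `Perm (Fin 4)`, coordinates
on a subgroup `P ≅ S₄`, the four-group `F = O₂(P)` and the elementary abelian subgroups of a Sylow 2-subgroup of `P`.
-/

set_option autoImplicit false

namespace Cfsg.Agent.Helper1.J5K

abbrev S4 := Equiv.Perm (Fin 4)

/-- membership in the normal four-group of `S₄` -/
def inV (σ : S4) : Prop := σ * σ = 1 ∧ Equiv.Perm.sign σ = 1

instance : DecidablePred inV := fun σ => by unfold inV; infer_instance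

/-- the involutions outside the normal four-group (the transpositions) -/
def isT (σ : S4) : Prop := σ * σ = 1 ∧ ¬ inV σ

instance : DecidablePred isT := fun σ => by unfold isT; infer_instance

set_option maxRecDepth 100000 in
theorem inV_one : inV 1 := by decide +kernel

set_option maxRecDepth 100000 in
theorem inV_mul : ∀ a b : S4, inV a → inV b → inV (a * b) := by decide +kernel

set_option maxRecDepth 100000 in
theorem inV_inv : ∀ a : S4, inV a → inV a⁻¹ := by decide +kernel

set_option maxRecDepth 100000 in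
theorem inV_conj : ∀ a g : S4, inV a → inV (g * a * g⁻¹) := by decide +kernel

set_option maxRecDepth 100000 in
theorem exists_inV_ne : ∀ a : S4, ∃ σ, inV σ ∧ σ ≠ 1 ∧ σ ≠ a := by decide +kernel

set_option maxRecDepth 100000 in
theorem pow_four_of_pow_eight : ∀ σ : S4, σ ^ 8 = 1 → σ ^ 4 = 1 := by decide +kernel

set_option maxRecDepth 100000 in
theorem transp_comm : ∀ a b : S4, isT a → isT b → (b * a) ^ 4 = 1 → b * a = a * b := by
  decide +kernel

set_option maxRecDepth 100000 in
theorem cent_transp : ∀ a b c : S4, isT a → isT b → b * a = a * b → c * b = b * c →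
    c * a = a * c := by
  decide +kernel

set_option maxRecDepth 100000 in
theorem cent_enum : ∀ a w c : S4, isT a → w * a = a * w → w ≠ 1 → w ≠ a → c * a = a * c →
    c = 1 ∨ c = a ∨ c = w ∨ c = a * w := by
  decide +kernel

set_option maxRecDepth 100000 in
theorem card_inV : (Finset.univ.filter inV).card = 4 := by decide +kernel

section coord

variable {G : Type*} [Group G] (P : Subgroup G) (e : ↥P ≃* S4)

open Classical in
/-- the coordinate of an element of `P` (and `1` outside `P`) -/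
noncomputable def coord (x : G) : S4 := if h : x ∈ P then e ⟨x, h⟩ else 1

theorem coord_of_mem {x : G} (h : x ∈ P) : coord P e x = e ⟨x, h⟩ := by
  unfold coord; rw [dif_pos h]

theorem coord_mul {x y : G} (hx : x ∈ P) (hy : y ∈ P) :
    coord P e (x * y) = coord P e x * coord P e y := by
  rw [coord_of_mem P e hx, coord_of_mem P e hy, coord_of_mem P e (P.mul_mem hx hy), ← map_mul]
  rfl

theorem coord_one : coord P e 1 = 1 := by
  rw [coord_of_mem P e P.one_mem]; exact map_one e

theorem coord_inv {x : G} (hx : x ∈ P) : coord P e x⁻¹ = (coord P e x)⁻¹ := by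
  rw [coord_of_mem P e hx, coord_of_mem P e (P.inv_mem hx), ← map_inv]; rfl

theorem coord_inj {x y : G} (hx : x ∈ P) (hy : y ∈ P) (h : coord P e x = coord P e y) : x = y := by
  rw [coord_of_mem P e hx, coord_of_mem P e hy] at h
  exact congrArg Subtype.val (e.injective h)

theorem coord_eq_one {x : G} (hx : x ∈ P) (h : coord P e x = 1) : x = 1 :=
  coord_inj P e hx P.one_mem (h.trans (coord_one P e).symm)

theorem exists_coord (σ : S4) : ∃ x ∈ P, coord P e x = σ :=
  ⟨(e.symm σ : G), (e.symm σ).2, by rw [coord_of_mem P e (e.symm σ).2]; simp⟩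

theorem coord_pow {x : G} (hx : x ∈ P) (n : ℕ) : coord P e (x ^ n) = coord P e x ^ n := by
  induction n with
  | zero => simp [coord_one]
  | succ n ih => rw [pow_succ, pow_succ, coord_mul P e (P.pow_mem hx n) hx, ih]

/-- the four-group `F = O₂(P)` -/
def Fsub : Subgroup G where
  carrier := {x | x ∈ P ∧ inV (coord P e x)}
  mul_mem' := by
    rintro x y ⟨hx, hx'⟩ ⟨hy, hy'⟩
    exact ⟨P.mul_mem hx hy, by rw [coord_mul P e hx hy]; exact inV_mul _ _ hx' hy'⟩
  one_mem' := ⟨P.one_mem, by rw [coord_one]; exact inV_one⟩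
  inv_mem' := by
    rintro x ⟨hx, hx'⟩
    exact ⟨P.inv_mem hx, by rw [coord_inv P e hx]; exact inV_inv _ hx'⟩

theorem mem_Fsub {x : G} : x ∈ Fsub P e ↔ x ∈ P ∧ inV (coord P e x) := Iff.rfl

theorem Fsub_le : Fsub P e ≤ P := fun _ hx => hx.1

theorem Fsub_sq {x : G} (hx : x ∈ Fsub P e) : x * x = 1 := by
  apply coord_eq_one P e (P.mul_mem hx.1 hx.1)
  rw [coord_mul P e hx.1 hx.1]
  exact hx.2.1

theorem Fsub_pgroup : IsPGroup 2 ↥(Fsub P e) := by
  rintro ⟨g, hg⟩
  refine ⟨1, ?_⟩
  apply Subtype.ext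
  show g ^ 2 ^ 1 = 1
  rw [pow_one, pow_two]
  exact Fsub_sq P e hg

theorem Fsub_ne_bot : Fsub P e ≠ ⊥ := by
  intro hbot
  obtain ⟨σ, hσ, hσ1, -⟩ := exists_inV_ne 1
  obtain ⟨x, hxP, hx⟩ := exists_coord P e σ
  have hxF : x ∈ Fsub P e := ⟨hxP, by rw [hx]; exact hσ⟩
  rw [hbot, Subgroup.mem_bot] at hxF
  apply hσ1
  rw [← hx, hxF, coord_one]

theorem Fsub_conj {p n : G} (hp : p ∈ P) (hn : n ∈ Fsub P e) : p * n * p⁻¹ ∈ Fsub P e := by
  refine ⟨P.mul_mem (P.mul_mem hp hn.1) (P.inv_mem hp), ?_⟩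
  rw [coord_mul P e (P.mul_mem hp hn.1) (P.inv_mem hp), coord_mul P e hp hn.1, coord_inv P e hp]
  exact inV_conj _ _ hn.2

theorem le_normalizer_Fsub : P ≤ Subgroup.normalizer (Fsub P e : Set G) := by
  intro p hp
  rw [Subgroup.mem_normalizer_iff]
  intro n
  constructor
  · intro hn; exact Fsub_conj P e hp hn
  · intro hn
    have := Fsub_conj P e (P.inv_mem hp) hn
    have e1 : p⁻¹ * (p * n * p⁻¹) * p⁻¹⁻¹ = n := by group
    rwa [e1] at this

theorem card_Fsub_le [Finite G] : Nat.card ↥(Fsub P e) ≤ 4 := by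
  let f : ↥(Fsub P e) → {σ : S4 // inV σ} := fun x => ⟨coord P e x, x.2.2⟩
  have hf : Function.Injective f := by
    intro x y hxy
    apply Subtype.ext
    exact coord_inj P e x.2.1 y.2.1 (congrArg Subtype.val hxy)
  have h1 := Nat.card_le_card_of_injective f hf
  have h2 : Nat.card {σ : S4 // inV σ} = 4 := by
    rw [Nat.card_eq_fintype_card, Fintype.card_subtype]
    exact card_inV
  rw [h2] at h1
  exact h1

/-- an elementary abelian subgroup of a 2-subgroup `T'` of `P` lies in `F` or in any given subgroup `F₂ ≰ F` of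
exponent 2 with at least three elements -/
theorem elemab_le (T' E F₂ : Subgroup G) (hT'P : T' ≤ P) (hT'8 : ∀ y ∈ T', y ^ 8 = 1)
    (hE : E ≤ T') (hEsq : ∀ x ∈ E, x * x = 1) (hF₂ : F₂ ≤ T') (hF₂sq : ∀ x ∈ F₂, x * x = 1)
    (hF₂3 : ∀ s ∈ F₂, ∃ u ∈ F₂, u ≠ 1 ∧ u ≠ s) (hne : ¬ F₂ ≤ Fsub P e) :
    E ≤ Fsub P e ∨ E ≤ F₂ := by
  by_cases hEF : E ≤ Fsub P e
  · left; exact hEF
  right
  obtain ⟨x, hxE, hxF⟩ := SetLike.not_le_iff_exists.mp hEF
  obtain ⟨s, hsF₂, hsF⟩ := SetLike.not_le_iff_exists.mp hne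
  obtain ⟨u, huF₂, hu1, hus⟩ := hF₂3 s hsF₂
  have hxP : x ∈ P := hT'P (hE hxE)
  have hsP : s ∈ P := hT'P (hF₂ hsF₂)
  have huP : u ∈ P := hT'P (hF₂ huF₂)
  -- commutativity in groups of exponent 2
  have comm_of_sq : ∀ {H : Subgroup G}, (∀ z ∈ H, z * z = 1) → ∀ p ∈ H, ∀ q ∈ H, p * q = q * p := by
    intro H hH p hp q hq
    have h1 := hH (p * q) (H.mul_mem hp hq)
    have h2 := hH p hp
    have h3 := hH q hq
    have : p * q = p * (p * q * (p * q)) * q := by rw [h1, mul_one]
    rw [this]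
    have e2 : p * (p * q * (p * q)) * q = (p * p) * q * p * (q * q) := by group
    rw [e2, h2, h3, one_mul, mul_one]
  have isT_of : ∀ {y : G}, y ∈ P → y * y = 1 → y ∉ Fsub P e → isT (coord P e y) := by
    intro y hyP hy2 hyF
    refine ⟨?_, fun hV => hyF ⟨hyP, hV⟩⟩
    rw [← coord_mul P e hyP hyP, hy2, coord_one]
  have ha : isT (coord P e s) := isT_of hsP (hF₂sq s hsF₂) hsF
  have hb : isT (coord P e x) := isT_of hxP (hEsq x hxE) hxF
  have hba4 : (coord P e x * coord P e s) ^ 4 = 1 := by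
    apply pow_four_of_pow_eight
    rw [← coord_mul P e hxP hsP, ← coord_pow P e (P.mul_mem hxP hsP),
      hT'8 _ (T'.mul_mem (hE hxE) (hF₂ hsF₂)), coord_one]
  have hba : coord P e x * coord P e s = coord P e s * coord P e x := transp_comm _ _ ha hb hba4
  have hwa : coord P e u * coord P e s = coord P e s * coord P e u := by
    rw [← coord_mul P e huP hsP, ← coord_mul P e hsP huP, comm_of_sq hF₂sq u huF₂ s hsF₂]
  have hw1 : coord P e u ≠ 1 := fun h => hu1 (coord_eq_one P e huP h)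
  have hwa' : coord P e u ≠ coord P e s := fun h => hus (coord_inj P e huP hsP h)
  intro y hyE
  have hyP : y ∈ P := hT'P (hE hyE)
  have hcb : coord P e y * coord P e x = coord P e x * coord P e y := by
    rw [← coord_mul P e hyP hxP, ← coord_mul P e hxP hyP, comm_of_sq hEsq y hyE x hxE]
  have hca := cent_transp _ _ _ ha hb hba hcb
  rcases cent_enum _ _ _ ha hwa hw1 hwa' hca with h | h | h | h
  · rw [coord_eq_one P e hyP h]; exact F₂.one_mem
  · rw [coord_inj P e hyP hsP h]; exact hsF₂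
  · rw [coord_inj P e hyP huP h]; exact huF₂
  · rw [← coord_mul P e hsP huP] at h
    rw [coord_inj P e hyP (P.mul_mem hsP huP) h]; exact F₂.mul_mem hsF₂ huF₂

end coord

end Cfsg.Agent.Helper1.J5K
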