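import Mathlib
import Cfsg.Agent.Lead.KInfD
import Cfsg.Agent.Lead.LLemA
import Cfsg.Agent.Helper4.NormalizerGrow
import Cfsg.Agent.Helper1.Basic
import Cfsg.Agent.Helper1.J5KA

/-!
Piece P5 (first half) of S2951–S2954 (helper1): `kill_S4`.  Part B: the main argument (plan of helper8):
`F = O₂(P)`, `T' = S ∩ P`, `t ∈ N_S(T') ∖ T'`; `V ∩ T'` is a `t`-invariant elementary abelian subgroup of `T'`, hence
lies in `F`; so `F` is self-normalizing in the 2-group `FV`, `V ≤ F`, `V = F ⊴ S` and `S ≤ N_G(F) ≤ P`.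
-/

set_option autoImplicit false
set_option linter.style.haveILetI false

namespace Cfsg.Agent.Helper1.J5K

open scoped Pointwise

theorem mem_normalizer_of_map_eq {G : Type*} [Group G] {K : Subgroup G} {g : G}
    (h : K.map (MulAut.conj g).toMonoidHom = K) : g ∈ Subgroup.normalizer (K : Set G) := by
  rw [Subgroup.mem_normalizer_iff]
  intro n
  constructor
  · intro hn; rw [← h]; exact ⟨n, hn, rfl⟩
  · intro hn
    rw [← h] at hn
    obtain ⟨m, hm, e⟩ := hn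
    have e' : g * m * g⁻¹ = g * n * g⁻¹ := e
    have : m = n := by simpa using e'
    rw [← this]; exact hm

theorem kill_S4 {G : Type*} [Group G] [Finite G] (S P V : Subgroup G) (hS2 : IsPGroup 2 ↥S)
    (e : ↥P ≃* Equiv.Perm (Fin 4))
    (hP : ∀ Q : Subgroup G, Q ≤ P → Q ≠ ⊥ → IsPGroup 2 ↥Q → P ≤ Subgroup.normalizer (Q : Set G) →
      Subgroup.normalizer (Q : Set G) ≤ P)
    (hsyl : Nat.card ↥(S ⊓ P) = 8) (hlt : ¬ S ≤ P)
    (hVS : V ≤ S) (hVn : S ≤ Subgroup.normalizer (V : Set G)) (hVsq : ∀ v ∈ V, v * v = 1)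
    (hV4 : 4 ≤ Nat.card ↥V) : False := by
  haveI : Fact (Nat.Prime 2) := ⟨Nat.prime_two⟩
  have hFP : Fsub P e ≤ P := Fsub_le P e
  have hNF : Subgroup.normalizer (Fsub P e : Set G) ≤ P :=
    hP _ hFP (Fsub_ne_bot P e) (Fsub_pgroup P e) (le_normalizer_Fsub P e)
  have hcardP : Nat.card ↥P = 24 := by
    rw [Nat.card_congr e.toEquiv, Nat.card_perm, Nat.card_fin]; rfl
  have hT'2 : IsPGroup 2 ↥(S ⊓ P) := hS2.to_le inf_le_left
  have hFT : Fsub P e ≤ S ⊓ P := by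
    have h1 : Fsub P e ≤ Cfsg.pCoreOf 2 P :=
      Cfsg.Agent.Lead.LLem.le_pCoreOf hFP (Fsub_pgroup P e) (le_normalizer_Fsub P e)
    refine h1.trans (Cfsg.Agent.Lead.KInf.pCoreOf_le_of_sylow inf_le_right hT'2 ?_)
    have := Cfsg.Agent.Helper1.relIndex_mul_card_of_le (inf_le_right : S ⊓ P ≤ P)
    rw [hsyl, hcardP] at this
    intro hdvd
    omega
  -- `T' < S`
  have hlt' : S ⊓ P < S := by
    refine lt_of_le_of_ne inf_le_left ?_
    intro h
    exact hlt (h ▸ inf_le_right)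
  obtain ⟨t, htS, htN, htT⟩ :=
    Cfsg.Agent.Helper4.exists_mem_normalizer_not_mem S hS2 (S ⊓ P) hlt'
  have hT'8 : ∀ y ∈ S ⊓ P, y ^ 8 = 1 := by
    intro y hy
    have := pow_card_eq_one' (G := ↥(S ⊓ P)) (x := ⟨y, hy⟩)
    rw [hsyl] at this
    exact congrArg Subtype.val this
  -- `F₂ = F^t`
  have hF₂T : (Fsub P e).map (MulAut.conj t).toMonoidHom ≤ S ⊓ P := by
    rintro _ ⟨f, hf, rfl⟩
    exact (Subgroup.mem_normalizer_iff.mp htN f).mp (hFT hf)
  have hF₂sq : ∀ x ∈ (Fsub P e).map (MulAut.conj t).toMonoidHom, x * x = 1 := by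
    rintro _ ⟨f, hf, rfl⟩
    show t * f * t⁻¹ * (t * f * t⁻¹) = 1
    have := Fsub_sq P e hf
    calc t * f * t⁻¹ * (t * f * t⁻¹) = t * (f * f) * t⁻¹ := by group
      _ = 1 := by rw [this]; group
  have hF₂3 : ∀ s ∈ (Fsub P e).map (MulAut.conj t).toMonoidHom,
      ∃ u ∈ (Fsub P e).map (MulAut.conj t).toMonoidHom, u ≠ 1 ∧ u ≠ s := by
    rintro _ ⟨f, hf, rfl⟩
    obtain ⟨σ, hσ, hσ1, hσf⟩ := exists_inV_ne (coord P e f)
    obtain ⟨x, hxP, hx⟩ := exists_coord P e σ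
    refine ⟨t * x * t⁻¹, ⟨x, ⟨hxP, by rw [hx]; exact hσ⟩, rfl⟩, ?_, ?_⟩
    · intro h
      apply hσ1
      have : x = 1 := by
        have e1 : x = t⁻¹ * (t * x * t⁻¹) * t := by group
        rw [e1, h]; group
      rw [← hx, this, coord_one]
    · intro h
      apply hσf
      have : x = f := by
        have h' : t * x * t⁻¹ = t * f * t⁻¹ := h
        simpa using h'
      rw [← hx, this]
  have hne : ¬ (Fsub P e).map (MulAut.conj t).toMonoidHom ≤ Fsub P e := by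
    intro hle
    have hcard : Nat.card ↥(Fsub P e) ≤ Nat.card ↥((Fsub P e).map (MulAut.conj t).toMonoidHom) := by
      rw [Subgroup.card_map_of_injective (MulAut.conj t).injective]
    have heq : (Fsub P e).map (MulAut.conj t).toMonoidHom = Fsub P e :=
      Subgroup.eq_of_le_of_card_ge hle hcard
    exact htT ⟨htS, hNF (mem_normalizer_of_map_eq heq)⟩
  -- `V ∩ T' ≤ F`
  have hV'F : V ⊓ (S ⊓ P) ≤ Fsub P e := by
    rcases elemab_le P e (S ⊓ P) (V ⊓ (S ⊓ P)) _ inf_le_right hT'8 inf_le_right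
      (fun x hx => hVsq x hx.1) hF₂T hF₂sq hF₂3 hne with h | h
    · exact h
    · intro v hv
      have h1 : t * v * t⁻¹ ∈ V ⊓ (S ⊓ P) :=
        ⟨(Subgroup.mem_normalizer_iff.mp (hVn htS) v).mp hv.1,
          (Subgroup.mem_normalizer_iff.mp htN v).mp hv.2⟩
      obtain ⟨f, hf, hfe⟩ := h h1
      have hfe' : t * f * t⁻¹ = t * v * t⁻¹ := hfe
      have : f = v := by simpa using hfe'
      rw [← this]; exact hf
  -- `V ≤ F`
  have hVF : V ≤ Fsub P e := by
    by_contra hnot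
    have hFS : Fsub P e ≤ S := hFT.trans inf_le_left
    have hlt2 : Fsub P e < Fsub P e ⊔ V := by
      refine lt_of_le_of_ne le_sup_left ?_
      intro h
      apply hnot
      rw [h]; exact le_sup_right
    have hX2 : IsPGroup 2 ↥(Fsub P e ⊔ V) := hS2.to_le (sup_le hFS hVS)
    obtain ⟨x, hxX, hxN, hxF⟩ :=
      Cfsg.Agent.Helper4.exists_mem_normalizer_not_mem _ hX2 _ hlt2
    apply hxF
    have hxS : x ∈ S := (sup_le hFS hVS) hxX
    have hxT : x ∈ S ⊓ P := ⟨hxS, hNF hxN⟩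
    have hmul : ((Fsub P e ⊔ V : Subgroup G) : Set G) = (Fsub P e : Set G) * (V : Set G) :=
      Subgroup.coe_mul_of_left_le_normalizer_right _ _ (hFS.trans hVn)
    have hx' : x ∈ (Fsub P e : Set G) * (V : Set G) := by
      rw [← hmul]; exact hxX
    obtain ⟨f, hf, v, hv, rfl⟩ := Set.mem_mul.mp hx'
    have hvT : v ∈ S ⊓ P := by
      have e1 : v = f⁻¹ * (f * v) := by group
      rw [e1]; exact (S ⊓ P).mul_mem ((S ⊓ P).inv_mem (hFT hf)) hxT
    exact (Fsub P e).mul_mem hf (hV'F ⟨hv, hvT⟩)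
  -- `V = F`
  have hVeq : V = Fsub P e := Subgroup.eq_of_le_of_card_ge hVF ((card_Fsub_le P e).trans hV4)
  apply hlt
  rw [hVeq] at hVn
  exact hVn.trans hNF

end Cfsg.Agent.Helper1.J5K
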