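import Mathlib

/-!
Piece P5 (second half) of S2951–S2954 (helper1): `kill_S4C2`.  Part C: concrete facts about
`Perm (Fin 4) × Multiplicative (ZMod 2)`, coordinates on a subgroup `P ≅ S₄ × C₂`, the subgroup `U = O₂(P)`, the
central involution and the elementary abelian subgroups of a Sylow 2-subgroup of `P`.
-/

set_option autoImplicit false

namespace Cfsg.Agent.Helper1.J5K

abbrev X4 := Equiv.Perm (Fin 4) × Multiplicative (ZMod 2)

/-- membership in `O₂(S₄ × C₂)` -/
def inU (x : X4) : Prop := x.1 * x.1 = 1 ∧ Equiv.Perm.sign x.1 = 1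

instance : DecidablePred inU := fun x => by unfold inU; infer_instance

/-- involutions outside `O₂` -/
def isTX (x : X4) : Prop := x * x = 1 ∧ ¬ inU x

instance : DecidablePred isTX := fun x => by unfold isTX; infer_instance

/-- commuting pairs of involutions outside `O₂` -/
def isTT (a b : X4) : Prop := isTX a ∧ isTX b ∧ b * a = a * b

instance : DecidableRel isTT := fun a b => by unfold isTT; infer_instance

/-- the central involution -/
def cX : X4 := (1, Multiplicative.ofAdd 1)

set_option maxRecDepth 100000 in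
theorem inU_one : inU 1 := by decide +kernel

set_option maxRecDepth 100000 in
theorem inU_mul : ∀ a b : X4, inU a → inU b → inU (a * b) := by decide +kernel

set_option maxRecDepth 100000 in
theorem inU_inv : ∀ a : X4, inU a → inU a⁻¹ := by decide +kernel

set_option maxRecDepth 100000 in
theorem inU_conj : ∀ a g : X4, inU a → inU (g * a * g⁻¹) := by decide +kernel

set_option maxRecDepth 100000 in
theorem inU_sq : ∀ a : X4, inU a → a * a = 1 := by decide +kernel

set_option maxRecDepth 100000 in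
theorem cX_facts : inU cX ∧ cX ≠ 1 ∧ cX * cX = 1 ∧ ∀ x : X4, x * cX = cX * x := by decide +kernel

set_option maxRecDepth 100000 in
theorem pow_four_of_pow_sixteen : ∀ σ : X4, σ ^ 16 = 1 → σ ^ 4 = 1 := by decide +kernel

set_option maxRecDepth 100000 in
theorem transp_commX : ∀ a b : X4, isTX a → isTX b → (b * a) ^ 4 = 1 → b * a = a * b := by
  decide +kernel

set_option maxRecDepth 100000 in
set_option synthInstance.maxSize 2000 in
set_option synthInstance.maxHeartbeats 400000 in
theorem cent_transpX : ∀ a b c : X4, isTT a b → c * b = b * c → c * a = a * c := by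
  decide +kernel

set_option maxRecDepth 100000 in
theorem card_inU : (Finset.univ.filter inU).card = 8 := by decide +kernel

set_option maxRecDepth 100000 in
theorem card_centX : ∀ a : X4, isTX a →
    (Finset.univ.filter (fun c : X4 => c * a = a * c)).card = 8 := by
  decide +kernel

section gcoord

variable {G : Type*} [Group G] {H : Type*} [Group H] (P : Subgroup G) (e : ↥P ≃* H)

open Classical in
/-- the coordinate of an element of `P` (and `1` outside `P`) -/
noncomputable def gcoord (x : G) : H := if h : x ∈ P then e ⟨x, h⟩ else 1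

theorem gcoord_of_mem {x : G} (h : x ∈ P) : gcoord P e x = e ⟨x, h⟩ := by
  unfold gcoord; rw [dif_pos h]

theorem gcoord_mul {x y : G} (hx : x ∈ P) (hy : y ∈ P) :
    gcoord P e (x * y) = gcoord P e x * gcoord P e y := by
  rw [gcoord_of_mem P e hx, gcoord_of_mem P e hy, gcoord_of_mem P e (P.mul_mem hx hy), ← map_mul]
  rfl

theorem gcoord_one : gcoord P e 1 = 1 := by
  rw [gcoord_of_mem P e P.one_mem]; exact map_one e

theorem gcoord_inv {x : G} (hx : x ∈ P) : gcoord P e x⁻¹ = (gcoord P e x)⁻¹ := by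
  rw [gcoord_of_mem P e hx, gcoord_of_mem P e (P.inv_mem hx), ← map_inv]; rfl

theorem gcoord_inj {x y : G} (hx : x ∈ P) (hy : y ∈ P) (h : gcoord P e x = gcoord P e y) :
    x = y := by
  rw [gcoord_of_mem P e hx, gcoord_of_mem P e hy] at h
  exact congrArg Subtype.val (e.injective h)

theorem gcoord_eq_one {x : G} (hx : x ∈ P) (h : gcoord P e x = 1) : x = 1 :=
  gcoord_inj P e hx P.one_mem (h.trans (gcoord_one P e).symm)

theorem exists_gcoord (σ : H) : ∃ x ∈ P, gcoord P e x = σ :=
  ⟨(e.symm σ : G), (e.symm σ).2, by rw [gcoord_of_mem P e (e.symm σ).2]; simp⟩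

theorem gcoord_pow {x : G} (hx : x ∈ P) (n : ℕ) : gcoord P e (x ^ n) = gcoord P e x ^ n := by
  induction n with
  | zero => simp [gcoord_one]
  | succ n ih => rw [pow_succ, pow_succ, gcoord_mul P e (P.pow_mem hx n) hx, ih]

end gcoord

section U

variable {G : Type*} [Group G] (P : Subgroup G) (e : ↥P ≃* X4)

/-- `U = O₂(P)` -/
def Usub : Subgroup G where
  carrier := {x | x ∈ P ∧ inU (gcoord P e x)}
  mul_mem' := by
    rintro x y ⟨hx, hx'⟩ ⟨hy, hy'⟩
    exact ⟨P.mul_mem hx hy, by rw [gcoord_mul P e hx hy]; exact inU_mul _ _ hx' hy'⟩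
  one_mem' := ⟨P.one_mem, by rw [gcoord_one]; exact inU_one⟩
  inv_mem' := by
    rintro x ⟨hx, hx'⟩
    exact ⟨P.inv_mem hx, by rw [gcoord_inv P e hx]; exact inU_inv _ hx'⟩

theorem mem_Usub {x : G} : x ∈ Usub P e ↔ x ∈ P ∧ inU (gcoord P e x) := Iff.rfl

theorem Usub_le : Usub P e ≤ P := fun _ hx => hx.1

theorem Usub_sq {x : G} (hx : x ∈ Usub P e) : x * x = 1 := by
  apply gcoord_eq_one P e (P.mul_mem hx.1 hx.1)
  rw [gcoord_mul P e hx.1 hx.1]
  exact inU_sq _ hx.2

theorem Usub_pgroup : IsPGroup 2 ↥(Usub P e) := by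
  rintro ⟨g, hg⟩
  refine ⟨1, ?_⟩
  apply Subtype.ext
  show g ^ 2 ^ 1 = 1
  rw [pow_one, pow_two]
  exact Usub_sq P e hg

theorem Usub_conj {p n : G} (hp : p ∈ P) (hn : n ∈ Usub P e) : p * n * p⁻¹ ∈ Usub P e := by
  refine ⟨P.mul_mem (P.mul_mem hp hn.1) (P.inv_mem hp), ?_⟩
  rw [gcoord_mul P e (P.mul_mem hp hn.1) (P.inv_mem hp), gcoord_mul P e hp hn.1, gcoord_inv P e hp]
  exact inU_conj _ _ hn.2

theorem le_normalizer_Usub : P ≤ Subgroup.normalizer (Usub P e : Set G) := by
  intro p hp
  rw [Subgroup.mem_normalizer_iff]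
  intro n
  constructor
  · intro hn; exact Usub_conj P e hp hn
  · intro hn
    have := Usub_conj P e (P.inv_mem hp) hn
    have e1 : p⁻¹ * (p * n * p⁻¹) * p⁻¹⁻¹ = n := by group
    rwa [e1] at this

theorem card_Usub_le [Finite G] : Nat.card ↥(Usub P e) ≤ 8 := by
  let f : ↥(Usub P e) → {σ : X4 // inU σ} := fun x => ⟨gcoord P e x, x.2.2⟩
  have hf : Function.Injective f := by
    intro x y hxy
    apply Subtype.ext
    exact gcoord_inj P e x.2.1 y.2.1 (congrArg Subtype.val hxy)
  have h1 := Nat.card_le_card_of_injective f hf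
  have h2 : Nat.card {σ : X4 // inU σ} = 8 := by
    rw [Nat.card_eq_fintype_card, Fintype.card_subtype]
    exact card_inU
  rw [h2] at h1
  exact h1

/-- the central involution of `P` -/
noncomputable def cG : G := ((e.symm cX : ↥P) : G)

theorem cG_mem : cG P e ∈ P := (e.symm cX).2

theorem gcoord_cG : gcoord P e (cG P e) = cX := by
  rw [gcoord_of_mem P e (cG_mem P e)]
  show e (e.symm cX) = cX
  simp

theorem cG_mem_Usub : cG P e ∈ Usub P e := ⟨cG_mem P e, by rw [gcoord_cG]; exact cX_facts.1⟩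

theorem cG_ne_one : cG P e ≠ 1 := by
  intro h
  apply cX_facts.2.1
  rw [← gcoord_cG P e, h, gcoord_one]

theorem cG_sq : cG P e * cG P e = 1 := by
  apply gcoord_eq_one P e (P.mul_mem (cG_mem P e) (cG_mem P e))
  rw [gcoord_mul P e (cG_mem P e) (cG_mem P e), gcoord_cG]
  exact cX_facts.2.2.1

theorem cG_comm {x : G} (hx : x ∈ P) : x * cG P e = cG P e * x := by
  apply gcoord_inj P e (P.mul_mem hx (cG_mem P e)) (P.mul_mem (cG_mem P e) hx)
  rw [gcoord_mul P e hx (cG_mem P e), gcoord_mul P e (cG_mem P e) hx, gcoord_cG]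
  exact cX_facts.2.2.2 _

theorem Usub_ne_bot : Usub P e ≠ ⊥ := by
  intro hbot
  have := cG_mem_Usub P e
  rw [hbot, Subgroup.mem_bot] at this
  exact cG_ne_one P e this

/-- the centralizer in `P` of an element whose coordinate is an involution outside `O₂` has at most 8 elements -/
theorem card_centralizer_le [Finite G] {s : G} (hsP : s ∈ P) (hs : isTX (gcoord P e s)) :
    Nat.card ↥(P ⊓ Subgroup.centralizer ({s} : Set G)) ≤ 8 := by
  let f : ↥(P ⊓ Subgroup.centralizer ({s} : Set G)) →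
      {c : X4 // c * gcoord P e s = gcoord P e s * c} := fun x =>
    ⟨gcoord P e x, by
      have hxP : (x : G) ∈ P := (Subgroup.mem_inf.mp x.2).1
      have hxs : s * (x : G) = (x : G) * s := by
        have := (Subgroup.mem_inf.mp x.2).2
        rw [Subgroup.mem_centralizer_iff] at this
        exact this s rfl
      rw [← gcoord_mul P e hxP hsP, ← gcoord_mul P e hsP hxP, hxs]⟩
  have hf : Function.Injective f := by
    intro x y hxy
    apply Subtype.ext
    exact gcoord_inj P e (Subgroup.mem_inf.mp x.2).1 (Subgroup.mem_inf.mp y.2).1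
      (congrArg Subtype.val hxy)
  have h1 := Nat.card_le_card_of_injective f hf
  have h2 : Nat.card {c : X4 // c * gcoord P e s = gcoord P e s * c} = 8 := by
    rw [Nat.card_eq_fintype_card, Fintype.card_subtype]
    exact card_centX _ hs
  rw [h2] at h1
  exact h1

/-- an exponent-2 subgroup `E` of a 2-subgroup `T'` of `P` lies in `U` or in any given exponent-2 subgroup `U₂ ≰ U`
of `T'` of order at least 8; moreover such a `U₂` contains the central involution -/
theorem elemab_leX [Finite G] (T' E U₂ : Subgroup G) (hT'P : T' ≤ P) (hT'16 : ∀ y ∈ T', y ^ 16 = 1)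
    (hE : E ≤ T') (hEsq : ∀ x ∈ E, x * x = 1) (hU₂ : U₂ ≤ T') (hU₂sq : ∀ x ∈ U₂, x * x = 1)
    (hU₂8 : 8 ≤ Nat.card ↥U₂) (hne : ¬ U₂ ≤ Usub P e) :
    (E ≤ Usub P e ∨ E ≤ U₂) ∧ cG P e ∈ U₂ := by
  obtain ⟨s, hsU₂, hsU⟩ := SetLike.not_le_iff_exists.mp hne
  have hsP : s ∈ P := hT'P (hU₂ hsU₂)
  -- commutativity in groups of exponent 2
  have comm_of_sq : ∀ {H : Subgroup G}, (∀ z ∈ H, z * z = 1) → ∀ p ∈ H, ∀ q ∈ H, p * q = q * p := by
    intro H hH p hp q hq
    have h1 := hH (p * q) (H.mul_mem hp hq)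
    have h2 := hH p hp
    have h3 := hH q hq
    have : p * q = p * (p * q * (p * q)) * q := by rw [h1, mul_one]
    rw [this]
    have e2 : p * (p * q * (p * q)) * q = (p * p) * q * p * (q * q) := by group
    rw [e2, h2, h3, one_mul, mul_one]
  have isT_of : ∀ {y : G}, y ∈ P → y * y = 1 → y ∉ Usub P e → isTX (gcoord P e y) := by
    intro y hyP hy2 hyF
    refine ⟨?_, fun hV => hyF ⟨hyP, hV⟩⟩
    rw [← gcoord_mul P e hyP hyP, hy2, gcoord_one]
  have ha : isTX (gcoord P e s) := isT_of hsP (hU₂sq s hsU₂) hsU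
  -- `U₂ = C_P(s)`
  have hU₂C : U₂ = P ⊓ Subgroup.centralizer ({s} : Set G) := by
    apply Subgroup.eq_of_le_of_card_ge
    · intro y hy
      refine Subgroup.mem_inf.mpr ⟨hT'P (hU₂ hy), ?_⟩
      rw [Subgroup.mem_centralizer_iff]
      intro z hz
      rw [Set.mem_singleton_iff] at hz
      subst hz
      exact comm_of_sq hU₂sq z hsU₂ y hy
    · exact (card_centralizer_le P e hsP ha).trans hU₂8
  have hmemC : ∀ {y : G}, y ∈ P → y * s = s * y → y ∈ U₂ := by
    intro y hyP hys
    rw [hU₂C]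
    refine Subgroup.mem_inf.mpr ⟨hyP, ?_⟩
    rw [Subgroup.mem_centralizer_iff]
    intro z hz
    rw [Set.mem_singleton_iff] at hz
    subst hz
    exact hys.symm
  refine ⟨?_, hmemC (cG_mem P e) (cG_comm P e hsP).symm⟩
  by_cases hEF : E ≤ Usub P e
  · left; exact hEF
  right
  obtain ⟨x, hxE, hxF⟩ := SetLike.not_le_iff_exists.mp hEF
  have hxP : x ∈ P := hT'P (hE hxE)
  have hb : isTX (gcoord P e x) := isT_of hxP (hEsq x hxE) hxF
  have hba4 : (gcoord P e x * gcoord P e s) ^ 4 = 1 := by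
    apply pow_four_of_pow_sixteen
    rw [← gcoord_mul P e hxP hsP, ← gcoord_pow P e (P.mul_mem hxP hsP),
      hT'16 _ (T'.mul_mem (hE hxE) (hU₂ hsU₂)), gcoord_one]
  have hba : gcoord P e x * gcoord P e s = gcoord P e s * gcoord P e x :=
    transp_commX _ _ ha hb hba4
  intro y hyE
  have hyP : y ∈ P := hT'P (hE hyE)
  have hcb : gcoord P e y * gcoord P e x = gcoord P e x * gcoord P e y := by
    rw [← gcoord_mul P e hyP hxP, ← gcoord_mul P e hxP hyP, comm_of_sq hEsq y hyE x hxE]
  have hca := cent_transpX _ _ _ ⟨ha, hb, hba⟩ hcb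
  apply hmemC hyP
  apply gcoord_inj P e (P.mul_mem hyP hsP) (P.mul_mem hsP hyP)
  rw [gcoord_mul P e hyP hsP, gcoord_mul P e hsP hyP]
  exact hca

end U

end Cfsg.Agent.Helper1.J5K
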