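import Mathlib
import Cfsg.Agent.Lead.KInfD
import Cfsg.Agent.Lead.LLemA
import Cfsg.Agent.Helper4.NormalizerGrow
import Cfsg.Agent.Helper5.PGroupCenter
import Cfsg.Agent.Helper1.Basic
import Cfsg.Agent.Helper1.J5KC

/-!
Piece P5 (second half) of S2951–S2954 (helper1): `kill_S4C2`.  Part D: the main argument.
`U = O₂(P)`, `c` the central involution of `P`, `T' = S ∩ P`, `t ∈ N_S(T') ∖ T'`; `V ∩ T'` is a `t`-invariant
elementary abelian subgroup of `T'`, hence lies in `U`; so `U` is self-normalizing in the 2-group `UV` and `V ≤ U`.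
If `|V| = 8` then `V = U ⊴ S` and `S ≤ N_G(U) ≤ P`.  Otherwise `V = U ∩ U^t` has order 4 and contains `c`; an element
of `V ∩ Z(S)` is conjugate to `c`, so a conjugate of `S` lies in `C_G(c) ≤ P`, and `|S| ≤ 16`.
-/

set_option autoImplicit false
set_option linter.style.haveILetI false

namespace Cfsg.Agent.Helper1.J5K

open scoped Pointwise

theorem mem_normalizer_of_map_eq' {G : Type*} [Group G] {K : Subgroup G} {g : G}
    (h : K.map (MulAut.conj g).toMonoidHom = K) : g ∈ Subgroup.normalizer (K : Set G) := by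
  rw [Subgroup.mem_normalizer_iff]
  intro n
  constructor
  · intro hn; rw [← h]; exact ⟨n, hn, rfl⟩
  · intro hn
    rw [← h] at hn
    obtain ⟨m, hm, e⟩ := hn
    have e' : g * m * g⁻¹ = g * n * g⁻¹ := e
    have : m = n := by simpa using e'
    rw [← this]; exact hm

theorem card_Usub {G : Type*} [Group G] [Finite G] (P : Subgroup G) (e : ↥P ≃* X4) :
    Nat.card ↥(Usub P e) = 8 := by
  apply le_antisymm (card_Usub_le P e)
  let f : {σ : X4 // inU σ} → ↥(Usub P e) := fun σ =>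
    ⟨((e.symm σ.1 : ↥P) : G), ⟨(e.symm σ.1).2, by
      rw [gcoord_of_mem P e (e.symm σ.1).2]
      have : e ⟨((e.symm σ.1 : ↥P) : G), (e.symm σ.1).2⟩ = σ.1 := by simp
      rw [this]; exact σ.2⟩⟩
  have hf : Function.Injective f := by
    intro x y hxy
    have h1 : ((e.symm x.1 : ↥P) : G) = ((e.symm y.1 : ↥P) : G) :=
      congrArg (fun z : ↥(Usub P e) => (z : G)) hxy
    exact Subtype.ext (e.symm.injective (Subtype.ext h1))
  have h1 := Nat.card_le_card_of_injective f hf
  have h2 : Nat.card {σ : X4 // inU σ} = 8 := by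
    rw [Nat.card_eq_fintype_card, Fintype.card_subtype]
    exact card_inU
  rw [h2] at h1
  exact h1

theorem kill_S4C2 {G : Type*} [Group G] [Finite G] (S P V : Subgroup G) (hS2 : IsPGroup 2 ↥S)
    (e : ↥P ≃* Equiv.Perm (Fin 4) × Multiplicative (ZMod 2))
    (hP : ∀ Q : Subgroup G, Q ≤ P → Q ≠ ⊥ → IsPGroup 2 ↥Q → P ≤ Subgroup.normalizer (Q : Set G) →
      Subgroup.normalizer (Q : Set G) ≤ P)
    (hsyl : Nat.card ↥(S ⊓ P) = 16) (hlt : ¬ S ≤ P)
    (hVS : V ≤ S) (hVn : S ≤ Subgroup.normalizer (V : Set G)) (hVsq : ∀ v ∈ V, v * v = 1)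
    (hV4 : 4 ≤ Nat.card ↥V)
    (hIn : Nat.card ↥V = 4 → ∀ x ∈ V, x ≠ 1 → ∀ y ∈ V, y ≠ 1 → ∃ g : G, g * x * g⁻¹ = y) :
    False := by
  haveI : Fact (Nat.Prime 2) := ⟨Nat.prime_two⟩
  have hUP : Usub P e ≤ P := Usub_le P e
  have hNU : Subgroup.normalizer (Usub P e : Set G) ≤ P :=
    hP _ hUP (Usub_ne_bot P e) (Usub_pgroup P e) (le_normalizer_Usub P e)
  -- `C_G(c) ≤ P`
  have hCc : ∀ g : G, g * cG P e = cG P e * g → g ∈ P := by
    intro g hg
    have hz2 : IsPGroup 2 ↥(Subgroup.zpowers (cG P e)) := by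
      apply IsPGroup.of_card (n := 1)
      rw [Nat.card_zpowers, pow_one]
      exact orderOf_eq_prime (by rw [pow_two]; exact cG_sq P e) (cG_ne_one P e)
    have hz1 : Subgroup.zpowers (cG P e) ≠ ⊥ := by
      rw [Ne, Subgroup.zpowers_eq_bot]; exact cG_ne_one P e
    have hzP : Subgroup.zpowers (cG P e) ≤ P := by
      rw [Subgroup.zpowers_le]; exact cG_mem P e
    have hcomm : ∀ h : G, h * cG P e = cG P e * h →
        h ∈ Subgroup.normalizer ((Subgroup.zpowers (cG P e) : Subgroup G) : Set G) := by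
      intro h hh
      rw [Subgroup.mem_normalizer_iff]
      intro n
      have key : ∀ m ∈ Subgroup.zpowers (cG P e), h * m * h⁻¹ = m := by
        intro m hm
        rw [Subgroup.mem_zpowers_iff] at hm
        obtain ⟨k, rfl⟩ := hm
        have : Commute h (cG P e) := hh
        rw [(this.zpow_right k).eq]; group
      constructor
      · intro hn; rw [key n hn]; exact hn
      · intro hn
        have h1 := key _ hn
        have h2 : h * n * h⁻¹ = n := by
          have e1 : h * (h * n * h⁻¹) * h⁻¹ = h * n * h⁻¹ := h1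
          have := congrArg (fun y => h⁻¹ * y * h) e1
          simpa [mul_assoc] using this
        rw [← h2]; exact hn
    have hPn : P ≤ Subgroup.normalizer ((Subgroup.zpowers (cG P e) : Subgroup G) : Set G) :=
      fun p hp => hcomm p (cG_comm P e hp)
    exact hP _ hzP hz1 hz2 hPn (hcomm g hg)
  have hcardP : Nat.card ↥P = 48 := by
    rw [Nat.card_congr e.toEquiv, Nat.card_prod, Nat.card_perm, Nat.card_fin]
    have : Nat.card (Multiplicative (ZMod 2)) = 2 := by
      rw [Nat.card_eq_fintype_card]; rfl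
    rw [this]; rfl
  have hT'2 : IsPGroup 2 ↥(S ⊓ P) := hS2.to_le inf_le_left
  have hUT : Usub P e ≤ S ⊓ P := by
    have h1 : Usub P e ≤ Cfsg.pCoreOf 2 P :=
      Cfsg.Agent.Lead.LLem.le_pCoreOf hUP (Usub_pgroup P e) (le_normalizer_Usub P e)
    refine h1.trans (Cfsg.Agent.Lead.KInf.pCoreOf_le_of_sylow inf_le_right hT'2 ?_)
    have := Cfsg.Agent.Helper1.relIndex_mul_card_of_le (inf_le_right : S ⊓ P ≤ P)
    rw [hsyl, hcardP] at this
    intro hdvd
    omega
  have hlt' : S ⊓ P < S := by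
    refine lt_of_le_of_ne inf_le_left ?_
    intro h
    exact hlt (h ▸ inf_le_right)
  obtain ⟨t, htS, htN, htT⟩ :=
    Cfsg.Agent.Helper4.exists_mem_normalizer_not_mem S hS2 (S ⊓ P) hlt'
  have hT'16 : ∀ y ∈ S ⊓ P, y ^ 16 = 1 := by
    intro y hy
    have := pow_card_eq_one' (G := ↥(S ⊓ P)) (x := ⟨y, hy⟩)
    rw [hsyl] at this
    exact congrArg Subtype.val this
  -- `U₂ = U^t`
  have hU₂T : (Usub P e).map (MulAut.conj t).toMonoidHom ≤ S ⊓ P := by
    rintro _ ⟨f, hf, rfl⟩
    exact (Subgroup.mem_normalizer_iff.mp htN f).mp (hUT hf)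
  have hU₂sq : ∀ x ∈ (Usub P e).map (MulAut.conj t).toMonoidHom, x * x = 1 := by
    rintro _ ⟨f, hf, rfl⟩
    show t * f * t⁻¹ * (t * f * t⁻¹) = 1
    have := Usub_sq P e hf
    calc t * f * t⁻¹ * (t * f * t⁻¹) = t * (f * f) * t⁻¹ := by group
      _ = 1 := by rw [this]; group
  have hU₂card : Nat.card ↥((Usub P e).map (MulAut.conj t).toMonoidHom) = 8 := by
    rw [Subgroup.card_map_of_injective (MulAut.conj t).injective, card_Usub]
  have hne : ¬ (Usub P e).map (MulAut.conj t).toMonoidHom ≤ Usub P e := by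
    intro hle
    have heq : (Usub P e).map (MulAut.conj t).toMonoidHom = Usub P e :=
      Subgroup.eq_of_le_of_card_ge hle (by rw [hU₂card, card_Usub])
    exact htT ⟨htS, hNU (mem_normalizer_of_map_eq' heq)⟩
  obtain ⟨hsplit, hcU₂⟩ := elemab_leX P e (S ⊓ P) (V ⊓ (S ⊓ P)) _ inf_le_right hT'16 inf_le_right
      (fun x hx => hVsq x hx.1) hU₂T hU₂sq hU₂card.ge hne
  -- `V ∩ T' ≤ U`
  have hV'U : V ⊓ (S ⊓ P) ≤ Usub P e := by
    rcases hsplit with h | h
    · exact h
    · intro v hv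
      have h1 : t * v * t⁻¹ ∈ V ⊓ (S ⊓ P) :=
        ⟨(Subgroup.mem_normalizer_iff.mp (hVn htS) v).mp hv.1,
          (Subgroup.mem_normalizer_iff.mp htN v).mp hv.2⟩
      obtain ⟨f, hf, hfe⟩ := h h1
      have hfe' : t * f * t⁻¹ = t * v * t⁻¹ := hfe
      have : f = v := by simpa using hfe'
      rw [← this]; exact hf
  -- `V ≤ U`
  have hVU : V ≤ Usub P e := by
    by_contra hnot
    have hUS : Usub P e ≤ S := hUT.trans inf_le_left
    have hlt2 : Usub P e < Usub P e ⊔ V := by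
      refine lt_of_le_of_ne le_sup_left ?_
      intro h
      apply hnot
      rw [h]; exact le_sup_right
    have hX2 : IsPGroup 2 ↥(Usub P e ⊔ V) := hS2.to_le (sup_le hUS hVS)
    obtain ⟨x, hxX, hxN, hxF⟩ :=
      Cfsg.Agent.Helper4.exists_mem_normalizer_not_mem _ hX2 _ hlt2
    apply hxF
    have hxS : x ∈ S := (sup_le hUS hVS) hxX
    have hxT : x ∈ S ⊓ P := ⟨hxS, hNU hxN⟩
    have hmul : ((Usub P e ⊔ V : Subgroup G) : Set G) = (Usub P e : Set G) * (V : Set G) :=
      Subgroup.coe_mul_of_left_le_normalizer_right _ _ (hUS.trans hVn)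
    have hx' : x ∈ (Usub P e : Set G) * (V : Set G) := by
      rw [← hmul]; exact hxX
    obtain ⟨f, hf, v, hv, rfl⟩ := Set.mem_mul.mp hx'
    have hvT : v ∈ S ⊓ P := by
      have e1 : v = f⁻¹ * (f * v) := by group
      rw [e1]; exact (S ⊓ P).mul_mem ((S ⊓ P).inv_mem (hUT hf)) hxT
    exact (Usub P e).mul_mem hf (hV'U ⟨hv, hvT⟩)
  by_cases hV8 : 8 ≤ Nat.card ↥V
  · -- `V = U`
    have hVeq : V = Usub P e :=
      Subgroup.eq_of_le_of_card_ge hVU (by rw [card_Usub]; exact hV8)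
    apply hlt
    rw [hVeq] at hVn
    exact hVn.trans hNU
  · -- `V = U ∩ U^t` of order 4
    have hVU₂ : V ≤ (Usub P e).map (MulAut.conj t).toMonoidHom := by
      intro v hv
      have h1 : t⁻¹ * v * t⁻¹⁻¹ ∈ V :=
        (Subgroup.mem_normalizer_iff.mp (hVn (S.inv_mem htS)) v).mp hv
      refine ⟨t⁻¹ * v * t⁻¹⁻¹, hVU h1, ?_⟩
      show t * (t⁻¹ * v * t⁻¹⁻¹) * t⁻¹ = v
      group
    have hVle : V ≤ Usub P e ⊓ (Usub P e).map (MulAut.conj t).toMonoidHom := le_inf hVU hVU₂
    have hinf4 : Nat.card ↥(Usub P e ⊓ (Usub P e).map (MulAut.conj t).toMonoidHom) ≤ 4 := by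
      have h1 := Cfsg.Agent.Helper1.relIndex_mul_card_of_le
        (inf_le_left : Usub P e ⊓ (Usub P e).map (MulAut.conj t).toMonoidHom ≤ Usub P e)
      rw [card_Usub] at h1
      have h2 : (Usub P e ⊓ (Usub P e).map (MulAut.conj t).toMonoidHom).relIndex (Usub P e) ≠ 1 := by
        rw [Ne, Subgroup.relIndex_eq_one]
        intro hle
        have hle' : Usub P e ≤ (Usub P e).map (MulAut.conj t).toMonoidHom := hle.trans inf_le_right
        have heq : Usub P e = (Usub P e).map (MulAut.conj t).toMonoidHom :=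
          Subgroup.eq_of_le_of_card_ge hle' (by rw [hU₂card, card_Usub])
        exact hne heq.symm.le
      have h3 : (Usub P e ⊓ (Usub P e).map (MulAut.conj t).toMonoidHom).relIndex (Usub P e) ≠ 0 := by
        intro h0; rw [h0] at h1; omega
      by_contra hcon
      push Not at hcon
      have : 2 ≤ (Usub P e ⊓ (Usub P e).map (MulAut.conj t).toMonoidHom).relIndex (Usub P e) := by
        omega
      nlinarith
    have hVcard : Nat.card ↥V = 4 := le_antisymm ((Subgroup.card_le_of_le hVle).trans hinf4) hV4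
    have hVeq : V = Usub P e ⊓ (Usub P e).map (MulAut.conj t).toMonoidHom :=
      Subgroup.eq_of_le_of_card_ge hVle (by rw [hVcard]; exact hinf4)
    have hcV : cG P e ∈ V := by
      rw [hVeq]; exact Subgroup.mem_inf.mpr ⟨cG_mem_Usub P e, hcU₂⟩
    have hV1 : V ≠ ⊥ := by
      intro hb
      rw [hb, Subgroup.mem_bot] at hcV
      exact cG_ne_one P e hcV
    obtain ⟨z', hz'V, hz'o, hz'c⟩ :=
      Cfsg.Agent.Helper5.exists_orderOf_eq_prime_central S V hS2 hVS hV1 hVn
    have hz'1 : z' ≠ 1 := by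
      intro h1; rw [h1, orderOf_one] at hz'o; norm_num at hz'o
    obtain ⟨g, hg⟩ := hIn hVcard z' hz'V hz'1 (cG P e) hcV (cG_ne_one P e)
    -- `S^g ≤ P`
    have hSg : S.map (MulAut.conj g).toMonoidHom ≤ P := by
      rintro _ ⟨s, hs, rfl⟩
      apply hCc
      show g * s * g⁻¹ * cG P e = cG P e * (g * s * g⁻¹)
      rw [← hg]
      have := hz'c s hs
      calc g * s * g⁻¹ * (g * z' * g⁻¹) = g * (s * z') * g⁻¹ := by group
        _ = g * (z' * s) * g⁻¹ := by rw [this]
        _ = g * z' * g⁻¹ * (g * s * g⁻¹) := by group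
    have hSgcard : Nat.card ↥(S.map (MulAut.conj g).toMonoidHom) = Nat.card ↥S :=
      Subgroup.card_map_of_injective (MulAut.conj g).injective
    have hdvd : Nat.card ↥S ∣ 48 := by
      rw [← hSgcard, ← hcardP]
      exact Subgroup.card_dvd_of_le hSg
    obtain ⟨n, hn⟩ := (IsPGroup.iff_card (p := 2)).mp hS2
    have hle16 : Nat.card ↥S ≤ 16 := by
      rw [hn] at hdvd ⊢
      have h48 : (48 : ℕ) = 16 * 3 := by norm_num
      rw [h48] at hdvd
      have hcop : Nat.Coprime (2 ^ n) 3 := Nat.Coprime.pow_left n (by norm_num)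
      exact Nat.le_of_dvd (by norm_num) (hcop.dvd_of_dvd_mul_right hdvd)
    have hlt16 : Nat.card ↥(S ⊓ P) < Nat.card ↥S := by
      by_contra hcon
      push Not at hcon
      have : S ⊓ P = S := Subgroup.eq_of_le_of_card_ge inf_le_left hcon
      exact hlt'.ne this
    omega

end Cfsg.Agent.Helper1.J5K
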