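import Mathlib
import Cfsg.Prelude.Def_Transfer
import Cfsg.Agent.Helper1.Basic
import Cfsg.Agent.Helper5.Basic

set_option autoImplicit false

/-!
Conjugacy classes of `2`-elements: basic API (`IsTwoClass`, `C2`), the surjection from a Sylow
`2`-subgroup, and comparison with quotients by normal subgroups of odd order and by central
subgroups.
-/

namespace Cfsg.Agent.Helper1.K2

universe u v

variable {G : Type u} [Group G]

/-- A conjugacy class consisting of `2`-elements. -/
def IsTwoClass (c : ConjClasses G) : Prop := ∀ x ∈ c.carrier, ∃ k : ℕ, orderOf x = 2 ^ k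

/-- The type of conjugacy classes of `2`-elements. -/
abbrev C2 (G : Type u) [Group G] : Type u := {c : ConjClasses G // IsTwoClass c}

theorem orderOf_conj_eq (c y : G) : orderOf (c * y * c⁻¹) = orderOf y := by
  have := orderOf_injective (MulAut.conj c).toMonoidHom (MulAut.conj c).injective y
  simpa using this

theorem isTwoClass_mk {x : G} : IsTwoClass (ConjClasses.mk x) ↔ ∃ k : ℕ, orderOf x = 2 ^ k := by
  constructor
  · intro h; exact h x ConjClasses.mem_carrier_mk
  · rintro ⟨k, hk⟩ y hy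
    rw [ConjClasses.mem_carrier_iff_mk_eq, ConjClasses.mk_eq_mk_iff_isConj, isConj_iff] at hy
    obtain ⟨c, hc⟩ := hy
    refine ⟨k, ?_⟩
    rw [← hk, ← hc, orderOf_conj_eq]

theorem exists_pow_orderOf_of_mem_sylow (P : Sylow 2 G) {x : G} (hx : x ∈ (P : Subgroup G)) :
    ∃ k : ℕ, orderOf x = 2 ^ k := by
  obtain ⟨k, hk⟩ := (IsPGroup.iff_orderOf.mp P.2) ⟨x, hx⟩
  exact ⟨k, by rw [← hk, Subgroup.orderOf_mk]⟩

/-- The class in `G` of an element of a Sylow `2`-subgroup. -/
def toC2 (P : Sylow 2 G) (x : (P : Subgroup G)) : C2 G :=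
  ⟨ConjClasses.mk (x : G), isTwoClass_mk.2 (exists_pow_orderOf_of_mem_sylow P x.2)⟩

theorem toC2_eq_iff (P : Sylow 2 G) (x y : (P : Subgroup G)) :
    toC2 P x = toC2 P y ↔ ∃ g : G, g * (x : G) * g⁻¹ = (y : G) := by
  unfold toC2
  rw [Subtype.mk.injEq, ConjClasses.mk_eq_mk_iff_isConj, isConj_iff]

theorem toC2_surjective [Finite G] (P : Sylow 2 G) : Function.Surjective (toC2 P) := by
  rintro ⟨c, hc⟩
  obtain ⟨y, rfl⟩ := ConjClasses.exists_rep c
  · obtain ⟨k, hk⟩ := isTwoClass_mk.1 hc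
    have hQ : IsPGroup 2 (Subgroup.zpowers y) := by
      apply IsPGroup.of_card (n := k)
      rw [Nat.card_zpowers, hk]
    obtain ⟨g, hg⟩ := Cfsg.Agent.Helper5.exists_conj_le_sylow P (Subgroup.zpowers y) hQ
    refine ⟨⟨g * y * g⁻¹, hg y (Subgroup.mem_zpowers y)⟩, ?_⟩
    unfold toC2
    rw [Subtype.mk.injEq, ConjClasses.mk_eq_mk_iff_isConj, isConj_iff]
    exact ⟨g⁻¹, by group⟩

/-- `k₂(G) ≤ k(P)`. -/
theorem card_C2_le_card_conjClasses [Finite G] (P : Sylow 2 G) :
    Nat.card (C2 G) ≤ Nat.card (ConjClasses (P : Subgroup G)) := by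
  let f : ConjClasses (P : Subgroup G) → C2 G := fun c =>
    Quotient.liftOn c (fun x => toC2 P x) (by
      intro a b hab
      have hab' : IsConj a b := hab
      rw [isConj_iff] at hab'
      obtain ⟨c, hc⟩ := hab'
      show toC2 P a = toC2 P b
      rw [toC2_eq_iff]
      refine ⟨(c : G), ?_⟩
      have := congrArg Subtype.val hc
      simpa using this)
  have hf : Function.Surjective f := by
    intro c
    obtain ⟨x, hx⟩ := toC2_surjective P c
    exact ⟨ConjClasses.mk x, hx⟩
  exact Nat.card_le_card_of_surjective f hf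

/-- If `G` has a normal `2`-complement, then `P` controls its own fusion, so `k(P) ≤ k₂(G)`. -/
theorem card_conjClasses_le_card_C2 [Finite G] (P : Sylow 2 G) (N : Subgroup G) [hN : N.Normal]
    (hc : N.IsComplement' (P : Subgroup G)) :
    Nat.card (ConjClasses (P : Subgroup G)) ≤ Nat.card (C2 G) := by
  let f : ConjClasses (P : Subgroup G) → C2 G := fun c =>
    Quotient.liftOn c (fun x => toC2 P x) (by
      intro a b hab
      have hab' : IsConj a b := hab
      rw [isConj_iff] at hab'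
      obtain ⟨c, hc⟩ := hab'
      show toC2 P a = toC2 P b
      rw [toC2_eq_iff]
      refine ⟨(c : G), ?_⟩
      have := congrArg Subtype.val hc
      simpa using this)
  have hf : Function.Injective f := by
    intro c d
    obtain ⟨x, rfl⟩ := ConjClasses.exists_rep c
    obtain ⟨y, rfl⟩ := ConjClasses.exists_rep d
    intro h
    have h' : toC2 P x = toC2 P y := h
    rw [toC2_eq_iff] at h'
    obtain ⟨g, hg⟩ := h'
    -- write `g = n * u`
    obtain ⟨⟨⟨n, hn⟩, ⟨u, hu⟩⟩, hnu⟩ := hc.existsUnique g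
    have hgu : g = n * u := hnu.1.symm
    rw [ConjClasses.mk_eq_mk_iff_isConj, isConj_iff]
    refine ⟨⟨u, hu⟩, ?_⟩
    apply Subtype.ext
    show u * (x : G) * u⁻¹ = (y : G)
    set x' : G := u * (x : G) * u⁻¹ with hx'
    have hx'P : x' ∈ (P : Subgroup G) :=
      (P : Subgroup G).mul_mem ((P : Subgroup G).mul_mem hu x.2) ((P : Subgroup G).inv_mem hu)
    have hy : (y : G) = n * x' * n⁻¹ := by
      rw [← hg, hgu, hx']; group
    have h1 : (y : G) * x'⁻¹ ∈ N := by
      have : (y : G) * x'⁻¹ = n * (x' * n⁻¹ * x'⁻¹) := by rw [hy]; group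
      rw [this]
      exact N.mul_mem hn (hN.conj_mem _ (N.inv_mem hn) _)
    have h2 : (y : G) * x'⁻¹ ∈ (P : Subgroup G) :=
      (P : Subgroup G).mul_mem y.2 ((P : Subgroup G).inv_mem hx'P)
    have h3 : (y : G) * x'⁻¹ ∈ N ⊓ (P : Subgroup G) := ⟨h1, h2⟩
    rw [hc.disjoint.eq_bot, Subgroup.mem_bot] at h3
    exact (mul_inv_eq_one.mp h3).symm
  exact Nat.card_le_card_of_injective f hf

end Cfsg.Agent.Helper1.K2
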