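import Mathlib
import Cfsg.Prelude.Def_Transfer
import Cfsg.Agent.Helper1.K2A

set_option autoImplicit false

/-!
Conjugacy classes of `2`-elements and quotients: by a normal subgroup of odd order the number of
classes does not change (`≤` proved), by a central subgroup `N` it drops at most by the factor `|N|`.
-/

namespace Cfsg.Agent.Helper1.K2

universe u v

variable {G : Type u} [Group G]

/-- Sylow's theorem inside a subgroup, elementwise form: a `2`-subgroup `A` of `H` is conjugate in `H`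
into a subgroup `B` of `H` whose order is the full `2`-part of `|H|`. -/
theorem exists_conj_mem_of_card [Finite G] {b m : ℕ} (H A B : Subgroup G)
    (hH : Nat.card ↥H = 2 ^ b * m) (hm : ¬ 2 ∣ m) (hA : A ≤ H) (hB : B ≤ H)
    (hAp : IsPGroup 2 A) (hBc : Nat.card ↥B = 2 ^ b) :
    ∃ h ∈ H, ∀ a ∈ A, h * a * h⁻¹ ∈ B := by
  haveI : Fact (Nat.Prime 2) := ⟨Nat.prime_two⟩
  have hB' : Nat.card ↥(B.subgroupOf H) = 2 ^ b := by
    rw [← hBc]; exact Nat.card_congr (Subgroup.subgroupOfEquivOfLe hB).toEquiv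
  have hidx : (B.subgroupOf H).index = m := by
    have h1 := (B.subgroupOf H).card_mul_index
    rw [hB', hH] at h1
    exact Nat.eq_of_mul_eq_mul_left (by positivity) h1
  have hQp : IsPGroup 2 ↥(B.subgroupOf H) := IsPGroup.of_card hB'
  let Q : Sylow 2 ↥H := hQp.toSylow (by rw [hidx]; exact hm)
  obtain ⟨k, hk⟩ := Cfsg.Agent.Helper5.exists_conj_le_sylow Q (A.subgroupOf H) hAp.comap_subtype
  refine ⟨k, k.2, fun a ha => ?_⟩
  have h1 := hk ⟨a, hA ha⟩ (Subgroup.mem_subgroupOf.mpr ha)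
  have h2 : k * ⟨a, hA ha⟩ * k⁻¹ ∈ B.subgroupOf H := h1
  rw [Subgroup.mem_subgroupOf] at h2
  simpa using h2

/-- Two `2`-elements congruent modulo a normal subgroup of odd order are conjugate. -/
theorem exists_conj_eq_of_mul_mem_odd [Finite G] (N : Subgroup G) [hN : N.Normal]
    (hodd : Odd (Nat.card ↥N)) {x y : G} {a b : ℕ} (hx : orderOf x = 2 ^ a) (hy : orderOf y = 2 ^ b)
    (hxy : x⁻¹ * y ∈ N) : ∃ h : G, h * x * h⁻¹ = y := by
  have hcop : (Nat.card ↥(Subgroup.zpowers y)).Coprime (Nat.card ↥N) := by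
    rw [Nat.card_zpowers, hy]
    exact Nat.Coprime.pow_left b (Nat.coprime_two_left.mpr hodd)
  have hdisj : Subgroup.zpowers y ⊓ N = ⊥ := inf_eq_bot_of_coprime_card hcop
  have hcard : Nat.card ↥(Subgroup.zpowers y ⊔ N) = 2 ^ b * Nat.card ↥N := by
    rw [card_sup_of_disjoint_normal _ _ hdisj, Nat.card_zpowers, hy]
  have hm : ¬ 2 ∣ Nat.card ↥N := fun h => (Nat.not_even_iff_odd.mpr hodd) (even_iff_two_dvd.mpr h)
  have hyH : y ∈ Subgroup.zpowers y ⊔ N :=
    (le_sup_left : Subgroup.zpowers y ≤ _) (Subgroup.mem_zpowers y)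
  have hxH : x ∈ Subgroup.zpowers y ⊔ N := by
    have : x = y * (x⁻¹ * y)⁻¹ := by group
    rw [this]
    exact Subgroup.mul_mem _ hyH ((le_sup_right : N ≤ _) (N.inv_mem hxy))
  have hA : Subgroup.zpowers x ≤ Subgroup.zpowers y ⊔ N := by
    rw [Subgroup.zpowers_le]; exact hxH
  have hAp : IsPGroup 2 ↥(Subgroup.zpowers x) := by
    apply IsPGroup.of_card (n := a)
    rw [Nat.card_zpowers, hx]
  obtain ⟨h, hhH, hh⟩ := exists_conj_mem_of_card (Subgroup.zpowers y ⊔ N) (Subgroup.zpowers x)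
    (Subgroup.zpowers y) hcard hm hA le_sup_left hAp (by rw [Nat.card_zpowers, hy])
  refine ⟨h, ?_⟩
  have h1 : h * x * h⁻¹ ∈ Subgroup.zpowers y := hh x (Subgroup.mem_zpowers x)
  -- modulo `N`, `h x h⁻¹ ≡ y`
  have hπxy : (QuotientGroup.mk' N) x = (QuotientGroup.mk' N) y := by
    rw [QuotientGroup.mk'_apply, QuotientGroup.mk'_apply, QuotientGroup.eq]; exact hxy
  have hπh : (QuotientGroup.mk' N) h ∈ Subgroup.zpowers ((QuotientGroup.mk' N) y) := by
    have h3 : (QuotientGroup.mk' N) h ∈ (Subgroup.zpowers y ⊔ N).map (QuotientGroup.mk' N) :=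
      Subgroup.mem_map_of_mem _ hhH
    rw [Subgroup.map_sup, QuotientGroup.map_mk'_self, sup_bot_eq, MonoidHom.map_zpowers] at h3
    exact h3
  obtain ⟨j, hj⟩ := Subgroup.mem_zpowers_iff.mp hπh
  have h2 : (QuotientGroup.mk' N) (h * x * h⁻¹) = (QuotientGroup.mk' N) y := by
    rw [map_mul, map_mul, map_inv, hπxy, ← hj]
    group
  have h3 : (h * x * h⁻¹)⁻¹ * y ∈ N := by
    rw [QuotientGroup.mk'_apply, QuotientGroup.mk'_apply, QuotientGroup.eq] at h2; exact h2
  have h4 : (h * x * h⁻¹)⁻¹ * y ∈ Subgroup.zpowers y ⊓ N :=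
    ⟨Subgroup.mul_mem _ (Subgroup.inv_mem _ h1) (Subgroup.mem_zpowers y), h3⟩
  rw [hdisj, Subgroup.mem_bot] at h4
  exact inv_mul_eq_one.mp h4

theorem isTwoClass_map {H : Type v} [Group H] (f : G →* H) {c : ConjClasses G} (hc : IsTwoClass c) :
    IsTwoClass (ConjClasses.map f c) := by
  obtain ⟨x, rfl⟩ := ConjClasses.exists_rep c
  obtain ⟨k, hk⟩ := isTwoClass_mk.1 hc
  show IsTwoClass (ConjClasses.mk (f x))
  rw [isTwoClass_mk]
  have h1 : orderOf (f x) ∣ 2 ^ k := hk ▸ orderOf_map_dvd f x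
  obtain ⟨j, -, hj⟩ := (Nat.dvd_prime_pow Nat.prime_two).1 h1
  exact ⟨j, hj⟩

/-- The map induced on classes of `2`-elements by a homomorphism. -/
def mapC2 {H : Type v} [Group H] (f : G →* H) (c : C2 G) : C2 H :=
  ⟨ConjClasses.map f c.1, isTwoClass_map f c.2⟩

/-- If the images of `x` and `y` are conjugate in `G ⧸ N`, a conjugate of `x` is congruent to `y`. -/
theorem exists_conj_mul_mem_of_mk_eq (N : Subgroup G) [N.Normal] {x y : G}
    (h : ConjClasses.mk ((QuotientGroup.mk' N) x) = ConjClasses.mk ((QuotientGroup.mk' N) y)) :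
    ∃ g : G, (g * x * g⁻¹)⁻¹ * y ∈ N := by
  rw [ConjClasses.mk_eq_mk_iff_isConj, isConj_iff] at h
  obtain ⟨q, hq⟩ := h
  obtain ⟨g, rfl⟩ := QuotientGroup.mk'_surjective N q
  refine ⟨g, ?_⟩
  have h2 : (QuotientGroup.mk' N) (g * x * g⁻¹) = (QuotientGroup.mk' N) y := by
    rw [map_mul, map_mul, map_inv]; exact hq
  rw [QuotientGroup.mk'_apply, QuotientGroup.mk'_apply, QuotientGroup.eq] at h2
  exact h2

/-- Passing to the quotient by a normal subgroup of odd order does not decrease `k₂`. -/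
theorem card_C2_le_of_odd [Finite G] (N : Subgroup G) [hN : N.Normal] (hodd : Odd (Nat.card ↥N)) :
    Nat.card (C2 G) ≤ Nat.card (C2 (G ⧸ N)) := by
  apply Nat.card_le_card_of_injective (mapC2 (QuotientGroup.mk' N))
  rintro ⟨c, hc⟩ ⟨d, hd⟩ h
  obtain ⟨x, rfl⟩ := ConjClasses.exists_rep c
  obtain ⟨y, rfl⟩ := ConjClasses.exists_rep d
  obtain ⟨a, ha⟩ := isTwoClass_mk.1 hc
  obtain ⟨b, hb⟩ := isTwoClass_mk.1 hd
  have h' : ConjClasses.mk ((QuotientGroup.mk' N) x) = ConjClasses.mk ((QuotientGroup.mk' N) y) :=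
    congrArg Subtype.val h
  obtain ⟨g, hg⟩ := exists_conj_mul_mem_of_mk_eq N h'
  obtain ⟨k, hk⟩ := exists_conj_eq_of_mul_mem_odd N hodd
    (x := g * x * g⁻¹) (y := y) (a := a) (b := b) (by rw [orderOf_conj_eq, ha]) hb hg
  rw [Subtype.mk.injEq, ConjClasses.mk_eq_mk_iff_isConj, isConj_iff]
  exact ⟨k * g, by rw [← hk]; group⟩

/-- A pigeonhole bound: if every fibre of `f` is contained in a finset of size at most `n`. -/
theorem card_le_mul_of_fiber {α : Type u} {β : Type v} [Finite α] [Finite β] (f : α → β) (n : ℕ)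
    (h : ∀ a : α, ∃ s : Finset α, s.card ≤ n ∧ ∀ a' : α, f a' = f a → a' ∈ s) :
    Nat.card α ≤ n * Nat.card β := by
  classical
  haveI := Fintype.ofFinite α
  haveI := Fintype.ofFinite β
  rw [Nat.card_eq_fintype_card, Nat.card_eq_fintype_card]
  have h1 := Finset.card_le_mul_card_image (f := f) (Finset.univ : Finset α) n (by
    intro b hb
    obtain ⟨a, -, rfl⟩ := Finset.mem_image.mp hb
    obtain ⟨s, hs, hs'⟩ := h a
    refine le_trans (Finset.card_le_card ?_) hs
    intro a' ha'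
    exact hs' a' (Finset.mem_filter.mp ha').2)
  refine le_trans h1 (Nat.mul_le_mul_left n ?_)
  exact Finset.card_le_univ _

/-- Passing to the quotient by a central subgroup `N` decreases `k₂` at most by the factor `|N|`. -/
theorem card_C2_le_of_central [Finite G] (N : Subgroup G) [hN : N.Normal]
    (hcen : N ≤ Subgroup.center G) :
    Nat.card (C2 G) ≤ Nat.card ↥N * Nat.card (C2 (G ⧸ N)) := by
  classical
  haveI := Fintype.ofFinite ↥N
  apply card_le_mul_of_fiber (mapC2 (QuotientGroup.mk' N))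
  rintro ⟨c, hc⟩
  obtain ⟨x, rfl⟩ := ConjClasses.exists_rep c
  refine ⟨((Finset.univ : Finset ↥N).image (fun n : ↥N => ConjClasses.mk (x * (n : G)))).subtype
    IsTwoClass, ?_, ?_⟩
  · rw [Finset.card_subtype]
    refine le_trans (Finset.card_filter_le _ _) (le_trans Finset.card_image_le ?_)
    rw [Finset.card_univ, Nat.card_eq_fintype_card]
  · rintro ⟨d, hd⟩ h
    obtain ⟨y, rfl⟩ := ConjClasses.exists_rep d
    have h' : ConjClasses.mk ((QuotientGroup.mk' N) x) = ConjClasses.mk ((QuotientGroup.mk' N) y) :=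
      (congrArg Subtype.val h).symm
    obtain ⟨g, hg⟩ := exists_conj_mul_mem_of_mk_eq N h'
    rw [Finset.mem_subtype, Finset.mem_image]
    refine ⟨⟨_, hg⟩, Finset.mem_univ _, ?_⟩
    rw [ConjClasses.mk_eq_mk_iff_isConj, isConj_iff]
    refine ⟨g, ?_⟩
    have hc' := Subgroup.mem_center_iff.mp (hcen hg)
    show g * (x * ((g * x * g⁻¹)⁻¹ * y)) * g⁻¹ = y
    have h5 : g * (x * ((g * x * g⁻¹)⁻¹ * y)) * g⁻¹
        = (g * x * g⁻¹) * (g * ((g * x * g⁻¹)⁻¹ * y) * g⁻¹) := by group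
    rw [h5, hc' g]
    group

end Cfsg.Agent.Helper1.K2
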