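import Mathlib
import Cfsg.Prelude.Def_Transfer
import Cfsg.Agent.Helper1.PNilpBasic

set_option autoImplicit false

/-!
Normal `p`-complements lift through central `p`-subgroups.
-/

namespace Cfsg.Agent.Helper1.K2

universe u v

variable {G : Type u} [Group G]

/-- If `N` is a central `p`-subgroup and `G ⧸ N` has a normal `p`-complement, so has `G`. -/
theorem hasNormalPComplement_of_central_quotient [Finite G] {p : ℕ} [hp : Fact p.Prime]
    (N : Subgroup G) [hN : N.Normal] (hcen : N ≤ Subgroup.center G) (hNp : IsPGroup p ↥N)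
    (h : Cfsg.HasNormalPComplement p (G ⧸ N)) : Cfsg.HasNormalPComplement p G := by
  obtain ⟨Mb, hMbn, hcop, k, hk⟩ := hasNormalPComplement_iff_exists.1 h
  obtain ⟨a, ha⟩ := IsPGroup.iff_card.mp hNp
  set M : Subgroup G := Mb.comap (QuotientGroup.mk' N) with hM
  have hMn : M.Normal := hMbn.comap _
  have hNM : N ≤ M := by
    intro n hn
    rw [hM, Subgroup.mem_comap, QuotientGroup.mk'_apply, (QuotientGroup.eq_one_iff n).mpr hn]
    exact Mb.one_mem
  have hsurj : Function.Surjective (QuotientGroup.mk' N) := QuotientGroup.mk'_surjective N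
  -- `|M| = |N| * |Mb|`
  have hMcard : Nat.card ↥M = Nat.card ↥N * Nat.card ↥Mb := by
    have e1 : Nat.card G = Nat.card ↥N * Nat.card (G ⧸ N) := by
      rw [Subgroup.card_eq_card_quotient_mul_card_subgroup N, mul_comm]
    have e2 : Nat.card G = Nat.card ↥M * Mb.index := by
      rw [← Subgroup.index_comap_of_surjective Mb hsurj]
      exact (M.card_mul_index).symm
    have e3 : Nat.card (G ⧸ N) = Nat.card ↥Mb * Mb.index := (Mb.card_mul_index).symm
    have hidx : 0 < Mb.index := Nat.pos_of_ne_zero Subgroup.index_ne_zero_of_finite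
    have : Nat.card ↥M * Mb.index = (Nat.card ↥N * Nat.card ↥Mb) * Mb.index := by
      rw [← e2, e1, e3, mul_assoc]
    exact Nat.eq_of_mul_eq_mul_right hidx this
  -- Schur–Zassenhaus inside `M`
  haveI hN'n : (N.subgroupOf M).Normal := hN.subgroupOf M
  have hN'card : Nat.card ↥(N.subgroupOf M) = Nat.card ↥N :=
    Nat.card_congr (Subgroup.subgroupOfEquivOfLe hNM).toEquiv
  have hN'idx : (N.subgroupOf M).index = Nat.card ↥Mb := by
    have h1 := (N.subgroupOf M).card_mul_index
    rw [hN'card, hMcard] at h1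
    exact Nat.eq_of_mul_eq_mul_left Nat.card_pos h1
  have hcop' : (Nat.card ↥(N.subgroupOf M)).Coprime (N.subgroupOf M).index := by
    rw [hN'card, hN'idx, ha]
    exact Nat.Coprime.pow_left a hcop.symm
  obtain ⟨H', hH'⟩ := Subgroup.exists_right_complement'_of_coprime hcop'
  have hrcard : Nat.card ↥H' = Nat.card ↥Mb := by
    have h1 := hH'.card_mul_card
    rw [hN'card, hMcard] at h1
    exact Nat.eq_of_mul_eq_mul_left Nat.card_pos h1
  obtain ⟨r, hr⟩ : ∃ r : ℕ, Nat.card ↥H' = r := ⟨_, rfl⟩
  have hrpos : 0 < r := by rw [← hr]; exact Nat.card_pos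
  have hrcop : r.Coprime p := by rw [← hr, hrcard]; exact hcop
  have hpowH : ∀ m : ↥M, m ∈ H' → m ^ r = 1 := by
    intro m hm
    have h1 : orderOf (⟨m, hm⟩ : ↥H') ∣ r := hr ▸ orderOf_dvd_natCard _
    rw [Subgroup.orderOf_mk] at h1
    exact orderOf_dvd_iff_pow_eq_one.mp h1
  -- characterization of `H'`
  have hchar : ∀ m : ↥M, m ∈ H' ↔ m ^ r = 1 := by
    intro m
    constructor
    · intro hm
      exact hpowH m hm
    · intro hm
      obtain ⟨⟨⟨n, hn⟩, ⟨h0, hh0⟩⟩, hnh⟩ := hH'.existsUnique m
      have hm' : m = n * h0 := hnh.1.symm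
      have hncen : (n : G) ∈ Subgroup.center G := hcen (Subgroup.mem_subgroupOf.mp hn)
      have hcomm : Commute n h0 := by
        have := Subgroup.mem_center_iff.mp hncen (h0 : G)
        exact Subtype.ext (by simpa using this.symm)
      have hh0r : h0 ^ r = 1 := hpowH h0 hh0
      have hnr : n ^ r = 1 := by
        have h3 := hm
        rw [hm', hcomm.mul_pow, hh0r, mul_one] at h3
        exact h3
      have hnp : n ^ p ^ a = 1 := by
        have h1 : orderOf (⟨n, hn⟩ : ↥(N.subgroupOf M)) ∣ p ^ a := by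
          rw [← ha, ← hN'card]; exact orderOf_dvd_natCard _
        rw [Subgroup.orderOf_mk] at h1
        exact orderOf_dvd_iff_pow_eq_one.mp h1
      have hn1 : n = 1 := by
        have h4 : orderOf n ∣ Nat.gcd r (p ^ a) :=
          Nat.dvd_gcd (orderOf_dvd_of_pow_eq_one hnr) (orderOf_dvd_of_pow_eq_one hnp)
        rw [(Nat.Coprime.pow_right a hrcop).gcd_eq_one] at h4
        exact orderOf_eq_one_iff.mp (Nat.dvd_one.mp h4)
      rw [hm', hn1, one_mul]
      exact hh0
  rw [hasNormalPComplement_iff_exists]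
  refine ⟨H'.map M.subtype, ⟨?_⟩, ?_, k + a, ?_⟩
  · rintro _ ⟨x, hx, rfl⟩ g
    have hgx : g * (x : G) * g⁻¹ ∈ M := hMn.conj_mem _ x.2 g
    refine ⟨⟨g * (x : G) * g⁻¹, hgx⟩, ?_, rfl⟩
    refine (hchar _).mpr ?_
    apply Subtype.ext
    have hxr : (x : G) ^ r = 1 := by
      have := (hchar x).mp hx
      have h2 := congrArg Subtype.val this
      simpa using h2
    show (g * (x : G) * g⁻¹) ^ r = 1
    rw [conj_pow, hxr, mul_one, mul_inv_cancel]
  · rw [Subgroup.card_map_of_injective M.subtype_injective, hr]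
    exact hrcop
  · have hKcard : Nat.card ↥(H'.map M.subtype) = r := by
      rw [Subgroup.card_map_of_injective M.subtype_injective, hr]
    have h1 := (H'.map M.subtype).card_mul_index
    have h2 := M.card_mul_index
    have h3 : M.index = p ^ k := by
      rw [hM, Subgroup.index_comap_of_surjective Mb hsurj, hk]
    rw [hKcard] at h1
    rw [hMcard, ← hrcard, hr, ha, h3] at h2
    have h4 : r * (H'.map M.subtype).index = r * p ^ (k + a) := by
      rw [h1, ← h2, pow_add]; ring
    exact Nat.eq_of_mul_eq_mul_left hrpos h4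

end Cfsg.Agent.Helper1.K2
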