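import Mathlib
import Cfsg.Prelude.Def_Transfer
import Cfsg.Agent.Helper1.K2A
import Cfsg.Agent.Helper1.K2B
import Cfsg.Agent.Helper1.K2C
import Cfsg.Agent.Helper1.NormalPCompl
import Cfsg.Agent.Helper1.Fitting
import Cfsg.Agent.Helper2.ZStarH

set_option autoImplicit false

/-!
`k₂(G) > |P|/2` forces a normal `2`-complement (via Glauberman's Z*-theorem for `2`-elements).
-/

namespace Cfsg.Agent.Helper1.K2

universe u v

variable {G : Type u} [Group G]

/-- Counting: if `|P| < 2 k₂(G)` and `P ≠ 1`, some non-identity element of `P` is isolated. -/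
theorem exists_isolated [Finite G] (P : Sylow 2 G) (hP : 2 ∣ Nat.card ↥(P : Subgroup G))
    (hk : Nat.card ↥(P : Subgroup G) < 2 * Nat.card (C2 G)) :
    ∃ x ∈ (P : Subgroup G), x ≠ 1 ∧
      ∀ g : G, g * x * g⁻¹ ∈ (P : Subgroup G) → g * x * g⁻¹ = x := by
  classical
  by_contra hno
  push Not at hno
  haveI := Fintype.ofFinite ↥(P : Subgroup G)
  haveI := Fintype.ofFinite (C2 G)
  set s : Finset ↥(P : Subgroup G) := Finset.univ.erase 1 with hs
  have h1 : 2 * (s.image (toC2 P)).card ≤ s.card := by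
    apply Finset.mul_card_image_le_card
    intro b hb
    obtain ⟨a, ha, rfl⟩ := Finset.mem_image.mp hb
    have ha1 : a ≠ 1 := (Finset.mem_erase.mp ha).1
    have ha1' : (a : G) ≠ 1 := fun h => ha1 (Subtype.ext h)
    obtain ⟨g, hgP, hgne⟩ := hno (a : G) a.2 ha1'
    set a' : ↥(P : Subgroup G) := ⟨g * (a : G) * g⁻¹, hgP⟩ with ha'
    have ha'ne : a' ≠ a := fun h => hgne (congrArg Subtype.val h)
    have ha'1 : a' ≠ 1 := by
      intro h
      have h2 : g * (a : G) * g⁻¹ = 1 := congrArg Subtype.val h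
      apply ha1'
      have : (a : G) = g⁻¹ * (g * (a : G) * g⁻¹) * g := by group
      rw [this, h2]; group
    have hfa' : toC2 P a' = toC2 P a := by
      rw [toC2_eq_iff]
      exact ⟨g⁻¹, by rw [ha']; show g⁻¹ * (g * (a : G) * g⁻¹) * g⁻¹⁻¹ = (a : G); group⟩
    have hsub : ({a, a'} : Finset ↥(P : Subgroup G)) ⊆ s.filter (fun c => toC2 P c = toC2 P a) := by
      intro c hc
      rw [Finset.mem_insert, Finset.mem_singleton] at hc
      rcases hc with rfl | rfl
      · exact Finset.mem_filter.mpr ⟨ha, rfl⟩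
      · exact Finset.mem_filter.mpr ⟨Finset.mem_erase.mpr ⟨ha'1, Finset.mem_univ _⟩, hfa'⟩
    calc 2 = ({a, a'} : Finset ↥(P : Subgroup G)).card := (Finset.card_pair ha'ne.symm).symm
      _ ≤ _ := Finset.card_le_card hsub
  have h2 : Fintype.card (C2 G) ≤ (s.image (toC2 P)).card + 1 := by
    have hsub : (Finset.univ : Finset (C2 G)) ⊆ insert (toC2 P 1) (s.image (toC2 P)) := by
      intro c _
      obtain ⟨x, rfl⟩ := toC2_surjective P c
      by_cases hx : x = 1
      · rw [hx]; exact Finset.mem_insert_self _ _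
      · exact Finset.mem_insert_of_mem (Finset.mem_image_of_mem _
          (Finset.mem_erase.mpr ⟨hx, Finset.mem_univ _⟩))
    calc Fintype.card (C2 G) = (Finset.univ : Finset (C2 G)).card := rfl
      _ ≤ (insert (toC2 P 1) (s.image (toC2 P))).card := Finset.card_le_card hsub
      _ ≤ _ := Finset.card_insert_le _ _
  have h3 : s.card = Fintype.card ↥(P : Subgroup G) - 1 := by
    rw [hs, Finset.card_erase_of_mem (Finset.mem_univ _), Finset.card_univ]
  rw [Nat.card_eq_fintype_card, Nat.card_eq_fintype_card] at hk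
  rw [Nat.card_eq_fintype_card] at hP
  have hpos : 0 < Fintype.card ↥(P : Subgroup G) := Fintype.card_pos
  obtain ⟨t, ht⟩ := hP
  omega

theorem main_aux : ∀ n : ℕ, ∀ (G : Type u) [Group G] [Finite G], Nat.card G = n →
    2 ^ (Nat.card G).factorization 2 < 2 * Nat.card (C2 G) → Cfsg.HasNormalPComplement 2 G := by
  intro n
  induction n using Nat.strong_induction_on with
  | _ n ih =>
  intro G _ _ hn hk
  haveI : Fact (Nat.Prime 2) := ⟨Nat.prime_two⟩
  have hGpos : Nat.card G ≠ 0 := Nat.card_pos.ne'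
  let P : Sylow 2 G := default
  have hPcard : Nat.card ↥(P : Subgroup G) = 2 ^ (Nat.card G).factorization 2 :=
    P.card_eq_multiplicity
  by_cases hv : (Nat.card G).factorization 2 = 0
  · rw [hasNormalPComplement_iff_exists]
    refine ⟨⊤, inferInstance, ?_, 0, by simp⟩
    rw [Subgroup.card_top]
    rcases (Nat.factorization_eq_zero_iff _ _).mp hv with h | h | h
    · exact absurd Nat.prime_two h
    · exact ((Nat.Prime.coprime_iff_not_dvd Nat.prime_two).mpr h).symm
    · exact absurd h hGpos
  · have h2P : 2 ∣ Nat.card ↥(P : Subgroup G) := by rw [hPcard]; exact dvd_pow_self 2 hv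
    obtain ⟨x, hxP, hx1, hiso⟩ := exists_isolated P h2P (by rw [hPcard]; exact hk)
    have hz : ∀ g : G, x * g * x⁻¹ * g⁻¹ ∈ Cfsg.oddCore G :=
      Cfsg.Agent.Helper2.ZStar.glauberman_zstar_two P x hxP hiso
    by_cases hO : Cfsg.oddCore G = ⊥
    · -- `x` is central
      have hxc : x ∈ Subgroup.center G := by
        rw [Subgroup.mem_center_iff]
        intro g
        have h1 := hz g
        rw [hO, Subgroup.mem_bot] at h1
        have : x * g = (x * g * x⁻¹ * g⁻¹) * (g * x) := by group
        rw [this, h1, one_mul]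
      set N : Subgroup G := Subgroup.zpowers x with hNdef
      have hNcen : N ≤ Subgroup.center G := Subgroup.zpowers_le.mpr hxc
      haveI hNn : N.Normal := ⟨fun n hn g => by
        have h1 := Subgroup.mem_center_iff.mp (hNcen hn) g
        have : g * n * g⁻¹ = n := by rw [h1]; group
        rw [this]; exact hn⟩
      obtain ⟨m, hm⟩ := exists_pow_orderOf_of_mem_sylow P hxP
      have hNcard : Nat.card ↥N = 2 ^ m := by rw [hNdef, Nat.card_zpowers, hm]
      have hNp : IsPGroup 2 ↥N := IsPGroup.of_card hNcard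
      have hm0 : m ≠ 0 := by
        intro h0
        rw [h0, pow_zero, orderOf_eq_one_iff] at hm
        exact hx1 hm
      have hcardG : Nat.card G = Nat.card (G ⧸ N) * 2 ^ m := by
        rw [← hNcard]; exact Subgroup.card_eq_card_quotient_mul_card_subgroup N
      have hQpos : Nat.card (G ⧸ N) ≠ 0 := Nat.card_pos.ne'
      have hlt : Nat.card (G ⧸ N) < n := by
        rw [← hn, hcardG]
        have : 2 ≤ 2 ^ m := by
          calc 2 = 2 ^ 1 := (pow_one 2).symm
            _ ≤ 2 ^ m := Nat.pow_le_pow_right (by norm_num) (Nat.one_le_iff_ne_zero.mpr hm0)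
        have hq : 0 < Nat.card (G ⧸ N) := Nat.card_pos
        nlinarith
      have hfac : (Nat.card G).factorization 2 = (Nat.card (G ⧸ N)).factorization 2 + m := by
        rw [hcardG, Nat.factorization_mul hQpos (by positivity), Finsupp.add_apply,
          Nat.Prime.factorization_pow Nat.prime_two, Finsupp.single_eq_same]
      have hle := card_C2_le_of_central N hNcen
      rw [hNcard] at hle
      have hk' : 2 ^ (Nat.card (G ⧸ N)).factorization 2 < 2 * Nat.card (C2 (G ⧸ N)) := by
        rw [hfac, pow_add] at hk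
        have h5 : 2 ^ (Nat.card (G ⧸ N)).factorization 2 * 2 ^ m
            < (2 * Nat.card (C2 (G ⧸ N))) * 2 ^ m := by
          calc 2 ^ (Nat.card (G ⧸ N)).factorization 2 * 2 ^ m < 2 * Nat.card (C2 G) := hk
            _ ≤ 2 * (2 ^ m * Nat.card (C2 (G ⧸ N))) := Nat.mul_le_mul_left 2 hle
            _ = (2 * Nat.card (C2 (G ⧸ N))) * 2 ^ m := by ring
        exact Nat.lt_of_mul_lt_mul_right h5
      exact hasNormalPComplement_of_central_quotient N hNcen hNp (ih _ hlt (G ⧸ N) rfl hk')
    · -- `O(G) ≠ 1`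
      set N : Subgroup G := Cfsg.oddCore G with hNdef
      haveI hNn : N.Normal := pPrimeCore_normal 2
      have hNcop : (Nat.card ↥N).Coprime 2 := card_pPrimeCore_coprime 2
      have hNodd : Odd (Nat.card ↥N) := Nat.coprime_two_right.mp hNcop
      have hN2 : ¬ 2 ∣ Nat.card ↥N := fun h =>
        (Nat.not_even_iff_odd.mpr hNodd) (even_iff_two_dvd.mpr h)
      have hcardG : Nat.card G = Nat.card (G ⧸ N) * Nat.card ↥N :=
        Subgroup.card_eq_card_quotient_mul_card_subgroup N
      have hQpos : Nat.card (G ⧸ N) ≠ 0 := Nat.card_pos.ne'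
      have hNgt : 1 < Nat.card ↥N := by
        rw [Subgroup.one_lt_card_iff_ne_bot]; exact hO
      have hlt : Nat.card (G ⧸ N) < n := by
        rw [← hn, hcardG]
        have hq : 0 < Nat.card (G ⧸ N) := Nat.card_pos
        nlinarith
      have hfac : (Nat.card G).factorization 2 = (Nat.card (G ⧸ N)).factorization 2 := by
        rw [hcardG, Nat.factorization_mul hQpos Nat.card_pos.ne', Finsupp.add_apply,
          Nat.factorization_eq_zero_of_not_dvd hN2, add_zero]
      have hle := card_C2_le_of_odd N hNodd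
      have hk' : 2 ^ (Nat.card (G ⧸ N)).factorization 2 < 2 * Nat.card (C2 (G ⧸ N)) := by
        rw [hfac] at hk
        exact lt_of_lt_of_le hk (Nat.mul_le_mul_left 2 hle)
      have hq := ih _ hlt (G ⧸ N) rfl hk'
      refine hasNormalPComplement_of_ker_coprime (QuotientGroup.mk' N)
        (QuotientGroup.mk'_surjective N) ?_ hq
      rw [QuotientGroup.ker_mk']
      exact hNcop

/-- `|P| < 2 k₂(G)` iff `G` has a normal `2`-complement and `|P| < 2 k(P)`. -/
theorem main [Finite G] (P : Sylow 2 G) :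
    Nat.card ↥(P : Subgroup G) < 2 * Nat.card (C2 G) ↔
      Cfsg.HasNormalPComplement 2 G ∧
        Nat.card ↥(P : Subgroup G) < 2 * Nat.card (ConjClasses ↥(P : Subgroup G)) := by
  haveI : Fact (Nat.Prime 2) := ⟨Nat.prime_two⟩
  constructor
  · intro hk
    refine ⟨main_aux _ G rfl (by rw [← P.card_eq_multiplicity]; exact hk), ?_⟩
    exact lt_of_lt_of_le hk (Nat.mul_le_mul_left 2 (card_C2_le_card_conjClasses P))
  · rintro ⟨hc, hk⟩
    obtain ⟨N, hNn, hN⟩ := (hasNormalPComplement_iff P).1 hc
    exact lt_of_lt_of_le hk (Nat.mul_le_mul_left 2 (card_conjClasses_le_card_C2 P N hN))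

end Cfsg.Agent.Helper1.K2
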