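import Mathlib
import Cfsg.Agent.Helper1.Coprime
import Cfsg.Agent.Helper2.GenHyper

/-!
helper1: a relative completeness theorem for a "normal" family of subgroups `Δ F`
(`F ≤ A` of rank at least `j`) inside a solvable `p'`-group `K` acted on by an elementary
abelian `p`-group `A` of rank at least `j + 2`.  Part A: the hypotheses and basic lemmas.
-/

set_option autoImplicit false

namespace Cfsg.Agent.Helper1.KBalR

open Cfsg.Agent.Helper1
open scoped commutatorElement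

variable {H : Type*} [Group H]

theorem le_normalizer_iSup' {ι : Sort*} (E : ι → Subgroup H) (A : Subgroup H)
    (h : ∀ i, A ≤ Subgroup.normalizer (E i : Set H)) :
    A ≤ Subgroup.normalizer ((⨆ i, E i : Subgroup H) : Set H) := by
  intro a ha
  rw [Subgroup.mem_normalizer_iff_map_conj_eq]
  have h1 : (⨆ i, E i).map (MulAut.conj a).toMonoidHom =
      ⨆ i, (E i).map (MulAut.conj a).toMonoidHom := Subgroup.map_iSup _ _
  have h2 : ∀ i, (E i).map (MulAut.conj a).toMonoidHom = E i := fun i =>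
    (Subgroup.mem_normalizer_iff_map_conj_eq).1 (h i ha)
  calc (⨆ i, E i).map (MulAut.conj a : H ≃* H) = ⨆ i, (E i).map (MulAut.conj a).toMonoidHom := h1
    _ = ⨆ i, E i := by simp_rw [h2]

theorem le_normalizer_sup' {A X Y : Subgroup H} (hX : A ≤ Subgroup.normalizer (X : Set H))
    (hY : A ≤ Subgroup.normalizer (Y : Set H)) :
    A ≤ Subgroup.normalizer ((X ⊔ Y : Subgroup H) : Set H) := by
  intro a ha
  rw [Subgroup.mem_normalizer_iff_map_conj_eq]
  have h1 : (X ⊔ Y).map (MulAut.conj a).toMonoidHom =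
      X.map (MulAut.conj a).toMonoidHom ⊔ Y.map (MulAut.conj a).toMonoidHom := Subgroup.map_sup _ _ _
  have h2 : X.map (MulAut.conj a).toMonoidHom = X :=
    (Subgroup.mem_normalizer_iff_map_conj_eq).1 (hX ha)
  have h3 : Y.map (MulAut.conj a).toMonoidHom = Y :=
    (Subgroup.mem_normalizer_iff_map_conj_eq).1 (hY ha)
  calc (X ⊔ Y).map (MulAut.conj a : H ≃* H)
      = X.map (MulAut.conj a).toMonoidHom ⊔ Y.map (MulAut.conj a).toMonoidHom := h1
    _ = X ⊔ Y := by rw [h2, h3]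

/-- a subgroup between the derived subgroup and `K` is normal in `K`. -/
theorem le_normalizer_of_commutator_le {K Y : Subgroup H} (hYK : Y ≤ K) (hc : ⁅K, K⁆ ≤ Y) :
    K ≤ Subgroup.normalizer (Y : Set H) := by
  apply Cfsg.Agent.Helper2.le_normalizer_of_conj_mem
  intro k hk y hy
  have h1 : ⁅k, y⁆ ∈ Y := hc (Subgroup.commutator_mem_commutator hk (hYK hy))
  have h2 : k * y * k⁻¹ = ⁅k, y⁆ * y := by rw [commutatorElement_def]; group
  rw [h2]
  exact Y.mul_mem h1 hy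

/-- in a solvable group `K` with proper normal subgroup `N`, `K' N` is proper. -/
theorem commutator_sup_ne {K N : Subgroup H} (hsolv : Group.IsSolvable ↥K) (hNK : N ≤ K)
    (hKN : K ≤ Subgroup.normalizer (N : Set H)) (hne : N ≠ K) : ⁅K, K⁆ ⊔ N ≠ K := by
  intro heq
  haveI hn : (N.subgroupOf K).Normal :=
    (Subgroup.normal_subgroupOf_iff_le_normalizer hNK).2 hKN
  haveI := hsolv
  haveI : Group.IsSolvable (↥K ⧸ N.subgroupOf K) := inferInstance
  haveI : Nontrivial (↥K ⧸ N.subgroupOf K) := by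
    rw [QuotientGroup.nontrivial_iff]
    intro htop
    apply hne
    apply le_antisymm hNK
    intro x hx
    have : (⟨x, hx⟩ : ↥K) ∈ N.subgroupOf K := by rw [htop]; exact Subgroup.mem_top _
    exact Subgroup.mem_subgroupOf.1 this
  have hlt : _root_.commutator (↥K ⧸ N.subgroupOf K) < ⊤ :=
    Group.IsSolvable.commutator_lt_top_of_nontrivial _
  set π := QuotientGroup.mk' (N.subgroupOf K) with hπ
  set R : Subgroup H := ((_root_.commutator (↥K ⧸ N.subgroupOf K)).comap π).map K.subtype with hR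
  have h1 : ⁅K, K⁆ ≤ R := by
    rw [Subgroup.commutator_le]
    intro a ha b hb
    rw [hR, Subgroup.mem_map]
    refine ⟨⁅(⟨a, ha⟩ : ↥K), ⟨b, hb⟩⁆, ?_, rfl⟩
    rw [Subgroup.mem_comap, map_commutatorElement, _root_.commutator_def]
    exact Subgroup.commutator_mem_commutator (Subgroup.mem_top _) (Subgroup.mem_top _)
  have h2 : N ≤ R := by
    intro n hn'
    rw [hR, Subgroup.mem_map]
    refine ⟨⟨n, hNK hn'⟩, ?_, rfl⟩
    rw [Subgroup.mem_comap]
    have : π ⟨n, hNK hn'⟩ = 1 := by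
      rw [hπ, QuotientGroup.mk'_apply, QuotientGroup.eq_one_iff]
      exact Subgroup.mem_subgroupOf.2 hn'
    rw [this]
    exact Subgroup.one_mem _
  have h3 : K ≤ R := heq ▸ sup_le h1 h2
  apply ne_of_lt hlt
  rw [eq_top_iff]
  intro q _
  obtain ⟨x, rfl⟩ := QuotientGroup.mk'_surjective (N.subgroupOf K) q
  have hx : (x : H) ∈ R := h3 x.2
  rw [hR, Subgroup.mem_map] at hx
  obtain ⟨y, hy, hyx⟩ := hx
  have : y = x := Subtype.ext hyx
  rw [this, Subgroup.mem_comap] at hy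
  exact hy

/-- the hypotheses -/
structure Fam [Finite H] (p j : ℕ) (K N A : Subgroup H) (Δ : Subgroup H → Subgroup H) : Prop where
  solv : Group.IsSolvable ↥K
  pK : ¬ p ∣ Nat.card ↥K
  elA : Cfsg.IsElementaryAbelian p A
  cardA : p ^ (j + 2) ≤ Nat.card ↥A
  AK : A ≤ Subgroup.normalizer (K : Set H)
  NK : N ≤ K
  KN : K ≤ Subgroup.normalizer (N : Set H)
  AN : A ≤ Subgroup.normalizer (N : Set H)
  le : ∀ F : Subgroup H, F ≤ A → p ^ j ≤ Nat.card ↥F →
    Δ F ≤ K ⊓ Subgroup.centralizer (F : Set H)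
  AΔ : ∀ F : Subgroup H, F ≤ A → p ^ j ≤ Nat.card ↥F →
    A ≤ Subgroup.normalizer (Δ F : Set H)
  KΔ : ∀ F : Subgroup H, F ≤ A → p ^ j ≤ Nat.card ↥F →
    K ⊓ Subgroup.centralizer (F : Set H) ≤ Subgroup.normalizer (Δ F : Set H)
  mono : ∀ F F' : Subgroup H, F ≤ F' → F' ≤ A → p ^ j ≤ Nat.card ↥F →
    Δ F' = Δ F ⊓ Subgroup.centralizer (F' : Set H)
  NΔ : ∀ F : Subgroup H, F ≤ A → p ^ j ≤ Nat.card ↥F →
    N ⊓ Subgroup.centralizer (F : Set H) ≤ Δ F
  gen : K ≤ (⨆ F : {F : Subgroup H // F ≤ A ∧ p ^ j ≤ Nat.card ↥F}, Δ (F : Subgroup H)) ⊔ N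

namespace Fam

variable [Finite H] {p j : ℕ} [hp : Fact p.Prime] {K N A : Subgroup H}
  {Δ : Subgroup H → Subgroup H}

theorem comm (h : Fam p j K N A Δ) : ∀ x ∈ A, ∀ y ∈ A, x * y = y * x := by
  intro x hx y hy
  have := h.elA.1.is_comm.comm ⟨x, hx⟩ ⟨y, hy⟩
  exact congrArg Subtype.val this

theorem card_le_of_le {B B' : Subgroup H} (hBB' : B ≤ B') : Nat.card ↥B ≤ Nat.card ↥B' :=
  Subgroup.card_le_of_le hBB'

theorem hyp_card (h : Fam p j K N A Δ) {B : Subgroup H} (hBA : B ≤ A) (hB : B.relIndex A ≤ p) :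
    p ^ (j + 1) ≤ Nat.card ↥B := by
  have h1 := relIndex_mul_card_of_le hBA
  have h2 : Nat.card ↥A ≤ p * Nat.card ↥B := by
    rw [← h1]; exact Nat.mul_le_mul_right _ hB
  have h3 : p * p ^ (j + 1) ≤ p * Nat.card ↥B := by
    rw [← pow_succ']; exact h.cardA.trans h2
  exact Nat.le_of_mul_le_mul_left h3 hp.out.pos

theorem hyp_card' (h : Fam p j K N A Δ) {B : Subgroup H} (hBA : B ≤ A) (hB : B.relIndex A ≤ p) :
    p ^ j ≤ Nat.card ↥B :=
  le_trans (Nat.pow_le_pow_right hp.out.pos (Nat.le_succ j)) (h.hyp_card hBA hB)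

theorem inf_card (h : Fam p j K N A Δ) {B B' : Subgroup H} (hBA : B ≤ A) (hB : B.relIndex A ≤ p)
    (_hB'A : B' ≤ A) (hB' : B'.relIndex A ≤ p) : p ^ j ≤ Nat.card ↥(B ⊓ B') := by
  have h0 : (B ⊓ B').relIndex A ≤ p * p :=
    (Subgroup.relIndex_inf_le).trans (Nat.mul_le_mul hB hB')
  have h1 := relIndex_mul_card_of_le (inf_le_left.trans hBA : B ⊓ B' ≤ A)
  have h2 : Nat.card ↥A ≤ p * p * Nat.card ↥(B ⊓ B') := by
    rw [← h1]; exact Nat.mul_le_mul_right _ h0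
  have h3 : p * p * p ^ j ≤ p * p * Nat.card ↥(B ⊓ B') := by
    have : p * p * p ^ j = p ^ (j + 2) := by ring
    rw [this]; exact h.cardA.trans h2
  exact Nat.le_of_mul_le_mul_left h3 (Nat.mul_pos hp.out.pos hp.out.pos)

theorem delta_le_K (h : Fam p j K N A Δ) {F : Subgroup H} (hF : F ≤ A) (hFc : p ^ j ≤ Nat.card ↥F) :
    Δ F ≤ K := (h.le F hF hFc).trans inf_le_left

theorem delta_le_cent (h : Fam p j K N A Δ) {F : Subgroup H} (hF : F ≤ A)
    (hFc : p ^ j ≤ Nat.card ↥F) : Δ F ≤ Subgroup.centralizer (F : Set H) :=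
  (h.le F hF hFc).trans inf_le_right

theorem delta_anti (h : Fam p j K N A Δ) {F F' : Subgroup H} (hFF' : F ≤ F') (hF' : F' ≤ A)
    (hFc : p ^ j ≤ Nat.card ↥F) : Δ F' ≤ Δ F := by
  rw [h.mono F F' hFF' hF' hFc]; exact inf_le_left

theorem delta_inf_centralizer (h : Fam p j K N A Δ) {F B : Subgroup H} (hF : F ≤ A)
    (hFc : p ^ j ≤ Nat.card ↥F) (hB : B ≤ A) (hBc : p ^ j ≤ Nat.card ↥B) :
    Δ F ⊓ Subgroup.centralizer (B : Set H) ≤ Δ B := by
  intro t ht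
  have h1 : t ∈ Subgroup.centralizer ((F ⊔ B : Subgroup H) : Set H) :=
    Cfsg.Agent.Helper2.inf_centralizer_le_centralizer_sup F B ⟨h.delta_le_cent hF hFc ht.1, ht.2⟩
  have h2 : t ∈ Δ (F ⊔ B) := by
    rw [h.mono F (F ⊔ B) le_sup_left (sup_le hF hB) hFc]; exact ⟨ht.1, h1⟩
  exact h.delta_anti le_sup_right (sup_le hF hB) hBc h2

theorem not_dvd_of_le (h : Fam p j K N A Δ) {Y : Subgroup H} (hY : Y ≤ K) : ¬ p ∣ Nat.card ↥Y :=
  fun hd => h.pK (hd.trans (Subgroup.card_dvd_of_le hY))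

/-- generation of `Δ F ⊓ Y` by the pieces `Δ B ⊓ Y` over hyperplanes `B`. -/
theorem delta_inf_le_iSup (h : Fam p j K N A Δ) {F : Subgroup H} (hF : F ≤ A)
    (hFc : p ^ j ≤ Nat.card ↥F) {Y : Subgroup H} (hYA : A ≤ Subgroup.normalizer (Y : Set H)) :
    Δ F ⊓ Y ≤ ⨆ B : {B : Subgroup H // B ≤ A ∧ B.relIndex A ≤ p}, Δ (B : Subgroup H) ⊓ Y := by
  have hX : ¬ p ∣ Nat.card ↥(Δ F ⊓ Y) := h.not_dvd_of_le (inf_le_left.trans (h.delta_le_K hF hFc))
  have hAX : A ≤ Subgroup.normalizer ((Δ F ⊓ Y : Subgroup H) : Set H) :=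
    le_normalizer_inf (h.AΔ F hF hFc) hYA
  have hgen := Cfsg.Agent.Helper2.le_iSup_hyperplane_centralizers p (Nat.card A) A (Δ F ⊓ Y) rfl
    h.elA hX hAX
  refine hgen.trans ?_
  apply iSup_le
  rintro ⟨B, hBA, hB⟩
  refine le_trans ?_ (le_iSup (fun B : {B : Subgroup H // B ≤ A ∧ B.relIndex A ≤ p} =>
    Δ (B : Subgroup H) ⊓ Y) ⟨B, hBA, hB⟩)
  intro t ht
  exact ⟨h.delta_inf_centralizer hF hFc hBA (h.hyp_card' hBA hB) ⟨ht.1.1, ht.2⟩, ht.1.2⟩

theorem delta_le_iSup (h : Fam p j K N A Δ) {F : Subgroup H} (hF : F ≤ A)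
    (hFc : p ^ j ≤ Nat.card ↥F) :
    Δ F ≤ ⨆ B : {B : Subgroup H // B ≤ A ∧ B.relIndex A ≤ p}, Δ (B : Subgroup H) := by
  have h1 := h.delta_inf_le_iSup hF hFc (Y := ⊤) (by
    intro a _; rw [Subgroup.mem_normalizer_iff]; intro x; simp)
  simpa using h1

/-- `K ≤ ⟨Δ B : B hyperplane⟩ N`. -/
theorem K_le (h : Fam p j K N A Δ) :
    K ≤ (⨆ B : {B : Subgroup H // B ≤ A ∧ B.relIndex A ≤ p}, Δ (B : Subgroup H)) ⊔ N := by
  refine h.gen.trans (sup_le_sup_right ?_ N)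
  apply iSup_le
  rintro ⟨F, hF, hFc⟩
  exact h.delta_le_iSup hF hFc

end Fam

end Cfsg.Agent.Helper1.KBalR
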