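import Mathlib
import Cfsg.Agent.Helper1.KBalRA

/-!
helper1: relative completeness theorem, part B: the final step and the induction.
-/

set_option autoImplicit false

namespace Cfsg.Agent.Helper1.KBalR

open Cfsg.Agent.Helper1
open scoped commutatorElement

variable {H : Type*} [Group H] [Finite H] {p j : ℕ} [hp : Fact p.Prime]

theorem coprime_of_elementary {A B Y : Subgroup H} (hA : Cfsg.IsElementaryAbelian p A)
    (hBA : B ≤ A) (hY : ¬ p ∣ Nat.card ↥Y) : (Nat.card ↥B).Coprime (Nat.card ↥Y) := by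
  have hB : IsPGroup p ↥B :=
    Cfsg.Agent.Helper2.isPGroup_of_elementary (Cfsg.Agent.Helper2.isElementaryAbelian_of_le hA hBA)
  obtain ⟨k, hk⟩ := IsPGroup.iff_card.mp hB
  rw [hk]
  exact Nat.Coprime.pow_left k ((Nat.Prime.coprime_iff_not_dvd hp.out).mpr hY)

omit [Finite H] hp in
theorem isSolvable_of_elementary {A B : Subgroup H} (hA : Cfsg.IsElementaryAbelian p A)
    (hBA : B ≤ A) : Group.IsSolvable ↥B := by
  have hB := (Cfsg.Agent.Helper2.isElementaryAbelian_of_le hA hBA).1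
  exact Group.isSolvable_of_comm (fun a b => hB.is_comm.comm a b)

omit [Finite H] hp in
theorem le_centralizer_of_comm {A B : Subgroup H} (hcomm : ∀ x ∈ A, ∀ y ∈ A, x * y = y * x)
    (hBA : B ≤ A) : A ≤ Subgroup.centralizer (B : Set H) := by
  intro a ha
  rw [Subgroup.mem_centralizer_iff]
  intro b hb
  exact hcomm b (hBA hb) a ha

omit [Finite H] hp in
theorem le_normalizer_centralizer_of_comm {A B : Subgroup H}
    (hcomm : ∀ x ∈ A, ∀ y ∈ A, x * y = y * x) (hBA : B ≤ A) :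
    A ≤ Subgroup.normalizer ((Subgroup.centralizer (B : Set H) : Subgroup H) : Set H) :=
  (le_centralizer_of_comm hcomm hBA).trans Subgroup.le_normalizer

/-- the final step: the case where `Δ F ∩ K₁ ≤ N` for all `F`. -/
theorem final_step {K N A K₁ : Subgroup H} {Δ : Subgroup H → Subgroup H} (h : Fam p j K N A Δ)
    (hK₁K : K₁ ≤ K) (hKK₁ : K ≤ Subgroup.normalizer (K₁ : Set H))
    (hAK₁ : A ≤ Subgroup.normalizer (K₁ : Set H)) (hK₁ne : K₁ ≠ K)
    (hmax : ∀ Y : Subgroup H, K₁ ≤ Y → Y ≤ K → A ≤ Subgroup.normalizer (Y : Set H) →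
      Y = K₁ ∨ Y = K)
    (hX₁ : ∀ F : Subgroup H, F ≤ A → p ^ j ≤ Nat.card ↥F → Δ F ⊓ K₁ ≤ N) :
    ∀ F : Subgroup H, F ≤ A → p ^ j ≤ Nat.card ↥F →
      K ⊓ Subgroup.centralizer (F : Set H) ≤ Δ F := by
  have hcomm := h.comm
  -- 7a: generation of K
  have hgenK := Cfsg.Agent.Helper2.le_iSup_hyperplane_centralizers p (Nat.card A) A K rfl
    h.elA h.pK h.AK
  -- 7b: the hyperplane B₁
  have hB₁ : ∃ B₁ : Subgroup H, B₁ ≤ A ∧ B₁.relIndex A ≤ p ∧
      (K ⊓ Subgroup.centralizer (B₁ : Set H)) ⊔ K₁ = K := by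
    by_contra hcon
    simp only [not_exists, not_and] at hcon
    apply hK₁ne
    apply le_antisymm hK₁K
    refine hgenK.trans ?_
    apply iSup_le
    rintro ⟨B, hBA, hB⟩
    have hY := hmax ((K ⊓ Subgroup.centralizer (B : Set H)) ⊔ K₁) le_sup_right
      (sup_le inf_le_left hK₁K)
      (le_normalizer_sup' (le_normalizer_inf h.AK (le_normalizer_centralizer_of_comm hcomm hBA))
        hAK₁)
    rcases hY with hY | hY
    · exact hY ▸ le_sup_left
    · exact absurd hY (hcon B hBA hB)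
  obtain ⟨B₁, hB₁A, hB₁i, hB₁K⟩ := hB₁
  have hB₁c : p ^ j ≤ Nat.card ↥B₁ := h.hyp_card' hB₁A hB₁i
  -- 7c
  have h7c : ∀ b ∈ B₁, ∀ t ∈ K, b * t * b⁻¹ * t⁻¹ ∈ K₁ := by
    intro b hb t ht
    have ht' : t ∈ K₁ ⊔ (K ⊓ Subgroup.centralizer (B₁ : Set H)) := by
      rw [sup_comm, hB₁K]; exact ht
    obtain ⟨k₁, hk₁, c, hc, rfl⟩ := mem_sup_of_le_normalizer (inf_le_left.trans hKK₁) ht'
    have hbc : b * c = c * b := (Subgroup.mem_centralizer_iff.1 hc.2) b hb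
    have h1 : b * k₁ * b⁻¹ ∈ K₁ :=
      (Subgroup.mem_normalizer_iff.1 (hAK₁ (hB₁A hb)) k₁).1 hk₁
    have h2 : b * (k₁ * c) * b⁻¹ * (k₁ * c)⁻¹ = (b * k₁ * b⁻¹) * k₁⁻¹ := by
      have : b * (k₁ * c) * b⁻¹ = b * k₁ * b⁻¹ * c := by
        calc b * (k₁ * c) * b⁻¹ = b * k₁ * (c * b⁻¹) := by group
          _ = b * k₁ * (b⁻¹ * c) := by
              have : c * b⁻¹ = b⁻¹ * c := by
                calc c * b⁻¹ = b⁻¹ * (b * c) * b⁻¹ := by group
                  _ = b⁻¹ * (c * b) * b⁻¹ := by rw [hbc]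
                  _ = b⁻¹ * c := by group
              rw [this]
          _ = b * k₁ * b⁻¹ * c := by group
      rw [this]; group
    rw [h2]
    exact K₁.mul_mem h1 (K₁.inv_mem hk₁)
  -- 7d
  have h7d : ∀ B : Subgroup H, B ≤ A → B.relIndex A ≤ p → Δ B ≤ Δ B₁ ⊔ N := by
    intro B hBA hB t ht
    have hBc : p ^ j ≤ Nat.card ↥B := h.hyp_card' hBA hB
    have hΔK : Δ B ≤ K := h.delta_le_K hBA hBc
    have hfix : ∀ b ∈ B₁, b * t * b⁻¹ * t⁻¹ ∈ Δ B ⊓ N := by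
      intro b hb
      have h1 : b * t * b⁻¹ ∈ Δ B :=
        (Subgroup.mem_normalizer_iff.1 (h.AΔ B hBA hBc (hB₁A hb)) t).1 ht
      have h2 : b * t * b⁻¹ * t⁻¹ ∈ Δ B := (Δ B).mul_mem h1 ((Δ B).inv_mem ht)
      exact ⟨h2, hX₁ B hBA hBc ⟨h2, h7c b hb t (hΔK ht)⟩⟩
    have hnorm1 : Δ B ≤ Subgroup.normalizer ((Δ B ⊓ N : Subgroup H) : Set H) :=
      le_normalizer_inf Subgroup.le_normalizer (hΔK.trans h.KN)
    have hnorm2 : B₁ ≤ Subgroup.normalizer ((Δ B ⊓ N : Subgroup H) : Set H) :=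
      le_normalizer_inf (hB₁A.trans (h.AΔ B hBA hBc)) (hB₁A.trans h.AN)
    obtain ⟨c, hc, hcN⟩ := coprime_fixed_coset B₁ (Δ B) (hB₁A.trans (h.AΔ B hBA hBc))
      (coprime_of_elementary h.elA hB₁A (h.not_dvd_of_le hΔK))
      (Or.inl (isSolvable_of_elementary h.elA hB₁A)) (Δ B ⊓ N) inf_le_left hnorm1 hnorm2 t ht hfix
    have hc' : c ∈ Δ B₁ := h.delta_inf_centralizer hBA hBc hB₁A hB₁c hc
    have ht2 : t = c * (t⁻¹ * c)⁻¹ := by group
    rw [ht2]
    exact Subgroup.mul_mem _ (Subgroup.mem_sup_left hc') (Subgroup.mem_sup_right (N.inv_mem hcN.2))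
  -- 7e
  have h7e : K ≤ Δ B₁ ⊔ N := by
    refine h.K_le.trans (sup_le ?_ le_sup_right)
    apply iSup_le
    rintro ⟨B, hBA, hB⟩
    exact h7d B hBA hB
  -- 7f
  intro F hFA hFc y hy
  have hΔB₁K : Δ B₁ ≤ K := h.delta_le_K hB₁A hB₁c
  have hy' : y ∈ N ⊔ Δ B₁ := by rw [sup_comm]; exact h7e hy.1
  obtain ⟨n, hn, t, ht, hynt⟩ := mem_sup_of_le_normalizer (hΔB₁K.trans h.KN) hy'
  obtain ⟨x', hx', y', hy'', hxy⟩ := coprime_fixed_points_mul F K (hFA.trans h.AK)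
    (coprime_of_elementary h.elA hFA h.pK) (Or.inl (isSolvable_of_elementary h.elA hFA))
    N (Δ B₁) h.NK hΔB₁K (hFA.trans h.AN) (hFA.trans (h.AΔ B₁ hB₁A hB₁c)) y n t hn ht hynt hy.2
  rw [hxy]
  exact (Δ F).mul_mem (h.NΔ F hFA hFc hx') (h.delta_inf_centralizer hB₁A hB₁c hFA hFc hy'')

omit [Finite H] hp in
theorem conj_mem_iSup {ι : Sort*} (E : ι → Subgroup H) (Z : Subgroup H) (c : H)
    (h : ∀ i, ∀ x ∈ E i, c * x * c⁻¹ ∈ Z) : ∀ x ∈ ⨆ i, E i, c * x * c⁻¹ ∈ Z := by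
  have h1 : (⨆ i, E i) ≤ Z.comap (MulAut.conj c).toMonoidHom := by
    apply iSup_le
    intro i x hx
    rw [Subgroup.mem_comap]
    simpa using h i x hx
  intro x hx
  have := h1 hx
  rw [Subgroup.mem_comap] at this
  simpa using this

omit [Finite H] hp in
theorem commutator_self_le (K : Subgroup H) : ⁅K, K⁆ ≤ K := by
  rw [Subgroup.commutator_le]
  intro a ha b hb
  rw [commutatorElement_def]
  exact K.mul_mem (K.mul_mem (K.mul_mem ha hb) (K.inv_mem ha)) (K.inv_mem hb)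

omit [Finite H] hp in
theorem le_normalizer_commutator_self {A K : Subgroup H}
    (hAK : A ≤ Subgroup.normalizer (K : Set H)) :
    A ≤ Subgroup.normalizer ((⁅K, K⁆ : Subgroup H) : Set H) := by
  intro a ha
  rw [Subgroup.mem_normalizer_iff_map_conj_eq, Subgroup.map_commutator,
    (Subgroup.mem_normalizer_iff_map_conj_eq).1 (hAK ha)]

/-- **Relative completeness.** -/
theorem main : ∀ (m : ℕ) (K N A : Subgroup H) (Δ : Subgroup H → Subgroup H),
    Nat.card ↥K - Nat.card ↥N = m → Fam p j K N A Δ →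
    ∀ F : Subgroup H, F ≤ A → p ^ j ≤ Nat.card ↥F →
      K ⊓ Subgroup.centralizer (F : Set H) ≤ Δ F := by
  intro m
  induction m using Nat.strong_induction_on with
  | _ m ih =>
  intro K N A Δ hm h F hFA hFc
  by_cases hKN : K ≤ N
  · exact (inf_le_inf_right _ hKN).trans (h.NΔ F hFA hFc)
  have hne : N ≠ K := fun e => hKN (e ▸ le_rfl)
  have hcomm := h.comm
  -- the subgroup K₁
  set P0 : Subgroup H := ⁅K, K⁆ ⊔ N with hP0
  have hP0K : P0 ≤ K := sup_le (commutator_self_le K) h.NK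
  have hP0ne : P0 ≠ K := commutator_sup_ne h.solv h.NK h.KN hne
  have hAP0 : A ≤ Subgroup.normalizer (P0 : Set H) :=
    le_normalizer_sup' (le_normalizer_commutator_self h.AK) h.AN
  let S := {Y : Subgroup H // P0 ≤ Y ∧ Y ≤ K ∧ Y ≠ K ∧ A ≤ Subgroup.normalizer (Y : Set H)}
  haveI : Nonempty S := ⟨⟨P0, le_rfl, hP0K, hP0ne, hAP0⟩⟩
  obtain ⟨⟨K₁, hP0K₁, hK₁K, hK₁ne, hAK₁⟩, hmaxc⟩ :=
    Finite.exists_max (fun Y : S => Nat.card (Y.1 : Subgroup H))
  have hmax : ∀ Y : Subgroup H, K₁ ≤ Y → Y ≤ K → A ≤ Subgroup.normalizer (Y : Set H) →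
      Y = K₁ ∨ Y = K := by
    intro Y hK₁Y hYK hAY
    by_cases hYK' : Y = K
    · exact Or.inr hYK'
    · left
      have h1 := hmaxc ⟨Y, hP0K₁.trans hK₁Y, hYK, hYK', hAY⟩
      exact (Subgroup.eq_of_le_of_card_ge hK₁Y h1).symm
  have hKK₁ : K ≤ Subgroup.normalizer (K₁ : Set H) :=
    le_normalizer_of_commutator_le hK₁K (le_sup_left.trans hP0K₁)
  have hNK₁ : N ≤ K₁ := le_sup_right.trans hP0K₁
  -- the subgroup X₁
  set Z : Subgroup H :=
    ⨆ F : {F : Subgroup H // F ≤ A ∧ p ^ j ≤ Nat.card ↥F}, Δ (F : Subgroup H) ⊓ K₁ with hZ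
  set X₁ : Subgroup H := Z ⊔ N with hX₁
  have hZK₁ : Z ≤ K₁ := iSup_le (fun _ => inf_le_right)
  have hNX₁ : N ≤ X₁ := le_sup_right
  have hX₁K₁ : X₁ ≤ K₁ := sup_le hZK₁ hNK₁
  have hX₁K : X₁ ≤ K := hX₁K₁.trans hK₁K
  have hAZ : A ≤ Subgroup.normalizer (Z : Set H) :=
    le_normalizer_iSup' _ _ (fun F => le_normalizer_inf (h.AΔ F.1 F.2.1 F.2.2) hAK₁)
  have hAX₁ : A ≤ Subgroup.normalizer (X₁ : Set H) := le_normalizer_sup' hAZ h.AN
  have hpiece : ∀ F : Subgroup H, F ≤ A → p ^ j ≤ Nat.card ↥F → Δ F ⊓ K₁ ≤ Z := by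
    intro F hF hFc'
    exact le_iSup (fun F : {F : Subgroup H // F ≤ A ∧ p ^ j ≤ Nat.card ↥F} =>
      Δ (F : Subgroup H) ⊓ K₁) ⟨F, hF, hFc'⟩
  have hΔBZ : ∀ B : Subgroup H, B ≤ A → B.relIndex A ≤ p →
      Δ B ≤ Subgroup.normalizer (Z : Set H) := by
    intro B hBA hB
    have hBc := h.hyp_card' hBA hB
    apply Cfsg.Agent.Helper2.le_normalizer_of_conj_mem
    intro c hc
    apply conj_mem_iSup
    rintro ⟨F', hF'A, hF'c⟩ x hx
    have hx' := h.delta_inf_le_iSup hF'A hF'c hAK₁ hx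
    revert x
    intro x _ hx'
    refine conj_mem_iSup _ Z c ?_ x hx'
    rintro ⟨B', hB'A, hB'⟩ t ht
    have hB'c := h.hyp_card' hB'A hB'
    have hic : p ^ j ≤ Nat.card ↥(B ⊓ B') := h.inf_card hBA hB hB'A hB'
    have hiA : B ⊓ B' ≤ A := inf_le_left.trans hBA
    have h1 : c ∈ Δ (B ⊓ B') := h.delta_anti inf_le_left hBA hic hc
    have h2 : t ∈ Δ (B ⊓ B') := h.delta_anti inf_le_right hB'A hic ht.1
    have h3 : c * t * c⁻¹ ∈ K₁ :=
      (Subgroup.mem_normalizer_iff.1 (hKK₁ (h.delta_le_K hBA hBc hc)) t).1 ht.2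
    exact hpiece (B ⊓ B') hiA hic
      ⟨(Δ (B ⊓ B')).mul_mem ((Δ (B ⊓ B')).mul_mem h1 h2) ((Δ (B ⊓ B')).inv_mem h1), h3⟩
  have hKX₁ : K ≤ Subgroup.normalizer (X₁ : Set H) := by
    refine h.K_le.trans (sup_le ?_ (hNX₁.trans Subgroup.le_normalizer))
    apply iSup_le
    rintro ⟨B, hBA, hB⟩
    exact le_normalizer_sup' (hΔBZ B hBA hB)
      ((h.delta_le_K hBA (h.hyp_card' hBA hB)).trans h.KN)
  -- the family on X₁
  have hFam1 : Fam p j X₁ N A (fun F => Δ F ⊓ X₁) := by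
    refine
      { solv := isSolvable_of_le hX₁K h.solv
        pK := h.not_dvd_of_le hX₁K
        elA := h.elA
        cardA := h.cardA
        AK := hAX₁
        NK := hNX₁
        KN := hX₁K.trans h.KN
        AN := h.AN
        le := ?_
        AΔ := ?_
        KΔ := ?_
        mono := ?_
        NΔ := ?_
        gen := ?_ }
    · intro F hF hFc'
      exact le_inf inf_le_right (inf_le_left.trans (h.delta_le_cent hF hFc'))
    · intro F hF hFc'
      exact le_normalizer_inf (h.AΔ F hF hFc') hAX₁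
    · intro F hF hFc'
      exact le_normalizer_inf ((inf_le_inf_right _ hX₁K).trans (h.KΔ F hF hFc'))
        (inf_le_left.trans Subgroup.le_normalizer)
    · intro F F' hFF' hF' hFc'
      change Δ F' ⊓ X₁ = Δ F ⊓ X₁ ⊓ Subgroup.centralizer (F' : Set H)
      rw [h.mono F F' hFF' hF' hFc', inf_right_comm]
    · intro F hF hFc'
      exact le_inf (h.NΔ F hF hFc') (inf_le_left.trans hNX₁)
    · refine sup_le ?_ le_sup_right
      refine le_trans ?_ le_sup_left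
      apply iSup_le
      rintro ⟨F, hF, hFc'⟩
      refine le_trans ?_ (le_iSup (fun F : {F : Subgroup H // F ≤ A ∧ p ^ j ≤ Nat.card ↥F} =>
        Δ (F : Subgroup H) ⊓ X₁) ⟨F, hF, hFc'⟩)
      exact le_inf inf_le_left ((hpiece F hF hFc').trans le_sup_left)
  have hcardNX₁ : Nat.card ↥N ≤ Nat.card ↥X₁ := Subgroup.card_le_of_le hNX₁
  have hcardX₁K₁ : Nat.card ↥X₁ ≤ Nat.card ↥K₁ := Subgroup.card_le_of_le hX₁K₁
  have hcardK₁K : Nat.card ↥K₁ < Nat.card ↥K := by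
    rcases Nat.lt_or_ge (Nat.card ↥K₁) (Nat.card ↥K) with h1 | h1
    · exact h1
    · exact absurd (Subgroup.eq_of_le_of_card_ge hK₁K h1) hK₁ne
  have hres1 := ih (Nat.card ↥X₁ - Nat.card ↥N) (by omega) X₁ N A (fun F => Δ F ⊓ X₁) rfl hFam1
  by_cases hX₁N : X₁ = N
  · -- final step
    apply final_step h hK₁K hKK₁ hAK₁ hK₁ne hmax ?_ F hFA hFc
    intro F' hF' hF'c
    exact ((hpiece F' hF' hF'c).trans le_sup_left).trans hX₁N.le
  · have hcardlt : Nat.card ↥N < Nat.card ↥X₁ := by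
      rcases Nat.lt_or_ge (Nat.card ↥N) (Nat.card ↥X₁) with h1 | h1
      · exact h1
      · exact absurd (Subgroup.eq_of_le_of_card_ge hNX₁ h1).symm hX₁N
    have hFam2 : Fam p j K X₁ A Δ :=
      { solv := h.solv
        pK := h.pK
        elA := h.elA
        cardA := h.cardA
        AK := h.AK
        NK := hX₁K
        KN := hKX₁
        AN := hAX₁
        le := h.le
        AΔ := h.AΔ
        KΔ := h.KΔ
        mono := h.mono
        NΔ := fun F' hF' hF'c => (hres1 F' hF' hF'c).trans inf_le_left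
        gen := h.gen.trans (sup_le_sup_left hNX₁ _) }
    have hcardK : Nat.card ↥X₁ ≤ Nat.card ↥K := Subgroup.card_le_of_le hX₁K
    exact ih (Nat.card ↥K - Nat.card ↥X₁) (by omega) K X₁ A Δ rfl hFam2 F hFA hFc

/-- **Completeness** (`N = ⊥`). -/
theorem complete {K A : Subgroup H} {Δ : Subgroup H → Subgroup H} (h : Fam p j K ⊥ A Δ) :
    ∀ F : Subgroup H, F ≤ A → p ^ j ≤ Nat.card ↥F →
      K ⊓ Subgroup.centralizer (F : Set H) ≤ Δ F :=
  main _ K ⊥ A Δ rfl h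

end Cfsg.Agent.Helper1.KBalR
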