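import Mathlib
import Cfsg.Agent.Helper1.KBalRB
import Cfsg.Agent.Helper6.KBalA

/-!
helper1: the `k`-balanced functor of a `k`-balanced group with solvable `p'`-cores is a
signalizer functor (Gorenstein–Walter).
-/

set_option autoImplicit false

namespace Cfsg.Agent.Helper1.KBalR

open Cfsg.Agent.Helper1 Cfsg.Agent.Helper6.KBal

variable {G : Type*} [Group G] [Finite G] {p : ℕ} [hp : Fact p.Prime]

theorem exists_le_card_pow {B : Subgroup G} (hB : IsPGroup p ↥B) {n : ℕ}
    (hn : p ^ n ≤ Nat.card ↥B) : ∃ D : Subgroup G, D ≤ B ∧ Nat.card ↥D = p ^ n := by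
  obtain ⟨D', hD'⟩ := Sylow.exists_subgroup_card_pow_prime_of_le_card hp.out hB hn
  refine ⟨D'.map B.subtype, Subgroup.map_subtype_le _, ?_⟩
  rw [← hD']
  exact Nat.card_congr (D'.equivMapOfInjective B.subtype B.subtype_injective).symm.toEquiv

omit [Finite G] hp in
theorem le_normalizer_bot (X : Subgroup G) : X ≤ Subgroup.normalizer ((⊥ : Subgroup G) : Set G) := by
  apply Cfsg.Agent.Helper2.le_normalizer_of_conj_mem
  intro b _ x hx
  rw [Subgroup.mem_bot] at hx ⊢
  rw [hx]; group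

/-- the data for a fixed nonidentity `a ∈ A`. -/
structure Setup (p k : ℕ) (A : Subgroup G) (a : G) (A' : Subgroup G) : Prop where
  bal : Cfsg.IsKBalanced p k G
  k1 : 1 ≤ k
  elA : Cfsg.IsElementaryAbelian p A
  cardA : p ^ (k + 2) ≤ Nat.card ↥A
  haA : a ∈ A
  ha1 : a ≠ 1
  solv : Group.IsSolvable ↥(Cfsg.centralizerPPrimeCore p a)
  A'A : A' ≤ A
  disj : Subgroup.zpowers a ⊓ A' = ⊥
  sup : Subgroup.zpowers a ⊔ A' = A

namespace Setup

variable {k : ℕ} {A : Subgroup G} {a : G} {A' : Subgroup G}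

theorem comm (h : Setup p k A a A') : ∀ x ∈ A, ∀ y ∈ A, x * y = y * x := by
  intro x hx y hy
  have := h.elA.1.is_comm.comm ⟨x, hx⟩ ⟨y, hy⟩
  exact congrArg Subtype.val this

theorem za_le (h : Setup p k A a A') : Subgroup.zpowers a ≤ A := Subgroup.zpowers_le.mpr h.haA

theorem card_za (h : Setup p k A a A') : Nat.card ↥(Subgroup.zpowers a) = p := by
  rw [Nat.card_zpowers, Cfsg.Agent.Helper2.orderOf_eq_of_elementary h.elA h.haA h.ha1]

/-- `|⟨a⟩ F| = |F| p` for `F ≤ A'`. -/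
theorem card_za_sup (h : Setup p k A a A') {F : Subgroup G} (hF : F ≤ A') :
    Nat.card ↥(Subgroup.zpowers a ⊔ F) = Nat.card ↥F * p := by
  have := card_sup_of_le_normalizer (N := Subgroup.zpowers a) (A := F)
    (Cfsg.Agent.Helper2.le_normalizer_of_comm h.comm (hF.trans h.A'A) h.za_le) (by
      rw [eq_bot_iff, ← h.disj, inf_comm]
      exact inf_le_inf_left _ hF)
  rw [h.card_za] at this
  exact this

theorem cardA' (h : Setup p k A a A') : p ^ (k + 1) ≤ Nat.card ↥A' := by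
  have h1 := h.card_za_sup (le_refl A')
  rw [h.sup] at h1
  have h2 := h.cardA
  rw [h1, pow_succ] at h2
  exact Nat.le_of_mul_le_mul_right h2 hp.out.pos

theorem elem_of_le (h : Setup p k A a A') {D : Subgroup G} (hD : D ≤ A) :
    Cfsg.IsElementaryAbelian p D := Cfsg.Agent.Helper2.isElementaryAbelian_of_le h.elA hD

/-- the consequence of `k`-balance: for `D ≤ A` of order `p ^ k` and `f ∈ A^#`. -/
theorem bal_apply (h : Setup p k A a A') {D : Subgroup G} (hD : D ≤ A)
    (hDc : Nat.card ↥D = p ^ k) {f : G} (hf : f ∈ A) (hf1 : f ≠ 1) :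
    Cfsg.signalizerDelta p D ⊓ Subgroup.centralizer {f} ≤ Cfsg.centralizerPPrimeCore p f :=
  h.bal D (h.elem_of_le hD) hDc f (Cfsg.Agent.Helper2.orderOf_eq_of_elementary h.elA hf hf1)
    (fun d hd => h.comm d (hD hd) f hf)

/-- for `E ≤ A` of order at least `p ^ k` and `f ∈ A^#`. -/
theorem bal_apply' (h : Setup p k A a A') {E : Subgroup G} (hE : E ≤ A)
    (hEc : p ^ k ≤ Nat.card ↥E) {f : G} (hf : f ∈ A) (hf1 : f ≠ 1) :
    Cfsg.signalizerDelta p E ⊓ Subgroup.centralizer {f} ≤ Cfsg.centralizerPPrimeCore p f := by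
  obtain ⟨D, hDE, hDc⟩ := exists_le_card_pow
    (Cfsg.Agent.Helper2.isPGroup_of_elementary (h.elem_of_le hE)) hEc
  exact (inf_le_inf_right _ (delta_anti p hDE)).trans (h.bal_apply (hDE.trans hE) hDc hf hf1)

/-- `Δ(E) ∩ C(E') = Δ(E')` for `E ≤ E' ≤ A`, `|E| ≥ p^k`. -/
theorem delta_mono (h : Setup p k A a A') {E E' : Subgroup G} (hEE' : E ≤ E') (hE' : E' ≤ A)
    (hEc : p ^ k ≤ Nat.card ↥E) :
    Cfsg.signalizerDelta p E' =
      Cfsg.signalizerDelta p E ⊓ Subgroup.centralizer (E' : Set G) := by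
  apply le_antisymm
  · exact le_inf (delta_anti p hEE') (delta_le_centralizer p E')
  · apply le_delta
    intro f hf hf1
    refine le_trans ?_ (h.bal_apply' (hEE'.trans hE') hEc (hE' hf) hf1)
    refine inf_le_inf_left _ ?_
    apply Subgroup.centralizer_le
    rw [Set.singleton_subset_iff]
    exact hf

end Setup

end Cfsg.Agent.Helper1.KBalR
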