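import Mathlib
import Cfsg.Agent.Helper1.KBalRC

/-!
helper1: the `k`-balanced functor, part D: the family attached to `a` and balance.
-/

set_option autoImplicit false

namespace Cfsg.Agent.Helper1.KBalR

open Cfsg.Agent.Helper1 Cfsg.Agent.Helper6.KBal

variable {G : Type*} [Group G] [Finite G] {p : ℕ} [hp : Fact p.Prime]

namespace Setup

variable {j : ℕ} {A : Subgroup G} {a : G} {A' : Subgroup G}

/-- the subgroup generated by the family. -/
def XX (p j : ℕ) (a : G) (A' : Subgroup G) : Subgroup G :=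
  ⨆ F : {F : Subgroup G // F ≤ A' ∧ p ^ j ≤ Nat.card ↥F},
    Cfsg.signalizerDelta p (Subgroup.zpowers a ⊔ (F : Subgroup G))

theorem za_sup_le (h : Setup p (j + 1) A a A') {F : Subgroup G} (hF : F ≤ A') :
    Subgroup.zpowers a ⊔ F ≤ A := sup_le h.za_le (hF.trans h.A'A)

theorem card_za_sup_ge (h : Setup p (j + 1) A a A') {F : Subgroup G} (hF : F ≤ A')
    (hFc : p ^ j ≤ Nat.card ↥F) : p ^ (j + 1) ≤ Nat.card ↥(Subgroup.zpowers a ⊔ F) := by
  rw [h.card_za_sup hF, pow_succ]
  exact Nat.mul_le_mul_right _ hFc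

theorem a_mem_za_sup (F : Subgroup G) : a ∈ Subgroup.zpowers a ⊔ F :=
  Subgroup.mem_sup_left (Subgroup.mem_zpowers a)

theorem fam_le_core (h : Setup p (j + 1) A a A') (F : Subgroup G) :
    Cfsg.signalizerDelta p (Subgroup.zpowers a ⊔ F) ≤ Cfsg.centralizerPPrimeCore p a :=
  delta_le_core p (a_mem_za_sup F) h.ha1

theorem XX_le_core (h : Setup p (j + 1) A a A') : XX p j a A' ≤ Cfsg.centralizerPPrimeCore p a :=
  iSup_le (fun F => h.fam_le_core F.1)

theorem XX_le_centralizer (h : Setup p (j + 1) A a A') :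
    XX p j a A' ≤ Subgroup.centralizer ({a} : Set G) :=
  h.XX_le_core.trans (core_le_centralizer p a)

theorem fam_le_XX {F : Subgroup G} (hF : F ≤ A') (hFc : p ^ j ≤ Nat.card ↥F) :
    Cfsg.signalizerDelta p (Subgroup.zpowers a ⊔ F) ≤ XX p j a A' :=
  le_iSup (fun F : {F : Subgroup G // F ≤ A' ∧ p ^ j ≤ Nat.card ↥F} =>
    Cfsg.signalizerDelta p (Subgroup.zpowers a ⊔ (F : Subgroup G))) ⟨F, hF, hFc⟩

theorem A'_le_normalizer_fam (h : Setup p (j + 1) A a A') {F : Subgroup G} (hF : F ≤ A') :
    A' ≤ Subgroup.normalizer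
      ((Cfsg.signalizerDelta p (Subgroup.zpowers a ⊔ F) : Subgroup G) : Set G) :=
  le_normalizer_delta p (fun e he b hb => h.comm e (h.A'A he) b (h.za_sup_le hF hb))

theorem A'_le_normalizer_XX (h : Setup p (j + 1) A a A') :
    A' ≤ Subgroup.normalizer ((XX p j a A' : Subgroup G) : Set G) :=
  le_normalizer_iSup' _ _ (fun F => h.A'_le_normalizer_fam F.2.1)

/-- an element centralizing `a` and `F` centralizes `⟨a⟩ F`. -/
theorem mem_centralizer_za_sup {F : Subgroup G} {x : G}
    (hxa : x ∈ Subgroup.centralizer ({a} : Set G))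
    (hxF : x ∈ Subgroup.centralizer (F : Set G)) :
    x ∈ Subgroup.centralizer ((Subgroup.zpowers a ⊔ F : Subgroup G) : Set G) := by
  apply Cfsg.Agent.Helper2.inf_centralizer_le_centralizer_sup
  refine ⟨?_, hxF⟩
  rw [Cfsg.Agent.Helper2.centralizer_zpowers_eq]
  exact hxa

theorem isFam (h : Setup p (j + 1) A a A') :
    Fam p j (XX p j a A') ⊥ A'
      (fun F => Cfsg.signalizerDelta p (Subgroup.zpowers a ⊔ F)) := by
  refine
    { solv := isSolvable_of_le h.XX_le_core h.solv
      pK := ?_
      elA := h.elem_of_le h.A'A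
      cardA := h.cardA'
      AK := h.A'_le_normalizer_XX
      NK := bot_le
      KN := le_normalizer_bot _
      AN := le_normalizer_bot _
      le := ?_
      AΔ := fun F hF _ => h.A'_le_normalizer_fam hF
      KΔ := ?_
      mono := ?_
      NΔ := fun F _ _ => inf_le_left.trans bot_le
      gen := le_sup_left }
  · intro hd
    have h1 := card_core_coprime (G := G) p a
    have h2 : p ∣ Nat.card ↥(Cfsg.centralizerPPrimeCore p a) :=
      hd.trans (Subgroup.card_dvd_of_le h.XX_le_core)
    exact (Nat.Prime.coprime_iff_not_dvd hp.out).mp h1.symm h2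
  · intro F hF hFc
    refine le_inf (fam_le_XX hF hFc) ?_
    refine (delta_le_centralizer p _).trans ?_
    exact Subgroup.centralizer_le (by
      intro x hx
      exact (le_sup_right : F ≤ Subgroup.zpowers a ⊔ F) hx)
  · intro F hF _
    apply le_normalizer_delta p
    intro e he b hb
    have h1 := mem_centralizer_za_sup (h.XX_le_centralizer he.1) he.2
    exact (Subgroup.mem_centralizer_iff.1 h1 b hb).symm
  · intro F F' hFF' hF' hFc
    have hF : F ≤ A' := hFF'.trans hF'
    rw [h.delta_mono (sup_le_sup_left hFF' _) (h.za_sup_le hF') (h.card_za_sup_ge hF hFc)]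
    apply le_antisymm
    · refine le_inf inf_le_left (inf_le_right.trans ?_)
      exact Subgroup.centralizer_le (by
        intro x hx
        exact (le_sup_right : F' ≤ Subgroup.zpowers a ⊔ F') hx)
    · intro x hx
      refine ⟨hx.1, mem_centralizer_za_sup ?_ hx.2⟩
      exact core_le_centralizer p a (h.fam_le_core F hx.1)

/-- completeness for the family attached to `a`. -/
theorem XX_inf_centralizer_le (h : Setup p (j + 1) A a A') {F : Subgroup G} (hF : F ≤ A')
    (hFc : p ^ j ≤ Nat.card ↥F) :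
    XX p j a A' ⊓ Subgroup.centralizer (F : Set G) ≤
      Cfsg.signalizerDelta p (Subgroup.zpowers a ⊔ F) :=
  complete h.isFam F hF hFc

end Setup

end Cfsg.Agent.Helper1.KBalR
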