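import Mathlib
import Cfsg.Agent.Helper1.KBalRD

/-!
helper1: the `k`-balanced functor, part E: the signalizer functor property.
-/

set_option autoImplicit false

namespace Cfsg.Agent.Helper1.KBalR

open Cfsg.Agent.Helper1 Cfsg.Agent.Helper6.KBal

variable {G : Type*} [Group G] [Finite G] {p : ℕ} [hp : Fact p.Prime]

/-- the `k`-balanced functor. -/
def theta (p k : ℕ) (A : Subgroup G) (a : G) : Subgroup G :=
  ⨆ D : {D : Subgroup G // D ≤ A ∧ Nat.card ↥D = p ^ k},
    Cfsg.signalizerDelta p (D : Subgroup G) ⊓ Subgroup.centralizer {a}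

namespace Setup

variable {j : ℕ} {A : Subgroup G} {a : G} {A' : Subgroup G}

theorem theta_le_XX (h : Setup p (j + 1) A a A') : theta p (j + 1) A a ≤ XX p j a A' := by
  apply iSup_le
  rintro ⟨D, hDA, hDc⟩
  set E := Subgroup.zpowers a ⊔ D with hE
  have hEA : E ≤ A := sup_le h.za_le hDA
  set F := A' ⊓ E with hF
  have hFA' : F ≤ A' := inf_le_left
  have hEF : Subgroup.zpowers a ⊔ F = E := by
    apply le_antisymm (sup_le le_sup_left inf_le_right)
    intro x hx
    have hxA : x ∈ Subgroup.zpowers a ⊔ A' := by rw [h.sup]; exact hEA hx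
    obtain ⟨z, hz, y, hy, rfl⟩ := mem_sup_of_le_normalizer
      (Cfsg.Agent.Helper2.le_normalizer_of_comm h.comm h.A'A h.za_le) hxA
    have hzE : z ∈ E := (le_sup_left : Subgroup.zpowers a ≤ E) hz
    have hyE : y ∈ E := by
      have := E.mul_mem (E.inv_mem hzE) hx
      simpa using this
    exact Subgroup.mul_mem _ (Subgroup.mem_sup_left hz) (Subgroup.mem_sup_right ⟨hy, hyE⟩)
  have hFc : p ^ j ≤ Nat.card ↥F := by
    have h1 := h.card_za_sup hFA'
    rw [hEF] at h1
    have h2 : Nat.card ↥D ≤ Nat.card ↥E := Subgroup.card_le_of_le le_sup_right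
    rw [hDc, h1, pow_succ] at h2
    exact Nat.le_of_mul_le_mul_right h2 hp.out.pos
  refine le_trans ?_ (fam_le_XX hFA' hFc)
  rw [hEF]
  apply le_delta
  intro f hf hf1
  refine le_trans ?_ (h.bal_apply hDA hDc (hEA hf) hf1)
  intro x hx
  rw [Subgroup.mem_inf] at hx
  have h1 : x ∈ Subgroup.centralizer ((Subgroup.zpowers a ⊔ D : Subgroup G) : Set G) :=
    mem_centralizer_za_sup hx.2 (delta_le_centralizer p D hx.1)
  refine Subgroup.mem_inf.2 ⟨hx.1, ?_⟩
  rw [Subgroup.mem_centralizer_singleton_iff]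
  exact (Subgroup.mem_centralizer_iff.1 h1 f hf).symm

theorem balance (h : Setup p (j + 1) A a A') {b : G} (hb : b ∈ A) (hb1 : b ≠ 1) :
    theta p (j + 1) A a ⊓ Subgroup.centralizer {b} ≤ theta p (j + 1) A b := by
  by_cases hbz : b ∈ Subgroup.zpowers a
  · -- `⟨a⟩ = ⟨b⟩`
    have hab : a ∈ Subgroup.zpowers b :=
      Cfsg.Agent.Helper2.mem_zpowers_of_mem_zpowers_prime (h.elA.2 a h.haA) hbz hb1
    have hz : Subgroup.zpowers a = Subgroup.zpowers b :=
      le_antisymm (Subgroup.zpowers_le.mpr hab) (Subgroup.zpowers_le.mpr hbz)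
    have hc : Subgroup.centralizer ({a} : Set G) = Subgroup.centralizer ({b} : Set G) := by
      rw [← Cfsg.Agent.Helper2.centralizer_zpowers_eq a, ← Cfsg.Agent.Helper2.centralizer_zpowers_eq b,
        hz]
    refine inf_le_left.trans ?_
    unfold theta
    rw [hc]
  · have hbA : b ∈ Subgroup.zpowers a ⊔ A' := by rw [h.sup]; exact hb
    obtain ⟨z, hz, b', hb', hbzb⟩ := mem_sup_of_le_normalizer
      (Cfsg.Agent.Helper2.le_normalizer_of_comm h.comm h.A'A h.za_le) hbA
    have hXp : ¬ p ∣ Nat.card ↥(XX p j a A') := h.isFam.pK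
    intro t ht
    rw [Subgroup.mem_inf] at ht
    have htX : t ∈ XX p j a A' := h.theta_le_XX ht.1
    have hcomm_z : ∀ s ∈ XX p j a A', s * z = z * s := by
      intro s hs
      have h1 := h.XX_le_centralizer hs
      rw [← Cfsg.Agent.Helper2.centralizer_zpowers_eq] at h1
      exact (Subgroup.mem_centralizer_iff.1 h1 z hz).symm
    have htb' : t ∈ Subgroup.centralizer ({b'} : Set G) := by
      rw [Subgroup.mem_centralizer_singleton_iff]
      have h1 : b * t = t * b := (Subgroup.mem_centralizer_singleton_iff.1 ht.2).symm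
      have h2 : b' = z⁻¹ * b := by rw [hbzb]; group
      have h3 : t * z⁻¹ = z⁻¹ * t := by
        have := hcomm_z t htX
        calc t * z⁻¹ = z⁻¹ * (z * t) * z⁻¹ := by group
          _ = z⁻¹ * (t * z) * z⁻¹ := by rw [this]
          _ = z⁻¹ * t := by group
      rw [h2]
      symm
      calc z⁻¹ * b * t = z⁻¹ * (b * t) := by group
        _ = z⁻¹ * (t * b) := by rw [h1]
        _ = (z⁻¹ * t) * b := by group
        _ = t * z⁻¹ * b := by rw [h3]
        _ = t * (z⁻¹ * b) := by group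
    set Y := XX p j a A' ⊓ Subgroup.centralizer ({b'} : Set G) with hY
    have hYp : ¬ p ∣ Nat.card ↥Y := fun hd => hXp (hd.trans (Subgroup.card_dvd_of_le inf_le_left))
    have hA'Y : A' ≤ Subgroup.normalizer (Y : Set G) := by
      apply le_normalizer_inf h.A'_le_normalizer_XX
      refine le_trans ?_ Subgroup.le_normalizer
      intro x hx
      rw [Subgroup.mem_centralizer_singleton_iff]
      exact h.comm x (h.A'A hx) b' (h.A'A hb')
    have hgen := Cfsg.Agent.Helper2.le_iSup_hyperplane_centralizers p (Nat.card A') A' Y rfl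
      (h.elem_of_le h.A'A) hYp hA'Y
    have htY : t ∈ Y := ⟨htX, htb'⟩
    refine (hgen.trans ?_) htY
    apply iSup_le
    rintro ⟨B, hBA', hB⟩
    have hBc : p ^ (j + 1) ≤ Nat.card ↥B := h.isFam.hyp_card hBA' hB
    have hBc' : p ^ j ≤ Nat.card ↥B := h.isFam.hyp_card' hBA' hB
    obtain ⟨D, hDB, hDc⟩ := exists_le_card_pow
      (Cfsg.Agent.Helper2.isPGroup_of_elementary (h.elem_of_le (hBA'.trans h.A'A))) hBc
    refine le_trans ?_ (le_iSup (fun D : {D : Subgroup G // D ≤ A ∧ Nat.card ↥D = p ^ (j + 1)} =>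
      Cfsg.signalizerDelta p (D : Subgroup G) ⊓ Subgroup.centralizer {b})
      ⟨D, hDB.trans (hBA'.trans h.A'A), hDc⟩)
    intro s hs
    rw [Subgroup.mem_inf, hY, Subgroup.mem_inf] at hs
    have hsX : s ∈ XX p j a A' := hs.1.1
    have h1 : s ∈ Cfsg.signalizerDelta p (Subgroup.zpowers a ⊔ B) :=
      h.XX_inf_centralizer_le hBA' hBc' ⟨hsX, hs.2⟩
    refine Subgroup.mem_inf.2 ⟨delta_anti p (hDB.trans le_sup_right) h1, ?_⟩
    rw [Subgroup.mem_centralizer_singleton_iff]
    have h2 : b' * s = s * b' := (Subgroup.mem_centralizer_singleton_iff.1 hs.1.2).symm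
    have h3 := hcomm_z s hsX
    rw [hbzb]
    symm
    calc z * b' * s = z * (b' * s) := by group
      _ = z * (s * b') := by rw [h2]
      _ = (z * s) * b' := by group
      _ = s * z * b' := by rw [h3]
      _ = s * (z * b') := by group

end Setup

/-- **Gorenstein–Walter**: in a `k`-balanced group with solvable `p'`-cores of centralizers of
elements of `A`, the `k`-balanced functor is an `A`-signalizer functor (`m(A) ≥ k + 2`). -/
theorem isSignalizerFunctor_theta (k : ℕ) (hk : 1 ≤ k) (hbal : Cfsg.IsKBalanced p k G)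
    (A : Subgroup G) (hA : Cfsg.IsElementaryAbelian p A) (hAk : p ^ (k + 2) ≤ Nat.card ↥A)
    (hsolv : ∀ a ∈ A, a ≠ 1 → Group.IsSolvable ↥(Cfsg.centralizerPPrimeCore p a)) :
    Cfsg.IsSignalizerFunctor p A (theta p k A) := by
  obtain ⟨j, rfl⟩ : ∃ j, k = j + 1 := ⟨k - 1, by omega⟩
  have hcomm : ∀ x ∈ A, ∀ y ∈ A, x * y = y * x := by
    intro x hx y hy
    have := hA.1.is_comm.comm ⟨x, hx⟩ ⟨y, hy⟩
    exact congrArg Subtype.val this
  have hsetup : ∀ a ∈ A, a ≠ 1 → ∃ A' : Subgroup G, Setup p (j + 1) A a A' := by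
    intro a ha ha1
    obtain ⟨A', hA'A, hdisj, hsup⟩ := Cfsg.Agent.Helper2.exists_complement_zpowers hA ha ha1
    exact ⟨A', ⟨hbal, hk, hA, hAk, ha, ha1, hsolv a ha ha1, hA'A, hdisj, hsup⟩⟩
  have hle_core : ∀ a ∈ A, a ≠ 1 → theta p (j + 1) A a ≤ Cfsg.centralizerPPrimeCore p a := by
    intro a ha ha1
    obtain ⟨A', hS⟩ := hsetup a ha ha1
    exact hS.theta_le_XX.trans hS.XX_le_core
  refine ⟨?_, ?_, ?_, ?_⟩
  · intro a _ _
    exact iSup_le (fun _ => inf_le_right)
  · intro a ha ha1 hd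
    have h1 := card_core_coprime (G := G) p a
    have h2 : p ∣ Nat.card ↥(Cfsg.centralizerPPrimeCore p a) :=
      hd.trans (Subgroup.card_dvd_of_le (hle_core a ha ha1))
    exact (Nat.Prime.coprime_iff_not_dvd hp.out).mp h1.symm h2
  · intro a ha _ b hb x hx
    have hnorm : A ≤ Subgroup.normalizer ((theta p (j + 1) A a : Subgroup G) : Set G) := by
      apply le_normalizer_iSup'
      rintro ⟨D, hDA, _⟩
      apply le_normalizer_inf
      · exact le_normalizer_delta p (fun e he d hd => hcomm e he d (hDA hd))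
      · refine le_trans ?_ Subgroup.le_normalizer
        intro e he
        rw [Subgroup.mem_centralizer_singleton_iff]
        exact hcomm e he a ha
    exact (Subgroup.mem_normalizer_iff.1 (hnorm hb) x).1 hx
  · intro a ha ha1 b hb hb1
    obtain ⟨A', hS⟩ := hsetup a ha ha1
    exact hS.balance hb hb1

end Cfsg.Agent.Helper1.KBalR
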