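import Mathlib
import Cfsg.Prelude.Def_PLocal
import Cfsg.Agent.Helper1.ThompsonRed
import Cfsg.Agent.Helper1.GlaubermanNPC

set_option autoImplicit false

/-!
A characteristic subgroup functor built by iterating `R ↦ C_R(Z(J(R))) / Z(J(R))`.
-/

namespace Cfsg.Agent.Helper1

namespace KChain

open ThompsonRed

universe u

/-- `Z(J(R))` -/
abbrev zj (R : Type u) [Group R] : Subgroup R := zjFunctor.W R

/-- `C_R(Z(J(R)))` -/
def cz (R : Type u) [Group R] : Subgroup R := Subgroup.centralizer (zj R : Set R)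

/-- `Z(J(R))` as a subgroup of `C_R(Z(J(R)))` -/
def zc (R : Type u) [Group R] : Subgroup (cz R) := (zj R).subgroupOf (cz R)

theorem mem_cz {R : Type u} [Group R] {x : R} : x ∈ cz R ↔ ∀ z ∈ zj R, z * x = x * z :=
  Subgroup.mem_centralizer_iff

theorem mem_zc {R : Type u} [Group R] {x : cz R} : x ∈ zc R ↔ (x : R) ∈ zj R :=
  Subgroup.mem_subgroupOf

theorem zj_comm {R : Type u} [Group R] {x y : R} (hx : x ∈ zj R) (hy : y ∈ zj R) :
    x * y = y * x := by
  have h1 : y ∈ Subgroup.centralizer (Cfsg.thompsonSubgroupA R : Set R) := hy.2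
  exact Subgroup.mem_centralizer_iff.1 h1 x hx.1

theorem zj_le_cz (R : Type u) [Group R] : zj R ≤ cz R := by
  intro x hx
  rw [mem_cz]
  intro z hz
  exact zj_comm hz hx

instance zc_normal (R : Type u) [Group R] : (zc R).Normal := by
  refine ⟨fun n hn g => ?_⟩
  rw [mem_zc] at hn ⊢
  have h1 : (n : R) * (g : R) = (g : R) * (n : R) := mem_cz.1 g.2 _ hn
  have h2 : ((g * n * g⁻¹ : cz R) : R) = (n : R) := by
    show (g : R) * (n : R) * (g : R)⁻¹ = (n : R)
    rw [← h1]; group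
  rw [h2]
  exact hn

/-- The iterated functor. -/
def W : ℕ → ∀ (R : Type u) [Group R], Subgroup R
  | 0 => fun _ _ => ⊤
  | n + 1 => fun R _ =>
      ((W n (cz R ⧸ zc R)).comap (QuotientGroup.mk' (zc R))).map (cz R).subtype

theorem W_zero (R : Type u) [Group R] : W 0 R = ⊤ := rfl

theorem W_succ (n : ℕ) (R : Type u) [Group R] :
    W (n + 1) R = ((W n (cz R ⧸ zc R)).comap (QuotientGroup.mk' (zc R))).map (cz R).subtype :=
  rfl

theorem mem_W_succ {n : ℕ} {R : Type u} [Group R] {x : R} :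
    x ∈ W (n + 1) R ↔ ∃ hx : x ∈ cz R, (QuotientGroup.mk' (zc R)) ⟨x, hx⟩ ∈ W n (cz R ⧸ zc R) := by
  rw [W_succ]
  constructor
  · rintro ⟨s, hs, rfl⟩
    exact ⟨s.2, hs⟩
  · rintro ⟨hx, h⟩
    exact ⟨⟨x, hx⟩, h, rfl⟩

section equiv

variable {R R' : Type u} [Group R] [Group R']

theorem zj_map (e : R ≃* R') : (zj R).map e.toMonoidHom = zj R' := zjFunctor.map_equiv e

theorem map_mem_zj (e : R ≃* R') {x : R} : e x ∈ zj R' ↔ x ∈ zj R := by
  rw [← zj_map e]
  constructor
  · rintro ⟨y, hy, hxy⟩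
    have : y = x := e.injective hxy
    rwa [← this]
  · intro hx
    exact ⟨x, hx, rfl⟩

theorem map_mem_cz (e : R ≃* R') {x : R} : e x ∈ cz R' ↔ x ∈ cz R := by
  rw [mem_cz, mem_cz]
  constructor
  · intro h z hz
    have := h (e z) ((map_mem_zj e).2 hz)
    rw [← map_mul, ← map_mul] at this
    exact e.injective this
  · intro h z' hz'
    obtain ⟨z, rfl⟩ := e.surjective z'
    rw [← map_mul, ← map_mul, h z ((map_mem_zj e).1 hz')]

/-- the isomorphism induced on `C(Z(J))` -/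
def czEquiv (e : R ≃* R') : cz R ≃* cz R' where
  toFun s := ⟨e s, (map_mem_cz e).2 s.2⟩
  invFun s := ⟨e.symm s, (map_mem_cz e.symm).2 s.2⟩
  left_inv s := Subtype.ext (by simp)
  right_inv s := Subtype.ext (by simp)
  map_mul' s t := Subtype.ext (by simp)

theorem czEquiv_coe (e : R ≃* R') (s : cz R) : ((czEquiv e s : cz R') : R') = e s := rfl

theorem zc_map (e : R ≃* R') : (zc R).map (czEquiv e).toMonoidHom = zc R' := by
  ext y
  constructor
  · rintro ⟨x, hx, rfl⟩
    have hx' : x ∈ zc R := hx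
    rw [mem_zc] at hx' ⊢
    exact (map_mem_zj e).2 hx'
  · intro hy
    have hmem : (czEquiv e).symm y ∈ zc R := by
      rw [mem_zc] at hy ⊢
      have : ((czEquiv e).symm y : R) = e.symm y := rfl
      rw [this]
      exact (map_mem_zj e.symm).2 hy
    exact ⟨(czEquiv e).symm y, hmem, by simp⟩

/-- the isomorphism induced on `C(Z(J)) / Z(J)` -/
noncomputable def quotEquiv (e : R ≃* R') : (cz R ⧸ zc R) ≃* (cz R' ⧸ zc R') :=
  QuotientGroup.congr (zc R) (zc R') (czEquiv e) (zc_map e)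

theorem quotEquiv_mk (e : R ≃* R') (s : cz R) :
    quotEquiv e (QuotientGroup.mk' (zc R) s) = QuotientGroup.mk' (zc R') (czEquiv e s) := rfl

end equiv

theorem W_map_le (n : ℕ) : ∀ {R R' : Type u} [Group R] [Group R'] (e : R ≃* R'),
    (W n R).map e.toMonoidHom ≤ W n R' := by
  induction n with
  | zero =>
    intro R R' _ _ e
    rw [W_zero, W_zero]
    exact le_top
  | succ n ih =>
    intro R R' _ _ e
    rintro _ ⟨x, hx, rfl⟩
    have hx' : x ∈ W (n + 1) R := hx
    rw [mem_W_succ] at hx'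
    obtain ⟨hxc, hxW⟩ := hx'
    show e x ∈ W (n + 1) R'
    rw [mem_W_succ]
    refine ⟨(map_mem_cz e).2 hxc, ?_⟩
    have h1 := ih (quotEquiv e) ⟨_, hxW, rfl⟩
    exact h1

theorem W_map_equiv (n : ℕ) {R R' : Type u} [Group R] [Group R'] (e : R ≃* R') :
    (W n R).map e.toMonoidHom = W n R' := by
  apply le_antisymm (W_map_le n e)
  intro y hy
  have h := W_map_le n e.symm ⟨y, hy, rfl⟩
  exact ⟨e.symm y, h, by simp⟩

/-- the functor `K_n` -/
def kF (n : ℕ) : CharFunctor.{u} where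
  W := fun R _ => W n R
  map_equiv := fun e => W_map_equiv n e

/-- The value of `K_n` on the image of a homomorphism of `C_R(Z(J(R)))` with kernel `Z(J(R))`. -/
theorem kF_of_range (n : ℕ) {R Y : Type u} [Group R] [Group Y] (f : cz R →* Y)
    (hker : f.ker = zc R) :
    (kF n).of f.range = ((W n (cz R ⧸ zc R)).comap (QuotientGroup.mk' (zc R))).map f := by
  let η : (cz R ⧸ zc R) ≃* f.range :=
    (QuotientGroup.quotientMulEquivOfEq hker.symm).trans (QuotientGroup.quotientKerEquivRange f)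
  have hη : ∀ s : cz R, ((η (QuotientGroup.mk' (zc R) s) : f.range) : Y) = f s := by
    intro s
    rfl
  have h1 : W n ↥f.range = (W n (cz R ⧸ zc R)).map η.toMonoidHom := (W_map_equiv n η).symm
  show (W n ↥f.range).map f.range.subtype = _
  rw [h1]
  ext y
  constructor
  · rintro ⟨_, ⟨q, hq, rfl⟩, rfl⟩
    obtain ⟨s, rfl⟩ := QuotientGroup.mk'_surjective (zc R) q
    exact ⟨s, hq, (hη s).symm⟩
  · rintro ⟨s, hs, rfl⟩
    exact ⟨η (QuotientGroup.mk' (zc R) s), ⟨_, hs, rfl⟩, hη s⟩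

end KChain

end Cfsg.Agent.Helper1
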