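import Mathlib
import Cfsg.Prelude.Def_Transfer
import Cfsg.Agent.Helper1.Basic
import Cfsg.Agent.Helper1.IterFocal
import Cfsg.Agent.Helper1.PNilpBasic

set_option autoImplicit false

/-!
General lemmas on normal `p`-complements used for the `K`-chain.
-/

namespace Cfsg.Agent.Helper1

namespace KChain

universe u v

variable {G : Type u} [Group G]

/-- the condition "`N_G(K)/C_G(K)` is a `p`-group" -/
def Cond (p : ℕ) (K : Subgroup G) : Prop :=
  ∀ g ∈ Subgroup.normalizer (K : Set G), (orderOf g).Coprime p →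
    g ∈ Subgroup.centralizer (K : Set G)

theorem cond_of_npc [Finite G] {p : ℕ} [hp : Fact p.Prime]
    (h : Cfsg.HasNormalPComplement p G) (K : Subgroup G) (hK : IsPGroup p K) : Cond p K := by
  obtain ⟨M, hMn, hcop, k, hk⟩ := hasNormalPComplement_iff_exists.1 h
  haveI := hMn
  intro g hgN hgo
  have hgM : g ∈ M := by
    have : Subgroup.zpowers g ≤ M := by
      apply le_of_coprime_card_index
      rw [Nat.card_zpowers, hk]
      exact Nat.Coprime.pow_right k hgo
    exact this (Subgroup.mem_zpowers g)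
  have hdisj : M ⊓ K = ⊥ := by
    apply inf_eq_bot_of_coprime_card
    obtain ⟨j, hj⟩ := IsPGroup.iff_card.1 hK
    rw [hj]
    exact Nat.Coprime.pow_right j hcop
  rw [Subgroup.mem_centralizer_iff]
  intro x hx
  have h1 : g * x * g⁻¹ ∈ K := (Subgroup.mem_normalizer_iff.1 hgN x).1 hx
  have h2 : g * x * g⁻¹ * x⁻¹ ∈ M ⊓ K := by
    refine ⟨?_, K.mul_mem h1 (K.inv_mem hx)⟩
    have : g * x * g⁻¹ * x⁻¹ = g * (x * g⁻¹ * x⁻¹) := by group
    rw [this]
    exact M.mul_mem hgM (hMn.conj_mem _ (M.inv_mem hgM) x)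
  rw [hdisj, Subgroup.mem_bot, mul_inv_eq_one] at h2
  calc x * g = g * x * g⁻¹ * g := by rw [h2]
    _ = g * x := by group

/-- lifting an element of order prime to `p` through a surjection -/
theorem exists_lift_coprime {X : Type u} {Y : Type v} [Group X] [Group Y] [Finite X] {p : ℕ}
    [hp : Fact p.Prime] (π : X →* Y) (hπ : Function.Surjective π) (y : Y)
    (hy : (orderOf y).Coprime p) : ∃ x : X, π x = y ∧ (orderOf x).Coprime p := by
  obtain ⟨x₀, rfl⟩ := hπ y
  have ho : 0 < orderOf x₀ := orderOf_pos x₀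
  obtain ⟨a, m, hm, ham⟩ := Nat.exists_eq_pow_mul_and_not_dvd ho.ne' p hp.out.ne_one
  have hmp : m.Coprime p := ((Nat.Prime.coprime_iff_not_dvd hp.out).2 hm).symm
  have hd : orderOf (π x₀) ∣ m := by
    have h1 : orderOf (π x₀) ∣ p ^ a * m := ham ▸ orderOf_map_dvd π x₀
    exact (Nat.Coprime.pow_right a hy).dvd_of_dvd_mul_left h1
  have hcop : IsCoprime ((p : ℤ) ^ a) (m : ℤ) := by
    apply IsCoprime.pow_left
    rw [Int.isCoprime_iff_gcd_eq_one, Int.gcd_natCast_natCast]
    exact hmp.symm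
  obtain ⟨s, t, hst⟩ := hcop
  refine ⟨x₀ ^ (s * (p : ℤ) ^ a), ?_, ?_⟩
  · rw [map_zpow]
    have h1 : (π x₀) ^ (m : ℤ) = 1 := by
      rw [zpow_natCast]
      exact orderOf_dvd_iff_pow_eq_one.1 hd
    have h2 : s * (p : ℤ) ^ a = 1 - t * m := by linarith
    rw [h2, zpow_sub, zpow_one, mul_comm t (m : ℤ), zpow_mul, h1, one_zpow, inv_one, mul_one]
  · have h1 : (x₀ ^ (s * (p : ℤ) ^ a)) ^ m = 1 := by
      rw [← zpow_natCast, ← zpow_mul]
      have : s * (p : ℤ) ^ a * (m : ℤ) = ((orderOf x₀ : ℕ) : ℤ) * s := by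
        rw [ham]; push_cast; ring
      rw [this, zpow_mul, zpow_natCast, pow_orderOf_eq_one, one_zpow]
    exact Nat.Coprime.coprime_dvd_left (orderOf_dvd_of_pow_eq_one h1) hmp

/-- an extension of a group with a normal `p`-complement by a `p`-group on top has one -/
theorem npc_of_normal_of_index [Finite G] {p : ℕ} [hp : Fact p.Prime] (C : Subgroup G)
    [hCn : C.Normal] (hC : Cfsg.HasNormalPComplement p C) (hidx : ∃ j : ℕ, C.index = p ^ j) :
    Cfsg.HasNormalPComplement p G := by
  obtain ⟨M₀, hM₀n, hcop, k, hk⟩ := hasNormalPComplement_iff_exists.1 hC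
  haveI := hM₀n
  obtain ⟨j, hj⟩ := hidx
  rw [hasNormalPComplement_iff_exists]
  have hcard : Nat.card (M₀.map C.subtype) = Nat.card M₀ :=
    Subgroup.card_map_of_injective C.subtype_injective
  refine ⟨M₀.map C.subtype, ?_, by rw [hcard]; exact hcop, k + j, ?_⟩
  · refine ⟨fun x hx g => ?_⟩
    obtain ⟨x₀, hx₀, rfl⟩ := hx
    -- the conjugate of `M₀` by `g`, inside `C`
    set D : Subgroup G := (M₀.map C.subtype).map (MulAut.conj g).toMonoidHom with hD
    have hDC : D ≤ C := by
      rintro _ ⟨y, ⟨y₀, -, rfl⟩, rfl⟩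
      exact hCn.conj_mem _ y₀.2 g
    have hDcard : Nat.card D = Nat.card M₀ := by
      rw [hD, Subgroup.card_map_of_injective (MulAut.conj g).injective, hcard]
    have hle : D.subgroupOf C ≤ M₀ := by
      apply le_of_coprime_card_index
      rw [card_subgroupOf_of_le hDC, hDcard, hk]
      exact Nat.Coprime.pow_right k hcop
    have hmem : g * (x₀ : G) * g⁻¹ ∈ D := ⟨(x₀ : G), ⟨x₀, hx₀, rfl⟩, rfl⟩
    have h1 : (⟨g * (x₀ : G) * g⁻¹, hDC hmem⟩ : C) ∈ M₀ := hle (Subgroup.mem_subgroupOf.2 hmem)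
    exact ⟨_, h1, rfl⟩
  · rw [Subgroup.index_map_subtype, hk, hj, pow_add]

/-- lifting a normal `p`-complement through a central `p`-subgroup -/
theorem npc_of_central_quotient {X : Type u} [Group X] [Finite X] {p : ℕ} [hp : Fact p.Prime]
    (Z : Subgroup X) [hZn : Z.Normal] (hZc : Z ≤ Subgroup.center X) (hZp : IsPGroup p Z)
    (h : Cfsg.HasNormalPComplement p (X ⧸ Z)) : Cfsg.HasNormalPComplement p X := by
  obtain ⟨Mb, hMbn, hcop, k, hk⟩ := hasNormalPComplement_iff_exists.1 h
  set π := QuotientGroup.mk' Z with hπ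
  have hπs : Function.Surjective π := QuotientGroup.mk'_surjective Z
  set L := Mb.comap π with hL
  haveI hLn : L.Normal := hMbn.comap π
  have hZL : Z ≤ L := by
    intro z hz
    rw [hL, Subgroup.mem_comap, hπ, QuotientGroup.mk'_apply, (QuotientGroup.eq_one_iff z).2 hz]
    exact Mb.one_mem
  have hLidx : L.index = p ^ k := by
    rw [hL, Subgroup.index_comap_of_surjective Mb hπs, hk]
  obtain ⟨a, ha⟩ := IsPGroup.iff_card.1 hZp
  -- the order of `L`
  have hLcard : Nat.card L = Nat.card Mb * Nat.card Z := by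
    have h1 : Nat.card (L.map π) * Nat.card Z = Nat.card L := by
      rw [hπ, ← Subgroup.relIndex_ker, QuotientGroup.ker_mk']
      exact relIndex_mul_card_of_le hZL
    rw [hL, Subgroup.map_comap_eq_self_of_surjective hπs] at h1
    exact h1.symm
  -- `L` has a normal `p`-complement
  have hLp : Cfsg.HasNormalPComplement p L := by
    haveI : (Z.subgroupOf L).Normal := Subgroup.Normal.subgroupOf hZn L
    have hZLcard : Nat.card (Z.subgroupOf L) = Nat.card Z := card_subgroupOf_of_le hZL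
    have hZLidx : (Z.subgroupOf L).index = Nat.card Mb := by
      have h1 := (Z.subgroupOf L).card_mul_index
      rw [hZLcard, hLcard, mul_comm] at h1
      exact Nat.eq_of_mul_eq_mul_right Nat.card_pos h1
    have hcop' : (Nat.card (Z.subgroupOf L)).Coprime (Z.subgroupOf L).index := by
      rw [hZLcard, hZLidx, ha]
      exact (Nat.Coprime.pow_right a hcop).symm
    obtain ⟨Q, hQ⟩ := Subgroup.exists_right_complement'_of_coprime hcop'
    rw [hasNormalPComplement_iff_exists]
    have hQcard : Nat.card Q = Nat.card Mb := by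
      rw [← hZLidx]; exact (hQ.symm.index_eq_card).symm
    have hQidx : Q.index = p ^ a := by
      rw [hQ.index_eq_card, hZLcard, ha]
    refine ⟨Q, ?_, by rw [hQcard]; exact hcop, a, hQidx⟩
    -- `Q` is normal in `L = Z Q` since `Z` is central
    refine ⟨fun q hq l => ?_⟩
    have hl : l ∈ (Z.subgroupOf L) ⊔ Q := by rw [hQ.sup_eq_top]; exact Subgroup.mem_top l
    obtain ⟨z, hz, q', hq', rfl⟩ := Subgroup.mem_sup_of_normal_left.1 hl
    have hzc : ∀ y : L, z * y = y * z := by
      intro y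
      apply Subtype.ext
      have := Subgroup.mem_center_iff.1 (hZc (Subgroup.mem_subgroupOf.1 hz)) (y : X)
      exact this.symm
    have h1 : z * q' * q * (z * q')⁻¹ = q' * q * q'⁻¹ := by
      have e1 : z * q' * q * (z * q')⁻¹ = z * (q' * q * q'⁻¹) * z⁻¹ := by group
      rw [e1, hzc (q' * q * q'⁻¹)]
      group
    rw [h1]
    exact Q.mul_mem (Q.mul_mem hq' hq) (Q.inv_mem hq')
  exact npc_of_normal_of_index L hLp ⟨k, hLidx⟩

end KChain

end Cfsg.Agent.Helper1
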