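import Mathlib
import Cfsg.Prelude.Def_PLocal
import Cfsg.Agent.Helper1.Card
import Cfsg.Agent.Helper1.KChainA

set_option autoImplicit false

/-!
The `K`-chain on finite `p`-groups: self-centralizing property, and the unfolding inside an ambient
group.
-/

namespace Cfsg.Agent.Helper1

namespace KChain

open ThompsonRed

universe u

theorem zj_ne_bot {p : ℕ} [hp : Fact p.Prime] (R : Type u) [Group R] [Finite R]
    (hR : IsPGroup p R) [hnt : Nontrivial R] : zj R ≠ ⊥ :=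
  zjFunctor_ne_bot R hR hnt

theorem two_mul_card_quot_le {p : ℕ} [hp : Fact p.Prime] (R : Type u) [Group R] [Finite R]
    (hR : IsPGroup p R) [hnt : Nontrivial R] : 2 * Nat.card (cz R ⧸ zc R) ≤ Nat.card R := by
  have h1 : Nat.card (cz R) = Nat.card (cz R ⧸ zc R) * Nat.card (zc R) :=
    Subgroup.card_eq_card_quotient_mul_card_subgroup (zc R)
  have h2 : Nat.card (zc R) = Nat.card (zj R) := card_subgroupOf_of_le (zj_le_cz R)
  have h3 : 1 < Nat.card (zj R) := by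
    rw [Subgroup.one_lt_card_iff_ne_bot]
    exact zj_ne_bot R hR
  have h4 : Nat.card (cz R) ≤ Nat.card R := Subgroup.card_le_card_group (cz R)
  have h5 : Nat.card (cz R ⧸ zc R) * 2 ≤ Nat.card (cz R ⧸ zc R) * Nat.card (zc R) :=
    Nat.mul_le_mul_left _ (by rw [h2]; exact h3)
  omega

theorem zj_le_W_succ (n : ℕ) (R : Type u) [Group R] : zj R ≤ W (n + 1) R := by
  intro z hz
  rw [mem_W_succ]
  refine ⟨zj_le_cz R hz, ?_⟩
  have h1 : (⟨z, zj_le_cz R hz⟩ : cz R) ∈ zc R := mem_zc.2 hz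
  have h2 : QuotientGroup.mk' (zc R) ⟨z, zj_le_cz R hz⟩ = 1 := by
    rw [QuotientGroup.mk'_apply]
    exact (QuotientGroup.eq_one_iff _).2 h1
  rw [h2]
  exact Subgroup.one_mem _

/-- `K_b(R)` contains its centralizer, for a `p`-group `R` of order at most `b`. -/
theorem centralizer_W_le {p : ℕ} [hp : Fact p.Prime] : ∀ (b : ℕ) (R : Type u) [Group R]
    [Finite R], IsPGroup p R → Nat.card R ≤ b →
    Subgroup.centralizer (W b R : Set R) ≤ W b R := by
  intro b
  induction b with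
  | zero =>
    intro R _ _ _ hb
    have : 0 < Nat.card R := Nat.card_pos
    omega
  | succ b ih =>
    intro R _ _ hR hb x hx
    rcases subsingleton_or_nontrivial R with hs | hnt
    · rw [Subsingleton.elim x 1]
      exact Subgroup.one_mem _
    have hxc : x ∈ cz R := by
      rw [mem_cz]
      intro z hz
      exact Subgroup.mem_centralizer_iff.1 hx z (zj_le_W_succ b R hz)
    rw [mem_W_succ]
    refine ⟨hxc, ?_⟩
    have hQp : IsPGroup p (cz R ⧸ zc R) := (hR.to_subgroup (cz R)).to_quotient (zc R)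
    have hQcard : Nat.card (cz R ⧸ zc R) ≤ b := by
      have := two_mul_card_quot_le R hR
      have hpos : 0 < Nat.card (cz R ⧸ zc R) := Nat.card_pos
      omega
    apply ih (cz R ⧸ zc R) hQp hQcard
    rw [Subgroup.mem_centralizer_iff]
    intro q hq
    obtain ⟨s, rfl⟩ := QuotientGroup.mk'_surjective (zc R) q
    have hs : (s : R) ∈ W (b + 1) R := mem_W_succ.2 ⟨s.2, hq⟩
    have h1 : (s : R) * x = x * (s : R) := Subgroup.mem_centralizer_iff.1 hx _ hs
    have h2 : s * (⟨x, hxc⟩ : cz R) = ⟨x, hxc⟩ * s := Subtype.ext h1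
    rw [← map_mul, ← map_mul, h2]

/-- Unfolding `K_{n+1}(T)` for a subgroup `T` of an ambient group in which `Z(J(T))` is normal. -/
theorem kF_succ_of {X : Type u} [Group X] (n : ℕ) (T Z' : Subgroup X) [hZn : Z'.Normal]
    (hZ : zjFunctor.of T = Z') :
    (kF (n + 1)).of T ≤ Subgroup.centralizer (Z' : Set X) ∧
    ((kF (n + 1)).of T).subgroupOf (Subgroup.centralizer (Z' : Set X)) =
      ((kF n).of (((T ⊓ Subgroup.centralizer (Z' : Set X)).subgroupOf
          (Subgroup.centralizer (Z' : Set X))).map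
          (QuotientGroup.mk' (Z'.subgroupOf (Subgroup.centralizer (Z' : Set X)))))).comap
        (QuotientGroup.mk' (Z'.subgroupOf (Subgroup.centralizer (Z' : Set X)))) := by
  obtain ⟨C, hC⟩ : ∃ C, C = Subgroup.centralizer (Z' : Set X) := ⟨_, rfl⟩
  rw [← hC]
  obtain ⟨π, hπ⟩ : ∃ π, π = QuotientGroup.mk' (Z'.subgroupOf C) := ⟨_, rfl⟩
  rw [← hπ]
  have hZmem : ∀ x : X, x ∈ Z' ↔ ∃ t : T, t ∈ zj ↥T ∧ (t : X) = x := by
    intro x
    rw [← hZ]
    exact Iff.rfl
  have claim1 : ∀ s : cz ↥T, ((T.subtype.comp (cz ↥T).subtype) s) ∈ C := by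
    intro s
    rw [hC, Subgroup.mem_centralizer_iff]
    intro z hz
    obtain ⟨t, ht, rfl⟩ := (hZmem z).1 hz
    have := mem_cz.1 s.2 t ht
    exact congrArg Subtype.val this
  obtain ⟨g₀, hg₀⟩ : ∃ g₀ : cz ↥T →* C, g₀ = (T.subtype.comp (cz ↥T).subtype).codRestrict C claim1 :=
    ⟨_, rfl⟩
  have hg₀coe : ∀ s : cz ↥T, ((g₀ s : C) : X) = ((s : T) : X) := by
    intro s; rw [hg₀]; rfl
  obtain ⟨f, hf⟩ : ∃ f : cz ↥T →* C ⧸ Z'.subgroupOf C, f = π.comp g₀ := ⟨_, rfl⟩
  have hfapp : ∀ s, f s = π (g₀ s) := by intro s; rw [hf]; rfl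
  have hπ1 : ∀ c : C, π c = 1 ↔ (c : X) ∈ Z' := by
    intro c
    rw [hπ, QuotientGroup.mk'_apply, QuotientGroup.eq_one_iff, Subgroup.mem_subgroupOf]
  have hker : f.ker = zc ↥T := by
    ext s
    rw [MonoidHom.mem_ker, hfapp, hπ1, hg₀coe, mem_zc, hZmem]
    constructor
    · rintro ⟨t, ht, hts⟩
      have : t = (s : T) := Subtype.ext hts
      rwa [← this]
    · intro hs
      exact ⟨(s : T), hs, rfl⟩
  have hrange : f.range = ((T ⊓ C).subgroupOf C).map π := by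
    ext y
    constructor
    · rintro ⟨s, rfl⟩
      refine ⟨g₀ s, ?_, (hfapp s).symm⟩
      rw [SetLike.mem_coe, Subgroup.mem_subgroupOf, hg₀coe]
      exact ⟨(s : T).2, by rw [← hg₀coe]; exact (g₀ s).2⟩
    · rintro ⟨c, hc, rfl⟩
      rw [SetLike.mem_coe, Subgroup.mem_subgroupOf] at hc
      have hr : (⟨(c : X), hc.1⟩ : T) ∈ cz ↥T := by
        rw [mem_cz]
        intro t ht
        apply Subtype.ext
        have hcC : (c : X) ∈ Subgroup.centralizer (Z' : Set X) := hC ▸ c.2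
        exact Subgroup.mem_centralizer_iff.1 hcC (t : X) ((hZmem _).2 ⟨t, ht, rfl⟩)
      refine ⟨⟨⟨(c : X), hc.1⟩, hr⟩, ?_⟩
      rw [hfapp]
      congr 1
      apply Subtype.ext
      rw [hg₀coe]
  have hU := kF_of_range n f hker
  constructor
  · rintro _ ⟨t, ht, rfl⟩
    have ht' : t ∈ W (n + 1) ↥T := ht
    obtain ⟨htc, -⟩ := mem_W_succ.1 ht'
    exact claim1 ⟨t, htc⟩
  · rw [← hrange, hU]
    ext y
    rw [Subgroup.mem_subgroupOf, Subgroup.mem_comap]
    constructor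
    · rintro ⟨t, ht, hty⟩
      have ht' : t ∈ W (n + 1) ↥T := ht
      obtain ⟨htc, htW⟩ := mem_W_succ.1 ht'
      refine ⟨⟨t, htc⟩, htW, ?_⟩
      rw [hfapp]
      congr 1
      apply Subtype.ext
      rw [hg₀coe]
      exact hty
    · rintro ⟨s, hs, hsy⟩
      have hs' : QuotientGroup.mk' (zc ↥T) s ∈ W n (cz ↥T ⧸ zc ↥T) := hs
      rw [hfapp, hπ, QuotientGroup.mk'_apply, QuotientGroup.mk'_apply, QuotientGroup.eq,
        Subgroup.mem_subgroupOf] at hsy
      obtain ⟨t, ht, htz⟩ := (hZmem _).1 hsy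
      have ht1 : QuotientGroup.mk' (zc ↥T) ⟨t, zj_le_cz ↥T ht⟩ = 1 := by
        rw [QuotientGroup.mk'_apply]
        exact (QuotientGroup.eq_one_iff _).2 (mem_zc.2 ht)
      have hst : ((s * ⟨t, zj_le_cz ↥T ht⟩ : cz ↥T) : T) ∈ W (n + 1) ↥T := by
        rw [mem_W_succ]
        refine ⟨(s * ⟨t, zj_le_cz ↥T ht⟩ : cz ↥T).2, ?_⟩
        have : (⟨((s * ⟨t, zj_le_cz ↥T ht⟩ : cz ↥T) : T), (s * ⟨t, zj_le_cz ↥T ht⟩ : cz ↥T).2⟩ : cz ↥T)
            = s * ⟨t, zj_le_cz ↥T ht⟩ := rfl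
        rw [this, map_mul, ht1, mul_one]
        exact hs'
      refine ⟨_, hst, ?_⟩
      show ((s : T) : X) * (t : X) = (y : X)
      rw [htz, ← hg₀coe]
      show ((g₀ s : C) : X) * (((g₀ s)⁻¹ * y : C) : X) = (y : X)
      rw [← Subgroup.coe_mul, mul_inv_cancel_left]

end KChain

end Cfsg.Agent.Helper1
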