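import Mathlib
import Cfsg.Prelude.Def_PLocal
import Cfsg.Prelude.Def_Transfer
import Cfsg.Agent.Helper1.KChainB
import Cfsg.Agent.Helper1.KChainC
import Cfsg.Agent.Helper1.TNa
import Cfsg.Agent.Helper1.Hall
import Cfsg.Agent.Helper5.CentricRadical

set_option autoImplicit false

/-!
The main theorem on the `K`-chain: for odd `p`, a finite group `G` with Sylow `p`-subgroup `P` has a
normal `p`-complement iff `N_G(K(P))/C_G(K(P))` is a `p`-group.
-/

namespace Cfsg.Agent.Helper1

namespace KChain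

open ThompsonRed

universe u

variable {G : Type u} [Group G]

theorem npc_of_sylow_eq_bot [Finite G] {p : ℕ} [hp : Fact p.Prime] (P : Sylow p G)
    (hP : (P : Subgroup G) = ⊥) : Cfsg.HasNormalPComplement p G := by
  rw [hasNormalPComplement_iff_exists]
  refine ⟨⊤, inferInstance, ?_, 0, by simp⟩
  rw [Subgroup.card_top]
  have h1 : ¬ p ∣ (P : Subgroup G).index := P.not_dvd_index
  have h2 : (P : Subgroup G).index = Nat.card G := by rw [hP, Subgroup.index_bot]
  rw [h2] at h1
  exact ((Nat.Prime.coprime_iff_not_dvd hp.out).2 h1).symm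

theorem cond_subgroupOf {p : ℕ} {M K : Subgroup G} (KM : Subgroup M)
    (hK : KM.map M.subtype = K) (h : Cond p K) : Cond p KM := by
  intro g hgN hgo
  have h1 : (g : G) ∈ Subgroup.normalizer (K : Set G) := by
    rw [← hK]
    exact Subgroup.le_normalizer_map M.subtype ⟨g, hgN, rfl⟩
  have h2 : (orderOf (g : G)).Coprime p := by rwa [Subgroup.orderOf_coe]
  have h3 := h (g : G) h1 h2
  rw [Subgroup.mem_centralizer_iff] at h3 ⊢
  intro x hx
  apply Subtype.ext
  exact h3 (x : G) (hK ▸ ⟨x, hx, rfl⟩)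

theorem caseA {p : ℕ} [hp : Fact p.Prime] (hp2 : p ≠ 2) (b : ℕ) (G : Type u) [Group G] [Finite G]
    (ihm : ∀ m' < Nat.card G, ∀ (G' : Type u) [Group G'] [Finite G'] (P' : Sylow p G'),
      Nat.card G' = m' → Nat.card (P' : Subgroup G') ≤ b + 1 →
      Cond p ((kF (b + 1)).of (P' : Subgroup G')) → Cfsg.HasNormalPComplement p G')
    (P : Sylow p G) (hb : Nat.card (P : Subgroup G) ≤ b + 1)
    (hcond : Cond p ((kF (b + 1)).of (P : Subgroup G)))
    (hM : Subgroup.normalizer ((zjFunctor.of (P : Subgroup G) : Subgroup G) : Set G) ≠ ⊤) :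
    Cfsg.HasNormalPComplement p G := by
  obtain ⟨M, hMdef⟩ : ∃ M, M = Subgroup.normalizer ((zjFunctor.of (P : Subgroup G) : Subgroup G) : Set G) :=
    ⟨_, rfl⟩
  rw [← hMdef] at hM
  have hPM : (P : Subgroup G) ≤ M := by
    rw [hMdef]
    exact Subgroup.le_normalizer.trans (zjFunctor.normalizer_le _)
  have hMlt : Nat.card M < Nat.card G :=
    lt_of_le_of_ne (Subgroup.card_le_card_group M) (fun h => hM (Subgroup.eq_top_of_card_eq M h))
  have hnpcM : Cfsg.HasNormalPComplement p M := by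
    refine ihm (Nat.card M) hMlt M (P.subtype hPM) rfl ?_ ?_
    · rw [Sylow.coe_subtype, card_subgroupOf_of_le hPM]
      exact hb
    · rw [Sylow.coe_subtype]
      exact cond_subgroupOf _ ((kF (b + 1)).of_subgroupOf hPM) hcond
  apply glauberman_npc hp2 G P
  rw [← zjFunctor_of, ← hMdef]
  exact hnpcM

theorem caseB {p : ℕ} [hp : Fact p.Prime] (b : ℕ)
    (ihb : ∀ (m : ℕ) (G' : Type u) [Group G'] [Finite G'] (P' : Sylow p G'),
      Nat.card G' = m → Nat.card (P' : Subgroup G') ≤ b → Cond p ((kF b).of (P' : Subgroup G')) →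
      Cfsg.HasNormalPComplement p G')
    (G : Type u) [Group G] [Finite G] (P : Sylow p G) (hb : Nat.card (P : Subgroup G) ≤ b + 1)
    (hcond : Cond p ((kF (b + 1)).of (P : Subgroup G)))
    (Z' : Subgroup G) [hZn : Z'.Normal] (hZ' : zjFunctor.of (P : Subgroup G) = Z')
    (hZ'ne : Z' ≠ ⊥) : Cfsg.HasNormalPComplement p G := by
  obtain ⟨hK'C, hK'sub⟩ := kF_succ_of b (P : Subgroup G) Z' hZ'
  obtain ⟨K', hK'⟩ : ∃ K', K' = (kF (b + 1)).of (P : Subgroup G) := ⟨_, rfl⟩
  rw [← hK'] at hK'C hK'sub hcond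
  -- facts on `Z'`
  have hZ'P : Z' ≤ (P : Subgroup G) := hZ' ▸ zjFunctor.of_le _
  have hZ'p : IsPGroup p Z' := P.2.to_le hZ'P
  have hZ'comm : ∀ x ∈ Z', ∀ y ∈ Z', x * y = y * x := by
    intro x hx y hy
    rw [← hZ'] at hx hy
    obtain ⟨x', hx', rfl⟩ := hx
    obtain ⟨y', hy', rfl⟩ := hy
    have h1 : x' * y' = y' * x' := zj_comm hx' hy'
    exact congrArg Subtype.val h1
  have hZ'K' : Z' ≤ K' := by
    rw [← hZ', hK']
    exact Subgroup.map_mono (zj_le_W_succ b _)
  have hzj₁ : zjFunctor.of ((P : Subgroup G) ⊓ Subgroup.centralizer (Z' : Set G)) = Z' := by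
    have hJ : Cfsg.thompsonSubgroupAOf ((P : Subgroup G) ⊓ Subgroup.centralizer (Z' : Set G)) =
        Cfsg.thompsonSubgroupAOf (P : Subgroup G) := by
      apply TN.thompsonSubgroupAOf_eq_of_le inf_le_left
      refine le_inf (Subgroup.map_subtype_le _) ?_
      intro x hx
      rw [Subgroup.mem_centralizer_iff]
      intro z hz
      rw [← hZ', zjFunctor_of] at hz
      have hz2 : z ∈ Subgroup.centralizer (Cfsg.thompsonSubgroupAOf (P : Subgroup G) : Set G) := hz.2
      exact (Subgroup.mem_centralizer_iff.1 hz2 x hx).symm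
    rw [zjFunctor_of]
    unfold Cfsg.centerThompsonAOf
    rw [hJ, ← hZ', zjFunctor_of]
    rfl
  obtain ⟨hK₁C, hK₁sub⟩ := kF_succ_of b ((P : Subgroup G) ⊓ Subgroup.centralizer (Z' : Set G)) Z' hzj₁
  have hN0 := (kF (b + 1)).normalizer_le ((P : Subgroup G) ⊓ Subgroup.centralizer (Z' : Set G))
  obtain ⟨C, hC⟩ : ∃ C, C = Subgroup.centralizer (Z' : Set G) := ⟨_, rfl⟩
  rw [← hC] at hK'C hK'sub hK₁C hK₁sub hN0
  haveI hCn : C.Normal := hC ▸ Subgroup.normal_centralizer
  have hZ'C : Z' ≤ C := by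
    intro x hx
    rw [hC, Subgroup.mem_centralizer_iff]
    intro y hy
    exact hZ'comm y hy x hx
  -- `K₁ = K'`
  have hinf : (P : Subgroup G) ⊓ C ⊓ C = (P : Subgroup G) ⊓ C := by rw [inf_assoc, inf_idem]
  rw [hinf] at hK₁sub
  have hKeq : (kF (b + 1)).of ((P : Subgroup G) ⊓ C) = K' := by
    have h1 : (((kF (b + 1)).of ((P : Subgroup G) ⊓ C)).subgroupOf C).map C.subtype =
        (K'.subgroupOf C).map C.subtype := by rw [hK₁sub, hK'sub]
    rwa [Subgroup.subgroupOf_map_subtype, Subgroup.subgroupOf_map_subtype, inf_eq_left.2 hK₁C,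
      inf_eq_left.2 hK'C] at h1
  rw [hKeq] at hN0
  obtain ⟨π, hπ⟩ : ∃ π : C →* C ⧸ Z'.subgroupOf C, π = QuotientGroup.mk' (Z'.subgroupOf C) :=
    ⟨_, rfl⟩
  rw [← hπ] at hK'sub
  have hπs : Function.Surjective π := hπ ▸ QuotientGroup.mk'_surjective (Z'.subgroupOf C)
  -- the Sylow subgroup of `C`
  obtain ⟨H, hH⟩ : ∃ H : Subgroup C, H = ((P : Subgroup G) ⊓ C).subgroupOf C := ⟨_, rfl⟩
  rw [← hH] at hK'sub
  have hHp : IsPGroup p H := by
    have h1 : IsPGroup p ((P : Subgroup G) ⊓ C : Subgroup G) := P.2.to_le inf_le_left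
    rw [hH]
    exact h1.comap_subtype
  have hHidx : ¬ p ∣ H.index := by
    have h1 := Cfsg.Agent.Helper5.not_dvd_relIndex_of_normal (P : Subgroup G) C P.not_dvd_index
    rw [hH, Subgroup.inf_subgroupOf_right]
    exact h1
  have hZcH : Z'.subgroupOf C ≤ H := by
    intro c hc
    rw [Subgroup.mem_subgroupOf] at hc
    rw [hH, Subgroup.mem_subgroupOf]
    exact ⟨hZ'P hc, c.2⟩
  -- the Sylow subgroup of the quotient
  obtain ⟨Pb, hPb⟩ : ∃ Pb : Subgroup (C ⧸ Z'.subgroupOf C), Pb = H.map π := ⟨_, rfl⟩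
  rw [← hPb] at hK'sub
  have hPbp : IsPGroup p Pb := hPb ▸ hHp.map π
  have hPbidx : ¬ p ∣ Pb.index := by
    intro h
    rw [hPb] at h
    exact hHidx (dvd_trans h (Subgroup.index_map_dvd H hπs))
  have hPbcard : Nat.card Pb ≤ b := by
    have h1 : Nat.card Pb * Nat.card (Z'.subgroupOf C) = Nat.card H := by
      rw [hPb, hπ]
      exact card_map_mk'_mul_card (Z'.subgroupOf C) H hZcH
    have h2 : Nat.card (Z'.subgroupOf C) = Nat.card Z' := card_subgroupOf_of_le hZ'C
    have h3 : Nat.card H = Nat.card ((P : Subgroup G) ⊓ C : Subgroup G) := by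
      rw [hH]
      exact card_subgroupOf_of_le inf_le_right
    have h4 : Nat.card ((P : Subgroup G) ⊓ C : Subgroup G) ≤ Nat.card (P : Subgroup G) :=
      Subgroup.card_le_of_le inf_le_left
    have h5 : 1 < Nat.card Z' := by
      rw [Subgroup.one_lt_card_iff_ne_bot]
      exact hZ'ne
    have h6 : 0 < Nat.card Pb := Nat.card_pos
    have h7 : Nat.card Pb * 2 ≤ Nat.card Pb * Nat.card (Z'.subgroupOf C) :=
      Nat.mul_le_mul_left _ (by rw [h2]; exact h5)
    omega
  have hPb'coe : ((hPbp.toSylow hPbidx : Sylow p (C ⧸ Z'.subgroupOf C)) :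
      Subgroup (C ⧸ Z'.subgroupOf C)) = Pb := IsPGroup.toSylow_coe _ _
  have hcondb : Cond p ((kF b).of ((hPbp.toSylow hPbidx : Sylow p (C ⧸ Z'.subgroupOf C)) :
      Subgroup (C ⧸ Z'.subgroupOf C))) := by
    rw [hPb'coe]
    intro y hyN hyo
    obtain ⟨c, rfl, hco⟩ := exists_lift_coprime π hπs y hyo
    have h1 : c ∈ Subgroup.normalizer ((((kF b).of Pb).comap π : Subgroup C) : Set C) :=
      Subgroup.le_normalizer_comap π hyN
    rw [← hK'sub] at h1
    have h2 : (c : G) ∈ Subgroup.normalizer (K' : Set G) := by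
      have h3 := Subgroup.le_normalizer_map C.subtype ⟨c, h1, rfl⟩
      rwa [Subgroup.subgroupOf_map_subtype, inf_eq_left.2 hK'C] at h3
    have h4 := hcond (c : G) h2 (by rwa [Subgroup.orderOf_coe])
    rw [Subgroup.mem_centralizer_iff] at h4 ⊢
    intro q hq
    obtain ⟨x, rfl⟩ := hπs q
    have hx : x ∈ ((kF b).of Pb).comap π := hq
    rw [← hK'sub, Subgroup.mem_subgroupOf] at hx
    have h5 := h4 (x : G) hx
    have h6 : x * c = c * x := Subtype.ext h5
    rw [← map_mul, ← map_mul, h6]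
  have hnpcb : Cfsg.HasNormalPComplement p (C ⧸ Z'.subgroupOf C) :=
    ihb (Nat.card (C ⧸ Z'.subgroupOf C)) (C ⧸ Z'.subgroupOf C) (hPbp.toSylow hPbidx) rfl
      (by rw [hPb'coe]; exact hPbcard) hcondb
  -- `C` has a normal `p`-complement
  have hZcc : Z'.subgroupOf C ≤ Subgroup.center C := by
    intro c hc
    rw [Subgroup.mem_subgroupOf] at hc
    rw [Subgroup.mem_center_iff]
    intro d
    apply Subtype.ext
    have hd : (d : G) ∈ Subgroup.centralizer (Z' : Set G) := hC ▸ d.2
    exact (Subgroup.mem_centralizer_iff.1 hd (c : G) hc).symm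
  have hZcp : IsPGroup p (Z'.subgroupOf C) := hZ'p.comap_subtype
  have hnpcC : Cfsg.HasNormalPComplement p C :=
    npc_of_central_quotient (Z'.subgroupOf C) hZcc hZcp hnpcb
  -- Frattini argument
  have hfr := Sylow.normalizer_sup_eq_top (hHp.toSylow hHidx)
  rw [IsPGroup.toSylow_coe, hH, Subgroup.subgroupOf_map_subtype, hinf] at hfr
  have hquot : IsPGroup p (G ⧸ C) := by
    intro q
    obtain ⟨g, rfl⟩ := QuotientGroup.mk_surjective q
    have hg : g ∈ Subgroup.normalizer (((P : Subgroup G) ⊓ C : Subgroup G) : Set G) ⊔ C := by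
      rw [hfr]
      exact Subgroup.mem_top g
    obtain ⟨n, hn, c, hc, rfl⟩ := Subgroup.mem_sup_of_normal_right.1 hg
    obtain ⟨a, m', hm', ham⟩ :=
      Nat.exists_eq_pow_mul_and_not_dvd (orderOf_pos n).ne' p hp.out.ne_one
    have hmp : m'.Coprime p := ((Nat.Prime.coprime_iff_not_dvd hp.out).2 hm').symm
    refine ⟨a, ?_⟩
    have hnpow : n ^ (p ^ a) ∈ C := by
      have h1 : n ^ (p ^ a) ∈ Subgroup.normalizer (K' : Set G) := hN0 (Subgroup.pow_mem _ hn _)
      have h2 : (orderOf (n ^ (p ^ a))).Coprime p := by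
        have h3 : (n ^ (p ^ a)) ^ m' = 1 := by rw [← pow_mul, ← ham, pow_orderOf_eq_one]
        exact Nat.Coprime.coprime_dvd_left (orderOf_dvd_of_pow_eq_one h3) hmp
      have h4 := hcond _ h1 h2
      rw [hC]
      exact Subgroup.centralizer_le hZ'K' h4
    have h5 : (QuotientGroup.mk (n * c) : G ⧸ C) = QuotientGroup.mk n := by
      rw [QuotientGroup.mk_mul, (QuotientGroup.eq_one_iff c).2 hc, mul_one]
    rw [h5, ← QuotientGroup.mk_pow, QuotientGroup.eq_one_iff]
    exact hnpow
  obtain ⟨j, hj⟩ := IsPGroup.iff_card.1 hquot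
  exact npc_of_normal_of_index C hnpcC ⟨j, by rw [Subgroup.index_eq_card]; exact hj⟩

/-- The main induction. -/
theorem T {p : ℕ} [hp : Fact p.Prime] (hp2 : p ≠ 2) :
    ∀ (b m : ℕ) (G : Type u) [Group G] [Finite G] (P : Sylow p G),
      Nat.card G = m → Nat.card (P : Subgroup G) ≤ b → Cond p ((kF b).of (P : Subgroup G)) →
      Cfsg.HasNormalPComplement p G := by
  intro b
  induction b with
  | zero =>
    intro m G _ _ P _ hb _
    have : 0 < Nat.card (P : Subgroup G) := Nat.card_pos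
    omega
  | succ b ihb =>
    intro m
    induction m using Nat.strong_induction_on with
    | _ m ihm =>
    intro G _ _ P hm hb hcond
    by_cases hP1 : (P : Subgroup G) = ⊥
    · exact npc_of_sylow_eq_bot P hP1
    have hZ'ne : zjFunctor.of (P : Subgroup G) ≠ ⊥ :=
      of_ne_bot zjFunctor (fun R _ _ => zjFunctor_ne_bot R) P.2 hP1
    by_cases hM : Subgroup.normalizer ((zjFunctor.of (P : Subgroup G) : Subgroup G) : Set G) = ⊤
    · haveI : (zjFunctor.of (P : Subgroup G)).Normal := Subgroup.normalizer_eq_top_iff.1 hM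
      exact caseB b ihb G P hb hcond _ rfl hZ'ne
    · refine caseA hp2 b G ?_ P hb hcond hM
      intro m' hm' G' _ _ P' hG' hb' hcond'
      exact ihm m' (hm ▸ hm') G' P' hG' hb' hcond'

/-- Existence of a characteristic self-centralizing subgroup controlling normal `p`-complements. -/
theorem exists_K {p : ℕ} [hp : Fact p.Prime] (hp2 : p ≠ 2) (S : Type u) [Group S] [Finite S]
    (hS : IsPGroup p S) :
    ∃ K : Subgroup S, K.Characteristic ∧ Subgroup.centralizer (K : Set S) ≤ K ∧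
      ∀ (G : Type u) [Group G] [Finite G] (P : Sylow p G) (e : ↥(P : Subgroup G) ≃* S),
        Cfsg.HasNormalPComplement p G ↔
          ∀ g ∈ Subgroup.normalizer (((K.comap (e : ↥(P : Subgroup G) →* S)).map
              (P : Subgroup G).subtype : Subgroup G) : Set G),
            (orderOf g).Coprime p →
              g ∈ Subgroup.centralizer (((K.comap (e : ↥(P : Subgroup G) →* S)).map
                (P : Subgroup G).subtype : Subgroup G) : Set G) := by
  refine ⟨W (Nat.card S) S, ?_, centralizer_W_le _ S hS le_rfl, ?_⟩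
  · rw [Subgroup.characteristic_iff_map_eq]
    intro ϕ
    exact W_map_equiv _ ϕ
  · intro G _ _ P e
    have hKe : ((W (Nat.card S) S).comap (e : ↥(P : Subgroup G) →* S)).map
        (P : Subgroup G).subtype = (kF (Nat.card S)).of (P : Subgroup G) := by
      show _ = (W (Nat.card S) ↥(P : Subgroup G)).map _
      congr 1
      rw [← W_map_equiv _ e]
      exact Subgroup.comap_map_eq_self_of_injective e.injective _
    rw [hKe]
    constructor
    · intro h
      exact cond_of_npc h _ (P.2.to_le ((kF _).of_le _))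
    · intro h
      exact T hp2 (Nat.card S) (Nat.card G) G P rfl (by rw [Nat.card_congr e.toEquiv]) h

end KChain

end Cfsg.Agent.Helper1
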