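import Mathlib
import Cfsg.Agent.Helper1.Basic
import Cfsg.Agent.Helper1.Coprime
import Cfsg.Agent.Helper3.IrrCyclic

set_option autoImplicit false

/-!
Kegel's lemma on permutable conjugates.
-/

namespace Cfsg.Agent.Helper1

open scoped Pointwise

universe u

variable {G : Type u} [Group G]

/-- `Y X ⊆ X Y` -/
def Permutes (X Y : Subgroup G) : Prop :=
  ∀ y ∈ Y, ∀ x ∈ X, ∃ x' ∈ X, ∃ y' ∈ Y, y * x = x' * y'

theorem permutes_of_coe_eq {X Y S : Subgroup G}
    (h : (S : Set G) = (X : Set G) * (Y : Set G)) : Permutes X Y := by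
  intro y hy x hx
  have hxS : x ∈ S := by
    show x ∈ (S : Set G); rw [h]; exact ⟨x, hx, 1, Y.one_mem, mul_one x⟩
  have hyS : y ∈ S := by
    show y ∈ (S : Set G); rw [h]; exact ⟨1, X.one_mem, y, hy, one_mul y⟩
  have h1 : y * x ∈ (S : Set G) := S.mul_mem hyS hxS
  rw [h] at h1
  obtain ⟨x', hx', y', hy', e⟩ := h1
  exact ⟨x', hx', y', hy', e.symm⟩

theorem sup_le_of_coe_eq {X Y S : Subgroup G}
    (h : (S : Set G) = (X : Set G) * (Y : Set G)) : X ⊔ Y ≤ S := by
  apply sup_le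
  · intro x hx
    show x ∈ (S : Set G); rw [h]; exact ⟨x, hx, 1, Y.one_mem, mul_one x⟩
  · intro y hy
    show y ∈ (S : Set G); rw [h]; exact ⟨1, X.one_mem, y, hy, one_mul y⟩

theorem Permutes.mem_sup {X Y : Subgroup G} (h : Permutes X Y) {g : G} (hg : g ∈ X ⊔ Y) :
    ∃ x ∈ X, ∃ y ∈ Y, g = x * y := by
  let T : Subgroup G :=
    { carrier := {g | ∃ x ∈ X, ∃ y ∈ Y, g = x * y}
      one_mem' := ⟨1, X.one_mem, 1, Y.one_mem, (mul_one 1).symm⟩
      mul_mem' := by
        rintro _ _ ⟨x, hx, y, hy, rfl⟩ ⟨x', hx', y', hy', rfl⟩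
        obtain ⟨x'', hx'', y'', hy'', e⟩ := h y hy x' hx'
        refine ⟨x * x'', X.mul_mem hx hx'', y'' * y', Y.mul_mem hy'' hy', ?_⟩
        calc x * y * (x' * y') = x * (y * x') * y' := by group
          _ = x * (x'' * y'') * y' := by rw [e]
          _ = x * x'' * (y'' * y') := by group
      inv_mem' := by
        rintro _ ⟨x, hx, y, hy, rfl⟩
        obtain ⟨x'', hx'', y'', hy'', e⟩ := h y⁻¹ (Y.inv_mem hy) x⁻¹ (X.inv_mem hx)
        exact ⟨x'', hx'', y'', hy'', by rw [mul_inv_rev, e]⟩ }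
  have hle : X ⊔ Y ≤ T := by
    apply sup_le
    · intro x hx; exact ⟨x, hx, 1, Y.one_mem, (mul_one x).symm⟩
    · intro y hy; exact ⟨1, X.one_mem, y, hy, (one_mul y).symm⟩
  exact hle hg

theorem Permutes.conj {X Y : Subgroup G} (h : Permutes X Y) (c : G) :
    Permutes (MulAut.conj c • X) (MulAut.conj c • Y) := by
  intro y hy x hx
  rw [mem_conj_smul] at hy hx
  obtain ⟨x', hx', y', hy', e⟩ := h _ hy _ hx
  refine ⟨c * x' * c⁻¹, conj_mem_conj_smul hx', c * y' * c⁻¹, conj_mem_conj_smul hy', ?_⟩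
  calc y * x = c * ((c⁻¹ * y * c) * (c⁻¹ * x * c)) * c⁻¹ := by group
    _ = c * (x' * y') * c⁻¹ := by rw [e]
    _ = c * x' * c⁻¹ * (c * y' * c⁻¹) := by group

theorem inv_eq_pow_of_finite [Finite G] (x : G) : x⁻¹ = x ^ (orderOf x - 1) := by
  have hn : 0 < orderOf x := orderOf_pos x
  apply inv_eq_of_mul_eq_one_right
  rw [← pow_succ', Nat.sub_add_cancel hn, pow_orderOf_eq_one]

theorem Permutes.sup [Finite G] {X₁ X₂ Y : Subgroup G} (h₁ : Permutes X₁ Y)
    (h₂ : Permutes X₂ Y) : Permutes (X₁ ⊔ X₂) Y := by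
  have hcl : X₁ ⊔ X₂ = Subgroup.closure ((X₁ : Set G) ∪ (X₂ : Set G)) := by
    rw [Subgroup.closure_union, Subgroup.closure_eq, Subgroup.closure_eq]
  intro y hy x hx
  revert y
  rw [hcl] at hx
  have hmul : ∀ a b : G, (∀ y ∈ Y, ∃ x' ∈ X₁ ⊔ X₂, ∃ y' ∈ Y, y * a = x' * y') →
      (∀ y ∈ Y, ∃ x' ∈ X₁ ⊔ X₂, ∃ y' ∈ Y, y * b = x' * y') →
      (∀ y ∈ Y, ∃ x' ∈ X₁ ⊔ X₂, ∃ y' ∈ Y, y * (a * b) = x' * y') := by
    intro a b ha hb y hy
    obtain ⟨a', ha', y', hy', e⟩ := ha y hy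
    obtain ⟨b', hb', y'', hy'', e'⟩ := hb y' hy'
    refine ⟨a' * b', Subgroup.mul_mem _ ha' hb', y'', hy'', ?_⟩
    calc y * (a * b) = (y * a) * b := by group
      _ = a' * (y' * b) := by rw [e]; group
      _ = a' * b' * y'' := by rw [e']; group
  have hone : ∀ y ∈ Y, ∃ x' ∈ X₁ ⊔ X₂, ∃ y' ∈ Y, y * 1 = x' * y' := by
    intro y hy
    exact ⟨1, Subgroup.one_mem _, y, hy, by rw [mul_one, one_mul]⟩
  refine Subgroup.closure_induction (p := fun x _ => ∀ y ∈ Y, ∃ x' ∈ X₁ ⊔ X₂, ∃ y' ∈ Y,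
    y * x = x' * y') ?_ hone ?_ ?_ hx
  · rintro x (hx | hx) y hy
    · obtain ⟨x', hx', y', hy', e⟩ := h₁ y hy x hx
      exact ⟨x', Subgroup.mem_sup_left hx', y', hy', e⟩
    · obtain ⟨x', hx', y', hy', e⟩ := h₂ y hy x hx
      exact ⟨x', Subgroup.mem_sup_right hx', y', hy', e⟩
  · intro a b _ _ ha hb
    exact hmul a b ha hb
  · intro a _ ha
    rw [inv_eq_pow_of_finite a]
    generalize orderOf a - 1 = k
    induction k with
    | zero => rw [pow_zero]; exact hone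
    | succ k ih => rw [pow_succ]; exact hmul _ _ ih ha

theorem kegel_aux [Finite G] (B : Subgroup G)
    (hNB : ∀ N : Subgroup G, N.Normal → B ≤ N → N = ⊤) :
    ∀ (n : ℕ) (A : Subgroup G), A.index = n →
      (∀ N : Subgroup G, N.Normal → A ≤ N → N = ⊤) →
      (∀ x : G, Permutes A (MulAut.conj x • B)) →
      (∀ x : G, A ⊔ MulAut.conj x • B ≠ ⊤) → False := by
  intro n
  induction n using Nat.strong_induction_on with
  | _ n ih =>
  intro A hAn hNA hperm hne
  -- `A` is not normal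
  have hAnn : ¬ A.Normal := by
    intro hn
    have h1 := hNA A hn le_rfl
    apply hne 1
    rw [h1, top_sup_eq]
  -- some conjugate of `B` does not normalize `A`
  have hex : ∃ x : G, ¬ MulAut.conj x • B ≤ Subgroup.normalizer (A : Set G) := by
    by_contra hall
    rw [not_exists] at hall
    have h1 : B ≤ (Subgroup.normalizer (A : Set G)).normalCore := by
      intro b hb x
      have := hall x
      rw [not_not] at this
      exact this (conj_mem_conj_smul hb)
    have h2 := hNB _ (Subgroup.normalCore_normal _) h1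
    have h3 : Subgroup.normalizer (A : Set G) = ⊤ :=
      top_le_iff.1 (h2 ▸ Subgroup.normalCore_le _)
    exact hAnn (Subgroup.normalizer_eq_top_iff.1 h3)
  obtain ⟨x, hx⟩ := hex
  obtain ⟨b, hbB, hbN⟩ := SetLike.not_le_iff_exists.1 hx
  have hlt : A < A ⊔ MulAut.conj b • A := by
    refine lt_of_le_of_ne le_sup_left ?_
    intro heq
    apply hbN
    have h1 : MulAut.conj b • A ≤ A := by
      have : MulAut.conj b • A ≤ A ⊔ MulAut.conj b • A := le_sup_right
      rwa [← heq] at this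
    apply Cfsg.Agent.Helper3.IrrCyclic.mem_normalizer_of_conj_le
    intro a ha
    exact h1 (conj_mem_conj_smul ha)
  set A₁ := A ⊔ MulAut.conj b • A with hA₁
  set L := A ⊔ MulAut.conj x • B with hL
  have hbL : b ∈ L := Subgroup.mem_sup_right hbB
  have hA₁L : A₁ ≤ L := by
    apply sup_le le_sup_left
    intro g hg
    rw [mem_conj_smul] at hg
    have h1 : g = b * (b⁻¹ * g * b) * b⁻¹ := by group
    rw [h1]
    exact L.mul_mem (L.mul_mem hbL (Subgroup.mem_sup_left hg)) (L.inv_mem hbL)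
  have hperm₁ : ∀ g : G, Permutes A₁ (MulAut.conj g • B) := by
    intro g
    apply Permutes.sup (hperm g)
    have h1 := (hperm (b⁻¹ * g)).conj b
    rwa [← mul_smul, ← map_mul, mul_inv_cancel_left] at h1
  by_cases hall : ∀ g : G, A₁ ⊔ MulAut.conj g • B ≠ ⊤
  · exact ih A₁.index (hAn ▸ Subgroup.index_strictAnti hlt) A₁ rfl
      (fun N hN hle => hNA N hN (hlt.le.trans hle)) hperm₁ hall
  · rw [not_forall] at hall
    obtain ⟨g, hg⟩ := hall
    rw [not_not] at hg
    obtain ⟨a₁, ha₁, c, hc, e⟩ := (hperm₁ g).mem_sup (hg ▸ Subgroup.mem_top (x * g⁻¹))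
    have h1 : MulAut.conj x • B = MulAut.conj a₁ • (MulAut.conj g • B) := by
      have h2 : MulAut.conj c • (MulAut.conj g • B) = MulAut.conj g • B :=
        conj_smul_eq_of_mem_normalizer (Subgroup.le_normalizer hc)
      have h3 : x = a₁ * c * g := by rw [← e]; group
      rw [h3, map_mul, map_mul, mul_smul, mul_smul, h2]
    have h2 : MulAut.conj g • B ≤ L := by
      intro y hy
      have h3 : a₁ * y * a₁⁻¹ ∈ MulAut.conj x • B := by
        rw [h1]; exact conj_mem_conj_smul hy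
      have h4 : a₁ ∈ L := hA₁L ha₁
      have h5 : y = a₁⁻¹ * (a₁ * y * a₁⁻¹) * a₁ := by group
      rw [h5]
      exact L.mul_mem (L.mul_mem (L.inv_mem h4) (Subgroup.mem_sup_right h3)) h4
    apply hne x
    rw [← hL, eq_top_iff, ← hg]
    exact sup_le hA₁L h2

/-- **Kegel's lemma**. -/
theorem kegel [Finite G] (A B : Subgroup G)
    (h : ∀ x : G, ∃ S : Subgroup G, S ≠ ⊤ ∧
      (S : Set G) = (A : Set G) * ((MulAut.conj x • B : Subgroup G) : Set G)) :
    ∃ N : Subgroup G, N.Normal ∧ N ≠ ⊤ ∧ (A ≤ N ∨ B ≤ N) := by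
  by_contra hcon
  rw [not_exists] at hcon
  have hNA : ∀ N : Subgroup G, N.Normal → A ≤ N → N = ⊤ := by
    intro N hN hle
    by_contra hne
    exact hcon N ⟨hN, hne, Or.inl hle⟩
  have hNB : ∀ N : Subgroup G, N.Normal → B ≤ N → N = ⊤ := by
    intro N hN hle
    by_contra hne
    exact hcon N ⟨hN, hne, Or.inr hle⟩
  refine kegel_aux B hNB A.index A rfl hNA ?_ ?_
  · intro x
    obtain ⟨S, -, hS⟩ := h x
    exact permutes_of_coe_eq hS
  · intro x
    obtain ⟨S, hS1, hS⟩ := h x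
    intro htop
    apply hS1
    rw [eq_top_iff, ← htop]
    exact sup_le_of_coe_eq hS

end Cfsg.Agent.Helper1
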