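import Mathlib
import Cfsg.Prelude.Def_Transfer
import Cfsg.Agent.Helper1.Frobenius
import Cfsg.Agent.Helper1.NormalPCompl

set_option autoImplicit false

/-!
Normal `2`-complements from small abelian Sylow `2`-subgroups, via `N(T)/C(T) ↪ Aut(T)`.
-/

namespace Cfsg.Agent.Helper1

universe u

variable {G : Type u} [Group G]

/-- Automorphisms permute the nonidentity elements. -/
def autPermNonOne (T : Type u) [Group T] : MulAut T →* Equiv.Perm {t : T // t ≠ 1} where
  toFun σ := σ.toEquiv.subtypeEquiv (fun a => (MulEquiv.map_ne_one_iff σ).symm)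
  map_one' := by ext; rfl
  map_mul' σ τ := by ext; rfl

theorem autPermNonOne_injective (T : Type u) [Group T] : Function.Injective (autPermNonOne T) := by
  intro σ τ h
  ext t
  by_cases ht : t = 1
  · rw [ht, map_one, map_one]
  · have := congrArg (fun f : Equiv.Perm {t : T // t ≠ 1} => ((f ⟨t, ht⟩ : {t : T // t ≠ 1}) : T)) h
    exact this

theorem card_mulAut_dvd_factorial (T : Type u) [Group T] [Finite T] :
    Nat.card (MulAut T) ∣ (Nat.card T - 1).factorial := by
  have h := Subgroup.card_dvd_of_injective (autPermNonOne T) (autPermNonOne_injective T)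
  rwa [Nat.card_perm, card_ne_one_subtype] at h

theorem normalizer_le_centralizer_of_coprime_aut [Finite G] (T : Subgroup G)
    (hTc : IsMulCommutative T) (hcop : Nat.Coprime T.index (Nat.card (MulAut T))) :
    Subgroup.normalizer (T : Set G) ≤ Subgroup.centralizer (T : Set G) := by
  set N := Subgroup.normalizer (T : Set G) with hN
  have hTN : T ≤ N := Subgroup.le_normalizer
  have hTC : T ≤ Subgroup.centralizer (T : Set G) := by
    intro a ha
    rw [Subgroup.mem_centralizer_iff]
    intro b hb
    have := mul_comm' (⟨b, hb⟩ : T) ⟨a, ha⟩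
    exact congrArg Subtype.val this
  have h1 : T.normalizerMonoidHom.ker.index ∣ Nat.card (MulAut T) := by
    rw [Subgroup.index_ker]
    exact Subgroup.card_subgroup_dvd_card _
  have h2 : T.normalizerMonoidHom.ker.index ∣ T.index := by
    rw [Subgroup.normalizerMonoidHom_ker]
    have h3 : (Subgroup.centralizer (T : Set G)).relIndex N ∣ T.relIndex N :=
      Subgroup.relIndex_dvd_of_le_left N hTC
    have h4 : T.relIndex N ∣ T.index := Dvd.intro _ (Subgroup.relIndex_mul_index hTN)
    exact h3.trans h4
  have h5 : T.normalizerMonoidHom.ker.index = 1 := Nat.eq_one_of_dvd_coprimes hcop h2 h1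
  rw [Subgroup.index_eq_one, Subgroup.normalizerMonoidHom_ker, Subgroup.subgroupOf_eq_top] at h5
  exact h5

theorem klein_sylow_normal_complement [Finite G] (T : Sylow 2 G) (hT : IsKleinFour T)
    (h3 : ¬ 3 ∣ Nat.card G) : Cfsg.HasNormalPComplement 2 G := by
  apply hasNormalPComplement_of_normalizer_le_centralizer T
  have hTc : IsMulCommutative (T : Subgroup G) := IsKleinFour.isMulCommutative
  apply normalizer_le_centralizer_of_coprime_aut (T : Subgroup G) hTc
  have h6 : Nat.card (MulAut (T : Subgroup G)) ∣ 6 := by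
    have := card_mulAut_dvd_factorial (T : Subgroup G)
    have hc : Nat.card (T : Subgroup G) = 4 := IsKleinFour.card_four
    rw [hc] at this
    exact this
  apply Nat.Coprime.coprime_dvd_right h6
  have h2 : ¬ 2 ∣ (T : Subgroup G).index := T.not_dvd_index
  have h3' : ¬ 3 ∣ (T : Subgroup G).index := fun h => h3 (h.trans (Subgroup.index_dvd_card _))
  have : (6 : ℕ) = 2 * 3 := by norm_num
  rw [this]
  exact Nat.Coprime.mul_right ((Nat.Prime.coprime_iff_not_dvd Nat.prime_two).2 h2).symm
    ((Nat.Prime.coprime_iff_not_dvd Nat.prime_three).2 h3').symm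

theorem five_not_dvd_card_mulAut_of_card_eight (T : Type u) [Group T] [Finite T]
    (h8 : Nat.card T = 8) : ¬ 5 ∣ Nat.card (MulAut T) := by
  intro h5
  have hp5 : Fact (Nat.Prime 5) := ⟨by norm_num⟩
  have hfin : Finite (MulAut T) :=
    Finite.of_injective (autPermNonOne T) (autPermNonOne_injective T)
  obtain ⟨σ, hσ⟩ := exists_prime_orderOf_dvd_card' 5 h5
  have hS : IsPGroup 5 (Subgroup.zpowers σ) :=
    IsPGroup.of_card (n := 1) (by rw [Nat.card_zpowers, hσ, pow_one])
  have hmod := hS.card_modEq_card_fixedPoints T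
  let F : Subgroup T :=
    { carrier := {t | σ t = t}
      mul_mem' := by
        intro a b ha hb
        show σ (a * b) = a * b
        rw [map_mul, ha, hb]
      one_mem' := map_one σ
      inv_mem' := by
        intro a ha
        show σ a⁻¹ = a⁻¹
        rw [map_inv, ha] }
  have hFeq : (MulAction.fixedPoints (Subgroup.zpowers σ) T) = (F : Set T) := by
    ext t
    constructor
    · intro ht
      exact ht ⟨σ, Subgroup.mem_zpowers σ⟩
    · intro ht τ
      obtain ⟨τ, hτ⟩ := τ
      obtain ⟨k, rfl⟩ := Subgroup.mem_zpowers_iff.1 hτ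
      show (σ ^ k) • t = t
      have hst : σ ∈ MulAction.stabilizer (MulAut T) t := MulAction.mem_stabilizer_iff.2 ht
      exact MulAction.mem_stabilizer_iff.1 (Subgroup.zpow_mem _ hst k)
  have hcardF : Nat.card (MulAction.fixedPoints (Subgroup.zpowers σ) T) = Nat.card F := by
    rw [hFeq]; rfl
  rw [hcardF, h8] at hmod
  have hdvd : Nat.card F ∣ 8 := h8 ▸ Subgroup.card_subgroup_dvd_card F
  have hF8 : Nat.card F = 8 := by
    have hd : Nat.card F ∈ Nat.divisors 8 := Nat.mem_divisors.2 ⟨hdvd, by norm_num⟩
    have h8d : Nat.divisors 8 = {1, 2, 4, 8} := by decide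
    rw [h8d] at hd
    simp only [Finset.mem_insert, Finset.mem_singleton] at hd
    unfold Nat.ModEq at hmod
    rcases hd with h | h | h | h
    · rw [h] at hmod; norm_num at hmod
    · rw [h] at hmod; norm_num at hmod
    · rw [h] at hmod; norm_num at hmod
    · exact h
  have hFtop : F = ⊤ := (Subgroup.card_eq_iff_eq_top F).1 (hF8.trans h8.symm)
  have hσ1 : σ = 1 := by
    ext t
    have : t ∈ F := hFtop ▸ Subgroup.mem_top t
    exact this
  rw [hσ1, orderOf_one] at hσ
  norm_num at hσ

theorem elemAb8_sylow_normal_complement [Finite G] (T : Sylow 2 G) (h8 : Nat.card T = 8)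
    (he : ∀ x : T, x * x = 1) (h3 : ¬ 3 ∣ Nat.card G) (h7 : ¬ 7 ∣ Nat.card G) :
    Cfsg.HasNormalPComplement 2 G := by
  apply hasNormalPComplement_of_normalizer_le_centralizer T
  have hTc : IsMulCommutative (T : Subgroup G) := by
    refine ⟨⟨fun a b => ?_⟩⟩
    -- groups of exponent two are commutative
    have h1 := he (a * b)
    have ha := he a
    have hb := he b
    calc a * b = a * (a * b * (a * b)) * b := by rw [h1, mul_one]
      _ = (a * a) * b * a * (b * b) := by group
      _ = b * a := by rw [ha, hb, one_mul, mul_one]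
  apply normalizer_le_centralizer_of_coprime_aut (T : Subgroup G) hTc
  have h5040 : Nat.card (MulAut (T : Subgroup G)) ∣ 5040 := by
    have := card_mulAut_dvd_factorial (T : Subgroup G)
    rw [h8] at this
    exact this
  have h5 := five_not_dvd_card_mulAut_of_card_eight (T : Subgroup G) h8
  apply Nat.coprime_of_dvd
  intro r hr hr1 hr2
  have hr5040 : r ∣ 5040 := hr2.trans h5040
  have hrG : r ∣ Nat.card G := hr1.trans (Subgroup.index_dvd_card _)
  have hfac : (5040 : ℕ) = 2 ^ 4 * 3 ^ 2 * 5 * 7 := by norm_num
  rw [hfac] at hr5040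
  rcases (Nat.Prime.dvd_mul hr).1 hr5040 with h | h
  · rcases (Nat.Prime.dvd_mul hr).1 h with h | h
    · rcases (Nat.Prime.dvd_mul hr).1 h with h | h
      · have : r = 2 := (Nat.prime_dvd_prime_iff_eq hr Nat.prime_two).1 (hr.dvd_of_dvd_pow h)
        subst this
        exact T.not_dvd_index hr1
      · have : r = 3 := (Nat.prime_dvd_prime_iff_eq hr Nat.prime_three).1 (hr.dvd_of_dvd_pow h)
        subst this
        exact h3 hrG
    · have : r = 5 := (Nat.prime_dvd_prime_iff_eq hr (by norm_num)).1 h
      subst this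
      exact h5 hr2
  · have : r = 7 := (Nat.prime_dvd_prime_iff_eq hr (by norm_num)).1 h
    subst this
    exact h7 hrG

end Cfsg.Agent.Helper1
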