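import Mathlib
import Cfsg.Agent.Helper6.KuDefs
import Cfsg.Agent.Helper6.CovPrim
import Cfsg.Agent.Helper6.DegSqC

/-!
# S4607 piece G2b: the dimension of the left ideal generated by a block idempotent of `ℂ[G]`
-/

set_option autoImplicit false

namespace Cfsg.Agent.Helper6.Ku

open Cfsg.Agent.Helper6 Cfsg.Agent.Helper6.Cov
open scoped ComplexConjugate

universe u
variable {G : Type u} [Group G]

/-- the trace of right multiplication by `w` on the group algebra is `|G|` times the coefficient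
of `w` at the identity -/
theorem h1_trace_mulRight [Fintype G] (w : MonoidAlgebra ℂ G) :
    LinearMap.trace ℂ (MonoidAlgebra ℂ G) (LinearMap.mulRight ℂ w) =
      (Nat.card G : ℂ) * w.coeff 1 := by
  classical
  rw [LinearMap.trace_eq_matrix_trace ℂ (MonoidAlgebra.basis G ℂ)]
  unfold Matrix.trace
  have h : ∀ g : G, Matrix.diag (LinearMap.toMatrix (MonoidAlgebra.basis G ℂ)
      (MonoidAlgebra.basis G ℂ) (LinearMap.mulRight ℂ w)) g = w.coeff 1 := by
    intro g
    rw [Matrix.diag_apply, LinearMap.toMatrix_apply, MonoidAlgebra.basis_apply,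
      LinearMap.mulRight_apply]
    change (MonoidAlgebra.single g 1 * w).coeff g = _
    rw [MonoidAlgebra.coeff_single_mul_apply, inv_mul_cancel, one_mul]
  rw [Finset.sum_congr rfl (fun g _ => h g), Finset.sum_const, Finset.card_univ, nsmul_eq_mul,
    Nat.card_eq_fintype_card]

/-- the finrank of `ℂ[G] e` for an idempotent `e` is `|G|` times the coefficient at the identity -/
theorem h1_finrank_leftIdeal_of_idem [Fintype G] (e : MonoidAlgebra ℂ G) (he : e * e = e) :
    (Module.finrank ℂ (leftIdeal ℂ e) : ℂ) = (Nat.card G : ℂ) * e.coeff 1 := by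
  rw [← h1_trace_mulRight]
  have h : LinearMap.IsProj (leftIdeal ℂ e) (LinearMap.mulRight ℂ e) := by
    refine ⟨fun x => LinearMap.mem_range_self _ x, ?_⟩
    rintro x ⟨y, rfl⟩
    rw [LinearMap.mulRight_apply, LinearMap.mulRight_apply, mul_assoc, he]
  exact h.trace.symm

theorem finrank_leftIdeal_blockIdem [Fintype G] (B : Set (Cfsg.IrrCharacter G)) :
    Module.finrank ℂ (leftIdeal ℂ (gaOfFun (Cfsg.blockCoeff B))) =
      ∑ᶠ χ ∈ B, Cfsg.charDegree (χ : G → ℂ) ^ 2 := by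
  have : Finite (Cfsg.IrrCharacter G) := irr_finite
  have h1 := h1_finrank_leftIdeal_of_idem (gaOfFun (Cfsg.blockCoeff B))
    (gaOfFun_blockCoeff_idem B)
  rw [gaOfFun_coeff] at h1
  have hdeg : ∀ φ : Cfsg.IrrCharacter G, (φ : G → ℂ) 1 = (Cfsg.charDegree (φ : G → ℂ) : ℂ) :=
    fun φ => (charDegree_cast_of_isCharacter (IsIrrCharacter.isCharacter φ.2)).symm
  have h2 : Cfsg.blockCoeff B (1 : G) =
      (Nat.card G : ℂ)⁻¹ * ((∑ᶠ χ ∈ B, Cfsg.charDegree (χ : G → ℂ) ^ 2 : ℕ) : ℂ) := by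
    unfold Cfsg.blockCoeff
    congr 1
    have h3 : ((∑ᶠ χ ∈ B, Cfsg.charDegree (χ : G → ℂ) ^ 2 : ℕ) : ℂ) =
        ∑ᶠ χ ∈ B, ((Cfsg.charDegree (χ : G → ℂ) ^ 2 : ℕ) : ℂ) :=
      (Nat.castAddMonoidHom ℂ).map_finsum_mem _ (Set.toFinite B)
    rw [h3]
    apply finsum_mem_congr rfl
    intro χ _
    rw [hdeg χ, Complex.conj_natCast, Nat.cast_pow, sq]
  have hG : (Nat.card G : ℂ) ≠ 0 := by
    rw [Nat.cast_ne_zero]
    exact Nat.card_pos.ne'
  rw [h2, ← mul_assoc, mul_inv_cancel₀ hG, one_mul] at h1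
  exact_mod_cast h1

end Cfsg.Agent.Helper6.Ku
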