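import Mathlib
import Cfsg.Prelude.Def_Sporadic_a
import Cfsg.Prelude.Def_Spor_Conway
import Cfsg.Agent.Helper9.Golay.Code
import Cfsg.Agent.Helper9.Leech.Basic

set_option autoImplicit false

/-!
A totally singular subspace of dimension at least 12 of the Leech lattice modulo 2
(for the quadratic form `sqNorm / 16 mod 2`), in elementary terms: an additive subgroup `M`
of the lattice on which `32 ∣ sqNorm`, containing 4096 vectors pairwise incongruent modulo
twice the lattice.
-/

namespace Cfsg.Agent.Helper1.LeechSing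

open Cfsg Cfsg.Agent.Helper9.Golay Cfsg.Agent.Helper9.Leech

/-- lattice vectors all of whose coordinates are divisible by 4. -/
def Msub : AddSubgroup ↥Cfsg.leechLattice where
  carrier := {x | ∀ p : GolayPt, (4 : ℤ) ∣ (x : GolayPt → ℤ) p}
  zero_mem' := by
    intro p
    show (4 : ℤ) ∣ (0 : ℤ)
    exact dvd_zero _
  add_mem' := by
    intro a b ha hb p
    show (4 : ℤ) ∣ (a : GolayPt → ℤ) p + (b : GolayPt → ℤ) p
    exact dvd_add (ha p) (hb p)
  neg_mem' := by
    intro a ha p
    show (4 : ℤ) ∣ -((a : GolayPt → ℤ) p)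
    exact (dvd_neg).mpr (ha p)

theorem two_dvd_sq_sub (z : ℤ) : (2 : ℤ) ∣ z ^ 2 - z := by
  have h := Int.even_mul_pred_self z
  have e : z ^ 2 - z = z * (z - 1) := by ring
  rw [e]
  exact even_iff_two_dvd.mp h

theorem sqNorm_dvd (x : ↥Cfsg.leechLattice) (hx : x ∈ Msub) :
    (32 : ℤ) ∣ Cfsg.sqNorm ((x : ↥Cfsg.leechLattice) : GolayPt → ℤ) := by
  have hx4 : ∀ p : GolayPt, (4 : ℤ) ∣ (x : GolayPt → ℤ) p := hx
  have hmem : (x : GolayPt → ℤ) ∈ leechSet := (mem_leechLattice_iff _).mp x.2
  obtain ⟨m, hpar, hsum, -⟩ := hmem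
  have hxy : ∀ p, (x : GolayPt → ℤ) p = 4 * ((x : GolayPt → ℤ) p / 4) :=
    fun p => (Int.mul_ediv_cancel' (hx4 p)).symm
  have h1 : ∑ p, (x : GolayPt → ℤ) p = 4 * ∑ p, ((x : GolayPt → ℤ) p / 4) := by
    rw [Finset.mul_sum]
    exact Finset.sum_congr rfl (fun p _ => hxy p)
  have h2 : Cfsg.sqNorm (x : GolayPt → ℤ) = 16 * ∑ p, ((x : GolayPt → ℤ) p / 4) ^ 2 := by
    unfold Cfsg.sqNorm
    rw [Finset.mul_sum]
    apply Finset.sum_congr rfl
    intro p _
    have := hxy p
    generalize (x : GolayPt → ℤ) p / 4 = c at this ⊢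
    rw [this]; ring
  have h3 : (2 : ℤ) ∣ ∑ p, (((x : GolayPt → ℤ) p / 4) ^ 2 - ((x : GolayPt → ℤ) p / 4)) :=
    Finset.dvd_sum (fun p _ => two_dvd_sq_sub _)
  rw [Finset.sum_sub_distrib] at h3
  have hp0 := hpar none
  have hx0 := hxy none
  unfold Int.ModEq at hsum hp0
  rw [h2]
  obtain ⟨c, hc⟩ := h3
  omega

/-! ### the 4096 vectors -/

/-- a bit as an integer. -/
def cb (b : Fin 12 → Bool) (k : Fin 12) : ℤ := if b k then 1 else 0

theorem cb_cases (b : Fin 12 → Bool) (k : Fin 12) : cb b k = 0 ∨ cb b k = 1 := by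
  unfold cb
  split_ifs <;> simp

theorem cb_inj {b b' : Fin 12 → Bool} {k : Fin 12} (h : cb b k = cb b' k) : b k = b' k := by
  unfold cb at h
  cases hb : b k <;> cases hb' : b' k <;> simp_all

/-- number of set bits among the first 11. -/
def cnt (b : Fin 12 → Bool) : ℤ := ∑ k : Fin 11, cb b (Fin.castSucc k)

/-- coordinates, indexed by `Fin 24`. -/
def gfun (b : Fin 12 → Bool) (i : Fin 24) : ℤ :=
  if h : i.val < 12 then
    (if i.val < 11 then 4 * cb b ⟨i.val, h⟩ else 4 * cnt b + 8 * cb b ⟨i.val, h⟩)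
  else 0

theorem gfun_eq (b : Fin 12 → Bool) (i : Fin 24) (k : Fin 12) (hk : i.val = k.val) :
    gfun b i = if k.val < 11 then 4 * cb b k else 4 * cnt b + 8 * cb b k := by
  unfold gfun
  have h : i.val < 12 := by rw [hk]; exact k.2
  rw [dif_pos h]
  have e : (⟨i.val, h⟩ : Fin 12) = k := Fin.ext hk
  rw [e, hk]

theorem gfun_high (b : Fin 12 → Bool) (i : Fin 24) (h : 12 ≤ i.val) : gfun b i = 0 := by
  unfold gfun
  rw [dif_neg (by omega)]

/-- the vector attached to a bit pattern. -/
def gv (b : Fin 12 → Bool) : GolayPt → ℤ := fun p => gfun b (ptEquiv p)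

theorem ptEquiv_val (p : GolayPt) : (ptEquiv p).val = ptIdx p := rfl

theorem gv_eq (b : Fin 12 → Bool) (p : GolayPt) (k : Fin 12) (hk : ptIdx p = k.val) :
    gv b p = if k.val < 11 then 4 * cb b k else 4 * cnt b + 8 * cb b k :=
  gfun_eq b (ptEquiv p) k hk

theorem gv_high (b : Fin 12 → Bool) (p : GolayPt) (h : 12 ≤ ptIdx p) : gv b p = 0 :=
  gfun_high b (ptEquiv p) h

theorem gv_dvd (b : Fin 12 → Bool) (p : GolayPt) : (4 : ℤ) ∣ gv b p := by
  unfold gv gfun
  split_ifs
  · exact dvd_mul_right _ _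
  · exact ⟨cnt b + 2 * cb b _, by ring⟩
  · exact dvd_zero _

theorem sum_gfun (b : Fin 12 → Bool) :
    ∑ i : Fin 24, gfun b i = 8 * cnt b + 8 * cb b (Fin.last 11) := by
  have h := Fin.sum_univ_add (a := 12) (b := 12) (fun i : Fin (12 + 12) => gfun b i)
  have e : (∑ i : Fin 24, gfun b i) = ∑ i : Fin (12 + 12), gfun b i := rfl
  rw [e, h]
  have h2 : ∀ i : Fin 12, gfun b (Fin.natAdd 12 i) = 0 := by
    intro i
    apply gfun_high
    simp [Fin.natAdd]
  have h1 : ∀ i : Fin 12, gfun b (Fin.castAdd 12 i) =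
      if i.val < 11 then 4 * cb b i else 4 * cnt b + 8 * cb b i := by
    intro i
    exact gfun_eq b _ i (by simp)
  rw [Finset.sum_congr rfl (fun i _ => h1 i), Finset.sum_congr rfl (fun i _ => h2 i)]
  rw [Finset.sum_const_zero, add_zero, Fin.sum_univ_castSucc]
  have h3 : ∀ i : Fin 11, (if (Fin.castSucc i).val < 11 then 4 * cb b (Fin.castSucc i)
      else 4 * cnt b + 8 * cb b (Fin.castSucc i)) = 4 * cb b (Fin.castSucc i) := by
    intro i
    rw [if_pos]
    simp
  rw [Finset.sum_congr rfl (fun i _ => h3 i)]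
  rw [if_neg (by simp), ← Finset.mul_sum]
  unfold cnt
  ring

theorem gv_sum (b : Fin 12 → Bool) :
    ∑ p, gv b p = 8 * cnt b + 8 * cb b (Fin.last 11) :=
  (Equiv.sum_comp ptEquiv (gfun b)).trans (sum_gfun b)

theorem gv_mem (b : Fin 12 → Bool) : gv b ∈ Cfsg.leechLattice := by
  apply AddSubgroup.subset_closure
  apply Spor.mem_leechSet_of_const_mod_four (gv b) 0 0 (Int.ModEq.refl _)
  · intro p
    exact (Int.modEq_zero_iff_dvd).mpr (gv_dvd b p)
  · rw [gv_sum, mul_zero]
    exact (Int.modEq_zero_iff_dvd).mpr ⟨cnt b + cb b (Fin.last 11), by ring⟩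

theorem code_small_all :
    codeList.all (fun m => decide (m < 4096 → m = 0)) = true := by decide +kernel

theorem code_small {m : ℕ} (hm : m ∈ codeList) (hlt : m < 4096) : m = 0 := by
  have h := List.all_eq_true.mp code_small_all m hm
  exact of_decide_eq_true h hlt

/-- the point with a given index below 12. -/
def sk (k : Fin 12) : GolayPt := idxPt ⟨k.val, by omega⟩

theorem ptIdx_sk (k : Fin 12) : ptIdx (sk k) = k.val := ptIdx_idxPt _

theorem gv_inj (b b' : Fin 12 → Bool) (u : GolayPt → ℤ) (hu : u ∈ Cfsg.leechLattice)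
    (h : gv b - gv b' = 2 • u) : b = b' := by
  have hpt : ∀ p, gv b p - gv b' p = 2 * u p := by
    intro p
    have h0 := congrFun h p
    rw [two_nsmul] at h0
    simp only [Pi.sub_apply, Pi.add_apply] at h0
    omega
  obtain ⟨m, hpar, hsum, hres⟩ := (mem_leechSet_iff u).mp ((mem_leechLattice_iff u).mp hu)
  have hu0 : ∀ p, 12 ≤ ptIdx p → u p = 0 := by
    intro p hp
    have h1 : gv b p = 0 := gv_high b p hp
    have h2 : gv b' p = 0 := gv_high b' p hp
    have h3 := hpt p
    rw [h1, h2] at h3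
    omega
  have hcode : encW (resW u 2) ∈ codeList := (mem_golayCode_iff _).mp (hres 2)
  have hlt : encW (resW u 2) < 2 ^ 12 := by
    apply Nat.lt_pow_two_of_testBit
    intro i hi
    by_cases hi24 : 24 ≤ i
    · exact testBit_encW_ge _ i hi24
    · have hi' : i < 24 := by omega
      have h1 := testBit_encW (resW u 2) (idxPt ⟨i, hi'⟩)
      rw [ptIdx_idxPt] at h1
      simp only at h1
      rw [h1]
      have h0 : u (idxPt ⟨i, hi'⟩) = 0 := hu0 _ (by rw [ptIdx_idxPt]; exact hi)
      have h2 : resW u 2 (idxPt ⟨i, hi'⟩) = 0 := by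
        unfold resW
        rw [if_neg]
        rw [h0]
        decide
      rw [h2]
      simp
  have hzero : encW (resW u 2) = 0 := code_small hcode (by simpa using hlt)
  have hres0 : resW u 2 = 0 := encW_injective (hzero.trans encW_zero.symm)
  have hne2 : ∀ p, ¬ u p ≡ 2 [ZMOD 4] := by
    intro p hp
    have h0 := congrFun hres0 p
    unfold resW at h0
    rw [if_pos hp] at h0
    exact one_ne_zero h0
  -- the first 11 bits agree
  have hlow : ∀ k : Fin 12, k.val < 11 → cb b k = cb b' k := by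
    intro k hk
    have h1 := gv_eq b (sk k) k (ptIdx_sk k)
    have h2 := gv_eq b' (sk k) k (ptIdx_sk k)
    rw [if_pos hk] at h1 h2
    have h3 := hpt (sk k)
    rw [h1, h2] at h3
    have h4 := hne2 (sk k)
    unfold Int.ModEq at h4
    rcases cb_cases b k with e1 | e1 <;> rcases cb_cases b' k with e2 | e2 <;>
      rw [e1, e2] at h3 ⊢ <;> first | rfl | (exfalso; omega)
  have hcnt : cnt b = cnt b' := by
    unfold cnt
    apply Finset.sum_congr rfl
    intro k _
    exact hlow _ (by simp)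
  -- the last bit
  have hlast : cb b (Fin.last 11) = cb b' (Fin.last 11) := by
    set t : GolayPt := sk (Fin.last 11) with ht
    have h1 := gv_eq b t (Fin.last 11) (ptIdx_sk _)
    have h2 := gv_eq b' t (Fin.last 11) (ptIdx_sk _)
    rw [if_neg (by simp)] at h1 h2
    have h3 := hpt t
    rw [h1, h2, hcnt] at h3
    -- all other coordinates of u vanish
    have hother : ∀ p, p ≠ t → u p = 0 := by
      intro p hp
      by_cases h12 : 12 ≤ ptIdx p
      · exact hu0 p h12
      · have hlt12 : ptIdx p < 12 := by omega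
        by_cases h11 : ptIdx p = 11
        · exfalso
          apply hp
          apply ptIdx_injective
          rw [h11, ht, ptIdx_sk]
          rfl
        · have hk : ptIdx p < 11 := by omega
          have g1 := gv_eq b p ⟨ptIdx p, hlt12⟩ rfl
          have g2 := gv_eq b' p ⟨ptIdx p, hlt12⟩ rfl
          rw [if_pos hk] at g1 g2
          have g3 := hpt p
          rw [g1, g2, hlow ⟨ptIdx p, hlt12⟩ hk] at g3
          omega
    have hs : ∑ p, u p = u t := by
      apply Finset.sum_eq_single t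
      · intro p _ hp
        exact hother p hp
      · intro hn
        exact absurd (Finset.mem_univ t) hn
    have hm := hpar none
    rw [hu0 none (by decide)] at hm
    rw [hs] at hsum
    unfold Int.ModEq at hsum hm
    rcases cb_cases b (Fin.last 11) with e1 | e1 <;>
      rcases cb_cases b' (Fin.last 11) with e2 | e2 <;>
      rw [e1, e2] at h3 ⊢ <;> first | rfl | (exfalso; omega)
  funext k
  by_cases hk : k.val < 11
  · exact cb_inj (hlow k hk)
  · have : k = Fin.last 11 := Fin.ext (by have := k.2; simp only [Fin.val_last]; omega)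
    rw [this]
    exact cb_inj hlast

theorem exists_singular :
    ∃ (M : AddSubgroup ↥Cfsg.leechLattice) (f : Fin 4096 → ↥Cfsg.leechLattice),
      (∀ x ∈ M, (32 : ℤ) ∣ Cfsg.sqNorm ((x : ↥Cfsg.leechLattice) : Cfsg.GolayPt → ℤ)) ∧
      (∀ i, f i ∈ M) ∧
      ∀ i j, (∃ u ∈ Cfsg.leechLattice,
        ((f i : ↥Cfsg.leechLattice) : Cfsg.GolayPt → ℤ) -
          ((f j : ↥Cfsg.leechLattice) : Cfsg.GolayPt → ℤ) = 2 • u) → i = j := by
  have hcard : Fintype.card (Fin 4096) = Fintype.card (Fin 12 → Bool) := by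
    simp
  let e : Fin 4096 ≃ (Fin 12 → Bool) := Fintype.equivOfCardEq hcard
  refine ⟨Msub, fun i => ⟨gv (e i), gv_mem (e i)⟩, fun x hx => sqNorm_dvd x hx, ?_, ?_⟩
  · intro i p
    exact gv_dvd (e i) p
  · rintro i j ⟨u, hu, h⟩
    exact e.injective (gv_inj (e i) (e j) u hu h)

end Cfsg.Agent.Helper1.LeechSing
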