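import Mathlib
import Cfsg.Agent.Helper2.Syl21B
import Cfsg.Agent.Helper2.Syl21D
import Cfsg.Agent.Helper2.ThompsonTransfer2

set_option autoImplicit false

/-!
General lemmas for groups of order 7920 (helper1): permutation parity on 45 points,
automatic centralization of small subgroups by elements of large prime order, existence
of normalized Sylow subgroups, Burnside-transfer contradiction.
-/

namespace Cfsg.Agent.Helper1.M7920

open MulAction
open Cfsg.Agent.Helper2 Cfsg.Agent.Helper2.Syl21 Cfsg.Agent.Helper4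

/-- An involution on 45 points with exactly 23 fixed points is an odd permutation. -/
theorem sign_eq_neg_one_of_23 {α : Type*} [Fintype α] [DecidableEq α] (σ : Equiv.Perm α)
    (h2 : σ ^ 2 = 1) (hcard : Fintype.card α = 45)
    (hfix : (Finset.univ.filter (fun x => σ x = x)).card = 23) :
    Equiv.Perm.sign σ = -1 := by
  have hsupp : σ.support = Finset.univ.filter (fun x => ¬ σ x = x) := by
    ext x
    rw [Equiv.Perm.mem_support, Finset.mem_filter]
    simp
  have hsc : σ.support.card = 22 := by
    have := Finset.card_filter_add_card_filter_not (s := (Finset.univ : Finset α))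
      (fun x => σ x = x)
    rw [hfix, ← hsupp, Finset.card_univ, hcard] at this
    omega
  have hne : σ ≠ 1 := by
    intro h
    rw [h] at hsc
    simp at hsc
  have ho : orderOf σ = 2 := orderOf_eq_prime h2 hne
  obtain ⟨n, hn⟩ := Equiv.Perm.cycleType_prime_order (σ := σ) (by rw [ho]; exact Nat.prime_two)
  rw [ho] at hn
  have hsum := Equiv.Perm.sum_cycleType σ
  rw [hn, Multiset.sum_replicate, hsc, smul_eq_mul] at hsum
  have hn6 : n = 10 := by omega
  rw [Equiv.Perm.sign_of_cycleType, hn, Multiset.sum_replicate, Multiset.card_replicate, hn6]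
  decide

/-- An element of prime order `p` normalizing a subgroup with fewer than `p` elements
centralizes it. -/
theorem mem_centralizer_of_card_lt {G : Type*} [Group G] [Finite G] (p : ℕ) [Fact p.Prime]
    (h : G) (hh : orderOf h = p) (R : Subgroup G)
    (hR : h ∈ Subgroup.normalizer (R : Set G)) (hcard : Nat.card R < p) :
    h ∈ Subgroup.centralizer (R : Set G) := by
  classical
  haveI : Fintype ↥R := Fintype.ofFinite _
  set φ : MulAut ↥R := R.normalizerMonoidHom ⟨h, hR⟩ with hφ
  have hφp : φ ^ p = 1 := by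
    rw [hφ, ← map_pow]
    have : (⟨h, hR⟩ : ↥(Subgroup.normalizer (R : Set G))) ^ p = 1 := by
      apply Subtype.ext
      rw [Subgroup.coe_pow, Subgroup.coe_one, ← hh]
      exact pow_orderOf_eq_one h
    rw [this, map_one]
  have hinj : Function.Injective (MulAut.toPerm ↥R) := by
    intro a b hab
    apply MulEquiv.ext
    intro x
    have := congrArg (fun f : Equiv.Perm ↥R => f x) hab
    exact this
  have hord : orderOf (MulAut.toPerm ↥R φ) = orderOf φ := orderOf_injective _ hinj φ
  have hdvd : orderOf φ ∣ (Nat.card R).factorial := by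
    rw [← hord]
    have h1 := orderOf_dvd_natCard (MulAut.toPerm ↥R φ)
    rwa [Nat.card_eq_fintype_card, Fintype.card_perm, ← Nat.card_eq_fintype_card] at h1
  have hdvdp : orderOf φ ∣ p := orderOf_dvd_of_pow_eq_one hφp
  have hφ1 : φ = 1 := by
    rcases (Nat.dvd_prime (Fact.out : p.Prime)).1 hdvdp with h1 | h1
    · exact orderOf_eq_one_iff.1 h1
    · exfalso
      rw [h1] at hdvd
      have := ((Fact.out : p.Prime).dvd_factorial).1 hdvd
      omega
  have hker : (⟨h, hR⟩ : ↥(Subgroup.normalizer (R : Set G))) ∈ R.normalizerMonoidHom.ker := by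
    rw [MonoidHom.mem_ker]; exact hφ1
  rw [Subgroup.normalizerMonoidHom_ker, Subgroup.mem_subgroupOf] at hker
  exact hker

/-- An element of prime order `p` acting on a normal subgroup `N` of order prime to `p`
normalizes some Sylow `q`-subgroup of `N`. -/
theorem exists_normalized_sylow {G : Type*} [Group G] [Finite G] (p q : ℕ) [Fact p.Prime]
    [Fact q.Prime] (N : Subgroup G) [N.Normal] (h : G) (hh : orderOf h = p)
    (hpN : ¬ p ∣ Nat.card N) :
    ∃ R : Sylow q ↥N, h ∈ Subgroup.normalizer
      (((R : Subgroup ↥N).map N.subtype : Subgroup G) : Set G) := by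
  set z : ConjAct G := ConjAct.toConjAct h with hz
  have hzo : orderOf z = p := by
    rw [hz, ← hh]
    exact MulEquiv.orderOf_eq ConjAct.toConjAct h
  have hZ : IsPGroup p (Subgroup.zpowers z) := by
    apply IsPGroup.of_card (n := 1)
    rw [Nat.card_zpowers, hzo, pow_one]
  have hnd : ¬ p ∣ Nat.card (Sylow q ↥N) := by
    intro hd
    apply hpN
    obtain ⟨S'⟩ : Nonempty (Sylow q ↥N) := inferInstance
    exact hd.trans ((Sylow.card_dvd_index S').trans (Subgroup.index_dvd_card _))
  obtain ⟨R, hRfix⟩ := hZ.nonempty_fixed_point_of_prime_not_dvd_card (Sylow q ↥N) hnd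
  refine ⟨R, ?_⟩
  have hzR : z • R = R := hRfix ⟨z, Subgroup.mem_zpowers z⟩
  apply Subgroup.mem_normalizer_fintype
  intro n hn
  obtain ⟨r, hr, rfl⟩ := hn
  refine ⟨z • r, ?_, ?_⟩
  · have h1 : z • r ∈ ((z • R : Sylow q ↥N) : Subgroup ↥N) := by
      rw [Sylow.pointwise_smul_def]
      exact Subgroup.smul_mem_pointwise_smul r z _ hr
    rw [hzR] at h1
    exact h1
  · rw [Subgroup.coe_subtype, ConjAct.Subgroup.val_conj_smul, ConjAct.smul_def, hz,
      ConjAct.ofConjAct_toConjAct]

/-- Burnside-transfer contradiction: if `N_G(P) ≤ C_G(P)` for a Sylow `p`-subgroup of order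
`p`, the Sylow `q`-subgroups have fewer than `p` elements, and `q` divides `|G|`, then some
element of order `q` centralizes `P`. -/
theorem false_of_NC {G : Type*} [Group G] [Finite G] (p q : ℕ) [Fact p.Prime] [Fact q.Prime]
    (P : Sylow p G) (hPp : Nat.card (P : Subgroup G) = p)
    (hNC : Subgroup.normalizer ((P : Subgroup G) : Set G) ≤
      Subgroup.centralizer ((P : Subgroup G) : Set G))
    (hpq : p ≠ q) (hqG : q ∣ Nat.card G)
    (hSq : ∀ S : Sylow q G, Nat.card (S : Subgroup G) < p)
    (hqC : ∀ c ∈ Subgroup.centralizer ((P : Subgroup G) : Set G), orderOf c ≠ q) : False := by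
  have hpp : p.Prime := Fact.out
  have hqp : q.Prime := Fact.out
  obtain ⟨K, hK⟩ : ∃ K : Subgroup G, K = (MonoidHom.transferSylow P hNC).ker := ⟨_, rfl⟩
  haveI : K.Normal := by rw [hK]; infer_instance
  have hKidx : K.index = p := by
    rw [hK, (MonoidHom.ker_transferSylow_isComplement' P hNC).symm.index_eq_card, hPp]
  have hKcard : Nat.card K * p = Nat.card G := by rw [← hKidx]; exact K.card_mul_index
  have hfact : (Nat.card G).factorization p = 1 := by
    have h1 := P.card_eq_multiplicity
    rw [hPp] at h1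
    have h2 : p ^ 1 = p ^ (Nat.card G).factorization p := by rw [pow_one]; exact h1
    exact (Nat.pow_right_injective hpp.two_le h2).symm
  have hpsq : ¬ p ^ 2 ∣ Nat.card G := by
    have := Nat.pow_succ_factorization_not_dvd (n := Nat.card G) (Nat.card_pos.ne') hpp
    rw [hfact] at this
    exact this
  have hpK : ¬ p ∣ Nat.card K := by
    intro h
    apply hpsq
    rw [← hKcard]
    obtain ⟨m, hm⟩ := h
    exact ⟨m, by rw [hm]; ring⟩
  have hpG : p ∣ Nat.card G := ⟨Nat.card K, by rw [← hKcard]; ring⟩
  have hnq : Nat.card (Sylow q K) = Nat.card (Sylow q G) :=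
    card_sylow_of_normal_of_not_dvd_index q K (by
      rw [hKidx]
      intro hd
      exact hpq ((Nat.prime_dvd_prime_iff_eq hqp hpp).1 hd).symm)
  obtain ⟨S'⟩ : Nonempty (Sylow q K) := inferInstance
  have hnqK : Nat.card (Sylow q K) ∣ Nat.card K :=
    (Sylow.card_dvd_index S').trans (Subgroup.index_dvd_card _)
  obtain ⟨S⟩ : Nonempty (Sylow q G) := inferInstance
  have hNSidx : (Subgroup.normalizer ((S : Subgroup G) : Set G)).index = Nat.card (Sylow q G) :=
    (S.card_eq_index_normalizer).symm
  have hpidx : ¬ p ∣ (Subgroup.normalizer ((S : Subgroup G) : Set G)).index := by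
    intro h
    apply hpK
    rw [hNSidx, ← hnq] at h
    exact h.trans hnqK
  have hpNS : p ∣ Nat.card (Subgroup.normalizer ((S : Subgroup G) : Set G)) := by
    have h1 := (Subgroup.normalizer ((S : Subgroup G) : Set G)).card_mul_index
    rw [← h1] at hpG
    rcases (Nat.Prime.dvd_mul hpp).1 hpG with h | h
    · exact h
    · exact absurd h hpidx
  obtain ⟨h, hh⟩ := exists_prime_orderOf_dvd_card' p hpNS
  have hho : orderOf (h : G) = p := by rw [Subgroup.orderOf_coe]; exact hh
  have hcent : (h : G) ∈ Subgroup.centralizer ((S : Subgroup G) : Set G) :=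
    mem_centralizer_of_card_lt p (h : G) hho (S : Subgroup G) h.2 (hSq S)
  have hqS : q ∣ Nat.card (S : Subgroup G) := S.dvd_card_of_dvd_card hqG
  obtain ⟨s, hs⟩ := exists_prime_orderOf_dvd_card' q hqS
  have hso : orderOf (s : G) = q := by rw [Subgroup.orderOf_coe]; exact hs
  have hcomm : Commute (s : G) (h : G) := (Subgroup.mem_centralizer_iff.1 hcent) s s.2
  have hQcard : Nat.card (Subgroup.zpowers (h : G)) = p ^ (Nat.card G).factorization p := by
    rw [Nat.card_zpowers, hho, hfact, pow_one]
  obtain ⟨g, hg⟩ := MulAction.exists_smul_eq G (Sylow.ofCard (Subgroup.zpowers (h : G)) hQcard) P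
  apply hqC (g * s * g⁻¹)
  · rw [Subgroup.mem_centralizer_iff]
    intro x hx
    have hx' : x ∈ ((g • Sylow.ofCard (Subgroup.zpowers (h : G)) hQcard : Sylow p G) :
        Subgroup G) := by rw [hg]; exact hx
    rw [mem_smul_sylow_iff] at hx'
    have hx'' : g⁻¹ * x * g ∈ Subgroup.zpowers (h : G) := hx'
    obtain ⟨k, hk⟩ := Subgroup.mem_zpowers_iff.1 hx''
    have hc2 : Commute (s : G) (g⁻¹ * x * g) := by
      rw [← hk]
      exact Commute.zpow_right hcomm k
    have := hc2.eq
    calc x * (g * s * g⁻¹) = g * ((g⁻¹ * x * g) * s) * g⁻¹ := by group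
      _ = g * (s * (g⁻¹ * x * g)) * g⁻¹ := by rw [this]
      _ = g * s * g⁻¹ * x := by group
  · have h1 := (MulAut.conj g).orderOf_eq (s : G)
    rw [MulAut.conj_apply] at h1
    rw [h1, hso]

end Cfsg.Agent.Helper1.M7920
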