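import Mathlib
import Cfsg.Agent.Helper1.M11a

set_option autoImplicit false
set_option maxHeartbeats 800000

/-!
No group of order `495 * 2 ^ a` has exactly 45 Sylow 11-subgroups without having elements of
orders 6, 10 and 22 (helper1).  Part 1: the faithful case without subgroups of index two is
contradictory.
-/

namespace Cfsg.Agent.Helper1.M7920

open MulAction
open Cfsg.Agent.Helper2 Cfsg.Agent.Helper2.Syl21 Cfsg.Agent.Helper4

/-- An involution centralizing a Sylow 11-subgroup `P` fixes only `P` among the 45 Sylow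
11-subgroups, if the action is faithful and there is no subgroup of index two. -/
theorem fix_of_involution {X : Type*} [Group X] [Finite X] [Fact (Nat.Prime 11)]
    (h45 : Nat.card (Sylow 11 X) = 45)
    (hfaith : ∀ g : X, (∀ Q : Sylow 11 X, g • Q = Q) → g = 1)
    (hno2 : ∀ H : Subgroup X, H.index ≠ 2)
    (P : Sylow 11 X) (t : X)
    (ht : t ∈ Subgroup.centralizer ((P : Subgroup X) : Set X)) (ht2 : orderOf t = 2) :
    ∀ Q : Sylow 11 X, t • Q = Q → Q = P := by
  haveI : Fact (Nat.Prime 2) := ⟨Nat.prime_two⟩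
  have htP : t • P = P := by
    rw [Sylow.smul_eq_iff_mem_normalizer]
    exact Subgroup.centralizer_le_normalizer _ ht
  have hcomm : ∀ (x : (P : Subgroup X)) (R : Sylow 11 X), t • (x • R) = x • (t • R) := by
    intro x R
    rw [Subgroup.smul_def, Subgroup.smul_def, ← mul_smul, ← mul_smul]
    congr 1
    exact ((Subgroup.mem_centralizer_iff.1 ht) x x.2).symm
  obtain ⟨F, hF⟩ : ∃ F : Set (Sylow 11 X), F = {R | t • R = R} := ⟨_, rfl⟩
  have hmemF : ∀ R : Sylow 11 X, R ∈ F ↔ t • R = R := by
    intro R; rw [hF]; rfl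
  have hmod : Nat.card (Sylow 11 X) ≡ F.ncard [MOD 2] := by
    have hz : IsPGroup 2 (Subgroup.zpowers t) := by
      apply IsPGroup.of_card (n := 1)
      rw [Nat.card_zpowers, ht2, pow_one]
    have h1 := hz.card_modEq_card_fixedPoints (Sylow 11 X)
    have h2 : fixedPoints (Subgroup.zpowers t) (Sylow 11 X) = F := by
      ext R
      rw [mem_fixedPoints, hmemF]
      constructor
      · intro h
        exact h ⟨t, Subgroup.mem_zpowers t⟩
      · intro h y
        have hle : Subgroup.zpowers t ≤ stabilizer X R := by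
          rw [Subgroup.zpowers_le]; exact h
        exact hle y.2
    rw [h2, Nat.card_coe_set_eq] at h1
    exact h1
  have hFP : P ∈ F := (hmemF P).2 htP
  have hmod11 : F.ncard ≡ 1 [MOD 11] := by
    have hinv : ∀ x : (P : Subgroup X), ∀ R ∈ F, x • R ∈ F := by
      intro x R hR
      rw [hmemF] at hR ⊢
      rw [hcomm, hR]
    have h1 := ncard_modEq_of_invariant (H := (P : Subgroup X)) P.isPGroup' F hinv
    have h2 : F ∩ MulAction.fixedPoints (P : Subgroup X) (Sylow 11 X) = {P} := by
      ext Q
      rw [Set.mem_inter_iff, Set.mem_singleton_iff,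
        P.isPGroup'.sylow_mem_fixedPoints_iff]
      constructor
      · rintro ⟨-, hle⟩
        exact (sylow_eq_of_le P Q hle).symm
      · intro h
        rw [h]
        exact ⟨hFP, le_refl _⟩
    rw [h2, Set.ncard_singleton] at h1
    exact h1
  have hFle : F.ncard ≤ 45 := by
    rw [← h45, ← Set.ncard_univ]
    exact Set.ncard_le_ncard (Set.subset_univ _) (Set.toFinite _)
  have ht1 : t ≠ 1 := by
    intro h
    rw [h, orderOf_one] at ht2
    norm_num at ht2
  have hFne : F.ncard ≠ 45 := by
    intro h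
    have hFuniv : F = Set.univ := by
      apply Set.eq_of_subset_of_ncard_le (Set.subset_univ _) _ (Set.toFinite _)
      rw [Set.ncard_univ, h45, h]
    apply ht1
    apply hfaith
    intro Q
    rw [← hmemF, hFuniv]
    trivial
  rw [h45] at hmod
  have h11 : F.ncard % 11 = 1 := hmod11
  have hodd : F.ncard % 2 = 1 := by
    have : 45 % 2 = F.ncard % 2 := hmod
    omega
  have h1or23 : F.ncard = 1 ∨ F.ncard = 23 := by omega
  have h1 : F.ncard = 1 := by
    rcases h1or23 with h | h
    · exact h
    · exfalso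
      classical
      haveI : Fintype (Sylow 11 X) := Fintype.ofFinite _
      obtain ⟨f, hf⟩ : ∃ f : X →* ℤˣ,
          f = (Equiv.Perm.sign).comp (MulAction.toPermHom X (Sylow 11 X)) := ⟨_, rfl⟩
      have hft : f t = -1 := by
        rw [hf, MonoidHom.comp_apply]
        refine sign_eq_neg_one_of_23 _ ?_ ?_ ?_
        · rw [← map_pow, ← ht2, pow_orderOf_eq_one, map_one]
        · rw [← Nat.card_eq_fintype_card, h45]
        · rw [← h, ← Set.ncard_coe_finset]
          congr 1
          ext Q
          rw [Finset.mem_coe, Finset.mem_filter, hmemF]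
          simp
      exact hno2 _ (index_ker_eq_two_of_neg_one f t hft)
  intro Q hQ
  obtain ⟨a, ha⟩ := Set.ncard_eq_one.1 h1
  have hPa : P = a := by
    have := hFP
    rw [ha, Set.mem_singleton_iff] at this
    exact this
  have hQa : Q = a := by
    have : Q ∈ F := (hmemF Q).2 hQ
    rw [ha, Set.mem_singleton_iff] at this
    exact this
  rw [hQa, hPa]

/-- A nontrivial 2-element centralizing `P` fixes only `P`. -/
theorem fix_of_two_element {X : Type*} [Group X] [Finite X] [Fact (Nat.Prime 11)]
    (P : Sylow 11 X)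
    (hfix2 : ∀ x ∈ Subgroup.centralizer ((P : Subgroup X) : Set X), orderOf x = 2 →
      ∀ Q : Sylow 11 X, x • Q = Q → Q = P)
    (t : X) (k : ℕ) (hk : orderOf t = 2 ^ k)
    (htC : t ∈ Subgroup.centralizer ((P : Subgroup X) : Set X)) (ht1 : t ≠ 1)
    (Q : Sylow 11 X) (hQ : t • Q = Q) : Q = P := by
  have hk0 : k ≠ 0 := by
    intro h0
    rw [h0, pow_zero, orderOf_eq_one_iff] at hk
    exact ht1 hk
  have h2 : 2 ∣ orderOf t := by
    rw [hk]; exact dvd_pow_self 2 hk0
  have ho : orderOf (t ^ (orderOf t / 2)) = 2 :=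
    orderOf_pow_orderOf_div (orderOf_pos t).ne' h2
  exact hfix2 _ (Subgroup.pow_mem _ htC _) ho Q (pow_smul_eq_of_smul_eq t Q hQ _)

theorem factorization_two_mul_pow (m a : ℕ) (hm : ¬ 2 ∣ m) (hm0 : m ≠ 0) :
    (m * 2 ^ a).factorization 2 = a := by
  rw [Nat.factorization_mul hm0 (pow_ne_zero a (by norm_num)), Finsupp.add_apply,
    Nat.factorization_eq_zero_of_not_dvd hm, Nat.Prime.factorization_pow Nat.prime_two,
    Finsupp.single_eq_same, zero_add]

theorem not_121_dvd (a : ℕ) : ¬ 121 ∣ 495 * 2 ^ a := by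
  intro h
  have hc : Nat.Coprime 121 (2 ^ a) := Nat.Coprime.pow_right a (by norm_num)
  have := hc.dvd_of_dvd_mul_right h
  norm_num at this

theorem not_25_dvd (a : ℕ) : ¬ 25 ∣ 495 * 2 ^ a := by
  intro h
  have hc : Nat.Coprime 25 (2 ^ a) := Nat.Coprime.pow_right a (by norm_num)
  have := hc.dvd_of_dvd_mul_right h
  norm_num at this

theorem not_5_dvd (a : ℕ) : ¬ 5 ∣ 11 * 2 ^ a := by
  intro h
  have hc : Nat.Coprime 5 (2 ^ a) := Nat.Coprime.pow_right a (by norm_num)
  have := hc.dvd_of_dvd_mul_right h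
  norm_num at this

/-- Basic data: in a group of order `495 * 2 ^ a` with 45 Sylow 11-subgroups, a Sylow
11-subgroup has order 11 and its normalizer has order `11 * 2 ^ a`. -/
theorem basic_data {X : Type*} [Group X] [Finite X] [Fact (Nat.Prime 11)] (a : ℕ)
    (hcard : Nat.card X = 495 * 2 ^ a) (h45 : Nat.card (Sylow 11 X) = 45) (P : Sylow 11 X) :
    Nat.card (P : Subgroup X) = 11 ∧
      Nat.card (Subgroup.normalizer ((P : Subgroup X) : Set X)) = 11 * 2 ^ a := by
  constructor
  · apply SylFew.sylow_card_eq_prime_of_sq_not_dvd P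
    · rw [hcard]; exact ⟨45 * 2 ^ a, by ring⟩
    · rw [hcard]; exact not_121_dvd a
  · have h1 := (Subgroup.normalizer ((P : Subgroup X) : Set X)).card_mul_index
    have h0 : Nat.card (Sylow 11 X) =
        (Subgroup.normalizer ((P : Subgroup X) : Set X)).index := P.card_eq_index_normalizer
    rw [← h0, h45, hcard] at h1
    have h2 : 495 * 2 ^ a = 11 * 2 ^ a * 45 := by ring
    rw [h2] at h1
    exact Nat.eq_of_mul_eq_mul_right (by norm_num) h1

/-- The faithful case without subgroups of index two is contradictory. -/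
theorem false_of_faithful {X : Type*} [Group X] [Finite X] (a : ℕ)
    (hcard : Nat.card X = 495 * 2 ^ a) (h45 : Nat.card (Sylow 11 X) = 45)
    (hfaith : ∀ g : X, (∀ Q : Sylow 11 X, g • Q = Q) → g = 1)
    (hno2 : ∀ H : Subgroup X, H.index ≠ 2) : False := by
  classical
  haveI : Fact (Nat.Prime 11) := ⟨by norm_num⟩
  haveI : Fact (Nat.Prime 2) := ⟨Nat.prime_two⟩
  haveI : Fact (Nat.Prime 5) := ⟨by norm_num⟩
  obtain ⟨P⟩ : Nonempty (Sylow 11 X) := inferInstance
  obtain ⟨hP11, hHcard⟩ := basic_data a hcard h45 P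
  obtain ⟨H, hH⟩ : ∃ H : Subgroup X, H = Subgroup.normalizer ((P : Subgroup X) : Set X) :=
    ⟨_, rfl⟩
  rw [← hH] at hHcard
  have hfix2 : ∀ x ∈ Subgroup.centralizer ((P : Subgroup X) : Set X), orderOf x = 2 →
      ∀ Q : Sylow 11 X, x • Q = Q → Q = P :=
    fun x hx hx2 => fix_of_involution h45 hfaith hno2 P x hx hx2
  -- a Sylow 2-subgroup inside `H`
  obtain ⟨SH⟩ : Nonempty (Sylow 2 ↥H) := inferInstance
  obtain ⟨S₀, hS₀⟩ : ∃ S₀ : Subgroup X, S₀ = (SH : Subgroup ↥H).map H.subtype := ⟨_, rfl⟩
  have hS₀H : S₀ ≤ H := by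
    rw [hS₀]; exact Subgroup.map_subtype_le _
  have hS₀card : Nat.card S₀ = 2 ^ a := by
    rw [hS₀, Subgroup.card_map_of_injective (Subgroup.subtype_injective H),
      SH.card_eq_multiplicity, hHcard,
      factorization_two_mul_pow 11 a (by norm_num) (by norm_num)]
  have hS₀card' : Nat.card S₀ = 2 ^ (Nat.card X).factorization 2 := by
    rw [hS₀card, hcard, factorization_two_mul_pow 495 a (by norm_num) (by norm_num)]
  obtain ⟨S, hS⟩ : ∃ S : Sylow 2 X, (S : Subgroup X) = S₀ := ⟨Sylow.ofCard S₀ hS₀card', rfl⟩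
  have hSH : (S : Subgroup X) ≤ Subgroup.normalizer ((P : Subgroup X) : Set X) := by
    rw [hS, ← hH]; exact hS₀H
  have hScard : Nat.card (S : Subgroup X) = 2 ^ a := by rw [hS]; exact hS₀card
  have hCH : Subgroup.centralizer ((P : Subgroup X) : Set X) ≤ H := by
    rw [hH]; exact Subgroup.centralizer_le_normalizer _
  by_cases hSC : (S : Subgroup X) ≤ Subgroup.centralizer ((P : Subgroup X) : Set X)
  · -- `N(P) ≤ C(P)`
    have hPC : (P : Subgroup X) ≤ Subgroup.centralizer ((P : Subgroup X) : Set X) := by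
      have hcyc : IsCyclic (P : Subgroup X) := isCyclic_of_prime_card hP11
      intro x hx
      rw [Subgroup.mem_centralizer_iff]
      intro y hy
      haveI := hcyc
      have := mul_comm' (⟨y, hy⟩ : (P : Subgroup X)) ⟨x, hx⟩
      exact congrArg Subtype.val this
    have hCcard : 11 * 2 ^ a ∣ Nat.card (Subgroup.centralizer ((P : Subgroup X) : Set X)) := by
      apply Nat.Coprime.mul_dvd_of_dvd_of_dvd
      · exact Nat.Coprime.pow_right a (by norm_num)
      · have := Subgroup.card_dvd_of_le hPC
        rwa [hP11] at this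
      · have := Subgroup.card_dvd_of_le hSC
        rwa [hScard] at this
    have hNC : Subgroup.normalizer ((P : Subgroup X) : Set X) ≤
        Subgroup.centralizer ((P : Subgroup X) : Set X) := by
      rw [← hH]
      have hle := Subgroup.card_le_of_le hCH
      have hge := Nat.le_of_dvd Nat.card_pos hCcard
      have heq : Subgroup.centralizer ((P : Subgroup X) : Set X) = H := by
        apply Subgroup.eq_of_le_of_card_ge hCH
        rw [hHcard]; exact hge
      rw [heq]
    refine false_of_NC 11 5 P hP11 hNC (by norm_num) ?_ ?_ ?_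
    · rw [hcard]; exact ⟨99 * 2 ^ a, by ring⟩
    · intro S5
      have : Nat.card (S5 : Subgroup X) = 5 := by
        apply SylFew.sylow_card_eq_prime_of_sq_not_dvd S5
        · rw [hcard]; exact ⟨99 * 2 ^ a, by ring⟩
        · rw [hcard]; exact not_25_dvd a
      rw [this]; norm_num
    · intro c hc hc5
      have h1 : orderOf c ∣ Nat.card H := by
        have := orderOf_dvd_natCard (⟨c, hCH hc⟩ : ↥H)
        rwa [← Subgroup.orderOf_coe] at this
      rw [hc5, hHcard] at h1
      exact not_5_dvd a h1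
  · -- `S` does not centralize `P`
    obtain ⟨T, hT⟩ : ∃ T : Subgroup X,
        T = (S : Subgroup X) ⊓ Subgroup.centralizer ((P : Subgroup X) : Set X) := ⟨_, rfl⟩
    have hcyc : IsCyclic (P : Subgroup X) := isCyclic_of_prime_card hP11
    have hA : Nat.card (MulAut (P : Subgroup X)) = 10 := by
      rw [hcyc.card_mulAut, hP11, Nat.totient_prime (by norm_num : Nat.Prime 11)]
    obtain ⟨ρ, hρ⟩ : ∃ ρ : ↥(S : Subgroup X) →* MulAut (P : Subgroup X),
        ρ = ((P : Subgroup X).normalizerMonoidHom).comp (Subgroup.inclusion hSH) := ⟨_, rfl⟩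
    have hρ1 : ∀ t : ↥(S : Subgroup X), ρ t = 1 ↔
        (t : X) ∈ Subgroup.centralizer ((P : Subgroup X) : Set X) := by
      intro t
      rw [hρ, MonoidHom.comp_apply, ← MonoidHom.mem_ker, Subgroup.normalizerMonoidHom_ker,
        Subgroup.mem_subgroupOf]
      rfl
    have hker : T.subgroupOf (S : Subgroup X) = ρ.ker := by
      ext t
      rw [Subgroup.mem_subgroupOf, MonoidHom.mem_ker, hρ1, hT, Subgroup.mem_inf]
      constructor
      · exact fun h => h.2
      · exact fun h => ⟨t.2, h⟩
    have hTrel : T.relIndex (S : Subgroup X) = 2 := by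
      rw [Subgroup.relIndex, hker, Subgroup.index_ker]
      have h1 : Nat.card ρ.range ∣ 10 := by
        rw [← hA]; exact Subgroup.card_subgroup_dvd_card _
      have h2 : Nat.card ρ.range ∣ 2 ^ a := by
        rw [← Subgroup.index_ker, ← hScard]
        exact Subgroup.index_dvd_card _
      have h3 : Nat.card ρ.range ≠ 1 := by
        intro h
        apply hSC
        intro t ht
        have hb : ρ.range = ⊥ := Subgroup.card_eq_one.1 h
        have : ρ ⟨t, ht⟩ ∈ ρ.range := ⟨_, rfl⟩
        rw [hb, Subgroup.mem_bot] at this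
        exact (hρ1 ⟨t, ht⟩).1 this
      obtain ⟨j, hj, hje⟩ := (Nat.dvd_prime_pow Nat.prime_two).1 h2
      rw [hje] at h1 h3 ⊢
      have hj1 : j ≤ 1 := by
        by_contra hgt
        push Not at hgt
        have : (4 : ℕ) ∣ 10 := by
          refine dvd_trans ?_ h1
          exact pow_dvd_pow 2 (show 2 ≤ j by omega)
        norm_num at this
      interval_cases j
      · exact absurd rfl h3
      · rfl
    -- choose `y ∈ S \ T` of minimal order
    have hne : ({y : X | y ∈ (S : Subgroup X) ∧ y ∉ T} : Set X).Nonempty := by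
      by_contra hemp
      rw [Set.not_nonempty_iff_eq_empty] at hemp
      apply hSC
      intro t ht
      by_contra htC
      have : t ∈ ({y : X | y ∈ (S : Subgroup X) ∧ y ∉ T} : Set X) := by
        refine ⟨ht, ?_⟩
        rw [hT, Subgroup.mem_inf]
        exact fun h => htC h.2
      rw [hemp] at this
      exact this
    obtain ⟨y, ⟨hyS, hyT⟩, hmin⟩ := Set.exists_min_image _ (fun y : X => orderOf y)
      (Set.toFinite _) hne
    obtain ⟨n, hn⟩ := (IsPGroup.iff_orderOf.1 S.isPGroup') ⟨y, hyS⟩
    rw [Subgroup.orderOf_mk] at hn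
    have hy1 : y ≠ 1 := by
      intro h
      apply hyT
      rw [h]; exact T.one_mem
    have hn1 : 1 ≤ n := by
      by_contra h0
      have : n = 0 := by omega
      rw [this, pow_zero, orderOf_eq_one_iff] at hn
      exact hy1 hn
    have hord : ∀ y' ∈ (S : Subgroup X), y' ∉ T → 2 ^ (n - 1) < orderOf y' := by
      intro y' hy'S hy'T
      have h1 := hmin y' ⟨hy'S, hy'T⟩
      have h2 : (2 : ℕ) ^ (n - 1) < 2 ^ n := Nat.pow_lt_pow_right (by norm_num) (by omega)
      have h3 : orderOf y = 2 ^ n := hn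
      omega
    obtain ⟨g, hg⟩ := thompson_transfer_general hno2 S T hTrel n hn1 hord y hn
    rw [hT, Subgroup.mem_inf] at hg
    obtain ⟨hcS, hcC⟩ := hg
    have hc1 : g * y * g⁻¹ ≠ 1 := by
      intro h
      apply hy1
      have : y = g⁻¹ * (g * y * g⁻¹) * g := by group
      rw [this, h]; group
    have hco : orderOf (g * y * g⁻¹) = 2 ^ n := by
      have h1 := (MulAut.conj g).orderOf_eq y
      rw [MulAut.conj_apply] at h1
      rw [h1, hn]
    have hyP : y • P = P := Sylow.smul_eq_iff_mem_normalizer.2 (hSH hyS)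
    have hgP : g • P = P := by
      apply fix_of_two_element P hfix2 (g * y * g⁻¹) n hco hcC hc1
      rw [← mul_smul]
      have : g * y * g⁻¹ * g = g * y := by group
      rw [this, mul_smul, hyP]
    have hgN : g ∈ Subgroup.normalizer ((P : Subgroup X) : Set X) :=
      Sylow.smul_eq_iff_mem_normalizer.1 hgP
    have hyC : y ∈ Subgroup.centralizer ((P : Subgroup X) : Set X) := by
      have h1 := conj_mem_centralizer_of_mem_normalizer (P : Subgroup X) g⁻¹ (g * y * g⁻¹)
        (Subgroup.inv_mem _ hgN) hcC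
      have h2 : g⁻¹ * (g * y * g⁻¹) * g⁻¹⁻¹ = y := by group
      rwa [h2] at h1
    apply hyT
    rw [hT, Subgroup.mem_inf]
    exact ⟨hyS, hyC⟩

end Cfsg.Agent.Helper1.M7920
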