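import Mathlib
import Cfsg.Agent.Helper1.M11b

set_option autoImplicit false
set_option maxHeartbeats 800000

/-!
Groups of order `495 * 2 ^ a` with exactly 45 Sylow 11-subgroups have elements of orders
6, 10 and 22 (helper1).  Part 2: nontrivial kernel, and the induction.
-/

namespace Cfsg.Agent.Helper1.M7920

open MulAction
open Cfsg.Agent.Helper2 Cfsg.Agent.Helper2.Syl21 Cfsg.Agent.Helper4

/-- If some nontrivial element normalizes every Sylow 11-subgroup, there are elements of orders
6, 10 and 22. -/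
theorem exists_orders_of_kernel {X : Type*} [Group X] [Finite X] (a : ℕ)
    (hcard : Nat.card X = 495 * 2 ^ a) (h45 : Nat.card (Sylow 11 X) = 45)
    (z : X) (hz1 : z ≠ 1) (hz : ∀ Q : Sylow 11 X, z • Q = Q) :
    (∃ x : X, orderOf x = 6) ∧ (∃ x : X, orderOf x = 10) ∧ (∃ x : X, orderOf x = 22) := by
  classical
  haveI : Fact (Nat.Prime 11) := ⟨by norm_num⟩
  haveI : Fact (Nat.Prime 2) := ⟨Nat.prime_two⟩
  haveI : Fact (Nat.Prime 3) := ⟨by norm_num⟩
  haveI : Fact (Nat.Prime 5) := ⟨by norm_num⟩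
  obtain ⟨P⟩ : Nonempty (Sylow 11 X) := inferInstance
  obtain ⟨hP11, hHcard⟩ := basic_data a hcard h45 P
  obtain ⟨L, hL⟩ : ∃ L : Subgroup X, L = (MulAction.toPermHom X (Sylow 11 X)).ker := ⟨_, rfl⟩
  haveI : L.Normal := by rw [hL]; infer_instance
  have hmemL : ∀ x : X, x ∈ L ↔ ∀ Q : Sylow 11 X, x • Q = Q := by
    intro x
    rw [hL, MonoidHom.mem_ker]
    constructor
    · intro h Q
      have := congrArg (fun f : Equiv.Perm (Sylow 11 X) => f Q) h
      exact this
    · intro h
      apply Equiv.ext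
      intro Q
      exact h Q
  have hzL : z ∈ L := (hmemL z).2 hz
  have hLH : L ≤ Subgroup.normalizer ((P : Subgroup X) : Set X) := by
    intro x hx
    exact Sylow.smul_eq_iff_mem_normalizer.1 ((hmemL x).1 hx P)
  -- 11 does not divide |L|
  have h11L : ¬ 11 ∣ Nat.card L := by
    intro hd
    obtain ⟨x, hx⟩ := exists_prime_orderOf_dvd_card' 11 hd
    have hxo : orderOf (x : X) = 11 := by rw [Subgroup.orderOf_coe]; exact hx
    have hZ : IsPGroup 11 (Subgroup.zpowers (x : X)) := by
      apply IsPGroup.of_card (n := 1)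
      rw [Nat.card_zpowers, hxo, pow_one]
    have hall : ∀ Q : Sylow 11 X, (Q : Subgroup X) = Subgroup.zpowers (x : X) := by
      intro Q
      have hle : Subgroup.zpowers (x : X) ≤ (Q : Subgroup X) := by
        rw [← hZ.sylow_mem_fixedPoints_iff]
        intro y
        have hst : Subgroup.zpowers (x : X) ≤ stabilizer X Q := by
          rw [Subgroup.zpowers_le]
          exact (hmemL x).1 x.2 Q
        exact hst y.2
      symm
      apply Subgroup.eq_of_le_of_card_ge hle
      rw [Nat.card_zpowers, hxo, (basic_data a hcard h45 Q).1]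
    have hone : Nat.card (Sylow 11 X) ≤ 1 := by
      rw [Finite.card_le_one_iff_subsingleton]
      constructor
      intro Q Q'
      apply Sylow.ext
      rw [hall Q, hall Q']
    omega
  have hcop : Nat.Coprime (Nat.card L) 11 :=
    ((Nat.Prime.coprime_iff_not_dvd (by norm_num : Nat.Prime 11)).2 h11L).symm
  have hLdvd : Nat.card L ∣ 2 ^ a := by
    have h1 : Nat.card L ∣ 11 * 2 ^ a := by
      rw [← hHcard]; exact Subgroup.card_dvd_of_le hLH
    exact hcop.dvd_of_dvd_mul_left h1
  have hLP : L ⊓ (P : Subgroup X) = ⊥ := by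
    apply disjoint_iff.1
    apply Subgroup.disjoint_of_coprime_natCard
    rw [hP11]; exact hcop
  -- `L` and `P` commute elementwise
  have hcomm : ∀ l ∈ L, ∀ g ∈ (P : Subgroup X), l * g = g * l := by
    intro l hl g hg
    have h1 : l * g * l⁻¹ * g⁻¹ ∈ L ⊓ (P : Subgroup X) := by
      rw [Subgroup.mem_inf]
      constructor
      · have h2 : g * l⁻¹ * g⁻¹ ∈ L := ‹L.Normal›.conj_mem _ (L.inv_mem hl) g
        have h3 : l * g * l⁻¹ * g⁻¹ = l * (g * l⁻¹ * g⁻¹) := by group
        rw [h3]; exact L.mul_mem hl h2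
      · have h2 : l * g * l⁻¹ ∈ (P : Subgroup X) :=
          (Subgroup.mem_normalizer_iff.1 (hLH hl) g).1 hg
        exact (P : Subgroup X).mul_mem h2 ((P : Subgroup X).inv_mem hg)
    rw [hLP, Subgroup.mem_bot] at h1
    calc l * g = (l * g * l⁻¹ * g⁻¹) * (g * l) := by group
      _ = g * l := by rw [h1, one_mul]
  obtain ⟨M, hM⟩ : ∃ M : Subgroup X, M = Subgroup.centralizer (L : Set X) := ⟨_, rfl⟩
  haveI : M.Normal := by rw [hM]; exact Subgroup.normal_centralizer
  have hPM : (P : Subgroup X) ≤ M := by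
    intro g hg
    rw [hM, Subgroup.mem_centralizer_iff]
    intro l hl
    exact hcomm l hl g hg
  have h11idx : ¬ 11 ∣ M.index := by
    intro hd
    have h1 : 11 ∣ Nat.card M := by
      have := Subgroup.card_dvd_of_le hPM
      rwa [hP11] at this
    have h2 : 11 * 11 ∣ Nat.card M * M.index := Nat.mul_dvd_mul h1 hd
    rw [M.card_mul_index, hcard] at h2
    exact not_121_dvd a h2
  have h45M : Nat.card (Sylow 11 M) = 45 := by
    rw [card_sylow_of_normal_of_not_dvd_index 11 M h11idx, h45]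
  have h45dvd : 45 ∣ Nat.card M := by
    obtain ⟨S'⟩ : Nonempty (Sylow 11 M) := inferInstance
    rw [← h45M]
    exact (Sylow.card_dvd_index S').trans (Subgroup.index_dvd_card _)
  -- an involution in `L`
  have hL1 : Nat.card L ≠ 1 := by
    intro h
    have hb : L = ⊥ := Subgroup.card_eq_one.1 h
    rw [hb, Subgroup.mem_bot] at hzL
    exact hz1 hzL
  have h2L : 2 ∣ Nat.card L := by
    obtain ⟨j, hj, hje⟩ := (Nat.dvd_prime_pow Nat.prime_two).1 hLdvd
    rw [hje]
    apply dvd_pow_self
    intro h0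
    rw [h0, pow_zero] at hje
    exact hL1 hje
  obtain ⟨t, ht⟩ := exists_prime_orderOf_dvd_card' 2 h2L
  have hto : orderOf (t : X) = 2 := by rw [Subgroup.orderOf_coe]; exact ht
  have hMcomm : ∀ y ∈ M, Commute (t : X) y := by
    intro y hy
    rw [hM, Subgroup.mem_centralizer_iff] at hy
    exact hy t t.2
  have key : ∀ (r : ℕ) [Fact r.Prime], r ∣ Nat.card M → Nat.Coprime 2 r →
      ∃ x : X, orderOf x = 2 * r := by
    intro r _ hr hc
    obtain ⟨y, hy⟩ := exists_prime_orderOf_dvd_card' r hr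
    have hyo : orderOf (y : X) = r := by rw [Subgroup.orderOf_coe]; exact hy
    refine ⟨(t : X) * y, ?_⟩
    rw [(hMcomm y y.2).orderOf_mul_eq_mul_orderOf_of_coprime (by rw [hto, hyo]; exact hc),
      hto, hyo]
  refine ⟨?_, ?_, ?_⟩
  · exact key 3 (dvd_trans (by norm_num) h45dvd) (by norm_num)
  · exact key 5 (dvd_trans (by norm_num) h45dvd) (by norm_num)
  · apply key 11 _ (by norm_num)
    have := Subgroup.card_dvd_of_le hPM
    rwa [hP11] at this

/-- Main claim: a group of order `495 * 2 ^ a` with exactly 45 Sylow 11-subgroups has elements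
of orders 6, 10 and 22. -/
theorem claim45.{u} : ∀ (a : ℕ) (X : Type u) [Group X] [Finite X],
    Nat.card X = 495 * 2 ^ a → Nat.card (Sylow 11 X) = 45 →
    (∃ x : X, orderOf x = 6) ∧ (∃ x : X, orderOf x = 10) ∧ (∃ x : X, orderOf x = 22) := by
  intro a
  induction a using Nat.strong_induction_on with
  | _ a ih =>
    intro X _ _ hcard h45
    haveI : Fact (Nat.Prime 11) := ⟨by norm_num⟩
    by_cases h2 : ∃ X₀ : Subgroup X, X₀.index = 2
    · obtain ⟨X₀, hX₀⟩ := h2
      haveI : X₀.Normal := Subgroup.normal_of_index_eq_two hX₀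
      have h1 := X₀.card_mul_index
      rw [hX₀, hcard] at h1
      have ha : a ≠ 0 := by
        intro h0
        rw [h0, pow_zero] at h1
        omega
      obtain ⟨b, rfl⟩ : ∃ b, a = b + 1 := ⟨a - 1, by omega⟩
      have hc0 : Nat.card X₀ = 495 * 2 ^ b := by
        have h3 : 495 * 2 ^ (b + 1) = 495 * 2 ^ b * 2 := by ring
        rw [h3] at h1
        exact Nat.eq_of_mul_eq_mul_right (by norm_num) h1
      have h450 : Nat.card (Sylow 11 X₀) = 45 := by
        rw [card_sylow_of_normal_of_not_dvd_index 11 X₀ (by rw [hX₀]; norm_num), h45]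
      obtain ⟨⟨x6, h6⟩, ⟨x10, h10⟩, ⟨x22, h22⟩⟩ := ih b (by omega) ↥X₀ hc0 h450
      refine ⟨⟨(x6 : X), ?_⟩, ⟨(x10 : X), ?_⟩, ⟨(x22 : X), ?_⟩⟩
      · rw [Subgroup.orderOf_coe]; exact h6
      · rw [Subgroup.orderOf_coe]; exact h10
      · rw [Subgroup.orderOf_coe]; exact h22
    · push Not at h2
      by_cases hk : ∃ z : X, z ≠ 1 ∧ ∀ Q : Sylow 11 X, z • Q = Q
      · obtain ⟨z, hz1, hz⟩ := hk
        exact exists_orders_of_kernel a hcard h45 z hz1 hz
      · exfalso
        push Not at hk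
        apply false_of_faithful a hcard h45 _ h2
        intro g hg
        by_contra hg1
        obtain ⟨Q, hQ⟩ := hk g hg1
        exact hQ (hg Q)

end Cfsg.Agent.Helper1.M7920
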