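import Mathlib
import Cfsg.Agent.Helper1.M11c

set_option autoImplicit false
set_option maxHeartbeats 800000

/-!
Groups of order 7920 (helper1): a fixed-point lemma for conjugation by an element of prime
order, and the index of the centralizer of a Sylow 11-subgroup in its normalizer.
-/

namespace Cfsg.Agent.Helper1.M7920

open MulAction
open Cfsg.Agent.Helper2 Cfsg.Agent.Helper2.Syl21 Cfsg.Agent.Helper4

/-- An element `h` of prime order `p` normalizing a subgroup `R` centralizes it, provided no
proper divisor of `|R|` is congruent to `|R|` modulo `p`. -/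
theorem mem_centralizer_of_modEq {G : Type*} [Group G] [Finite G] (p : ℕ) [Fact p.Prime]
    (h : G) (hh : orderOf h = p) (R : Subgroup G)
    (hR : h ∈ Subgroup.normalizer (R : Set G))
    (hcard : ∀ d, d ∣ Nat.card R → d ≡ Nat.card R [MOD p] → d = Nat.card R) :
    h ∈ Subgroup.centralizer (R : Set G) := by
  set z : ConjAct G := ConjAct.toConjAct h with hz
  have hzo : orderOf z = p := by
    rw [hz, ← hh]
    exact MulEquiv.orderOf_eq ConjAct.toConjAct h
  have hZ : IsPGroup p (Subgroup.zpowers z) := by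
    apply IsPGroup.of_card (n := 1)
    rw [Nat.card_zpowers, hzo, pow_one]
  have hzsmul : ∀ r : G, z • r = h * r * h⁻¹ := by
    intro r
    rw [ConjAct.smul_def, hz, ConjAct.ofConjAct_toConjAct]
  -- powers of z act as conjugation by powers of h
  have hpow : ∀ (k : ℤ) (r : G), (z ^ k) • r = h ^ k * r * (h ^ k)⁻¹ := by
    intro k r
    have : z ^ k = ConjAct.toConjAct (h ^ k) := by
      rw [hz, map_zpow]
    rw [this, ConjAct.smul_def, ConjAct.ofConjAct_toConjAct]
  have hinv : ∀ y : Subgroup.zpowers z, ∀ r ∈ (R : Set G), y • r ∈ (R : Set G) := by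
    rintro ⟨y, hy⟩ r hr
    obtain ⟨k, rfl⟩ := Subgroup.mem_zpowers_iff.1 hy
    rw [Subgroup.smul_def]
    show (z ^ k) • r ∈ (R : Set G)
    rw [hpow]
    have hk : h ^ k ∈ Subgroup.normalizer (R : Set G) := Subgroup.zpow_mem _ hR k
    exact (Subgroup.mem_normalizer_iff.1 hk r).1 hr
  have h1 := ncard_modEq_of_invariant (H := Subgroup.zpowers z) hZ (R : Set G) hinv
  have h2 : (R : Set G) ∩ MulAction.fixedPoints (Subgroup.zpowers z) G =
      ((R ⊓ Subgroup.centralizer ({h} : Set G) : Subgroup G) : Set G) := by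
    ext r
    rw [Set.mem_inter_iff, SetLike.mem_coe, SetLike.mem_coe, Subgroup.mem_inf,
      Subgroup.mem_centralizer_singleton_iff, mem_fixedPoints]
    constructor
    · rintro ⟨hr, hfix⟩
      refine ⟨hr, ?_⟩
      have := hfix ⟨z, Subgroup.mem_zpowers z⟩
      rw [Subgroup.smul_def] at this
      have h3 : z • r = r := this
      rw [hzsmul] at h3
      calc r * h = h * r * h⁻¹ * h := by rw [h3]
        _ = h * r := by group
    · rintro ⟨hr, hc⟩
      refine ⟨hr, ?_⟩
      rintro ⟨y, hy⟩
      obtain ⟨k, rfl⟩ := Subgroup.mem_zpowers_iff.1 hy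
      rw [Subgroup.smul_def]
      show (z ^ k) • r = r
      rw [hpow]
      have hc' : Commute h r := hc.symm
      have hck : Commute (h ^ k) r := Commute.zpow_left hc' k
      rw [hck.eq]
      group
  rw [h2] at h1
  have e1 : ((R : Subgroup G) : Set G).ncard = Nat.card R := by
    rw [← Nat.card_coe_set_eq]; rfl
  have e2 : ((R ⊓ Subgroup.centralizer ({h} : Set G) : Subgroup G) : Set G).ncard =
      Nat.card ↥(R ⊓ Subgroup.centralizer ({h} : Set G)) := by
    rw [← Nat.card_coe_set_eq]; rfl
  rw [e1, e2] at h1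
  have h3 : Nat.card ↥(R ⊓ Subgroup.centralizer ({h} : Set G)) = Nat.card R :=
    hcard _ (Subgroup.card_dvd_of_le inf_le_left) h1.symm
  have h4 : R ⊓ Subgroup.centralizer ({h} : Set G) = R :=
    Subgroup.eq_of_le_of_card_ge inf_le_left (by rw [h3])
  rw [Subgroup.mem_centralizer_iff]
  intro r hr
  have : r ∈ R ⊓ Subgroup.centralizer ({h} : Set G) := by rw [h4]; exact hr
  rw [Subgroup.mem_inf, Subgroup.mem_centralizer_singleton_iff] at this
  exact this.2

/-- Prime powers `q ^ k` dividing 7920 with `q ∈ {2, 3, 5}`: no proper divisor is congruent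
to `q ^ k` modulo 11. -/
theorem small_pow_modEq (q k : ℕ) (hq : q = 2 ∨ q = 3 ∨ q = 5) (hk : q ^ k ∣ 7920) :
    ∀ d, d ∣ q ^ k → d ≡ q ^ k [MOD 11] → d = q ^ k := by
  intro d hd hmod
  rcases hq with rfl | rfl | rfl
  · have hk4 : k ≤ 4 := by
      by_contra hgt
      push Not at hgt
      have : (2 : ℕ) ^ 5 ∣ 7920 := dvd_trans (pow_dvd_pow 2 hgt) hk
      norm_num at this
    obtain ⟨j, hj, rfl⟩ := (Nat.dvd_prime_pow Nat.prime_two).1 hd
    interval_cases k <;> interval_cases j <;> first | rfl | (exfalso; revert hmod; decide)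
  · have hk4 : k ≤ 2 := by
      by_contra hgt
      push Not at hgt
      have : (3 : ℕ) ^ 3 ∣ 7920 := dvd_trans (pow_dvd_pow 3 hgt) hk
      norm_num at this
    obtain ⟨j, hj, rfl⟩ := (Nat.dvd_prime_pow (by norm_num : Nat.Prime 3)).1 hd
    interval_cases k <;> interval_cases j <;> first | rfl | (exfalso; revert hmod; decide)
  · have hk4 : k ≤ 1 := by
      by_contra hgt
      push Not at hgt
      have : (5 : ℕ) ^ 2 ∣ 7920 := dvd_trans (pow_dvd_pow 5 hgt) hk
      norm_num at this
    obtain ⟨j, hj, rfl⟩ := (Nat.dvd_prime_pow (by norm_num : Nat.Prime 5)).1 hd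
    interval_cases k <;> interval_cases j <;> first | rfl | (exfalso; revert hmod; decide)

/-- The index of the centralizer of a subgroup of order 11 in its normalizer divides 10. -/
theorem relIndex_centralizer_dvd {G : Type*} [Group G] [Finite G] (P : Subgroup G)
    (hP11 : Nat.card P = 11) :
    (Subgroup.centralizer (P : Set G)).relIndex (Subgroup.normalizer (P : Set G)) ∣ 10 := by
  haveI : Fact (Nat.Prime 11) := ⟨by norm_num⟩
  have hcyc : IsCyclic P := isCyclic_of_prime_card hP11
  have hA : Nat.card (MulAut P) = 10 := by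
    rw [hcyc.card_mulAut, hP11, Nat.totient_prime (by norm_num : Nat.Prime 11)]
  have key := Subgroup.card_dvd_of_injective _
    (QuotientGroup.kerLift_injective P.normalizerMonoidHom)
  rw [hA, Subgroup.normalizerMonoidHom_ker] at key
  exact key

end Cfsg.Agent.Helper1.M7920
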