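import Mathlib
import Cfsg.Agent.Helper1.M11d

set_option autoImplicit false
set_option maxHeartbeats 800000

/-!
Groups of order 7920 (helper1): the cases of 1, 12 and 144 Sylow 11-subgroups.
-/

namespace Cfsg.Agent.Helper1.M7920

open MulAction
open Cfsg.Agent.Helper2 Cfsg.Agent.Helper2.Syl21 Cfsg.Agent.Helper4

theorem pow3_modEq5 (k : ℕ) (hk : 3 ^ k ∣ 7920) :
    ∀ d, d ∣ 3 ^ k → d ≡ 3 ^ k [MOD 5] → d = 3 ^ k := by
  intro d hd hmod
  have hk4 : k ≤ 2 := by
    by_contra hgt
    push Not at hgt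
    have : (3 : ℕ) ^ 3 ∣ 7920 := dvd_trans (pow_dvd_pow 3 hgt) hk
    norm_num at this
  obtain ⟨j, hj, rfl⟩ := (Nat.dvd_prime_pow (by norm_num : Nat.Prime 3)).1 hd
  interval_cases k <;> interval_cases j <;> first | rfl | (exfalso; revert hmod; decide)

theorem card_centralizer_mul_relIndex {G : Type*} [Group G] (P : Subgroup G) :
    Nat.card (Subgroup.centralizer (P : Set G)) *
      (Subgroup.centralizer (P : Set G)).relIndex (Subgroup.normalizer (P : Set G)) =
      Nat.card (Subgroup.normalizer (P : Set G)) := by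
  have h := Subgroup.relIndex_mul_relIndex (H := (⊥ : Subgroup G))
    (K := Subgroup.centralizer (P : Set G)) (L := Subgroup.normalizer (P : Set G)) bot_le
    (Subgroup.centralizer_le_normalizer _)
  rwa [Subgroup.relIndex_bot_left, Subgroup.relIndex_bot_left] at h

/-- A subgroup of prime order is contained in its centralizer. -/
theorem le_centralizer_of_card_eleven {G : Type*} [Group G] (P : Subgroup G)
    (hP11 : Nat.card P = 11) : P ≤ Subgroup.centralizer (P : Set G) := by
  haveI : Fact (Nat.Prime 11) := ⟨by norm_num⟩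
  have hcyc : IsCyclic P := isCyclic_of_prime_card hP11
  intro x hx
  rw [Subgroup.mem_centralizer_iff]
  intro y hy
  haveI := hcyc
  have := mul_comm' (⟨y, hy⟩ : P) ⟨x, hx⟩
  exact congrArg Subtype.val this

/-- A group of order 660 or 7920 with a normal Sylow 11-subgroup has elements of orders 22, 33,
and 55 or 15. -/
theorem orders_of_normal_sylow {Y : Type*} [Group Y] [Finite Y]
    (hY : Nat.card Y = 660 ∨ Nat.card Y = 7920) (P : Sylow 11 Y)
    (hPn : (P : Subgroup Y).Normal) :
    (∃ x : Y, orderOf x = 22) ∧ (∃ x : Y, orderOf x = 33) ∧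
      ((∃ x : Y, orderOf x = 55) ∨ ∃ x : Y, orderOf x = 15) := by
  classical
  haveI : Fact (Nat.Prime 11) := ⟨by norm_num⟩
  haveI : Fact (Nat.Prime 2) := ⟨Nat.prime_two⟩
  haveI : Fact (Nat.Prime 3) := ⟨by norm_num⟩
  haveI : Fact (Nat.Prime 5) := ⟨by norm_num⟩
  have hY7920 : Nat.card Y ∣ 7920 := by
    rcases hY with h | h <;> rw [h] <;> norm_num
  have hP11 : Nat.card (P : Subgroup Y) = 11 := by
    apply SylFew.sylow_card_eq_prime_of_sq_not_dvd P
    · rcases hY with h | h <;> rw [h] <;> norm_num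
    · rcases hY with h | h <;> rw [h] <;> norm_num
  obtain ⟨C, hC⟩ : ∃ C : Subgroup Y, C = Subgroup.centralizer ((P : Subgroup Y) : Set Y) :=
    ⟨_, rfl⟩
  haveI : C.Normal := by rw [hC]; exact Subgroup.normal_centralizer
  have hNtop : Subgroup.normalizer ((P : Subgroup Y) : Set Y) = ⊤ :=
    Subgroup.normalizer_eq_top_iff.2 hPn
  have hidx : C.index ∣ 10 := by
    have := relIndex_centralizer_dvd (P : Subgroup Y) hP11
    rwa [hNtop, Subgroup.relIndex_top_right, ← hC] at this
  have hCcard : Nat.card C * C.index = Nat.card Y := C.card_mul_index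
  have hd : C.index = 1 ∨ C.index = 2 ∨ C.index = 5 ∨ C.index = 10 := by
    have hle : C.index ≤ 10 := Nat.le_of_dvd (by norm_num) hidx
    have hpos : 0 < C.index := Nat.pos_of_dvd_of_pos hidx (by norm_num)
    interval_cases h : C.index <;> simp_all
  have h6 : 6 ∣ Nat.card C := by
    rcases hd with h | h | h | h <;> rw [h] at hCcard <;> rcases hY with h' | h' <;>
      rw [h'] at hCcard <;> omega
  have hPC : (P : Subgroup Y) ≤ C := by
    rw [hC]; exact le_centralizer_of_card_eleven _ hP11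
  obtain ⟨g, hg⟩ := exists_prime_orderOf_dvd_card' 11 (by rw [hP11] :
    11 ∣ Nat.card (P : Subgroup Y))
  have hgo : orderOf (g : Y) = 11 := by rw [Subgroup.orderOf_coe]; exact hg
  have key : ∀ (r : ℕ) [Fact r.Prime], r ∣ Nat.card C → Nat.Coprime r 11 →
      ∃ x : Y, orderOf x = r * 11 := by
    intro r _ hr hc
    obtain ⟨y, hy⟩ := exists_prime_orderOf_dvd_card' r hr
    have hyo : orderOf (y : Y) = r := by rw [Subgroup.orderOf_coe]; exact hy
    have hyC : (y : Y) ∈ Subgroup.centralizer ((P : Subgroup Y) : Set Y) := by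
      rw [← hC]; exact y.2
    have hcomm : Commute (y : Y) (g : Y) :=
      ((Subgroup.mem_centralizer_iff.1 hyC) g g.2).symm
    refine ⟨(y : Y) * g, ?_⟩
    rw [hcomm.orderOf_mul_eq_mul_orderOf_of_coprime (by rw [hyo, hgo]; exact hc), hyo, hgo]
  refine ⟨?_, ?_, ?_⟩
  · exact key 2 (dvd_trans (by norm_num) h6) (by norm_num)
  · exact key 3 (dvd_trans (by norm_num) h6) (by norm_num)
  · by_cases h5C : 5 ∣ Nat.card C
    · left
      exact key 5 h5C (by norm_num)
    · right
      have h5Y : 5 ∣ Nat.card Y := by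
        rcases hY with h | h <;> rw [h] <;> norm_num
      obtain ⟨x5, hx5⟩ := exists_prime_orderOf_dvd_card' 5 h5Y
      obtain ⟨R, hR⟩ := exists_normalized_sylow 5 3 C x5 hx5 h5C
      obtain ⟨R', hR'⟩ : ∃ R' : Subgroup Y, R' = (R : Subgroup ↥C).map C.subtype := ⟨_, rfl⟩
      rw [← hR'] at hR
      have hR'card : Nat.card R' = Nat.card (R : Subgroup ↥C) := by
        rw [hR', Subgroup.card_map_of_injective (Subgroup.subtype_injective C)]
      obtain ⟨k, hk⟩ := IsPGroup.iff_card.1 R.isPGroup'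
      have hk7920 : 3 ^ k ∣ 7920 := by
        rw [← hk, ← hR'card]
        exact dvd_trans (Subgroup.card_subgroup_dvd_card R') hY7920
      have hcent : x5 ∈ Subgroup.centralizer (R' : Set Y) := by
        apply mem_centralizer_of_modEq 5 x5 hx5 R' hR
        rw [hR'card, hk]
        exact pow3_modEq5 k hk7920
      have h3R : 3 ∣ Nat.card R' := by
        rw [hR'card]
        exact R.dvd_card_of_dvd_card (dvd_trans (by norm_num) h6)
      obtain ⟨y, hy⟩ := exists_prime_orderOf_dvd_card' 3 h3R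
      have hyo : orderOf (y : Y) = 3 := by rw [Subgroup.orderOf_coe]; exact hy
      have hcomm : Commute (y : Y) x5 := (Subgroup.mem_centralizer_iff.1 hcent) y y.2
      refine ⟨(y : Y) * x5, ?_⟩
      rw [hcomm.orderOf_mul_eq_mul_orderOf_of_coprime (by rw [hyo, hx5]; norm_num), hyo, hx5]

end Cfsg.Agent.Helper1.M7920
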