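import Mathlib
import Cfsg.Agent.Helper1.M11e

set_option autoImplicit false
set_option maxHeartbeats 800000

/-!
Groups of order 7920 (helper1): with 144 Sylow 11-subgroups the group is simple.
-/

namespace Cfsg.Agent.Helper1.M7920

open MulAction
open Cfsg.Agent.Helper2 Cfsg.Agent.Helper2.Syl21 Cfsg.Agent.Helper4

/-- A group of order 7920 with exactly 144 Sylow 11-subgroups is simple. -/
theorem simple_of_144 {G : Type*} [Group G] [Finite G] (hG : Nat.card G = 7920)
    (h144 : Nat.card (Sylow 11 G) = 144) : IsSimpleGroup G := by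
  classical
  haveI : Fact (Nat.Prime 11) := ⟨by norm_num⟩
  haveI : Fact (Nat.Prime 2) := ⟨Nat.prime_two⟩
  haveI : Fact (Nat.Prime 3) := ⟨by norm_num⟩
  haveI : Fact (Nat.Prime 5) := ⟨by norm_num⟩
  obtain ⟨P⟩ : Nonempty (Sylow 11 G) := inferInstance
  have hP11 : Nat.card (P : Subgroup G) = 11 := by
    apply SylFew.sylow_card_eq_prime_of_sq_not_dvd P
    · rw [hG]; norm_num
    · rw [hG]; norm_num
  have hNcard : Nat.card (Subgroup.normalizer ((P : Subgroup G) : Set G)) = 55 := by
    have h1 := (Subgroup.normalizer ((P : Subgroup G) : Set G)).card_mul_index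
    have h0 : Nat.card (Sylow 11 G) =
        (Subgroup.normalizer ((P : Subgroup G) : Set G)).index := P.card_eq_index_normalizer
    rw [← h0, h144, hG] at h1
    omega
  have hrel := relIndex_centralizer_dvd (P : Subgroup G) hP11
  have hmul := card_centralizer_mul_relIndex (P : Subgroup G)
  rw [hNcard] at hmul
  have hPC := le_centralizer_of_card_eleven (P : Subgroup G) hP11
  have h11C : 11 ∣ Nat.card (Subgroup.centralizer ((P : Subgroup G) : Set G)) := by
    have := Subgroup.card_dvd_of_le hPC
    rwa [hP11] at this
  -- the centralizer of `P` is `P`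
  have hCP : Subgroup.centralizer ((P : Subgroup G) : Set G) = (P : Subgroup G) := by
    by_cases hc : Nat.card (Subgroup.centralizer ((P : Subgroup G) : Set G)) = 11
    · symm
      apply Subgroup.eq_of_le_of_card_ge hPC
      rw [hc, hP11]
    · exfalso
      -- the centralizer has order 55, so `N(P) ≤ C(P)`
      have hrel1 : (Subgroup.centralizer ((P : Subgroup G) : Set G)).relIndex
          (Subgroup.normalizer ((P : Subgroup G) : Set G)) = 1 := by
        obtain ⟨m, hm⟩ := h11C
        have hle : (Subgroup.centralizer ((P : Subgroup G) : Set G)).relIndex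
            (Subgroup.normalizer ((P : Subgroup G) : Set G)) ≤ 10 :=
          Nat.le_of_dvd (by norm_num) hrel
        rw [hm] at hmul hc
        have hm5 : m * (Subgroup.centralizer ((P : Subgroup G) : Set G)).relIndex
            (Subgroup.normalizer ((P : Subgroup G) : Set G)) = 5 := by
          have : 11 * (m * (Subgroup.centralizer ((P : Subgroup G) : Set G)).relIndex
            (Subgroup.normalizer ((P : Subgroup G) : Set G))) = 11 * 5 := by
            rw [← mul_assoc]; exact hmul
          exact Nat.eq_of_mul_eq_mul_left (by norm_num) this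
        have hmd : m ∣ 5 := ⟨_, hm5.symm⟩
        rcases (Nat.dvd_prime (by norm_num : Nat.Prime 5)).1 hmd with h1 | h1
        · rw [h1] at hc; exact absurd rfl hc
        · rw [h1] at hm5; omega
      have hNC : Subgroup.normalizer ((P : Subgroup G) : Set G) ≤
          Subgroup.centralizer ((P : Subgroup G) : Set G) :=
        Subgroup.relIndex_eq_one.1 hrel1
      have hCcard : Nat.card (Subgroup.centralizer ((P : Subgroup G) : Set G)) = 55 := by
        rw [hrel1, mul_one] at hmul; exact hmul
      refine false_of_NC 11 3 P hP11 hNC (by norm_num) (by rw [hG]; norm_num) ?_ ?_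
      · intro S3
        obtain ⟨k, hk⟩ := IsPGroup.iff_card.1 S3.isPGroup'
        have hk7920 : 3 ^ k ∣ 7920 := by
          rw [← hk, ← hG]; exact Subgroup.card_subgroup_dvd_card _
        have hk2 : k ≤ 2 := by
          by_contra hgt
          push Not at hgt
          have : (3 : ℕ) ^ 3 ∣ 7920 := dvd_trans (pow_dvd_pow 3 hgt) hk7920
          norm_num at this
        rw [hk]
        interval_cases k <;> norm_num
      · intro c hc hc3
        have h1 : orderOf c ∣ 55 := by
          rw [← hCcard]
          have := orderOf_dvd_natCard (⟨c, hc⟩ :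
            ↥(Subgroup.centralizer ((P : Subgroup G) : Set G)))
          rwa [← Subgroup.orderOf_coe] at this
        rw [hc3] at h1
        norm_num at h1
  obtain ⟨g, hg⟩ := exists_prime_orderOf_dvd_card' 11 (by rw [hP11] :
    11 ∣ Nat.card (P : Subgroup G))
  have hgo : orderOf (g : G) = 11 := by rw [Subgroup.orderOf_coe]; exact hg
  have hPz : (P : Subgroup G) = Subgroup.zpowers (g : G) := by
    symm
    apply Subgroup.eq_of_le_of_card_ge
    · rw [Subgroup.zpowers_le]; exact g.2
    · rw [Nat.card_zpowers, hgo, hP11]
  -- no element of prime order `q ≠ 11` commutes with `g`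
  have hnocomm : ∀ (y : G) (q : ℕ), q.Prime → q ≠ 11 → orderOf y = q → Commute (g : G) y →
      False := by
    intro y q hq hq11 hy hcomm
    have hyC : y ∈ Subgroup.centralizer ((P : Subgroup G) : Set G) := by
      rw [Subgroup.mem_centralizer_iff]
      intro x hx
      rw [hPz] at hx
      obtain ⟨k, rfl⟩ := Subgroup.mem_zpowers_iff.1 hx
      exact (Commute.zpow_left hcomm k).eq
    rw [hCP] at hyC
    have h1 : orderOf y ∣ 11 := by
      rw [← hP11]
      have := orderOf_dvd_natCard (⟨y, hyC⟩ : ↥(P : Subgroup G))
      rwa [← Subgroup.orderOf_coe] at this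
    rw [hy] at h1
    exact hq11 ((Nat.prime_dvd_prime_iff_eq hq (by norm_num)).1 h1)
  haveI : Nontrivial G := by
    rw [← Finite.one_lt_card_iff_nontrivial, hG]; norm_num
  refine ⟨fun N hN => ?_⟩
  haveI := hN
  by_cases h11N : 11 ∣ Nat.card N
  · right
    -- `N` contains all Sylow 11-subgroups
    have h11idx : ¬ 11 ∣ N.index := by
      intro hd
      have h2 : 11 * 11 ∣ Nat.card N * N.index := Nat.mul_dvd_mul h11N hd
      rw [N.card_mul_index, hG] at h2
      norm_num at h2
    have h144N : Nat.card (Sylow 11 N) = 144 := by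
      rw [card_sylow_of_normal_of_not_dvd_index 11 N h11idx, h144]
    obtain ⟨PN⟩ : Nonempty (Sylow 11 N) := inferInstance
    have hPN11 : Nat.card (PN : Subgroup N) = 11 := by
      apply SylFew.sylow_card_eq_prime_of_sq_not_dvd PN h11N
      intro h
      have : 11 ^ 2 ∣ Nat.card G := dvd_trans h (Subgroup.card_subgroup_dvd_card N)
      rw [hG] at this
      norm_num at this
    have hidxPN : (PN : Subgroup N).index * 11 = Nat.card N := by
      have := (PN : Subgroup N).card_mul_index
      rw [hPN11] at this
      rw [mul_comm]; exact this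
    have h144d : 144 ∣ (PN : Subgroup N).index := by
      rw [← h144N]; exact Sylow.card_dvd_index PN
    have hNdvd : Nat.card N ∣ 7920 := by
      rw [← hG]; exact Subgroup.card_subgroup_dvd_card N
    obtain ⟨m, hm⟩ := h144d
    have hNm : Nat.card N = 1584 * m := by rw [← hidxPN, hm]; ring
    have hm5 : m ∣ 5 := by
      rw [hNm] at hNdvd
      have : 1584 * m ∣ 1584 * 5 := by norm_num; exact hNdvd
      exact Nat.dvd_of_mul_dvd_mul_left (by norm_num) this
    rcases (Nat.dvd_prime (by norm_num : Nat.Prime 5)).1 hm5 with h1 | h1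
    · -- `|N| = 1584`: contradiction via Burnside transfer inside `N`
      exfalso
      rw [h1, mul_one] at hNm hm
      have hNNcard : Nat.card (Subgroup.normalizer ((PN : Subgroup N) : Set N)) = 11 := by
        have h2 := (Subgroup.normalizer ((PN : Subgroup N) : Set N)).card_mul_index
        have h0 : Nat.card (Sylow 11 N) =
          (Subgroup.normalizer ((PN : Subgroup N) : Set N)).index := PN.card_eq_index_normalizer
        rw [← h0, h144N, hNm] at h2
        omega
      have hPNC := le_centralizer_of_card_eleven (PN : Subgroup N) hPN11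
      have hNPN : Subgroup.normalizer ((PN : Subgroup N) : Set N) = (PN : Subgroup N) := by
        symm
        apply Subgroup.eq_of_le_of_card_ge Subgroup.le_normalizer
        rw [hNNcard, hPN11]
      have hNC : Subgroup.normalizer ((PN : Subgroup N) : Set N) ≤
          Subgroup.centralizer ((PN : Subgroup N) : Set N) := by
        rw [hNPN]; exact hPNC
      refine false_of_NC 11 3 PN hPN11 hNC (by norm_num) (by rw [hNm]; norm_num) ?_ ?_
      · intro S3
        obtain ⟨k, hk⟩ := IsPGroup.iff_card.1 S3.isPGroup'
        have hk7920 : 3 ^ k ∣ 1584 := by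
          rw [← hk, ← hNm]; exact Subgroup.card_subgroup_dvd_card _
        have hk2 : k ≤ 2 := by
          by_contra hgt
          push Not at hgt
          have : (3 : ℕ) ^ 3 ∣ 1584 := dvd_trans (pow_dvd_pow 3 hgt) hk7920
          norm_num at this
        rw [hk]
        interval_cases k <;> norm_num
      · intro c hc hc3
        -- `c` commutes with an element of order 11 of `G`
        obtain ⟨g', hg'⟩ := exists_prime_orderOf_dvd_card' 11 (by rw [hPN11] :
          11 ∣ Nat.card (PN : Subgroup N))
        have hg'o : orderOf ((g' : N) : G) = 11 := by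
          rw [Subgroup.orderOf_coe, Subgroup.orderOf_coe]; exact hg'
        have hco : orderOf (c : G) = 3 := by rw [Subgroup.orderOf_coe]; exact hc3
        have hcomm : Commute ((g' : N) : G) (c : G) := by
          have := (Subgroup.mem_centralizer_iff.1 hc) g' g'.2
          have h3 : (g' : N) * c = c * (g' : N) := this
          exact congrArg Subtype.val h3
        -- conjugate `⟨g'⟩` to `P`
        have hfact : (Nat.card G).factorization 11 = 1 := by
          have h1 := P.card_eq_multiplicity
          rw [hP11] at h1
          have h2 : 11 ^ 1 = 11 ^ (Nat.card G).factorization 11 := by rw [pow_one]; exact h1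
          exact (Nat.pow_right_injective (by norm_num : 2 ≤ 11) h2).symm
        have hQcard : Nat.card (Subgroup.zpowers ((g' : N) : G)) =
            11 ^ (Nat.card G).factorization 11 := by
          rw [Nat.card_zpowers, hg'o, hfact, pow_one]
        obtain ⟨x, hx⟩ := MulAction.exists_smul_eq G
          (Sylow.ofCard (Subgroup.zpowers ((g' : N) : G)) hQcard) P
        have hgmem : (g : G) ∈ ((x • Sylow.ofCard (Subgroup.zpowers ((g' : N) : G)) hQcard :
            Sylow 11 G) : Subgroup G) := by rw [hx]; exact g.2
        rw [mem_smul_sylow_iff] at hgmem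
        have hgmem' : x⁻¹ * (g : G) * x ∈ Subgroup.zpowers ((g' : N) : G) := hgmem
        obtain ⟨k, hk⟩ := Subgroup.mem_zpowers_iff.1 hgmem'
        have hc2 : Commute (x⁻¹ * (g : G) * x) (c : G) := by
          rw [← hk]; exact Commute.zpow_left hcomm k
        apply hnocomm (x * (c : G) * x⁻¹) 3 (by norm_num) (by norm_num)
        · have h1 := (MulAut.conj x).orderOf_eq (c : G)
          rw [MulAut.conj_apply] at h1
          rw [h1, hco]
        · have := hc2.eq
          show (g : G) * (x * (c : G) * x⁻¹) = x * (c : G) * x⁻¹ * (g : G)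
          calc (g : G) * (x * (c : G) * x⁻¹) = x * ((x⁻¹ * (g : G) * x) * (c : G)) * x⁻¹ := by
                group
            _ = x * ((c : G) * (x⁻¹ * (g : G) * x)) * x⁻¹ := by rw [this]
            _ = x * (c : G) * x⁻¹ * (g : G) := by group
    · rw [h1] at hNm
      apply Subgroup.card_eq_iff_eq_top N |>.1
      rw [hNm, hG]
  · left
    by_contra hNbot
    have hN1 : Nat.card N ≠ 1 := fun h => hNbot (Subgroup.card_eq_one.1 h)
    obtain ⟨q, hq, hqN⟩ := Nat.exists_prime_and_dvd hN1
    haveI : Fact q.Prime := ⟨hq⟩
    have hq11 : q ≠ 11 := by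
      rintro rfl; exact h11N hqN
    have hNdvd : Nat.card N ∣ 7920 := by
      rw [← hG]; exact Subgroup.card_subgroup_dvd_card N
    have hq7920 : q ∣ 7920 := dvd_trans hqN hNdvd
    have hq235 : q = 2 ∨ q = 3 ∨ q = 5 := by
      have h7920 : (7920 : ℕ) = 2 ^ 4 * 3 ^ 2 * 5 * 11 := by norm_num
      rw [h7920] at hq7920
      rcases (Nat.Prime.dvd_mul hq).1 hq7920 with h | h
      · rcases (Nat.Prime.dvd_mul hq).1 h with h | h
        · rcases (Nat.Prime.dvd_mul hq).1 h with h | h
          · left
            exact (Nat.prime_dvd_prime_iff_eq hq Nat.prime_two).1 (hq.dvd_of_dvd_pow h)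
          · right; left
            exact (Nat.prime_dvd_prime_iff_eq hq (by norm_num)).1 (hq.dvd_of_dvd_pow h)
        · right; right
          exact (Nat.prime_dvd_prime_iff_eq hq (by norm_num)).1 h
      · exact absurd ((Nat.prime_dvd_prime_iff_eq hq (by norm_num)).1 h) hq11
    obtain ⟨R, hR⟩ := exists_normalized_sylow 11 q N (g : G) hgo h11N
    obtain ⟨R', hR'⟩ : ∃ R' : Subgroup G, R' = (R : Subgroup ↥N).map N.subtype := ⟨_, rfl⟩
    rw [← hR'] at hR
    have hR'card : Nat.card R' = Nat.card (R : Subgroup ↥N) := by
      rw [hR', Subgroup.card_map_of_injective (Subgroup.subtype_injective N)]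
    obtain ⟨k, hk⟩ := IsPGroup.iff_card.1 R.isPGroup'
    have hk7920 : q ^ k ∣ 7920 := by
      rw [← hk, ← hR'card, ← hG]
      exact Subgroup.card_subgroup_dvd_card R'
    have hcent : (g : G) ∈ Subgroup.centralizer (R' : Set G) := by
      apply mem_centralizer_of_modEq 11 (g : G) hgo R' hR
      rw [hR'card, hk]
      exact small_pow_modEq q k hq235 hk7920
    have hqR : q ∣ Nat.card R' := by
      rw [hR'card]
      exact R.dvd_card_of_dvd_card hqN
    obtain ⟨y, hy⟩ := exists_prime_orderOf_dvd_card' q hqR
    have hyo : orderOf (y : G) = q := by rw [Subgroup.orderOf_coe]; exact hy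
    have hcomm : Commute (y : G) (g : G) := (Subgroup.mem_centralizer_iff.1 hcent) y y.2
    exact hnocomm (y : G) q hq hq11 hyo hcomm.symm

end Cfsg.Agent.Helper1.M7920
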