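import Mathlib
import Cfsg.Agent.Helper1.M11f

set_option autoImplicit false
set_option maxHeartbeats 800000

/-!
Groups of order 7920 with disconnected prime graph are simple (helper1): assembly.
-/

namespace Cfsg.Agent.Helper1.M7920

open MulAction
open Cfsg.Agent.Helper2 Cfsg.Agent.Helper2.Syl21 Cfsg.Agent.Helper4

theorem prime_dvd_7920 (q : ℕ) (hq : q.Prime) (h : q ∣ 7920) :
    q = 2 ∨ q = 3 ∨ q = 5 ∨ q = 11 := by
  have h7920 : (7920 : ℕ) = 2 ^ 4 * 3 ^ 2 * 5 * 11 := by norm_num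
  rw [h7920] at h
  rcases (Nat.Prime.dvd_mul hq).1 h with h | h
  · rcases (Nat.Prime.dvd_mul hq).1 h with h | h
    · rcases (Nat.Prime.dvd_mul hq).1 h with h | h
      · left
        exact (Nat.prime_dvd_prime_iff_eq hq Nat.prime_two).1 (hq.dvd_of_dvd_pow h)
      · right; left
        exact (Nat.prime_dvd_prime_iff_eq hq (by norm_num)).1 (hq.dvd_of_dvd_pow h)
    · right; right; left
      exact (Nat.prime_dvd_prime_iff_eq hq (by norm_num)).1 h
  · right; right; right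
    exact (Nat.prime_dvd_prime_iff_eq hq (by norm_num)).1 h

theorem edge_iff {G : Type*} [Group G] (A : Set ℕ)
    (hno : ∀ a ∈ A, ∀ b ∉ A, a.Prime → b.Prime → a ∣ Nat.card G → b ∣ Nat.card G →
      ¬ ∃ g : G, orderOf g = a * b)
    (r s : ℕ) (hr : r.Prime) (hs : s.Prime) (hrd : r ∣ Nat.card G) (hsd : s ∣ Nat.card G)
    (hx : ∃ x : G, orderOf x = r * s) : r ∈ A ↔ s ∈ A := by
  obtain ⟨x, hx⟩ := hx
  constructor
  · intro hrA
    by_contra hsA
    exact hno r hrA s hsA hr hs hrd hsd ⟨x, hx⟩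
  · intro hsA
    by_contra hrA
    exact hno s hsA r hrA hs hr hsd hrd ⟨x, by rw [hx, mul_comm]⟩

theorem card_sylow_eleven_cases {G : Type*} [Group G] [Finite G] (hord : Nat.card G = 7920) :
    Nat.card (Sylow 11 G) = 1 ∨ Nat.card (Sylow 11 G) = 12 ∨ Nat.card (Sylow 11 G) = 45 ∨
      Nat.card (Sylow 11 G) = 144 := by
  haveI : Fact (Nat.Prime 11) := ⟨by norm_num⟩
  obtain ⟨P⟩ : Nonempty (Sylow 11 G) := inferInstance
  have hP11 : Nat.card (P : Subgroup G) = 11 := by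
    apply SylFew.sylow_card_eq_prime_of_sq_not_dvd P
    · rw [hord]; norm_num
    · rw [hord]; norm_num
  have hidx : (P : Subgroup G).index = 720 := by
    have := (P : Subgroup G).card_mul_index
    rw [hP11, hord] at this
    omega
  have hdvd : Nat.card (Sylow 11 G) ∣ 720 := by
    rw [← hidx]; exact Sylow.card_dvd_index P
  have hmod : Nat.card (Sylow 11 G) % 11 = 1 := card_sylow_modEq_one 11 G
  have hmem : Nat.card (Sylow 11 G) ∈ (Nat.divisors 720).filter (fun d => d % 11 = 1) := by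
    rw [Finset.mem_filter, Nat.mem_divisors]
    exact ⟨⟨hdvd, by norm_num⟩, hmod⟩
  have hset : (Nat.divisors 720).filter (fun d => d % 11 = 1) = {1, 12, 45, 144} := by decide
  rw [hset] at hmem
  simpa using hmem

/-- With 1 or 12 Sylow 11-subgroups there are elements of orders 22, 33, and 55 or 15. -/
theorem edges_of_small {G : Type*} [Group G] [Finite G] (hord : Nat.card G = 7920)
    (h : Nat.card (Sylow 11 G) = 1 ∨ Nat.card (Sylow 11 G) = 12) :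
    (∃ x : G, orderOf x = 22) ∧ (∃ x : G, orderOf x = 33) ∧
      ((∃ x : G, orderOf x = 55) ∨ ∃ x : G, orderOf x = 15) := by
  haveI : Fact (Nat.Prime 11) := ⟨by norm_num⟩
  obtain ⟨P⟩ : Nonempty (Sylow 11 G) := inferInstance
  have hle : (P : Subgroup G) ≤ Subgroup.normalizer ((P : Subgroup G) : Set G) :=
    Subgroup.le_normalizer
  have hYcard : Nat.card (Subgroup.normalizer ((P : Subgroup G) : Set G)) = 660 ∨
      Nat.card (Subgroup.normalizer ((P : Subgroup G) : Set G)) = 7920 := by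
    have h1 := (Subgroup.normalizer ((P : Subgroup G) : Set G)).card_mul_index
    have h0 : Nat.card (Sylow 11 G) =
        (Subgroup.normalizer ((P : Subgroup G) : Set G)).index := P.card_eq_index_normalizer
    rw [← h0, hord] at h1
    rcases h with h | h <;> rw [h] at h1 <;> omega
  have hnorm : ((P.subtype hle : Sylow 11 ↥(Subgroup.normalizer ((P : Subgroup G) : Set G))) :
      Subgroup ↥(Subgroup.normalizer ((P : Subgroup G) : Set G))).Normal := by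
    rw [Sylow.coe_subtype]
    exact Subgroup.normal_in_normalizer
  obtain ⟨⟨x22, h22⟩, ⟨x33, h33⟩, h5⟩ := orders_of_normal_sylow hYcard (P.subtype hle) hnorm
  refine ⟨⟨(x22 : G), by rw [Subgroup.orderOf_coe]; exact h22⟩,
    ⟨(x33 : G), by rw [Subgroup.orderOf_coe]; exact h33⟩, ?_⟩
  rcases h5 with ⟨x, hx⟩ | ⟨x, hx⟩
  · exact Or.inl ⟨(x : G), by rw [Subgroup.orderOf_coe]; exact hx⟩
  · exact Or.inr ⟨(x : G), by rw [Subgroup.orderOf_coe]; exact hx⟩

/-- A group of order 7920 whose prime graph is disconnected is simple. -/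
theorem simple_of_disconnected {G : Type*} [Group G] [Finite G] (hord : Nat.card G = 7920)
    (hdisc : (∃ A : Set ℕ, (∃ a ∈ A, a.Prime ∧ a ∣ Nat.card G) ∧
      (∃ b ∉ A, b.Prime ∧ b ∣ Nat.card G) ∧
      ∀ a ∈ A, ∀ b ∉ A, a.Prime → b.Prime → a ∣ Nat.card G → b ∣ Nat.card G →
        ¬ ∃ g : G, orderOf g = a * b)) :
    IsSimpleGroup G := by
  classical
  haveI : Fact (Nat.Prime 11) := ⟨by norm_num⟩
  obtain ⟨A, ⟨a, haA, hap, had⟩, ⟨b, hbA, hbp, hbd⟩, hno⟩ := hdisc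
  have h2d : 2 ∣ Nat.card G := by rw [hord]; norm_num
  have h3d : 3 ∣ Nat.card G := by rw [hord]; norm_num
  have h5d : 5 ∣ Nat.card G := by rw [hord]; norm_num
  have h11d : 11 ∣ Nat.card G := by rw [hord]; norm_num
  have p2 : Nat.Prime 2 := Nat.prime_two
  have p3 : Nat.Prime 3 := by norm_num
  have p5 : Nat.Prime 5 := by norm_num
  have p11 : Nat.Prime 11 := by norm_num
  have ha4 := prime_dvd_7920 a hap (by rw [← hord]; exact had)
  have hb4 := prime_dvd_7920 b hbp (by rw [← hord]; exact hbd)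
  -- a spanning set of edges gives a contradiction
  have hfin : (2 ∈ A ↔ 11 ∈ A) → ((3 ∈ A ↔ 11 ∈ A) ∨ (3 ∈ A ↔ 2 ∈ A)) →
      ((5 ∈ A ↔ 11 ∈ A) ∨ (5 ∈ A ↔ 3 ∈ A) ∨ (5 ∈ A ↔ 2 ∈ A)) → False := by
    intro e1 e2 e3
    rcases ha4 with rfl | rfl | rfl | rfl <;> rcases hb4 with rfl | rfl | rfl | rfl <;> tauto
  rcases card_sylow_eleven_cases hord with h | h | h | h
  · -- normal Sylow 11-subgroup
    exfalso
    obtain ⟨⟨x22, h22⟩, ⟨x33, h33⟩, h5'⟩ := edges_of_small hord (Or.inl h)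
    have e1 : 2 ∈ A ↔ 11 ∈ A := edge_iff A hno 2 11 p2 p11 h2d h11d ⟨x22, by rw [h22]⟩
    have e2 : 3 ∈ A ↔ 11 ∈ A := edge_iff A hno 3 11 p3 p11 h3d h11d ⟨x33, by rw [h33]⟩
    rcases h5' with ⟨x, hx⟩ | ⟨x, hx⟩
    · have e3 : 5 ∈ A ↔ 11 ∈ A := edge_iff A hno 5 11 p5 p11 h5d h11d ⟨x, by rw [hx]⟩
      exact hfin e1 (Or.inl e2) (Or.inl e3)
    · have e3 : 5 ∈ A ↔ 3 ∈ A := edge_iff A hno 5 3 p5 p3 h5d h3d ⟨x, by rw [hx]⟩
      exact hfin e1 (Or.inl e2) (Or.inr (Or.inl e3))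
  · exfalso
    obtain ⟨⟨x22, h22⟩, ⟨x33, h33⟩, h5'⟩ := edges_of_small hord (Or.inr h)
    have e1 : 2 ∈ A ↔ 11 ∈ A := edge_iff A hno 2 11 p2 p11 h2d h11d ⟨x22, by rw [h22]⟩
    have e2 : 3 ∈ A ↔ 11 ∈ A := edge_iff A hno 3 11 p3 p11 h3d h11d ⟨x33, by rw [h33]⟩
    rcases h5' with ⟨x, hx⟩ | ⟨x, hx⟩
    · have e3 : 5 ∈ A ↔ 11 ∈ A := edge_iff A hno 5 11 p5 p11 h5d h11d ⟨x, by rw [hx]⟩
      exact hfin e1 (Or.inl e2) (Or.inl e3)
    · have e3 : 5 ∈ A ↔ 3 ∈ A := edge_iff A hno 5 3 p5 p3 h5d h3d ⟨x, by rw [hx]⟩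
      exact hfin e1 (Or.inl e2) (Or.inr (Or.inl e3))
  · exfalso
    obtain ⟨⟨x6, h6⟩, ⟨x10, h10⟩, ⟨x22, h22⟩⟩ := claim45 4 G (by rw [hord]; norm_num) h
    have e1 : 2 ∈ A ↔ 11 ∈ A := edge_iff A hno 2 11 p2 p11 h2d h11d ⟨x22, by rw [h22]⟩
    have e2 : 3 ∈ A ↔ 2 ∈ A := edge_iff A hno 3 2 p3 p2 h3d h2d ⟨x6, by rw [h6]⟩
    have e3 : 5 ∈ A ↔ 2 ∈ A := edge_iff A hno 5 2 p5 p2 h5d h2d ⟨x10, by rw [h10]⟩
    exact hfin e1 (Or.inr e2) (Or.inr (Or.inr e3))
  · exact simple_of_144 hord h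

end Cfsg.Agent.Helper1.M7920
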