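import Mathlib
import Cfsg.Agent.Helper7.M11_L2b

set_option autoImplicit false
set_option maxHeartbeats 800000
set_option linter.style.haveILetI false

/-!
Simple groups of order 7920 (helper1): group-side lemmas for the character-theoretic
determination of the degrees: involutions do not normalize subgroups of order 11, and the
structure of the centralizer of a Sylow 5-subgroup.
-/

namespace Cfsg.Agent.Helper2.M11

open Subgroup

/-- An involution does not normalize the subgroup generated by an element of order 11. -/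
theorem h1_involution_not_normalize_eleven {G : Type*} [Group G] [Finite G]
    (hs : IsSimpleGroup G) (hc : Nat.card G = 7920) (u s : G) (hu : orderOf u = 2)
    (hs11 : orderOf s = 11) : u * s * u⁻¹ ∉ Subgroup.zpowers s := by
  intro hmem
  haveI : Fact (Nat.Prime 11) := ⟨by norm_num⟩
  have hZcard : Nat.card (Subgroup.zpowers s) = 11 := by rw [Nat.card_zpowers, hs11]
  have hZ : IsPGroup 11 (Subgroup.zpowers s) :=
    IsPGroup.of_card (n := 1) (by rw [hZcard]; norm_num)
  obtain ⟨P, hP⟩ := hZ.exists_le_sylow
  have hPeq : Subgroup.zpowers s = (P : Subgroup G) := by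
    apply Subgroup.eq_of_le_of_card_ge hP
    rw [hZcard, card_sylow11_subgroup hc P]
  have huN : u ∈ normalizer ((P : Subgroup G) : Set G) := by
    apply h7_mem_normalizer_of_conj_mem
    intro x hx
    rw [← hPeq] at hx ⊢
    obtain ⟨k, rfl⟩ := Subgroup.mem_zpowers_iff.1 hx
    rw [← conj_zpow]
    exact zpow_mem hmem k
  have hdvd : orderOf u ∣ 55 := by
    rw [← card_normalizer_sylow11 hs hc P]
    have := orderOf_dvd_natCard (⟨u, huN⟩ : ↥(normalizer ((P : Subgroup G) : Set G)))
    rwa [← Subgroup.orderOf_coe] at this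
  rw [hu] at hdvd
  norm_num at hdvd

/-- No involution inverts an element of order 11. -/
theorem not_inverts_eleven {G : Type*} [Group G] [Finite G]
    (hs : IsSimpleGroup G) (hc : Nat.card G = 7920) (u s : G) (hu : orderOf u = 2)
    (hs11 : orderOf s = 11) : u * s * u⁻¹ ≠ s⁻¹ := by
  intro h
  apply h1_involution_not_normalize_eleven hs hc u s hu hs11
  rw [h]
  exact inv_mem (Subgroup.mem_zpowers s)

/-- The product of two involutions does not have order 11. -/
theorem orderOf_mul_involutions_ne_eleven {G : Type*} [Group G] [Finite G]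
    (hs : IsSimpleGroup G) (hc : Nat.card G = 7920) (a b : G) (ha : orderOf a = 2)
    (hb : orderOf b = 2) : orderOf (a * b) ≠ 11 := by
  intro h
  have ha2 : a * a = 1 := by
    have := pow_orderOf_eq_one a
    rwa [ha, pow_two] at this
  have hb2 : b * b = 1 := by
    have := pow_orderOf_eq_one b
    rwa [hb, pow_two] at this
  have hainv : a⁻¹ = a := inv_eq_of_mul_eq_one_right ha2
  have hbinv : b⁻¹ = b := inv_eq_of_mul_eq_one_right hb2
  apply not_inverts_eleven hs hc a (a * b) ha h
  rw [mul_inv_rev, hainv, hbinv]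
  calc a * (a * b) * a = (a * a) * b * a := by group
    _ = b * a := by rw [ha2, one_mul]

/-- No two involutions have a given element of order 11 as their product. -/
theorem mul_involutions_ne_of_orderOf_eleven {G : Type*} [Group G] [Finite G]
    (hs : IsSimpleGroup G) (hc : Nat.card G = 7920) (a b s : G) (ha : orderOf a = 2)
    (hb : orderOf b = 2) (hs11 : orderOf s = 11) : a * b ≠ s := by
  intro h
  apply orderOf_mul_involutions_ne_eleven hs hc a b ha hb
  rw [h]; exact hs11

/-- The centralizer of an element equals the centralizer of the cyclic subgroup it generates. -/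
theorem h1_centralizer_zpowers {G : Type*} [Group G] (q : G) :
    centralizer ((Subgroup.zpowers q : Subgroup G) : Set G) = centralizer ({q} : Set G) := by
  apply le_antisymm
  · apply Subgroup.centralizer_le
    intro x hx
    rw [Set.mem_singleton_iff] at hx
    rw [hx]
    exact Subgroup.mem_zpowers q
  · intro g hg
    rw [Subgroup.mem_centralizer_singleton_iff] at hg
    rw [Subgroup.mem_centralizer_iff]
    intro x hx
    obtain ⟨k, rfl⟩ := Subgroup.mem_zpowers_iff.1 hx
    have hcomm : Commute g q := hg
    exact ((hcomm.zpow_right k).eq).symm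

/-- A Sylow 5-subgroup of a group of order 7920 is generated by any of its elements of
order 5. -/
theorem h1_sylow5_eq_zpowers {G : Type*} [Group G] [Finite G] (hc : Nat.card G = 7920)
    (Q : Sylow 5 G) (q : G) (hq : orderOf q = 5) (hqQ : q ∈ (Q : Subgroup G)) :
    (Q : Subgroup G) = Subgroup.zpowers q := by
  symm
  apply Subgroup.eq_of_le_of_card_ge
  · rw [Subgroup.zpowers_le]; exact hqQ
  · rw [Nat.card_zpowers, hq, h7_card_sylow5 hc Q]

/-- Every element of order 5 lies in a Sylow 5-subgroup, which it generates. -/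
theorem h1_exists_sylow5_eq_zpowers {G : Type*} [Group G] [Finite G] (hc : Nat.card G = 7920)
    (q : G) (hq : orderOf q = 5) : ∃ Q : Sylow 5 G, (Q : Subgroup G) = Subgroup.zpowers q := by
  haveI : Fact (Nat.Prime 5) := ⟨by norm_num⟩
  have hZcard : Nat.card (Subgroup.zpowers q) = 5 := by rw [Nat.card_zpowers, hq]
  have hZ : IsPGroup 5 (Subgroup.zpowers q) :=
    IsPGroup.of_card (n := 1) (by rw [hZcard]; norm_num)
  obtain ⟨Q, hQ⟩ := hZ.exists_le_sylow
  exact ⟨Q, h1_sylow5_eq_zpowers hc Q q hq (hQ (Subgroup.mem_zpowers q))⟩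

/-- The centralizer of a Sylow 5-subgroup of a simple group of order 7920 has order 5
or 10. -/
theorem card_centralizer_sylow5_cases {G : Type*} [Group G] [Finite G]
    (hs : IsSimpleGroup G) (hc : Nat.card G = 7920) (Q : Sylow 5 G) :
    Nat.card (centralizer ((Q : Subgroup G) : Set G)) = 5 ∨
      Nat.card (centralizer ((Q : Subgroup G) : Set G)) = 10 := by
  haveI : Fact (Nat.Prime 5) := ⟨by norm_num⟩
  have hQ5 := h7_card_sylow5 hc Q
  have hN := card_normalizer_sylow5_of_simple hs hc Q
  have hCN : centralizer ((Q : Subgroup G) : Set G) ≤ normalizer ((Q : Subgroup G) : Set G) :=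
    Subgroup.centralizer_le_normalizer _
  have hQC : (Q : Subgroup G) ≤ centralizer ((Q : Subgroup G) : Set G) := by
    obtain ⟨q', hq'⟩ := exists_prime_orderOf_dvd_card' (G := ↥(Q : Subgroup G)) 5
      (by rw [hQ5])
    have hq5 : orderOf (q' : G) = 5 := by rw [Subgroup.orderOf_coe]; exact hq'
    have hQz := h1_sylow5_eq_zpowers hc Q (q' : G) hq5 q'.2
    rw [hQz, h1_centralizer_zpowers]
    rw [Subgroup.zpowers_le, Subgroup.mem_centralizer_singleton_iff]
  have hd1 : Nat.card (centralizer ((Q : Subgroup G) : Set G)) ∣ 20 := by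
    rw [← hN]; exact Subgroup.card_dvd_of_le hCN
  have hd2 : 5 ∣ Nat.card (centralizer ((Q : Subgroup G) : Set G)) := by
    have := Subgroup.card_dvd_of_le hQC
    rwa [hQ5] at this
  have hne : Nat.card (centralizer ((Q : Subgroup G) : Set G)) ≠ 20 := by
    intro h20
    apply h7_not_normalizer_le_centralizer hs Q (by rw [hQ5]; norm_num) (by rw [hQ5, hc]; norm_num)
    have : centralizer ((Q : Subgroup G) : Set G) = normalizer ((Q : Subgroup G) : Set G) := by
      apply Subgroup.eq_of_le_of_card_ge hCN
      rw [h20, hN]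
    rw [this]
  have hle : Nat.card (centralizer ((Q : Subgroup G) : Set G)) ≤ 20 :=
    Nat.le_of_dvd (by norm_num) hd1
  obtain ⟨m, hm⟩ := hd2
  rw [hm] at hd1 hne hle ⊢
  have hm4 : m ≤ 4 := by omega
  interval_cases m
  · norm_num at hd1
  · left; rfl
  · right; rfl
  · norm_num at hd1
  · exact absurd rfl hne

/-- If a Sylow 5-subgroup of a simple group of order 7920 is not self-centralizing, there is
an element `z` of order 10 all of whose generators-powers have centralizers of order 10. -/
theorem exists_order_ten_of_centralizer_sylow5_ne {G : Type*} [Group G] [Finite G]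
    (hs : IsSimpleGroup G) (hc : Nat.card G = 7920) (Q : Sylow 5 G)
    (hQ : centralizer ((Q : Subgroup G) : Set G) ≠ (Q : Subgroup G)) :
    ∃ z : G, orderOf z = 10 ∧ z ^ 2 ∈ (Q : Subgroup G) ∧
      ∀ j : ℕ, Nat.Coprime j 10 → Nat.card (centralizer ({z ^ j} : Set G)) = 10 := by
  haveI : Fact (Nat.Prime 5) := ⟨by norm_num⟩
  haveI : Fact (Nat.Prime 2) := ⟨Nat.prime_two⟩
  have hQ5 := h7_card_sylow5 hc Q
  obtain ⟨q', hq'⟩ := exists_prime_orderOf_dvd_card' (G := ↥(Q : Subgroup G)) 5 (by rw [hQ5])
  obtain ⟨q, hqdef⟩ : ∃ q : G, q = (q' : G) := ⟨_, rfl⟩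
  have hq5 : orderOf q = 5 := by rw [hqdef, Subgroup.orderOf_coe]; exact hq'
  have hqQ : q ∈ (Q : Subgroup G) := by rw [hqdef]; exact q'.2
  have hQz := h1_sylow5_eq_zpowers hc Q q hq5 hqQ
  have hCeq : centralizer ((Q : Subgroup G) : Set G) = centralizer ({q} : Set G) := by
    rw [hQz, h1_centralizer_zpowers]
  have hC10 : Nat.card (centralizer ({q} : Set G)) = 10 := by
    rcases card_centralizer_sylow5_cases hs hc Q with h | h
    · exfalso
      apply hQ
      symm
      apply Subgroup.eq_of_le_of_card_ge
      · rw [hCeq, hQz, Subgroup.zpowers_le, Subgroup.mem_centralizer_singleton_iff]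
      · rw [h, hQ5]
    · rw [← hCeq]; exact h
  -- an involution centralizing `q`
  obtain ⟨t', ht'⟩ := exists_prime_orderOf_dvd_card' (G := ↥(centralizer ({q} : Set G))) 2
    (by rw [hC10]; norm_num)
  obtain ⟨t, htdef⟩ : ∃ t : G, t = (t' : G) := ⟨_, rfl⟩
  have ht2 : orderOf t = 2 := by rw [htdef, Subgroup.orderOf_coe]; exact ht'
  have htC : t ∈ centralizer ({q} : Set G) := by rw [htdef]; exact t'.2
  have hcomm : Commute q t := by
    rw [Subgroup.mem_centralizer_singleton_iff] at htC
    exact htC.symm
  have hz10 : orderOf (q * t) = 10 := by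
    rw [hcomm.orderOf_mul_eq_mul_orderOf_of_coprime (by rw [hq5, ht2]; norm_num), hq5, ht2]
  have htsq : t ^ 2 = 1 := by rw [← ht2]; exact pow_orderOf_eq_one t
  refine ⟨q * t, hz10, ?_, ?_⟩
  · rw [hcomm.mul_pow, htsq, mul_one]
    exact pow_mem hqQ 2
  · intro j hj
    have hw10 : orderOf ((q * t) ^ j) = 10 := by
      rw [Nat.Coprime.orderOf_pow (by rw [hz10]; exact hj.symm), hz10]
    have hwsq : ((q * t) ^ j) ^ 2 = q ^ (2 * j) := by
      rw [← pow_mul, hcomm.mul_pow, mul_comm j 2, pow_mul t 2 j, htsq, one_pow, mul_one]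
    have hj5 : Nat.Coprime 5 (2 * j) := by
      have h1 : Nat.Coprime 5 j := by
        have := hj.symm
        exact Nat.Coprime.coprime_dvd_left (by norm_num : 5 ∣ 10) this
      exact Nat.Coprime.mul_right (by norm_num) h1
    have hq2j : orderOf (q ^ (2 * j)) = 5 := by
      rw [Nat.Coprime.orderOf_pow (by rw [hq5]; exact hj5), hq5]
    -- `q` is a power of `q ^ (2 j)`
    have hqmem : q ∈ Subgroup.zpowers (q ^ (2 * j)) := by
      have : Subgroup.zpowers (q ^ (2 * j)) = Subgroup.zpowers q := by
        apply Subgroup.eq_of_le_of_card_ge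
        · rw [Subgroup.zpowers_le]; exact pow_mem (Subgroup.mem_zpowers q) _
        · rw [Nat.card_zpowers, Nat.card_zpowers, hq5, hq2j]
      rw [this]; exact Subgroup.mem_zpowers q
    have hle1 : Subgroup.zpowers ((q * t) ^ j) ≤ centralizer ({(q * t) ^ j} : Set G) := by
      rw [Subgroup.zpowers_le, Subgroup.mem_centralizer_singleton_iff]
    have hle2 : centralizer ({(q * t) ^ j} : Set G) ≤ centralizer ({q} : Set G) := by
      intro g hg
      rw [Subgroup.mem_centralizer_singleton_iff] at hg ⊢
      have h1 : Commute g ((q * t) ^ j) := hg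
      have h2 : Commute g (q ^ (2 * j)) := by
        rw [← hwsq]; exact h1.pow_right 2
      obtain ⟨k, hk⟩ := Subgroup.mem_zpowers_iff.1 hqmem
      have h3 : Commute g q := by rw [← hk]; exact h2.zpow_right k
      exact h3.eq
    have hc1 := Subgroup.card_le_of_le hle1
    have hc2 := Subgroup.card_le_of_le hle2
    rw [Nat.card_zpowers, hw10] at hc1
    rw [hC10] at hc2
    exact le_antisymm hc2 hc1

end Cfsg.Agent.Helper2.M11
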