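import Mathlib
import Cfsg.Agent.Helper1.M11j
import Cfsg.Agent.Helper7.M11_Cent

set_option autoImplicit false
set_option maxHeartbeats 800000
set_option linter.style.haveILetI false

/-!
Simple groups of order 7920 (helper1): the group side of the step `C(Q₅) = Q₅`, in the shape
asked for by the blueprint (label C10-GRP).
-/

namespace Cfsg.Agent.Helper2.M11

open Subgroup

/-- Conjugate elements have centralizers of the same order. -/
theorem h1_card_centralizer_conj {G : Type*} [Group G] [Finite G] (g x : G) :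
    Nat.card (centralizer ({g * x * g⁻¹} : Set G)) = Nat.card (centralizer ({x} : Set G)) := by
  have hmap : centralizer ({g * x * g⁻¹} : Set G) =
      (centralizer ({x} : Set G)).map (MulAut.conj g).toMonoidHom := by
    ext h
    rw [Subgroup.mem_map, Subgroup.mem_centralizer_singleton_iff]
    constructor
    · intro hh
      refine ⟨g⁻¹ * h * g, ?_, ?_⟩
      · rw [Subgroup.mem_centralizer_singleton_iff]
        have h1 : h * g * x = g * x * g⁻¹ * h * g := by
          calc h * g * x = h * (g * x * g⁻¹) * g := by group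
            _ = g * x * g⁻¹ * h * g := by rw [hh]
        calc g⁻¹ * h * g * x = g⁻¹ * (h * g * x) := by group
          _ = g⁻¹ * (g * x * g⁻¹ * h * g) := by rw [h1]
          _ = x * (g⁻¹ * h * g) := by group
      · simp only [MulEquiv.coe_toMonoidHom, MulAut.conj_apply]
        group
    · rintro ⟨k, hk, rfl⟩
      rw [Subgroup.mem_centralizer_singleton_iff] at hk
      simp only [MulEquiv.coe_toMonoidHom, MulAut.conj_apply]
      calc g * k * g⁻¹ * (g * x * g⁻¹) = g * (k * x) * g⁻¹ := by group
        _ = g * (x * k) * g⁻¹ := by rw [hk]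
        _ = g * x * g⁻¹ * (g * k * g⁻¹) := by group
  rw [hmap, Subgroup.card_map_of_injective (MulAut.conj g).injective]

/-- No involution inverts an element of order 11. -/
theorem no_invert {G : Type*} [Group G] [Finite G] (hG : Cfsg.IsM11 G) (s : G)
    (hs11 : orderOf s = 11) (g : G) (hg : orderOf g = 2) : g * s * g⁻¹ ≠ s⁻¹ :=
  not_inverts_eleven hG.1 hG.2 g s hg hs11

/-- Involution centralizers have order at most 720. -/
theorem card_centralizer_involution_le_720 {G : Type*} [Group G] [Finite G] (hG : Cfsg.IsM11 G)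
    (u : G) (hu : orderOf u = 2) : Nat.card (centralizer ({u} : Set G)) ≤ 720 := by
  haveI : Fact (Nat.Prime 11) := ⟨by norm_num⟩
  obtain ⟨hs, hc⟩ := hG
  have hu1 : u ≠ 1 := by
    intro h; rw [h, orderOf_one] at hu; norm_num at hu
  have h11 : ¬ 11 ∣ Nat.card (centralizer ({u} : Set G)) :=
    h7_not_dvd_card_centralizer (p := 11) (by rw [hc]; norm_num) (by rw [hc]; norm_num)
      (fun Q => centralizer_sylow11 hs hc Q) u hu1 (by rw [hu]; norm_num)
  have hdvd : Nat.card (centralizer ({u} : Set G)) ∣ 11 * 720 := by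
    have := Subgroup.card_subgroup_dvd_card (centralizer ({u} : Set G))
    rw [hc] at this
    exact this
  have hcop : Nat.Coprime (Nat.card (centralizer ({u} : Set G))) 11 :=
    (Nat.Coprime.symm ((Nat.Prime.coprime_iff_not_dvd (by norm_num)).2 h11))
  exact Nat.le_of_dvd (by norm_num) (hcop.dvd_of_dvd_mul_left hdvd)

/-- Blueprint label C10-GRP: if some Sylow 5-subgroup is not self-centralizing, there is an
element `z` of order 10 with `z ^ 2` in the normalizer of the given Sylow 11-subgroup and
`|C(z ^ j)| = 10` for `j = 1, 3, 7, 9`. -/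
theorem exists_order10 {G : Type*} [Group G] [Finite G] (hG : Cfsg.IsM11 G) (P : Sylow 11 G)
    (h : ∃ Q : Sylow 5 G, centralizer ((Q : Subgroup G) : Set G) ≠ (Q : Subgroup G)) :
    ∃ z : G, orderOf z = 10 ∧ z ^ 2 ∈ normalizer ((P : Subgroup G) : Set G) ∧
      ∀ j ∈ ({1, 3, 7, 9} : Finset ℕ), Nat.card (centralizer ({z ^ j} : Set G)) = 10 := by
  haveI : Fact (Nat.Prime 5) := ⟨by norm_num⟩
  obtain ⟨hs, hc⟩ := hG
  obtain ⟨Q, hQ⟩ := h
  obtain ⟨z, hz10, hzQ, hzC⟩ := exists_order_ten_of_centralizer_sylow5_ne hs hc Q hQ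
  -- a Sylow 5-subgroup inside the normalizer of `P`
  have hN := card_normalizer_sylow11 hs hc P
  obtain ⟨y', hy'⟩ := exists_prime_orderOf_dvd_card'
    (G := ↥(normalizer ((P : Subgroup G) : Set G))) 5 (by rw [hN]; norm_num)
  have hy5 : orderOf (y' : G) = 5 := by rw [Subgroup.orderOf_coe]; exact hy'
  obtain ⟨Q₀, hQ₀⟩ := h1_exists_sylow5_eq_zpowers hc (y' : G) hy5
  have hQ₀N : (Q₀ : Subgroup G) ≤ normalizer ((P : Subgroup G) : Set G) := by
    rw [hQ₀, Subgroup.zpowers_le]; exact y'.2
  obtain ⟨g, hg⟩ := MulAction.exists_smul_eq G Q Q₀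
  refine ⟨g * z * g⁻¹, ?_, ?_, ?_⟩
  · have := orderOf_injective (MulAut.conj g).toMonoidHom (MulAut.conj g).injective z
    simp only [MulEquiv.coe_toMonoidHom, MulAut.conj_apply] at this
    rw [this, hz10]
  · apply hQ₀N
    rw [← hg, Sylow.coe_subgroup_smul, conj_pow]
    have := Subgroup.smul_mem_pointwise_smul (z ^ 2) (MulAut.conj g) (Q : Subgroup G) hzQ
    rwa [MulAut.smul_def, MulAut.conj_apply] at this
  · intro j hj
    have hj10 : Nat.Coprime j 10 := by
      simp only [Finset.mem_insert, Finset.mem_singleton] at hj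
      rcases hj with rfl | rfl | rfl | rfl <;> decide
    rw [conj_pow, h1_card_centralizer_conj]
    exact hzC j hj10

end Cfsg.Agent.Helper2.M11
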