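import Mathlib
import Cfsg.Prelude.Def_Characters
import Cfsg.Agent.Helper6.RepEigen
import Cfsg.Agent.Helper6.MGroup

set_option autoImplicit false
set_option maxHeartbeats 800000
set_option linter.style.haveILetI false

/-!
Strict bound for character values in simple groups (helper1): a non-linear irreducible character of
a simple group satisfies `|χ(g)| < χ(1)` for `g ≠ 1`.
-/

namespace Cfsg.Agent.Helper2.M11

open Module
open Cfsg.Agent.Helper6

universe u

/-- If an irreducible representation of a simple group maps some `g ≠ 1` to a scalar, it has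
degree one. -/
theorem h1_finrank_eq_one_of_scalar {G : Type u} [Group G] [Finite G] (hs : IsSimpleGroup G)
    {n : ℕ} (ρ : Representation ℂ G (Fin n → ℂ)) (hirr : ρ.IsIrreducible) (g : G) (hg : g ≠ 1)
    (ω : ℂ) (hω : ρ g = ω • (1 : Module.End ℂ (Fin n → ℂ))) :
    finrank ℂ (Fin n → ℂ) = 1 := by
  haveI := hirr
  have hinv : ∀ x : G, ρ x * ρ x⁻¹ = 1 := fun x => by
    rw [← map_mul, mul_inv_cancel, map_one]
  -- the subgroup of elements acting by scalars
  let Z : Subgroup G :=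
    { carrier := {x | ∃ c : ℂ, ρ x = c • (1 : Module.End ℂ (Fin n → ℂ))}
      one_mem' := ⟨1, by rw [map_one, one_smul]⟩
      mul_mem' := by
        rintro x y ⟨c, hc⟩ ⟨c', hc'⟩
        refine ⟨c * c', ?_⟩
        rw [map_mul, hc, hc', smul_mul_smul_comm, mul_one]
      inv_mem' := by
        rintro x ⟨c, hc⟩
        refine ⟨c⁻¹, ?_⟩
        have h1 := hinv x
        rw [hc, smul_mul_assoc, one_mul] at h1
        by_cases hc0 : c = 0
        · rw [hc0, zero_smul] at h1
          calc ρ x⁻¹ = ρ x⁻¹ * 1 := (mul_one _).symm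
            _ = ρ x⁻¹ * 0 := by rw [h1]
            _ = 0 := mul_zero _
            _ = c⁻¹ • (0 : Module.End ℂ (Fin n → ℂ)) := (smul_zero _).symm
            _ = c⁻¹ • (1 : Module.End ℂ (Fin n → ℂ)) := by rw [h1]
        · calc ρ x⁻¹ = c⁻¹ • (c • ρ x⁻¹) := by rw [smul_smul, inv_mul_cancel₀ hc0, one_smul]
            _ = c⁻¹ • (1 : Module.End ℂ (Fin n → ℂ)) := by rw [h1] }
  have hZn : Z.Normal := by
    refine ⟨fun x hx y => ?_⟩
    obtain ⟨c, hc⟩ := hx
    refine ⟨c, ?_⟩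
    rw [map_mul, map_mul, hc, mul_smul_comm, mul_one, smul_mul_assoc, hinv y]
  have hgZ : g ∈ Z := ⟨ω, hω⟩
  have hZtop : Z = ⊤ := by
    rcases hZn.eq_bot_or_eq_top with h | h
    · rw [h] at hgZ
      exact absurd (Subgroup.mem_bot.1 hgZ) hg
    · exact h
  apply finrank_eq_one_of_commutators_trivial ρ
  intro a b
  obtain ⟨ca, hca⟩ : a ∈ Z := by rw [hZtop]; exact Subgroup.mem_top a
  have h1 : ρ (a * b * a⁻¹) = ρ b := by
    rw [map_mul, map_mul, hca, smul_mul_assoc, one_mul, smul_mul_assoc]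
    have h2 := hinv a
    rw [hca, smul_mul_assoc, one_mul] at h2
    rw [← mul_smul_comm, h2, mul_one]
  rw [show a * b * a⁻¹ * b⁻¹ = (a * b * a⁻¹) * b⁻¹ by group, map_mul, h1, hinv b]

/-- In a simple group, a non-linear irreducible character satisfies `|χ(g)| < χ(1)` for
`g ≠ 1`. -/
theorem h1_norm_lt_of_simple {G : Type u} [Group G] [Finite G] (hs : IsSimpleGroup G)
    (χ : Cfsg.IrrCharacter G) (d : ℕ) (hd : (χ : G → ℂ) 1 = (d : ℂ)) (hd1 : d ≠ 1) (g : G)
    (hg : g ≠ 1) : ‖(χ : G → ℂ) g‖ < (d : ℝ) := by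
  obtain ⟨n, ρ, hirr, hρ⟩ := χ.2
  have hdim : finrank ℂ (Fin n → ℂ) = d := by
    have h1 : ρ.character 1 = (finrank ℂ (Fin n → ℂ) : ℂ) := Representation.char_one ρ
    rw [hρ, hd] at h1
    exact (Nat.cast_injective h1).symm
  have hle := norm_char_le ρ g
  rw [hρ, hdim] at hle
  rcases lt_or_eq_of_le hle with h | h
  · exact h
  · exfalso
    have h' : ‖ρ.character g‖ = (finrank ℂ (Fin n → ℂ) : ℝ) := by rw [hρ, hdim]; exact h
    obtain ⟨ω, hω⟩ := (norm_char_eq_iff ρ g).1 h'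
    have := h1_finrank_eq_one_of_scalar hs ρ hirr g hg ω (by rw [hω]; rfl)
    rw [hdim] at this
    exact hd1 this

/-- Integer form of the strict bound. -/
theorem h1_int_abs_lt_of_simple {G : Type u} [Group G] [Finite G] (hs : IsSimpleGroup G)
    (χ : Cfsg.IrrCharacter G) (d : ℕ) (hd : (χ : G → ℂ) 1 = (d : ℂ)) (hd1 : d ≠ 1) (g : G)
    (hg : g ≠ 1) (a : ℤ) (ha : (χ : G → ℂ) g = (a : ℂ)) : |a| < (d : ℤ) := by
  have h := h1_norm_lt_of_simple hs χ d hd hd1 g hg
  rw [ha] at h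
  have h2 : ‖((a : ℤ) : ℂ)‖ = ((|a| : ℤ) : ℝ) := by
    rw [Complex.norm_intCast, Int.cast_abs]
  rw [h2] at h
  exact_mod_cast h

end Cfsg.Agent.Helper2.M11
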