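import Mathlib
import Cfsg.Agent.Helper1.M11g

set_option autoImplicit false
set_option maxHeartbeats 800000
set_option linter.style.haveILetI false

/-!
Simple groups of order 7920 (helper1): there are 144 Sylow 11-subgroups, they are
self-centralizing and their normalizers have order 55.
-/

namespace Cfsg.Agent.Helper1.M7920

open MulAction
open Cfsg.Agent.Helper2 Cfsg.Agent.Helper2.Syl21 Cfsg.Agent.Helper4

/-- A Sylow 11-subgroup of a group of order 7920 has order 11. -/
theorem card_sylow_eleven_subgroup {G : Type*} [Group G] [Finite G] (hc : Nat.card G = 7920)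
    (P : Sylow 11 G) : Nat.card ↥(P : Subgroup G) = 11 := by
  haveI : Fact (Nat.Prime 11) := ⟨by norm_num⟩
  apply SylFew.sylow_card_eq_prime_of_sq_not_dvd P
  · rw [hc]; norm_num
  · rw [hc]; norm_num

/-- In a simple group with more than one Sylow 11-subgroup, the action on the Sylow
11-subgroups is faithful. -/
theorem eq_one_of_fixes_all {G : Type*} [Group G] [Finite G] [IsSimpleGroup G]
    (hn : Nat.card (Sylow 11 G) ≠ 1) (g : G) (hg : ∀ Q : Sylow 11 G, g • Q = Q) : g = 1 := by
  haveI : Fact (Nat.Prime 11) := ⟨by norm_num⟩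
  have hker : g ∈ (MulAction.toPermHom G (Sylow 11 G)).ker := by
    rw [MonoidHom.mem_ker]
    ext Q
    simp [hg Q]
  rcases (MulAction.toPermHom G (Sylow 11 G)).normal_ker.eq_bot_or_eq_top with h | h
  · rw [h] at hker; exact Subgroup.mem_bot.1 hker
  · exfalso
    apply hn
    have hall : ∀ (a : G) (Q : Sylow 11 G), a • Q = Q := by
      intro a Q
      have ha : a ∈ (MulAction.toPermHom G (Sylow 11 G)).ker := by rw [h]; exact Subgroup.mem_top a
      rw [MonoidHom.mem_ker] at ha
      have := congrArg (fun σ : Equiv.Perm (Sylow 11 G) => σ Q) ha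
      simpa using this
    obtain ⟨P⟩ : Nonempty (Sylow 11 G) := inferInstance
    haveI : Subsingleton (Sylow 11 G) := by
      refine ⟨fun Q₁ Q₂ => ?_⟩
      obtain ⟨a, ha⟩ := MulAction.exists_smul_eq G Q₁ Q₂
      rw [← ha, hall a Q₁]
    haveI : Unique (Sylow 11 G) := uniqueOfSubsingleton P
    exact Nat.card_unique

/-- A simple group of order 7920 does not have 12 Sylow 11-subgroups: an element of
order 33 cannot act faithfully on 12 points. -/
theorem false_of_twelve {G : Type*} [Group G] [Finite G] (hc : Nat.card G = 7920)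
    (h12 : Nat.card (Sylow 11 G) = 12)
    (hfaith : ∀ g : G, (∀ Q : Sylow 11 G, g • Q = Q) → g = 1) : False := by
  classical
  haveI : Fact (Nat.Prime 11) := ⟨by norm_num⟩
  haveI : Fact (Nat.Prime 3) := ⟨by norm_num⟩
  obtain ⟨-, ⟨x, hx⟩, -⟩ := edges_of_small hc (Or.inr h12)
  obtain ⟨u, hu⟩ : ∃ u : G, u = x ^ 3 := ⟨_, rfl⟩
  obtain ⟨v, hv⟩ : ∃ v : G, v = x ^ 11 := ⟨_, rfl⟩
  have huo : orderOf u = 11 := by
    rw [hu, orderOf_pow' x (by norm_num : 3 ≠ 0), hx]; norm_num
  have hvo : orderOf v = 3 := by
    rw [hv, orderOf_pow' x (by norm_num : 11 ≠ 0), hx]; norm_num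
  have hcomm : Commute u v := by
    rw [hu, hv]; exact (Commute.refl x).pow_pow 3 11
  -- every power of `u` commutes with `v`
  have hcommU : ∀ c ∈ Subgroup.zpowers u, Commute c v := by
    intro c hc'
    obtain ⟨k, rfl⟩ := Subgroup.mem_zpowers_iff.1 hc'
    exact Commute.zpow_left hcomm k
  have hcommV : ∀ c ∈ Subgroup.zpowers v, ∀ Q : Sylow 11 G, v • Q = Q → c • Q = Q := by
    intro c hc' Q hQ
    obtain ⟨k, rfl⟩ := Subgroup.mem_zpowers_iff.1 hc'
    have hst : v ∈ MulAction.stabilizer G Q := MulAction.mem_stabilizer_iff.2 hQ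
    exact MulAction.mem_stabilizer_iff.1 (zpow_mem hst k)
  have hUcard : Nat.card (Subgroup.zpowers u) = 11 := by rw [Nat.card_zpowers, huo]
  have hVcard : Nat.card (Subgroup.zpowers v) = 3 := by rw [Nat.card_zpowers, hvo]
  have hU : IsPGroup 11 (Subgroup.zpowers u) := IsPGroup.of_card (n := 1) (by rw [hUcard]; norm_num)
  have hV : IsPGroup 3 (Subgroup.zpowers v) := IsPGroup.of_card (n := 1) (by rw [hVcard]; norm_num)
  -- the Sylow 11-subgroups fixed by `u` are equal to `zpowers u`
  have hfixU : ∀ Q : Sylow 11 G, (∀ c : Subgroup.zpowers u, c • Q = Q) →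
      (Q : Subgroup G) = Subgroup.zpowers u := by
    intro Q hQ
    have hmem : Q ∈ fixedPoints (Subgroup.zpowers u) (Sylow 11 G) := hQ
    rw [hU.sylow_mem_fixedPoints_iff] at hmem
    symm
    apply Subgroup.eq_of_le_of_card_ge hmem
    rw [hUcard, card_sylow_eleven_subgroup hc Q]
  -- the set of Sylow 11-subgroups fixed by `v`, with the action of `zpowers u`
  let F : SubMulAction (Subgroup.zpowers u) (Sylow 11 G) :=
    { carrier := {Q | v • Q = Q}
      smul_mem' := by
        intro c Q hQ
        change v • (c • Q) = c • Q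
        have h1 : c • Q = (c : G) • Q := rfl
        rw [h1, smul_smul, ← (hcommU c c.2).eq, ← smul_smul]
        exact congrArg _ hQ }
  have hFmem : ∀ Q : Sylow 11 G, Q ∈ F ↔ v • Q = Q := fun Q => Iff.rfl
  have h1 : Nat.card ↥F ≡ Nat.card (fixedPoints (Subgroup.zpowers u) ↥F) [MOD 11] :=
    hU.card_modEq_card_fixedPoints ↥F
  -- exactly one fixed point
  have hone : Nat.card (fixedPoints (Subgroup.zpowers u) ↥F) = 1 := by
    rw [Nat.card_eq_one_iff_unique]
    constructor
    · refine ⟨fun q q' => ?_⟩
      have hq : ((q : ↥F) : Sylow 11 G) = ((q' : ↥F) : Sylow 11 G) := by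
        apply Sylow.ext
        rw [hfixU _ (fun c => ?_), hfixU _ (fun c => ?_)]
        · have := q'.2 c
          exact congrArg (fun z : ↥F => (z : Sylow 11 G)) this
        · have := q.2 c
          exact congrArg (fun z : ↥F => (z : Sylow 11 G)) this
      exact Subtype.ext (Subtype.ext hq)
    · obtain ⟨Q₀, hQ₀⟩ := hU.exists_le_sylow
      have hQ₀eq : (Q₀ : Subgroup G) = Subgroup.zpowers u := by
        symm
        apply Subgroup.eq_of_le_of_card_ge hQ₀
        rw [hUcard, card_sylow_eleven_subgroup hc Q₀]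
      have hnorm : ∀ a : G, (∀ c ∈ Subgroup.zpowers u, Commute c a) → a • Q₀ = Q₀ := by
        intro a ha
        rw [Sylow.smul_eq_iff_mem_normalizer]
        apply Subgroup.centralizer_le_normalizer
        rw [Subgroup.mem_centralizer_iff]
        intro c hc'
        have : c ∈ Subgroup.zpowers u := by rw [← hQ₀eq]; exact hc'
        exact (ha c this).eq
      have hvQ₀ : v • Q₀ = Q₀ := hnorm v hcommU
      refine ⟨⟨⟨Q₀, hvQ₀⟩, ?_⟩⟩
      intro c
      apply Subtype.ext
      change c • Q₀ = Q₀
      have h1 : c • Q₀ = (c : G) • Q₀ := rfl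
      rw [h1]
      apply hnorm
      intro d hd
      obtain ⟨k, hk⟩ := Subgroup.mem_zpowers_iff.1 hd
      obtain ⟨l, hl⟩ := Subgroup.mem_zpowers_iff.1 c.2
      rw [← hk, ← hl]
      exact (Commute.refl u).zpow_zpow k l
  rw [hone] at h1
  -- the second congruence
  have h2 : Nat.card (Sylow 11 G) ≡
      Nat.card (fixedPoints (Subgroup.zpowers v) (Sylow 11 G)) [MOD 3] :=
    hV.card_modEq_card_fixedPoints (Sylow 11 G)
  have hFV : Nat.card (fixedPoints (Subgroup.zpowers v) (Sylow 11 G)) = Nat.card ↥F := by
    apply Nat.card_congr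
    apply Equiv.subtypeEquivRight
    intro Q
    rw [hFmem]
    constructor
    · intro h
      exact h ⟨v, Subgroup.mem_zpowers v⟩
    · intro h c
      exact hcommV c c.2 Q h
  rw [hFV, h12] at h2
  have hle : Nat.card ↥F ≤ 12 := by
    rw [← h12]; exact Finite.card_subtype_le _
  have hF12 : Nat.card ↥F = 12 := by
    unfold Nat.ModEq at h1 h2
    omega
  -- so `v` fixes everything
  have hv1 : v = 1 := by
    apply hfaith
    intro Q
    by_contra hQ
    have : Nat.card ↥F < Nat.card (Sylow 11 G) :=
      Finite.card_subtype_lt (p := fun Q : Sylow 11 G => Q ∈ F) (x := Q) hQ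
    rw [hF12, h12] at this
    exact lt_irrefl _ this
  rw [hv1, orderOf_one] at hvo
  norm_num at hvo

/-- A simple group of order 7920 has exactly 144 Sylow 11-subgroups. -/
theorem card_sylow_eleven_of_simple {G : Type*} [Group G] [Finite G] [IsSimpleGroup G]
    (hc : Nat.card G = 7920) : Nat.card (Sylow 11 G) = 144 := by
  classical
  haveI : Fact (Nat.Prime 11) := ⟨by norm_num⟩
  obtain ⟨P⟩ : Nonempty (Sylow 11 G) := inferInstance
  have hP11 := card_sylow_eleven_subgroup hc P
  have hne1 : Nat.card (Sylow 11 G) ≠ 1 := by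
    intro h1
    haveI : Subsingleton (Sylow 11 G) := (Nat.card_eq_one_iff_unique.1 h1).1
    have hn : (P : Subgroup G).Normal := Sylow.normal_of_subsingleton P
    rcases hn.eq_bot_or_eq_top with h | h
    · rw [h] at hP11; simp at hP11
    · rw [h, Subgroup.card_top, hc] at hP11; norm_num at hP11
  have hfaith := eq_one_of_fixes_all (G := G) hne1
  rcases card_sylow_eleven_cases hc with h | h | h | h
  · exact absurd h hne1
  · exact (false_of_twelve hc h hfaith).elim
  · exfalso
    refine false_of_faithful 4 (by rw [hc]; norm_num) h hfaith ?_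
    intro H hH
    haveI : H.Normal := Subgroup.normal_of_index_eq_two hH
    rcases Subgroup.Normal.eq_bot_or_eq_top (H := H) inferInstance with h' | h'
    · rw [h', Subgroup.index_bot, hc] at hH; norm_num at hH
    · rw [h', Subgroup.index_top] at hH; norm_num at hH
  · exact h

/-- In a simple group of order 7920 the normalizer of a Sylow 11-subgroup has order 55. -/
theorem card_normalizer_sylow_eleven {G : Type*} [Group G] [Finite G] [IsSimpleGroup G]
    (hc : Nat.card G = 7920) (P : Sylow 11 G) :
    Nat.card ↥(Subgroup.normalizer ((P : Subgroup G) : Set G)) = 55 := by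
  haveI : Fact (Nat.Prime 11) := ⟨by norm_num⟩
  have h144 := card_sylow_eleven_of_simple hc
  have h1 := (Subgroup.normalizer ((P : Subgroup G) : Set G)).card_mul_index
  have h0 : Nat.card (Sylow 11 G) =
      (Subgroup.normalizer ((P : Subgroup G) : Set G)).index := P.card_eq_index_normalizer
  rw [← h0, h144, hc] at h1
  omega

/-- In a simple group of order 7920 a Sylow 11-subgroup is self-centralizing. -/
theorem centralizer_sylow_eleven {G : Type*} [Group G] [Finite G] [IsSimpleGroup G]
    (hc : Nat.card G = 7920) (P : Sylow 11 G) :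
    Subgroup.centralizer ((P : Subgroup G) : Set G) = (P : Subgroup G) := by
  classical
  haveI : Fact (Nat.Prime 11) := ⟨by norm_num⟩
  haveI : Fact (Nat.Prime 3) := ⟨by norm_num⟩
  have hP11 := card_sylow_eleven_subgroup hc P
  have hNcard := card_normalizer_sylow_eleven hc P
  have hrel := relIndex_centralizer_dvd (P : Subgroup G) hP11
  have hmul := card_centralizer_mul_relIndex (P : Subgroup G)
  rw [hNcard] at hmul
  have hPC := le_centralizer_of_card_eleven (P : Subgroup G) hP11
  have h11C : 11 ∣ Nat.card (Subgroup.centralizer ((P : Subgroup G) : Set G)) := by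
    have := Subgroup.card_dvd_of_le hPC
    rwa [hP11] at this
  by_cases hcc : Nat.card (Subgroup.centralizer ((P : Subgroup G) : Set G)) = 11
  · symm
    apply Subgroup.eq_of_le_of_card_ge hPC
    rw [hcc, hP11]
  · exfalso
    have hrel1 : (Subgroup.centralizer ((P : Subgroup G) : Set G)).relIndex
        (Subgroup.normalizer ((P : Subgroup G) : Set G)) = 1 := by
      obtain ⟨m, hm⟩ := h11C
      have hle : (Subgroup.centralizer ((P : Subgroup G) : Set G)).relIndex
          (Subgroup.normalizer ((P : Subgroup G) : Set G)) ≤ 10 :=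
        Nat.le_of_dvd (by norm_num) hrel
      rw [hm] at hmul hcc
      have hm5 : m * (Subgroup.centralizer ((P : Subgroup G) : Set G)).relIndex
          (Subgroup.normalizer ((P : Subgroup G) : Set G)) = 5 := by
        have : 11 * (m * (Subgroup.centralizer ((P : Subgroup G) : Set G)).relIndex
          (Subgroup.normalizer ((P : Subgroup G) : Set G))) = 11 * 5 := by
          rw [← mul_assoc]; exact hmul
        exact Nat.eq_of_mul_eq_mul_left (by norm_num) this
      have hmd : m ∣ 5 := ⟨_, hm5.symm⟩
      rcases (Nat.dvd_prime (by norm_num : Nat.Prime 5)).1 hmd with h1 | h1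
      · rw [h1] at hcc; exact absurd rfl hcc
      · rw [h1] at hm5; omega
    have hNC : Subgroup.normalizer ((P : Subgroup G) : Set G) ≤
        Subgroup.centralizer ((P : Subgroup G) : Set G) :=
      Subgroup.relIndex_eq_one.1 hrel1
    have hCcard : Nat.card (Subgroup.centralizer ((P : Subgroup G) : Set G)) = 55 := by
      rw [hrel1, mul_one] at hmul; exact hmul
    refine false_of_NC 11 3 P hP11 hNC (by norm_num) (by rw [hc]; norm_num) ?_ ?_
    · intro S3
      obtain ⟨k, hk⟩ := IsPGroup.iff_card.1 S3.isPGroup'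
      have hk7920 : 3 ^ k ∣ 7920 := by
        rw [← hk, ← hc]; exact Subgroup.card_subgroup_dvd_card _
      have hk2 : k ≤ 2 := by
        by_contra hgt
        push Not at hgt
        have : (3 : ℕ) ^ 3 ∣ 7920 := dvd_trans (pow_dvd_pow 3 hgt) hk7920
        norm_num at this
      rw [hk]
      interval_cases k <;> norm_num
    · intro c hc' hc3
      have h1 : orderOf c ∣ 55 := by
        rw [← hCcard]
        have := orderOf_dvd_natCard (⟨c, hc'⟩ :
          ↥(Subgroup.centralizer ((P : Subgroup G) : Set G)))
        rwa [← Subgroup.orderOf_coe] at this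
      rw [hc3] at h1
      norm_num at h1

end Cfsg.Agent.Helper1.M7920
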