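import Mathlib

set_option autoImplicit false
set_option maxHeartbeats 800000
set_option linter.style.haveILetI false

/-!
Groups of order 7920 (helper1): the order of a Sylow 3-normalizer from the centralizer
orders of the elements of orders 2 and 3.
-/

namespace Cfsg.Agent.Helper1.M7920

/-- In a subgroup `C` of order `2 |H|` containing `H`, every element of odd order `∣ 9`
lies in `H`. -/
theorem mem_of_card_eq_two_mul {G : Type*} [Group G] [Finite G] (H C : Subgroup G)
    (hHC : H ≤ C) (hcard : Nat.card C = 2 * Nat.card H) (y : G) (hy : y ∈ C)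
    (hy9 : y ^ 9 = 1) : y ∈ H := by
  have hidx : (H.subgroupOf C).index = 2 := by
    have h1 := (H.subgroupOf C).card_mul_index
    rw [Nat.card_congr (Subgroup.subgroupOfEquivOfLe hHC).toEquiv, hcard] at h1
    have hpos : 0 < Nat.card H := Nat.card_pos
    have h2 : Nat.card H * (H.subgroupOf C).index = Nat.card H * 2 := by rw [h1]; ring
    exact Nat.eq_of_mul_eq_mul_left hpos h2
  have hsq := Subgroup.sq_mem_of_index_two hidx (⟨y, hy⟩ : ↥C)
  rw [Subgroup.mem_subgroupOf] at hsq
  have hsq' : y ^ 2 ∈ H := by simpa using hsq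
  have : y = (y ^ 2) ^ 5 := by
    rw [← pow_mul]
    calc y = y ^ 9 * y := by rw [hy9, one_mul]
      _ = y ^ (2 * 5) := by rw [← pow_succ]
  rw [this]
  exact pow_mem hsq' 5

/-- The order of a Sylow 3-subgroup of a group of order 7920 is 9. -/
theorem card_sylow_three_subgroup {G : Type*} [Group G] [Finite G] (hc : Nat.card G = 7920)
    (P : Sylow 3 G) : Nat.card ↥(P : Subgroup G) = 9 := by
  haveI : Fact (Nat.Prime 3) := ⟨by norm_num⟩
  rw [P.card_eq_multiplicity, hc]
  have : (7920 : ℕ).factorization 3 = 2 := by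
    have h1 : (7920 : ℕ) = 3 ^ 2 * 880 := by norm_num
    rw [h1, Nat.factorization_mul (by norm_num) (by norm_num), Nat.factorization_pow]
    simp only [Finsupp.coe_add, Finsupp.coe_smul, Pi.add_apply, Pi.smul_apply, smul_eq_mul]
    rw [Nat.Prime.factorization_self (by norm_num),
      Nat.factorization_eq_zero_of_not_dvd (by norm_num)]
  rw [this]; norm_num

/-- If elements of order 3 have centralizers of order 18 and involutions have centralizers of
order 48, there are no elements of order 9. -/
theorem orderOf_ne_nine {G : Type*} [Group G] [Finite G]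
    (h3 : ∀ x : G, orderOf x = 3 → Nat.card (Subgroup.centralizer ({x} : Set G)) = 18)
    (h2 : ∀ u : G, orderOf u = 2 → Nat.card (Subgroup.centralizer ({u} : Set G)) = 48)
    (y : G) : orderOf y ≠ 9 := by
  intro hy
  haveI : Fact (Nat.Prime 2) := ⟨Nat.prime_two⟩
  have hx3 : orderOf (y ^ 3) = 3 := by
    rw [orderOf_pow' y (by norm_num : 3 ≠ 0), hy]; norm_num
  have hC := h3 _ hx3
  have hy9 : y ^ 9 = 1 := by rw [← hy]; exact pow_orderOf_eq_one y
  have hyC : y ∈ Subgroup.centralizer ({y ^ 3} : Set G) := by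
    rw [Subgroup.mem_centralizer_singleton_iff]
    exact ((Commute.refl y).pow_right 3).eq
  have hYC : Subgroup.zpowers y ≤ Subgroup.centralizer ({y ^ 3} : Set G) := by
    rw [Subgroup.zpowers_le]; exact hyC
  have hYcard : Nat.card (Subgroup.zpowers y) = 9 := by rw [Nat.card_zpowers, hy]
  -- an involution in the centralizer
  obtain ⟨t', ht'⟩ := exists_prime_orderOf_dvd_card' (G := ↥(Subgroup.centralizer ({y ^ 3} : Set G)))
    2 (by rw [hC]; norm_num)
  obtain ⟨t, ht⟩ : ∃ t : G, t = (t' : G) := ⟨_, rfl⟩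
  have hto : orderOf t = 2 := by rw [ht, Subgroup.orderOf_coe]; exact ht'
  have htC : t ∈ Subgroup.centralizer ({y ^ 3} : Set G) := by rw [ht]; exact t'.2
  have ht2 : t * t = 1 := by
    have := pow_orderOf_eq_one t
    rwa [hto, pow_two] at this
  have htinv : t⁻¹ = t := inv_eq_of_mul_eq_one_right ht2
  -- `t y t⁻¹` is a power of `y`
  have hmem : t * y * t⁻¹ ∈ Subgroup.zpowers y := by
    apply mem_of_card_eq_two_mul (Subgroup.zpowers y) _ hYC (by rw [hC, hYcard])
    · exact mul_mem (mul_mem htC hyC) (inv_mem htC)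
    · rw [conj_pow, hy9, mul_one, mul_inv_cancel]
  have hfin : IsOfFinOrder y := isOfFinOrder_of_finite y
  rw [← hfin.mem_powers_iff_mem_zpowers, Submonoid.mem_powers_iff] at hmem
  obtain ⟨n, hn⟩ := hmem
  obtain ⟨k, hk, hk9⟩ : ∃ k : ℕ, y ^ k = t * y * t⁻¹ ∧ k < 9 := by
    refine ⟨n % 9, ?_, Nat.mod_lt _ (by norm_num)⟩
    rw [← hn, ← hy, pow_mod_orderOf]
  -- conjugation by `t` fixes `y ^ 3`
  have e1 : y ^ (k * 3) = y ^ 3 := by
    rw [pow_mul, hk, conj_pow]
    rw [Subgroup.mem_centralizer_singleton_iff] at htC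
    rw [htC, mul_assoc, mul_inv_cancel, mul_one]
  -- conjugating twice is the identity
  have e2 : y ^ (k * k) = y ^ 1 := by
    rw [pow_mul, hk, conj_pow, hk, pow_one, htinv]
    calc t * (t * y * t) * t = (t * t) * y * (t * t) := by group
      _ = y := by rw [ht2, one_mul, mul_one]
  rw [pow_eq_pow_iff_modEq, hy] at e1 e2
  have hk1 : k = 1 := by
    unfold Nat.ModEq at e1 e2
    interval_cases k <;> omega
  rw [hk1, pow_one] at hk
  -- so `y` centralizes `t`
  have hyt : y ∈ Subgroup.centralizer ({t} : Set G) := by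
    rw [Subgroup.mem_centralizer_singleton_iff]
    have : t * y = y * t := by
      calc t * y = (t * y * t⁻¹) * t := by group
        _ = y * t := by rw [← hk]
    exact this.symm
  have hdvd : orderOf y ∣ 48 := by
    rw [← h2 t hto]
    have := orderOf_dvd_natCard (⟨y, hyt⟩ : ↥(Subgroup.centralizer ({t} : Set G)))
    rwa [← Subgroup.orderOf_coe] at this
  rw [hy] at hdvd
  norm_num at hdvd

/-- The order of a Sylow 3-normalizer, from the centralizer orders of the elements of orders
2 and 3 and the fact that the elements of order 3 form one class. -/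
theorem card_normalizer_sylow_three {G : Type*} [Group G] [Finite G] (hc : Nat.card G = 7920)
    (h3 : ∀ x : G, orderOf x = 3 → Nat.card (Subgroup.centralizer ({x} : Set G)) = 18)
    (hconj : ∀ x y : G, orderOf x = 3 → orderOf y = 3 → IsConj x y)
    (h2 : ∀ u : G, orderOf u = 2 → Nat.card (Subgroup.centralizer ({u} : Set G)) = 48)
    (P : Sylow 3 G) :
    Nat.card (Subgroup.normalizer ((P : Subgroup G) : Set G)) = 144 := by
  classical
  haveI : Fact (Nat.Prime 3) := ⟨by norm_num⟩
  haveI := Fintype.ofFinite G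
  have hP9 := card_sylow_three_subgroup hc P
  -- `P` is commutative
  have hcomm : ∀ a ∈ (P : Subgroup G), ∀ b ∈ (P : Subgroup G), a * b = b * a := by
    intro a ha b hb
    have := IsPGroup.commutative_of_card_eq_prime_sq (p := 3) (G := ↥(P : Subgroup G))
      (by rw [hP9]; norm_num) ⟨a, ha⟩ ⟨b, hb⟩
    exact congrArg Subtype.val this
  -- nonidentity elements of `P` have order 3
  have hord : ∀ r ∈ (P : Subgroup G), r ≠ 1 → orderOf r = 3 := by
    intro r hr hr1
    have hdvd : orderOf r ∣ 3 ^ 2 := by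
      have := orderOf_dvd_natCard (⟨r, hr⟩ : ↥(P : Subgroup G))
      rw [← Subgroup.orderOf_coe, hP9] at this
      exact this
    obtain ⟨j, hj, hjr⟩ := (Nat.dvd_prime_pow (by norm_num : Nat.Prime 3)).1 hdvd
    interval_cases j
    · rw [pow_zero, orderOf_eq_one_iff] at hjr; exact absurd hjr hr1
    · rw [hjr]; norm_num
    · exact absurd (by rw [hjr]; norm_num) (orderOf_ne_nine h3 h2 r)
  -- the key step: an element conjugating a nonidentity element of `P` into `P` normalizes `P`
  have hkey : ∀ (g x : G), x ∈ (P : Subgroup G) → x ≠ 1 → g * x * g⁻¹ ∈ (P : Subgroup G) →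
      g ∈ Subgroup.normalizer ((P : Subgroup G) : Set G) := by
    intro g x hx hx1 hgx
    have hx'1 : g * x * g⁻¹ ≠ 1 := by
      intro h
      apply hx1
      have : x = g⁻¹ * (g * x * g⁻¹) * g := by group
      rw [this, h]; group
    have hC := h3 _ (hord _ hgx hx'1)
    have hPC : (P : Subgroup G) ≤ Subgroup.centralizer ({g * x * g⁻¹} : Set G) := by
      intro r hr
      rw [Subgroup.mem_centralizer_singleton_iff]
      exact hcomm r hr _ hgx
    have hle : ((g • P : Sylow 3 G) : Subgroup G) ≤ (P : Subgroup G) := by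
      intro w hw
      rw [Sylow.coe_subgroup_smul, Subgroup.mem_smul_pointwise_iff_exists] at hw
      obtain ⟨r, hr, rfl⟩ := hw
      rw [MulAut.smul_def, MulAut.conj_apply]
      apply mem_of_card_eq_two_mul (P : Subgroup G) _ hPC (by rw [hC, hP9])
      · rw [Subgroup.mem_centralizer_singleton_iff]
        have h1 := hcomm r hr x hx
        calc g * r * g⁻¹ * (g * x * g⁻¹) = g * (r * x) * g⁻¹ := by group
          _ = g * (x * r) * g⁻¹ := by rw [h1]
          _ = g * x * g⁻¹ * (g * r * g⁻¹) := by group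
      · rw [conj_pow]
        have : r ^ 9 = 1 := by
          have := pow_card_eq_one' (G := ↥(P : Subgroup G)) (x := ⟨r, hr⟩)
          rw [hP9] at this
          exact congrArg Subtype.val this
        rw [this, mul_one, mul_inv_cancel]
    have heq : g • P = P := by
      apply Sylow.ext
      apply Subgroup.eq_of_le_of_card_ge hle
      rw [card_sylow_three_subgroup hc (g • P), hP9]
    exact (Sylow.smul_eq_iff_mem_normalizer (g := g) (P := P)).1 heq
  -- a nonidentity element of `P`
  obtain ⟨x₀', hx₀'⟩ := exists_prime_orderOf_dvd_card' (G := ↥(P : Subgroup G)) 3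
    (by rw [hP9]; norm_num)
  obtain ⟨x₀, hx₀⟩ : ∃ x₀ : G, x₀ = (x₀' : G) := ⟨_, rfl⟩
  have hx₀P : x₀ ∈ (P : Subgroup G) := by rw [hx₀]; exact x₀'.2
  have hx₀o : orderOf x₀ = 3 := by rw [hx₀, Subgroup.orderOf_coe]; exact hx₀'
  have hx₀1 : x₀ ≠ 1 := by
    intro h; rw [h, orderOf_one] at hx₀o; norm_num at hx₀o
  -- the fibres of `g ↦ g x₀ g⁻¹` on the normalizer
  have hcount := Finset.card_eq_sum_card_fiberwise
    (s := Finset.univ.filter (fun g : G => g ∈ Subgroup.normalizer ((P : Subgroup G) : Set G)))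
    (t := Finset.univ.filter (fun r : G => r ∈ (P : Subgroup G) ∧ r ≠ 1))
    (f := fun g => g * x₀ * g⁻¹) (by
      intro g hg
      simp only [Finset.coe_filter, Finset.mem_univ, true_and, Set.mem_ofPred_eq] at hg ⊢
      refine ⟨(Subgroup.mem_set_normalizer_iff.1 hg x₀).1 hx₀P, ?_⟩
      intro h
      apply hx₀1
      have : x₀ = g⁻¹ * (g * x₀ * g⁻¹) * g := by group
      rw [this, h]; group)
  have hfib : ∀ r ∈ Finset.univ.filter (fun r : G => r ∈ (P : Subgroup G) ∧ r ≠ 1),
      ((Finset.univ.filter (fun g : G =>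
        g ∈ Subgroup.normalizer ((P : Subgroup G) : Set G))).filter
          (fun g => g * x₀ * g⁻¹ = r)).card = 18 := by
    intro r hr
    simp only [Finset.mem_filter, Finset.mem_univ, true_and] at hr
    obtain ⟨g₀, hg₀⟩ := isConj_iff.1 (hconj x₀ r hx₀o (hord r hr.1 hr.2))
    have hg₀N : g₀ ∈ Subgroup.normalizer ((P : Subgroup G) : Set G) :=
      hkey g₀ x₀ hx₀P hx₀1 (by rw [hg₀]; exact hr.1)
    have hset : (Finset.univ.filter (fun g : G =>
        g ∈ Subgroup.normalizer ((P : Subgroup G) : Set G))).filter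
          (fun g => g * x₀ * g⁻¹ = r) =
        (Finset.univ.filter (fun h : G => h ∈ Subgroup.centralizer ({x₀} : Set G))).image
          (fun h => g₀ * h) := by
      ext a
      simp only [Finset.mem_filter, Finset.mem_univ, true_and, Finset.mem_image]
      constructor
      · rintro ⟨-, ha⟩
        refine ⟨g₀⁻¹ * a, ?_, by group⟩
        rw [Subgroup.mem_centralizer_singleton_iff]
        have h1 : a * x₀ = r * a := by rw [← ha]; group
        have h2 : g₀ * x₀ = r * g₀ := by rw [← hg₀]; group
        have h3' : x₀ * g₀⁻¹ = g₀⁻¹ * r := by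
          calc x₀ * g₀⁻¹ = g₀⁻¹ * (g₀ * x₀) * g₀⁻¹ := by group
            _ = g₀⁻¹ * (r * g₀) * g₀⁻¹ := by rw [h2]
            _ = g₀⁻¹ * r := by group
        calc g₀⁻¹ * a * x₀ = g₀⁻¹ * (a * x₀) := by group
          _ = g₀⁻¹ * (r * a) := by rw [h1]
          _ = (g₀⁻¹ * r) * a := by group
          _ = x₀ * g₀⁻¹ * a := by rw [h3']
          _ = x₀ * (g₀⁻¹ * a) := by group
      · rintro ⟨h, hh, rfl⟩
        have hhx : h * x₀ * h⁻¹ = x₀ := by
          rw [Subgroup.mem_centralizer_singleton_iff] at hh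
          rw [hh]; group
        have hhN : h ∈ Subgroup.normalizer ((P : Subgroup G) : Set G) :=
          hkey h x₀ hx₀P hx₀1 (by rw [hhx]; exact hx₀P)
        refine ⟨mul_mem hg₀N hhN, ?_⟩
        calc g₀ * h * x₀ * (g₀ * h)⁻¹ = g₀ * (h * x₀ * h⁻¹) * g₀⁻¹ := by group
          _ = r := by rw [hhx, hg₀]
    rw [hset, Finset.card_image_of_injective _ (mul_right_injective g₀),
      ← Nat.subtype_card (p := fun h : G => h ∈ Subgroup.centralizer ({x₀} : Set G)) _
        (fun h => by simp)]
    exact h3 x₀ hx₀o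
  rw [Finset.sum_congr rfl hfib, Finset.sum_const, smul_eq_mul] at hcount
  have ht : (Finset.univ.filter (fun r : G => r ∈ (P : Subgroup G) ∧ r ≠ 1)).card = 8 := by
    have h1 : Finset.univ.filter (fun r : G => r ∈ (P : Subgroup G) ∧ r ≠ 1) =
        (Finset.univ.filter (fun r : G => r ∈ (P : Subgroup G))).erase 1 := by
      ext r
      simp only [Finset.mem_filter, Finset.mem_univ, true_and, Finset.mem_erase]
      tauto
    rw [h1, Finset.card_erase_of_mem (by simp),
      ← Nat.subtype_card (p := fun h : G => h ∈ (P : Subgroup G)) _ (fun h => by simp)]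
    change Nat.card ↥(P : Subgroup G) - 1 = 8
    rw [hP9]
  rw [ht] at hcount
  rw [← Nat.subtype_card
    (p := fun h : G => h ∈ Subgroup.normalizer ((P : Subgroup G) : Set G)) _
    (fun h => by simp)] at hcount
  exact hcount

end Cfsg.Agent.Helper1.M7920
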