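import Mathlib
import Cfsg.Agent.Helper1.MaxClassBasic
import Cfsg.Agent.Helper1.MaxClass2Group
import Cfsg.Agent.Helper1.PGroup
import Cfsg.Agent.Helper1.Basic

set_option autoImplicit false

/-!
Normal subgroups of a `p`-group of maximal class.
-/

namespace Cfsg.Agent.Helper1

universe u

section lcs

variable {G : Type u} [Group G]

/-- if the lower central series stabilises at `k` it is constant from `k` on -/
theorem lcs_const_of_eq (k : ℕ)
    (h : (⊤ : Subgroup G).lowerCentralSeries (k + 1) = (⊤ : Subgroup G).lowerCentralSeries k)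
    (m : ℕ) :
    (⊤ : Subgroup G).lowerCentralSeries (k + m) = (⊤ : Subgroup G).lowerCentralSeries k := by
  induction m with
  | zero => rfl
  | succ m ih =>
    rw [← add_assoc, Subgroup.lowerCentralSeries_succ, ih, ← Subgroup.lowerCentralSeries_succ, h]

/-- the lower central series of a nilpotent group is strictly decreasing until it reaches `⊥` -/
theorem lcs_lt_of_lt_class [Group.IsNilpotent G] {k : ℕ} (hk : k < Group.nilpotencyClass G) :
    (⊤ : Subgroup G).lowerCentralSeries (k + 1) < (⊤ : Subgroup G).lowerCentralSeries k := by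
  refine lt_of_le_of_ne (Subgroup.lowerCentralSeries_antitone _ (Nat.le_succ k)) ?_
  intro h
  have h1 := lcs_const_of_eq k h (Group.nilpotencyClass G - k)
  have h2 : k + (Group.nilpotencyClass G - k) = Group.nilpotencyClass G := by omega
  rw [h2, Subgroup.lowerCentralSeries_nilpotencyClass] at h1
  have h3 := Subgroup.lowerCentralSeries_eq_bot_iff_nilpotencyClass_le.1 h1.symm
  omega

/-- arithmetic: a strictly decreasing sequence ending at `0` with a gap at the start. -/
theorem strictAnti_nat_aux (a : ℕ → ℕ) (m : ℕ) (hdec : ∀ k, k < m → a (k + 1) < a k)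
    (h1 : a 1 + 1 ≤ m) : ∀ k, 1 ≤ k → k ≤ m → a k = m - k := by
  have hup : ∀ k, 1 ≤ k → k ≤ m → a k + k ≤ m := by
    intro k hk
    induction k, hk using Nat.le_induction with
    | base => intro _; exact h1
    | succ k hk ih =>
      intro hkm
      have := hdec k (by omega)
      have := ih (by omega)
      omega
  have hlow : ∀ j, j ≤ m → j ≤ a (m - j) := by
    intro j
    induction j with
    | zero => intro _; exact Nat.zero_le _
    | succ j ih =>
      intro hj
      have h2 := hdec (m - (j + 1)) (by omega)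
      have h3 : m - (j + 1) + 1 = m - j := by omega
      rw [h3] at h2
      have := ih (by omega)
      omega
  intro k hk hkm
  have h4 := hup k hk hkm
  have h5 := hlow (m - k) (by omega)
  have h6 : m - (m - k) = k := by omega
  rw [h6] at h5
  omega

end lcs

section main

variable {G : Type u} [Group G] [Finite G] {p : ℕ} [hp : Fact p.Prime]

/-- A finite `p`-group with cyclic abelianisation is abelian. -/
theorem commutator_eq_bot_of_cyclic_quotient (hG : IsPGroup p G)
    (hc : IsCyclic (G ⧸ commutator G)) : commutator G = ⊥ := by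
  haveI : IsCyclic (⊤ : Subgroup (G ⧸ commutator G)) := by
    exact isCyclic_of_surjective (Subgroup.topEquiv (G := G ⧸ commutator G)).symm.toMonoidHom
      (Subgroup.topEquiv (G := G ⧸ commutator G)).symm.surjective
  obtain ⟨g, -, hg⟩ := exists_gen_of_cyclic_quotient (commutator G) (⊤ : Subgroup (G ⧸ commutator G))
  have hsup : Subgroup.zpowers g ⊔ frattini G = ⊤ := by
    rw [eq_top_iff]
    intro x _
    obtain ⟨k, z, hz, rfl⟩ := hg x (by simp)
    exact Subgroup.mul_mem_sup (Subgroup.zpow_mem_zpowers g k)
      (IsPGroup.commutator_le_frattini hG hz)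
  have htop : Subgroup.zpowers g = ⊤ := frattini_nongenerating hsup
  have hcomm : IsMulCommutative G := by
    refine ⟨⟨fun a b => ?_⟩⟩
    have ha : a ∈ Subgroup.zpowers g := htop ▸ Subgroup.mem_top a
    have hb : b ∈ Subgroup.zpowers g := htop ▸ Subgroup.mem_top b
    obtain ⟨i, rfl⟩ := Subgroup.mem_zpowers_iff.1 ha
    obtain ⟨j, rfl⟩ := Subgroup.mem_zpowers_iff.1 hb
    rw [← zpow_add, ← zpow_add, add_comm]
  rw [eq_bot_iff]
  have h1 : IsMulCommutative (G ⧸ (⊥ : Subgroup G)) := by
    refine ⟨⟨fun a b => ?_⟩⟩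
    obtain ⟨a, rfl⟩ := QuotientGroup.mk_surjective a
    obtain ⟨b, rfl⟩ := QuotientGroup.mk_surjective b
    rw [← QuotientGroup.mk_mul, ← QuotientGroup.mk_mul, hcomm.is_comm.comm]
  exact Subgroup.Normal.quotient_commutative_iff_commutator_le.1 h1

/-- orders of the terms of the lower central series of a `p`-group of maximal class -/
theorem maxClass_card_lcs (n : ℕ) (hG : Nat.card G = p ^ n)
    (hcl : Group.nilpotencyClass G = n - 1) (hn : 3 ≤ n) :
    ∀ k, 1 ≤ k → k ≤ n - 1 →
      Nat.card ((⊤ : Subgroup G).lowerCentralSeries k) = p ^ (n - 1 - k) := by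
  have hpp : p.Prime := hp.out
  have hGp : IsPGroup p G := IsPGroup.of_card hG
  haveI hnil : Group.IsNilpotent G := hGp.isNilpotent
  have hex : ∀ k, ∃ a, Nat.card ((⊤ : Subgroup G).lowerCentralSeries k) = p ^ a :=
    fun k => IsPGroup.iff_card.1 (hGp.to_subgroup _)
  choose a ha using hex
  have ha0 : a 0 = n := by
    have h1 := ha 0
    rw [Subgroup.lowerCentralSeries_zero, Subgroup.card_top, hG] at h1
    exact (Nat.pow_right_injective hpp.two_le h1).symm
  have hdec : ∀ k, k < n - 1 → a (k + 1) < a k := by
    intro k hk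
    have h1 := lcs_lt_of_lt_class (G := G) (k := k) (by omega)
    have h2 := card_lt_card_of_lt h1
    rw [ha, ha] at h2
    exact (Nat.pow_lt_pow_iff_right hpp.one_lt).1 h2
  have ha1 : a 1 + 1 ≤ n - 1 := by
    have h1 := hdec 0 (by omega)
    rw [ha0, zero_add] at h1
    by_contra hcon
    have h2 : a 1 = n - 1 := by omega
    -- the index of the commutator subgroup is `p`
    have h3 : Nat.card (G ⧸ commutator G) = p := by
      have h4 := Subgroup.card_eq_card_quotient_mul_card_subgroup (commutator G)
      have h5 := ha 1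
      rw [Subgroup.top_lowerCentralSeries_one, h2] at h5
      rw [hG, h5] at h4
      have h6 : p ^ n = p * p ^ (n - 1) := by rw [← pow_succ']; congr 1; omega
      rw [h6] at h4
      exact (Nat.eq_of_mul_eq_mul_right (pow_pos hpp.pos _) h4).symm
    have h7 : IsCyclic (G ⧸ commutator G) := isCyclic_of_prime_card h3
    have h8 := commutator_eq_bot_of_cyclic_quotient hGp h7
    have h9 : (⊤ : Subgroup G).lowerCentralSeries 1 = ⊥ := by
      rw [Subgroup.top_lowerCentralSeries_one, h8]
    have := Subgroup.lowerCentralSeries_eq_bot_iff_nilpotencyClass_le.1 h9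
    omega
  intro k hk hkn
  rw [ha, strictAnti_nat_aux a (n - 1) hdec ha1 k hk hkn]

/-- normal subgroups of index at least `p ^ 2` in a `p`-group of maximal class -/
theorem maxClass_normal_eq_lcs (n : ℕ) (hG : Nat.card G = p ^ n)
    (hcl : Group.nilpotencyClass G = n - 1) (hn : 3 ≤ n) (N : Subgroup G) [N.Normal] (r : ℕ)
    (hr : 2 ≤ r) (hN : N.index = p ^ r) : N = (⊤ : Subgroup G).lowerCentralSeries (r - 1) := by
  have hpp := hp.out
  have hGp : IsPGroup p G := IsPGroup.of_card hG
  haveI hnil : Group.IsNilpotent G := hGp.isNilpotent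
  have hrn : r ≤ n := by
    have h1 : p ^ r ∣ p ^ n := by rw [← hN, ← hG]; exact Subgroup.index_dvd_card N
    exact (Nat.pow_dvd_pow_iff_le_right hpp.one_lt).1 h1
  have hQ : Nat.card (G ⧸ N) = p ^ r := by rw [← hN]; rfl
  have hQp : IsPGroup p (G ⧸ N) := IsPGroup.of_card hQ
  haveI : Group.IsNilpotent (G ⧸ N) := hQp.isNilpotent
  have hcl' := nilpotencyClass_le_pred r (G ⧸ N) hQ hr
  have h1 := Subgroup.lowerCentralSeries_eq_bot_iff_nilpotencyClass_le.2 hcl'
  have h2 : ((⊤ : Subgroup G).lowerCentralSeries (r - 1)).map (QuotientGroup.mk' N) = ⊥ := by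
    rw [Subgroup.map_lowerCentralSeries, ← MonoidHom.range_eq_map,
      MonoidHom.range_eq_top.2 (QuotientGroup.mk'_surjective N), h1]
  have h3 : (⊤ : Subgroup G).lowerCentralSeries (r - 1) ≤ N := by
    have := (Subgroup.map_eq_bot_iff _).1 h2
    rwa [QuotientGroup.ker_mk'] at this
  have hcardN : Nat.card N = p ^ (n - r) := by
    have h4 := Subgroup.card_mul_index N
    rw [hN, hG] at h4
    have h5 : p ^ n = p ^ (n - r) * p ^ r := by rw [← pow_add]; congr 1; omega
    rw [h5] at h4
    exact Nat.eq_of_mul_eq_mul_right (pow_pos hpp.pos _) h4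
  have hcardL := maxClass_card_lcs n hG hcl hn (r - 1) (by omega) (by omega)
  symm
  apply Subgroup.eq_of_le_of_card_ge h3
  rw [hcardN, hcardL]
  apply le_of_eq; congr 1; omega

omit [Finite G] in
/-- normal subgroups of index `p` correspond to subgroups of index `p` of the abelianisation -/
theorem card_normal_index_p_eq :
    Nat.card {N : Subgroup G // N.Normal ∧ N.index = p} =
      Nat.card {H : Subgroup (G ⧸ commutator G) // H.index = p} := by
  have hle : ∀ N : Subgroup G, N.Normal → N.index = p → commutator G ≤ N := by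
    intro N hN hidx
    haveI := hN
    have hc : Nat.card (G ⧸ N) = p := hidx
    haveI : IsCyclic (G ⧸ N) := isCyclic_of_prime_card hc
    exact Subgroup.Normal.quotient_commutative_iff_commutator_le.1 IsCyclic.isMulCommutative
  have hcomm : IsMulCommutative (G ⧸ commutator G) :=
    Subgroup.Normal.quotient_commutative_iff_commutator_le.2 le_rfl
  refine Nat.card_congr ⟨fun N => ⟨N.1.map (QuotientGroup.mk' _), ?_⟩,
    fun H => ⟨H.1.comap (QuotientGroup.mk' _), ?_, ?_⟩, ?_, ?_⟩
  · rw [Subgroup.index_map_eq _ (QuotientGroup.mk'_surjective _)]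
    · exact N.2.2
    · rw [QuotientGroup.ker_mk']; exact hle N.1 N.2.1 N.2.2
  · haveI : H.1.Normal := ⟨fun x hx g => by
      rw [hcomm.is_comm.comm g x, mul_assoc, mul_inv_cancel, mul_one]; exact hx⟩
    infer_instance
  · rw [Subgroup.index_comap_of_surjective _ (QuotientGroup.mk'_surjective _)]
    exact H.2
  · intro N
    apply Subtype.ext
    show (N.1.map (QuotientGroup.mk' _)).comap (QuotientGroup.mk' _) = N.1
    apply Subgroup.comap_map_eq_self
    rw [QuotientGroup.ker_mk']; exact hle N.1 N.2.1 N.2.2
  · intro H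
    apply Subtype.ext
    show (H.1.comap (QuotientGroup.mk' _)).map (QuotientGroup.mk' _) = H.1
    exact Subgroup.map_comap_eq_self_of_surjective (QuotientGroup.mk'_surjective _) _

end main

section count

variable {p : ℕ} [hp : Fact p.Prime]

/-- a noncyclic group of order `p ^ 2` has exactly `p + 1` subgroups of index `p` -/
theorem card_subgroups_index_p (Q : Type u) [Group Q] [Finite Q] (hQ : Nat.card Q = p ^ 2)
    (hnc : ¬ IsCyclic Q) : Nat.card {H : Subgroup Q // H.index = p} = p + 1 := by
  classical
  have hpp := hp.out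
  haveI : Fintype Q := Fintype.ofFinite Q
  haveI : Fintype (Subgroup Q) := Fintype.ofFinite _
  have hord : ∀ x : Q, x ≠ 1 → orderOf x = p := by
    intro x hx
    have h1 : orderOf x ∣ p ^ 2 := hQ ▸ orderOf_dvd_natCard x
    obtain ⟨k, hk, hk'⟩ := (Nat.dvd_prime_pow hpp).1 h1
    interval_cases k
    · rw [pow_zero, orderOf_eq_one_iff] at hk'; exact absurd hk' hx
    · rw [hk', pow_one]
    · exfalso; apply hnc; exact isCyclic_of_orderOf_eq_card x (by rw [hk', hQ])
  have hidx : ∀ H : Subgroup Q, H.index = p ↔ Nat.card H = p := by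
    intro H
    have h1 := Subgroup.card_mul_index H
    rw [hQ, sq] at h1
    constructor
    · intro h; rw [h] at h1; exact Nat.eq_of_mul_eq_mul_right hpp.pos h1
    · intro h; rw [h] at h1; exact Nat.eq_of_mul_eq_mul_left hpp.pos h1
  set s : Finset Q := Finset.univ.filter (fun x => x ≠ 1) with hs
  set t : Finset (Subgroup Q) := Finset.univ.filter (fun H => H.index = p) with ht
  have hmaps : Set.MapsTo (fun x : Q => Subgroup.zpowers x) s t := by
    intro x hx
    simp only [hs, Finset.coe_filter, Finset.mem_univ, true_and, Set.mem_setOf_eq] at hx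
    simp only [ht, Finset.coe_filter, Finset.mem_univ, true_and, Set.mem_setOf_eq]
    rw [hidx, Nat.card_zpowers, hord x hx]
  have hcount := Finset.card_eq_sum_card_fiberwise hmaps
  have hfib : ∀ H ∈ t, (s.filter (fun x => Subgroup.zpowers x = H)).card = p - 1 := by
    intro H hH
    simp only [ht, Finset.mem_filter, Finset.mem_univ, true_and] at hH
    have hHc := (hidx H).1 hH
    have hfe : s.filter (fun x => Subgroup.zpowers x = H) =
        (Finset.univ.filter (fun x => x ∈ H)).erase 1 := by
      ext x
      simp only [hs, Finset.mem_filter, Finset.mem_univ, true_and, Finset.mem_erase]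
      constructor
      · rintro ⟨hx1, hxH⟩
        exact ⟨hx1, hxH ▸ Subgroup.mem_zpowers x⟩
      · rintro ⟨hx1, hxH⟩
        refine ⟨hx1, ?_⟩
        apply Subgroup.eq_of_le_of_card_ge ((Subgroup.zpowers_le).2 hxH)
        rw [Nat.card_zpowers, hord x hx1, hHc]
    rw [hfe, Finset.card_erase_of_mem (by simp [H.one_mem])]
    congr 1
    rw [← hHc, Nat.card_eq_fintype_card, Fintype.card_subtype]
  rw [Finset.sum_congr rfl hfib, Finset.sum_const, smul_eq_mul] at hcount
  have hscard : s.card = p ^ 2 - 1 := by
    rw [hs, Finset.filter_ne', Finset.card_erase_of_mem (Finset.mem_univ _), Finset.card_univ,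
      ← Nat.card_eq_fintype_card, hQ]
  have htcard : Nat.card {H : Subgroup Q // H.index = p} = t.card := by
    rw [Nat.card_eq_fintype_card, Fintype.card_subtype]
  rw [htcard]
  rw [hscard] at hcount
  obtain ⟨q, rfl⟩ : ∃ q, p = q + 1 := ⟨p - 1, by have := hpp.pos; omega⟩
  have hq : 0 < q := by have := hpp.two_le; omega
  have h1 : (q + 1) ^ 2 - 1 = (q + 1 + 1) * q := by
    have : (q + 1) ^ 2 = (q + 1 + 1) * q + 1 := by ring
    omega
  rw [h1, Nat.add_sub_cancel] at hcount
  exact (Nat.eq_of_mul_eq_mul_right hq hcount).symm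

end count

section final

variable {G : Type u} [Group G] [Finite G] {p : ℕ} [hp : Fact p.Prime]

/-- a `p`-group of maximal class has exactly `p + 1` normal subgroups of index `p` -/
theorem maxClass_card_normal_index_p (n : ℕ) (hG : Nat.card G = p ^ n)
    (hcl : Group.nilpotencyClass G = n - 1) (hn : 3 ≤ n) :
    Nat.card {N : Subgroup G // N.Normal ∧ N.index = p} = p + 1 := by
  have hpp := hp.out
  have hGp : IsPGroup p G := IsPGroup.of_card hG
  haveI hnil : Group.IsNilpotent G := hGp.isNilpotent
  rw [card_normal_index_p_eq]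
  have hc1 := maxClass_card_lcs n hG hcl hn 1 le_rfl (by omega)
  rw [Subgroup.top_lowerCentralSeries_one] at hc1
  have hQ : Nat.card (G ⧸ commutator G) = p ^ 2 := by
    have h4 := Subgroup.card_eq_card_quotient_mul_card_subgroup (commutator G)
    rw [hG, hc1] at h4
    have h6 : p ^ n = p ^ 2 * p ^ (n - 1 - 1) := by rw [← pow_add]; congr 1; omega
    rw [h6] at h4
    exact (Nat.eq_of_mul_eq_mul_right (pow_pos hpp.pos _) h4).symm
  apply card_subgroups_index_p _ hQ
  intro hcyc
  have h8 := commutator_eq_bot_of_cyclic_quotient hGp hcyc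
  have h9 : (⊤ : Subgroup G).lowerCentralSeries 1 = ⊥ := by
    rw [Subgroup.top_lowerCentralSeries_one, h8]
  have := Subgroup.lowerCentralSeries_eq_bot_iff_nilpotencyClass_le.1 h9
  omega

end final

end Cfsg.Agent.Helper1
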