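import Cfsg.Agent.Helper4.MCDefs
import Cfsg.Agent.Helper1.MaxClassNormal

/-!
# Blackburn project: the base facts needed by PIECE B2 (own copies, independent of PIECE B1)
-/

set_option autoImplicit false

namespace Cfsg.Agent.Helper1.MC

open scoped commutatorElement
open Cfsg.Agent.Helper4.MC

section basics
variable {G : Type*} [Group G]

theorem gam_anti1 : Antitone (gam G) := fun _ _ hij =>
  (⊤ : Subgroup G).lowerCentralSeries_antitone (Nat.sub_le_sub_right hij 1)

theorem gam_comm_le1 {i j : ℕ} (hi : 1 ≤ i) (hj : 1 ≤ j) :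
    ⁅gam G i, gam G j⁆ ≤ gam G (i + j) := by
  obtain ⟨i, rfl⟩ : ∃ i', i = i' + 1 := ⟨i - 1, by omega⟩
  obtain ⟨j, rfl⟩ : ∃ j', j = j' + 1 := ⟨j - 1, by omega⟩
  have := Cfsg.Agent.Helper8.HP.lcs_comm_le G i j
  simpa [gam, show i + 1 + (j + 1) - 1 = i + j + 1 by omega] using this

theorem comm_mem_gam_succ1 {i : ℕ} (hi : 1 ≤ i) (g : G) {x : G} (hx : x ∈ gam G i) :
    ⁅g, x⁆ ∈ gam G (i + 1) := by
  obtain ⟨i, rfl⟩ : ∃ i', i = i' + 1 := ⟨i - 1, by omega⟩
  have h1 : ⁅x, g⁆ ∈ (⊤ : Subgroup G).lowerCentralSeries (i + 1) :=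
    Subgroup.commutator_mem_commutator hx (Subgroup.mem_top g)
  have h2 := inv_mem h1
  rwa [commutatorElement_inv] at h2

theorem mem_twoStep1 (j : ℕ) (x : G) :
    x ∈ twoStep G j ↔ ∀ y ∈ gam G j, ⁅x, y⁆ ∈ gam G (j + 2) := by
  unfold twoStep
  rw [Subgroup.mem_comap, Subgroup.mem_centralizer_iff]
  constructor
  · intro h y hy
    have h1 := h (QuotientGroup.mk' _ y) (Subgroup.mem_map_of_mem _ hy)
    rw [← QuotientGroup.eq_one_iff, ← QuotientGroup.mk'_apply, map_commutatorElement,
      commutatorElement_eq_one_iff_commute]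
    exact h1.symm
  · rintro h z ⟨y, hy, rfl⟩
    have h1 := h y hy
    rw [← QuotientGroup.eq_one_iff, ← QuotientGroup.mk'_apply, map_commutatorElement,
      commutatorElement_eq_one_iff_commute] at h1
    exact h1.symm

theorem lev_anti1 : Antitone (lev G) := by
  refine antitone_nat_of_succ_le (fun i => ?_)
  rcases Nat.lt_or_ge i 1 with h0 | h0
  · have : i = 0 := by omega
    subst this
    rw [lev_zero]; exact le_top
  rcases Nat.lt_or_ge i 2 with h1 | h1
  · have : i = 1 := by omega
    subst this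
    rw [lev_one, lev_of_two_le G le_rfl]
    intro x hx
    rw [mem_twoStep1]
    intro y hy
    exact gam_comm_le1 (G := G) (i := 2) (j := 2) (by omega) (by omega)
      (Subgroup.commutator_mem_commutator hx hy)
  · rw [lev_of_two_le G h1, lev_of_two_le G (show 2 ≤ i + 1 by omega)]
    exact gam_anti1 (by omega)

end basics

section card
variable {G : Type*} [Group G] [Finite G] {p n : ℕ} [Fact p.Prime]

theorem card_gam1 (hG : IsMC p n G) {i : ℕ} (hi : 2 ≤ i) (hin : i ≤ n) :
    Nat.card (gam G i) = p ^ (n - i) := by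
  have h3 := hG.three_le
  have := Cfsg.Agent.Helper1.maxClass_card_lcs n hG.card hG.cls h3 (i - 1) (by omega) (by omega)
  rw [show n - 1 - (i - 1) = n - i by omega] at this
  exact this

theorem center_eq1 (hG : IsMC p n G) : Subgroup.center G = gam G (n - 1) := by
  have hpp := (Fact.out : p.Prime)
  have h3 := hG.three_le
  have hc := (Cfsg.Agent.Helper1.maxClass_center n h3 hG.card hG.cls).1
  have hidx : (Subgroup.center G).index = p ^ (n - 1) := by
    have h1 := Subgroup.card_mul_index (Subgroup.center G)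
    rw [hc, hG.card, show p ^ n = p * p ^ (n - 1) by
      rw [← pow_succ']; congr 1; omega] at h1
    exact Nat.eq_of_mul_eq_mul_left hpp.pos h1
  exact Cfsg.Agent.Helper1.maxClass_normal_eq_lcs n hG.card hG.cls h3 (Subgroup.center G) (n - 1)
    (by omega) hidx

end card

end Cfsg.Agent.Helper1.MC
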