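import Cfsg.Agent.Helper1.MCB1a

/-!
# Blackburn project, PIECE B2: uniform elements in `p`-groups of maximal class

`s` uniform (`|C_G(s)| = p ^ 2`) in a `p`-group `G` of maximal class of order `p ^ n`:
`s ^ p ∈ Z(G)`, `(s * x) ^ p = s ^ p` for `x ∈ γ₂`, `s ∉ C_G(γ₂/γ₄)`, and `⁅s, ·⁆` maps
`lev i ∖ lev (i+1)` into `lev (i+1) ∖ lev (i+2)`.
-/

set_option autoImplicit false

namespace Cfsg.Agent.Helper1.MC

open scoped commutatorElement
open Cfsg.Agent.Helper4.MC

section general
variable {G : Type*} [Group G]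

/-- `⁅s,g⁆ = ⁅s,h⁆` iff `g⁻¹ h` centralizes `s`. -/
theorem comm_eq_comm_iff (s g h : G) :
    ⁅s, g⁆ = ⁅s, h⁆ ↔ g⁻¹ * h ∈ Subgroup.centralizer ({s} : Set G) := by
  rw [Subgroup.mem_centralizer_singleton_iff, commutatorElement_def, commutatorElement_def]
  constructor
  · intro H
    have H1 : g * s⁻¹ * g⁻¹ = h * s⁻¹ * h⁻¹ := by
      have := congrArg (fun z => s⁻¹ * z) H
      simpa [mul_assoc] using this
    have H2 : g⁻¹ * h * s⁻¹ = s⁻¹ * (g⁻¹ * h) := by
      calc g⁻¹ * h * s⁻¹ = g⁻¹ * (h * s⁻¹ * h⁻¹) * h := by group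
        _ = g⁻¹ * (g * s⁻¹ * g⁻¹) * h := by rw [H1]
        _ = s⁻¹ * (g⁻¹ * h) := by group
    calc g⁻¹ * h * s = s * (s⁻¹ * (g⁻¹ * h)) * s := by group
      _ = s * (g⁻¹ * h * s⁻¹) * s := by rw [H2]
      _ = s * (g⁻¹ * h) := by group
  · intro hc
    obtain ⟨c, hcdef⟩ : ∃ c, c = g⁻¹ * h := ⟨_, rfl⟩
    rw [← hcdef] at hc
    have hh : h = g * c := by rw [hcdef]; group
    have hc' : c * s⁻¹ = s⁻¹ * c := by
      calc c * s⁻¹ = s⁻¹ * (s * c) * s⁻¹ := by group
        _ = s⁻¹ * (c * s) * s⁻¹ := by rw [hc]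
        _ = s⁻¹ * c := by group
    rw [hh]
    calc s * g * s⁻¹ * g⁻¹ = s * g * (s⁻¹ * c) * c⁻¹ * g⁻¹ := by group
      _ = s * g * (c * s⁻¹) * c⁻¹ * g⁻¹ := by rw [hc']
      _ = s * (g * c) * s⁻¹ * (g * c)⁻¹ := by group

theorem card_centralizer_subgroupOf (s : G) (L : Subgroup G) :
    Nat.card ((Subgroup.centralizer ({s} : Set G)).subgroupOf L) =
      Nat.card (L ⊓ Subgroup.centralizer ({s} : Set G) : Subgroup G) := by
  have h1 : (Subgroup.centralizer ({s} : Set G)).subgroupOf L =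
      (L ⊓ Subgroup.centralizer ({s} : Set G)).subgroupOf L := by
    rw [Subgroup.inf_subgroupOf_left]
  rw [h1]
  exact Nat.card_congr (Subgroup.subgroupOfEquivOfLe inf_le_left).toEquiv

/-- the map `g (C(s) ∩ L) ↦ ⁅s,g⁆` on `L / (C(s) ∩ L)` -/
theorem exists_comm_lift (s : G) (L M : Subgroup G) (h : ∀ g ∈ L, ⁅s, g⁆ ∈ M) :
    ∃ f : L ⧸ ((Subgroup.centralizer ({s} : Set G)).subgroupOf L) → M,
      Function.Injective f ∧ ∀ g : L, ((f (g : L ⧸ _) : M) : G) = ⁅s, (g : G)⁆ := by
  have hwd : ∀ a b : L, (QuotientGroup.leftRel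
      ((Subgroup.centralizer ({s} : Set G)).subgroupOf L)) a b →
      (⟨⁅s, (a : G)⁆, h a a.2⟩ : M) = ⟨⁅s, (b : G)⁆, h b b.2⟩ := by
    intro a b hab
    rw [QuotientGroup.leftRel_apply, Subgroup.mem_subgroupOf] at hab
    apply Subtype.ext
    show ⁅s, (a : G)⁆ = ⁅s, (b : G)⁆
    rw [comm_eq_comm_iff]
    simpa using hab
  refine ⟨Quotient.lift (fun g : L => (⟨⁅s, (g : G)⁆, h g g.2⟩ : M)) hwd, ?_, fun g => rfl⟩
  intro a b
  induction a using QuotientGroup.induction_on with
  | H a =>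
    induction b using QuotientGroup.induction_on with
    | H b =>
      intro hab
      have h1 : ⁅s, (a : G)⁆ = ⁅s, (b : G)⁆ := congrArg (fun z : M => (z : G)) hab
      rw [comm_eq_comm_iff] at h1
      rw [QuotientGroup.eq, Subgroup.mem_subgroupOf]
      simpa using h1

variable [Finite G]

theorem card_le_of_comm_mem (s : G) (L M : Subgroup G) (h : ∀ g ∈ L, ⁅s, g⁆ ∈ M) :
    Nat.card L ≤ Nat.card (L ⊓ Subgroup.centralizer ({s} : Set G) : Subgroup G) * Nat.card M := by
  obtain ⟨f, hf, -⟩ := exists_comm_lift s L M h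
  have h1 := Subgroup.card_eq_card_quotient_mul_card_subgroup
    ((Subgroup.centralizer ({s} : Set G)).subgroupOf L)
  rw [card_centralizer_subgroupOf] at h1
  rw [h1, mul_comm]
  exact Nat.mul_le_mul_left _ (Nat.card_le_card_of_injective f hf)

theorem exists_comm_eq (s : G) (L M : Subgroup G) (h : ∀ g ∈ L, ⁅s, g⁆ ∈ M)
    (hcard : Nat.card (L ⊓ Subgroup.centralizer ({s} : Set G) : Subgroup G) * Nat.card M ≤
      Nat.card L) : ∀ y ∈ M, ∃ g ∈ L, ⁅s, g⁆ = y := by
  obtain ⟨f, hf, hfg⟩ := exists_comm_lift s L M h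
  have h1 := Subgroup.card_eq_card_quotient_mul_card_subgroup
    ((Subgroup.centralizer ({s} : Set G)).subgroupOf L)
  rw [card_centralizer_subgroupOf] at h1
  have hpos : 0 < Nat.card (L ⊓ Subgroup.centralizer ({s} : Set G) : Subgroup G) := Nat.card_pos
  have h2 : Nat.card M ≤ Nat.card (L ⧸ ((Subgroup.centralizer ({s} : Set G)).subgroupOf L)) := by
    rw [h1] at hcard
    rw [mul_comm (Nat.card (L ⧸ _))] at hcard
    exact Nat.le_of_mul_le_mul_left hcard hpos
  have hbij := hf.bijective_of_nat_card_le h2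
  intro y hy
  obtain ⟨q, hq⟩ := hbij.2 ⟨y, hy⟩
  induction q using QuotientGroup.induction_on with
  | H g =>
    refine ⟨(g : G), g.2, ?_⟩
    rw [← hfg g, hq]

end general

section MC
variable {G : Type*} [Group G] [Finite G] {p n : ℕ} [Fact p.Prime]

theorem centralizer_inv (s : G) :
    Subgroup.centralizer ({s⁻¹} : Set G) = Subgroup.centralizer ({s} : Set G) := by
  ext g
  simp only [Subgroup.mem_centralizer_singleton_iff]
  constructor
  · intro h
    calc g * s = s * (s⁻¹ * g) * s := by group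
      _ = s * (g * s⁻¹) * s := by rw [h]
      _ = s * g := by group
  · intro h
    calc g * s⁻¹ = s⁻¹ * (s * g) * s⁻¹ := by group
      _ = s⁻¹ * (g * s) * s⁻¹ := by rw [h]
      _ = s⁻¹ * g := by group

theorem IsUniform.inv {s : G} (hs : IsUniform p s) : IsUniform p s⁻¹ := by
  unfold IsUniform at hs ⊢
  rw [centralizer_inv]; exact hs

theorem card_center (hG : IsMC p n G) : Nat.card (Subgroup.center G) = p := by
  have h3 := hG.three_le
  rw [center_eq1 hG, card_gam1 hG (by omega) (by omega)]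
  have : n - (n - 1) = 1 := by omega
  rw [this, pow_one]

theorem center_le_gam (hG : IsMC p n G) {i : ℕ} (hi : i + 1 ≤ n) :
    Subgroup.center G ≤ gam G i := by
  rw [center_eq1 hG]; exact gam_anti1 (by omega)

theorem comm_mem_gam_two (a b : G) : ⁅a, b⁆ ∈ gam G 2 := by
  have hb : b ∈ gam G 1 := by
    show b ∈ (⊤ : Subgroup G).lowerCentralSeries 0
    rw [Subgroup.lowerCentralSeries_zero]; trivial
  exact comm_mem_gam_succ1 (G := G) (i := 1) le_rfl a hb

/-- a subgroup between `Z(G)` and `C_G(s)` is one of the two -/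
theorem IsUniform.eq_center_or (hG : IsMC p n G) {s : G} (hs : IsUniform p s) (D : Subgroup G)
    (hZD : Subgroup.center G ≤ D) (hDC : D ≤ Subgroup.centralizer ({s} : Set G)) :
    D = Subgroup.center G ∨ D = Subgroup.centralizer ({s} : Set G) := by
  have hpp := (Fact.out : p.Prime)
  have hs' : Nat.card (Subgroup.centralizer ({s} : Set G)) = p ^ 2 := hs
  have h1 : Nat.card D ∣ p ^ 2 := by rw [← hs']; exact Subgroup.card_dvd_of_le hDC
  obtain ⟨k, hk, hkD⟩ := (Nat.dvd_prime_pow hpp).1 h1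
  have h2 : Nat.card (Subgroup.center G) ≤ Nat.card D := Subgroup.card_le_of_le hZD
  rw [card_center hG, hkD] at h2
  have hk1 : 1 ≤ k := by
    by_contra hk0
    have hk0' : k = 0 := by omega
    rw [hk0', pow_zero] at h2
    have := hpp.two_le; omega
  rcases Nat.lt_or_ge k 2 with h | h
  · left
    have hk1' : k = 1 := by omega
    refine (Subgroup.eq_of_le_of_card_ge hZD ?_).symm
    rw [hkD, hk1', pow_one, card_center hG]
  · right
    have hk2 : k = 2 := by omega
    refine Subgroup.eq_of_le_of_card_ge hDC ?_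
    rw [hs', hkD, hk2]

theorem IsUniform.not_mem_gam_two (hG : IsMC p n G) {s : G} (hs : IsUniform p s) :
    s ∉ gam G 2 := by
  intro hs2
  have hpp := (Fact.out : p.Prime)
  have h3 := hG.three_le
  have hs' : Nat.card (Subgroup.centralizer ({s} : Set G)) = p ^ 2 := hs
  have h : ∀ g ∈ (⊤ : Subgroup G), ⁅s, g⁆ ∈ gam G 3 := by
    intro g _
    have h0 := comm_mem_gam_succ1 (G := G) (i := 2) (by omega) g hs2
    rw [← commutatorElement_inv]
    exact (gam G 3).inv_mem h0
  have h1 := card_le_of_comm_mem s ⊤ (gam G 3) h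
  rw [top_inf_eq, hs', card_gam1 hG (by omega) h3, Subgroup.card_top, hG.card] at h1
  have h2 : p ^ 2 * p ^ (n - 3) = p ^ (n - 1) := by rw [← pow_add]; congr 1; omega
  rw [h2] at h1
  have := Nat.pow_lt_pow_right hpp.one_lt (show n - 1 < n by omega)
  omega

theorem IsUniform.mem_center_of_mem_gam (hG : IsMC p n G) {s : G} (hs : IsUniform p s) {c : G}
    (hc : c ∈ Subgroup.centralizer ({s} : Set G)) (hc2 : c ∈ gam G 2) :
    c ∈ Subgroup.center G := by
  have h3 := hG.three_le
  rcases IsUniform.eq_center_or hG hs (Subgroup.centralizer ({s} : Set G) ⊓ gam G 2)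
    (le_inf (Subgroup.center_le_centralizer _) (center_le_gam hG (by omega))) inf_le_left with h | h
  · rw [← h]; exact ⟨hc, hc2⟩
  · exfalso
    apply IsUniform.not_mem_gam_two hG hs
    have h4 : s ∈ Subgroup.centralizer ({s} : Set G) ⊓ gam G 2 := by
      rw [h]; exact Subgroup.mem_centralizer_singleton_iff.2 rfl
    exact h4.2

theorem IsUniform.exists_comm (hG : IsMC p n G) {s : G} (hs : IsUniform p s) {j : ℕ} (hj : 2 ≤ j)
    (hjn : j + 1 ≤ n) : ∀ y ∈ gam G (j + 1), ∃ g ∈ gam G j, ⁅s, g⁆ = y := by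
  have hpp := (Fact.out : p.Prime)
  apply exists_comm_eq s (gam G j) (gam G (j + 1))
    (fun g hg => comm_mem_gam_succ1 (by omega) s hg)
  have h1 : (gam G j ⊓ Subgroup.centralizer ({s} : Set G) : Subgroup G) ≤ Subgroup.center G := by
    intro c hc
    exact IsUniform.mem_center_of_mem_gam hG hs hc.2 (gam_anti1 hj hc.1)
  have h2 := Subgroup.card_le_of_le h1
  rw [card_center hG] at h2
  rw [card_gam1 hG (by omega) hjn, card_gam1 hG hj (by omega)]
  calc _ ≤ p * p ^ (n - (j + 1)) := Nat.mul_le_mul_right _ h2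
    _ = p ^ (n - j) := by rw [← pow_succ']; congr 1; omega

theorem IsUniform.pow_mem_center (hG : IsMC p n G) {s : G} (hs : IsUniform p s) :
    s ^ p ∈ Subgroup.center G := by
  have hpp := (Fact.out : p.Prime)
  have hs' : Nat.card (Subgroup.centralizer ({s} : Set G)) = p ^ 2 := hs
  have hZC : Subgroup.center G ≤ Subgroup.centralizer ({s} : Set G) :=
    Subgroup.center_le_centralizer _
  have h1 := Subgroup.card_mul_index
    ((Subgroup.center G).subgroupOf (Subgroup.centralizer ({s} : Set G)))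
  rw [Nat.card_congr (Subgroup.subgroupOfEquivOfLe hZC).toEquiv, card_center hG, hs', pow_two] at h1
  have h2 : ((Subgroup.center G).subgroupOf (Subgroup.centralizer ({s} : Set G))).index = p :=
    Nat.eq_of_mul_eq_mul_left hpp.pos h1
  have hsC : s ∈ Subgroup.centralizer ({s} : Set G) := Subgroup.mem_centralizer_singleton_iff.2 rfl
  have h3 := Subgroup.pow_index_mem
    ((Subgroup.center G).subgroupOf (Subgroup.centralizer ({s} : Set G))) ⟨s, hsC⟩
  rw [h2, Subgroup.mem_subgroupOf] at h3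
  simpa using h3

theorem IsUniform.mul_pow (hG : IsMC p n G) {s : G} (hs : IsUniform p s) {x : G}
    (hx : x ∈ gam G 2) : (s * x) ^ p = s ^ p := by
  have h3 := hG.three_le
  have hs' : Nat.card (Subgroup.centralizer ({s⁻¹} : Set G)) = p ^ 2 := IsUniform.inv hs
  have hex := exists_comm_eq s⁻¹ ⊤ (gam G 2) (fun g _ => comm_mem_gam_two s⁻¹ g) (by
    rw [top_inf_eq, hs', card_gam1 hG le_rfl (by omega), Subgroup.card_top, hG.card, ← pow_add]
    apply le_of_eq; congr 1; omega)
  obtain ⟨g, -, hg⟩ := hex x hx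
  have h1 : s * x = g * s * g⁻¹ := by
    rw [← hg, commutatorElement_def]; group
  rw [h1, conj_pow]
  have hz := IsUniform.pow_mem_center hG hs
  rw [Subgroup.mem_center_iff] at hz
  rw [hz g, mul_assoc, mul_inv_cancel, mul_one]

theorem IsUniform.not_mem_lev_one (hG : IsMC p n G) (hn : 4 ≤ n) {s : G} (hs : IsUniform p s) :
    s ∉ lev G 1 := by
  rw [lev_one, mem_twoStep1]
  intro h
  have hpp := (Fact.out : p.Prime)
  have hle : gam G 3 ≤ gam G 4 := by
    intro y hy
    obtain ⟨g, hg, rfl⟩ := IsUniform.exists_comm hG hs (j := 2) le_rfl (by omega) y hy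
    exact h g hg
  have h1 := Subgroup.card_le_of_le hle
  rw [card_gam1 hG (by omega) (by omega), card_gam1 hG (by omega) hn] at h1
  have := Nat.pow_lt_pow_right hpp.one_lt (show n - 4 < n - 3 by omega)
  omega

theorem IsUniform.comm_lev (hG : IsMC p n G) (hn : 4 ≤ n) {s : G} (hs : IsUniform p s) {i : ℕ}
    (hi : 1 ≤ i) (hin : i + 2 ≤ n) {x : G} (hx : x ∈ lev G i) (hx' : x ∉ lev G (i + 1)) :
    ⁅s, x⁆ ∈ lev G (i + 1) ∧ ⁅s, x⁆ ∉ lev G (i + 2) := by
  have hanti := lev_anti1 (G := G)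
  rw [lev_of_two_le G (show 2 ≤ i + 1 by omega), lev_of_two_le G (show 2 ≤ i + 2 by omega)]
  rw [lev_of_two_le G (show 2 ≤ i + 1 by omega)] at hx'
  constructor
  · rcases Nat.lt_or_ge i 2 with h | h
    · have hi1 : i = 1 := by omega
      subst hi1
      exact comm_mem_gam_two s x
    · rw [lev_of_two_le G h] at hx
      exact comm_mem_gam_succ1 (by omega) s hx
  · intro hcon
    obtain ⟨g, hg, hgx⟩ := IsUniform.exists_comm hG hs (j := i + 1) (by omega) (by omega) _ hcon
    rw [comm_eq_comm_iff] at hgx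
    -- `c = g⁻¹ x` centralizes `s`, lies in `lev i`, not in `gam (i+1)`
    have hc' : g⁻¹ * x ∉ gam G (i + 1) := by
      intro h
      apply hx'
      have := (gam G (i + 1)).mul_mem hg h
      simpa using this
    have hgi : g ∈ lev G i := by
      have := hanti (show i ≤ i + 1 by omega)
      rw [lev_of_two_le G (show 2 ≤ i + 1 by omega)] at this
      exact this hg
    have hci : g⁻¹ * x ∈ lev G i := (lev G i).mul_mem ((lev G i).inv_mem hgi) hx
    rcases Nat.lt_or_ge i 2 with h | h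
    · have hi1 : i = 1 := by omega
      subst hi1
      -- `D = C ⊓ lev 1` contains `Z` and `c ∉ Z`, so `D = C`, so `s ∈ lev 1`
      have hZ1 : Subgroup.center G ≤ lev G 1 := by
        refine le_trans (center_le_gam hG (i := 2) (by omega)) ?_
        have := hanti (show 1 ≤ 2 by omega)
        rwa [lev_of_two_le G le_rfl] at this
      rcases IsUniform.eq_center_or hG hs (Subgroup.centralizer ({s} : Set G) ⊓ lev G 1)
        (le_inf (Subgroup.center_le_centralizer _) hZ1) inf_le_left with h1 | h1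
      · apply hc'
        have h2 : g⁻¹ * x ∈ Subgroup.centralizer ({s} : Set G) ⊓ lev G 1 := ⟨hgx, hci⟩
        rw [h1] at h2
        exact center_le_gam hG (i := 2) (by omega) h2
      · apply IsUniform.not_mem_lev_one hG hn hs
        have h4 : s ∈ Subgroup.centralizer ({s} : Set G) ⊓ lev G 1 := by
          rw [h1]; exact Subgroup.mem_centralizer_singleton_iff.2 rfl
        exact h4.2
    · rw [lev_of_two_le G h] at hci
      apply hc'
      have h2 := IsUniform.mem_center_of_mem_gam hG hs hgx (gam_anti1 h hci)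
      exact center_le_gam hG (i := i + 1) (by omega) h2

end MC

end Cfsg.Agent.Helper1.MC
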