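import Mathlib
import Cfsg.Agent.Helper5.MCThree
import Cfsg.Agent.Helper6.MCB3
import Cfsg.Agent.Helper6.MCDepthFinal
import Cfsg.Agent.Helper4.MCPearl
import Cfsg.Agent.Helper3.MCC1
import Cfsg.Agent.Helper1.MCB2

/-!
# Blackburn project, PIECE T3 (literal stub)

A 3-group of maximal class of order at least `3^5` with a uniform element has all its subgroups
generated by two elements.  This is the plug of helper5's hypothesis form `two_gens_three` with
the landed pieces C (`powerStr_of_uniform`), C1 (`agemo_gam_le_of_mul_pow`), B2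
(`IsUniform.mul_pow`), B3 and D'.
-/

set_option autoImplicit false

namespace Cfsg.Agent.Helper1.MC

open scoped commutatorElement
open Cfsg.Agent.Helper8.HP (agemo)
open Cfsg.Agent.Helper4.MC

theorem three_group_two_gen {G : Type*} [Group G] [Finite G] {n : ℕ} [Fact (Nat.Prime 3)]
    (hG : IsMC 3 n G) (hn : 5 ≤ n) (hs : ∃ s : G, IsUniform 3 s) (H : Subgroup G) :
    ∃ T : Finset G, T.card ≤ 2 ∧ Subgroup.closure (T : Set G) = H := by
  obtain ⟨s, hs⟩ := hs
  have hP : PowerStr 3 n G := powerStr_of_uniform hG (by omega) hs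
  refine Cfsg.Agent.Helper5.MC.two_gens_three hG hn hP
    (Cfsg.Agent.Helper3.MC.agemo_gam_le_of_mul_pow hG
      (fun x hx => Cfsg.Agent.Helper1.MC.IsUniform.mul_pow hG hs hx))
    (fun t ht => Cfsg.Agent.Helper6.MC.isUniform_of_not_mem_twoStep hG (by omega) ht)
    (fun t ht M hM h =>
      Cfsg.Agent.Helper6.MC.exists_eq_gam_of_uniform_normalizes hG (by omega) ht M hM h)
    (fun K hK => Cfsg.Agent.Helper6.MC.relIndex_agemo_le_of_le_lev_one hG (by omega) hP K hK) H

end Cfsg.Agent.Helper1.MC
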