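import Mathlib
import Cfsg.Agent.Helper1.MFh
import Cfsg.Agent.Helper1.PStableQuot
import Cfsg.Agent.Helper2.PConstrained3
import Cfsg.Agent.S3836

/-!
`N_G(Z(J(D)))` controls strong fusion in a `p`-stable group all of whose `p`-locals `N_G(U)`,
`1 ≠ U ≤ P`, are `p`-constrained (`S3080`).
-/

set_option autoImplicit false

universe u

namespace Cfsg.Agent.Helper1.MF

open Cfsg Cfsg.Agent.Lead Cfsg.Agent.Helper5.TF Cfsg.Agent.Helper1.FT
open scoped commutatorElement

variable {p : ℕ} [hp : Fact p.Prime]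

/-- `p`-stability (normalizer form) passes to quotients by normal `p'`-subgroups. -/
theorem isNormalizerPStable_quot {G : Type u} [Group G] [Finite G] (K : Subgroup G) [K.Normal]
    (hK : (Nat.card K).Coprime p) (hst : Cfsg.IsNormalizerPStable p G) :
    Cfsg.IsNormalizerPStable p (G ⧸ K) := by
  intro Pb hPb gb hgb hquad
  have hsurj : Function.Surjective (QuotientGroup.mk' K) := QuotientGroup.mk'_surjective K
  obtain ⟨P, -, hP, hPmap⟩ := exists_pgroup_map_eq (p := p) (QuotientGroup.mk' K)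
    (Pb.comap (QuotientGroup.mk' K))
    (by rw [Subgroup.map_comap_eq_self_of_surjective hsurj]; exact hPb)
  have hPb' : P.map (QuotientGroup.mk' K) = Pb := by
    rw [hPmap, Subgroup.map_comap_eq_self_of_surjective hsurj]
  subst hPb'
  obtain ⟨g, hg, rfl⟩ := normalizer_map_mk'_le K P hP hK hgb
  have hdisj : P ⊓ K = ⊥ := by
    apply inf_eq_bot_of_coprime_card
    obtain ⟨k, hk⟩ := IsPGroup.iff_card.1 hP
    rw [hk]
    exact (Nat.Coprime.pow_right k hK).symm
  have hPZ : ⁅P, Subgroup.zpowers g⁆ ≤ P := by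
    rw [Subgroup.commutator_le]
    intro x hx z hz
    have hzN : z ∈ Subgroup.normalizer (P : Set G) :=
      (Subgroup.zpowers_le.2 hg) hz
    have h1 : z * x⁻¹ * z⁻¹ ∈ P := (Subgroup.mem_normalizer_iff.1 hzN x⁻¹).1 (P.inv_mem hx)
    have e : ⁅x, z⁆ = x * (z * x⁻¹ * z⁻¹) := by
      rw [commutatorElement_def]; group
    rw [e]
    exact P.mul_mem hx h1
  have hq : ⁅⁅P, Subgroup.zpowers g⁆, Subgroup.zpowers g⁆ = ⊥ := by
    rw [eq_bot_iff, ← hdisj]
    refine le_inf ((Subgroup.commutator_mono hPZ le_rfl).trans hPZ) ?_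
    rw [← QuotientGroup.ker_mk' K, ← Subgroup.map_eq_bot_iff, Subgroup.map_commutator,
      Subgroup.map_commutator, MonoidHom.map_zpowers]
    exact hquad
  have h1 := hst P hP g hg hq
  have h2 : normModCentEquiv K P hP hK (QuotientGroup.mk ⟨g, hg⟩) ∈ Cfsg.pCore p _ := by
    rw [← Cfsg.Agent.Helper4.pCore_map_mulEquiv (normModCentEquiv K P hP hK)]
    exact ⟨_, h1, rfl⟩
  exact h2

/-- if the value of the marked functor at a Sylow subgroup is normal, it controls strong fusion -/
theorem control_of_normal (W : ∀ (Q : Type u) [Group Q], Subgroup Q) {X : Type u} [Group X]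
    [Finite X] (𝒟 : Set X) (S : Sylow p X) (hn : (mfun W 𝒟 (S : Subgroup X)).Normal) :
    Cfsg.FamilyControlsStrongFusionIn p {mfun W 𝒟} ⊤ := by
  apply top_of_sfs S
  intro A g hA hAg
  refine FRel.step (W := mfun W 𝒟) rfl ?_ hA hAg
  have hN : Subgroup.normalizer ((mfun W 𝒟 (S : Subgroup X) : Subgroup X) : Set X) = ⊤ :=
    Subgroup.normalizer_eq_top_iff.mpr hn
  rw [hN]
  exact Subgroup.mem_top g

/-- control in a `p`-constrained `p`-stable group (as a group) -/
theorem control_of_constrained (W : ∀ (Q : Type u) [Group Q], Subgroup Q)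
    (hW : Cfsg.IsCharPFunctor.{u} p W)
    (hZJ : ∀ (X : Type u) [Group X] [Finite X], Cfsg.IsNormalizerPStable p X → PC p X →
      ∀ (S : Sylow p X) (D : Subgroup X), Cfsg.IsStronglyClosed D (S : Subgroup X) →
        (Cfsg.inducedFunctor W D).Normal)
    {X : Type u} [Group X] [Finite X] (hst : Cfsg.IsNormalizerPStable p X)
    (hc : Cfsg.IsPConstrained p X) (𝒟 : Set X) (hmark : Marked p 𝒟) :
    Cfsg.FamilyControlsStrongFusionIn p {mfun W 𝒟} ⊤ := by
  have S : Sylow p X := default
  have hO : (Nat.card (Cfsg.pPrimeCore p X)).Coprime p := card_pPrimeCore_coprime p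
  have hpc : PC p (X ⧸ Cfsg.pPrimeCore p X) :=
    (Cfsg.Agent.Helper2.pLayer_eq_bot_iff_hasCharP p).1
      ((Cfsg.Agent.Helper2.isPConstrained_iff p).1 hc)
  have hstq := isNormalizerPStable_quot (Cfsg.pPrimeCore p X) hO hst
  have hmq := hmark.quot (Cfsg.pPrimeCore p X)
  set Sb : Sylow p (X ⧸ Cfsg.pPrimeCore p X) :=
    S.mapSurjective (QuotientGroup.mk'_surjective (Cfsg.pPrimeCore p X)) with hSb
  have hn := hZJ _ hstq hpc Sb _ (hmq.stronglyClosed Sb)
  have hq := control_of_normal W _ Sb hn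
  refine sf_case_pprime' _ ?_ (Cfsg.pPrimeCore p X) hO _ ?_ S ?_ hq
  · rintro V rfl
    exact mfun_isConj W hW 𝒟 hmark.conj
  · rintro V rfl
    exact mfun_isConj W hW _ hmq.conj
  · rintro V' rfl
    exact ⟨mfun W 𝒟, rfl, mfun_map_quot W hW _ hO S 𝒟 hmark.conj hmark.pel⟩

/-- from family control to control by the normalizer -/
theorem controls_of_family (W : ∀ (Q : Type u) [Group Q], Subgroup Q)
    (hW : Cfsg.IsCharPFunctor.{u} p W) {G : Type u} [Group G] [Finite G] (P : Sylow p G)
    (D : Subgroup G) (hD : Cfsg.IsStronglyClosed D (P : Subgroup G)) (hne : D ≠ ⊥)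
    (h : Cfsg.FamilyControlsStrongFusionIn p {mfun W (conjSet D)} ⊤) :
    ∀ A : Set G, A ⊆ (P : Subgroup G) →
      Cfsg.ControlsStrongFusionOf
        (Subgroup.normalizer ((Cfsg.inducedFunctor W D : Subgroup G) : Set G)) (P : Subgroup G) A := by
  intro A hA
  refine ⟨hA, fun g hg => ?_⟩
  have hmark := marked_conjSet P hD
  have hconj : ∀ V ∈ ({mfun W (conjSet D)} : Set (Subgroup G → Subgroup G)),
      Cfsg.IsConjugacyFunctor p V := by
    rintro V rfl
    exact mfun_isConj W hW _ hmark.conj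
  have hsfs := sfs_of_top hconj h P
  have hAg : conjR g⁻¹ A ⊆ (P : Subgroup G) := by
    rintro _ ⟨a, ha, rfl⟩
    have := hg ⟨a, ha, rfl⟩
    simpa using this
  obtain ⟨g', hch, hag⟩ := hsfs A g⁻¹ hA hAg
  have hVP : mfun W (conjSet D) (P : Subgroup G) = Cfsg.inducedFunctor W D := by
    show Cfsg.inducedFunctor W (mark (conjSet D) (P : Subgroup G)) = _
    rw [mark_conjSet hD hne]
  have hg'N : g' ∈ Subgroup.normalizer ((Cfsg.inducedFunctor W D : Subgroup G) : Set G) := by
    apply FChain_mem_of_steps _ _ hch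
    rintro x ⟨V, hV, hx⟩
    have : V = mfun W (conjSet D) := hV
    subst this
    rw [← hVP]
    exact (Subgroup.mem_inf.mp hx).2
  refine ⟨g'⁻¹, Subgroup.inv_mem _ hg'N, fun a ha => ?_⟩
  have := hag a ha
  rw [inv_inv] at this ⊢
  exact this.symm

theorem controls_of_constrained_locals (W : ∀ (Q : Type u) [Group Q], Subgroup Q)
    (hW : Cfsg.IsCharPFunctor.{u} p W)
    (hZJ : ∀ (X : Type u) [Group X] [Finite X], Cfsg.IsNormalizerPStable p X → PC p X →
      ∀ (S : Sylow p X) (D : Subgroup X), Cfsg.IsStronglyClosed D (S : Subgroup X) →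
        (Cfsg.inducedFunctor W D).Normal)
    {G : Type u} [Group G] [Finite G] (hst : Cfsg.IsNormalizerPStable p G) (P : Sylow p G)
    (hc : ∀ U : Subgroup G, U ≤ (P : Subgroup G) → U ≠ ⊥ →
      Cfsg.IsPConstrained p ↥(Subgroup.normalizer (U : Set G)))
    (D : Subgroup G) (hD : Cfsg.IsStronglyClosed D (P : Subgroup G)) :
    ∀ A : Set G, A ⊆ (P : Subgroup G) →
      Cfsg.ControlsStrongFusionOf
        (Subgroup.normalizer ((Cfsg.inducedFunctor W D : Subgroup G) : Set G)) (P : Subgroup G) A := by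
  by_cases hne : D = ⊥
  · intro A hA
    refine ⟨hA, fun g _ => ⟨g, ?_, fun a _ => rfl⟩⟩
    have h0 : Cfsg.inducedFunctor W D = ⊥ := by
      rw [eq_bot_iff, ← hne]
      exact Subgroup.map_subtype_le _
    rw [h0]
    rw [Subgroup.normalizer_eq_top_iff.mpr (inferInstance : (⊥ : Subgroup G).Normal)]
    exact Subgroup.mem_top g
  · apply controls_of_family W hW P D hD hne
    have hmark := marked_conjSet P hD
    have hconj : ∀ V ∈ ({mfun W (conjSet D)} : Set (Subgroup G → Subgroup G)),
        Cfsg.IsConjugacyFunctor p V := by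
      rintro V rfl
      exact mfun_isConj W hW _ hmark.conj
    apply familyControlsStrongFusionIn_top_of_local P _ hconj
    intro T hTP hTne _
    set H := Subgroup.normalizer (T : Set G) with hH
    have hstH := Cfsg.Agent.S3836.result hst H
    have h1 := control_of_constrained W hW hZJ hstH (hc T hTP hTne) (H.subtype ⁻¹' conjSet D)
      (hmark.sub H)
    have h2 := sf_map_injective' (p := p) {mfun W (H.subtype ⁻¹' conjSet D)} {mfun W (conjSet D)}
      H.subtype H.subtype_injective ?_ h1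
    · rwa [Subgroup.range_subtype] at h2
    · rintro V rfl
      refine ⟨mfun W (conjSet D), rfl, fun T' hT' => ?_⟩
      exact mfun_map_injective W hW H.subtype H.subtype_injective (conjSet D) T' hT'

theorem zj_controls_of_constrained_locals (hp2 : p ≠ 2) {G : Type u} [Group G] [Finite G]
    (hst : Cfsg.IsNormalizerPStable p G) (P : Sylow p G)
    (hc : ∀ U : Subgroup G, U ≤ (P : Subgroup G) → U ≠ ⊥ →
      Cfsg.IsPConstrained p ↥(Subgroup.normalizer (U : Set G)))
    (D : Subgroup G) (hD : Cfsg.IsStronglyClosed D (P : Subgroup G)) :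
    (∀ A : Set G, A ⊆ (P : Subgroup G) → Cfsg.ControlsStrongFusionOf
      (Subgroup.normalizer ((Cfsg.centerThompsonAOf D) : Set G)) (P : Subgroup G) A) ∧
    (∀ A : Set G, A ⊆ (P : Subgroup G) → Cfsg.ControlsStrongFusionOf
      (Subgroup.normalizer ((Cfsg.omegaOne p (Cfsg.centerThompsonOf p D)) : Set G))
      (P : Subgroup G) A) := by
  constructor
  · have h := controls_of_constrained_locals (p := p) ZJFus.zjW ZJFus.zjW_isCharPFunctor ?_ hst P hc D hD
    · rwa [ZJFus.inducedFunctor_zjW] at h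
    · intro X _ _ hstX hpc S D' hD'
      rw [ZJFus.inducedFunctor_zjW]
      exact (Cfsg.Agent.S3079.result hp2 S D' hD' hstX hpc).1
  · have h := controls_of_constrained_locals (p := p) (ozjW p) ozjW_isCharPFunctor ?_ hst P hc D hD
    · rwa [inducedFunctor_ozjW] at h
    · intro X _ _ hstX hpc S D' hD'
      rw [inducedFunctor_ozjW]
      exact (Cfsg.Agent.S3079.result hp2 S D' hD' hstX hpc).2

end Cfsg.Agent.Helper1.MF
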