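import Mathlib

/-!
# Jordan sets: basic lemmas and the transitivity lemma (Lemma T)

`JS G D` : `D` is a Jordan set for the action of `G` (the pointwise stabilizer of the
complement of `D` is transitive on `D`).
-/

namespace Cfsg.Agent.Helper1.Marg

open MulAction
open scoped Pointwise

variable {G : Type*} [Group G] {α : Type*} [MulAction G α]

/-- `D` is a Jordan set for `G`: the elements of `G` fixing every point outside `D`
act transitively on `D`. -/
def JS (G : Type*) [Group G] {α : Type*} [MulAction G α] (D : Set α) : Prop :=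
  ∀ x ∈ D, ∀ y ∈ D, ∃ g : G, (∀ z, z ∉ D → g • z = z) ∧ g • x = y

/-- an element fixing every point outside `D` maps `D` into `D`. -/
theorem smul_mem_of_fix {D : Set α} {h : G} (hf : ∀ z, z ∉ D → h • z = z) {x : α} (hx : x ∈ D) :
    h • x ∈ D := by
  by_contra hn
  have h1 : h • (h • x) = h • x := hf _ hn
  have h2 : h • x = x := by
    have := congrArg (fun t => h⁻¹ • t) h1
    simpa using this
  rw [h2] at hn
  exact hn hx

theorem inv_fix {D : Set α} {h : G} (hf : ∀ z, z ∉ D → h • z = z) :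
    ∀ z, z ∉ D → h⁻¹ • z = z := by
  intro z hz
  have := hf z hz
  rw [inv_smul_eq_iff, this]

theorem mul_fix {D : Set α} {h k : G} (hf : ∀ z, z ∉ D → h • z = z)
    (kf : ∀ z, z ∉ D → k • z = z) : ∀ z, z ∉ D → (h * k) • z = z := by
  intro z hz
  rw [mul_smul, kf z hz, hf z hz]

/-- an element fixing every point outside `E ⊆ S` stabilizes `S`. -/
theorem smul_set_eq_of_fix {E S : Set α} (hES : E ⊆ S) {h : G} (hf : ∀ z, z ∉ E → h • z = z) :
    h • S = S := by
  have key : ∀ (k : G), (∀ z, z ∉ E → k • z = z) → k • S ⊆ S := by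
    intro k kf y hy
    obtain ⟨x, hx, rfl⟩ := Set.mem_smul_set.mp hy
    by_cases hxE : x ∈ E
    · exact hES (smul_mem_of_fix kf hxE)
    · rw [kf x hxE]; exact hx
  apply Set.Subset.antisymm (key h hf)
  intro x hx
  have := key h⁻¹ (inv_fix hf) (Set.smul_mem_smul_set (a := h⁻¹) hx)
  have h2 : h • (h⁻¹ • x) ∈ h • S := Set.smul_mem_smul_set this
  simpa using h2

theorem JS.smul {D : Set α} (hD : JS G D) (g : G) : JS G (g • D) := by
  intro x hx y hy
  obtain ⟨x', hx', rfl⟩ := hx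
  obtain ⟨y', hy', rfl⟩ := hy
  obtain ⟨h, hf, hxy⟩ := hD x' hx' y' hy'
  refine ⟨g * h * g⁻¹, ?_, ?_⟩
  · intro z hz
    have hz' : g⁻¹ • z ∉ D := by
      intro hc
      apply hz
      have := Set.smul_mem_smul_set (a := g) hc
      simpa using this
    rw [mul_smul, mul_smul, hf _ hz', smul_inv_smul]
  · rw [mul_smul, mul_smul, inv_smul_smul, hxy]

/-- the union of two overlapping Jordan sets is a Jordan set. -/
theorem JS.union {D₁ D₂ : Set α} (h₁ : JS G D₁) (h₂ : JS G D₂) (hne : (D₁ ∩ D₂).Nonempty) :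
    JS G (D₁ ∪ D₂) := by
  obtain ⟨u, hu1, hu2⟩ := hne
  -- every point of the union can be moved to `u`
  have key : ∀ x ∈ D₁ ∪ D₂, ∃ g : G, (∀ z, z ∉ D₁ ∪ D₂ → g • z = z) ∧ g • x = u := by
    intro x hx
    rcases hx with hx | hx
    · obtain ⟨g, gf, hg⟩ := h₁ x hx u hu1
      exact ⟨g, fun z hz => gf z (fun h => hz (Or.inl h)), hg⟩
    · obtain ⟨g, gf, hg⟩ := h₂ x hx u hu2
      exact ⟨g, fun z hz => gf z (fun h => hz (Or.inr h)), hg⟩
  intro x hx y hy
  obtain ⟨g, gf, hg⟩ := key x hx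
  obtain ⟨k, kf, hk⟩ := key y hy
  refine ⟨k⁻¹ * g, mul_fix (inv_fix kf) gf, ?_⟩
  rw [mul_smul, hg, inv_smul_eq_iff, hk]

/-- 2-transitivity, in concrete form. -/
def T2 (G : Type*) [Group G] (α : Type*) [MulAction G α] : Prop :=
  ∀ a b c d : α, a ≠ b → c ≠ d → ∃ g : G, g • a = c ∧ g • b = d

theorem t2_iff : T2 G α ↔ IsMultiplyPretransitive G α 2 := by
  rw [is_two_pretransitive_iff]
  constructor
  · intro h a b c d hab hcd
    exact h a b c d hab hcd
  · intro h a b c d hab hcd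
    exact h hab hcd

theorem T2.exists_smul_eq (h2 : T2 G α) (a b : α) : ∃ g : G, g • a = b := by
  haveI := t2_iff.mp h2
  haveI : IsPretransitive G α := isPretransitive_of_is_two_pretransitive
  exact MulAction.exists_smul_eq G a b

/-- **Lemma T**, intersecting case. -/
theorem exists_conj_of_inter [Finite α] {D : Set α} (hD : JS G D) {c : α} :
    ∀ (n : ℕ) (E₁ E₂ : Set α), (∃ g : G, E₁ = g • D) → (∃ g : G, E₂ = g • D) → c ∉ E₁ → c ∉ E₂ →
      (E₁ ∩ E₂).Nonempty → D.ncard - (E₁ ∩ E₂).ncard = n →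
      ∃ k : G, k • c = c ∧ k • E₁ = E₂ := by
  intro n
  induction n using Nat.strong_induction_on with
  | _ n ih =>
  intro E₁ E₂ hE₁ hE₂ hc1 hc2 hne hn
  by_cases heq : E₁ = E₂
  · exact ⟨1, one_smul _ _, by rw [one_smul, heq]⟩
  have hm1 : E₁.ncard = D.ncard := by
    obtain ⟨g, rfl⟩ := hE₁; exact Set.ncard_smul_set g D
  have hm2 : E₂.ncard = D.ncard := by
    obtain ⟨g, rfl⟩ := hE₂; exact Set.ncard_smul_set g D
  have hJ1 : JS G E₁ := by obtain ⟨g, rfl⟩ := hE₁; exact hD.smul g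
  have hJ2 : JS G E₂ := by obtain ⟨g, rfl⟩ := hE₂; exact hD.smul g
  have hfin : ∀ s : Set α, s.Finite := fun s => Set.toFinite s
  -- there is `k` fixing `c` with a bigger intersection
  have hbig : ∃ k : G, k • c = c ∧ (E₁ ∩ E₂).ncard < ((k • E₁) ∩ E₂).ncard := by
    by_contra hcon
    push Not at hcon
    -- points
    obtain ⟨u, hu1, hu2⟩ := hne
    have hw : ∃ w, w ∈ E₂ ∧ w ∉ E₁ := by
      by_contra hh
      push Not at hh
      apply heq
      exact (Set.eq_of_subset_of_ncard_le hh (by rw [hm1, hm2]) (hfin _)).symm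
    have hz : ∃ z, z ∈ E₁ ∧ z ∉ E₂ := by
      by_contra hh
      push Not at hh
      apply heq
      exact Set.eq_of_subset_of_ncard_le hh (by rw [hm1, hm2]) (hfin _)
    obtain ⟨w, hw2, hw1⟩ := hw
    obtain ⟨z, hz1, hz2⟩ := hz
    obtain ⟨k₂, k₂f, hk₂⟩ := hJ2 w hw2 u hu2
    obtain ⟨k₁, k₁f, hk₁⟩ := hJ1 u hu1 z hz1
    set k := k₁ * k₂ with hk
    have hkc : k • c = c := by
      rw [hk, mul_smul, k₂f c hc2, k₁f c hc1]
    have hkw : k • w = z := by rw [hk, mul_smul, hk₂, hk₁]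
    have hkS : k • (E₁ ∪ E₂) = E₁ ∪ E₂ := by
      rw [hk, mul_smul, smul_set_eq_of_fix Set.subset_union_right k₂f,
        smul_set_eq_of_fix Set.subset_union_left k₁f]
    have hle := hcon k hkc
    -- `E₂ \ k • E₁ ⊆ k • (E₂ \ E₁)`
    have hsub : E₂ \ (k • E₁) ⊆ k • (E₂ \ E₁) := by
      intro y hy
      have hyS : y ∈ k • (E₁ ∪ E₂) := by rw [hkS]; exact Or.inr hy.1
      obtain ⟨x, hx, rfl⟩ := Set.mem_smul_set.mp hyS
      refine ⟨x, ⟨?_, ?_⟩, rfl⟩
      · rcases hx with hx | hx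
        · exact absurd (Set.smul_mem_smul_set hx) hy.2
        · exact hx
      · intro hx1
        exact hy.2 (Set.smul_mem_smul_set hx1)
    have hcard1 : (E₂ \ (k • E₁)).ncard = E₂.ncard - ((k • E₁) ∩ E₂).ncard := by
      have := Set.ncard_sdiff_add_ncard_of_subset (s := (k • E₁) ∩ E₂) (t := E₂)
        Set.inter_subset_right (hfin _)
      have h3 : E₂ \ ((k • E₁) ∩ E₂) = E₂ \ (k • E₁) := by
        ext y; simp only [Set.mem_sdiff, Set.mem_inter_iff, not_and]; tauto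
      rw [h3] at this
      omega
    have hcard2 : (k • (E₂ \ E₁)).ncard = E₂.ncard - (E₁ ∩ E₂).ncard := by
      rw [Set.ncard_smul_set]
      have := Set.ncard_sdiff_add_ncard_of_subset (s := E₁ ∩ E₂) (t := E₂)
        Set.inter_subset_right (hfin _)
      have h3 : E₂ \ (E₁ ∩ E₂) = E₂ \ E₁ := by
        ext y; simp only [Set.mem_sdiff, Set.mem_inter_iff, not_and]; tauto
      rw [h3] at this
      omega
    have heq2 : E₂ \ (k • E₁) = k • (E₂ \ E₁) :=
      Set.eq_of_subset_of_ncard_le hsub (by rw [hcard1, hcard2]; omega) (hfin _)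
    have : z ∈ k • (E₂ \ E₁) := ⟨w, ⟨hw2, hw1⟩, hkw⟩
    rw [← heq2] at this
    exact hz2 this.1
  obtain ⟨k, hkc, hlt⟩ := hbig
  have hle : ((k • E₁) ∩ E₂).ncard ≤ D.ncard := by
    rw [← hm2]; exact Set.ncard_le_ncard Set.inter_subset_right (hfin _)
  have hne' : ((k • E₁) ∩ E₂).Nonempty := by
    rw [← Set.ncard_pos (hfin _)]; omega
  have hc1' : c ∉ k • E₁ := by
    intro hc
    obtain ⟨x, hx, hxc⟩ := Set.mem_smul_set.mp hc
    have : x = c := by
      have h1 : k • x = k • c := by rw [hxc, hkc]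
      exact MulAction.injective k h1
    rw [this] at hx
    exact hc1 hx
  have hE₁' : ∃ g : G, k • E₁ = g • D := by
    obtain ⟨g, rfl⟩ := hE₁
    exact ⟨k * g, by rw [mul_smul]⟩
  obtain ⟨k', hk'c, hk'E⟩ := ih (D.ncard - ((k • E₁) ∩ E₂).ncard) (by omega) (k • E₁) E₂ hE₁' hE₂
    hc1' hc2 hne' rfl
  refine ⟨k' * k, by rw [mul_smul, hkc, hk'c], by rw [mul_smul, hk'E]⟩

/-- **Lemma T**: in a 2-transitive action, the translates of a Jordan set avoiding a point `c`
are conjugate under the stabilizer of `c`. -/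
theorem exists_conj [Finite α] (h2 : T2 G α) {D : Set α} (hD : JS G D) {c : α}
    (E₁ E₂ : Set α) (hE₁ : ∃ g : G, E₁ = g • D) (hE₂ : ∃ g : G, E₂ = g • D) (hc1 : c ∉ E₁)
    (hc2 : c ∉ E₂) : ∃ k : G, k • c = c ∧ k • E₁ = E₂ := by
  by_cases hne : (E₁ ∩ E₂).Nonempty
  · exact exists_conj_of_inter hD _ E₁ E₂ hE₁ hE₂ hc1 hc2 hne rfl
  · rcases Set.eq_empty_or_nonempty D with hDe | hDne
    · refine ⟨1, one_smul _ _, ?_⟩
      obtain ⟨g, rfl⟩ := hE₁
      obtain ⟨g', rfl⟩ := hE₂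
      simp [hDe]
    · have hne1 : E₁.Nonempty := by
        obtain ⟨g, rfl⟩ := hE₁; exact hDne.smul_set
      have hne2 : E₂.Nonempty := by
        obtain ⟨g, rfl⟩ := hE₂; exact hDne.smul_set
      obtain ⟨z, hz⟩ := hne1
      obtain ⟨w, hw⟩ := hne2
      have hzc : c ≠ z := fun h => hc1 (h ▸ hz)
      have hwc : c ≠ w := fun h => hc2 (h ▸ hw)
      obtain ⟨k₀, hk₀c, hk₀w⟩ := h2 c w c z hwc hzc
      have hc2' : c ∉ k₀ • E₂ := by
        intro hc
        obtain ⟨x, hx, hxc⟩ := Set.mem_smul_set.mp hc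
        have : x = c := by
          have h1 : k₀ • x = k₀ • c := by rw [hxc, hk₀c]
          exact MulAction.injective k₀ h1
        rw [this] at hx
        exact hc2 hx
      have hE₂' : ∃ g : G, k₀ • E₂ = g • D := by
        obtain ⟨g, rfl⟩ := hE₂
        exact ⟨k₀ * g, by rw [mul_smul]⟩
      have hne' : (E₁ ∩ (k₀ • E₂)).Nonempty := ⟨z, hz, ⟨w, hw, hk₀w⟩⟩
      obtain ⟨k, hkc, hkE⟩ := exists_conj_of_inter hD _ E₁ (k₀ • E₂) hE₁ hE₂' hc1 hc2' hne' rfl
      refine ⟨k₀⁻¹ * k, ?_, ?_⟩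
      · rw [mul_smul, hkc, inv_smul_eq_iff, hk₀c]
      · rw [mul_smul, hkE, inv_smul_smul]

/-- **Lemma T**, second form: the setwise stabilizer of a Jordan set is transitive on its
complement. -/
theorem exists_stab_smul_eq [Finite α] (h2 : T2 G α) {D : Set α} (hD : JS G D) {b c : α}
    (hb : b ∉ D) (hc : c ∉ D) : ∃ g : G, g • D = D ∧ g • b = c := by
  obtain ⟨g₀, hg₀⟩ := h2.exists_smul_eq b c
  have hc1 : c ∉ g₀ • D := by
    intro h
    obtain ⟨x, hx, hxc⟩ := Set.mem_smul_set.mp h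
    have : x = b := by
      have h1 : g₀ • x = g₀ • b := by rw [hxc, hg₀]
      exact MulAction.injective g₀ h1
    rw [this] at hx
    exact hb hx
  obtain ⟨k, hkc, hkE⟩ := exists_conj h2 hD (g₀ • D) D ⟨g₀, rfl⟩ ⟨1, by rw [one_smul]⟩ hc1 hc
  exact ⟨k * g₀, by rw [mul_smul, hkE], by rw [mul_smul, hg₀, hkc]⟩

end Cfsg.Agent.Helper1.Marg
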