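import Mathlib
import Cfsg.Agent.Helper1.MargA

/-!
# The block `E \ D` for a translate `E` of a Jordan set `D` with maximal proper intersection
-/

namespace Cfsg.Agent.Helper1.Marg

open MulAction
open scoped Pointwise

variable {G : Type*} [Group G] {α : Type*} [MulAction G α]

/-- data: `E` is a translate of the Jordan set `D`, different from `D`, meeting `D`, with
`|E ∩ D|` maximal among the translates different from `D`. -/
structure MaxPair (G : Type*) [Group G] {α : Type*} [MulAction G α] (D E : Set α) : Prop where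
  js : JS G D
  tr : ∃ g : G, E = g • D
  ne : E ≠ D
  inter : (D ∩ E).Nonempty
  max : ∀ g : G, g • D ≠ D → ((g • D) ∩ D).ncard ≤ (E ∩ D).ncard

namespace MaxPair

variable {D E : Set α}

theorem jsE (h : MaxPair G D E) : JS G E := by
  obtain ⟨g, rfl⟩ := h.tr
  exact h.js.smul g

theorem jsUnion (h : MaxPair G D E) : JS G (D ∪ E) := h.js.union h.jsE h.inter

theorem ncard_eq [Finite α] (h : MaxPair G D E) : E.ncard = D.ncard := by
  obtain ⟨g, rfl⟩ := h.tr
  exact Set.ncard_smul_set g D

theorem exists_mem_diff [Finite α] (h : MaxPair G D E) : ∃ w, w ∈ E \ D := by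
  by_contra hh
  push Not at hh
  apply h.ne
  have hsub : E ⊆ D := by
    intro x hx
    by_contra hxD
    exact hh x ⟨hx, hxD⟩
  exact Set.eq_of_subset_of_ncard_le hsub (by rw [h.ncard_eq]) (Set.toFinite _)

/-- `E \ D` is a block for the pointwise stabilizer of the complement of `D ∪ E`. -/
theorem block [Finite α] (h : MaxPair G D E) {y : G} (hy : ∀ z, z ∉ D ∪ E → y • z = z) :
    y • (E \ D) = E \ D ∨ Disjoint (y • (E \ D)) (E \ D) := by
  have hfin : ∀ s : Set α, s.Finite := fun s => Set.toFinite s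
  have hyL : y • (D ∪ E) = D ∪ E := smul_set_eq_of_fix (le_refl _) hy
  have hB : E \ D = (D ∪ E) \ D := by
    ext x; simp only [Set.mem_sdiff, Set.mem_union]; tauto
  have hyB : y • (E \ D) = (D ∪ E) \ (y • D) := by
    rw [hB, Set.smul_set_sdiff, hyL]
  by_cases hyD : y • D = D
  · left; rw [hyB, hyD, ← hB]
  · right
    rw [Set.disjoint_left]
    intro x hx1 hx2
    rw [hyB] at hx1
    -- `x ∉ D`, `x ∉ y • D`, `x ∈ D ∪ E`
    have hle := h.max y hyD
    have hsub : (y • D) ∪ D ⊆ (D ∪ E) \ {x} := by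
      intro z hz
      refine ⟨?_, ?_⟩
      · rcases hz with hz | hz
        · have : y • D ⊆ y • (D ∪ E) := Set.smul_set_mono Set.subset_union_left
          rw [hyL] at this
          exact this hz
        · exact Or.inl hz
      · intro hzx
        rw [Set.mem_singleton_iff] at hzx
        subst hzx
        rcases hz with hz | hz
        · exact hx1.2 hz
        · exact hx2.2 hz
    have hc1 : ((y • D) ∪ D).ncard ≤ ((D ∪ E) \ {x}).ncard := Set.ncard_le_ncard hsub (hfin _)
    have hc2 : ((D ∪ E) \ {x}).ncard + 1 = (D ∪ E).ncard := by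
      have := Set.ncard_sdiff_singleton_add_one (a := x) (s := D ∪ E) hx1.1 (hfin _)
      exact this
    have hc3 : (D ∪ E).ncard + (D ∩ E).ncard = D.ncard + E.ncard :=
      Set.ncard_union_add_ncard_inter D E (hfin _) (hfin _)
    have hc4 : ((y • D) ∪ D).ncard + ((y • D) ∩ D).ncard = (y • D).ncard + D.ncard :=
      Set.ncard_union_add_ncard_inter (y • D) D (hfin _) (hfin _)
    have hc5 : (y • D).ncard = D.ncard := Set.ncard_smul_set y D
    have hc6 : E.ncard = D.ncard := h.ncard_eq
    have hc7 : (E ∩ D).ncard = (D ∩ E).ncard := by rw [Set.inter_comm]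
    omega

/-- the Jordan property of `E \ D` relative to the setwise stabilizer of `D`. -/
theorem exists_stab [Finite α] (h : MaxPair G D E) {x y : α} (hx : x ∈ E \ D) (hy : y ∈ E \ D) :
    ∃ g : G, g • D = D ∧ (∀ z, z ∉ D → z ∉ E \ D → g • z = z) ∧ g • x = y := by
  obtain ⟨g, gf, hg⟩ := h.jsUnion x (Or.inr hx.1) y (Or.inr hy.1)
  have hgL : g • (D ∪ E) = D ∪ E := smul_set_eq_of_fix (le_refl _) gf
  have hgB : g • (E \ D) = E \ D := by
    rcases h.block gf with h1 | h1
    · exact h1
    · exfalso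
      rw [Set.disjoint_left] at h1
      exact h1 ⟨x, hx, hg⟩ hy
  have hD : D = (D ∪ E) \ (E \ D) := by
    ext z; simp only [Set.mem_sdiff, Set.mem_union]; tauto
  refine ⟨g, ?_, ?_, hg⟩
  · conv_lhs => rw [hD]
    rw [Set.smul_set_sdiff, hgL, hgB, ← hD]
  · intro z hz1 hz2
    apply gf
    intro hz
    rcases hz with hz | hz
    · exact hz1 hz
    · exact hz2 ⟨hz, hz1⟩

/-- `2 * |E \ D| ≤ |D|`. -/
theorem two_mul_ncard_le [Finite α] (h : MaxPair G D E) : 2 * (E \ D).ncard ≤ D.ncard := by
  have hfin : ∀ s : Set α, s.Finite := fun s => Set.toFinite s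
  obtain ⟨w, hw⟩ := h.exists_mem_diff
  obtain ⟨u, hu1, hu2⟩ := h.inter
  -- a translate of `E \ D` through any point of `D` lies inside `D`
  have key : ∀ x ∈ D, ∃ y : G, (∀ z, z ∉ D ∪ E → y • z = z) ∧ x ∈ y • (E \ D) ∧
      y • (E \ D) ⊆ D := by
    intro x hx
    obtain ⟨y, yf, hy⟩ := h.jsUnion w (Or.inr hw.1) x (Or.inl hx)
    have hxy : x ∈ y • (E \ D) := ⟨w, hw, hy⟩
    refine ⟨y, yf, hxy, ?_⟩
    have hyL : y • (D ∪ E) = D ∪ E := smul_set_eq_of_fix (le_refl _) yf
    rcases h.block yf with h1 | h1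
    · rw [h1] at hxy; exact absurd hx hxy.2
    · intro z hz
      have hzL : z ∈ D ∪ E := by
        have : y • (E \ D) ⊆ y • (D ∪ E) :=
          Set.smul_set_mono (fun t ht => Or.inr ht.1)
        rw [hyL] at this
        exact this hz
      rcases hzL with hzD | hzE
      · exact hzD
      · by_contra hzD
        rw [Set.disjoint_left] at h1
        exact h1 hz ⟨hzE, hzD⟩
  obtain ⟨y₁, y₁f, hu, hsub1⟩ := key u hu1
  -- `y₁ • (E \ D) ≠ D` since `|E \ D| < |D|`
  have hcardB : (E \ D).ncard + (D ∩ E).ncard = D.ncard := by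
    have := Set.ncard_sdiff_add_ncard_of_subset (s := D ∩ E) (t := E) Set.inter_subset_right (hfin _)
    have h3 : E \ (D ∩ E) = E \ D := by
      ext z; simp only [Set.mem_sdiff, Set.mem_inter_iff, not_and]; tauto
    rw [h3, h.ncard_eq] at this
    exact this
  have hpos : 0 < (D ∩ E).ncard := by
    rw [Set.ncard_pos (hfin _)]; exact ⟨u, hu1, hu2⟩
  have hlt : (y₁ • (E \ D)).ncard < D.ncard := by
    rw [Set.ncard_smul_set]; omega
  have hx2 : ∃ x, x ∈ D ∧ x ∉ y₁ • (E \ D) := by
    by_contra hh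
    push Not at hh
    have : D ⊆ y₁ • (E \ D) := hh
    have := Set.ncard_le_ncard this (hfin _)
    omega
  obtain ⟨x₂, hx2D, hx2n⟩ := hx2
  obtain ⟨y₂, y₂f, hx2y, hsub2⟩ := key x₂ hx2D
  -- the two translates are disjoint
  have hdisj : Disjoint (y₁ • (E \ D)) (y₂ • (E \ D)) := by
    have hf : ∀ z, z ∉ D ∪ E → (y₁⁻¹ * y₂) • z = z := mul_fix (inv_fix y₁f) y₂f
    rcases h.block hf with h1 | h1
    · exfalso
      apply hx2n
      have : y₂ • (E \ D) = y₁ • (E \ D) := by
        have := congrArg (fun s => y₁ • s) h1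
        simp only [mul_smul, smul_inv_smul] at this
        exact this
      rw [← this]; exact hx2y
    · have := (Set.disjoint_smul_set (a := y₁)).mpr h1
      simp only [mul_smul, smul_inv_smul] at this
      exact this.symm
  have hunion : (y₁ • (E \ D)) ∪ (y₂ • (E \ D)) ⊆ D := Set.union_subset hsub1 hsub2
  have hc := Set.ncard_le_ncard hunion (hfin _)
  rw [Set.ncard_union_eq hdisj (hfin _) (hfin _), Set.ncard_smul_set, Set.ncard_smul_set] at hc
  omega

end MaxPair

/-- existence of a translate with maximal proper intersection, for a primitive action. -/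
theorem exists_maxPair [Finite α] (hprim : IsPreprimitive G α) {D : Set α} (hD : JS G D)
    (h1 : 2 ≤ D.ncard) (h2 : D.ncard < Nat.card α) : ∃ E : Set α, MaxPair G D E := by
  have hfin : ∀ s : Set α, s.Finite := fun s => Set.toFinite s
  -- `D` is not a block
  have hnb : ¬ IsBlock G D := by
    intro hB
    rcases hprim.isTrivialBlock_of_isBlock hB with h | h
    · have := Set.ncard_le_one_iff_subsingleton (s := D) |>.mpr h
      omega
    · rw [h, Set.ncard_univ] at h2
      exact lt_irrefl _ h2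
  rw [isBlock_iff_smul_eq_or_disjoint] at hnb
  push Not at hnb
  obtain ⟨g₀, hg₀1, hg₀2⟩ := hnb
  -- the set of translates different from `D`
  let S : Set (Set α) := {E | (∃ g : G, E = g • D) ∧ E ≠ D}
  have hSfin : S.Finite := Set.toFinite S
  have hSne : S.Nonempty := ⟨g₀ • D, ⟨g₀, rfl⟩, hg₀1⟩
  obtain ⟨E, hES, hEmax⟩ := Set.exists_max_image S (fun E => (E ∩ D).ncard) hSfin hSne
  refine ⟨E, hD, hES.1, hES.2, ?_, ?_⟩
  · have h3 := hEmax (g₀ • D) ⟨⟨g₀, rfl⟩, hg₀1⟩
    have h4 : 0 < ((g₀ • D) ∩ D).ncard := by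
      rw [Set.ncard_pos (hfin _)]
      exact Set.not_disjoint_iff_nonempty_inter.mp hg₀2
    have h5 : 0 < (E ∩ D).ncard := lt_of_lt_of_le h4 h3
    rw [Set.ncard_pos (hfin _)] at h5
    rw [Set.inter_comm]; exact h5
  · intro g hg
    exact hEmax (g • D) ⟨⟨g, rfl⟩, hg⟩

end Cfsg.Agent.Helper1.Marg
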