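import Mathlib
import Cfsg.Agent.Helper1.MargA

/-!
# Marggraf's theorem: the case `|E \ D| = 1`

If `D` and `D ∪ {γ}` are Jordan sets of a primitive group, `2 ≤ |D|`, `2 |D| < n`, then the
group contains a 3-cycle.
-/

namespace Cfsg.Agent.Helper1.Marg

open MulAction SubMulAction
open scoped Pointwise

variable {G : Type*} [Group G] {Ω : Type*} [MulAction G Ω]

/-- an element acting as `a ↦ c ↦ b ↦ a` and fixing all other points induces a 3-cycle. -/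
theorem isThreeCycle_of_smul [Fintype Ω] [DecidableEq Ω] (t : G) {a b c : Ω} (hab : a ≠ b)
    (hac : a ≠ c) (hbc : b ≠ c) (h1 : t • a = c) (h2 : t • c = b) (h3 : t • b = a)
    (h4 : ∀ z, z ≠ a → z ≠ b → z ≠ c → t • z = z) :
    (MulAction.toPerm t : Equiv.Perm Ω).IsThreeCycle := by
  have : (MulAction.toPerm t : Equiv.Perm Ω) = Equiv.swap a b * Equiv.swap a c := by
    ext z
    rw [MulAction.toPerm_apply, Equiv.Perm.mul_apply]
    by_cases hza : z = a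
    · rw [hza, h1, Equiv.swap_apply_left, Equiv.swap_apply_of_ne_of_ne hac.symm hbc.symm]
    by_cases hzb : z = b
    · rw [hzb, h3, Equiv.swap_apply_of_ne_of_ne hab.symm hbc, Equiv.swap_apply_right]
    by_cases hzc : z = c
    · rw [hzc, h2, Equiv.swap_apply_right, Equiv.swap_apply_left]
    · rw [h4 z hza hzb hzc, Equiv.swap_apply_of_ne_of_ne hza hzc,
        Equiv.swap_apply_of_ne_of_ne hza hzb]
  rw [this]
  exact Equiv.Perm.isThreeCycle_swap_mul_swap_same hab hac hbc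

/-- the 3-cycle `h⁻¹ * (g * h * g⁻¹)`. -/
theorem isThreeCycle_of_jordan [Fintype Ω] [DecidableEq Ω] {Δ : Set Ω} {α₀ β γ : Ω}
    (hα₀ : α₀ ∈ Δ) (hβ : β ∈ Δ) (hβα : β ≠ α₀) (hγ : γ ∉ Δ) {h g : G}
    (hf : ∀ z, z ∉ Δ → h • z = z) (hh : h • α₀ = β)
    (hg1 : ∀ z ∈ Δ, z ≠ α₀ → g • z = z) (hg2 : g • α₀ = γ) :
    (MulAction.toPerm (h⁻¹ * (g * h * g⁻¹)) : Equiv.Perm Ω).IsThreeCycle := by
  have hfi := inv_fix hf
  have hg1i : ∀ z ∈ Δ, z ≠ α₀ → g⁻¹ • z = z := by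
    intro z hz hz0
    rw [inv_smul_eq_iff, hg1 z hz hz0]
  have hg2i : g⁻¹ • γ = α₀ := by rw [inv_smul_eq_iff, hg2]
  have hγα : γ ≠ α₀ := fun h => hγ (h ▸ hα₀)
  -- `g⁻¹ • z ∉ Δ` for `z ∉ Δ`, `z ≠ γ`, and for `z = α₀`
  have hgout : ∀ z, (z ∉ Δ ∧ z ≠ γ) ∨ z = α₀ → g⁻¹ • z ∉ Δ := by
    intro z hz hw
    by_cases hw0 : g⁻¹ • z = α₀
    · have : z = γ := by rw [← hg2, ← hw0, smul_inv_smul]
      rcases hz with hz | hz
      · exact hz.2 this
      · exact hγα (this ▸ hz)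
    · have h5 := hg1 _ hw hw0
      rw [smul_inv_smul] at h5
      rcases hz with hz | hz
      · exact hz.1 (h5 ▸ hw)
      · exact hw0 (h5 ▸ hz)
  set α' := h⁻¹ • α₀ with hα'
  have hα'Δ : α' ∈ Δ := smul_mem_of_fix hfi hα₀
  have hhα' : h • α' = α₀ := by rw [hα', smul_inv_smul]
  have hα'α : α' ≠ α₀ := by
    intro heq
    rw [heq, hh] at hhα'
    exact hβα hhα'
  have hα'γ : α' ≠ γ := fun h => hγ (h ▸ hα'Δ)
  have hhiβ : h⁻¹ • β = α₀ := by rw [inv_smul_eq_iff, hh]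
  apply isThreeCycle_of_smul (a := α') (b := α₀) (c := γ) _ hα'α hα'γ hγα.symm
  · -- `α' ↦ γ`
    rw [mul_smul, mul_smul, mul_smul, hg1i α' hα'Δ hα'α, hhα', hg2, hfi γ hγ]
  · -- `γ ↦ α₀`
    rw [mul_smul, mul_smul, mul_smul, hg2i, hh, hg1 β hβ hβα, hhiβ]
  · -- `α₀ ↦ α'`
    rw [mul_smul, mul_smul, mul_smul, hf _ (hgout α₀ (Or.inr rfl)), smul_inv_smul]
  · intro z hzα' hzα hzγ
    rw [mul_smul, mul_smul, mul_smul]
    by_cases hz : z ∈ Δ
    · have hhz : h • z ∈ Δ := smul_mem_of_fix hf hz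
      have hhz0 : h • z ≠ α₀ := by
        intro h6
        apply hzα'
        rw [hα', ← h6, inv_smul_smul]
      rw [hg1i z hz hzα, hg1 _ hhz hhz0, inv_smul_smul]
    · rw [hf _ (hgout z (Or.inl ⟨hz, hzγ⟩)), smul_inv_smul, hfi z hz]

/-- the pointwise stabilizer of the complement of `insert γ Δ` is 2-transitive on `insert γ Δ`. -/
theorem exists_fix_two {Δ : Set Ω} {γ : Ω} (hγ : γ ∉ Δ) (htr : JS G Δ) (htr' : JS G (insert γ Δ))
    {a b c d : Ω} (ha : a ∈ insert γ Δ) (hb : b ∈ insert γ Δ) (hc : c ∈ insert γ Δ)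
    (hd : d ∈ insert γ Δ) (hab : a ≠ b) (hcd : c ≠ d) :
    ∃ g : G, (∀ z, z ∉ insert γ Δ → g • z = z) ∧ g • a = c ∧ g • b = d := by
  have hγm : γ ∈ insert γ Δ := Set.mem_insert _ _
  obtain ⟨l₁, hl₁f, hl₁⟩ := htr' a ha γ hγm
  obtain ⟨l₂, hl₂f, hl₂⟩ := htr' c hc γ hγm
  have hb1 : l₁ • b ∈ Δ := by
    have h1 : l₁ • b ∈ insert γ Δ := smul_mem_of_fix hl₁f hb
    rcases h1 with h1 | h1
    · exfalso
      rw [← hl₁] at h1
      exact hab (MulAction.injective l₁ h1).symm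
    · exact h1
  have hd1 : l₂ • d ∈ Δ := by
    have h1 : l₂ • d ∈ insert γ Δ := smul_mem_of_fix hl₂f hd
    rcases h1 with h1 | h1
    · exfalso
      rw [← hl₂] at h1
      exact hcd (MulAction.injective l₂ h1).symm
    · exact h1
  obtain ⟨h, hf, hh⟩ := htr _ hb1 _ hd1
  have hf' : ∀ z, z ∉ insert γ Δ → h • z = z := fun z hz => hf z (fun hzΔ => hz (Or.inr hzΔ))
  refine ⟨l₂⁻¹ * h * l₁, mul_fix (mul_fix (inv_fix hl₂f) hf') hl₁f, ?_, ?_⟩
  · rw [mul_smul, mul_smul, hl₁, hf γ hγ, inv_smul_eq_iff, hl₂]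
  · rw [mul_smul, mul_smul, hh, inv_smul_smul]

/-- **(C1)** the case `|E \ D| = 1`. -/
theorem exists_isThreeCycle_of_insert [Fintype Ω] [DecidableEq Ω]
    (hprim : IsPreprimitive G Ω) {Δ : Set Ω} (h1 : 1 < Δ.ncard)
    (h2 : 2 * Δ.ncard < Fintype.card Ω)
    (htr : JS G Δ) {γ : Ω} (hγ : γ ∉ Δ) (htr' : JS G (insert γ Δ)) :
    ∃ g : G, (MulAction.toPerm g : Equiv.Perm Ω).IsThreeCycle := by
  set s : Set Ω := (insert γ Δ)ᶜ with hs
  have hcard : (insert γ Δ).ncard = Δ.ncard + 1 :=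
    Set.ncard_insert_of_notMem hγ (Set.toFinite _)
  have hsc : (insert γ Δ).ncard + s.ncard = Nat.card Ω := Set.ncard_add_ncard_compl _
  have hNc : Nat.card Ω = Fintype.card Ω := Nat.card_eq_fintype_card
  obtain ⟨k, hk⟩ : ∃ k, s.ncard = k + 1 := ⟨s.ncard - 1, by omega⟩
  have hk' : k + 2 < Nat.card Ω := by omega
  have hL2 : IsMultiplyPretransitive (fixingSubgroup G s) (ofFixingSubgroup G s) 2 := by
    rw [is_two_pretransitive_iff]
    intro a b c d hab hcd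
    have mem : ∀ x : ofFixingSubgroup G s, (x : Ω) ∈ insert γ Δ := by
      intro x
      have := x.2
      rw [mem_ofFixingSubgroup_iff] at this
      by_contra hx
      exact this hx
    obtain ⟨g, gf, hga, hgb⟩ := exists_fix_two hγ htr htr' (mem a) (mem b) (mem c) (mem d)
      (fun h => hab (Subtype.ext h)) (fun h => hcd (Subtype.ext h))
    have hgmem : g ∈ fixingSubgroup G s := by
      rw [mem_fixingSubgroup_iff]
      intro z hz
      exact gf z hz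
    exact ⟨⟨g, hgmem⟩, Subtype.ext hga, Subtype.ext hgb⟩
  have hLprim := isPreprimitive_of_is_two_pretransitive hL2
  have hmp := hprim.isMultiplyPreprimitive hk hk' hLprim
  haveI : IsMultiplyPretransitive G Ω (k + 2) :=
    IsMultiplyPreprimitive.isMultiplyPretransitive G Ω (k + 2)
  obtain ⟨α₀, β, hα₀, hβ, hαβ⟩ := (Set.one_lt_ncard_iff (Set.toFinite Δ)).mp h1
  set s' : Set Ω := Δ \ {α₀} with hs'
  have hs'card : s'.ncard + 1 = Δ.ncard :=
    Set.ncard_sdiff_singleton_add_one hα₀ (Set.toFinite _)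
  have hn : ((k + 2 : ℕ) : ENat) ≤ ENat.card Ω := by
    rw [ENat.card_eq_coe_fintype_card, Nat.cast_le]
    omega
  have h1t : IsMultiplyPretransitive (fixingSubgroup G s') (ofFixingSubgroup G s') 1 :=
    ofFixingSubgroup.isMultiplyPretransitive' (n := k + 2) s' (by omega) hn
  rw [is_one_pretransitive_iff] at h1t
  have hα₀' : α₀ ∈ ofFixingSubgroup G s' := by
    rw [mem_ofFixingSubgroup_iff]; exact fun h => h.2 rfl
  have hγ' : γ ∈ ofFixingSubgroup G s' := by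
    rw [mem_ofFixingSubgroup_iff]; exact fun h => hγ h.1
  obtain ⟨g, hg⟩ := h1t.exists_smul_eq ⟨α₀, hα₀'⟩ ⟨γ, hγ'⟩
  obtain ⟨h, hf, hh⟩ := htr α₀ hα₀ β hβ
  refine ⟨h⁻¹ * (g.1 * h * g.1⁻¹),
    isThreeCycle_of_jordan hα₀ hβ hαβ.symm hγ hf hh ?_ (congrArg Subtype.val hg)⟩
  intro z hz hz0
  exact (mem_fixingSubgroup_iff G).mp g.2 z ⟨hz, hz0⟩

end Cfsg.Agent.Helper1.Marg
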