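import Mathlib
import Cfsg.Agent.Helper1.MargD

/-!
# Marggraf's theorem: 3-cycle lemmas

* `forall_even_of_isThreeCycle`: a primitive group containing a 3-cycle induces all even
  permutations.
* `exists_isThreeCycle_of_alt`: if the setwise stabilizer of `Δ` induces all even permutations
  on `Δᶜ`, `|Δ| < |Δᶜ|`, `5 ≤ |Δᶜ|`, then `G` contains a 3-cycle (pigeonhole + simplicity of the
  alternating group).
-/

namespace Cfsg.Agent.Helper1.Marg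

open MulAction
open scoped Pointwise

variable {G : Type*} [Group G] {Ω : Type*} [MulAction G Ω]

theorem forall_even_of_isThreeCycle [Fintype Ω] [DecidableEq Ω]
    (hprim : MulAction.IsPreprimitive G Ω)
    (h3 : ∃ g : G, (MulAction.toPerm g : Equiv.Perm Ω).IsThreeCycle) :
    ∀ σ : Equiv.Perm Ω, Equiv.Perm.sign σ = 1 →
      ∃ x : G, (MulAction.toPerm x : Equiv.Perm Ω) = σ := by
  obtain ⟨g, hg⟩ := h3
  let P : Subgroup (Equiv.Perm Ω) := (MulAction.toPermHom G Ω).range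
  have hPprim : IsPreprimitive P Ω := by
    let φ : G → P := fun g => ⟨MulAction.toPermHom G Ω g, ⟨g, rfl⟩⟩
    let f : Ω →ₑ[φ] Ω := { toFun := id, map_smul' := fun _ _ => rfl }
    exact IsPreprimitive.of_surjective (f := f) Function.surjective_id
  have hle := Equiv.Perm.alternatingGroup_le_of_isPreprimitive_of_isThreeCycle_mem hPprim hg
    (⟨g, rfl⟩ : (MulAction.toPerm g : Equiv.Perm Ω) ∈ P)
  intro σ hσ
  obtain ⟨x, hx⟩ := hle (Equiv.Perm.mem_alternatingGroup.mpr hσ)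
  exact ⟨x, hx⟩

theorem exists_isThreeCycle_of_alt [Fintype Ω] [DecidableEq Ω] (Δ : Set Ω)
    (h2 : 2 ≤ Δ.ncard) (hlt : Δ.ncard < Δᶜ.ncard) (h5 : 5 ≤ Δᶜ.ncard)
    (hA : ∀ σ : Equiv.Perm Ω, (∀ x ∈ Δ, σ x = x) → Equiv.Perm.sign σ = 1 →
      ∃ g : G, ∀ z, z ∉ Δ → g • z = σ z) :
    ∃ g : G, (MulAction.toPerm g : Equiv.Perm Ω).IsThreeCycle := by
  classical
  -- lifts
  have hlift : ∀ τ : Equiv.Perm ↥Δᶜ, Equiv.Perm.sign τ = 1 →
      ∃ g : G, ∀ z : ↥Δᶜ, g • (z : Ω) = ((τ z : ↥Δᶜ) : Ω) := by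
    intro τ hτ
    obtain ⟨g, hg⟩ := hA (Equiv.Perm.ofSubtype τ)
      (fun x hx => Equiv.Perm.ofSubtype_apply_of_not_mem τ (fun h => h hx))
      (by rw [Equiv.Perm.sign_ofSubtype, hτ])
    refine ⟨g, fun z => ?_⟩
    rw [hg z.1 z.2, Equiv.Perm.ofSubtype_apply_coe]
  have hstab : ∀ (τ : Equiv.Perm ↥Δᶜ) (g : G),
      (∀ z : ↥Δᶜ, g • (z : Ω) = ((τ z : ↥Δᶜ) : Ω)) → ∀ z ∈ Δ, g • z ∈ Δ := by
    intro τ g hg z hz
    by_contra hgz
    have h3 := hg (τ.symm ⟨g • z, hgz⟩)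
    rw [Equiv.apply_symm_apply] at h3
    have h4 := MulAction.injective g h3
    have h5 : ((τ.symm ⟨g • z, hgz⟩ : ↥Δᶜ) : Ω) ∈ Δ := by rw [h4]; exact hz
    exact (τ.symm ⟨g • z, hgz⟩).2 h5
  have hinvlift : ∀ (τ : Equiv.Perm ↥Δᶜ) (g : G),
      (∀ z : ↥Δᶜ, g • (z : Ω) = ((τ z : ↥Δᶜ) : Ω)) →
      ∀ z : ↥Δᶜ, g⁻¹ • (z : Ω) = ((τ⁻¹ z : ↥Δᶜ) : Ω) := by
    intro τ g hg z
    rw [inv_smul_eq_iff, hg, Equiv.Perm.inv_def, Equiv.apply_symm_apply]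
  -- the subgroup `N'`
  let N' : Subgroup (alternatingGroup ↥Δᶜ) :=
    { carrier := {τ | ∃ g : G, (∀ z ∈ Δ, g • z = z) ∧
        ∀ z : ↥Δᶜ, g • (z : Ω) = ((τ.1 z : ↥Δᶜ) : Ω)}
      one_mem' := ⟨1, fun z _ => one_smul _ _, fun z => one_smul _ _⟩
      mul_mem' := by
        rintro τ₁ τ₂ ⟨g₁, hg₁, hg₁'⟩ ⟨g₂, hg₂, hg₂'⟩
        refine ⟨g₁ * g₂, fun z hz => by rw [mul_smul, hg₂ z hz, hg₁ z hz], fun z => ?_⟩
        rw [mul_smul, hg₂', hg₁']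
        rfl
      inv_mem' := by
        rintro τ ⟨g, hg, hg'⟩
        refine ⟨g⁻¹, fun z hz => by rw [inv_smul_eq_iff, hg z hz], fun z => ?_⟩
        rw [hinvlift τ.1 g hg']
        rfl }
  have hN'mem : ∀ τ : alternatingGroup ↥Δᶜ, τ ∈ N' ↔ ∃ g : G, (∀ z ∈ Δ, g • z = z) ∧
        ∀ z : ↥Δᶜ, g • (z : Ω) = ((τ.1 z : ↥Δᶜ) : Ω) := fun τ => Iff.rfl
  have hN'n : N'.Normal := by
    constructor
    intro τ hτ σ
    rw [hN'mem] at hτ ⊢
    obtain ⟨g, hg, hg'⟩ := hτ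
    obtain ⟨u, hu⟩ := hlift σ.1 (Equiv.Perm.mem_alternatingGroup.mp σ.2)
    have hui := hinvlift σ.1 u hu
    refine ⟨u * g * u⁻¹, ?_, ?_⟩
    · intro z hz
      have h3 : u⁻¹ • z ∈ Δ := by
        by_contra h4
        have h5 := hu ⟨u⁻¹ • z, h4⟩
        rw [smul_inv_smul] at h5
        exact (σ.1 ⟨u⁻¹ • z, h4⟩).2 (h5 ▸ hz)
      rw [mul_smul, mul_smul, hg _ h3, smul_inv_smul]
    · intro z
      rw [mul_smul, mul_smul, hui, hg', hu]
      rfl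
  -- cardinalities
  have hcY : Fintype.card ↥Δᶜ = Δᶜ.ncard := by
    rw [← Nat.card_eq_fintype_card]; exact Nat.card_coe_set_eq Δᶜ
  have hcD : Fintype.card ↥Δ = Δ.ncard := by
    rw [← Nat.card_eq_fintype_card]; exact Nat.card_coe_set_eq Δ
  haveI : Nontrivial ↥Δᶜ := by
    rw [← Fintype.one_lt_card_iff_nontrivial, hcY]; omega
  have hcard : Fintype.card (↥Δ ↪ ↥Δ) < Fintype.card (alternatingGroup ↥Δᶜ) := by
    rw [Fintype.card_embedding_eq, Nat.descFactorial_self, hcD]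
    have h1 : 2 * Fintype.card (alternatingGroup ↥Δᶜ) = (Δᶜ.ncard).factorial := by
      rw [two_mul_card_alternatingGroup, Fintype.card_perm, hcY]
    have h3 : (Δ.ncard + 1).factorial ≤ (Δᶜ.ncard).factorial := Nat.factorial_le hlt
    rw [Nat.factorial_succ] at h3
    have h4 : 0 < (Δ.ncard).factorial := Nat.factorial_pos _
    nlinarith
  -- the chosen lifts
  let lift : alternatingGroup ↥Δᶜ → G := fun τ =>
    Classical.choose (hlift τ.1 (Equiv.Perm.mem_alternatingGroup.mp τ.2))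
  have hliftspec : ∀ τ : alternatingGroup ↥Δᶜ, ∀ z : ↥Δᶜ,
      lift τ • (z : Ω) = ((τ.1 z : ↥Δᶜ) : Ω) := fun τ =>
    Classical.choose_spec (hlift τ.1 (Equiv.Perm.mem_alternatingGroup.mp τ.2))
  let f : alternatingGroup ↥Δᶜ → (↥Δ ↪ ↥Δ) := fun τ =>
    ⟨fun z => ⟨lift τ • z.1, hstab τ.1 (lift τ) (hliftspec τ) z.1 z.2⟩, by
      intro z₁ z₂ h
      have h1 : lift τ • z₁.1 = lift τ • z₂.1 := congrArg Subtype.val h
      exact Subtype.ext (MulAction.injective _ h1)⟩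
  obtain ⟨τ₁, τ₂, hτne, hτf⟩ := Fintype.exists_ne_map_eq_of_card_lt f hcard
  have hN'ne : N' ≠ ⊥ := by
    intro hbot
    have hmem : τ₁⁻¹ * τ₂ ∈ N' := by
      rw [hN'mem]
      refine ⟨(lift τ₁)⁻¹ * lift τ₂, ?_, ?_⟩
      · intro z hz
        have h1 := congrArg (fun e : ↥Δ ↪ ↥Δ => ((e ⟨z, hz⟩ : ↥Δ) : Ω)) hτf
        have h1' : lift τ₁ • z = lift τ₂ • z := h1
        rw [mul_smul, ← h1', inv_smul_smul]
      · intro z
        rw [mul_smul, hliftspec τ₂, hinvlift τ₁.1 (lift τ₁) (hliftspec τ₁)]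
        rfl
    rw [hbot, Subgroup.mem_bot, inv_mul_eq_one] at hmem
    exact hτne hmem
  have hcard5 : 5 ≤ Nat.card ↥Δᶜ := by
    rw [Nat.card_eq_fintype_card, hcY]; exact h5
  have hN'top : N' = ⊤ :=
    ((alternatingGroup.isSimpleGroup hcard5).eq_bot_or_eq_top_of_normal N' hN'n).resolve_left
      hN'ne
  -- a 3-cycle
  obtain ⟨a, b, c, hab, hac, hbc⟩ := Fintype.two_lt_card_iff.mp
    (show 2 < Fintype.card ↥Δᶜ by rw [hcY]; omega)
  have h3c : (Equiv.swap a b * Equiv.swap a c) ∈ alternatingGroup ↥Δᶜ :=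
    (Equiv.Perm.isThreeCycle_swap_mul_swap_same hab hac hbc).mem_alternatingGroup
  have hmem : (⟨Equiv.swap a b * Equiv.swap a c, h3c⟩ : alternatingGroup ↥Δᶜ) ∈ N' := by
    rw [hN'top]; exact Subgroup.mem_top _
  rw [hN'mem] at hmem
  obtain ⟨g, hg, hg'⟩ := hmem
  have hab' : (a : Ω) ≠ b := fun h => hab (Subtype.ext h)
  have hac' : (a : Ω) ≠ c := fun h => hac (Subtype.ext h)
  have hbc' : (b : Ω) ≠ c := fun h => hbc (Subtype.ext h)
  refine ⟨g, isThreeCycle_of_smul g hab' hac' hbc' ?_ ?_ ?_ ?_⟩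
  · rw [hg' a]
    show (((Equiv.swap a b * Equiv.swap a c) a : ↥Δᶜ) : Ω) = c
    rw [Equiv.Perm.mul_apply, Equiv.swap_apply_left, Equiv.swap_apply_of_ne_of_ne hac.symm hbc.symm]
  · rw [hg' c]
    show (((Equiv.swap a b * Equiv.swap a c) c : ↥Δᶜ) : Ω) = b
    rw [Equiv.Perm.mul_apply, Equiv.swap_apply_right, Equiv.swap_apply_left]
  · rw [hg' b]
    show (((Equiv.swap a b * Equiv.swap a c) b : ↥Δᶜ) : Ω) = a
    rw [Equiv.Perm.mul_apply, Equiv.swap_apply_of_ne_of_ne hab.symm hbc, Equiv.swap_apply_right]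
  · intro z hza hzb hzc
    by_cases hz : z ∈ Δ
    · exact hg z hz
    · have hza' : (⟨z, hz⟩ : ↥Δᶜ) ≠ a := fun h => hza (congrArg Subtype.val h)
      have hzb' : (⟨z, hz⟩ : ↥Δᶜ) ≠ b := fun h => hzb (congrArg Subtype.val h)
      have hzc' : (⟨z, hz⟩ : ↥Δᶜ) ≠ c := fun h => hzc (congrArg Subtype.val h)
      rw [hg' ⟨z, hz⟩]
      show (((Equiv.swap a b * Equiv.swap a c) ⟨z, hz⟩ : ↥Δᶜ) : Ω) = z
      rw [Equiv.Perm.mul_apply, Equiv.swap_apply_of_ne_of_ne hza' hzc',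
        Equiv.swap_apply_of_ne_of_ne hza' hzb']

end Cfsg.Agent.Helper1.Marg
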