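import Mathlib
import Cfsg.Agent.Helper1.MargB
import Cfsg.Agent.Helper4.MarggraffB
import Cfsg.Agent.Helper1.MargF

/-!
# Marggraf's theorem: the main induction

A primitive group with a Jordan set `D`, `2 ≤ |D|`, `2 |D| < n`, contains a `3`-cycle.
-/

namespace Cfsg.Agent.Helper1.Marg

open MulAction SubMulAction
open scoped Pointwise

universe u v

/-- Lemma T inside a point stabilizer of a 3-transitive group. -/
theorem exists_stab_smul_eq_of_three {G : Type*} [Group G] {α : Type*} [MulAction G α] [Finite α]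
    [IsPretransitive G α] (h3 : IsMultiplyPretransitive G α 3) {D : Set α}
    (hD : JS G D) {c b b' : α} (hc : c ∉ D) (hb : b ∉ D) (hb' : b' ∉ D) (hbc : b ≠ c)
    (hb'c : b' ≠ c) :
    ∃ g : G, g • c = c ∧ g • D = D ∧ g • b = b' := by
  have h2s : IsMultiplyPretransitive (stabilizer G c) (ofStabilizer G c) 2 :=
    (ofStabilizer.isMultiplyPretransitive (n := 2) (a := c)).mp h3
  have hT2 : T2 (stabilizer G c) (ofStabilizer G c) := t2_iff.mpr h2s
  let D' : Set (ofStabilizer G c) := Subtype.val ⁻¹' D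
  have hD' : JS (stabilizer G c) D' := by
    intro x hx y hy
    obtain ⟨g, gf, hg⟩ := hD x.1 hx y.1 hy
    refine ⟨⟨g, gf c hc⟩, ?_, Subtype.ext hg⟩
    intro z hz
    exact Subtype.ext (gf z.1 hz)
  obtain ⟨k, hkD, hkb⟩ := exists_stab_smul_eq hT2 hD' (b := ⟨b, hbc⟩) (c := ⟨b', hb'c⟩) hb hb'
  refine ⟨k.1, k.2, ?_, congrArg Subtype.val hkb⟩
  have hsub : (k.1 : G) • D ⊆ D := by
    intro z hz
    obtain ⟨x, hx, rfl⟩ := Set.mem_smul_set.mp hz
    have hxc : x ≠ c := fun h => hc (h ▸ hx)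
    have hx' : (⟨x, hxc⟩ : ofStabilizer G c) ∈ D' := hx
    have h1 : k • (⟨x, hxc⟩ : ofStabilizer G c) ∈ k • D' := Set.smul_mem_smul_set hx'
    rw [hkD] at h1
    exact h1
  exact Set.eq_of_subset_of_ncard_le hsub (by rw [Set.ncard_smul_set]) (Set.toFinite _)

/-- restriction of an even permutation fixing `D` pointwise to `Dᶜ` is even. -/
theorem sign_subtypePerm_eq {α : Type*} [Fintype α] [DecidableEq α] (D : Set α) [Fintype ↥Dᶜ]
    [DecidableEq ↥Dᶜ] (σ : Equiv.Perm α) (hσ : ∀ x ∈ D, σ x = x)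
    (h₁ : ∀ x, σ x ∈ Dᶜ ↔ x ∈ Dᶜ) :
    Equiv.Perm.sign (σ.subtypePerm h₁) = Equiv.Perm.sign σ := by
  classical
  have := Equiv.Perm.sign_subtypePerm σ h₁ (fun x hx hxD => hx (hσ x hxD))
  convert this

/-- the main induction: a primitive group with a small Jordan set contains a 3-cycle. -/
theorem three_aux (n : ℕ) : ∀ {G : Type u} {α : Type v} [Group G] [Finite G] [MulAction G α]
    [Fintype α] [DecidableEq α], Fintype.card α = n → IsPreprimitive G α → ∀ {D : Set α}, JS G D →
    1 < D.ncard → 2 * D.ncard < Fintype.card α →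
    ∃ g : G, (MulAction.toPerm g : Equiv.Perm α).IsThreeCycle := by
  induction n using Nat.strong_induction_on with
  | _ n ih =>
  intro G α _ _ _ _ _ hcard hprim D hD h2 hn
  have hNc : Nat.card α = Fintype.card α := Nat.card_eq_fintype_card
  have := hprim.toIsPretransitive
  have h3 : IsMultiplyPretransitive G α 3 :=
    Cfsg.Agent.Helper4.Marggraff.marggraff hprim D (by omega) (by omega) hD
  have h2t : T2 G α := by
    rw [t2_iff]
    exact isMultiplyPretransitive_of_le (n := 3) (by norm_num) (by omega)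
  obtain ⟨E, hE⟩ := exists_maxPair hprim hD h2 (by omega)
  have hBle := hE.two_mul_ncard_le
  obtain ⟨w, hw⟩ := hE.exists_mem_diff
  have hBpos : 0 < (E \ D).ncard := (Set.ncard_pos (Set.toFinite _)).mpr ⟨w, hw⟩
  rcases Nat.lt_or_ge (E \ D).ncard 2 with hd | hd
  · -- `|E \ D| = 1`
    have h1 : (E \ D).ncard = 1 := by omega
    obtain ⟨w', hw'⟩ := Set.ncard_eq_one.mp h1
    have hww' : w = w' := by
      have : w ∈ ({w'} : Set α) := hw' ▸ hw
      exact this
    subst hww'
    have hun : D ∪ E = insert w D := by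
      ext z
      constructor
      · rintro (hz | hz)
        · exact Or.inr hz
        · by_cases hzD : z ∈ D
          · exact Or.inr hzD
          · have : z ∈ ({w} : Set α) := hw' ▸ (⟨hz, hzD⟩ : z ∈ E \ D)
            exact Or.inl this
      · rintro (hz | hz)
        · rw [hz]; exact Or.inr hw.1
        · exact Or.inl hz
    have hJ := hE.jsUnion
    rw [hun] at hJ
    exact exists_isThreeCycle_of_insert hprim h2 hn hD hw.2 hJ
  · -- `|E \ D| ≥ 2`
    have hcompl : D.ncard + Dᶜ.ncard = Nat.card α := Set.ncard_add_ncard_compl D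
    have hA2 : T2 (stabilizer G Dᶜ) ↥Dᶜ := by
      intro a b c d hab hcd
      obtain ⟨g1, hg1D, hg1⟩ := exists_stab_smul_eq h2t hD (b := a.1) (c := c.1) a.2 c.2
      have hb1 : g1 • b.1 ∉ D := by
        intro h
        have h' : g1 • b.1 ∈ g1 • D := by rw [hg1D]; exact h
        exact b.2 (Set.smul_mem_smul_set_iff.mp h')
      have hb1c : g1 • b.1 ≠ c.1 := by
        intro h
        rw [← hg1] at h
        exact hab (Subtype.ext (MulAction.injective g1 h)).symm
      obtain ⟨g2, hg2c, hg2D, hg2⟩ := exists_stab_smul_eq_of_three h3 hD c.2 hb1 d.2 hb1c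
        (fun h => hcd (Subtype.ext h).symm)
      have hmem : g2 * g1 ∈ stabilizer G Dᶜ := by
        rw [mem_stabilizer_iff, Set.smul_set_compl, mul_smul, hg1D, hg2D]
      refine ⟨⟨g2 * g1, hmem⟩, Subtype.ext ?_, Subtype.ext ?_⟩
      · show (g2 * g1) • a.1 = c.1
        rw [mul_smul, hg1, hg2c]
      · show (g2 * g1) • b.1 = d.1
        rw [mul_smul, hg2]
    have hAprim : IsPreprimitive (stabilizer G Dᶜ) ↥Dᶜ :=
      isPreprimitive_of_is_two_pretransitive (t2_iff.mp hA2)
    let B' : Set ↥Dᶜ := Subtype.val ⁻¹' (E \ D)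
    have hB'J : JS (stabilizer G Dᶜ) B' := by
      intro x hx y hy
      obtain ⟨g, hgD, gf, hg⟩ := hE.exists_stab hx hy
      have hmem : g ∈ stabilizer G Dᶜ := by
        rw [mem_stabilizer_iff, Set.smul_set_compl, hgD]
      refine ⟨⟨g, hmem⟩, ?_, Subtype.ext hg⟩
      intro z hz
      exact Subtype.ext (gf z.1 z.2 hz)
    have hB'card : B'.ncard = (E \ D).ncard := by
      rw [← Set.ncard_image_of_injective B' Subtype.val_injective]
      congr 1
      ext z
      constructor
      · rintro ⟨x, hx, rfl⟩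
        exact hx
      · intro hz
        exact ⟨⟨z, hz.2⟩, hz, rfl⟩
    classical
    haveI : Fintype ↥Dᶜ := Fintype.ofFinite _
    have hcardc : Fintype.card ↥Dᶜ = Dᶜ.ncard := by
      rw [← Nat.card_eq_fintype_card]; exact Nat.card_coe_set_eq Dᶜ
    have h3A : ∃ g : stabilizer G Dᶜ, (MulAction.toPerm g : Equiv.Perm ↥Dᶜ).IsThreeCycle :=
      ih (Fintype.card ↥Dᶜ) (by omega) rfl hAprim hB'J (by omega) (by omega)
    have halt := forall_even_of_isThreeCycle hAprim h3A
    apply exists_isThreeCycle_of_alt D (by omega) (by omega) (by omega)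
    intro σ hσ hsign
    have h₁ : ∀ x, σ x ∈ Dᶜ ↔ x ∈ Dᶜ := by
      intro x
      constructor
      · intro h hx
        exact h (by rw [hσ x hx]; exact hx)
      · intro h hx
        have h4 := hσ _ hx
        have h5 := σ.injective h4
        exact h (by rw [← h5]; exact hx)
    obtain ⟨x, hx⟩ := halt (σ.subtypePerm h₁) (by rw [sign_subtypePerm_eq D σ hσ h₁, hsign])
    refine ⟨x.1, fun z hz => ?_⟩
    have := congrArg (fun τ : Equiv.Perm ↥Dᶜ => (τ ⟨z, hz⟩ : ↥Dᶜ).1) hx
    exact this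

/-- **Marggraf's theorem**, primitive case. -/
theorem marggraf_primitive {G : Type u} {α : Type v} [Group G] [Finite G] [MulAction G α]
    [Fintype α] [DecidableEq α] (hprim : MulAction.IsPreprimitive G α) {D : Set α}
    (hD : ∀ x ∈ D, ∀ y ∈ D, ∃ g : G, (∀ z, z ∉ D → g • z = z) ∧ g • x = y)
    (h1 : 1 < D.ncard) (hn : 2 * D.ncard < Nat.card α) :
    ∀ σ : Equiv.Perm α, Equiv.Perm.sign σ = 1 → ∃ x : G, MulAction.toPerm x = σ :=
  forall_even_of_isThreeCycle hprim
    (three_aux (Fintype.card α) rfl hprim hD h1 (by rwa [← Nat.card_eq_fintype_card]))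

/-- Mathlib's form of the Jordan-set hypothesis gives the elementwise form. -/
theorem js_of_isPretransitive {G : Type*} [Group G] {α : Type*} [MulAction G α] {Γ : Set α}
    (hJ : IsPretransitive (fixingSubgroup G Γᶜ) (ofFixingSubgroup G Γᶜ)) :
    ∀ x ∈ Γ, ∀ y ∈ Γ, ∃ g : G, (∀ z, z ∉ Γ → g • z = z) ∧ g • x = y := by
  intro x hx y hy
  have hx' : x ∈ ofFixingSubgroup G Γᶜ := by
    rw [mem_ofFixingSubgroup_iff]; exact fun h => h hx
  have hy' : y ∈ ofFixingSubgroup G Γᶜ := by
    rw [mem_ofFixingSubgroup_iff]; exact fun h => h hy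
  obtain ⟨g, hg⟩ := hJ.exists_smul_eq ⟨x, hx'⟩ ⟨y, hy'⟩
  refine ⟨g.1, ?_, congrArg Subtype.val hg⟩
  intro z hz
  exact (mem_fixingSubgroup_iff G).mp g.2 z hz

end Cfsg.Agent.Helper1.Marg
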