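import Mathlib
import Cfsg.Agent.Helper1.MargA

/-!
# Marggraf's theorem: reduction from quasiprimitive to primitive, first half

For an equivariant surjection `π : Ω → X` with `G` faithful on `X`, a Jordan set `Γ` of `Ω` is
the full preimage of a Jordan set of `X`.
-/

namespace Cfsg.Agent.Helper1.Marg

open MulAction
open scoped Pointwise

section quot

variable {G : Type*} [Group G] {Ω X : Type*} [MulAction G Ω] [MulAction G X]

/-- the points of `X` whose whole fibre lies in `Γ`. -/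
def fibSet (π : Ω → X) (Γ : Set Ω) : Set X := {x' | ∀ ω, π ω = x' → ω ∈ Γ}

variable {π : Ω → X} (hπ : ∀ (g : G) (ω : Ω), π (g • ω) = g • π ω) {Γ : Set Ω}

include hπ in
theorem smul_eq_of_notMem_fibSet {h : G} (hf : ∀ z, z ∉ Γ → h • z = z) {x' : X}
    (hx' : x' ∉ fibSet π Γ) : h • x' = x' := by
  unfold fibSet at hx'
  rw [Set.mem_ofPred_eq] at hx'
  push Not at hx'
  obtain ⟨ω, hω, hωΓ⟩ := hx'
  rw [← hω, ← hπ, hf ω hωΓ]

include hπ in
theorem smul_mem_fibSet {h : G} (hf : ∀ z, z ∉ Γ → h • z = z) {x' : X}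
    (hx' : x' ∈ fibSet π Γ) : h • x' ∈ fibSet π Γ := by
  intro ω hω
  have h1 : π (h⁻¹ • ω) = x' := by rw [hπ, hω, inv_smul_smul]
  have h2 := hx' _ h1
  have h3 := smul_mem_of_fix hf h2
  rwa [smul_inv_smul] at h3

include hπ in
theorem fibSet_nonempty [FaithfulSMul G X] (hΓ : JS G Γ) {x y : Ω} (hx : x ∈ Γ) (hy : y ∈ Γ)
    (hxy : x ≠ y) : (fibSet π Γ).Nonempty := by
  by_contra hne
  rw [Set.not_nonempty_iff_eq_empty] at hne
  obtain ⟨h, hf, hh⟩ := hΓ x hx y hy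
  have h1 : h = 1 := by
    apply FaithfulSMul.eq_of_smul_eq_smul (α := X)
    intro x'
    rw [one_smul]
    exact smul_eq_of_notMem_fibSet hπ hf (by rw [hne]; exact Set.notMem_empty _)
  rw [h1, one_smul] at hh
  exact hxy hh

include hπ in
theorem preimage_fibSet [FaithfulSMul G X] (hsurj : Function.Surjective π) (hΓ : JS G Γ)
    {x y : Ω} (hx : x ∈ Γ) (hy : y ∈ Γ) (hxy : x ≠ y) : π ⁻¹' (fibSet π Γ) = Γ := by
  ext ω
  constructor
  · intro hω
    exact hω ω rfl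
  · intro hω
    obtain ⟨x₀, hx₀⟩ := fibSet_nonempty hπ hΓ hx hy hxy
    obtain ⟨ω₀, hω₀⟩ := hsurj x₀
    have hω₀Γ : ω₀ ∈ Γ := hx₀ ω₀ hω₀
    obtain ⟨h, hf, hh⟩ := hΓ ω₀ hω₀Γ ω hω
    show π ω ∈ fibSet π Γ
    rw [← hh, hπ, hω₀]
    exact smul_mem_fibSet hπ hf hx₀

include hπ in
theorem js_fibSet (hsurj : Function.Surjective π) (hΓ : JS G Γ) : JS G (fibSet π Γ) := by
  intro x' hx' y' hy'
  obtain ⟨ω, hω⟩ := hsurj x'
  obtain ⟨ω', hω'⟩ := hsurj y'
  obtain ⟨h, hf, hh⟩ := hΓ ω (hx' ω hω) ω' (hy' ω' hω')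
  refine ⟨h, fun z hz => smul_eq_of_notMem_fibSet hπ hf hz, ?_⟩
  rw [← hω, ← hπ, hh, hω']

include hπ in
theorem one_lt_ncard_fibSet [Finite X] [FaithfulSMul G X] (hΓ : JS G Γ)
    {x y : Ω} (hx : x ∈ Γ) (hy : y ∈ Γ) (hxy : x ≠ y) : 1 < (fibSet π Γ).ncard := by
  by_contra hle
  push Not at hle
  have hss : (fibSet π Γ).Subsingleton := Set.ncard_le_one_iff_subsingleton.mp hle
  obtain ⟨h, hf, hh⟩ := hΓ x hx y hy
  have h1 : h = 1 := by
    apply FaithfulSMul.eq_of_smul_eq_smul (α := X)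
    intro x'
    rw [one_smul]
    by_cases hx' : x' ∈ fibSet π Γ
    · exact hss (smul_mem_fibSet hπ hf hx') hx'
    · exact smul_eq_of_notMem_fibSet hπ hf hx'
  rw [h1, one_smul] at hh
  exact hxy hh

include hπ in
/-- all fibres have the same size. -/
theorem ncard_fibre_eq [Finite Ω] [IsPretransitive G X] (x₀ x' : X) :
    (π ⁻¹' {x'}).ncard = (π ⁻¹' {x₀}).ncard := by
  obtain ⟨g, hg⟩ := exists_smul_eq G x₀ x'
  have : π ⁻¹' {x'} = g • (π ⁻¹' {x₀}) := by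
    ext ω
    rw [Set.mem_smul_set_iff_inv_smul_mem]
    simp only [Set.mem_preimage, Set.mem_singleton_iff]
    rw [hπ, inv_smul_eq_iff, hg]
  rw [this, Set.ncard_smul_set]

include hπ in
theorem ncard_preimage_eq [Finite Ω] [Finite X] [IsPretransitive G X] (x₀ : X) (S : Set X) :
    (π ⁻¹' S).ncard = S.ncard * (π ⁻¹' {x₀}).ncard := by
  classical
  haveI := Fintype.ofFinite Ω
  haveI := Fintype.ofFinite X
  rw [Set.ncard_eq_toFinset_card' (π ⁻¹' S), Set.ncard_eq_toFinset_card' S]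
  rw [Finset.card_eq_sum_card_fiberwise (f := π) (t := S.toFinset)
    (fun ω hω => by simpa using hω)]
  apply Finset.sum_const_nat
  intro x' hx'
  rw [← ncard_fibre_eq hπ x₀ x', Set.ncard_eq_toFinset_card']
  congr 1
  ext ω
  simp only [Set.mem_toFinset] at hx'
  simp only [Finset.mem_filter, Set.mem_toFinset, Set.mem_preimage, Set.mem_singleton_iff]
  constructor
  · rintro ⟨_, h⟩; exact h
  · intro h; exact ⟨h ▸ hx', h⟩

include hπ in
/-- **Jordan image**: a Jordan set `Γ` with `1 < |Γ|`, `2 |Γ| < |Ω|` is the preimage of a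
Jordan set `Γ'` of `X` with `1 < |Γ'|`, `2 |Γ'| < |X|`. -/
theorem jordan_image [Finite Ω] [Finite X] [FaithfulSMul G X] [IsPretransitive G Ω]
    (hsurj : Function.Surjective π) (hΓ : JS G Γ) (h1 : 1 < Γ.ncard)
    (h2 : 2 * Γ.ncard < Nat.card Ω) :
    ∃ Γ' : Set X, π ⁻¹' Γ' = Γ ∧ JS G Γ' ∧ 1 < Γ'.ncard ∧ 2 * Γ'.ncard < Nat.card X := by
  obtain ⟨x, y, hx, hy, hxy⟩ := (Set.one_lt_ncard_iff (Set.toFinite Γ)).mp h1
  haveI : IsPretransitive G X := by
    constructor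
    intro x' y'
    obtain ⟨ω, rfl⟩ := hsurj x'
    obtain ⟨ω', rfl⟩ := hsurj y'
    obtain ⟨g, hg⟩ := exists_smul_eq G ω ω'
    exact ⟨g, by rw [← hπ, hg]⟩
  have hpre := preimage_fibSet hπ hsurj hΓ hx hy hxy
  refine ⟨fibSet π Γ, hpre, js_fibSet hπ hsurj hΓ, one_lt_ncard_fibSet hπ hΓ hx hy hxy, ?_⟩
  have hc1 := ncard_preimage_eq hπ (π x) (fibSet π Γ)
  have hc2 := ncard_preimage_eq hπ (π x) (Set.univ : Set X)
  rw [hpre] at hc1
  rw [Set.preimage_univ, Set.ncard_univ, Set.ncard_univ] at hc2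
  rw [hc1, hc2] at h2
  have : 2 * (fibSet π Γ).ncard * (π ⁻¹' {π x}).ncard
      < Nat.card X * (π ⁻¹' {π x}).ncard := by
    rw [mul_assoc]; exact h2
  exact Nat.lt_of_mul_lt_mul_right this

end quot

section quotmap

variable {G : Type*} [Group G] {Ω : Type*} [MulAction G Ω]

/-- the equivariant map `Ω → G ⧸ K` for `K ≥ G_a`. -/
theorem exists_quotient_map [IsPretransitive G Ω] (a : Ω) (K : Subgroup G)
    (hK : stabilizer G a ≤ K) :
    ∃ π : Ω → G ⧸ K, (∀ (g : G) (ω : Ω), π (g • ω) = g • π ω) ∧ Function.Surjective π ∧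
      ∀ g : G, π (g • a) = (g : G ⧸ K) := by
  let π : Ω → G ⧸ K := fun ω => ((Classical.choose (exists_smul_eq G a ω) : G) : G ⧸ K)
  have key : ∀ g : G, π (g • a) = (g : G ⧸ K) := by
    intro g
    have hspec := Classical.choose_spec (exists_smul_eq G a (g • a))
    show ((Classical.choose (exists_smul_eq G a (g • a)) : G) : G ⧸ K) = (g : G ⧸ K)
    rw [QuotientGroup.eq]
    apply hK
    rw [mem_stabilizer_iff, mul_smul, inv_smul_eq_iff, hspec]
  refine ⟨π, ?_, ?_, key⟩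
  · intro g ω
    obtain ⟨g₀, rfl⟩ := exists_smul_eq G a ω
    rw [← mul_smul, key, key]
    rfl
  · intro x'
    obtain ⟨g, rfl⟩ := QuotientGroup.mk_surjective x'
    exact ⟨g • a, key g⟩

end quotmap

end Cfsg.Agent.Helper1.Marg
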