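import Mathlib
import Cfsg.Agent.Helper1.MargA

/-!
# Marggraf's theorem: reduction from quasiprimitive to primitive, second half

If `G` induces all even permutations of `X`, `|X| ≥ 6`, a nontrivial subgroup of the
"even" point stabilizer `T_{x'}` normalized by `T_{x'}` is all of `T_{x'}`
(simplicity of the alternating group of degree `|X| - 1`).
-/

namespace Cfsg.Agent.Helper1.Marg

open MulAction SubMulAction
open scoped Pointwise

theorem mem_of_normal_stab {G X : Type*} [Group G] [MulAction G X] [FaithfulSMul G X]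
    [Fintype X] [DecidableEq X]
    (halt : ∀ σ : Equiv.Perm X, Equiv.Perm.sign σ = 1 →
      ∃ g : G, (MulAction.toPerm g : Equiv.Perm X) = σ)
    (x' : X) (h6 : 6 ≤ Fintype.card X) (N : Subgroup G)
    (hN1 : ∀ g ∈ N, Equiv.Perm.sign (MulAction.toPerm g : Equiv.Perm X) = 1 ∧ g • x' = x')
    (hNn : ∀ u : G, Equiv.Perm.sign (MulAction.toPerm u : Equiv.Perm X) = 1 → u • x' = x' →
      ∀ g ∈ N, u * g * u⁻¹ ∈ N)
    (hne : ∃ g ∈ N, g ≠ 1) {u : G}
    (hu1 : Equiv.Perm.sign (MulAction.toPerm u : Equiv.Perm X) = 1) (hu2 : u • x' = x') :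
    u ∈ N := by
  classical
  let S := stabilizer G x'
  haveI : Fintype ↥(ofStabilizer G x') := Fintype.ofFinite _
  let ρ : S →* Equiv.Perm ↥(ofStabilizer G x') := MulAction.toPermHom S ↥(ofStabilizer G x')
  have hρ : ∀ (g : S) (y : ↥(ofStabilizer G x')), ((ρ g y : ↥(ofStabilizer G x')) : X)
      = (g : G) • (y : X) := fun g y => rfl
  -- F1
  have hofs : ∀ g : S, (MulAction.toPerm (g : G) : Equiv.Perm X)
      = Equiv.Perm.ofSubtype (ρ g) := by
    intro g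
    ext y
    by_cases hy : y ∈ ofStabilizer G x'
    · rw [Equiv.Perm.ofSubtype_apply_of_mem _ hy, hρ]
      rfl
    · rw [Equiv.Perm.ofSubtype_apply_of_not_mem _ hy]
      rw [mem_ofStabilizer_iff, not_not] at hy
      rw [hy]
      exact g.2
  have hF1 : ∀ g : S, Equiv.Perm.sign (ρ g)
      = Equiv.Perm.sign (MulAction.toPerm (g : G) : Equiv.Perm X) := by
    intro g
    rw [hofs g, Equiv.Perm.sign_ofSubtype]
  -- F2
  have hF2 : ∀ τ : Equiv.Perm ↥(ofStabilizer G x'), Equiv.Perm.sign τ = 1 →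
      ∃ g : S, Equiv.Perm.sign (MulAction.toPerm (g : G) : Equiv.Perm X) = 1 ∧ ρ g = τ := by
    intro τ hτ
    obtain ⟨g₀, hg₀⟩ := halt (Equiv.Perm.ofSubtype τ) (by rw [Equiv.Perm.sign_ofSubtype, hτ])
    have hg₀x : g₀ • x' = x' := by
      have := congrArg (fun σ : Equiv.Perm X => σ x') hg₀
      simp only [MulAction.toPerm_apply] at this
      rw [this]
      exact Equiv.Perm.ofSubtype_apply_of_not_mem _ (fun h => h rfl)
    refine ⟨⟨g₀, hg₀x⟩, ?_, ?_⟩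
    · rw [hg₀, Equiv.Perm.sign_ofSubtype, hτ]
    · ext y
      rw [hρ]
      have := congrArg (fun σ : Equiv.Perm X => σ (y : X)) hg₀
      simp only [MulAction.toPerm_apply] at this
      rw [this, Equiv.Perm.ofSubtype_apply_coe]
  -- F3
  have hF3 : ∀ g : S, ρ g = 1 → g = 1 := by
    intro g hg
    apply Subtype.ext
    apply FaithfulSMul.eq_of_smul_eq_smul (α := X)
    intro y
    rw [Subgroup.coe_one, one_smul]
    by_cases hy : y ∈ ofStabilizer G x'
    · have := hρ g ⟨y, hy⟩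
      rw [hg] at this
      exact this.symm
    · rw [mem_ofStabilizer_iff, not_not] at hy
      rw [hy]
      exact g.2
  -- the image of `N`
  let N' : Subgroup S := N.subgroupOf S
  let M : Subgroup (alternatingGroup ↥(ofStabilizer G x')) :=
    (N'.map ρ).subgroupOf (alternatingGroup ↥(ofStabilizer G x'))
  have hMn : M.Normal := by
    constructor
    intro τ hτ τ'
    rw [Subgroup.mem_subgroupOf] at hτ ⊢
    obtain ⟨n₀, hn₀, hn₀τ⟩ := hτ
    obtain ⟨u', hu'1, hu'2⟩ := hF2 τ'.1 (Equiv.Perm.mem_alternatingGroup.mp τ'.2)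
    refine ⟨u' * n₀ * u'⁻¹, ?_, ?_⟩
    · show ((u' * n₀ * u'⁻¹ : S) : G) ∈ N
      exact hNn u'.1 hu'1 u'.2 n₀.1 hn₀
    · rw [map_mul, map_mul, map_inv, hn₀τ, hu'2]
      rfl
  have hcard : 5 ≤ Nat.card ↥(ofStabilizer G x') := by
    have := nat_card_ofStabilizer_add_one_eq G x'
    rw [Nat.card_eq_fintype_card (α := X)] at this
    omega
  rcases (alternatingGroup.isSimpleGroup hcard).eq_bot_or_eq_top_of_normal M hMn with hM | hM
  · exfalso
    obtain ⟨g, hgN, hg1⟩ := hne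
    have hgx := (hN1 g hgN).2
    have hmem : (⟨ρ ⟨g, hgx⟩, by
        rw [Equiv.Perm.mem_alternatingGroup, hF1]; exact (hN1 g hgN).1⟩ :
        alternatingGroup ↥(ofStabilizer G x')) ∈ M := by
      rw [Subgroup.mem_subgroupOf]
      exact ⟨⟨g, hgx⟩, hgN, rfl⟩
    rw [hM, Subgroup.mem_bot] at hmem
    have h1 : ρ ⟨g, hgx⟩ = 1 := congrArg Subtype.val hmem
    have h2 := hF3 _ h1
    exact hg1 (congrArg Subtype.val h2)
  · have hmem : (⟨ρ ⟨u, hu2⟩, by
        rw [Equiv.Perm.mem_alternatingGroup, hF1]; exact hu1⟩ :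
        alternatingGroup ↥(ofStabilizer G x')) ∈ M := by
      rw [hM]; exact Subgroup.mem_top _
    rw [Subgroup.mem_subgroupOf] at hmem
    obtain ⟨n₀, hn₀, hn₀u⟩ := hmem
    have h1 : ρ (n₀⁻¹ * ⟨u, hu2⟩) = 1 := by
      rw [map_mul, map_inv, hn₀u]
      exact inv_mul_cancel _
    have h2 := hF3 _ h1
    have h3 : (⟨u, hu2⟩ : S) = n₀ := by
      rw [inv_mul_eq_one] at h2
      exact h2.symm
    have : u = n₀.1 := congrArg Subtype.val h3
    rw [this]
    exact hn₀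

theorem eq_of_mem_of_ncard_two {α : Type*} {s : Set α} (hs : s.ncard = 2) {a b c : α}
    (ha : a ∈ s) (hb : b ∈ s) (hc : c ∈ s) (hba : b ≠ a) (hca : c ≠ a) : b = c := by
  obtain ⟨y₁, y₂, hy12, rfl⟩ := Set.ncard_eq_two.mp hs
  simp only [Set.mem_insert_iff, Set.mem_singleton_iff] at ha hb hc
  rcases ha with rfl | rfl <;> rcases hb with rfl | rfl <;> rcases hc with rfl | rfl <;>
    first | rfl | exact absurd rfl hba | exact absurd rfl hca

/-- **R3**: if `G` (quasiprimitive on `Ω`) induces all even permutations on the quotient `X`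
and `Ω` has a Jordan set which is the preimage of a small subset of `X`, then `Ω → X` is
injective. -/
theorem injective_of_alt {G Ω X : Type*} [Group G] [MulAction G Ω] [MulAction G X]
    [FaithfulSMul G X] [Fintype X] [DecidableEq X]
    (hqp : ∀ N : Subgroup G, N.Normal → N ≠ ⊥ → MulAction.IsPretransitive ↥N Ω)
    (π : Ω → X) (hπ : ∀ (g : G) (ω : Ω), π (g • ω) = g • π ω) (hsurj : Function.Surjective π)
    (halt : ∀ σ : Equiv.Perm X, Equiv.Perm.sign σ = 1 →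
      ∃ g : G, (MulAction.toPerm g : Equiv.Perm X) = σ)
    (Γ' : Set X) (h1 : 1 < Γ'.ncard) (h2 : 2 * Γ'.ncard < Fintype.card X)
    (hJ : JS G (π ⁻¹' Γ')) :
    Function.Injective π := by
  classical
  intro ω₁ ω₂ hω
  by_contra hne
  -- points of `X`
  obtain ⟨x₁, x₂, hx₁, hx₂, hx12⟩ := (Set.one_lt_ncard_iff (Set.toFinite Γ')).mp h1
  obtain ⟨x', hx'⟩ : ∃ x', x' ∉ Γ' := by
    by_contra hall
    push Not at hall
    have : Γ' = Set.univ := Set.eq_univ_of_forall hall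
    rw [this, Set.ncard_univ, Nat.card_eq_fintype_card] at h2
    omega
  have hx'1 : x' ≠ x₁ := fun h => hx' (h ▸ hx₁)
  have hx'2 : x' ≠ x₂ := fun h => hx' (h ▸ hx₂)
  -- the even kernel
  let sg : G →* ℤˣ := (Equiv.Perm.sign).comp (MulAction.toPermHom G X)
  have hsg : ∀ g : G, sg g = Equiv.Perm.sign (MulAction.toPerm g : Equiv.Perm X) := fun g => rfl
  let T : Subgroup G := sg.ker
  have hTmem : ∀ g : G, g ∈ T ↔ Equiv.Perm.sign (MulAction.toPerm g : Equiv.Perm X) = 1 :=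
    fun g => MonoidHom.mem_ker
  have hTne : T ≠ ⊥ := by
    obtain ⟨g, hg⟩ := halt (Equiv.swap x' x₁ * Equiv.swap x₁ x₂)
      (by rw [Equiv.Perm.sign_mul, Equiv.Perm.sign_swap hx'1, Equiv.Perm.sign_swap hx12]; rfl)
    intro hbot
    have hgT : g ∈ T := by
      rw [hTmem, hg, Equiv.Perm.sign_mul, Equiv.Perm.sign_swap hx'1, Equiv.Perm.sign_swap hx12]
      rfl
    rw [hbot, Subgroup.mem_bot] at hgT
    have := congrArg (fun σ : Equiv.Perm X => σ x₂) hg
    simp only [MulAction.toPerm_apply, Equiv.Perm.mul_apply, Equiv.swap_apply_right] at this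
    rw [hgT, one_smul] at this
    exact hx'2 this.symm
  haveI hTtrans : MulAction.IsPretransitive ↥T Ω := hqp T inferInstance hTne
  -- move the two points into the fibre of `x'`
  obtain ⟨ω', hω'⟩ := hsurj x'
  obtain ⟨t, ht⟩ := MulAction.exists_smul_eq ↥T ω₁ ω'
  have ht' : (t : G) • ω₁ = ω' := ht
  have hp1 : π ((t : G) • ω₁) = x' := by rw [ht', hω']
  have hp2 : π ((t : G) • ω₂) = x' := by rw [hπ, ← hω, ← hπ, hp1]
  have hp12 : (t : G) • ω₁ ≠ (t : G) • ω₂ := fun h => hne (MulAction.injective _ h)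
  obtain ⟨u, hu⟩ := MulAction.exists_smul_eq ↥T ((t : G) • ω₁) ((t : G) • ω₂)
  have hu' : (u : G) • ((t : G) • ω₁) = (t : G) • ω₂ := hu
  have hux : (u : G) • x' = x' := by
    conv_lhs => rw [← hp1]
    rw [← hπ, hu', hp2]
  -- three points of `Γ`
  obtain ⟨g₁, hg₁⟩ : ∃ g : G, g • x' = x₁ := by
    obtain ⟨ω₀, hω₀⟩ := hsurj x₁
    obtain ⟨t', ht'⟩ := MulAction.exists_smul_eq ↥T ω' ω₀
    refine ⟨t'.1, ?_⟩
    have : (t' : G) • ω' = ω₀ := ht'
    rw [← hω', ← hπ, this, hω₀]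
  set p₁ := g₁ • ((t : G) • ω₁) with hp₁def
  set p₂ := g₁ • ((t : G) • ω₂) with hp₂def
  obtain ⟨p₃, hp₃⟩ := hsurj x₂
  have hπp₁ : π p₁ = x₁ := by rw [hp₁def, hπ, hp1, hg₁]
  have hπp₂ : π p₂ = x₁ := by rw [hp₂def, hπ, hp2, hg₁]
  have hp₁Γ : p₁ ∈ π ⁻¹' Γ' := by show π p₁ ∈ Γ'; rw [hπp₁]; exact hx₁
  have hp₂Γ : p₂ ∈ π ⁻¹' Γ' := by show π p₂ ∈ Γ'; rw [hπp₂]; exact hx₁
  have hp₃Γ : p₃ ∈ π ⁻¹' Γ' := by show π p₃ ∈ Γ'; rw [hp₃]; exact hx₂
  have hp₁₂ : p₁ ≠ p₂ := fun h => hp12 (MulAction.injective _ h)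
  have hp₁₃ : p₁ ≠ p₃ := fun h => hx12 (by rw [← hπp₁, h, hp₃])
  have hp₂₃ : p₂ ≠ p₃ := fun h => hx12 (by rw [← hπp₂, h, hp₃])
  obtain ⟨h₁, hf₁, hh₁⟩ := hJ p₁ hp₁Γ p₂ hp₂Γ
  obtain ⟨h₂, hf₂, hh₂⟩ := hJ p₁ hp₁Γ p₃ hp₃Γ
  -- elements fixing the complement of `Γ` fix every point of `X` outside `Γ'`
  have hfixX : ∀ h : G, (∀ z, z ∉ π ⁻¹' Γ' → h • z = z) → ∀ y', y' ∉ Γ' → h • y' = y' := by
    intro h hf y' hy'
    obtain ⟨ω, rfl⟩ := hsurj y'
    rw [← hπ, hf ω hy']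
  have hmemX : ∀ h : G, (∀ z, z ∉ π ⁻¹' Γ' → h • z = z) → ∀ y', y' ∈ Γ' → h • y' ∈ Γ' := by
    intro h hf y' hy'
    obtain ⟨ω, rfl⟩ := hsurj y'
    rw [← hπ]
    exact smul_mem_of_fix hf (show ω ∈ π ⁻¹' Γ' from hy')
  rcases Nat.lt_or_ge (Fintype.card X) 6 with h5 | h6
  · -- `|X| = 5`, `|Γ'| = 2`
    have hk : Γ'.ncard = 2 := by omega
    have htriv : ∀ h : G, (∀ z, z ∉ π ⁻¹' Γ' → h • z = z) → h • x₁ = x₁ → h = 1 := by
      intro h hf hx
      apply FaithfulSMul.eq_of_smul_eq_smul (α := X)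
      intro y
      rw [one_smul]
      by_cases hy : y ∈ Γ'
      · by_cases hyx : y = x₁
        · rw [hyx, hx]
        · -- `y = x₂`-like: `h • y ∈ Γ'`, `≠ x₁`
          have h3 := hmemX h hf y hy
          have h4 : h • y ≠ x₁ := by
            intro h5
            rw [← hx] at h5
            exact hyx (MulAction.injective h h5)
          exact eq_of_mem_of_ncard_two hk hx₁ h3 hy h4 hyx
      · exact hfixX h hf y hy
    have hmove : ∀ h : G, (∀ z, z ∉ π ⁻¹' Γ' → h • z = z) → h ≠ 1 → h • x₁ = x₂ := by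
      intro h hf hne1
      have h3 := hmemX h hf x₁ hx₁
      have h4 : h • x₁ ≠ x₁ := fun h5 => hne1 (htriv h hf h5)
      exact eq_of_mem_of_ncard_two hk hx₁ h3 hx₂ h4 hx12.symm
    have hh₁ne : h₁ ≠ 1 := by
      intro h; rw [h, one_smul] at hh₁; exact hp₁₂ hh₁
    have hh₂ne : h₂ ≠ 1 := by
      intro h; rw [h, one_smul] at hh₂; exact hp₁₃ hh₂
    have e1 := hmove h₁ hf₁ hh₁ne
    have e2 := hmove h₂ hf₂ hh₂ne
    have e3 : (h₁⁻¹ * h₂) • x₁ = x₁ := by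
      rw [mul_smul, e2, inv_smul_eq_iff, e1]
    have e4 := htriv (h₁⁻¹ * h₂) (mul_fix (inv_fix hf₁) hf₂) e3
    have e5 : h₁ = h₂ := by
      rw [inv_mul_eq_one] at e4; exact e4
    apply hp₂₃
    rw [← hh₁, ← hh₂, e5]
  · -- `|X| ≥ 6`
    -- a nontrivial even element fixing the complement of `Γ`
    obtain ⟨h₀, hf₀, hh₀T, hh₀ne⟩ : ∃ h₀ : G, (∀ z, z ∉ π ⁻¹' Γ' → h₀ • z = z) ∧ h₀ ∈ T ∧
        h₀ ≠ 1 := by
      by_cases hs1 : h₁ ∈ T
      · refine ⟨h₁, hf₁, hs1, ?_⟩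
        intro h; rw [h, one_smul] at hh₁; exact hp₁₂ hh₁
      by_cases hs2 : h₂ ∈ T
      · refine ⟨h₂, hf₂, hs2, ?_⟩
        intro h; rw [h, one_smul] at hh₂; exact hp₁₃ hh₂
      refine ⟨h₁⁻¹ * h₂, mul_fix (inv_fix hf₁) hf₂, ?_, ?_⟩
      · have e1 : sg h₁ = -1 := (Int.units_eq_one_or (sg h₁)).resolve_left
          (fun h => hs1 (MonoidHom.mem_ker.mpr h))
        have e2 : sg h₂ = -1 := (Int.units_eq_one_or (sg h₂)).resolve_left
          (fun h => hs2 (MonoidHom.mem_ker.mpr h))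
        show sg (h₁⁻¹ * h₂) = 1
        rw [map_mul, map_inv, e1, e2]
        decide
      · intro h
        rw [inv_mul_eq_one] at h
        apply hp₂₃
        rw [← hh₁, ← hh₂, h]
    -- the subgroup `N`
    let N : Subgroup G :=
      { carrier := {g | g ∈ T ∧ g • x' = x' ∧ ∀ ω, π ω = x' → g • ω = ω}
        one_mem' := ⟨T.one_mem, one_smul _ _, fun ω _ => one_smul _ _⟩
        mul_mem' := by
          rintro a b ⟨ha1, ha2, ha3⟩ ⟨hb1, hb2, hb3⟩
          refine ⟨T.mul_mem ha1 hb1, by rw [mul_smul, hb2, ha2], fun ω hω => ?_⟩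
          rw [mul_smul, hb3 ω hω, ha3 ω hω]
        inv_mem' := by
          rintro a ⟨ha1, ha2, ha3⟩
          refine ⟨T.inv_mem ha1, by rw [inv_smul_eq_iff, ha2], fun ω hω => ?_⟩
          rw [inv_smul_eq_iff, ha3 ω hω] }
    have hNmem : ∀ g : G, g ∈ N ↔ (g ∈ T ∧ g • x' = x' ∧ ∀ ω, π ω = x' → g • ω = ω) :=
      fun g => Iff.rfl
    have huN : (u : G) ∈ N := by
      apply mem_of_normal_stab halt x' h6 N
      · intro g hg
        exact ⟨(hTmem g).mp hg.1, hg.2.1⟩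
      · intro v hv1 hv2 g hg
        rw [hNmem] at hg ⊢
        obtain ⟨hg1, hg2, hg3⟩ := hg
        have hvT : v ∈ T := (hTmem v).mpr hv1
        refine ⟨T.mul_mem (T.mul_mem hvT hg1) (T.inv_mem hvT), ?_, ?_⟩
        · rw [mul_smul, mul_smul, inv_smul_eq_iff.mpr hv2.symm, hg2, hv2]
        · intro ω hω
          have h3 : π (v⁻¹ • ω) = x' := by rw [hπ, hω, inv_smul_eq_iff, hv2]
          rw [mul_smul, mul_smul, hg3 _ h3, smul_inv_smul]
      · refine ⟨h₀, ?_, hh₀ne⟩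
        rw [hNmem]
        refine ⟨hh₀T, hfixX h₀ hf₀ x' hx', fun ω hω => hf₀ ω ?_⟩
        show ¬ π ω ∈ Γ'
        rw [hω]; exact hx'
      · exact (hTmem u).mp u.2
      · exact hux
    have := huN.2.2 _ hp1
    rw [hu'] at this
    exact hp12 this.symm

end Cfsg.Agent.Helper1.Marg
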