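import Mathlib
import Cfsg.Agent.Helper1.MargE
import Cfsg.Agent.Helper1.MargR
import Cfsg.Agent.Helper1.MargS

/-!
# Marggraf's theorem for quasiprimitive groups
-/

namespace Cfsg.Agent.Helper1.Marg

open MulAction
open scoped Pointwise

/-- **Marggraf's theorem**, quasiprimitive version. -/
theorem marggraf_quasiprimitive {G Ω : Type*} [Group G] [Finite G] [MulAction G Ω]
    [FaithfulSMul G Ω] [Fintype Ω] [DecidableEq Ω]
    (hqp : ∀ N : Subgroup G, N.Normal → N ≠ ⊥ → MulAction.IsPretransitive ↥N Ω)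
    {Γ : Set Ω} (hΓ1 : 1 < Γ.ncard) (hΓ2 : 2 * Γ.ncard < Fintype.card Ω) (hJ : JS G Γ) :
    ∀ σ : Equiv.Perm Ω, Equiv.Perm.sign σ = 1 →
      ∃ x : G, (MulAction.toPerm x : Equiv.Perm Ω) = σ := by
  classical
  have hNc : Nat.card Ω = Fintype.card Ω := Nat.card_eq_fintype_card
  obtain ⟨a, b, ha, hb, hab⟩ := (Set.one_lt_ncard_iff (Set.toFinite Γ)).mp hΓ1
  obtain ⟨h, hf, hh⟩ := hJ a ha b hb
  have hh1 : h ≠ 1 := by
    intro h1; rw [h1, one_smul] at hh; exact hab hh
  -- `G` is transitive
  have htop : (⊤ : Subgroup G) ≠ ⊥ := by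
    intro htb
    have : h ∈ (⊥ : Subgroup G) := htb ▸ Subgroup.mem_top h
    exact hh1 (Subgroup.mem_bot.mp this)
  haveI htrans : IsPretransitive G Ω := by
    have := hqp ⊤ inferInstance htop
    constructor
    intro x y
    obtain ⟨g, hg⟩ := MulAction.exists_smul_eq ↥(⊤ : Subgroup G) x y
    exact ⟨g.1, hg⟩
  haveI : Nontrivial Ω := ⟨⟨a, b, hab⟩⟩
  -- a maximal subgroup over the stabilizer
  have hstab : stabilizer G a ≠ ⊤ := by
    intro hst
    have : h ∈ stabilizer G a := hst ▸ Subgroup.mem_top h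
    rw [mem_stabilizer_iff, hh] at this
    exact hab this.symm
  obtain ⟨K, hKco, hKle⟩ := (eq_top_or_exists_le_coatom (stabilizer G a)).resolve_left hstab
  obtain ⟨π, hπ, hsurj, hπa⟩ := exists_quotient_map a K hKle
  -- the action on `G ⧸ K` is faithful
  haveI hfaith : FaithfulSMul G (G ⧸ K) := by
    constructor
    intro g₁ g₂ hg
    let N : Subgroup G := (MulAction.toPermHom G (G ⧸ K)).ker
    have hNle : N ≤ K := by
      intro g hgN
      have h1 : MulAction.toPermHom G (G ⧸ K) g = 1 := MonoidHom.mem_ker.mp hgN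
      have h2 : g • ((1 : G) : G ⧸ K) = ((1 : G) : G ⧸ K) := by
        have := congrArg (fun σ : Equiv.Perm (G ⧸ K) => σ ((1 : G) : G ⧸ K)) h1
        exact this
      have h3 : g ∈ stabilizer G ((1 : G) : G ⧸ K) := h2
      rwa [MulAction.stabilizer_quotient] at h3
    have hNbot : N = ⊥ := by
      by_contra hNne
      haveI := hqp N inferInstance hNne
      apply hKco.1
      rw [eq_top_iff]
      intro g _
      obtain ⟨n, hn⟩ := MulAction.exists_smul_eq ↥N a (g • a)
      have hn' : (n : G) • a = g • a := hn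
      have h1 : g⁻¹ * (n : G) ∈ stabilizer G a := by
        rw [mem_stabilizer_iff, mul_smul, hn', inv_smul_smul]
      have h2 := K.mul_mem (hNle n.2) (K.inv_mem (hKle h1))
      rw [mul_inv_rev, inv_inv, mul_inv_cancel_left] at h2
      exact h2
    have h1 : g₁⁻¹ * g₂ ∈ N := by
      rw [MonoidHom.mem_ker]
      ext x
      show (g₁⁻¹ * g₂) • x = x
      rw [mul_smul, ← hg x, inv_smul_smul]
    rw [hNbot, Subgroup.mem_bot, inv_mul_eq_one] at h1
    exact h1
  -- the action on `G ⧸ K` is primitive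
  haveI : Nontrivial (G ⧸ K) := by
    obtain ⟨g, hg⟩ : ∃ g : G, g ∉ K := by
      by_contra hall
      push Not at hall
      exact hKco.1 (eq_top_iff.mpr fun g _ => hall g)
    refine ⟨⟨(g : G ⧸ K), ((1 : G) : G ⧸ K), ?_⟩⟩
    intro heq
    rw [QuotientGroup.eq, mul_one] at heq
    exact hg (by simpa using K.inv_mem heq)
  have hprimX : IsPreprimitive G (G ⧸ K) := by
    rw [← isCoatom_stabilizer_iff_preprimitive G (((1 : G) : G ⧸ K)), MulAction.stabilizer_quotient]
    exact hKco
  -- the Jordan set of `G ⧸ K`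
  obtain ⟨Γ', hpre, hJ', h1', h2'⟩ := jordan_image hπ hsurj hJ hΓ1 (by rw [hNc]; exact hΓ2)
  haveI : Fintype (G ⧸ K) := Fintype.ofFinite _
  have halt := marggraf_primitive hprimX hJ' h1' h2'
  have hinj : Function.Injective π :=
    injective_of_alt hqp π hπ hsurj halt Γ' h1' (by rwa [← Nat.card_eq_fintype_card])
      (by rw [hpre]; exact hJ)
  -- hence `K` is the stabilizer and `G` is primitive on `Ω`
  have hKeq : K = stabilizer G a := by
    apply le_antisymm _ hKle
    intro g hg
    rw [mem_stabilizer_iff]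
    apply hinj
    have h1 := hπa g
    have h2 := hπa 1
    rw [one_smul] at h2
    rw [h1, h2, QuotientGroup.eq, mul_one]
    exact K.inv_mem hg
  have hprim : IsPreprimitive G Ω := by
    rw [← isCoatom_stabilizer_iff_preprimitive G a, ← hKeq]
    exact hKco
  exact marggraf_primitive hprim hJ hΓ1 (by rw [hNc]; exact hΓ2)

end Cfsg.Agent.Helper1.Marg
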