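import Mathlib
import Cfsg.Agent.Helper1.MaxClass2Group
import Cfsg.Agent.Helper1.AbelianMaximal
import Cfsg.Agent.Helper1.Supersolvable6

set_option autoImplicit false

/-!
Taussky: a 2-group of order `2 ^ n`, `n ≥ 3`, has maximal class iff `X / X'` is a four-group.
-/

namespace Cfsg.Agent.Helper1

open scoped commutatorElement

universe u

theorem isKleinFour_abelianization_iff {X : Type u} [Group X] [Finite X] :
    IsKleinFour (X ⧸ commutator X) ↔
      (commutator X).index = 4 ∧ ∀ x : X, x ^ 2 ∈ commutator X := by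
  constructor
  · intro h
    refine ⟨h.card_four, ?_⟩
    intro x
    have := Monoid.pow_exponent_eq_one (QuotientGroup.mk x : X ⧸ commutator X)
    rw [h.exponent_two, ← QuotientGroup.mk_pow, QuotientGroup.eq_one_iff] at this
    exact this
  · rintro ⟨h4, hsq⟩
    refine ⟨h4, ?_⟩
    have hdvd : Monoid.exponent (X ⧸ commutator X) ∣ 2 := by
      apply Monoid.exponent_dvd_of_forall_pow_eq_one
      intro q
      obtain ⟨x, rfl⟩ := QuotientGroup.mk_surjective q
      rw [← QuotientGroup.mk_pow, QuotientGroup.eq_one_iff]; exact hsq x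
    rcases (Nat.dvd_prime Nat.prime_two).1 hdvd with h | h
    · exfalso
      rw [Monoid.exp_eq_one_iff] at h
      have h1 : Nat.card (X ⧸ commutator X) = 1 := Nat.card_of_subsingleton 1
      have h2 : Nat.card (X ⧸ commutator X) = 4 := h4
      omega
    · exact h

theorem commutator_eq_bot_of_comm {X : Type u} [Group X] (h : ∀ a b : X, a * b = b * a) :
    commutator X = ⊥ := by
  rw [eq_bot_iff, commutator_def, Subgroup.commutator_le]
  intro g _ k _
  rw [Subgroup.mem_bot, commutatorElement_eq_one_iff_mul_comm]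
  exact h g k

theorem pow_two_pred_mul (n : ℕ) (hn : 1 ≤ n) : (2 : ℕ) ^ n = 2 ^ (n - 1) * 2 := by
  rw [← pow_succ]; congr 1; omega

set_option maxHeartbeats 400000 in
/-- maximal class implies `X / X'` is a four-group -/
theorem maxClass_kleinFour {X : Type u} [Group X] [Finite X] (n : ℕ) (hn : 3 ≤ n)
    (hX : Nat.card X = 2 ^ n) (hc : Group.nilpotencyClass X = n - 1) :
    IsKleinFour (X ⧸ commutator X) := by
  rw [isKleinFour_abelianization_iff]
  haveI : Fact (Nat.Prime 2) := ⟨Nat.prime_two⟩
  have hXp : IsPGroup 2 X := IsPGroup.of_card hX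
  obtain ⟨C, hCc, hCi⟩ := exists_cyclic_index_two n hn X hX hc
  haveI := hCc
  obtain ⟨hZ, hQ, -⟩ := maxClass_center (p := 2) n hn hX hc
  obtain ⟨c, hcC, hCz⟩ := exists_eq_zpowers_of_isCyclic C
  have hCcomm : ∀ a ∈ C, ∀ b ∈ C, a * b = b * a := by
    intro a ha b hb
    rw [hCz] at ha hb
    obtain ⟨i, rfl⟩ := Subgroup.mem_zpowers_iff.1 ha
    obtain ⟨j, rfl⟩ := Subgroup.mem_zpowers_iff.1 hb
    rw [← zpow_add, ← zpow_add, add_comm]
  have hCcard : Nat.card C = 2 ^ (n - 1) := by
    have h1 := Subgroup.card_mul_index C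
    rw [hCi, hX, pow_two_pred_mul n (by omega)] at h1
    exact Nat.eq_of_mul_eq_mul_right (by norm_num) h1
  have hnc := not_comm_of_class (X := X) hn hc
  have hZC : Subgroup.center X ≤ C := by
    intro z hz
    by_contra hzC
    apply hnc
    exact ⟨⟨comm_of_index_two_of_commute C hCi hCcomm z hzC
      (fun m _ => (Subgroup.mem_center_iff.1 hz m).symm)⟩⟩
  obtain ⟨y, hy⟩ : ∃ y : X, y ∉ C := by
    by_contra h
    have htop : C = ⊤ := by
      rw [eq_top_iff]
      intro x _
      by_contra hx
      exact h ⟨x, hx⟩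
    rw [htop, Subgroup.index_top] at hCi
    omega
  have hcard := card_eq_card_commutator_mul C hCi hCcomm y hy
  rw [inf_eq_right.2 hZC, hZ, hCcard, pow_two_pred_mul (n - 1) (by omega)] at hcard
  have hX'card : Nat.card (commutator X) = 2 ^ (n - 2) := by
    have := Nat.eq_of_mul_eq_mul_right (by norm_num) hcard
    rw [← this]; congr 1
  have hX'idx : (commutator X).index = 4 := by
    have h1 := Subgroup.card_mul_index (commutator X)
    rw [hX'card, hX] at h1
    have h2 : (2 : ℕ) ^ n = 2 ^ (n - 2) * 4 := by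
      have : (4 : ℕ) = 2 ^ 2 := by norm_num
      rw [this, ← pow_add]; congr 1; omega
    rw [h2] at h1
    exact Nat.eq_of_mul_eq_mul_left (by positivity) h1
  refine ⟨hX'idx, ?_⟩
  have hX'C : commutator X ≤ C := commutator_le_of_index_two C hCi
  -- the centre lies in X'
  have hX'ne : commutator X ≠ ⊥ := by
    intro h
    rw [h, Subgroup.card_bot] at hX'card
    have : 2 ^ 1 ≤ 2 ^ (n - 2) := Nat.pow_le_pow_right (by norm_num) (by omega)
    omega
  have hZX' : Subgroup.center X ≤ commutator X := by
    obtain ⟨b, hbN, hb1, hbc⟩ :=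
      Cfsg.Agent.Helper5.exists_ne_one_mem_center_of_normal hXp (commutator X) hX'ne
    have hbZ : b ∈ Subgroup.center X := by
      rw [Subgroup.mem_center_iff]
      intro g; exact hbc g
    have h1 : Subgroup.zpowers b = Subgroup.center X := by
      apply Subgroup.eq_of_le_of_card_ge (Subgroup.zpowers_le.2 hbZ)
      rw [hZ, Nat.card_zpowers]
      have h2 : orderOf b ≠ 1 := by
        rw [Ne, orderOf_eq_one_iff]; exact hb1
      have h3 : 0 < orderOf b := orderOf_pos b
      omega
    rw [← h1]
    exact Subgroup.zpowers_le.2 hbN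
  intro x
  by_cases hx : x ∈ C
  · have hrel : (commutator X).relIndex C = 2 := by
      have h1 := Subgroup.relIndex_mul_index hX'C
      rw [hCi, hX'idx] at h1
      omega
    have h2 : ((⟨x, hx⟩ : C)) ^ 2 ∈ (commutator X).subgroupOf C :=
      Subgroup.sq_mem_of_index_two hrel _
    rw [Subgroup.mem_subgroupOf] at h2
    exact h2
  · have := sq_mem_center_of_index_two C hCi hCcomm x hx
    rw [sq]
    exact hZX' this


theorem class_of_quotient_eq_center {X : Type u} [Group X] [Group.IsNilpotent X] [Nontrivial X]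
    (Z₀ : Subgroup X) [Z₀.Normal] (h : Z₀ = Subgroup.center X) (k : ℕ)
    (hcl : Group.nilpotencyClass (X ⧸ Z₀) = k) : Group.nilpotencyClass X = k + 1 := by
  subst h
  rw [Group.nilpotencyClass_eq_quotient_center_plus_one, hcl]

set_option maxHeartbeats 800000 in
/-- `X / X'` a four-group implies maximal class -/
theorem maxClass_of_kleinFour : ∀ (n : ℕ), 3 ≤ n → ∀ (X : Type u) [Group X] [Finite X],
    Nat.card X = 2 ^ n → (commutator X).index = 4 → (∀ x : X, x ^ 2 ∈ commutator X) →
    Group.nilpotencyClass X = n - 1 := by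
  intro n hn
  induction n, hn using Nat.le_induction with
  | base =>
    intro X _ _ hX hidx hsq
    haveI : Fact (Nat.Prime 2) := ⟨Nat.prime_two⟩
    have hXp : IsPGroup 2 X := IsPGroup.of_card hX
    haveI hnil : Group.IsNilpotent X := hXp.isNilpotent
    have h1 := nilpotencyClass_le_pred (p := 2) 3 X hX (by norm_num)
    have h2 : ¬ Group.nilpotencyClass X ≤ 1 := by
      rw [Group.IsNilpotent.nilpotencyClass_le_one_iff]
      intro hcomm
      have h3 := commutator_eq_bot_of_comm (X := X) (fun a b => hcomm.is_comm.comm a b)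
      rw [h3, Subgroup.index_bot, hX] at hidx
      omega
    omega
  | succ n hn ih =>
    intro X _ _ hX hidx hsq
    haveI : Fact (Nat.Prime 2) := ⟨Nat.prime_two⟩
    have hXp : IsPGroup 2 X := IsPGroup.of_card hX
    haveI hnil : Group.IsNilpotent X := hXp.isNilpotent
    haveI hnt : Nontrivial X := by
      rw [← Finite.one_lt_card_iff_nontrivial, hX]
      exact Nat.one_lt_pow (by omega) (by norm_num)
    -- |X'| = 2 ^ (n - 1)
    have hX'card : Nat.card (commutator X) = 2 ^ (n - 1) := by
      have h1 := Subgroup.card_mul_index (commutator X)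
      rw [hidx, hX] at h1
      have h2 : (2 : ℕ) ^ (n + 1) = 2 ^ (n - 1) * 4 := by
        have : (4 : ℕ) = 2 ^ 2 := by norm_num
        rw [this, ← pow_add]; congr 1; omega
      rw [h2] at h1
      exact Nat.eq_of_mul_eq_mul_right (by norm_num) h1
    have hX'ne : commutator X ≠ ⊥ := by
      intro h
      rw [h, Subgroup.card_bot] at hX'card
      have : 2 ^ 1 ≤ 2 ^ (n - 1) := Nat.pow_le_pow_right (by norm_num) (by omega)
      omega
    have hnc : ¬ ∀ a b : X, a * b = b * a := fun h => hX'ne (commutator_eq_bot_of_comm h)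
    -- a central involution in X'
    obtain ⟨b, hbX', hbo, hbc⟩ := Cfsg.Agent.Helper5.exists_orderOf_eq_prime_central (p := 2)
      (⊤ : Subgroup X) (commutator X) (hXp.to_subgroup _) le_top hX'ne
      (by rw [Subgroup.normalizer_eq_top])
    have hbZ : b ∈ Subgroup.center X := by
      rw [Subgroup.mem_center_iff]
      intro g; exact hbc g (Subgroup.mem_top g)
    haveI hZ₀n : (Subgroup.zpowers b).Normal := normal_zpowers_of_mem_center b hbZ
    have hZ₀card : Nat.card (Subgroup.zpowers b) = 2 := by rw [Nat.card_zpowers, hbo]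
    have hZ₀X' : Subgroup.zpowers b ≤ commutator X := Subgroup.zpowers_le.2 hbX'
    have hZ₀Z : Subgroup.zpowers b ≤ Subgroup.center X := Subgroup.zpowers_le.2 hbZ
    -- the quotient
    have hQcard : Nat.card (X ⧸ Subgroup.zpowers b) = 2 ^ n := by
      have h1 := Subgroup.card_eq_card_quotient_mul_card_subgroup (Subgroup.zpowers b)
      rw [hX, hZ₀card, pow_succ] at h1
      exact (Nat.eq_of_mul_eq_mul_right (by norm_num) h1).symm
    have hQcomm : commutator (X ⧸ Subgroup.zpowers b) =
        (commutator X).map (QuotientGroup.mk' (Subgroup.zpowers b)) := by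
      rw [commutator_def, commutator_def, Subgroup.map_commutator,
        Subgroup.map_top_of_surjective _ (QuotientGroup.mk'_surjective _)]
    have hQidx : (commutator (X ⧸ Subgroup.zpowers b)).index = 4 := by
      rw [← Subgroup.index_comap_of_surjective _ (QuotientGroup.mk'_surjective (Subgroup.zpowers b)),
        hQcomm, Subgroup.comap_map_eq, QuotientGroup.ker_mk', sup_eq_left.2 hZ₀X']
      exact hidx
    have hQsq : ∀ q : X ⧸ Subgroup.zpowers b, q ^ 2 ∈ commutator (X ⧸ Subgroup.zpowers b) := by
      intro q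
      obtain ⟨x, rfl⟩ := QuotientGroup.mk_surjective q
      rw [hQcomm]
      exact ⟨x ^ 2, hsq x, by simp⟩
    have hQcl := ih (X ⧸ Subgroup.zpowers b) hQcard hQidx hQsq
    obtain ⟨Cbar, hCc, hCi⟩ := exists_cyclic_index_two n hn (X ⧸ Subgroup.zpowers b) hQcard hQcl
    haveI := hCc
    obtain ⟨g, hCg, hM⟩ := exists_gen_of_cyclic_quotient (Subgroup.zpowers b) Cbar
    set M : Subgroup X := Cbar.comap (QuotientGroup.mk' (Subgroup.zpowers b)) with hMdef
    have hMi : M.index = 2 := by
      rw [hMdef, Subgroup.index_comap_of_surjective _ (QuotientGroup.mk'_surjective _)]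
      exact hCi
    have hMc : ∀ a ∈ M, ∀ c ∈ M, a * c = c * a := by
      intro a ha c hc
      obtain ⟨k, z, hz, rfl⟩ := hM a ha
      obtain ⟨l, w, hw, rfl⟩ := hM c hc
      have hzc : ∀ t : X, z * t = t * z := fun t =>
        (Subgroup.mem_center_iff.1 (hZ₀Z hz) t).symm
      have hwc : ∀ t : X, w * t = t * w := fun t =>
        (Subgroup.mem_center_iff.1 (hZ₀Z hw) t).symm
      have hgg : g ^ k * g ^ l = g ^ l * g ^ k := by
        rw [← zpow_add, ← zpow_add, add_comm]
      calc g ^ k * z * (g ^ l * w) = g ^ k * (z * g ^ l) * w := by group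
        _ = g ^ k * (g ^ l * z) * w := by rw [hzc]
        _ = (g ^ k * g ^ l) * (z * w) := by group
        _ = (g ^ l * g ^ k) * (w * z) := by rw [hgg, hzc w]
        _ = g ^ l * (g ^ k * w) * z := by group
        _ = g ^ l * (w * g ^ k) * z := by rw [hwc]
        _ = g ^ l * w * (g ^ k * z) := by group
    obtain ⟨y, hy⟩ : ∃ y : X, y ∉ M := by
      by_contra h
      have htop : M = ⊤ := by
        rw [eq_top_iff]
        intro x _
        by_contra hx
        exact h ⟨x, hx⟩
      rw [htop, Subgroup.index_top] at hMi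
      omega
    have hMcard : Nat.card M = 2 ^ n := by
      have h1 := Subgroup.card_mul_index M
      rw [hMi, hX, pow_succ] at h1
      exact Nat.eq_of_mul_eq_mul_right (by norm_num) h1
    have hZM : Subgroup.center X ≤ M := by
      intro z hz
      by_contra hzM
      apply hnc
      exact comm_of_index_two_of_commute M hMi hMc z hzM
        (fun m _ => (Subgroup.mem_center_iff.1 hz m).symm)
    have hcard := card_eq_card_commutator_mul M hMi hMc y hy
    rw [inf_eq_right.2 hZM, hX'card, hMcard, pow_two_pred_mul n (by omega)] at hcard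
    have hZcard : Nat.card (Subgroup.center X) = 2 :=
      (Nat.eq_of_mul_eq_mul_left (by positivity) hcard).symm
    have hZeq : Subgroup.zpowers b = Subgroup.center X :=
      Subgroup.eq_of_le_of_card_ge hZ₀Z (by rw [hZcard, hZ₀card])
    have := class_of_quotient_eq_center (Subgroup.zpowers b) hZeq (n - 1) hQcl
    rw [this]; omega

/-- **Taussky.** -/
theorem maxClass_iff_kleinFour {X : Type u} [Group X] [Finite X] (n : ℕ) (hn : 3 ≤ n)
    (hX : Nat.card X = 2 ^ n) :
    Group.nilpotencyClass X = n - 1 ↔ IsKleinFour (X ⧸ commutator X) := by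
  constructor
  · exact maxClass_kleinFour n hn hX
  · intro h
    rw [isKleinFour_abelianization_iff] at h
    exact maxClass_of_kleinFour n hn X hX h.1 h.2

end Cfsg.Agent.Helper1
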