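import Mathlib

set_option autoImplicit false

/-!
Pure arithmetic: a common multiple `k` of the numbers `q ^ a + 1` (`a ∈ lP`) and `q ^ a - 1`
(`a ∈ lM`) with `(q - 1) * k ≤ q ^ (lP.sum + lM.sum + 1)`.
-/

namespace Cfsg.Agent.Helper1.MeoArith

/-- the key inequality for distinct `2`-power exponents. -/
theorem key (q : ℕ) (hq : 2 ≤ q) (S : Finset ℕ) :
    (q - 1) * ∏ v ∈ S, (q ^ (2 ^ v) + 1) + 1 ≤ q ^ ((∑ v ∈ S, 2 ^ v) + 1) := by
  induction S using Finset.induction_on_max with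
  | empty =>
    simp only [Finset.prod_empty, Finset.sum_empty, mul_one, zero_add, pow_one]
    omega
  | insert m S' hmax ih =>
    have hm : m ∉ S' := fun h => lt_irrefl m (hmax m h)
    rw [Finset.prod_insert hm, Finset.sum_insert hm]
    have hlt : ∑ v ∈ S', 2 ^ v < 2 ^ m := Nat.geomSum_lt (le_refl 2) hmax
    set n' := ∑ v ∈ S', 2 ^ v with hn'
    set X := (q - 1) * ∏ v ∈ S', (q ^ (2 ^ v) + 1) with hX
    have hq1 : 1 ≤ q := by omega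
    have hAB : q ^ (n' + 1) ≤ q ^ (2 ^ m) := Nat.pow_le_pow_right hq1 (by omega)
    have e1 : (q - 1) * ((q ^ (2 ^ m) + 1) * ∏ v ∈ S', (q ^ (2 ^ v) + 1)) = X * (q ^ (2 ^ m) + 1) := by
      rw [hX]; ring
    have e2 : q ^ (2 ^ m + n' + 1) = q ^ (n' + 1) * q ^ (2 ^ m) := by
      rw [← pow_add]; congr 1; omega
    rw [e1, e2]
    have h1 : (X + 1) * (q ^ (2 ^ m) + 1) ≤ q ^ (n' + 1) * (q ^ (2 ^ m) + 1) :=
      Nat.mul_le_mul_right _ ih
    nlinarith [h1, hAB]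

/-- the `2`-part decomposition of `q ^ a + 1`. -/
theorem split (q : ℕ) (hq : 2 ≤ q) (a : ℕ) (ha : 1 ≤ a) :
    ∃ (v H : ℕ), 1 ≤ H ∧ q ^ a + 1 = (q ^ (2 ^ v) + 1) * H ∧ H * q ^ (2 ^ v) ≤ q ^ a := by
  have ha0 : a ≠ 0 := by omega
  have hdec : 2 ^ (a.factorization 2) * (a / 2 ^ (a.factorization 2)) = a :=
    Nat.ordProj_mul_ordCompl_eq_self a 2
  have hodd : ¬ 2 ∣ a / 2 ^ (a.factorization 2) := Nat.not_dvd_ordCompl Nat.prime_two ha0
  set v := a.factorization 2 with hv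
  set b := a / 2 ^ v with hb
  have hbodd : Odd b := Nat.odd_iff.mpr (by omega)
  set Q := q ^ (2 ^ v) with hQ
  have hQa : q ^ a = Q ^ b := by
    rw [hQ, ← pow_mul, hdec]
  have hdvd : Q + 1 ∣ Q ^ b + 1 := by
    have := Odd.nat_add_dvd_pow_add_pow Q 1 hbodd
    simpa using this
  obtain ⟨H, hH⟩ := hdvd
  have hQ1 : 1 ≤ Q := Nat.one_le_pow _ _ (by omega)
  have hb1 : 1 ≤ b := by
    rcases hbodd with ⟨c, hc⟩
    omega
  -- `Q ^ b + 1 ≤ Q ^ (b - 1) * (Q + 1)`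
  have hpow : Q ^ b = Q ^ (b - 1) * Q := by
    rw [← pow_succ]; congr 1; omega
  have hQb1 : 1 ≤ Q ^ (b - 1) := Nat.one_le_pow _ _ hQ1
  have hHle : H ≤ Q ^ (b - 1) := by
    have h2 : (Q + 1) * H ≤ (Q + 1) * Q ^ (b - 1) := by
      rw [← hH, hpow]; nlinarith
    exact Nat.le_of_mul_le_mul_left h2 (by omega)
  have hH1 : 1 ≤ H := by
    rcases Nat.eq_zero_or_pos H with h0 | h0
    · rw [h0, mul_zero] at hH; omega
    · exact h0
  refine ⟨v, H, hH1, ?_, ?_⟩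
  · rw [hQa, hH]
  · rw [hQa, hpow]
    exact Nat.mul_le_mul_right _ hHle

/-- plus part, inductive form. -/
theorem plus_aux (q : ℕ) (hq : 2 ≤ q) (l : List ℕ) (hl : ∀ a ∈ l, 1 ≤ a) :
    ∃ (S : Finset ℕ) (h : ℕ), 1 ≤ h ∧
      (∀ a ∈ l, q ^ a + 1 ∣ (∏ v ∈ S, (q ^ (2 ^ v) + 1)) * h) ∧
      h * q ^ (∑ v ∈ S, 2 ^ v) ≤ q ^ l.sum := by
  induction l with
  | nil =>
    refine ⟨∅, 1, le_refl 1, ?_, ?_⟩
    · intro a ha
      exact absurd ha (List.not_mem_nil)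
    · simp
  | cons a l' ih =>
    obtain ⟨S', h', hh', hdiv', hbd'⟩ := ih (fun x hx => hl x (List.mem_cons_of_mem _ hx))
    obtain ⟨v, H, hH1, hsplit, hHQ⟩ := split q hq a (hl a List.mem_cons_self)
    have hq1 : 1 ≤ q := by omega
    refine ⟨insert v S', H * h', ?_, ?_, ?_⟩
    · exact Nat.one_le_iff_ne_zero.mpr (Nat.mul_ne_zero (by omega) (by omega))
    · intro x hx
      rcases List.mem_cons.mp hx with rfl | hx'
      · rw [hsplit]
        apply mul_dvd_mul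
        · exact Finset.dvd_prod_of_mem (fun w => q ^ (2 ^ w) + 1) (Finset.mem_insert_self v S')
        · exact dvd_mul_right _ _
      · refine dvd_trans (hdiv' x hx') ?_
        apply mul_dvd_mul
        · exact Finset.prod_dvd_prod_of_subset _ _ _ (Finset.subset_insert v S')
        · exact dvd_mul_left _ _
    · rw [List.sum_cons, pow_add]
      by_cases hvS : v ∈ S'
      · rw [Finset.insert_eq_of_mem hvS]
        have hHa : H ≤ q ^ a := by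
          have : 1 ≤ q ^ (2 ^ v) := Nat.one_le_pow _ _ hq1
          calc H = H * 1 := (mul_one H).symm
            _ ≤ H * q ^ (2 ^ v) := Nat.mul_le_mul_left _ this
            _ ≤ q ^ a := hHQ
        calc H * h' * q ^ (∑ w ∈ S', 2 ^ w) = H * (h' * q ^ (∑ w ∈ S', 2 ^ w)) := by ring
          _ ≤ q ^ a * q ^ l'.sum := Nat.mul_le_mul hHa hbd'
      · rw [Finset.sum_insert hvS, pow_add]
        calc H * h' * (q ^ (2 ^ v) * q ^ (∑ w ∈ S', 2 ^ w))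
            = (H * q ^ (2 ^ v)) * (h' * q ^ (∑ w ∈ S', 2 ^ w)) := by ring
          _ ≤ q ^ a * q ^ l'.sum := Nat.mul_le_mul hHQ hbd'

/-- plus part. -/
theorem exists_mult_plus (q : ℕ) (hq : 2 ≤ q) (l : List ℕ) (hl : ∀ a ∈ l, 1 ≤ a) :
    ∃ k : ℕ, 1 ≤ k ∧ (∀ a ∈ l, q ^ a + 1 ∣ k) ∧ (q - 1) * k ≤ q ^ (l.sum + 1) := by
  obtain ⟨S, h, hh, hdiv, hbd⟩ := plus_aux q hq l hl
  have hkey := key q hq S
  refine ⟨(∏ v ∈ S, (q ^ (2 ^ v) + 1)) * h, ?_, hdiv, ?_⟩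
  · apply Nat.one_le_iff_ne_zero.mpr
    apply Nat.mul_ne_zero _ (by omega)
    apply Finset.prod_ne_zero_iff.mpr
    intro v _
    omega
  · have h1 : (q - 1) * ∏ v ∈ S, (q ^ (2 ^ v) + 1) ≤ q ^ ((∑ v ∈ S, 2 ^ v) + 1) := by omega
    calc (q - 1) * ((∏ v ∈ S, (q ^ (2 ^ v) + 1)) * h)
        = ((q - 1) * ∏ v ∈ S, (q ^ (2 ^ v) + 1)) * h := by ring
      _ ≤ q ^ ((∑ v ∈ S, 2 ^ v) + 1) * h := Nat.mul_le_mul_right _ h1
      _ = (h * q ^ (∑ v ∈ S, 2 ^ v)) * q := by rw [pow_succ]; ring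
      _ ≤ q ^ l.sum * q := Nat.mul_le_mul_right _ hbd
      _ = q ^ (l.sum + 1) := by rw [pow_succ]

/-- minus part. -/
theorem exists_mult_minus (q : ℕ) (hq : 2 ≤ q) (l : List ℕ) (hl : ∀ a ∈ l, 1 ≤ a) :
    ∃ k : ℕ, 1 ≤ k ∧ (∀ a ∈ l, q ^ a - 1 ∣ k) ∧ k ≤ q ^ l.sum := by
  induction l with
  | nil =>
    refine ⟨1, le_refl 1, ?_, ?_⟩
    · intro a ha
      exact absurd ha (List.not_mem_nil)
    · simp
  | cons a l' ih =>
    obtain ⟨k', hk', hdiv', hbd'⟩ := ih (fun x hx => hl x (List.mem_cons_of_mem _ hx))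
    have ha : 1 ≤ a := hl a List.mem_cons_self
    have hqa : 2 ≤ q ^ a := by
      calc 2 ≤ q := hq
        _ = q ^ 1 := (pow_one q).symm
        _ ≤ q ^ a := Nat.pow_le_pow_right (by omega) ha
    refine ⟨(q ^ a - 1) * k', ?_, ?_, ?_⟩
    · exact Nat.one_le_iff_ne_zero.mpr (Nat.mul_ne_zero (by omega) (by omega))
    · intro x hx
      rcases List.mem_cons.mp hx with rfl | hx'
      · exact dvd_mul_right _ _
      · exact dvd_mul_of_dvd_right (hdiv' x hx') _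
    · rw [List.sum_cons, pow_add]
      exact Nat.mul_le_mul (by omega) hbd'

theorem exists_mult (q : ℕ) (hq : 2 ≤ q) (lP lM : List ℕ) (hP : ∀ a ∈ lP, 1 ≤ a)
    (hM : ∀ a ∈ lM, 1 ≤ a) :
    ∃ k : ℕ, 1 ≤ k ∧ (∀ a ∈ lP, q ^ a + 1 ∣ k) ∧ (∀ a ∈ lM, q ^ a - 1 ∣ k) ∧
      (q - 1) * k ≤ q ^ (lP.sum + lM.sum + 1) := by
  obtain ⟨kP, hkP, hdP, hbP⟩ := exists_mult_plus q hq lP hP
  obtain ⟨kM, hkM, hdM, hbM⟩ := exists_mult_minus q hq lM hM
  refine ⟨kM * kP, ?_, ?_, ?_, ?_⟩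
  · exact Nat.one_le_iff_ne_zero.mpr (Nat.mul_ne_zero (by omega) (by omega))
  · intro a ha
    exact dvd_mul_of_dvd_right (hdP a ha) _
  · intro a ha
    exact dvd_mul_of_dvd_left (hdM a ha) _
  · calc (q - 1) * (kM * kP) = kM * ((q - 1) * kP) := by ring
      _ ≤ q ^ lM.sum * q ^ (lP.sum + 1) := Nat.mul_le_mul hbM hbP
      _ = q ^ (lP.sum + lM.sum + 1) := by rw [← pow_add]; congr 1; omega

end Cfsg.Agent.Helper1.MeoArith
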