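import Mathlib
import Cfsg.Prelude.Def_SolvableStructure
import Cfsg.Agent.Helper1.Basic
import Cfsg.Agent.Helper1.Coprime
import Cfsg.Agent.Helper1.Card
import Cfsg.Agent.Helper1.PGroup
import Cfsg.Agent.Helper1.Fitting
import Cfsg.Agent.Helper1.FrattiniAct
import Cfsg.Agent.Helper1.MinNonNilp
import Cfsg.Agent.Helper1.MillerMoreno

set_option autoImplicit false

/-!
More on minimal non-nilpotent groups.
-/

namespace Cfsg.Agent.Helper1

open scoped Pointwise commutatorElement

universe u

variable {G : Type u} [Group G]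

theorem sylow_eq_of_normal [Finite G] {p : ℕ} [Fact p.Prime] (P R : Sylow p G)
    (hP : (P : Subgroup G).Normal) : R = P := by
  obtain ⟨g, hg⟩ := MulAction.exists_smul_eq G P R
  rw [← hg, Sylow.smul_eq_of_normal]

/-- two normal Sylow subgroups generating `G` force nilpotency. -/
theorem isNilpotent_of_two_normal_sylow [Finite G] {p q : ℕ} [hp : Fact p.Prime]
    [hq : Fact q.Prime]
    (P : Sylow p G) (Q : Sylow q G) (hP : (P : Subgroup G).Normal) (hQ : (Q : Subgroup G).Normal)
    (hsup : (P : Subgroup G) ⊔ Q = ⊤) : Group.IsNilpotent G := by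
  have t := (Group.isNilpotent_of_finite_tfae (G := G)).out 0 3
  rw [t]
  intro r hr R
  by_cases hrp : r = p
  · subst hrp
    rw [sylow_eq_of_normal P R hP]; exact hP
  by_cases hrq : r = q
  · subst hrq
    rw [sylow_eq_of_normal Q R hQ]; exact hQ
  have hcard : Nat.card G ∣ Nat.card (P : Subgroup G) * Nat.card (Q : Subgroup G) := by
    have := card_sup_dvd (P : Subgroup G) (Q : Subgroup G)
    rwa [hsup, Subgroup.card_top] at this
  obtain ⟨a, ha⟩ := IsPGroup.iff_card.1 P.2
  obtain ⟨b, hb⟩ := IsPGroup.iff_card.1 Q.2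
  obtain ⟨c, hc⟩ := IsPGroup.iff_card.1 R.2
  have h1 : Nat.card (R : Subgroup G) ∣ p ^ a * q ^ b := by
    rw [← ha, ← hb]; exact (Subgroup.card_subgroup_dvd_card _).trans hcard
  have h2 : Nat.Coprime (r ^ c) (p ^ a * q ^ b) := by
    apply Nat.Coprime.mul_right
    · exact Nat.Coprime.pow _ _ ((Nat.coprime_primes hr.out hp.out).2 hrp)
    · exact Nat.Coprime.pow _ _ ((Nat.coprime_primes hr.out hq.out).2 hrq)
  have h3 : Nat.card (R : Subgroup G) = 1 := by
    rw [hc] at h1 ⊢
    exact Nat.Coprime.eq_one_of_dvd h2 h1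
  rw [Subgroup.card_eq_one] at h3
  rw [h3]; infer_instance

/-- Structure of a minimal non-nilpotent group, relative to a given normal Sylow subgroup. -/
theorem minNonNilp_structure' [Finite G] (hG : Cfsg.IsMinimalNonNilpotent G) (q : ℕ)
    [hq : Fact q.Prime] (hqd : q ∣ Nat.card G) (Q : Sylow q G) (hQ : (Q : Subgroup G).Normal) :
    ∃ p : ℕ, p.Prime ∧ p ≠ q ∧ ∃ P : Sylow p G, IsCyclic P ∧ (P : Subgroup G) ⊔ Q = ⊤ := by
  obtain ⟨p', q', hp', hq', hpq, P, Q', hPc, hQ'n, hsup⟩ := minNonNilp_structure hG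
  have hpF : Fact p'.Prime := ⟨hp'⟩
  have hqF : Fact q'.Prime := ⟨hq'⟩
  have hcard : Nat.card G ∣ Nat.card (P : Subgroup G) * Nat.card (Q' : Subgroup G) := by
    have := card_sup_dvd (P : Subgroup G) (Q' : Subgroup G)
    rwa [hsup, Subgroup.card_top] at this
  obtain ⟨a, ha⟩ := IsPGroup.iff_card.1 P.2
  obtain ⟨b, hb⟩ := IsPGroup.iff_card.1 Q'.2
  have h1 : q ∣ p' ^ a * q' ^ b := by
    rw [← ha, ← hb]; exact hqd.trans hcard
  rcases (Nat.Prime.dvd_mul hq.out).1 h1 with h | h
  · have hqp : q = p' := (Nat.prime_dvd_prime_iff_eq hq.out hp').1 (hq.out.dvd_of_dvd_pow h)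
    subst hqp
    exfalso
    have hPn : (P : Subgroup G).Normal := by
      rw [sylow_eq_of_normal Q P hQ]; exact hQ
    exact hG.1 (isNilpotent_of_two_normal_sylow P Q' hPn hQ'n hsup)
  · have hqq : q = q' := (Nat.prime_dvd_prime_iff_eq hq.out hq').1 (hq.out.dvd_of_dvd_pow h)
    subst hqq
    refine ⟨p', hp', hpq, P, hPc, ?_⟩
    rw [sylow_eq_of_normal Q' Q hQ'n]
    exact hsup

theorem minNonNilp_quotient [Finite G] (hG : Cfsg.IsMinimalNonNilpotent G) (q : ℕ)
    [hq : Fact q.Prime] (hqd : q ∣ Nat.card G) (Q : Sylow q G) (hQ : (Q : Subgroup G).Normal)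
    (D : Subgroup G) [hDn : D.Normal]
    (hD : D = (commutator ↥(Q : Subgroup G)).map (Q : Subgroup G).subtype) :
    ¬ IsMulCommutative (G ⧸ D) ∧ ∀ K : Subgroup (G ⧸ D), K ≠ ⊤ → IsMulCommutative K := by
  classical
  obtain ⟨p, hp, hpq, P, hPc, hsup⟩ := minNonNilp_structure' hG q hqd Q hQ
  have hpF : Fact p.Prime := ⟨hp⟩
  obtain ⟨a, ha⟩ := IsPGroup.iff_card.1 P.2
  obtain ⟨b, hb⟩ := IsPGroup.iff_card.1 Q.2
  have hcop : (Nat.card (P : Subgroup G)).Coprime (Nat.card (Q : Subgroup G)) := by
    rw [ha, hb]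
    exact Nat.Coprime.pow _ _ ((Nat.coprime_primes hp hq.out).2 hpq)
  have hDQ : D ≤ Q := by rw [hD]; exact Subgroup.map_subtype_le _
  have hPnorm : (P : Subgroup G) ≤ Subgroup.normalizer ((Q : Subgroup G) : Set G) := by
    rw [Subgroup.normalizer_eq_top_iff.2 hQ]; exact le_top
  constructor
  · intro hcomm
    have hDΦ : D ≤ (frattini (Q : Subgroup G)).map (Q : Subgroup G).subtype := by
      rw [hD]; exact Subgroup.map_mono (IsPGroup.commutator_le_frattini Q.2)
    have hPQ : (P : Subgroup G) ≤ Subgroup.centralizer ((Q : Subgroup G) : Set G) := by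
      apply frattini_coprime_trivial _ _ hPnorm
      · exact Nat.Coprime.coprime_dvd_right (Subgroup.card_subgroup_dvd_card _) hcop
      · intro x hx k hk
        apply hDΦ
        rw [← QuotientGroup.eq_one_iff]
        simp only [QuotientGroup.mk_mul, QuotientGroup.mk_inv]
        rw [mul_comm' (x : G ⧸ D) k]
        group
    have hPn : (P : Subgroup G).Normal := by
      rw [← Subgroup.normalizer_eq_top_iff, eq_top_iff, ← hsup]
      exact sup_le Subgroup.le_normalizer
        ((Subgroup.le_centralizer_iff.1 hPQ).trans (Subgroup.centralizer_le_normalizer _))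
    exact hG.1 (isNilpotent_of_two_normal_sylow P Q hPn hQ hsup)
  · intro K hK
    set H := K.comap (QuotientGroup.mk' D) with hH
    have hHtop : H ≠ ⊤ := by
      intro h
      apply hK
      rw [← Subgroup.map_comap_eq_self_of_surjective (QuotientGroup.mk'_surjective D) K, ← hH, h,
        ← MonoidHom.range_eq_map, MonoidHom.range_eq_top.2 (QuotientGroup.mk'_surjective D)]
    have hHnil := hG.2 H hHtop
    -- `G ⧸ Q` is cyclic
    have hGQ : ∀ x y : G, x * y * x⁻¹ * y⁻¹ ∈ (Q : Subgroup G) := by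
      have hsurj : Function.Surjective
          ((QuotientGroup.mk' (Q : Subgroup G)).comp (P : Subgroup G).subtype) := by
        rw [← MonoidHom.range_eq_top, MonoidHom.range_comp, Subgroup.range_subtype]
        have : ((P : Subgroup G) ⊔ Q).map (QuotientGroup.mk' (Q : Subgroup G)) = ⊤ := by
          rw [hsup, ← MonoidHom.range_eq_map, MonoidHom.range_eq_top]
          exact QuotientGroup.mk'_surjective _
        rwa [Subgroup.map_sup, QuotientGroup.map_mk'_self, sup_bot_eq] at this
      have hcyc : IsCyclic (G ⧸ (Q : Subgroup G)) := isCyclic_of_surjective _ hsurj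
      intro x y
      rw [← QuotientGroup.eq_one_iff]
      simp only [QuotientGroup.mk_mul, QuotientGroup.mk_inv]
      have := IsCyclic.commGroup.mul_comm (x : G ⧸ (Q : Subgroup G)) y
      rw [this]; group
    -- Schur–Zassenhaus inside `H`
    have hNn : ((Q : Subgroup G).subgroupOf H).Normal := inferInstance
    have hQidx : (Q : Subgroup G).index ∣ Nat.card (P : Subgroup G) := by
      have h1 := card_sup_dvd (P : Subgroup G) (Q : Subgroup G)
      rw [hsup, Subgroup.card_top, ← Subgroup.index_mul_card (Q : Subgroup G)] at h1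
      exact Nat.dvd_of_mul_dvd_mul_right Nat.card_pos h1
    have hNidx : ((Q : Subgroup G).subgroupOf H).index ∣ Nat.card (P : Subgroup G) :=
      (Subgroup.relIndex_dvd_index_of_normal (Q : Subgroup G) H).trans hQidx
    have hNcard : Nat.card ((Q : Subgroup G).subgroupOf H) ∣ Nat.card (Q : Subgroup G) := by
      rw [card_subgroupOf]; exact Subgroup.card_dvd_of_le inf_le_left
    have hcopN : (Nat.card ((Q : Subgroup G).subgroupOf H)).Coprime
        ((Q : Subgroup G).subgroupOf H).index :=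
      (Nat.Coprime.coprime_dvd_left hNidx (Nat.Coprime.coprime_dvd_right hNcard hcop)).symm
    obtain ⟨S', hS'⟩ := Subgroup.exists_right_complement'_of_coprime hcopN
    set S := S'.map H.subtype with hSdef
    have hSH : S ≤ H := Subgroup.map_subtype_le _
    have hScard : Nat.card S ∣ Nat.card (P : Subgroup G) := by
      rw [hSdef, Subgroup.card_map_of_injective H.subtype_injective, ← hS'.symm.index_eq_card]
      exact hNidx
    have hSp : IsPGroup p S := by
      rw [ha] at hScard
      obtain ⟨m, -, hm⟩ := (Nat.dvd_prime_pow hp).1 hScard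
      exact IsPGroup.of_card hm
    have hQHq : IsPGroup q ((Q : Subgroup G) ⊓ H : Subgroup G) := Q.2.to_le inf_le_left
    have hsupH : S ⊔ ((Q : Subgroup G) ⊓ H) = H := by
      have h1 := congrArg (Subgroup.map H.subtype) hS'.sup_eq_top
      rw [Subgroup.map_sup, Subgroup.subgroupOf_map_subtype, ← MonoidHom.range_eq_map,
        Subgroup.range_subtype] at h1
      rw [sup_comm]; exact h1
    have hScent : S ≤ Subgroup.centralizer (((Q : Subgroup G) ⊓ H : Subgroup G) : Set G) := by
      apply le_centralizer_of_nilpotent_sup hpq S _ hSp hQHq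
      rw [hsupH]; exact hHnil
    have hSQ : S ⊓ (Q : Subgroup G) = ⊥ := by
      apply (Subgroup.disjoint_of_coprime_natCard _).eq_bot
      exact Nat.Coprime.coprime_dvd_left hScard hcop
    have hScomm : ∀ s ∈ S, ∀ t ∈ S, Commute s t := by
      intro s hs t ht
      have h1 : s * t * s⁻¹ * t⁻¹ ∈ S ⊓ (Q : Subgroup G) :=
        ⟨S.mul_mem (S.mul_mem (S.mul_mem hs ht) (S.inv_mem hs)) (S.inv_mem ht), hGQ s t⟩
      rw [hSQ, Subgroup.mem_bot] at h1
      have h2 : ⁅s, t⁆ = 1 := h1
      exact commutatorElement_eq_one_iff_mul_comm.1 h2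
    have key : ∀ x ∈ H, ∀ y ∈ H, x * y * x⁻¹ * y⁻¹ ∈ D := by
      intro x hx y hy
      have hSnorm : S ≤ Subgroup.normalizer ((((Q : Subgroup G) ⊓ H : Subgroup G)) : Set G) :=
        hScent.trans (Subgroup.centralizer_le_normalizer _)
      rw [← hsupH, sup_comm] at hx hy
      obtain ⟨n, hn, s, hs, hx'⟩ := mem_sup_of_le_normalizer hSnorm hx
      obtain ⟨n', hn', s', hs', hy'⟩ := mem_sup_of_le_normalizer hSnorm hy
      have c1 : Commute s n' := ((Subgroup.mem_centralizer_iff.1 (hScent hs)) n' hn').symm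
      have c2 : Commute s s' := hScomm s hs s' hs'
      have c3 : Commute s' n⁻¹ :=
        ((Subgroup.mem_centralizer_iff.1 (hScent hs')) n⁻¹ (Subgroup.inv_mem _ hn)).symm
      have c4 : Commute s y := by rw [hy']; exact c1.mul_right c2
      have e : x * y * x⁻¹ * y⁻¹ = n * n' * n⁻¹ * n'⁻¹ := by
        calc x * y * x⁻¹ * y⁻¹ = n * (s * y * s⁻¹) * n⁻¹ * y⁻¹ := by rw [hx']; group
          _ = n * y * n⁻¹ * y⁻¹ := by rw [c4.eq, mul_inv_cancel_right]
          _ = n * n' * (s' * n⁻¹ * s'⁻¹) * n'⁻¹ := by rw [hy']; group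
          _ = n * n' * n⁻¹ * n'⁻¹ := by rw [c3.eq, mul_inv_cancel_right]
      rw [e, hD]
      have hmem : ⁅(⟨n, hn.1⟩ : (Q : Subgroup G)), ⟨n', hn'.1⟩⁆ ∈
          commutator (Q : Subgroup G) := by
        rw [commutator_def]
        exact Subgroup.commutator_mem_commutator (Subgroup.mem_top _) (Subgroup.mem_top _)
      have := Subgroup.mem_map_of_mem (Q : Subgroup G).subtype hmem
      simpa [commutatorElement_def] using this
    refine ⟨⟨fun u v => ?_⟩⟩
    obtain ⟨u, hu⟩ := u
    obtain ⟨v, hv⟩ := v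
    apply Subtype.ext
    show u * v = v * u
    obtain ⟨x, rfl⟩ := QuotientGroup.mk_surjective u
    obtain ⟨y, rfl⟩ := QuotientGroup.mk_surjective v
    have hx : x ∈ H := hu
    have hy : y ∈ H := hv
    have := key x hx y hy
    rw [← QuotientGroup.eq_one_iff] at this
    simp only [QuotientGroup.mk_mul, QuotientGroup.mk_inv] at this
    exact commutatorElement_eq_one_iff_mul_comm.1 this

end Cfsg.Agent.Helper1
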