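import Mathlib
import Cfsg.Agent.Helper1.Basic
import Cfsg.Agent.Helper1.Coprime
import Cfsg.Agent.Helper1.MinNormal

set_option autoImplicit false

/-!
Two minimal normal subgroups and a core-free maximal subgroup.
-/

namespace Cfsg.Agent.Helper1

open scoped Pointwise

universe u

variable {G : Type u} [Group G]

theorem iso_of_two_complements {L : Type u} [Group L] (N H₁ H₂ : Subgroup L) [N.Normal]
    (h₁ : H₁.IsComplement' N) (h₂ : H₂.IsComplement' N) : Nonempty (H₁ ≃* H₂) :=
  ⟨h₁.QuotientMulEquiv.symm.trans h₂.QuotientMulEquiv⟩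

theorem iso_inf_of_complement [Finite G] (A B U L : Subgroup G) [hAn : A.Normal]
    (hAUinf : A ⊓ U = ⊥) (hAUsup : A ⊔ U = ⊤) (hAB : A ⊓ B = ⊥) (hL : L = A ⊔ B) :
    Nonempty (B ≃* ↥(L ⊓ U)) := by
  have hAL : A ≤ L := hL ▸ le_sup_left
  have hBL : B ≤ L := hL ▸ le_sup_right
  have hVL : L ⊓ U ≤ L := inf_le_left
  have hA'n : (A.subgroupOf L).Normal := inferInstance
  -- B' complement
  have hB' : (B.subgroupOf L).IsComplement' (A.subgroupOf L) := by
    apply (isComplement'_of_sup_inf (A.subgroupOf L) (B.subgroupOf L) _ _).symm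
    · rw [← Subgroup.subgroupOf_sup hBL hAL, sup_comm, ← hL, Subgroup.subgroupOf_self]
    · have : (B ⊓ A).subgroupOf L = B.subgroupOf L ⊓ A.subgroupOf L :=
        Subgroup.comap_inf B A L.subtype
      rw [← this, inf_comm, hAB]
      exact Subgroup.bot_subgroupOf L
  have hV' : ((L ⊓ U).subgroupOf L).IsComplement' (A.subgroupOf L) := by
    apply (isComplement'_of_sup_inf (A.subgroupOf L) ((L ⊓ U).subgroupOf L) _ _).symm
    · rw [← Subgroup.subgroupOf_sup hVL hAL, eq_top_iff]
      intro l _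
      rw [Subgroup.mem_subgroupOf]
      have hl : (l : G) ∈ A ⊔ U := hAUsup ▸ Subgroup.mem_top _
      obtain ⟨a, ha, u, hu, hlau⟩ := mem_sup_of_le_normalizer (le_normalizer_of_normal U A) hl
      have huL : u ∈ L := by
        have : u = a⁻¹ * (l : G) := by rw [hlau]; group
        rw [this]
        exact L.mul_mem (L.inv_mem (hAL ha)) l.2
      rw [hlau, sup_comm]
      exact Subgroup.mul_mem _ (Subgroup.mem_sup_left ha) (Subgroup.mem_sup_right ⟨huL, hu⟩)
    · have : ((L ⊓ U) ⊓ A).subgroupOf L = (L ⊓ U).subgroupOf L ⊓ A.subgroupOf L :=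
        Subgroup.comap_inf (L ⊓ U) A L.subtype
      rw [← this]
      have h0 : (L ⊓ U) ⊓ A = ⊥ := by
        rw [eq_bot_iff, ← hAUinf]
        exact le_inf inf_le_right (inf_le_left.trans inf_le_right)
      rw [h0]
      exact Subgroup.bot_subgroupOf L
  obtain ⟨e⟩ := iso_of_two_complements (A.subgroupOf L) _ _ hB' hV'
  exact ⟨(Subgroup.subgroupOfEquivOfLe hBL).symm.trans (e.trans (Subgroup.subgroupOfEquivOfLe hVL))⟩

theorem two_minimal_normal_corefree_max [Finite G] (U : Subgroup G) (hU : IsCoatom U)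
    (hcore : U.normalCore = ⊥) (A B : Subgroup G) [hAn : A.Normal] [hBn : B.Normal]
    (hA : A ≠ ⊥) (hB : B ≠ ⊥)
    (hAmin : ∀ K : Subgroup G, K.Normal → K ≤ A → K = ⊥ ∨ K = A)
    (hBmin : ∀ K : Subgroup G, K.Normal → K ≤ B → K = ⊥ ∨ K = B) (hAB : A ≠ B) :
    Subgroup.centralizer (B : Set G) = A ∧ Subgroup.centralizer (A : Set G) = B ∧
      Subgroup.IsComplement' A U ∧ Subgroup.IsComplement' B U ∧ ¬ IsMulCommutative A ∧
      Nonempty (A ≃* B) ∧ Nonempty (A ≃* ↥((A ⊔ B) ⊓ U)) := by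
  have hinf : A ⊓ B = ⊥ := by
    have hn : (A ⊓ B).Normal := inferInstance
    rcases hAmin _ hn inf_le_left with h | h
    · exact h
    · exfalso
      have hAB' : A ≤ B := h ▸ inf_le_right
      rcases hBmin A hAn hAB' with h' | h'
      · exact hA h'
      · exact hAB h'
  have hcomm : ⁅A, B⁆ = ⊥ := by
    rw [eq_bot_iff, ← hinf]; exact Subgroup.commutator_le_inf A B
  have hAC : A ≤ Subgroup.centralizer (B : Set G) :=
    Subgroup.commutator_eq_bot_iff_le_centralizer.1 hcomm
  have hBC : B ≤ Subgroup.centralizer (A : Set G) := by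
    rw [Subgroup.commutator_comm] at hcomm
    exact Subgroup.commutator_eq_bot_iff_le_centralizer.1 hcomm
  obtain ⟨hCBU, hCB⟩ := centralizer_inf_corefree_max U hU hcore B hB
  obtain ⟨hCAU, hCA⟩ := centralizer_inf_corefree_max U hU hcore A hA
  have hCB_eq : Subgroup.centralizer (B : Set G) = A := by
    rcases hCB with h | ⟨-, h⟩
    · rw [h, le_bot_iff] at hAC; exact absurd hAC hA
    · rcases h A hAn hAC with h' | h'
      · exact absurd h' hA
      · exact h'.symm
  have hCA_eq : Subgroup.centralizer (A : Set G) = B := by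
    rcases hCA with h | ⟨-, h⟩
    · rw [h, le_bot_iff] at hBC; exact absurd hBC hB
    · rcases h B hBn hBC with h' | h'
      · exact absurd h' hB
      · exact h'.symm
  have hsupU : ∀ K : Subgroup G, K.Normal → K ≠ ⊥ → U ⊔ K = ⊤ := by
    intro K hKn hK
    apply hU.2 _ (lt_of_le_of_ne le_sup_left _)
    intro h
    have h1 : K ≤ U := by rw [h]; exact le_sup_right
    have := Subgroup.normal_le_normalCore.2 h1
    rw [hcore, le_bot_iff] at this
    exact hK this
  have hAUinf : A ⊓ U = ⊥ := by rw [← hCB_eq]; exact hCBU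
  have hBUinf : B ⊓ U = ⊥ := by rw [← hCA_eq]; exact hCAU
  have hcA : Subgroup.IsComplement' A U :=
    isComplement'_of_sup_inf A U (hsupU A hAn hA) (by rw [inf_comm]; exact hAUinf)
  have hcB : Subgroup.IsComplement' B U :=
    isComplement'_of_sup_inf B U (hsupU B hBn hB) (by rw [inf_comm]; exact hBUinf)
  have hnc : ¬ IsMulCommutative A := by
    intro hc
    have h1 : A ≤ Subgroup.centralizer (A : Set G) :=
      Subgroup.le_centralizer_iff_isMulCommutative.2 hc
    rw [hCA_eq] at h1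
    rcases hBmin A hAn h1 with h' | h'
    · exact hA h'
    · exact hAB h'
  obtain ⟨e1⟩ := iso_inf_of_complement A B U (A ⊔ B) hAUinf (by rw [sup_comm]; exact hsupU A hAn hA)
    hinf rfl
  obtain ⟨e2⟩ := iso_inf_of_complement B A U (A ⊔ B) hBUinf (by rw [sup_comm]; exact hsupU B hBn hB)
    (by rw [inf_comm]; exact hinf) (sup_comm A B)
  exact ⟨hCB_eq, hCA_eq, hcA, hcB, hnc, ⟨e2.trans e1.symm⟩, ⟨e2⟩⟩

end Cfsg.Agent.Helper1
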