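import Mathlib
import Cfsg.Agent.Helper1.FSF

/-!
Normal closures of `Ω₁Z(T)` in normalizers of functor values (towards `S1997`): basic tools.
-/

set_option autoImplicit false

universe u

namespace Cfsg.Agent.Helper1.NC

open Cfsg Cfsg.Agent.Lead Cfsg.Agent.Helper5.TF Cfsg.Agent.Helper1.FT

variable {p : ℕ}

section basic

variable {X : Type*} [Group X]

/-- `Ω₁Z(T)`. -/
def zOm (p : ℕ) (T : Subgroup X) : Subgroup X :=
  Cfsg.omegaOne p (T ⊓ Subgroup.centralizer (T : Set X))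

/-- The closure of the `H`-conjugates of `Z`. -/
def nclIn (H Z : Subgroup X) : Subgroup X :=
  Subgroup.closure {y | ∃ h ∈ H, ∃ z ∈ Z, y = h * z * h⁻¹}

theorem nclIn_mono_left {H H' : Subgroup X} (h : H ≤ H') (Z : Subgroup X) :
    nclIn H Z ≤ nclIn H' Z := by
  apply Subgroup.closure_mono
  rintro y ⟨a, ha, z, hz, rfl⟩
  exact ⟨a, h ha, z, hz, rfl⟩

theorem nclIn_le {H Z M : Subgroup X} (hZ : Z ≤ M)
    (hH : H ≤ Subgroup.normalizer (M : Set X)) : nclIn H Z ≤ M := by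
  rw [nclIn, Subgroup.closure_le]
  rintro y ⟨a, ha, z, hz, rfl⟩
  exact (Subgroup.mem_normalizer_iff.1 (hH ha) z).1 (hZ hz)

theorem le_nclIn (H Z : Subgroup X) : Z ≤ nclIn H Z := by
  intro z hz
  apply Subgroup.subset_closure
  exact ⟨1, H.one_mem, z, hz, by group⟩

theorem le_normalizer_nclIn (H Z : Subgroup X) :
    H ≤ Subgroup.normalizer ((nclIn H Z : Subgroup X) : Set X) := by
  have key : ∀ a ∈ H, ∀ y ∈ nclIn H Z, a * y * a⁻¹ ∈ nclIn H Z := by
    intro a ha y hy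
    have h1 : (nclIn H Z).map (MulAut.conj a).toMonoidHom ≤ nclIn H Z := by
      rw [nclIn, MonoidHom.map_closure, Subgroup.closure_le]
      rintro _ ⟨_, ⟨b, hb, z, hz, rfl⟩, rfl⟩
      apply Subgroup.subset_closure
      refine ⟨a * b, H.mul_mem ha hb, z, hz, ?_⟩
      simp only [MulEquiv.coe_toMonoidHom, MulAut.conj_apply]
      group
    exact h1 ⟨y, hy, rfl⟩
  intro a ha
  rw [Subgroup.mem_normalizer_iff]
  intro y
  constructor
  · exact key a ha y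
  · intro hy
    have := key a⁻¹ (H.inv_mem ha) _ hy
    have e : a⁻¹ * (a * y * a⁻¹) * a⁻¹⁻¹ = y := by group
    rwa [e] at this

theorem nclIn_map {Y : Type*} [Group Y] (f : X →* Y) (H Z : Subgroup X) :
    (nclIn H Z).map f = nclIn (H.map f) (Z.map f) := by
  rw [nclIn, nclIn, MonoidHom.map_closure]
  congr 1
  ext y
  constructor
  · rintro ⟨_, ⟨a, ha, z, hz, rfl⟩, rfl⟩
    exact ⟨f a, ⟨a, ha, rfl⟩, f z, ⟨z, hz, rfl⟩, by simp⟩
  · rintro ⟨_, ⟨a, ha, rfl⟩, _, ⟨z, hz, rfl⟩, rfl⟩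
    exact ⟨a * z * a⁻¹, ⟨a, ha, z, hz, rfl⟩, by simp⟩

/-- If every element of `H'` is `n * c` with `n ∈ H` and `c` centralizing `Z`, the closures of
the conjugates agree. -/
theorem nclIn_eq_of_factor {H H' Z : Subgroup X} (hHH' : H ≤ H')
    (hfac : ∀ x ∈ H', ∃ n ∈ H, ∃ c ∈ Subgroup.centralizer (Z : Set X), x = n * c) :
    nclIn H' Z = nclIn H Z := by
  apply le_antisymm _ (nclIn_mono_left hHH' Z)
  apply Subgroup.closure_mono
  rintro y ⟨x, hx, z, hz, rfl⟩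
  obtain ⟨n, hn, c, hc, rfl⟩ := hfac x hx
  refine ⟨n, hn, z, hz, ?_⟩
  have h1 : z * c = c * z := Subgroup.mem_centralizer_iff.1 hc z hz
  have h2 : c * z * c⁻¹ = z := by rw [← h1]; group
  calc n * c * z * (n * c)⁻¹ = n * (c * z * c⁻¹) * n⁻¹ := by group
    _ = n * z * n⁻¹ := by rw [h2]

theorem normalClosure_map_eq_nclIn {H Z : Subgroup X} (hZH : Z ≤ H) :
    (Subgroup.normalClosure ((Z.subgroupOf H : Subgroup ↥H) : Set ↥H)).map H.subtype =
      nclIn H Z := by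
  rw [Subgroup.normalClosure, MonoidHom.map_closure, nclIn]
  congr 1
  ext y
  constructor
  · rintro ⟨w, hw, rfl⟩
    rw [Group.mem_conjugatesOfSet_iff] at hw
    obtain ⟨z, hz, hconj⟩ := hw
    rw [isConj_iff] at hconj
    obtain ⟨c, rfl⟩ := hconj
    exact ⟨(c : X), c.2, (z : X), Subgroup.mem_subgroupOf.1 hz, rfl⟩
  · rintro ⟨a, ha, z, hz, rfl⟩
    refine ⟨(⟨a, ha⟩ : H) * ⟨z, hZH hz⟩ * (⟨a, ha⟩ : H)⁻¹, ?_, rfl⟩
    rw [Group.mem_conjugatesOfSet_iff]
    exact ⟨⟨z, hZH hz⟩, Subgroup.mem_subgroupOf.2 hz, isConj_iff.2 ⟨⟨a, ha⟩, rfl⟩⟩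

theorem isMulCommutative_of_le {A M : Subgroup X} (hAM : A ≤ M)
    (hM : ∀ a ∈ M, ∀ b ∈ M, a * b = b * a) : IsMulCommutative A :=
  ⟨⟨fun a b => Subtype.ext (hM a (hAM a.2) b (hAM b.2))⟩⟩

theorem comm_of_isMulCommutative {A : Subgroup X} (hA : IsMulCommutative A) :
    ∀ a ∈ A, ∀ b ∈ A, a * b = b * a := by
  intro a ha b hb
  have := mul_comm' (⟨a, ha⟩ : A) ⟨b, hb⟩
  exact congrArg Subtype.val this

theorem pow_eq_one_of_mem_closure {n : ℕ} (s : Set X) (hs : ∀ x ∈ s, x ^ n = 1)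
    (hc : ∀ a ∈ Subgroup.closure s, ∀ b ∈ Subgroup.closure s, a * b = b * a) :
    ∀ x ∈ Subgroup.closure s, x ^ n = 1 := by
  intro x hx
  induction hx using Subgroup.closure_induction with
  | mem x hx => exact hs x hx
  | one => exact one_pow n
  | mul x y hx hy ihx ihy =>
    have : Commute x y := hc x hx y hy
    rw [this.mul_pow, ihx, ihy, one_mul]
  | inv x hx ih => rw [inv_pow, ih, inv_one]

theorem omegaOne_le (H : Subgroup X) : Cfsg.omegaOne p H ≤ H := by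
  rw [Cfsg.omegaOne, Subgroup.closure_le]
  intro x hx
  exact hx.1

theorem zOm_le (T : Subgroup X) : zOm p T ≤ T ⊓ Subgroup.centralizer (T : Set X) :=
  omegaOne_le _

theorem zOm_comm (T : Subgroup X) : ∀ a ∈ zOm p T, ∀ b ∈ zOm p T, a * b = b * a := by
  intro a ha b hb
  have h1 := (zOm_le T ha).2
  have h2 := (zOm_le T hb).1
  exact (Subgroup.mem_centralizer_iff.1 h1 b h2).symm

theorem zOm_pow (T : Subgroup X) : ∀ a ∈ zOm p T, a ^ p = 1 := by
  apply pow_eq_one_of_mem_closure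
  · intro x hx
    exact hx.2
  · exact zOm_comm T

/-- `Ω₁Z` commutes with homomorphisms injective on `T`. -/
theorem zOm_map {Y : Type*} [Group Y] (f : X →* Y) (T : Subgroup X)
    (hf : ∀ t ∈ T, f t = 1 → t = 1) : zOm p (T.map f) = (zOm p T).map f := by
  rw [zOm, zOm, Cfsg.omegaOne, Cfsg.omegaOne, MonoidHom.map_closure]
  congr 1
  ext y
  constructor
  · rintro ⟨⟨⟨t, ht, rfl⟩, hcent⟩, hpow⟩
    refine ⟨t, ⟨⟨ht, ?_⟩, ?_⟩, rfl⟩
    · show t ∈ Subgroup.centralizer (T : Set X)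
      rw [Subgroup.mem_centralizer_iff]
      intro s hs
      have h1 := Subgroup.mem_centralizer_iff.1 hcent (f s) ⟨s, hs, rfl⟩
      have h2 : f (s * t * (t * s)⁻¹) = 1 := by
        rw [map_mul, map_inv, map_mul, map_mul, h1]
        group
      have h3 := hf _ (T.mul_mem (T.mul_mem hs ht) (T.inv_mem (T.mul_mem ht hs))) h2
      exact mul_inv_eq_one.1 h3
    · apply hf _ (T.pow_mem ht p)
      rw [map_pow]; exact hpow
  · rintro ⟨t, ⟨⟨ht, hcent⟩, hpow⟩, rfl⟩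
    refine ⟨⟨⟨t, ht, rfl⟩, ?_⟩, ?_⟩
    · show f t ∈ Subgroup.centralizer ((T.map f : Subgroup Y) : Set Y)
      rw [Subgroup.mem_centralizer_iff]
      rintro _ ⟨s, hs, rfl⟩
      have h1 := Subgroup.mem_centralizer_iff.1 hcent s hs
      rw [← map_mul, ← map_mul, h1]
    · show (f t) ^ p = 1
      rw [← map_pow, hpow, map_one]

end basic

end Cfsg.Agent.Helper1.NC
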