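import Mathlib
import Cfsg.Agent.Helper1.NCA

/-!
Normal closures of `Ω₁Z(T)` in normalizers of functor values (towards `S1997`):
transport along injective homomorphisms and `p'`-quotients.
-/

set_option autoImplicit false

universe u

namespace Cfsg.Agent.Helper1.NC

open Cfsg Cfsg.Agent.Lead Cfsg.Agent.Helper5.TF Cfsg.Agent.Helper1.FT

variable {p : ℕ}

section functor

variable {X : Type u} [Group X]

/-- the closure of the `N_H(W(T))`-conjugates of `Ω₁Z(T)` -/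
def AI (p : ℕ) (W : ∀ (Q : Type u) [Group Q], Subgroup Q) (T H : Subgroup X) : Subgroup X :=
  nclIn (H ⊓ Subgroup.normalizer ((Cfsg.inducedFunctor (G := X) W T : Subgroup X) : Set X))
    (zOm p T)

/-- the two closures agree and are abelian -/
def Concl (p : ℕ) (W₁ W₂ : ∀ (Q : Type u) [Group Q], Subgroup Q) (T H : Subgroup X) : Prop :=
  AI p W₁ T H = AI p W₂ T H ∧ IsMulCommutative (AI p W₁ T H)

theorem Concl.symm {W₁ W₂ : ∀ (Q : Type u) [Group Q], Subgroup Q} {T H : Subgroup X}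
    (h : Concl p W₁ W₂ T H) : Concl p W₂ W₁ T H :=
  ⟨h.1.symm, h.1 ▸ h.2⟩

theorem AI_mono (W : ∀ (Q : Type u) [Group Q], Subgroup Q) (T : Subgroup X) {H H' : Subgroup X}
    (h : H ≤ H') : AI p W T H ≤ AI p W T H' :=
  nclIn_mono_left (inf_le_inf_right _ h) _

theorem AI_le_functor (W : ∀ (Q : Type u) [Group Q], Subgroup Q) (T H : Subgroup X)
    (hZ : zOm p T ≤ Cfsg.inducedFunctor (G := X) W T) :
    AI p W T H ≤ Cfsg.inducedFunctor (G := X) W T :=
  nclIn_le hZ inf_le_right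

theorem map_le_of_injOn {Y : Type*} [Group Y] (f : X →* Y) {A B T : Subgroup X} (hA : A ≤ T)
    (hB : B ≤ T) (hf : ∀ t ∈ T, f t = 1 → t = 1) (h : A.map f ≤ B.map f) : A ≤ B := by
  intro a ha
  obtain ⟨b, hb, hba⟩ := h ⟨a, ha, rfl⟩
  have h1 : b⁻¹ * a = 1 := by
    apply hf _ (T.mul_mem (T.inv_mem (hB hb)) (hA ha))
    rw [map_mul, map_inv, hba, inv_mul_cancel]
  have : a = b := by
    have := congrArg (b * ·) h1
    simpa using this
  rw [this]; exact hb

theorem AI_map_injective [hp : Fact p.Prime] {Y : Type u} [Group Y]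
    (W : ∀ (Q : Type u) [Group Q], Subgroup Q)
    (hW : Cfsg.IsCharPFunctor.{u} p W) (f : Y →* X) (hf : Function.Injective f)
    (T₀ : Subgroup Y) [Finite T₀] (hT₀ : IsPGroup p T₀) :
    AI p W (T₀.map f) f.range = (AI p W T₀ ⊤).map f := by
  unfold AI
  rw [nclIn_map, top_inf_eq, map_normalizer_of_injective f hf,
    zOm_map f T₀ (fun t _ h => hf (h.trans (map_one f).symm)), inducedFunctor_map W hW f hf T₀ hT₀]

theorem concl_map [hp : Fact p.Prime] {Y : Type u} [Group Y]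
    {W₁ W₂ : ∀ (Q : Type u) [Group Q], Subgroup Q}
    (hW₁ : Cfsg.IsCharPFunctor.{u} p W₁) (hW₂ : Cfsg.IsCharPFunctor.{u} p W₂)
    (f : Y →* X) (hf : Function.Injective f)
    (T₀ : Subgroup Y) [Finite T₀] (hT₀ : IsPGroup p T₀)
    (h : Concl p W₁ W₂ T₀ (⊤ : Subgroup Y)) : Concl p W₁ W₂ (T₀.map f) f.range := by
  unfold Concl
  rw [AI_map_injective W₁ hW₁ f hf T₀ hT₀, AI_map_injective W₂ hW₂ f hf T₀ hT₀, h.1]
  refine ⟨rfl, ?_⟩
  rw [← h.1]
  have hc := comm_of_isMulCommutative h.2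
  refine isMulCommutative_of_le le_rfl ?_
  rintro _ ⟨a, ha, rfl⟩ _ ⟨b, hb, rfl⟩
  rw [← map_mul, ← map_mul, hc a ha b hb]

theorem concl_of_subgroup [hp : Fact p.Prime] [Finite X]
    {W₁ W₂ : ∀ (Q : Type u) [Group Q], Subgroup Q}
    (hW₁ : Cfsg.IsCharPFunctor.{u} p W₁) (hW₂ : Cfsg.IsCharPFunctor.{u} p W₂)
    (T H : Subgroup X) (hT : IsPGroup p T) (hTH : T ≤ H)
    (h : Concl p W₁ W₂ (T.subgroupOf H) (⊤ : Subgroup H)) : Concl p W₁ W₂ T H := by
  have h1 := concl_map hW₁ hW₂ H.subtype H.subtype_injective (T.subgroupOf H)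
    hT.comap_subtype h
  rwa [Subgroup.range_subtype, Subgroup.subgroupOf_map_subtype, inf_eq_left.2 hTH] at h1

theorem hz_subgroup [hp : Fact p.Prime] [Finite X] (W : ∀ (Q : Type u) [Group Q], Subgroup Q)
    (hW : Cfsg.IsCharPFunctor.{u} p W) (T H : Subgroup X) (hT : IsPGroup p T) (hTH : T ≤ H)
    (hZ : zOm p T ≤ Cfsg.inducedFunctor (G := X) W T) :
    zOm p (T.subgroupOf H) ≤ Cfsg.inducedFunctor (G := ↥H) W (T.subgroupOf H) := by
  have hmap : (T.subgroupOf H).map H.subtype = T := by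
    rw [Subgroup.subgroupOf_map_subtype, inf_eq_left.2 hTH]
  have h1 := zOm_map (p := p) H.subtype (T.subgroupOf H)
    (fun t _ h => H.subtype_injective (h.trans (map_one _).symm))
  have h2 := inducedFunctor_map W hW H.subtype H.subtype_injective (T.subgroupOf H)
    hT.comap_subtype
  rw [hmap] at h1 h2
  rw [← Subgroup.map_le_map_iff_of_injective H.subtype_injective, ← h1, ← h2]
  exact hZ

end functor

section quotient

variable {X : Type u} [Group X] [Finite X] [hp : Fact p.Prime]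

theorem injOn_of_coprime (O : Subgroup X) [hOn : O.Normal] (hO : (Nat.card O).Coprime p)
    (T : Subgroup X) (hT : IsPGroup p T) :
    ∀ t ∈ T, QuotientGroup.mk' O t = 1 → t = 1 := by
  intro t ht h1
  have htO : t ∈ O := (QuotientGroup.eq_one_iff t).mp h1
  have hdisj : T ⊓ O = ⊥ := by
    apply Disjoint.eq_bot
    apply Subgroup.disjoint_of_coprime_natCard
    obtain ⟨k, hk⟩ := IsPGroup.iff_card.mp hT
    rw [hk]
    exact Nat.Coprime.pow_left k hO.symm
  have : t ∈ T ⊓ O := ⟨ht, htO⟩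
  rwa [hdisj, Subgroup.mem_bot] at this

theorem AI_map_quotient (W : ∀ (Q : Type u) [Group Q], Subgroup Q)
    (hW : Cfsg.IsCharPFunctor.{u} p W) (O : Subgroup X) [hOn : O.Normal]
    (hO : (Nat.card O).Coprime p) (T : Subgroup X) (hT : IsPGroup p T) :
    AI p W (T.map (QuotientGroup.mk' O)) ⊤ = (AI p W T ⊤).map (QuotientGroup.mk' O) := by
  have hinj := injOn_of_coprime O hO T hT
  have hWT : Cfsg.inducedFunctor (G := X) W T ≤ T :=
    ((isConjugacyFunctor_induced (X := X) W hW) T hT).1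
  unfold AI
  rw [nclIn_map, top_inf_eq, top_inf_eq, zOm_map _ T hinj,
    inducedFunctor_map_injOn W hW _ T hT hinj]
  congr 1
  exact le_antisymm (normalizer_map_le_of_coprime O hO _ (hT.to_le hWT))
    (Subgroup.le_normalizer_map _)

theorem concl_of_quotient {W₁ W₂ : ∀ (Q : Type u) [Group Q], Subgroup Q}
    (hW₁ : Cfsg.IsCharPFunctor.{u} p W₁) (hW₂ : Cfsg.IsCharPFunctor.{u} p W₂)
    (O : Subgroup X) [hOn : O.Normal] (hO : (Nat.card O).Coprime p) (T : Subgroup X)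
    (hT : IsPGroup p T) (hA₁ : AI p W₁ T ⊤ ≤ T) (hA₂ : AI p W₂ T ⊤ ≤ T)
    (h : Concl p W₁ W₂ (T.map (QuotientGroup.mk' O)) (⊤ : Subgroup (X ⧸ O))) :
    Concl p W₁ W₂ T ⊤ := by
  have hinj := injOn_of_coprime O hO T hT
  obtain ⟨h1, h2⟩ := h
  rw [AI_map_quotient W₁ hW₁ O hO T hT] at h1 h2
  rw [AI_map_quotient W₂ hW₂ O hO T hT] at h1
  refine ⟨le_antisymm (map_le_of_injOn _ hA₁ hA₂ hinj h1.le)
    (map_le_of_injOn _ hA₂ hA₁ hinj h1.ge), ?_⟩
  have hc := comm_of_isMulCommutative h2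
  refine isMulCommutative_of_le le_rfl ?_
  intro a ha b hb
  have h3 := hc _ ⟨a, ha, rfl⟩ _ ⟨b, hb, rfl⟩
  rw [← map_mul, ← map_mul] at h3
  have hab : a * b ∈ T := T.mul_mem (hA₁ ha) (hA₁ hb)
  have hba : b * a ∈ T := T.mul_mem (hA₁ hb) (hA₁ ha)
  have h4 : (b * a)⁻¹ * (a * b) = 1 := by
    apply hinj _ (T.mul_mem (T.inv_mem hba) hab)
    rw [map_mul, map_inv, h3, inv_mul_cancel]
  have h5 : a * b = (b * a) * ((b * a)⁻¹ * (a * b)) := by group
  rw [h5, h4, mul_one]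

theorem hz_quotient (W : ∀ (Q : Type u) [Group Q], Subgroup Q)
    (hW : Cfsg.IsCharPFunctor.{u} p W) (O : Subgroup X) [hOn : O.Normal]
    (hO : (Nat.card O).Coprime p) (T : Subgroup X) (hT : IsPGroup p T)
    (hZ : zOm p T ≤ Cfsg.inducedFunctor (G := X) W T) :
    zOm p (T.map (QuotientGroup.mk' O)) ≤
      Cfsg.inducedFunctor (G := X ⧸ O) W (T.map (QuotientGroup.mk' O)) := by
  have hinj := injOn_of_coprime O hO T hT
  rw [zOm_map _ T hinj, inducedFunctor_map_injOn W hW _ T hT hinj]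
  exact Subgroup.map_mono hZ

end quotient

end Cfsg.Agent.Helper1.NC
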