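import Mathlib
import Cfsg.Agent.Helper1.NCB

/-!
Normal closures of `Ω₁Z(T)` in normalizers of functor values (towards `S1997`):
the induction over sections.
-/

set_option autoImplicit false

universe u

namespace Cfsg.Agent.Helper1.NC

open Cfsg Cfsg.Agent.Lead Cfsg.Agent.Helper5.TF Cfsg.Agent.Helper1.FT

variable {p : ℕ}

/-- The local hypothesis of `S1997` (first two factorizations) in the group `X`. -/
def Loc1997 (p : ℕ) (W₁ W₂ : ∀ (Q : Type u) [Group Q], Subgroup Q) (X : Type u) [Group X] :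
    Prop :=
  ∀ T : Sylow p X,
    (∀ x : X, ∃ a ∈ Subgroup.centralizer ((zOm p (T : Subgroup X) : Subgroup X) : Set X),
      ∃ b ∈ Subgroup.normalizer ((Cfsg.inducedFunctor (G := X) W₁ (T : Subgroup X) :
        Subgroup X) : Set X), x = a * b) ∧
    (∀ x : X, ∃ a ∈ Subgroup.centralizer ((zOm p (T : Subgroup X) : Subgroup X) : Set X),
      ∃ b ∈ Subgroup.normalizer ((Cfsg.inducedFunctor (G := X) W₂ (T : Subgroup X) :
        Subgroup X) : Set X), x = a * b)

theorem Loc1997.of_equiv [Fact p.Prime] {Y X : Type u} [Group Y] [Group X] [Finite Y] [Finite X]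
    {W₁ W₂ : ∀ (Q : Type u) [Group Q], Subgroup Q} (hW₁ : Cfsg.IsCharPFunctor.{u} p W₁)
    (hW₂ : Cfsg.IsCharPFunctor.{u} p W₂) (e : Y ≃* X)
    (h : Loc1997 p W₁ W₂ Y) : Loc1997 p W₁ W₂ X := by
  intro T
  have hinj : Function.Injective e.toMonoidHom := e.injective
  have hsurj' : Function.Surjective e.symm.toMonoidHom := e.symm.surjective
  have hTT : ((T : Subgroup X).map e.symm.toMonoidHom).map e.toMonoidHom = (T : Subgroup X) := by
    rw [Subgroup.map_map]
    have : e.toMonoidHom.comp e.symm.toMonoidHom = MonoidHom.id X := by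
      ext x; simp
    rw [this, Subgroup.map_id]
  have h1 := h (T.mapSurjective hsurj')
  rw [Sylow.coe_mapSurjective] at h1
  have key : ∀ (W : ∀ (Q : Type u) [Group Q], Subgroup Q), Cfsg.IsCharPFunctor.{u} p W →
      ∀ y : Y, y ∈ Subgroup.normalizer ((Cfsg.inducedFunctor (G := Y) W
        ((T : Subgroup X).map e.symm.toMonoidHom) : Subgroup Y) : Set Y) →
      e y ∈ Subgroup.normalizer ((Cfsg.inducedFunctor (G := X) W (T : Subgroup X) : Subgroup X) :
        Set X) := by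
    intro W hW y hy
    have h2 : e.toMonoidHom y ∈ (Subgroup.normalizer ((Cfsg.inducedFunctor (G := Y) W
        ((T : Subgroup X).map e.symm.toMonoidHom) : Subgroup Y) : Set Y)).map e.toMonoidHom :=
      ⟨y, hy, rfl⟩
    rw [Subgroup.map_equiv_normalizer_eq,
      ← inducedFunctor_map W hW e.toMonoidHom hinj _ (T.2.map e.symm.toMonoidHom), hTT] at h2
    exact h2
  have keyc : ∀ y : Y, y ∈ Subgroup.centralizer
      ((zOm p ((T : Subgroup X).map e.symm.toMonoidHom) : Subgroup Y) : Set Y) →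
      e y ∈ Subgroup.centralizer ((zOm p (T : Subgroup X) : Subgroup X) : Set X) := by
    intro y hy
    have h2 := zOm_map (p := p) e.toMonoidHom ((T : Subgroup X).map e.symm.toMonoidHom)
      (fun t _ h => hinj (h.trans (map_one _).symm))
    rw [hTT] at h2
    rw [h2, Subgroup.mem_centralizer_iff]
    rintro _ ⟨z, hz, rfl⟩
    have h3 := Subgroup.mem_centralizer_iff.1 hy z hz
    show e z * e y = e y * e z
    rw [← map_mul, ← map_mul, h3]
  have fin : ∀ (W : ∀ (Q : Type u) [Group Q], Subgroup Q), Cfsg.IsCharPFunctor.{u} p W →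
      (∀ x : Y, ∃ a ∈ Subgroup.centralizer
        ((zOm p ((T : Subgroup X).map e.symm.toMonoidHom) : Subgroup Y) : Set Y),
        ∃ b ∈ Subgroup.normalizer ((Cfsg.inducedFunctor (G := Y) W
          ((T : Subgroup X).map e.symm.toMonoidHom) : Subgroup Y) : Set Y), x = a * b) →
      ∀ x : X, ∃ a ∈ Subgroup.centralizer ((zOm p (T : Subgroup X) : Subgroup X) : Set X),
        ∃ b ∈ Subgroup.normalizer ((Cfsg.inducedFunctor (G := X) W (T : Subgroup X) :
          Subgroup X) : Set X), x = a * b := by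
    intro W hW hf x
    obtain ⟨a, ha, b, hb, hab⟩ := hf (e.symm x)
    refine ⟨e a, keyc a ha, e b, key W hW b hb, ?_⟩
    rw [← map_mul, ← hab]
    simp
  exact ⟨fin W₁ hW₁ h1.1, fin W₂ hW₂ h1.2⟩

section steps

variable {X : Type u} [Group X] [Finite X] [hp : Fact p.Prime]

/-- A proper subgroup `N' ≥ S` with `X = N' C_X(O_p(X))`, when `O_{p'}(X) = 1` and `X` is not
`p`-constrained. -/
theorem exists_proper_factor (hO : Cfsg.pPrimeCore p X = ⊥) (hnpc : ¬ PC p X) (S : Sylow p X) :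
    ∃ N' : Subgroup X, (S : Subgroup X) ≤ N' ∧ N' ≠ ⊤ ∧
      ∀ x : X, ∃ n ∈ N', ∃ c ∈ Subgroup.centralizer ((Cfsg.pCore p X : Subgroup X) : Set X),
        x = n * c := by
  have hnc : ¬ (S : Subgroup X) ⊓ Subgroup.centralizer ((Cfsg.pCore p X : Subgroup X) : Set X) ≤
      Cfsg.pCore p X := fun h => hnpc (pc_of_sylow_centralizer_le S hO h)
  set Q := Cfsg.pCore p X with hQ
  have hQS : Q ≤ (S : Subgroup X) := pCore_le_sylow S
  haveI hQn : Q.Normal := pCore_normal p
  set C := Subgroup.centralizer ((Q : Subgroup X) : Set X) with hC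
  haveI hCn : C.Normal := Subgroup.normal_centralizer
  set M : Subgroup X := Q ⊔ C with hM
  haveI hMn : M.Normal := Subgroup.sup_normal Q C
  set T : Subgroup X := (S : Subgroup X) ⊓ M with hT
  set N₁ : Subgroup X := Subgroup.normalizer (T : Set X) with hN₁
  have hSN₁ : (S : Subgroup X) ≤ N₁ := by
    intro s hs
    rw [hN₁, Subgroup.mem_normalizer_iff]
    intro h
    constructor
    · rintro ⟨h1, h2⟩
      exact ⟨(S : Subgroup X).mul_mem ((S : Subgroup X).mul_mem hs h1) ((S : Subgroup X).inv_mem hs),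
        hMn.conj_mem h h2 s⟩
    · rintro ⟨h1, h2⟩
      refine ⟨?_, ?_⟩
      · have := (S : Subgroup X).mul_mem ((S : Subgroup X).mul_mem ((S : Subgroup X).inv_mem hs) h1) hs
        have e : s⁻¹ * (s * h * s⁻¹) * s = h := by group
        rwa [e] at this
      · have := hMn.conj_mem _ h2 s⁻¹
        have e : s⁻¹ * (s * h * s⁻¹) * s⁻¹⁻¹ = h := by group
        rwa [e] at this
  have hN₁ne : N₁ ≠ ⊤ := by
    intro htop
    apply hnc
    have hTn : T.Normal := Subgroup.normalizer_eq_top_iff.mp htop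
    have hTQ : T ≤ Q := le_pCore hTn (S.2.to_le inf_le_left)
    exact le_trans (inf_le_inf_left _ (le_sup_right : C ≤ M)) hTQ
  have hfr : N₁ ⊔ M = ⊤ := by
    have hpM : IsPGroup p ((S : Subgroup X).subgroupOf M) := S.2.comap_subtype
    have hidx : ¬ p ∣ ((S : Subgroup X).subgroupOf M).index := by
      intro hd
      have h2 : (S : Subgroup X).relIndex M ∣ (S : Subgroup X).index :=
        relIndex_dvd_index_of_normalizes (by rw [Subgroup.normalizer_eq_top]; exact le_top)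
      exact S.not_dvd_index (hd.trans h2)
    have h3 := Sylow.normalizer_sup_eq_top (hpM.toSylow hidx)
    rw [IsPGroup.toSylow_coe, Subgroup.subgroupOf_map_subtype] at h3
    exact h3
  refine ⟨N₁, hSN₁, hN₁ne, ?_⟩
  intro x
  have hx : x ∈ N₁ ⊔ M := by rw [hfr]; exact Subgroup.mem_top x
  obtain ⟨n, hn, m, hm, rfl⟩ := Subgroup.mem_sup_of_normal_right.mp hx
  obtain ⟨q, hq, c, hc, rfl⟩ := Subgroup.mem_sup_of_normal_left.mp hm
  have hqN : q ∈ N₁ := Subgroup.le_normalizer (⟨hQS hq, le_sup_left (a := Q) hq⟩ : q ∈ T)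
  exact ⟨n * q, N₁.mul_mem hn hqN, c, hc, by group⟩

theorem concl_of_pc (W₁ W₂ : ∀ (Q : Type u) [Group Q], Subgroup Q) (T : Sylow p X)
    (hpc : PC p X) (hloc : Loc1997 p W₁ W₂ X) : Concl p W₁ W₂ (T : Subgroup X) ⊤ := by
  set Z := zOm p (T : Subgroup X) with hZ
  have key : ∀ W : ∀ (Q : Type u) [Group Q], Subgroup Q,
      (∀ x : X, ∃ a ∈ Subgroup.centralizer ((Z : Subgroup X) : Set X),
        ∃ b ∈ Subgroup.normalizer ((Cfsg.inducedFunctor (G := X) W (T : Subgroup X) :
          Subgroup X) : Set X), x = a * b) → AI p W (T : Subgroup X) ⊤ = nclIn ⊤ Z := by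
    intro W hfac
    unfold AI
    rw [top_inf_eq]
    symm
    apply nclIn_eq_of_factor le_top
    intro x _
    obtain ⟨a, ha, b, hb, hab⟩ := hfac x⁻¹
    refine ⟨b⁻¹, Subgroup.inv_mem _ hb, a⁻¹, Subgroup.inv_mem _ ha, ?_⟩
    rw [← mul_inv_rev, ← hab, inv_inv]
  obtain ⟨h1, h2⟩ := hloc T
  refine ⟨(key W₁ h1).trans (key W₂ h2).symm, ?_⟩
  rw [key W₁ h1]
  set Q := Cfsg.pCore p X with hQ
  haveI hQn : Q.Normal := pCore_normal p
  haveI hCn : (Subgroup.centralizer ((Q : Subgroup X) : Set X)).Normal :=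
    Subgroup.normal_centralizer
  set M : Subgroup X := Q ⊓ Subgroup.centralizer ((Q : Subgroup X) : Set X) with hM
  haveI hMn : M.Normal := Subgroup.normal_inf_normal _ _
  have hQT : Q ≤ (T : Subgroup X) := pCore_le_sylow T
  have hZM : Z ≤ M := by
    intro z hz
    have h3 := zOm_le _ hz
    have h4 : z ∈ Subgroup.centralizer ((Q : Subgroup X) : Set X) :=
      Subgroup.centralizer_le hQT h3.2
    exact ⟨hpc h4, h4⟩
  refine isMulCommutative_of_le
    (nclIn_le hZM (by rw [Subgroup.normalizer_eq_top])) ?_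
  intro a ha b hb
  exact (Subgroup.mem_centralizer_iff.1 ha.2 b hb.1).symm

theorem concl_of_normal (W W' : ∀ (Q : Type u) [Group Q], Subgroup Q) (T : Sylow p X)
    (hW : Cfsg.IsCharPFunctor.{u} p W)
    (hZ : zOm p (T : Subgroup X) ≤ Cfsg.inducedFunctor (G := X) W (T : Subgroup X))
    (hN : Subgroup.normalizer ((Cfsg.inducedFunctor (G := X) W (T : Subgroup X) : Subgroup X) :
      Set X) = ⊤) (N' : Subgroup X)
    (hfac : ∀ x : X, ∃ n ∈ N',
      ∃ c ∈ Subgroup.centralizer ((Cfsg.pCore p X : Subgroup X) : Set X), x = n * c)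
    (hIH : Concl p W W' (T : Subgroup X) N') : Concl p W W' (T : Subgroup X) ⊤ := by
  set Z := zOm p (T : Subgroup X) with hZdef
  set V := Cfsg.inducedFunctor (G := X) W (T : Subgroup X) with hV
  have hVT : V ≤ (T : Subgroup X) := ((isConjugacyFunctor_induced (X := X) W hW) _ T.2).1
  have hVn : V.Normal := Subgroup.normalizer_eq_top_iff.mp hN
  have hVQ : V ≤ Cfsg.pCore p X := le_pCore hVn (T.2.to_le hVT)
  have hcent : Subgroup.centralizer ((Cfsg.pCore p X : Subgroup X) : Set X) ≤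
      Subgroup.centralizer ((Z : Subgroup X) : Set X) := Subgroup.centralizer_le (hZ.trans hVQ)
  have h1 : AI p W (T : Subgroup X) ⊤ = nclIn ⊤ Z := by
    unfold AI
    rw [← hV, hN, inf_top_eq]
  have h2 : nclIn ⊤ Z = nclIn N' Z := by
    apply nclIn_eq_of_factor le_top
    intro x _
    obtain ⟨n, hn, c, hc, rfl⟩ := hfac x
    exact ⟨n, hn, c, hcent hc, rfl⟩
  have h3 : AI p W (T : Subgroup X) N' = nclIn N' Z := by
    unfold AI
    rw [← hV, hN, inf_top_eq]
  have h4 : AI p W (T : Subgroup X) ⊤ = AI p W (T : Subgroup X) N' := by rw [h1, h2, h3]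
  have h5 : AI p W' (T : Subgroup X) ⊤ ≤ nclIn ⊤ Z := by
    unfold AI
    exact nclIn_mono_left le_top _
  refine ⟨le_antisymm ?_ ?_, ?_⟩
  · rw [h4, hIH.1]
    exact AI_mono W' _ le_top
  · rw [h1]; exact h5
  · rw [h4]; exact hIH.2

end steps

/-- The main induction over the sections of `G`. -/
theorem main_ind {G : Type u} [Group G] [hp : Fact p.Prime]
    (W₁ W₂ : ∀ (Q : Type u) [Group Q], Subgroup Q) (hW₁ : Cfsg.IsCharPFunctor.{u} p W₁)
    (hW₂ : Cfsg.IsCharPFunctor.{u} p W₂)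
    (hloc : ∀ (X : Type u) [Group X] [Finite X], IsSectionOf X G → PC p X →
      Loc1997 p W₁ W₂ X) :
    ∀ (n : ℕ) (X : Type u) [Group X] [Finite X], Nat.card X = n → IsSectionOf X G →
      ∀ T : Sylow p X,
        zOm p (T : Subgroup X) ≤ Cfsg.inducedFunctor (G := X) W₁ (T : Subgroup X) →
        zOm p (T : Subgroup X) ≤ Cfsg.inducedFunctor (G := X) W₂ (T : Subgroup X) →
        Concl p W₁ W₂ (T : Subgroup X) ⊤ := by
  intro n
  induction n using Nat.strong_induction_on with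
  | _ n ih =>
  intro X _ _ hcard hsec T hZ₁ hZ₂
  have hc₁ := isConjugacyFunctor_induced (X := X) W₁ hW₁
  have hc₂ := isConjugacyFunctor_induced (X := X) W₂ hW₂
  have hsub : ∀ H : Subgroup X, H ≠ ⊤ → (T : Subgroup X) ≤ H →
      Concl p W₁ W₂ (T : Subgroup X) H := by
    intro H hH hTH
    apply concl_of_subgroup hW₁ hW₂ _ H T.2 hTH
    have h1 := ih (Nat.card H) (hcard ▸ card_subgroup_lt hH) ↥H rfl
      (IsSectionOf.trans (isSectionOf_subgroup H) hsec) (T.subtype hTH)
      (by rw [Sylow.coe_subtype]; exact hz_subgroup W₁ hW₁ _ H T.2 hTH hZ₁)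
      (by rw [Sylow.coe_subtype]; exact hz_subgroup W₂ hW₂ _ H T.2 hTH hZ₂)
    rwa [Sylow.coe_subtype] at h1
  by_cases hpc : PC p X
  · exact concl_of_pc W₁ W₂ T hpc (hloc X hsec hpc)
  by_cases hO : Cfsg.pPrimeCore p X = ⊥
  swap
  · have hOc : (Nat.card (Cfsg.pPrimeCore p X)).Coprime p := card_pPrimeCore_coprime p
    have hπs := QuotientGroup.mk'_surjective (Cfsg.pPrimeCore p X)
    have h1 := ih (Nat.card (X ⧸ Cfsg.pPrimeCore p X)) (hcard ▸ card_quotient_lt hO)
      (X ⧸ Cfsg.pPrimeCore p X) rfl (IsSectionOf.trans (isSectionOf_quotient _) hsec)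
      (T.mapSurjective hπs)
      (by rw [Sylow.coe_mapSurjective]; exact hz_quotient W₁ hW₁ _ hOc _ T.2 hZ₁)
      (by rw [Sylow.coe_mapSurjective]; exact hz_quotient W₂ hW₂ _ hOc _ T.2 hZ₂)
    rw [Sylow.coe_mapSurjective] at h1
    exact concl_of_quotient hW₁ hW₂ _ hOc _ T.2
      ((AI_le_functor W₁ _ ⊤ hZ₁).trans (hc₁ _ T.2).1)
      ((AI_le_functor W₂ _ ⊤ hZ₂).trans (hc₂ _ T.2).1) h1
  by_cases hN₁ : Subgroup.normalizer
      ((Cfsg.inducedFunctor (G := X) W₁ (T : Subgroup X) : Subgroup X) : Set X) = ⊤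
  · obtain ⟨N', hTN', hN'ne, hfac⟩ := exists_proper_factor hO hpc T
    exact concl_of_normal W₁ W₂ T hW₁ hZ₁ hN₁ N' hfac (hsub N' hN'ne hTN')
  by_cases hN₂ : Subgroup.normalizer
      ((Cfsg.inducedFunctor (G := X) W₂ (T : Subgroup X) : Subgroup X) : Set X) = ⊤
  · obtain ⟨N', hTN', hN'ne, hfac⟩ := exists_proper_factor hO hpc T
    exact (concl_of_normal W₂ W₁ T hW₂ hZ₂ hN₂ N' hfac (hsub N' hN'ne hTN').symm).symm
  have c1 := hsub _ hN₁ (le_normalizer_functor hc₁ T.2)
  have c2 := hsub _ hN₂ (le_normalizer_functor hc₂ T.2)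
  unfold Concl AI at c1 c2 ⊢
  rw [inf_idem] at c1
  rw [inf_idem, inf_comm] at c2
  rw [top_inf_eq, top_inf_eq]
  exact ⟨c1.1.trans c2.1, c1.2⟩

end Cfsg.Agent.Helper1.NC
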