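import Mathlib
import Cfsg.Agent.Helper1.NCC

/-!
`S1997`: two functors with triple factorizations in `p`-constrained sections; the normal closure
of `Ω₁Z(S)` in `N(W₁(S))` is elementary abelian, strongly closed and controls strong fusion.
-/

set_option autoImplicit false

universe u

namespace Cfsg.Agent.Helper1.NC

open Cfsg Cfsg.Agent.Lead Cfsg.Agent.Helper5.TF Cfsg.Agent.Helper1.FT

theorem closure_strongly_closed_of_factorizations {G : Type u} [Group G] [Finite G] {p : ℕ} [Fact p.Prime] (S : Sylow p G) (W₁ W₂ : ∀ (Q : Type u) [Group Q], Subgroup Q) (hW₁ : Cfsg.IsCharPFunctor.{u} p W₁) (hW₂ : Cfsg.IsCharPFunctor.{u} p W₂) (hfac : ∀ (K R : Subgroup G) [hR : (R.subgroupOf K).Normal], Subgroup.centralizer ((Cfsg.pCore p (↥K ⧸ R.subgroupOf K) : Subgroup (↥K ⧸ R.subgroupOf K)) : Set (↥K ⧸ R.subgroupOf K)) ≤ Cfsg.pCore p (↥K ⧸ R.subgroupOf K) → ∀ T : Sylow p (↥K ⧸ R.subgroupOf K), (∀ x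 : (↥K ⧸ R.subgroupOf K), ∃ a ∈ Subgroup.centralizer ((Cfsg.omegaOne p ((T : Subgroup (↥K ⧸ R.subgroupOf K)) ⊓ Subgroup.centralizer (((T : Subgroup (↥K ⧸ R.subgroupOf K)) : Subgroup (↥K ⧸ R.subgroupOf K)) : Set (↥K ⧸ R.subgroupOf K))) : Subgroup (↥K ⧸ R.subgroupOf K)) : Set (↥K ⧸ R.subgroupOf K)), ∃ b ∈ Subgroup.normalizer ((Cfsg.inducedFunctor (G := (↥K ⧸ R.subgroupOf K)) W₁ (T : Subgroup (↥K ⧸ R.subgroupOf K)) : Subgroup (↥K ⧸ R.subgroupOf K)) : Set (↥K ⧸ R.subgroupOf K)), x = a * b) ∧ (∀ x : (↥K ⧸ R.subgroupOf K), ∃ a ∈ Subgroup.centralizer ((Cfsg.omegaOne p ((T : Subgroup (↥K ⧸ R.subgroupOf K)) ⊓ Subgroup.centralizer (((T : Subgroup (↥K ⧸ R.subgroupOf K)) : Subgroup (↥K ⧸ R.subgroupOf K)) : Set (↥K ⧸ R.subgroupOf K))) : Subgroup (↥K ⧸ R.subgroupOf K)) : Set (↥K ⧸ R.subgroupOf K)), ∃ b ∈ Subgroup.normalizer ((Cfsg.inducedFunctor (G := (↥K ⧸ R.subgroupOf K)) W₂ (T : Subgroup (↥K ⧸ R.subgroupOf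 K)) : Subgroup (↥K ⧸ R.subgroupOf K)) : Set (↥K ⧸ R.subgroupOf K)), x = a * b) ∧ (∀ x : (↥K ⧸ R.subgroupOf K), ∃ a ∈ Subgroup.normalizer ((Cfsg.inducedFunctor (G := (↥K ⧸ R.subgroupOf K)) W₁ (T : Subgroup (↥K ⧸ R.subgroupOf K)) : Subgroup (↥K ⧸ R.subgroupOf K)) : Set (↥K ⧸ R.subgroupOf K)), ∃ b ∈ Subgroup.normalizer ((Cfsg.inducedFunctor (G := (↥K ⧸ R.subgroupOf K)) W₂ (T : Subgroup (↥K ⧸ R.subgroupOf K)) : Subgroup (↥K ⧸ R.subgroupOf K)) : Set (↥K ⧸ R.subgroupOf K)), x = a * b)) (hZ : Cfsg.omegaOne p ((S : Subgroup G) ⊓ Subgroup.centralizer (((S : Subgroup G) : Subgroup G) : Set G)) ≤ Cfsg.inducedFunctor (G := G) W₁ (S : Subgroup G) ⊓ Cfsg.inducedFunctor (G := G) W₂ (S : Subgroup G)) (N₁ : Subgroup G) (hN₁ : N₁ = Subgroup.normalizer ((Cfsg.inducedFunctor (G := G) W₁ (S : Subgroup G) : Subgroup G) : Set G)) (A : Subgroup G) (hA : A = (Subgroup.normalClosure (((Cfsg.omegaOne p ((S : Subgroup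 G) ⊓ Subgroup.centralizer (((S : Subgroup G) : Subgroup G) : Set G))).subgroupOf N₁ : Subgroup ↥N₁) : Set ↥N₁)).map N₁.subtype) : A ≤ (S : Subgroup G) ∧ Cfsg.IsElementaryAbelian p A ∧ Cfsg.IsStronglyClosed A (S : Subgroup G) ∧ Cfsg.ControlsStrongFusion p A := by
  have hc₁ := isConjugacyFunctor_induced (X := G) W₁ hW₁
  have hc₂ := isConjugacyFunctor_induced (X := G) W₂ hW₂
  have hloc : ∀ (X : Type u) [Group X] [Finite X], IsSectionOf X G → PC p X →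
      Loc1997 p W₁ W₂ X := by
    intro X _ _ hsecX hpc
    obtain ⟨K', R', hn, ⟨e⟩⟩ := exists_equiv_of_isSectionOf hsecX
    have h0 := hfac K' R' (PC.of_equiv e.symm hpc)
    have h1 : Loc1997 p W₁ W₂ (↥K' ⧸ R'.subgroupOf K') := fun T => ⟨(h0 T).1, (h0 T).2.1⟩
    exact Loc1997.of_equiv hW₁ hW₂ e h1
  have hfac3 : ∀ (K R : Subgroup G) [(R.subgroupOf K).Normal],
      Subgroup.centralizer ((Cfsg.pCore p (↥K ⧸ R.subgroupOf K) :
        Subgroup (↥K ⧸ R.subgroupOf K)) : Set (↥K ⧸ R.subgroupOf K)) ≤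
        Cfsg.pCore p (↥K ⧸ R.subgroupOf K) → Loc1996 p W₁ W₂ (↥K ⧸ R.subgroupOf K) :=
    fun K R _ hpc T => (hfac K R hpc T).2.2
  have hZ' : zOm p (S : Subgroup G) ≤ Cfsg.inducedFunctor (G := G) W₁ (S : Subgroup G) ⊓
      Cfsg.inducedFunctor (G := G) W₂ (S : Subgroup G) := hZ
  have hmain := main_ind W₁ W₂ hW₁ hW₂ hloc (Nat.card G) G rfl (isSectionOf_refl G) S
    (hZ'.trans inf_le_left) (hZ'.trans inf_le_right)
  obtain ⟨hEq, hComm⟩ := hmain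
  unfold AI at hEq hComm
  rw [top_inf_eq] at hEq hComm
  rw [top_inf_eq] at hEq
  set Z := zOm p (S : Subgroup G) with hZdef
  subst hN₁
  set N₁ := Subgroup.normalizer
    ((Cfsg.inducedFunctor (G := G) W₁ (S : Subgroup G) : Subgroup G) : Set G) with hN₁
  set N₂ := Subgroup.normalizer
    ((Cfsg.inducedFunctor (G := G) W₂ (S : Subgroup G) : Subgroup G) : Set G) with hN₂
  have hSN₁ : (S : Subgroup G) ≤ N₁ := le_normalizer_functor hc₁ S.2
  have hZS : Z ≤ (S : Subgroup G) := (zOm_le _).trans inf_le_left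
  have hA' : A = nclIn N₁ Z := by
    rw [hA]
    exact normalClosure_map_eq_nclIn (hZS.trans hSN₁)
  have hAV : A ≤ Cfsg.inducedFunctor (G := G) W₁ (S : Subgroup G) := by
    rw [hA']
    exact nclIn_le (hZ'.trans inf_le_left) le_rfl
  have hAS : A ≤ (S : Subgroup G) := hAV.trans (hc₁ _ S.2).1
  have hcomm := comm_of_isMulCommutative hComm
  have hN₁A : N₁ ≤ Subgroup.normalizer ((A : Subgroup G) : Set G) := by
    rw [hA']
    exact le_normalizer_nclIn N₁ Z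
  have hN₂A : N₂ ≤ Subgroup.normalizer ((A : Subgroup G) : Set G) := by
    rw [hA', hEq]
    exact le_normalizer_nclIn N₂ Z
  have hel : Cfsg.IsElementaryAbelian p A := by
    rw [hA']
    refine ⟨hComm, ?_⟩
    apply pow_eq_one_of_mem_closure
    · rintro _ ⟨a, _, z, hz, rfl⟩
      rw [conj_pow, zOm_pow _ z hz]
      group
    · exact hcomm
  have hfam := fusion_of_factorization_constrained W₁ W₂ hW₁ hW₂ hfac3
  have h𝓦 : ∀ V ∈ ({Cfsg.inducedFunctor (G := G) W₁, Cfsg.inducedFunctor (G := G) W₂} :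
      Set (Subgroup G → Subgroup G)), Cfsg.IsConjugacyFunctor p V := by
    rintro V (rfl | rfl)
    · exact hc₁
    · exact hc₂
  have hsfs := sfs_of_top h𝓦 hfam S
  have hsteps : fusionSteps ({Cfsg.inducedFunctor (G := G) W₁,
      Cfsg.inducedFunctor (G := G) W₂} : Set (Subgroup G → Subgroup G)) ⊤ (S : Subgroup G) ⊆
      ((Subgroup.normalizer ((A : Subgroup G) : Set G) : Subgroup G) : Set G) := by
    rintro x ⟨V, hV, hx⟩
    rcases hV with rfl | rfl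
    · exact hN₁A (Subgroup.mem_inf.mp hx).2
    · exact hN₂A (Subgroup.mem_inf.mp hx).2
  have hctl : ∀ (B : Set G) (g : G), B ⊆ (S : Subgroup G) →
      (fun a => g * a * g⁻¹) '' B ⊆ (S : Subgroup G) →
      ∃ x ∈ Subgroup.normalizer ((A : Subgroup G) : Set G), ∀ b ∈ B,
        g * b * g⁻¹ = x * b * x⁻¹ := by
    intro B g hB hg
    have hBg : conjR g⁻¹ B ⊆ (S : Subgroup G) := by
      rintro _ ⟨a, ha, rfl⟩
      have := hg ⟨a, ha, rfl⟩
      simpa using this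
    obtain ⟨g', hch, hag⟩ := hsfs B g⁻¹ hB hBg
    have hg'N := FChain_mem_of_steps _ hsteps hch
    refine ⟨g'⁻¹, Subgroup.inv_mem _ hg'N, fun a ha => ?_⟩
    have := hag a ha
    rw [inv_inv] at this ⊢
    exact this.symm
  refine ⟨hAS, hel, ⟨hAS, ?_⟩, ⟨S, hAS, fun B hB => ⟨hB, fun g hg => hctl B g hB hg⟩⟩⟩
  intro x hx g hgx
  have hB : ({x} : Set G) ⊆ (S : Subgroup G) := by
    rintro _ rfl
    exact hAS hx
  have hg : (fun a => g * a * g⁻¹) '' ({x} : Set G) ⊆ (S : Subgroup G) := by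
    rintro _ ⟨_, rfl, rfl⟩
    exact hgx
  obtain ⟨y, hy, hyx⟩ := hctl {x} g hB hg
  rw [hyx x rfl]
  exact (Subgroup.mem_normalizer_iff.1 hy x).1 hx

end Cfsg.Agent.Helper1.NC
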