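import Mathlib

set_option autoImplicit false

/-!
Lifting the normalizer of a `p`-subgroup of a quotient (Frattini argument).
-/

namespace Cfsg.Agent.Helper1
namespace NormLift

open scoped Pointwise

theorem exists_lift_normalizer {K X : Type*} [Group K] [Group X] [Finite K] {p : ℕ}
    [Fact p.Prime] (f : K →* X) (hf : Function.Surjective f) (Pb : Subgroup X)
    (hPb : IsPGroup p Pb) :
    ∃ Q : Subgroup K, IsPGroup p Q ∧ Q.map f = Pb ∧
      (Subgroup.normalizer (Q : Set K)).map f = Subgroup.normalizer (Pb : Set X) := by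
  obtain ⟨M, hM⟩ : ∃ M : Subgroup K, ∀ k, k ∈ M ↔ f k ∈ Subgroup.normalizer (Pb : Set X) :=
    ⟨(Subgroup.normalizer (Pb : Set X)).comap f, fun k => Iff.rfl⟩
  obtain ⟨f', hf'⟩ : ∃ f' : M →* X, f' = f.comp M.subtype := ⟨_, rfl⟩
  have hf'a : ∀ m : M, f' m = f (m : K) := by intro m; rw [hf']; rfl
  have hf'N : ∀ m : M, f' m ∈ Subgroup.normalizer (Pb : Set X) := by
    intro m
    rw [hf'a]
    exact (hM _).1 m.2
  obtain ⟨Q₀, hQ₀⟩ : ∃ Q₀ : Subgroup M, ∀ q, q ∈ Q₀ ↔ f' q ∈ Pb :=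
    ⟨Pb.comap f', fun q => Iff.rfl⟩
  haveI hQ₀n : Q₀.Normal := by
    refine ⟨fun q hq m => ?_⟩
    rw [hQ₀] at hq ⊢
    rw [map_mul, map_mul, map_inv]
    exact (Subgroup.mem_normalizer_iff.1 (hf'N m) _).1 hq
  -- every element of `Pb` is the image of an element of `Q₀`
  have hlift : ∀ y ∈ Pb, ∃ q ∈ Q₀, f' q = y := by
    intro y hy
    obtain ⟨k, rfl⟩ := hf y
    have hk : k ∈ M := by
      rw [hM]
      exact Subgroup.le_normalizer hy
    refine ⟨⟨k, hk⟩, ?_, hf'a _⟩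
    rw [hQ₀, hf'a]
    exact hy
  obtain ⟨S⟩ : Nonempty (Sylow p Q₀) := inferInstance
  obtain ⟨QM, hQM⟩ : ∃ QM : Subgroup M, QM = (S : Subgroup Q₀).map Q₀.subtype := ⟨_, rfl⟩
  have hQMp : IsPGroup p QM := hQM ▸ S.2.map _
  have hQMle : QM ≤ Q₀ := hQM ▸ Subgroup.map_subtype_le _
  -- the image of `QM` is `Pb`
  have hQMmap : QM.map f' = Pb := by
    apply le_antisymm
    · rintro _ ⟨q, hq, rfl⟩
      exact (hQ₀ _).1 (hQMle hq)
    · obtain ⟨g, hg⟩ : ∃ g : Q₀ →* Pb, ∀ q : Q₀, ((g q : Pb) : X) = f' (q : M) :=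
        ⟨(f'.comp Q₀.subtype).codRestrict Pb (fun q => (hQ₀ _).1 q.2), fun q => rfl⟩
      have hgs : Function.Surjective g := by
        rintro ⟨y, hy⟩
        obtain ⟨q, hq, hqy⟩ := hlift y hy
        exact ⟨⟨q, hq⟩, Subtype.ext (by rw [hg]; exact hqy)⟩
      have htop : ((S.mapSurjective hgs : Sylow p Pb) : Subgroup Pb) = ⊤ :=
        ((S.mapSurjective hgs).is_maximal' (hPb.to_subgroup ⊤) le_top).symm
      intro y hy
      have h1 : (⟨y, hy⟩ : Pb) ∈ ((S.mapSurjective hgs : Sylow p Pb) : Subgroup Pb) := by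
        rw [htop]; exact Subgroup.mem_top _
      rw [Sylow.coe_mapSurjective] at h1
      obtain ⟨s, hs, hs'⟩ := h1
      refine ⟨(s : M), ?_, ?_⟩
      · rw [hQM]; exact ⟨s, hs, rfl⟩
      · rw [← hg, hs']
  -- Frattini
  have hfr : Subgroup.normalizer (QM : Set M) ⊔ Q₀ = ⊤ := by
    rw [hQM]; exact Sylow.normalizer_sup_eq_top S
  refine ⟨QM.map M.subtype, hQMp.map _, ?_, ?_⟩
  · rw [Subgroup.map_map, ← hf', hQMmap]
  · apply le_antisymm
    · refine (Subgroup.le_normalizer_map f).trans ?_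
      rw [Subgroup.map_map, ← hf', hQMmap]
    · intro nb hnb
      obtain ⟨n, rfl⟩ := hf nb
      have hnM : n ∈ M := by rw [hM]; exact hnb
      have h1 : (⟨n, hnM⟩ : M) ∈ Subgroup.normalizer (QM : Set M) ⊔ Q₀ := by
        rw [hfr]; trivial
      rw [← SetLike.mem_coe, Subgroup.mul_normal] at h1
      obtain ⟨m, hm, q, hq, hmq⟩ := h1
      change m * q = _ at hmq
      have hq' : f' q ∈ Pb := (hQ₀ _).1 hq
      rw [← hQMmap] at hq'
      obtain ⟨q₁, hq₁, hq₁q⟩ := hq'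
      have hmq₁ : m * q₁ ∈ Subgroup.normalizer (QM : Set M) :=
        Subgroup.mul_mem _ hm (Subgroup.le_normalizer hq₁)
      refine ⟨((m * q₁ : M) : K), ?_, ?_⟩
      · exact Subgroup.le_normalizer_map M.subtype ⟨m * q₁, hmq₁, rfl⟩
      · rw [← hf'a, map_mul, hq₁q, ← map_mul, hmq, hf'a]

end NormLift
end Cfsg.Agent.Helper1
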