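import Mathlib
import Cfsg.Agent.Lead.QdStruct
import Cfsg.Agent.Lead.QdAlt
import Cfsg.Agent.Lead.InvolvesLemmas
import Cfsg.Agent.Helper1.NormLift

set_option autoImplicit false

/-!
If `N_G(Q) / C_G(Q)` has no section `SL₂(p)` for any `p`-subgroup `Q`, then `G` does not involve
`Qd(p)`.
-/

namespace Cfsg.Agent.Helper1
namespace NF

open Cfsg Cfsg.Agent.Lead

/-- build a section `H / K` with `C_G(Q) ≤ K ≤ H ≤ N_G(Q)` from a surjection of a subgroup of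
`N_G(Q)` killing `C_G(Q)` -/
theorem exists_section_of_hom {G : Type*} [Group G] {X : Type*} [Group X] (Q N₀ : Subgroup G)
    (hN₀ : N₀ ≤ Subgroup.normalizer (Q : Set G)) (φ : ↥N₀ →* X) (hφ : Function.Surjective φ)
    (hker : ∀ n : N₀, (n : G) ∈ Subgroup.centralizer (Q : Set G) → φ n = 1) :
    ∃ (H K : Subgroup G) (_ : (K.subgroupOf H).Normal),
      Subgroup.centralizer (Q : Set G) ≤ K ∧ K ≤ H ∧ H ≤ Subgroup.normalizer (Q : Set G) ∧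
      Nonempty ((↥H ⧸ K.subgroupOf H) ≃* X) := by
  obtain ⟨N, hN⟩ : ∃ N : Subgroup G, N = Subgroup.normalizer (Q : Set G) := ⟨_, rfl⟩
  obtain ⟨C, hC⟩ : ∃ C : Subgroup G, C = Subgroup.centralizer (Q : Set G) := ⟨_, rfl⟩
  have hCN : C ≤ N := by rw [hC, hN]; exact Subgroup.centralizer_le_normalizer _
  rw [← hN] at hN₀ ⊢
  rw [← hC] at hker ⊢
  haveI hCn : (C.subgroupOf N).Normal := by
    rw [hC, hN]; infer_instance
  obtain ⟨π, hπ⟩ : ∃ π : ↥N →* ↥N ⧸ C.subgroupOf N, π = QuotientGroup.mk' (C.subgroupOf N) :=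
    ⟨_, rfl⟩
  have hπsurj : Function.Surjective π := by rw [hπ]; exact QuotientGroup.mk'_surjective _
  have hπ1 : ∀ x : ↥N, π x = 1 ↔ (x : G) ∈ C := by
    intro x
    rw [hπ, QuotientGroup.mk'_apply, QuotientGroup.eq_one_iff, Subgroup.mem_subgroupOf]
  obtain ⟨ρ, hρ⟩ : ∃ ρ : ↥N₀ →* ↥N ⧸ C.subgroupOf N, ρ = π.comp (Subgroup.inclusion hN₀) :=
    ⟨_, rfl⟩
  obtain ⟨E, hE⟩ : ∃ E : Subgroup (↥N ⧸ C.subgroupOf N), E = ρ.range := ⟨_, rfl⟩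
  have hρE : ∀ n, ρ n ∈ E := by intro n; rw [hE]; exact ⟨n, rfl⟩
  obtain ⟨ρ', hρ'⟩ : ∃ ρ' : ↥N₀ →* ↥E, ∀ n, ((ρ' n : ↥E) : ↥N ⧸ C.subgroupOf N) = ρ n :=
    ⟨ρ.codRestrict E hρE, fun n => rfl⟩
  have hρ'surj : Function.Surjective ρ' := by
    rintro ⟨e, he⟩
    rw [hE] at he
    obtain ⟨n, rfl⟩ := he
    exact ⟨n, Subtype.ext (hρ' n)⟩
  have hkerle : ρ'.ker ≤ φ.ker := by
    intro n hn
    rw [MonoidHom.mem_ker] at hn ⊢
    apply hker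
    have h1 : ρ n = 1 := by rw [← hρ', hn]; rfl
    rw [hρ] at h1
    exact (hπ1 _).1 h1
  obtain ⟨ψ, hψ⟩ : ∃ ψ : ↥E →* X, ∀ n, ψ (ρ' n) = φ n :=
    ⟨ρ'.liftOfSurjective hρ'surj ⟨φ, hkerle⟩,
      fun n => MonoidHom.liftOfRightInverse_comp_apply _ _ _ _ _⟩
  have hψsurj : Function.Surjective ψ := by
    intro x
    obtain ⟨n, rfl⟩ := hφ x
    exact ⟨ρ' n, hψ n⟩
  obtain ⟨L, hL⟩ : ∃ L : Subgroup ↥N, L = E.comap π := ⟨_, rfl⟩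
  obtain ⟨H, hH⟩ : ∃ H : Subgroup G, H = L.map N.subtype := ⟨_, rfl⟩
  obtain ⟨e, he⟩ : ∃ e : ↥L ≃* ↥H, ∀ x : ↥L, ((e x : ↥H) : G) = ((x : ↥N) : G) := by
    subst hH
    exact ⟨Subgroup.equivMapOfInjective L N.subtype N.subtype_injective, fun x => rfl⟩
  obtain ⟨σ, hσ⟩ : ∃ σ : ↥L →* ↥E, ∀ x : ↥L, ((σ x : ↥E) : ↥N ⧸ C.subgroupOf N) = π (x : ↥N) := by
    subst hL
    exact ⟨π.subgroupComap E, fun x => rfl⟩
  have hσsurj : Function.Surjective σ := by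
    rintro ⟨y, hy⟩
    obtain ⟨x, rfl⟩ := hπsurj y
    have hx : x ∈ L := by rw [hL]; exact hy
    exact ⟨⟨x, hx⟩, Subtype.ext (hσ _)⟩
  obtain ⟨χ, hχ⟩ : ∃ χ : ↥H →* X, χ = ψ.comp (σ.comp e.symm.toMonoidHom) := ⟨_, rfl⟩
  have hχsurj : Function.Surjective χ := by
    rw [hχ]
    exact hψsurj.comp (hσsurj.comp e.symm.surjective)
  have hsub : (χ.ker.map H.subtype).subgroupOf H = χ.ker := by
    rw [Subgroup.subgroupOf, Subgroup.comap_map_eq_self_of_injective H.subtype_injective]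
  have hn : ((χ.ker.map H.subtype).subgroupOf H).Normal := by
    rw [hsub]; infer_instance
  refine ⟨H, χ.ker.map H.subtype, hn, ?_, Subgroup.map_subtype_le _, ?_,
    ⟨(QuotientGroup.quotientMulEquivOfEq hsub).trans
      (QuotientGroup.quotientKerEquivOfSurjective χ hχsurj)⟩⟩
  · intro c hc
    have hcN : c ∈ N := hCN hc
    have hcL : (⟨c, hcN⟩ : ↥N) ∈ L := by
      rw [hL, Subgroup.mem_comap, (hπ1 _).2 hc]
      exact Subgroup.one_mem _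
    have hcH : c ∈ H := by
      rw [hH]; exact ⟨⟨c, hcN⟩, hcL, rfl⟩
    refine ⟨⟨c, hcH⟩, ?_, rfl⟩
    rw [SetLike.mem_coe, MonoidHom.mem_ker, hχ]
    have h1 : e.symm ⟨c, hcH⟩ = ⟨⟨c, hcN⟩, hcL⟩ := by
      rw [MulEquiv.symm_apply_eq]
      exact Subtype.ext (he ⟨⟨c, hcN⟩, hcL⟩).symm
    have h2 : σ ⟨⟨c, hcN⟩, hcL⟩ = 1 := by
      apply Subtype.ext
      rw [hσ]
      exact (hπ1 _).2 hc
    show ψ (σ (e.symm ⟨c, hcH⟩)) = 1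
    rw [h1, h2, map_one]
  · rw [hH]
    rintro _ ⟨x, -, rfl⟩
    exact x.2

theorem isPGroup_qdV (p : ℕ) [hp : Fact p.Prime] : IsPGroup p (Qd.V p) := by
  rintro ⟨g, hg⟩
  obtain ⟨v, rfl⟩ := (Qd.mem_V p g).1 hg
  refine ⟨1, Subtype.ext ?_⟩
  rw [pow_one, Subgroup.coe_pow, Subgroup.coe_one]
  show (Qd.mkq p 1 v) ^ p = 1
  rw [Qd.mkq_one_pow, ← Qd.mkq_one]
  congr 1
  funext i
  simp

/-- `V` is self-centralizing in `Qd(p)` -/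
theorem qd_centralizer_V_le (p : ℕ) [hp : Fact p.Prime] (g : ↥(Cfsg.qd p))
    (hg : ∀ v : Fin 2 → ZMod p, g * Qd.mkq p 1 v = Qd.mkq p 1 v * g) : Qd.proj p g = 1 := by
  obtain ⟨A, w, rfl⟩ : ∃ A w, g = Qd.mkq p A w := ⟨_, _, (Qd.mkq_blk_vec p g).symm⟩
  rw [Qd.proj_mkq]
  have h1 : ∀ v : Fin 2 → ZMod p, A.1.mulVec v = v := by
    intro v
    have h2 := Qd.conj_mkq_one p A w v
    rw [hg v, mul_inv_cancel_right] at h2
    exact (Qd.mkq_inj p h2).2.symm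
  apply Subtype.ext
  apply Matrix.mulVec_injective
  funext v
  rw [h1 v, Matrix.SpecialLinearGroup.coe_one, Matrix.one_mulVec]

theorem not_involves_qd_of_local {G : Type*} [Group G] [Finite G] {p : ℕ} [hp : Fact p.Prime]
    (hfree : ∀ Q : Subgroup G, IsPGroup p ↥Q →
      ¬ ∃ (H K : Subgroup G) (_ : (K.subgroupOf H).Normal),
      Subgroup.centralizer (Q : Set G) ≤ K ∧ K ≤ H ∧ H ≤ Subgroup.normalizer (Q : Set G) ∧
      Nonempty ((↥H ⧸ K.subgroupOf H) ≃* Matrix.SpecialLinearGroup (Fin 2) (ZMod p))) :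
    ¬ Cfsg.Involves ↥(Cfsg.qd p) G := by
  intro hinv
  obtain ⟨K, f, hf⟩ := exists_maps_of_involves hinv
  obtain ⟨Q₀, hQ₀p, hQ₀map, hQ₀N⟩ :=
    NormLift.exists_lift_normalizer f hf (Qd.V p) (isPGroup_qdV p)
  have hNV : Subgroup.normalizer ((Qd.V p : Subgroup ↥(Cfsg.qd p)) : Set ↥(Cfsg.qd p)) = ⊤ :=
    Subgroup.normalizer_eq_top _
  rw [hNV] at hQ₀N
  obtain ⟨N₁, hN₁⟩ : ∃ N₁ : Subgroup ↥K, N₁ = Subgroup.normalizer (Q₀ : Set ↥K) := ⟨_, rfl⟩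
  rw [← hN₁] at hQ₀N
  obtain ⟨N₀, hN₀⟩ : ∃ N₀ : Subgroup G, N₀ = N₁.map K.subtype := ⟨_, rfl⟩
  obtain ⟨e, he⟩ : ∃ e : ↥N₁ ≃* ↥N₀, ∀ x : ↥N₁, ((e x : ↥N₀) : G) = ((x : ↥K) : G) := by
    subst hN₀
    exact ⟨Subgroup.equivMapOfInjective N₁ K.subtype K.subtype_injective, fun x => rfl⟩
  obtain ⟨φ, hφ⟩ : ∃ φ : ↥N₀ →* Matrix.SpecialLinearGroup (Fin 2) (ZMod p),
      ∀ y : ↥N₀, φ y = Qd.proj p (f ((e.symm y : ↥N₁) : ↥K)) :=
    ⟨(Qd.proj p).comp (f.comp (N₁.subtype.comp e.symm.toMonoidHom)), fun y => rfl⟩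
  apply hfree (Q₀.map K.subtype) (hQ₀p.map _)
  apply exists_section_of_hom (Q₀.map K.subtype) N₀ ?_ φ ?_ ?_
  · rw [hN₀, hN₁]
    exact Subgroup.le_normalizer_map K.subtype
  · intro A
    have h1 : Qd.mkq p A 0 ∈ N₁.map f := by rw [hQ₀N]; exact Subgroup.mem_top _
    obtain ⟨n, hn, hfn⟩ := h1
    refine ⟨e ⟨n, hn⟩, ?_⟩
    rw [hφ, MulEquiv.symm_apply_apply, hfn, Qd.proj_mkq]
  · intro y hy
    rw [hφ]
    apply qd_centralizer_V_le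
    intro v
    have h1 : Qd.mkq p 1 v ∈ Q₀.map f := by
      rw [hQ₀map]; exact (Qd.mem_V p _).2 ⟨v, rfl⟩
    obtain ⟨q, hq, hfq⟩ := h1
    rw [← hfq, ← map_mul, ← map_mul]
    congr 1
    apply Subtype.ext
    rw [Subgroup.coe_mul, Subgroup.coe_mul]
    have h2 : (((e.symm y : ↥N₁) : ↥K) : G) = (y : G) := by
      rw [← he, MulEquiv.apply_symm_apply]
    rw [h2]
    exact Subgroup.mem_centralizer_iff.1 hy _ ⟨q, hq, rfl⟩ |>.symm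

end NF
end Cfsg.Agent.Helper1
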