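import Mathlib
import Cfsg.Agent.Helper1.NFg

set_option autoImplicit false

/-!
Control of strong fusion: groups with a normal `p`-complement relative to a normal subgroup,
Burnside's normal `p`-complement for a central Sylow subgroup, and a factorization lemma.
-/

namespace Cfsg.Agent.Helper1
namespace NF

open Cfsg Cfsg.Agent.Lead

variable {G : Type*} [Group G] [Finite G] {p : ℕ} [hp : Fact p.Prime]

/-- Let `Y ⊴ K`, `C ⊴ Y` with `Y / C` a `p`-group, and `T` a "Sylow" subgroup of `K`. Then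
`Y = (T ⊓ Y) C`. -/
theorem mem_mul_of_pgroup_quotient {K Y C T : Subgroup G}
    (hYK : Y ≤ K) (hKY : K ≤ Subgroup.normalizer (Y : Set G)) (hCY : C ≤ Y)
    (hYC : Y ≤ Subgroup.normalizer (C : Set G))
    (hpow : ∀ y ∈ Y, ∃ m : ℕ, y ^ p ^ m ∈ C)
    (hTK : T ≤ K) (hTp : IsPGroup p T)
    (hTcard : Nat.card T = p ^ (Nat.card K).factorization p) :
    ∀ y ∈ Y, ∃ t ∈ T ⊓ Y, ∃ c ∈ C, y = t * c := by
  intro y hyY
  have hcardTY : Nat.card ↥(T ⊓ Y) = p ^ (Nat.card Y).factorization p :=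
    card_inf_eq_ppart_of_normal hTK hYK hKY hTp hTcard
  have hcard' : Nat.card ((T ⊓ Y).subgroupOf Y) = p ^ (Nat.card Y).factorization p := by
    rw [card_subgroupOf_of_le inf_le_right]; exact hcardTY
  obtain ⟨T', hT'⟩ : ∃ T' : Sylow p Y, (T' : Subgroup Y) = (T ⊓ Y).subgroupOf Y :=
    ⟨Sylow.ofCard _ hcard', rfl⟩
  haveI hCn : (C.subgroupOf Y).Normal :=
    (Subgroup.normal_subgroupOf_iff_le_normalizer hCY).2 hYC
  have hq : IsPGroup p (↥Y ⧸ C.subgroupOf Y) := by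
    intro x
    induction x using QuotientGroup.induction_on with
    | H z =>
      obtain ⟨m, hm⟩ := hpow z.1 z.2
      refine ⟨m, ?_⟩
      rw [← QuotientGroup.mk_pow, QuotientGroup.eq_one_iff, Subgroup.mem_subgroupOf]
      simpa using hm
  have htop : (T' : Subgroup Y) ⊔ C.subgroupOf Y = ⊤ := by
    rw [← Subgroup.index_eq_one]
    obtain ⟨k, hk⟩ := IsPGroup.iff_card.mp hq
    have h1 : ((T' : Subgroup Y) ⊔ C.subgroupOf Y).index ∣ (T' : Subgroup Y).index :=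
      Subgroup.index_dvd_of_le le_sup_left
    have h2 : ((T' : Subgroup Y) ⊔ C.subgroupOf Y).index ∣ (C.subgroupOf Y).index :=
      Subgroup.index_dvd_of_le le_sup_right
    rw [Subgroup.index_eq_card (C.subgroupOf Y), hk] at h2
    have h3 : ¬ p ∣ ((T' : Subgroup Y) ⊔ C.subgroupOf Y).index :=
      fun h => T'.not_dvd_index (h.trans h1)
    have h4 : Nat.Coprime ((T' : Subgroup Y) ⊔ C.subgroupOf Y).index p :=
      ((Nat.Prime.coprime_iff_not_dvd hp.out).2 h3).symm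
    exact (Nat.Coprime.pow_right k h4).eq_one_of_dvd h2
  have hmem : (⟨y, hyY⟩ : Y) ∈ (T' : Subgroup Y) ⊔ C.subgroupOf Y := by
    rw [htop]; exact Subgroup.mem_top _
  obtain ⟨t, ht, c, hc, htc⟩ := Subgroup.mem_sup_of_normal_right.mp hmem
  rw [hT', Subgroup.mem_subgroupOf] at ht
  rw [Subgroup.mem_subgroupOf] at hc
  refine ⟨t, ht, c, hc, ?_⟩
  have := congrArg Subtype.val htc
  simpa using this.symm

/-- Burnside: a central Sylow subgroup has a normal complement, which contains all elements of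
order prime to `p`. -/
theorem exists_pcomplement_of_central_sylow {Γ : Type*} [Group Γ] [Finite Γ] (R : Sylow p Γ)
    (hR : (R : Subgroup Γ) ≤ Subgroup.center Γ) :
    ∃ K₀ : Subgroup Γ, (Nat.card K₀).Coprime p ∧ (∀ γ : Γ, (orderOf γ).Coprime p → γ ∈ K₀) ∧
      ∀ γ : Γ, ∃ κ ∈ K₀, ∃ r ∈ (R : Subgroup Γ), γ = κ * r := by
  have hP : Subgroup.normalizer (R : Set Γ) ≤ Subgroup.centralizer (R : Set Γ) := by
    intro x _
    rw [Subgroup.mem_centralizer_iff]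
    intro r hr
    exact (Subgroup.mem_center_iff.1 (hR hr) x).symm
  refine ⟨(MonoidHom.transferSylow R hP).ker, ?_, ?_, ?_⟩
  · exact ((Nat.Prime.coprime_iff_not_dvd hp.out).2
      (MonoidHom.not_dvd_card_ker_transferSylow R hP)).symm
  · intro γ hγ
    rw [MonoidHom.mem_ker]
    have h1 : orderOf (MonoidHom.transferSylow R hP γ) ∣ orderOf γ := orderOf_map_dvd _ γ
    obtain ⟨k, hk⟩ := (IsPGroup.iff_orderOf.1 R.2) (MonoidHom.transferSylow R hP γ)
    rw [hk] at h1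
    have h2 : (p ^ k).Coprime p := Nat.Coprime.coprime_dvd_left h1 hγ
    have h3 : k = 0 := by
      by_contra hk0
      have : p ∣ p ^ k := dvd_pow_self p hk0
      have := Nat.Coprime.eq_one_of_dvd h2.symm this
      exact hp.out.one_lt.ne' this
    rw [h3, pow_zero, orderOf_eq_one_iff] at hk
    exact hk
  · intro γ
    have h := (MonoidHom.ker_transferSylow_isComplement' R hP).sup_eq_top
    have hγ : γ ∈ (MonoidHom.transferSylow R hP).ker ⊔ (R : Subgroup Γ) :=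
      h ▸ Subgroup.mem_top γ
    obtain ⟨κ, hκ, r, hr, e⟩ := Subgroup.mem_sup_of_normal_left.mp hγ
    exact ⟨κ, hκ, r, hr, e.symm⟩

/-- If the normal subgroup `X` is `(P ∩ X) K` with `K` a `p'`-subgroup normalized by `X`, then
`N_G(P ∩ X)` controls strong fusion in `P`. -/
theorem control_of_pcomplement (P : Sylow p G) (X K : Subgroup G) [hXn : X.Normal]
    (hKX : K ≤ X) (hXK : X ≤ Subgroup.normalizer (K : Set G)) (hKp : (Nat.card K).Coprime p)
    (hdec : ∀ x ∈ X, ∃ q ∈ (P : Subgroup G) ⊓ X, ∃ κ ∈ K, x = q * κ) :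
    ∀ A : Subgroup G, A ≤ (P : Subgroup G) → ∀ g : G,
      A.map (MulAut.conj g).toMonoidHom ≤ (P : Subgroup G) →
      ∃ h ∈ Subgroup.normalizer (((P : Subgroup G) ⊓ X : Subgroup G) : Set G),
        ∃ c ∈ Subgroup.centralizer (A : Set G), g = h * c := by
  obtain ⟨Q₁, hQ₁⟩ : ∃ Q₁, Q₁ = (P : Subgroup G) ⊓ X := ⟨_, rfl⟩
  rw [← hQ₁] at hdec ⊢
  have hQ₁P : Q₁ ≤ (P : Subgroup G) := hQ₁ ▸ inf_le_left
  have hQ₁X : Q₁ ≤ X := hQ₁ ▸ inf_le_right
  have hQ₁p : IsPGroup p Q₁ := P.2.to_le hQ₁P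
  have hdisj : Q₁ ⊓ K = ⊥ := by
    rw [← disjoint_iff]
    apply Subgroup.disjoint_of_coprime_natCard
    obtain ⟨j, hj⟩ := IsPGroup.iff_card.mp hQ₁p
    rw [hj]
    exact Nat.Coprime.pow_left j hKp.symm
  have hctl : Ctl X Q₁ Q₁ := by
    intro A hA n hn hAn
    obtain ⟨q, hq, κ, hκ, rfl⟩ := hdec n hn
    refine ⟨q, ⟨hQ₁X hq, Subgroup.le_normalizer hq⟩, κ, ⟨hKX hκ, ?_⟩, rfl⟩
    show κ ∈ Subgroup.centralizer (A : Set G)
    rw [Subgroup.mem_centralizer_iff]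
    intro a ha
    have h1 : κ * a * κ⁻¹ ∈ Q₁ := by
      have h2 : (q * κ) * a * (q * κ)⁻¹ ∈ Q₁ := hAn ⟨a, ha, rfl⟩
      have : κ * a * κ⁻¹ = q⁻¹ * ((q * κ) * a * (q * κ)⁻¹) * q := by group
      rw [this]
      exact Q₁.mul_mem (Q₁.mul_mem (Q₁.inv_mem hq) h2) hq
    have h3 : κ * a * κ⁻¹ * a⁻¹ ∈ Q₁ := Q₁.mul_mem h1 (Q₁.inv_mem (hA ha))
    have h4 : κ * a * κ⁻¹ * a⁻¹ ∈ K := by
      have h5 : a * κ⁻¹ * a⁻¹ ∈ K :=
        (Subgroup.mem_normalizer_iff.mp (hXK (hQ₁X (hA ha))) κ⁻¹).mp (K.inv_mem hκ)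
      have : κ * a * κ⁻¹ * a⁻¹ = κ * (a * κ⁻¹ * a⁻¹) := by group
      rw [this]
      exact K.mul_mem hκ h5
    have h6 : κ * a * κ⁻¹ * a⁻¹ = 1 := by
      have : κ * a * κ⁻¹ * a⁻¹ ∈ Q₁ ⊓ K := ⟨h3, h4⟩
      rw [hdisj] at this
      exact this
    calc a * κ = (κ * a * κ⁻¹ * a⁻¹)⁻¹ * κ * a := by group
      _ = κ * a := by rw [h6]; group
  obtain ⟨W, hW⟩ : ∃ W, W = Subgroup.closure (⋃ x ∈ Subgroup.normalizer
      (((P : Subgroup G) ⊓ X : Subgroup G) : Set G),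
      ((Q₁.map (MulAut.conj x).toMonoidHom : Subgroup G) : Set G)) := ⟨_, rfl⟩
  have hcontrol := control_of_normal X P Q₁ (le_of_eq hQ₁) (hQ₁ ▸ hctl) W hW
  have hWeq : W = Q₁ := by
    apply le_antisymm
    · rw [hW, Subgroup.closure_le]
      intro y hy
      simp only [Set.mem_iUnion] at hy
      obtain ⟨x, hx, hy⟩ := hy
      obtain ⟨v, hv, rfl⟩ := hy
      rw [← hQ₁] at hx
      exact conj_mem_of_mem_normalizer hx hv
    · intro v hv
      rw [hW]
      apply Subgroup.subset_closure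
      simp only [Set.mem_iUnion]
      exact ⟨1, Subgroup.one_mem _, ⟨v, hv, by simp⟩⟩
  rw [hWeq] at hcontrol
  exact hcontrol

end NF
end Cfsg.Agent.Helper1
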