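import Mathlib
import Cfsg.Agent.Helper1.NFh
import Cfsg.Agent.Helper1.NFi

set_option autoImplicit false

/-!
Control of strong fusion: combining control by a subgroup `M` with control inside `M`.
-/

namespace Cfsg.Agent.Helper1
namespace NF

open Cfsg Cfsg.Agent.Lead

variable {G : Type*} [Group G] [Finite G] {p : ℕ} [hp : Fact p.Prime]

omit [Finite G] in
/-- if `M` controls strong fusion in `P` and, inside `M`, `N_M(W')` does, then `N_M(W')` controls
strong fusion in `P` with respect to `G` -/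
theorem ctrl_of_local (P : Sylow p G) (M : Subgroup G) (hPM : (P : Subgroup G) ≤ M)
    (hctrl : ∀ A : Subgroup G, A ≤ (P : Subgroup G) → ∀ g : G,
      A.map (MulAut.conj g).toMonoidHom ≤ (P : Subgroup G) →
      ∃ h ∈ M, ∃ c ∈ Subgroup.centralizer (A : Set G), g = h * c)
    (S' W' : Subgroup ↥M) (hS' : S' = (P : Subgroup G).subgroupOf M)
    (hloc : ∀ A : Subgroup ↥M, A ≤ S' → ∀ g : ↥M, A.map (MulAut.conj g).toMonoidHom ≤ S' →
      ∃ h ∈ Subgroup.normalizer (W' : Set ↥M), ∃ c ∈ Subgroup.centralizer (A : Set ↥M),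
        g = h * c) :
    ∀ A : Subgroup G, A ≤ (P : Subgroup G) → ∀ g : G,
      A.map (MulAut.conj g).toMonoidHom ≤ (P : Subgroup G) →
      ∃ h ∈ M ⊓ Subgroup.normalizer ((W'.map M.subtype : Subgroup G) : Set G),
        ∃ c ∈ Subgroup.centralizer (A : Set G), g = h * c := by
  have hctl := ctl_of_subtype M S' W' hloc
  have hS'map : S'.map M.subtype = (P : Subgroup G) := by
    rw [hS', Subgroup.subgroupOf_map_subtype, inf_eq_left.2 hPM]
  rw [hS'map] at hctl
  intro A hA g hg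
  obtain ⟨n, hn, c, hc, rfl⟩ := hctrl A hA g hg
  have hAn : A.map (MulAut.conj n).toMonoidHom ≤ (P : Subgroup G) := by
    rintro _ ⟨a, ha, rfl⟩
    have h1 : (n * c) * a * (n * c)⁻¹ ∈ (P : Subgroup G) := hg ⟨a, ha, rfl⟩
    have h2 := Subgroup.mem_centralizer_iff.1 hc a ha
    have e : (n * c) * a * (n * c)⁻¹ = n * a * n⁻¹ := by
      have : (n * c) * a * (n * c)⁻¹ = n * (c * a) * c⁻¹ * n⁻¹ := by group
      rw [this, ← h2]; group
    rw [e] at h1
    exact h1
  obtain ⟨h, hh, c', hc', rfl⟩ := hctl A hA n hn hAn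
  exact ⟨h, hh, c' * c, Subgroup.mul_mem _ hc'.2 hc, by group⟩

end NF
end Cfsg.Agent.Helper1
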