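import Mathlib
import Cfsg.Agent.Helper1.NFj

set_option autoImplicit false

/-!
Control of strong fusion: the normal `p`-complement of `C_G(Q)` for a centric `Q`.
-/

namespace Cfsg.Agent.Helper1
namespace NF

open Cfsg Cfsg.Agent.Lead

variable {G : Type*} [Group G] [Finite G] {p : ℕ} [hp : Fact p.Prime]

/-- `Q ∩ C_G(Q)` is a Sylow subgroup of `C_G(Q)` when `C_P(Q) ≤ Q ≤ P ≤ N_G(Q)`. -/
theorem card_inf_centralizer_of_centric (P : Sylow p G) (Q : Subgroup G)
    (hQP : Q ≤ (P : Subgroup G))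
    (hPQ : (P : Subgroup G) ≤ Subgroup.normalizer (Q : Set G))
    (hcent : (P : Subgroup G) ⊓ Subgroup.centralizer (Q : Set G) ≤ Q) :
    Nat.card ↥(Q ⊓ Subgroup.centralizer (Q : Set G)) =
      p ^ (Nat.card (Subgroup.centralizer (Q : Set G))).factorization p := by
  have h1 : Nat.card ↥((P : Subgroup G) ⊓ Subgroup.centralizer (Q : Set G)) =
      p ^ (Nat.card (Subgroup.centralizer (Q : Set G))).factorization p :=
    card_inf_eq_ppart_of_normal hPQ (Subgroup.centralizer_le_normalizer _)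
      (normalizer_le_normalizer_centralizer Q) P.2 (sylow_card_ppart P hPQ)
  have h2 : (P : Subgroup G) ⊓ Subgroup.centralizer (Q : Set G) =
      Q ⊓ Subgroup.centralizer (Q : Set G) :=
    le_antisymm (le_inf hcent inf_le_right) (inf_le_inf_right _ hQP)
  rw [← h2]; exact h1

/-- the normal `p`-complement of `C_G(Q)` -/
theorem exists_pcomplement_centralizer (P : Sylow p G) (Q : Subgroup G)
    (hQP : Q ≤ (P : Subgroup G))
    (hPQ : (P : Subgroup G) ≤ Subgroup.normalizer (Q : Set G))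
    (hcent : (P : Subgroup G) ⊓ Subgroup.centralizer (Q : Set G) ≤ Q) :
    ∃ K : Subgroup G, K ≤ Subgroup.centralizer (Q : Set G) ∧ (Nat.card K).Coprime p ∧
      Subgroup.normalizer (Q : Set G) ≤ Subgroup.normalizer (K : Set G) ∧
      ∀ c ∈ Subgroup.centralizer (Q : Set G), ∃ κ ∈ K,
        ∃ r ∈ Q ⊓ Subgroup.centralizer (Q : Set G), c = κ * r := by
  obtain ⟨C, hC⟩ : ∃ C, C = Subgroup.centralizer (Q : Set G) := ⟨_, rfl⟩
  have hcard := card_inf_centralizer_of_centric P Q hQP hPQ hcent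
  rw [← hC] at hcard ⊢
  obtain ⟨R, hR⟩ := (exists_sylow_eq_subgroupOf_iff C (Q ⊓ C) inf_le_right).2 hcard
  have hRc : (R : Subgroup ↥C) ≤ Subgroup.center ↥C := by
    intro r hr
    rw [hR, Subgroup.mem_subgroupOf] at hr
    rw [Subgroup.mem_center_iff]
    intro c
    apply Subtype.ext
    rw [Subgroup.coe_mul, Subgroup.coe_mul]
    have h1 : (c : G) ∈ Subgroup.centralizer (Q : Set G) := hC ▸ c.2
    exact (Subgroup.mem_centralizer_iff.1 h1 _ hr.1).symm
  obtain ⟨K₀, hK₀cop, hK₀mem, hK₀dec⟩ := exists_pcomplement_of_central_sylow R hRc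
  have hcardK : Nat.card ↥(K₀.map C.subtype) = Nat.card ↥K₀ :=
    Subgroup.card_map_of_injective C.subtype_injective
  have hmemK : ∀ y ∈ C, (orderOf y).Coprime p → y ∈ K₀.map C.subtype := by
    intro y hy hcop
    refine ⟨⟨y, hy⟩, hK₀mem _ ?_, rfl⟩
    rw [← Subgroup.orderOf_coe]
    exact hcop
  refine ⟨K₀.map C.subtype, Subgroup.map_subtype_le _, hcardK ▸ hK₀cop, ?_, ?_⟩
  · intro m hm
    apply mem_normalizer_of_conj_mem_of_finite
    rintro _ ⟨κ, hκ, rfl⟩
    apply hmemK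
    · have hmC : m ∈ Subgroup.normalizer (C : Set G) :=
        hC ▸ normalizer_le_normalizer_centralizer Q hm
      exact (Subgroup.mem_normalizer_iff.mp hmC _).mp κ.2
    · have h1 : orderOf (m * (κ : G) * m⁻¹) = orderOf (κ : G) :=
        orderOf_injective (MulAut.conj m).toMonoidHom (MulAut.conj m).injective (κ : G)
      have h2 : orderOf (κ : G) ∣ Nat.card ↥K₀ := by
        rw [Subgroup.orderOf_coe]
        have := orderOf_dvd_natCard (⟨κ, hκ⟩ : ↥K₀)
        rwa [← Subgroup.orderOf_coe] at this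
      show (orderOf (m * (κ : G) * m⁻¹)).Coprime p
      rw [h1]
      exact Nat.Coprime.coprime_dvd_left h2 hK₀cop
  · intro c hc
    obtain ⟨κ, hκ, r, hr, e⟩ := hK₀dec ⟨c, hc⟩
    rw [hR, Subgroup.mem_subgroupOf] at hr
    exact ⟨κ, ⟨κ, hκ, rfl⟩, r, hr, congrArg Subtype.val e⟩

end NF
end Cfsg.Agent.Helper1
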