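import Mathlib
import Cfsg.Agent.Helper1.NFk

set_option autoImplicit false

/-!
Control of strong fusion: for `Q` centric with `N_G(Q)` controlling strong fusion in `P`, and `X`
normal in `N_G(Q)` with `X / Q C_G(Q)` a `p`-group, `N_G(P ∩ X)` controls strong fusion in `P`.
-/

namespace Cfsg.Agent.Helper1
namespace NF

open Cfsg Cfsg.Agent.Lead

variable {G : Type*} [Group G] [Finite G] {p : ℕ} [hp : Fact p.Prime]

omit [Finite G] in
/-- powers in `Q K` with `K` normalized by `q` -/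
theorem mul_pow_mem_of_normalizer {K : Subgroup G} {q κ : G}
    (hq : q ∈ Subgroup.normalizer (K : Set G)) (hκ : κ ∈ K) (m : ℕ) :
    ∃ κ' ∈ K, (q * κ) ^ m = q ^ m * κ' := by
  induction m with
  | zero => exact ⟨1, K.one_mem, by simp⟩
  | succ m ih =>
    obtain ⟨κ', hκ', e⟩ := ih
    refine ⟨q⁻¹ * κ' * q * κ, K.mul_mem ?_ hκ, ?_⟩
    · have := (Subgroup.mem_normalizer_iff.mp (Subgroup.inv_mem _ hq) κ').mp hκ'
      simpa using this
    · rw [pow_succ, e, pow_succ]; group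

theorem ctrl_inf_of_ppower_normal (P : Sylow p G) (Q : Subgroup G)
    (hQP : Q ≤ (P : Subgroup G))
    (hPQ : (P : Subgroup G) ≤ Subgroup.normalizer (Q : Set G))
    (hctrl : ∀ A : Subgroup G, A ≤ (P : Subgroup G) → ∀ g : G,
      A.map (MulAut.conj g).toMonoidHom ≤ (P : Subgroup G) →
      ∃ h ∈ Subgroup.normalizer (Q : Set G), ∃ c ∈ Subgroup.centralizer (A : Set G), g = h * c)
    (hcent : (P : Subgroup G) ⊓ Subgroup.centralizer (Q : Set G) ≤ Q)
    (X : Subgroup G) (hXM : X ≤ Subgroup.normalizer (Q : Set G))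
    (hXinv : ∀ n ∈ Subgroup.normalizer (Q : Set G), X.map (MulAut.conj n).toMonoidHom = X)
    (hQCX : Q ⊔ Subgroup.centralizer (Q : Set G) ≤ X) (k : ℕ)
    (hk : (Q ⊔ Subgroup.centralizer (Q : Set G)).relIndex X = p ^ k) :
    ∀ A : Subgroup G, A ≤ (P : Subgroup G) → ∀ g : G,
      A.map (MulAut.conj g).toMonoidHom ≤ (P : Subgroup G) →
      ∃ h ∈ Subgroup.normalizer (((P : Subgroup G) ⊓ X : Subgroup G) : Set G),
        ∃ c ∈ Subgroup.centralizer (A : Set G), g = h * c := by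
  obtain ⟨K, hKC, hKcop, hMK, hCdec⟩ := exists_pcomplement_centralizer P Q hQP hPQ hcent
  obtain ⟨M, hM⟩ : ∃ M, M = Subgroup.normalizer (Q : Set G) := ⟨_, rfl⟩
  obtain ⟨C, hC⟩ : ∃ C, C = Subgroup.centralizer (Q : Set G) := ⟨_, rfl⟩
  rw [← hM] at hPQ hctrl hXM hXinv hMK
  rw [← hC] at hcent hQCX hk hKC hCdec
  have hQp : IsPGroup p Q := P.2.to_le hQP
  have hCM : C ≤ M := by rw [hC, hM]; exact Subgroup.centralizer_le_normalizer _
  have hQM : Q ≤ M := hM ▸ Subgroup.le_normalizer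
  have hMC : M ≤ Subgroup.normalizer (C : Set G) := by
    rw [hC, hM]; exact normalizer_le_normalizer_centralizer Q
  have hMX : M ≤ Subgroup.normalizer (X : Set G) := by
    intro n hn
    apply mem_normalizer_of_conj_mem_of_finite
    intro x hx
    rw [← hXinv n hn]
    exact ⟨x, hx, rfl⟩
  have hKX : K ≤ X := hKC.trans (le_sup_right.trans hQCX)
  -- `Q C` is normal in `X`
  have hXQC : X ≤ Subgroup.normalizer ((Q ⊔ C : Subgroup G) : Set G) := by
    intro x hx
    apply mem_normalizer_of_conj_mem_of_finite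
    have hxM := hXM hx
    have h1 : (Q ⊔ C).map (MulAut.conj x).toMonoidHom ≤ Q ⊔ C := by
      rw [Subgroup.map_sup]
      apply sup_le_sup
      · rintro _ ⟨q, hq, rfl⟩
        exact conj_mem_of_mem_normalizer (hM ▸ hxM) hq
      · rintro _ ⟨c, hc, rfl⟩
        exact conj_mem_of_mem_normalizer (hMC hxM) hc
    intro y hy
    exact h1 ⟨y, hy, rfl⟩
  haveI hn : ((Q ⊔ C).subgroupOf X).Normal :=
    (Subgroup.normal_subgroupOf_iff_le_normalizer hQCX).2 hXQC
  -- powers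
  have hpow : ∀ x ∈ X, ∃ m : ℕ, x ^ p ^ m ∈ K := by
    intro x hx
    have h1 : (⟨x, hx⟩ : ↥X) ^ ((Q ⊔ C).subgroupOf X).index ∈ (Q ⊔ C).subgroupOf X :=
      Subgroup.pow_index_mem _ _
    have h2 : ((Q ⊔ C).subgroupOf X).index = p ^ k := hk
    rw [h2, Subgroup.mem_subgroupOf] at h1
    have h3 : x ^ p ^ k ∈ Q ⊔ C := by simpa using h1
    have hCQ : C ≤ Subgroup.normalizer (Q : Set G) := hM ▸ hCM
    obtain ⟨q, hq, c, hc, e⟩ := Cfsg.Agent.Helper1.mem_sup_of_le_normalizer hCQ h3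
    obtain ⟨κ, hκ, r, hr, rfl⟩ := hCdec c hc
    -- `κ` and `r` commute
    have hκr : κ * r = r * κ := by
      have h4 : κ ∈ Subgroup.centralizer (Q : Set G) := hC ▸ hKC hκ
      exact (Subgroup.mem_centralizer_iff.1 h4 r hr.1).symm
    obtain ⟨j, hj⟩ := IsPGroup.iff_card.mp hQp
    have hqr : q * r ∈ Q := Q.mul_mem hq hr.1
    obtain ⟨κ', hκ', e'⟩ := mul_pow_mem_of_normalizer (hMK (hQM hqr)) hκ (p ^ j)
    have h5 : (q * r) ^ p ^ j = 1 := by
      have := pow_card_eq_one' (G := ↥Q) (x := ⟨q * r, hqr⟩)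
      rw [hj] at this
      have h6 := congrArg Subtype.val this
      simpa using h6
    refine ⟨k + j, ?_⟩
    rw [pow_add, pow_mul, e]
    have : q * (κ * r) = (q * r) * κ := by rw [hκr]; group
    rw [this, e', h5, one_mul]
    exact hκ'
  -- the factorization of `X`
  have hdec := mem_mul_of_pgroup_quotient (p := p) hXM hMX hKX (hXM.trans hMK) hpow hPQ P.2
    (sylow_card_ppart P hPQ)
  -- transport to `M`
  obtain ⟨P', hP'⟩ : ∃ P' : Sylow p ↥M, (P' : Subgroup ↥M) = (P : Subgroup G).subgroupOf M :=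
    ⟨P.subtype hPQ, rfl⟩
  haveI hX'n : (X.subgroupOf M).Normal :=
    (Subgroup.normal_subgroupOf_iff_le_normalizer hXM).2 hMX
  have hKM : K ≤ M := hKC.trans hCM
  have hloc := control_of_pcomplement P' (X.subgroupOf M) (K.subgroupOf M)
    (by
      intro x hx
      exact Subgroup.mem_subgroupOf.2 (hKX (Subgroup.mem_subgroupOf.1 hx)))
    (by
      intro x hx
      rw [Subgroup.mem_normalizer_iff]
      intro y
      have h1 := Subgroup.mem_normalizer_iff.mp (hMK x.2) (y : G)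
      simp only [Subgroup.mem_subgroupOf, Subgroup.coe_mul, Subgroup.coe_inv]
      exact h1)
    (by rw [card_subgroupOf_of_le hKM]; exact hKcop)
    (by
      intro x hx
      obtain ⟨t, ht, κ, hκ, e⟩ := hdec (x : G) (Subgroup.mem_subgroupOf.1 hx)
      have htM : t ∈ M := hPQ ht.1
      refine ⟨⟨t, htM⟩, ⟨?_, Subgroup.mem_subgroupOf.2 ht.2⟩, ⟨κ, hKM hκ⟩,
        Subgroup.mem_subgroupOf.2 hκ, Subtype.ext e⟩
      rw [hP']
      exact Subgroup.mem_subgroupOf.2 ht.1)
  have hfin := ctrl_of_local P M hPQ (fun A hA g hg => hctrl A hA g hg) (P' : Subgroup ↥M)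
    ((P' : Subgroup ↥M) ⊓ X.subgroupOf M) hP' hloc
  have hmap : ((P' : Subgroup ↥M) ⊓ X.subgroupOf M).map M.subtype = (P : Subgroup G) ⊓ X := by
    rw [Subgroup.map_inf _ _ _ M.subtype_injective, hP', Subgroup.subgroupOf_map_subtype,
      Subgroup.subgroupOf_map_subtype, inf_eq_left.2 hPQ, inf_eq_left.2 hXM]
  rw [hmap] at hfin
  intro A hA g hg
  obtain ⟨h, hh, c, hc, e⟩ := hfin A hA g hg
  exact ⟨h, hh.2, c, hc, e⟩

end NF
end Cfsg.Agent.Helper1
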