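import Mathlib
import Cfsg.Agent.Helper1.NFl
import Cfsg.Agent.Helper1.NFe
import Cfsg.Agent.Helper1.QuadFreeC

set_option autoImplicit false

/-!
The smallest centric radical subgroup of a Sylow `p`-subgroup of a `Qd(p)`-free group (`p` odd):
its normalizer controls strong fusion.
-/

namespace Cfsg.Agent.Helper1
namespace NF

open Cfsg Cfsg.Agent.Lead

variable {G : Type*} [Group G] [Finite G] {p : ℕ} [hp : Fact p.Prime]

/-- `N_G(X)` controls strong fusion in `P` -/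
def SCtrl (P X : Subgroup G) : Prop :=
  ∀ A : Subgroup G, A ≤ P → ∀ g : G, A.map (MulAut.conj g).toMonoidHom ≤ P →
    ∃ h ∈ Subgroup.normalizer (X : Set G), ∃ c ∈ Subgroup.centralizer (A : Set G), g = h * c

omit [Finite G] in
theorem map_conj_eq_of_mem_normalizer {X : Subgroup G} {n : G}
    (hn : n ∈ Subgroup.normalizer (X : Set G)) : X.map (MulAut.conj n).toMonoidHom = X := by
  ext y
  constructor
  · rintro ⟨x, hx, rfl⟩
    exact conj_mem_of_mem_normalizer hn hx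
  · intro hy
    refine ⟨n⁻¹ * y * n, ?_, by simp [mul_assoc]⟩
    have := conj_mem_of_mem_normalizer (Subgroup.inv_mem _ hn) hy
    simpa using this

omit [Finite G] in
theorem mem_normalizer_inf {A B : Subgroup G} {x : G}
    (hA : x ∈ Subgroup.normalizer (A : Set G)) (hB : x ∈ Subgroup.normalizer (B : Set G)) :
    x ∈ Subgroup.normalizer ((A ⊓ B : Subgroup G) : Set G) := by
  rw [Subgroup.mem_normalizer_iff]
  intro y
  rw [Subgroup.mem_inf, Subgroup.mem_inf, ← Subgroup.mem_normalizer_iff.1 hA y,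
    ← Subgroup.mem_normalizer_iff.1 hB y]

theorem mem_normalizer_sup {A B : Subgroup G} {x : G}
    (hA : x ∈ Subgroup.normalizer (A : Set G)) (hB : x ∈ Subgroup.normalizer (B : Set G)) :
    x ∈ Subgroup.normalizer ((A ⊔ B : Subgroup G) : Set G) := by
  apply mem_normalizer_of_conj_mem_of_finite
  have h1 : (A ⊔ B).map (MulAut.conj x).toMonoidHom ≤ A ⊔ B := by
    rw [Subgroup.map_sup, map_conj_eq_of_mem_normalizer hA, map_conj_eq_of_mem_normalizer hB]
  intro y hy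
  exact h1 ⟨y, hy, rfl⟩

/-- a good subgroup of largest order -/
theorem exists_max_ctrl (P : Sylow p G) :
    ∃ Q : Subgroup G, (Q ≤ (P : Subgroup G) ∧
        (P : Subgroup G) ≤ Subgroup.normalizer (Q : Set G) ∧ SCtrl (P : Subgroup G) Q) ∧
      ∀ Q' : Subgroup G, (Q' ≤ (P : Subgroup G) ∧
        (P : Subgroup G) ≤ Subgroup.normalizer (Q' : Set G) ∧ SCtrl (P : Subgroup G) Q') →
        Nat.card Q' ≤ Nat.card Q := by
  have hfin : {Q : Subgroup G | Q ≤ (P : Subgroup G) ∧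
      (P : Subgroup G) ≤ Subgroup.normalizer (Q : Set G) ∧ SCtrl (P : Subgroup G) Q}.Finite :=
    Set.toFinite _
  have hne : {Q : Subgroup G | Q ≤ (P : Subgroup G) ∧
      (P : Subgroup G) ≤ Subgroup.normalizer (Q : Set G) ∧
      SCtrl (P : Subgroup G) Q}.Nonempty := by
    refine ⟨⊥, bot_le, ?_, ?_⟩
    · intro x _
      rw [Subgroup.mem_normalizer_iff]
      intro y
      simp
    · intro A _ g _
      refine ⟨g, ?_, 1, Subgroup.one_mem _, by simp⟩
      rw [Subgroup.mem_normalizer_iff]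
      intro y
      simp
  obtain ⟨Q, hQ, hmax⟩ := Set.exists_max_image _ (fun Q : Subgroup G => Nat.card Q) hfin hne
  exact ⟨Q, hQ, fun Q' hQ' => hmax Q' hQ'⟩

/-- Step I: the maximal good subgroup is centric. -/
theorem centric_of_max (hp2 : p ≠ 2) (hqd : ¬ Cfsg.Involves ↥(Cfsg.qd p) G) (P : Sylow p G)
    (Q : Subgroup G) (hQP : Q ≤ (P : Subgroup G))
    (hPQ : (P : Subgroup G) ≤ Subgroup.normalizer (Q : Set G))
    (hctrl : SCtrl (P : Subgroup G) Q)
    (hmax : ∀ Q' : Subgroup G, (Q' ≤ (P : Subgroup G) ∧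
        (P : Subgroup G) ≤ Subgroup.normalizer (Q' : Set G) ∧ SCtrl (P : Subgroup G) Q') →
        Nat.card Q' ≤ Nat.card Q) :
    (P : Subgroup G) ⊓ Subgroup.centralizer (Q : Set G) ≤ Q := by
  by_contra hne
  obtain ⟨M, hM⟩ : ∃ M, M = Subgroup.normalizer (Q : Set G) := ⟨_, rfl⟩
  have hctrl' : ∀ A : Subgroup G, A ≤ (P : Subgroup G) → ∀ g : G,
      A.map (MulAut.conj g).toMonoidHom ≤ (P : Subgroup G) →
      ∃ h ∈ M, ∃ c ∈ Subgroup.centralizer (A : Set G), g = h * c := hM ▸ hctrl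
  have hPM : (P : Subgroup G) ≤ M := hM ▸ hPQ
  obtain ⟨P', hP'⟩ : ∃ P' : Sylow p ↥M, (P' : Subgroup ↥M) = (P : Subgroup G).subgroupOf M :=
    ⟨P.subtype hPM, rfl⟩
  haveI hQn : (Q.subgroupOf M).Normal := by
    rw [hM]; exact Subgroup.normal_in_normalizer
  have hqd' : ¬ Cfsg.Involves ↥(Cfsg.qd p) ↥M := QuadFree.qd_sub G M hqd
  have hQ'p : IsPGroup p (Q.subgroupOf M) := (P.2.to_le hQP).comap_subtype
  have hne' : ¬ ((P' : Subgroup ↥M) ⊓
      Subgroup.centralizer ((Q.subgroupOf M : Subgroup ↥M) : Set ↥M) ≤ Q.subgroupOf M) := by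
    intro hle
    apply hne
    intro x hx
    have hxM : x ∈ M := hPM hx.1
    have h1 : (⟨x, hxM⟩ : ↥M) ∈ Q.subgroupOf M := by
      apply hle
      refine ⟨?_, ?_⟩
      · rw [hP']; exact Subgroup.mem_subgroupOf.2 hx.1
      · show (⟨x, hxM⟩ : ↥M) ∈
          Subgroup.centralizer ((Q.subgroupOf M : Subgroup ↥M) : Set ↥M)
        rw [Subgroup.mem_centralizer_iff]
        intro q hq
        apply Subtype.ext
        exact Subgroup.mem_centralizer_iff.1 hx.2 q (Subgroup.mem_subgroupOf.1 hq)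
    exact Subgroup.mem_subgroupOf.1 h1
  obtain ⟨W', hW'le, hW'Q, hP'W', hloc⟩ :=
    exists_control_of_not_centric hp2 hqd' P' (Q.subgroupOf M) hQ'p hne'
  have hfin := ctrl_of_local P M hPM hctrl' (P' : Subgroup ↥M) W' hP' hloc
  obtain ⟨W, hW⟩ : ∃ W, W = W'.map M.subtype := ⟨_, rfl⟩
  rw [← hW] at hfin
  have hWP : W ≤ (P : Subgroup G) := by
    rw [hW]
    rintro _ ⟨w, hw, rfl⟩
    have := (hW'le hw).1
    rw [hP'] at this
    exact Subgroup.mem_subgroupOf.1 this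
  have hPW : (P : Subgroup G) ≤ Subgroup.normalizer (W : Set G) := by
    intro x hx
    have h1 : (⟨x, hPM hx⟩ : ↥M) ∈ (P' : Subgroup ↥M) := by
      rw [hP']; exact Subgroup.mem_subgroupOf.2 hx
    rw [hW]
    exact Subgroup.le_normalizer_map M.subtype ⟨_, hP'W' h1, rfl⟩
  have hgood : Q ⊔ W ≤ (P : Subgroup G) ∧
      (P : Subgroup G) ≤ Subgroup.normalizer ((Q ⊔ W : Subgroup G) : Set G) ∧
      SCtrl (P : Subgroup G) (Q ⊔ W) := by
    refine ⟨sup_le hQP hWP, fun x hx => mem_normalizer_sup (hPQ hx) (hPW hx), ?_⟩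
    intro A hA g hg
    obtain ⟨h, hh, c, hc, e⟩ := hfin A hA g hg
    exact ⟨h, mem_normalizer_sup (hM ▸ hh.1) hh.2, c, hc, e⟩
  have hlt : Nat.card Q < Nat.card ↥(Q ⊔ W) := by
    apply Cfsg.Agent.Helper1.card_lt_card_of_lt
    refine lt_of_le_of_ne le_sup_left ?_
    intro h
    apply hW'Q
    intro w hw
    rw [Subgroup.mem_subgroupOf, h]
    have hwW : (w : G) ∈ W := hW ▸ ⟨w, hw, rfl⟩
    exact (le_sup_right : W ≤ Q ⊔ W) hwW
  exact absurd (hmax _ hgood) (not_le.2 hlt)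

end NF
end Cfsg.Agent.Helper1
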