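import Mathlib
import Cfsg.Agent.Helper1.NFm

set_option autoImplicit false

/-!
The subgroup `Q` whose normalizer controls strong fusion lies in every centric radical subgroup.
-/

namespace Cfsg.Agent.Helper1
namespace NF

open Cfsg Cfsg.Agent.Lead

variable {G : Type*} [Group G] [Finite G] {p : ℕ} [hp : Fact p.Prime]

/-- Step III. -/
theorem le_of_centric_radical (P : Sylow p G) (Q : Subgroup G) (hQP : Q ≤ (P : Subgroup G))
    (hPQ : (P : Subgroup G) ≤ Subgroup.normalizer (Q : Set G))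
    (hctrl : SCtrl (P : Subgroup G) Q)
    (R : Subgroup G) (hRP : R ≤ (P : Subgroup G))
    (hRcent : (P : Subgroup G) ⊓ Subgroup.centralizer (R : Set G) ≤ R)
    (hRrad : ∀ X : Subgroup G, X ≤ Subgroup.normalizer (R : Set G) →
      (∀ n ∈ Subgroup.normalizer (R : Set G), X.map (MulAut.conj n).toMonoidHom = X) →
      R ⊔ Subgroup.centralizer (R : Set G) ≤ X →
      (∃ k : ℕ, (R ⊔ Subgroup.centralizer (R : Set G)).relIndex X = p ^ k) →
      X = R ⊔ Subgroup.centralizer (R : Set G)) :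
    Q ≤ R := by
  obtain ⟨NR, hNR⟩ : ∃ NR, NR = Subgroup.normalizer (R : Set G) := ⟨_, rfl⟩
  obtain ⟨CR, hCR⟩ : ∃ CR, CR = Subgroup.centralizer (R : Set G) := ⟨_, rfl⟩
  obtain ⟨Y, hY⟩ : ∃ Y, Y = Q ⊓ NR := ⟨_, rfl⟩
  obtain ⟨N₁, hN₁⟩ : ∃ N₁, N₁ = R ⊔ CR := ⟨_, rfl⟩
  obtain ⟨X, hX⟩ : ∃ X, X = N₁ ⊔ Y := ⟨_, rfl⟩
  rw [← hNR, ← hCR, ← hN₁] at hRrad
  rw [← hCR] at hRcent
  have hRNR : R ≤ NR := hNR ▸ Subgroup.le_normalizer
  have hCRNR : CR ≤ NR := by rw [hCR, hNR]; exact Subgroup.centralizer_le_normalizer _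
  have hYNR : Y ≤ NR := hY ▸ inf_le_right
  have hYQ : Y ≤ Q := hY ▸ inf_le_left
  have hN₁NR : N₁ ≤ NR := hN₁ ▸ sup_le hRNR hCRNR
  have hXNR : X ≤ NR := hX ▸ sup_le hN₁NR hYNR
  have hN₁X : N₁ ≤ X := hX ▸ le_sup_left
  have hYX : Y ≤ X := hX ▸ le_sup_right
  have hCRX : CR ≤ X := (hN₁ ▸ le_sup_right : CR ≤ N₁).trans hN₁X
  have hNRN₁ : NR ≤ Subgroup.normalizer (N₁ : Set G) := by
    intro n hn
    rw [hN₁]
    apply mem_normalizer_sup (hNR ▸ hn)
    rw [hCR]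
    exact normalizer_le_normalizer_centralizer R (hNR ▸ hn)
  -- invariance of `X`
  have hinv : ∀ n ∈ NR, ∀ x ∈ X, n * x * n⁻¹ ∈ X := by
    intro n hn x hx
    have hRn : R.map (MulAut.conj n).toMonoidHom ≤ (P : Subgroup G) := by
      rintro _ ⟨r, hr, rfl⟩
      exact hRP (conj_mem_of_mem_normalizer (hNR ▸ hn) hr)
    obtain ⟨h, hh, c, hc, rfl⟩ := hctrl R hRP n hRn
    have hcCR : c ∈ CR := hCR ▸ hc
    have hcX : c ∈ X := hCRX hcCR
    have hcNR : c ∈ NR := hCRNR hcCR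
    have hhNR : h ∈ NR := by
      have : h = (h * c) * c⁻¹ := by group
      rw [this]
      exact NR.mul_mem hn (NR.inv_mem hcNR)
    have h1 : c * x * c⁻¹ ∈ X := X.mul_mem (X.mul_mem hcX hx) (X.inv_mem hcX)
    have hhX : h ∈ Subgroup.normalizer (X : Set G) := by
      rw [hX]
      apply mem_normalizer_sup (hNRN₁ hhNR)
      rw [hY]
      apply mem_normalizer_inf hh
      rw [hNR]
      exact Subgroup.le_normalizer (hNR ▸ hhNR)
    have h2 := conj_mem_of_mem_normalizer hhX h1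
    have e : h * c * x * (h * c)⁻¹ = h * (c * x * c⁻¹) * h⁻¹ := by group
    rw [e]
    exact h2
  have hXinv : ∀ n ∈ NR, X.map (MulAut.conj n).toMonoidHom = X := fun n hn =>
    map_conj_eq_of_mem_normalizer (mem_normalizer_of_conj_mem_of_finite _ _ (hinv n hn))
  -- the index is a power of `p`
  have hYp : IsPGroup p Y := P.2.to_le (hYQ.trans hQP)
  haveI hn : (N₁.subgroupOf X).Normal :=
    (Subgroup.normal_subgroupOf_iff_le_normalizer hN₁X).2 (hXNR.trans hNRN₁)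
  have hq : IsPGroup p (↥X ⧸ N₁.subgroupOf X) := by
    intro x
    induction x using QuotientGroup.induction_on with
    | H z =>
      have hz : (z : G) ∈ N₁ ⊔ Y := hX ▸ z.2
      obtain ⟨n₁, hn₁, y, hy, e⟩ :=
        Cfsg.Agent.Helper1.mem_sup_of_le_normalizer (hYNR.trans hNRN₁) hz
      obtain ⟨j, hj⟩ := hYp ⟨y, hy⟩
      have hyX : y ∈ X := hYX hy
      have hn₁X : n₁ ∈ X := hN₁X hn₁
      have hz' : z = (⟨n₁, hn₁X⟩ : ↥X) * ⟨y, hyX⟩ := Subtype.ext e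
      refine ⟨j, ?_⟩
      have h1 : ((⟨n₁, hn₁X⟩ : ↥X) : ↥X ⧸ N₁.subgroupOf X) = 1 :=
        (QuotientGroup.eq_one_iff _).2 (Subgroup.mem_subgroupOf.2 hn₁)
      have h2 : (⟨y, hyX⟩ : ↥X) ^ p ^ j = 1 := by
        apply Subtype.ext
        have := congrArg Subtype.val hj
        simpa using this
      rw [hz', QuotientGroup.mk_mul, h1, one_mul, ← QuotientGroup.mk_pow, h2]
      rfl
  obtain ⟨k, hk⟩ := IsPGroup.iff_card.mp hq
  have hrel : N₁.relIndex X = p ^ k := by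
    show (N₁.subgroupOf X).index = p ^ k
    rw [Subgroup.index_eq_card, hk]
  have hXeq := hRrad X hXNR hXinv hN₁X ⟨k, hrel⟩
  -- `Y ≤ R`
  have hYR : Y ≤ R := by
    intro y hy
    have h1 : y ∈ R ⊔ CR := by rw [← hN₁, ← hXeq]; exact hYX hy
    have hCRR : CR ≤ Subgroup.normalizer (R : Set G) := hNR ▸ hCRNR
    obtain ⟨r, hr, c, hc, e⟩ := Cfsg.Agent.Helper1.mem_sup_of_le_normalizer hCRR h1
    have hcP : c ∈ (P : Subgroup G) := by
      have : c = r⁻¹ * y := by rw [e]; group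
      rw [this]
      exact Subgroup.mul_mem _ (Subgroup.inv_mem _ (hRP hr)) (hQP (hYQ hy))
    rw [e]
    exact R.mul_mem hr (hRcent ⟨hcP, hc⟩)
  -- normalizer growth
  obtain ⟨L, hL⟩ : ∃ L, L = Q ⊔ R := ⟨_, rfl⟩
  have hLP : L ≤ (P : Subgroup G) := hL ▸ sup_le hQP hRP
  have hLp : IsPGroup p L := P.2.to_le hLP
  by_contra hQR
  have hne : R ≠ L := by
    intro h
    apply hQR
    rw [h, hL]; exact le_sup_left
  have hlt := Cfsg.Agent.Lead.Alp.card_lt_inf_normalizer hLp (hL ▸ le_sup_right : R ≤ L) hne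
  have hsub : L ⊓ Subgroup.normalizer (R : Set G) ≤ R := by
    intro x hx
    have hxL : x ∈ Q ⊔ R := hL ▸ hx.1
    obtain ⟨q, hq, r, hr, rfl⟩ :=
      Cfsg.Agent.Helper1.mem_sup_of_le_normalizer (hRP.trans hPQ) hxL
    have hqN : q ∈ Subgroup.normalizer (R : Set G) := by
      have : q = (q * r) * r⁻¹ := by group
      rw [this]
      exact Subgroup.mul_mem _ hx.2 (Subgroup.inv_mem _ (Subgroup.le_normalizer hr))
    exact R.mul_mem (hYR (hY ▸ ⟨hq, hNR ▸ hqN⟩)) hr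
  exact absurd (Subgroup.card_le_of_le hsub) (not_le.2 hlt)

end NF
end Cfsg.Agent.Helper1
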