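import Mathlib
import Cfsg.Agent.Helper1.NFn

set_option autoImplicit false

/-!
The smallest centric radical subgroup: the final statement.
-/

namespace Cfsg.Agent.Helper1
namespace NF

open Cfsg Cfsg.Agent.Lead

variable {G : Type*} [Group G] [Finite G] {p : ℕ} [hp : Fact p.Prime]

/-- Step II (radical): the maximal good subgroup is radical. -/
theorem radical_of_max (P : Sylow p G)
    (Q : Subgroup G) (hQP : Q ≤ (P : Subgroup G))
    (hPQ : (P : Subgroup G) ≤ Subgroup.normalizer (Q : Set G))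
    (hctrl : SCtrl (P : Subgroup G) Q)
    (hmax : ∀ Q' : Subgroup G, (Q' ≤ (P : Subgroup G) ∧
        (P : Subgroup G) ≤ Subgroup.normalizer (Q' : Set G) ∧ SCtrl (P : Subgroup G) Q') →
        Nat.card Q' ≤ Nat.card Q)
    (hcent : (P : Subgroup G) ⊓ Subgroup.centralizer (Q : Set G) ≤ Q)
    (X : Subgroup G) (hXM : X ≤ Subgroup.normalizer (Q : Set G))
    (hXinv : ∀ n ∈ Subgroup.normalizer (Q : Set G), X.map (MulAut.conj n).toMonoidHom = X)
    (hQCX : Q ⊔ Subgroup.centralizer (Q : Set G) ≤ X) (k : ℕ)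
    (hk : (Q ⊔ Subgroup.centralizer (Q : Set G)).relIndex X = p ^ k) :
    X = Q ⊔ Subgroup.centralizer (Q : Set G) := by
  have hctrl₁ := ctrl_inf_of_ppower_normal P Q hQP hPQ hctrl hcent X hXM hXinv hQCX k hk
  obtain ⟨QC, hQC⟩ : ∃ QC, QC = Q ⊔ Subgroup.centralizer (Q : Set G) := ⟨_, rfl⟩
  rw [← hQC] at hQCX hk ⊢
  have hMX : Subgroup.normalizer (Q : Set G) ≤ Subgroup.normalizer (X : Set G) := by
    intro n hn
    apply mem_normalizer_of_conj_mem_of_finite
    intro x hx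
    rw [← hXinv n hn]
    exact ⟨x, hx, rfl⟩
  have hgood : (P : Subgroup G) ⊓ X ≤ (P : Subgroup G) ∧
      (P : Subgroup G) ≤ Subgroup.normalizer (((P : Subgroup G) ⊓ X : Subgroup G) : Set G) ∧
      SCtrl (P : Subgroup G) ((P : Subgroup G) ⊓ X) :=
    ⟨inf_le_left, fun x hx => mem_normalizer_inf (Subgroup.le_normalizer hx) (hMX (hPQ hx)),
      hctrl₁⟩
  have hcardle := hmax _ hgood
  have hQX : Q ≤ X := (hQC ▸ le_sup_left : Q ≤ QC).trans hQCX
  have hQ₁ : Q = (P : Subgroup G) ⊓ X :=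
    Subgroup.eq_of_le_of_card_ge (le_inf hQP hQX) hcardle
  have h1 : Nat.card ↥((P : Subgroup G) ⊓ X) = p ^ (Nat.card X).factorization p :=
    card_inf_eq_ppart_of_normal hPQ hXM hMX P.2 (sylow_card_ppart P hPQ)
  rw [← hQ₁] at h1
  have hQp : IsPGroup p Q := P.2.to_le hQP
  have h2 : Nat.card Q ∣ p ^ (Nat.card QC).factorization p :=
    card_dvd_ppart_of_isPGroup hQp (hQC ▸ le_sup_left : Q ≤ QC)
  have h3 : Nat.card QC * p ^ k = Nat.card X := by
    have h4 : Nat.card (QC.subgroupOf X) * (QC.subgroupOf X).index = Nat.card X :=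
      (QC.subgroupOf X).card_mul_index
    rw [card_subgroupOf_of_le hQCX] at h4
    have hri : (QC.subgroupOf X).index = QC.relIndex X := rfl
    rw [hri, hk] at h4
    exact h4
  have hpp : p.Prime := hp.out
  have h5 : (Nat.card X).factorization p = (Nat.card QC).factorization p + k := by
    rw [← h3, Nat.factorization_mul Nat.card_pos.ne' (pow_pos hpp.pos k).ne']
    simp [hpp.factorization_self]
  rw [h1, h5] at h2
  have h6 : (Nat.card QC).factorization p + k ≤ (Nat.card QC).factorization p :=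
    (Nat.pow_dvd_pow_iff_le_right hpp.one_lt).1 h2
  have hk0 : k = 0 := by omega
  rw [hk0, pow_zero, Subgroup.relIndex_eq_one] at hk
  exact le_antisymm hk hQCX

/-- The main theorem. -/
theorem exists_smallest_centric_radical (hp2 : p ≠ 2) (P : Sylow p G)
    (hfree : ∀ Q : Subgroup G, IsPGroup p ↥Q →
      ¬ ∃ (H K : Subgroup G) (_ : (K.subgroupOf H).Normal),
      Subgroup.centralizer (Q : Set G) ≤ K ∧ K ≤ H ∧ H ≤ Subgroup.normalizer (Q : Set G) ∧
      Nonempty ((↥H ⧸ K.subgroupOf H) ≃* Matrix.SpecialLinearGroup (Fin 2) (ZMod p)))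
    (cr : Subgroup G → Prop)
    (hcr : ∀ Q : Subgroup G, cr Q ↔ (Q ≤ (P : Subgroup G) ∧
      (∃ R : Sylow p ↥(Subgroup.centralizer (Q : Set G)),
        (R : Subgroup ↥(Subgroup.centralizer (Q : Set G))).map
          (Subgroup.centralizer (Q : Set G)).subtype = Q ⊓ Subgroup.centralizer (Q : Set G)) ∧
      ∀ X : Subgroup G, X ≤ Subgroup.normalizer (Q : Set G) →
        (∀ n ∈ Subgroup.normalizer (Q : Set G), X.map (MulAut.conj n).toMonoidHom = X) →
        Q ⊔ Subgroup.centralizer (Q : Set G) ≤ X →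
        (∃ k : ℕ, (Q ⊔ Subgroup.centralizer (Q : Set G)).relIndex X = p ^ k) →
        X = Q ⊔ Subgroup.centralizer (Q : Set G))) :
    ∃ Q : Subgroup G, cr Q ∧ (∀ R : Subgroup G, cr R → Q ≤ R) ∧
      (∀ x ∈ (P : Subgroup G), Q.map (MulAut.conj x).toMonoidHom = Q) ∧
      ∀ A : Subgroup G, A ≤ (P : Subgroup G) → ∀ g : G,
        A.map (MulAut.conj g).toMonoidHom ≤ (P : Subgroup G) →
        ∃ h ∈ Subgroup.normalizer (Q : Set G), ∃ c ∈ Subgroup.centralizer (A : Set G),
          g = h * c := by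
  have hqd := not_involves_qd_of_local hfree
  obtain ⟨Q, ⟨hQP, hPQ, hctrl⟩, hmax⟩ := exists_max_ctrl P
  have hcent := centric_of_max hp2 hqd P Q hQP hPQ hctrl hmax
  refine ⟨Q, ?_, ?_, ?_, hctrl⟩
  · rw [hcr]
    refine ⟨hQP, ?_, ?_⟩
    · have hcard := card_inf_centralizer_of_centric P Q hQP hPQ hcent
      obtain ⟨R, hR⟩ := (exists_sylow_eq_subgroupOf_iff (Subgroup.centralizer (Q : Set G))
        (Q ⊓ Subgroup.centralizer (Q : Set G)) inf_le_right).2 hcard
      refine ⟨R, ?_⟩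
      rw [hR, Subgroup.subgroupOf_map_subtype, inf_assoc, inf_idem]
    · rintro X hXM hXinv hQCX ⟨k, hk⟩
      exact radical_of_max P Q hQP hPQ hctrl hmax hcent X hXM hXinv hQCX k hk
  · intro R hR
    rw [hcr] at hR
    obtain ⟨hRP, ⟨R₀, hR₀⟩, hRrad⟩ := hR
    apply le_of_centric_radical P Q hQP hPQ hctrl R hRP ?_ hRrad
    intro x hx
    have hp' : IsPGroup p (((P : Subgroup G) ⊓ Subgroup.centralizer (R : Set G)).subgroupOf
        (Subgroup.centralizer (R : Set G))) := (P.2.to_le inf_le_left).comap_subtype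
    have hle : (R₀ : Subgroup ↥(Subgroup.centralizer (R : Set G))) ≤
        ((P : Subgroup G) ⊓ Subgroup.centralizer (R : Set G)).subgroupOf
          (Subgroup.centralizer (R : Set G)) := by
      intro y hy
      rw [Subgroup.mem_subgroupOf]
      have h1 : (y : G) ∈ R ⊓ Subgroup.centralizer (R : Set G) := hR₀ ▸ ⟨y, hy, rfl⟩
      exact ⟨hRP h1.1, h1.2⟩
    have heq := R₀.is_maximal' hp' hle
    have h2 : (⟨x, hx.2⟩ : ↥(Subgroup.centralizer (R : Set G))) ∈
        (R₀ : Subgroup ↥(Subgroup.centralizer (R : Set G))) := by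
      rw [← heq]; exact Subgroup.mem_subgroupOf.2 hx
    have h3 : x ∈ R ⊓ Subgroup.centralizer (R : Set G) := hR₀ ▸ ⟨_, h2, rfl⟩
    exact h3.1
  · intro x hx
    exact map_conj_eq_of_mem_normalizer (hPQ hx)

end NF
end Cfsg.Agent.Helper1
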