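import Mathlib
import Cfsg.Agent.Helper1.NFf
import Cfsg.Agent.Lead.ConjFunctorControl

set_option autoImplicit false

/-!
Glauberman's local-to-global theorem for control of strong fusion by a conjugacy functor `W` with
`Z(P) ≤ W(P)`: it suffices that `W` controls strong fusion in `N_G(T)` for the well-placed
subgroups `T` containing `Z(S)`.
-/

namespace Cfsg.Agent.Helper1
namespace NG

open Cfsg Cfsg.Agent.Lead NF

variable {G : Type*} [Group G] [Finite G] {p : ℕ} [hp : Fact p.Prime]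

/-- Climbing the tower of a well-placed subgroup, with a restriction predicate. -/
theorem climb_restricted (S : Sylow p G) {W : Subgroup G → Subgroup G}
    (hW : Cfsg.IsConjugacyFunctor p W) (𝒞 : Subgroup G → Prop)
    (h𝒞 : ∀ T : Subgroup G, T ≤ (S : Subgroup G) → 𝒞 T →
      𝒞 (W ((S : Subgroup G) ⊓ Subgroup.normalizer (T : Set G))))
    (hloc : ∀ T : Subgroup G, T ≠ ⊥ → Cfsg.IsWellPlaced p W (S : Subgroup G) T → 𝒞 T →
      Cfsg.ControlsStrongFusionIn p W (Subgroup.normalizer ((T : Subgroup G) : Set G))) :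
    ∀ (T : Subgroup G), Cfsg.IsWellPlaced p W (S : Subgroup G) T → T ≠ ⊥ → 𝒞 T →
      ∀ y ∈ Subgroup.normalizer (T : Set G), ∀ B : Set G,
        B ⊆ ((S : Subgroup G) ⊓ Subgroup.normalizer (T : Set G) : Subgroup G) →
        (fun a => y * a * y⁻¹) '' B ⊆
          ((S : Subgroup G) ⊓ Subgroup.normalizer (T : Set G) : Subgroup G) →
        ∃ z ∈ Subgroup.normalizer ((W (S : Subgroup G) : Subgroup G) : Set G),
          ∀ b ∈ B, z * b * z⁻¹ = y * b * y⁻¹ := by
  intro T
  induction' hk : Nat.card (S : Subgroup G) -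
    Nat.card ((S : Subgroup G) ⊓ Subgroup.normalizer (T : Set G) : Subgroup G)
    using Nat.strong_induction_on with k ih generalizing T
  intro hwp hT hTC y hy B hB hyB
  have hSp : IsPGroup p (S : Subgroup G) := S.2
  set P : Subgroup G := (S : Subgroup G) ⊓ Subgroup.normalizer (T : Set G) with hPdef
  have hPp : IsPGroup p P := hSp.to_le inf_le_left
  have hPs : ¬ p ∣ P.relIndex (Subgroup.normalizer (T : Set G)) := hwp.2 0
  obtain ⟨x, hx, hxb⟩ := controlsStrongFusionIn_sylow hW (hloc T hT hwp hTC) inf_le_right hPp hPs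
    B y hy hB hyB
  by_cases hPS : P = (S : Subgroup G)
  · refine ⟨x, ?_, hxb⟩
    rw [← hPS]; exact hx.2
  · -- climb
    have hTP : T ≤ P := le_inf hwp.1 Subgroup.le_normalizer
    have hPne : P ≠ ⊥ := fun h => hT (le_bot_iff.mp (h ▸ hTP))
    have hT1 : W P ≠ ⊥ := (hW P hPp).2.1 hPne
    have hwp1 : Cfsg.IsWellPlaced p W (S : Subgroup G) (W P) := isWellPlaced_tower_one hW hSp hwp
    have hPle : P ≤ (S : Subgroup G) ⊓ Subgroup.normalizer ((W P : Subgroup G) : Set G) :=
      le_inf inf_le_left (le_normalizer_functor hW hPp)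
    obtain ⟨n, hn, hnP⟩ := Fusion.exists_mem_normalizerIn_not_mem (S := (S : Subgroup G)) hSp
      (inf_le_left : P ≤ (S : Subgroup G)) hPS
    have hn' : n ∈ (S : Subgroup G) ⊓ Subgroup.normalizer ((W P : Subgroup G) : Set G) :=
      Subgroup.mem_inf.mpr ⟨(Subgroup.mem_inf.mp hn).1,
        normalizer_le_normalizer_functor hW hPp (Subgroup.mem_inf.mp hn).2⟩
    have hlt : P < (S : Subgroup G) ⊓ Subgroup.normalizer ((W P : Subgroup G) : Set G) :=
      lt_of_le_of_ne hPle (fun heq => hnP ((SetLike.ext_iff.mp heq n).mpr hn'))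
    have hcardlt : Nat.card P <
        Nat.card ((S : Subgroup G) ⊓
          Subgroup.normalizer ((W P : Subgroup G) : Set G) : Subgroup G) :=
      Cfsg.Agent.Helper1.card_lt_card_of_lt hlt
    have hle : Nat.card ((S : Subgroup G) ⊓
        Subgroup.normalizer ((W P : Subgroup G) : Set G) : Subgroup G) ≤
        Nat.card (S : Subgroup G) := Subgroup.card_le_of_le inf_le_left
    have hk1 : Nat.card (S : Subgroup G) -
        Nat.card ((S : Subgroup G) ⊓
          Subgroup.normalizer ((W P : Subgroup G) : Set G) : Subgroup G) < k := by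
      omega
    have hxB : (fun a => x * a * x⁻¹) '' B = (fun a => y * a * y⁻¹) '' B := by
      apply Set.image_congr
      intro b hb
      exact hxb b hb
    obtain ⟨z, hz, hzb⟩ := ih _ hk1 (W P) rfl hwp1 hT1 (h𝒞 T hwp.1 hTC) x hx.2 B (hB.trans hPle)
      (by rw [hxB]; exact hyB.trans hPle)
    refine ⟨z, hz, fun b hb => ?_⟩
    rw [hzb b hb, hxb b hb]

/-- the induction skeleton over the well-placed subgroups -/
theorem control_of_step_wp (P : Sylow p G) (W : Subgroup G → Subgroup G)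
    (hW : Cfsg.IsConjugacyFunctor p W) (H : Subgroup G)
    (hstep : ∀ U : Subgroup G, Cfsg.IsWellPlaced p W (P : Subgroup G) U →
      (∀ A' : Subgroup G, A' ≤ (P : Subgroup G) → Nat.card U < Nat.card A' →
        ∀ k : G, conjR k (A' : Set G) ⊆ (P : Subgroup G) → CFact H (A' : Set G) k) →
      ∀ k ∈ Subgroup.normalizer (U : Set G), CFact H (U : Set G) k) :
    ∀ A : Subgroup G, A ≤ (P : Subgroup G) → ∀ g : G,
      A.map (MulAut.conj g).toMonoidHom ≤ (P : Subgroup G) →
      ∃ h ∈ H, ∃ c ∈ Subgroup.centralizer (A : Set G), g = h * c := by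
  obtain ⟨𝓕, h𝓕def⟩ : ∃ 𝓕 : Set (Subgroup G),
      𝓕 = {T : Subgroup G | Cfsg.IsWellPlaced p W (P : Subgroup G) T} := ⟨_, rfl⟩
  have h𝓕 : ∀ U ∈ 𝓕, U ≤ (P : Subgroup G) := by
    intro U hU
    rw [h𝓕def] at hU
    exact hU.1
  have hchain : ∀ (A : Subgroup G) (g : G), A ≤ (P : Subgroup G) →
      conjR g (A : Set G) ⊆ (P : Subgroup G) → ConjChain 𝓕 (A : Set G) g := by
    intro A g hA hg
    rw [h𝓕def]
    exact conjChain_wellPlaced P W hW A g hA hg
  have main : ∀ n : ℕ, ∀ U ∈ 𝓕, Nat.card (P : Subgroup G) - Nat.card U = n →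
      ∀ k ∈ Subgroup.normalizer (U : Set G), CFact H (U : Set G) k := by
    intro n
    induction n using Nat.strong_induction_on with
    | _ n ih =>
      intro U hU hn
      have hUwp : Cfsg.IsWellPlaced p W (P : Subgroup G) U := by
        rw [h𝓕def] at hU
        exact hU
      apply hstep U hUwp
      intro A' hA'P hcard k hk
      have hch := hchain A' k hA'P hk
      apply cfact_of_chain (m := Nat.card U + 1) ?_ hch
      · intro T hT
        have := Subgroup.card_le_of_le (show A' ≤ T from hT)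
        omega
      · intro T hT hcardT x hx
        have hTP := Subgroup.card_le_of_le (h𝓕 T hT)
        apply ih (Nat.card (P : Subgroup G) - Nat.card T) (by omega) T hT rfl x hx
  intro A hA g hg
  have hconj : conjR g⁻¹ (A : Set G) ⊆ (P : Subgroup G) := by
    rw [conjR_eq_map_conj_inv]
    exact hg
  have hch := hchain A g⁻¹ hA hconj
  have hfact : CFact H (A : Set G) g⁻¹ := by
    apply cfact_of_chain (m := 0) ?_ hch (fun _ _ => Nat.zero_le _)
    intro T hT _ x hx
    exact main _ T hT rfl x hx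
  obtain ⟨c, hc, h, hh, e⟩ := hfact
  refine ⟨h⁻¹, Subgroup.inv_mem _ hh, c⁻¹, Subgroup.inv_mem _ hc, ?_⟩
  have : g = (g⁻¹)⁻¹ := (inv_inv g).symm
  rw [this, e]; group

/-- a fully normalized subgroup that is not centric is handled by the larger subgroups -/
theorem cfact_of_not_centric (P : Sylow p G) (H : Subgroup G) (U : Subgroup G)
    (hUP : U ≤ (P : Subgroup G))
    (hUsyl : ¬ p ∣ ((P : Subgroup G) ⊓ Subgroup.normalizer (U : Set G)).relIndex
        (Subgroup.normalizer (U : Set G)))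
    (hnc : ¬ ((P : Subgroup G) ⊓ Subgroup.centralizer (U : Set G) ≤ U))
    (hlarger : ∀ A' : Subgroup G, A' ≤ (P : Subgroup G) → Nat.card U < Nat.card A' →
        ∀ k : G, conjR k (A' : Set G) ⊆ (P : Subgroup G) → CFact H (A' : Set G) k) :
    ∀ k ∈ Subgroup.normalizer (U : Set G), CFact H (U : Set G) k := by
  intro k hk
  obtain ⟨E, hE⟩ : ∃ E, E = (P : Subgroup G) ⊓ Subgroup.centralizer (U : Set G) := ⟨_, rfl⟩
  obtain ⟨C, hC⟩ : ∃ C, C = Subgroup.centralizer (U : Set G) := ⟨_, rfl⟩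
  have hEP : E ≤ (P : Subgroup G) := hE ▸ inf_le_left
  have hEC : E ≤ C := by rw [hE, hC]; exact inf_le_right
  have hEp : IsPGroup p E := P.2.to_le hEP
  -- `E` is a Sylow subgroup of `C`
  have hTp : IsPGroup p ((P : Subgroup G) ⊓ Subgroup.normalizer (U : Set G) : Subgroup G) :=
    P.2.to_le inf_le_left
  have hTcard := card_eq_ppart_of_relIndex (inf_le_right) hTp hUsyl
  have hEcard : Nat.card E = p ^ (Nat.card C).factorization p := by
    have h1 := card_inf_eq_ppart_of_normal (p := p)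
      (inf_le_right : (P : Subgroup G) ⊓ Subgroup.normalizer (U : Set G) ≤ _)
      (Subgroup.centralizer_le_normalizer (U : Set G))
      (normalizer_le_normalizer_centralizer U) hTp hTcard
    have h2 : (P : Subgroup G) ⊓ Subgroup.normalizer (U : Set G) ⊓
        Subgroup.centralizer (U : Set G) = E := by
      rw [hE]
      apply le_antisymm
      · exact le_inf (inf_le_left.trans inf_le_left) inf_le_right
      · exact le_inf (le_inf inf_le_left
          (inf_le_right.trans (Subgroup.centralizer_le_normalizer _))) inf_le_right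
    rw [h2] at h1
    rw [hC]; exact h1
  -- conjugate `k⁻¹ E k` back into `E` inside `C`
  have hkinv : k⁻¹ ∈ Subgroup.normalizer (U : Set G) := Subgroup.inv_mem _ hk
  have hEk : E.map (MulAut.conj k⁻¹).toMonoidHom ≤ C := by
    rintro _ ⟨e, he, rfl⟩
    rw [hC]
    exact conj_mem_centralizer_of_mem_normalizer hkinv (hC ▸ hEC he)
  obtain ⟨d, hd, hdE⟩ := exists_conj_le_of_card_eq_ppart (p := p) hEC hEcard hEk (hEp.map _)
  have hdC : d ∈ Subgroup.centralizer (U : Set G) := hC ▸ hd
  have hdN : d ∈ Subgroup.normalizer (U : Set G) := Subgroup.centralizer_le_normalizer _ hdC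
  obtain ⟨k', hk'⟩ : ∃ k', k' = k * d⁻¹ := ⟨_, rfl⟩
  have hk'N : k' ∈ Subgroup.normalizer (U : Set G) := by
    rw [hk']; exact Subgroup.mul_mem _ hk (Subgroup.inv_mem _ hdN)
  obtain ⟨U₁, hU₁⟩ : ∃ U₁, U₁ = U ⊔ E := ⟨_, rfl⟩
  have hUU₁ : U ≤ U₁ := hU₁ ▸ le_sup_left
  have hU₁P : U₁ ≤ (P : Subgroup G) := hU₁ ▸ sup_le hUP hEP
  have hcard : Nat.card U < Nat.card U₁ := by
    apply Cfsg.Agent.Helper1.card_lt_card_of_lt
    refine lt_of_le_of_ne hUU₁ ?_
    intro h
    apply hnc
    rw [← hE, h, hU₁]; exact le_sup_right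
  have hk'U₁ : conjR k' (U₁ : Set G) ⊆ (P : Subgroup G) := by
    rw [conjR_coe]
    have hle : U₁.map (MulAut.conj k'⁻¹).toMonoidHom ≤ (P : Subgroup G) := by
      rw [hU₁, Subgroup.map_sup]
      apply sup_le
      · rintro _ ⟨u, hu, rfl⟩
        exact hUP ((Subgroup.mem_normalizer_iff.mp (Subgroup.inv_mem _ hk'N) u).mp hu)
      · rintro _ ⟨e, he, rfl⟩
        have h1 : d * (k⁻¹ * e * k⁻¹⁻¹) * d⁻¹ ∈ E := hdE ⟨_, ⟨e, he, rfl⟩, rfl⟩
        have e1 : (MulAut.conj k'⁻¹).toMonoidHom e = d * (k⁻¹ * e * k⁻¹⁻¹) * d⁻¹ := by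
          simp only [MulEquiv.coe_toMonoidHom, MulAut.conj_apply]
          rw [hk']; group
        rw [e1]
        exact hEP h1
    exact hle
  obtain ⟨c₁, hc₁, h, hh, e⟩ := hlarger U₁ hU₁P hcard k' hk'U₁
  refine ⟨k * d * k⁻¹ * c₁, Subgroup.mul_mem _
    (conj_mem_centralizer_of_mem_normalizer hk hdC)
    (Subgroup.centralizer_le (by exact_mod_cast hUU₁) hc₁), h, hh, ?_⟩
  have : k = (k * d * k⁻¹) * k' := by rw [hk']; group
  rw [mul_assoc, ← e]
  exact this

end NG
end Cfsg.Agent.Helper1
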