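import Mathlib
import Cfsg.Agent.Helper1.NGa

set_option autoImplicit false

/-!
Glauberman's local-to-global theorem for control of strong fusion, restricted to the well-placed
subgroups containing `Z(S)`.
-/

namespace Cfsg.Agent.Helper1
namespace NG

open Cfsg Cfsg.Agent.Lead NF

variable {G : Type*} [Group G] [Finite G] {p : ℕ} [hp : Fact p.Prime]

theorem control_of_centric_local (S : Sylow p G) (W : Subgroup G → Subgroup G)
    (hW : Cfsg.IsConjugacyFunctor p W)
    (hWZ : ∀ P : Subgroup G, IsPGroup p P → P ⊓ Subgroup.centralizer (P : Set G) ≤ W P)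
    (hloc : ∀ T : Subgroup G, T ≠ ⊥ → Cfsg.IsWellPlaced p W (S : Subgroup G) T →
      (S : Subgroup G) ⊓ Subgroup.centralizer ((S : Subgroup G) : Set G) ≤ T →
      Cfsg.ControlsStrongFusionIn p W (Subgroup.normalizer ((T : Subgroup G) : Set G))) :
    ∀ A : Subgroup G, A ≤ (S : Subgroup G) → ∀ g : G,
      A.map (MulAut.conj g).toMonoidHom ≤ (S : Subgroup G) →
      ∃ h ∈ Subgroup.normalizer ((W (S : Subgroup G) : Subgroup G) : Set G),
        ∃ c ∈ Subgroup.centralizer (A : Set G), g = h * c := by
  apply control_of_step_wp S W hW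
  intro U hwp hlarger k hk
  have hUS : U ≤ (S : Subgroup G) := hwp.1
  have hUsyl : ¬ p ∣ ((S : Subgroup G) ⊓ Subgroup.normalizer (U : Set G)).relIndex
      (Subgroup.normalizer (U : Set G)) := hwp.2 0
  by_cases hc : (S : Subgroup G) ⊓ Subgroup.centralizer (U : Set G) ≤ U
  · by_cases hUb : U = ⊥
    · refine ⟨k, ?_, 1, Subgroup.one_mem _, by simp⟩
      rw [hUb, Subgroup.mem_centralizer_iff]
      intro x hx
      rw [SetLike.mem_coe, Subgroup.mem_bot] at hx
      rw [hx]; simp
    · have hZU : (S : Subgroup G) ⊓ Subgroup.centralizer ((S : Subgroup G) : Set G) ≤ U :=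
        (inf_le_inf_left _ (Subgroup.centralizer_le (by exact_mod_cast hUS))).trans hc
      have h𝒞 : ∀ T : Subgroup G, T ≤ (S : Subgroup G) →
          (S : Subgroup G) ⊓ Subgroup.centralizer ((S : Subgroup G) : Set G) ≤ T →
          (S : Subgroup G) ⊓ Subgroup.centralizer ((S : Subgroup G) : Set G) ≤
            W ((S : Subgroup G) ⊓ Subgroup.normalizer (T : Set G)) := by
        intro T _ hZT
        refine le_trans ?_ (hWZ _ (S.2.to_le inf_le_left))
        apply le_inf (le_inf inf_le_left (hZT.trans Subgroup.le_normalizer))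
        exact inf_le_right.trans (Subgroup.centralizer_le (by
          intro x hx
          exact hx.1))
      have hclimb := climb_restricted S hW
        (fun T => (S : Subgroup G) ⊓ Subgroup.centralizer ((S : Subgroup G) : Set G) ≤ T)
        h𝒞 hloc U hwp hUb hZU k⁻¹ (Subgroup.inv_mem _ hk) (U : Set G)
        (fun u hu => ⟨hUS hu, Subgroup.le_normalizer hu⟩)
        (by
          rintro _ ⟨u, hu, rfl⟩
          have h1 : k⁻¹ * u * k⁻¹⁻¹ ∈ U :=
            (Subgroup.mem_normalizer_iff.mp (Subgroup.inv_mem _ hk) u).mp hu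
          exact ⟨hUS h1, Subgroup.le_normalizer h1⟩)
      obtain ⟨z, hz, hzb⟩ := hclimb
      refine ⟨k * z, ?_, z⁻¹, Subgroup.inv_mem _ hz, by group⟩
      rw [Subgroup.mem_centralizer_iff]
      intro u hu
      have h1 := hzb u hu
      calc u * (k * z) = k * (k⁻¹ * u * k⁻¹⁻¹) * z := by group
        _ = k * (z * u * z⁻¹) * z := by rw [h1]
        _ = k * z * u := by group
  · exact cfact_of_not_centric S _ U hUS hUsyl hc hlarger k hk

end NG
end Cfsg.Agent.Helper1
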