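import Mathlib
import Cfsg.Agent.Helper1.ZJFusQdA
import Cfsg.Agent.Helper1.NFe
import Cfsg.Agent.Helper5.MaxAbelian

set_option autoImplicit false

/-!
`Z(J(S))` and `Qd(p)`-free groups: the family form of control of strong fusion in the group
itself, `SL₂(p)`-free implies `Qd(p)`-free, and `Z(P) ≤ Z(J(P))`.
-/

namespace Cfsg.Agent.Helper1
namespace NG

universe u

open Cfsg Cfsg.Agent.Lead Cfsg.Agent.Helper5.TF

variable {p : ℕ} [hp : Fact p.Prime]

/-- In a `Qd(p)`-free group, `Z(J)` controls strong fusion (family form, in the group itself). -/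
theorem family_of_qd_free {X : Type u} [Group X] [Finite X] (hp2 : p ≠ 2)
    (hqd : ¬ Cfsg.Involves ↥(Cfsg.qd p) X) :
    Cfsg.FamilyControlsStrongFusionIn p (FT.ind {ZJFus.zjW} X) ⊤ := by
  have h𝓦 : ∀ W' ∈ ({ZJFus.zjW} : Set (∀ (Q : Type u) [Group Q], Subgroup Q)),
      Cfsg.IsCharPFunctor.{u} p W' := by
    rintro W' rfl; exact ZJFus.zjW_isCharPFunctor
  apply FT.sf_induction (G := X) {ZJFus.zjW} h𝓦 ?_ (Nat.card X) X rfl (FT.isSectionOf_refl X)
  intro Y _ _ hsecY hpc _ _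
  obtain ⟨K', R', hn, ⟨e⟩⟩ := FT.exists_equiv_of_isSectionOf hsecY
  haveI := hn
  have hloc : FT.Loc1969 p ZJFus.zjW (↥K' ⧸ R'.subgroupOf K') := by
    intro T'
    have hpc' : FT.PC p (↥K' ⧸ R'.subgroupOf K') := FT.PC.of_equiv e.symm hpc
    have hfree : ¬ Cfsg.Involves ↥(Cfsg.qd p) (K' ⧸ R'.subgroupOf K') :=
      QuadFree.not_involves_section hqd K' R'
    have hst := QuadFree.isNormalizerPStable_of_qd_free hp2 hfree
    have h1 := (Cfsg.Agent.S3079.result hp2 T' (T' : Subgroup (K' ⧸ R'.subgroupOf K'))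
      ⟨le_rfl, fun x _ g hg => hg⟩ hst hpc').1
    rw [ZJFus.inducedFunctor_zjW]
    exact h1
  have h1 := FT.Loc1969.of_equiv ZJFus.zjW_isCharPFunctor e hloc
  have S : Sylow p Y := default
  apply FT.top_of_sfs S
  intro A g hA hAg
  have hmem : Cfsg.inducedFunctor (G := Y) ZJFus.zjW ∈ FT.ind {ZJFus.zjW} Y :=
    ⟨ZJFus.zjW, rfl, rfl⟩
  refine FRel.step hmem ?_ hA hAg
  have hN : Subgroup.normalizer
      ((Cfsg.inducedFunctor (G := Y) ZJFus.zjW (S : Subgroup Y) : Subgroup Y) : Set Y) = ⊤ :=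
    Subgroup.normalizer_eq_top_iff.mpr (h1 S)
  rw [hN]
  exact Subgroup.mem_top g

/-- a singleton family controlling strong fusion: the functor controls strong fusion -/
theorem controlsStrongFusionIn_of_family_singleton {G : Type*} [Group G]
    (V : Subgroup G → Subgroup G) (H : Subgroup G)
    (h : Cfsg.FamilyControlsStrongFusionIn p {V} H) : Cfsg.ControlsStrongFusionIn p V H := by
  obtain ⟨T, hTH, hTp, hidx, hctl⟩ := h
  refine ⟨T, hTH, hTp, hidx, ?_⟩
  intro A h hh hA hAh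
  obtain ⟨n, c, hc0, hsteps, -, hlast⟩ := hctl A h hh hA hAh
  have hmem : ∀ i : ℕ, ∀ hi : i < n + 1,
      c ⟨i, hi⟩ ∈ H ⊓ Subgroup.normalizer ((V T : Subgroup G) : Set G) := by
    intro i
    induction i with
    | zero =>
      intro hi
      have : c ⟨0, hi⟩ = 1 := hc0
      rw [this]; exact Subgroup.one_mem _
    | succ i ih =>
      intro hi
      have hi' : i < n := by omega
      obtain ⟨W', hW', hstep⟩ := hsteps ⟨i, hi'⟩
      rw [Set.mem_singleton_iff] at hW'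
      subst hW'
      have h1 := ih (by omega)
      have h2 := Subgroup.mul_mem _ hstep h1
      have e : c (Fin.succ ⟨i, hi'⟩) * (c (Fin.castSucc ⟨i, hi'⟩))⁻¹ * c ⟨i, by omega⟩ =
          c ⟨i + 1, hi⟩ := by
        have : (Fin.castSucc ⟨i, hi'⟩ : Fin (n + 1)) = ⟨i, by omega⟩ := rfl
        rw [this, inv_mul_cancel_right]
        rfl
      rw [e] at h2
      exact h2
  exact ⟨c (Fin.last n), hmem n (by omega), hlast⟩

/-- `Qd(p)` has a subgroup `SL₂(p)` -/
theorem inv_qd : Cfsg.Agent.Lead.QuadSL2.Inv p ↥(Cfsg.qd p) :=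
  ⟨⊤, (Qd.proj p).comp (Subgroup.topEquiv (G := ↥(Cfsg.qd p))).toMonoidHom,
    (Qd.proj_surjective p).comp (Subgroup.topEquiv (G := ↥(Cfsg.qd p))).surjective⟩

/-- if the subgroup `M` has no section `SL₂(p)`, it does not involve `Qd(p)` -/
theorem not_involves_qd_of_no_section {G : Type*} [Group G] (M : Subgroup G)
    (h : ¬ ∃ (H K : Subgroup G) (_ : (K.subgroupOf H).Normal), H ≤ M ∧
      Nonempty ((H ⧸ K.subgroupOf H) ≃* Matrix.SpecialLinearGroup (Fin 2) (ZMod p))) :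
    ¬ Cfsg.Involves ↥(Cfsg.qd p) ↥M := by
  intro hinv
  apply h
  obtain ⟨K, f, hf⟩ := exists_maps_of_involves hinv
  have h1 : Cfsg.Agent.Lead.QuadSL2.Inv p ↥K :=
    Cfsg.Agent.Lead.QuadSL2.Inv.of_surjective f hf inv_qd
  have h2 : Cfsg.Agent.Lead.QuadSL2.Inv p ↥M := Cfsg.Agent.Lead.QuadSL2.Inv.of_subgroup K h1
  exact Cfsg.Agent.Lead.QuadSL2.Inv.exists_section M h2

/-- `Z(P) ≤ Z(J(P))` -/
theorem inf_centralizer_le_centerThompsonAOf {G : Type*} [Group G] (T : Subgroup G) [Finite T] :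
    T ⊓ Subgroup.centralizer (T : Set G) ≤ Cfsg.centerThompsonAOf T := by
  intro x hx
  have hJT : Cfsg.thompsonSubgroupAOf T ≤ T := by
    rintro _ ⟨y, -, rfl⟩
    exact y.2
  refine ⟨?_, Subgroup.centralizer_le (by exact_mod_cast hJT) hx.2⟩
  obtain ⟨A, hA⟩ := Cfsg.Agent.Helper5.exists_mem_maxAbelianSubgroups ↥T
  have hcent := Cfsg.Agent.Helper5.centralizer_eq_of_mem_maxAbelianSubgroups hA
  have hxA : (⟨x, hx.1⟩ : ↥T) ∈ A := by
    rw [← hcent, Subgroup.mem_centralizer_iff]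
    intro a _
    apply Subtype.ext
    exact Subgroup.mem_centralizer_iff.1 hx.2 (a : G) a.2
  refine ⟨⟨x, hx.1⟩, ?_, rfl⟩
  exact (le_sSup hA : A ≤ Cfsg.thompsonSubgroupA ↥T) hxA

end NG
end Cfsg.Agent.Helper1
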