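import Mathlib
import Cfsg.Agent.Helper1.NGb
import Cfsg.Agent.Helper1.NGc

set_option autoImplicit false

/-!
`N_G(Z(J(S)))` controls strong fusion in `S` when `N_G(P)` is `SL₂(p)`-free for all
`Z(S) ≤ P ≤ S` (`p` odd).
-/

namespace Cfsg.Agent.Helper1
namespace NG

universe u

open Cfsg Cfsg.Agent.Lead Cfsg.Agent.Helper5.TF

variable {p : ℕ} [hp : Fact p.Prime]

theorem zj_controls_of_local_free {G : Type u} [Group G] [Finite G] (hp2 : p ≠ 2)
    (S : Sylow p G)
    (hfree : ∀ P : Subgroup G,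
      (S : Subgroup G) ⊓ Subgroup.centralizer ((S : Subgroup G) : Set G) ≤ P → P ≤ S →
      ¬ ∃ (H K : Subgroup G) (_ : (K.subgroupOf H).Normal),
        H ≤ Subgroup.normalizer (P : Set G) ∧
        Nonempty ((H ⧸ K.subgroupOf H) ≃* Matrix.SpecialLinearGroup (Fin 2) (ZMod p))) :
    ∀ A : Subgroup G, A ≤ (S : Subgroup G) → ∀ g : G,
      A.map (MulAut.conj g).toMonoidHom ≤ (S : Subgroup G) →
      ∃ h ∈ Subgroup.normalizer ((Cfsg.centerThompsonAOf (S : Subgroup G) : Subgroup G) : Set G),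
        ∃ c ∈ Subgroup.centralizer (A : Set G), g = h * c := by
  obtain ⟨W, hWdef⟩ : ∃ W : Subgroup G → Subgroup G,
      W = Cfsg.inducedFunctor (G := G) ZJFus.zjW := ⟨_, rfl⟩
  have hW : Cfsg.IsConjugacyFunctor p W :=
    hWdef ▸ FT.isConjugacyFunctor_induced ZJFus.zjW ZJFus.zjW_isCharPFunctor
  have hWeq : ∀ T : Subgroup G, W T = Cfsg.centerThompsonAOf T := by
    intro T
    rw [hWdef]
    exact ZJFus.inducedFunctor_zjW T
  have hWZ : ∀ P : Subgroup G, IsPGroup p P →
      P ⊓ Subgroup.centralizer (P : Set G) ≤ W P := by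
    intro P _
    rw [hWeq]
    exact inf_centralizer_le_centerThompsonAOf P
  have h𝓦 : ∀ W' ∈ ({ZJFus.zjW} : Set (∀ (Q : Type u) [Group Q], Subgroup Q)),
      Cfsg.IsCharPFunctor.{u} p W' := by
    rintro W' rfl; exact ZJFus.zjW_isCharPFunctor
  have hloc : ∀ T : Subgroup G, T ≠ ⊥ → Cfsg.IsWellPlaced p W (S : Subgroup G) T →
      (S : Subgroup G) ⊓ Subgroup.centralizer ((S : Subgroup G) : Set G) ≤ T →
      Cfsg.ControlsStrongFusionIn p W (Subgroup.normalizer ((T : Subgroup G) : Set G)) := by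
    intro T _ hwp hZT
    have hqd := not_involves_qd_of_no_section (p := p) (Subgroup.normalizer (T : Set G))
      (hfree T hZT hwp.1)
    have hfam := family_of_qd_free hp2 hqd
    have h2 := FT.sf_map_injective {ZJFus.zjW} h𝓦 (Subgroup.normalizer (T : Set G)).subtype
      (Subgroup.subtype_injective _) hfam
    rw [Subgroup.range_subtype] at h2
    have h3 : FT.ind {ZJFus.zjW} G = {W} := by
      rw [hWdef]
      exact Set.image_singleton
    rw [h3] at h2
    exact controlsStrongFusionIn_of_family_singleton W _ h2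
  have hmain := control_of_centric_local S W hW hWZ hloc
  rw [hWeq] at hmain
  exact hmain

end NG
end Cfsg.Agent.Helper1
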