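import Mathlib
import Cfsg.Agent.Helper1.NGa
import Cfsg.Agent.Lead.FamilyFusion

set_option autoImplicit false

/-!
An abstract form of Glauberman's local-to-global argument for control of strong fusion: a
"fusion predicate" `Φ A x` (the conjugation by `x` on `A` is realised in a prescribed way) that is
monotone, absorbs centralizing factors on the left and composes.
-/

namespace Cfsg.Agent.Helper1
namespace NH

open Cfsg Cfsg.Agent.Lead NF

variable {G : Type*} [Group G]

/-- a fusion predicate relative to `P` -/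
structure FusionPred (P : Set G) (Φ : Set G → G → Prop) : Prop where
  mono : ∀ {A B : Set G} {x : G}, A ⊆ B → Φ B x → Φ A x
  cent : ∀ {A : Set G} {x c : G}, c ∈ Subgroup.centralizer A → Φ A x → Φ A (c * x)
  comp : ∀ {A : Set G} {x y : G}, Φ A x → Φ (conjR x A) y → Φ A (x * y)
  one : ∀ {A : Set G}, A ⊆ P → Φ A 1

/-- chains whose links are good are good -/
theorem phi_of_chain {P : Set G} {Φ : Set G → G → Prop} (hΦ : FusionPred P Φ)
    {𝓕 : Set (Subgroup G)} {m : ℕ} [Finite G]
    (hgood : ∀ T ∈ 𝓕, m ≤ Nat.card T → ∀ x ∈ Subgroup.normalizer (T : Set G), Φ (T : Set G) x)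
    {A : Set G} {g : G} (hch : ConjChain 𝓕 A g)
    (hA : ∀ T : Subgroup G, A ⊆ T → m ≤ Nat.card T) (hAP : A ⊆ P)
    (hgP : conjR g A ⊆ P) (h𝓕 : ∀ T ∈ 𝓕, (T : Set G) ⊆ P) : Φ A g := by
  induction hch with
  | nil A => exact hΦ.one hAP
  | cons A T x g hT hx hAT _ ih =>
    have h1 : Φ A x := hΦ.mono hAT (hgood T hT (hA T hAT) x hx)
    have hA' : ∀ T' : Subgroup G, conjR x A ⊆ T' → m ≤ Nat.card T' := by
      intro T' hT'
      have h2 : A ⊆ ((T'.map (MulAut.conj x).toMonoidHom : Subgroup G) : Set G) := by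
        intro a ha
        have h3 : x⁻¹ * a * x ∈ T' := hT' ⟨a, ha, rfl⟩
        refine ⟨_, h3, ?_⟩
        simp only [MulEquiv.coe_toMonoidHom, MulAut.conj_apply]
        group
      have := hA _ h2
      rwa [card_map_conj] at this
    have hxA : conjR x A ⊆ P :=
      (conjR_subset_of_mem_normalizer hx hAT).trans (h𝓕 T hT)
    rw [conjR_mul] at hgP
    exact hΦ.comp h1 (ih hA' hxA hgP)

variable [Finite G] {p : ℕ} [hp : Fact p.Prime]

/-- the induction skeleton over the well-placed subgroups, for a fusion predicate -/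
theorem phi_of_step_wp (P : Sylow p G) (W : Subgroup G → Subgroup G)
    (hW : Cfsg.IsConjugacyFunctor p W) {Φ : Set G → G → Prop}
    (hΦ : FusionPred ((P : Subgroup G) : Set G) Φ)
    (hstep : ∀ U : Subgroup G, Cfsg.IsWellPlaced p W (P : Subgroup G) U →
      (∀ A' : Subgroup G, A' ≤ (P : Subgroup G) → Nat.card U < Nat.card A' →
        ∀ k : G, conjR k (A' : Set G) ⊆ (P : Subgroup G) → Φ (A' : Set G) k) →
      ∀ k ∈ Subgroup.normalizer (U : Set G), Φ (U : Set G) k) :
    ∀ A : Subgroup G, A ≤ (P : Subgroup G) → ∀ g : G,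
      conjR g (A : Set G) ⊆ (P : Subgroup G) → Φ (A : Set G) g := by
  obtain ⟨𝓕, h𝓕def⟩ : ∃ 𝓕 : Set (Subgroup G),
      𝓕 = {T : Subgroup G | Cfsg.IsWellPlaced p W (P : Subgroup G) T} := ⟨_, rfl⟩
  have h𝓕 : ∀ U ∈ 𝓕, U ≤ (P : Subgroup G) := by
    intro U hU
    rw [h𝓕def] at hU
    exact hU.1
  have h𝓕' : ∀ T ∈ 𝓕, (T : Set G) ⊆ ((P : Subgroup G) : Set G) := fun T hT => h𝓕 T hT
  have hchain : ∀ (A : Subgroup G) (g : G), A ≤ (P : Subgroup G) →
      conjR g (A : Set G) ⊆ (P : Subgroup G) → ConjChain 𝓕 (A : Set G) g := by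
    intro A g hA hg
    rw [h𝓕def]
    exact conjChain_wellPlaced P W hW A g hA hg
  have main : ∀ n : ℕ, ∀ U ∈ 𝓕, Nat.card (P : Subgroup G) - Nat.card U = n →
      ∀ k ∈ Subgroup.normalizer (U : Set G), Φ (U : Set G) k := by
    intro n
    induction n using Nat.strong_induction_on with
    | _ n ih =>
      intro U hU hn
      have hUwp : Cfsg.IsWellPlaced p W (P : Subgroup G) U := by
        rw [h𝓕def] at hU
        exact hU
      apply hstep U hUwp
      intro A' hA'P hcard k hk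
      have hch := hchain A' k hA'P hk
      apply phi_of_chain hΦ (m := Nat.card U + 1) ?_ hch ?_ hA'P hk h𝓕'
      · intro T hT hcardT x hx
        have hTP := Subgroup.card_le_of_le (h𝓕 T hT)
        apply ih (Nat.card (P : Subgroup G) - Nat.card T) (by omega) T hT rfl x hx
      · intro T hT
        have := Subgroup.card_le_of_le (show A' ≤ T from hT)
        omega
  intro A hA g hg
  have hch := hchain A g hA hg
  apply phi_of_chain hΦ (m := 0) ?_ hch (fun _ _ => Nat.zero_le _) hA hg h𝓕'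
  intro T hT _ x hx
  exact main _ T hT rfl x hx

/-- a fully normalized subgroup that is not centric is handled by the larger subgroups -/
theorem phi_of_not_centric (P : Sylow p G) {Φ : Set G → G → Prop}
    (hΦ : FusionPred ((P : Subgroup G) : Set G) Φ) (U : Subgroup G)
    (hUP : U ≤ (P : Subgroup G))
    (hUsyl : ¬ p ∣ ((P : Subgroup G) ⊓ Subgroup.normalizer (U : Set G)).relIndex
        (Subgroup.normalizer (U : Set G)))
    (hnc : ¬ ((P : Subgroup G) ⊓ Subgroup.centralizer (U : Set G) ≤ U))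
    (hlarger : ∀ A' : Subgroup G, A' ≤ (P : Subgroup G) → Nat.card U < Nat.card A' →
        ∀ k : G, conjR k (A' : Set G) ⊆ (P : Subgroup G) → Φ (A' : Set G) k) :
    ∀ k ∈ Subgroup.normalizer (U : Set G), Φ (U : Set G) k := by
  intro k hk
  -- reuse the factorization form with `H = ⊤`-free bookkeeping
  obtain ⟨E, hE⟩ : ∃ E, E = (P : Subgroup G) ⊓ Subgroup.centralizer (U : Set G) := ⟨_, rfl⟩
  obtain ⟨C, hC⟩ : ∃ C, C = Subgroup.centralizer (U : Set G) := ⟨_, rfl⟩
  have hEP : E ≤ (P : Subgroup G) := hE ▸ inf_le_left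
  have hEC : E ≤ C := by rw [hE, hC]; exact inf_le_right
  have hEp : IsPGroup p E := P.2.to_le hEP
  have hTp : IsPGroup p ((P : Subgroup G) ⊓ Subgroup.normalizer (U : Set G) : Subgroup G) :=
    P.2.to_le inf_le_left
  have hTcard := card_eq_ppart_of_relIndex (inf_le_right) hTp hUsyl
  have hEcard : Nat.card E = p ^ (Nat.card C).factorization p := by
    have h1 := card_inf_eq_ppart_of_normal (p := p)
      (inf_le_right : (P : Subgroup G) ⊓ Subgroup.normalizer (U : Set G) ≤ _)
      (Subgroup.centralizer_le_normalizer (U : Set G))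
      (normalizer_le_normalizer_centralizer U) hTp hTcard
    have h2 : (P : Subgroup G) ⊓ Subgroup.normalizer (U : Set G) ⊓
        Subgroup.centralizer (U : Set G) = E := by
      rw [hE]
      apply le_antisymm
      · exact le_inf (inf_le_left.trans inf_le_left) inf_le_right
      · exact le_inf (le_inf inf_le_left
          (inf_le_right.trans (Subgroup.centralizer_le_normalizer _))) inf_le_right
    rw [h2] at h1
    rw [hC]; exact h1
  have hkinv : k⁻¹ ∈ Subgroup.normalizer (U : Set G) := Subgroup.inv_mem _ hk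
  have hEk : E.map (MulAut.conj k⁻¹).toMonoidHom ≤ C := by
    rintro _ ⟨e, he, rfl⟩
    rw [hC]
    exact conj_mem_centralizer_of_mem_normalizer hkinv (hC ▸ hEC he)
  obtain ⟨d, hd, hdE⟩ := exists_conj_le_of_card_eq_ppart (p := p) hEC hEcard hEk (hEp.map _)
  have hdC : d ∈ Subgroup.centralizer (U : Set G) := hC ▸ hd
  have hdN : d ∈ Subgroup.normalizer (U : Set G) := Subgroup.centralizer_le_normalizer _ hdC
  obtain ⟨k', hk'⟩ : ∃ k', k' = k * d⁻¹ := ⟨_, rfl⟩
  have hk'N : k' ∈ Subgroup.normalizer (U : Set G) := by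
    rw [hk']; exact Subgroup.mul_mem _ hk (Subgroup.inv_mem _ hdN)
  obtain ⟨U₁, hU₁⟩ : ∃ U₁, U₁ = U ⊔ E := ⟨_, rfl⟩
  have hUU₁ : U ≤ U₁ := hU₁ ▸ le_sup_left
  have hU₁P : U₁ ≤ (P : Subgroup G) := hU₁ ▸ sup_le hUP hEP
  have hcard : Nat.card U < Nat.card U₁ := by
    apply Cfsg.Agent.Helper1.card_lt_card_of_lt
    refine lt_of_le_of_ne hUU₁ ?_
    intro h
    apply hnc
    rw [← hE, h, hU₁]; exact le_sup_right
  have hk'U₁ : conjR k' (U₁ : Set G) ⊆ (P : Subgroup G) := by
    rw [conjR_coe]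
    have hle : U₁.map (MulAut.conj k'⁻¹).toMonoidHom ≤ (P : Subgroup G) := by
      rw [hU₁, Subgroup.map_sup]
      apply sup_le
      · rintro _ ⟨u, hu, rfl⟩
        exact hUP ((Subgroup.mem_normalizer_iff.mp (Subgroup.inv_mem _ hk'N) u).mp hu)
      · rintro _ ⟨e, he, rfl⟩
        have h1 : d * (k⁻¹ * e * k⁻¹⁻¹) * d⁻¹ ∈ E := hdE ⟨_, ⟨e, he, rfl⟩, rfl⟩
        have e1 : (MulAut.conj k'⁻¹).toMonoidHom e = d * (k⁻¹ * e * k⁻¹⁻¹) * d⁻¹ := by
          simp only [MulEquiv.coe_toMonoidHom, MulAut.conj_apply]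
          rw [hk']; group
        rw [e1]
        exact hEP h1
    exact hle
  have h1 : Φ (U : Set G) k' :=
    hΦ.mono (by exact_mod_cast hUU₁) (hlarger U₁ hU₁P hcard k' hk'U₁)
  have h2 : k = (k * d * k⁻¹) * k' := by rw [hk']; group
  rw [h2]
  exact hΦ.cent (conj_mem_centralizer_of_mem_normalizer hk hdC) h1

end NH
end Cfsg.Agent.Helper1
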