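import Mathlib
import Cfsg.Agent.Helper1.NHb

set_option autoImplicit false

/-!
Fusion chains versus lists of elements, conjugation transport of fusion chains, and the fusion
predicate "`x = c * x'` with `c` centralizing and `x'` a chain of prescribed steps".
-/

namespace Cfsg.Agent.Helper1
namespace NH

open Cfsg Cfsg.Agent.Lead NF

variable {G : Type*} [Group G]

theorem fchain_of_list {𝒩 T : Set G} : ∀ (l : List G) (X : Set G), (∀ x ∈ l, x ∈ 𝒩) →
    (∀ k : ℕ, k ≤ l.length → conjR (l.take k).prod X ⊆ T) → FChain 𝒩 T X l.prod := by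
  intro l
  induction l with
  | nil =>
    intro X _ h
    have h0 := h 0 (le_refl _)
    simp only [List.take_nil, List.prod_nil, conjR_one] at h0
    simpa using FChain.nil X h0
  | cons x l ih =>
    intro X hmem h
    have h0 := h 0 (Nat.zero_le _)
    simp only [List.take_zero, List.prod_nil, conjR_one] at h0
    rw [List.prod_cons]
    refine FChain.cons X x l.prod (hmem x (List.mem_cons_self)) h0 ?_
    apply ih (conjR x X) (fun y hy => hmem y (List.mem_cons_of_mem _ hy))
    intro k hk
    have h1 := h (k + 1) (by simp only [List.length_cons]; omega)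
    rw [List.take_succ_cons, List.prod_cons, conjR_mul] at h1
    exact h1

theorem list_of_fchain {𝒩 T X : Set G} {g : G} (h : FChain 𝒩 T X g) :
    ∃ l : List G, (∀ x ∈ l, x ∈ 𝒩) ∧ l.prod = g ∧
      ∀ k : ℕ, k ≤ l.length → conjR (l.take k).prod X ⊆ T := by
  induction h with
  | nil A hA =>
    refine ⟨[], by simp, by simp, ?_⟩
    intro k _
    simp only [List.take_nil, List.prod_nil, conjR_one]
    exact hA
  | cons A x g hx hA _ ih =>
    obtain ⟨l, hl, hprod, htake⟩ := ih
    refine ⟨x :: l, ?_, ?_, ?_⟩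
    · intro y hy
      rcases List.mem_cons.mp hy with rfl | hy
      · exact hx
      · exact hl y hy
    · rw [List.prod_cons, hprod]
    · intro k hk
      cases k with
      | zero =>
        simp only [List.take_zero, List.prod_nil, conjR_one]
        exact hA
      | succ k =>
        rw [List.take_succ_cons, List.prod_cons, conjR_mul]
        apply htake k
        simp only [List.length_cons] at hk
        omega

theorem fchain_conj {𝒩 T X : Set G} {g : G} (h : FChain 𝒩 T X g) (n : G) :
    FChain (conjR n 𝒩) (conjR n T) (conjR n X) (n⁻¹ * g * n) := by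
  induction h with
  | nil A hA =>
    have : n⁻¹ * 1 * n = 1 := by group
    rw [this]
    exact FChain.nil _ (conjR_mono hA)
  | cons A x g hx hA _ ih =>
    have h1 : n⁻¹ * (x * g) * n = (n⁻¹ * x * n) * (n⁻¹ * g * n) := by group
    rw [h1]
    refine FChain.cons _ _ _ ⟨x, hx, rfl⟩ (conjR_mono hA) ?_
    have h2 : conjR (n⁻¹ * x * n) (conjR n A) = conjR n (conjR x A) := by
      rw [← conjR_mul, ← conjR_mul]
      congr 1
      group
    rw [h2]
    exact ih

theorem conjR_eq_of_mem_centralizer {c : G} {X : Set G} (hc : c ∈ Subgroup.centralizer X) :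
    conjR c X = X := by
  ext y
  constructor
  · rintro ⟨x, hx, rfl⟩
    have := hc x hx
    have h1 : c⁻¹ * x * c = x := by
      rw [mul_assoc, this, ← mul_assoc, inv_mul_cancel, one_mul]
    show c⁻¹ * x * c ∈ X
    rw [h1]; exact hx
  · intro hy
    refine ⟨y, hy, ?_⟩
    have := hc y hy
    show c⁻¹ * y * c = y
    rw [mul_assoc, this, ← mul_assoc, inv_mul_cancel, one_mul]

theorem conj_mem_centralizer_conjR {c n : G} {X : Set G} (hc : c ∈ Subgroup.centralizer X) :
    n⁻¹ * c * n ∈ Subgroup.centralizer (conjR n X) := by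
  rintro _ ⟨x, hx, rfl⟩
  have := hc x hx
  show n⁻¹ * x * n * (n⁻¹ * c * n) = n⁻¹ * c * n * (n⁻¹ * x * n)
  have e1 : n⁻¹ * x * n * (n⁻¹ * c * n) = n⁻¹ * (x * c) * n := by group
  have e2 : n⁻¹ * c * n * (n⁻¹ * x * n) = n⁻¹ * (c * x) * n := by group
  rw [e1, e2, this]

/-- the predicate "`x = c * x'`, `c` centralizing, `x'` a chain" -/
def ChainPred (𝒩 T : Set G) (B : Set G) (x : G) : Prop :=
  ∃ c ∈ Subgroup.centralizer B, ∃ x' : G, FChain 𝒩 T B x' ∧ x = c * x'

theorem fusionPred_chainPred (𝒩 T : Set G) : FusionPred T (ChainPred 𝒩 T) where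
  mono := by
    rintro A B x hAB ⟨c, hc, x', hch, rfl⟩
    exact ⟨c, Subgroup.centralizer_le hAB hc, x', hch.mono hAB, rfl⟩
  cent := by
    rintro A x c' hc' ⟨c, hc, x', hch, rfl⟩
    exact ⟨c' * c, Subgroup.mul_mem _ hc' hc, x', hch, by rw [mul_assoc]⟩
  comp := by
    rintro A x y ⟨c₁, hc₁, x₁, hch₁, rfl⟩ ⟨c₂, hc₂, y₁, hch₂, rfl⟩
    have hA : conjR (c₁ * x₁) A = conjR x₁ A := by
      rw [conjR_mul, conjR_eq_of_mem_centralizer hc₁]
    rw [hA] at hc₂ hch₂
    have h3 : x₁ * c₂ * x₁⁻¹ ∈ Subgroup.centralizer A := by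
      have := conj_mem_centralizer_conjR (n := x₁⁻¹) hc₂
      rw [conjR_inv_conjR, inv_inv] at this
      exact this
    refine ⟨c₁ * (x₁ * c₂ * x₁⁻¹), Subgroup.mul_mem _ hc₁ h3, x₁ * y₁, hch₁.append hch₂, ?_⟩
    group
  one := by
    intro A hA
    exact ⟨1, Subgroup.one_mem _, 1, FChain.nil A hA, by rw [one_mul]⟩

end NH
end Cfsg.Agent.Helper1
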