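import Mathlib
import Cfsg.Agent.Helper1.NHc

set_option autoImplicit false

/-!
Glauberman's local-to-global theorem for a conjugacy functor `W` with a central functor `V`.
-/

namespace Cfsg.Agent.Helper1
namespace NH

open Cfsg Cfsg.Agent.Lead NF

variable {G : Type*} [Group G]

theorem fchain_steps_mono {N N' T : Set G} (hN : N ⊆ N') {A : Set G} {g : G}
    (h : FChain N T A g) : FChain N' T A g := by
  induction h with
  | nil A hA => exact FChain.nil A hA
  | cons A x g hx hA _ ih => exact FChain.cons A x g (hN hx) hA ih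

theorem conj_mem_normalizer_map {H : Subgroup G} {x m : G}
    (hx : x ∈ Subgroup.normalizer (H : Set G)) :
    m * x * m⁻¹ ∈ Subgroup.normalizer
      ((H.map (MulAut.conj m).toMonoidHom : Subgroup G) : Set G) := by
  have h1 := Subgroup.map_equiv_normalizer_eq H (MulAut.conj m)
  have h2 : m * x * m⁻¹ ∈ (Subgroup.normalizer (H : Set G)).map (MulAut.conj m).toMonoidHom :=
    ⟨x, hx, by simp [MulAut.conj_apply]⟩
  rw [h1] at h2
  exact h2

theorem conj_mem_centralizer_map {H : Subgroup G} {x m : G}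
    (hx : x ∈ Subgroup.centralizer (H : Set G)) :
    m * x * m⁻¹ ∈ Subgroup.centralizer
      ((H.map (MulAut.conj m).toMonoidHom : Subgroup G) : Set G) := by
  rintro _ ⟨v, hv, rfl⟩
  have := hx v hv
  simp only [MulEquiv.coe_toMonoidHom, MulAut.conj_apply]
  have e1 : m * v * m⁻¹ * (m * x * m⁻¹) = m * (v * x) * m⁻¹ := by group
  have e2 : m * x * m⁻¹ * (m * v * m⁻¹) = m * (x * v) * m⁻¹ := by group
  rw [e1, e2, this]

variable [Finite G] {p : ℕ} [hp : Fact p.Prime]

/-- the global step set -/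
def globSteps (P : Subgroup G) (W V : Subgroup G → Subgroup G) : Set G :=
  {x | x ∈ (⊤ : Subgroup G) ⊓ Subgroup.normalizer ((W P : Subgroup G) : Set G) ∨
    x ∈ (⊤ : Subgroup G) ⊓ Subgroup.centralizer ((V P : Subgroup G) : Set G)}

theorem local_to_global_WV (hdiv : p ∣ Nat.card G) (P : Sylow p G)
    (W V : Subgroup G → Subgroup G) (hW : Cfsg.IsConjugacyFunctor p W)
    (hV : Cfsg.IsConjugacyFunctor p V)
    (hWZ : ∀ H : Subgroup G, IsPGroup p ↥H →
      H ⊓ Subgroup.centralizer ((H : Subgroup G) : Set G) ≤ W H)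
    (hVmono : ∀ H K : Subgroup G, IsPGroup p ↥H → IsPGroup p ↥K → H ≠ ⊥ → K ≠ ⊥ →
      H ⊓ Subgroup.centralizer ((H : Subgroup G) : Set G) ≤
        K ⊓ Subgroup.centralizer ((K : Subgroup G) : Set G) → V H ≤ V K)
    (hloc : ∀ H : Subgroup G,
      (P : Subgroup G) ⊓ Subgroup.centralizer (((P : Subgroup G) : Subgroup G) : Set G) ≤ H →
      H ≤ (P : Subgroup G) → ∃ Q : Subgroup G,
        Q ≤ Subgroup.normalizer ((H : Subgroup G) : Set G) ∧ IsPGroup p ↥Q ∧
        ¬ p ∣ (Q).relIndex (Subgroup.normalizer ((H : Subgroup G) : Set G)) ∧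
        ∀ (X : Set G) (a : G), X ⊆ Q → a ∈ Subgroup.normalizer ((H : Subgroup G) : Set G) →
          conjR a X ⊆ Q →
          ∃ c ∈ Subgroup.normalizer ((H : Subgroup G) : Set G) ⊓ Subgroup.centralizer X,
            ∃ l : List G, (∀ x ∈ l,
              x ∈ Subgroup.normalizer ((H : Subgroup G) : Set G) ⊓
                  Subgroup.normalizer ((W Q : Subgroup G) : Set G) ∨
              x ∈ Subgroup.normalizer ((H : Subgroup G) : Set G) ⊓
                  Subgroup.centralizer ((V Q : Subgroup G) : Set G)) ∧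
              a = c * l.prod ∧
              ∀ k : ℕ, k ≤ l.length → conjR (l.take k).prod (conjR c X) ⊆ Q) :
    ∀ (X : Set G) (a : G), X ⊆ (P : Subgroup G) → conjR a X ⊆ (P : Subgroup G) →
      ChainPred (globSteps (P : Subgroup G) W V) ((P : Subgroup G) : Set G) X a := by
  have hΦ := fusionPred_chainPred (globSteps (P : Subgroup G) W V) ((P : Subgroup G) : Set G)
  have hPne : (P : Subgroup G) ≠ ⊥ := by
    intro h
    have h1 := P.card_eq_multiplicity
    rw [h, Subgroup.card_bot] at h1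
    have h2 : (Nat.card G).factorization p = 0 := by
      by_contra h0
      have : 1 < p ^ (Nat.card G).factorization p :=
        Nat.one_lt_pow h0 hp.1.one_lt
      omega
    have h3 : 0 < (Nat.card G).factorization p :=
      hp.1.factorization_pos_of_dvd Nat.card_pos.ne' hdiv
    omega
  have key := phi_of_centric_local P W hW hWZ hΦ
    ((Subgroup.centralizer ((V (P : Subgroup G) : Subgroup G) : Set G) : Subgroup G) : Set G)
    ?_ ?_ ?_
  · intro X a hX haX
    have hA : Subgroup.closure X ≤ (P : Subgroup G) := (Subgroup.closure_le _).mpr hX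
    have hgA : conjR a ((Subgroup.closure X : Subgroup G) : Set G) ⊆ (P : Subgroup G) := by
      have h1 : Subgroup.closure X ≤ (P : Subgroup G).map (MulAut.conj a).toMonoidHom := by
        rw [Subgroup.closure_le]
        intro x hx
        refine ⟨a⁻¹ * x * a, haX ⟨x, hx, rfl⟩, ?_⟩
        simp only [MulEquiv.coe_toMonoidHom, MulAut.conj_apply]
        group
      rintro _ ⟨x, hx, rfl⟩
      obtain ⟨z, hz, hzx⟩ := h1 hx
      simp only [MulEquiv.coe_toMonoidHom, MulAut.conj_apply] at hzx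
      have : a⁻¹ * x * a = z := by rw [← hzx]; group
      show a⁻¹ * x * a ∈ ((P : Subgroup G) : Set G)
      rw [this]; exact hz
    exact hΦ.mono Subgroup.subset_closure (key (Subgroup.closure X) hA a hgA)
  · intro x hx B hB hxB
    exact ⟨1, Subgroup.one_mem _, x,
      FChain.single (Or.inr ⟨Subgroup.mem_top x, hx⟩) hB hxB, (one_mul _).symm⟩
  · intro x hx B hB hxB
    exact ⟨1, Subgroup.one_mem _, x,
      FChain.single (Or.inl ⟨Subgroup.mem_top x, hx⟩) hB hxB, (one_mul _).symm⟩
  · intro T hTne hwp hZT y hy B hB hyB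
    obtain ⟨Q, hQN, hQp, hQidx, hQ⟩ := hloc T hZT hwp.1
    obtain ⟨P₁, hP₁⟩ : ∃ P₁, P₁ = (P : Subgroup G) ⊓ Subgroup.normalizer (T : Set G) := ⟨_, rfl⟩
    rw [← hP₁] at hB hyB ⊢
    have hP₁N : P₁ ≤ Subgroup.normalizer (T : Set G) := hP₁ ▸ inf_le_right
    have hP₁P : P₁ ≤ (P : Subgroup G) := hP₁ ▸ inf_le_left
    have hTP₁ : T ≤ P₁ := hP₁ ▸ le_inf hwp.1 Subgroup.le_normalizer
    have hP₁syl : ¬ p ∣ P₁.relIndex (Subgroup.normalizer (T : Set G)) := by
      have := hwp.2 0
      rw [hP₁]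
      exact this
    have hP₁p : IsPGroup p P₁ := P.2.to_le hP₁P
    have hP₁ne : P₁ ≠ ⊥ := fun h => hTne (le_bot_iff.mp (h ▸ hTP₁))
    have hcardP₁ := card_eq_ppart_of_relIndex hP₁N hP₁p hP₁syl
    have hcardQ := card_eq_ppart_of_relIndex hQN hQp hQidx
    obtain ⟨m, hmN, hmQ⟩ := exists_conj_le_of_card_eq_ppart (p := p) hP₁N hcardP₁ hQN hQp
    have hQP₁ : Q.map (MulAut.conj m).toMonoidHom = P₁ := by
      apply SetLike.coe_injective
      apply Set.eq_of_subset_of_ncard_le hmQ ?_ (Set.toFinite _)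
      show Nat.card P₁ ≤ Nat.card (Q.map (MulAut.conj m).toMonoidHom)
      rw [card_map_conj, hcardP₁, hcardQ]
    -- `n = m⁻¹`
    have hnQ : conjR m⁻¹ (Q : Set G) = (P₁ : Set G) := by
      rw [conjR_eq_map_conj_inv, hQP₁]
    have hQn : conjR m (P₁ : Set G) = (Q : Set G) := by
      rw [← hnQ]
      have := conjR_conjR_inv m (Q : Set G)
      exact this
    obtain ⟨X, hXdef⟩ : ∃ X, X = conjR m B := ⟨_, rfl⟩
    have hXQ : X ⊆ (Q : Set G) := by
      rw [hXdef, ← hQn]; exact conjR_mono hB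
    obtain ⟨a, hadef⟩ : ∃ a, a = m⁻¹ * y * m := ⟨_, rfl⟩
    have haN : a ∈ Subgroup.normalizer (T : Set G) := by
      rw [hadef]
      exact Subgroup.mul_mem _ (Subgroup.mul_mem _ (Subgroup.inv_mem _ hmN) hy) hmN
    have haX : conjR a X ⊆ (Q : Set G) := by
      rw [hXdef, hadef, ← conjR_mul, ← hQn]
      have : m * (m⁻¹ * y * m) = y * m := by group
      rw [this, conjR_mul]
      exact conjR_mono hyB
    obtain ⟨c, hc, l, hl, hacl, hpart⟩ := hQ X a hXQ haN haX
    have hcX : c ∈ Subgroup.centralizer X := (Subgroup.mem_inf.mp hc).2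
    rw [conjR_eq_of_mem_centralizer hcX] at hpart
    have hch := fchain_of_list (𝒩 := {x | x ∈ Subgroup.normalizer (T : Set G) ⊓
                  Subgroup.normalizer ((W Q : Subgroup G) : Set G) ∨
              x ∈ Subgroup.normalizer (T : Set G) ⊓
                  Subgroup.centralizer ((V Q : Subgroup G) : Set G)}) l X hl hpart
    have hch' := fchain_conj hch m⁻¹
    have hBX : conjR m⁻¹ X = B := by
      rw [hXdef]; exact conjR_inv_conjR m B
    rw [hnQ, hBX, inv_inv] at hch'
    have hcB : m * c * m⁻¹ ∈ Subgroup.centralizer B := by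
      have := conj_mem_centralizer_conjR (n := m⁻¹) hcX
      rw [hBX, inv_inv] at this
      exact this
    refine ⟨m * c * m⁻¹, hcB, m * l.prod * m⁻¹, fchain_steps_mono ?_ hch', ?_⟩
    · rintro _ ⟨x, hx, rfl⟩
      simp only [inv_inv]
      have hWQ : W P₁ = (W Q).map (MulAut.conj m).toMonoidHom := by
        rw [← hQP₁]; exact (hW Q hQp).2.2 m
      have hVQ : V P₁ = (V Q).map (MulAut.conj m).toMonoidHom := by
        rw [← hQP₁]; exact (hV Q hQp).2.2 m
      rcases hx with hx | hx
      · left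
        obtain ⟨hx1, hx2⟩ := Subgroup.mem_inf.mp hx
        show m * x * m⁻¹ ∈ _
        refine Subgroup.mem_inf.mpr ⟨?_, ?_⟩
        · exact Subgroup.mul_mem _ (Subgroup.mul_mem _ hmN hx1) (Subgroup.inv_mem _ hmN)
        · rw [hWQ]
          exact conj_mem_normalizer_map hx2
      · right
        obtain ⟨hx1, hx2⟩ := Subgroup.mem_inf.mp hx
        have h1 : m * x * m⁻¹ ∈ Subgroup.centralizer ((V P₁ : Subgroup G) : Set G) := by
          rw [hVQ]
          exact conj_mem_centralizer_map hx2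
        have h2 : V (P : Subgroup G) ≤ V P₁ := by
          apply hVmono _ _ P.2 hP₁p hPne hP₁ne
          refine le_inf (hZT.trans hTP₁) ?_
          exact inf_le_right.trans (Subgroup.centralizer_le hP₁P)
        exact Subgroup.centralizer_le h2 h1
    · rw [show m * c * m⁻¹ * (m * l.prod * m⁻¹) = m * (c * l.prod) * m⁻¹ by group, ← hacl, hadef]
      group

end NH
end Cfsg.Agent.Helper1
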