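import Mathlib
import Cfsg.Agent.Helper1.NHb

set_option autoImplicit false

/-!
The abstract local-to-global theorem for fusion predicates, with the local hypothesis in closure
form: if the predicate holds on `N(T) ∩ N(W(N_P(T)))` then it holds on `N(T)`.
-/

namespace Cfsg.Agent.Helper1
namespace NH

open Cfsg Cfsg.Agent.Lead NF

variable {G : Type*} [Group G] [Finite G] {p : ℕ} [hp : Fact p.Prime]

/-- Climbing the tower, for a fusion predicate; closure form of the local hypothesis. -/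
theorem phi_climb_abs (P : Sylow p G) {W : Subgroup G → Subgroup G}
    (hW : Cfsg.IsConjugacyFunctor p W) {Φ : Set G → G → Prop}
    (𝒞 : Subgroup G → Prop)
    (h𝒞 : ∀ T : Subgroup G, T ≤ (P : Subgroup G) → 𝒞 T →
      𝒞 (W ((P : Subgroup G) ⊓ Subgroup.normalizer (T : Set G))))
    (hglob : ∀ x ∈ Subgroup.normalizer ((W (P : Subgroup G) : Subgroup G) : Set G),
      ∀ B : Set G, B ⊆ (P : Subgroup G) → conjR x B ⊆ (P : Subgroup G) → Φ B x)
    (hloc : ∀ T : Subgroup G, T ≠ ⊥ → Cfsg.IsWellPlaced p W (P : Subgroup G) T → 𝒞 T →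
      (∀ x ∈ Subgroup.normalizer (T : Set G) ⊓ Subgroup.normalizer
          ((W ((P : Subgroup G) ⊓ Subgroup.normalizer (T : Set G)) : Subgroup G) : Set G),
        ∀ B' : Set G,
          B' ⊆ ((P : Subgroup G) ⊓ Subgroup.normalizer (T : Set G) : Subgroup G) →
          conjR x B' ⊆ ((P : Subgroup G) ⊓ Subgroup.normalizer (T : Set G) : Subgroup G) →
          Φ B' x) →
      ∀ y ∈ Subgroup.normalizer (T : Set G), ∀ B : Set G,
        B ⊆ ((P : Subgroup G) ⊓ Subgroup.normalizer (T : Set G) : Subgroup G) →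
        conjR y B ⊆ ((P : Subgroup G) ⊓ Subgroup.normalizer (T : Set G) : Subgroup G) →
        Φ B y) :
    ∀ (T : Subgroup G), Cfsg.IsWellPlaced p W (P : Subgroup G) T → T ≠ ⊥ → 𝒞 T →
      ∀ y ∈ Subgroup.normalizer (T : Set G), ∀ B : Set G,
        B ⊆ ((P : Subgroup G) ⊓ Subgroup.normalizer (T : Set G) : Subgroup G) →
        conjR y B ⊆ ((P : Subgroup G) ⊓ Subgroup.normalizer (T : Set G) : Subgroup G) →
        Φ B y := by
  intro T
  induction' hk : Nat.card (P : Subgroup G) -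
    Nat.card ((P : Subgroup G) ⊓ Subgroup.normalizer (T : Set G) : Subgroup G)
    using Nat.strong_induction_on with k ih generalizing T
  intro hwp hT hTC y hy B hB hyB
  have hSp : IsPGroup p (P : Subgroup G) := P.2
  refine hloc T hT hwp hTC ?_ y hy B hB hyB
  obtain ⟨P₁, hP₁⟩ : ∃ P₁, P₁ = (P : Subgroup G) ⊓ Subgroup.normalizer (T : Set G) := ⟨_, rfl⟩
  have hP₁p : IsPGroup p P₁ := hP₁ ▸ hSp.to_le inf_le_left
  have hP₁P : P₁ ≤ (P : Subgroup G) := hP₁ ▸ inf_le_left
  rw [← hP₁] at hk ⊢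
  intro x hx B' hB' hxB'
  by_cases hPS : P₁ = (P : Subgroup G)
  · rw [hPS] at hx hB' hxB'
    exact hglob x hx.2 B' hB' hxB'
  · have hTP : T ≤ P₁ := hP₁ ▸ le_inf hwp.1 Subgroup.le_normalizer
    have hPne : P₁ ≠ ⊥ := fun h => hT (le_bot_iff.mp (h ▸ hTP))
    have hT1 : W P₁ ≠ ⊥ := (hW P₁ hP₁p).2.1 hPne
    have hwp1 : Cfsg.IsWellPlaced p W (P : Subgroup G) (W P₁) :=
      hP₁ ▸ isWellPlaced_tower_one hW hSp hwp
    have hPle : P₁ ≤ (P : Subgroup G) ⊓ Subgroup.normalizer ((W P₁ : Subgroup G) : Set G) :=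
      le_inf hP₁P (le_normalizer_functor hW hP₁p)
    obtain ⟨n, hn, hnP⟩ := Fusion.exists_mem_normalizerIn_not_mem (S := (P : Subgroup G)) hSp
      hP₁P hPS
    have hn' : n ∈ (P : Subgroup G) ⊓ Subgroup.normalizer ((W P₁ : Subgroup G) : Set G) :=
      Subgroup.mem_inf.mpr ⟨(Subgroup.mem_inf.mp hn).1,
        normalizer_le_normalizer_functor hW hP₁p (Subgroup.mem_inf.mp hn).2⟩
    have hlt : P₁ < (P : Subgroup G) ⊓ Subgroup.normalizer ((W P₁ : Subgroup G) : Set G) :=
      lt_of_le_of_ne hPle (fun heq => hnP ((SetLike.ext_iff.mp heq n).mpr hn'))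
    have hcardlt := Cfsg.Agent.Helper1.card_lt_card_of_lt hlt
    have hle : Nat.card ((P : Subgroup G) ⊓
        Subgroup.normalizer ((W P₁ : Subgroup G) : Set G) : Subgroup G) ≤
        Nat.card (P : Subgroup G) := Subgroup.card_le_of_le inf_le_left
    have hk1 : Nat.card (P : Subgroup G) -
        Nat.card ((P : Subgroup G) ⊓
          Subgroup.normalizer ((W P₁ : Subgroup G) : Set G) : Subgroup G) < k := by
      omega
    have h𝒞1 : 𝒞 (W P₁) := hP₁ ▸ h𝒞 T hwp.1 hTC
    exact ih _ hk1 (W P₁) rfl hwp1 hT1 h𝒞1 x hx.2 B'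
      (fun b hb => hPle (hB' hb)) (fun b hb => hPle (hxB' hb))

/-- The abstract local-to-global theorem, closure form of the local hypothesis. -/
theorem phi_of_centric_local_abs (P : Sylow p G) (W : Subgroup G → Subgroup G)
    (hW : Cfsg.IsConjugacyFunctor p W)
    (hWZ : ∀ Q : Subgroup G, IsPGroup p Q → Q ⊓ Subgroup.centralizer (Q : Set G) ≤ W Q)
    {Φ : Set G → G → Prop} (hΦ : FusionPred ((P : Subgroup G) : Set G) Φ)
    (hglob : ∀ x ∈ Subgroup.normalizer ((W (P : Subgroup G) : Subgroup G) : Set G),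
      ∀ B : Set G, B ⊆ (P : Subgroup G) → conjR x B ⊆ (P : Subgroup G) → Φ B x)
    (hloc : ∀ T : Subgroup G, T ≠ ⊥ → Cfsg.IsWellPlaced p W (P : Subgroup G) T →
      (P : Subgroup G) ⊓ Subgroup.centralizer ((P : Subgroup G) : Set G) ≤ T →
      (∀ x ∈ Subgroup.normalizer (T : Set G) ⊓ Subgroup.normalizer
          ((W ((P : Subgroup G) ⊓ Subgroup.normalizer (T : Set G)) : Subgroup G) : Set G),
        ∀ B' : Set G,
          B' ⊆ ((P : Subgroup G) ⊓ Subgroup.normalizer (T : Set G) : Subgroup G) →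
          conjR x B' ⊆ ((P : Subgroup G) ⊓ Subgroup.normalizer (T : Set G) : Subgroup G) →
          Φ B' x) →
      ∀ y ∈ Subgroup.normalizer (T : Set G), ∀ B : Set G,
        B ⊆ ((P : Subgroup G) ⊓ Subgroup.normalizer (T : Set G) : Subgroup G) →
        conjR y B ⊆ ((P : Subgroup G) ⊓ Subgroup.normalizer (T : Set G) : Subgroup G) →
        Φ B y) :
    ∀ A : Subgroup G, A ≤ (P : Subgroup G) → ∀ g : G,
      conjR g (A : Set G) ⊆ (P : Subgroup G) → Φ (A : Set G) g := by
  apply phi_of_step_wp P W hW hΦ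
  intro U hwp hlarger k hk
  have hUS : U ≤ (P : Subgroup G) := hwp.1
  have hUsyl : ¬ p ∣ ((P : Subgroup G) ⊓ Subgroup.normalizer (U : Set G)).relIndex
      (Subgroup.normalizer (U : Set G)) := hwp.2 0
  by_cases hc : (P : Subgroup G) ⊓ Subgroup.centralizer (U : Set G) ≤ U
  · by_cases hUb : U = ⊥
    · have h1 : k ∈ Subgroup.centralizer (U : Set G) := by
        rw [hUb, Subgroup.mem_centralizer_iff]
        intro x hx
        rw [SetLike.mem_coe, Subgroup.mem_bot] at hx
        rw [hx]; simp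
      have h2 := hΦ.cent h1 (hΦ.one (A := (U : Set G)) (fun u hu => hUS hu))
      rwa [mul_one] at h2
    · have hZU : (P : Subgroup G) ⊓ Subgroup.centralizer ((P : Subgroup G) : Set G) ≤ U :=
        (inf_le_inf_left _ (Subgroup.centralizer_le (by exact_mod_cast hUS))).trans hc
      have h𝒞 : ∀ T : Subgroup G, T ≤ (P : Subgroup G) →
          (P : Subgroup G) ⊓ Subgroup.centralizer ((P : Subgroup G) : Set G) ≤ T →
          (P : Subgroup G) ⊓ Subgroup.centralizer ((P : Subgroup G) : Set G) ≤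
            W ((P : Subgroup G) ⊓ Subgroup.normalizer (T : Set G)) := by
        intro T _ hZT
        refine le_trans ?_ (hWZ _ (P.2.to_le inf_le_left))
        apply le_inf (le_inf inf_le_left (hZT.trans Subgroup.le_normalizer))
        exact inf_le_right.trans (Subgroup.centralizer_le (by
          intro x hx
          exact hx.1))
      exact phi_climb_abs P hW
        (fun T => (P : Subgroup G) ⊓ Subgroup.centralizer ((P : Subgroup G) : Set G) ≤ T)
        h𝒞 hglob hloc U hwp hUb hZU k hk (U : Set G)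
        (fun u hu => ⟨hUS hu, Subgroup.le_normalizer hu⟩)
        (by
          rintro _ ⟨u, hu, rfl⟩
          have h1 : k⁻¹ * u * k⁻¹⁻¹ ∈ U :=
            (Subgroup.mem_normalizer_iff.mp (Subgroup.inv_mem _ hk) u).mp hu
          rw [inv_inv] at h1
          exact ⟨hUS h1, Subgroup.le_normalizer h1⟩)
  · exact phi_of_not_centric P hΦ U hUS hUsyl hc hlarger k hk

end NH
end Cfsg.Agent.Helper1
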