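import Mathlib
import Cfsg.Agent.Helper1.NHd
import Cfsg.Agent.Helper1.NHe
import Cfsg.Agent.Helper1.Coprime
import Cfsg.Agent.Lead.ConjFunctorTransfer

set_option autoImplicit false

/-!
Glauberman's local-to-global theorem for control of transfer by a conjugacy functor `W` with a
central functor `V`.
-/

namespace Cfsg.Agent.Helper1
namespace NH

open Cfsg Cfsg.Agent.Lead NF
open scoped commutatorElement

variable {G : Type*} [Group G]

/-- the commutator predicate -/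
def CommPred (D : Subgroup G) (A : Set G) (x : G) : Prop :=
  ∀ a ∈ A, a⁻¹ * (x⁻¹ * a * x) ∈ D

theorem fusionPred_commPred (D : Subgroup G) (T : Set G) : FusionPred T (CommPred D) where
  mono := by
    intro A B x hAB h a ha
    exact h a (hAB ha)
  cent := by
    intro A x c hc h a ha
    have h1 : c⁻¹ * a * c = a := by
      have := hc a ha
      rw [mul_assoc, this, ← mul_assoc, inv_mul_cancel, one_mul]
    have h2 : a⁻¹ * ((c * x)⁻¹ * a * (c * x)) = a⁻¹ * (x⁻¹ * (c⁻¹ * a * c) * x) := by group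
    rw [h2, h1]
    exact h a ha
  comp := by
    intro A x y h1 h2 a ha
    have h3 := h2 (x⁻¹ * a * x) ⟨a, ha, rfl⟩
    have h4 : a⁻¹ * ((x * y)⁻¹ * a * (x * y)) =
        (a⁻¹ * (x⁻¹ * a * x)) * ((x⁻¹ * a * x)⁻¹ * (y⁻¹ * (x⁻¹ * a * x) * y)) := by group
    rw [h4]
    exact D.mul_mem (h1 a ha) h3
  one := by
    intro A _ a _
    have : a⁻¹ * ((1 : G)⁻¹ * a * 1) = 1 := by group
    rw [this]
    exact D.one_mem

variable [Finite G] {p : ℕ} [hp : Fact p.Prime]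

/-- the focal subgroup theorem, relative to a subgroup `L` with Sylow `p`-subgroup `Q` -/
theorem inf_commutator_le_of_focal {L Q D : Subgroup G} (hQL : Q ≤ L) (hQ : IsPGroup p Q)
    (hidx : ¬ p ∣ Q.relIndex L)
    (hD : ∀ x ∈ Q, ∀ u ∈ L, u⁻¹ * x * u ∈ Q → x⁻¹ * (u⁻¹ * x * u) ∈ D) :
    Q ⊓ ⁅L, L⁆ ≤ D := by
  have hcard := card_eq_ppart_of_relIndex hQL hQ hidx
  have hcard' : Nat.card (Q.subgroupOf L) = p ^ (Nat.card L).factorization p := by
    rw [card_subgroupOf_of_le hQL]; exact hcard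
  obtain ⟨S, hS⟩ : ∃ S : Sylow p L, (S : Subgroup L) = Q.subgroupOf L :=
    ⟨Sylow.ofCard (Q.subgroupOf L) hcard', rfl⟩
  have hfoc := Subgroup.commutator_inf_eq_focalSubgroup (p := p) (P := S)
  intro z hz
  obtain ⟨hzQ, hzc⟩ := Subgroup.mem_inf.mp hz
  rw [← Subgroup.map_subtype_commutator] at hzc
  obtain ⟨z', hz', hzz'⟩ := hzc
  have hz'S : z' ∈ (S : Subgroup L) := by
    rw [hS, Subgroup.mem_subgroupOf]
    have : (z' : G) = z := hzz'
    rw [this]; exact hzQ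
  have h1 : z' ∈ commutator L ⊓ (S : Subgroup L) := ⟨hz', hz'S⟩
  rw [hfoc, Subgroup.focalSubgroup_def] at h1
  have h2 : Subgroup.closure {g | g ∈ (S : Subgroup L) ∧
      ∃ x ∈ (S : Subgroup L), ∃ u : L, g = ⁅x, u⁆} ≤ D.comap L.subtype := by
    rw [Subgroup.closure_le]
    rintro g ⟨hg, x, hx, u, rfl⟩
    rw [hS, Subgroup.mem_subgroupOf] at hg hx
    show ((⁅x, u⁆ : L) : G) ∈ D
    have e1 : ((⁅x, u⁆ : L) : G) = ((x : G)⁻¹)⁻¹ * (((u : G)⁻¹)⁻¹ * (x : G)⁻¹ * (u : G)⁻¹) := by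
      rw [commutatorElement_def]
      push_cast
      group
    rw [e1]
    apply hD _ (Q.inv_mem hx) _ (L.inv_mem u.2)
    have e2 : ((u : G)⁻¹)⁻¹ * (x : G)⁻¹ * (u : G)⁻¹ = (x : G)⁻¹ * ((⁅x, u⁆ : L) : G) := by
      rw [commutatorElement_def]
      push_cast
      group
    rw [e2]
    exact Q.mul_mem (Q.inv_mem hx) hg
  have h3 := h2 h1
  have : (z' : G) = z := hzz'
  rw [← this]
  exact h3

omit [Finite G] hp in
theorem not_dvd_relIndex_of_le {Q L N : Subgroup G} (hQL : Q ≤ L) (hLN : L ≤ N)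
    (h : ¬ p ∣ Q.relIndex N) : ¬ p ∣ Q.relIndex L := by
  intro hdvd
  apply h
  rw [← Subgroup.relIndex_mul_relIndex Q L N hQL hLN]
  exact Dvd.dvd.mul_right hdvd _

end NH
end Cfsg.Agent.Helper1
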