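import Mathlib
import Cfsg.Agent.Helper1.NHf

set_option autoImplicit false

/-!
Glauberman's local-to-global theorem for control of transfer by a conjugacy functor `W` with a
central functor `V`: the main theorem.
-/

namespace Cfsg.Agent.Helper1
namespace NH

open Cfsg Cfsg.Agent.Lead NF
open scoped commutatorElement

variable {G : Type*} [Group G] [Finite G] {p : ℕ} [hp : Fact p.Prime]

omit [Finite G] in
theorem comm_mem_commutator {L : Subgroup G} {b x : G} (hb : b ∈ L) (hx : x ∈ L) :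
    b⁻¹ * (x⁻¹ * b * x) ∈ ⁅L, L⁆ := by
  have h1 : b⁻¹ * (x⁻¹ * b * x) = ⁅b⁻¹, x⁻¹⁆ := by
    rw [commutatorElement_def]; group
  rw [h1]
  exact Subgroup.commutator_mem_commutator (L.inv_mem hb) (L.inv_mem hx)

theorem local_to_global_transfer_WV (hdiv : p ∣ Nat.card G) (P : Sylow p G)
    (W V : Subgroup G → Subgroup G) (hW : Cfsg.IsConjugacyFunctor p W)
    (hV : Cfsg.IsConjugacyFunctor p V)
    (hWZ : ∀ H : Subgroup G, IsPGroup p ↥H →
      H ⊓ Subgroup.centralizer ((H : Subgroup G) : Set G) ≤ W H)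
    (hVZ : ∀ H : Subgroup G, IsPGroup p ↥H →
      V H ≤ H ⊓ Subgroup.centralizer ((H : Subgroup G) : Set G))
    (hVmono : ∀ H K : Subgroup G, IsPGroup p ↥H → IsPGroup p ↥K → H ≠ ⊥ → K ≠ ⊥ →
      H ⊓ Subgroup.centralizer ((H : Subgroup G) : Set G) ≤
        K ⊓ Subgroup.centralizer ((K : Subgroup G) : Set G) → V H ≤ V K)
    (hloc : ∀ H : Subgroup G,
      (P : Subgroup G) ⊓ Subgroup.centralizer (((P : Subgroup G) : Subgroup G) : Set G) ≤ H →
      H ≤ (P : Subgroup G) → ∃ Q : Subgroup G,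
        Q ≤ Subgroup.normalizer ((H : Subgroup G) : Set G) ∧ IsPGroup p ↥Q ∧
        ¬ p ∣ (Q).relIndex (Subgroup.normalizer ((H : Subgroup G) : Set G)) ∧
        ∀ x : G, x ∈ Q ⊓ ⁅Subgroup.normalizer ((H : Subgroup G) : Set G),
            Subgroup.normalizer ((H : Subgroup G) : Set G)⁆ →
          ∃ a ∈ Q ⊓ ⁅Subgroup.normalizer ((H : Subgroup G) : Set G) ⊓
                Subgroup.normalizer ((W Q : Subgroup G) : Set G),
              Subgroup.normalizer ((H : Subgroup G) : Set G) ⊓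
                Subgroup.normalizer ((W Q : Subgroup G) : Set G)⁆,
            ∃ b ∈ Q ⊓ ⁅Subgroup.normalizer ((H : Subgroup G) : Set G) ⊓
                  Subgroup.centralizer ((V Q : Subgroup G) : Set G),
                Subgroup.normalizer ((H : Subgroup G) : Set G) ⊓
                  Subgroup.centralizer ((V Q : Subgroup G) : Set G)⁆, x = a * b) :
    (P : Subgroup G) ⊓ commutator G ≤
      ((P : Subgroup G) ⊓ ⁅Subgroup.normalizer ((W (P : Subgroup G) : Subgroup G) : Set G),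
        Subgroup.normalizer ((W (P : Subgroup G) : Subgroup G) : Set G)⁆) ⊔
      ((P : Subgroup G) ⊓ ⁅Subgroup.centralizer ((V (P : Subgroup G) : Subgroup G) : Set G),
        Subgroup.centralizer ((V (P : Subgroup G) : Subgroup G) : Set G)⁆) := by
  obtain ⟨D, hDdef⟩ : ∃ D : Subgroup G, D =
      ((P : Subgroup G) ⊓ ⁅Subgroup.normalizer ((W (P : Subgroup G) : Subgroup G) : Set G),
        Subgroup.normalizer ((W (P : Subgroup G) : Subgroup G) : Set G)⁆) ⊔
      ((P : Subgroup G) ⊓ ⁅Subgroup.centralizer ((V (P : Subgroup G) : Subgroup G) : Set G),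
        Subgroup.centralizer ((V (P : Subgroup G) : Subgroup G) : Set G)⁆) := ⟨_, rfl⟩
  rw [← hDdef]
  have hDW : (P : Subgroup G) ⊓
      ⁅Subgroup.normalizer ((W (P : Subgroup G) : Subgroup G) : Set G),
        Subgroup.normalizer ((W (P : Subgroup G) : Subgroup G) : Set G)⁆ ≤ D :=
    hDdef ▸ le_sup_left
  have hDV : (P : Subgroup G) ⊓
      ⁅Subgroup.centralizer ((V (P : Subgroup G) : Subgroup G) : Set G),
        Subgroup.centralizer ((V (P : Subgroup G) : Subgroup G) : Set G)⁆ ≤ D :=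
    hDdef ▸ le_sup_right
  have hΦ := fusionPred_commPred D ((P : Subgroup G) : Set G)
  have hPne : (P : Subgroup G) ≠ ⊥ := by
    intro h
    have h1 := P.card_eq_multiplicity
    rw [h, Subgroup.card_bot] at h1
    have h2 : (Nat.card G).factorization p = 0 := by
      by_contra h0
      have : 1 < p ^ (Nat.card G).factorization p :=
        Nat.one_lt_pow h0 hp.1.one_lt
      omega
    have h3 : 0 < (Nat.card G).factorization p :=
      hp.1.factorization_pos_of_dvd Nat.card_pos.ne' hdiv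
    omega
  have hcentV : ∀ Q : Subgroup G, IsPGroup p Q →
      Q ≤ Subgroup.centralizer ((V Q : Subgroup G) : Set G) := by
    intro Q hQ q hq v hv
    have := (Subgroup.mem_inf.mp (hVZ Q hQ hv)).2 q hq
    exact this.symm
  have hPW : (P : Subgroup G) ≤
      Subgroup.normalizer ((W (P : Subgroup G) : Subgroup G) : Set G) :=
    le_normalizer_functor hW P.2
  -- the global cases
  have hglobV : ∀ x ∈ Subgroup.centralizer ((V (P : Subgroup G) : Subgroup G) : Set G),
      ∀ b ∈ (P : Subgroup G), x⁻¹ * b * x ∈ (P : Subgroup G) → b⁻¹ * (x⁻¹ * b * x) ∈ D := by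
    intro x hx b hb hbx
    apply hDV
    refine Subgroup.mem_inf.mpr ⟨(P : Subgroup G).mul_mem ((P : Subgroup G).inv_mem hb) hbx, ?_⟩
    exact comm_mem_commutator (hcentV _ P.2 hb) hx
  have key := phi_of_centric_local_abs P W hW hWZ hΦ ?_ ?_
  · -- conclusion
    have hfoc := Subgroup.commutator_inf_eq_focalSubgroup (p := p) (P := P)
    rw [inf_comm, hfoc, Subgroup.focalSubgroup_def, Subgroup.closure_le]
    rintro g ⟨hg, x, hx, u, rfl⟩
    obtain ⟨A, hA⟩ : ∃ A : Subgroup G, A = (P : Subgroup G) ⊓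
        (P : Subgroup G).comap (MulAut.conj u).toMonoidHom := ⟨_, rfl⟩
    have hAP : A ≤ (P : Subgroup G) := hA ▸ inf_le_left
    have hAu : conjR u⁻¹ (A : Set G) ⊆ (P : Subgroup G) := by
      rintro _ ⟨a, ha, rfl⟩
      rw [hA] at ha
      have := (Subgroup.mem_inf.mp ha).2
      rw [Subgroup.mem_comap] at this
      simp only [MulEquiv.coe_toMonoidHom, MulAut.conj_apply] at this
      show u⁻¹⁻¹ * a * u⁻¹ ∈ (P : Subgroup G)
      rw [inv_inv]; exact this
    have h1 := key A hAP u⁻¹ hAu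
    have hxA : x⁻¹ ∈ A := by
      rw [hA]
      refine Subgroup.mem_inf.mpr ⟨(P : Subgroup G).inv_mem hx, ?_⟩
      rw [Subgroup.mem_comap]
      simp only [MulEquiv.coe_toMonoidHom, MulAut.conj_apply]
      have e : u * x⁻¹ * u⁻¹ = x⁻¹ * ⁅x, u⁆ := by
        rw [commutatorElement_def]; group
      rw [e]
      exact (P : Subgroup G).mul_mem ((P : Subgroup G).inv_mem hx) hg
    have h2 := h1 x⁻¹ hxA
    have e : (x⁻¹)⁻¹ * (u⁻¹⁻¹ * x⁻¹ * u⁻¹) = ⁅x, u⁆ := by
      rw [commutatorElement_def]; group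
    rw [e] at h2
    exact h2
  · -- hglob
    intro x hx B hB hxB b hb
    apply hDW
    have hbP : b ∈ (P : Subgroup G) := hB hb
    have hbx : x⁻¹ * b * x ∈ (P : Subgroup G) := hxB ⟨b, hb, rfl⟩
    refine Subgroup.mem_inf.mpr ⟨(P : Subgroup G).mul_mem ((P : Subgroup G).inv_mem hbP) hbx, ?_⟩
    exact comm_mem_commutator (hPW hbP) hx
  · -- hloc
    intro T hTne hwp hZT key₁ y hy B hB hyB b hb
    obtain ⟨Q, hQN, hQp, hQidx, hQ⟩ := hloc T hZT hwp.1
    obtain ⟨P₁, hP₁⟩ : ∃ P₁, P₁ = (P : Subgroup G) ⊓ Subgroup.normalizer (T : Set G) := ⟨_, rfl⟩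
    rw [← hP₁] at hB hyB key₁
    have hP₁N : P₁ ≤ Subgroup.normalizer (T : Set G) := hP₁ ▸ inf_le_right
    have hP₁P : P₁ ≤ (P : Subgroup G) := hP₁ ▸ inf_le_left
    have hTP₁ : T ≤ P₁ := hP₁ ▸ le_inf hwp.1 Subgroup.le_normalizer
    have hP₁syl : ¬ p ∣ P₁.relIndex (Subgroup.normalizer (T : Set G)) := by
      have := hwp.2 0
      rw [hP₁]
      exact this
    have hP₁p : IsPGroup p P₁ := P.2.to_le hP₁P
    have hP₁ne : P₁ ≠ ⊥ := fun h => hTne (le_bot_iff.mp (h ▸ hTP₁))
    have hcardP₁ := card_eq_ppart_of_relIndex hP₁N hP₁p hP₁syl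
    have hcardQ := card_eq_ppart_of_relIndex hQN hQp hQidx
    obtain ⟨m, hmN, hmQ⟩ := exists_conj_le_of_card_eq_ppart (p := p) hP₁N hcardP₁ hQN hQp
    have hQP₁ : Q.map (MulAut.conj m).toMonoidHom = P₁ := by
      apply SetLike.coe_injective
      apply Set.eq_of_subset_of_ncard_le hmQ ?_ (Set.toFinite _)
      show Nat.card P₁ ≤ Nat.card (Q.map (MulAut.conj m).toMonoidHom)
      rw [card_map_conj, hcardP₁, hcardQ]
    have hmemP₁ : ∀ q ∈ Q, m * q * m⁻¹ ∈ P₁ := by
      intro q hq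
      rw [← hQP₁]
      exact ⟨q, hq, by simp [MulAut.conj_apply]⟩
    have hWQ : W P₁ = (W Q).map (MulAut.conj m).toMonoidHom := by
      rw [← hQP₁]; exact (hW Q hQp).2.2 m
    have hVQ : V P₁ = (V Q).map (MulAut.conj m).toMonoidHom := by
      rw [← hQP₁]; exact (hV Q hQp).2.2 m
    have hVPP₁ : V (P : Subgroup G) ≤ V P₁ := by
      apply hVmono _ _ P.2 hP₁p hPne hP₁ne
      refine le_inf (hZT.trans hTP₁) ?_
      exact inf_le_right.trans (Subgroup.centralizer_le hP₁P)
    -- the element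
    obtain ⟨z, hz⟩ : ∃ z, z = b⁻¹ * (y⁻¹ * b * y) := ⟨_, rfl⟩
    rw [← hz]
    have hbP₁ : b ∈ P₁ := hB hb
    have hbyP₁ : y⁻¹ * b * y ∈ P₁ := hyB ⟨b, hb, rfl⟩
    have hzP₁ : z ∈ P₁ := hz ▸ P₁.mul_mem (P₁.inv_mem hbP₁) hbyP₁
    have hzc : z ∈ ⁅Subgroup.normalizer (T : Set G), Subgroup.normalizer (T : Set G)⁆ :=
      hz ▸ comm_mem_commutator (hP₁N hbP₁) hy
    obtain ⟨z₀, hz₀⟩ : ∃ z₀, z₀ = m⁻¹ * z * m := ⟨_, rfl⟩
    have hz₀Q : z₀ ∈ Q := by
      rw [← hQP₁] at hzP₁
      obtain ⟨q, hq, hqz⟩ := hzP₁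
      simp only [MulEquiv.coe_toMonoidHom, MulAut.conj_apply] at hqz
      have : z₀ = q := by rw [hz₀, ← hqz]; group
      rw [this]; exact hq
    have hz₀c : z₀ ∈ ⁅Subgroup.normalizer (T : Set G), Subgroup.normalizer (T : Set G)⁆ := by
      have h1 : (⁅Subgroup.normalizer (T : Set G), Subgroup.normalizer (T : Set G)⁆).map
          (MulAut.conj m⁻¹).toMonoidHom =
          ⁅Subgroup.normalizer (T : Set G), Subgroup.normalizer (T : Set G)⁆ := by
        rw [Subgroup.map_commutator, map_conj_eq_self_of_mem (Subgroup.inv_mem _ hmN)]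
      rw [← h1]
      refine ⟨z, hzc, ?_⟩
      simp only [MulEquiv.coe_toMonoidHom, MulAut.conj_apply, inv_inv]
      exact hz₀.symm
    obtain ⟨a, ha, b', hb', hab⟩ := hQ z₀ (Subgroup.mem_inf.mpr ⟨hz₀Q, hz₀c⟩)
    obtain ⟨D', hD'⟩ : ∃ D' : Subgroup G, D' = D.comap (MulAut.conj m).toMonoidHom := ⟨_, rfl⟩
    have hmemD' : ∀ g : G, g ∈ D' ↔ m * g * m⁻¹ ∈ D := by
      intro g
      rw [hD', Subgroup.mem_comap]
      simp only [MulEquiv.coe_toMonoidHom, MulAut.conj_apply]
    have hL₁ : Q ⊓ ⁅Subgroup.normalizer (T : Set G) ⊓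
          Subgroup.normalizer ((W Q : Subgroup G) : Set G),
        Subgroup.normalizer (T : Set G) ⊓
          Subgroup.normalizer ((W Q : Subgroup G) : Set G)⁆ ≤ D' := by
      have hQL : Q ≤ Subgroup.normalizer (T : Set G) ⊓
          Subgroup.normalizer ((W Q : Subgroup G) : Set G) :=
        le_inf hQN (le_normalizer_functor hW hQp)
      apply inf_commutator_le_of_focal (p := p) hQL hQp
        (not_dvd_relIndex_of_le hQL inf_le_left hQidx)
      intro x hx u hu hux
      rw [hmemD']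
      have hmu : m * u * m⁻¹ ∈ Subgroup.normalizer (T : Set G) ⊓
          Subgroup.normalizer ((W P₁ : Subgroup G) : Set G) := by
        obtain ⟨hu1, hu2⟩ := Subgroup.mem_inf.mp hu
        refine Subgroup.mem_inf.mpr ⟨?_, ?_⟩
        · exact Subgroup.mul_mem _ (Subgroup.mul_mem _ hmN hu1) (Subgroup.inv_mem _ hmN)
        · rw [hWQ]
          exact conj_mem_normalizer_map hu2
      have h1 := key₁ (m * u * m⁻¹) hmu {m * x * m⁻¹}
        (by
          intro w hw
          rw [Set.mem_singleton_iff] at hw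
          rw [hw]; exact hmemP₁ x hx)
        (by
          rintro _ ⟨w, hw, rfl⟩
          rw [Set.mem_singleton_iff] at hw
          rw [hw]
          have e : (m * u * m⁻¹)⁻¹ * (m * x * m⁻¹) * (m * u * m⁻¹) =
              m * (u⁻¹ * x * u) * m⁻¹ := by group
          show (m * u * m⁻¹)⁻¹ * (m * x * m⁻¹) * (m * u * m⁻¹) ∈ P₁
          rw [e]
          exact hmemP₁ _ hux)
        (m * x * m⁻¹) rfl
      have e : m * (x⁻¹ * (u⁻¹ * x * u)) * m⁻¹ =
          (m * x * m⁻¹)⁻¹ * ((m * u * m⁻¹)⁻¹ * (m * x * m⁻¹) * (m * u * m⁻¹)) := by group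
      rw [e]
      exact h1
    have hL₂ : Q ⊓ ⁅Subgroup.normalizer (T : Set G) ⊓
          Subgroup.centralizer ((V Q : Subgroup G) : Set G),
        Subgroup.normalizer (T : Set G) ⊓
          Subgroup.centralizer ((V Q : Subgroup G) : Set G)⁆ ≤ D' := by
      have hQL : Q ≤ Subgroup.normalizer (T : Set G) ⊓
          Subgroup.centralizer ((V Q : Subgroup G) : Set G) :=
        le_inf hQN (hcentV Q hQp)
      apply inf_commutator_le_of_focal (p := p) hQL hQp
        (not_dvd_relIndex_of_le hQL inf_le_left hQidx)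
      intro x hx u hu hux
      rw [hmemD']
      have hmu : m * u * m⁻¹ ∈
          Subgroup.centralizer ((V (P : Subgroup G) : Subgroup G) : Set G) := by
        have h1 : m * u * m⁻¹ ∈ Subgroup.centralizer ((V P₁ : Subgroup G) : Set G) := by
          rw [hVQ]
          exact conj_mem_centralizer_map (Subgroup.mem_inf.mp hu).2
        exact Subgroup.centralizer_le hVPP₁ h1
      have h1 := hglobV (m * u * m⁻¹) hmu (m * x * m⁻¹) (hP₁P (hmemP₁ x hx))
        (by
          have e : (m * u * m⁻¹)⁻¹ * (m * x * m⁻¹) * (m * u * m⁻¹) =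
              m * (u⁻¹ * x * u) * m⁻¹ := by group
          rw [e]
          exact hP₁P (hmemP₁ _ hux))
      have e : m * (x⁻¹ * (u⁻¹ * x * u)) * m⁻¹ =
          (m * x * m⁻¹)⁻¹ * ((m * u * m⁻¹)⁻¹ * (m * x * m⁻¹) * (m * u * m⁻¹)) := by group
      rw [e]
      exact h1
    have h3 : z₀ ∈ D' := by
      rw [hab]
      exact D'.mul_mem (hL₁ ha) (hL₂ hb')
    rw [hmemD', hz₀] at h3
    have e : m * (m⁻¹ * z * m) * m⁻¹ = z := by group
    rw [e] at h3
    exact h3

end NH
end Cfsg.Agent.Helper1
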