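import Mathlib
import Cfsg.Prelude.Def_Transfer
import Cfsg.Agent.Helper1.Basic
import Cfsg.Agent.Helper1.Card
import Cfsg.Agent.Helper1.ThompsonSub
import Cfsg.Agent.Helper1.MaxNormalAbelianBound
import Cfsg.Agent.Lead.Basic

set_option autoImplicit false

/-!
Towards: for odd `p`, a `p`-group with an elementary abelian subgroup of order `p ^ 4` has a
normal one.  This file: the key lemma that two distinct members of the family of elementary
abelian subgroups of order `p ^ 4` containing `A₂` never normalize each other.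
-/

namespace Cfsg.Agent.Helper1.NormalE4

open Cfsg Cfsg.Agent.Helper1
open scoped commutatorElement

universe u

variable {P : Type u} [Group P]

theorem pow_mul_local {c x y : P} (hcy : Commute c y) (hyx : y * x = c * x * y) (n : ℕ) :
    y ^ n * x = c ^ n * x * y ^ n := by
  induction n with
  | zero => simp
  | succ n ih =>
    have hcyn : Commute c (y ^ n) := hcy.pow_right n
    calc y ^ (n + 1) * x = y ^ n * (y * x) := by rw [pow_succ, mul_assoc]
      _ = y ^ n * (c * x * y) := by rw [hyx]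
      _ = (y ^ n * c) * x * y := by simp only [mul_assoc]
      _ = (c * y ^ n) * x * y := by rw [hcyn.eq]
      _ = c * (y ^ n * x) * y := by simp only [mul_assoc]
      _ = c * (c ^ n * x * y ^ n) * y := by rw [ih]
      _ = c ^ (n + 1) * x * y ^ (n + 1) := by
        rw [pow_succ' c, pow_succ y]; simp only [mul_assoc]

theorem mul_pow_local {c x y : P} (hcx : Commute c x) (hcy : Commute c y)
    (hyx : y * x = c * x * y) (n : ℕ) :
    (x * y) ^ n = x ^ n * y ^ n * c ^ (n.choose 2) := by
  induction n with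
  | zero => simp
  | succ n ih =>
    have h1 : (n + 1).choose 2 = n + n.choose 2 := by
      rw [Nat.choose_succ_succ, Nat.choose_one_right]
    have hk : Commute (c ^ (n.choose 2)) (x * y) := (hcx.mul_right hcy).pow_left _
    have hcnx : x ^ n * c ^ n = c ^ n * x ^ n := ((hcx.pow_left n).pow_right n).eq.symm
    have hcn : Commute (c ^ n) (x ^ (n + 1) * y ^ (n + 1)) :=
      ((hcx.pow_right (n + 1)).mul_right (hcy.pow_right (n + 1))).pow_left n
    have e1 : x ^ n * (c ^ n * x * y ^ n) * y = c ^ n * (x ^ (n + 1) * y ^ (n + 1)) := by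
      calc x ^ n * (c ^ n * x * y ^ n) * y = (x ^ n * c ^ n) * x * y ^ n * y := by
            simp only [mul_assoc]
        _ = (c ^ n * x ^ n) * x * y ^ n * y := by rw [hcnx]
        _ = c ^ n * (x ^ (n + 1) * y ^ (n + 1)) := by
            rw [pow_succ x, pow_succ y]; simp only [mul_assoc]
    calc (x * y) ^ (n + 1) = (x * y) ^ n * (x * y) := pow_succ _ _
      _ = x ^ n * y ^ n * c ^ (n.choose 2) * (x * y) := by rw [ih]
      _ = x ^ n * y ^ n * ((x * y) * c ^ (n.choose 2)) := by rw [mul_assoc, hk.eq]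
      _ = x ^ n * (y ^ n * x) * y * c ^ (n.choose 2) := by simp only [mul_assoc]
      _ = x ^ n * (c ^ n * x * y ^ n) * y * c ^ (n.choose 2) := by
            rw [pow_mul_local hcy hyx]
      _ = c ^ n * (x ^ (n + 1) * y ^ (n + 1)) * c ^ (n.choose 2) := by rw [e1]
      _ = (x ^ (n + 1) * y ^ (n + 1)) * c ^ n * c ^ (n.choose 2) := by rw [hcn.eq]
      _ = x ^ (n + 1) * y ^ (n + 1) * c ^ ((n + 1).choose 2) := by
            rw [h1, pow_add c n (n.choose 2)]; simp only [mul_assoc]

/-- The product of an element of `E` and an element of `E'` has order dividing `p`, for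
mutually normalizing elementary abelian `E`, `E'` and odd `p`. -/
theorem pow_eq_one_of_mutual {p : ℕ} [hp : Fact p.Prime] (hp2 : p ≠ 2) {E E' : Subgroup P}
    (hE : IsElementaryAbelian p E) (hE' : IsElementaryAbelian p E')
    (h1 : E ≤ Subgroup.normalizer (E' : Set P)) (h2 : E' ≤ Subgroup.normalizer (E : Set P))
    {x y : P} (hx : x ∈ E) (hy : y ∈ E') : (x * y) ^ p = 1 := by
  obtain ⟨c, hc⟩ : ∃ c, c = ⁅y, x⁆ := ⟨_, rfl⟩
  have hcE : c ∈ E := by
    have h3 : y * x * y⁻¹ ∈ E := (Subgroup.mem_normalizer_iff.1 (h2 hy) x).1 hx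
    rw [hc, commutatorElement_def]
    exact E.mul_mem h3 (E.inv_mem hx)
  have hcE' : c ∈ E' := by
    have h3 : x * y⁻¹ * x⁻¹ ∈ E' :=
      (Subgroup.mem_normalizer_iff.1 (h1 hx) y⁻¹).1 (E'.inv_mem hy)
    have e : c = y * (x * y⁻¹ * x⁻¹) := by rw [hc, commutatorElement_def]; group
    rw [e]
    exact E'.mul_mem hy h3
  have hcx : Commute c x := isElementaryAbelian_commute hE hcE hx
  have hcy : Commute c y := isElementaryAbelian_commute hE' hcE' hy
  have hyx : y * x = c * x * y := by rw [hc, commutatorElement_def]; group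
  rw [mul_pow_local hcx hcy hyx p, hE.2 x hx, hE'.2 y hy, one_mul, one_mul]
  have hdvd : p ∣ p.choose 2 := by
    apply hp.out.dvd_choose_self (by norm_num)
    have := hp.out.two_le
    omega
  obtain ⟨k, hk⟩ := hdvd
  rw [hk, pow_mul, hE.2 c hcE, one_pow]

section core

variable [Finite P]

/-- The standing hypotheses. -/
structure Ctx (p : ℕ) (A A₂ : Subgroup P) : Prop where
  hP : IsPGroup p P
  hp2 : p ≠ 2
  An : A.Normal
  A2n : A₂.Normal
  Ael : IsElementaryAbelian p A
  Acard : Nat.card A = p ^ 3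
  A2le : A₂ ≤ A
  A2card : Nat.card A₂ = p ^ 2
  halp : ∀ x ∈ Subgroup.centralizer (A : Set P), x ^ p = 1 → x ∈ A

/-- The family of elementary abelian subgroups of order `p ^ 4` containing `A₂`. -/
def Fam (p : ℕ) (A₂ : Subgroup P) : Set (Subgroup P) :=
  {E | IsElementaryAbelian p E ∧ Nat.card E = p ^ 4 ∧ A₂ ≤ E}

variable {p : ℕ} [hp : Fact p.Prime] {A A₂ : Subgroup P}

omit [Finite P] hp in
theorem le_centralizer_of_le {E B : Subgroup P} (hE : IsElementaryAbelian p E) (hBE : B ≤ E) :
    E ≤ Subgroup.centralizer (B : Set P) := by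
  intro e he
  rw [Subgroup.mem_centralizer_iff]
  intro b hb
  exact isElementaryAbelian_commute hE (hBE hb) he

theorem Ctx.not_le (h : Ctx p A A₂) {E : Subgroup P} (hE : E ∈ Fam p A₂) : ¬ A ≤ E := by
  intro hAE
  have hEC : E ≤ Subgroup.centralizer (A : Set P) := le_centralizer_of_le hE.1 hAE
  have hEA : E ≤ A := fun x hx => h.halp x (hEC hx) (hE.1.2 x hx)
  have h1 := Subgroup.card_le_of_le hEA
  rw [hE.2.1, h.Acard] at h1
  have := (Nat.pow_le_pow_iff_right hp.out.one_lt).1 h1
  omega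

theorem Ctx.inf_cent_eq (h : Ctx p A A₂) {E : Subgroup P} (hE : E ∈ Fam p A₂) :
    E ⊓ Subgroup.centralizer (A : Set P) = A₂ := by
  have hAC : A ≤ Subgroup.centralizer (A : Set P) := le_centralizer_of_le h.Ael le_rfl
  have h1 : E ⊓ Subgroup.centralizer (A : Set P) ≤ A :=
    fun x hx => h.halp x hx.2 (hE.1.2 x hx.1)
  have h2 : A₂ ≤ E ⊓ Subgroup.centralizer (A : Set P) := le_inf hE.2.2 (h.A2le.trans hAC)
  have hp4 : IsPGroup p ↥(E ⊓ Subgroup.centralizer (A : Set P)) := h.hP.to_subgroup _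
  obtain ⟨j, hj⟩ := IsPGroup.iff_card.1 hp4
  have hj3 : j ≤ 3 := by
    have := Subgroup.card_le_of_le h1
    rw [hj, h.Acard] at this
    exact (Nat.pow_le_pow_iff_right hp.out.one_lt).1 this
  have hj2 : 2 ≤ j := by
    have := Subgroup.card_le_of_le h2
    rw [hj, h.A2card] at this
    exact (Nat.pow_le_pow_iff_right hp.out.one_lt).1 this
  have hjne : j ≠ 3 := by
    intro hj3'
    have heq : E ⊓ Subgroup.centralizer (A : Set P) = A := by
      apply Subgroup.eq_of_le_of_card_ge h1
      rw [hj, h.Acard, hj3']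
    apply h.not_le hE
    rw [← heq]
    exact inf_le_left
  have hj' : j = 2 := by omega
  symm
  apply Subgroup.eq_of_le_of_card_ge h2
  rw [hj, h.A2card, hj']

theorem Ctx.inf_eq (h : Ctx p A A₂) {E : Subgroup P} (hE : E ∈ Fam p A₂) : A ⊓ E = A₂ := by
  have hAC : A ≤ Subgroup.centralizer (A : Set P) := le_centralizer_of_le h.Ael le_rfl
  apply le_antisymm
  · rw [← h.inf_cent_eq hE]
    exact le_inf inf_le_right (inf_le_left.trans hAC)
  · exact le_inf h.A2le hE.2.2

theorem Ctx.card_centralizer_le (h : Ctx p A A₂) :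
    Nat.card ↥(Subgroup.centralizer (A₂ : Set P)) ≤
      p ^ 2 * Nat.card ↥(Subgroup.centralizer (A : Set P)) := by
  haveI := h.An
  haveI := h.A2n
  haveI : IsMulCommutative A₂ := by
    refine ⟨⟨?_⟩⟩
    rintro ⟨a, ha⟩ ⟨b, hb⟩
    apply Subtype.ext
    exact isElementaryAbelian_commute h.Ael (h.A2le ha) (h.A2le hb)
  have hcardA : Nat.card A = p * Nat.card A₂ := by
    rw [h.Acard, h.A2card]; ring
  have hcomm := commutator_le_of_normal_index_p h.hP A A₂ h.A2le hcardA
  have hidx : A₂.relIndex A = p := by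
    have h1 := relIndex_mul_card_of_le h.A2le
    rw [hcardA] at h1
    exact Nat.eq_of_mul_eq_mul_right Nat.card_pos h1
  have h2 := relIndex_centralizer_le hp.out A A₂ h.A2le hcomm hidx
  have hle : Subgroup.centralizer (A : Set P) ≤ Subgroup.centralizer (A₂ : Set P) :=
    Subgroup.centralizer_le h.A2le
  rw [← relIndex_mul_card_of_le hle]
  rw [h.A2card] at h2
  exact Nat.mul_le_mul_right _ h2

theorem Ctx.sup_cent_eq (h : Ctx p A A₂) {E : Subgroup P} (hE : E ∈ Fam p A₂) :
    Subgroup.centralizer (A : Set P) ⊔ E = Subgroup.centralizer (A₂ : Set P) := by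
  haveI := h.An
  haveI hCn : (Subgroup.centralizer (A : Set P)).Normal := Subgroup.normal_centralizer
  have hle : Subgroup.centralizer (A : Set P) ≤ Subgroup.centralizer (A₂ : Set P) :=
    Subgroup.centralizer_le h.A2le
  have hE2 : E ≤ Subgroup.centralizer (A₂ : Set P) := le_centralizer_of_le hE.1 hE.2.2
  apply Subgroup.eq_of_le_of_card_ge (sup_le hle hE2)
  have h1 := card_sup_mul_card_inf (N := Subgroup.centralizer (A : Set P)) (A := E)
    (by rw [Subgroup.normalizer_eq_top_iff.2 hCn]; exact le_top)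
  rw [inf_comm, h.inf_cent_eq hE, h.A2card, hE.2.1] at h1
  have h2 : Nat.card ↥(Subgroup.centralizer (A : Set P) ⊔ E) =
      p ^ 2 * Nat.card ↥(Subgroup.centralizer (A : Set P)) := by
    have hpos : 0 < p ^ 2 := pow_pos hp.out.pos 2
    apply Nat.eq_of_mul_eq_mul_right hpos
    rw [h1]; ring
  rw [h2]
  exact h.card_centralizer_le

/-- Two members of the family normalizing each other coincide. -/
theorem Ctx.eq_of_mutual (h : Ctx p A A₂) {E E' : Subgroup P} (hE : E ∈ Fam p A₂)
    (hE' : E' ∈ Fam p A₂) (h1 : E ≤ Subgroup.normalizer (E' : Set P))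
    (h2 : E' ≤ Subgroup.normalizer (E : Set P)) : E = E' := by
  haveI := h.An
  haveI hCn : (Subgroup.centralizer (A : Set P)).Normal := Subgroup.normal_centralizer
  by_contra hne
  -- `E' ≤ A ⊔ E`
  have hE'AE : E' ≤ A ⊔ E := by
    intro y hy
    have hy2 : y ∈ Subgroup.centralizer (A : Set P) ⊔ E := by
      rw [h.sup_cent_eq hE]
      exact le_centralizer_of_le hE'.1 hE'.2.2 hy
    rw [Subgroup.mem_sup_of_normal_left] at hy2
    obtain ⟨c, hc, e, he, rfl⟩ := hy2
    -- `c = (c * e) * e⁻¹`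
    have hcp : c ^ p = 1 := by
      have h3 := pow_eq_one_of_mutual h.hp2 hE'.1 hE.1 h2 h1 hy (E.inv_mem he)
      rwa [mul_inv_cancel_right] at h3
    have hcA : c ∈ A := h.halp c hc hcp
    exact Subgroup.mul_mem _ (Subgroup.mem_sup_left hcA) (Subgroup.mem_sup_right he)
  -- orders
  have hcardAE : Nat.card ↥(A ⊔ E) = p ^ 5 := by
    have h3 := card_sup_mul_card_inf (N := A) (A := E)
      (by rw [Subgroup.normalizer_eq_top_iff.2 h.An]; exact le_top)
    rw [h.inf_eq hE, h.A2card, h.Acard, hE.2.1] at h3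
    have hpos : 0 < p ^ 2 := pow_pos hp.out.pos 2
    apply Nat.eq_of_mul_eq_mul_right hpos
    rw [h3]; ring
  have hF : E ⊔ E' ≤ A ⊔ E := sup_le le_sup_right hE'AE
  have hElt : E < E ⊔ E' := by
    refine lt_of_le_of_ne le_sup_left ?_
    intro heq
    have hle : E' ≤ E := by rw [heq]; exact le_sup_right
    apply hne
    symm
    apply Subgroup.eq_of_le_of_card_ge hle
    rw [hE.2.1, hE'.2.1]
  obtain ⟨f, hf⟩ := IsPGroup.iff_card.1 (h.hP.to_subgroup (E ⊔ E'))
  have hf5 : f ≤ 5 := by
    have := Subgroup.card_le_of_le hF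
    rw [hf, hcardAE] at this
    exact (Nat.pow_le_pow_iff_right hp.out.one_lt).1 this
  have hf4 : 4 < f := by
    have := Cfsg.Agent.Lead.card_lt_of_lt hElt
    rw [hf, hE.2.1] at this
    exact (Nat.pow_lt_pow_iff_right hp.out.one_lt).1 this
  have hf' : f = 5 := by omega
  have hFeq : E ⊔ E' = A ⊔ E := by
    apply Subgroup.eq_of_le_of_card_ge hF
    rw [hf, hcardAE, hf']
  -- the intersection
  have hD := card_sup_mul_card_inf (N := E) (A := E') h2
  rw [hf, hf', hE.2.1, hE'.2.1] at hD
  have hDcard : Nat.card ↥(E ⊓ E') = p ^ 3 := by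
    have hpos : 0 < p ^ 5 := pow_pos hp.out.pos 5
    apply Nat.eq_of_mul_eq_mul_left hpos
    rw [hD]; ring
  have hDC : E ⊓ E' ≤ Subgroup.centralizer (A : Set P) := by
    have h3 : E ⊔ E' ≤ Subgroup.centralizer ((E ⊓ E' : Subgroup P) : Set P) :=
      sup_le (le_centralizer_of_le hE.1 inf_le_left) (le_centralizer_of_le hE'.1 inf_le_right)
    have h4 : A ≤ Subgroup.centralizer ((E ⊓ E' : Subgroup P) : Set P) := by
      refine le_trans ?_ h3
      rw [hFeq]; exact le_sup_left
    exact Subgroup.le_centralizer_iff.1 h4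
  have hDle : E ⊓ E' ≤ A₂ := by
    rw [← h.inf_cent_eq hE]
    exact le_inf inf_le_left hDC
  have := Subgroup.card_le_of_le hDle
  rw [hDcard, h.A2card] at this
  have := (Nat.pow_le_pow_iff_right hp.out.one_lt).1 this
  omega

end core

end Cfsg.Agent.Helper1.NormalE4
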