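import Mathlib
import Cfsg.Prelude.Def_Transfer
import Cfsg.Agent.Helper1.NormalE4A
import Cfsg.Agent.Helper1.Alperin
import Cfsg.Agent.Helper1.PRankTwo
import Cfsg.Agent.Helper1.SCN3
import Cfsg.Agent.Lead.NormalE32
import Cfsg.Agent.Lead.Thompson

set_option autoImplicit false

/-!
For odd `p`, a `p`-group with an elementary abelian subgroup of order `p ^ 4` has a normal
elementary abelian subgroup of order `p ^ 4`.
-/

namespace Cfsg.Agent.Helper1.NormalE4

open Cfsg Cfsg.Agent.Helper1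

universe u

variable {P : Type u} [Group P]

theorem isElementaryAbelian_of_le {p : ℕ} {B L : Subgroup P} (hB : IsElementaryAbelian p B)
    (hLB : L ≤ B) : IsElementaryAbelian p L := by
  refine ⟨⟨⟨?_⟩⟩, fun a ha => hB.2 a (hLB ha)⟩
  rintro ⟨a, ha⟩ ⟨b, hb⟩
  apply Subtype.ext
  exact isElementaryAbelian_commute hB (hLB ha) (hLB hb)

theorem exists_normal_e4 [Finite P] {p : ℕ} [hp : Fact p.Prime] (hp2 : p ≠ 2) (hP : IsPGroup p P)
    (E₀ : Subgroup P) (hE₀ : IsElementaryAbelian p E₀) (hE₀card : Nat.card E₀ = p ^ 4) :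
    ∃ A : Subgroup P, A.Normal ∧ IsElementaryAbelian p A ∧ Nat.card A = p ^ 4 := by
  classical
  by_contra hno
  push Not at hno
  let 𝒜 : Set (Subgroup P) := {A | A.Normal ∧ IsMulCommutative A ∧ ∀ a ∈ A, a ^ p = 1}
  have hbot : (⊥ : Subgroup P) ∈ 𝒜 := by
    refine ⟨inferInstance, ?_, ?_⟩
    · constructor; constructor
      rintro ⟨a, ha⟩ ⟨b, hb⟩
      apply Subtype.ext
      rw [Subgroup.mem_bot] at ha hb
      show a * b = b * a
      rw [ha, hb]
    · intro a ha
      rw [Subgroup.mem_bot] at ha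
      rw [ha, one_pow]
  obtain ⟨A, -, hAmax⟩ := (Set.toFinite 𝒜).exists_le_maximal hbot
  obtain ⟨hAn, hAc, hAe⟩ : A ∈ 𝒜 := hAmax.prop
  haveI := hAn
  have hmax : ∀ B : Subgroup P, B.Normal → IsMulCommutative B → (∀ b ∈ B, b ^ p ^ 1 = 1) →
      A ≤ B → B = A := by
    intro B hBn hBc hBe hAB
    have hB : B ∈ 𝒜 := ⟨hBn, hBc, fun b hb => by simpa using hBe b hb⟩
    exact le_antisymm (hAmax.le_of_ge hB hAB) hAB
  have halp : ∀ x ∈ Subgroup.centralizer (A : Set P), x ^ p = 1 → x ∈ A := by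
    intro x hx hxp
    exact alperin_omega hP 1 (by simpa using hp2) A hAc (fun a ha => by simpa using hAe a ha)
      hmax x hx (by simpa using hxp)
  have hAel : IsElementaryAbelian p A := ⟨hAc, hAe⟩
  obtain ⟨k, hk⟩ := IsPGroup.iff_card.1 (hP.to_subgroup A)
  have hk3 : k ≤ 3 := by
    by_contra hk4
    rw [not_le] at hk4
    obtain ⟨M, hMn, hMA, hMcard⟩ := exists_normal_le_card hP (k - 4) 4 A hAn
      (by rw [hk]; congr 1; omega)
    exact hno M hMn (isElementaryAbelian_of_le hAel hMA) hMcard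
  have hE0 : E₀ ⊓ Subgroup.centralizer (A : Set P) ≤ A :=
    fun x hx => halp x hx.2 (hE₀.2 x hx.1)
  have key_idx : ∀ (b : ℕ) (B : Subgroup P), B.Normal → IsMulCommutative B → Nat.card B = p ^ b →
      b ≤ 2 → p ^ 3 ≤ Nat.card ↥(E₀ ⊓ Subgroup.centralizer (B : Set P)) := by
    intro b B hBn hBc hBcard hb2
    haveI := hBn
    haveI hCn : (Subgroup.centralizer (B : Set P)).Normal := Subgroup.normal_centralizer
    have hidx : (Subgroup.centralizer (B : Set P)).index ≤ p := by
      have h1 := index_centralizer_le hP b B hBn hBc hBcard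
      have h2 : b * (b - 1) / 2 ≤ 1 := by interval_cases b <;> simp
      calc (Subgroup.centralizer (B : Set P)).index ≤ p ^ (b * (b - 1) / 2) := h1
        _ ≤ p ^ 1 := Nat.pow_le_pow_right hp.out.pos h2
        _ = p := pow_one p
    have hr : (Subgroup.centralizer (B : Set P)).relIndex E₀ ≤ p := by
      have h1 : (Subgroup.centralizer (B : Set P)).relIndex E₀ ∣
          (Subgroup.centralizer (B : Set P)).index :=
        Subgroup.relIndex_dvd_index_of_normal _ E₀
      exact (Nat.le_of_dvd (Nat.pos_of_ne_zero Subgroup.index_ne_zero_of_finite) h1).trans hidx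
    have hcardE : (Subgroup.centralizer (B : Set P)).relIndex E₀ *
        Nat.card (E₀ ⊓ Subgroup.centralizer (B : Set P) : Subgroup P) = Nat.card E₀ := by
      rw [← Subgroup.inf_relIndex_left E₀ (Subgroup.centralizer (B : Set P))]
      exact relIndex_mul_card_of_le inf_le_left
    have h4 : p * p ^ 3 ≤ p * Nat.card (E₀ ⊓ Subgroup.centralizer (B : Set P) : Subgroup P) := by
      calc p * p ^ 3 = Nat.card E₀ := by rw [hE₀card]; ring
        _ = _ := hcardE.symm
        _ ≤ _ := Nat.mul_le_mul_right _ hr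
    exact Nat.le_of_mul_le_mul_left h4 hp.out.pos
  have hk3' : 3 ≤ k := by
    by_contra hk2
    rw [not_le] at hk2
    have h1 := key_idx k A hAn hAc hk (by omega)
    have h2 := Subgroup.card_le_of_le hE0
    rw [hk] at h2
    have h3 := (Nat.pow_le_pow_iff_right hp.out.one_lt).1 (h1.trans h2)
    omega
  have hk' : k = 3 := by omega
  rw [hk'] at hk
  obtain ⟨A₂, hA₂n, hA₂A, hA₂card⟩ := exists_normal_le_card hP 1 2 A hAn (by rw [hk])
  haveI := hA₂n
  have hctx : Ctx p A A₂ := ⟨hP, hp2, hAn, hA₂n, hAel, hk, hA₂A, hA₂card, halp⟩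
  have hA₂el : IsElementaryAbelian p A₂ := isElementaryAbelian_of_le hAel hA₂A
  -- a member of the family
  have hfam : ∃ E, E ∈ Fam p A₂ := by
    have h3 := key_idx 2 A₂ hA₂n hA₂el.1 hA₂card le_rfl
    have hBel : IsElementaryAbelian p (A₂ ⊔ (E₀ ⊓ Subgroup.centralizer (A₂ : Set P))) :=
      SCN3.elementary_sup hA₂el (isElementaryAbelian_of_le hE₀ inf_le_left) inf_le_right
    obtain ⟨b, hb⟩ := IsPGroup.iff_card.1
      (hP.to_subgroup (A₂ ⊔ (E₀ ⊓ Subgroup.centralizer (A₂ : Set P))))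
    have hb4 : 4 ≤ b := by
      by_contra hb3
      rw [not_le] at hb3
      have heq : E₀ ⊓ Subgroup.centralizer (A₂ : Set P) =
          A₂ ⊔ (E₀ ⊓ Subgroup.centralizer (A₂ : Set P)) := by
        apply Subgroup.eq_of_le_of_card_ge le_sup_right
        rw [hb]
        exact (Nat.pow_le_pow_right hp.out.pos (by omega)).trans h3
      have hA₂E₀ : A₂ ≤ E₀ := by
        have : A₂ ≤ E₀ ⊓ Subgroup.centralizer (A₂ : Set P) := by rw [heq]; exact le_sup_left
        exact this.trans inf_le_left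
      have hE₀C₂ : E₀ ≤ Subgroup.centralizer (A₂ : Set P) := le_centralizer_of_le hE₀ hA₂E₀
      have h4 : E₀ ⊓ Subgroup.centralizer (A₂ : Set P) = E₀ := inf_eq_left.2 hE₀C₂
      have h5 : Nat.card E₀ = p ^ b := by
        rw [← hb, ← heq, h4]
      rw [hE₀card] at h5
      have := Nat.pow_right_injective hp.out.two_le h5
      omega
    obtain ⟨L, hA₂L, hLB, hLcard⟩ := Cfsg.Agent.Lead.E32.exists_between p
      (le_sup_left : A₂ ≤ A₂ ⊔ (E₀ ⊓ Subgroup.centralizer (A₂ : Set P))) hA₂card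
      (by rw [hb]; exact pow_dvd_pow p hb4) (by norm_num : 2 ≤ 4)
    exact ⟨L, isElementaryAbelian_of_le hBel hLB, hLcard, hA₂L⟩
  obtain ⟨E, hE⟩ := hfam
  by_cases hN : Subgroup.normalizer (E : Set P) = ⊤
  · exact hno E (Subgroup.normalizer_eq_top_iff.1 hN) hE.1 hE.2.1
  · haveI := hP.isNilpotent
    have hNC := Group.normalizerCondition_of_isNilpotent (G := P)
    have hlt := hNC _ (lt_top_iff_ne_top.2 hN)
    obtain ⟨g, hgNN, hgN⟩ := SetLike.exists_of_lt hlt
    have hE'fam : E.map (MulAut.conj g).toMonoidHom ∈ Fam p A₂ := by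
      refine ⟨Cfsg.Agent.Lead.isElementaryAbelian_map_of_injective p _ E hE.1, ?_, ?_⟩
      · rw [Subgroup.card_map_of_injective (MulAut.conj g).injective]; exact hE.2.1
      · intro a ha
        refine ⟨g⁻¹ * a * g, hE.2.2 ?_, ?_⟩
        · have := hA₂n.conj_mem a ha g⁻¹
          simpa using this
        · show g * (g⁻¹ * a * g) * g⁻¹ = a
          group
    have hE'N : E.map (MulAut.conj g).toMonoidHom ≤ Subgroup.normalizer (E : Set P) := by
      rintro _ ⟨x, hx, rfl⟩
      have hxN : x ∈ Subgroup.normalizer (E : Set P) := Subgroup.le_normalizer hx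
      exact (Subgroup.mem_normalizer_iff.1 hgNN x).1 hxN
    have hEN' : E ≤ Subgroup.normalizer ((E.map (MulAut.conj g).toMonoidHom : Subgroup P) : Set P) := by
      have h1 := Subgroup.map_equiv_normalizer_eq E (MulAut.conj g)
      have h2 : (Subgroup.normalizer (E : Set P)).map (MulAut.conj g).toMonoidHom =
          Subgroup.normalizer (E : Set P) := Subgroup.mem_normalizer_iff_map_conj_eq.1 hgNN
      rw [← h1, h2]
      exact Subgroup.le_normalizer
    have heq := hctx.eq_of_mutual hE hE'fam hEN' hE'N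
    apply hgN
    rw [Subgroup.mem_normalizer_iff_map_conj_eq]
    exact heq.symm

end Cfsg.Agent.Helper1.NormalE4
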