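import Mathlib

/-!
# Internal direct products of commuting subgroups with trivial centres: components
-/

set_option autoImplicit false

namespace Cfsg.Agent.Helper1.ONS

variable {G : Type*} [Group G] {ι : Type*} [Fintype ι] [DecidableEq ι] {V : ι → Subgroup G}

omit [Fintype ι] [DecidableEq ι] in
theorem indep_of_centerless
    (hcomm : Pairwise fun i j => ∀ x y : G, x ∈ V i → y ∈ V j → Commute x y)
    (hZ : ∀ i, V i ⊓ Subgroup.centralizer (V i : Set G) = ⊥) : iSupIndep V := by
  intro i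
  rw [disjoint_iff, eq_bot_iff, ← hZ i]
  apply inf_le_inf_left
  apply iSup₂_le
  intro j hj x hx
  rw [Subgroup.mem_centralizer_iff]
  intro v hv
  exact (hcomm hj x v hx hv).symm.eq

/-- Splitting off the `i`-th factor. -/
theorem noncommPiCoprod_split
    (hcomm : Pairwise fun i j => ∀ x y : G, x ∈ V i → y ∈ V j → Commute x y)
    (f : ∀ i, V i) (i : ι) :
    ∃ c ∈ (⨆ j, V j) ⊓ Subgroup.centralizer (V i : Set G),
      Subgroup.noncommPiCoprod hcomm f = (f i : G) * c := by
  set f' : ∀ j, V j := Function.update f i 1 with hf'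
  have hsplit : f = Pi.mulSingle i (f i) * f' := by
    funext j
    by_cases hj : j = i
    · subst hj
      rw [Pi.mul_apply, Pi.mulSingle_eq_same, hf', Function.update_self, mul_one]
    · rw [Pi.mul_apply, Pi.mulSingle_eq_of_ne hj, hf', Function.update_of_ne hj, one_mul]
  refine ⟨Subgroup.noncommPiCoprod hcomm f', Subgroup.mem_inf.mpr ⟨?_, ?_⟩, ?_⟩
  · rw [← Subgroup.noncommPiCoprod_range (hcomm := hcomm)]
    exact ⟨f', rfl⟩
  · rw [Subgroup.mem_centralizer_iff]
    intro v hv
    have hc : Pi.mulSingle i (⟨v, hv⟩ : V i) * f' = f' * Pi.mulSingle i (⟨v, hv⟩ : V i) := by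
      funext j
      by_cases hj : j = i
      · subst hj
        rw [Pi.mul_apply, Pi.mul_apply, Pi.mulSingle_eq_same, hf', Function.update_self,
          mul_one, one_mul]
      · rw [Pi.mul_apply, Pi.mul_apply, Pi.mulSingle_eq_of_ne hj, one_mul, mul_one]
    have := congrArg (Subgroup.noncommPiCoprod hcomm) hc
    rw [map_mul, map_mul, Subgroup.noncommPiCoprod_mulSingle] at this
    exact this
  · conv_lhs => rw [hsplit]
    rw [map_mul, Subgroup.noncommPiCoprod_mulSingle]

/-- Uniqueness of the `i`-th component. -/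
theorem component_unique
    (hcomm : Pairwise fun i j => ∀ x y : G, x ∈ V i → y ∈ V j → Commute x y)
    (hZ : ∀ i, V i ⊓ Subgroup.centralizer (V i : Set G) = ⊥)
    (f : ∀ i, V i) (i : ι) {s c : G} (hs : s ∈ V i)
    (hc : c ∈ Subgroup.centralizer (V i : Set G))
    (h : Subgroup.noncommPiCoprod hcomm f = s * c) : (f i : G) = s := by
  obtain ⟨c', hc', hf⟩ := noncommPiCoprod_split hcomm f i
  rw [hf] at h
  have h1 : s⁻¹ * (f i : G) = c * c'⁻¹ := by
    have : (f i : G) = s * c * c'⁻¹ := by rw [← h]; group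
    rw [this]; group
  have h2 : s⁻¹ * (f i : G) ∈ V i ⊓ Subgroup.centralizer (V i : Set G) := by
    refine Subgroup.mem_inf.mpr ⟨(V i).mul_mem ((V i).inv_mem hs) (f i).2, ?_⟩
    rw [h1]
    exact Subgroup.mul_mem _ hc (Subgroup.inv_mem _ hc'.2)
  rw [hZ i, Subgroup.mem_bot, inv_mul_eq_one] at h2
  exact h2.symm

/-- The isomorphism from the product to the join. -/
noncomputable def prodEquiv
    (hcomm : Pairwise fun i j => ∀ x y : G, x ∈ V i → y ∈ V j → Commute x y)
    (hZ : ∀ i, V i ⊓ Subgroup.centralizer (V i : Set G) = ⊥) {N : Subgroup G}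
    (hN : (⨆ i, V i) = N) : (∀ i, V i) ≃* N :=
  (MonoidHom.ofInjective (f := Subgroup.noncommPiCoprod hcomm)
    (Subgroup.injective_noncommPiCoprod_of_iSupIndep (indep_of_centerless hcomm hZ))).trans
    (MulEquiv.subgroupCongr ((Subgroup.noncommPiCoprod_range (hcomm := hcomm)).trans hN))

omit [DecidableEq ι] in
theorem prodEquiv_coe
    (hcomm : Pairwise fun i j => ∀ x y : G, x ∈ V i → y ∈ V j → Commute x y)
    (hZ : ∀ i, V i ⊓ Subgroup.centralizer (V i : Set G) = ⊥) {N : Subgroup G}
    (hN : (⨆ i, V i) = N) (f : ∀ i, V i) :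
    ((prodEquiv hcomm hZ hN f : N) : G) = Subgroup.noncommPiCoprod hcomm f := rfl

/-- The `i`-th component of `n = s c`. -/
theorem prodEquiv_symm_apply
    (hcomm : Pairwise fun i j => ∀ x y : G, x ∈ V i → y ∈ V j → Commute x y)
    (hZ : ∀ i, V i ⊓ Subgroup.centralizer (V i : Set G) = ⊥) {N : Subgroup G}
    (hN : (⨆ i, V i) = N) (n : N) (i : ι) {s c : G} (hs : s ∈ V i)
    (hc : c ∈ Subgroup.centralizer (V i : Set G)) (h : (n : G) = s * c) :
    (((prodEquiv hcomm hZ hN).symm n) i : G) = s := by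
  apply component_unique hcomm hZ ((prodEquiv hcomm hZ hN).symm n) i hs hc
  rw [← prodEquiv_coe hcomm hZ hN, MulEquiv.apply_symm_apply]
  exact h

/-- Every element is its `i`-th component times an element centralizing `V i`. -/
theorem exists_eq_component_mul
    (hcomm : Pairwise fun i j => ∀ x y : G, x ∈ V i → y ∈ V j → Commute x y)
    (hZ : ∀ i, V i ⊓ Subgroup.centralizer (V i : Set G) = ⊥) {N : Subgroup G}
    (hN : (⨆ i, V i) = N) (n : N) (i : ι) :
    ∃ c ∈ N ⊓ Subgroup.centralizer (V i : Set G),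
      (n : G) = (((prodEquiv hcomm hZ hN).symm n) i : G) * c := by
  obtain ⟨c, hc, h⟩ := noncommPiCoprod_split hcomm ((prodEquiv hcomm hZ hN).symm n) i
  rw [hN] at hc
  refine ⟨c, hc, ?_⟩
  rw [← h, ← prodEquiv_coe hcomm hZ hN, MulEquiv.apply_symm_apply]

end Cfsg.Agent.Helper1.ONS
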