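import Mathlib
import Cfsg.Agent.Helper1.OSh
import Cfsg.Agent.Helper1.ONSa

/-!
# The conjugates of a minimal normal subgroup `S` of a minimal normal subgroup `N`
-/

set_option autoImplicit false

namespace Cfsg.Agent.Helper1.ONS

open MulAction OS

variable {G : Type*} [Group G]

/-- The index type: the conjugates of `S`. -/
abbrev Idx (S : Subgroup G) : Type _ := {U : Subgroup G // ∃ g : G, U = cj g S}

noncomputable instance instFintypeIdx [Finite G] (S : Subgroup G) : Fintype (Idx S) :=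
  Fintype.ofFinite _

noncomputable instance instDecEqIdx (S : Subgroup G) : DecidableEq (Idx S) :=
  Classical.decEq _

/-- The base index. -/
def idx0 (S : Subgroup G) : Idx S := ⟨S, 1, (cj_one S).symm⟩

/-- Conjugation on indices. -/
def conjIdx {S : Subgroup G} (a : G) (i : Idx S) : Idx S :=
  ⟨cj a i.1, by
    obtain ⟨g, hg⟩ := i.2
    exact ⟨a * g, by rw [hg, cj_mul]⟩⟩

theorem conjIdx_val {S : Subgroup G} (a : G) (i : Idx S) : (conjIdx a i).1 = cj a i.1 := rfl

theorem conjIdx_inv_conjIdx {S : Subgroup G} (a : G) (i : Idx S) :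
    conjIdx a⁻¹ (conjIdx a i) = i := by
  apply Subtype.ext
  rw [conjIdx_val, conjIdx_val, cj_inv_cj]

theorem conjIdx_conjIdx_inv {S : Subgroup G} (a : G) (i : Idx S) :
    conjIdx a (conjIdx a⁻¹ i) = i := by
  apply Subtype.ext
  rw [conjIdx_val, conjIdx_val, cj_cj_inv]

/-- Conjugation by `a` as a permutation of the indices. -/
def conjIdxEquiv {S : Subgroup G} (a : G) : Idx S ≃ Idx S where
  toFun := conjIdx a
  invFun := conjIdx a⁻¹
  left_inv := conjIdx_inv_conjIdx a
  right_inv := conjIdx_conjIdx_inv a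

variable {N S : Subgroup G} [hNn : N.Normal]

theorem idx_isMinIn (h : IsMinIn N S) (i : Idx S) : IsMinIn N i.1 := by
  obtain ⟨g, hg⟩ := i.2
  rw [hg]
  exact h.cj g

theorem idx_comm (h : IsMinIn N S) :
    Pairwise fun i j : Idx S => ∀ x y : G, x ∈ i.1 → y ∈ j.1 → Commute x y := by
  intro i j hij x y hx hy
  exact (idx_isMinIn h i).commute (idx_isMinIn h j) (fun h0 => hij (Subtype.ext h0)) hx hy

theorem idx_Z (hNmin : ∀ M : Subgroup G, M.Normal → M ≤ N → M = ⊥ ∨ M = N)
    (hNnab : ¬ ∀ a ∈ N, ∀ b ∈ N, a * b = b * a) (h : IsMinIn N S) (i : Idx S) :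
    i.1 ⊓ Subgroup.centralizer (i.1 : Set G) = ⊥ :=
  inf_centralizer_eq_bot (not_comm hNmin hNnab (idx_isMinIn h i)) (idx_isMinIn h i)

theorem idx_sup (hNmin : ∀ M : Subgroup G, M.Normal → M ≤ N → M = ⊥ ∨ M = N)
    (h : IsMinIn N S) : (⨆ i : Idx S, i.1) = N := by
  rw [← iSup_cj_eq hNmin h]
  apply le_antisymm
  · apply iSup_le
    intro i
    obtain ⟨g, hg⟩ := i.2
    rw [hg]
    exact le_iSup (fun g => cj g S) g
  · apply iSup_le
    intro g
    exact le_iSup (fun i : Idx S => i.1) ⟨cj g S, g, rfl⟩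

variable {Ω : Type*} [MulAction G Ω] [FaithfulSMul G Ω]

/-- The point stabilizer is transitive on the indices. -/
theorem exists_conjIdx_eq (hprim : IsPreprimitive G Ω) (hN : N ≠ ⊥) (h : IsMinIn N S) (α : Ω)
    (i j : Idx S) : ∃ a ∈ stabilizer G α, conjIdx a i = j := by
  obtain ⟨g, hg⟩ := i.2
  obtain ⟨g', hg'⟩ := j.2
  obtain ⟨a, ha, hga⟩ := cj_stab hprim hN (idx_isMinIn h i) α (g' * g⁻¹)
  refine ⟨a, ha, ?_⟩
  apply Subtype.ext
  rw [conjIdx_val, ← hga, hg, ← cj_mul, hg']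
  congr 1
  group

end Cfsg.Agent.Helper1.ONS
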