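import Mathlib
import Cfsg.Agent.Helper1.ONSb

/-!
# O'Nan–Scott core: components of elements of `N`, equivariance, and the product case
-/

set_option autoImplicit false

namespace Cfsg.Agent.Helper1.ONS

open MulAction OS

variable {G : Type*} [Group G] [Finite G] {N S : Subgroup G} [hNn : N.Normal]

/-- The isomorphism `∏ (conjugates of S) ≃ N`. -/
noncomputable def E₁ (hNmin : ∀ M : Subgroup G, M.Normal → M ≤ N → M = ⊥ ∨ M = N)
    (hNnab : ¬ ∀ a ∈ N, ∀ b ∈ N, a * b = b * a) (h : IsMinIn N S) :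
    (∀ i : Idx S, i.1) ≃* N :=
  prodEquiv (idx_comm h) (idx_Z hNmin hNnab h) (idx_sup hNmin h)

/-- The component of `n` in the conjugate `i`. -/
noncomputable def comp (hNmin : ∀ M : Subgroup G, M.Normal → M ≤ N → M = ⊥ ∨ M = N)
    (hNnab : ¬ ∀ a ∈ N, ∀ b ∈ N, a * b = b * a) (h : IsMinIn N S) (n : N) (i : Idx S) : G :=
  (((E₁ hNmin hNnab h).symm n) i : G)

variable (hNmin : ∀ M : Subgroup G, M.Normal → M ≤ N → M = ⊥ ∨ M = N)
  (hNnab : ¬ ∀ a ∈ N, ∀ b ∈ N, a * b = b * a) (h : IsMinIn N S)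

theorem comp_mem (n : N) (i : Idx S) : comp hNmin hNnab h n i ∈ i.1 :=
  (((E₁ hNmin hNnab h).symm n) i).2

theorem comp_one (i : Idx S) : comp hNmin hNnab h 1 i = 1 := by
  unfold comp
  rw [map_one]
  rfl

theorem comp_mul (n n' : N) (i : Idx S) :
    comp hNmin hNnab h (n * n') i = comp hNmin hNnab h n i * comp hNmin hNnab h n' i := by
  unfold comp
  rw [map_mul]
  rfl

theorem comp_inv (n : N) (i : Idx S) :
    comp hNmin hNnab h n⁻¹ i = (comp hNmin hNnab h n i)⁻¹ := by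
  unfold comp
  rw [map_inv]
  rfl

theorem comp_eq (n : N) (i : Idx S) {s c : G} (hs : s ∈ i.1)
    (hc : c ∈ Subgroup.centralizer (i.1 : Set G)) (hn : (n : G) = s * c) :
    comp hNmin hNnab h n i = s :=
  prodEquiv_symm_apply (idx_comm h) (idx_Z hNmin hNnab h) (idx_sup hNmin h) n i hs hc hn

theorem exists_eq_comp_mul (n : N) (i : Idx S) :
    ∃ c ∈ N ⊓ Subgroup.centralizer (i.1 : Set G), (n : G) = comp hNmin hNnab h n i * c :=
  exists_eq_component_mul (idx_comm h) (idx_Z hNmin hNnab h) (idx_sup hNmin h) n i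

omit [Finite G] hNn in
theorem conj_mem_centralizer_cj {U : Subgroup G} {c : G} (a : G)
    (hc : c ∈ Subgroup.centralizer (U : Set G)) :
    a * c * a⁻¹ ∈ Subgroup.centralizer ((cj a U : Subgroup G) : Set G) := by
  rw [Subgroup.mem_centralizer_iff]
  intro y hy
  have hy' : a⁻¹ * y * a ∈ U := mem_cj.mp hy
  have := Subgroup.mem_centralizer_iff.mp hc _ hy'
  calc y * (a * c * a⁻¹) = a * ((a⁻¹ * y * a) * c) * a⁻¹ := by group
    _ = a * (c * (a⁻¹ * y * a)) * a⁻¹ := by rw [this]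
    _ = a * c * a⁻¹ * y := by group

/-- Conjugation is compatible with taking components. -/
theorem comp_conj (a : G) (n : N) (i : Idx S) :
    comp hNmin hNnab h ⟨a * n * a⁻¹, hNn.conj_mem n n.2 a⟩ (conjIdx a i) =
      a * comp hNmin hNnab h n i * a⁻¹ := by
  obtain ⟨c, hc, hn⟩ := exists_eq_comp_mul hNmin hNnab h n i
  apply comp_eq hNmin hNnab h _ (conjIdx a i) (s := a * comp hNmin hNnab h n i * a⁻¹)
    (c := a * c * a⁻¹)
  · exact conj_mem_cj (comp_mem hNmin hNnab h n i)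
  · exact conj_mem_centralizer_cj a hc.2
  · change a * (n : G) * a⁻¹ = _
    rw [hn]
    group

variable {Ω : Type*} [MulAction G Ω]

omit [Finite G] in
/-- Conjugation by an element of the stabilizer is compatible with `projS`. -/
theorem conj_mem_projS {α : Ω} {U : Subgroup G} {a t : G} (ha : a ∈ stabilizer G α)
    (ht : t ∈ projS N U (N ⊓ stabilizer G α)) :
    a * t * a⁻¹ ∈ projS N (cj a U) (N ⊓ stabilizer G α) := by
  obtain ⟨htU, c, hc, htc⟩ := ht
  refine ⟨conj_mem_cj htU, a * c * a⁻¹, Subgroup.mem_inf.mpr ⟨hNn.conj_mem c hc.1 a,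
    conj_mem_centralizer_cj a hc.2⟩, ?_⟩
  have e : a * t * a⁻¹ * (a * c * a⁻¹) = a * (t * c) * a⁻¹ := by group
  rw [e]
  refine Subgroup.mem_inf.mpr ⟨hNn.conj_mem _ htc.1 a, ?_⟩
  exact Subgroup.mul_mem _ (Subgroup.mul_mem _ ha htc.2) (Subgroup.inv_mem _ ha)

/-- Components of elements of `N ∩ G_α` lie in the projections. -/
theorem comp_mem_projS {α : Ω} (n : N) (hn : (n : G) ∈ stabilizer G α) (i : Idx S) :
    comp hNmin hNnab h n i ∈ projS N i.1 (N ⊓ stabilizer G α) := by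
  obtain ⟨c, hc, hnc⟩ := exists_eq_comp_mul hNmin hNnab h n i
  refine ⟨comp_mem hNmin hNnab h n i, c, hc, ?_⟩
  rw [← hnc]
  exact Subgroup.mem_inf.mpr ⟨n.2, hn⟩

/-- Every element of a projection is a component of an element of `N ∩ G_α`. -/
theorem exists_comp_eq_of_mem_projS {α : Ω} (i : Idx S) {t : G}
    (ht : t ∈ projS N i.1 (N ⊓ stabilizer G α)) :
    ∃ n : N, (n : G) ∈ stabilizer G α ∧ comp hNmin hNnab h n i = t := by
  obtain ⟨hti, c, hc, htc⟩ := ht
  refine ⟨⟨t * c, htc.1⟩, htc.2, ?_⟩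
  exact comp_eq hNmin hNnab h _ i hti hc.2 rfl

variable [FaithfulSMul G Ω]

include h in
/-- If the projection to `S` is full, so are all projections. -/
theorem proj_full_all (hprim : IsPreprimitive G Ω) (hN1 : N ≠ ⊥) (α : Ω)
    (hall : ∀ t ∈ S, t ∈ projS N S (N ⊓ stabilizer G α)) (i : Idx S) :
    ∀ t ∈ i.1, t ∈ projS N i.1 (N ⊓ stabilizer G α) := by
  intro t ht
  obtain ⟨a, ha, hai⟩ := exists_conjIdx_eq hprim hN1 h α (idx0 S) i
  have hi : i.1 = cj a S := by
    rw [← hai]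
    rfl
  rw [hi] at ht ⊢
  have h1 := hall _ (mem_cj.mp ht)
  have h2 := conj_mem_projS (N := N) ha h1
  have e : a * (a⁻¹ * t * a) * a⁻¹ = t := by group
  rwa [e] at h2

include h in
/-- If the projection to `S` is proper, so are all projections. -/
theorem proj_proper_all (hprim : IsPreprimitive G Ω) (hN1 : N ≠ ⊥) (α : Ω)
    (hall : ¬ ∀ t ∈ S, t ∈ projS N S (N ⊓ stabilizer G α)) (i : Idx S) :
    ∃ t ∈ i.1, t ∉ projS N i.1 (N ⊓ stabilizer G α) := by
  by_contra hcon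
  push Not at hcon
  apply hall
  intro t ht
  obtain ⟨a, ha, hai⟩ := exists_conjIdx_eq hprim hN1 h α i (idx0 S)
  have hS : S = cj a i.1 := by
    have : (conjIdx a i).1 = (idx0 S).1 := by rw [hai]
    exact this.symm
  have ht' : t ∈ cj a i.1 := by rw [← hS]; exact ht
  have h1 := hcon _ (mem_cj.mp ht')
  have h2 := conj_mem_projS (N := N) ha h1
  have e : a * (a⁻¹ * t * a) * a⁻¹ = t := by group
  rw [e, ← hS] at h2
  exact h2

end Cfsg.Agent.Helper1.ONS
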