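import Mathlib
import Cfsg.Agent.Helper1.ONSc

/-!
# O'Nan–Scott core: the product case
-/

set_option autoImplicit false

namespace Cfsg.Agent.Helper1.ONS

open MulAction OS

variable {G : Type*} [Group G] [Finite G] {N S : Subgroup G} [hNn : N.Normal]
  (hNmin : ∀ M : Subgroup G, M.Normal → M ≤ N → M = ⊥ ∨ M = N)
  (hNnab : ¬ ∀ a ∈ N, ∀ b ∈ N, a * b = b * a) (h : IsMinIn N S)
  {Ω : Type*} [MulAction G Ω] [FaithfulSMul G Ω]

/-- In the product case, an element of `N` all of whose components lie in the projections of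
`N ∩ G_α` fixes `α`. -/
theorem product_case_mem [Nontrivial Ω] (hprim : IsPreprimitive G Ω) (hN1 : N ≠ ⊥) (α : Ω)
    (hproper : ¬ ∀ t ∈ S, t ∈ projS N S (N ⊓ stabilizer G α)) (n : N)
    (hn : ∀ i : Idx S, comp hNmin hNnab h n i ∈ projS N i.1 (N ⊓ stabilizer G α)) :
    (n : G) ∈ stabilizer G α := by
  haveI := hprim
  -- the subgroup `P`
  let P : Subgroup G :=
    { carrier := {g | ∃ m : N, (m : G) = g ∧
        ∀ i : Idx S, comp hNmin hNnab h m i ∈ projS N i.1 (N ⊓ stabilizer G α)}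
      one_mem' := by
        refine ⟨1, rfl, fun i => ?_⟩
        rw [comp_one]
        exact Subgroup.one_mem _
      mul_mem' := by
        rintro x y ⟨m, rfl, hm⟩ ⟨m', rfl, hm'⟩
        refine ⟨m * m', rfl, fun i => ?_⟩
        rw [comp_mul]
        exact Subgroup.mul_mem _ (hm i) (hm' i)
      inv_mem' := by
        rintro x ⟨m, rfl, hm⟩
        refine ⟨m⁻¹, rfl, fun i => ?_⟩
        rw [comp_inv]
        exact Subgroup.inv_mem _ (hm i) }
  have hPN : ∀ g ∈ P, g ∈ N := by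
    rintro g ⟨m, rfl, -⟩
    exact m.2
  have hKP : ∀ g ∈ N ⊓ stabilizer G α, g ∈ P := by
    intro g hg
    exact ⟨⟨g, hg.1⟩, rfl, fun i => comp_mem_projS hNmin hNnab h ⟨g, hg.1⟩ hg.2 i⟩
  have hPconj : ∀ a ∈ stabilizer G α, ∀ g ∈ P, a * g * a⁻¹ ∈ P := by
    rintro a ha g ⟨m, rfl, hm⟩
    refine ⟨⟨a * m * a⁻¹, hNn.conj_mem m m.2 a⟩, rfl, fun j => ?_⟩
    have hj : conjIdx a (conjIdx a⁻¹ j) = j := conjIdx_conjIdx_inv a j
    have h1 := comp_conj hNmin hNnab h a m (conjIdx a⁻¹ j)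
    rw [hj] at h1
    rw [h1]
    have h2 := conj_mem_projS (N := N) ha (hm (conjIdx a⁻¹ j))
    have h3 : cj a (conjIdx a⁻¹ j).1 = j.1 := congrArg Subtype.val hj
    rw [h3] at h2
    exact h2
  -- the subgroup `A P`
  let B : Subgroup G :=
    { carrier := {g | ∃ a ∈ stabilizer G α, ∃ p ∈ P, g = a * p}
      one_mem' := ⟨1, Subgroup.one_mem _, 1, P.one_mem, by rw [mul_one]⟩
      mul_mem' := by
        rintro x y ⟨a, ha, p, hp, rfl⟩ ⟨a', ha', p', hp', rfl⟩
        refine ⟨a * a', Subgroup.mul_mem _ ha ha', (a'⁻¹ * p * a') * p', ?_, by group⟩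
        apply P.mul_mem _ hp'
        have := hPconj a'⁻¹ (Subgroup.inv_mem _ ha') p hp
        rwa [inv_inv] at this
      inv_mem' := by
        rintro x ⟨a, ha, p, hp, rfl⟩
        refine ⟨a⁻¹, Subgroup.inv_mem _ ha, a * p⁻¹ * a⁻¹, hPconj a ha _ (P.inv_mem hp), by group⟩ }
  have hAB : stabilizer G α ≤ B := fun a ha => ⟨a, ha, 1, P.one_mem, by rw [mul_one]⟩
  have hco := IsPreprimitive.isCoatom_stabilizer_of_isPreprimitive (G := G) α
  rcases hco.le_iff.mp hAB with hB | hB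
  · -- `A P = G`: then all projections are full
    exfalso
    apply hproper
    intro t ht
    have htB : t ∈ B := by rw [hB]; trivial
    obtain ⟨a, ha, p, hp, rfl⟩ := htB
    have hpN := hPN p hp
    have haN : a ∈ N := by
      have := N.mul_mem (h.le ht) (N.inv_mem hpN)
      rwa [mul_inv_cancel_right] at this
    have haP : a ∈ P := hKP a (Subgroup.mem_inf.mpr ⟨haN, ha⟩)
    obtain ⟨m, hm, hmi⟩ := P.mul_mem haP hp
    have h1 := hmi (idx0 S)
    have h2 : comp hNmin hNnab h m (idx0 S) = a * p := by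
      apply comp_eq hNmin hNnab h m (idx0 S) (s := a * p) (c := 1) ht (Subgroup.one_mem _)
      rw [hm, mul_one]
    rw [h2] at h1
    exact h1
  · have : (n : G) ∈ B := ⟨1, Subgroup.one_mem _, n, ⟨n, rfl, hn⟩, by rw [one_mul]⟩
    rw [hB] at this
    exact this

end Cfsg.Agent.Helper1.ONS
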