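import Mathlib

/-!
# Scott's lemma: subdirect subgroups of a power of a non-abelian simple group
-/

set_option autoImplicit false

namespace Cfsg.Agent.Helper1.Scott

variable {ι : Type*} {S : Type*} [Group S]

/-- Coordinates `i`, `j` are linked in `D` if the `j`-th coordinate of every element of `D` is
the image of the `i`-th one under a fixed automorphism. -/
def Linked (D : Subgroup (ι → S)) (i j : ι) : Prop :=
  ∃ φ : S ≃* S, ∀ x ∈ D, x j = φ (x i)

theorem Linked.refl (D : Subgroup (ι → S)) (i : ι) : Linked D i i :=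
  ⟨MulEquiv.refl S, fun _ _ => rfl⟩

theorem Linked.symm {D : Subgroup (ι → S)} {i j : ι} (h : Linked D i j) : Linked D j i := by
  obtain ⟨φ, hφ⟩ := h
  refine ⟨φ.symm, fun x hx => ?_⟩
  rw [hφ x hx, MulEquiv.symm_apply_apply]

theorem Linked.trans {D : Subgroup (ι → S)} {i j k : ι} (h₁ : Linked D i j) (h₂ : Linked D j k) :
    Linked D i k := by
  obtain ⟨φ, hφ⟩ := h₁
  obtain ⟨ψ, hψ⟩ := h₂
  refine ⟨φ.trans ψ, fun x hx => ?_⟩
  rw [hψ x hx, hφ x hx]
  rfl

/-- Goursat's dichotomy for a pair of coordinates. -/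
theorem full_of_not_linked [IsSimpleGroup S] (D : Subgroup (ι → S))
    (hsub : ∀ (i : ι) (s : S), ∃ x ∈ D, x i = s) {i j : ι} (h : ¬ Linked D i j) :
    ∀ s t : S, ∃ x ∈ D, x i = s ∧ x j = t := by
  classical
  -- the two kernels
  let A : Subgroup S :=
    { carrier := {t | ∃ x ∈ D, x i = 1 ∧ x j = t}
      one_mem' := ⟨1, D.one_mem, rfl, rfl⟩
      mul_mem' := by
        rintro a b ⟨x, hx, hxi, hxj⟩ ⟨y, hy, hyi, hyj⟩
        refine ⟨x * y, D.mul_mem hx hy, ?_, ?_⟩
        · rw [Pi.mul_apply, hxi, hyi, one_mul]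
        · rw [Pi.mul_apply, hxj, hyj]
      inv_mem' := by
        rintro a ⟨x, hx, hxi, hxj⟩
        refine ⟨x⁻¹, D.inv_mem hx, ?_, ?_⟩
        · rw [Pi.inv_apply, hxi, inv_one]
        · rw [Pi.inv_apply, hxj] }
  let B : Subgroup S :=
    { carrier := {s | ∃ x ∈ D, x j = 1 ∧ x i = s}
      one_mem' := ⟨1, D.one_mem, rfl, rfl⟩
      mul_mem' := by
        rintro a b ⟨x, hx, hxi, hxj⟩ ⟨y, hy, hyi, hyj⟩
        refine ⟨x * y, D.mul_mem hx hy, ?_, ?_⟩
        · rw [Pi.mul_apply, hxi, hyi, one_mul]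
        · rw [Pi.mul_apply, hxj, hyj]
      inv_mem' := by
        rintro a ⟨x, hx, hxi, hxj⟩
        refine ⟨x⁻¹, D.inv_mem hx, ?_, ?_⟩
        · rw [Pi.inv_apply, hxi, inv_one]
        · rw [Pi.inv_apply, hxj] }
  have hAn : A.Normal := by
    constructor
    rintro a ⟨x, hx, hxi, hxj⟩ s
    obtain ⟨y, hy, hyj⟩ := hsub j s
    refine ⟨y * x * y⁻¹, D.mul_mem (D.mul_mem hy hx) (D.inv_mem hy), ?_, ?_⟩
    · rw [Pi.mul_apply, Pi.mul_apply, Pi.inv_apply, hxi, mul_one, mul_inv_cancel]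
    · rw [Pi.mul_apply, Pi.mul_apply, Pi.inv_apply, hxj, hyj]
  have hBn : B.Normal := by
    constructor
    rintro a ⟨x, hx, hxj, hxi⟩ s
    obtain ⟨y, hy, hyi⟩ := hsub i s
    refine ⟨y * x * y⁻¹, D.mul_mem (D.mul_mem hy hx) (D.inv_mem hy), ?_, ?_⟩
    · rw [Pi.mul_apply, Pi.mul_apply, Pi.inv_apply, hxj, mul_one, mul_inv_cancel]
    · rw [Pi.mul_apply, Pi.mul_apply, Pi.inv_apply, hxi, hyi]
  rcases hAn.eq_bot_or_eq_top with hA | hA
  · rcases hBn.eq_bot_or_eq_top with hB | hB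
    · -- both kernels trivial: linked
      exfalso
      apply h
      choose f hfD hfi using hsub i
      have key : ∀ x ∈ D, x j = f (x i) j := by
        intro x hx
        have h1 : x j * (f (x i) j)⁻¹ ∈ A := by
          refine ⟨x * (f (x i))⁻¹, D.mul_mem hx (D.inv_mem (hfD _)), ?_, ?_⟩
          · rw [Pi.mul_apply, Pi.inv_apply, hfi, mul_inv_cancel]
          · rw [Pi.mul_apply, Pi.inv_apply]
        rw [hA, Subgroup.mem_bot, mul_inv_eq_one] at h1
        exact h1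
      let φ : S →* S := MonoidHom.mk' (fun s => f s j) (by
        intro a b
        have h1 := key (f a * f b) (D.mul_mem (hfD a) (hfD b))
        rw [Pi.mul_apply, Pi.mul_apply, hfi, hfi] at h1
        exact h1.symm)
      have hinj : Function.Injective φ := by
        rw [injective_iff_map_eq_one]
        intro a ha
        have h1 : a ∈ B := ⟨f a, hfD a, ha, hfi a⟩
        rw [hB, Subgroup.mem_bot] at h1
        exact h1
      have hsurj : Function.Surjective φ := by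
        intro t
        obtain ⟨y, hy, hyj⟩ := hsub j t
        exact ⟨y i, by rw [← hyj]; exact (key y hy).symm⟩
      exact ⟨MulEquiv.ofBijective φ ⟨hinj, hsurj⟩, fun x hx => key x hx⟩
    · intro s t
      obtain ⟨y, hy, hyj⟩ := hsub j t
      have h1 : (y i)⁻¹ * s ∈ B := by rw [hB]; trivial
      obtain ⟨x, hx, hxj, hxi⟩ := h1
      refine ⟨y * x, D.mul_mem hy hx, ?_, ?_⟩
      · rw [Pi.mul_apply, hxi, mul_inv_cancel_left]
      · rw [Pi.mul_apply, hxj, mul_one, hyj]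
  · intro s t
    obtain ⟨y, hy, hyi⟩ := hsub i s
    have h1 : (y j)⁻¹ * t ∈ A := by rw [hA]; trivial
    obtain ⟨x, hx, hxi, hxj⟩ := h1
    refine ⟨y * x, D.mul_mem hy hx, ?_, ?_⟩
    · rw [Pi.mul_apply, hxi, mul_one, hyi]
    · rw [Pi.mul_apply, hxj, mul_inv_cancel_left]

end Cfsg.Agent.Helper1.Scott
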