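import Mathlib
import Cfsg.Agent.Helper1.ScottA

/-!
# Scott's lemma: pairwise fullness implies fullness, and the normal form
-/

set_option autoImplicit false

namespace Cfsg.Agent.Helper1.Scott

variable {ι : Type*} [DecidableEq ι] {S : Type*} [Group S] [IsSimpleGroup S]

/-- Elements of `D` supported (within `J ∪ {k}`) on `k`, with arbitrary `k`-th coordinate. -/
theorem exists_supported (hS : ∃ a b : S, a * b ≠ b * a) (D : Subgroup (ι → S))
    (hsub : ∀ (i : ι) (s : S), ∃ x ∈ D, x i = s) :
    ∀ (n : ℕ) (J : Finset ι), J.card = n → ∀ k, k ∉ J →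
      (∀ i ∈ insert k J, ∀ j ∈ insert k J, i ≠ j → ¬ Linked D i j) →
      ∀ t : S, ∃ x ∈ D, x k = t ∧ ∀ i ∈ J, x i = 1 := by
  intro n
  induction n using Nat.strong_induction_on with
  | _ n ih =>
    intro J hJn k hk hpair
    let A : Subgroup S :=
      { carrier := {t | ∃ x ∈ D, x k = t ∧ ∀ i ∈ J, x i = 1}
        one_mem' := ⟨1, D.one_mem, rfl, fun _ _ => rfl⟩
        mul_mem' := by
          rintro a b ⟨x, hx, hxk, hxJ⟩ ⟨y, hy, hyk, hyJ⟩
          refine ⟨x * y, D.mul_mem hx hy, ?_, ?_⟩
          · rw [Pi.mul_apply, hxk, hyk]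
          · intro i hi
            rw [Pi.mul_apply, hxJ i hi, hyJ i hi, one_mul]
        inv_mem' := by
          rintro a ⟨x, hx, hxk, hxJ⟩
          refine ⟨x⁻¹, D.inv_mem hx, ?_, ?_⟩
          · rw [Pi.inv_apply, hxk]
          · intro i hi
            rw [Pi.inv_apply, hxJ i hi, inv_one] }
    have hAn : A.Normal := by
      constructor
      rintro a ⟨x, hx, hxk, hxJ⟩ s
      obtain ⟨y, hy, hyk⟩ := hsub k s
      refine ⟨y * x * y⁻¹, D.mul_mem (D.mul_mem hy hx) (D.inv_mem hy), ?_, ?_⟩
      · rw [Pi.mul_apply, Pi.mul_apply, Pi.inv_apply, hxk, hyk]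
      · intro i hi
        rw [Pi.mul_apply, Pi.mul_apply, Pi.inv_apply, hxJ i hi, mul_one, mul_inv_cancel]
    suffices hne : A ≠ ⊥ by
      intro t
      rcases hAn.eq_bot_or_eq_top with hA | hA
      · exact absurd hA hne
      · have : t ∈ A := by rw [hA]; trivial
        exact this
    by_cases h2 : 1 < J.card
    · -- two distinct elements of `J`
      obtain ⟨j, hj, j', hj', hjj'⟩ := Finset.one_lt_card.mp h2
      obtain ⟨a, b, hab⟩ := hS
      have hc1 : (J.erase j).card < n := by
        rw [Finset.card_erase_of_mem hj, hJn]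
        omega
      have hc2 : (J.erase j').card < n := by
        rw [Finset.card_erase_of_mem hj', hJn]
        omega
      have hsub1 : ∀ i ∈ insert k (J.erase j), i ∈ insert k J := by
        intro i hi
        rcases Finset.mem_insert.mp hi with h | h
        · exact Finset.mem_insert.mpr (Or.inl h)
        · exact Finset.mem_insert.mpr (Or.inr (Finset.mem_of_mem_erase h))
      have hsub2 : ∀ i ∈ insert k (J.erase j'), i ∈ insert k J := by
        intro i hi
        rcases Finset.mem_insert.mp hi with h | h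
        · exact Finset.mem_insert.mpr (Or.inl h)
        · exact Finset.mem_insert.mpr (Or.inr (Finset.mem_of_mem_erase h))
      obtain ⟨x, hx, hxk, hxJ⟩ := ih _ hc1 (J.erase j) rfl k
        (fun h => hk (Finset.mem_of_mem_erase h))
        (fun i hi i' hi' => hpair i (hsub1 i hi) i' (hsub1 i' hi')) a
      obtain ⟨y, hy, hyk, hyJ⟩ := ih _ hc2 (J.erase j') rfl k
        (fun h => hk (Finset.mem_of_mem_erase h))
        (fun i hi i' hi' => hpair i (hsub2 i hi) i' (hsub2 i' hi')) b
      intro hA
      have hmem : a * b * a⁻¹ * b⁻¹ ∈ A := by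
        refine ⟨x * y * x⁻¹ * y⁻¹,
          D.mul_mem (D.mul_mem (D.mul_mem hx hy) (D.inv_mem hx)) (D.inv_mem hy), ?_, ?_⟩
        · simp only [Pi.mul_apply, Pi.inv_apply, hxk, hyk]
        · intro i hi
          simp only [Pi.mul_apply, Pi.inv_apply]
          by_cases hij : i = j
          · have hy1 : y i = 1 := by
              apply hyJ i
              rw [hij]
              exact Finset.mem_erase.mpr ⟨hjj', hj⟩
            rw [hy1]
            group
          · have hx1 : x i = 1 := hxJ i (Finset.mem_erase.mpr ⟨hij, hi⟩)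
            rw [hx1]
            group
      rw [hA, Subgroup.mem_bot] at hmem
      apply hab
      calc a * b = (a * b * a⁻¹ * b⁻¹) * (b * a) := by group
        _ = b * a := by rw [hmem, one_mul]
    · -- at most one element
      have hle : J.card ≤ 1 := by omega
      obtain ⟨a, b, hab⟩ := hS
      have ha1 : a ≠ 1 := by
        rintro rfl
        apply hab
        rw [one_mul, mul_one]
      intro hA
      haveI : Nonempty ι := ⟨k⟩
      rcases Finset.card_le_one_iff_subset_singleton.mp hle with ⟨j, hj⟩
      by_cases hjJ : j ∈ J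
      · have hkj : k ≠ j := fun h => hk (h ▸ hjJ)
        have hnl : ¬ Linked D k j :=
          hpair k (Finset.mem_insert_self _ _) j (Finset.mem_insert_of_mem hjJ) hkj
        obtain ⟨x, hx, hxk, hxj⟩ := full_of_not_linked D hsub hnl a 1
        have : a ∈ A := by
          refine ⟨x, hx, hxk, ?_⟩
          intro i hi
          have := Finset.mem_singleton.mp (hj hi)
          rw [this]
          exact hxj
        rw [hA, Subgroup.mem_bot] at this
        exact ha1 this
      · obtain ⟨x, hx, hxk⟩ := hsub k a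
        have : a ∈ A := by
          refine ⟨x, hx, hxk, ?_⟩
          intro i hi
          have := Finset.mem_singleton.mp (hj hi)
          rw [this] at hi
          exact absurd hi hjJ
        rw [hA, Subgroup.mem_bot] at this
        exact ha1 this

/-- Pairwise unlinked coordinates can be prescribed simultaneously. -/
theorem exists_of_pairwise (hS : ∃ a b : S, a * b ≠ b * a) (D : Subgroup (ι → S))
    (hsub : ∀ (i : ι) (s : S), ∃ x ∈ D, x i = s) (J : Finset ι)
    (hJ : ∀ i ∈ J, ∀ j ∈ J, i ≠ j → ¬ Linked D i j) (y : ι → S) :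
    ∃ x ∈ D, ∀ i ∈ J, x i = y i := by
  induction J using Finset.induction_on with
  | empty => exact ⟨1, D.one_mem, fun i hi => absurd hi (Finset.notMem_empty i)⟩
  | insert k J hk ih =>
    obtain ⟨x₀, hx₀, hx₀J⟩ := ih (fun i hi j hj =>
      hJ i (Finset.mem_insert_of_mem hi) j (Finset.mem_insert_of_mem hj))
    obtain ⟨x₁, hx₁, hx₁k, hx₁J⟩ :=
      exists_supported hS D hsub J.card J rfl k hk hJ (y k * (x₀ k)⁻¹)
    refine ⟨x₁ * x₀, D.mul_mem hx₁ hx₀, ?_⟩
    intro i hi
    rcases Finset.mem_insert.mp hi with rfl | hiJ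
    · rw [Pi.mul_apply, hx₁k, inv_mul_cancel_right]
    · rw [Pi.mul_apply, hx₁J i hiJ, one_mul, hx₀J i hiJ]

end Cfsg.Agent.Helper1.Scott
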