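import Mathlib
import Cfsg.Agent.Helper1.ScottB

/-!
# Scott's lemma: the normal form of a subdirect subgroup
-/

set_option autoImplicit false

namespace Cfsg.Agent.Helper1.Scott

variable {ι : Type*} [Fintype ι] [DecidableEq ι] {S : Type*} [Group S] [IsSimpleGroup S]

/-- Scott's lemma: a subdirect subgroup of a power of a non-abelian simple group is a product of
full diagonal subgroups (twisted by automorphisms `θ i`), over the classes of the linking
relation. -/
theorem scott (hS : ∃ a b : S, a * b ≠ b * a) (D : Subgroup (ι → S))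
    (hsub : ∀ (i : ι) (s : S), ∃ x ∈ D, x i = s) :
    ∃ (c : ι → ι) (θ : ι → (S ≃* S)), (∀ i, c (c i) = c i) ∧
      (∀ i j, c i = c j ↔ Linked D i j) ∧
      ∀ x : ι → S, x ∈ D ↔ ∀ i j, c i = c j → θ i (x i) = θ j (x j) := by
  classical
  let s : Setoid ι := ⟨Linked D, ⟨Linked.refl D, Linked.symm, Linked.trans⟩⟩
  let c : ι → ι := fun i => (Quotient.mk s i).out
  have hc1 : ∀ i, Linked D (c i) i := fun i => Quotient.mk_out (s := s) i
  have hc2 : ∀ i j, c i = c j ↔ Linked D i j := by
    intro i j
    constructor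
    · intro h
      have h1 := (hc1 i).symm
      have h2 := hc1 j
      rw [h] at h1
      exact h1.trans h2
    · intro h
      have : Quotient.mk s i = Quotient.mk s j := Quotient.sound h
      change (Quotient.mk s i).out = (Quotient.mk s j).out
      rw [this]
  have hc3 : ∀ i, c (c i) = c i := fun i => (hc2 _ _).mpr (hc1 i)
  have hθ : ∀ i, ∃ φ : S ≃* S, ∀ x ∈ D, x (c i) = φ (x i) := fun i => (hc1 i).symm
  choose θ hθ using hθ
  refine ⟨c, θ, hc3, hc2, ?_⟩
  intro x
  constructor
  · intro hx i j hij
    rw [← hθ i x hx, ← hθ j x hx, hij]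
  · intro hx
    have hJ : ∀ i ∈ Finset.univ.filter (fun r => c r = r),
        ∀ j ∈ Finset.univ.filter (fun r => c r = r), i ≠ j → ¬ Linked D i j := by
      intro i hi j hj hij hl
      rw [Finset.mem_filter] at hi hj
      apply hij
      rw [← hi.2, ← hj.2]
      exact (hc2 i j).mpr hl
    obtain ⟨d, hd, hdJ⟩ := exists_of_pairwise hS D hsub _ hJ (fun r => θ r (x r))
    have : x = d := by
      funext i
      apply (θ i).injective
      have h1 : θ i (d i) = d (c i) := (hθ i d hd).symm
      have h2 : d (c i) = θ (c i) (x (c i)) :=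
        hdJ (c i) (Finset.mem_filter.mpr ⟨Finset.mem_univ _, hc3 i⟩)
      have h3 : θ (c i) (x (c i)) = θ i (x i) := hx (c i) i (hc3 i)
      rw [h1, h2, h3]
    rw [this]
    exact hd

end Cfsg.Agent.Helper1.Scott
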