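import Mathlib
import Cfsg.Agent.Helper1.ONSe
import Cfsg.Agent.Helper4.MinNormalPower

/-!
# O'Nan–Scott core: final form indexed by `Fin m` with the simple group in `Type`
-/

set_option autoImplicit false

namespace Cfsg.Agent.Helper1.ONS

open MulAction OS

variable {G : Type*} [Group G] [Finite G] {N : Subgroup G} [hNn : N.Normal]
  {Ω : Type*} [MulAction G Ω] [FaithfulSMul G Ω]

/-- The core of the O'Nan–Scott theorem for a non-abelian minimal normal subgroup of a finite
primitive group. -/
theorem ons_main [Nontrivial Ω] (hprim : IsPreprimitive G Ω) (hN1 : N ≠ ⊥)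
    (hNmin : ∀ M : Subgroup G, M.Normal → M ≤ N → M = ⊥ ∨ M = N)
    (hNnab : ¬ ∀ a ∈ N, ∀ b ∈ N, a * b = b * a) (α : Ω) :
    ∃ (T : Type) (_ : Group T) (m : ℕ) (e : N ≃* (Fin m → T)),
      IsSimpleGroup T ∧ ¬ IsMulCommutative T ∧ 0 < m ∧
      ((∃ K : Fin m → Subgroup T, (∀ i, K i ≠ ⊤) ∧
          ∀ n : N, (n : G) ∈ stabilizer G α ↔ ∀ i, e n i ∈ K i) ∨
       (∃ (k : ℕ) (c : Fin m → Fin m), 2 ≤ k ∧
          (∀ j : Fin m, Nat.card {i : Fin m // c i = j} = k ∨
            Nat.card {i : Fin m // c i = j} = 0) ∧
          ∀ n : N, (n : G) ∈ stabilizer G α ↔ ∀ i j : Fin m, c i = c j → e n i = e n j)) := by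
  classical
  obtain ⟨S, h⟩ := exists_isMinIn N hN1
  have hSnab := not_comm hNmin hNnab h
  haveI hsimple : IsSimpleGroup S := isSimpleGroup_of_isMinIn hNmin h
  obtain ⟨e, hcase⟩ := ons_idx hNmin hNnab h hprim hN1 α
  obtain ⟨T, hT, ⟨τ⟩⟩ := Cfsg.Agent.Helper4.exists_type0_copy S
  let σ : Idx S ≃ Fin (Fintype.card (Idx S)) := Fintype.equivFin _
  let e' : N ≃* (Fin (Fintype.card (Idx S)) → T) := e.trans (MulEquiv.arrowCongr σ τ)
  have he' : ∀ (n : N) (k : Fin (Fintype.card (Idx S))), e' n k = τ (e n (σ.symm k)) :=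
    fun n k => rfl
  refine ⟨T, hT, Fintype.card (Idx S), e', τ.symm.isSimpleGroup, ?_, ?_, ?_⟩
  · intro hc
    apply hSnab
    intro a ha b hb
    have h1 := mul_comm' (τ ⟨a, ha⟩) (τ ⟨b, hb⟩)
    rw [← map_mul, ← map_mul] at h1
    exact congrArg Subtype.val (τ.injective h1)
  · haveI : Nonempty (Idx S) := ⟨idx0 S⟩
    exact Fintype.card_pos
  · rcases hcase with ⟨K, hK1, hK2⟩ | ⟨k, c, hk, hc, hst⟩
    · left
      refine ⟨fun j => (K (σ.symm j)).map τ.toMonoidHom, ?_, ?_⟩
      · intro j hj
        have hj : (K (σ.symm j)).map τ.toMonoidHom = ⊤ := hj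
        apply hK1 (σ.symm j)
        rw [eq_top_iff]
        intro s _
        have h1 : τ s ∈ (K (σ.symm j)).map τ.toMonoidHom := by rw [hj]; trivial
        obtain ⟨s', hs', hss'⟩ := h1
        have : s' = s := τ.injective hss'
        rw [← this]
        exact hs'
      · intro n
        rw [hK2 n]
        constructor
        · intro hn j
          rw [he']
          exact ⟨_, hn (σ.symm j), rfl⟩
        · intro hn i
          have h1 : e' n (σ i) ∈ (K (σ.symm (σ i))).map τ.toMonoidHom := hn (σ i)
          rw [he', σ.symm_apply_apply] at h1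
          obtain ⟨s', hs', hss'⟩ := h1
          have : s' = e n i := τ.injective hss'
          rw [← this]
          exact hs'
    · right
      refine ⟨k, fun j => σ (c (σ.symm j)), hk, ?_, ?_⟩
      · intro j
        have hcongr : Nat.card {i : Fin (Fintype.card (Idx S)) // σ (c (σ.symm i)) = j} =
            Nat.card {i : Idx S // c i = σ.symm j} := by
          apply Nat.card_congr
          refine Equiv.subtypeEquiv σ.symm ?_
          intro i
          constructor
          · intro h1
            rw [← h1, σ.symm_apply_apply]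
          · intro h1
            rw [h1, σ.apply_symm_apply]
        rw [hcongr]
        exact hc (σ.symm j)
      · intro n
        rw [hst n]
        constructor
        · intro hn i j hij
          rw [he', he']
          congr 1
          apply hn
          exact σ.injective hij
        · intro hn i j hij
          have h1 := hn (σ i) (σ j) (by
            change σ (c (σ.symm (σ i))) = σ (c (σ.symm (σ j)))
            rw [σ.symm_apply_apply, σ.symm_apply_apply, hij])
          rw [he', he', σ.symm_apply_apply, σ.symm_apply_apply] at h1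
          exact τ.injective h1

end Cfsg.Agent.Helper1.ONS
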