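import Mathlib
import Cfsg.Agent.Helper1.ONSf

/-!
# O'Nan–Scott core for subgroups of a symmetric group
-/

set_option autoImplicit false

namespace Cfsg.Agent.Helper1.ONS

theorem ons_perm {α : Type*} [Finite α] (H : Subgroup (Equiv.Perm α))
    [MulAction.IsPreprimitive H α] (N : Subgroup H) [N.Normal] (hN : N ≠ ⊥)
    (hmin : ∀ M : Subgroup H, M.Normal → M ≤ N → M = ⊥ ∨ M = N)
    (hnab : ¬ IsMulCommutative N) (a : α) :
    ∃ (T : Type) (_ : Group T) (m : ℕ) (e : N ≃* (Fin m → T)),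
      IsSimpleGroup T ∧ ¬ IsMulCommutative T ∧ 0 < m ∧
      ((∃ K : Fin m → Subgroup T, (∀ i, K i ≠ ⊤) ∧
          ∀ n : N, (n : H) ∈ MulAction.stabilizer H a ↔ ∀ i, e n i ∈ K i) ∨
       (∃ (k : ℕ) (c : Fin m → Fin m), 2 ≤ k ∧
          (∀ j : Fin m, Nat.card {i : Fin m // c i = j} = k ∨
            Nat.card {i : Fin m // c i = j} = 0) ∧
          ∀ n : N, (n : H) ∈ MulAction.stabilizer H a ↔
            ∀ i j : Fin m, c i = c j → e n i = e n j)) := by
  haveI : Nontrivial α := by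
    obtain ⟨n, hn, hn1⟩ : ∃ n ∈ N, n ≠ 1 := by
      by_contra hcon
      push Not at hcon
      exact hN ((Subgroup.eq_bot_iff_forall N).mpr hcon)
    have h1 : (n : Equiv.Perm α) ≠ 1 := fun h => hn1 (Subtype.ext h)
    obtain ⟨x, hx⟩ : ∃ x, (n : Equiv.Perm α) x ≠ x := by
      by_contra hcon
      push Not at hcon
      exact h1 (Equiv.ext hcon)
    exact ⟨⟨(n : Equiv.Perm α) x, x, hx⟩⟩
  have hNnab : ¬ ∀ a ∈ N, ∀ b ∈ N, a * b = b * a :=
    fun hc => hnab ⟨⟨fun a b => Subtype.ext (hc a a.2 b b.2)⟩⟩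
  exact ons_main (G := H) (Ω := α) inferInstance hN hmin hNnab a

end Cfsg.Agent.Helper1.ONS
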