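import Mathlib

set_option autoImplicit false

/-!
`EProp G`: the abelianization of `G` has exponent dividing two (`x ^ 2 ∈ G'` for all `x`).
Closure properties: isomorphisms, generation by images of groups with the property, products and
regular wreath products.
-/

namespace Cfsg.Agent.Helper1.SylE

open scoped commutatorElement

universe u v w

/-- every square lies in the commutator subgroup -/
def EProp (G : Type*) [Group G] : Prop := ∀ x : G, x ^ 2 ∈ commutator G

theorem map_commutator_le {A : Type*} {G : Type*} [Group A] [Group G] (f : A →* G) :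
    (commutator A).map f ≤ commutator G := by
  rw [commutator_def, commutator_def, Subgroup.map_commutator]
  exact Subgroup.commutator_mono le_top le_top

theorem EProp.of_mulEquiv {G : Type*} {H : Type*} [Group G] [Group H] (e : G ≃* H)
    (h : EProp G) : EProp H := by
  intro y
  have h1 := h (e.symm y)
  have h2 : e.toMonoidHom ((e.symm y) ^ 2) ∈ (commutator G).map e.toMonoidHom :=
    Subgroup.mem_map_of_mem _ h1
  have h3 := map_commutator_le e.toMonoidHom h2
  simpa using h3

theorem sq_mem_commutator_iff {G : Type*} [Group G] (x : G) :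
    x ^ 2 ∈ commutator G ↔ (Abelianization.of x) ^ 2 = 1 := by
  rw [← Abelianization.ker_of, MonoidHom.mem_ker, map_pow]

/-- if `G` is generated by elements whose squares lie in `G'` then `EProp G` -/
theorem EProp.of_closure {G : Type*} [Group G] (S : Set G) (hS : Subgroup.closure S = ⊤)
    (h : ∀ s ∈ S, s ^ 2 ∈ commutator G) : EProp G := by
  intro x
  let K : Subgroup G :=
    { carrier := {y | (Abelianization.of y) ^ 2 = 1}
      one_mem' := by simp
      mul_mem' := by
        intro a b ha hb
        have ha' : (Abelianization.of a) ^ 2 = 1 := ha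
        have hb' : (Abelianization.of b) ^ 2 = 1 := hb
        show (Abelianization.of (a * b)) ^ 2 = 1
        rw [map_mul, mul_pow, ha', hb', one_mul]
      inv_mem' := by
        intro a ha
        have ha' : (Abelianization.of a) ^ 2 = 1 := ha
        show (Abelianization.of a⁻¹) ^ 2 = 1
        rw [map_inv, inv_pow, ha', inv_one] }
  have hK : K = ⊤ := by
    rw [eq_top_iff, ← hS, Subgroup.closure_le]
    intro s hs
    exact (sq_mem_commutator_iff s).1 (h s hs)
  have : x ∈ K := hK ▸ Subgroup.mem_top x
  exact (sq_mem_commutator_iff x).2 this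

/-- generation by images of groups with the property -/
theorem EProp.of_ranges {G : Type*} [Group G] {ι : Type*} (A : ι → Type*) [∀ i, Group (A i)]
    (f : ∀ i, A i →* G) (hE : ∀ i, EProp (A i)) (hgen : ⨆ i, (f i).range = ⊤) : EProp G := by
  apply EProp.of_closure (⋃ i, ((f i).range : Set G))
  · rw [Subgroup.closure_iUnion]
    simp only [Subgroup.closure_eq]
    exact hgen
  · intro s hs
    rw [Set.mem_iUnion] at hs
    obtain ⟨i, a, rfl⟩ := hs
    rw [← map_pow]
    exact map_commutator_le (f i) (Subgroup.mem_map_of_mem _ (hE i a))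

theorem EProp.prod {A : Type*} {B : Type*} [Group A] [Group B] (hA : EProp A) (hB : EProp B) :
    EProp (A × B) := by
  apply EProp.of_closure (((MonoidHom.inl A B).range : Set (A × B)) ∪ (MonoidHom.inr A B).range)
  · rw [Subgroup.closure_union, Subgroup.closure_eq, Subgroup.closure_eq]
    rw [eq_top_iff]
    rintro ⟨a, b⟩ -
    have : ((a, b) : A × B) = MonoidHom.inl A B a * MonoidHom.inr A B b := by simp
    rw [this]
    exact Subgroup.mul_mem _ (Subgroup.mem_sup_left ⟨a, rfl⟩) (Subgroup.mem_sup_right ⟨b, rfl⟩)
  · rintro s (⟨a, rfl⟩ | ⟨b, rfl⟩)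
    · rw [← map_pow]
      exact map_commutator_le _ (Subgroup.mem_map_of_mem _ (hA a))
    · rw [← map_pow]
      exact map_commutator_le _ (Subgroup.mem_map_of_mem _ (hB b))

theorem EProp.punit : EProp PUnit := by
  intro x
  have : x ^ 2 = 1 := Subsingleton.elim _ _
  rw [this]; exact Subgroup.one_mem _

section wreath
open RegularWreathProduct

variable {D : Type*} {Q : Type*} [Group D] [Group Q]

/-- the base group embedding -/
def baseHom (D : Type*) (Q : Type*) [Group D] [Group Q] : (Q → D) →* D ≀ᵣ Q where
  toFun f := ⟨f, 1⟩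
  map_one' := rfl
  map_mul' := by
    intro f g
    ext
    · simp [RegularWreathProduct.mul_def]
    · simp [RegularWreathProduct.mul_def]

theorem baseHom_mul_inl (f : Q → D) (q : Q) :
    baseHom D Q f * (RegularWreathProduct.inl q : D ≀ᵣ Q) = ⟨f, q⟩ := by
  ext
  · simp [RegularWreathProduct.mul_def, baseHom]
  · simp [RegularWreathProduct.mul_def, baseHom]

theorem EProp.wreath [Finite Q] (hD : EProp D) (hQ : EProp Q) : EProp (D ≀ᵣ Q) := by
  classical
  apply EProp.of_closure
    ((⋃ i : Q, (((baseHom D Q).comp (MonoidHom.mulSingle (fun _ : Q => D) i)).range :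
      Set (D ≀ᵣ Q))) ∪ ((RegularWreathProduct.inl : Q →* D ≀ᵣ Q).range : Set (D ≀ᵣ Q)))
  · rw [eq_top_iff]
    rintro ⟨f, q⟩ -
    rw [← baseHom_mul_inl]
    refine Subgroup.mul_mem _ ?_ ?_
    · have h1 : f ∈ (Subgroup.closure ((⋃ i : Q, (((baseHom D Q).comp
          (MonoidHom.mulSingle (fun _ : Q => D) i)).range : Set (D ≀ᵣ Q))) ∪
          ((RegularWreathProduct.inl : Q →* D ≀ᵣ Q).range : Set (D ≀ᵣ Q)))).comap (baseHom D Q) := by
        apply Subgroup.pi_mem_of_mulSingle_mem
        intro i
        rw [Subgroup.mem_comap]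
        apply Subgroup.subset_closure
        left
        rw [Set.mem_iUnion]
        exact ⟨i, f i, rfl⟩
      exact h1
    · apply Subgroup.subset_closure
      right
      exact ⟨q, rfl⟩
  · rintro s (hs | ⟨q, rfl⟩)
    · rw [Set.mem_iUnion] at hs
      obtain ⟨i, d, rfl⟩ := hs
      rw [← map_pow]
      exact map_commutator_le _ (Subgroup.mem_map_of_mem _ (hD d))
    · rw [← map_pow]
      exact map_commutator_le _ (Subgroup.mem_map_of_mem _ (hQ q))

theorem EProp.zmod2 : EProp (Multiplicative (ZMod 2)) := by
  intro x
  have : x ^ 2 = 1 := by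
    have h := pow_card_eq_one (G := Multiplicative (ZMod 2)) (x := x)
    rwa [Fintype.card_multiplicative, ZMod.card] at h
  rw [this]; exact Subgroup.one_mem _

end wreath

end Cfsg.Agent.Helper1.SylE
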