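import Mathlib
import Cfsg.Agent.Helper1.SylEa

set_option autoImplicit false

/-!
Abstract lemmas for the determinant-tracking wreath recursion:
`EProp` of subgroups via generators, kernels in wreath products with `Z/2` and in direct products,
and the transfer of `EProp` from an embedded `2`-group of full order to all Sylow `2`-subgroups.
-/

namespace Cfsg.Agent.Helper1.SylG

open Cfsg.Agent.Helper1.SylE
open scoped commutatorElement

universe u v w

theorem mem_commutator_subtype_iff {G : Type*} [Group G] (K : Subgroup G) (x : K) :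
    x ∈ commutator K ↔ (x : G) ∈ ⁅K, K⁆ := by
  rw [← Subgroup.map_subtype_commutator]
  constructor
  · intro h
    exact ⟨x, h, rfl⟩
  · rintro ⟨y, hy, hyx⟩
    have : y = x := Subtype.ext hyx
    exact this ▸ hy

theorem EProp_subgroup_iff {G : Type*} [Group G] (K : Subgroup G) :
    EProp K ↔ ∀ x ∈ K, x ^ 2 ∈ ⁅K, K⁆ := by
  constructor
  · intro h x hx
    have := (mem_commutator_subtype_iff K _).1 (h ⟨x, hx⟩)
    simpa using this
  · intro h x
    rw [mem_commutator_subtype_iff]
    simpa using h x x.2

/-- a subgroup generated by elements whose squares lie in its derived subgroup -/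
theorem EProp.of_closure_subgroup {G : Type*} [Group G] (K : Subgroup G) (S : Set G)
    (hSK : S ⊆ K) (hK : K ≤ Subgroup.closure S) (h : ∀ s ∈ S, s ^ 2 ∈ ⁅K, K⁆) : EProp K := by
  have hK' : K = Subgroup.closure S := le_antisymm hK ((Subgroup.closure_le K).2 hSK)
  subst hK'
  apply EProp.of_closure _ Subgroup.closure_closure_coe_preimage
  rintro ⟨s, hs⟩ hsS
  rw [mem_commutator_subtype_iff]
  simpa using h s hsS

/-- transfer to all Sylow subgroups -/
theorem sylow_EProp_of_injective {G : Type*} [Group G] [Finite G] {P : Type*} [Group P]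
    (hP : IsPGroup 2 P) (hE : EProp P) (f : P →* G) (hf : Function.Injective f)
    (hcard : 2 ^ (padicValNat 2 (Nat.card G)) ≤ Nat.card P) (S : Sylow 2 G) :
    EProp ↥(S : Subgroup G) := by
  classical
  haveI : Fact (Nat.Prime 2) := ⟨Nat.prime_two⟩
  have e : P ≃* f.range := MonoidHom.ofInjective hf
  have hRE : EProp ↥f.range := hE.of_mulEquiv e
  have hRc : Nat.card ↥f.range = Nat.card P := Nat.card_congr e.symm.toEquiv
  have hRp : IsPGroup 2 ↥f.range := by
    rw [MonoidHom.range_eq_map]
    exact IsPGroup.map (hP.to_subgroup ⊤) f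
  obtain ⟨S', hS'⟩ := hRp.exists_le_sylow
  have hS'c : Nat.card ↥(S' : Subgroup G) = 2 ^ (padicValNat 2 (Nat.card G)) := by
    rw [Sylow.card_eq_multiplicity, Nat.factorization_def _ Nat.prime_two]
  have hle : Nat.card ↥(S' : Subgroup G) ≤ Nat.card ↥f.range := by
    rw [hS'c, hRc]; exact hcard
  have heq : f.range = (S' : Subgroup G) := Subgroup.eq_of_le_of_card_ge hS' hle
  have hS'E : EProp ↥(S' : Subgroup G) := heq ▸ hRE
  exact hS'E.of_mulEquiv (Sylow.equiv S' S)

section wreath
open RegularWreathProduct

/-- the cyclic group of order two -/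
abbrev Q2 : Type := Multiplicative (ZMod 2)

/-- the generator -/
def sg : Q2 := Multiplicative.ofAdd 1

theorem sg_ne_one : sg ≠ 1 := by decide

theorem sg_mul_sg : sg * sg = 1 := by decide

theorem sg_inv : sg⁻¹ = sg := by decide

theorem q2_cases (x : Q2) : x = 1 ∨ x = sg := by
  revert x; decide

theorem univ_q2 : (Finset.univ : Finset Q2) = {1, sg} := by decide

theorem prod_q2 {M : Type*} [CommMonoid M] (g : Q2 → M) : ∏ x, g x = g 1 * g sg := by
  rw [univ_q2, Finset.prod_pair sg_ne_one.symm]

variable {D : Type*} [Group D]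

/-- the pair `(a, b)` as a function on `Q2` -/
def pr (a b : D) : Q2 → D := fun x => if x = 1 then a else b

@[simp] theorem pr_one (a b : D) : pr a b 1 = a := by simp [pr]

@[simp] theorem pr_sg (a b : D) : pr a b sg = b := by simp [pr, sg_ne_one]

theorem pr_eta (f : Q2 → D) : pr (f 1) (f sg) = f := by
  funext x
  rcases q2_cases x with rfl | rfl <;> simp

theorem pr_mul (a b c d : D) : pr a b * pr c d = pr (a * c) (b * d) := by
  funext x
  rcases q2_cases x with rfl | rfl <;> simp

theorem pr_one_one : pr (1 : D) 1 = 1 := by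
  funext x
  rcases q2_cases x with rfl | rfl <;> simp

theorem pr_inv (a b : D) : (pr a b)⁻¹ = pr a⁻¹ b⁻¹ := by
  funext x
  rcases q2_cases x with rfl | rfl <;> simp

/-- conjugating the base group by the generator swaps the coordinates -/
theorem inl_conj_base (a b : D) :
    (RegularWreathProduct.inl sg : D ≀ᵣ Q2) * baseHom D Q2 (pr a b) *
      (RegularWreathProduct.inl sg : D ≀ᵣ Q2)⁻¹ = baseHom D Q2 (pr b a) := by
  ext x
  · simp only [RegularWreathProduct.mul_left, RegularWreathProduct.mul_right,
      RegularWreathProduct.inv_left, RegularWreathProduct.inv_right,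
      RegularWreathProduct.left_inl, RegularWreathProduct.right_inl, baseHom, MonoidHom.coe_mk,
      OneHom.coe_mk, Pi.mul_apply, Pi.one_apply, Pi.inv_apply, inv_one, one_mul, mul_one]
    rcases q2_cases x with rfl | rfl <;> simp [sg_inv, sg_mul_sg]
  · simp [RegularWreathProduct.mul_right, RegularWreathProduct.inv_right, baseHom]

end wreath

end Cfsg.Agent.Helper1.SylG
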