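import Mathlib
import Cfsg.Agent.Helper1.SylGa

set_option autoImplicit false

/-!
Kernels of "determinant-like" homomorphisms in wreath products with `Z/2` and in direct products.
-/

namespace Cfsg.Agent.Helper1.SylG

open Cfsg.Agent.Helper1.SylE RegularWreathProduct
open scoped commutatorElement

universe u v w

section wreath

variable {D : Type*} [Group D] {M : Type*} [CommMonoid M]

theorem base_pr_eq (f : Q2 → D) :
    baseHom D Q2 f = baseHom D Q2 (pr (f 1) (f 1)⁻¹) * baseHom D Q2 (pr 1 (f 1 * f sg)) := by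
  rw [← map_mul, pr_mul]
  congr 1
  rw [mul_one, inv_mul_cancel_left, pr_eta]

/-- wreath step for the kernel -/
theorem ker_wreath_EProp (δ : D →* M) (δ' : D ≀ᵣ Q2 →* M)
    (hbase : ∀ f : Q2 → D, δ' (baseHom D Q2 f) = ∏ x, δ (f x))
    (hinl : ∀ s : Q2, δ' (RegularWreathProduct.inl s) = 1) (hE : EProp δ.ker) :
    EProp δ'.ker := by
  have hb2 : ∀ a b : D, δ' (baseHom D Q2 (pr a b)) = δ a * δ b := by
    intro a b
    rw [hbase, prod_q2, pr_one, pr_sg]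
  -- the generating set
  let S : Set (D ≀ᵣ Q2) :=
    {g | (∃ k ∈ δ.ker, g = baseHom D Q2 (pr k 1)) ∨ (∃ k ∈ δ.ker, g = baseHom D Q2 (pr 1 k)) ∨
      (∃ x : D, g = baseHom D Q2 (pr x x⁻¹)) ∨ ∃ s : Q2, g = RegularWreathProduct.inl s}
  have hanti : ∀ x : D, baseHom D Q2 (pr x x⁻¹) ∈ δ'.ker := by
    intro x
    rw [MonoidHom.mem_ker, hb2, ← map_mul, mul_inv_cancel, map_one]
  have hSK : S ⊆ δ'.ker := by
    rintro g (⟨k, hk, rfl⟩ | ⟨k, hk, rfl⟩ | ⟨x, rfl⟩ | ⟨s, rfl⟩)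
    · rw [SetLike.mem_coe, MonoidHom.mem_ker, hb2, map_one, mul_one]; exact hk
    · rw [SetLike.mem_coe, MonoidHom.mem_ker, hb2, map_one, one_mul]; exact hk
    · exact hanti x
    · exact hinl s
  apply EProp.of_closure_subgroup δ'.ker S hSK
  · -- generation
    rintro ⟨f, s⟩ hfs
    rw [← baseHom_mul_inl] at hfs ⊢
    have h1 : δ (f 1) * δ (f sg) = 1 := by
      have := hfs
      rw [MonoidHom.mem_ker, map_mul, hinl, mul_one, hbase, prod_q2] at this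
      exact this
    refine Subgroup.mul_mem _ ?_ (Subgroup.subset_closure (Or.inr (Or.inr (Or.inr ⟨s, rfl⟩))))
    rw [base_pr_eq]
    refine Subgroup.mul_mem _ (Subgroup.subset_closure (Or.inr (Or.inr (Or.inl ⟨f 1, rfl⟩))))
      (Subgroup.subset_closure (Or.inr (Or.inl ⟨f 1 * f sg, ?_, rfl⟩)))
    rw [MonoidHom.mem_ker, map_mul]; exact h1
  · -- squares
    have hmap : ∀ (ψ : D →* D ≀ᵣ Q2), (∀ k ∈ δ.ker, ψ k ∈ δ'.ker) → ∀ k ∈ δ.ker,
        (ψ k) ^ 2 ∈ ⁅δ'.ker, δ'.ker⁆ := by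
      intro ψ hψ k hk
      have h1 : k ^ 2 ∈ ⁅δ.ker, δ.ker⁆ := (EProp_subgroup_iff δ.ker).1 hE k hk
      have h2 : ψ (k ^ 2) ∈ (⁅δ.ker, δ.ker⁆).map ψ := Subgroup.mem_map_of_mem _ h1
      rw [Subgroup.map_commutator] at h2
      have h3 : (δ.ker).map ψ ≤ δ'.ker := by
        rintro _ ⟨k', hk', rfl⟩
        exact hψ k' hk'
      rw [← map_pow]
      exact Subgroup.commutator_mono h3 h3 h2
    rintro g (⟨k, hk, rfl⟩ | ⟨k, hk, rfl⟩ | ⟨x, rfl⟩ | ⟨s, rfl⟩)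
    · let ψ : D →* D ≀ᵣ Q2 :=
        { toFun := fun d => baseHom D Q2 (pr d 1)
          map_one' := by rw [pr_one_one, map_one]
          map_mul' := by
            intro a b
            rw [← map_mul, pr_mul, mul_one] }
      refine hmap ψ ?_ k hk
      intro k' hk'
      show baseHom D Q2 (pr k' 1) ∈ δ'.ker
      rw [MonoidHom.mem_ker, hb2, map_one, mul_one]; exact hk'
    · let ψ : D →* D ≀ᵣ Q2 :=
        { toFun := fun d => baseHom D Q2 (pr 1 d)
          map_one' := by rw [pr_one_one, map_one]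
          map_mul' := by
            intro a b
            rw [← map_mul, pr_mul, mul_one] }
      refine hmap ψ ?_ k hk
      intro k' hk'
      show baseHom D Q2 (pr 1 k') ∈ δ'.ker
      rw [MonoidHom.mem_ker, hb2, map_one, one_mul]; exact hk'
    · -- the antidiagonal elements
      have h1 : (baseHom D Q2 (pr x x⁻¹)) ^ 2 =
          ⁅baseHom D Q2 (pr x x⁻¹), (RegularWreathProduct.inl sg : D ≀ᵣ Q2)⁆ := by
        rw [commutatorElement_def, mul_assoc, mul_assoc,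
          ← mul_assoc (RegularWreathProduct.inl sg : D ≀ᵣ Q2), ← map_inv, pr_inv, inv_inv,
          inl_conj_base, pow_two]
      rw [h1]
      exact Subgroup.commutator_mem_commutator (hanti x) (hinl sg)
    · have h1 : (RegularWreathProduct.inl s : D ≀ᵣ Q2) ^ 2 = 1 := by
        rw [← map_pow]
        have : s ^ 2 = 1 := by
          rcases q2_cases s with rfl | rfl
          · simp
          · rw [pow_two, sg_mul_sg]
        rw [this, map_one]
      rw [h1]; exact Subgroup.one_mem _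

end wreath

section prod

variable {P₁ : Type*} {P₂ : Type*} [Group P₁] [Group P₂] {R : Type*} [CommRing R]

theorem inl_commutator_le (δ₁ : P₁ →* R) (δ₂ : P₂ →* R) (δ : P₁ × P₂ →* R)
    (hδ : ∀ x y, δ (x, y) = δ₁ x * δ₂ y)
    (hpm₁ : ∀ x, δ₁ x = 1 ∨ δ₁ x = -1) (hneg₂ : ∃ u, δ₂ u = -1) :
    (commutator P₁).map (MonoidHom.inl P₁ P₂) ≤ ⁅δ.ker, δ.ker⁆ := by
  classical
  obtain ⟨u, hu⟩ := hneg₂
  rw [commutator_eq_closure, Subgroup.map_le_iff_le_comap, Subgroup.closure_le]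
  rintro g ⟨a, b, rfl⟩
  have key : ∀ a : P₁, ∃ v : P₂, (v = 1 ∨ v = u) ∧ (a, v) ∈ δ.ker := by
    intro a
    rcases hpm₁ a with h | h
    · exact ⟨1, Or.inl rfl, by rw [MonoidHom.mem_ker, hδ, h, map_one, mul_one]⟩
    · exact ⟨u, Or.inr rfl, by rw [MonoidHom.mem_ker, hδ, h, hu]; ring⟩
  obtain ⟨v, hv, hav⟩ := key a
  obtain ⟨v', hv', hbv⟩ := key b
  have hcomm : ⁅v, v'⁆ = 1 := by
    rw [commutatorElement_eq_one_iff_commute]
    rcases hv with rfl | rfl <;> rcases hv' with rfl | rfl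
    · exact Commute.refl _
    · exact Commute.one_left _
    · exact Commute.one_right _
    · exact Commute.refl _
  have h1 : MonoidHom.inl P₁ P₂ ⁅a, b⁆ = ⁅((a, v) : P₁ × P₂), (b, v')⁆ := by
    rw [MonoidHom.inl_apply]
    ext
    · simp [commutatorElement_def]
    · have : (⁅((a, v) : P₁ × P₂), (b, v')⁆).2 = ⁅v, v'⁆ := by simp [commutatorElement_def]
      rw [this, hcomm]
  rw [SetLike.mem_coe, Subgroup.mem_comap, h1]
  exact Subgroup.commutator_mem_commutator hav hbv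

theorem inr_commutator_le (δ₁ : P₁ →* R) (δ₂ : P₂ →* R) (δ : P₁ × P₂ →* R)
    (hδ : ∀ x y, δ (x, y) = δ₁ x * δ₂ y)
    (hpm₂ : ∀ x, δ₂ x = 1 ∨ δ₂ x = -1) (hneg₁ : ∃ u, δ₁ u = -1) :
    (commutator P₂).map (MonoidHom.inr P₁ P₂) ≤ ⁅δ.ker, δ.ker⁆ := by
  classical
  obtain ⟨u, hu⟩ := hneg₁
  rw [commutator_eq_closure, Subgroup.map_le_iff_le_comap, Subgroup.closure_le]
  rintro g ⟨a, b, rfl⟩
  have key : ∀ a : P₂, ∃ v : P₁, (v = 1 ∨ v = u) ∧ (v, a) ∈ δ.ker := by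
    intro a
    rcases hpm₂ a with h | h
    · exact ⟨1, Or.inl rfl, by rw [MonoidHom.mem_ker, hδ, h, map_one, mul_one]⟩
    · exact ⟨u, Or.inr rfl, by rw [MonoidHom.mem_ker, hδ, h, hu]; ring⟩
  obtain ⟨v, hv, hav⟩ := key a
  obtain ⟨v', hv', hbv⟩ := key b
  have hcomm : ⁅v, v'⁆ = 1 := by
    rw [commutatorElement_eq_one_iff_commute]
    rcases hv with rfl | rfl <;> rcases hv' with rfl | rfl
    · exact Commute.refl _
    · exact Commute.one_left _
    · exact Commute.one_right _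
    · exact Commute.refl _
  have h1 : MonoidHom.inr P₁ P₂ ⁅a, b⁆ = ⁅((v, a) : P₁ × P₂), (v', b)⁆ := by
    rw [MonoidHom.inr_apply]
    ext
    · have : (⁅((v, a) : P₁ × P₂), (v', b)⁆).1 = ⁅v, v'⁆ := by simp [commutatorElement_def]
      rw [this, hcomm]
    · simp [commutatorElement_def]
  rw [SetLike.mem_coe, Subgroup.mem_comap, h1]
  exact Subgroup.commutator_mem_commutator hav hbv

/-- product step for the kernel -/
theorem ker_prod_EProp (δ₁ : P₁ →* R) (δ₂ : P₂ →* R) (δ : P₁ × P₂ →* R)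
    (hδ : ∀ x y, δ (x, y) = δ₁ x * δ₂ y)
    (hpm₁ : ∀ x, δ₁ x = 1 ∨ δ₁ x = -1) (hneg₁ : ∃ u, δ₁ u = -1)
    (hpm₂ : ∀ x, δ₂ x = 1 ∨ δ₂ x = -1) (hneg₂ : ∃ u, δ₂ u = -1)
    (hE₁ : EProp P₁) (hE₂ : EProp P₂) : EProp δ.ker := by
  rw [EProp_subgroup_iff]
  rintro ⟨x, y⟩ -
  have h1 : ((x, y) : P₁ × P₂) ^ 2 = MonoidHom.inl P₁ P₂ (x ^ 2) * MonoidHom.inr P₁ P₂ (y ^ 2) := by
    simp
  rw [h1]
  exact Subgroup.mul_mem _
    (inl_commutator_le δ₁ δ₂ δ hδ hpm₁ hneg₂ (Subgroup.mem_map_of_mem _ (hE₁ x)))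
    (inr_commutator_le δ₁ δ₂ δ hδ hpm₂ hneg₁ (Subgroup.mem_map_of_mem _ (hE₂ y)))

end prod

end Cfsg.Agent.Helper1.SylG
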