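import Mathlib
import Cfsg.Agent.Helper1.SylGb

set_option autoImplicit false

/-!
Abstract layer for the orthogonal wreath recursion: invariants of a pair `(P, Δ)` where
`Δ : P →* A` has values in a commutative group of exponent two, and their behaviour under wreath
products with `Z/2` and direct products.
-/

namespace Cfsg.Agent.Helper1.OrS

open Cfsg.Agent.Helper1.SylE Cfsg.Agent.Helper1.SylG RegularWreathProduct
open scoped commutatorElement

universe u v w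

section defs

variable {P : Type*} [Group P] {A : Type*} [CommGroup A]

/-- weak invariant -/
def Inv (Δ : P →* A) : Prop :=
  EProp P ∧ ∀ k ∈ Δ.ker, k ^ 2 ∈ ⁅Δ.ker, (⊤ : Subgroup P)⁆

/-- strong invariant -/
def InvP (Δ : P →* A) : Prop :=
  Inv Δ ∧ EProp Δ.ker ∧ commutator P ≤ ⁅Δ.ker, (⊤ : Subgroup P)⁆

theorem Inv.of_EProp {Δ : P →* A} (h1 : EProp P) (h2 : EProp Δ.ker) : Inv Δ := by
  refine ⟨h1, fun k hk => ?_⟩
  exact Subgroup.commutator_mono le_rfl le_top ((EProp_subgroup_iff Δ.ker).1 h2 k hk)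

end defs

/-- a normal subgroup containing the commutators of a generating set contains the derived
subgroup -/
theorem commutator_le_of_gens {G : Type*} [Group G] (N : Subgroup G) [N.Normal] (S : Set G)
    (hS : Subgroup.closure S = ⊤) (h : ∀ s ∈ S, ∀ t ∈ S, ⁅s, t⁆ ∈ N) : commutator G ≤ N := by
  -- left argument
  have key : ∀ t : G, (∀ s ∈ S, ⁅s, t⁆ ∈ N) → ∀ g : G, ⁅g, t⁆ ∈ N := by
    intro t ht g
    have hg : g ∈ Subgroup.closure S := hS ▸ Subgroup.mem_top g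
    induction hg using Subgroup.closure_induction with
    | mem x hx => exact ht x hx
    | one => rw [commutatorElement_one_left]; exact N.one_mem
    | mul x y _ _ hx hy =>
      rw [commutatorElement_def] at hx hy ⊢
      have e : x * y * t * (x * y)⁻¹ * t⁻¹ =
          x * (y * t * y⁻¹ * t⁻¹) * x⁻¹ * (x * t * x⁻¹ * t⁻¹) := by group
      rw [e]
      exact N.mul_mem (Subgroup.Normal.conj_mem inferInstance _ hy x) hx
    | inv x _ hx =>
      rw [commutatorElement_def] at hx ⊢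
      have e : x⁻¹ * t * x⁻¹⁻¹ * t⁻¹ = x⁻¹ * (x * t * x⁻¹ * t⁻¹)⁻¹ * x⁻¹⁻¹ := by group
      rw [e]
      exact Subgroup.Normal.conj_mem inferInstance _ (N.inv_mem hx) x⁻¹
  have hswap : ∀ a b : G, ⁅a, b⁆ ∈ N → ⁅b, a⁆ ∈ N := by
    intro a b hab
    rw [← commutatorElement_inv]
    exact N.inv_mem hab
  have key2 : ∀ g : G, ∀ t ∈ S, ⁅g, t⁆ ∈ N := fun g t ht => key t (fun s hs => h s hs t ht) g
  rw [commutator_eq_closure, Subgroup.closure_le]
  rintro _ ⟨a, b, rfl⟩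
  exact key b (fun s hs => hswap _ _ (key2 b s hs)) a

section wreath

variable {D : Type*} [Group D] {A : Type*} [CommGroup A]

theorem pr_commutator (a b c d : D) : ⁅pr a b, pr c d⁆ = pr ⁅a, c⁆ ⁅b, d⁆ := by
  rw [commutatorElement_def, commutatorElement_def, commutatorElement_def, pr_inv, pr_inv, pr_mul,
    pr_mul, pr_mul]

theorem base_commutator (a b c d : D) :
    ⁅baseHom D Q2 (pr a b), baseHom D Q2 (pr c d)⁆ = baseHom D Q2 (pr ⁅a, c⁆ ⁅b, d⁆) := by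
  rw [← map_commutatorElement, pr_commutator]

theorem inl_sq (s : Q2) : (RegularWreathProduct.inl s : D ≀ᵣ Q2) ^ 2 = 1 := by
  rw [← map_pow]
  have : s ^ 2 = 1 := by
    rcases q2_cases s with rfl | rfl
    · simp
    · rw [pow_two, sg_mul_sg]
  rw [this, map_one]

/-- the wreath step -/
theorem wreath_InvP (hA : ∀ a : A, a * a = 1) (Δ : D →* A) (Δ' : D ≀ᵣ Q2 →* A)
    (hbase : ∀ f : Q2 → D, Δ' (baseHom D Q2 f) = ∏ x, Δ (f x))
    (hinl : ∀ s : Q2, Δ' (RegularWreathProduct.inl s) = 1) (h : Inv Δ) :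
    InvP Δ' ∧ Set.range Δ' = Set.range Δ := by
  have hb2 : ∀ a b : D, Δ' (baseHom D Q2 (pr a b)) = Δ a * Δ b := by
    intro a b
    rw [hbase, prod_q2, pr_one, pr_sg]
  have hdiag : ∀ p : D, baseHom D Q2 (pr p p) ∈ Δ'.ker := by
    intro p
    rw [MonoidHom.mem_ker, hb2, hA]
  have hk1 : ∀ k ∈ Δ.ker, baseHom D Q2 (pr k 1) ∈ Δ'.ker := by
    intro k hk
    rw [MonoidHom.mem_ker, hb2, map_one, mul_one]; exact hk
  have hk2 : ∀ k ∈ Δ.ker, baseHom D Q2 (pr 1 k) ∈ Δ'.ker := by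
    intro k hk
    rw [MonoidHom.mem_ker, hb2, map_one, one_mul]; exact hk
  have hmk : ∀ (f : Q2 → D) (s : Q2), Δ' ⟨f, s⟩ = Δ (f 1) * Δ (f sg) := by
    intro f s
    rw [← baseHom_mul_inl, map_mul, hinl, mul_one, hbase, prod_q2]
  have hEW : EProp (D ≀ᵣ Q2) := EProp.wreath h.1 EProp.zmod2
  -- squares of the generators
  have hsq1 : ∀ x ∈ ⁅Δ.ker, (⊤ : Subgroup D)⁆, baseHom D Q2 (pr x 1) ∈ ⁅Δ'.ker, Δ'.ker⁆ := by
    let ψ : D →* D ≀ᵣ Q2 :=
      { toFun := fun d => baseHom D Q2 (pr d 1)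
        map_one' := by rw [pr_one_one, map_one]
        map_mul' := by
          intro a b
          rw [← map_mul, pr_mul, mul_one] }
    have : ⁅Δ.ker, (⊤ : Subgroup D)⁆ ≤ (⁅Δ'.ker, Δ'.ker⁆).comap ψ := by
      rw [Subgroup.commutator_le]
      intro k hk p _
      rw [Subgroup.mem_comap]
      have e : ψ ⁅k, p⁆ = ⁅baseHom D Q2 (pr k 1), baseHom D Q2 (pr p p)⁆ := by
        rw [base_commutator, commutatorElement_one_left]
        rfl
      rw [e]
      exact Subgroup.commutator_mem_commutator (hk1 k hk) (hdiag p)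
    intro x hx
    exact this hx
  have hsq2 : ∀ x ∈ ⁅Δ.ker, (⊤ : Subgroup D)⁆, baseHom D Q2 (pr 1 x) ∈ ⁅Δ'.ker, Δ'.ker⁆ := by
    let ψ : D →* D ≀ᵣ Q2 :=
      { toFun := fun d => baseHom D Q2 (pr 1 d)
        map_one' := by rw [pr_one_one, map_one]
        map_mul' := by
          intro a b
          rw [← map_mul, pr_mul, mul_one] }
    have : ⁅Δ.ker, (⊤ : Subgroup D)⁆ ≤ (⁅Δ'.ker, Δ'.ker⁆).comap ψ := by
      rw [Subgroup.commutator_le]
      intro k hk p _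
      rw [Subgroup.mem_comap]
      have e : ψ ⁅k, p⁆ = ⁅baseHom D Q2 (pr 1 k), baseHom D Q2 (pr p p)⁆ := by
        rw [base_commutator, commutatorElement_one_left]
        rfl
      rw [e]
      exact Subgroup.commutator_mem_commutator (hk2 k hk) (hdiag p)
    intro x hx
    exact this hx
  have hsqd : ∀ x ∈ commutator D, baseHom D Q2 (pr x x) ∈ ⁅Δ'.ker, Δ'.ker⁆ := by
    let ψ : D →* D ≀ᵣ Q2 :=
      { toFun := fun d => baseHom D Q2 (pr d d)
        map_one' := by rw [pr_one_one, map_one]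
        map_mul' := by
          intro a b
          rw [← map_mul, pr_mul] }
    have : commutator D ≤ (⁅Δ'.ker, Δ'.ker⁆).comap ψ := by
      rw [commutator_def, Subgroup.commutator_le]
      intro a _ b _
      rw [Subgroup.mem_comap, map_commutatorElement]
      exact Subgroup.commutator_mem_commutator (hdiag a) (hdiag b)
    intro x hx
    exact this hx
  -- `EProp` of the kernel
  have hEK : EProp Δ'.ker := by
    let S : Set (D ≀ᵣ Q2) :=
      {g | (∃ k ∈ Δ.ker, g = baseHom D Q2 (pr k 1)) ∨ (∃ k ∈ Δ.ker, g = baseHom D Q2 (pr 1 k)) ∨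
        (∃ p : D, g = baseHom D Q2 (pr p p)) ∨ ∃ s : Q2, g = RegularWreathProduct.inl s}
    have hSK : S ⊆ Δ'.ker := by
      rintro g (⟨k, hk, rfl⟩ | ⟨k, hk, rfl⟩ | ⟨p, rfl⟩ | ⟨s, rfl⟩)
      · exact hk1 k hk
      · exact hk2 k hk
      · exact hdiag p
      · exact hinl s
    apply EProp.of_closure_subgroup Δ'.ker S hSK
    · rintro ⟨f, s⟩ hfs
      have h1 : Δ (f 1) * Δ (f sg) = 1 := by
        rw [← hmk f s]; exact hfs
      rw [← baseHom_mul_inl]
      refine Subgroup.mul_mem _ ?_ (Subgroup.subset_closure (Or.inr (Or.inr (Or.inr ⟨s, rfl⟩))))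
      have e : baseHom D Q2 f = baseHom D Q2 (pr (f 1) (f 1)) *
          baseHom D Q2 (pr 1 ((f 1)⁻¹ * f sg)) := by
        rw [← map_mul, pr_mul, mul_one, mul_inv_cancel_left, pr_eta]
      rw [e]
      refine Subgroup.mul_mem _ (Subgroup.subset_closure (Or.inr (Or.inr (Or.inl ⟨f 1, rfl⟩))))
        (Subgroup.subset_closure (Or.inr (Or.inl ⟨(f 1)⁻¹ * f sg, ?_, rfl⟩)))
      rw [MonoidHom.mem_ker, map_mul, map_inv]
      have h2 : (Δ (f 1))⁻¹ = Δ (f 1) := inv_eq_of_mul_eq_one_right (hA _)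
      rw [h2]; exact h1
    · rintro g (⟨k, hk, rfl⟩ | ⟨k, hk, rfl⟩ | ⟨p, rfl⟩ | ⟨s, rfl⟩)
      · have e : (baseHom D Q2 (pr k 1)) ^ 2 = baseHom D Q2 (pr (k ^ 2) 1) := by
          rw [← map_pow, pow_two, pr_mul, mul_one, pow_two]
        rw [e]; exact hsq1 _ (h.2 k hk)
      · have e : (baseHom D Q2 (pr 1 k)) ^ 2 = baseHom D Q2 (pr 1 (k ^ 2)) := by
          rw [← map_pow, pow_two, pr_mul, mul_one, pow_two]
        rw [e]; exact hsq2 _ (h.2 k hk)
      · have e : (baseHom D Q2 (pr p p)) ^ 2 = baseHom D Q2 (pr (p ^ 2) (p ^ 2)) := by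
          rw [← map_pow, pow_two, pr_mul, pow_two]
        rw [e]; exact hsqd _ (h.1 p)
      · rw [inl_sq]; exact Subgroup.one_mem _
  -- the derived subgroup
  have hV : commutator (D ≀ᵣ Q2) ≤ ⁅Δ'.ker, (⊤ : Subgroup (D ≀ᵣ Q2))⁆ := by
    let S : Set (D ≀ᵣ Q2) :=
      {g | (∃ d : D, g = baseHom D Q2 (pr d 1)) ∨ (∃ d : D, g = baseHom D Q2 (pr 1 d)) ∨
        ∃ s : Q2, g = RegularWreathProduct.inl s}
    have hgen : Subgroup.closure S = ⊤ := by
      rw [eq_top_iff]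
      rintro ⟨f, s⟩ -
      rw [← baseHom_mul_inl]
      refine Subgroup.mul_mem _ ?_ (Subgroup.subset_closure (Or.inr (Or.inr ⟨s, rfl⟩)))
      have e : baseHom D Q2 f = baseHom D Q2 (pr (f 1) 1) * baseHom D Q2 (pr 1 (f sg)) := by
        rw [← map_mul, pr_mul, mul_one, one_mul, pr_eta]
      rw [e]
      exact Subgroup.mul_mem _ (Subgroup.subset_closure (Or.inl ⟨f 1, rfl⟩))
        (Subgroup.subset_closure (Or.inr (Or.inl ⟨f sg, rfl⟩)))
    have hN1 : ∀ k ∈ Δ'.ker, ∀ g : D ≀ᵣ Q2, ⁅k, g⁆ ∈ ⁅Δ'.ker, (⊤ : Subgroup (D ≀ᵣ Q2))⁆ :=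
      fun k hk g => Subgroup.commutator_mem_commutator hk (Subgroup.mem_top g)
    have hN2 : ∀ k ∈ Δ'.ker, ∀ g : D ≀ᵣ Q2, ⁅g, k⁆ ∈ ⁅Δ'.ker, (⊤ : Subgroup (D ≀ᵣ Q2))⁆ := by
      intro k hk g
      rw [← commutatorElement_inv]
      exact Subgroup.inv_mem _ (hN1 k hk g)
    apply commutator_le_of_gens _ S hgen
    rintro s (⟨d, rfl⟩ | ⟨d, rfl⟩ | ⟨s, rfl⟩) t (⟨d', rfl⟩ | ⟨d', rfl⟩ | ⟨s', rfl⟩)
    · have e : ⁅baseHom D Q2 (pr d 1), baseHom D Q2 (pr d' 1)⁆ =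
          ⁅baseHom D Q2 (pr d d), baseHom D Q2 (pr d' 1)⁆ := by
        rw [base_commutator, base_commutator, commutatorElement_one_left,
          commutatorElement_one_right]
      rw [e]; exact hN1 _ (hdiag d) _
    · rw [base_commutator, commutatorElement_one_left, commutatorElement_one_right, pr_one_one,
        map_one]
      exact Subgroup.one_mem _
    · exact hN2 _ (hinl s') _
    · rw [base_commutator, commutatorElement_one_left, commutatorElement_one_right, pr_one_one,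
        map_one]
      exact Subgroup.one_mem _
    · have e : ⁅baseHom D Q2 (pr 1 d), baseHom D Q2 (pr 1 d')⁆ =
          ⁅baseHom D Q2 (pr d d), baseHom D Q2 (pr 1 d')⁆ := by
        rw [base_commutator, base_commutator, commutatorElement_one_left,
          commutatorElement_one_right]
      rw [e]; exact hN1 _ (hdiag d) _
    · exact hN2 _ (hinl s') _
    · exact hN1 _ (hinl s) _
    · exact hN1 _ (hinl s) _
    · exact hN1 _ (hinl s) _
  refine ⟨⟨Inv.of_EProp hEW hEK, hEK, hV⟩, ?_⟩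
  ext a
  constructor
  · rintro ⟨⟨f, s⟩, rfl⟩
    exact ⟨f 1 * f sg, by rw [map_mul, hmk]⟩
  · rintro ⟨d, rfl⟩
    exact ⟨baseHom D Q2 (pr d 1), by rw [hb2, map_one, mul_one]⟩

end wreath

section prod

variable {P₁ : Type*} {P₂ : Type*} [Group P₁] [Group P₂] {A : Type*} [CommGroup A]

/-- the product step -/
theorem prod_InvP (hA : ∀ a : A, a * a = 1) (Δ₁ : P₁ →* A) (Δ₂ : P₂ →* A) (Δ : P₁ × P₂ →* A)
    (hΔ : ∀ x y, Δ (x, y) = Δ₁ x * Δ₂ y) (hr : Set.range Δ₁ = Set.range Δ₂)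
    (h₁ : InvP Δ₁) (h₂ : Inv Δ₂) : InvP Δ ∧ Set.range Δ = Set.range Δ₁ := by
  have hex1 : ∀ p : P₁, ∃ v : P₂, (p, v) ∈ Δ.ker := by
    intro p
    have : Δ₁ p ∈ Set.range Δ₂ := hr ▸ ⟨p, rfl⟩
    obtain ⟨v, hv⟩ := this
    exact ⟨v, by rw [MonoidHom.mem_ker, hΔ, hv, hA]⟩
  have hex2 : ∀ g : P₂, ∃ x : P₁, (x, g) ∈ Δ.ker := by
    intro g
    have : Δ₂ g ∈ Set.range Δ₁ := hr.symm ▸ ⟨g, rfl⟩
    obtain ⟨x, hx⟩ := this
    exact ⟨x, by rw [MonoidHom.mem_ker, hΔ, hx, hA]⟩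
  -- (a)
  have ha : (commutator P₁).map (MonoidHom.inl P₁ P₂) ≤ ⁅Δ.ker, Δ.ker⁆ := by
    refine (Subgroup.map_mono h₁.2.2).trans ?_
    rw [Subgroup.map_le_iff_le_comap, Subgroup.commutator_le]
    intro k hk p _
    obtain ⟨v, hv⟩ := hex1 p
    have hk' : ((k, 1) : P₁ × P₂) ∈ Δ.ker := by
      rw [MonoidHom.mem_ker, hΔ, map_one, mul_one]; exact hk
    have e : MonoidHom.inl P₁ P₂ ⁅k, p⁆ = ⁅((k, 1) : P₁ × P₂), (p, v)⁆ := by
      rw [MonoidHom.inl_apply]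
      ext
      · simp [commutatorElement_def]
      · simp [commutatorElement_def]
    rw [Subgroup.mem_comap, e]
    exact Subgroup.commutator_mem_commutator hk' hv
  -- (b)
  have hb : (commutator P₂).map (MonoidHom.inr P₁ P₂) ≤ ⁅Δ.ker, Δ.ker⁆ := by
    rw [commutator_eq_closure, Subgroup.map_le_iff_le_comap, Subgroup.closure_le]
    rintro _ ⟨g, h, rfl⟩
    obtain ⟨xg, hxg⟩ := hex2 g
    obtain ⟨xh, hxh⟩ := hex2 h
    have h1 : ⁅((xg, g) : P₁ × P₂), (xh, h)⁆ ∈ ⁅Δ.ker, Δ.ker⁆ :=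
      Subgroup.commutator_mem_commutator hxg hxh
    have h2 : MonoidHom.inl P₁ P₂ ⁅xg, xh⁆ ∈ ⁅Δ.ker, Δ.ker⁆ := by
      apply ha
      refine Subgroup.mem_map_of_mem _ ?_
      rw [commutator_def]
      exact Subgroup.commutator_mem_commutator (Subgroup.mem_top _) (Subgroup.mem_top _)
    have e : MonoidHom.inr P₁ P₂ ⁅g, h⁆ =
        (MonoidHom.inl P₁ P₂ ⁅xg, xh⁆)⁻¹ * ⁅((xg, g) : P₁ × P₂), (xh, h)⁆ := by
      rw [MonoidHom.inl_apply, MonoidHom.inr_apply]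
      ext
      · simp only [commutatorElement_def, Prod.fst_mul, Prod.fst_inv, Prod.mk_mul_mk, Prod.inv_mk]
        group
      · simp [commutatorElement_def]
    rw [SetLike.mem_coe, Subgroup.mem_comap, e]
    exact Subgroup.mul_mem _ (Subgroup.inv_mem _ h2) h1
  have hEK : EProp Δ.ker := by
    rw [EProp_subgroup_iff]
    rintro ⟨x, y⟩ -
    have h1 : ((x, y) : P₁ × P₂) ^ 2 =
        MonoidHom.inl P₁ P₂ (x ^ 2) * MonoidHom.inr P₁ P₂ (y ^ 2) := by simp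
    rw [h1]
    exact Subgroup.mul_mem _ (ha (Subgroup.mem_map_of_mem _ (h₁.1.1 x)))
      (hb (Subgroup.mem_map_of_mem _ (h₂.1 y)))
  have hEP : EProp (P₁ × P₂) := EProp.prod h₁.1.1 h₂.1
  have hV : commutator (P₁ × P₂) ≤ ⁅Δ.ker, (⊤ : Subgroup (P₁ × P₂))⁆ := by
    have hmono : ⁅Δ.ker, Δ.ker⁆ ≤ ⁅Δ.ker, (⊤ : Subgroup (P₁ × P₂))⁆ :=
      Subgroup.commutator_mono (le_refl Δ.ker) le_top
    refine le_trans ?_ hmono
    rw [commutator_eq_closure, Subgroup.closure_le]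
    rintro _ ⟨⟨a, b⟩, ⟨c, d⟩, rfl⟩
    have e : ⁅((a, b) : P₁ × P₂), (c, d)⁆ =
        MonoidHom.inl P₁ P₂ ⁅a, c⁆ * MonoidHom.inr P₁ P₂ ⁅b, d⁆ := by
      rw [MonoidHom.inl_apply, MonoidHom.inr_apply]
      ext
      · simp [commutatorElement_def]
      · simp [commutatorElement_def]
    rw [e]
    have hc1 : ⁅a, c⁆ ∈ commutator P₁ := by
      rw [commutator_def]
      exact Subgroup.commutator_mem_commutator (Subgroup.mem_top _) (Subgroup.mem_top _)
    have hc2 : ⁅b, d⁆ ∈ commutator P₂ := by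
      rw [commutator_def]
      exact Subgroup.commutator_mem_commutator (Subgroup.mem_top _) (Subgroup.mem_top _)
    exact Subgroup.mul_mem _ (ha (Subgroup.mem_map_of_mem _ hc1))
      (hb (Subgroup.mem_map_of_mem _ hc2))
  refine ⟨⟨Inv.of_EProp hEP hEK, hEK, hV⟩, ?_⟩
  ext a
  constructor
  · rintro ⟨⟨x, y⟩, rfl⟩
    have : Δ₂ y ∈ Set.range Δ₁ := hr.symm ▸ ⟨y, rfl⟩
    obtain ⟨x', hx'⟩ := this
    exact ⟨x * x', by rw [map_mul, hΔ, hx']⟩
  · rintro ⟨x, rfl⟩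
    exact ⟨(x, 1), by rw [hΔ, map_one, mul_one]⟩

end prod

end Cfsg.Agent.Helper1.OrS
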