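import Mathlib
import Cfsg.Agent.Helper1.SylGa
import Cfsg.Agent.Helper4.PLinFieldD
import Cfsg.Agent.Helper8.SpinorSign

set_option autoImplicit false

/-!
Isometry-valued representations: induced representation of `P ≀ᵣ Z/2` on `Z/2 → U` and product
representations, for quadratic spaces.
-/

namespace Cfsg.Agent.Helper1.OrS

open Cfsg.Agent.Helper1.SylE Cfsg.Agent.Helper1.SylG RegularWreathProduct Module
open Cfsg.Agent.Helper8.OrthOrder Cfsg.Agent.Helper4.PLinField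

universe u v w

variable {F : Type*} [Field F] {U : Type*} [AddCommGroup U] [Module F U]

/-- isometries as endomorphisms -/
def toEnd (Q : QuadraticForm F U) : ↥(Isom Q) →* Module.End F U where
  toFun g := ((g : U ≃ₗ[F] U) : U →ₗ[F] U)
  map_one' := rfl
  map_mul' _ _ := rfl

theorem toEnd_apply (Q : QuadraticForm F U) (g : ↥(Isom Q)) (v : U) :
    toEnd Q g v = (g : U ≃ₗ[F] U) v := rfl

theorem toEnd_injective (Q : QuadraticForm F U) : Function.Injective (toEnd Q) := by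
  intro a b hab
  apply Subtype.ext
  apply LinearEquiv.ext
  intro v
  exact LinearMap.congr_fun hab v

/-- from an endomorphism-valued isometric representation to an isometry-valued one -/
noncomputable def isoRep {P : Type*} [Group P] (Q : QuadraticForm F U) (σ : P →* Module.End F U)
    (h : ∀ g v, Q (σ g v) = Q v) : P →* ↥(Isom Q) :=
  ((LinearMap.GeneralLinearGroup.generalLinearEquiv F U).toMonoidHom.comp σ.toHomUnits).codRestrict
    (Isom Q) (fun g v => h g v)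

theorem isoRep_apply {P : Type*} [Group P] (Q : QuadraticForm F U) (σ : P →* Module.End F U)
    (h : ∀ g v, Q (σ g v) = Q v) (g : P) (v : U) :
    ((isoRep Q σ h g : ↥(Isom Q)) : U ≃ₗ[F] U) v = σ g v := rfl

/-- the orthogonal sum of copies of a quadratic space -/
noncomputable def piQ (J : Type*) [Fintype J] (Q : QuadraticForm F U) : QuadraticForm F (J → U) :=
  QuadraticMap.pi (fun _ : J => Q)

theorem piQ_apply (J : Type*) [Fintype J] (Q : QuadraticForm F U) (φ : J → U) :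
    piQ J Q φ = ∑ j, Q (φ j) := QuadraticMap.pi_apply _ _

theorem polar_piQ (J : Type*) [Fintype J] (Q : QuadraticForm F U) (φ ψ : J → U) :
    QuadraticMap.polar (piQ J Q) φ ψ = ∑ j, QuadraticMap.polar Q (φ j) (ψ j) :=
  QuadraticMap.Ring.polar_pi _ _ _

/-- the base group acting coordinatewise -/
noncomputable def piIso (J : Type*) [Fintype J] (Q : QuadraticForm F U) :
    (J → ↥(Isom Q)) →* ↥(Isom (piQ J Q)) where
  toFun f := ⟨LinearEquiv.piCongrRight (fun j => ((f j : ↥(Isom Q)) : U ≃ₗ[F] U)), by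
    intro φ
    rw [piQ_apply, piQ_apply]
    apply Finset.sum_congr rfl
    intro j _
    rw [LinearEquiv.piCongrRight_apply]
    exact (f j).2 (φ j)⟩
  map_one' := by
    apply Subtype.ext
    apply LinearEquiv.ext
    intro φ
    funext j
    rfl
  map_mul' a b := by
    apply Subtype.ext
    apply LinearEquiv.ext
    intro φ
    funext j
    rfl

theorem piIso_apply (J : Type*) [Fintype J] (Q : QuadraticForm F U) (f : J → ↥(Isom Q))
    (φ : J → U) (j : J) :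
    ((piIso J Q f : ↥(Isom (piQ J Q))) : (J → U) ≃ₗ[F] (J → U)) φ j =
      ((f j : ↥(Isom Q)) : U ≃ₗ[F] U) (φ j) := rfl

/-- the shift of coordinates -/
noncomputable def shiftIso (Q : QuadraticForm F U) (s : Q2) : ↥(Isom (piQ Q2 Q)) :=
  ⟨LinearEquiv.funCongrLeft F U (Equiv.mulLeft s⁻¹), by
    intro φ
    rw [piQ_apply, piQ_apply]
    exact Equiv.sum_comp (Equiv.mulLeft s⁻¹) (fun x => Q (φ x))⟩

theorem shiftIso_apply (Q : QuadraticForm F U) (s : Q2) (φ : Q2 → U) (x : Q2) :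
    ((shiftIso Q s : ↥(Isom (piQ Q2 Q))) : (Q2 → U) ≃ₗ[F] (Q2 → U)) φ x = φ (s⁻¹ * x) := rfl

section wr

variable {P : Type*} [Group P]

theorem wreath_pres (Q : QuadraticForm F U) (τ : P →* ↥(Isom Q)) (w : P ≀ᵣ Q2) (φ : Q2 → U) :
    piQ Q2 Q (wreathRep ((toEnd Q).comp τ) w φ) = piQ Q2 Q φ := by
  rw [piQ_apply, piQ_apply]
  have h1 : ∀ x : Q2, Q (wreathRep ((toEnd Q).comp τ) w φ x) = Q (φ (w.right⁻¹ * x)) := by
    intro x
    rw [wreathRep_apply]
    exact (τ (w.left x)).2 _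
  simp only [h1]
  exact Equiv.sum_comp (Equiv.mulLeft w.right⁻¹) (fun x => Q (φ x))

/-- the induced representation -/
noncomputable def wrI (Q : QuadraticForm F U) (τ : P →* ↥(Isom Q)) :
    P ≀ᵣ Q2 →* ↥(Isom (piQ Q2 Q)) :=
  isoRep (piQ Q2 Q) (wreathRep ((toEnd Q).comp τ)) (wreath_pres Q τ)

theorem wrI_apply (Q : QuadraticForm F U) (τ : P →* ↥(Isom Q)) (w : P ≀ᵣ Q2) (φ : Q2 → U)
    (x : Q2) :
    ((wrI Q τ w : ↥(Isom (piQ Q2 Q))) : (Q2 → U) ≃ₗ[F] (Q2 → U)) φ x =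
      ((τ (w.left x) : ↥(Isom Q)) : U ≃ₗ[F] U) (φ (w.right⁻¹ * x)) := rfl

theorem wrI_injective [Nontrivial U] (Q : QuadraticForm F U) (τ : P →* ↥(Isom Q))
    (hτ : Function.Injective τ) : Function.Injective (wrI Q τ) := by
  intro a b hab
  apply wreathRep_injective ((toEnd Q).comp τ) ((toEnd_injective Q).comp hτ)
  refine LinearMap.ext fun φ => ?_
  have := congrArg (fun g : ↥(Isom (piQ Q2 Q)) => (g : (Q2 → U) ≃ₗ[F] (Q2 → U)) φ) hab
  exact this

theorem wrI_base (Q : QuadraticForm F U) (τ : P →* ↥(Isom Q)) (f : Q2 → P) :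
    wrI Q τ (baseHom P Q2 f) = piIso Q2 Q (fun x => τ (f x)) := by
  apply Subtype.ext
  apply LinearEquiv.ext
  intro φ
  funext x
  rw [wrI_apply, piIso_apply]
  simp [baseHom]

theorem wrI_inl (Q : QuadraticForm F U) (τ : P →* ↥(Isom Q)) (s : Q2) :
    wrI Q τ (RegularWreathProduct.inl s) = shiftIso Q s := by
  apply Subtype.ext
  apply LinearEquiv.ext
  intro φ
  funext x
  rw [wrI_apply, shiftIso_apply]
  simp

end wr

section pr

variable {U₂ : Type*} [AddCommGroup U₂] [Module F U₂]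

/-- the product of two isometries -/
noncomputable def prodIso (Q₁ : QuadraticForm F U) (Q₂ : QuadraticForm F U₂) :
    ↥(Isom Q₁) × ↥(Isom Q₂) →* ↥(Isom (Q₁.prod Q₂)) where
  toFun p := ⟨LinearEquiv.prodCongr (p.1 : U ≃ₗ[F] U) (p.2 : U₂ ≃ₗ[F] U₂), by
    intro v
    rw [QuadraticMap.prod_apply, QuadraticMap.prod_apply, LinearEquiv.prodCongr_apply]
    show Q₁ ((p.1 : U ≃ₗ[F] U) v.1) + Q₂ ((p.2 : U₂ ≃ₗ[F] U₂) v.2) = _
    rw [p.1.2 v.1, p.2.2 v.2]⟩
  map_one' := by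
    apply Subtype.ext
    apply LinearEquiv.ext
    intro v
    rfl
  map_mul' a b := by
    apply Subtype.ext
    apply LinearEquiv.ext
    intro v
    rfl

theorem prodIso_apply (Q₁ : QuadraticForm F U) (Q₂ : QuadraticForm F U₂)
    (p : ↥(Isom Q₁) × ↥(Isom Q₂)) (v : U × U₂) :
    ((prodIso Q₁ Q₂ p : ↥(Isom (Q₁.prod Q₂))) : (U × U₂) ≃ₗ[F] (U × U₂)) v =
      ((p.1 : U ≃ₗ[F] U) v.1, (p.2 : U₂ ≃ₗ[F] U₂) v.2) := rfl

variable {P₁ : Type*} {P₂ : Type*} [Group P₁] [Group P₂]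

/-- the product representation -/
noncomputable def prI (Q₁ : QuadraticForm F U) (Q₂ : QuadraticForm F U₂) (τ₁ : P₁ →* ↥(Isom Q₁))
    (τ₂ : P₂ →* ↥(Isom Q₂)) : P₁ × P₂ →* ↥(Isom (Q₁.prod Q₂)) :=
  (prodIso Q₁ Q₂).comp (τ₁.prodMap τ₂)

theorem prI_apply (Q₁ : QuadraticForm F U) (Q₂ : QuadraticForm F U₂) (τ₁ : P₁ →* ↥(Isom Q₁))
    (τ₂ : P₂ →* ↥(Isom Q₂)) (x : P₁) (y : P₂) :
    prI Q₁ Q₂ τ₁ τ₂ (x, y) = prodIso Q₁ Q₂ (τ₁ x, τ₂ y) := rfl

theorem prodIso_injective (Q₁ : QuadraticForm F U) (Q₂ : QuadraticForm F U₂) :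
    Function.Injective (prodIso Q₁ Q₂) := by
  rintro ⟨a₁, a₂⟩ ⟨b₁, b₂⟩ hab
  have h : ∀ v : U × U₂, ((a₁ : U ≃ₗ[F] U) v.1, (a₂ : U₂ ≃ₗ[F] U₂) v.2) =
      ((b₁ : U ≃ₗ[F] U) v.1, (b₂ : U₂ ≃ₗ[F] U₂) v.2) := by
    intro v
    have := congrArg (fun g : ↥(Isom (Q₁.prod Q₂)) => (g : (U × U₂) ≃ₗ[F] (U × U₂)) v) hab
    exact this
  have e1 : a₁ = b₁ := by
    apply Subtype.ext
    apply LinearEquiv.ext
    intro u
    exact congrArg Prod.fst (h (u, 0))
  have e2 : a₂ = b₂ := by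
    apply Subtype.ext
    apply LinearEquiv.ext
    intro u
    exact congrArg Prod.snd (h (0, u))
  rw [e1, e2]

theorem prI_injective (Q₁ : QuadraticForm F U) (Q₂ : QuadraticForm F U₂) (τ₁ : P₁ →* ↥(Isom Q₁))
    (τ₂ : P₂ →* ↥(Isom Q₂)) (h₁ : Function.Injective τ₁) (h₂ : Function.Injective τ₂) :
    Function.Injective (prI Q₁ Q₂ τ₁ τ₂) := by
  rintro ⟨x, y⟩ ⟨x', y'⟩ h
  have := prodIso_injective Q₁ Q₂ h
  simp only [MonoidHom.prodMap, MonoidHom.coe_prod, MonoidHom.coe_comp] at this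
  have h3 : (τ₁ x, τ₂ y) = (τ₁ x', τ₂ y') := this
  rw [Prod.mk.injEq] at h3
  rw [h₁ h3.1, h₂ h3.2]

end pr

end Cfsg.Agent.Helper1.OrS
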