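import Mathlib
import Cfsg.Agent.Helper1.OrSb

set_option autoImplicit false

/-!
The sign characters of helper8 (`signHom Q c`) on orthogonal sums: multiplicativity over the base
group of a wreath product and over products, and triviality on the coordinate shift.
-/

namespace Cfsg.Agent.Helper1.OrS

open Cfsg.Agent.Helper1.SylE Cfsg.Agent.Helper1.SylG Module
open Cfsg.Agent.Helper8.OrthOrder Cfsg.Agent.Helper8.QuadForm Cfsg.Agent.Helper8.Reflections
  Cfsg.Agent.Helper8.SpinorSign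

universe u v w

variable {F : Type*} [Field F] {U : Type*} [AddCommGroup U] [Module F U]

/-- a reflection as an element of the isometry group -/
noncomputable def reflI (Q : QuadraticForm F U) (z : U) : ↥(Isom Q) := ⟨refl Q z, refl_mem Q z⟩

theorem reflI_apply (Q : QuadraticForm F U) (z x : U) :
    ((reflI Q z : ↥(Isom Q)) : U ≃ₗ[F] U) x = x - (QuadraticMap.polar Q z x / Q z) • z :=
  refl_apply Q z x

theorem closure_reflI [FiniteDimensional F U] (h2 : (2 : F) ≠ 0) (Q : QuadraticForm F U)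
    (hQ : Nondeg Q) :
    Subgroup.closure {g : ↥(Isom Q) | ∃ z, Q z ≠ 0 ∧ g = reflI Q z} = ⊤ := by
  rw [eq_top_iff]
  intro g _
  have hmem := mem_closure_refl h2 Q hQ (g : U ≃ₗ[F] U) g.2
  have himg : {r : U ≃ₗ[F] U | ∃ z, Q z ≠ 0 ∧ r = refl Q z}
      = (Isom Q).subtype '' {g : ↥(Isom Q) | ∃ z, Q z ≠ 0 ∧ g = reflI Q z} := by
    ext r
    constructor
    · rintro ⟨z, hz, rfl⟩
      exact ⟨reflI Q z, ⟨z, hz, rfl⟩, rfl⟩
    · rintro ⟨g', ⟨z, hz, rfl⟩, rfl⟩
      exact ⟨z, hz, rfl⟩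
  rw [himg, ← MonoidHom.map_closure] at hmem
  obtain ⟨g', hg', hgg'⟩ := hmem
  have : g' = g := Subtype.ext hgg'
  rw [← this]
  exact hg'

/-- two characters agreeing on reflections are equal -/
theorem hom_ext_refl [FiniteDimensional F U] (h2 : (2 : F) ≠ 0) (Q : QuadraticForm F U)
    (hQ : Nondeg Q) {A : Type*} [Monoid A] (χ₁ χ₂ : ↥(Isom Q) →* A)
    (h : ∀ z, Q z ≠ 0 → χ₁ (reflI Q z) = χ₂ (reflI Q z)) : χ₁ = χ₂ := by
  apply MonoidHom.eq_of_eqOn_dense (closure_reflI h2 Q hQ)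
  rintro g ⟨z, hz, rfl⟩
  exact h z hz

variable [Fintype F]

theorem signHom_reflI_eq [FiniteDimensional F U] (h2 : (2 : F) ≠ 0) {U' : Type*} [AddCommGroup U']
    [Module F U'] [FiniteDimensional F U'] (Q : QuadraticForm F U) (Q' : QuadraticForm F U')
    {c : F} (hc : c ≠ 0) {z : U} {z' : U'} (hz : Q z ≠ 0) (hzz : Q' z' = Q z) :
    signHom Q' c (reflI Q' z') = signHom Q c (reflI Q z) := by
  have hz' : Q' z' ≠ 0 := by rw [hzz]; exact hz
  obtain ⟨h1, h2'⟩ := signHom_refl h2 Q hc hz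
  obtain ⟨h3, h4⟩ := signHom_refl h2 Q' hc hz'
  by_cases hs : IsSquare (c * Q z)
  · have hs' : IsSquare (c * Q' z') := by rw [hzz]; exact hs
    exact (h3 hs').trans (h1 hs).symm
  · have hs' : ¬ IsSquare (c * Q' z') := by rw [hzz]; exact hs
    exact (h4 hs').trans (h2' hs).symm

section pi

variable {J : Type*} [Fintype J] [DecidableEq J]

theorem piIso_mulSingle_reflI (Q : QuadraticForm F U) (j : J) (z : U) (hz : Q z ≠ 0) :
    piIso J Q (Pi.mulSingle j (reflI Q z)) = reflI (piQ J Q) (Pi.single j z) := by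
  apply Subtype.ext
  apply LinearEquiv.ext
  intro φ
  funext k
  rw [piIso_apply, reflI_apply, polar_piQ, piQ, QuadraticMap.pi_apply_single]
  have hsum : ∑ i, QuadraticMap.polar Q ((Pi.single j z : J → U) i) (φ i) =
      QuadraticMap.polar Q z (φ j) := by
    rw [Fintype.sum_eq_single j]
    · rw [Pi.single_eq_same]
    · intro i hi
      rw [Pi.single_eq_of_ne hi, QuadraticMap.polar_zero_left]
  rw [hsum]
  by_cases hk : k = j
  · subst hk
    rw [Pi.mulSingle_eq_same, reflI_apply]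
    simp
  · rw [Pi.mulSingle_eq_of_ne hk]
    simp [Pi.single_eq_of_ne hk]

theorem signHom_piIso_mulSingle [FiniteDimensional F U] (h2 : (2 : F) ≠ 0)
    (Q : QuadraticForm F U) (hQ : Nondeg Q) {c : F} (hc : c ≠ 0) (j : J) (g : ↥(Isom Q)) :
    signHom (piQ J Q) c (piIso J Q (Pi.mulSingle j g)) = signHom Q c g := by
  have := hom_ext_refl h2 Q hQ
    ((signHom (piQ J Q) c).comp ((piIso J Q).comp (MonoidHom.mulSingle (fun _ : J => ↥(Isom Q)) j)))
    (signHom Q c) (by
      intro z hz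
      show signHom (piQ J Q) c (piIso J Q (Pi.mulSingle j (reflI Q z))) = _
      rw [piIso_mulSingle_reflI Q j z hz]
      apply signHom_reflI_eq h2 Q (piQ J Q) hc hz
      rw [piQ, QuadraticMap.pi_apply_single])
  exact DFunLike.congr_fun this g

end pi

theorem signHom_piIso_q2 [FiniteDimensional F U] (h2 : (2 : F) ≠ 0)
    (Q : QuadraticForm F U) (hQ : Nondeg Q) {c : F} (hc : c ≠ 0) (f : Q2 → ↥(Isom Q)) :
    signHom (piQ Q2 Q) c (piIso Q2 Q f) = signHom Q c (f 1) * signHom Q c (f sg) := by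
  have e : f = Pi.mulSingle 1 (f 1) * Pi.mulSingle sg (f sg) := by
    funext x
    rcases q2_cases x with rfl | rfl
    · simp [sg_ne_one.symm]
    · simp [sg_ne_one]
  conv_lhs => rw [e]
  rw [map_mul, map_mul, signHom_piIso_mulSingle h2 Q hQ hc, signHom_piIso_mulSingle h2 Q hQ hc]

section prod

variable {U₂ : Type*} [AddCommGroup U₂] [Module F U₂]

theorem prodIso_reflI_left (Q₁ : QuadraticForm F U) (Q₂ : QuadraticForm F U₂) (z : U) :
    prodIso Q₁ Q₂ (reflI Q₁ z, 1) = reflI (Q₁.prod Q₂) (z, 0) := by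
  apply Subtype.ext
  apply LinearEquiv.ext
  intro v
  rw [prodIso_apply, reflI_apply, reflI_apply, QuadraticMap.polar_prod, QuadraticMap.prod_apply]
  simp only [map_zero, add_zero, QuadraticMap.polar_zero_left]
  ext
  · simp
  · simp

theorem prodIso_reflI_right (Q₁ : QuadraticForm F U) (Q₂ : QuadraticForm F U₂) (z : U₂) :
    prodIso Q₁ Q₂ (1, reflI Q₂ z) = reflI (Q₁.prod Q₂) (0, z) := by
  apply Subtype.ext
  apply LinearEquiv.ext
  intro v
  rw [prodIso_apply, reflI_apply, reflI_apply, QuadraticMap.polar_prod, QuadraticMap.prod_apply]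
  simp only [map_zero, zero_add, QuadraticMap.polar_zero_left]
  ext
  · simp
  · simp

theorem signHom_prodIso [FiniteDimensional F U] [FiniteDimensional F U₂] (h2 : (2 : F) ≠ 0)
    (Q₁ : QuadraticForm F U) (Q₂ : QuadraticForm F U₂) (hQ₁ : Nondeg Q₁) (hQ₂ : Nondeg Q₂)
    {c : F} (hc : c ≠ 0) (g : ↥(Isom Q₁)) (h : ↥(Isom Q₂)) :
    signHom (Q₁.prod Q₂) c (prodIso Q₁ Q₂ (g, h)) = signHom Q₁ c g * signHom Q₂ c h := by
  have e : ((g, h) : ↥(Isom Q₁) × ↥(Isom Q₂)) = (g, 1) * (1, h) := by simp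
  rw [e, map_mul, map_mul]
  congr 1
  · have := hom_ext_refl h2 Q₁ hQ₁
      ((signHom (Q₁.prod Q₂) c).comp ((prodIso Q₁ Q₂).comp (MonoidHom.inl _ _)))
      (signHom Q₁ c) (by
        intro z hz
        show signHom (Q₁.prod Q₂) c (prodIso Q₁ Q₂ (reflI Q₁ z, 1)) = _
        rw [prodIso_reflI_left]
        apply signHom_reflI_eq h2 Q₁ (Q₁.prod Q₂) hc hz
        rw [QuadraticMap.prod_apply]; simp)
    exact DFunLike.congr_fun this g
  · have := hom_ext_refl h2 Q₂ hQ₂
      ((signHom (Q₁.prod Q₂) c).comp ((prodIso Q₁ Q₂).comp (MonoidHom.inr _ _)))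
      (signHom Q₂ c) (by
        intro z hz
        show signHom (Q₁.prod Q₂) c (prodIso Q₁ Q₂ (1, reflI Q₂ z)) = _
        rw [prodIso_reflI_right]
        apply signHom_reflI_eq h2 Q₂ (Q₁.prod Q₂) hc hz
        rw [QuadraticMap.prod_apply]; simp)
    exact DFunLike.congr_fun this h

end prod

end Cfsg.Agent.Helper1.OrS
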