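import Mathlib
import Cfsg.Agent.Helper1.OrSc

set_option autoImplicit false

/-!
The coordinate shift on `Z/2 → (J → W)`, `|J| = 2`, is killed by the sign characters: it equals
`A B A B` for two involutive isometries `A`, `B`.
-/

namespace Cfsg.Agent.Helper1.OrS

open Cfsg.Agent.Helper1.SylE Cfsg.Agent.Helper1.SylG Module
open Cfsg.Agent.Helper8.OrthOrder Cfsg.Agent.Helper8.QuadForm Cfsg.Agent.Helper8.Reflections
  Cfsg.Agent.Helper8.SpinorSign

universe u v w

variable {F : Type*} [Field F]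

theorem sum_q2 {M : Type*} [AddCommMonoid M] (g : Q2 → M) : ∑ x, g x = g 1 + g sg := by
  rw [univ_q2, Finset.sum_pair sg_ne_one.symm]

theorem sg_mul_sg_mul (a : Q2) : sg * (sg * a) = a := by
  rw [← mul_assoc, sg_mul_sg, one_mul]

/-- all sign characters vanish on the shifts -/
def SwapOK [Fintype F] {U : Type*} [AddCommGroup U] [Module F U] [FiniteDimensional F U]
    (Q : QuadraticForm F U) : Prop :=
  ∀ (c : F) (s : Q2), signHom (piQ Q2 Q) c (shiftIso Q s) = 1

section two

variable {W : Type*} [AddCommGroup W] [Module F W]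
variable {J : Type*} [Fintype J] [DecidableEq J] (j₀ j₁ : J)

theorem sum_two (h01 : j₀ ≠ j₁) (hJ : ∀ j : J, j = j₀ ∨ j = j₁) {M : Type*} [AddCommMonoid M]
    (g : J → M) : ∑ x, g x = g j₀ + g j₁ := by
  have : (Finset.univ : Finset J) = {j₀, j₁} := by
    ext j
    simp only [Finset.mem_univ, Finset.mem_insert, Finset.mem_singleton, true_iff]
    exact hJ j
  rw [this, Finset.sum_pair h01]

/-- swap the outer coordinates in the inner coordinate `j₀` only -/
def linA : (Q2 → J → W) →ₗ[F] (Q2 → J → W) where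
  toFun φ := fun a b => if b = j₀ then φ (sg * a) b else φ a b
  map_add' φ ψ := by
    funext a b
    by_cases hb : b = j₀
    · simp only [hb, if_true, Pi.add_apply]
    · simp only [hb, if_false, Pi.add_apply]
  map_smul' t φ := by
    funext a b
    by_cases hb : b = j₀
    · simp only [hb, if_true, Pi.smul_apply, RingHom.id_apply]
    · simp only [hb, if_false, Pi.smul_apply, RingHom.id_apply]

theorem linA_apply (φ : Q2 → J → W) (a : Q2) (b : J) :
    linA (F := F) j₀ φ a b = if b = j₀ then φ (sg * a) b else φ a b := rfl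

theorem linA_invol : Function.Involutive (linA (F := F) (W := W) j₀) := by
  intro φ
  funext a b
  rw [linA_apply]
  by_cases hb : b = j₀
  · rw [if_pos hb, linA_apply, if_pos hb, sg_mul_sg_mul]
  · rw [if_neg hb, linA_apply, if_neg hb]

/-- `A` as an isometry -/
noncomputable def isoA (h01 : j₀ ≠ j₁) (hJ : ∀ j : J, j = j₀ ∨ j = j₁) (Q : QuadraticForm F W) :
    ↥(Isom (piQ Q2 (piQ J Q))) :=
  ⟨LinearEquiv.ofInvolutive (linA (F := F) j₀) (linA_invol j₀), by
    intro φ
    rw [LinearEquiv.coe_ofInvolutive, piQ_apply, piQ_apply, sum_q2, sum_q2, piQ_apply, piQ_apply,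
      piQ_apply, piQ_apply, sum_two j₀ j₁ h01 hJ, sum_two j₀ j₁ h01 hJ, sum_two j₀ j₁ h01 hJ,
      sum_two j₀ j₁ h01 hJ]
    simp only [linA_apply, if_true, h01.symm, if_false, mul_one, sg_mul_sg]
    abel⟩

theorem isoA_apply (h01 : j₀ ≠ j₁) (hJ : ∀ j : J, j = j₀ ∨ j = j₁) (Q : QuadraticForm F W)
    (φ : Q2 → J → W) (a : Q2) (b : J) :
    ((isoA j₀ j₁ h01 hJ Q : ↥(Isom (piQ Q2 (piQ J Q)))) :
      (Q2 → J → W) ≃ₗ[F] (Q2 → J → W)) φ a b = if b = j₀ then φ (sg * a) b else φ a b := rfl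

/-- the inner swap -/
noncomputable def innerSwap (Q : QuadraticForm F W) : ↥(Isom (piQ J Q)) :=
  ⟨LinearEquiv.funCongrLeft F W (Equiv.swap j₀ j₁), by
    intro φ
    rw [piQ_apply, piQ_apply]
    exact Equiv.sum_comp (Equiv.swap j₀ j₁) (fun x => Q (φ x))⟩

theorem innerSwap_apply (Q : QuadraticForm F W) (φ : J → W) (b : J) :
    ((innerSwap j₀ j₁ Q : ↥(Isom (piQ J Q))) : (J → W) ≃ₗ[F] (J → W)) φ b =
      φ (Equiv.swap j₀ j₁ b) := rfl

theorem shift_eq_ABAB (h01 : j₀ ≠ j₁) (hJ : ∀ j : J, j = j₀ ∨ j = j₁) (Q : QuadraticForm F W) :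
    shiftIso (piQ J Q) sg =
      isoA j₀ j₁ h01 hJ Q * piIso Q2 (piQ J Q) (fun _ => innerSwap j₀ j₁ Q) *
        isoA j₀ j₁ h01 hJ Q * piIso Q2 (piQ J Q) (fun _ => innerSwap j₀ j₁ Q) := by
  apply Subtype.ext
  apply LinearEquiv.ext
  intro φ
  funext a b
  rw [shiftIso_apply, sg_inv]
  simp only [Subgroup.coe_mul, LinearEquiv.mul_apply]
  rw [isoA_apply]
  rcases hJ b with rfl | rfl
  · rw [if_pos rfl, piIso_apply, innerSwap_apply, Equiv.swap_apply_left, isoA_apply,
      if_neg h01.symm, piIso_apply, innerSwap_apply, Equiv.swap_apply_right]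
  · rw [if_neg h01.symm, piIso_apply, innerSwap_apply, Equiv.swap_apply_right, isoA_apply,
      if_pos rfl, piIso_apply, innerSwap_apply, Equiv.swap_apply_left]

theorem shiftIso_one {U : Type*} [AddCommGroup U] [Module F U] (Q : QuadraticForm F U) :
    shiftIso Q 1 = 1 := by
  apply Subtype.ext
  apply LinearEquiv.ext
  intro φ
  funext a
  rw [shiftIso_apply, inv_one, one_mul]
  rfl

theorem swapOK_pi [Fintype F] [FiniteDimensional F W] (h01 : j₀ ≠ j₁)
    (hJ : ∀ j : J, j = j₀ ∨ j = j₁) (Q : QuadraticForm F W) : SwapOK (piQ J Q) := by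
  intro c s
  rcases q2_cases s with rfl | rfl
  · rw [shiftIso_one, map_one]
  · rw [shift_eq_ABAB j₀ j₁ h01 hJ Q, map_mul, map_mul, map_mul]
    have h1 : ∀ x y : ℤˣ, x * y * x * y = 1 := by
      intro x y
      have hx : x * x = 1 := Int.units_mul_self x
      have hy : y * y = 1 := Int.units_mul_self y
      calc x * y * x * y = (x * x) * (y * y) := by
            rw [mul_assoc x y x, mul_comm y x, ← mul_assoc, mul_assoc]
        _ = 1 := by rw [hx, hy, one_mul]
    exact h1 _ _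

end two

end Cfsg.Agent.Helper1.OrS
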