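import Mathlib
import Cfsg.Agent.Helper1.OrSd

set_option autoImplicit false

/-!
Orthonormal bases: existence is preserved by the constructions, and implies nondegeneracy.
-/

namespace Cfsg.Agent.Helper1.OrS

open Cfsg.Agent.Helper1.SylE Cfsg.Agent.Helper1.SylG Module
open Cfsg.Agent.Helper8.OrthOrder Cfsg.Agent.Helper8.QuadForm

universe u v w

variable {F : Type*} [Field F] {U : Type*} [AddCommGroup U] [Module F U]

/-- existence of an orthonormal basis -/
def OrthoB (Q : QuadraticForm F U) : Prop :=
  ∃ (κ : Type) (_ : Fintype κ) (b : Basis κ F U), (∀ i, Q (b i) = 1) ∧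
    ∀ i j, i ≠ j → QuadraticMap.polar Q (b i) (b j) = 0

theorem OrthoB.nondeg (h2 : (2 : F) ≠ 0) {Q : QuadraticForm F U} (h : OrthoB Q) : Nondeg Q := by
  classical
  obtain ⟨κ, _, b, hb1, hb2⟩ := h
  intro v hv
  have hrepr : ∀ j, b.repr v j = 0 := by
    intro j
    have h1 := hv (b j)
    have h3 : QuadraticMap.polar Q v (b j) = b.repr v j * 2 := by
      conv_lhs => rw [← b.sum_repr v]
      have : QuadraticMap.polar Q (∑ i, b.repr v i • b i) (b j) =
          ∑ i, b.repr v i * QuadraticMap.polar Q (b i) (b j) := by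
        have hlin : ∀ w : U, QuadraticMap.polar Q w (b j) =
            (QuadraticMap.polarBilin Q).flip (b j) w := fun w => rfl
        rw [hlin, map_sum]
        apply Finset.sum_congr rfl
        intro i _
        rw [map_smul, smul_eq_mul]
        rfl
      rw [this, Finset.sum_eq_single j]
      · rw [polar_self', hb1, mul_one]
      · intro i _ hij
        rw [hb2 i j hij, mul_zero]
      · intro hj
        exact absurd (Finset.mem_univ j) hj
    rw [h3] at h1
    rcases mul_eq_zero.1 h1 with h | h
    · exact h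
    · exact absurd h h2
  have : b.repr v = 0 := by
    ext j
    rw [hrepr j]; rfl
  exact (LinearEquiv.map_eq_zero_iff b.repr).1 this

theorem OrthoB.finrank {Q : QuadraticForm F U} (h : OrthoB Q) : FiniteDimensional F U := by
  obtain ⟨κ, _, b, -, -⟩ := h
  exact Module.Finite.of_basis b

theorem OrthoB.pi {Q : QuadraticForm F U} {J : Type} [Fintype J] [DecidableEq J] (h : OrthoB Q) :
    OrthoB (piQ J Q) := by
  classical
  obtain ⟨κ, _, b, hb1, hb2⟩ := h
  refine ⟨Σ _ : J, κ, inferInstance, Pi.basis (fun _ : J => b), ?_, ?_⟩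
  · rintro ⟨j, i⟩
    rw [Pi.basis_apply, piQ, QuadraticMap.pi_apply_single]
    exact hb1 i
  · rintro ⟨j, i⟩ ⟨j', i'⟩ hne
    rw [Pi.basis_apply, Pi.basis_apply, polar_piQ]
    apply Finset.sum_eq_zero
    intro k _
    by_cases hkj : k = j
    · by_cases hkj' : k = j'
      · subst hkj
        subst hkj'
        simp only [Pi.single_eq_same]
        apply hb2
        intro hii
        apply hne
        rw [hii]
      · simp only [Pi.single_eq_of_ne hkj', QuadraticMap.polar_zero_right]
    · simp only [Pi.single_eq_of_ne hkj, QuadraticMap.polar_zero_left]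

theorem OrthoB.prod {U₂ : Type*} [AddCommGroup U₂] [Module F U₂] {Q₁ : QuadraticForm F U}
    {Q₂ : QuadraticForm F U₂} (h₁ : OrthoB Q₁) (h₂ : OrthoB Q₂) : OrthoB (Q₁.prod Q₂) := by
  classical
  obtain ⟨κ₁, _, b₁, ha1, ha2⟩ := h₁
  obtain ⟨κ₂, _, b₂, hc1, hc2⟩ := h₂
  refine ⟨κ₁ ⊕ κ₂, inferInstance, b₁.prod b₂, ?_, ?_⟩
  · rintro (i | i)
    · rw [QuadraticMap.prod_apply, Basis.prod_apply_inl_fst, Basis.prod_apply_inl_snd, map_zero,
        add_zero]
      exact ha1 i
    · rw [QuadraticMap.prod_apply, Basis.prod_apply_inr_fst, Basis.prod_apply_inr_snd, map_zero,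
        zero_add]
      exact hc1 i
  · rintro (i | i) (j | j) hne
    · rw [QuadraticMap.polar_prod, Basis.prod_apply_inl_fst, Basis.prod_apply_inl_snd,
        Basis.prod_apply_inl_fst, Basis.prod_apply_inl_snd, QuadraticMap.polar_zero_left, add_zero]
      exact ha2 i j (fun h => hne (by rw [h]))
    · rw [QuadraticMap.polar_prod, Basis.prod_apply_inl_fst, Basis.prod_apply_inl_snd,
        Basis.prod_apply_inr_fst, Basis.prod_apply_inr_snd, QuadraticMap.polar_zero_left,
        QuadraticMap.polar_zero_right, add_zero]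
    · rw [QuadraticMap.polar_prod, Basis.prod_apply_inr_fst, Basis.prod_apply_inr_snd,
        Basis.prod_apply_inl_fst, Basis.prod_apply_inl_snd, QuadraticMap.polar_zero_left,
        QuadraticMap.polar_zero_right, add_zero]
    · rw [QuadraticMap.polar_prod, Basis.prod_apply_inr_fst, Basis.prod_apply_inr_snd,
        Basis.prod_apply_inr_fst, Basis.prod_apply_inr_snd, QuadraticMap.polar_zero_left, zero_add]
      exact hc2 i j (fun h => hne (by rw [h]))

/-- the one-dimensional unit form -/
theorem OrthoB.sq : OrthoB (QuadraticMap.sq : QuadraticForm F F) := by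
  refine ⟨Unit, inferInstance, Basis.singleton Unit F, ?_, ?_⟩
  · intro i
    rw [Basis.singleton_apply, QuadraticMap.sq_apply, mul_one]
  · intro i j hij
    exact absurd (Subsingleton.elim i j) hij

end Cfsg.Agent.Helper1.OrS
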