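import Mathlib
import Cfsg.Agent.Helper4.SpWreathA
import Cfsg.Agent.Helper1.SylEa

set_option autoImplicit false

/-!
The wreath recursion: from a group `B` with `EProp`, acting faithfully on a standard symplectic
space of dimension `2|Y|`, we build a group of order `|B|^n * 2^(v₂(n!))` with `EProp` acting
faithfully on a standard symplectic space of dimension `2 n |Y|`.
-/

namespace Cfsg.Agent.Helper1.SylE

open Cfsg.Agent.Helper4.SpWreath RegularWreathProduct

universe u

variable {F : Type u} [Field F]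

theorem prod_step {T₁ : Type*} {T₂ : Type*} [Group T₁] [Group T₂] (Y : Type*) (Z : Type*)
    [Fintype Y] [Fintype Z]
    (τ₁ : T₁ →* Module.End F (Y ⊕ Y → F)) (h₁ : Function.Injective τ₁) (p₁ : Pres (om Y) τ₁)
    (τ₂ : T₂ →* Module.End F (Z ⊕ Z → F)) (h₂ : Function.Injective τ₂) (p₂ : Pres (om Z) τ₂) :
    ∃ τ' : T₁ × T₂ →* Module.End F ((Y ⊕ Z) ⊕ (Y ⊕ Z) → F),
      Function.Injective τ' ∧ Pres (om (Y ⊕ Z)) τ' := by
  let ψ : T₁ × T₂ →* Module.End F ((Y ⊕ Y → F) × (Z ⊕ Z → F)) :=
    { toFun := fun t => (τ₁ t.1).prodMap (τ₂ t.2)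
      map_one' := by
        simp only [Prod.fst_one, Prod.snd_one, map_one]
        rfl
      map_mul' := by
        intro s t
        simp only [Prod.fst_mul, Prod.snd_mul, map_mul]
        rfl }
  have hψ : Function.Injective ψ := by
    rintro ⟨s₁, s₂⟩ ⟨t₁, t₂⟩ hst
    have e1 : τ₁ s₁ = τ₁ t₁ := by
      refine LinearMap.ext fun u => ?_
      have := LinearMap.congr_fun hst (u, 0)
      exact congrArg Prod.fst this
    have e2 : τ₂ s₂ = τ₂ t₂ := by
      refine LinearMap.ext fun u => ?_
      have := LinearMap.congr_fun hst (0, u)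
      exact congrArg Prod.snd this
    rw [h₁ e1, h₂ e2]
  refine transport (fun p p' : (Y ⊕ Y → F) × (Z ⊕ Z → F) => om Y p.1 p'.1 + om Z p.2 p'.2)
    ψ hψ ?_ (Y ⊕ Z) (lam Y Z) (fun p p' => (om_lam Y Z p p').symm)
  intro t p p'
  show om Y (τ₁ t.1 p.1) (τ₁ t.1 p'.1) + om Z (τ₂ t.2 p.2) (τ₂ t.2 p'.2) = _
  rw [p₁, p₂]

theorem card_zmod2 : Nat.card (Multiplicative (ZMod 2)) = 2 := by
  rw [Nat.card_eq_fintype_card, Fintype.card_multiplicative, ZMod.card]

/-- the wreath recursion -/
theorem claim : ∀ (n : ℕ) (B : Type u) (_ : Group B) (_ : Finite B) (Y : Type) (_ : Fintype Y)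
    (_ : Nonempty Y) (τ : B →* Module.End F (Y ⊕ Y → F)), Function.Injective τ →
    Pres (om Y) τ → EProp B →
    ∃ (P : Type u) (_ : Group P) (_ : Finite P), EProp P ∧
      Nat.card P = Nat.card B ^ n * 2 ^ (padicValNat 2 n.factorial) ∧
      ∃ (Z : Type) (_ : Fintype Z) (τ' : P →* Module.End F (Z ⊕ Z → F)),
        Function.Injective τ' ∧ Pres (om Z) τ' ∧ Fintype.card Z = n * Fintype.card Y := by
  intro n
  induction n using Nat.strong_induction_on with
  | _ n ih =>
  intro B _ _ Y _ _ τ hτ hp hE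
  rcases Nat.eq_zero_or_pos n with rfl | hn
  · refine ⟨PUnit, inferInstance, inferInstance, EProp.punit, ?_, Empty, inferInstance, 1, ?_, ?_, ?_⟩
    · simp
    · intro a b _; exact Subsingleton.elim _ _
    · intro t v w
      rfl
    · simp
  · -- the doubled group
    obtain ⟨τ₂, hτ₂, hp₂⟩ := wreath_step (Multiplicative (ZMod 2)) Y τ hτ hp
    have hE₂ : EProp (B ≀ᵣ Multiplicative (ZMod 2)) := EProp.wreath hE EProp.zmod2
    have hcard₂ : Nat.card (B ≀ᵣ Multiplicative (ZMod 2)) = Nat.card B ^ 2 * 2 := by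
      rw [RegularWreathProduct.card, card_zmod2]
    have hY₂ : Fintype.card (Multiplicative (ZMod 2) × Y) = 2 * Fintype.card Y := by
      rw [Fintype.card_prod, Fintype.card_multiplicative, ZMod.card]
    have hm : n / 2 < n := Nat.div_lt_self hn one_lt_two
    obtain ⟨P', i1, i2, hEP', hcP', Z', i3, τ', hτ', hp', hZ'⟩ :=
      ih (n / 2) hm (B ≀ᵣ Multiplicative (ZMod 2)) inferInstance inferInstance
        (Multiplicative (ZMod 2) × Y) inferInstance inferInstance τ₂ hτ₂ hp₂ hE₂
    haveI : Fact (Nat.Prime 2) := ⟨Nat.prime_two⟩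
    rcases Nat.mod_two_eq_zero_or_one n with h0 | h1
    · -- even
      have hn2 : n = 2 * (n / 2) := by omega
      refine ⟨P', i1, i2, hEP', ?_, Z', i3, τ', hτ', hp', ?_⟩
      · rw [hcP', hcard₂]
        have hv : padicValNat 2 n.factorial = padicValNat 2 (n / 2).factorial + n / 2 := by
          conv_lhs => rw [hn2]
          exact padicValNat_factorial_mul (p := 2) (n / 2)
        rw [hv, mul_pow, ← pow_mul, pow_add]
        conv_rhs => rw [hn2]
        have : 2 * (2 * (n / 2) / 2) = 2 * (n / 2) := by omega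
        rw [Nat.mul_div_cancel_left _ (by norm_num : 0 < 2)]
        ring
      · rw [hZ', hY₂]
        conv_rhs => rw [hn2]
        ring
    · -- odd
      have hn2 : n = 2 * (n / 2) + 1 := by omega
      obtain ⟨τ₃, hτ₃, hp₃⟩ := prod_step Z' Y τ' hτ' hp' τ hτ hp
      refine ⟨P' × B, inferInstance, inferInstance, EProp.prod hEP' hE, ?_, Z' ⊕ Y, inferInstance,
        τ₃, hτ₃, hp₃, ?_⟩
      · rw [Nat.card_prod, hcP', hcard₂]
        have hv : padicValNat 2 n.factorial = padicValNat 2 (n / 2).factorial + n / 2 := by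
          conv_lhs => rw [hn2]
          rw [padicValNat_factorial_mul_add (p := 2) (n / 2) (by norm_num : 1 < 2)]
          exact padicValNat_factorial_mul (p := 2) (n / 2)
        rw [hv, mul_pow, ← pow_mul, pow_add]
        conv_rhs => rw [hn2]
        rw [pow_succ]
        have : (2 * (n / 2) + 1) / 2 = n / 2 := by omega
        rw [this]
        ring
      · rw [Fintype.card_sum, hZ', hY₂]
        conv_rhs => rw [hn2]
        ring

end Cfsg.Agent.Helper1.SylE
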