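import Mathlib
import Cfsg.Agent.Helper1.OrSa
import Cfsg.Agent.Helper1.OrSe
import Cfsg.Agent.Helper1.SylEb

set_option autoImplicit false

/-!
The orthogonal wreath recursion.
-/

namespace Cfsg.Agent.Helper1.OrS

open Cfsg.Agent.Helper1.SylE Cfsg.Agent.Helper1.SylG Module RegularWreathProduct
open Cfsg.Agent.Helper8.OrthOrder Cfsg.Agent.Helper8.QuadForm Cfsg.Agent.Helper8.SpinorSign

universe u v w

variable {F : Type u} [Field F] [Fintype F]

/-- the family of sign characters -/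
noncomputable def Th {U : Type*} [AddCommGroup U] [Module F U] [FiniteDimensional F U]
    {Sx : Type*} (c : Sx → F) (Q : QuadraticForm F U) : ↥(Isom Q) →* (Sx → ℤˣ) :=
  MonoidHom.pi (fun s => signHom Q (c s))

theorem Th_apply {U : Type*} [AddCommGroup U] [Module F U] [FiniteDimensional F U]
    {Sx : Type*} (c : Sx → F) (Q : QuadraticForm F U) (g : ↥(Isom Q)) (s : Sx) :
    Th c Q g s = signHom Q (c s) g := rfl

theorem exp_two {Sx : Type*} (a : Sx → ℤˣ) : a * a = 1 := by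
  funext s
  exact Int.units_mul_self (a s)

/-- the invariant of the recursion -/
structure OGood {U : Type*} [AddCommGroup U] [Module F U] [FiniteDimensional F U]
    {Sx : Type*} (c : Sx → F) {P : Type*} [Group P] (Q : QuadraticForm F U)
    (τ : P →* ↥(Isom Q)) : Prop where
  inj : Function.Injective τ
  inv : Inv ((Th c Q).comp τ)

section steps

variable {U : Type*} [AddCommGroup U] [Module F U] [FiniteDimensional F U]
  {Sx : Type*} (c : Sx → F) {P : Type*} [Group P]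

theorem OGood.wreath [Nontrivial U] (h2 : (2 : F) ≠ 0) (hc : ∀ s, c s ≠ 0)
    {Q : QuadraticForm F U} {τ : P →* ↥(Isom Q)} (hB : OrthoB Q) (hS : SwapOK Q)
    (h : OGood c Q τ) :
    OGood c (piQ Q2 Q) (wrI Q τ) ∧ InvP ((Th c (piQ Q2 Q)).comp (wrI Q τ)) ∧
      Set.range ((Th c (piQ Q2 Q)).comp (wrI Q τ)) = Set.range ((Th c Q).comp τ) := by
  have hnd : Nondeg Q := hB.nondeg h2
  obtain ⟨h1, h3⟩ := wreath_InvP (A := Sx → ℤˣ) exp_two ((Th c Q).comp τ)
    ((Th c (piQ Q2 Q)).comp (wrI Q τ))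
    (by
      intro f
      funext s
      rw [MonoidHom.comp_apply, wrI_base, Th_apply, signHom_piIso_q2 h2 Q hnd (hc s),
        Finset.prod_apply, prod_q2]
      rfl)
    (by
      intro s'
      funext s
      rw [MonoidHom.comp_apply, wrI_inl, Th_apply, hS (c s) s']
      rfl)
    h.inv
  exact ⟨⟨wrI_injective Q τ h.inj, h1.1⟩, h1, h3⟩

theorem OGood.prod (h2 : (2 : F) ≠ 0) (hc : ∀ s, c s ≠ 0)
    {U₂ : Type*} [AddCommGroup U₂] [Module F U₂] [FiniteDimensional F U₂] {P₂ : Type*} [Group P₂]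
    {Q₁ : QuadraticForm F U} {Q₂ : QuadraticForm F U₂} {τ₁ : P →* ↥(Isom Q₁)}
    {τ₂ : P₂ →* ↥(Isom Q₂)} (hB₁ : OrthoB Q₁) (hB₂ : OrthoB Q₂)
    (h₁ : OGood c Q₁ τ₁) (h₂ : OGood c Q₂ τ₂) (hP : InvP ((Th c Q₁).comp τ₁))
    (hr : Set.range ((Th c Q₁).comp τ₁) = Set.range ((Th c Q₂).comp τ₂)) :
    OGood c (Q₁.prod Q₂) (prI Q₁ Q₂ τ₁ τ₂) ∧ InvP ((Th c (Q₁.prod Q₂)).comp (prI Q₁ Q₂ τ₁ τ₂)) ∧
      Set.range ((Th c (Q₁.prod Q₂)).comp (prI Q₁ Q₂ τ₁ τ₂)) =
        Set.range ((Th c Q₁).comp τ₁) := by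
  obtain ⟨h1, h3⟩ := prod_InvP (A := Sx → ℤˣ) exp_two ((Th c Q₁).comp τ₁) ((Th c Q₂).comp τ₂)
    ((Th c (Q₁.prod Q₂)).comp (prI Q₁ Q₂ τ₁ τ₂))
    (by
      intro x y
      funext s
      rw [MonoidHom.comp_apply, prI_apply, Th_apply,
        signHom_prodIso h2 Q₁ Q₂ (hB₁.nondeg h2) (hB₂.nondeg h2) (hc s)]
      rfl)
    hr hP h₂.inv
  exact ⟨⟨prI_injective Q₁ Q₂ τ₁ τ₂ h₁.inj h₂.inj, h1.1⟩, h1, h3⟩

end steps

/-- the recursion -/
theorem claimO (h2 : (2 : F) ≠ 0) {Sx : Type*} (c : Sx → F) (hc : ∀ s, c s ≠ 0) :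
    ∀ (n : ℕ), 1 ≤ n → ∀ (B : Type u) (_ : Group B) (_ : Finite B)
    (U : Type u) (_ : AddCommGroup U) (_ : Module F U) (_ : FiniteDimensional F U)
    (_ : Nontrivial U) (Q : QuadraticForm F U) (τ : B →* ↥(Isom Q)), OrthoB Q → SwapOK Q →
    OGood c Q τ →
    ∃ (P : Type u) (_ : Group P) (_ : Finite P) (U' : Type u) (_ : AddCommGroup U')
      (_ : Module F U') (_ : FiniteDimensional F U') (Q' : QuadraticForm F U')
      (τ' : P →* ↥(Isom Q')),
      OrthoB Q' ∧ OGood c Q' τ' ∧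
      ((2 ≤ n ∨ InvP ((Th c Q).comp τ)) → InvP ((Th c Q').comp τ')) ∧
      Set.range ((Th c Q').comp τ') = Set.range ((Th c Q).comp τ) ∧
      finrank F U' = n * finrank F U ∧
      Nat.card P = Nat.card B ^ n * 2 ^ (padicValNat 2 n.factorial) := by
  intro n
  induction n using Nat.strong_induction_on with
  | _ n ih =>
  intro hn B _ _ U _ _ _ _ Q τ hB hS hG
  rcases Nat.lt_or_ge n 2 with hlt | hge
  · have hn1 : n = 1 := by omega
    subst hn1
    refine ⟨B, inferInstance, inferInstance, U, inferInstance, inferInstance, inferInstance, Q, τ,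
      hB, hG, ?_, rfl, by simp, by simp⟩
    rintro (h | h)
    · omega
    · exact h
  · obtain ⟨hG₂, hP₂, hr₂⟩ := hG.wreath c h2 hc hB hS
    have hB₂ : OrthoB (piQ Q2 Q) := hB.pi
    have hS₂ : SwapOK (piQ Q2 Q) := swapOK_pi (1 : Q2) sg sg_ne_one.symm q2_cases Q
    have hfr₂ : finrank F (Q2 → U) = 2 * finrank F U := by
      rw [Module.finrank_pi_fintype]
      simp only [Finset.sum_const, Finset.card_univ, smul_eq_mul]
      rw [← Nat.card_eq_fintype_card, card_zmod2]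
    have hcard₂ : Nat.card (B ≀ᵣ Q2) = Nat.card B ^ 2 * 2 := by
      rw [RegularWreathProduct.card, card_zmod2]
    have hm : n / 2 < n := Nat.div_lt_self (by omega) one_lt_two
    have hm1 : 1 ≤ n / 2 := by omega
    obtain ⟨P', i1, i2, U', i3, i4, i5, Q', τ', hB', hG', hP', hr', hfr', hcP'⟩ :=
      ih (n / 2) hm hm1 (B ≀ᵣ Q2) inferInstance inferInstance (Q2 → U) inferInstance inferInstance
        inferInstance inferInstance (piQ Q2 Q) (wrI Q τ) hB₂ hS₂ hG₂
    have hP'' : InvP ((Th c Q').comp τ') := hP' (Or.inr hP₂)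
    haveI : Fact (Nat.Prime 2) := ⟨Nat.prime_two⟩
    rcases Nat.mod_two_eq_zero_or_one n with h0 | h1
    · -- even
      have hn2 : n = 2 * (n / 2) := by omega
      refine ⟨P', i1, i2, U', i3, i4, i5, Q', τ', hB', hG', fun _ => hP'', hr'.trans hr₂, ?_, ?_⟩
      · rw [hfr', hfr₂]
        conv_rhs => rw [hn2]
        ring
      · rw [hcP', hcard₂]
        have hv : padicValNat 2 n.factorial = padicValNat 2 (n / 2).factorial + n / 2 := by
          conv_lhs => rw [hn2]
          exact padicValNat_factorial_mul (p := 2) (n / 2)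
        rw [hv, mul_pow, ← pow_mul, pow_add]
        conv_rhs => rw [hn2]
        rw [Nat.mul_div_cancel_left _ (by norm_num : 0 < 2)]
        ring
    · -- odd
      have hn2 : n = 2 * (n / 2) + 1 := by omega
      obtain ⟨hG₃, hP₃, hr₃⟩ := OGood.prod c h2 hc hB' hB hG' hG hP'' (hr'.trans hr₂)
      refine ⟨P' × B, inferInstance, inferInstance, U' × U, inferInstance, inferInstance,
        inferInstance, Q'.prod Q, prI Q' Q τ' τ, hB'.prod hB, hG₃, fun _ => hP₃,
        hr₃.trans (hr'.trans hr₂), ?_, ?_⟩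
      · rw [Module.finrank_prod, hfr', hfr₂]
        conv_rhs => rw [hn2]
        ring
      · rw [Nat.card_prod, hcP', hcard₂]
        have hv : padicValNat 2 n.factorial = padicValNat 2 (n / 2).factorial + n / 2 := by
          conv_lhs => rw [hn2]
          rw [padicValNat_factorial_mul_add (p := 2) (n / 2) (by norm_num : 1 < 2)]
          exact padicValNat_factorial_mul (p := 2) (n / 2)
        rw [hv, mul_pow, ← pow_mul, pow_add]
        conv_rhs => rw [hn2]
        rw [pow_succ]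
        have : (2 * (n / 2) + 1) / 2 = n / 2 := by omega
        rw [this]
        ring

end Cfsg.Agent.Helper1.OrS
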