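import Mathlib
import Cfsg.Agent.Helper1.SylGa

set_option autoImplicit false

/-!
Abstract "torus plus inverting involution" lemma (dihedral type): from a finite commutative
subgroup `C` and an involution `r ∉ C` inverting `C` we obtain a `2`-subgroup `D ∋ r` of order at
least twice the `2`-part of `|C|`, in which every element is an involution or satisfies
`d ^ 2 = [d, r]`.
-/

namespace Cfsg.Agent.Helper1.OrS

open Cfsg.Agent.Helper1.SylE Cfsg.Agent.Helper1.SylG
open scoped commutatorElement

universe u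

variable {G : Type u} [Group G]

theorem exists_dihedral_like [Finite G] (C : Subgroup G)
    (hcomm : ∀ a ∈ C, ∀ b ∈ C, a * b = b * a) (r : G) (hr2 : r * r = 1) (hrC : r ∉ C)
    (hinv : ∀ c ∈ C, r * c * r = c⁻¹) :
    ∃ D : Subgroup G, IsPGroup 2 D ∧
      2 * 2 ^ (padicValNat 2 (Nat.card C)) ≤ Nat.card D ∧
      D ≤ Subgroup.closure ((C : Set G) ∪ {r}) ∧ r ∈ D ∧
      ∀ d ∈ D, d * d = 1 ∨ d ^ 2 = ⁅d, r⁆ := by
  classical
  haveI : Fact (Nat.Prime 2) := ⟨Nat.prime_two⟩
  have hrinv : r⁻¹ = r := inv_eq_of_mul_eq_one_right hr2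
  -- the `2`-torsion subgroup of `C`
  let C₂ : Subgroup G :=
    { carrier := {c | c ∈ C ∧ ∃ k : ℕ, c ^ (2 ^ k) = 1}
      one_mem' := ⟨C.one_mem, 0, by simp⟩
      mul_mem' := by
        rintro a b ⟨haC, k, hk⟩ ⟨hbC, l, hl⟩
        refine ⟨C.mul_mem haC hbC, k + l, ?_⟩
        have hc : Commute a b := hcomm a haC b hbC
        rw [hc.mul_pow, pow_add, pow_mul, hk, one_pow, one_mul, mul_comm (2 ^ k), pow_mul, hl,
          one_pow]
      inv_mem' := by
        rintro a ⟨haC, k, hk⟩
        exact ⟨C.inv_mem haC, k, by rw [inv_pow, hk, inv_one]⟩ }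
  have hC₂C : C₂ ≤ C := fun c hc => hc.1
  have hC₂p : IsPGroup 2 C₂ := by
    rintro ⟨g, hgC, k, hk⟩
    exact ⟨k, Subtype.ext (by simpa using hk)⟩
  have hC₂card : 2 ^ (padicValNat 2 (Nat.card C)) ≤ Nat.card C₂ := by
    obtain ⟨P, -⟩ := (IsPGroup.of_bot : IsPGroup 2 (⊥ : Subgroup C)).exists_le_sylow
    have hPle : (P : Subgroup C).map C.subtype ≤ C₂ := by
      rintro _ ⟨x, hx, rfl⟩
      obtain ⟨k, hk⟩ := P.2 ⟨x, hx⟩
      refine ⟨x.2, k, ?_⟩
      have := congrArg (fun t : (P : Subgroup C) => ((t : C) : G)) hk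
      simpa using this
    have h1 : Nat.card ((P : Subgroup C).map C.subtype) = 2 ^ (padicValNat 2 (Nat.card C)) := by
      rw [Subgroup.card_map_of_injective C.subtype_injective, Sylow.card_eq_multiplicity,
        Nat.factorization_def _ Nat.prime_two]
    rw [← h1]
    exact Subgroup.card_le_of_le hPle
  -- `r` inverts `C₂`
  have hconj : ∀ x ∈ C₂, r * x * r ∈ C₂ := by
    intro x hx
    rw [hinv x (hC₂C hx)]
    exact C₂.inv_mem hx
  have hzr : IsPGroup 2 (Subgroup.zpowers r) := by
    intro x
    obtain ⟨k, hk⟩ := Subgroup.mem_zpowers_iff.1 x.2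
    refine ⟨1, ?_⟩
    apply Subtype.ext
    simp only [Subgroup.coe_pow, Subgroup.coe_one, ← hk, pow_one]
    rw [← zpow_natCast, ← zpow_mul, mul_comm, zpow_mul, zpow_natCast, pow_two, hr2, one_zpow]
  have hnormal : Subgroup.zpowers r ≤ Subgroup.normalizer (C₂ : Set G) := by
    rw [Subgroup.zpowers_le, Subgroup.mem_normalizer_iff]
    intro x
    rw [hrinv]
    constructor
    · exact hconj x
    · intro hx
      have := hconj _ hx
      have e : r * (r * x * r) * r = x := by
        calc r * (r * x * r) * r = (r * r) * x * (r * r) := by group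
          _ = x := by rw [hr2, one_mul, mul_one]
      rwa [e] at this
  have hDsup : Subgroup.closure ((C₂ : Set G) ∪ {r}) = C₂ ⊔ Subgroup.zpowers r := by
    rw [Subgroup.closure_union, Subgroup.closure_eq, Subgroup.zpowers_eq_closure]
  have hDp : IsPGroup 2 (Subgroup.closure ((C₂ : Set G) ∪ {r})) := by
    rw [hDsup]
    exact IsPGroup.to_sup_of_normal_left' hC₂p hzr hnormal
  have hrD : r ∈ Subgroup.closure ((C₂ : Set G) ∪ {r}) := Subgroup.subset_closure (Or.inr rfl)
  have hC₂D : C₂ ≤ Subgroup.closure ((C₂ : Set G) ∪ {r}) := by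
    rw [hDsup]; exact le_sup_left
  -- the shape of the elements
  have hshape : ∀ d ∈ Subgroup.closure ((C₂ : Set G) ∪ {r}), d ∈ C₂ ∨ d * r ∈ C₂ := by
    intro d hd
    induction hd using Subgroup.closure_induction with
    | mem x hx =>
      rcases hx with hx | hx
      · exact Or.inl hx
      · rw [Set.mem_singleton_iff] at hx
        right
        rw [hx, hr2]
        exact C₂.one_mem
    | one => exact Or.inl C₂.one_mem
    | mul a b _ _ ha hb =>
      rcases ha with ha | ha <;> rcases hb with hb | hb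
      · exact Or.inl (C₂.mul_mem ha hb)
      · right
        rw [mul_assoc]
        exact C₂.mul_mem ha hb
      · right
        have e : a * b * r = (a * r) * (r * b * r) := by
          calc a * b * r = a * (r * r) * b * r := by rw [hr2, mul_one]
            _ = (a * r) * (r * b * r) := by group
        rw [e]
        exact C₂.mul_mem ha (hconj b hb)
      · left
        have e : a * b = (a * r) * (r * (b * r) * r) := by
          calc a * b = a * (r * r) * b * (r * r) := by rw [hr2, mul_one, mul_one]
            _ = (a * r) * (r * (b * r) * r) := by group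
        rw [e]
        exact C₂.mul_mem ha (hconj _ hb)
    | inv a _ ha =>
      rcases ha with ha | ha
      · exact Or.inl (C₂.inv_mem ha)
      · right
        have h1 : r * a⁻¹ ∈ C₂ := by
          have := C₂.inv_mem ha
          rwa [mul_inv_rev, hrinv] at this
        have e : a⁻¹ * r = r * (r * a⁻¹) * r := by
          calc a⁻¹ * r = (r * r) * a⁻¹ * r := by rw [hr2, one_mul]
            _ = r * (r * a⁻¹) * r := by group
        rw [e]
        exact hconj _ h1
  refine ⟨Subgroup.closure ((C₂ : Set G) ∪ {r}), hDp, ?_, ?_, hrD, ?_⟩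
  · -- the order
    have hdvd : Nat.card C₂ ∣ Nat.card ↥(Subgroup.closure ((C₂ : Set G) ∪ {r})) :=
      Subgroup.card_dvd_of_le hC₂D
    obtain ⟨k, hk⟩ := hdvd
    have hpos : 0 < Nat.card ↥(Subgroup.closure ((C₂ : Set G) ∪ {r})) := Nat.card_pos
    have hk1 : k ≠ 1 := by
      intro h1
      rw [h1, mul_one] at hk
      have heq : C₂ = Subgroup.closure ((C₂ : Set G) ∪ {r}) :=
        Subgroup.eq_of_le_of_card_ge hC₂D hk.le
      exact hrC (hC₂C (heq ▸ hrD))
    have hk0 : k ≠ 0 := by
      intro h0; rw [h0, mul_zero] at hk; omega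
    rw [hk, mul_comm]
    exact Nat.mul_le_mul hC₂card (by omega)
  · apply Subgroup.closure_mono
    apply Set.union_subset_union_left
    exact hC₂C
  · intro d hd
    rcases hshape d hd with h | h
    · right
      have h1 : r * d⁻¹ * r = d := by
        rw [hinv d⁻¹ (C.inv_mem (hC₂C h)), inv_inv]
      rw [commutatorElement_def, hrinv, mul_assoc, mul_assoc, ← mul_assoc r, h1, pow_two]
    · left
      have h1 : r * (d * r) * r = (d * r)⁻¹ := hinv _ (hC₂C h)
      have e : d * d = (d * r) * (r * (d * r) * r) := by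
        calc d * d = d * (r * r) * d * (r * r) := by rw [hr2, mul_one, mul_one]
          _ = (d * r) * (r * (d * r) * r) := by group
      rw [e, h1, mul_inv_cancel]

/-- the dihedral property gives the weak invariant for every character -/
theorem Inv_of_dihedral {P : Type*} [Group P] {A : Type*} [CommGroup A] (Δ : P →* A) (r : P)
    (h : ∀ d : P, d * d = 1 ∨ d ^ 2 = ⁅d, r⁆) :
    EProp P ∧ ∀ k ∈ Δ.ker, k ^ 2 ∈ ⁅Δ.ker, (⊤ : Subgroup P)⁆ := by
  constructor
  · intro d
    rcases h d with h1 | h1
    · rw [pow_two, h1]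
      exact Subgroup.one_mem _
    · rw [h1]
      exact Subgroup.commutator_mem_commutator (Subgroup.mem_top d) (Subgroup.mem_top r)
  · intro k hk
    rcases h k with h1 | h1
    · rw [pow_two, h1]
      exact Subgroup.one_mem _
    · rw [h1]
      exact Subgroup.commutator_mem_commutator hk (Subgroup.mem_top r)

end Cfsg.Agent.Helper1.OrS
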