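import Mathlib
import Cfsg.Agent.Helper1.SylEa

set_option autoImplicit false

/-!
Abstract "torus plus inverting element" lemma: from a finite commutative subgroup `C`, an element
`w` inverting `C` and an element `c₄ ∈ C` of order four with `c₄² = w²` we obtain a `2`-subgroup
`D` with `EProp` and order at least twice the `2`-part of `|C|`.
-/

namespace Cfsg.Agent.Helper1.SylE

open scoped commutatorElement

universe u

variable {G : Type u} [Group G]

theorem exists_quaternion_like [Finite G] (C : Subgroup G)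
    (hcomm : ∀ a ∈ C, ∀ b ∈ C, a * b = b * a) (w : G)
    (hw : ∀ c ∈ C, w * c * w⁻¹ = c⁻¹) (c₄ : G) (hc₄ : c₄ ∈ C) (h4 : c₄ ^ 4 = 1)
    (hsq : c₄ ^ 2 = w ^ 2) (hne : c₄ ^ 2 ≠ 1) :
    ∃ D : Subgroup G, IsPGroup 2 D ∧ EProp D ∧
      2 * 2 ^ (padicValNat 2 (Nat.card C)) ≤ Nat.card D := by
  classical
  haveI : Fact (Nat.Prime 2) := ⟨Nat.prime_two⟩
  -- a Sylow `2`-subgroup of `C` containing `c₄`
  have hz : IsPGroup 2 (Subgroup.zpowers (⟨c₄, hc₄⟩ : C)) := by
    apply IsPGroup.of_card (n := 2)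
    rw [Nat.card_zpowers]
    have h1 : (⟨c₄, hc₄⟩ : C) ^ 4 = 1 := Subtype.ext (by simpa using h4)
    have h2 : (⟨c₄, hc₄⟩ : C) ^ 2 ≠ 1 := by
      intro h; exact hne (by simpa using congrArg Subtype.val h)
    have := orderOf_eq_prime_pow (p := 2) (n := 1) (x := (⟨c₄, hc₄⟩ : C))
      (by simpa using h2) (by simpa using h1)
    simpa using this
  obtain ⟨P, hP⟩ := hz.exists_le_sylow
  set C₂ : Subgroup G := (P : Subgroup C).map C.subtype with hC₂
  have hC₂C : C₂ ≤ C := Subgroup.map_subtype_le _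
  have hc₄C₂ : c₄ ∈ C₂ := ⟨⟨c₄, hc₄⟩, hP (Subgroup.mem_zpowers _), rfl⟩
  have hC₂p : IsPGroup 2 C₂ := P.2.map _
  have hC₂card : Nat.card C₂ = 2 ^ (padicValNat 2 (Nat.card C)) := by
    rw [hC₂, Subgroup.card_map_of_injective C.subtype_injective, Sylow.card_eq_multiplicity,
      Nat.factorization_def _ Nat.prime_two]
  -- `w` is a `2`-element normalizing `C₂`
  have hw4 : w ^ 4 = 1 := by
    have : w ^ 4 = (w ^ 2) ^ 2 := by rw [← pow_mul]
    rw [this, ← hsq, ← pow_mul]; exact h4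
  have hzw : IsPGroup 2 (Subgroup.zpowers w) := by
    intro x
    obtain ⟨k, hk⟩ := Subgroup.mem_zpowers_iff.1 x.2
    refine ⟨2, ?_⟩
    apply Subtype.ext
    simp only [Subgroup.coe_pow, Subgroup.coe_one, ← hk]
    rw [← zpow_natCast, ← zpow_mul, mul_comm, zpow_mul, zpow_natCast]
    norm_num
    rw [hw4, one_zpow]
  have hnorm : Subgroup.zpowers w ≤ Subgroup.normalizer (C₂ : Set G) := by
    rw [Subgroup.zpowers_le]
    rw [Subgroup.mem_normalizer_iff]
    intro x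
    constructor
    · intro hx
      rw [hw x (hC₂C hx)]
      exact Subgroup.inv_mem _ hx
    · intro hx
      have h1 : w * x * w⁻¹ ∈ C := hC₂C hx
      have hxC : x ∈ C := by
        -- `x = w⁻¹ (w x w⁻¹) w` and `w⁻¹ c w = c⁻¹` too
        have h2 : w * (w * x * w⁻¹) * w⁻¹ = (w * x * w⁻¹)⁻¹ := hw _ h1
        have h3 : w ^ 2 ∈ C := hsq ▸ Subgroup.pow_mem _ hc₄ 2
        have h4' : x = (w ^ 2)⁻¹ * (w * (w * x * w⁻¹) * w⁻¹) * w ^ 2 := by
          rw [pow_two]; group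
        rw [h4', h2]
        exact Subgroup.mul_mem _ (Subgroup.mul_mem _ (Subgroup.inv_mem _ h3)
          (Subgroup.inv_mem _ h1)) h3
      have h5 : w * x * w⁻¹ = x⁻¹ := hw x hxC
      rw [h5] at hx
      simpa using Subgroup.inv_mem _ hx
  have hDsup : Subgroup.closure ((C₂ : Set G) ∪ {w}) = C₂ ⊔ Subgroup.zpowers w := by
    rw [Subgroup.closure_union, Subgroup.closure_eq, Subgroup.zpowers_eq_closure]
  have hDp : IsPGroup 2 (Subgroup.closure ((C₂ : Set G) ∪ {w})) := by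
    rw [hDsup]
    exact IsPGroup.to_sup_of_normal_left' hC₂p hzw hnorm
  have hwD : w ∈ Subgroup.closure ((C₂ : Set G) ∪ {w}) := Subgroup.subset_closure (Or.inr rfl)
  have hC₂D : C₂ ≤ Subgroup.closure ((C₂ : Set G) ∪ {w}) := by
    rw [hDsup]; exact le_sup_left
  -- `w ∉ C`
  have hwC : w ∉ C := by
    intro hwC
    have h1 : w * c₄ * w⁻¹ = c₄⁻¹ := hw c₄ hc₄
    have h2 : w * c₄ = c₄ * w := hcomm w hwC c₄ hc₄
    rw [h2, mul_inv_cancel_right] at h1
    apply hne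
    rw [pow_two]
    nth_rewrite 2 [h1]
    exact mul_inv_cancel _
  refine ⟨Subgroup.closure ((C₂ : Set G) ∪ {w}), hDp, ?_, ?_⟩
  · -- `EProp`
    apply EProp.of_closure _ Subgroup.closure_closure_coe_preimage
    rintro ⟨s, hsD⟩ hs
    have hcm : ∀ u v : ↥(Subgroup.closure ((C₂ : Set G) ∪ {w})), ⁅u, v⁆ ∈
        commutator ↥(Subgroup.closure ((C₂ : Set G) ∪ {w})) := by
      intro u v
      rw [commutator_def]
      exact Subgroup.commutator_mem_commutator (Subgroup.mem_top _) (Subgroup.mem_top _)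
    have hs' : s ∈ (C₂ : Set G) ∪ {w} := hs
    rcases hs' with hsC | hsw
    · have hsC' : s ∈ C := hC₂C hsC
      have h1 : w * s⁻¹ * w⁻¹ = s := by
        rw [hw s⁻¹ (Subgroup.inv_mem _ hsC'), inv_inv]
      have h2 : (⟨s, hsD⟩ : ↥(Subgroup.closure ((C₂ : Set G) ∪ {w}))) ^ 2 =
          ⁅(⟨s, hsD⟩ : ↥(Subgroup.closure ((C₂ : Set G) ∪ {w}))), ⟨w, hwD⟩⁆ := by
        apply Subtype.ext
        simp only [Subgroup.coe_pow, commutatorElement_def, Subgroup.coe_mul, Subgroup.coe_inv]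
        rw [mul_assoc, mul_assoc, ← mul_assoc w, h1, pow_two]
      rw [h2]; exact hcm _ _
    · rw [Set.mem_singleton_iff] at hsw
      subst hsw
      have h1 : s * c₄⁻¹ * s⁻¹ = c₄ := by
        rw [hw c₄⁻¹ (Subgroup.inv_mem _ hc₄), inv_inv]
      have h2 : (⟨s, hsD⟩ : ↥(Subgroup.closure ((C₂ : Set G) ∪ {s}))) ^ 2 =
          ⁅(⟨c₄, hC₂D hc₄C₂⟩ : ↥(Subgroup.closure ((C₂ : Set G) ∪ {s}))), ⟨s, hsD⟩⁆ := by
        apply Subtype.ext
        simp only [Subgroup.coe_pow, commutatorElement_def, Subgroup.coe_mul, Subgroup.coe_inv]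
        rw [mul_assoc, mul_assoc, ← mul_assoc s, h1, ← pow_two, hsq]
      rw [h2]; exact hcm _ _
  · -- the order
    rw [← hC₂card]
    have hdvd : Nat.card C₂ ∣ Nat.card ↥(Subgroup.closure ((C₂ : Set G) ∪ {w})) :=
      Subgroup.card_dvd_of_le hC₂D
    obtain ⟨k, hk⟩ := hdvd
    have hpos : 0 < Nat.card ↥(Subgroup.closure ((C₂ : Set G) ∪ {w})) := Nat.card_pos
    have hk1 : k ≠ 1 := by
      intro h1
      rw [h1, mul_one] at hk
      have heq : C₂ = Subgroup.closure ((C₂ : Set G) ∪ {w}) :=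
        Subgroup.eq_of_le_of_card_ge hC₂D hk.le
      exact hwC (hC₂C (heq ▸ hwD))
    have hk0 : k ≠ 0 := by
      intro h0; rw [h0, mul_zero] at hk; omega
    rw [hk, mul_comm]
    exact Nat.mul_le_mul_left _ (by omega)

end Cfsg.Agent.Helper1.SylE
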