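import Mathlib
import Cfsg.Agent.Helper1.SylEc

set_option autoImplicit false

/-!
Tori in `SL₂(F)` with inverting elements: the diagonal torus (when `-1` is a square) and the
rotation torus (when it is not), with their orders.
-/

namespace Cfsg.Agent.Helper1.SylE

open Matrix

universe u

variable {F : Type u} [Field F]

/-- a matrix of `SL₂` from its entries -/
def mk2 (a b c d : F) (h : a * d - b * c = 1) : Matrix.SpecialLinearGroup (Fin 2) F :=
  ⟨!![a, b; c, d], by rw [Matrix.det_fin_two_of]; exact h⟩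

theorem mk2_mul (a b c d a' b' c' d' : F) (h : a * d - b * c = 1) (h' : a' * d' - b' * c' = 1) :
    mk2 a b c d h * mk2 a' b' c' d' h' =
      mk2 (a * a' + b * c') (a * b' + b * d') (c * a' + d * c') (c * b' + d * d')
        (by linear_combination (a' * d' - b' * c') * h + h') := by
  apply Subtype.ext
  show !![a, b; c, d] * !![a', b'; c', d'] = !![_, _; _, _]
  rw [Matrix.mul_fin_two]

theorem mk2_eq_iff (a b c d a' b' c' d' : F) (h : a * d - b * c = 1) (h' : a' * d' - b' * c' = 1) :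
    mk2 a b c d h = mk2 a' b' c' d' h' ↔ a = a' ∧ b = b' ∧ c = c' ∧ d = d' := by
  constructor
  · intro e
    have e' : (!![a, b; c, d] : Matrix (Fin 2) (Fin 2) F) = !![a', b'; c', d'] :=
      congrArg Subtype.val e
    refine ⟨?_, ?_, ?_, ?_⟩
    · simpa using congrFun (congrFun e' 0) 0
    · simpa using congrFun (congrFun e' 0) 1
    · simpa using congrFun (congrFun e' 1) 0
    · simpa using congrFun (congrFun e' 1) 1
  · rintro ⟨rfl, rfl, rfl, rfl⟩; rfl

theorem mk2_one : mk2 (1 : F) 0 0 1 (by ring) = 1 := by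
  apply Subtype.ext
  show !![(1 : F), 0; 0, 1] = 1
  exact Matrix.one_fin_two.symm

theorem eq_mk2 (g : Matrix.SpecialLinearGroup (Fin 2) F) :
    ∃ h, g = mk2 (g 0 0) (g 0 1) (g 1 0) (g 1 1) h := by
  have hd : g 0 0 * g 1 1 - g 0 1 * g 1 0 = 1 := by
    have := g.2
    rwa [Matrix.det_fin_two] at this
  refine ⟨hd, ?_⟩
  apply Subtype.ext
  ext i j
  fin_cases i <;> fin_cases j <;> rfl

theorem mk2_inv (a b c d : F) (h : a * d - b * c = 1) :
    (mk2 a b c d h)⁻¹ = mk2 d (-b) (-c) a (by linear_combination h) := by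
  rw [inv_eq_iff_mul_eq_one, mk2_mul, ← mk2_one, mk2_eq_iff]
  refine ⟨?_, ?_, ?_, ?_⟩
  · linear_combination h
  · ring
  · ring
  · linear_combination h

/-! ### the diagonal torus -/

section diag
variable (i : F) (hi : i ^ 2 = -1)

/-- the diagonal torus -/
def diagHom : Fˣ →* Matrix.SpecialLinearGroup (Fin 2) F where
  toFun u := mk2 (u : F) 0 0 ((u⁻¹ : Fˣ) : F) (by simp)
  map_one' := by simpa using mk2_one (F := F)
  map_mul' := by
    intro u v
    rw [mk2_mul, mk2_eq_iff]
    refine ⟨by simp, by simp, by simp, ?_⟩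
    simp [mul_comm]

theorem diagHom_injective : Function.Injective (diagHom (F := F)) := by
  intro u v huv
  have huv' : mk2 (u : F) 0 0 ((u⁻¹ : Fˣ) : F) (by simp) =
      mk2 (v : F) 0 0 ((v⁻¹ : Fˣ) : F) (by simp) := huv
  rw [mk2_eq_iff] at huv'
  exact Units.ext huv'.1

/-- the Weyl element -/
def wA : Matrix.SpecialLinearGroup (Fin 2) F := mk2 0 1 (-1) 0 (by ring)

theorem wA_conj (u : Fˣ) : wA * diagHom u * wA⁻¹ = (diagHom u)⁻¹ := by
  rw [← map_inv]
  unfold wA diagHom
  simp only [MonoidHom.coe_mk, OneHom.coe_mk]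
  rw [mk2_inv, mk2_mul, mk2_mul, mk2_eq_iff]
  refine ⟨by simp, by simp, by simp, by simp⟩

theorem wA_sq : (wA : Matrix.SpecialLinearGroup (Fin 2) F) ^ 2 = mk2 (-1) 0 0 (-1) (by ring) := by
  rw [pow_two]
  unfold wA
  rw [mk2_mul, mk2_eq_iff]
  refine ⟨by ring, by ring, by ring, by ring⟩

end diag

@[simp] theorem mk2_00 (a b c d : F) (h : a * d - b * c = 1) : (mk2 a b c d h) 0 0 = a := rfl
@[simp] theorem mk2_01 (a b c d : F) (h : a * d - b * c = 1) : (mk2 a b c d h) 0 1 = b := rfl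
@[simp] theorem mk2_10 (a b c d : F) (h : a * d - b * c = 1) : (mk2 a b c d h) 1 0 = c := rfl
@[simp] theorem mk2_11 (a b c d : F) (h : a * d - b * c = 1) : (mk2 a b c d h) 1 1 = d := rfl

theorem diagHom_apply (u : Fˣ) :
    diagHom u = mk2 (u : F) 0 0 ((u⁻¹ : Fˣ) : F) (by simp) := rfl

theorem diagHom_sq_i (i : F) (hi : i ^ 2 = -1) (hi0 : i ≠ 0) :
    diagHom ((Units.mk0 i hi0) ^ 2) = mk2 (-1 : F) 0 0 (-1) (by ring) := by
  rw [diagHom_apply, mk2_eq_iff]
  have h1 : (((Units.mk0 i hi0) ^ 2 : Fˣ) : F) = -1 := by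
    rw [Units.val_pow_eq_pow_val, Units.val_mk0, hi]
  refine ⟨h1, rfl, rfl, ?_⟩
  rw [Units.val_inv_eq_inv_val, h1]
  norm_num

/-- case A: `-1` is a square -/
theorem exists_D_of_sq [Fintype F] (h2 : (2 : F) ≠ 0) (i : F) (hi : i ^ 2 = -1) :
    ∃ D : Subgroup (Matrix.SpecialLinearGroup (Fin 2) F), IsPGroup 2 D ∧ EProp D ∧
      2 * 2 ^ (padicValNat 2 (Fintype.card F - 1)) ≤ Nat.card D := by
  classical
  have hi0 : i ≠ 0 := by
    rintro rfl
    have : (0 : F) ^ 2 = -1 := hi
    norm_num at this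
  have hne1 : (-1 : F) ≠ 1 := by
    intro h
    apply h2
    have : (2 : F) = 1 - (-1) := by ring
    rw [this, h, sub_self]
  have hcard : Nat.card (diagHom (F := F)).range = Fintype.card F - 1 := by
    rw [Nat.card_congr (MonoidHom.ofInjective diagHom_injective).toEquiv.symm,
      Nat.card_eq_fintype_card, Fintype.card_units]
  have key := exists_quaternion_like (diagHom (F := F)).range
    (by
      rintro _ ⟨u, rfl⟩ _ ⟨v, rfl⟩
      rw [← map_mul, ← map_mul, mul_comm])
    wA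
    (by
      rintro _ ⟨u, rfl⟩
      exact wA_conj u)
    (diagHom (Units.mk0 i hi0)) ⟨_, rfl⟩
    (by
      rw [← map_pow]
      have : (Units.mk0 i hi0) ^ 4 = 1 := by
        apply Units.ext
        simp only [Units.val_pow_eq_pow_val, Units.val_mk0, Units.val_one]
        have : i ^ 4 = (i ^ 2) ^ 2 := by ring
        rw [this, hi]; ring
      rw [this, map_one])
    (by rw [wA_sq, ← map_pow, diagHom_sq_i i hi hi0])
    (by
      rw [← map_pow, diagHom_sq_i i hi hi0, ← mk2_one, Ne, mk2_eq_iff]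
      intro h
      exact hne1 h.1)
  rw [hcard] at key
  exact key

end Cfsg.Agent.Helper1.SylE
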