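import Mathlib
import Cfsg.Agent.Helper1.SylEd

set_option autoImplicit false

/-!
The rotation torus of `SL₂(F)` when `-1` is not a square: order `q + 1`.
-/

namespace Cfsg.Agent.Helper1.SylE

open Matrix

universe u

variable {F : Type u} [Field F]

/-- a rotation matrix -/
def rot (x y : F) (h : x ^ 2 + y ^ 2 = 1) : Matrix.SpecialLinearGroup (Fin 2) F :=
  mk2 x (-y) y x (by linear_combination h)

theorem rot_mul (x y x' y' : F) (h : x ^ 2 + y ^ 2 = 1) (h' : x' ^ 2 + y' ^ 2 = 1) :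
    rot x y h * rot x' y' h' = rot (x * x' - y * y') (x * y' + y * x')
      (by linear_combination (x' ^ 2 + y' ^ 2) * h + h') := by
  unfold rot
  rw [mk2_mul, mk2_eq_iff]
  refine ⟨by ring, by ring, by ring, by ring⟩

theorem rot_inv (x y : F) (h : x ^ 2 + y ^ 2 = 1) :
    (rot x y h)⁻¹ = rot x (-y) (by linear_combination h) := by
  unfold rot
  rw [mk2_inv, mk2_eq_iff]
  refine ⟨rfl, rfl, rfl, rfl⟩

theorem rot_one : rot (1 : F) 0 (by ring) = 1 := by
  unfold rot
  rw [← mk2_one, mk2_eq_iff]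
  refine ⟨rfl, by ring, rfl, rfl⟩

theorem rot_eq_iff (x y x' y' : F) (h : x ^ 2 + y ^ 2 = 1) (h' : x' ^ 2 + y' ^ 2 = 1) :
    rot x y h = rot x' y' h' ↔ x = x' ∧ y = y' := by
  unfold rot
  rw [mk2_eq_iff]
  constructor
  · rintro ⟨h1, -, h3, -⟩; exact ⟨h1, h3⟩
  · rintro ⟨rfl, rfl⟩; exact ⟨rfl, rfl, rfl, rfl⟩

/-- the rotation torus -/
def rotSub (F : Type u) [Field F] : Subgroup (Matrix.SpecialLinearGroup (Fin 2) F) where
  carrier := {g | ∃ (x y : F) (h : x ^ 2 + y ^ 2 = 1), g = rot x y h}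
  one_mem' := ⟨1, 0, by ring, rot_one.symm⟩
  mul_mem' := by
    rintro _ _ ⟨x, y, h, rfl⟩ ⟨x', y', h', rfl⟩
    exact ⟨_, _, _, rot_mul x y x' y' h h'⟩
  inv_mem' := by
    rintro _ ⟨x, y, h, rfl⟩
    exact ⟨_, _, _, rot_inv x y h⟩

theorem rotSub_comm : ∀ a ∈ rotSub F, ∀ b ∈ rotSub F, a * b = b * a := by
  rintro _ ⟨x, y, h, rfl⟩ _ ⟨x', y', h', rfl⟩
  rw [rot_mul, rot_mul, rot_eq_iff]
  exact ⟨by ring, by ring⟩

section wB
variable (a b : F) (hab : a ^ 2 + b ^ 2 = -1)

/-- the inverting element -/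
def wB (hab : a ^ 2 + b ^ 2 = -1) : Matrix.SpecialLinearGroup (Fin 2) F :=
  mk2 a b b (-a) (by linear_combination (-1 : F) * hab)

theorem wB_conj (x y : F) (h : x ^ 2 + y ^ 2 = 1) :
    wB a b hab * rot x y h * (wB a b hab)⁻¹ = (rot x y h)⁻¹ := by
  rw [rot_inv]
  unfold wB rot
  rw [mk2_inv, mk2_mul, mk2_mul, mk2_eq_iff]
  refine ⟨?_, ?_, ?_, ?_⟩
  · linear_combination (-x) * hab
  · linear_combination (-y) * hab
  · linear_combination (y) * hab
  · linear_combination (-x) * hab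

theorem wB_sq : (wB a b hab) ^ 2 = mk2 (-1) 0 0 (-1) (by ring) := by
  rw [pow_two]
  unfold wB
  rw [mk2_mul, mk2_eq_iff]
  refine ⟨?_, by ring, by ring, ?_⟩
  · linear_combination hab
  · linear_combination hab

end wB

theorem rot_zero_one_sq : (rot (0 : F) 1 (by ring)) ^ 2 = mk2 (-1) 0 0 (-1) (by ring) := by
  rw [pow_two, rot_mul]
  unfold rot
  rw [mk2_eq_iff]
  refine ⟨by ring, by ring, by ring, by ring⟩

/-- the parametrization of the circle -/
noncomputable def circ (hns : ∀ t : F, t ^ 2 + 1 ≠ 0) : Option F → Matrix.SpecialLinearGroup (Fin 2) F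
  | none => 1
  | some t => rot ((t ^ 2 - 1) / (t ^ 2 + 1)) (-2 * t / (t ^ 2 + 1)) (by
      have := hns t
      field_simp
      ring)

theorem circ_injective (h2 : (2 : F) ≠ 0) (hns : ∀ t : F, t ^ 2 + 1 ≠ 0) :
    Function.Injective (circ hns) := by
  have key : ∀ t : F, (t ^ 2 - 1) / (t ^ 2 + 1) ≠ 1 := by
    intro t h
    have := hns t
    rw [div_eq_one_iff_eq this] at h
    apply h2
    linear_combination (-1 : F) * h
  have recov : ∀ t : F, (-2 * t / (t ^ 2 + 1)) / ((t ^ 2 - 1) / (t ^ 2 + 1) - 1) = t := by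
    intro t
    have h1 := hns t
    have h3 : (t ^ 2 - 1) / (t ^ 2 + 1) - 1 = -2 / (t ^ 2 + 1) := by
      field_simp
      ring
    rw [h3]
    field_simp
  rintro (_ | t) (_ | t') h
  · rfl
  · exfalso
    have h' : rot (1 : F) 0 (by ring) = circ hns (some t') := by rw [rot_one]; exact h
    unfold circ at h'
    rw [rot_eq_iff] at h'
    exact key t' h'.1.symm
  · exfalso
    have h' : circ hns (some t) = rot (1 : F) 0 (by ring) := by rw [rot_one]; exact h
    unfold circ at h'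
    rw [rot_eq_iff] at h'
    exact key t h'.1
  · have h' : circ hns (some t) = circ hns (some t') := h
    unfold circ at h'
    rw [rot_eq_iff] at h'
    rw [← recov t, ← recov t', h'.1, h'.2]

theorem range_circ (h2 : (2 : F) ≠ 0) (hns : ∀ t : F, t ^ 2 + 1 ≠ 0) :
    Set.range (circ hns) = (rotSub F : Set (Matrix.SpecialLinearGroup (Fin 2) F)) := by
  ext g
  constructor
  · rintro ⟨(_ | t), rfl⟩
    · exact (rotSub F).one_mem
    · show circ hns (some t) ∈ rotSub F
      unfold circ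
      exact ⟨_, _, _, rfl⟩
  · rintro ⟨x, y, h, rfl⟩
    by_cases hx : x = 1
    · subst hx
      have hy : y = 0 := by
        have : y ^ 2 = 0 := by linear_combination h
        exact pow_eq_zero_iff (two_ne_zero) |>.1 this
      subst hy
      exact ⟨none, rot_one.symm⟩
    · have hx1 : x - 1 ≠ 0 := sub_ne_zero.2 hx
      refine ⟨some (y / (x - 1)), ?_⟩
      show circ hns (some (y / (x - 1))) = rot x y h
      unfold circ
      rw [rot_eq_iff]
      have hs : (y / (x - 1)) ^ 2 + 1 = -2 / (x - 1) := by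
        field_simp
        linear_combination h
      have hs' := hns (y / (x - 1))
      constructor
      · rw [div_eq_iff hs']
        have e : (y / (x - 1)) ^ 2 - 1 = (y / (x - 1)) ^ 2 + 1 - 2 := by ring
        rw [e, hs]
        field_simp
        ring
      · rw [div_eq_iff hs', hs]
        field_simp

theorem card_rotSub [Fintype F] (h2 : (2 : F) ≠ 0) (hns : ∀ t : F, t ^ 2 + 1 ≠ 0) :
    Nat.card (rotSub F) = Fintype.card F + 1 := by
  have h1 : Nat.card (rotSub F) = Nat.card (Set.range (circ hns)) := by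
    rw [range_circ h2 hns]; rfl
  rw [h1, Nat.card_range_of_injective (circ_injective h2 hns), Nat.card_eq_fintype_card,
    Fintype.card_option]

/-- case B: `-1` is not a square -/
theorem exists_D_of_not_sq [Fintype F] (h2 : (2 : F) ≠ 0) (hns : ∀ t : F, t ^ 2 + 1 ≠ 0)
    (a b : F) (hab : a ^ 2 + b ^ 2 = -1) :
    ∃ D : Subgroup (Matrix.SpecialLinearGroup (Fin 2) F), IsPGroup 2 D ∧ EProp D ∧
      2 * 2 ^ (padicValNat 2 (Fintype.card F + 1)) ≤ Nat.card D := by
  classical
  have hne1 : (-1 : F) ≠ 1 := by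
    intro h
    apply h2
    have : (2 : F) = 1 - (-1) := by ring
    rw [this, h, sub_self]
  have key := exists_quaternion_like (rotSub F) rotSub_comm (wB a b hab)
    (by
      rintro _ ⟨x, y, h, rfl⟩
      exact wB_conj a b hab x y h)
    (rot (0 : F) 1 (by ring)) ⟨_, _, _, rfl⟩
    (by
      have : (rot (0 : F) 1 (by ring)) ^ 4 = ((rot (0 : F) 1 (by ring)) ^ 2) ^ 2 := by
        rw [← pow_mul]
      rw [this, rot_zero_one_sq, pow_two, mk2_mul, ← mk2_one, mk2_eq_iff]
      refine ⟨by ring, by ring, by ring, by ring⟩)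
    (by rw [rot_zero_one_sq, wB_sq])
    (by
      rw [rot_zero_one_sq, ← mk2_one, Ne, mk2_eq_iff]
      intro h
      exact hne1 h.1)
  rw [card_rotSub h2 hns] at key
  exact key

end Cfsg.Agent.Helper1.SylE
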