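import Mathlib
import Cfsg.Agent.Helper1.SylEe
import Cfsg.Agent.Helper1.SylEb
import Cfsg.Agent.Helper4.SpWreathB

set_option autoImplicit false

/-!
The base of the recursion: a `2`-subgroup `D` of `SL₂(F)`, `|F| = q` odd, with `EProp` and order
at least the `2`-part of `q² - 1`; and the `2`-adic arithmetic of `|Sp_{2n}(q)|`.
-/

namespace Cfsg.Agent.Helper1.SylE

open Cfsg.Agent.Helper4.SpWreath

universe u

theorem padicValNat_two_of_mod_four {m : ℕ} (h : m % 4 = 2) : padicValNat 2 m = 1 := by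
  haveI : Fact (Nat.Prime 2) := ⟨Nat.prime_two⟩
  obtain ⟨k, rfl⟩ : ∃ k, m = 2 * k := ⟨m / 2, by omega⟩
  have hk : k % 2 = 1 := by omega
  have hk0 : k ≠ 0 := by rintro rfl; simp at hk
  rw [padicValNat.mul (by norm_num) hk0, padicValNat_self,
    padicValNat.eq_zero_of_not_dvd (by omega)]

theorem padicValNat_sq_sub_one {q : ℕ} (hq : Odd q) (hq3 : 3 ≤ q) :
    padicValNat 2 (q ^ 2 - 1) = padicValNat 2 (q - 1) + padicValNat 2 (q + 1) := by
  haveI : Fact (Nat.Prime 2) := ⟨Nat.prime_two⟩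
  have e : q ^ 2 - 1 = (q - 1) * (q + 1) := by
    obtain ⟨k, rfl⟩ : ∃ k, q = k + 1 := ⟨q - 1, by omega⟩
    simp only [Nat.add_sub_cancel]
    have : (k + 1) ^ 2 = k * (k + 1 + 1) + 1 := by ring
    rw [this, Nat.add_sub_cancel]
  rw [e, padicValNat.mul (by omega) (by omega)]

theorem padicValNat_pow_sub_one {q : ℕ} (hq : Odd q) (hq3 : 3 ≤ q) (k : ℕ) (hk : k ≠ 0) :
    padicValNat 2 (q ^ (2 * k) - 1) = padicValNat 2 (q ^ 2 - 1) + padicValNat 2 k := by
  haveI : Fact (Nat.Prime 2) := ⟨Nat.prime_two⟩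
  have hodd : ¬ 2 ∣ q := by
    rw [Nat.two_dvd_ne_zero]; exact Nat.odd_iff.1 hq
  have h2 : 2 ∣ q - 1 := by
    have := Nat.odd_iff.1 hq
    omega
  have h := padicValNat.pow_two_sub_pow (x := q) (y := 1) (by omega) h2 hodd
    (n := 2 * k) (by omega) (even_two_mul k)
  rw [one_pow, padicValNat.mul (by norm_num) hk, padicValNat_self] at h
  rw [padicValNat_sq_sub_one hq hq3]
  omega

theorem padicValNat_factorial_succ (n : ℕ) :
    padicValNat 2 (n + 1).factorial = padicValNat 2 (n + 1) + padicValNat 2 n.factorial := by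
  haveI : Fact (Nat.Prime 2) := ⟨Nat.prime_two⟩
  rw [Nat.factorial_succ, padicValNat.mul (by omega) (Nat.factorial_ne_zero n)]

theorem padicValNat_card_sp {q : ℕ} (hq : Odd q) (hq3 : 3 ≤ q) (n : ℕ) :
    padicValNat 2 (q ^ (n ^ 2) * ∏ i ∈ Finset.range n, (q ^ (2 * (i + 1)) - 1)) =
      n * padicValNat 2 (q ^ 2 - 1) + padicValNat 2 n.factorial := by
  haveI : Fact (Nat.Prime 2) := ⟨Nat.prime_two⟩
  have hodd : ¬ 2 ∣ q := by
    rw [Nat.two_dvd_ne_zero]; exact Nat.odd_iff.1 hq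
  have hfac : ∀ i : ℕ, q ^ (2 * (i + 1)) - 1 ≠ 0 := by
    intro i
    have : 1 < q ^ (2 * (i + 1)) := Nat.one_lt_pow (by omega) (by omega)
    omega
  have hprod : ∀ n : ℕ, ∏ i ∈ Finset.range n, (q ^ (2 * (i + 1)) - 1) ≠ 0 := by
    intro n
    exact Finset.prod_ne_zero_iff.2 fun i _ => hfac i
  have hqn : q ^ (n ^ 2) ≠ 0 := pow_ne_zero _ (by omega)
  rw [padicValNat.mul hqn (hprod n), padicValNat.pow,
    padicValNat.eq_zero_of_not_dvd hodd, mul_zero, zero_add]
  induction n with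
  | zero => simp
  | succ n ih =>
    rw [Finset.prod_range_succ, padicValNat.mul (hprod n) (hfac n),
      ih (pow_ne_zero _ (by omega)),
      padicValNat_pow_sub_one hq hq3 (n + 1) (by omega), padicValNat_factorial_succ]
    ring

variable {F : Type u} [Field F]

theorem two_ne_zero_of_odd [Fintype F] (hq : Odd (Fintype.card F)) : (2 : F) ≠ 0 := by
  intro h
  obtain ⟨r, hr⟩ := CharP.exists F
  haveI := hr
  obtain ⟨k, hrp, hcard⟩ := FiniteField.card F r
  have h1 : r ∣ 2 := by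
    have : ((2 : ℕ) : F) = 0 := by exact_mod_cast h
    exact (CharP.cast_eq_zero_iff F r 2).1 this
  have h3 : r = 2 := (Nat.prime_dvd_prime_iff_eq hrp Nat.prime_two).1 h1
  rw [hcard, h3] at hq
  exact (Nat.not_even_iff_odd.2 hq) ((Nat.even_pow' k.ne_zero).2 even_two)

/-- the base group -/
theorem exists_base_D [Fintype F] (hq : Odd (Fintype.card F)) :
    ∃ D : Subgroup (Matrix.SpecialLinearGroup (Fin 2) F), IsPGroup 2 D ∧ EProp D ∧
      2 ^ (padicValNat 2 (Fintype.card F ^ 2 - 1)) ≤ Nat.card D := by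
  classical
  have h2 : (2 : F) ≠ 0 := two_ne_zero_of_odd hq
  have hq3 : 3 ≤ Fintype.card F := by
    have h1 : 1 < Fintype.card F := Fintype.one_lt_card
    obtain ⟨k, hk⟩ := hq
    omega
  have hmod : Fintype.card F % 2 = 1 := Nat.odd_iff.1 hq
  by_cases hsq : IsSquare (-1 : F)
  · obtain ⟨i, hi⟩ := hsq
    obtain ⟨D, hDp, hDE, hDc⟩ := exists_D_of_sq h2 i (by rw [pow_two]; exact hi.symm)
    refine ⟨D, hDp, hDE, le_trans ?_ hDc⟩
    have h4 : Fintype.card F % 4 ≠ 3 := FiniteField.isSquare_neg_one_iff.1 ⟨i, hi⟩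
    have h5 : padicValNat 2 (Fintype.card F + 1) = 1 :=
      padicValNat_two_of_mod_four (by omega)
    rw [padicValNat_sq_sub_one hq hq3, h5, pow_succ, mul_comm]
  · have hns : ∀ t : F, t ^ 2 + 1 ≠ 0 := by
      intro t ht
      apply hsq
      exact ⟨t, by linear_combination (-1 : F) * ht⟩
    obtain ⟨r, hr⟩ := CharP.exists F
    haveI := hr
    obtain ⟨k, hrp, hcard⟩ := FiniteField.card F r
    haveI : Fact r.Prime := ⟨hrp⟩
    haveI : NeZero r := ⟨hrp.ne_zero⟩
    obtain ⟨a, b, hab⟩ := CharP.sq_add_sq F r (-1)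
    have hab' : (a : F) ^ 2 + (b : F) ^ 2 = -1 := by
      rw [hab]; simp
    obtain ⟨D, hDp, hDE, hDc⟩ := exists_D_of_not_sq h2 hns (a : F) (b : F) hab'
    refine ⟨D, hDp, hDE, le_trans ?_ hDc⟩
    have h4 : ¬ Fintype.card F % 4 ≠ 3 := fun h => hsq (FiniteField.isSquare_neg_one_iff.2 h)
    have h5 : padicValNat 2 (Fintype.card F - 1) = 1 :=
      padicValNat_two_of_mod_four (by omega)
    rw [padicValNat_sq_sub_one hq hq3, h5, add_comm, pow_succ, mul_comm]

/-- the base group with its symplectic representation -/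
theorem exists_base_rep [Fintype F] (hq : Odd (Fintype.card F)) :
    ∃ (B : Type u) (_ : Group B) (_ : Finite B), IsPGroup 2 B ∧ EProp B ∧
      2 ^ (padicValNat 2 (Fintype.card F ^ 2 - 1)) ≤ Nat.card B ∧
      ∃ τ : B →* Module.End F (Fin 1 ⊕ Fin 1 → F), Function.Injective τ ∧ Pres (om (Fin 1)) τ := by
  classical
  obtain ⟨D, hDp, hDE, hDc⟩ := exists_base_D hq
  obtain ⟨τ', hτ', hp'⟩ := transport detForm
    ((slRep (F := F)).comp D.subtype)
    (slRep_injective.comp Subtype.val_injective)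
    (fun t v w => slRep_pres (t : Matrix.SpecialLinearGroup (Fin 2) F) v w)
    (Fin 1) eps0 om_eps0
  exact ⟨↥D, inferInstance, inferInstance, hDp, hDE, hDc, τ', hτ', hp'⟩

end Cfsg.Agent.Helper1.SylE
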