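import Mathlib
import Cfsg.Agent.Helper1.SylGb
import Cfsg.Agent.Helper4.PLinFieldD

set_option autoImplicit false

/-!
Determinants of the induced representation of `D ≀ᵣ Z/2` and of the product representation.
-/

namespace Cfsg.Agent.Helper1.SylG

open Cfsg.Agent.Helper1.SylE RegularWreathProduct Cfsg.Agent.Helper4.PLinField Module

universe u v w

variable {F : Type*} [Field F] {D : Type*} [Group D]
  {U : Type*} [AddCommGroup U] [Module F U]

theorem det_wreathRep_base [FiniteDimensional F U] {Q : Type*} [Group Q] [Fintype Q]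
    (τ : D →* Module.End F U) (f : Q → D) :
    LinearMap.det (wreathRep τ (baseHom D Q f)) = ∏ x, LinearMap.det (τ (f x)) := by
  classical
  have h : wreathRep τ (baseHom D Q f) =
      LinearMap.pi (fun x => (τ (f x)).comp (LinearMap.proj x)) := by
    refine LinearMap.ext fun φ => ?_
    funext x
    simp [wreathRep_apply, baseHom]
  rw [h, LinearMap.det_pi]

/-- the change of coordinates diagonalizing the swap -/
def eigL : (Q2 → U) →ₗ[F] (Q2 → U) where
  toFun φ := fun x => if x = 1 then φ 1 + φ sg else φ 1 - φ sg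
  map_add' φ ψ := by
    funext x
    by_cases hx : x = 1
    · simp only [hx, if_true, Pi.add_apply]; abel
    · simp only [hx, if_false, Pi.add_apply]; abel
  map_smul' c φ := by
    funext x
    by_cases hx : x = 1
    · simp only [hx, if_true, Pi.smul_apply, RingHom.id_apply, smul_add]
    · simp only [hx, if_false, Pi.smul_apply, RingHom.id_apply, smul_sub]

/-- its inverse -/
def eigI : (Q2 → U) →ₗ[F] (Q2 → U) where
  toFun φ := fun x => if x = 1 then (2⁻¹ : F) • (φ 1 + φ sg) else (2⁻¹ : F) • (φ 1 - φ sg)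
  map_add' φ ψ := by
    funext x
    by_cases hx : x = 1
    · simp only [hx, if_true, Pi.add_apply, ← smul_add]; congr 1; abel
    · simp only [hx, if_false, Pi.add_apply, ← smul_add]; congr 1; abel
  map_smul' c φ := by
    funext x
    by_cases hx : x = 1
    · simp only [hx, if_true, Pi.smul_apply, RingHom.id_apply, ← smul_add, smul_comm c]
    · simp only [hx, if_false, Pi.smul_apply, RingHom.id_apply, ← smul_sub, smul_comm c]

theorem eigL_one (φ : Q2 → U) : eigL (F := F) φ 1 = φ 1 + φ sg := by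
  show (if (1 : Q2) = 1 then φ 1 + φ sg else φ 1 - φ sg) = _
  rw [if_pos rfl]

theorem eigL_sg (φ : Q2 → U) : eigL (F := F) φ sg = φ 1 - φ sg := by
  show (if sg = 1 then φ 1 + φ sg else φ 1 - φ sg) = _
  rw [if_neg sg_ne_one]

theorem eigI_one (φ : Q2 → U) : eigI (F := F) φ 1 = (2⁻¹ : F) • (φ 1 + φ sg) := by
  show (if (1 : Q2) = 1 then (2⁻¹ : F) • (φ 1 + φ sg) else (2⁻¹ : F) • (φ 1 - φ sg)) = _
  rw [if_pos rfl]

theorem eigI_sg (φ : Q2 → U) : eigI (F := F) φ sg = (2⁻¹ : F) • (φ 1 - φ sg) := by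
  show (if sg = 1 then (2⁻¹ : F) • (φ 1 + φ sg) else (2⁻¹ : F) • (φ 1 - φ sg)) = _
  rw [if_neg sg_ne_one]

theorem half_add_half (h2 : (2 : F) ≠ 0) (u : U) : (2⁻¹ : F) • u + (2⁻¹ : F) • u = u := by
  rw [← add_smul]
  have : (2⁻¹ : F) + 2⁻¹ = 1 := by field_simp; norm_num
  rw [this, one_smul]

/-- the diagonalizing equivalence -/
def eigE (h2 : (2 : F) ≠ 0) : (Q2 → U) ≃ₗ[F] (Q2 → U) :=
  LinearEquiv.ofLinearMap (eigL (F := F)) (eigI (F := F))
    (by
      refine LinearMap.ext fun φ => ?_
      funext x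
      rcases q2_cases x with rfl | rfl
      · rw [LinearMap.comp_apply, eigL_one, eigI_one, eigI_sg, LinearMap.id_apply, ← smul_add]
        have : φ 1 + φ sg + (φ 1 - φ sg) = φ 1 + φ 1 := by abel
        rw [this, smul_add, half_add_half h2]
      · rw [LinearMap.comp_apply, eigL_sg, eigI_one, eigI_sg, LinearMap.id_apply, ← smul_sub]
        have : φ 1 + φ sg - (φ 1 - φ sg) = φ sg + φ sg := by abel
        rw [this, smul_add, half_add_half h2])
    (by
      refine LinearMap.ext fun φ => ?_
      funext x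
      rcases q2_cases x with rfl | rfl
      · rw [LinearMap.comp_apply, eigI_one, eigL_one, eigL_sg, LinearMap.id_apply]
        have : φ 1 + φ sg + (φ 1 - φ sg) = φ 1 + φ 1 := by abel
        rw [this, smul_add, half_add_half h2]
      · rw [LinearMap.comp_apply, eigI_sg, eigL_one, eigL_sg, LinearMap.id_apply]
        have : φ 1 + φ sg - (φ 1 - φ sg) = φ sg + φ sg := by abel
        rw [this, smul_add, half_add_half h2])

theorem det_wreathRep_inl [FiniteDimensional F U] (h2 : (2 : F) ≠ 0)
    (τ : D →* Module.End F U) (hev : Even (finrank F U)) (s : Q2) :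
    LinearMap.det (wreathRep τ (RegularWreathProduct.inl s : D ≀ᵣ Q2)) = 1 := by
  classical
  rcases q2_cases s with rfl | rfl
  · rw [map_one, map_one, map_one]
  · -- conjugate to a diagonal map
    have hconj : ((eigE (U := U) h2 : (Q2 → U) →ₗ[F] (Q2 → U)) ∘ₗ
        (wreathRep τ (RegularWreathProduct.inl sg : D ≀ᵣ Q2)) ∘ₗ
        ((eigE (U := U) h2).symm : (Q2 → U) →ₗ[F] (Q2 → U))) =
        LinearMap.pi (fun x => ((if x = 1 then LinearMap.id else (-1 : F) • LinearMap.id :
          U →ₗ[F] U)).comp (LinearMap.proj x)) := by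
      refine LinearMap.ext fun φ => ?_
      funext x
      have hsymm : ∀ ψ : Q2 → U, (eigE (U := U) h2).symm ψ = eigI (F := F) ψ := fun ψ => rfl
      have hfwd : ∀ ψ : Q2 → U, (eigE (U := U) h2) ψ = eigL (F := F) ψ := fun ψ => rfl
      rw [LinearMap.comp_apply, LinearMap.comp_apply, LinearEquiv.coe_coe, LinearEquiv.coe_coe,
        hsymm, hfwd]
      rcases q2_cases x with rfl | rfl
      · rw [eigL_one, wreathRep_apply, wreathRep_apply]
        simp only [RegularWreathProduct.left_inl, RegularWreathProduct.right_inl, Pi.one_apply,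
          map_one, Module.End.one_apply, sg_inv, mul_one, sg_mul_sg, LinearMap.pi_apply,
          LinearMap.comp_apply, LinearMap.proj_apply, if_true, LinearMap.id_apply]
        rw [eigI_one, eigI_sg, ← smul_add]
        have : φ 1 - φ sg + (φ 1 + φ sg) = φ 1 + φ 1 := by abel
        rw [this, smul_add, half_add_half h2]
      · rw [eigL_sg, wreathRep_apply, wreathRep_apply]
        simp only [RegularWreathProduct.left_inl, RegularWreathProduct.right_inl, Pi.one_apply,
          map_one, Module.End.one_apply, sg_inv, mul_one, sg_mul_sg, LinearMap.pi_apply,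
          LinearMap.comp_apply, LinearMap.proj_apply, sg_ne_one, if_false, LinearMap.smul_apply,
          LinearMap.id_apply]
        rw [eigI_one, eigI_sg, ← smul_sub]
        have : φ 1 - φ sg - (φ 1 + φ sg) = -(φ sg + φ sg) := by abel
        rw [this, smul_neg, smul_add, half_add_half h2, neg_smul, one_smul]
    rw [← LinearMap.det_conj _ (eigE (U := U) h2), hconj, LinearMap.det_pi, prod_q2]
    simp only [if_true, sg_ne_one, if_false, LinearMap.det_id, one_mul, LinearMap.det_smul,
      mul_one]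
    exact hev.neg_one_pow

/-- the product representation -/
def prodRep {P₁ : Type*} {P₂ : Type*} [Group P₁] [Group P₂]
    {U₁ : Type*} [AddCommGroup U₁] [Module F U₁] {U₂ : Type*} [AddCommGroup U₂] [Module F U₂]
    (τ₁ : P₁ →* Module.End F U₁) (τ₂ : P₂ →* Module.End F U₂) :
    P₁ × P₂ →* Module.End F (U₁ × U₂) where
  toFun t := (τ₁ t.1).prodMap (τ₂ t.2)
  map_one' := by
    simp only [Prod.fst_one, Prod.snd_one, map_one]
    rfl
  map_mul' := by
    intro s t
    simp only [Prod.fst_mul, Prod.snd_mul, map_mul]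
    rfl

theorem prodRep_apply {P₁ : Type*} {P₂ : Type*} [Group P₁] [Group P₂]
    {U₁ : Type*} [AddCommGroup U₁] [Module F U₁] {U₂ : Type*} [AddCommGroup U₂] [Module F U₂]
    (τ₁ : P₁ →* Module.End F U₁) (τ₂ : P₂ →* Module.End F U₂) (t : P₁ × P₂) :
    prodRep τ₁ τ₂ t = (τ₁ t.1).prodMap (τ₂ t.2) := rfl

theorem prodRep_injective {P₁ : Type*} {P₂ : Type*} [Group P₁] [Group P₂]
    {U₁ : Type*} [AddCommGroup U₁] [Module F U₁] {U₂ : Type*} [AddCommGroup U₂] [Module F U₂]
    (τ₁ : P₁ →* Module.End F U₁) (τ₂ : P₂ →* Module.End F U₂)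
    (h₁ : Function.Injective τ₁) (h₂ : Function.Injective τ₂) :
    Function.Injective (prodRep τ₁ τ₂) := by
  rintro ⟨s₁, s₂⟩ ⟨t₁, t₂⟩ hst
  have e1 : τ₁ s₁ = τ₁ t₁ := by
    refine LinearMap.ext fun u => ?_
    have := LinearMap.congr_fun hst (u, 0)
    exact congrArg Prod.fst this
  have e2 : τ₂ s₂ = τ₂ t₂ := by
    refine LinearMap.ext fun u => ?_
    have := LinearMap.congr_fun hst (0, u)
    exact congrArg Prod.snd this
  rw [h₁ e1, h₂ e2]

theorem det_prodRep {P₁ : Type*} {P₂ : Type*} [Group P₁] [Group P₂]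
    {U₁ : Type*} [AddCommGroup U₁] [Module F U₁] {U₂ : Type*} [AddCommGroup U₂] [Module F U₂]
    [FiniteDimensional F U₁] [FiniteDimensional F U₂]
    (τ₁ : P₁ →* Module.End F U₁) (τ₂ : P₂ →* Module.End F U₂) (x : P₁) (y : P₂) :
    LinearMap.det (prodRep τ₁ τ₂ (x, y)) = LinearMap.det (τ₁ x) * LinearMap.det (τ₂ y) := by
  rw [prodRep_apply, LinearMap.det_prodMap]

end Cfsg.Agent.Helper1.SylG
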