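import Mathlib
import Cfsg.Agent.Helper1.SylGc
import Cfsg.Agent.Helper1.SylEb

set_option autoImplicit false

/-!
The determinant-tracking wreath recursions.
-/

namespace Cfsg.Agent.Helper1.SylG

open Cfsg.Agent.Helper1.SylE RegularWreathProduct Cfsg.Agent.Helper4.PLinField Module

universe u v w

variable {F : Type u} [Field F]

/-- the kernel of the determinant -/
noncomputable def detKer {P : Type*} [Group P] {U : Type*} [AddCommGroup U] [Module F U]
    (τ : P →* Module.End F U) : Subgroup P := (LinearMap.det.comp τ).ker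

theorem mem_detKer {P : Type*} [Group P] {U : Type*} [AddCommGroup U] [Module F U]
    (τ : P →* Module.End F U) (x : P) : x ∈ detKer τ ↔ LinearMap.det (τ x) = 1 := by
  rw [detKer, MonoidHom.mem_ker]; rfl

/-- weak invariant: faithful, kernel of the determinant has `EProp` -/
structure Good2 {P : Type*} [Group P] {U : Type*} [AddCommGroup U] [Module F U]
    (τ : P →* Module.End F U) : Prop where
  inj : Function.Injective τ
  e3 : EProp (detKer τ)

/-- strong invariant (for `q ≡ 3 mod 4`) -/
structure Good {P : Type*} [Group P] {U : Type*} [AddCommGroup U] [Module F U]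
    (τ : P →* Module.End F U) : Prop extends Good2 τ where
  e1 : EProp P
  neg : ∃ u, LinearMap.det (τ u) = -1
  pm : ∀ x, LinearMap.det (τ x) = 1 ∨ LinearMap.det (τ x) = -1

section steps

variable {P : Type*} [Group P] {U : Type*} [AddCommGroup U] [Module F U]
  [FiniteDimensional F U]

theorem det_wreathRep_mk (h2 : (2 : F) ≠ 0) (τ : P →* Module.End F U)
    (hev : Even (finrank F U)) (f : Q2 → P) (s : Q2) :
    LinearMap.det (wreathRep τ (⟨f, s⟩ : P ≀ᵣ Q2)) =
      LinearMap.det (τ (f 1)) * LinearMap.det (τ (f sg)) := by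
  rw [← baseHom_mul_inl, map_mul, map_mul, det_wreathRep_inl h2 τ hev, mul_one,
    det_wreathRep_base, prod_q2]

theorem Good2.wreath [Nontrivial U] (h2 : (2 : F) ≠ 0) {τ : P →* Module.End F U}
    (h : Good2 τ) (hev : Even (finrank F U)) :
    Good2 (wreathRep τ : P ≀ᵣ Q2 →* Module.End F (Q2 → U)) := by
  refine ⟨wreathRep_injective τ h.inj, ?_⟩
  refine ker_wreath_EProp (LinearMap.det.comp τ) (LinearMap.det.comp (wreathRep τ)) ?_ ?_ h.e3
  · intro f
    exact det_wreathRep_base τ f
  · intro s
    exact det_wreathRep_inl h2 τ hev s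

theorem Good.wreath [Nontrivial U] (h2 : (2 : F) ≠ 0) {τ : P →* Module.End F U}
    (h : Good τ) (hev : Even (finrank F U)) :
    Good (wreathRep τ : P ≀ᵣ Q2 →* Module.End F (Q2 → U)) := by
  refine { toGood2 := h.toGood2.wreath h2 hev, e1 := EProp.wreath h.e1 EProp.zmod2, neg := ?_,
           pm := ?_ }
  · obtain ⟨u, hu⟩ := h.neg
    refine ⟨⟨pr u 1, 1⟩, ?_⟩
    rw [det_wreathRep_mk h2 τ hev, pr_one, pr_sg, hu, map_one, map_one, mul_one]
  · rintro ⟨f, s⟩
    rw [det_wreathRep_mk h2 τ hev]
    rcases h.pm (f 1) with h1 | h1 <;> rcases h.pm (f sg) with h3 | h3 <;> rw [h1, h3] <;> simp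

theorem Good.prod {P₂ : Type*} [Group P₂] {U₂ : Type*} [AddCommGroup U₂] [Module F U₂]
    [FiniteDimensional F U₂] {τ : P →* Module.End F U} {τ₂ : P₂ →* Module.End F U₂}
    (h : Good τ) (h' : Good τ₂) : Good (prodRep τ τ₂) := by
  refine { inj := prodRep_injective τ τ₂ h.inj h'.inj, e3 := ?_, e1 := EProp.prod h.e1 h'.e1,
           neg := ?_, pm := ?_ }
  · exact ker_prod_EProp (LinearMap.det.comp τ) (LinearMap.det.comp τ₂)
      (LinearMap.det.comp (prodRep τ τ₂)) (fun x y => det_prodRep τ τ₂ x y)
      h.pm h.neg h'.pm h'.neg h.e1 h'.e1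
  · obtain ⟨u, hu⟩ := h.neg
    refine ⟨(u, 1), ?_⟩
    rw [det_prodRep, hu, map_one, map_one, mul_one]
  · rintro ⟨x, y⟩
    rw [det_prodRep]
    rcases h.pm x with h1 | h1 <;> rcases h'.pm y with h3 | h3 <;> rw [h1, h3] <;> simp

end steps

theorem card_q2 : Nat.card Q2 = 2 := card_zmod2

/-- the recursion for the strong invariant -/
theorem claimGL (h2 : (2 : F) ≠ 0) : ∀ (n : ℕ), 1 ≤ n → ∀ (B : Type u) (_ : Group B) (_ : Finite B)
    (U : Type u) (_ : AddCommGroup U) (_ : Module F U) (_ : FiniteDimensional F U)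
    (_ : Nontrivial U) (τ : B →* Module.End F U), Good τ → Even (finrank F U) →
    ∃ (P : Type u) (_ : Group P) (_ : Finite P) (U' : Type u) (_ : AddCommGroup U')
      (_ : Module F U') (_ : FiniteDimensional F U') (τ' : P →* Module.End F U'),
      Good τ' ∧ finrank F U' = n * finrank F U ∧
      Nat.card P = Nat.card B ^ n * 2 ^ (padicValNat 2 n.factorial) := by
  intro n
  induction n using Nat.strong_induction_on with
  | _ n ih =>
  intro hn B _ _ U _ _ _ _ τ hG hev
  rcases Nat.lt_or_ge n 2 with hlt | hge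
  · have hn1 : n = 1 := by omega
    subst hn1
    exact ⟨B, inferInstance, inferInstance, U, inferInstance, inferInstance, inferInstance, τ, hG,
      by simp, by simp⟩
  · have hG₂ := hG.wreath h2 hev
    have hev₂ : Even (finrank F (Q2 → U)) := by
      rw [Module.finrank_pi_fintype]
      simp only [Finset.sum_const, Finset.card_univ, smul_eq_mul]
      rw [← Nat.card_eq_fintype_card, card_q2]
      exact even_two_mul _
    have hfr₂ : finrank F (Q2 → U) = 2 * finrank F U := by
      rw [Module.finrank_pi_fintype]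
      simp only [Finset.sum_const, Finset.card_univ, smul_eq_mul]
      rw [← Nat.card_eq_fintype_card, card_q2]
    have hcard₂ : Nat.card (B ≀ᵣ Q2) = Nat.card B ^ 2 * 2 := by
      rw [RegularWreathProduct.card, card_q2]
    have hm : n / 2 < n := Nat.div_lt_self (by omega) one_lt_two
    have hm1 : 1 ≤ n / 2 := by omega
    obtain ⟨P', i1, i2, U', i3, i4, i5, τ', hG', hfr', hcP'⟩ :=
      ih (n / 2) hm hm1 (B ≀ᵣ Q2) inferInstance inferInstance (Q2 → U) inferInstance inferInstance
        inferInstance inferInstance (wreathRep τ) hG₂ hev₂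
    haveI : Fact (Nat.Prime 2) := ⟨Nat.prime_two⟩
    rcases Nat.mod_two_eq_zero_or_one n with h0 | h1
    · -- even
      have hn2 : n = 2 * (n / 2) := by omega
      refine ⟨P', i1, i2, U', i3, i4, i5, τ', hG', ?_, ?_⟩
      · rw [hfr', hfr₂]
        conv_rhs => rw [hn2]
        ring
      · rw [hcP', hcard₂]
        have hv : padicValNat 2 n.factorial = padicValNat 2 (n / 2).factorial + n / 2 := by
          conv_lhs => rw [hn2]
          exact padicValNat_factorial_mul (p := 2) (n / 2)
        rw [hv, mul_pow, ← pow_mul, pow_add]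
        conv_rhs => rw [hn2]
        rw [Nat.mul_div_cancel_left _ (by norm_num : 0 < 2)]
        ring
    · -- odd
      have hn2 : n = 2 * (n / 2) + 1 := by omega
      refine ⟨P' × B, inferInstance, inferInstance, U' × U, inferInstance, inferInstance,
        inferInstance, prodRep τ' τ, hG'.prod hG, ?_, ?_⟩
      · rw [Module.finrank_prod, hfr', hfr₂]
        conv_rhs => rw [hn2]
        ring
      · rw [Nat.card_prod, hcP', hcard₂]
        have hv : padicValNat 2 n.factorial = padicValNat 2 (n / 2).factorial + n / 2 := by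
          conv_lhs => rw [hn2]
          rw [padicValNat_factorial_mul_add (p := 2) (n / 2) (by norm_num : 1 < 2)]
          exact padicValNat_factorial_mul (p := 2) (n / 2)
        rw [hv, mul_pow, ← pow_mul, pow_add]
        conv_rhs => rw [hn2]
        rw [pow_succ]
        have : (2 * (n / 2) + 1) / 2 = n / 2 := by omega
        rw [this]
        ring

/-- the recursion for the weak invariant, powers of two only -/
theorem claimPow (h2 : (2 : F) ≠ 0) : ∀ (j : ℕ) (B : Type u) (_ : Group B) (_ : Finite B)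
    (U : Type u) (_ : AddCommGroup U) (_ : Module F U) (_ : FiniteDimensional F U)
    (_ : Nontrivial U) (τ : B →* Module.End F U), Good2 τ → Even (finrank F U) →
    ∃ (P : Type u) (_ : Group P) (_ : Finite P) (U' : Type u) (_ : AddCommGroup U')
      (_ : Module F U') (_ : FiniteDimensional F U') (τ' : P →* Module.End F U'),
      Good2 τ' ∧ finrank F U' = 2 ^ j * finrank F U ∧
      Nat.card P * 2 = Nat.card B ^ (2 ^ j) * 2 ^ (2 ^ j) := by
  intro j
  induction j with
  | zero =>
    intro B _ _ U _ _ _ _ τ hG hev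
    exact ⟨B, inferInstance, inferInstance, U, inferInstance, inferInstance, inferInstance, τ, hG,
      by simp, by simp⟩
  | succ j ih =>
    intro B _ _ U _ _ _ _ τ hG hev
    have hG₂ := hG.wreath h2 hev
    have hfr₂ : finrank F (Q2 → U) = 2 * finrank F U := by
      rw [Module.finrank_pi_fintype]
      simp only [Finset.sum_const, Finset.card_univ, smul_eq_mul]
      rw [← Nat.card_eq_fintype_card, card_q2]
    have hev₂ : Even (finrank F (Q2 → U)) := by
      rw [hfr₂]; exact even_two_mul _
    have hcard₂ : Nat.card (B ≀ᵣ Q2) = Nat.card B ^ 2 * 2 := by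
      rw [RegularWreathProduct.card, card_q2]
    obtain ⟨P', i1, i2, U', i3, i4, i5, τ', hG', hfr', hcP'⟩ :=
      ih (B ≀ᵣ Q2) inferInstance inferInstance (Q2 → U) inferInstance inferInstance
        inferInstance inferInstance (wreathRep τ) hG₂ hev₂
    refine ⟨P', i1, i2, U', i3, i4, i5, τ', hG', ?_, ?_⟩
    · rw [hfr', hfr₂, pow_succ]; ring
    · rw [hcP', hcard₂, mul_pow, ← pow_mul]
      have e1 : 2 ^ (j + 1) = 2 * 2 ^ j := by rw [pow_succ]; ring
      have e2 : (2 : ℕ) ^ (2 ^ (j + 1)) = 2 ^ 2 ^ j * 2 ^ 2 ^ j := by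
        rw [← pow_add, e1]; congr 1; ring
      rw [e2, e1]; ring

end Cfsg.Agent.Helper1.SylG
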