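import Mathlib
import Cfsg.Agent.Helper1.SylEf
import Cfsg.Agent.Helper7.LinearCard

set_option autoImplicit false

/-!
The `2`-part of the orders of `GL_n(q)` and `SL_n(q)`, `q` odd.
-/

namespace Cfsg.Agent.Helper1.SylG

open Cfsg.Agent.Helper1.SylE

universe u

theorem geom_mul' (q m : ℕ) (hq : 1 ≤ q) : (q - 1) * ∑ j ∈ Finset.range m, q ^ j = q ^ m - 1 := by
  obtain ⟨t, rfl⟩ := Nat.exists_eq_add_of_le hq
  have : 1 + t - 1 = t := by omega
  rw [this]
  induction m with
  | zero => simp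
  | succ m ih =>
    rw [Finset.sum_range_succ, mul_add, ih, pow_succ]
    have h1 : 1 ≤ (1 + t) ^ m := Nat.one_le_pow _ _ (by omega)
    have h2 : (1 + t) ^ m * (1 + t) = (1 + t) ^ m + t * (1 + t) ^ m := by ring
    omega

theorem padicValNat_pow_odd_sub_one {q : ℕ} (hq : Odd q) (hq3 : 3 ≤ q) {i : ℕ} (hi : Odd i) :
    padicValNat 2 (q ^ i - 1) = padicValNat 2 (q - 1) := by
  haveI : Fact (Nat.Prime 2) := ⟨Nat.prime_two⟩
  have hS : Odd (∑ j ∈ Finset.range i, q ^ j) := by
    rw [Finset.odd_sum_iff_odd_card_odd]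
    have : (Finset.range i).filter (fun x => Odd (q ^ x)) = Finset.range i := by
      apply Finset.filter_true_of_mem
      intro x _
      exact hq.pow
    rw [this, Finset.card_range]
    exact hi
  have hS0 : (∑ j ∈ Finset.range i, q ^ j) ≠ 0 := by
    intro h; rw [h] at hS; exact Nat.not_odd_zero hS
  rw [← geom_mul' q i (by omega), padicValNat.mul (by omega) hS0,
    padicValNat.eq_zero_of_not_dvd (n := ∑ j ∈ Finset.range i, q ^ j), add_zero]
  rw [Nat.two_dvd_ne_zero]; exact Nat.odd_iff.1 hS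

theorem sum_V_even {q : ℕ} (hq : Odd q) (hq3 : 3 ≤ q) (m : ℕ) :
    ∑ j ∈ Finset.range (2 * m), padicValNat 2 (q ^ (j + 1) - 1) =
      m * (padicValNat 2 (q ^ 2 - 1) + padicValNat 2 (q - 1)) + padicValNat 2 m.factorial := by
  induction m with
  | zero => simp
  | succ m ih =>
    have e : 2 * (m + 1) = 2 * m + 1 + 1 := by ring
    rw [e, Finset.sum_range_succ, Finset.sum_range_succ, ih,
      padicValNat_pow_odd_sub_one hq hq3 (i := 2 * m + 1) ⟨m, rfl⟩]
    have e2 : 2 * m + 1 + 1 = 2 * (m + 1) := by ring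
    rw [e2, padicValNat_pow_sub_one hq hq3 (m + 1) (by omega), padicValNat_factorial_succ]
    ring

theorem sum_V_odd {q : ℕ} (hq : Odd q) (hq3 : 3 ≤ q) (m : ℕ) :
    ∑ j ∈ Finset.range (2 * m + 1), padicValNat 2 (q ^ (j + 1) - 1) =
      m * (padicValNat 2 (q ^ 2 - 1) + padicValNat 2 (q - 1)) + padicValNat 2 m.factorial +
        padicValNat 2 (q - 1) := by
  rw [Finset.sum_range_succ, sum_V_even hq hq3,
    padicValNat_pow_odd_sub_one hq hq3 (i := 2 * m + 1) ⟨m, rfl⟩]

theorem padicValNat_prod_GL {q : ℕ} (hq : Odd q) (hq3 : 3 ≤ q) (n : ℕ) :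
    padicValNat 2 (∏ i ∈ Finset.range n, (q ^ n - q ^ i)) =
      ∑ j ∈ Finset.range n, padicValNat 2 (q ^ (j + 1) - 1) := by
  haveI : Fact (Nat.Prime 2) := ⟨Nat.prime_two⟩
  have hodd : ¬ 2 ∣ q := by
    rw [Nat.two_dvd_ne_zero]; exact Nat.odd_iff.1 hq
  have hfac : ∀ i, i < n → q ^ n - q ^ i ≠ 0 := by
    intro i hi
    have : q ^ i < q ^ n := Nat.pow_lt_pow_right (by omega) hi
    omega
  have key : ∀ k, k ≤ n → padicValNat 2 (∏ i ∈ Finset.range k, (q ^ n - q ^ i)) =
      ∑ i ∈ Finset.range k, padicValNat 2 (q ^ (n - i) - 1) := by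
    intro k
    induction k with
    | zero => simp
    | succ k ih =>
      intro hk
      have hprod : ∏ i ∈ Finset.range k, (q ^ n - q ^ i) ≠ 0 :=
        Finset.prod_ne_zero_iff.2 fun i hi => hfac i (by rw [Finset.mem_range] at hi; omega)
      rw [Finset.prod_range_succ, Finset.sum_range_succ, padicValNat.mul hprod (hfac k (by omega)),
        ih (by omega)]
      congr 1
      have e : q ^ n - q ^ k = q ^ k * (q ^ (n - k) - 1) := by
        rw [Nat.mul_sub, mul_one, ← pow_add]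
        congr 2; omega
      have h1 : q ^ (n - k) - 1 ≠ 0 := by
        have : 1 < q ^ (n - k) := Nat.one_lt_pow (by omega) (by omega)
        omega
      rw [e, padicValNat.mul (pow_ne_zero _ (by omega)) h1, padicValNat.pow,
        padicValNat.eq_zero_of_not_dvd hodd, mul_zero, zero_add]
  rw [key n le_rfl, ← Finset.sum_range_reflect (fun j => padicValNat 2 (q ^ (j + 1) - 1)) n]
  apply Finset.sum_congr rfl
  intro i hi
  rw [Finset.mem_range] at hi
  have : n - 1 - i + 1 = n - i := by omega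
  rw [this]

variable {F : Type u} [Field F] [Fintype F]

theorem padicValNat_card_GL (hq : Odd (Fintype.card F)) (n : ℕ) :
    padicValNat 2 (Nat.card (GL (Fin n) F)) =
      ∑ j ∈ Finset.range n, padicValNat 2 (Fintype.card F ^ (j + 1) - 1) := by
  have hq3 : 3 ≤ Fintype.card F := by
    have h1 : 1 < Fintype.card F := Fintype.one_lt_card
    obtain ⟨k, hk⟩ := hq
    omega
  rw [Matrix.card_GL_field, Fin.prod_univ_eq_prod_range
    (fun i => Fintype.card F ^ n - Fintype.card F ^ i) n, padicValNat_prod_GL hq hq3]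

theorem padicValNat_card_SL (hq : Odd (Fintype.card F)) (n : ℕ) (hn : 1 ≤ n) :
    padicValNat 2 (Nat.card (Matrix.SpecialLinearGroup (Fin n) F)) +
      padicValNat 2 (Fintype.card F - 1) =
      ∑ j ∈ Finset.range n, padicValNat 2 (Fintype.card F ^ (j + 1) - 1) := by
  haveI : Fact (Nat.Prime 2) := ⟨Nat.prime_two⟩
  haveI : Nonempty (Fin n) := ⟨⟨0, by omega⟩⟩
  have hq3 : 3 ≤ Fintype.card F := by
    have h1 : 1 < Fintype.card F := Fintype.one_lt_card
    obtain ⟨k, hk⟩ := hq
    omega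
  rw [← padicValNat_card_GL hq n, ← Cfsg.Agent.Helper7.card_units_mul_card_SL (n := Fin n) (F := F),
    padicValNat.mul (by omega) Nat.card_pos.ne', add_comm]

end Cfsg.Agent.Helper1.SylG
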