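import Mathlib
import Cfsg.Agent.Helper1.SylGd
import Cfsg.Agent.Helper1.SylGe

set_option autoImplicit false

/-!
Passing between representations and matrix groups; the kernel of the determinant has small index;
Sylow `2`-subgroups of `SL₂(q)`; the weak invariant for large `2`-subgroups of `GL₂(q)`.
-/

namespace Cfsg.Agent.Helper1.SylG

open Cfsg.Agent.Helper1.SylE Module

universe u v w

variable {F : Type u} [Field F]

section general

variable {P : Type*} [Group P] {U : Type*} [AddCommGroup U] [Module F U]

/-- the determinant as a homomorphism to the units -/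
noncomputable def detU (τ : P →* Module.End F U) : P →* Fˣ :=
  (Units.map (LinearMap.det : Module.End F U →* F)).comp τ.toHomUnits

theorem detU_val (τ : P →* Module.End F U) (x : P) : ((detU τ x : Fˣ) : F) = LinearMap.det (τ x) := by
  simp [detU]

theorem detU_ker (τ : P →* Module.End F U) : (detU τ).ker = detKer τ := by
  ext x
  rw [MonoidHom.mem_ker, mem_detKer, ← detU_val, Units.ext_iff, Units.val_one]

theorem det_ne_zero (τ : P →* Module.End F U) (x : P) : LinearMap.det (τ x) ≠ 0 := by
  rw [← detU_val]; exact Units.ne_zero _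

/-- the kernel of the determinant has index at most the `2`-part of `q - 1` -/
theorem card_le_detKer [Fintype F] [Finite P] (hP : IsPGroup 2 P) (τ : P →* Module.End F U) :
    Nat.card P ≤ Nat.card (detKer τ) * 2 ^ (padicValNat 2 (Fintype.card F - 1)) := by
  classical
  haveI : Fact (Nat.Prime 2) := ⟨Nat.prime_two⟩
  have h1 := Subgroup.card_mul_index (detU τ).ker
  rw [Subgroup.index_ker, detU_ker] at h1
  rw [← h1]
  apply Nat.mul_le_mul_left
  have hRp : IsPGroup 2 ↥(detU τ).range := by
    rw [MonoidHom.range_eq_map]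
    exact IsPGroup.map (hP.to_subgroup ⊤) _
  obtain ⟨k, hk⟩ := IsPGroup.iff_card.1 hRp
  have hdvd : Nat.card ↥(detU τ).range ∣ Nat.card Fˣ := Subgroup.card_subgroup_dvd_card _
  rw [Nat.card_eq_fintype_card (α := Fˣ), Fintype.card_units, hk] at hdvd
  have hq1 : Fintype.card F - 1 ≠ 0 := by
    have : 1 < Fintype.card F := Fintype.one_lt_card
    omega
  rw [hk]
  exact Nat.pow_le_pow_right (by norm_num) ((padicValNat_dvd_iff_le hq1).1 hdvd)

/-- from a representation of dimension `n` to `SL_n` -/
theorem exists_toSL [FiniteDimensional F U] (τ : P →* Module.End F U)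
    (hτ : Function.Injective τ) (n : ℕ) (hn : finrank F U = n) :
    ∃ f : detKer τ →* Matrix.SpecialLinearGroup (Fin n) F, Function.Injective f := by
  classical
  let b : Basis (Fin n) F U := Module.finBasisOfFinrankEq F U hn
  have hdet : ∀ k : detKer τ, (LinearMap.toMatrix b b (τ k)).det = 1 := by
    intro k
    rw [LinearMap.det_toMatrix]
    exact (mem_detKer τ k).1 k.2
  refine ⟨{ toFun := fun k => ⟨LinearMap.toMatrix b b (τ k), hdet k⟩
            map_one' := ?_
            map_mul' := ?_ }, ?_⟩
  · apply Subtype.ext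
    show LinearMap.toMatrix b b (τ ((1 : detKer τ) : P)) = 1
    rw [Subgroup.coe_one, map_one]
    exact LinearMap.toMatrix_one b
  · intro x y
    apply Subtype.ext
    show LinearMap.toMatrix b b (τ ((x * y : detKer τ) : P)) =
      LinearMap.toMatrix b b (τ x) * LinearMap.toMatrix b b (τ y)
    rw [Subgroup.coe_mul, map_mul]
    exact LinearMap.toMatrix_mul b _ _
  · intro x y hxy
    have h1 : LinearMap.toMatrix b b (τ x) = LinearMap.toMatrix b b (τ y) :=
      congrArg Subtype.val hxy
    exact Subtype.ext (hτ ((LinearMap.toMatrix b b).injective h1))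

end general

section std

variable {n : Type*} [Fintype n] [DecidableEq n]

/-- the standard representation of a subgroup of `GL` -/
noncomputable def stdRep (B : Subgroup (GL n F)) : B →* Module.End F (n → F) :=
  (AlgEquiv.toMulEquiv (Matrix.toLinAlgEquiv' (R := F) (n := n))).toMonoidHom.comp
    ((Units.coeHom _).comp B.subtype)

theorem stdRep_apply (B : Subgroup (GL n F)) (g : B) :
    stdRep B g = Matrix.toLin' ((g : GL n F) : Matrix n n F) := rfl

theorem stdRep_injective (B : Subgroup (GL n F)) : Function.Injective (stdRep B) := by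
  intro x y hxy
  have h1 : (Units.coeHom _) (B.subtype x) = (Units.coeHom _) (B.subtype y) :=
    (AlgEquiv.toMulEquiv (Matrix.toLinAlgEquiv' (R := F) (n := n))).injective hxy
  exact Subtype.ext (Units.ext h1)

theorem det_stdRep (B : Subgroup (GL n F)) (g : B) :
    LinearMap.det (stdRep B g) = Matrix.det ((g : GL n F) : Matrix n n F) := by
  rw [stdRep_apply, LinearMap.det_toLin']

end std

section sl2

variable [Fintype F]

theorem padicValNat_card_SL2 (hq : Odd (Fintype.card F)) :
    padicValNat 2 (Nat.card (Matrix.SpecialLinearGroup (Fin 2) F)) =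
      padicValNat 2 (Fintype.card F ^ 2 - 1) := by
  have h := padicValNat_card_SL hq 2 (by norm_num)
  rw [Finset.sum_range_succ, Finset.sum_range_one] at h
  simp only [zero_add, pow_one] at h
  have : (1 + 1 : ℕ) = 2 := rfl
  rw [this] at h
  omega

theorem sylow_SL2_EProp (hq : Odd (Fintype.card F))
    (S : Sylow 2 (Matrix.SpecialLinearGroup (Fin 2) F)) :
    EProp ↥(S : Subgroup (Matrix.SpecialLinearGroup (Fin 2) F)) := by
  obtain ⟨D, hDp, hDE, hDc⟩ := exists_base_D hq
  refine sylow_EProp_of_injective hDp hDE D.subtype Subtype.val_injective ?_ S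
  rw [padicValNat_card_SL2 hq]
  exact hDc

/-- any `2`-subgroup of `SL₂(q)` of full order has `EProp` -/
theorem EProp_of_card_SL2 (hq : Odd (Fintype.card F)) {K : Type*} [Group K]
    (hK : IsPGroup 2 K) (f : K →* Matrix.SpecialLinearGroup (Fin 2) F)
    (hf : Function.Injective f)
    (hcard : 2 ^ (padicValNat 2 (Fintype.card F ^ 2 - 1)) ≤ Nat.card K) : EProp K := by
  classical
  haveI : Fact (Nat.Prime 2) := ⟨Nat.prime_two⟩
  have e : K ≃* f.range := MonoidHom.ofInjective hf
  have hRc : Nat.card ↥f.range = Nat.card K := Nat.card_congr e.symm.toEquiv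
  have hRp : IsPGroup 2 ↥f.range := by
    rw [MonoidHom.range_eq_map]
    exact IsPGroup.map (hK.to_subgroup ⊤) f
  obtain ⟨S', hS'⟩ := hRp.exists_le_sylow
  have hS'c : Nat.card ↥(S' : Subgroup (Matrix.SpecialLinearGroup (Fin 2) F)) =
      2 ^ (padicValNat 2 (Fintype.card F ^ 2 - 1)) := by
    rw [Sylow.card_eq_multiplicity, Nat.factorization_def _ Nat.prime_two,
      padicValNat_card_SL2 hq]
  have hle : Nat.card ↥(S' : Subgroup (Matrix.SpecialLinearGroup (Fin 2) F)) ≤
      Nat.card ↥f.range := by
    rw [hS'c, hRc]; exact hcard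
  have heq : f.range = (S' : Subgroup (Matrix.SpecialLinearGroup (Fin 2) F)) :=
    Subgroup.eq_of_le_of_card_ge hS' hle
  have hRE : EProp ↥f.range := heq ▸ sylow_SL2_EProp hq S'
  exact hRE.of_mulEquiv e.symm

/-- the weak invariant for `2`-subgroups of `GL₂(q)` of full order -/
theorem base_Good2 (hq : Odd (Fintype.card F)) (B : Subgroup (GL (Fin 2) F)) (hB : IsPGroup 2 B)
    (hcard : 2 ^ (padicValNat 2 (Fintype.card F ^ 2 - 1) + padicValNat 2 (Fintype.card F - 1)) ≤
      Nat.card B) : Good2 (stdRep B) := by
  refine ⟨stdRep_injective B, ?_⟩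
  obtain ⟨f, hf⟩ := exists_toSL (stdRep B) (stdRep_injective B) 2 (by simp)
  refine EProp_of_card_SL2 hq (hB.to_subgroup _) f hf ?_
  have h1 := card_le_detKer hB (stdRep B)
  have h2 := le_trans hcard h1
  rw [pow_add] at h2
  exact Nat.le_of_mul_le_mul_right h2 (by positivity)

end sl2

end Cfsg.Agent.Helper1.SylG
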