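import Mathlib
import Cfsg.Agent.Helper1.SylGa

set_option autoImplicit false

/-!
Abstract "torus plus involution" lemma (semidihedral type): from a finite commutative subgroup `C`,
an involution `r ∉ C` normalizing `C` such that `c r c ∈ {r, z r}` for every `2`-element `c ∈ C`
(`z = [j, r]` central) we obtain a `2`-subgroup `D ∋ r` with `EProp` and order at least twice the
`2`-part of `|C|`.
-/

namespace Cfsg.Agent.Helper1.SylG

open Cfsg.Agent.Helper1.SylE
open scoped commutatorElement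

universe u

variable {G : Type u} [Group G]

theorem exists_semidihedral_like [Finite G] (C : Subgroup G)
    (hcomm : ∀ a ∈ C, ∀ b ∈ C, a * b = b * a) (r : G) (hr2 : r * r = 1) (hrC : r ∉ C)
    (hnorm : ∀ c ∈ C, r * c * r ∈ C) (z : G) (hz : ∀ g : G, z * g = g * z)
    (j : G) (hjC : j ∈ C) (hj4 : j ^ 4 = 1) (hj : j * r = z * r * j)
    (hsq : ∀ c ∈ C, (∃ k : ℕ, c ^ (2 ^ k) = 1) → c * r * c = r ∨ c * r * c = z * r) :
    ∃ D : Subgroup G, IsPGroup 2 D ∧ EProp D ∧
      2 * 2 ^ (padicValNat 2 (Nat.card C)) ≤ Nat.card D ∧ r ∈ D := by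
  classical
  haveI : Fact (Nat.Prime 2) := ⟨Nat.prime_two⟩
  have hrinv : r⁻¹ = r := inv_eq_of_mul_eq_one_right hr2
  -- the `2`-torsion subgroup of `C`
  let C₂ : Subgroup G :=
    { carrier := {c | c ∈ C ∧ ∃ k : ℕ, c ^ (2 ^ k) = 1}
      one_mem' := ⟨C.one_mem, 0, by simp⟩
      mul_mem' := by
        rintro a b ⟨haC, k, hk⟩ ⟨hbC, l, hl⟩
        refine ⟨C.mul_mem haC hbC, k + l, ?_⟩
        have hc : Commute a b := hcomm a haC b hbC
        rw [hc.mul_pow, pow_add, pow_mul, hk, one_pow, one_mul, mul_comm (2 ^ k), pow_mul, hl,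
          one_pow]
      inv_mem' := by
        rintro a ⟨haC, k, hk⟩
        exact ⟨C.inv_mem haC, k, by rw [inv_pow, hk, inv_one]⟩ }
  have hC₂mem : ∀ c, c ∈ C₂ ↔ c ∈ C ∧ ∃ k : ℕ, c ^ (2 ^ k) = 1 := fun c => Iff.rfl
  have hC₂C : C₂ ≤ C := fun c hc => hc.1
  have hC₂p : IsPGroup 2 C₂ := by
    rintro ⟨g, hgC, k, hk⟩
    exact ⟨k, Subtype.ext (by simpa using hk)⟩
  have hC₂card : 2 ^ (padicValNat 2 (Nat.card C)) ≤ Nat.card C₂ := by
    obtain ⟨P, -⟩ := (IsPGroup.of_bot : IsPGroup 2 (⊥ : Subgroup C)).exists_le_sylow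
    have hPle : (P : Subgroup C).map C.subtype ≤ C₂ := by
      rintro _ ⟨x, hx, rfl⟩
      obtain ⟨k, hk⟩ := P.2 ⟨x, hx⟩
      refine ⟨x.2, k, ?_⟩
      have := congrArg (fun t : (P : Subgroup C) => ((t : C) : G)) hk
      simpa using this
    have h1 : Nat.card ((P : Subgroup C).map C.subtype) = 2 ^ (padicValNat 2 (Nat.card C)) := by
      rw [Subgroup.card_map_of_injective C.subtype_injective, Sylow.card_eq_multiplicity,
        Nat.factorization_def _ Nat.prime_two]
    rw [← h1]
    exact Subgroup.card_le_of_le hPle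
  have hjC₂ : j ∈ C₂ := ⟨hjC, 2, by norm_num; exact hj4⟩
  -- `r` normalizes `C₂`
  have hconj : ∀ x ∈ C₂, r * x * r ∈ C₂ := by
    rintro x ⟨hxC, k, hk⟩
    refine ⟨hnorm x hxC, k, ?_⟩
    have : r * x * r = r * x * r⁻¹ := by rw [hrinv]
    rw [this, conj_pow, hk, mul_one, mul_inv_cancel]
  have hzr : IsPGroup 2 (Subgroup.zpowers r) := by
    intro x
    obtain ⟨k, hk⟩ := Subgroup.mem_zpowers_iff.1 x.2
    refine ⟨1, ?_⟩
    apply Subtype.ext
    simp only [Subgroup.coe_pow, Subgroup.coe_one, ← hk, pow_one]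
    rw [← zpow_natCast, ← zpow_mul, mul_comm, zpow_mul, zpow_natCast, pow_two, hr2, one_zpow]
  have hnormal : Subgroup.zpowers r ≤ Subgroup.normalizer (C₂ : Set G) := by
    rw [Subgroup.zpowers_le, Subgroup.mem_normalizer_iff]
    intro x
    rw [hrinv]
    constructor
    · exact hconj x
    · intro hx
      have := hconj _ hx
      have e : r * (r * x * r) * r = x := by
        calc r * (r * x * r) * r = (r * r) * x * (r * r) := by group
          _ = x := by rw [hr2, one_mul, mul_one]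
      rwa [e] at this
  have hDsup : Subgroup.closure ((C₂ : Set G) ∪ {r}) = C₂ ⊔ Subgroup.zpowers r := by
    rw [Subgroup.closure_union, Subgroup.closure_eq, Subgroup.zpowers_eq_closure]
  have hDp : IsPGroup 2 (Subgroup.closure ((C₂ : Set G) ∪ {r})) := by
    rw [hDsup]
    exact IsPGroup.to_sup_of_normal_left' hC₂p hzr hnormal
  have hrD : r ∈ Subgroup.closure ((C₂ : Set G) ∪ {r}) := Subgroup.subset_closure (Or.inr rfl)
  have hC₂D : C₂ ≤ Subgroup.closure ((C₂ : Set G) ∪ {r}) := by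
    rw [hDsup]; exact le_sup_left
  refine ⟨Subgroup.closure ((C₂ : Set G) ∪ {r}), hDp, ?_, ?_, hrD⟩
  · -- `EProp`
    apply EProp.of_closure_subgroup _ ((C₂ : Set G) ∪ {r})
    · rintro s (hs | hs)
      · exact hC₂D hs
      · rw [Set.mem_singleton_iff] at hs; rw [hs]; exact hrD
    · exact le_rfl
    · have hjr : ⁅j, r⁆ = z := by
        rw [commutatorElement_def, hj]; group
      rintro s (hs | hs)
      · have hsD := hC₂D hs
        have hcs : ⁅s, r⁆ ∈ ⁅Subgroup.closure ((C₂ : Set G) ∪ {r}),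
            Subgroup.closure ((C₂ : Set G) ∪ {r})⁆ := Subgroup.commutator_mem_commutator hsD hrD
        rcases hsq s hs.1 hs.2 with h | h
        · have h' : s * r = r * s⁻¹ := by
            rw [eq_mul_inv_iff_mul_eq]; exact h
          have h1 : r * s⁻¹ * r⁻¹ = s := by
            rw [← h', mul_inv_cancel_right]
          have h2 : s ^ 2 = ⁅s, r⁆ := by
            rw [commutatorElement_def, mul_assoc, mul_assoc, ← mul_assoc r, h1, pow_two]
          rw [h2]; exact hcs
        · have h' : s * r = z * r * s⁻¹ := by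
            rw [eq_mul_inv_iff_mul_eq]; exact h
          have h0 : r * s⁻¹ = z⁻¹ * (s * r) := by
            rw [h', mul_assoc z, inv_mul_cancel_left]
          have h1 : r * s⁻¹ * r⁻¹ = z⁻¹ * s := by
            rw [h0, mul_assoc, mul_inv_cancel_right]
          have hzi : ∀ g : G, z⁻¹ * g = g * z⁻¹ := by
            intro g
            have := hz g
            calc z⁻¹ * g = z⁻¹ * (g * z) * z⁻¹ := by group
              _ = z⁻¹ * (z * g) * z⁻¹ := by rw [this]
              _ = g * z⁻¹ := by group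
          have h3 : ⁅s, r⁆ = s * (z⁻¹ * s) := by
            rw [commutatorElement_def, ← h1]; group
          have h2 : s ^ 2 = ⁅j, r⁆ * ⁅s, r⁆ := by
            rw [hjr, h3, ← mul_assoc s, ← hzi s, mul_assoc z⁻¹, mul_inv_cancel_left, pow_two]
          rw [h2]
          exact Subgroup.mul_mem _ (Subgroup.commutator_mem_commutator (hC₂D hjC₂) hrD) hcs
      · rw [Set.mem_singleton_iff] at hs
        rw [hs, pow_two, hr2]
        exact Subgroup.one_mem _
  · -- the order
    have hdvd : Nat.card C₂ ∣ Nat.card ↥(Subgroup.closure ((C₂ : Set G) ∪ {r})) :=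
      Subgroup.card_dvd_of_le hC₂D
    obtain ⟨k, hk⟩ := hdvd
    have hpos : 0 < Nat.card ↥(Subgroup.closure ((C₂ : Set G) ∪ {r})) := Nat.card_pos
    have hk1 : k ≠ 1 := by
      intro h1
      rw [h1, mul_one] at hk
      have heq : C₂ = Subgroup.closure ((C₂ : Set G) ∪ {r}) :=
        Subgroup.eq_of_le_of_card_ge hC₂D hk.le
      exact hrC (hC₂C (heq ▸ hrD))
    have hk0 : k ≠ 0 := by
      intro h0; rw [h0, mul_zero] at hk; omega
    rw [hk, mul_comm]
    exact Nat.mul_le_mul hC₂card (by omega)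

end Cfsg.Agent.Helper1.SylG
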