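import Mathlib
import Cfsg.Agent.Helper1.SylGf
import Cfsg.Agent.Helper1.SylGg

set_option autoImplicit false

/-!
The non-split torus of `GL₂(F)` (when `-1` is not a square) and the semidihedral base group.
-/

namespace Cfsg.Agent.Helper1.SylG

open Cfsg.Agent.Helper1.SylE Module Matrix

universe u

variable {F : Type u} [Field F]

/-- the matrix of multiplication by `x + y i` -/
def cM (x y : F) : Matrix (Fin 2) (Fin 2) F := !![x, -y; y, x]

/-- the reflection -/
def rM : Matrix (Fin 2) (Fin 2) F := !![1, 0; 0, -1]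

theorem det_cM (x y : F) : (cM x y).det = x ^ 2 + y ^ 2 := by
  rw [cM, Matrix.det_fin_two_of]; ring

theorem det_rM : (rM : Matrix (Fin 2) (Fin 2) F).det = -1 := by
  rw [rM, Matrix.det_fin_two_of]; ring

theorem cM_mul (x y x' y' : F) : cM x y * cM x' y' = cM (x * x' - y * y') (x * y' + y * x') := by
  ext i j
  fin_cases i <;> fin_cases j <;> simp [cM, Matrix.mul_apply, Fin.sum_univ_two] <;> ring

theorem cM_one : cM (1 : F) 0 = 1 := by
  ext i j
  fin_cases i <;> fin_cases j <;> simp [cM]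

theorem cM_inj {x y x' y' : F} (h : cM x y = cM x' y') : x = x' ∧ y = y' := by
  have h0 := congrFun (congrFun h 0) 0
  have h1 := congrFun (congrFun h 1) 0
  simp [cM] at h0 h1
  exact ⟨h0, h1⟩

theorem rM_mul_rM : (rM : Matrix (Fin 2) (Fin 2) F) * rM = 1 := by
  ext i j
  fin_cases i <;> fin_cases j <;> simp [rM, Matrix.mul_apply, Fin.sum_univ_two]

theorem rM_conj (x y : F) : rM * cM x y * rM = cM x (-y) := by
  ext i j
  fin_cases i <;> fin_cases j <;> simp [rM, cM, Matrix.mul_apply, Fin.sum_univ_two]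

theorem cM_rM_cM (x y : F) : cM x y * rM * cM x y = (x ^ 2 + y ^ 2) • rM := by
  ext i j
  fin_cases i <;> fin_cases j <;> simp [rM, cM, Matrix.mul_apply, Fin.sum_univ_two] <;> ring

theorem jM_rM : cM (0 : F) 1 * rM = (-1 : Matrix (Fin 2) (Fin 2) F) * rM * cM 0 1 := by
  ext i j
  fin_cases i <;> fin_cases j <;> simp [rM, cM, Matrix.mul_apply, Fin.sum_univ_two]

/-- the torus element -/
noncomputable def cG (x y : F) (h : x ^ 2 + y ^ 2 ≠ 0) : GL (Fin 2) F :=
  Matrix.GeneralLinearGroup.mkOfDetNeZero (cM x y) (by rw [det_cM]; exact h)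

/-- the reflection in `GL₂` -/
noncomputable def rG : GL (Fin 2) F :=
  Matrix.GeneralLinearGroup.mkOfDetNeZero rM (by rw [det_rM]; exact neg_ne_zero.2 one_ne_zero)

theorem cG_val (x y : F) (h : x ^ 2 + y ^ 2 ≠ 0) :
    ((cG x y h : GL (Fin 2) F) : Matrix (Fin 2) (Fin 2) F) = cM x y := rfl

theorem rG_val : ((rG : GL (Fin 2) F) : Matrix (Fin 2) (Fin 2) F) = rM := rfl

/-- the torus -/
def torus (F : Type u) [Field F] : Subgroup (GL (Fin 2) F) where
  carrier := {g | ∃ x y : F, (g : Matrix (Fin 2) (Fin 2) F) = cM x y}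
  one_mem' := ⟨1, 0, by rw [Units.val_one, cM_one]⟩
  mul_mem' := by
    rintro a b ⟨x, y, ha⟩ ⟨x', y', hb⟩
    exact ⟨_, _, by rw [Units.val_mul, ha, hb, cM_mul]⟩
  inv_mem' := by
    rintro a ⟨x, y, ha⟩
    have hdet : x ^ 2 + y ^ 2 ≠ 0 := by
      have h1 : IsUnit (a : Matrix (Fin 2) (Fin 2) F).det :=
        (Matrix.isUnit_iff_isUnit_det _).1 a.isUnit
      rw [ha, det_cM] at h1
      exact h1.ne_zero
    refine ⟨x / (x ^ 2 + y ^ 2), -y / (x ^ 2 + y ^ 2), ?_⟩
    rw [Matrix.coe_units_inv, ha]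
    apply Matrix.inv_eq_right_inv
    rw [cM_mul, ← cM_one]
    congr 1
    · field_simp; ring
    · field_simp; ring

theorem mem_torus (g : GL (Fin 2) F) :
    g ∈ torus F ↔ ∃ x y : F, (g : Matrix (Fin 2) (Fin 2) F) = cM x y := Iff.rfl

theorem torus_comm : ∀ a ∈ torus F, ∀ b ∈ torus F, a * b = b * a := by
  rintro a ⟨x, y, ha⟩ b ⟨x', y', hb⟩
  apply Units.ext
  rw [Units.val_mul, Units.val_mul, ha, hb, cM_mul, cM_mul]
  congr 1 <;> ring

theorem norm_ne_zero (hns : ∀ t : F, t ^ 2 + 1 ≠ 0) (x y : F) (h : ¬ (x = 0 ∧ y = 0)) :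
    x ^ 2 + y ^ 2 ≠ 0 := by
  intro h0
  by_cases hy : y = 0
  · apply h
    refine ⟨?_, hy⟩
    rw [hy] at h0
    simpa using h0
  · apply hns (x / y)
    field_simp
    rw [h0, mul_zero]

theorem card_torus [Fintype F] (hns : ∀ t : F, t ^ 2 + 1 ≠ 0) :
    Nat.card (torus F) = Fintype.card F ^ 2 - 1 := by
  classical
  let e : torus F ≃ {p : F × F // p ≠ 0} :=
    { toFun := fun g => ⟨((g : GL (Fin 2) F).val 0 0, (g : GL (Fin 2) F).val 1 0), by
        obtain ⟨x, y, hg⟩ := g.2
        intro h0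
        have h1 : (g : GL (Fin 2) F).val 0 0 = 0 := congrArg Prod.fst h0
        have h2 : (g : GL (Fin 2) F).val 1 0 = 0 := congrArg Prod.snd h0
        rw [hg] at h1 h2
        simp [cM] at h1 h2
        have h3 : IsUnit ((g : GL (Fin 2) F) : Matrix (Fin 2) (Fin 2) F).det :=
          (Matrix.isUnit_iff_isUnit_det _).1 (g : GL (Fin 2) F).isUnit
        rw [hg, det_cM, h1, h2] at h3
        simp at h3⟩
      invFun := fun p => ⟨cG p.1.1 p.1.2 (norm_ne_zero hns _ _ (by
        intro h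
        apply p.2
        exact Prod.ext h.1 h.2)), ⟨_, _, rfl⟩⟩
      left_inv := by
        rintro ⟨g, x, y, hg⟩
        apply Subtype.ext
        apply Units.ext
        show cM (g.val 0 0) (g.val 1 0) = g.val
        rw [hg]
        simp [cM]
      right_inv := by
        rintro ⟨⟨x, y⟩, hp⟩
        apply Subtype.ext
        show ((cM x y) 0 0, (cM x y) 1 0) = (x, y)
        simp [cM] }
  rw [Nat.card_congr e, Nat.card_eq_fintype_card, Fintype.card_subtype_compl,
    Fintype.card_subtype_eq, Fintype.card_prod, pow_two]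

end Cfsg.Agent.Helper1.SylG
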