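import Mathlib
import Cfsg.Agent.Helper1.OrSf
import Cfsg.Agent.Helper1.OrSg
import Cfsg.Agent.Helper1.SylEf
import Cfsg.Agent.Helper1.SylGh
import Cfsg.Agent.Helper8.ReflMatrix

set_option autoImplicit false

/-!
The base of the orthogonal recursion: a dihedral `2`-subgroup of the isometry group of `x² + y²`
of order at least the `2`-part of `q² - 1`.
-/

namespace Cfsg.Agent.Helper1.OrS

open Cfsg.Agent.Helper1.SylE Cfsg.Agent.Helper1.SylG Module Matrix
open Cfsg.Agent.Helper8.OrthOrder Cfsg.Agent.Helper8.QuadForm Cfsg.Agent.Helper8.SpinorSign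
open Cfsg.Agent.Helper8.ReflMatrix
open scoped commutatorElement

universe u

variable {F : Type u} [Field F]

/-- the form `x² + y²` -/
noncomputable def Q0 (F : Type u) [Field F] : QuadraticForm F (Fin 2 → F) :=
  piQ (Fin 2) (QuadraticMap.sq : QuadraticForm F F)

theorem Q0_apply (v : Fin 2 → F) : Q0 F v = v 0 * v 0 + v 1 * v 1 := by
  unfold Q0
  rw [piQ_apply, Fin.sum_univ_two]
  rfl

theorem toGL_rot_val (x y : F) (h : x ^ 2 + y ^ 2 = 1) :
    ((Matrix.SpecialLinearGroup.toGL (rot x y h) : GL (Fin 2) F) : Matrix (Fin 2) (Fin 2) F)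
      = cM x y := rfl

theorem cM_mem_isometryGroup (g : GL (Fin 2) F) (x y : F) (h : x ^ 2 + y ^ 2 = 1)
    (hg : (g : Matrix (Fin 2) (Fin 2) F) = cM x y) : g ∈ Cfsg.isometryGroup F ⇑(Q0 F) := by
  rw [mem_isometryGroup_iff]
  intro v
  rw [glEquiv_apply, hg, Q0_apply, Q0_apply]
  simp only [cM, Matrix.mulVec, dotProduct, Fin.sum_univ_two, Matrix.of_apply, Matrix.cons_val_zero,
    Matrix.cons_val_one, Matrix.cons_val', Matrix.cons_val_fin_one]
  linear_combination (v 0 * v 0 + v 1 * v 1) * h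

theorem rG_mem_isometryGroup : (rG : GL (Fin 2) F) ∈ Cfsg.isometryGroup F ⇑(Q0 F) := by
  rw [mem_isometryGroup_iff]
  intro v
  rw [glEquiv_apply, rG_val, Q0_apply, Q0_apply]
  simp only [rM, Matrix.mulVec, dotProduct, Fin.sum_univ_two, Matrix.of_apply, Matrix.cons_val_zero,
    Matrix.cons_val_one, Matrix.cons_val', Matrix.cons_val_fin_one]
  ring

theorem rG_mul_rG : (rG : GL (Fin 2) F) * rG = 1 := by
  apply Units.ext
  rw [Units.val_mul, rG_val, rM_mul_rM, Units.val_one]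

/-- the dihedral group attached to a subtorus -/
theorem exists_D_of_torus [Finite F] (h2 : (2 : F) ≠ 0)
    (T : Subgroup (Matrix.SpecialLinearGroup (Fin 2) F)) (hT : T ≤ rotSub F) :
    ∃ D : Subgroup (GL (Fin 2) F), IsPGroup 2 D ∧
      2 * 2 ^ (padicValNat 2 (Nat.card T)) ≤ Nat.card D ∧
      D ≤ Cfsg.isometryGroup F ⇑(Q0 F) ∧
      ∃ r ∈ D, ∀ d ∈ D, d * d = 1 ∨ d ^ 2 = ⁅d, r⁆ := by
  classical
  have hne1 : (-1 : F) ≠ 1 := by
    intro h
    apply h2
    have : (2 : F) = 1 - (-1) := by ring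
    rw [this, h, sub_self]
  have hcardC : Nat.card (T.map Matrix.SpecialLinearGroup.toGL) = Nat.card T :=
    Subgroup.card_map_of_injective Matrix.SpecialLinearGroup.toGL_injective
  obtain ⟨D, hDp, hDc, hDle, hrD, hD⟩ := exists_dihedral_like
    (T.map (Matrix.SpecialLinearGroup.toGL : _ →* GL (Fin 2) F))
    (by
      rintro _ ⟨a, ha, rfl⟩ _ ⟨b, hb, rfl⟩
      rw [← map_mul, ← map_mul, rotSub_comm a (hT ha) b (hT hb)])
    rG rG_mul_rG
    (by
      rintro ⟨s, -, hs⟩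
      have h1 := congrArg (fun g : GL (Fin 2) F => (g : Matrix (Fin 2) (Fin 2) F).det) hs
      simp only [rG_val, det_rM] at h1
      have h3 : ((Matrix.SpecialLinearGroup.toGL s : GL (Fin 2) F) :
          Matrix (Fin 2) (Fin 2) F).det = 1 := s.2
      rw [h3] at h1
      exact hne1 h1.symm)
    (by
      rintro _ ⟨s, hs, rfl⟩
      obtain ⟨x, y, h, rfl⟩ := hT hs
      rw [← map_inv, rot_inv]
      apply Units.ext
      rw [Units.val_mul, Units.val_mul, rG_val, toGL_rot_val, toGL_rot_val, rM_conj])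
  refine ⟨D, hDp, ?_, ?_, rG, hrD, hD⟩
  · rw [← hcardC]; exact hDc
  · refine le_trans hDle ?_
    rw [Subgroup.closure_le]
    rintro g (hg | hg)
    · obtain ⟨s, hs, rfl⟩ := hg
      obtain ⟨x, y, h, rfl⟩ := hT hs
      exact cM_mem_isometryGroup _ x y h (toGL_rot_val x y h)
    · rw [Set.mem_singleton_iff] at hg
      rw [hg]
      exact rG_mem_isometryGroup

theorem hyp_norm (i : F) (hi : i ^ 2 = -1) (h2 : (2 : F) ≠ 0) (t : F) (ht : t ≠ 0) :
    ((t + t⁻¹) / 2) ^ 2 + (-i * (t - t⁻¹) / 2) ^ 2 = 1 := by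
  field_simp
  linear_combination (t ^ 2 - 1) ^ 2 * hi

/-- the split torus -/
noncomputable def hyp (i : F) (hi : i ^ 2 = -1) (h2 : (2 : F) ≠ 0) :
    Fˣ →* Matrix.SpecialLinearGroup (Fin 2) F where
  toFun t := rot (((t : F) + (t : F)⁻¹) / 2) (-i * ((t : F) - (t : F)⁻¹) / 2)
    (hyp_norm i hi h2 (t : F) t.ne_zero)
  map_one' := by
    rw [← rot_one, rot_eq_iff]
    constructor
    · rw [Units.val_one, inv_one]
      field_simp
      norm_num
    · rw [Units.val_one, inv_one, sub_self, mul_zero, zero_div]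
  map_mul' := by
    intro s t
    rw [rot_mul, rot_eq_iff]
    have hs : (s : F) ≠ 0 := s.ne_zero
    have ht : (t : F) ≠ 0 := t.ne_zero
    rw [Units.val_mul]
    constructor
    · field_simp
      linear_combination (((s : F) ^ 2 - 1) * ((t : F) ^ 2 - 1)) * hi
    · field_simp
      ring

theorem hyp_apply (i : F) (hi : i ^ 2 = -1) (h2 : (2 : F) ≠ 0) (t : Fˣ) :
    hyp i hi h2 t = rot (((t : F) + (t : F)⁻¹) / 2) (-i * ((t : F) - (t : F)⁻¹) / 2)
      (hyp_norm i hi h2 (t : F) t.ne_zero) := rfl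

theorem hyp_injective (i : F) (hi : i ^ 2 = -1) (h2 : (2 : F) ≠ 0) :
    Function.Injective (hyp i hi h2) := by
  intro s t h
  rw [hyp_apply, hyp_apply, rot_eq_iff] at h
  obtain ⟨h1, h3⟩ := h
  apply Units.ext
  have key : ∀ u : F, u ≠ 0 → u = (u + u⁻¹) / 2 + i * (-i * (u - u⁻¹) / 2) := by
    intro u hu
    field_simp
    linear_combination (u ^ 2 - 1) * hi
  rw [key (s : F) s.ne_zero, key (t : F) t.ne_zero, h1, h3]

theorem hyp_range_le (i : F) (hi : i ^ 2 = -1) (h2 : (2 : F) ≠ 0) :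
    (hyp i hi h2).range ≤ rotSub F := by
  rintro _ ⟨t, rfl⟩
  exact ⟨_, _, _, hyp_apply i hi h2 t⟩

theorem card_hyp_range [Fintype F] (i : F) (hi : i ^ 2 = -1) (h2 : (2 : F) ≠ 0) :
    Nat.card (hyp i hi h2).range = Fintype.card F - 1 := by
  rw [← Nat.card_congr (MonoidHom.ofInjective (hyp_injective i hi h2)).toEquiv, Nat.card_units,
    Nat.card_eq_fintype_card]

/-- the base group as a subgroup of the matrix isometry group -/
theorem exists_base_O [Fintype F] (hq : Odd (Fintype.card F)) :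
    ∃ D : Subgroup (GL (Fin 2) F), IsPGroup 2 D ∧
      2 ^ (padicValNat 2 (Fintype.card F ^ 2 - 1)) ≤ Nat.card D ∧
      D ≤ Cfsg.isometryGroup F ⇑(Q0 F) ∧
      ∃ r ∈ D, ∀ d ∈ D, d * d = 1 ∨ d ^ 2 = ⁅d, r⁆ := by
  classical
  have h2 : (2 : F) ≠ 0 := two_ne_zero_of_odd hq
  have hq3 : 3 ≤ Fintype.card F := by
    have h1 : 1 < Fintype.card F := Fintype.one_lt_card
    obtain ⟨k, hk⟩ := hq
    omega
  have hmod : Fintype.card F % 2 = 1 := Nat.odd_iff.1 hq
  by_cases hsq : IsSquare (-1 : F)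
  · obtain ⟨i, hi⟩ := hsq
    have hi' : i ^ 2 = -1 := by rw [pow_two]; exact hi.symm
    obtain ⟨D, hDp, hDc, hDle, hD⟩ := exists_D_of_torus h2 (hyp i hi' h2).range
      (hyp_range_le i hi' h2)
    refine ⟨D, hDp, le_trans ?_ hDc, hDle, hD⟩
    have h4 : Fintype.card F % 4 ≠ 3 := FiniteField.isSquare_neg_one_iff.1 ⟨i, hi⟩
    have h5 : padicValNat 2 (Fintype.card F + 1) = 1 :=
      padicValNat_two_of_mod_four (by omega)
    rw [card_hyp_range, padicValNat_sq_sub_one hq hq3, h5, pow_succ, mul_comm]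
  · have hns : ∀ t : F, t ^ 2 + 1 ≠ 0 := by
      intro t ht
      apply hsq
      exact ⟨t, by linear_combination (-1 : F) * ht⟩
    obtain ⟨D, hDp, hDc, hDle, hD⟩ := exists_D_of_torus h2 (rotSub F) le_rfl
    refine ⟨D, hDp, le_trans ?_ hDc, hDle, hD⟩
    have h4 : ¬ Fintype.card F % 4 ≠ 3 := fun h => hsq (FiniteField.isSquare_neg_one_iff.2 h)
    have h5 : padicValNat 2 (Fintype.card F - 1) = 1 :=
      padicValNat_two_of_mod_four (by omega)
    rw [card_rotSub h2 hns, padicValNat_sq_sub_one hq hq3, h5, add_comm, pow_succ, mul_comm]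

end Cfsg.Agent.Helper1.OrS
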