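import Mathlib
import Cfsg.Agent.Helper1.OrSc
import Cfsg.Agent.Helper8.OmegaOdd

set_option autoImplicit false

/-!
Transport of isometry groups along an isometry, compatibility with the sign characters, and the
final Sylow transfer into `Ω(Q)`.
-/

namespace Cfsg.Agent.Helper1.OrS

open Cfsg.Agent.Helper1.SylE Cfsg.Agent.Helper1.SylG Module
open Cfsg.Agent.Helper8.OrthOrder Cfsg.Agent.Helper8.QuadForm Cfsg.Agent.Helper8.Reflections
  Cfsg.Agent.Helper8.SpinorSign Cfsg.Agent.Helper8.ReflMatrix Cfsg.Agent.Helper8.OmegaOdd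

universe u v w

variable {F : Type*} [Field F] {W : Type*} [AddCommGroup W] [Module F W]
  {V : Type*} [AddCommGroup V] [Module F V]

/-- transport of isometries along an isometry -/
noncomputable def isoConj (QW : QuadraticForm F W) (Q : QuadraticForm F V) (φ : W ≃ₗ[F] V)
    (hφ : ∀ w, Q (φ w) = QW w) : ↥(Isom QW) →* ↥(Isom Q) :=
  isoRep Q ((LinearEquiv.conjRingEquiv φ).toMonoidHom.comp (toEnd QW)) (by
    intro g v
    show Q (φ ((g : W ≃ₗ[F] W) (φ.symm v))) = Q v
    rw [hφ, g.2 (φ.symm v), ← hφ, LinearEquiv.apply_symm_apply])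

theorem isoConj_apply (QW : QuadraticForm F W) (Q : QuadraticForm F V) (φ : W ≃ₗ[F] V)
    (hφ : ∀ w, Q (φ w) = QW w) (g : ↥(Isom QW)) (v : V) :
    ((isoConj QW Q φ hφ g : ↥(Isom Q)) : V ≃ₗ[F] V) v = φ ((g : W ≃ₗ[F] W) (φ.symm v)) := rfl

theorem isoConj_injective (QW : QuadraticForm F W) (Q : QuadraticForm F V) (φ : W ≃ₗ[F] V)
    (hφ : ∀ w, Q (φ w) = QW w) : Function.Injective (isoConj QW Q φ hφ) := by
  intro a b hab
  apply Subtype.ext
  apply LinearEquiv.ext
  intro w
  have h1 := congrArg (fun g : ↥(Isom Q) => (g : V ≃ₗ[F] V) (φ w)) hab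
  simp only [isoConj_apply, LinearEquiv.symm_apply_apply] at h1
  exact φ.injective h1

theorem polar_isometry (QW : QuadraticForm F W) (Q : QuadraticForm F V) (φ : W ≃ₗ[F] V)
    (hφ : ∀ w, Q (φ w) = QW w) (x y : W) :
    QuadraticMap.polar Q (φ x) (φ y) = QuadraticMap.polar QW x y := by
  unfold QuadraticMap.polar
  rw [← map_add, hφ, hφ, hφ]

theorem isoConj_reflI (QW : QuadraticForm F W) (Q : QuadraticForm F V) (φ : W ≃ₗ[F] V)
    (hφ : ∀ w, Q (φ w) = QW w) (z : W) :
    isoConj QW Q φ hφ (reflI QW z) = reflI Q (φ z) := by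
  apply Subtype.ext
  apply LinearEquiv.ext
  intro v
  rw [isoConj_apply, reflI_apply, reflI_apply, map_sub, map_smul, LinearEquiv.apply_symm_apply,
    ← polar_isometry QW Q φ hφ, LinearEquiv.apply_symm_apply, hφ]

theorem signHom_isoConj [Fintype F] [FiniteDimensional F W] [FiniteDimensional F V]
    (h2 : (2 : F) ≠ 0) (QW : QuadraticForm F W) (Q : QuadraticForm F V) (hQW : Nondeg QW)
    (φ : W ≃ₗ[F] V) (hφ : ∀ w, Q (φ w) = QW w) {c : F} (hc : c ≠ 0) (g : ↥(Isom QW)) :
    signHom Q c (isoConj QW Q φ hφ g) = signHom QW c g := by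
  have key : (signHom Q c).comp (isoConj QW Q φ hφ) = signHom QW c := by
    apply hom_ext_refl h2 QW hQW
    intro z hz
    rw [MonoidHom.comp_apply, isoConj_reflI]
    exact signHom_reflI_eq h2 QW Q hc hz (hφ z)
  exact congrArg (fun f : ↥(Isom QW) →* ℤˣ => f g) key

/-- **Sylow transfer**: a `2`-group `K` with `EProp`, embedded in the common kernel of the two
sign characters of a space isometric to `(ι → F, Q)`, of order at least a quarter of the `2`-part
of the orthogonal group, shows that the Sylow `2`-subgroups of `Ω(Q)` have `EProp`. -/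
theorem sylow_omega_EProp [Fintype F] {ι : Type} [Fintype ι] [DecidableEq ι]
    (Q : QuadraticForm F (ι → F)) (h2 : (2 : F) ≠ 0)
    (hQ : (QuadraticMap.polarBilin Q).Nondegenerate) (hn : 2 ≤ Fintype.card ι) {e : F}
    (he : ¬ IsSquare e) [FiniteDimensional F W] (QW : QuadraticForm F W) (hQW : Nondeg QW)
    (φ : W ≃ₗ[F] (ι → F)) (hφ : ∀ w, Q (φ w) = QW w)
    {K : Type*} [Group K] (hK : IsPGroup 2 K) (hE : EProp K) (f : K →* ↥(Isom QW))
    (hf : Function.Injective f)
    (hsign : ∀ x, signHom QW 1 (f x) = 1 ∧ signHom QW e (f x) = 1)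
    (hcard : 2 ^ (padicValNat 2 (Nat.card ↥(Cfsg.isometryGroup F ⇑Q))) ≤ 4 * Nat.card K)
    (S : Sylow 2 ↥(Cfsg.Omega F ⇑Q)) : EProp ↥(S : Subgroup ↥(Cfsg.Omega F ⇑Q)) := by
  classical
  haveI : Fact (Nat.Prime 2) := ⟨Nat.prime_two⟩
  haveI : Finite ↥(Cfsg.isometryGroup F ⇑Q) := inferInstance
  obtain ⟨hidx, hmem⟩ := commutator_eq Q h2 hQ hn he
  have he0 : e ≠ 0 := by
    rintro rfl
    exact he IsSquare.zero
  -- the embedding
  let g : K →* ↥(Cfsg.isometryGroup F ⇑Q) :=
    ((isomEquiv Q).symm.toMonoidHom.comp (isoConj QW Q φ hφ)).comp f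
  have hg : Function.Injective g := by
    intro a b hab
    apply hf
    apply isoConj_injective QW Q φ hφ
    exact (isomEquiv Q).symm.injective hab
  have hgmem : ∀ x, g x ∈ Cfsg.Omega F ⇑Q := by
    intro x
    show g x ∈ commutator ↥(Cfsg.isometryGroup F ⇑Q)
    rw [hmem]
    have h1 : ∀ c : F, c ≠ 0 → chi Q c (g x) = signHom QW c (f x) := by
      intro c hc
      unfold chi
      rw [MonoidHom.comp_apply]
      have : (isomEquiv Q).toMonoidHom (g x) = isoConj QW Q φ hφ (f x) :=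
        (isomEquiv Q).apply_symm_apply _
      rw [this, signHom_isoConj h2 QW Q hQW φ hφ hc]
    rw [h1 1 one_ne_zero, h1 e he0]
    exact hsign x
  let g' : K →* ↥(Cfsg.Omega F ⇑Q) := g.codRestrict _ hgmem
  have hg' : Function.Injective g' := by
    intro a b hab
    apply hg
    exact congrArg Subtype.val hab
  apply sylow_EProp_of_injective hK hE g' hg'
  -- the order
  have hci : Nat.card ↥(Cfsg.Omega F ⇑Q) * 4 = Nat.card ↥(Cfsg.isometryGroup F ⇑Q) := by
    have := Subgroup.card_mul_index (commutator ↥(Cfsg.isometryGroup F ⇑Q))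
    rw [hidx] at this
    exact this
  have hpos : Nat.card ↥(Cfsg.Omega F ⇑Q) ≠ 0 := Nat.card_pos.ne'
  have h4 : padicValNat 2 4 = 2 := by
    have : (4 : ℕ) = 2 ^ 2 := by norm_num
    rw [this, padicValNat.prime_pow]
  have hv : padicValNat 2 (Nat.card ↥(Cfsg.isometryGroup F ⇑Q)) =
      padicValNat 2 (Nat.card ↥(Cfsg.Omega F ⇑Q)) + 2 := by
    rw [← hci, padicValNat.mul hpos (by norm_num), h4]
  rw [hv, pow_add] at hcard
  have : 2 ^ padicValNat 2 (Nat.card ↥(Cfsg.Omega F ⇑Q)) * 4 ≤ Nat.card K * 4 := by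
    rw [mul_comm (Nat.card K)]
    exact hcard
  exact Nat.le_of_mul_le_mul_right this (by norm_num)

end Cfsg.Agent.Helper1.OrS
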