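import Mathlib
import Cfsg.Agent.Helper1.OrSe

set_option autoImplicit false

/-!
Extension of an isometric representation by a line on which the group acts through a sign
character, and the values of the sign characters on the extension.
-/

namespace Cfsg.Agent.Helper1.OrS

open Cfsg.Agent.Helper1.SylE Cfsg.Agent.Helper1.SylG Module
open Cfsg.Agent.Helper8.OrthOrder Cfsg.Agent.Helper8.QuadForm Cfsg.Agent.Helper8.Reflections
  Cfsg.Agent.Helper8.SpinorSign

universe u v w

variable {F : Type*} [Field F]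

section unit

variable {U : Type*} [AddCommGroup U] [Module F U]

theorem negIsom_apply (Q : QuadraticForm F U) (v : U) :
    ((negIsom Q : ↥(Isom Q)) : U ≃ₗ[F] U) v = -v := rfl

theorem negIsom_mul_self (Q : QuadraticForm F U) : negIsom Q * negIsom Q = 1 := by
  apply Subtype.ext
  apply LinearEquiv.ext
  intro x
  show -(-x) = x
  exact neg_neg x

/-- the signs acting as scalars -/
noncomputable def unitIso (Q : QuadraticForm F U) : ℤˣ →* ↥(Isom Q) where
  toFun u := if u = 1 then 1 else negIsom Q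
  map_one' := if_pos rfl
  map_mul' := by
    intro u v
    rcases Int.units_eq_one_or u with rfl | rfl <;> rcases Int.units_eq_one_or v with rfl | rfl
    · simp
    · simp
    · simp
    · have h1 : (-1 : ℤˣ) * -1 = 1 := by decide
      have h3 : (-1 : ℤˣ) ≠ 1 := by decide
      rw [h1, if_pos rfl, if_neg h3, negIsom_mul_self]

theorem unitIso_one (Q : QuadraticForm F U) : unitIso Q 1 = 1 := map_one _

theorem unitIso_neg_one (Q : QuadraticForm F U) : unitIso Q (-1) = negIsom Q := by
  have h3 : (-1 : ℤˣ) ≠ 1 := by decide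
  show (if (-1 : ℤˣ) = 1 then 1 else negIsom Q) = negIsom Q
  rw [if_neg h3]

end unit

/-- the form `t x²` on the line -/
noncomputable def lineQ (t : F) : QuadraticForm F F := t • (QuadraticMap.sq : QuadraticForm F F)

theorem lineQ_apply (t x : F) : lineQ t x = t * (x * x) := rfl

theorem polar_lineQ (t x y : F) : QuadraticMap.polar (lineQ t) x y = t * (2 * x * y) := by
  unfold QuadraticMap.polar
  rw [lineQ_apply, lineQ_apply, lineQ_apply]
  ring

theorem lineQ_nondeg (h2 : (2 : F) ≠ 0) {t : F} (ht : t ≠ 0) : Nondeg (lineQ t) := by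
  intro v hv
  have h := hv 1
  rw [polar_lineQ, mul_one] at h
  rcases mul_eq_zero.1 h with h | h
  · exact absurd h ht
  · rcases mul_eq_zero.1 h with h | h
    · exact absurd h h2
    · exact h

theorem lineQ_one : lineQ (1 : F) = QuadraticMap.sq := one_smul _ _

theorem OrthoB.lineQ_one : OrthoB (lineQ (1 : F)) := by
  rw [Cfsg.Agent.Helper1.OrS.lineQ_one]
  exact OrthoB.sq

theorem negIsom_lineQ {t : F} (ht : t ≠ 0) :
    negIsom (lineQ t) = reflI (lineQ t) 1 := by
  apply Subtype.ext
  apply LinearEquiv.ext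
  intro x
  rw [negIsom_apply, reflI_apply, polar_lineQ, lineQ_apply]
  rw [smul_eq_mul]
  field_simp
  ring

variable [Fintype F]

theorem signHom_unitIso_lineQ (h2 : (2 : F) ≠ 0) {t : F} (ht : t ≠ 0) {c : F} (hc : c ≠ 0)
    (u : ℤˣ) :
    (IsSquare (c * t) → signHom (lineQ t) c (unitIso (lineQ t) u) = u) ∧
    (¬ IsSquare (c * t) → signHom (lineQ t) c (unitIso (lineQ t) u) = 1) := by
  rcases Int.units_eq_one_or u with rfl | rfl
  · rw [unitIso_one, map_one]
    exact ⟨fun _ => rfl, fun _ => rfl⟩
  · rw [unitIso_neg_one, negIsom_lineQ ht]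
    have h1 : lineQ t 1 = t := by rw [lineQ_apply, mul_one, mul_one]
    have hz : lineQ t 1 ≠ 0 := by rw [h1]; exact ht
    have := signHom_refl h2 (lineQ t) hc hz
    rw [h1] at this
    exact this

section ext

variable {U : Type*} [AddCommGroup U] [Module F U] [FiniteDimensional F U]
  {P : Type*} [Group P]

/-- extension by a line -/
noncomputable def extHom (Q : QuadraticForm F U) (t : F) (τ : P →* ↥(Isom Q)) (c₁ : F) :
    P →* ↥(Isom (Q.prod (lineQ t))) :=
  (prodIso Q (lineQ t)).comp (τ.prod ((unitIso (lineQ t)).comp ((signHom Q c₁).comp τ)))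

theorem extHom_apply (Q : QuadraticForm F U) (t : F) (τ : P →* ↥(Isom Q)) (c₁ : F) (x : P) :
    extHom Q t τ c₁ x = prodIso Q (lineQ t) (τ x, unitIso (lineQ t) (signHom Q c₁ (τ x))) := rfl

theorem extHom_injective (Q : QuadraticForm F U) (t : F) (τ : P →* ↥(Isom Q)) (c₁ : F)
    (hτ : Function.Injective τ) : Function.Injective (extHom Q t τ c₁) := by
  intro x y hxy
  rw [extHom_apply, extHom_apply] at hxy
  have := prodIso_injective Q (lineQ t) hxy
  exact hτ (congrArg Prod.fst this)

theorem signHom_extHom (h2 : (2 : F) ≠ 0) (Q : QuadraticForm F U) (hQ : Nondeg Q) {t : F}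
    (ht : t ≠ 0) (τ : P →* ↥(Isom Q)) (c₁ : F) {c : F} (hc : c ≠ 0) (x : P) :
    (IsSquare (c * t) → signHom (Q.prod (lineQ t)) c (extHom Q t τ c₁ x) =
      signHom Q c (τ x) * signHom Q c₁ (τ x)) ∧
    (¬ IsSquare (c * t) → signHom (Q.prod (lineQ t)) c (extHom Q t τ c₁ x) =
      signHom Q c (τ x)) := by
  rw [extHom_apply, signHom_prodIso h2 Q (lineQ t) hQ (lineQ_nondeg h2 ht) hc]
  obtain ⟨h1, h3⟩ := signHom_unitIso_lineQ h2 ht hc (signHom Q c₁ (τ x))
  constructor
  · intro hs
    rw [h1 hs]
  · intro hs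
    rw [h3 hs, mul_one]

end ext

end Cfsg.Agent.Helper1.OrS
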