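import Mathlib
import Cfsg.Agent.Helper1.OrSj
import Cfsg.Agent.Helper8.OmegaDiag

set_option autoImplicit false

/-!
Orthogonal bases of the standard spaces, the criterion for `-1 ∈ Ω`, and isometries from the
constructed spaces.
-/

namespace Cfsg.Agent.Helper1.OrS

open Cfsg.Agent.Helper1.SylE Cfsg.Agent.Helper1.SylG Module
open Cfsg.Agent.Helper8.OrthOrder Cfsg.Agent.Helper8.QuadForm Cfsg.Agent.Helper8.Reflections
  Cfsg.Agent.Helper8.SpinorSign Cfsg.Agent.Helper8.ReflMatrix

universe u v w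

variable {F : Type*} [Field F]

section std

variable [Fintype F] {ι : Type} [Fintype ι] [DecidableEq ι] (Q : QuadraticForm F (ι → F))

theorem exists_orth_basis (h2 : (2 : F) ≠ 0) (hQ : Nondeg Q) {n : ℕ}
    (hn : Fintype.card ι = n + 1) :
    ∃ b : Basis (Fin (n + 1)) F (ι → F),
      (∀ i j, i ≠ j → QuadraticMap.polar Q (b i) (b j) = 0) ∧ Q (b 0) ≠ 0 ∧
      ∀ i, i ≠ 0 → Q (b i) = 1 := by
  have hV : finrank F (ι → F) = n + 1 := by
    rw [Module.finrank_fintype_fun_eq_card, hn]
  obtain ⟨b, hb1, hb2, hb3⟩ := exists_orthogonal_family h2 n Q hQ hV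
  have hb4 : ∀ i, Q (b i) ≠ 0 := by
    intro i
    by_cases hi : i = 0
    · rw [hi]; exact hb2
    · rw [hb3 i hi]; exact one_ne_zero
  obtain ⟨b', hb'⟩ := exists_basis_of_orthogonal h2 Q hV hb1 hb4
  refine ⟨b', ?_, ?_, ?_⟩
  · rw [hb']; exact hb1
  · rw [hb']; exact hb2
  · rw [hb']; exact hb3

theorem neg_one_mem_iff (h2 : (2 : F) ≠ 0) (hQ : (QuadraticMap.polarBilin Q).Nondegenerate)
    (hn2 : 2 ≤ Fintype.card ι) {n : ℕ} (b : Basis (Fin (n + 1)) F (ι → F))
    (hb1 : ∀ i j, i ≠ j → QuadraticMap.polar Q (b i) (b j) = 0) (hb2 : Q (b 0) ≠ 0)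
    (hb3 : ∀ i, i ≠ 0 → Q (b i) = 1) :
    (∃ g : ↥(Cfsg.isometryGroup F ⇑Q), g ∈ commutator ↥(Cfsg.isometryGroup F ⇑Q) ∧
      ((g : GL ι F) : Matrix ι ι F) = -1) ↔ (Even (n + 1) ∧ IsSquare (Q (b 0))) := by
  have hnd : Nondeg Q := (nondeg_iff Q).mp hQ
  have key := Cfsg.Agent.Helper8.OmegaDiag.exists_mem_iff Q h2 hQ hn2 (List.ofFn b)
    (by
      rw [List.pairwise_ofFn]
      intro i j hij
      exact hb1 i j hij.ne)
    (by
      intro z hz
      rw [List.mem_ofFn] at hz
      obtain ⟨i, rfl⟩ := hz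
      by_cases hi : i = 0
      · rw [hi]; exact hb2
      · rw [hb3 i hi]; exact one_ne_zero)
    (-1 : Matrix ι ι F)
    (by
      intro v _
      rw [Matrix.neg_mulVec, Matrix.one_mulVec])
    (by
      intro x hx
      have hx0 : x = 0 := by
        apply hnd
        intro w
        have h1 : (QuadraticMap.polarBilin Q).flip x = 0 := by
          apply b.ext
          intro i
          rw [LinearMap.flip_apply, QuadraticMap.polarBilin_apply_apply, LinearMap.zero_apply]
          exact hx (b i) (by rw [List.mem_ofFn]; exact ⟨i, rfl⟩)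
        have h3 := LinearMap.congr_fun h1 w
        rw [LinearMap.flip_apply, QuadraticMap.polarBilin_apply_apply, LinearMap.zero_apply] at h3
        rw [QuadraticMap.polar_comm]
        exact h3
      rw [hx0, Matrix.mulVec_zero])
  rw [key, List.length_ofFn, List.map_ofFn, List.prod_ofFn, Fin.prod_univ_succ]
  have : ∏ i : Fin n, ((fun v => Q v) ∘ ⇑b) i.succ = 1 := by
    apply Finset.prod_eq_one
    intro i _
    exact hb3 i.succ (Fin.succ_ne_zero i)
  rw [this, mul_one]
  rfl

end std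

section isometry

variable {W : Type*} [AddCommGroup W] [Module F W] {V : Type*} [AddCommGroup V] [Module F V]

/-- an isometry from matching orthogonal bases -/
theorem exists_isometry_of_bases {κ : Type*} [Fintype κ] [DecidableEq κ] (QW : QuadraticForm F W)
    (Q : QuadraticForm F V) (β : Basis κ F W) (k₀ : κ) (d : F) (hβ0 : QW (β k₀) = d)
    (hβ1 : ∀ k, k ≠ k₀ → QW (β k) = 1)
    (hβo : ∀ k k', k ≠ k' → QuadraticMap.polar QW (β k) (β k') = 0) {n : ℕ}
    (b : Basis (Fin (n + 1)) F V) (hb0 : Q (b 0) = d) (hb1 : ∀ i, i ≠ 0 → Q (b i) = 1)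
    (hbo : ∀ i j, i ≠ j → QuadraticMap.polar Q (b i) (b j) = 0)
    (hcard : Fintype.card κ = n + 1) :
    ∃ φ : W ≃ₗ[F] V, ∀ w, Q (φ w) = QW w := by
  classical
  let σ₀ : κ ≃ Fin (n + 1) := Fintype.equivFinOfCardEq hcard
  let σ : κ ≃ Fin (n + 1) := σ₀.trans (Equiv.swap (σ₀ k₀) 0)
  have hσ0 : σ k₀ = 0 := by
    show Equiv.swap (σ₀ k₀) 0 (σ₀ k₀) = 0
    exact Equiv.swap_apply_left _ _
  have hσ : ∀ k, σ k = 0 ↔ k = k₀ := by
    intro k
    constructor
    · intro h
      apply σ.injective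
      rw [h, hσ0]
    · rintro rfl
      exact hσ0
  let φ : W ≃ₗ[F] V := β.equiv b σ
  have hφ : ∀ k, φ (β k) = b (σ k) := fun k => Basis.equiv_apply β k b σ
  have hval : ∀ k, Q (φ (β k)) = QW (β k) := by
    intro k
    rw [hφ]
    by_cases hk : k = k₀
    · rw [hk, hσ0, hb0, hβ0]
    · rw [hb1 _ (fun h => hk ((hσ k).1 h)), hβ1 k hk]
  have heq : Q.comp (φ : W →ₗ[F] V) = QW := by
    apply eq_of_basis β
    · intro k
      rw [QuadraticMap.comp_apply]
      exact hval k
    · intro k k'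
      have e2 : QuadraticMap.polar (⇑(Q.comp (φ : W →ₗ[F] V))) (β k) (β k')
          = QuadraticMap.polar Q (φ (β k)) (φ (β k')) := by
        unfold QuadraticMap.polar
        rw [QuadraticMap.comp_apply, QuadraticMap.comp_apply, QuadraticMap.comp_apply, map_add]
        rfl
      rw [e2]
      by_cases hkk : k = k'
      · subst hkk
        rw [polar_self', polar_self', hval]
      · rw [hβo k k' hkk, hφ, hφ, hbo _ _ (fun h => hkk (σ.injective h))]
  refine ⟨φ, fun w => ?_⟩
  have := congrArg (fun q : QuadraticForm F W => q w) heq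
  exact this

/-- the case of an orthonormal basis on both sides, after rescaling -/
theorem exists_isometry_full (QW : QuadraticForm F W) (Q : QuadraticForm F V)
    (hB : OrthoB QW) {n : ℕ} (b : Basis (Fin (n + 1)) F V) (hb0 : IsSquare (Q (b 0)))
    (hb00 : Q (b 0) ≠ 0) (hb1 : ∀ i, i ≠ 0 → Q (b i) = 1)
    (hbo : ∀ i j, i ≠ j → QuadraticMap.polar Q (b i) (b j) = 0)
    (hdim : finrank F W = n + 1) :
    ∃ φ : W ≃ₗ[F] V, ∀ w, Q (φ w) = QW w := by
  classical
  obtain ⟨κ, hκ, β, hβ1, hβo⟩ := hB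
  obtain ⟨s, hs⟩ := hb0
  have hs0 : s ≠ 0 := by
    rintro rfl
    rw [mul_zero] at hs
    exact hb00 hs
  have hcard : Fintype.card κ = n + 1 := by
    rw [← hdim, Module.finrank_eq_card_basis β]
  haveI : Nonempty κ := by
    rw [← Fintype.card_pos_iff, hcard]
    omega
  obtain ⟨k₀⟩ := ‹Nonempty κ›
  -- rescale the first vector of `b`
  let w : Fin (n + 1) → F := fun i => if i = 0 then s⁻¹ else 1
  have hw : ∀ i, IsUnit (w i) := by
    intro i
    by_cases hi : i = 0
    · simp only [w, if_pos hi]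
      exact (isUnit_iff_ne_zero.2 (inv_ne_zero hs0))
    · simp only [w, if_neg hi]
      exact isUnit_one
  let b' : Basis (Fin (n + 1)) F V := b.isUnitSMul hw
  have hb' : ∀ i, b' i = w i • b i := fun i => Basis.isUnitSMul_apply hw i
  have hb'0 : b' 0 = s⁻¹ • b 0 := by rw [hb']; simp only [w, if_pos rfl]
  have hb'1 : ∀ i, i ≠ 0 → b' i = b i := by
    intro i hi
    rw [hb']; simp only [w, if_neg hi, one_smul]
  apply exists_isometry_of_bases QW Q β k₀ 1 (hβ1 k₀) (fun k _ => hβ1 k) hβo b'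
  · rw [hb'0, QuadraticMap.map_smul, hs, smul_eq_mul]
    field_simp
  · intro i hi
    rw [hb'1 i hi, hb1 i hi]
  · intro i j hij
    rw [hb' i, hb' j, QuadraticMap.polar_smul_left, QuadraticMap.polar_smul_right, hbo i j hij,
      smul_zero, smul_zero]
  · exact hcard

/-- the case of an extension by a line -/
theorem exists_isometry_ext (Q₁ : QuadraticForm F W) (Q : QuadraticForm F V)
    (hB : OrthoB Q₁) {n : ℕ} (b : Basis (Fin (n + 1)) F V)
    (hb1 : ∀ i, i ≠ 0 → Q (b i) = 1)
    (hbo : ∀ i j, i ≠ j → QuadraticMap.polar Q (b i) (b j) = 0)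
    (hdim : finrank F W = n) :
    ∃ φ : (W × F) ≃ₗ[F] V, ∀ w, Q (φ w) = (Q₁.prod (lineQ (Q (b 0)))) w := by
  classical
  obtain ⟨κ, hκ, β, hβ1, hβo⟩ := hB
  have hcard : Fintype.card (κ ⊕ Unit) = n + 1 := by
    rw [Fintype.card_sum, ← Module.finrank_eq_card_basis β, hdim, Fintype.card_unit]
  apply exists_isometry_of_bases (Q₁.prod (lineQ (Q (b 0)))) Q
    (β.prod (Basis.singleton Unit F)) (Sum.inr ()) (Q (b 0)) ?_ ?_ ?_ b rfl hb1 hbo hcard
  · rw [QuadraticMap.prod_apply, Basis.prod_apply_inr_fst, Basis.prod_apply_inr_snd, map_zero,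
      zero_add, Basis.singleton_apply, lineQ_apply, mul_one, mul_one]
  · rintro (k | k) hk
    · rw [QuadraticMap.prod_apply, Basis.prod_apply_inl_fst, Basis.prod_apply_inl_snd, map_zero,
        add_zero, hβ1]
    · exact absurd rfl hk
  · rintro (k | k) (k' | k') hkk
    · rw [QuadraticMap.polar_prod, Basis.prod_apply_inl_fst, Basis.prod_apply_inl_snd,
        Basis.prod_apply_inl_fst, Basis.prod_apply_inl_snd, QuadraticMap.polar_zero_left, add_zero]
      exact hβo k k' (fun h => hkk (by rw [h]))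
    · rw [QuadraticMap.polar_prod, Basis.prod_apply_inl_fst, Basis.prod_apply_inl_snd,
        Basis.prod_apply_inr_fst, Basis.prod_apply_inr_snd, QuadraticMap.polar_zero_left,
        QuadraticMap.polar_zero_right, add_zero]
    · rw [QuadraticMap.polar_prod, Basis.prod_apply_inr_fst, Basis.prod_apply_inr_snd,
        Basis.prod_apply_inl_fst, Basis.prod_apply_inl_snd, QuadraticMap.polar_zero_left,
        QuadraticMap.polar_zero_right, add_zero]
    · exact absurd rfl hkk

theorem nondeg_of_isometry (QW : QuadraticForm F W) (Q : QuadraticForm F V) (hQ : Nondeg Q)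
    (φ : W ≃ₗ[F] V) (hφ : ∀ w, Q (φ w) = QW w) : Nondeg QW := by
  intro x hx
  have h1 : φ x = 0 := by
    apply hQ
    intro v
    obtain ⟨y, rfl⟩ := φ.surjective v
    have : QuadraticMap.polar Q (φ x) (φ y) = QuadraticMap.polar QW x y := by
      unfold QuadraticMap.polar
      rw [← map_add, hφ, hφ, hφ]
    rw [this]
    exact hx y
  exact φ.injective (by rw [h1, map_zero])

end isometry

end Cfsg.Agent.Helper1.OrS
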