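import Mathlib
import Cfsg.Agent.Helper1.OrSh
import Cfsg.Agent.Helper1.OrSd

set_option autoImplicit false

/-!
Packaging of the base and of the recursion.
-/

namespace Cfsg.Agent.Helper1.OrS

open Cfsg.Agent.Helper1.SylE Cfsg.Agent.Helper1.SylG Module
open Cfsg.Agent.Helper8.OrthOrder Cfsg.Agent.Helper8.QuadForm Cfsg.Agent.Helper8.SpinorSign
open Cfsg.Agent.Helper8.ReflMatrix
open scoped commutatorElement

universe u

variable {F : Type u} [Field F] [Fintype F]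

theorem exists_base_pack (hq : Odd (Fintype.card F)) :
    ∃ (B : Type u) (_ : Group B) (_ : Finite B) (τ₀ : B →* ↥(Isom (Q0 F))) (k : ℕ),
      Nat.card B = 2 ^ k ∧ padicValNat 2 (Fintype.card F ^ 2 - 1) ≤ k ∧
      ∀ (Sx : Type) (c : Sx → F), OGood c (Q0 F) τ₀ := by
  classical
  haveI : Fact (Nat.Prime 2) := ⟨Nat.prime_two⟩
  obtain ⟨D, hDp, hDc, hDle, r, hrD, hD⟩ := exists_base_O hq
  obtain ⟨k, hk⟩ := IsPGroup.iff_card.1 hDp
  have hak : padicValNat 2 (Fintype.card F ^ 2 - 1) ≤ k := by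
    rw [hk] at hDc
    exact (Nat.pow_le_pow_iff_right (by norm_num)).1 hDc
  let τ₀ : ↥D →* ↥(Isom (Q0 F)) :=
    (isomEquiv (Q0 F)).toMonoidHom.comp (Subgroup.inclusion hDle)
  have hτ₀ : Function.Injective τ₀ := by
    intro x y hxy
    have h1 := (isomEquiv (Q0 F)).injective hxy
    exact Subgroup.inclusion_injective hDle h1
  have hdih : ∀ d : ↥D, d * d = 1 ∨ d ^ 2 = ⁅d, (⟨r, hrD⟩ : ↥D)⁆ := by
    intro d
    rcases hD d.1 d.2 with h | h
    · left
      exact Subtype.ext h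
    · right
      apply Subtype.ext
      rw [Subgroup.coe_pow, h]
      rfl
  refine ⟨↥D, inferInstance, inferInstance, τ₀, k, hk, hak, fun Sx c => ⟨hτ₀, ?_⟩⟩
  exact Inv_of_dihedral _ _ hdih

theorem orthoB_Q0 : OrthoB (Q0 F) := OrthoB.pi (J := Fin 2) OrthoB.sq

theorem swapOK_Q0 : SwapOK (Q0 F) :=
  swapOK_pi (0 : Fin 2) 1 (by decide) (by decide) _

theorem finrank_Q0 : finrank F (Fin 2 → F) = 2 := by
  rw [Module.finrank_fintype_fun_eq_card, Fintype.card_fin]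

/-- base and recursion together -/
theorem exists_rec_pack (hq : Odd (Fintype.card F)) {Sx : Type} (c : Sx → F)
    (hc : ∀ s, c s ≠ 0) (n : ℕ) (hn : 1 ≤ n) :
    ∃ (P : Type u) (_ : Group P) (_ : Finite P) (U' : Type u) (_ : AddCommGroup U')
      (_ : Module F U') (_ : FiniteDimensional F U') (Q' : QuadraticForm F U')
      (τ' : P →* ↥(Isom Q')) (k : ℕ),
      OrthoB Q' ∧ OGood c Q' τ' ∧ (2 ≤ n → InvP ((Th c Q').comp τ')) ∧
      finrank F U' = 2 * n ∧
      Nat.card P = 2 ^ (k * n + padicValNat 2 n.factorial) ∧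
      padicValNat 2 (Fintype.card F ^ 2 - 1) ≤ k := by
  have h2 : (2 : F) ≠ 0 := two_ne_zero_of_odd hq
  obtain ⟨B, i1, i2, τ₀, k, hk, hak, hOG⟩ := exists_base_pack hq
  obtain ⟨P, j1, j2, U', j3, j4, j5, Q', τ', hB', hG', hP', -, hfr', hcP'⟩ :=
    claimO h2 c hc n hn B i1 i2 (Fin 2 → F) inferInstance inferInstance inferInstance
      inferInstance (Q0 F) τ₀ orthoB_Q0 swapOK_Q0 (hOG Sx c)
  refine ⟨P, j1, j2, U', j3, j4, j5, Q', τ', k, hB', hG', fun h => hP' (Or.inl h), ?_, ?_, hak⟩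
  · rw [hfr', finrank_Q0, mul_comm]
  · rw [hcP', hk, ← pow_mul, ← pow_add]

end Cfsg.Agent.Helper1.OrS
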