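import Mathlib
import Cfsg.Agent.Helper1.OrSl
import Cfsg.Agent.Helper1.OrSi
import Cfsg.Agent.Helper1.OrSk

set_option autoImplicit false

/-!
The Sylow `2`-subgroups of `Ω(Q)` in odd characteristic have elementary abelianization, given the
`2`-part of the order of the orthogonal group: odd dimension.
-/

namespace Cfsg.Agent.Helper1.OrS

open Cfsg.Agent.Helper1.SylE Cfsg.Agent.Helper1.SylG Module
open Cfsg.Agent.Helper8.OrthOrder Cfsg.Agent.Helper8.QuadForm Cfsg.Agent.Helper8.SpinorSign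
open Cfsg.Agent.Helper8.ReflMatrix Cfsg.Agent.Helper8.OmegaOdd

universe u

variable {F : Type u} [Field F] [Fintype F]

theorem card_le_ker_mul {P : Type*} [Group P] [Finite P] {A : Type*} [Group A] [Finite A]
    (Δ : P →* A) : Nat.card P ≤ Nat.card Δ.ker * Nat.card A := by
  rw [← Subgroup.card_mul_index Δ.ker, Subgroup.index_ker]
  exact Nat.mul_le_mul_left _ (Subgroup.card_le_card_group _)

theorem card_unit_fun : Nat.card (Unit → ℤˣ) = 2 := by
  rw [Nat.card_eq_fintype_card]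
  rfl

theorem card_bool_fun : Nat.card (Bool → ℤˣ) = 4 := by
  rw [Nat.card_eq_fintype_card]
  rfl

/-- odd dimension -/
theorem sylow_odd {ι : Type} [Fintype ι] [DecidableEq ι] (Q : QuadraticForm F (ι → F))
    (hq : Odd (Fintype.card F)) (hQ : (QuadraticMap.polarBilin Q).Nondegenerate) {m : ℕ}
    (hm : 2 ≤ m) (hι : Fintype.card ι = 2 * m + 1)
    (hord : padicValNat 2 (Nat.card ↥(Cfsg.isometryGroup F ⇑Q)) ≤
      1 + (m * padicValNat 2 (Fintype.card F ^ 2 - 1) + padicValNat 2 m.factorial))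
    (S : Sylow 2 ↥(Cfsg.Omega F ⇑Q)) : EProp ↥(S : Subgroup ↥(Cfsg.Omega F ⇑Q)) := by
  classical
  have h2 : (2 : F) ≠ 0 := two_ne_zero_of_odd hq
  obtain ⟨e, he⟩ := exists_nonsquare (F := F) h2
  have he0 : e ≠ 0 := by
    rintro rfl
    exact he IsSquare.zero
  have hnd : Nondeg Q := (nondeg_iff Q).mp hQ
  obtain ⟨b, hb1, hb2, hb3⟩ := exists_orth_basis Q h2 hnd hι
  -- the two characters
  obtain ⟨c₀, c₁, hc₀, hc₁, hs₀, hs₁, hpair⟩ : ∃ c₀ c₁ : F, c₀ ≠ 0 ∧ c₁ ≠ 0 ∧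
      ¬ IsSquare (c₀ * Q (b 0)) ∧ IsSquare (c₁ * Q (b 0)) ∧
      ((c₀ = 1 ∧ c₁ = e) ∨ (c₀ = e ∧ c₁ = 1)) := by
    by_cases hsq : IsSquare (Q (b 0))
    · refine ⟨e, 1, he0, one_ne_zero, ?_, ?_, Or.inr ⟨rfl, rfl⟩⟩
      · rw [mul_comm]
        exact not_isSquare_mul hb2 hsq he
      · rw [one_mul]; exact hsq
    · refine ⟨1, e, one_ne_zero, he0, ?_, ?_, Or.inl ⟨rfl, rfl⟩⟩
      · rw [one_mul]; exact hsq
      · rw [mul_comm]
        exact isSquare_mul_of_not hb2 hsq he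
  obtain ⟨P, j1, j2, U', j3, j4, j5, Q', τ', k, hB', hG', hP', hfr', hcP', hak⟩ :=
    exists_rec_pack hq (fun _ : Unit => c₀) (fun _ => hc₀) m (by omega)
  have hInvP := hP' hm
  have hQ'nd : Nondeg Q' := hB'.nondeg h2
  obtain ⟨φ, hφ⟩ := exists_isometry_ext Q' Q hB' b hb3 hb1 hfr'
  have hQWnd : Nondeg (Q'.prod (lineQ (Q (b 0)))) := nondeg_of_isometry _ Q hnd φ hφ
  haveI : Fact (Nat.Prime 2) := ⟨Nat.prime_two⟩
  have hPp : IsPGroup 2 P := IsPGroup.of_card hcP'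
  have hKp : IsPGroup 2 ↥((Th (fun _ : Unit => c₀) Q').comp τ').ker := hPp.to_subgroup _
  have hKE : EProp ↥((Th (fun _ : Unit => c₀) Q').comp τ').ker := hInvP.2.1
  have hsign0 : ∀ x : ↥((Th (fun _ : Unit => c₀) Q').comp τ').ker,
      signHom Q' c₀ (τ' (x : P)) = 1 := by
    intro x
    have hx := x.2
    rw [MonoidHom.mem_ker, MonoidHom.comp_apply] at hx
    have := congrFun hx ()
    rw [Th_apply] at this
    exact this
  have hsA : ∀ x : ↥((Th (fun _ : Unit => c₀) Q').comp τ').ker,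
      signHom (Q'.prod (lineQ (Q (b 0)))) c₀ (extHom Q' (Q (b 0)) τ' c₁ (x : P)) = 1 := by
    intro x
    rw [(signHom_extHom h2 Q' hQ'nd hb2 τ' c₁ hc₀ (x : P)).2 hs₀]
    exact hsign0 x
  have hsB : ∀ x : ↥((Th (fun _ : Unit => c₀) Q').comp τ').ker,
      signHom (Q'.prod (lineQ (Q (b 0)))) c₁ (extHom Q' (Q (b 0)) τ' c₁ (x : P)) = 1 := by
    intro x
    rw [(signHom_extHom h2 Q' hQ'nd hb2 τ' c₁ hc₁ (x : P)).1 hs₁]
    exact Int.units_mul_self _
  refine sylow_omega_EProp Q h2 hQ (by omega) he (Q'.prod (lineQ (Q (b 0)))) hQWnd φ hφ hKp hKE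
    ((extHom Q' (Q (b 0)) τ' c₁).comp (Subgroup.subtype _)) ?_ ?_ ?_ S
  · intro x y hxy
    apply Subtype.ext
    exact extHom_injective Q' (Q (b 0)) τ' c₁ hG'.inj hxy
  · intro x
    rcases hpair with ⟨h0, h1⟩ | ⟨h0, h1⟩
    · rw [← h0, ← h1]
      exact ⟨hsA x, hsB x⟩
    · rw [← h0, ← h1]
      exact ⟨hsB x, hsA x⟩
  · have h1 := card_le_ker_mul ((Th (fun _ : Unit => c₀) Q').comp τ')
    rw [card_unit_fun, hcP'] at h1
    have h3 : 2 ^ padicValNat 2 (Nat.card ↥(Cfsg.isometryGroup F ⇑Q)) ≤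
        2 ^ (1 + (k * m + padicValNat 2 m.factorial)) := by
      apply Nat.pow_le_pow_right (by norm_num)
      have := Nat.mul_le_mul_right m hak
      rw [mul_comm (padicValNat 2 (Fintype.card F ^ 2 - 1))] at this
      omega
    rw [pow_add, pow_one] at h3
    omega

end Cfsg.Agent.Helper1.OrS
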