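import Mathlib
import Cfsg.Agent.Helper1.OrSm

set_option autoImplicit false

/-!
The Sylow `2`-subgroups of `Ω(Q)` in odd characteristic have elementary abelianization, given the
`2`-part of the order of the orthogonal group: even dimension.
-/

namespace Cfsg.Agent.Helper1.OrS

open Cfsg.Agent.Helper1.SylE Cfsg.Agent.Helper1.SylG Module
open Cfsg.Agent.Helper8.OrthOrder Cfsg.Agent.Helper8.QuadForm Cfsg.Agent.Helper8.SpinorSign
open Cfsg.Agent.Helper8.ReflMatrix Cfsg.Agent.Helper8.OmegaOdd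

universe u

variable {F : Type u} [Field F] [Fintype F]

/-- even dimension -/
theorem sylow_even {ι : Type} [Fintype ι] [DecidableEq ι] (Q : QuadraticForm F (ι → F))
    (hq : Odd (Fintype.card F)) (hQ : (QuadraticMap.polarBilin Q).Nondegenerate) {m : ℕ}
    (hm : 2 ≤ m) (hι : Fintype.card ι = 2 * m)
    (hfull : padicValNat 2 (Nat.card ↥(Cfsg.isometryGroup F ⇑Q)) ≤
      m * padicValNat 2 (Fintype.card F ^ 2 - 1) + padicValNat 2 m.factorial)
    (hnon : (¬ ∃ g : ↥(Cfsg.isometryGroup F ⇑Q), g ∈ commutator ↥(Cfsg.isometryGroup F ⇑Q) ∧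
        ((g : GL ι F) : Matrix ι ι F) = -1) →
      padicValNat 2 (Nat.card ↥(Cfsg.isometryGroup F ⇑Q)) ≤
        2 + ((m - 1) * padicValNat 2 (Fintype.card F ^ 2 - 1) + padicValNat 2 (m - 1).factorial))
    (S : Sylow 2 ↥(Cfsg.Omega F ⇑Q)) : EProp ↥(S : Subgroup ↥(Cfsg.Omega F ⇑Q)) := by
  classical
  have h2 : (2 : F) ≠ 0 := two_ne_zero_of_odd hq
  obtain ⟨e, he⟩ := exists_nonsquare (F := F) h2
  have he0 : e ≠ 0 := by
    rintro rfl
    exact he IsSquare.zero
  have hnd : Nondeg Q := (nondeg_iff Q).mp hQ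
  have hι' : Fintype.card ι = (2 * m - 1) + 1 := by omega
  obtain ⟨b, hb1, hb2, hb3⟩ := exists_orth_basis Q h2 hnd hι'
  haveI : Fact (Nat.Prime 2) := ⟨Nat.prime_two⟩
  by_cases hsq : IsSquare (Q (b 0))
  · -- the full case
    obtain ⟨P, j1, j2, U', j3, j4, j5, Q', τ', k, hB', hG', hP', hfr', hcP', hak⟩ :=
      exists_rec_pack hq (fun t : Bool => if t then e else 1)
        (by intro t; cases t <;> simp [he0]) m (by omega)
    have hInvP := hP' hm
    have hQ'nd : Nondeg Q' := hB'.nondeg h2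
    obtain ⟨φ, hφ⟩ := exists_isometry_full Q' Q hB' b hsq hb2 hb3 hb1 (by rw [hfr']; omega)
    have hPp : IsPGroup 2 P := IsPGroup.of_card hcP'
    have hKp : IsPGroup 2 ↥((Th (fun t : Bool => if t then e else 1) Q').comp τ').ker :=
      hPp.to_subgroup _
    have hKE : EProp ↥((Th (fun t : Bool => if t then e else 1) Q').comp τ').ker := hInvP.2.1
    refine sylow_omega_EProp Q h2 hQ (by omega) he Q' hQ'nd φ hφ hKp hKE
      (τ'.comp (Subgroup.subtype _)) ?_ ?_ ?_ S
    · intro x y hxy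
      apply Subtype.ext
      exact hG'.inj hxy
    · intro x
      have hx := x.2
      rw [MonoidHom.mem_ker, MonoidHom.comp_apply] at hx
      have h1 := congrFun hx false
      have h3 := congrFun hx true
      rw [Th_apply] at h1 h3
      exact ⟨h1, h3⟩
    · have h1 := card_le_ker_mul ((Th (fun t : Bool => if t then e else 1) Q').comp τ')
      rw [card_bool_fun, hcP'] at h1
      have h3 : 2 ^ padicValNat 2 (Nat.card ↥(Cfsg.isometryGroup F ⇑Q)) ≤
          2 ^ (k * m + padicValNat 2 m.factorial) := by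
        apply Nat.pow_le_pow_right (by norm_num)
        have := Nat.mul_le_mul_right m hak
        rw [mul_comm (padicValNat 2 (Fintype.card F ^ 2 - 1))] at this
        omega
      omega
  · -- the other case
    have hneg : ¬ ∃ g : ↥(Cfsg.isometryGroup F ⇑Q),
        g ∈ commutator ↥(Cfsg.isometryGroup F ⇑Q) ∧ ((g : GL ι F) : Matrix ι ι F) = -1 := by
      rw [neg_one_mem_iff Q h2 hQ (by omega) b hb1 hb2 hb3]
      rintro ⟨-, h⟩
      exact hsq h
    have hbound := hnon hneg
    obtain ⟨P, j1, j2, U', j3, j4, j5, Q', τ', k, hB', hG', -, hfr', hcP', hak⟩ :=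
      exists_rec_pack hq (fun t : Empty => t.elim) (fun t => t.elim) (m - 1) (by omega)
    have hQ'nd : Nondeg Q' := hB'.nondeg h2
    have hB₁ : OrthoB (Q'.prod (lineQ (1 : F))) := hB'.prod OrthoB.lineQ_one
    have hQ₁nd : Nondeg (Q'.prod (lineQ (1 : F))) := hB₁.nondeg h2
    obtain ⟨φ, hφ⟩ := exists_isometry_ext (Q'.prod (lineQ (1 : F))) Q hB₁ b hb3 hb1
      (by rw [Module.finrank_prod, hfr', Module.finrank_self]; omega)
    have hQWnd : Nondeg ((Q'.prod (lineQ (1 : F))).prod (lineQ (Q (b 0)))) :=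
      nondeg_of_isometry _ Q hnd φ hφ
    have hPp : IsPGroup 2 P := IsPGroup.of_card hcP'
    have hPE : EProp P := hG'.inv.1
    have hed : IsSquare (e * Q (b 0)) := by
      rw [mul_comm]
      exact isSquare_mul_of_not hb2 hsq he
    have h1d : ¬ IsSquare ((1 : F) * Q (b 0)) := by rw [one_mul]; exact hsq
    refine sylow_omega_EProp Q h2 hQ (by omega) he
      ((Q'.prod (lineQ (1 : F))).prod (lineQ (Q (b 0)))) hQWnd φ hφ hPp hPE
      (extHom (Q'.prod (lineQ (1 : F))) (Q (b 0)) (extHom Q' 1 τ' 1) e) ?_ ?_ ?_ S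
    · exact extHom_injective _ _ _ _ (extHom_injective _ _ _ _ hG'.inj)
    · intro x
      constructor
      · rw [(signHom_extHom h2 _ hQ₁nd hb2 (extHom Q' 1 τ' 1) e one_ne_zero x).2 h1d,
          (signHom_extHom h2 Q' hQ'nd one_ne_zero τ' 1 one_ne_zero x).1
            (by rw [one_mul]; exact IsSquare.one)]
        exact Int.units_mul_self _
      · rw [(signHom_extHom h2 _ hQ₁nd hb2 (extHom Q' 1 τ' 1) e he0 x).1 hed]
        exact Int.units_mul_self _
    · rw [hcP']
      have h3 : 2 ^ padicValNat 2 (Nat.card ↥(Cfsg.isometryGroup F ⇑Q)) ≤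
          2 ^ (2 + (k * (m - 1) + padicValNat 2 (m - 1).factorial)) := by
        apply Nat.pow_le_pow_right (by norm_num)
        have := Nat.mul_le_mul_right (m - 1) hak
        rw [mul_comm (padicValNat 2 (Fintype.card F ^ 2 - 1))] at this
        omega
      rw [pow_add] at h3
      have h4 : (2 : ℕ) ^ 2 = 4 := by norm_num
      rw [h4] at h3
      exact h3

end Cfsg.Agent.Helper1.OrS
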