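import Mathlib
import Cfsg.Agent.Helper1.SylEf

set_option autoImplicit false

/-!
`2`-adic arithmetic for the orders of the orthogonal groups.
-/

namespace Cfsg.Agent.Helper1.OrS

open Cfsg.Agent.Helper1.SylE

theorem v2_prod {q : ℕ} (hq : Odd q) (hq3 : 3 ≤ q) (n : ℕ) :
    padicValNat 2 (∏ i ∈ Finset.range n, (q ^ (2 * (i + 1)) - 1)) =
      n * padicValNat 2 (q ^ 2 - 1) + padicValNat 2 n.factorial := by
  haveI : Fact (Nat.Prime 2) := ⟨Nat.prime_two⟩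
  have hodd : ¬ 2 ∣ q := by
    rw [Nat.two_dvd_ne_zero]; exact Nat.odd_iff.1 hq
  have hfac : ∀ i : ℕ, q ^ (2 * (i + 1)) - 1 ≠ 0 := by
    intro i
    have : 3 ^ (2 * (i + 1)) ≤ q ^ (2 * (i + 1)) := Nat.pow_le_pow_left hq3 _
    have h1 : 1 < 3 ^ (2 * (i + 1)) := Nat.one_lt_pow (by omega) (by norm_num)
    omega
  have hprod : (∏ i ∈ Finset.range n, (q ^ (2 * (i + 1)) - 1)) ≠ 0 :=
    Finset.prod_ne_zero_iff.2 (fun i _ => hfac i)
  have h := padicValNat_card_sp hq hq3 n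
  rw [padicValNat.mul (pow_ne_zero _ (by omega)) hprod, padicValNat.pow,
    padicValNat.eq_zero_of_not_dvd hodd, mul_zero, zero_add] at h
  exact h

theorem v2_pm {q : ℕ} (hq : Odd q) (hq3 : 3 ≤ q) (m : ℕ) (hm : 1 ≤ m) :
    padicValNat 2 (q ^ m - 1) + padicValNat 2 (q ^ m + 1) =
      padicValNat 2 (q ^ 2 - 1) + padicValNat 2 m ∧
    1 ≤ padicValNat 2 (q ^ m - 1) ∧ 1 ≤ padicValNat 2 (q ^ m + 1) := by
  haveI : Fact (Nat.Prime 2) := ⟨Nat.prime_two⟩
  have hqm : Odd (q ^ m) := hq.pow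
  have hqm3 : 3 ≤ q ^ m := by
    calc 3 ≤ q := hq3
      _ = q ^ 1 := (pow_one q).symm
      _ ≤ q ^ m := Nat.pow_le_pow_right (by omega) hm
  have h1 := padicValNat_sq_sub_one hqm hqm3
  have h3 := padicValNat_pow_sub_one hq hq3 m (by omega)
  have e : (q ^ m) ^ 2 = q ^ (2 * m) := by rw [← pow_mul, mul_comm]
  rw [e, h3] at h1
  have hmod : q ^ m % 2 = 1 := Nat.odd_iff.1 hqm
  refine ⟨h1.symm, ?_, ?_⟩
  · apply one_le_padicValNat_of_dvd (by omega)
    omega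
  · apply one_le_padicValNat_of_dvd (by omega)
    omega

/-- the `2`-part of the order of an even-dimensional orthogonal group -/
theorem v2_even_order {q : ℕ} (hq : Odd q) (hq3 : 3 ≤ q) (m : ℕ) (s N : ℕ)
    (hN : N = 2 * q ^ (m * (m - 1)) * s * ∏ i ∈ Finset.range (m - 1), (q ^ (2 * (i + 1)) - 1))
    (hN0 : N ≠ 0) :
    padicValNat 2 N = 1 + padicValNat 2 s + ((m - 1) * padicValNat 2 (q ^ 2 - 1) +
      padicValNat 2 (m - 1).factorial) := by
  haveI : Fact (Nat.Prime 2) := ⟨Nat.prime_two⟩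
  have hodd : ¬ 2 ∣ q := by
    rw [Nat.two_dvd_ne_zero]; exact Nat.odd_iff.1 hq
  rw [hN] at hN0 ⊢
  have h4 : (∏ i ∈ Finset.range (m - 1), (q ^ (2 * (i + 1)) - 1)) ≠ 0 := right_ne_zero_of_mul hN0
  have h3 : 2 * q ^ (m * (m - 1)) * s ≠ 0 := left_ne_zero_of_mul hN0
  have h5 : s ≠ 0 := right_ne_zero_of_mul h3
  have h6 : 2 * q ^ (m * (m - 1)) ≠ 0 := left_ne_zero_of_mul h3
  have h7 : q ^ (m * (m - 1)) ≠ 0 := right_ne_zero_of_mul h6
  rw [padicValNat.mul h3 h4, padicValNat.mul h6 h5, padicValNat.mul (by norm_num) h7,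
    padicValNat_self, padicValNat.pow, padicValNat.eq_zero_of_not_dvd hodd,
    mul_zero, add_zero, v2_prod hq hq3]

/-- the inequality in the full case -/
theorem v2_full_le (m : ℕ) (hm : 1 ≤ m) (vs a : ℕ)
    (h : vs + 1 ≤ a + padicValNat 2 m) :
    1 + vs + ((m - 1) * a + padicValNat 2 (m - 1).factorial) ≤
      m * a + padicValNat 2 m.factorial := by
  have h1 := padicValNat_factorial_succ (m - 1)
  have e : m - 1 + 1 = m := by omega
  rw [e] at h1
  have h3 : m * a = (m - 1) * a + a := by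
    conv_lhs => rw [← e]
    rw [Nat.succ_mul]
  omega

end Cfsg.Agent.Helper1.OrS
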