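import Mathlib
import Cfsg.Agent.Helper8.Ord19Defs

/-!
Stub (2) `sing_card` of helper8's blueprint for S4274: the number of `r`-singular elements when the
Sylow `r`-subgroups have prime order.
-/

namespace Cfsg.Agent.Helper8.Ord19

universe u

variable {G : Type u} [Group G] [Finite G]

/-- a Sylow subgroup of prime order -/
theorem h1_card_sylow (r : ℕ) [Fact r.Prime] (hr : (Nat.card G).factorization r = 1)
    (R : Sylow r G) : Nat.card (R : Subgroup G) = r := by
  rw [R.card_eq_multiplicity, hr, pow_one]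

/-- a Sylow subgroup of prime order is commutative -/
theorem h1_sylow_comm (r : ℕ) [Fact r.Prime] (hr : (Nat.card G).factorization r = 1)
    (R : Sylow r G) : ∀ x ∈ (R : Subgroup G), ∀ y ∈ (R : Subgroup G), x * y = y * x := by
  have hc : IsCyclic (R : Subgroup G) := isCyclic_of_prime_card (h1_card_sylow r hr R)
  obtain ⟨g, hg⟩ := hc.exists_generator
  intro x hx y hy
  obtain ⟨i, hi⟩ := Subgroup.mem_zpowers_iff.mp (hg ⟨x, hx⟩)
  obtain ⟨j, hj⟩ := Subgroup.mem_zpowers_iff.mp (hg ⟨y, hy⟩)
  have h1 : (⟨x, hx⟩ : (R : Subgroup G)) * ⟨y, hy⟩ = ⟨y, hy⟩ * ⟨x, hx⟩ := by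
    rw [← hi, ← hj, ← zpow_add, ← zpow_add, add_comm]
  exact congrArg Subtype.val h1

/-- an element of order `r` that centralizes the Sylow subgroup `R` (of order `r`) generates it -/
theorem h1_zpowers_eq (r : ℕ) [Fact r.Prime] (hr : (Nat.card G).factorization r = 1)
    (R : Sylow r G) (h : G) (hh : orderOf h = r)
    (hC : h ∈ Subgroup.centralizer ((R : Subgroup G) : Set G)) :
    Subgroup.zpowers h = (R : Subgroup G) := by
  have hcard : Nat.card (Subgroup.zpowers h) = r := by rw [Nat.card_zpowers, hh]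
  have hp : IsPGroup r (Subgroup.zpowers h) := IsPGroup.of_card (n := 1) (by rw [hcard, pow_one])
  have hle : Subgroup.zpowers h ≤ Subgroup.normalizer ((R : Subgroup G) : Set G) := by
    rw [Subgroup.zpowers_le]
    exact Subgroup.centralizer_le_normalizer _ hC
  have h1 := hp.inf_normalizer_sylow R
  have h2 : Subgroup.zpowers h ≤ (R : Subgroup G) := by
    intro x hx
    have h3 : x ∈ Subgroup.zpowers h ⊓ (R : Subgroup G) := by
      rw [← h1]; exact ⟨hx, hle hx⟩
    exact h3.2
  apply Subgroup.eq_of_le_of_card_ge h2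
  rw [hcard, h1_card_sylow r hr R]

/-- the centralizers of all Sylow `r`-subgroups have the same order -/
theorem h1_card_centralizer (r : ℕ) [Fact r.Prime] (R : Sylow r G) :
    Nat.card (Subgroup.centralizer ((R : Subgroup G) : Set G)) = cZ G r := by
  unfold cZ
  obtain ⟨g, hg⟩ := MulAction.exists_smul_eq G (default : Sylow r G) R
  have hmem : ∀ y : G, y ∈ (R : Subgroup G) ↔ g⁻¹ * y * g ∈ ((default : Sylow r G) : Subgroup G) := by
    intro y
    rw [← hg]
    show y ∈ ((g • (default : Sylow r G) : Sylow r G) : Subgroup G) ↔ _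
    rw [Sylow.coe_subgroup_smul, Subgroup.mem_pointwise_smul_iff_inv_smul_mem]
    simp only [MulAut.smul_def, MulAut.conj_inv_apply]
  symm
  apply Nat.card_congr
  refine Equiv.subtypeEquiv (MulAut.conj g).toEquiv ?_
  intro x
  rw [Subgroup.mem_centralizer_iff, Subgroup.mem_centralizer_iff]
  constructor
  · intro hx y hy
    have hy' := (hmem y).mp hy
    have := hx _ hy'
    show y * (g * x * g⁻¹) = (g * x * g⁻¹) * y
    calc y * (g * x * g⁻¹) = g * ((g⁻¹ * y * g) * x) * g⁻¹ := by group
      _ = g * (x * (g⁻¹ * y * g)) * g⁻¹ := by rw [this]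
      _ = (g * x * g⁻¹) * y := by group
  · intro hx y hy
    have hy' : g * y * g⁻¹ ∈ (R : Subgroup G) := by
      rw [hmem]
      have e : g⁻¹ * (g * y * g⁻¹) * g = y := by group
      rw [e]; exact hy
    have := hx _ hy'
    have this' : (g * y * g⁻¹) * (g * x * g⁻¹) = (g * x * g⁻¹) * (g * y * g⁻¹) := this
    calc y * x = g⁻¹ * ((g * y * g⁻¹) * (g * x * g⁻¹)) * g := by group
      _ = g⁻¹ * ((g * x * g⁻¹) * (g * y * g⁻¹)) * g := by rw [this']
      _ = x * y := by group

/-- the `r`-singular elements of the centralizer of `R` -/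
theorem h1_fibre_card (r : ℕ) [Fact r.Prime] (hr : (Nat.card G).factorization r = 1)
    (R : Sylow r G) :
    Set.ncard {g : G | g ∈ Subgroup.centralizer ((R : Subgroup G) : Set G) ∧ r ∣ orderOf g} =
      cZ G r - cZ G r / r := by
  classical
  have hrp : r.Prime := Fact.out
  obtain ⟨C, hCdef⟩ : ∃ C : Subgroup G, C = Subgroup.centralizer ((R : Subgroup G) : Set G) :=
    ⟨_, rfl⟩
  rw [← hCdef]
  have hcardC : Nat.card C = cZ G r := by rw [hCdef]; exact h1_card_centralizer r R
  have hRC : (R : Subgroup G) ≤ C := by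
    intro x hx
    rw [hCdef, Subgroup.mem_centralizer_iff]
    intro y hy
    exact h1_sylow_comm r hr R y hy x hx
  obtain ⟨R', hR'⟩ : ∃ R' : Sylow r C, (R' : Subgroup C) = (R : Subgroup G).subgroupOf C :=
    ⟨R.subtype hRC, Sylow.coe_subtype _ _⟩
  have hcardR' : Nat.card (R' : Subgroup C) = r := by
    rw [hR', Nat.card_congr (Subgroup.subgroupOfEquivOfLe hRC).toEquiv]
    exact h1_card_sylow r hr R
  have hP : Subgroup.normalizer ((R' : Subgroup C) : Set C) ≤
      Subgroup.centralizer ((R' : Subgroup C) : Set C) := by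
    intro c _
    rw [Subgroup.mem_centralizer_iff]
    intro y hy
    have hy' : (y : G) ∈ (R : Subgroup G) := by
      have : y ∈ (R : Subgroup G).subgroupOf C := by rw [← hR']; exact hy
      exact Subgroup.mem_subgroupOf.mp this
    have hc : (c : G) ∈ Subgroup.centralizer ((R : Subgroup G) : Set G) := by
      rw [← hCdef]; exact c.2
    apply Subtype.ext
    exact (Subgroup.mem_centralizer_iff.mp hc) _ hy'
  have hcompl := MonoidHom.ker_transferSylow_isComplement' R' hP
  have hnd := MonoidHom.not_dvd_card_ker_transferSylow R' hP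
  obtain ⟨φ, hφ⟩ : ∃ φ : C →* (R' : Subgroup C), φ = MonoidHom.transferSylow R' hP := ⟨_, rfl⟩
  rw [← hφ] at hcompl hnd
  have hKcard : Nat.card φ.ker * r = Nat.card C := by
    have := hcompl.card_mul_card
    rw [hcardR'] at this
    exact this
  have hKeq : Nat.card φ.ker = cZ G r / r := by
    rw [← hcardC, ← hKcard, Nat.mul_div_cancel _ hrp.pos]
  -- the `r`-regular elements are the kernel
  have hker : ∀ c : C, c ∈ φ.ker ↔ ¬ r ∣ orderOf c := by
    intro c
    constructor
    · intro hc hdvd
      apply hnd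
      exact hdvd.trans (Subgroup.orderOf_dvd_natCard _ hc)
    · intro hnd'
      rw [MonoidHom.mem_ker]
      have h1 : (φ c) ^ orderOf c = 1 := by rw [← map_pow, pow_orderOf_eq_one, map_one]
      have h2 : (φ c) ^ r = 1 := by
        have : (φ c) ^ Nat.card (R' : Subgroup C) = 1 := pow_card_eq_one'
        rwa [hcardR'] at this
      have h3 : orderOf (φ c) ∣ Nat.gcd (orderOf c) r :=
        Nat.dvd_gcd (orderOf_dvd_of_pow_eq_one h1) (orderOf_dvd_of_pow_eq_one h2)
      have h4 : Nat.gcd (orderOf c) r = 1 := by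
        rw [Nat.gcd_comm]
        exact (Nat.Prime.coprime_iff_not_dvd hrp).mpr hnd'
      rw [h4, Nat.dvd_one] at h3
      exact orderOf_eq_one_iff.mp h3
  -- transport to `G`
  have himage : {g : G | g ∈ C ∧ r ∣ orderOf g} =
      Subtype.val '' ((φ.ker : Set C)ᶜ) := by
    ext g
    constructor
    · rintro ⟨hgC, hdvd⟩
      refine ⟨⟨g, hgC⟩, ?_, rfl⟩
      rw [Set.mem_compl_iff, SetLike.mem_coe, hker, not_not, Subgroup.orderOf_mk]
      exact hdvd
    · rintro ⟨c, hc, rfl⟩
      rw [Set.mem_compl_iff, SetLike.mem_coe, hker, not_not] at hc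
      refine ⟨c.2, ?_⟩
      rw [Subgroup.orderOf_coe]
      exact hc
  rw [himage, Set.ncard_image_of_injective _ Subtype.val_injective, Set.ncard_compl]
  have h5 : (φ.ker : Set C).ncard = Nat.card φ.ker := (Nat.card_coe_set_eq _).symm
  rw [h5, hcardC, hKeq]

theorem sing_card (r : ℕ) [Fact r.Prime] (hr : (Nat.card G).factorization r = 1) :
    Set.ncard {g : G | r ∣ orderOf g} = nS G r * (cZ G r - cZ G r / r) := by
  classical
  have hrp : r.Prime := Fact.out
  obtain ⟨T, hT⟩ : ∃ T : Sylow r G → Set G, T = fun R : Sylow r G =>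
      {g : G | g ∈ Subgroup.centralizer ((R : Subgroup G) : Set G) ∧ r ∣ orderOf g} := ⟨_, rfl⟩
  have hunion : {g : G | r ∣ orderOf g} = ⋃ R : Sylow r G, T R := by
    ext g
    rw [Set.mem_iUnion]
    constructor
    · intro hg
      have hg' : r ∣ orderOf g := hg
      have ho : orderOf (g ^ (orderOf g / r)) = r :=
        orderOf_pow_orderOf_div (orderOf_pos g).ne' hg'
      have hcard : Nat.card (Subgroup.zpowers (g ^ (orderOf g / r))) =
          r ^ (Nat.card G).factorization r := by
        rw [Nat.card_zpowers, ho, hr, pow_one]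
      refine ⟨Sylow.ofCard _ hcard, ?_⟩
      rw [hT]
      refine ⟨?_, hg'⟩
      rw [Subgroup.mem_centralizer_iff]
      intro z hz
      have hz' : z ∈ Subgroup.zpowers (g ^ (orderOf g / r)) := hz
      obtain ⟨k, hk⟩ := Subgroup.mem_zpowers_iff.mp hz'
      rw [← hk]
      exact (((Commute.refl g).pow_left _).zpow_left k).eq
    · rintro ⟨R, hR⟩
      rw [hT] at hR
      exact hR.2
  have hdisj : Pairwise (Function.onFun Disjoint T) := by
    intro R R' hne
    rw [Function.onFun, Set.disjoint_left]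
    intro g hg hg'
    apply hne
    rw [hT] at hg hg'
    obtain ⟨hgC, hdvd⟩ := hg
    obtain ⟨hgC', -⟩ := hg'
    have ho : orderOf (g ^ (orderOf g / r)) = r :=
      orderOf_pow_orderOf_div (orderOf_pos g).ne' hdvd
    have e1 := h1_zpowers_eq r hr R _ ho (Subgroup.pow_mem _ hgC _)
    have e2 := h1_zpowers_eq r hr R' _ ho (Subgroup.pow_mem _ hgC' _)
    exact Sylow.ext (e1.symm.trans e2)
  have hfin : ∀ R : Sylow r G, (T R).Finite := fun R => Set.toFinite _
  rw [hunion, Set.ncard_iUnion_of_finite hfin hdisj]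
  have hconst : ∀ R : Sylow r G, (T R).ncard = cZ G r - cZ G r / r := by
    intro R
    rw [hT]
    exact h1_fibre_card r hr R
  have : Fintype (Sylow r G) := Fintype.ofFinite _
  rw [finsum_eq_sum_of_fintype, Finset.sum_congr rfl (fun R _ => hconst R), Finset.sum_const,
    Finset.card_univ, smul_eq_mul]
  unfold nS
  rw [Nat.card_eq_fintype_card]

end Cfsg.Agent.Helper8.Ord19
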