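import Mathlib
import Cfsg.Agent.Helper1.PaQ

set_option autoImplicit false

/-!
Groups of order `p² q²` are solvable.
-/

namespace Cfsg.Agent.Helper1

universe u

theorem isSolvable_of_normal_of_quotient {G : Type u} [Group G] (N : Subgroup G) [N.Normal]
    (h1 : Group.IsSolvable N) (h2 : Group.IsSolvable (G ⧸ N)) : Group.IsSolvable G :=
  Group.isSolvable_of_ker_le_range N.subtype (QuotientGroup.mk' N)
    (by rw [QuotientGroup.ker_mk', Subgroup.range_subtype])

theorem isSolvable_of_card_36 {G : Type u} [Group G] [Finite G] (hG : Nat.card G = 36)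
    (h4 : Nat.card (Sylow 3 G) = 4) : Group.IsSolvable G := by
  classical
  have h3 : Fact (Nat.Prime 3) := ⟨Nat.prime_three⟩
  obtain ⟨P⟩ : Nonempty (Sylow 3 G) := inferInstance
  set φ := MulAction.toPermHom G (Sylow 3 G) with hφ
  set K := φ.ker with hK
  have hidx : K.index ∣ 24 := by
    rw [Subgroup.index_ker φ]
    have := Subgroup.card_subgroup_dvd_card φ.range
    rw [Nat.card_perm, h4] at this
    exact this
  have hidx' : K.index ∣ 36 := hG ▸ K.index_dvd_card
  have h12 : K.index ∣ 12 := Nat.dvd_gcd hidx hidx'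
  have hKtop : K ≠ ⊤ := by
    intro htop
    have hP : ∀ g : G, g • P = P := by
      intro g
      have hg : g ∈ K := htop ▸ Subgroup.mem_top g
      have h1 : φ g = 1 := hg
      have h2 := congrArg (fun σ : Equiv.Perm (Sylow 3 G) => σ P) h1
      simpa [hφ] using h2
    have hN : Subgroup.normalizer ((P : Subgroup G) : Set G) = ⊤ := by
      rw [eq_top_iff]
      intro g _
      exact Sylow.smul_eq_iff_mem_normalizer.1 (hP g)
    have h5 := Sylow.card_eq_index_normalizer P
    rw [h4] at h5
    have h6 : (Subgroup.normalizer (P : Set G)).index = 1 := by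
      show (Subgroup.normalizer ((P : Subgroup G) : Set G)).index = 1
      rw [hN, Subgroup.index_top]
    rw [h6] at h5
    exact absurd h5 (by norm_num)
  have hidx1 : K.index ≠ 1 := fun h => hKtop (Subgroup.index_eq_one.1 h)
  have hcard : Nat.card K * K.index = 36 := hG ▸ K.card_mul_index
  have hQ : Group.IsSolvable (G ⧸ K) := by
    apply isSolvable_of_card_ppow_mul_prime 2 3 Nat.prime_two Nat.prime_three _ (G ⧸ K) rfl
    apply dvd_ppow_mul_prime_form Nat.prime_two Nat.prime_three (m := 2) (b := 1) le_rfl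
    rw [← Subgroup.index_eq_card]
    exact h12
  have hKs : Group.IsSolvable K := by
    have hd : K.index ∈ Nat.divisors 12 := Nat.mem_divisors.2 ⟨h12, by norm_num⟩
    have h12d : Nat.divisors 12 = {1, 2, 3, 4, 6, 12} := by decide
    rw [h12d] at hd
    simp only [Finset.mem_insert, Finset.mem_singleton] at hd
    rcases hd with h | h | h | h | h | h
    · exact absurd h hidx1
    · have hc : Nat.card K = 18 := by rw [h] at hcard; omega
      exact isSolvable_of_card_ppow_mul_prime 3 2 Nat.prime_three Nat.prime_two _ K hc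
        ⟨2, 1, le_rfl, by norm_num⟩
    · have hc : Nat.card K = 12 := by rw [h] at hcard; omega
      exact isSolvable_of_card_ppow_mul_prime 2 3 Nat.prime_two Nat.prime_three _ K hc
        ⟨2, 1, le_rfl, by norm_num⟩
    · have hc : Nat.card K = 9 := by rw [h] at hcard; omega
      exact isSolvable_of_card_ppow_mul_prime 3 2 Nat.prime_three Nat.prime_two _ K hc
        ⟨2, 0, by omega, by norm_num⟩
    · have hc : Nat.card K = 6 := by rw [h] at hcard; omega
      exact isSolvable_of_card_ppow_mul_prime 3 2 Nat.prime_three Nat.prime_two _ K hc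
        ⟨1, 1, le_rfl, by norm_num⟩
    · have hc : Nat.card K = 3 := by rw [h] at hcard; omega
      exact isSolvable_of_card_ppow_mul_prime 3 2 Nat.prime_three Nat.prime_two _ K hc
        ⟨1, 0, by omega, by norm_num⟩
  exact isSolvable_of_normal_of_quotient K hKs hQ

theorem isSolvable_p2q2_aux {G : Type u} [Group G] [Finite G] {p q : ℕ} (hp : p.Prime)
    (hq : q.Prime) (hqp : q < p) (hG : Nat.card G = p ^ 2 * q ^ 2) : Group.IsSolvable G := by
  classical
  have hpF : Fact p.Prime := ⟨hp⟩
  have hpq : p ≠ q := hqp.ne'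
  obtain ⟨P⟩ : Nonempty (Sylow p G) := inferInstance
  have hfac : (Nat.card G).factorization p = 2 := by
    rw [hG, Nat.factorization_mul (pow_ne_zero _ hp.ne_zero) (pow_ne_zero _ hq.ne_zero),
      Finsupp.add_apply, hp.factorization_pow, hq.factorization_pow]
    simp [hpq.symm]
  have hPcard : Nat.card (P : Subgroup G) = p ^ 2 := by rw [P.card_eq_multiplicity, hfac]
  have hPidx : (P : Subgroup G).index = q ^ 2 := by
    have := (P : Subgroup G).card_mul_index
    rw [hPcard, hG] at this
    exact Nat.eq_of_mul_eq_mul_left (pow_pos hp.pos 2) this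
  have hn_dvd : Nat.card (Sylow p G) ∣ q ^ 2 := hPidx ▸ P.card_dvd_index
  have hn_mod : Nat.card (Sylow p G) ≡ 1 [MOD p] := card_sylow_modEq_one p G
  obtain ⟨j, hj, hnj⟩ := (Nat.dvd_prime_pow hq).1 hn_dvd
  interval_cases j
  · -- unique Sylow `p`-subgroup
    rw [pow_zero] at hnj
    have h5 := Sylow.card_eq_index_normalizer P
    rw [hnj] at h5
    have hN : Subgroup.normalizer ((P : Subgroup G) : Set G) = ⊤ :=
      Subgroup.index_eq_one.1 h5.symm
    have hPn : (P : Subgroup G).Normal := Subgroup.normalizer_eq_top_iff.1 hN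
    have hPs : Group.IsSolvable (P : Subgroup G) := isSolvable_of_card_prime_pow hp hPcard
    have hQs : Group.IsSolvable (G ⧸ (P : Subgroup G)) := by
      apply isSolvable_of_card_prime_pow hq (n := 2)
      rw [← Subgroup.index_eq_card, hPidx]
    exact isSolvable_of_normal_of_quotient (P : Subgroup G) hPs hQs
  · exfalso
    rw [pow_one] at hnj
    rw [hnj] at hn_mod
    unfold Nat.ModEq at hn_mod
    rw [Nat.mod_eq_of_lt hqp, Nat.mod_eq_of_lt hp.one_lt] at hn_mod
    exact hq.one_lt.ne' hn_mod
  · -- `p ∣ q² - 1`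
    rw [hnj] at hn_mod
    have h1 : p ∣ q ^ 2 - 1 :=
      (Nat.modEq_iff_dvd' (Nat.one_le_pow _ _ hq.pos)).1 hn_mod.symm
    have h2 : q ^ 2 - 1 = (q - 1) * (q + 1) := by
      obtain ⟨r, rfl⟩ : ∃ r, q = r + 1 := ⟨q - 1, by have := hq.pos; omega⟩
      simp only [Nat.add_sub_cancel]
      have : (r + 1) ^ 2 = r * (r + 1 + 1) + 1 := by ring
      rw [this, Nat.add_sub_cancel]
    rw [h2] at h1
    have hp_eq : p = q + 1 := by
      rcases (Nat.Prime.dvd_mul hp).1 h1 with h | h
      · exfalso
        have := Nat.le_of_dvd (by have := hq.one_lt; omega) h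
        omega
      · have := Nat.le_of_dvd (by omega) h
        omega
    have hq2 : q = 2 := by
      rcases hq.eq_two_or_odd with h | h
      · exact h
      · exfalso
        rcases hp.eq_two_or_odd with h' | h'
        · have := hq.two_le; omega
        · omega
    subst hq2
    have hp3 : p = 3 := hp_eq
    subst hp3
    exact isSolvable_of_card_36 (by rw [hG]; norm_num) (by rw [hnj]; norm_num)

theorem isSolvable_p2q2 {G : Type u} [Group G] [Finite G] (p q : ℕ) (hp : p.Prime) (hq : q.Prime)
    (hG : Nat.card G = p ^ 2 * q ^ 2) : Group.IsSolvable G := by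
  rcases lt_trichotomy p q with h | h | h
  · exact isSolvable_p2q2_aux hq hp h (by rw [hG, mul_comm])
  · subst h
    exact isSolvable_of_card_prime_pow hp (n := 4) (by rw [hG]; ring)
  · exact isSolvable_p2q2_aux hp hq h hG

end Cfsg.Agent.Helper1
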