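import Mathlib
import Cfsg.Prelude.Def_Transfer
import Cfsg.Agent.Helper1.EPPO
import Cfsg.Agent.Helper1.FrobComplSylow
import Cfsg.Agent.Helper5.PGroupCenter

set_option autoImplicit false

/-!
Primitive groups with nontrivial `O_p(G)`: structure relative to a core-free maximal subgroup.
-/

namespace Cfsg.Agent.Helper1

open scoped Pointwise

universe u

variable {G : Type u} [Group G]

/-- If a `q`-group `Q` normalises `L` and centralises no nontrivial element of `L`, then
`|L| ≡ 1 (mod q)`. -/
theorem card_modEq_one_of_fixed_point_free [Finite G] {q : ℕ} [hq : Fact q.Prime]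
    (L Q : Subgroup G) [hLn : L.Normal] (hQ : IsPGroup q Q)
    (hfix : L ⊓ Subgroup.centralizer (Q : Set G) = ⊥) : Nat.card L ≡ 1 [MOD q] := by
  let φ : Q →* MulAut L := (MulAut.conjNormal (H := L)).comp Q.subtype
  letI : MulAction Q L := MulAction.compHom L φ
  have hsmul : ∀ (x : Q) (l : L), ((x • l : L) : G) = (x : G) * l * (x : G)⁻¹ := by
    intro x l
    show ((MulAut.conjNormal (H := L) (x : G)) l : G) = _
    rw [MulAut.conjNormal_apply]
  have h1 := hQ.card_modEq_card_fixedPoints L
  have h2 : Nat.card (MulAction.fixedPoints Q L) = 1 := by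
    rw [Nat.card_eq_one_iff_unique]
    refine ⟨⟨?_⟩, ⟨⟨1, fun x => ?_⟩⟩⟩
    · rintro ⟨a, ha⟩ ⟨b, hb⟩
      have key : ∀ l : L, l ∈ MulAction.fixedPoints Q L → l = 1 := by
        intro l hl
        have hmem : (l : G) ∈ L ⊓ Subgroup.centralizer (Q : Set G) := by
          refine Subgroup.mem_inf.2 ⟨l.2, ?_⟩
          rw [Subgroup.mem_centralizer_iff]
          intro x hx
          have := hl ⟨x, hx⟩
          have h3 := congrArg Subtype.val this
          rw [hsmul] at h3
          simp only at h3
          calc x * (l : G) = x * l * x⁻¹ * x := by group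
            _ = l * x := by rw [h3]
        rw [hfix, Subgroup.mem_bot] at hmem
        exact Subtype.ext hmem
      apply Subtype.ext
      show a = b
      rw [key a ha, key b hb]
    · apply Subtype.ext
      rw [hsmul]
      simp
  rw [h2] at h1
  exact h1

theorem pcore_corefree_max [Finite G] (p : ℕ) [hp : Fact p.Prime] (hL : Cfsg.pCore p G ≠ ⊥)
    (M : Subgroup G) (hM : IsCoatom M) (hcore : M.normalCore = ⊥) :
    Cfsg.IsElementaryAbelian p (Cfsg.pCore p G) ∧
      Subgroup.IsComplement' (Cfsg.pCore p G) M ∧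
      (∀ K : Subgroup G, K.Normal → K ≤ Cfsg.pCore p G → K = ⊥ ∨ K = Cfsg.pCore p G) ∧
      Subgroup.centralizer ((Cfsg.pCore p G : Subgroup G) : Set G) = Cfsg.pCore p G ∧
      ∀ (q : ℕ) [Fact q.Prime], Cfsg.pCore q ↥M ≠ ⊥ →
        Nat.card (Cfsg.pCore p G) % q = 1 % q ∧ q ≠ p := by
  obtain ⟨L, hLdef⟩ : ∃ L : Subgroup G, L = Cfsg.pCore p G := ⟨_, rfl⟩
  rw [← hLdef] at hL ⊢
  have hLn : L.Normal := by rw [hLdef]; infer_instance
  have hLp : IsPGroup p L := by rw [hLdef]; exact pCore_isPGroup p
  -- a minimal normal subgroup inside `L`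
  let 𝒮 : Set (Subgroup G) := {N | N.Normal ∧ N ≠ ⊥ ∧ N ≤ L}
  have hL𝒮 : L ∈ 𝒮 := ⟨hLn, hL, le_rfl⟩
  obtain ⟨N, -, hNmin⟩ := (Set.toFinite 𝒮).exists_le_minimal hL𝒮
  obtain ⟨hNn, hNne, hNL⟩ : N ∈ 𝒮 := hNmin.prop
  have hmin : ∀ K : Subgroup G, K.Normal → K ≤ N → K = ⊥ ∨ K = N := by
    intro K hKn hKN
    by_cases hK : K = ⊥
    · exact Or.inl hK
    · exact Or.inr (le_antisymm hKN (hNmin.2 ⟨hKn, hK, hKN.trans hNL⟩ hKN))
  -- `N` is central in `L`
  have hNZ : N ≤ Subgroup.centralizer (L : Set G) := by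
    have hKn : (N ⊓ Subgroup.centralizer (L : Set G)).Normal := Subgroup.normal_inf_normal _ _
    have hNLn : (N.subgroupOf L).Normal := inferInstance
    have hNLne : N.subgroupOf L ≠ ⊥ := by
      intro h
      rw [Subgroup.subgroupOf_eq_bot] at h
      exact hNne (by rw [← inf_of_le_left hNL]; exact h.eq_bot)
    obtain ⟨x, hxN, hx1, hxc⟩ :=
      Cfsg.Agent.Helper5.exists_ne_one_mem_center_of_normal hLp (N.subgroupOf L) hNLne
    have hKne : N ⊓ Subgroup.centralizer (L : Set G) ≠ ⊥ := by
      intro h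
      have hmem : (x : G) ∈ N ⊓ Subgroup.centralizer (L : Set G) := by
        refine Subgroup.mem_inf.2 ⟨Subgroup.mem_subgroupOf.1 hxN, ?_⟩
        rw [Subgroup.mem_centralizer_iff]
        intro l hl
        have := hxc ⟨l, hl⟩
        exact congrArg Subtype.val this
      rw [h, Subgroup.mem_bot] at hmem
      exact hx1 (Subtype.ext hmem)
    rcases hmin _ hKn inf_le_left with h | h
    · exact absurd h hKne
    · rw [← h]; exact inf_le_right
  have hNc : IsMulCommutative N :=
    ⟨⟨fun a b => Subtype.ext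
      ((Subgroup.mem_centralizer_iff.1 (hNZ b.2) a (hNL a.2)))⟩⟩
  obtain ⟨hsup, hinf, hcent⟩ := corefree_max_compl N hNne hNc hmin M hM hcore
  have hLN : L = N := by
    apply le_antisymm _ hNL
    rw [← hcent]
    intro l hl
    rw [Subgroup.mem_centralizer_iff]
    intro n hn
    exact (Subgroup.mem_centralizer_iff.1 (hNZ hn) l hl).symm
  subst hLN
  have hexp := minimal_normal_abelian_pow_eq_one L hNne hLp hNc hmin
  refine ⟨⟨hNc, hexp⟩, ?_, hmin, hcent, ?_⟩
  · apply Subgroup.isComplement'_of_disjoint_and_mul_eq_univ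
    · rw [disjoint_iff, inf_comm]; exact hinf
    · rw [← Subgroup.normal_mul, sup_comm, hsup]; rfl
  · intro q hq hQne
    obtain ⟨Q, hQdef⟩ : ∃ Q : Subgroup G, Q = (Cfsg.pCore q ↥M).map M.subtype := ⟨_, rfl⟩
    have hQq : IsPGroup q Q := by rw [hQdef]; exact (pCore_isPGroup q).map _
    have hQM : Q ≤ M := by rw [hQdef]; exact Subgroup.map_subtype_le _
    have hQne' : Q ≠ ⊥ := by
      rw [hQdef]
      intro h
      rw [Subgroup.map_eq_bot_iff_of_injective _ M.subtype_injective] at h
      exact hQne h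
    have hMQ : M ≤ Subgroup.normalizer (Q : Set G) := by
      apply le_normalizer_of_forall_conj_mem
      intro m hm x hx
      rw [hQdef] at hx ⊢
      obtain ⟨x₀, hx₀, rfl⟩ := hx
      have hn : (Cfsg.pCore q ↥M).Normal := inferInstance
      exact ⟨⟨m, hm⟩ * x₀ * ⟨m, hm⟩⁻¹, hn.conj_mem _ hx₀ _, by simp⟩
    have hML : M ≤ Subgroup.normalizer (L : Set G) := by
      rw [Subgroup.normalizer_eq_top_iff.2 hLn]; exact le_top
    have hQL : Q ⊓ L = ⊥ := by
      rw [eq_bot_iff, ← hinf]
      exact inf_le_inf_right _ hQM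
    have hqp : q ≠ p := by
      rintro rfl
      -- `L ⊔ Q` is a normal `q`-subgroup
      have hsupq : IsPGroup q (L ⊔ Q : Subgroup G) := IsPGroup.to_sup_of_normal_left hLp hQq
      have hsupn : (L ⊔ Q : Subgroup G).Normal := by
        rw [← Subgroup.normalizer_eq_top_iff, eq_top_iff, ← hsup]
        apply sup_le
        · intro m hm
          exact mem_normalizer_sup (hML hm) (hMQ hm)
        · exact le_sup_left.trans Subgroup.le_normalizer
      have hle : L ⊔ Q ≤ L := by
        conv_rhs => rw [hLdef]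
        exact le_pCore hsupn hsupq
      have hQleL : Q ≤ L := le_sup_right.trans hle
      apply hQne'
      rw [eq_bot_iff, ← hQL]
      exact le_inf le_rfl hQleL
    refine ⟨?_, hqp⟩
    -- fixed points of `Q` on `L`
    have hCn : (L ⊓ Subgroup.centralizer (Q : Set G)).Normal := by
      rw [← Subgroup.normalizer_eq_top_iff, eq_top_iff, ← hsup]
      apply sup_le
      · exact le_normalizer_inf hML (le_normalizer_centralizer_of_le_normalizer hMQ)
      · apply le_normalizer_of_forall_conj_mem
        intro l hl c hc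
        have : l * c * l⁻¹ = c := by
          have h1 := hNc.is_comm.comm ⟨l, hl⟩ ⟨c, hc.1⟩
          have h2 : l * c = c * l := congrArg Subtype.val h1
          rw [h2, mul_inv_cancel_right]
        rw [this]; exact hc
    have hfix : L ⊓ Subgroup.centralizer (Q : Set G) = ⊥ := by
      rcases hmin _ hCn inf_le_left with h | h
      · exact h
      · exfalso
        have hLC : L ≤ Subgroup.centralizer (Q : Set G) := by rw [← h]; exact inf_le_right
        have hQC : Q ≤ Subgroup.centralizer (L : Set G) := by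
          intro x hx
          rw [Subgroup.mem_centralizer_iff]
          intro l hl
          exact (Subgroup.mem_centralizer_iff.1 (hLC hl) x hx).symm
        rw [hcent] at hQC
        apply hQne'
        rw [eq_bot_iff, ← hQL]
        exact le_inf le_rfl hQC
    exact card_modEq_one_of_fixed_point_free L Q hQq hfix

end Cfsg.Agent.Helper1
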