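import Mathlib
import Cfsg.Prelude
import Cfsg.Agent.Lead.PF8a
import Cfsg.Agent.Helper4.BG16C
import Cfsg.Agent.Helper1.BG147m
import Cfsg.Agent.Helper2.BG144e

set_option autoImplicit false
set_option linter.unusedSectionVars false
set_option linter.unusedVariables false

/-!
# Peterfalvi (8.x) / B&G Theorem II: the set `D(M) ⊇ A₀(M)` and its fusion properties
-/

namespace Cfsg.Agent.Helper1.PF8

open Cfsg
open scoped Pointwise

universe u

variable {G : Type u} [Group G] [Finite G]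

variable {M W₁ U W₂ : Subgroup G}

/-- `W₁` is a Hall `κ(M)`-subgroup of `M`. -/
theorem typeP_hall (hG : Cfsg.IsMinSimpleOddOrder G) (hM : IsCoatom M)
    (hP : Cfsg.IsTypePWith M W₁ U W₂) : Cfsg.IsPiHallOf (Cfsg.kappa M) W₁ M := by
  obtain ⟨K, U₀, hKU⟩ := Cfsg.Agent.Helper4.BG15.exists_sigmaDecomposition hG hM
  have hW₁M : W₁ ≤ M := hP.W₁_compl.2.1
  refine ⟨hW₁M, fun p hp hd => Cfsg.Agent.Helper4.BG16.mem_kappa_of_typeP hG hM hP hp hd,
    fun p hp hpκ hd => ?_⟩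
  have hτ := Cfsg.Agent.Helper1.BGT3reg.kappa_subset_tau1_of_cyclic hG hM hKU.cyclic hKU.hall p hpκ
  have hcard : Nat.card ↥⁅M, M⁆ * Nat.card W₁ = Nat.card M :=
    Cfsg.Agent.Helper1.IsComplIn_card_mul hP.W₁_compl
  have hrel : W₁.relIndex M = Nat.card ↥⁅M, M⁆ := by
    have h1 := Cfsg.Agent.Helper1.relIndex_mul_card_of_le hW₁M
    rw [← hcard] at h1
    exact Nat.eq_of_mul_eq_mul_right Nat.card_pos h1
  rw [hrel] at hd
  exact hτ.2.2.2.1 hd

/-- `W₂ = C_{M_σ}(W₁)`. -/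
theorem typeP_W₂_eq (hG : Cfsg.IsMinSimpleOddOrder G) (hM : IsCoatom M)
    (hP : Cfsg.IsTypePWith M W₁ U W₂) :
    W₂ = Cfsg.sigmaCore M ⊓ Subgroup.centralizer (W₁ : Set G) := by
  have hK := typeP_hall hG hM hP
  have P := Cfsg.Agent.Helper1.BG147.p142' hG hM hK hP.W₁_ne
  obtain ⟨⟨x, hx⟩, hx1'⟩ := (Subgroup.ne_bot_iff_exists_ne_one).mp hP.W₁_ne
  have hx1 : x ≠ 1 := fun h => hx1' (Subtype.ext h)
  have hW₂ := hP.W₂_centralizer x hx hx1
  have hpa := P.prime_action x hx hx1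
  have hFσ := Cfsg.Agent.Helper4.BG15.fittingHallOf_le_sigmaCore hG hM
  have hσM' := (Cfsg.Agent.Helper4.BG15.thm152a' hG hM).2.2.1
  apply le_antisymm
  · intro y hy
    rw [← hpa]
    refine ⟨hFσ ((hP.W₂_le.trans inf_le_left) hy), ?_⟩
    have : y ∈ ⁅M, M⁆ ⊓ Subgroup.centralizer ({x} : Set G) := by rw [hW₂]; exact hy
    exact this.2
  · intro y hy
    rw [← hpa] at hy
    rw [← hW₂]
    exact ⟨hσM' hy.1, hy.2⟩

/-- An element of the `W`-part can be conjugated into `M` only by elements of `M`. -/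
theorem mem_of_conj_wpart (hG : Cfsg.IsMinSimpleOddOrder G) (hM : IsCoatom M)
    (hP : Cfsg.IsTypePWith M W₁ U W₂) {m w g : G} (hm : m ∈ M) (hw : w ∈ W₁ ⊔ W₂)
    (hw1 : w ∉ W₁) (hw2 : w ∉ W₂) (hg : g * (m * w * m⁻¹) * g⁻¹ ∈ M) : g ∈ M := by
  have hK := typeP_hall hG hM hP
  have P := Cfsg.Agent.Helper1.BG147.p142' hG hM hK hP.W₁_ne
  have hW₂ := typeP_W₂_eq hG hM hP
  by_contra hgM
  have hh : (g * m)⁻¹ ∉ M := by
    intro h
    apply hgM
    have h1 : g * m ∈ M := by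
      have := M.inv_mem h
      rwa [inv_inv] at this
    have : g = g * m * m⁻¹ := by group
    rw [this]; exact M.mul_mem h1 (M.inv_mem hm)
  have hz : w ∈ Cfsg.Agent.Helper2.BG147K.Zhat W₁
      (Cfsg.sigmaCore M ⊓ Subgroup.centralizer (W₁ : Set G)) := by
    rw [← hW₂]
    refine ⟨hw, ?_⟩
    rintro (h | h)
    · exact hw1 h
    · exact hw2 h
  apply Cfsg.Agent.Helper1.BG147.Zhat_not_mem_conj hK P hh hz
  refine ⟨g * (m * w * m⁻¹) * g⁻¹, hg, ?_⟩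
  simp only [MulEquiv.coe_toMonoidHom, MulAut.conj_apply]
  group

/-- Prime-order elements centralizing an element of the `W`-part have order in `κ(M) ∪ σ(M)`. -/
theorem wpart_cent_primes (hG : Cfsg.IsMinSimpleOddOrder G) (hM : IsCoatom M)
    (hP : Cfsg.IsTypePWith M W₁ U W₂) {m w z : G} (hw : w ∈ W₁ ⊔ W₂)
    (hw1 : w ∉ W₁) (hw2 : w ∉ W₂) {t : ℕ} (ht : t.Prime) (hzo : orderOf z = t)
    (hz : z ∈ Subgroup.centralizer ({m * w * m⁻¹} : Set G)) :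
    t ∈ Cfsg.kappa M ∨ t ∈ Cfsg.sigma M := by
  have hK := typeP_hall hG hM hP
  have hW₂ := typeP_W₂_eq hG hM hP
  obtain ⟨-, -, -, -, -, hnorm⟩ := hP.selfNormalizing
  have hN := hnorm {w} (by
    intro y hy
    rw [Set.mem_singleton_iff] at hy
    subst hy
    refine ⟨hw, ?_⟩
    rintro (h | h)
    · exact hw1 h
    · exact hw2 h) (Set.singleton_nonempty w)
  rw [Subgroup.mem_centralizer_singleton_iff] at hz
  have hz' : m⁻¹ * z * m ∈ Subgroup.normalizer ({w} : Set G) := by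
    rw [Subgroup.mem_set_normalizer_iff]
    intro n
    simp only [Set.mem_singleton_iff]
    have hcomm : m⁻¹ * z * m * w = w * (m⁻¹ * z * m) := by
      have e1 : m⁻¹ * z * m * w = m⁻¹ * (z * (m * w * m⁻¹)) * m := by group
      have e2 : w * (m⁻¹ * z * m) = m⁻¹ * ((m * w * m⁻¹) * z) * m := by group
      rw [e1, e2, hz]
    constructor
    · rintro rfl
      calc m⁻¹ * z * m * n * (m⁻¹ * z * m)⁻¹ = (m⁻¹ * z * m * n) * (m⁻¹ * z * m)⁻¹ := by group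
        _ = n * (m⁻¹ * z * m) * (m⁻¹ * z * m)⁻¹ := by rw [hcomm]
        _ = n := by group
    · intro h
      have : n = (m⁻¹ * z * m)⁻¹ * (m⁻¹ * z * m * n * (m⁻¹ * z * m)⁻¹) * (m⁻¹ * z * m) := by group
      rw [this, h]
      calc (m⁻¹ * z * m)⁻¹ * w * (m⁻¹ * z * m) = (m⁻¹ * z * m)⁻¹ * (w * (m⁻¹ * z * m)) := by group
        _ = (m⁻¹ * z * m)⁻¹ * (m⁻¹ * z * m * w) := by rw [hcomm]
        _ = w := by group
  rw [hN] at hz'
  have ho : orderOf (m⁻¹ * z * m) = t := by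
    have : m⁻¹ * z * m = MulAut.conj m⁻¹ z := by simp
    rw [this, MulEquiv.orderOf_eq, hzo]
  have hd : t ∣ Nat.card ↥(W₁ ⊔ W₂) := by
    rw [← ho]; exact Subgroup.orderOf_dvd_natCard _ hz'
  rw [hW₂, Cfsg.Agent.Helper1.BG147.card_Z hK] at hd
  rcases (Nat.Prime.dvd_mul ht).1 hd with h | h
  · exact Or.inl (hK.2.1 t ht h)
  · exact Or.inr (Cfsg.Agent.Lead.BG12.mem_sigma_of_dvd_card_sigmaCore ht
      (h.trans (Subgroup.card_dvd_of_le inf_le_left)))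


/-- The `W`-part of `A₀(M)`. -/
def wPart (M : Subgroup G) : Set G :=
  {v | ∃ W₁ U W₂ : Subgroup G, Cfsg.IsTypePWith M W₁ U W₂ ∧
    ∃ m ∈ M, ∃ w ∈ W₁ ⊔ W₂, w ∉ W₁ ∧ w ∉ W₂ ∧ v = m * w * m⁻¹}

/-- The set `D(M) = (A(M) ∖ 1) ∪ W`-part, relative to a standard factorisation. -/
def bigD (M U₀ : Subgroup G) : Set G := {a | a ∈ Cfsg.sigmaA M U₀ ∧ a ≠ 1} ∪ wPart M

omit [Finite G] in
theorem conj_eq_one {m x : G} (h : m * x * m⁻¹ = 1) : x = 1 := by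
  have : x = m⁻¹ * (m * x * m⁻¹) * m := by group
  rw [this, h]; group

theorem wPart_subset {a : G} (ha : a ∈ wPart M) : a ∈ M := by
  obtain ⟨W₁, U, W₂, hP, m, hm, w, hw, hw1, hw2, rfl⟩ := ha
  exact (Cfsg.Agent.Lead.PF8.wpart_pow hP hm hw hw1 hw2).1

omit [Finite G] in
theorem wPart_ne_one {a : G} (ha : a ∈ wPart M) : a ≠ 1 := by
  obtain ⟨W₁, U, W₂, hP, m, hm, w, hw, hw1, hw2, rfl⟩ := ha
  intro h
  apply hw1
  rw [conj_eq_one h]
  exact Subgroup.one_mem _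

omit [Finite G] in
theorem wPart_conj {a m : G} (hm : m ∈ M) (ha : a ∈ wPart M) : m * a * m⁻¹ ∈ wPart M := by
  obtain ⟨W₁, U, W₂, hP, m', hm', w, hw, hw1, hw2, rfl⟩ := ha
  refine ⟨W₁, U, W₂, hP, m * m', M.mul_mem hm hm', w, hw, hw1, hw2, ?_⟩
  group

theorem bigD_subset {U₀ : Subgroup G} {a : G} (ha : a ∈ bigD M U₀) : a ∈ M := by
  rcases ha with ha | ha
  · exact ha.1.1.1
  · exact wPart_subset ha

omit [Finite G] in
theorem bigD_ne_one {U₀ : Subgroup G} {a : G} (ha : a ∈ bigD M U₀) : a ≠ 1 := by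
  rcases ha with ha | ha
  · exact ha.2
  · exact wPart_ne_one ha

/-- The key property of `D(M)`: elements outside `M_σ` are conjugated into `D(M)` only by `M`. -/
theorem bigD_star (hG : Cfsg.IsMinSimpleOddOrder G) (hM : IsCoatom M) {K₀ U₀ : Subgroup G}
    (hKU : Cfsg.IsSigmaDecomposition M K₀ U₀) {a g : G} (ha : a ∈ bigD M U₀)
    (haσ : a ∉ Cfsg.sigmaCore M) (hga : g * a * g⁻¹ ∈ bigD M U₀) : g ∈ M := by
  rcases ha with ha | ha
  · rcases hga with hga | hga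
    · exact Cfsg.Agent.Lead.PF8.mem_of_sigmaA hG hM hKU ha.1 haσ hga.1
    · obtain ⟨W₁, U, W₂, hP, m, hm, w, hw, hw1, hw2, hv⟩ := hga
      have h1 : g⁻¹ * (m * w * m⁻¹) * g⁻¹⁻¹ ∈ M := by
        rw [← hv]
        have : g⁻¹ * (g * a * g⁻¹) * g⁻¹⁻¹ = a := by group
        rw [this]; exact ha.1.1.1
      have h2 := mem_of_conj_wpart hG hM hP hm hw hw1 hw2 h1
      have h3 := M.inv_mem h2
      rwa [inv_inv] at h3
  · obtain ⟨W₁, U, W₂, hP, m, hm, w, hw, hw1, hw2, rfl⟩ := ha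
    exact mem_of_conj_wpart hG hM hP hm hw hw1 hw2 (bigD_subset hga)

/-- Fusion in `D(M)` is controlled by `M`. -/
theorem bigD_fusion (hG : Cfsg.IsMinSimpleOddOrder G) (hM : IsCoatom M) {K₀ U₀ : Subgroup G}
    (hKU : Cfsg.IsSigmaDecomposition M K₀ U₀) {a g : G} (ha : a ∈ bigD M U₀)
    (hga : g * a * g⁻¹ ∈ bigD M U₀) : ∃ x ∈ M, x * a * x⁻¹ = g * a * g⁻¹ := by
  by_cases haσ : a ∈ Cfsg.sigmaCore M
  · obtain ⟨m, hm, hgm⟩ := Cfsg.Agent.Helper2.BG144.fusion_control hG hM haσ (bigD_ne_one ha)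
      (bigD_subset hga)
    exact ⟨m, hm, hgm.symm⟩
  · exact ⟨g, bigD_star hG hM hKU ha haσ hga, rfl⟩

/-- Elements of `D(M)` outside `M_σ` have their centralizer in `M`. -/
theorem bigD_cent_le (hG : Cfsg.IsMinSimpleOddOrder G) (hM : IsCoatom M) {K₀ U₀ : Subgroup G}
    (hKU : Cfsg.IsSigmaDecomposition M K₀ U₀) {a : G} (ha : a ∈ bigD M U₀)
    (haσ : a ∉ Cfsg.sigmaCore M) : Subgroup.centralizer ({a} : Set G) ≤ M := by
  intro c hc
  rw [Subgroup.mem_centralizer_singleton_iff] at hc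
  apply bigD_star hG hM hKU ha haσ (g := c)
  have : c * a * c⁻¹ = a := by rw [hc]; group
  rw [this]; exact ha

end Cfsg.Agent.Helper1.PF8
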