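import Mathlib
import Cfsg.Prelude
import Cfsg.Agent.Helper1.PF8b
import Cfsg.Agent.Helper1.BG144h
import Cfsg.Agent.S1423
import Cfsg.Agent.S1432

set_option autoImplicit false
set_option linter.unusedSectionVars false
set_option linter.unusedVariables false

/-!
# B&G Theorem II(c): `(|R(a)|, |C_M(b)|) = 1` for `a, b ∈ D(M)`
-/

namespace Cfsg.Agent.Helper1.PF8

open Cfsg
open scoped Pointwise

universe u

variable {G : Type u} [Group G] [Finite G]

/-- An element of prime order `t ∈ σ(N)` is conjugate into `N_σ`. -/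
theorem exists_conj_mem_sigmaCore (hG : Cfsg.IsMinSimpleOddOrder G) {N : Subgroup G}
    (hN : IsCoatom N) {t : ℕ} (ht : t.Prime) (htN : t ∈ Cfsg.sigma N) {z : G}
    (hz : orderOf z = t) : ∃ g : G, g * z * g⁻¹ ∈ Cfsg.sigmaCore N := by
  haveI : Fact t.Prime := ⟨ht⟩
  obtain ⟨T, -, hTσ, hTp, hTcard⟩ := Cfsg.Agent.Lead.exists_le_card_eq_ppart (p := t)
    (H := Cfsg.sigmaCore N) (U := ⊥) IsPGroup.of_bot bot_le
  have hidx : ¬ t ∣ (Cfsg.sigmaCore N).index :=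
    Cfsg.Agent.Lead.BG12.not_dvd_index_sigmaCore hG hN ht htN
  have hfac : (Nat.card G).factorization t = (Nat.card ↥(Cfsg.sigmaCore N)).factorization t := by
    have h1 := Subgroup.index_mul_card (Cfsg.sigmaCore N)
    have hidx0 : (Cfsg.sigmaCore N).index ≠ 0 := by
      intro h0; rw [h0, zero_mul] at h1; exact Nat.card_pos.ne' h1.symm
    rw [← h1, Nat.factorization_mul hidx0 Nat.card_pos.ne', Finsupp.add_apply,
      Nat.factorization_eq_zero_of_not_dvd hidx, zero_add]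
  have hcard : Nat.card T = t ^ (Nat.card ↥(⊤ : Subgroup G)).factorization t := by
    rw [Subgroup.card_top, hfac]; exact hTcard
  have hZp : IsPGroup t ↥(Subgroup.zpowers z) :=
    IsPGroup.of_card (n := 1) (by rw [Nat.card_zpowers, hz, pow_one])
  obtain ⟨g, -, hg⟩ := Cfsg.Agent.Lead.exists_conj_le_of_card_eq_ppart (M := ⊤) (A := T)
    (T := Subgroup.zpowers z) le_top hcard le_top hZp
  refine ⟨g, hTσ (hg ⟨z, Subgroup.mem_zpowers z, ?_⟩)⟩
  simp [MulAut.conj_apply]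

/-- `α` is invariant under conjugation. -/
theorem not_pRankLE_map_conj {N : Subgroup G} (g : G) {p k : ℕ}
    (h : ¬ Cfsg.PRankLE p k ↥N) : ¬ Cfsg.PRankLE p k ↥(N.map (MulAut.conj g).toMonoidHom) := by
  intro h'
  apply h
  have hinj : Function.Injective (MulAut.conj g).toMonoidHom := (MulAut.conj g).injective
  exact Cfsg.Agent.Helper6.Narrow.pRankLE_of_injective
    (N.equivMapOfInjective _ hinj).toMonoidHom (N.equivMapOfInjective _ hinj).injective h'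


/-- No element of prime order `t ∈ σ(N)` of `M` centralizes a singular `τ₂(M)`-element of `M`. -/
theorem no_sigma_prime_cent_tau2 (hG : Cfsg.IsMinSimpleOddOrder G) {M N : Subgroup G}
    (hM : IsCoatom M) {a : G} (ha : a ∈ Cfsg.sigmaCore M) (ha1 : a ≠ 1)
    (hbad : ¬ Subgroup.centralizer ({a} : Set G) ≤ M)
    (d : Cfsg.Agent.Helper2.BG144.BadData M N a) {t : ℕ} (ht : t.Prime)
    (htN : t ∈ Cfsg.sigma N) {z b' : G} (hzM : z ∈ M) (hzo : orderOf z = t) {r : ℕ}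
    (hr : r.Prime) (hrτ : r ∈ Cfsg.tau2 M) (hb'M : b' ∈ M) (hb'o : orderOf b' = r)
    (hb'σ : b' ∈ Cfsg.sigmaHat M) (hzb : z * b' = b' * z) : False := by
  classical
  have hN := d.coatom
  haveI : Fact t.Prime := ⟨ht⟩
  haveI : Fact r.Prime := ⟨hr⟩
  have hsolvN : Group.IsSolvable ↥N := hG.2.2.2 N hN.1
  have htM : t ∣ Nat.card ↥M := by rw [← hzo]; exact Subgroup.orderOf_dvd_natCard _ hzM
  have hβ := Cfsg.Agent.Helper1.BG144h.mem_beta_of_badData hG hM ha ha1 hbad d ht htN htM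
  obtain ⟨g, hg⟩ := exists_conj_mem_sigmaCore hG hN ht htN hzo
  have hb'1 : b' ≠ 1 := by
    intro h; rw [h, orderOf_one] at hb'o; exact hr.one_lt.ne hb'o
  have hz1 : z ≠ 1 := by
    intro h; rw [h, orderOf_one] at hzo; exact ht.one_lt.ne hzo
  have hcent := Cfsg.Agent.Helper4.BG12.centralizer_le_of_tau2_elt hG hM hb'M hb'1 (by
    intro p hp hpd
    rw [hb'o] at hpd
    rw [(Nat.prime_dvd_prime_iff_eq hp hr).mp hpd]
    exact hrτ) hb'σ
  have hM₁ : IsCoatom (M.map (MulAut.conj g).toMonoidHom) :=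
    Cfsg.Agent.Helper2.BG144.isCoatom_map_conj hM g
  have hC'' : Subgroup.centralizer ({g * b' * g⁻¹} : Set G) ≤ M.map (MulAut.conj g).toMonoidHom := by
    rw [Cfsg.Agent.Helper2.BG144.centralizer_conj]
    exact Subgroup.map_mono hcent.1
  have hz'1 : g * z * g⁻¹ ≠ 1 := fun h => hz1 (conj_eq_one h)
  have hb''1 : g * b' * g⁻¹ ≠ 1 := fun h => hb'1 (conj_eq_one h)
  have hz'o : orderOf (g * z * g⁻¹) = t := by
    have : g * z * g⁻¹ = MulAut.conj g z := by simp [MulAut.conj_apply]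
    rw [this, MulEquiv.orderOf_eq, hzo]
  have hb''o : orderOf (g * b' * g⁻¹) = r := by
    have : g * b' * g⁻¹ = MulAut.conj g b' := by simp [MulAut.conj_apply]
    rw [this, MulEquiv.orderOf_eq, hb'o]
  have hcomm : g * b' * g⁻¹ * (g * z * g⁻¹) = g * z * g⁻¹ * (g * b' * g⁻¹) := by
    have e1 : g * b' * g⁻¹ * (g * z * g⁻¹) = g * (b' * z) * g⁻¹ := by group
    have e2 : g * z * g⁻¹ * (g * b' * g⁻¹) = g * (z * b') * g⁻¹ := by group
    rw [e1, e2, hzb]
  have hz'N : g * z * g⁻¹ ∈ N := Cfsg.Agent.Lead.BG12.sigmaCore_le hg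
  -- `C(z') ≤ N`
  obtain ⟨P⟩ : Nonempty (Sylow t ↥(Cfsg.sigmaCore N)) := inferInstance
  have h23 := (Cfsg.Agent.S1423.result hG N hN t htN (Subgroup.zpowers (g * z * g⁻¹))
    (Subgroup.zpowers_le.2 hz'N) (by rw [Nat.card_zpowers, hz'o]) P (Or.inl hβ)).1
  rw [Cfsg.Agent.Helper1.BG147.centralizer_zpowers_eq] at h23
  have hb''C : g * b' * g⁻¹ ∈ Subgroup.centralizer ({g * z * g⁻¹} : Set G) := by
    rw [Subgroup.mem_centralizer_singleton_iff]; exact hcomm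
  have hb''N : g * b' * g⁻¹ ∈ N := h23.1 hb''C
  have hrN : r ∉ Cfsg.sigma N := fun h =>
    Cfsg.Agent.Helper1.BG144h.not_mem_tau2_of_badData hG hM ha ha1 hbad d h hrτ
  have hprimes : ∀ p : ℕ, p.Prime → p ∣ orderOf (g * b' * g⁻¹) → p = r := by
    intro p hp hpd
    rw [hb''o] at hpd
    exact (Nat.prime_dvd_prime_iff_eq hp hr).mp hpd
  rcases Cfsg.Agent.S1432.result hG N hN (g * z * g⁻¹) hg hz'1 (g * b' * g⁻¹) ⟨hb''N, hb''C⟩
    hb''1 (fun p hp hpd => by rw [hprimes p hp hpd]; exact hrN) with ⟨hκ, -⟩ | ⟨-, -, hC, huniq⟩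
  · -- `r ∈ κ(N)`
    have hrκ : r ∈ Cfsg.kappa N := hκ r hr (by rw [hb''o])
    have hκM : Cfsg.kappa M = ∅ :=
      Cfsg.Agent.Lead.BG144g.kappa_eq_empty_of_bad hG hM ha ha1 hbad hN d.cent_le ⟨r, hrκ⟩
    obtain ⟨KH, hKH, hKH1⟩ := Cfsg.Agent.Helper1.BG147.exists_kappaHall_ne_bot hG hN ⟨r, hrκ⟩
    have hXN : Subgroup.zpowers (g * b' * g⁻¹) ≤ N := Subgroup.zpowers_le.2 hb''N
    obtain ⟨n, hn, hXK⟩ := Cfsg.Agent.Helper1.BG147.exists_conj_ge_of_hall hsolvN hKH hXN (by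
      intro p hp hd
      rw [Nat.card_zpowers] at hd
      rw [hprimes p hp hd]
      exact hrκ)
    obtain ⟨K₁, hK₁def⟩ : ∃ K₁ : Subgroup G, K₁ = KH.map (MulAut.conj n).toMonoidHom := ⟨_, rfl⟩
    rw [← hK₁def] at hXK
    have hK₁ : Cfsg.IsPiHallOf (Cfsg.kappa N) K₁ N := by
      rw [hK₁def]; exact Cfsg.Agent.Lead.BG144g.isPiHallOf_map_conj hKH hn
    have hbK₁ : g * b' * g⁻¹ ∈ K₁ := hXK (Subgroup.mem_zpowers _)
    have hK₁1 : K₁ ≠ ⊥ := by
      intro h; rw [h, Subgroup.mem_bot] at hbK₁; exact hb''1 hbK₁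
    obtain ⟨Ns, e⟩ := Cfsg.Agent.Helper1.BG147.exists_emb' hG hN hK₁ hK₁1
    have P := Cfsg.Agent.Helper1.BG147.p142' hG hN hK₁ hK₁1
    have PNs := Cfsg.Agent.Helper1.BG147.p142' hG e.coatom e.hall P.kstar_ne
    have hXle : Subgroup.zpowers (g * b' * g⁻¹) ≤ Cfsg.sigmaCore Ns ⊓ Subgroup.centralizer
        ((Cfsg.sigmaCore N ⊓ Subgroup.centralizer (K₁ : Set G) : Subgroup G) : Set G) := by
      rw [← e.K_eq]; exact hXK
    have hu := PNs.uniq (Subgroup.zpowers (g * b' * g⁻¹)) hXle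
      (by rw [Nat.card_zpowers, hb''o]; exact hr)
    rw [Cfsg.Agent.Helper1.BG147.centralizer_zpowers_eq] at hu
    have hM₁Ns : M.map (MulAut.conj g).toMonoidHom = Ns := hu.2 _ hM₁ hC''
    have hne : Nat.card ↥(Cfsg.sigmaCore N ⊓ Subgroup.centralizer (K₁ : Set G)) ≠ 1 := by
      intro h
      exact P.kstar_ne (Subgroup.card_eq_one.mp h)
    obtain ⟨r', hr', hr'd⟩ := Nat.exists_prime_and_dvd hne
    have hr'κ : r' ∈ Cfsg.kappa Ns := e.hall.2.1 r' hr' hr'd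
    rw [← hM₁Ns, Cfsg.Agent.Helper1.BG144h.kappa_map_conj hG hM g, hκM] at hr'κ
    exact hr'κ
  · -- `C(b'') ≤ N` uniquely
    have hM₁N : M.map (MulAut.conj g).toMonoidHom = N := huniq _ hM₁ hC''
    exact d.not_conj g hM₁N.symm

/-- **B&G Theorem II(c)**: the order of `R(a)` is coprime to the order of `C_M(b)` for
`a, b ∈ D(M)`. -/
theorem bigD_coprime (hG : Cfsg.IsMinSimpleOddOrder G) {M : Subgroup G} (hM : IsCoatom M)
    {K₀ U₀ : Subgroup G} (hKU : Cfsg.IsSigmaDecomposition M K₀ U₀) {a b : G}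
    (ha : a ∈ bigD M U₀) (hb : b ∈ bigD M U₀) :
    Nat.Coprime (Nat.card (Cfsg.supportR M a))
      (Nat.card ↥(M ⊓ Subgroup.centralizer ({b} : Set G))) := by
  classical
  have ha1 := bigD_ne_one ha
  have hb1 := bigD_ne_one hb
  by_cases hbad : Subgroup.centralizer ({a} : Set G) ≤ M
  · rw [Cfsg.Agent.Helper2.BG144.supportR_eq_bot_of_le hbad, Subgroup.card_bot]
    exact Nat.coprime_one_left _
  have haσ : a ∈ Cfsg.sigmaCore M := by
    by_contra h
    exact hbad (bigD_cent_le hG hM hKU ha h)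
  obtain ⟨N, d⟩ := Cfsg.Agent.Helper2.BG144.exists_badData hG hM haσ ha1 hbad
  have hN := d.coatom
  rw [Cfsg.Agent.Helper2.BG144.supportR_eq hG hM haσ ha1 hbad d]
  apply Nat.coprime_of_dvd
  intro t ht h1 h2
  haveI : Fact t.Prime := ⟨ht⟩
  have htN : t ∈ Cfsg.sigma N :=
    Cfsg.Agent.Lead.BG12.mem_sigma_of_dvd_card_sigmaCore ht
      (h1.trans (Subgroup.card_dvd_of_le inf_le_left))
  have htM : t ∉ Cfsg.sigma M := by
    intro h
    obtain ⟨g, hg⟩ := (Cfsg.Agent.S1378.result hG).2 M N hM hN ⟨t, h, htN⟩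
    exact d.not_conj g hg
  obtain ⟨⟨z, hzMC⟩, hzo⟩ := exists_prime_orderOf_dvd_card'
    (G := ↥(M ⊓ Subgroup.centralizer ({b} : Set G))) t h2
  have hzo' : orderOf z = t := by
    have := Subgroup.orderOf_coe (⟨z, hzMC⟩ : ↥(M ⊓ Subgroup.centralizer ({b} : Set G)))
    rw [← this] at hzo
    exact hzo
  have hz1 : z ≠ 1 := by
    intro h; rw [h, orderOf_one] at hzo'; exact ht.one_lt.ne hzo'
  have hprimes : ∀ p : ℕ, p.Prime → p ∣ orderOf z → p = t := by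
    intro p hp hpd
    rw [hzo'] at hpd
    exact (Nat.prime_dvd_prime_iff_eq hp ht).mp hpd
  have hκ : t ∉ Cfsg.kappa M :=
    Cfsg.Agent.Helper1.BG144h.not_mem_kappa_of_badData hG hM haσ ha1 hbad d htN
  have hτ : t ∉ Cfsg.tau2 M :=
    Cfsg.Agent.Helper1.BG144h.not_mem_tau2_of_badData hG hM haσ ha1 hbad d htN
  rcases hb with hb | hb
  · by_cases hbσ : b ∈ Cfsg.sigmaCore M
    · rcases Cfsg.Agent.S1432.result hG M hM b hbσ hb1 z hzMC hz1
        (fun p hp hpd => by rw [hprimes p hp hpd]; exact htM) with ⟨h, -⟩ | ⟨h, -⟩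
      · exact hκ (h t ht (by rw [hzo']))
      · exact hτ (h t ht (by rw [hzo']))
    · obtain ⟨n, r, hr, hrσ, hrd, hwr, hn⟩ :=
        Cfsg.Agent.Helper1.BG151.exists_pow_tau2 hG hM hKU hb.1 hbσ
      obtain ⟨⟨hbM, y, hy, hy1, hby⟩, hbU⟩ := hb.1
      have hwU : b ^ n ∈ U₀ ⊔ Cfsg.sigmaCore M := Subgroup.pow_mem _ hbU n
      have hwy : b ^ n * y = y * b ^ n := ((show Commute b y from hby).pow_left n).eq
      have hrτ := Cfsg.Agent.Helper1.BG151.mem_tau2_of_commute' hG hM hKU hr hrσ hwU hwr hy hy1 hwy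
      have hwM : b ^ n ∈ M := M.pow_mem hbM n
      have hzb : z * b ^ n = b ^ n * z := by
        have h := Subgroup.mem_centralizer_singleton_iff.mp hzMC.2
        exact ((show Commute z b from h).pow_right n).eq
      exact no_sigma_prime_cent_tau2 hG hM haσ ha1 hbad d ht htN hzMC.1 hzo' hr hrτ hwM hwr
        ⟨hwM, y, hy, hy1, hwy⟩ hzb
  · obtain ⟨W₁, U, W₂, hP, m, hm, w, hw, hw1, hw2, rfl⟩ := hb
    rcases wpart_cent_primes hG hM hP hw hw1 hw2 ht hzo' hzMC.2 with h | h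
    · exact hκ h
    · exact htM h

end Cfsg.Agent.Helper1.PF8
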