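import Mathlib
import Cfsg.Prelude
import Cfsg.Agent.Helper1.PF8c

set_option autoImplicit false
set_option linter.unusedSectionVars false
set_option linter.unusedVariables false

/-!
# B&G Theorem II / Peterfalvi (8.x): the Dade hypothesis for `M`-invariant subsets of `D(M)`
-/

namespace Cfsg.Agent.Helper1.PF8

open Cfsg
open scoped Pointwise

universe u

variable {G : Type u} [Group G] [Finite G]

omit [Finite G] in
theorem supportR_le_centralizer (M : Subgroup G) (x : G) :
    Cfsg.supportR M x ≤ Subgroup.centralizer ({x} : Set G) := by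
  unfold Cfsg.supportR
  split_ifs with h
  · exact inf_le_right
  · exact bot_le

omit [Finite G] in
theorem supportR_conj_mem (M : Subgroup G) {a c u : G}
    (hc : c ∈ Subgroup.centralizer ({a} : Set G)) (hu : u ∈ Cfsg.supportR M a) :
    c * u * c⁻¹ ∈ Cfsg.supportR M a := by
  unfold Cfsg.supportR at hu ⊢
  split_ifs at hu ⊢ with h
  · have hL := (Classical.choose_spec h.2.exists).2
    refine ⟨?_, ?_⟩
    · exact (Subgroup.mem_normalizer_iff.mp
        (Cfsg.Agent.Helper2.CNMax.le_normalizer_fittingHallOf _ (hL hc)) u).mp hu.1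
    · exact Subgroup.mul_mem _ (Subgroup.mul_mem _ hc hu.2) (Subgroup.inv_mem _ hc)
  · rw [Subgroup.mem_bot] at hu ⊢
    rw [hu]; group

/-- **B&G Theorem II**: the Dade hypothesis for an `M`-invariant subset of `D(M)` meeting `M_σ`. -/
theorem dade_of_subset (hG : Cfsg.IsMinSimpleOddOrder G) {M : Subgroup G} (hM : IsCoatom M)
    {K₀ U₀ : Subgroup G} (hKU : Cfsg.IsSigmaDecomposition M K₀ U₀) {X : Set G}
    (hXD : X ⊆ bigD M U₀) (hinv : ∀ m ∈ M, ∀ a ∈ X, m * a * m⁻¹ ∈ X)
    (hne : ∃ a ∈ X, a ∈ Cfsg.sigmaCore M) :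
    Subgroup.normalizer X = M ∧ Cfsg.DadeHypothesis X M (Cfsg.supportR M) := by
  classical
  have hσn := Cfsg.Agent.Lead.BG12.le_normalizer_sigmaCore M
  have hσM : Cfsg.sigmaCore M ≤ M := Cfsg.Agent.Lead.BG12.sigmaCore_le
  constructor
  · apply le_antisymm _ (Cfsg.Agent.Lead.PF8.le_set_normalizer_of_conj_mem hinv)
    intro g hg
    -- the subgroup generated by `X ∩ M_σ`
    obtain ⟨Y, hY⟩ : ∃ Y : Subgroup G, Y = Subgroup.closure (X ∩ (Cfsg.sigmaCore M : Set G)) :=
      ⟨_, rfl⟩
    have hkey : ∀ h : G, h ∈ Subgroup.normalizer X → ∀ n ∈ Y, h * n * h⁻¹ ∈ Y := by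
      intro h hh n hn
      have hsub : X ∩ (Cfsg.sigmaCore M : Set G) ⊆
          ((Y.comap (MulAut.conj h).toMonoidHom : Subgroup G) : Set G) := by
        rintro a ⟨haX, haσ⟩
        have hhaX : h * a * h⁻¹ ∈ X := (Subgroup.mem_set_normalizer_iff.mp hh a).mp haX
        obtain ⟨m, hm, hgm⟩ := Cfsg.Agent.Helper2.BG144.fusion_control hG hM haσ
          (bigD_ne_one (hXD haX)) (bigD_subset (hXD hhaX))
        have hσ' : h * a * h⁻¹ ∈ Cfsg.sigmaCore M := by
          rw [hgm]; exact (Subgroup.mem_normalizer_iff.mp (hσn hm) a).mp haσ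
        show (MulAut.conj h).toMonoidHom a ∈ Y
        rw [hY]
        apply Subgroup.subset_closure
        simp only [MulEquiv.coe_toMonoidHom, MulAut.conj_apply]
        exact ⟨hhaX, hσ'⟩
      have hle : Y ≤ Y.comap (MulAut.conj h).toMonoidHom := by
        rw [hY] at hsub ⊢
        exact (Subgroup.closure_le _).mpr hsub
      have := hle hn
      simpa [MulAut.conj_apply] using this
    have hMN : M ≤ Subgroup.normalizer (Y : Set G) := by
      intro m hm
      apply Subgroup.mem_normalizer_fintype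
      exact hkey m (Cfsg.Agent.Lead.PF8.le_set_normalizer_of_conj_mem hinv hm)
    obtain ⟨a, haX, haσ⟩ := hne
    have hYσ : Y ≤ Cfsg.sigmaCore M := by
      rw [hY, Subgroup.closure_le]; exact Set.inter_subset_right
    have hY1 : Y ≠ ⊥ := by
      intro h
      have : a ∈ Y := by rw [hY]; exact Subgroup.subset_closure ⟨haX, haσ⟩
      rw [h, Subgroup.mem_bot] at this
      exact bigD_ne_one (hXD haX) this
    have hYtop : Y ≠ ⊤ := fun h => hM.1 (top_le_iff.mp (h ▸ hYσ.trans hσM))
    rw [← Cfsg.Agent.Helper1.BGU.normalizer_eq_of_coatom hG hM hMN hY1 hYtop]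
    apply Subgroup.mem_normalizer_fintype
    exact hkey g hg
  · refine ⟨fun h => bigD_ne_one (hXD h) rfl, fun a ha => bigD_subset (hXD ha), hinv,
      fun a ha g hga => bigD_fusion hG hM hKU (hXD ha) (hXD hga),
      fun a _ => supportR_le_centralizer M a,
      fun a _ c hc u hu => supportR_conj_mem M hc hu, ?_, ?_,
      fun a ha b hb => bigD_coprime hG hM hKU (hXD ha) (hXD hb)⟩
    · intro a ha
      by_cases haσ : a ∈ Cfsg.sigmaCore M
      · obtain ⟨-, hRM⟩ := Cfsg.Agent.Helper2.BG144.supportR_structure hG hM haσ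
          (bigD_ne_one (hXD ha))
        apply le_bot_iff.mp
        rw [← hRM]
        exact inf_le_inf_left _ inf_le_left
      · rw [Cfsg.Agent.Helper2.BG144.supportR_eq_bot_of_le
          (bigD_cent_le hG hM hKU (hXD ha) haσ), bot_inf_eq]
    · intro a ha
      by_cases haσ : a ∈ Cfsg.sigmaCore M
      · obtain ⟨hcompl, -⟩ := Cfsg.Agent.Helper2.BG144.supportR_structure hG hM haσ
          (bigD_ne_one (hXD ha))
        apply le_antisymm (sup_le hcompl.2.1 inf_le_right)
        intro c hc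
        obtain ⟨x, hx, r, hr, hcxr⟩ := hcompl.2.2.2 c hc
        rw [hcxr]
        exact Subgroup.mul_mem _ (Subgroup.mem_sup_right hx) (Subgroup.mem_sup_left hr)
      · have hle := bigD_cent_le hG hM hKU (hXD ha) haσ
        rw [Cfsg.Agent.Helper2.BG144.supportR_eq_bot_of_le hle, bot_sup_eq]
        exact inf_eq_right.mpr hle

end Cfsg.Agent.Helper1.PF8
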