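import Mathlib
import Cfsg.Prelude.Def_Characters
import Cfsg.Prelude.Def_Blocks
import Cfsg.Agent.Helper6.PrincipalPrimePow
import Cfsg.Agent.Helper6.WeakOrth
import Cfsg.Agent.Helper6.PowCongr
import Cfsg.Agent.Helper6.DefectZeroBlock

/-!
# Simple groups of order `p^a q^b r`: the Sylow `r`-subgroup is self-centralizing

Brauer's argument: if `x` of prime order `l ∈ {p, q}` commutes with `s` of order `r`, weak block
orthogonality in the principal `l`-block at `g = s x` produces a non-principal character of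
`l`-power degree in the principal `l`-block, contradicting the Brauer--Tuan lemma.
-/

set_option autoImplicit false
set_option linter.style.haveILetI false

namespace Cfsg.Agent.Helper1.PQRBlock

open scoped ComplexConjugate
open Cfsg.Agent.Helper6

universe u

variable {G : Type u} [Group G]

theorem isIntegral_conj {z : ℂ} (hz : IsIntegral ℤ z) : IsIntegral ℤ (conj z) := by
  refine IsIntegral.map_of_comp_eq (RingHom.id ℤ) (starRingEnd ℂ) ?_ hz
  ext
  simp

theorem key [Finite G] [IsSimpleGroup G] (l l' r a b : ℕ) (hl : l.Prime) (hl' : l'.Prime)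
    (hr : r.Prime) (hll' : l ≠ l') (hlr : l ≠ r) (hl'r : l' ≠ r)
    (hcard : Nat.card G = l ^ a * l' ^ b * r) (s x : G) (hs : orderOf s = r)
    (hx : orderOf x = l) (hc : Commute s x) : False := by
  classical
  haveI := Fintype.ofFinite G
  haveI : Finite (Cfsg.IrrCharacter G) := irr_finite
  haveI : Fintype (Cfsg.IrrCharacter G) := Fintype.ofFinite _
  haveI : Fact l.Prime := ⟨hl⟩
  haveI : Fact r.Prime := ⟨hr⟩
  -- the group is not abelian
  have hna : ∃ a b : G, a * b ≠ b * a := by
    by_contra hcon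
    push Not at hcon
    let inst : CommGroup G := { ‹Group G› with mul_comm := hcon }
    have hprime : (Nat.card G).Prime := @IsSimpleGroup.prime_card G inst _
    have h1 : r ∣ Nat.card G := hs ▸ orderOf_dvd_natCard s
    have h2 : l ∣ Nat.card G := hx ▸ orderOf_dvd_natCard x
    have e1 := (Nat.prime_dvd_prime_iff_eq hr hprime).mp h1
    have e2 := (Nat.prime_dvd_prime_iff_eq hl hprime).mp h2
    exact hlr (e2.trans e1.symm)
  obtain ⟨M, -, hMmax, hMmem⟩ := exists_isPModular l hl
  obtain ⟨Mr, -, hMrmax, hMrmem⟩ := exists_isPModular r hr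
  set g := s * x with hg
  have hcop : Nat.Coprime (orderOf s) (orderOf x) := by
    rw [hs, hx]
    exact (Nat.coprime_primes hr hl).mpr (Ne.symm hlr)
  have hog : orderOf g = r * l := by
    rw [hg, hc.orderOf_mul_eq_mul_orderOf_of_coprime hcop, hs, hx]
  have h1reg : ¬ l ∣ orderOf (1 : G) := by
    rw [orderOf_one]
    intro h
    exact hl.one_lt.ne' (Nat.dvd_one.mp h)
  have hgsing : l ∣ orderOf g := by rw [hog]; exact dvd_mul_left _ _
  have hgsing_r : r ∣ orderOf g := by rw [hog]; exact dvd_mul_right _ _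
  have hwbo := weak_block_orthogonality hMmax l hMmem (Cfsg.principalBlock M G)
    (isPBlock_principalBlock G) 1 g h1reg hgsing
  rw [finsum_mem_eq_finite_toFinset_sum _ (Set.toFinite (Cfsg.principalBlock M G))] at hwbo
  set T := (Set.toFinite (Cfsg.principalBlock M G)).toFinset with hT
  have htriv : trivIrr G ∈ T := by
    rw [hT, Set.Finite.mem_toFinset]
    exact trivIrr_mem_principalBlock hMmax
  -- existence of the good character
  have hex : ∃ χ : Cfsg.IrrCharacter G, χ ∈ Cfsg.principalBlock M G ∧ χ ≠ trivIrr G ∧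
      ¬ l' ∣ Cfsg.charDegree (χ : G → ℂ) ∧ (χ : G → ℂ) g ≠ 0 := by
    by_contra hcon
    push Not at hcon
    have hterm : ∀ χ ∈ T.erase (trivIrr G), ∃ β : ℂ, IsIntegral ℤ β ∧
        (χ : G → ℂ) 1 * conj ((χ : G → ℂ) g) = (l' : ℂ) * β := by
      intro χ hχ
      rw [Finset.mem_erase, hT, Set.Finite.mem_toFinset] at hχ
      obtain ⟨K, -, -, -, hdeg, -⟩ := exists_kernel_data χ.2
      have hint : IsIntegral ℤ ((χ : G → ℂ) g) :=
        IsCharacter.isIntegral_value (IsIrrCharacter.isCharacter χ.2) g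
      by_cases hd : l' ∣ Cfsg.charDegree (χ : G → ℂ)
      · obtain ⟨m, hm⟩ := hd
        refine ⟨(m : ℂ) * conj ((χ : G → ℂ) g), ?_, ?_⟩
        · apply IsIntegral.mul
          · exact isIntegral_algebraMap (R := ℤ) (A := ℂ) (x := (m : ℤ))
          · exact isIntegral_conj hint
        · rw [hdeg, hm]
          push_cast
          ring
      · have h0 := hcon χ hχ.2 hχ.1 hd
        refine ⟨0, isIntegral_zero, ?_⟩
        rw [h0, map_zero, mul_zero, mul_zero]
    choose! β hβint hβeq using hterm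
    rw [← Finset.add_sum_erase T _ htriv] at hwbo
    have h1 : ((trivIrr G : Cfsg.IrrCharacter G) : G → ℂ) 1 *
        conj (((trivIrr G : Cfsg.IrrCharacter G) : G → ℂ) g) = 1 := by
      unfold trivIrr
      simp
    rw [h1, Finset.sum_congr rfl hβeq, ← Finset.mul_sum] at hwbo
    have hint : IsIntegral ℤ (-∑ χ ∈ T.erase (trivIrr G), β χ) :=
      (IsIntegral.sum _ (fun χ hχ => hβint χ hχ)).neg
    have h2 : ((1 : ℕ) : ℂ) = (l' : ℂ) * (-∑ χ ∈ T.erase (trivIrr G), β χ) := by
      push_cast
      linear_combination hwbo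
    have := nat_dvd_of_isIntegral 1 l' hl'.ne_zero _ hint h2
    exact hl'.one_lt.ne' (Nat.dvd_one.mp this)
  obtain ⟨χ, hχB, hχ1, hχl', hχg⟩ := hex
  obtain ⟨K, -, -, hdpos, hdeg, -⟩ := exists_kernel_data χ.2
  have hdvd := charDegree_dvd_card χ.2
  set d := Cfsg.charDegree (χ : G → ℂ) with hd
  -- `r` does not divide the degree
  have hrd : ¬ r ∣ d := by
    intro hrd
    have hnd : ¬ r ∣ Nat.card G / d := by
      intro h
      have h3 : d * r ∣ Nat.card G := Nat.mul_dvd_of_dvd_div hdvd h
      have h4 : r * r ∣ l ^ a * l' ^ b * r := by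
        rw [← hcard]
        exact (mul_dvd_mul_right hrd r).trans h3
      have h5 : r ∣ l ^ a * l' ^ b := by
        have := Nat.dvd_of_mul_dvd_mul_right hr.pos h4
        exact this
      rcases (Nat.Prime.dvd_mul hr).mp h5 with h6 | h6
      · exact hlr ((Nat.prime_dvd_prime_iff_eq hr hl).mp (hr.dvd_of_dvd_pow h6)).symm
      · exact hl'r ((Nat.prime_dvd_prime_iff_eq hr hl').mp (hr.dvd_of_dvd_pow h6)).symm
    have hsing := blockOf_eq_singleton_of_not_dvd hMrmax r hr hMrmem χ hnd
    exact hχg (vanish_of_blockOf_eq_singleton hMrmax r hMrmem χ hsing g hgsing_r)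
  have hd1 : d ∣ l ^ a := by
    have h1 : d ∣ l ^ a * l' ^ b * r := hcard ▸ hdvd
    have h2 : d ∣ l ^ a * l' ^ b :=
      Nat.Coprime.dvd_of_dvd_mul_right ((Nat.Prime.coprime_iff_not_dvd hr).mpr hrd).symm h1
    exact Nat.Coprime.dvd_of_dvd_mul_right
      (Nat.Coprime.pow_right b ((Nat.Prime.coprime_iff_not_dvd hl').mpr hχl').symm) h2
  obtain ⟨k, -, hk⟩ := (Nat.dvd_prime_pow hl).mp hd1
  have hdegk : (χ : G → ℂ) 1 = (l : ℂ) ^ k := by
    rw [hdeg, hk]
    push_cast
    rfl
  have htr := principal_prime_pow_degree hMmax l hMmem hna χ hχB k hdegk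
  apply hχ1
  apply Subtype.ext
  rw [htr]
  rfl

end Cfsg.Agent.Helper1.PQRBlock
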