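import Mathlib
import Cfsg.Prelude.Def_Local
import Cfsg.Prelude.Def_Transfer
import Cfsg.Prelude.Def_CaseTheorems
import Cfsg.Agent.Helper2.GenHyper
import Cfsg.Agent.Helper3.HHAbA
import Cfsg.Agent.Helper5.PPrimeCore

set_option autoImplicit false

/-!
A hyperplane lemma for an elementary abelian `p`-subgroup of a `p`-soluble group with
`O_p = 1`: the quotient-level step of the `⟨A, A^x⟩`-lemma.
-/

namespace Cfsg.Agent.Helper1.PSolvL

variable {N : Type*} [Group N] [Finite N]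

omit [Finite N] in
/-- If `a` commutes with `c = y a y⁻¹ a⁻¹`, then `a^k y a^{-k} = c^{-k} y`. -/
theorem conj_pow_of_comm (a y : N) (hc : a * (y * a * y⁻¹ * a⁻¹) = (y * a * y⁻¹ * a⁻¹) * a) (k : ℕ) :
    a ^ k * y * (a ^ k)⁻¹ = ((y * a * y⁻¹ * a⁻¹) ^ k)⁻¹ * y := by
  set c := y * a * y⁻¹ * a⁻¹ with hcdef
  have h1 : a * y * a⁻¹ = c⁻¹ * y := by
    rw [hcdef]; group
  clear_value c
  have hcinv : a * c⁻¹ = c⁻¹ * a := by
    have : c⁻¹ * (a * c) * c⁻¹ = c⁻¹ * (c * a) * c⁻¹ := by rw [hc]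
    have h2 : c⁻¹ * (a * c) * c⁻¹ = c⁻¹ * a := by group
    have h3 : c⁻¹ * (c * a) * c⁻¹ = a * c⁻¹ := by group
    rw [h2, h3] at this
    exact this.symm
  have hcpow : ∀ k : ℕ, a * (c ^ k)⁻¹ = (c ^ k)⁻¹ * a := by
    intro k
    induction k with
    | zero => simp
    | succ k ih =>
      rw [pow_succ, mul_inv_rev, ← mul_assoc, hcinv, mul_assoc, ih, ← mul_assoc]
  induction k with
  | zero => simp
  | succ k ih =>
    have e1 : a ^ (k + 1) * y * (a ^ (k + 1))⁻¹ = a * (a ^ k * y * (a ^ k)⁻¹) * a⁻¹ := by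
      rw [pow_succ']; group
    rw [e1, ih]
    calc a * ((c ^ k)⁻¹ * y) * a⁻¹ = (a * (c ^ k)⁻¹) * y * a⁻¹ := by group
      _ = ((c ^ k)⁻¹ * a) * y * a⁻¹ := by rw [hcpow k]
      _ = (c ^ k)⁻¹ * (a * y * a⁻¹) := by group
      _ = (c ^ k)⁻¹ * (c⁻¹ * y) := by rw [h1]
      _ = ((c ^ k)⁻¹ * c⁻¹) * y := by group
      _ = (c ^ (k + 1))⁻¹ * y := by rw [pow_succ', mul_inv_rev]

theorem exists_hyperplane_elt {p : ℕ} [hp : Fact p.Prime]
    (hN : Cfsg.IsPSolvable p N) (hO : Cfsg.pCore p N = ⊥) (A : Subgroup N)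
    (hAel : Cfsg.IsElementaryAbelian p A) (hA1 : A ≠ ⊥) :
    ∃ (B : Subgroup N) (x : N), B ≤ A ∧ B.relIndex A = p ∧ x ∈ Cfsg.pPrimeCore p N ∧
      (∀ b ∈ B, b * x = x * b) ∧ x ∈ A ⊔ A.map (MulAut.conj x).toMonoidHom ∧
      (∀ a ∈ A, a * x = x * a → a ∈ B) := by
  classical
  set K := Cfsg.pPrimeCore p N with hK
  have hKc : (Nat.card K).Coprime p := Cfsg.Agent.Helper5.coprime_card_pPrimeCore p
  have hCK : Subgroup.centralizer (K : Set N) ≤ K :=
    Cfsg.Agent.Helper3.HHAb.centralizer_pPrimeCore_le hN hO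
  have hAp : IsPGroup p A := Cfsg.Agent.Helper2.isPGroup_of_elementary hAel
  have hcomm : ∀ x ∈ A, ∀ y ∈ A, x * y = y * x := by
    intro x hx y hy
    have := hAel.1.is_comm.comm ⟨x, hx⟩ ⟨y, hy⟩
    exact congrArg Subtype.val this
  have hpow : ∀ a ∈ A, a ^ p = 1 := hAel.2
  -- `A` acts faithfully on `K`
  have hfaith : ¬ K ≤ Subgroup.centralizer (A : Set N) := by
    intro h
    have h1 : A ≤ Subgroup.centralizer (K : Set N) := by
      rw [Subgroup.le_centralizer_iff]; exact h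
    have h2 : A ≤ K := h1.trans hCK
    apply hA1
    obtain ⟨k, hk⟩ := IsPGroup.iff_card.mp hAp
    have hdvd : Nat.card A ∣ Nat.card K := Subgroup.card_dvd_of_le h2
    have hcop : (Nat.card A).Coprime p := Nat.Coprime.coprime_dvd_left hdvd hKc
    rw [hk] at hcop
    have hk0 : k = 0 := by
      by_contra hk0
      have : p ∣ p ^ k := dvd_pow_self p hk0
      have h3 := Nat.Coprime.eq_one_of_dvd hcop.symm this
      exact hp.out.one_lt.ne' h3
    rw [hk0, pow_zero] at hk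
    exact Subgroup.card_eq_one.mp hk
  have hnd : ¬ p ∣ Nat.card K := fun h => by
    have := Nat.Coprime.eq_one_of_dvd hKc.symm h
    exact hp.out.one_lt.ne' this
  have hAK : A ≤ Subgroup.normalizer (K : Set N) := by
    rw [Subgroup.normalizer_eq_top]; exact le_top
  have hgen := Cfsg.Agent.Helper2.le_iSup_hyperplane_centralizers p (Nat.card A) A K rfl hAel hnd hAK
  obtain ⟨⟨B, hBA, hBidx⟩, hBnot⟩ : ∃ B : {B : Subgroup N // B ≤ A ∧ B.relIndex A ≤ p},
      ¬ K ⊓ Subgroup.centralizer ((B : Subgroup N) : Set N) ≤ Subgroup.centralizer (A : Set N) := by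
    by_contra h
    push Not at h
    exact hfaith (hgen.trans (iSup_le h))
  simp only at hBnot
  -- the index of `B` is exactly `p`
  have hBne : ¬ A ≤ B := by
    intro h
    apply hBnot
    exact inf_le_right.trans (Subgroup.centralizer_le h)
  have hBp : B.relIndex A = p := by
    obtain ⟨k, hk⟩ := IsPGroup.iff_card.mp hAp
    have hdvd : B.relIndex A ∣ p ^ k := hk ▸ Subgroup.relIndex_dvd_card B A
    obtain ⟨j, -, hj⟩ := (Nat.dvd_prime_pow hp.out).mp hdvd
    have hne1 : B.relIndex A ≠ 1 := by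
      intro h; exact hBne (Subgroup.relIndex_eq_one.mp h)
    rw [hj] at hBidx hne1 ⊢
    have hj0 : j ≠ 0 := by rintro rfl; exact hne1 (pow_zero p)
    have hj1 : j ≤ 1 := by
      by_contra hj1
      push Not at hj1
      have : p ^ 2 ≤ p ^ j := Nat.pow_le_pow_right hp.out.pos hj1
      have h2 : p < p ^ 2 := by
        have := hp.out.one_lt
        nlinarith
      omega
    have : j = 1 := by omega
    rw [this, pow_one]
  -- an element `a ∈ A` acting nontrivially on `Q = K ⊓ C(B)`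
  set Q := K ⊓ Subgroup.centralizer ((B : Subgroup N) : Set N) with hQ
  obtain ⟨q, hqQ, hqA⟩ := SetLike.not_le_iff_exists.mp hBnot
  rw [Subgroup.mem_centralizer_iff] at hqA
  push Not at hqA
  obtain ⟨a, haA, haq⟩ := hqA
  have haA' : a ∈ A := haA
  -- `a` normalizes `Q`
  have haQ : ∀ y ∈ Q, a * y * a⁻¹ ∈ Q := by
    intro y hy
    have hy' := Subgroup.mem_inf.mp hy
    refine Subgroup.mem_inf.mpr ⟨?_, ?_⟩
    · exact (inferInstance : K.Normal).conj_mem y hy'.1 a
    · rw [Subgroup.mem_centralizer_iff]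
      intro b hb
      have hyb := (Subgroup.mem_centralizer_iff.mp hy'.2) b hb
      have hab : a * b = b * a := hcomm a haA' b (hBA hb)
      have hab' : a⁻¹ * b = b * a⁻¹ := by
        have : a⁻¹ * (a * b) * a⁻¹ = a⁻¹ * (b * a) * a⁻¹ := by rw [hab]
        have h1 : a⁻¹ * (a * b) * a⁻¹ = b * a⁻¹ := by group
        have h2 : a⁻¹ * (b * a) * a⁻¹ = a⁻¹ * b := by group
        rw [h1, h2] at this
        exact this.symm
      calc b * (a * y * a⁻¹) = (b * a) * y * a⁻¹ := by group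
        _ = (a * b) * y * a⁻¹ := by rw [hab]
        _ = a * (b * y) * a⁻¹ := by group
        _ = a * (y * b) * a⁻¹ := by rw [hyb]
        _ = a * y * (b * a⁻¹) := by group
        _ = a * y * (a⁻¹ * b) := by rw [hab']
        _ = a * y * a⁻¹ * b := by group
  -- minimal `a`-invariant subgroup of `Q` not centralized by `a`
  let 𝒳 : Set (Subgroup N) := {X | X ≤ Q ∧ (∀ y ∈ X, a * y * a⁻¹ ∈ X) ∧
    ¬ X ≤ Subgroup.centralizer ({a} : Set N)}
  have hQ𝒳 : Q ∈ 𝒳 := by
    refine ⟨le_rfl, haQ, ?_⟩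
    intro h
    have := h hqQ
    rw [Subgroup.mem_centralizer_iff] at this
    exact haq (this a (Set.mem_singleton a))
  obtain ⟨X, hXmin⟩ := (Set.toFinite 𝒳).exists_minimal ⟨Q, hQ𝒳⟩
  obtain ⟨hXQ, hXa, hXnc⟩ := hXmin.prop
  -- an element `y ∈ X` with `[y, a]` not centralized by `a`
  have hXK : ∀ y ∈ X, y ∈ K := fun y hy => (hXQ hy).1
  have hcmem : ∀ y ∈ X, y * a * y⁻¹ * a⁻¹ ∈ X := by
    intro y hy
    have h1 : a * y⁻¹ * a⁻¹ ∈ X := hXa y⁻¹ (X.inv_mem hy)
    have : y * a * y⁻¹ * a⁻¹ = y * (a * y⁻¹ * a⁻¹) := by group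
    rw [this]
    exact X.mul_mem hy h1
  obtain ⟨y, hyX, hyc⟩ : ∃ y ∈ X, ¬ a * (y * a * y⁻¹ * a⁻¹) = (y * a * y⁻¹ * a⁻¹) * a := by
    by_contra h
    push Not at h
    apply hXnc
    intro y hy
    rw [Subgroup.mem_centralizer_iff]
    intro a' ha'
    rw [Set.mem_singleton_iff] at ha'
    subst ha'
    have hc := h y hy
    have h1 := conj_pow_of_comm a' y hc p
    rw [hpow a' haA', one_mul, inv_one, mul_one] at h1
    -- `c ^ p = 1`
    set c := y * a' * y⁻¹ * a'⁻¹ with hcdef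
    have hcp : c ^ p = 1 := by
      have : (c ^ p)⁻¹ = 1 := by
        have h2 : (c ^ p)⁻¹ * y = 1 * y := by rw [one_mul]; exact h1.symm
        exact mul_right_cancel h2
      rwa [inv_eq_one] at this
    have hcK : c ∈ K := hXK c (hcmem y hy)
    have hco : orderOf c ∣ Nat.card K := by
      have := Subgroup.orderOf_dvd_natCard K hcK
      exact this
    have hco2 : orderOf c ∣ p := orderOf_dvd_of_pow_eq_one hcp
    have hc1 : orderOf c = 1 := by
      have h3 : orderOf c ∣ Nat.gcd (Nat.card K) p := Nat.dvd_gcd hco hco2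
      rw [hKc] at h3
      exact Nat.dvd_one.mp h3
    have hc1' : c = 1 := orderOf_eq_one_iff.mp hc1
    have : y * a' * y⁻¹ * a'⁻¹ = 1 := hc1'
    have h4 : y * a' = a' * y := by
      have h5 : y * a' * y⁻¹ * a'⁻¹ * (a' * y) = 1 * (a' * y) := by rw [this]
      have h6 : y * a' * y⁻¹ * a'⁻¹ * (a' * y) = y * a' := by group
      rw [h6, one_mul] at h5
      exact h5
    exact h4.symm
  -- `X ⊓ ⟨A, A^y⟩ = X`
  set L := A ⊔ A.map (MulAut.conj y).toMonoidHom with hL
  have haL : a ∈ L := (le_sup_left : A ≤ L) haA'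
  have hyaL : y * a * y⁻¹ ∈ L := by
    apply (le_sup_right : A.map (MulAut.conj y).toMonoidHom ≤ L)
    exact ⟨a, haA', by simp [MulAut.conj_apply]⟩
  have hcL : y * a * y⁻¹ * a⁻¹ ∈ L := L.mul_mem hyaL (L.inv_mem haL)
  have hX' : X ⊓ L ∈ 𝒳 := by
    refine ⟨inf_le_left.trans hXQ, ?_, ?_⟩
    · intro z hz
      exact ⟨hXa z hz.1, L.mul_mem (L.mul_mem haL hz.2) (L.inv_mem haL)⟩
    · intro h
      have h1 : y * a * y⁻¹ * a⁻¹ ∈ X ⊓ L := ⟨hcmem y hyX, hcL⟩
      have h2 := h h1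
      rw [Subgroup.mem_centralizer_iff] at h2
      exact hyc (h2 a (Set.mem_singleton a))
  have hXL : X ≤ X ⊓ L := hXmin.le_of_le hX' inf_le_left
  have hyL : y ∈ L := (hXL hyX).2
  have hyQ : y ∈ Q := hXQ hyX
  have hya : ¬ a * y = y * a := by
    intro h
    apply hyc
    have : y * a * y⁻¹ * a⁻¹ = 1 := by rw [← h]; group
    rw [this, one_mul, mul_one]
  refine ⟨B, y, hBA, hBp, hyQ.1, ?_, hyL, ?_⟩
  · intro b hb
    exact (Subgroup.mem_centralizer_iff.mp hyQ.2) b hb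
  · -- `C_A(y) = B`
    intro a' ha' hcomm'
    set C := A ⊓ Subgroup.centralizer ({y} : Set N) with hC
    have hBC : B ≤ C := by
      intro b hb
      refine Subgroup.mem_inf.mpr ⟨hBA hb, ?_⟩
      rw [Subgroup.mem_centralizer_iff]
      intro z hz
      rw [Set.mem_singleton_iff] at hz
      subst hz
      exact ((Subgroup.mem_centralizer_iff.mp hyQ.2) b hb).symm
    have hCA : C ≤ A := inf_le_left
    have hmul := Subgroup.relIndex_mul_relIndex B C A hBC hCA
    rw [hBp] at hmul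
    have hCne : C.relIndex A ≠ 1 := by
      intro h
      have h1 : A ≤ C := Subgroup.relIndex_eq_one.mp h
      have h2 := (Subgroup.mem_inf.mp (h1 haA')).2
      rw [Subgroup.mem_centralizer_iff] at h2
      exact hya (h2 y (Set.mem_singleton y)).symm
    have hdvd : C.relIndex A ∣ p := Dvd.intro_left _ hmul
    have hCp : C.relIndex A = p := by
      rcases (Nat.dvd_prime hp.out).mp hdvd with h | h
      · exact absurd h hCne
      · exact h
    rw [hCp] at hmul
    have hB1 : B.relIndex C = 1 := by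
      have hp0 : 0 < p := hp.out.pos
      have : B.relIndex C * p = 1 * p := by rw [hmul, one_mul]
      exact Nat.eq_of_mul_eq_mul_right hp0 this
    have hCB : C ≤ B := Subgroup.relIndex_eq_one.mp hB1
    apply hCB
    refine Subgroup.mem_inf.mpr ⟨ha', ?_⟩
    rw [Subgroup.mem_centralizer_iff]
    intro z hz
    rw [Set.mem_singleton_iff] at hz
    subst hz
    exact hcomm'.symm

end Cfsg.Agent.Helper1.PSolvL
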