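import Mathlib
import Cfsg.Prelude.Def_Local
import Cfsg.Prelude.Def_Transfer
import Cfsg.Prelude.Def_CaseTheorems
import Cfsg.Agent.Helper1.PSolvLa
import Cfsg.Agent.Helper1.PGroup
import Cfsg.Agent.Helper4.PSolvable
import Cfsg.Agent.Helper5.PResidual
import Cfsg.Agent.Helper5.PIrreducible
import Cfsg.Agent.Helper5.CharP2

set_option autoImplicit false

/-!
The `⟨A, A^x⟩`-lemma for `p`-soluble groups: lifting step and conclusions.
-/

namespace Cfsg.Agent.Helper1.PSolvL

variable {M : Type*} [Group M]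

theorem map_conj_map {Q : Type*} [Group Q] (π : M →* Q) (A : Subgroup M) (x : M) :
    (A.map (MulAut.conj x).toMonoidHom).map π =
      (A.map π).map (MulAut.conj (π x)).toMonoidHom := by
  ext z
  constructor
  · rintro ⟨_, ⟨a, ha, rfl⟩, rfl⟩
    exact ⟨π a, ⟨a, ha, rfl⟩, by simp [MulAut.conj_apply]⟩
  · rintro ⟨_, ⟨a, ha, rfl⟩, rfl⟩
    exact ⟨x * a * x⁻¹, ⟨a, ha, by simp [MulAut.conj_apply]⟩, by simp [MulAut.conj_apply]⟩

theorem conj_map_le_of_mem (A L : Subgroup M) (x : M) (hA : A ≤ L) (hx : x ∈ L) :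
    A.map (MulAut.conj x).toMonoidHom ≤ L := by
  rintro _ ⟨a, ha, rfl⟩
  simp only [MulEquiv.coe_toMonoidHom, MulAut.conj_apply]
  exact L.mul_mem (L.mul_mem hx (hA ha)) (L.inv_mem hx)

/-- The lifting step. -/
theorem exists_lift [Finite M] {Q : Type*} [Group Q] {p : ℕ} [hp : Fact p.Prime] (π : M →* Q)
    (hπ : Function.Surjective π) (A : Subgroup M) (xb : Q)
    (hxb : xb ∈ (A.map π) ⊔ (A.map π).map (MulAut.conj xb).toMonoidHom)
    (hcop : (orderOf xb).Coprime p) :
    ∃ x : M, π x = xb ∧ x ∈ A ⊔ A.map (MulAut.conj x).toMonoidHom ∧ (orderOf x).Coprime p := by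
  classical
  let 𝒮 : Set M := {x | π x = xb}
  have h𝒮 : 𝒮.Nonempty := by obtain ⟨x, hx⟩ := hπ xb; exact ⟨x, hx⟩
  obtain ⟨x, hx𝒮, hxmin⟩ := Set.exists_min_image 𝒮
    (fun x => Nat.card ↥(A ⊔ A.map (MulAut.conj x).toMonoidHom)) (Set.toFinite _) h𝒮
  have hx : π x = xb := hx𝒮
  set L := A ⊔ A.map (MulAut.conj x).toMonoidHom with hL
  have hLmap : L.map π = (A.map π) ⊔ (A.map π).map (MulAut.conj xb).toMonoidHom := by
    rw [hL, Subgroup.map_sup, map_conj_map, hx]
  have hxbL : xb ∈ L.map π := by rw [hLmap]; exact hxb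
  obtain ⟨y, hyL, hyx⟩ := hxbL
  -- the `p'`-part of `y`
  set n := orderOf y with hn
  have hn0 : n ≠ 0 := (orderOf_pos y).ne'
  set k := n.factorization p with hk
  set m := n / p ^ k with hm
  have hnm : p ^ k * m = n := Nat.ordProj_mul_ordCompl_eq_self n p
  have hmcop : Nat.Coprime p m := Nat.coprime_ordCompl hp.out hn0
  set nb := orderOf xb with hnb
  have hnb0 : 0 < nb := by
    have : IsOfFinOrder xb := by
      obtain ⟨z, rfl⟩ := hπ xb
      exact MonoidHom.isOfFinOrder π (isOfFinOrder_of_finite z)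
    exact this.orderOf_pos
  set e := (p ^ k) ^ Nat.totient nb with he
  have hφ : 0 < Nat.totient nb := Nat.totient_pos.mpr hnb0
  have he1 : e ≡ 1 [MOD nb] := by
    have : Nat.Coprime (p ^ k) nb := (Nat.Coprime.pow_right k hcop).symm
    exact Nat.ModEq.pow_totient this
  have hdvd : p ^ k ∣ e := by
    rw [he]
    exact dvd_pow_self _ hφ.ne'
  set x' := y ^ e with hx'
  have hx'L : x' ∈ L := L.pow_mem hyL e
  have hx'π : π x' = xb := by
    rw [hx', map_pow, hyx]
    have : xb ^ e = xb ^ 1 := (pow_eq_pow_iff_modEq).mpr he1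
    rw [this, pow_one]
  have hx'o : (orderOf x').Coprime p := by
    have h1 : x' ^ m = 1 := by
      obtain ⟨t, ht⟩ := hdvd
      rw [hx', ← pow_mul, ht]
      have : p ^ k * t * m = n * t := by rw [← hnm]; ring
      rw [this, pow_mul, hn, pow_orderOf_eq_one, one_pow]
    have h2 : orderOf x' ∣ m := orderOf_dvd_of_pow_eq_one h1
    exact (Nat.Coprime.coprime_dvd_right h2 hmcop).symm
  have hle : A ⊔ A.map (MulAut.conj x').toMonoidHom ≤ L :=
    sup_le le_sup_left (conj_map_le_of_mem A L x' le_sup_left hx'L)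
  have hcard := hxmin x' hx'π
  have heq : A ⊔ A.map (MulAut.conj x').toMonoidHom = L :=
    Subgroup.eq_of_le_of_card_ge hle hcard
  exact ⟨x', hx'π, heq ▸ hx'L, hx'o⟩

end Cfsg.Agent.Helper1.PSolvL
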