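import Mathlib
import Cfsg.Prelude.Def_Local
import Cfsg.Prelude.Def_Transfer
import Cfsg.Prelude.Def_CaseTheorems
import Cfsg.Agent.Helper1.PSolvLb

set_option autoImplicit false

/-!
The `⟨A, A^x⟩`-lemma for `p`-soluble groups (main statement).
-/

namespace Cfsg.Agent.Helper1.PSolvL

open scoped commutatorElement

variable {M : Type*} [Group M] [Finite M]

theorem main {p : ℕ} [hp : Fact p.Prime] (hM : Cfsg.IsPSolvable p M) (A : Subgroup M)
    (hA : IsPGroup p A) (hΦ : (frattini ↥A).map A.subtype ≤ Cfsg.pCore p M)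
    (hnot : ¬ A ≤ Cfsg.pCore p M) :
    ∃ x ∈ (Cfsg.pPrimeCore p (M ⧸ Cfsg.pCore p M)).comap (QuotientGroup.mk' (Cfsg.pCore p M)),
      x ∈ (Cfsg.pResidual p ↥(A ⊔ A.map (MulAut.conj x).toMonoidHom)).map
        (A ⊔ A.map (MulAut.conj x).toMonoidHom).subtype ∧
      (Cfsg.pResidual p ↥(A ⊔ A.map (MulAut.conj x).toMonoidHom)).map
        (A ⊔ A.map (MulAut.conj x).toMonoidHom).subtype ≤
        (Cfsg.pPrimeCore p (M ⧸ Cfsg.pCore p M)).comap (QuotientGroup.mk' (Cfsg.pCore p M)) ∧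
      ⁅(Cfsg.pResidual p ↥(A ⊔ A.map (MulAut.conj x).toMonoidHom)).map
        (A ⊔ A.map (MulAut.conj x).toMonoidHom).subtype, A⁆ =
        (Cfsg.pResidual p ↥(A ⊔ A.map (MulAut.conj x).toMonoidHom)).map
          (A ⊔ A.map (MulAut.conj x).toMonoidHom).subtype ∧
      (A ⊓ (Cfsg.pCore p ↥(A ⊔ A.map (MulAut.conj x).toMonoidHom)).map
        (A ⊔ A.map (MulAut.conj x).toMonoidHom).subtype).relIndex A = p ∧
      ⁅A ⊓ (Cfsg.pCore p ↥(A ⊔ A.map (MulAut.conj x).toMonoidHom)).map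
        (A ⊔ A.map (MulAut.conj x).toMonoidHom).subtype,
        A ⊔ A.map (MulAut.conj x).toMonoidHom⁆ ≤ Cfsg.pCore p M := by
  classical
  set R := Cfsg.pCore p M with hR
  set π := QuotientGroup.mk' R with hπ
  have hπs : Function.Surjective π := QuotientGroup.mk'_surjective R
  have hker : ∀ g : M, π g = 1 ↔ g ∈ R := fun g => QuotientGroup.eq_one_iff g
  have hRp : IsPGroup p R := Cfsg.Agent.Helper1.pCore_isPGroup p
  set Ab := A.map π with hAb
  set Kb := Cfsg.pPrimeCore p (M ⧸ R) with hKb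
  have hKbc : (Nat.card Kb).Coprime p := Cfsg.Agent.Helper5.coprime_card_pPrimeCore p
  -- `Ab` is elementary abelian
  have hcommA : ∀ a ∈ A, ∀ b ∈ A, π a * π b = π b * π a := by
    intro a ha b hb
    have h1 : a * b * a⁻¹ * b⁻¹ ∈ R := by
      apply hΦ
      refine ⟨⁅(⟨a, ha⟩ : A), ⟨b, hb⟩⁆, ?_, ?_⟩
      · exact Cfsg.Agent.Helper1.IsPGroup.commutator_le_frattini hA
          (Subgroup.commutator_mem_commutator (Subgroup.mem_top _) (Subgroup.mem_top _))
      · simp [commutatorElement_def]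
    have h2 : π (a * b * a⁻¹ * b⁻¹) = 1 := (hker _).mpr h1
    rw [map_mul, map_mul, map_mul, map_inv, map_inv] at h2
    have h3 : π a * π b * (π a)⁻¹ * (π b)⁻¹ * (π b * π a) = 1 * (π b * π a) := by rw [h2]
    have h4 : π a * π b * (π a)⁻¹ * (π b)⁻¹ * (π b * π a) = π a * π b := by group
    rw [h4, one_mul] at h3
    exact h3
  have hpowA : ∀ a ∈ A, π a ^ p = 1 := by
    intro a ha
    rw [← map_pow, hker]
    apply hΦ
    refine ⟨(⟨a, ha⟩ : A) ^ p, Cfsg.Agent.Helper1.IsPGroup.pow_mem_frattini hA _, ?_⟩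
    simp
  have hAbel : Cfsg.IsElementaryAbelian p Ab := by
    refine ⟨⟨⟨?_⟩⟩, ?_⟩
    · rintro ⟨_, a, ha, rfl⟩ ⟨_, b, hb, rfl⟩
      exact Subtype.ext (hcommA a ha b hb)
    · rintro _ ⟨a, ha, rfl⟩
      exact hpowA a ha
  have hAb1 : Ab ≠ ⊥ := by
    intro h
    apply hnot
    intro a ha
    have : π a ∈ Ab := Subgroup.mem_map_of_mem π ha
    rw [h, Subgroup.mem_bot] at this
    exact (hker a).mp this
  have hQsol : Cfsg.IsPSolvable p (M ⧸ R) := Cfsg.Agent.Helper4.isPSolvable_quotient hM R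
  have hQO : Cfsg.pCore p (M ⧸ R) = ⊥ := Cfsg.Agent.Helper3.HHAb.pCore_quotient_pCore p
  obtain ⟨B, xb, hBA, hBp, hxK, hxB, hxL, hxC⟩ := exists_hyperplane_elt hQsol hQO Ab hAbel hAb1
  have hxbo : (orderOf xb).Coprime p :=
    Nat.Coprime.coprime_dvd_left (Subgroup.orderOf_dvd_natCard Kb hxK) hKbc
  obtain ⟨x, hxπ, hxLL, hxo⟩ := exists_lift π hπs A xb hxL hxbo
  have hxK' : x ∈ Kb.comap π := by rw [Subgroup.mem_comap, hxπ]; exact hxK
  refine ⟨x, hxK', ?_⟩
  set L := A ⊔ A.map (MulAut.conj x).toMonoidHom with hL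
  have hAL : A ≤ L := le_sup_left
  have hLmap : L.map π = Ab ⊔ Ab.map (MulAut.conj xb).toMonoidHom := by
    rw [hL, Subgroup.map_sup, map_conj_map, hxπ]
  -- `π(L)` centralizes `B`
  have hLB : ∀ l ∈ L, ∀ b ∈ B, π l * b = b * π l := by
    have h1 : L.map π ≤ Subgroup.centralizer (B : Set (M ⧸ R)) := by
      rw [hLmap]
      apply sup_le
      · rintro _ ⟨a, ha, rfl⟩
        rw [Subgroup.mem_centralizer_iff]
        intro b hb
        obtain ⟨b', hb', rfl⟩ := hBA hb
        exact hcommA b' hb' a ha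
      · rintro _ ⟨_, ⟨a, ha, rfl⟩, rfl⟩
        rw [Subgroup.mem_centralizer_iff]
        intro b hb
        have hbx := hxB b hb
        obtain ⟨b', hb', rfl⟩ := hBA hb
        have hab := hcommA b' hb' a ha
        simp only [MulEquiv.coe_toMonoidHom, MulAut.conj_apply]
        have hbxi : π b' * xb⁻¹ = xb⁻¹ * π b' := by
          have : xb⁻¹ * (π b' * xb) * xb⁻¹ = xb⁻¹ * (xb * π b') * xb⁻¹ := by rw [hbx]
          have e1 : xb⁻¹ * (π b' * xb) * xb⁻¹ = xb⁻¹ * π b' := by group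
          have e2 : xb⁻¹ * (xb * π b') * xb⁻¹ = π b' * xb⁻¹ := by group
          rw [e1, e2] at this
          exact this.symm
        calc π b' * (xb * π a * xb⁻¹) = (π b' * xb) * π a * xb⁻¹ := by group
          _ = (xb * π b') * π a * xb⁻¹ := by rw [hbx]
          _ = xb * (π b' * π a) * xb⁻¹ := by group
          _ = xb * (π a * π b') * xb⁻¹ := by rw [hab]
          _ = xb * π a * (π b' * xb⁻¹) := by group
          _ = xb * π a * (xb⁻¹ * π b') := by rw [hbxi]
          _ = xb * π a * xb⁻¹ * π b' := by group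
    intro l hl b hb
    have := (Subgroup.mem_centralizer_iff.mp (h1 (Subgroup.mem_map_of_mem π hl))) b hb
    exact this.symm
  set Y := (Cfsg.pResidual p ↥L).map L.subtype with hY
  set OL := (Cfsg.pCore p ↥L).map L.subtype with hOL
  have hYL : Y ≤ L := by
    rintro _ ⟨g, -, rfl⟩; exact g.2
  have hOLL : OL ≤ L := by
    rintro _ ⟨g, -, rfl⟩; exact g.2
  have hOLp : IsPGroup p OL := (Cfsg.Agent.Helper1.pCore_isPGroup p).map _
  -- `Y` and `OL` are normalized by `L`
  have hYnorm : ∀ l ∈ L, ∀ y ∈ Y, l * y * l⁻¹ ∈ Y := by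
    rintro l hl _ ⟨g, hg, rfl⟩
    refine ⟨⟨l, hl⟩ * g * ⟨l, hl⟩⁻¹, ?_, by simp⟩
    exact (inferInstance : (Cfsg.pResidual p ↥L).Normal).conj_mem g hg ⟨l, hl⟩
  have hOLnorm : ∀ l ∈ L, ∀ y ∈ OL, l * y * l⁻¹ ∈ OL := by
    rintro l hl _ ⟨g, hg, rfl⟩
    refine ⟨⟨l, hl⟩ * g * ⟨l, hl⟩⁻¹, ?_, by simp⟩
    exact (inferInstance : (Cfsg.pCore p ↥L).Normal).conj_mem g hg ⟨l, hl⟩
  have hxY : x ∈ Y := by
    refine ⟨⟨x, hxLL⟩, ?_, rfl⟩
    apply Cfsg.Agent.Helper5.mem_pResidual_of_coprime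
    rw [Subgroup.orderOf_mk]; exact hxo
  -- conjugates of `A` by `x`
  have hconj : ∀ a ∈ A, x * a * x⁻¹ ∈ L := by
    intro a ha
    apply (le_sup_right : A.map (MulAut.conj x).toMonoidHom ≤ L)
    exact ⟨a, ha, by simp [MulAut.conj_apply]⟩
  -- elements of `A ∩ O_p(L)` map into `B`
  have hsub : ∀ a ∈ A ⊓ OL, π a ∈ B := by
    intro a ha
    have haA : a ∈ A := (Subgroup.mem_inf.mp ha).1
    have haO : a ∈ OL := (Subgroup.mem_inf.mp ha).2
    apply hxC (π a) (Subgroup.mem_map_of_mem π haA)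
    set c := x * a * x⁻¹ * a⁻¹ with hc
    have hcO : c ∈ OL := OL.mul_mem (hOLnorm x hxLL a haO) (OL.inv_mem haO)
    have hcK : π c ∈ Kb := by
      have h1 : π a * xb⁻¹ * (π a)⁻¹ ∈ Kb :=
        (inferInstance : Kb.Normal).conj_mem xb⁻¹ (Kb.inv_mem hxK) (π a)
      have : π c = xb * (π a * xb⁻¹ * (π a)⁻¹) := by
        rw [hc, map_mul, map_mul, map_mul, map_inv, map_inv, hxπ]; group
      rw [this]
      exact Kb.mul_mem hxK h1
    obtain ⟨j, hj⟩ := hOLp ⟨c, hcO⟩
    have hj' : c ^ p ^ j = 1 := by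
      have := congrArg Subtype.val hj
      simpa using this
    have h2 : (π c) ^ p ^ j = 1 := by rw [← map_pow, hj', map_one]
    have h3 : orderOf (π c) ∣ p ^ j := orderOf_dvd_of_pow_eq_one h2
    have h4 : orderOf (π c) ∣ Nat.card Kb := Subgroup.orderOf_dvd_natCard Kb hcK
    have h5 : orderOf (π c) = 1 := by
      have h6 : (Nat.card Kb).Coprime (p ^ j) := Nat.Coprime.pow_right j hKbc
      have h7 : orderOf (π c) ∣ Nat.gcd (Nat.card Kb) (p ^ j) := Nat.dvd_gcd h4 h3
      rw [h6] at h7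
      exact Nat.dvd_one.mp h7
    have h8 : π c = 1 := orderOf_eq_one_iff.mp h5
    rw [hc, map_mul, map_mul, map_mul, map_inv, map_inv, hxπ] at h8
    have h9 : xb * π a * xb⁻¹ * (π a)⁻¹ * (π a * xb) = 1 * (π a * xb) := by rw [h8]
    have h10 : xb * π a * xb⁻¹ * (π a)⁻¹ * (π a * xb) = xb * π a := by group
    rw [h10, one_mul] at h9
    exact h9.symm
  refine ⟨hxY, ?_, ?_, ?_, ?_⟩
  · -- `Y ≤ comap Kb`
    set f₀ : M →* (M ⧸ R) ⧸ Kb := (QuotientGroup.mk' Kb).comp π with hf₀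
    have hf₀x : f₀ x = 1 := by
      rw [hf₀, MonoidHom.comp_apply, hxπ]
      exact (QuotientGroup.eq_one_iff xb).mpr hxK
    have hLf : L.map f₀ ≤ A.map f₀ := by
      rw [hL, Subgroup.map_sup]
      apply sup_le le_rfl
      rintro _ ⟨_, ⟨a, ha, rfl⟩, rfl⟩
      refine ⟨a, ha, ?_⟩
      simp only [MulEquiv.coe_toMonoidHom, MulAut.conj_apply, map_mul, map_inv, hf₀x]
      simp
    have h1 := Cfsg.Agent.Helper5.pResidual_le_ker (f₀.comp L.subtype) (A.map f₀) (hA.map f₀) (by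
      rintro _ ⟨g, -, rfl⟩
      apply hLf
      exact ⟨g.1, g.2, rfl⟩)
    rintro _ ⟨g, hg, rfl⟩
    have h2 := h1 hg
    rw [MonoidHom.mem_ker, MonoidHom.comp_apply, hf₀, MonoidHom.comp_apply] at h2
    rw [Subgroup.mem_comap]
    exact (QuotientGroup.eq_one_iff _).mp h2
  · -- `⁅Y, A⁆ = Y`
    apply le_antisymm
    · rw [Subgroup.commutator_le]
      intro y hy a ha
      have h1 : a * y⁻¹ * a⁻¹ ∈ Y := hYnorm a (hAL ha) y⁻¹ (Y.inv_mem hy)
      have : ⁅y, a⁆ = y * (a * y⁻¹ * a⁻¹) := by rw [commutatorElement_def]; group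
      rw [this]
      exact Y.mul_mem hy h1
    · set Nn := ⁅Y, A⁆ with hNn
      have hNnL : Nn ≤ L := by
        rw [hNn, Subgroup.commutator_le]
        intro y hy a ha
        exact L.mul_mem (L.mul_mem (L.mul_mem (hYL hy) (hAL ha)) (L.inv_mem (hYL hy)))
          (L.inv_mem (hAL ha))
      -- `L ≤ Y ⊔ A`
      have hLYA : L ≤ Y ⊔ A := by
        rw [hL]
        apply sup_le le_sup_right
        rintro _ ⟨a, ha, rfl⟩
        simp only [MulEquiv.coe_toMonoidHom, MulAut.conj_apply]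
        exact (Y ⊔ A).mul_mem ((Y ⊔ A).mul_mem ((le_sup_left : Y ≤ Y ⊔ A) hxY)
          ((le_sup_right : A ≤ Y ⊔ A) ha)) ((Y ⊔ A).inv_mem ((le_sup_left : Y ≤ Y ⊔ A) hxY))
      have hnormN : L ≤ Subgroup.normalizer (Nn : Set M) := by
        refine hLYA.trans (sup_le ?_ ?_)
        · apply Cfsg.Agent.Helper5.le_normalizer_of_conj_mem
          intro r hr k hk
          exact Cfsg.Agent.Helper5.conj_mem_commutator_left Y A r hr k hk
        · apply Cfsg.Agent.Helper5.le_normalizer_of_conj_mem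
          intro r hr k hk
          rw [hNn, Subgroup.commutator_comm] at hk ⊢
          exact Cfsg.Agent.Helper5.conj_mem_commutator_left A Y r hr k hk
      haveI hNnorm : (Nn.subgroupOf L).Normal :=
        (Subgroup.normal_subgroupOf_iff_le_normalizer hNnL).mpr hnormN
      set f := QuotientGroup.mk' (Nn.subgroupOf L) with hf
      set Y' := (A.subgroupOf L).map f with hY'
      have hY'p : IsPGroup p Y' := (hA.comap_subtype).map f
      have hall : ∀ l : ↥L, f l ∈ Y' := by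
        have hT : L ≤ (Y'.comap f).map L.subtype := by
          refine (le_of_eq hL).trans (sup_le ?_ ?_)
          · intro a ha
            refine ⟨⟨a, hAL ha⟩, Subgroup.mem_comap.mpr ?_, rfl⟩
            exact ⟨⟨a, hAL ha⟩, Subgroup.mem_subgroupOf.mpr ha, rfl⟩
          · rintro _ ⟨a, ha, rfl⟩
            simp only [MulEquiv.coe_toMonoidHom, MulAut.conj_apply]
            refine ⟨⟨x * a * x⁻¹, hconj a ha⟩, Subgroup.mem_comap.mpr ?_, rfl⟩
            refine ⟨⟨a, hAL ha⟩, Subgroup.mem_subgroupOf.mpr ha, ?_⟩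
            -- `f a = f (x a x⁻¹)`
            have hcm : x * a * x⁻¹ * a⁻¹ ∈ Nn := by
              have := Subgroup.commutator_mem_commutator hxY ha
              rwa [commutatorElement_def] at this
            have hcmL : x * a * x⁻¹ * a⁻¹ ∈ L := hNnL hcm
            have e1 : (⟨x * a * x⁻¹, hconj a ha⟩ : ↥L) =
                ⟨x * a * x⁻¹ * a⁻¹, hcmL⟩ * ⟨a, hAL ha⟩ := by
              apply Subtype.ext
              simp
            rw [e1, map_mul]
            have e2 : f ⟨x * a * x⁻¹ * a⁻¹, hcmL⟩ = 1 := by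
              rw [hf, QuotientGroup.mk'_apply, QuotientGroup.eq_one_iff]
              exact Subgroup.mem_subgroupOf.mpr hcm
            rw [e2, one_mul]
        intro l
        obtain ⟨g, hg, hgl⟩ := hT l.2
        have : g = l := Subtype.ext hgl
        rw [← this]
        exact hg
      have h1 := Cfsg.Agent.Helper5.pResidual_le_ker f Y' hY'p (by
        rintro _ ⟨g, -, rfl⟩
        exact hall g)
      rintro _ ⟨g, hg, rfl⟩
      have h2 := h1 hg
      rw [hf, QuotientGroup.ker_mk'] at h2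
      exact Subgroup.mem_subgroupOf.mp h2
  · -- the index
    have hsup : A ⊓ B.comap π ≤ OL := by
      set D := L ⊓ B.comap π with hD
      have hDp : IsPGroup p D := by
        rintro ⟨d, hd⟩
        have hd2 : π d ∈ B := (Subgroup.mem_inf.mp hd).2
        have h1 : (π d) ^ p = 1 := hAbel.2 _ (hBA hd2)
        have h2 : d ^ p ∈ R := by rw [← hker, map_pow]; exact h1
        obtain ⟨j, hj⟩ := hRp ⟨d ^ p, h2⟩
        have hj' : (d ^ p) ^ p ^ j = 1 := by
          have := congrArg Subtype.val hj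
          simpa using this
        refine ⟨j + 1, ?_⟩
        apply Subtype.ext
        simp only [Subgroup.coe_pow, Subgroup.coe_one]
        rw [pow_succ', pow_mul]
        exact hj'
      have hLD : L ≤ Subgroup.normalizer (D : Set M) := by
        apply Cfsg.Agent.Helper5.le_normalizer_of_conj_mem
        intro l hl d hd
        have hd1 : d ∈ L := (Subgroup.mem_inf.mp hd).1
        have hd2 : π d ∈ B := (Subgroup.mem_inf.mp hd).2
        refine Subgroup.mem_inf.mpr ⟨L.mul_mem (L.mul_mem hl hd1) (L.inv_mem hl), ?_⟩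
        rw [Subgroup.mem_comap, map_mul, map_mul, map_inv, hLB l hl (π d) hd2]
        have : π d * π l * (π l)⁻¹ = π d := by group
        rw [this]
        exact hd2
      have hDO : D ≤ OL := Cfsg.Agent.Helper5.le_pCore_map_subtype L D inf_le_left hDp hLD
      intro a ha
      apply hDO
      exact Subgroup.mem_inf.mpr ⟨hAL (Subgroup.mem_inf.mp ha).1, (Subgroup.mem_inf.mp ha).2⟩
    have heq : A ⊓ OL = A ⊓ B.comap π := by
      apply le_antisymm
      · intro a ha
        exact Subgroup.mem_inf.mpr ⟨(Subgroup.mem_inf.mp ha).1, hsub a ha⟩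
      · exact le_inf inf_le_left hsup
    rw [heq, Subgroup.inf_relIndex_left, Subgroup.relIndex_comap]
    exact hBp
  · -- the commutator
    rw [Subgroup.commutator_le]
    intro a ha l hl
    have h1 : π a ∈ B := hsub a ha
    have h2 := hLB l hl (π a) h1
    rw [← hker, commutatorElement_def, map_mul, map_mul, map_mul, map_inv, map_inv, ← h2]
    group

end Cfsg.Agent.Helper1.PSolvL
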