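import Mathlib
import Cfsg.Agent.Helper1.HallConverse

set_option autoImplicit false

/-!
A finite group with pairwise permutable Sylow subgroups (one for each prime) is solvable.
-/

namespace Cfsg.Agent.Helper1

open scoped Pointwise

universe u

variable {G : Type u} [Group G]

/-- the product of two permuting subgroups as a subgroup. -/
def mulSubgroup (A B : Subgroup G) (h : (A : Set G) * (B : Set G) = (B : Set G) * (A : Set G)) :
    Subgroup G where
  carrier := (A : Set G) * (B : Set G)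
  one_mem' := ⟨1, A.one_mem, 1, B.one_mem, one_mul 1⟩
  mul_mem' := by
    rintro _ _ ⟨a, ha, b, hb, rfl⟩ ⟨a', ha', b', hb', rfl⟩
    have h1 : b * a' ∈ (B : Set G) * (A : Set G) := ⟨b, hb, a', ha', rfl⟩
    rw [← h] at h1
    obtain ⟨a'', ha'', b'', hb'', hab⟩ := h1
    refine ⟨a * a'', A.mul_mem ha ha'', b'' * b', B.mul_mem hb'' hb', ?_⟩
    have hab' : a'' * b'' = b * a' := hab
    calc a * a'' * (b'' * b') = a * (a'' * b'') * b' := by group
      _ = a * (b * a') * b' := by rw [hab']
      _ = a * b * (a' * b') := by group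
  inv_mem' := by
    rintro _ ⟨a, ha, b, hb, rfl⟩
    have h1 : b⁻¹ * a⁻¹ ∈ (B : Set G) * (A : Set G) :=
      ⟨b⁻¹, B.inv_mem hb, a⁻¹, A.inv_mem ha, rfl⟩
    rw [← h] at h1
    rw [mul_inv_rev]
    exact h1

theorem coe_mulSubgroup (A B : Subgroup G)
    (h : (A : Set G) * (B : Set G) = (B : Set G) * (A : Set G)) :
    ((mulSubgroup A B h : Subgroup G) : Set G) = (A : Set G) * (B : Set G) := rfl

theorem card_mulSubgroup_of_coprime [Finite G] (A B : Subgroup G)
    (h : (A : Set G) * (B : Set G) = (B : Set G) * (A : Set G))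
    (hcop : (Nat.card A).Coprime (Nat.card B)) :
    Nat.card (mulSubgroup A B h) = Nat.card A * Nat.card B := by
  have hA : A ≤ mulSubgroup A B h := fun a ha => ⟨a, ha, 1, B.one_mem, mul_one a⟩
  have hB : B ≤ mulSubgroup A B h := fun b hb => ⟨1, A.one_mem, b, hb, one_mul b⟩
  have hdvd : Nat.card A * Nat.card B ∣ Nat.card (mulSubgroup A B h) :=
    Nat.Coprime.mul_dvd_of_dvd_of_dvd hcop (Subgroup.card_dvd_of_le hA) (Subgroup.card_dvd_of_le hB)
  apply le_antisymm _ (Nat.le_of_dvd Nat.card_pos hdvd)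
  let f : A × B → mulSubgroup A B h := fun x => ⟨(x.1 : G) * (x.2 : G), ⟨x.1, x.1.2, x.2, x.2.2, rfl⟩⟩
  have hf : Function.Surjective f := by
    rintro ⟨_, a, ha, b, hb, rfl⟩
    exact ⟨(⟨a, ha⟩, ⟨b, hb⟩), rfl⟩
  have := Nat.card_le_card_of_surjective f hf
  rwa [Nat.card_prod] at this

theorem exists_prod_sylow [Finite G] (S : (p : Nat.Primes) → Sylow (p : ℕ) G)
    (hS : ∀ p q : Nat.Primes, ((S p : Subgroup G) : Set G) * ((S q : Subgroup G) : Set G) =
      ((S q : Subgroup G) : Set G) * ((S p : Subgroup G) : Set G))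
    (T : Finset ℕ) : (∀ q ∈ T, q.Prime) →
    ∃ H : Subgroup G, Nat.card H = ∏ q ∈ T, ppart (Nat.card G) q ∧
      ∀ r : Nat.Primes, ((S r : Subgroup G) : Set G) * (H : Set G) =
        (H : Set G) * ((S r : Subgroup G) : Set G) := by
  classical
  induction T using Finset.induction_on with
  | empty =>
    intro _
    refine ⟨⊥, by simp, ?_⟩
    intro r
    rw [Subgroup.coe_bot, Set.mul_singleton, Set.singleton_mul]
    simp
  | insert r₀ T hr₀ ih =>
    intro hT
    obtain ⟨H, hHcard, hHperm⟩ := ih (fun q hq => hT q (Finset.mem_insert_of_mem hq))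
    have hr₀p : r₀.Prime := hT r₀ (Finset.mem_insert_self _ _)
    set R : Nat.Primes := ⟨r₀, hr₀p⟩ with hR
    have hRcard : Nat.card (S R : Subgroup G) = ppart (Nat.card G) r₀ := by
      have := Fact.mk hr₀p
      exact (S R).card_eq_multiplicity
    have hcop : (Nat.card (S R : Subgroup G)).Coprime (Nat.card H) := by
      rw [hRcard, hHcard]
      apply Nat.Coprime.prod_right
      intro q hq
      exact ppart_coprime hr₀p (hT q (Finset.mem_insert_of_mem hq))
        (fun h => hr₀ (h ▸ hq))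
    refine ⟨mulSubgroup (S R : Subgroup G) H (hHperm R), ?_, ?_⟩
    · rw [card_mulSubgroup_of_coprime _ _ _ hcop, Finset.prod_insert hr₀, hRcard, hHcard]
    · intro r
      rw [coe_mulSubgroup, ← mul_assoc, hS r R, mul_assoc, hHperm r, ← mul_assoc]

theorem solvable_of_permutable_sylow [Finite G] (S : (p : Nat.Primes) → Sylow (p : ℕ) G)
    (hS : ∀ p q : Nat.Primes, (S p : Set G) * (S q : Set G) = (S q : Set G) * (S p : Set G)) :
    Group.IsSolvable G := by
  apply hall_converse_aux _ G rfl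
  intro p hp
  have hN : Nat.card G ≠ 0 := Nat.card_pos.ne'
  obtain ⟨H, hHcard, -⟩ := exists_prod_sylow S (fun p q => hS p q)
    ((Nat.card G).primeFactors.erase p)
    (fun q hq => Nat.prime_of_mem_primeFactors (Finset.mem_of_mem_erase hq))
  refine ⟨H, ?_⟩
  have h1 := prod_ppart_erase_mul hN p
  have h2 := H.index_mul_card
  rw [hHcard] at h2
  have hpos : 0 < ∏ q ∈ (Nat.card G).primeFactors.erase p, ppart (Nat.card G) q := by
    rw [← hHcard]; exact Nat.card_pos
  apply Nat.eq_of_mul_eq_mul_right hpos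
  rw [h2, mul_comm, h1]

end Cfsg.Agent.Helper1
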