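import Mathlib
import Cfsg.Agent.Helper2.BenderF
import Cfsg.Agent.Helper4.PCore
import Cfsg.Agent.Helper4.FittingChar

set_option autoImplicit false

/-!
Bender's theorem on primitive pairs `(M, N)` with `F*(M) ≤ N`, `F*(N) ≤ M`: both generalized Fitting
subgroups are `p`-groups for one prime `p`.  Adapted from `Helper2.Bender` (maximal subgroups of a
simple group).
-/

namespace Cfsg.Agent.Helper1.PrimPair

open Cfsg.Agent.Helper1 Cfsg.Agent.Helper2 Cfsg.Agent.Helper2.FStarQuot Cfsg.Agent.Helper2.Bender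

open scoped commutatorElement

universe u

variable {G : Type u} [Group G]

/-- The primitive pair condition. -/
def IsPrimPair (M N : Subgroup G) : Prop :=
  ∀ A : Subgroup G, A ≠ ⊥ → A ≤ M ⊓ N →
    (M ≤ Subgroup.normalizer (A : Set G) → N ⊓ Subgroup.normalizer (A : Set G) = M ⊓ N) ∧
    (N ≤ Subgroup.normalizer (A : Set G) → M ⊓ Subgroup.normalizer (A : Set G) = M ⊓ N)

theorem IsPrimPair.symm {M N : Subgroup G} (h : IsPrimPair M N) : IsPrimPair N M := by
  intro A hA hAle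
  have hAle' : A ≤ M ⊓ N := by rw [inf_comm]; exact hAle
  obtain ⟨h1, h2⟩ := h A hA hAle'
  refine ⟨fun hN => ?_, fun hM => ?_⟩
  · rw [inf_comm N M]; exact h2 hN
  · rw [inf_comm N M]; exact h1 hM

/-- No nontrivial subgroup of `M ⊓ N` is normalized by both members of a primitive pair. -/
theorem IsPrimPair.false_of_normal_both {M N : Subgroup G} (h : IsPrimPair M N) (hMN : M ≠ N)
    (A : Subgroup G) (hA : A ≠ ⊥) (hAle : A ≤ M ⊓ N)
    (hM : M ≤ Subgroup.normalizer (A : Set G)) (hN : N ≤ Subgroup.normalizer (A : Set G)) : False := by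
  obtain ⟨h1, h2⟩ := h A hA hAle
  have e1 := h1 hM
  have e2 := h2 hN
  rw [inf_eq_left.2 hN] at e1
  rw [inf_eq_left.2 hM] at e2
  apply hMN
  apply le_antisymm
  · rw [e2]; exact inf_le_right
  · rw [e1]; exact inf_le_left

/-- An element of `M` normalizing a nontrivial normal subgroup `A ≤ M ⊓ N` of `N` lies in `N`. -/
theorem IsPrimPair.mem_of_mem_normalizer {M N : Subgroup G} (h : IsPrimPair M N)
    (A : Subgroup G) (hA : A ≠ ⊥) (hAle : A ≤ M ⊓ N)
    (hN : N ≤ Subgroup.normalizer (A : Set G)) {k : G} (hkM : k ∈ M)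
    (hk : k ∈ Subgroup.normalizer (A : Set G)) : k ∈ N := by
  have e := (h A hA hAle).2 hN
  have : k ∈ M ⊓ Subgroup.normalizer (A : Set G) := ⟨hkM, hk⟩
  rw [e] at this
  exact this.2

variable [Finite G]

/-- Under the hypotheses of Bender's theorem the layers of `M` and `N` are trivial. -/
theorem layer_eq_bot' (M N : Subgroup G) (hP : IsPrimPair M N) (hMN : M ≠ N)
    (h1 : (Cfsg.generalizedFittingSubgroup ↥M).map M.subtype ≤ N)
    (h2 : (Cfsg.generalizedFittingSubgroup ↥N).map N.subtype ≤ M) :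
    Cfsg.layer ↥M = ⊥ := by
  set EM := (Cfsg.layer ↥M).map M.subtype with hEM
  set EN := (Cfsg.layer ↥N).map N.subtype with hEN
  have hEq : EM = EN :=
    le_antisymm (map_layer_le_of_transfer M N h1 h2) (map_layer_le_of_transfer N M h2 h1)
  have hMn : M ≤ Subgroup.normalizer (EM : Set G) := le_normalizer_map_subtype M (Cfsg.layer ↥M)
  have hNn : N ≤ Subgroup.normalizer (EM : Set G) := by
    rw [hEq]; exact le_normalizer_map_subtype N (Cfsg.layer ↥N)
  have hle : EM ≤ M ⊓ N := by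
    apply le_inf (Subgroup.map_subtype_le _)
    exact (Subgroup.map_mono layer_le_generalizedFittingSubgroup).trans h1
  by_contra hne
  have hEMne : EM ≠ ⊥ := by
    intro h
    exact hne ((Subgroup.map_eq_bot_iff_of_injective _ M.subtype_injective).1 h)
  exact hP.false_of_normal_both hMN EM hEMne hle hMn hNn

theorem centralizer_Mr_le' (M N : Subgroup G) (hP : IsPrimPair M N)
    (h2 : FM N ≤ M) (r : Nat.Primes) (h : Mr N r ≠ ⊥) {k : G} (hkM : k ∈ M)
    (hk : k ∈ Subgroup.centralizer (Mr N r : Set G)) : k ∈ N := by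
  apply hP.mem_of_mem_normalizer (Mr N r) h (le_inf ((Mr_le_FM N r).trans h2) (Mr_le N r))
    (le_normalizer_Mr N r) hkM
  exact Subgroup.centralizer_le_normalizer _ hk

theorem genSet_subset' (M N : Subgroup G) (hP : IsPrimPair M N)
    (hEM : Cfsg.layer ↥M = ⊥) (h1 : FM M ≤ N) (h2 : FM N ≤ M)
    (p q : Nat.Primes) (hpq : q ≠ p) (hNq : Mr N q ≠ ⊥) :
    genSet M p ⊆ genSet N p := by
  rintro k ⟨hkM, ⟨j, hj⟩, hkc⟩
  haveI : Fact (p : ℕ).Prime := ⟨p.2⟩
  have hcent : ∀ s : Nat.Primes, s ≠ p → k ∈ Subgroup.centralizer (Mr N s : Set G) := by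
    intro s hs
    exact key_centralize (p : ℕ) M (Mr M p) (FMc M p) (Mr N s) (Mr_le M p) (FMc_le M p)
      ((Mr_le_FM N s).trans h2) (le_normalizer_Mr M p) (le_normalizer_FMc M p) (isPGroup_Mr M p)
      (card_FMc_coprime M p) (card_Mr_coprime N hs) (hCF_of_layer_eq_bot M hEM p)
      (Nr_le_centralizer_Mr M N h1 h2 hs) k hkM j hj hkc
  refine ⟨?_, ⟨j, hj⟩, ?_⟩
  · exact centralizer_Mr_le' M N hP h2 q hNq hkM (hcent q hpq)
  · have hz : Subgroup.zpowers k ≤ Subgroup.centralizer (FMc N p : Set G) := by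
      rw [Subgroup.le_centralizer_iff, FMc_eq_iSup]
      apply iSup₂_le
      intro s hs
      rw [← Subgroup.le_centralizer_iff, Subgroup.zpowers_le]
      exact hcent s hs
    exact hz (Subgroup.mem_zpowers k)

/-- The final contradiction. -/
theorem final' (M N : Subgroup G) (hP : IsPrimPair M N) (hMN : M ≠ N)
    (hEM : Cfsg.layer ↥M = ⊥) (hEN : Cfsg.layer ↥N = ⊥) (h1 : FM M ≤ N) (h2 : FM N ≤ M)
    (p q : Nat.Primes) (hpq : q ≠ p) (hMp : Mr M p ≠ ⊥) (hMq : Mr M q ≠ ⊥) (hNq : Mr N q ≠ ⊥) :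
    False := by
  haveI : Fact (p : ℕ).Prime := ⟨p.2⟩
  have hS : genSet M p = genSet N p :=
    Set.Subset.antisymm (genSet_subset' M N hP hEM h1 h2 p q hpq hNq)
      (genSet_subset' N M hP.symm hEN h2 h1 p q hpq hMq)
  set K := Subgroup.closure (genSet M p) with hK
  have hMn : M ≤ Subgroup.normalizer (K : Set G) := le_normalizer_genSet M p
  have hNn : N ≤ Subgroup.normalizer (K : Set G) := by
    rw [hK, hS]; exact le_normalizer_genSet N p
  have hMpK : Mr M p ≤ K := by
    intro x hx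
    apply Subgroup.subset_closure
    refine ⟨Mr_le M p hx, ?_, ?_⟩
    · obtain ⟨i, hi⟩ := (isPGroup_Mr M p) ⟨x, hx⟩
      have h3 : orderOf x ∣ (p : ℕ) ^ i := by
        apply orderOf_dvd_of_pow_eq_one
        have := congrArg Subtype.val hi
        simpa using this
      obtain ⟨j, _, hj⟩ := (Nat.dvd_prime_pow p.2).1 h3
      exact ⟨j, hj⟩
    · rw [Subgroup.mem_centralizer_iff]
      intro v hv
      exact (commute_Up_Uc (p : ℕ) M (Mr M p) (FMc M p) (Mr_le M p) (FMc_le M p)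
        (le_normalizer_Mr M p) (le_normalizer_FMc M p) (isPGroup_Mr M p) (card_FMc_coprime M p)
        x hx v hv).symm
  have hKM : K ≤ M := by
    rw [hK, Subgroup.closure_le]
    rintro k ⟨hkM, -, -⟩
    exact hkM
  have hKN : K ≤ N := by
    rw [hK, hS, Subgroup.closure_le]
    rintro k ⟨hkN, -, -⟩
    exact hkN
  have hKne : K ≠ ⊥ := by
    intro h
    apply hMp
    rw [eq_bot_iff, ← h]
    exact hMpK
  exact hP.false_of_normal_both hMN K hKne (le_inf hKM hKN) hMn hNn

/-- Bender's theorem for primitive pairs. -/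
theorem main' (M N : Subgroup G) (hP : IsPrimPair M N) (hMN : M ≠ N)
    (h1 : (Cfsg.generalizedFittingSubgroup ↥M).map M.subtype ≤ N)
    (h2 : (Cfsg.generalizedFittingSubgroup ↥N).map N.subtype ≤ M) :
    ∃ p : ℕ, p.Prime ∧ IsPGroup p ↥(Cfsg.generalizedFittingSubgroup ↥M) ∧
      IsPGroup p ↥(Cfsg.generalizedFittingSubgroup ↥N) := by
  have hEM : Cfsg.layer ↥M = ⊥ := layer_eq_bot' M N hP hMN h1 h2
  have hEN : Cfsg.layer ↥N = ⊥ := layer_eq_bot' N M hP.symm hMN.symm h2 h1
  have hFsM : Cfsg.generalizedFittingSubgroup ↥M = Cfsg.fittingSubgroup ↥M := by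
    unfold Cfsg.generalizedFittingSubgroup
    rw [hEM, bot_sup_eq]
  have hFsN : Cfsg.generalizedFittingSubgroup ↥N = Cfsg.fittingSubgroup ↥N := by
    unfold Cfsg.generalizedFittingSubgroup
    rw [hEN, bot_sup_eq]
  have h1' : FM M ≤ N := by unfold FM; rw [← hFsM]; exact h1
  have h2' : FM N ≤ M := by unfold FM; rw [← hFsN]; exact h2
  -- a group with trivial `F*` is trivial
  have triv : ∀ (X : Subgroup G), Cfsg.generalizedFittingSubgroup ↥X = ⊥ → X = ⊥ := by
    intro X hF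
    have h3 := centralizer_generalizedFittingSubgroup_le (G := ↥X)
    rw [hF] at h3
    rw [eq_bot_iff]
    intro x hx
    have h4 : (⟨x, hx⟩ : ↥X) ∈ Subgroup.centralizer (((⊥ : Subgroup ↥X)) : Set ↥X) := by
      rw [Subgroup.mem_centralizer_iff]
      intro y hy
      rw [Subgroup.coe_bot, Set.mem_singleton_iff] at hy
      rw [hy, one_mul, mul_one]
    have h5 := h3 h4
    rw [Subgroup.mem_bot] at h5
    rw [Subgroup.mem_bot]
    exact congrArg Subtype.val h5
  have hFM : Cfsg.fittingSubgroup ↥M ≠ ⊥ := by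
    intro hF
    have hMbot : M = ⊥ := triv M (by rw [hFsM, hF])
    -- then `F*(N) ≤ M = ⊥`
    have hFN : Cfsg.generalizedFittingSubgroup ↥N = ⊥ := by
      rw [hMbot, le_bot_iff] at h2
      exact (Subgroup.map_eq_bot_iff_of_injective _ N.subtype_injective).1 h2
    have hNbot : N = ⊥ := triv N hFN
    exact hMN (hMbot.trans hNbot.symm)
  obtain ⟨p, hMp⟩ := exists_Mr_ne_bot M hFM
  have hNp : Mr N p ≠ ⊥ := Mr_ne_bot_of_Nr_ne_bot N M hEN h2' h1' p hMp
  by_contra hcon
  have key : ∃ q : Nat.Primes, q ≠ p ∧ Mr M q ≠ ⊥ ∧ Mr N q ≠ ⊥ := by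
    by_cases hMpg : IsPGroup (p : ℕ) ↥(Cfsg.generalizedFittingSubgroup ↥M)
    · have hNpg : ¬ IsPGroup (p : ℕ) ↥(Cfsg.generalizedFittingSubgroup ↥N) :=
        fun h => hcon ⟨p, p.2, hMpg, h⟩
      have hex : ∃ q : Nat.Primes, q ≠ p ∧ Mr N q ≠ ⊥ := by
        by_contra hne
        push Not at hne
        apply hNpg
        rw [hFsN]
        exact isPGroup_fitting_of_forall_Mr_eq_bot N p hne
      obtain ⟨q, hq, hNq⟩ := hex
      exact ⟨q, hq, Mr_ne_bot_of_Nr_ne_bot M N hEM h1' h2' q hNq, hNq⟩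
    · have hex : ∃ q : Nat.Primes, q ≠ p ∧ Mr M q ≠ ⊥ := by
        by_contra hne
        push Not at hne
        apply hMpg
        rw [hFsM]
        exact isPGroup_fitting_of_forall_Mr_eq_bot M p hne
      obtain ⟨q, hq, hMq⟩ := hex
      exact ⟨q, hq, hMq, Mr_ne_bot_of_Nr_ne_bot N M hEN h2' h1' q hMq⟩
  obtain ⟨q, hq, hMq, hNq⟩ := key
  exact final' M N hP hMN hEM hEN h1' h2' p q hq hMp hMq hNq

/-- If `F*(X)` is a `p`-group then `C_X(O_p(X)) ≤ O_p(X)` and `O_p(X) = F*(X)`. -/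
theorem char_p_of_isPGroup {X : Type u} [Group X] [Finite X] {p : ℕ} [Fact p.Prime]
    (h : IsPGroup p ↥(Cfsg.generalizedFittingSubgroup X)) :
    Subgroup.centralizer (Cfsg.pCore p X : Set X) ≤ Cfsg.pCore p X ∧
      Cfsg.pCore p X ≤ Cfsg.generalizedFittingSubgroup X := by
  have hle : Cfsg.generalizedFittingSubgroup X ≤ Cfsg.pCore p X :=
    Cfsg.Agent.Helper4.le_pCore _ inferInstance h
  refine ⟨?_, ?_⟩
  · exact (Subgroup.centralizer_le hle).trans
      (centralizer_generalizedFittingSubgroup_le.trans hle)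
  · exact (Cfsg.Agent.Helper4.pCore_le_fittingSubgroup p).trans
      fittingSubgroup_le_generalizedFittingSubgroup

end Cfsg.Agent.Helper1.PrimPair
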