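import Mathlib
import Cfsg.Agent.Helper1.Basic
import Cfsg.Agent.Helper1.HallMax

set_option autoImplicit false

/-!
Groups all of whose maximal subgroups have prime index are solvable.
-/

namespace Cfsg.Agent.Helper1

open scoped Pointwise

universe u

theorem sylow_normal_of_max_prime_index {G : Type u} [Group G] [Finite G]
    (h : ∀ M : Subgroup G, IsCoatom M → M.index.Prime) (p : ℕ) [hp : Fact p.Prime]
    (hmax : ∀ q : ℕ, q.Prime → q ∣ Nat.card G → q ≤ p) (P : Sylow p G) :
    (P : Subgroup G).Normal := by
  by_contra hnot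
  have hNtop : Subgroup.normalizer ((P : Subgroup G) : Set G) ≠ ⊤ := fun h' =>
    hnot (Subgroup.normalizer_eq_top_iff.1 h')
  obtain ⟨M, hM, hNM⟩ := (eq_top_or_exists_le_coatom _).resolve_left hNtop
  have hq := h M hM
  have hqle : M.index ≤ p := hmax _ hq (Subgroup.index_dvd_card M)
  have hPM : (P : Subgroup G) ≤ M := Subgroup.le_normalizer.trans hNM
  have h1 : Nat.card (Sylow p G) = (Subgroup.normalizer ((P : Subgroup G) : Set G)).index :=
    P.card_eq_index_normalizer
  have h2 : Nat.card (Sylow p M) =
      (Subgroup.normalizer (((P.subtype hPM : Sylow p M) : Subgroup M) : Set M)).index :=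
    (P.subtype hPM).card_eq_index_normalizer
  rw [Sylow.coe_subtype, ← Subgroup.subgroupOf_normalizer_eq hPM] at h2
  have h3 : (Subgroup.normalizer ((P : Subgroup G) : Set G)).relIndex M * M.index =
      (Subgroup.normalizer ((P : Subgroup G) : Set G)).index := Subgroup.relIndex_mul_index hNM
  have h4 : Nat.card (Sylow p G) ≡ 1 [MOD p] := card_sylow_modEq_one p G
  have h5 : Nat.card (Sylow p M) ≡ 1 [MOD p] := card_sylow_modEq_one p M
  have h6 : Nat.card (Sylow p G) = Nat.card (Sylow p M) * M.index := by
    rw [h1, h2]; exact h3.symm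
  have h7 : M.index ≡ 1 [MOD p] := by
    have : Nat.card (Sylow p M) * M.index ≡ 1 * M.index [MOD p] := Nat.ModEq.mul_right _ h5
    rw [one_mul, ← h6] at this
    exact this.symm.trans h4
  have h8 : p ∣ M.index - 1 := (Nat.modEq_iff_dvd' hq.one_lt.le).1 h7.symm
  have h9 : M.index - 1 ≠ 0 := by have := hq.two_le; omega
  have := Nat.le_of_dvd (Nat.pos_of_ne_zero h9) h8
  omega

theorem isSolvable_of_max_prime_index : ∀ (k : ℕ) (G : Type u) [Group G] [Finite G],
    Nat.card G = k → (∀ M : Subgroup G, IsCoatom M → M.index.Prime) → Group.IsSolvable G := by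
  intro k
  induction k using Nat.strong_induction_on with
  | _ k ih =>
  intro G _ _ hk h
  rcases subsingleton_or_nontrivial G with hs | hnt
  · exact Group.isSolvable_of_comm (fun a b => Subsingleton.elim _ _)
  · have hcard : 1 < Nat.card G := Finite.one_lt_card
    have hne : (Nat.card G).primeFactors.Nonempty := by
      rw [Nat.nonempty_primeFactors]; exact hcard
    set p := (Nat.card G).primeFactors.max' hne with hpdef
    have hpmem : p ∈ (Nat.card G).primeFactors := Finset.max'_mem _ _
    have hp : p.Prime := Nat.prime_of_mem_primeFactors hpmem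
    have hpdvd : p ∣ Nat.card G := Nat.dvd_of_mem_primeFactors hpmem
    have hmax : ∀ q : ℕ, q.Prime → q ∣ Nat.card G → q ≤ p := by
      intro q hq hqd
      exact Finset.le_max' _ _ (Nat.mem_primeFactors.2 ⟨hq, hqd, Nat.card_pos.ne'⟩)
    have : Fact p.Prime := ⟨hp⟩
    obtain ⟨P⟩ : Nonempty (Sylow p G) := inferInstance
    have hPn : (P : Subgroup G).Normal := sylow_normal_of_max_prime_index h p hmax P
    have hPne : (P : Subgroup G) ≠ ⊥ := by
      intro hb
      have hc : Nat.card (P : Subgroup G) = 1 := by rw [hb]; exact Subgroup.card_bot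
      have := P.card_eq_multiplicity
      rw [hc] at this
      have hpos : 0 < (Nat.card G).factorization p :=
        hp.factorization_pos_of_dvd Nat.card_pos.ne' hpdvd
      have : 1 < p ^ (Nat.card G).factorization p := Nat.one_lt_pow hpos.ne' hp.one_lt
      omega
    have hlt : Nat.card (G ⧸ (P : Subgroup G)) < k := by
      rw [← hk, ← Subgroup.index_eq_card, ← (P : Subgroup G).card_mul_index]
      have h1 : 1 < Nat.card (P : Subgroup G) := by
        rw [Nat.one_lt_iff_ne_zero_and_ne_one]
        exact ⟨Nat.card_pos.ne', fun h1 => hPne (Subgroup.card_eq_one.1 h1)⟩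
      have h2 : 0 < (P : Subgroup G).index := Nat.pos_of_ne_zero Subgroup.index_ne_zero_of_finite
      nlinarith
    have hquot : ∀ M : Subgroup (G ⧸ (P : Subgroup G)), IsCoatom M → M.index.Prime := by
      intro M hM
      have h1 := h _ (isCoatom_comap_mk' (P : Subgroup G) M hM)
      rwa [Subgroup.index_comap_of_surjective _ (QuotientGroup.mk'_surjective _)] at h1
    have hQs : Group.IsSolvable (G ⧸ (P : Subgroup G)) := ih _ hlt _ rfl hquot
    have hPnil : Group.IsNilpotent (P : Subgroup G) := P.2.isNilpotent
    have hPs : Group.IsSolvable (P : Subgroup G) := inferInstance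
    exact Group.isSolvable_of_ker_le_range (P : Subgroup G).subtype
      (QuotientGroup.mk' (P : Subgroup G))
      (by rw [QuotientGroup.ker_mk', Subgroup.range_subtype])

end Cfsg.Agent.Helper1
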