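import Mathlib
import Cfsg.Prelude.Def_LocalEven
import Cfsg.Agent.Helper1.QAe
import Cfsg.Agent.Helper1.Basic

/-!
# `p`-stability of groups with a `p`-by-(abelian `p'`)-by-`p` normal series

For an odd prime `p`, a finite group with a normal series `1 ≤ Y₁ ≤ Y₂ ≤ Y` such that `Y₁` and
`Y / Y₂` are `p`-groups and `Y₂ / Y₁` is abelian of exponent prime to `p` is `p`-stable in the
normalizer form; the class of such groups is closed under subgroups and quotients.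
-/

set_option autoImplicit false

namespace Cfsg.Agent.Helper1.QA

open scoped commutatorElement

/-- The class of groups with a normal series `1 ≤ Y₁ ≤ Y₂ ≤ Y`, `Y₁` a `p`-group, `Y₂ / Y₁` abelian
of exponent prime to `p`, and `Y / Y₂` a `p`-group. -/
def InC (p : ℕ) (Y : Type*) [Group Y] : Prop :=
  ∃ Y₁ Y₂ : Subgroup Y, Y₁.Normal ∧ Y₂.Normal ∧ IsPGroup p Y₁ ∧
    (∀ a ∈ Y₂, ∀ b ∈ Y₂, ⁅a, b⁆ ∈ Y₁) ∧ (∃ m : ℕ, m.Coprime p ∧ ∀ a ∈ Y₂, a ^ m ∈ Y₁) ∧
    ∀ y : Y, ∃ k : ℕ, y ^ (p ^ k) ∈ Y₂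

theorem InC.subgroup {p : ℕ} {Y : Type*} [Group Y] (h : InC p Y) (H : Subgroup Y) : InC p ↥H := by
  obtain ⟨Y₁, Y₂, h1n, h2n, h1p, hcomm, ⟨m, hm, hexp⟩, hpk⟩ := h
  haveI := h1n
  haveI := h2n
  refine ⟨Y₁.subgroupOf H, Y₂.subgroupOf H, inferInstance, inferInstance, h1p.comap_subtype, ?_,
    ⟨m, hm, ?_⟩, ?_⟩
  · intro a ha b hb
    exact hcomm a ha b hb
  · intro a ha
    exact hexp a ha
  · intro y
    obtain ⟨k, hk⟩ := hpk (y : Y)
    exact ⟨k, hk⟩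

theorem InC.map {p : ℕ} {Y Z : Type*} [Group Y] [Group Z] (h : InC p Y) (f : Y →* Z)
    (hf : Function.Surjective f) : InC p Z := by
  obtain ⟨Y₁, Y₂, h1n, h2n, h1p, hcomm, ⟨m, hm, hexp⟩, hpk⟩ := h
  refine ⟨Y₁.map f, Y₂.map f, h1n.map f hf, h2n.map f hf, h1p.map f, ?_, ⟨m, hm, ?_⟩, ?_⟩
  · rintro _ ⟨a, ha, rfl⟩ _ ⟨b, hb, rfl⟩
    rw [← map_commutatorElement]
    exact Subgroup.mem_map_of_mem f (hcomm a ha b hb)
  · rintro _ ⟨a, ha, rfl⟩
    rw [← map_pow]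
    exact Subgroup.mem_map_of_mem f (hexp a ha)
  · intro z
    obtain ⟨y, rfl⟩ := hf z
    obtain ⟨k, hk⟩ := hpk y
    exact ⟨k, by rw [← map_pow]; exact Subgroup.mem_map_of_mem f hk⟩

section

variable {N : Type*} [Group N]

/-- If `e` commutes with `[e, u]`, then `e^j u = [e, u]^j u e^j`. -/
theorem pow_mul_eq_of_commute {e u : N} (h : Commute e ⁅e, u⁆) (j : ℕ) :
    e ^ j * u = ⁅e, u⁆ ^ j * u * e ^ j := by
  induction j with
  | zero => simp
  | succ j ih =>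
    have h1 : e * u = ⁅e, u⁆ * u * e := by rw [commutatorElement_def]; group
    have h2 : e * ⁅e, u⁆ ^ j = ⁅e, u⁆ ^ j * e := (h.pow_right j).eq
    calc e ^ (j + 1) * u = e * (e ^ j * u) := by rw [pow_succ']; group
      _ = e * (⁅e, u⁆ ^ j * u * e ^ j) := by rw [ih]
      _ = (e * ⁅e, u⁆ ^ j) * u * e ^ j := by group
      _ = ⁅e, u⁆ ^ j * (e * u) * e ^ j := by rw [h2]; group
      _ = ⁅e, u⁆ ^ j * (⁅e, u⁆ * u * e) * e ^ j := by rw [h1]
      _ = ⁅e, u⁆ ^ (j + 1) * u * e ^ (j + 1) := by rw [pow_succ, pow_succ']; group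

variable [Finite N] {p : ℕ} [hp : Fact p.Prime]

/-- The commutators `[g, a]`, `a ∈ N₂`, act on the normal `p`-subgroup `P` as `p`-elements, when
`g` acts quadratically on `P`. -/
theorem exists_pow_comm_of_quadratic (hp2 : p ≠ 2)
    (N₁ N₂ P : Subgroup N) [hN₁ : N₁.Normal] [hN₂ : N₂.Normal] [hP : P.Normal]
    (hN₁p : IsPGroup p N₁) (hPp : IsPGroup p P)
    (hcomm : ∀ a ∈ N₂, ∀ b ∈ N₂, ⁅a, b⁆ ∈ N₁) (m : ℕ) (hm : m.Coprime p)
    (hexp : ∀ a ∈ N₂, a ^ m ∈ N₁) (g : N) (hq : ∀ x ∈ P, ⁅⁅x, g⁆, g⁆ = 1) (a : N) (ha : a ∈ N₂) :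
    ∀ (n : ℕ) (U : Subgroup N), U.Normal → U ≤ P → Nat.card U ≤ n →
      ∃ k : ℕ, ∀ u ∈ U, ⁅g, a⁆ ^ (p ^ k) * u = u * ⁅g, a⁆ ^ (p ^ k) := by
  intro n
  induction n with
  | zero =>
    intro U _ _ hcard
    exact absurd hcard (by have := Nat.card_pos (α := U); omega)
  | succ n ih =>
    intro U hUn hUP hcard
    haveI := hUn
    by_cases hU : U = ⊥
    · refine ⟨0, ?_⟩
      intro u hu
      rw [hU, Subgroup.mem_bot] at hu
      rw [hu, mul_one, one_mul]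
    obtain ⟨V, hch⟩ := Cfsg.Agent.Helper1.FT.exists_isChiefFactor_below hUn hU
    have hVn : V.Normal := hch.2.2.1
    haveI := hVn
    have hVU : V < U := hch.1
    have hVcard : Nat.card V ≤ n := by
      have := Cfsg.Agent.Helper1.card_lt_card_of_lt hVU
      omega
    obtain ⟨k₀, hk₀⟩ := ih V hVn (hVU.le.trans hUP) hVcard
    have hUp : IsPGroup p U := hPp.to_le hUP
    set B : Subgroup N := P ⊔ N₁ with hB
    haveI hBn : B.Normal := Subgroup.sup_normal P N₁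
    have hBp : IsPGroup p B := hPp.to_sup_of_normal_right hN₁p
    have hUB : U ≤ B := hUP.trans le_sup_left
    have hab := comm_mem_of_isChiefFactor hch hUp
    have hex := Cfsg.Agent.Helper1.FT.pow_mem_of_isChiefFactor hch hUp
    have hBU := comm_mem_of_isChiefFactor_of_le (B := B) hch hBp hUB
    have hF1 : ∀ a ∈ N₂, ∀ b ∈ N₂, ∀ u ∈ U, ⁅⁅a, b⁆, u⁆ ∈ V := fun a ha b hb u hu =>
      hBU _ (le_sup_right (a := P) (hcomm a ha b hb)) u hu
    have hF2 : ∀ a ∈ N₂, ∀ u ∈ U, ⁅a ^ m, u⁆ ∈ V := fun a ha u hu =>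
      hBU _ (le_sup_right (a := P) (hexp a ha)) u hu
    have hgN₂ : ∀ a ∈ N₂, g⁻¹ * a * g ∈ N₂ := by
      intro a ha
      have := hN₂.conj_mem a ha g⁻¹
      simpa using this
    have hp3 : 2 ≤ p - 1 := by
      have := hp.out.two_le
      omega
    have hE : ∀ u ∈ U, (fun x => ⁅x, g⁆)^[p - 1] u ∈ V := by
      intro u hu
      obtain ⟨j, hj⟩ : ∃ j, p - 1 = j + 2 := ⟨p - 1 - 2, by omega⟩
      rw [hj, Function.iterate_add_apply]
      have h2 : (fun x => ⁅x, g⁆)^[2] u = 1 := hq u (hUP hu)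
      rw [h2, Function.iterate_fixed (commutatorElement_one_left g)]
      exact V.one_mem
    have hres := comm_comm_mem_of_engel U V hab hex N₂ m hm hF1 hF2 g hgN₂ hE a ha
    set e : N := ⁅g, a⁆ with he
    have heC : e ∈ centSec U V := (mem_centSec U V e).2 hres
    have he'C : e ^ (p ^ k₀) ∈ centSec U V := Subgroup.pow_mem _ heC _
    obtain ⟨mV, hmV⟩ := IsPGroup.iff_card.1 (hUp.to_le hVU.le)
    refine ⟨k₀ + mV, ?_⟩
    intro u hu
    set e' : N := e ^ (p ^ k₀) with he'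
    have hv : ⁅e', u⁆ ∈ V := (mem_centSec U V e').1 he'C u hu
    have hcomm' : Commute e' ⁅e', u⁆ := hk₀ _ hv
    have h1 := pow_mul_eq_of_commute hcomm' (p ^ mV)
    have h2 : ⁅e', u⁆ ^ (p ^ mV) = 1 := by
      have : (⟨⁅e', u⁆, hv⟩ : V) ^ Nat.card V = 1 := pow_card_eq_one'
      have h3 := congrArg Subtype.val this
      rw [SubmonoidClass.coe_pow, hmV] at h3
      exact h3
    rw [h2, one_mul] at h1
    have h3 : e ^ (p ^ (k₀ + mV)) = e' ^ (p ^ mV) := by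
      rw [he', ← pow_mul, pow_add]
    rw [h3]
    exact h1

end

section stable

variable {N : Type*} [Group N] [Finite N] {p : ℕ} [hp : Fact p.Prime]

/-- The key step: in a group of the class `InC`, an element acting quadratically on the normal
`p`-subgroup `P` lies in `O_p` modulo the centralizer of `P` (`p` odd). -/
theorem mk_mem_pCore_of_quadratic (hp2 : p ≠ 2) (hN : InC p N)
    (P : Subgroup N) [hP : P.Normal] (hPp : IsPGroup p P) (g : N) (hq : ∀ x ∈ P, ⁅⁅x, g⁆, g⁆ = 1)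
    (C₀ : Subgroup N) [hC₀n : C₀.Normal] (hC₀ : ∀ x, x ∈ C₀ ↔ ∀ y ∈ P, y * x = x * y) :
    (QuotientGroup.mk' C₀ g) ∈ Cfsg.pCore p (N ⧸ C₀) := by
  classical
  obtain ⟨N₁, N₂, hN₁n, hN₂n, hN₁p, hcomm, ⟨m, hm, hexp⟩, hpk⟩ := hN
  haveI := hN₁n
  haveI := hN₂n
  set π : N →* N ⧸ C₀ := QuotientGroup.mk' C₀ with hπ
  have hπs : Function.Surjective π := QuotientGroup.mk'_surjective C₀
  have hπ1 : ∀ x : N, π x = 1 ↔ x ∈ C₀ := fun x => QuotientGroup.eq_one_iff x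
  set M₁ : Subgroup (N ⧸ C₀) := N₁.map π with hM₁
  set M₂ : Subgroup (N ⧸ C₀) := N₂.map π with hM₂
  haveI hM₁n : M₁.Normal := hN₁n.map π hπs
  haveI hM₂n : M₂.Normal := hN₂n.map π hπs
  have hM₁p : IsPGroup p M₁ := hN₁p.map π
  -- Step a
  have hstepa : ∀ a ∈ N₂, π ⁅g, a⁆ ∈ M₁ := by
    intro a ha
    obtain ⟨k, hk⟩ := exists_pow_comm_of_quadratic hp2 N₁ N₂ P hN₁p hPp hcomm m hm hexp g hq a ha
      (Nat.card P) P hP le_rfl le_rfl
    set e : N := ⁅g, a⁆ with he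
    have heN₂ : e ∈ N₂ := by
      rw [he, commutatorElement_def]
      exact N₂.mul_mem (hN₂n.conj_mem a ha g) (N₂.inv_mem ha)
    have h1 : e ^ (p ^ k) ∈ C₀ := (hC₀ _).2 fun y hy => (hk y hy).symm
    have h2 : e ^ m ∈ N₁ := hexp e heN₂
    have hcop : Nat.Coprime m (p ^ k) := Nat.Coprime.pow_right k hm
    have hbez := Nat.gcd_eq_gcd_ab m (p ^ k)
    rw [hcop] at hbez
    have h3 : e = (e ^ m) ^ (Nat.gcdA m (p ^ k)) * (e ^ (p ^ k)) ^ (Nat.gcdB m (p ^ k)) := by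
      rw [← zpow_natCast e m, ← zpow_natCast e (p ^ k), ← zpow_mul, ← zpow_mul, ← zpow_add,
        ← hbez]
      simp
    rw [h3, map_mul]
    have h4 : π ((e ^ (p ^ k)) ^ (Nat.gcdB m (p ^ k))) = 1 :=
      (hπ1 _).2 (C₀.zpow_mem h1 _)
    rw [h4, mul_one]
    exact Subgroup.mem_map_of_mem π (N₁.zpow_mem h2 _)
  -- Step b
  obtain ⟨nP, hnP⟩ := IsPGroup.iff_card.1 hPp
  have hstepb : (π g) ^ (p ^ nP) = 1 := by
    rw [← map_pow, hπ1, hC₀]
    intro y hy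
    have h1 : ⁅⁅y, g⁆, g⁆ = 1 := hq y hy
    have h2 : Commute ⁅y, g⁆ g := by
      rw [commutatorElement_eq_one_iff_commute] at h1
      exact h1
    have h3 : Commute g ⁅g, y⁆ := by
      have : ⁅g, y⁆ = ⁅y, g⁆⁻¹ := (commutatorElement_inv y g).symm
      rw [this]
      exact (h2.inv_left).symm
    have h4 := pow_mul_eq_of_commute h3 (p ^ nP)
    have h5 : ⁅g, y⁆ ∈ P := by
      rw [commutatorElement_def]
      exact P.mul_mem (hP.conj_mem y hy g) (P.inv_mem hy)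
    have h6 : ⁅g, y⁆ ^ (p ^ nP) = 1 := by
      have : (⟨⁅g, y⁆, h5⟩ : P) ^ Nat.card P = 1 := pow_card_eq_one'
      have h7 := congrArg Subtype.val this
      rw [SubmonoidClass.coe_pow, hnP] at h7
      exact h7
    rw [h6, one_mul] at h4
    exact h4.symm
  -- Step c
  have hzp : IsPGroup p (Subgroup.zpowers (π g)) := by
    rintro ⟨x, hx⟩
    obtain ⟨i, rfl⟩ := Subgroup.mem_zpowers_iff.1 hx
    refine ⟨nP, Subtype.ext ?_⟩
    show ((π g) ^ i) ^ (p ^ nP) = 1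
    rw [← zpow_natCast, ← zpow_mul, mul_comm, zpow_mul, zpow_natCast, hstepb, one_zpow]
  obtain ⟨S, hS⟩ := hzp.exists_le_sylow
  have hgS : π g ∈ (S : Subgroup (N ⧸ C₀)) := hS (Subgroup.mem_zpowers _)
  have hM₁S : M₁ ≤ (S : Subgroup (N ⧸ C₀)) := hM₁p.le_sylow_of_normal S
  -- Step d
  set E : Subgroup (N ⧸ C₀) := centSec M₂ M₁ with hE
  haveI hEn : E.Normal := centSec_normal M₂ M₁
  have hEmem : ∀ x, x ∈ E ↔ ∀ u ∈ M₂, ⁅x, u⁆ ∈ M₁ := mem_centSec M₂ M₁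
  set D : Subgroup (N ⧸ C₀) := (S : Subgroup (N ⧸ C₀)) ⊓ E with hD
  have hgD : π g ∈ D := by
    refine ⟨hgS, (hEmem _).2 ?_⟩
    rintro _ ⟨a, ha, rfl⟩
    rw [← map_commutatorElement]
    exact hstepa a ha
  have hSD : (S : Subgroup (N ⧸ C₀)) ≤ Subgroup.normalizer (D : Set (N ⧸ C₀)) := by
    apply le_normalizer_of_conj_comm_mem
    intro t ht x hx
    refine D.mul_mem (D.inv_mem hx) ⟨?_, ?_⟩
    · exact Subgroup.mul_mem _ (Subgroup.mul_mem _ (Subgroup.inv_mem _ ht) hx.1) ht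
    · have := hEn.conj_mem x hx.2 t⁻¹
      simpa using this
  have hMD : M₂ ≤ Subgroup.normalizer (D : Set (N ⧸ C₀)) := by
    apply le_normalizer_of_conj_comm_mem
    intro a ha x hx
    have h1 : ⁅x⁻¹, a⁻¹⁆ ∈ M₁ := (hEmem _).1 (E.inv_mem hx.2) _ (M₂.inv_mem ha)
    have e : x⁻¹ * (a⁻¹ * x * a) = ⁅x⁻¹, a⁻¹⁆ := by
      rw [commutatorElement_def]; group
    rw [e]
    refine ⟨hM₁S h1, ?_⟩
    rw [← e]
    refine E.mul_mem (E.inv_mem hx.2) ?_
    have := hEn.conj_mem x hx.2 a⁻¹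
    simpa using this
  have hSM : (S : Subgroup (N ⧸ C₀)) ⊔ M₂ = ⊤ := by
    have hquot : IsPGroup p ((N ⧸ C₀) ⧸ M₂) := by
      intro z
      obtain ⟨z', rfl⟩ := QuotientGroup.mk'_surjective M₂ z
      obtain ⟨y, rfl⟩ := hπs z'
      obtain ⟨k, hk⟩ := hpk y
      refine ⟨k, ?_⟩
      rw [← map_pow, ← map_pow]
      exact (QuotientGroup.eq_one_iff _).2 (Subgroup.mem_map_of_mem π hk)
    obtain ⟨j, hj⟩ := IsPGroup.iff_card.1 hquot
    have h1 : M₂.index = p ^ j := by rw [Subgroup.index_eq_card]; exact hj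
    have h2 : ((S : Subgroup (N ⧸ C₀)) ⊔ M₂).index ∣ p ^ j :=
      h1 ▸ Subgroup.index_dvd_of_le le_sup_right
    have h3 : ((S : Subgroup (N ⧸ C₀)) ⊔ M₂).index ∣ (S : Subgroup (N ⧸ C₀)).index :=
      Subgroup.index_dvd_of_le le_sup_left
    have h4 : ((S : Subgroup (N ⧸ C₀)).index).Coprime p := by
      rw [Nat.coprime_comm, hp.out.coprime_iff_not_dvd]
      exact S.not_dvd_index
    have h5 : (((S : Subgroup (N ⧸ C₀)) ⊔ M₂).index).Coprime (p ^ j) :=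
      Nat.Coprime.pow_right j (Nat.Coprime.coprime_dvd_left h3 h4)
    exact Subgroup.index_eq_one.1 (Nat.Coprime.eq_one_of_dvd h5 h2)
  have hDn : D.Normal := by
    rw [← Subgroup.normalizer_eq_top_iff]
    exact top_le_iff.mp (hSM ▸ sup_le hSD hMD)
  have hDB : D ≤ Cfsg.pCore p (N ⧸ C₀) :=
    Cfsg.Agent.Helper1.le_pCore hDn (S.2.to_le inf_le_left)
  exact hDB hgD

/-- Groups of the class `InC` are `p`-stable in the normalizer form (`p` odd). -/
theorem isNormalizerPStable_of_inC (hp2 : p ≠ 2) (hN : InC p N) : Cfsg.IsNormalizerPStable p N := by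
  intro P hP g hg hquad
  have hNN : InC p ↥(Subgroup.normalizer (P : Set N)) := hN.subgroup _
  haveI : (P.subgroupOf (Subgroup.normalizer (P : Set N))).Normal := Subgroup.normal_in_normalizer
  refine mk_mem_pCore_of_quadratic hp2 hNN (P.subgroupOf (Subgroup.normalizer (P : Set N)))
    hP.comap_subtype ⟨g, hg⟩ ?_
    ((Subgroup.centralizer (P : Set N)).subgroupOf (Subgroup.normalizer (P : Set N))) ?_
  · intro x hx
    apply Subtype.ext
    have h1 : ⁅⁅(x : N), g⁆, g⁆ ∈ ⁅⁅P, Subgroup.zpowers g⁆, Subgroup.zpowers g⁆ :=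
      Subgroup.commutator_mem_commutator
        (Subgroup.commutator_mem_commutator hx (Subgroup.mem_zpowers g)) (Subgroup.mem_zpowers g)
    rw [hquad, Subgroup.mem_bot] at h1
    exact h1
  · intro x
    rw [Subgroup.mem_subgroupOf, Subgroup.mem_centralizer_iff]
    constructor
    · intro h y hy
      apply Subtype.ext
      exact h y hy
    · intro h y hy
      have hyN : y ∈ Subgroup.normalizer (P : Set N) := Subgroup.le_normalizer hy
      have := h ⟨y, hyN⟩ hy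
      exact congrArg Subtype.val this

end stable

end Cfsg.Agent.Helper1.QA
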