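import Mathlib
import Cfsg.Agent.Helper1.QAf
import Cfsg.Agent.Helper1.FrobPCompl2
import Cfsg.Agent.Helper1.FTA
import Cfsg.Agent.Lead.WellPlaced

/-!
# Groups with a maximal Sylow `p`-subgroup: the class `InC` and control of strong fusion
-/

set_option autoImplicit false

namespace Cfsg.Agent.Helper1.QA

open scoped commutatorElement

variable {X : Type*} [Group X] [Finite X] {p : ℕ} [hp : Fact p.Prime]

/-- A group `X` with `X / O_p(X)` `p`-nilpotent whose Sylow `p`-subgroup is a maximal subgroup lies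
in the class `InC`. -/
theorem inC_of_coatom (hnc : Cfsg.HasNormalPComplement p (X ⧸ Cfsg.pCore p X))
    (T : Sylow p X) (hT : IsCoatom (T : Subgroup X)) : InC p X := by
  classical
  set B₀ : Subgroup X := Cfsg.pCore p X with hB₀
  have hB₀p : IsPGroup p B₀ := Cfsg.Agent.Helper1.pCore_isPGroup p
  set π : X →* X ⧸ B₀ := QuotientGroup.mk' B₀ with hπ
  have hπs : Function.Surjective π := QuotientGroup.mk'_surjective B₀
  have hker : π.ker = B₀ := QuotientGroup.ker_mk' B₀
  obtain ⟨P', K, hKn, hKc⟩ := hnc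
  haveI := hKn
  set L : Subgroup X := K.comap π with hL
  haveI hLn : L.Normal := hKn.comap π
  have hB₀L : B₀ ≤ L := hker.ge.trans (Subgroup.ker_le_comap π K)
  have hLmap : L.map π = K := Subgroup.map_comap_eq_self_of_surjective hπs K
  have hrel : B₀.relIndex L = Nat.card K := by
    rw [← Subgroup.relIndex_bot_left, ← hLmap, ← Subgroup.relIndex_comap, MonoidHom.comap_bot, hker]
  have hcop : (B₀.relIndex L).Coprime p := by
    rw [hrel, ← hKc.index_eq_card, Nat.coprime_comm, hp.out.coprime_iff_not_dvd]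
    exact P'.not_dvd_index
  have hLab : ⁅L, L⁆ ≤ B₀ := commutator_le_of_coatom_sylow B₀ L hB₀L hcop T hT
  have hLpow : ∀ a ∈ L, a ^ (B₀.relIndex L) ∈ B₀ := by
    intro a ha
    rw [hrel, ← hker, MonoidHom.mem_ker, map_pow]
    have h1 : (⟨π a, ha⟩ : K) ^ Nat.card K = 1 := pow_card_eq_one'
    have h2 := congrArg Subtype.val h1
    rw [SubmonoidClass.coe_pow] at h2
    exact h2
  obtain ⟨n, hn⟩ := IsPGroup.iff_card.1 P'.2
  have hKidx : K.index = p ^ n := by rw [hKc.symm.index_eq_card, hn]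
  refine ⟨B₀, L, inferInstance, hLn, hB₀p,
    fun a ha b hb => hLab (Subgroup.commutator_mem_commutator ha hb),
    ⟨B₀.relIndex L, hcop, hLpow⟩, ?_⟩
  intro y
  refine ⟨n, ?_⟩
  show π (y ^ (p ^ n)) ∈ K
  rw [map_pow, ← QuotientGroup.eq_one_iff, QuotientGroup.mk_pow, ← hKidx, Subgroup.index_eq_card]
  exact pow_card_eq_one'

/-- If the Sylow `p`-subgroup `T` of the `p`-constrained group `X` is a maximal subgroup and `U₀`
is normalized by `T` and controls strong fusion, then `U₀` is normal in `X`. -/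
theorem normal_of_controlsStrongFusion
    (hc : Subgroup.centralizer ((Cfsg.pCore p X : Subgroup X) : Set X) ≤ Cfsg.pCore p X)
    (T : Sylow p X) (hT : IsCoatom (T : Subgroup X)) (U₀ : Subgroup X)
    (hTU : (T : Subgroup X) ≤ Subgroup.normalizer (U₀ : Set X))
    (hctl : Cfsg.ControlsStrongFusion p U₀) : U₀.Normal := by
  classical
  rcases eq_or_lt_of_le hTU with h | h
  · exfalso
    obtain ⟨T', hUT', hcsf⟩ := hctl
    have hfrob : ∃ M : Subgroup X, M.Normal ∧ M.IsComplement' (T' : Subgroup X) := by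
      rw [Cfsg.Agent.Helper1.frobenius_normal_pcomplement_iff T']
      intro Q hQ x hx hcop
      obtain ⟨-, hcs⟩ := hcsf (Q : Set X) (fun a ha => hQ ha)
      have hxQ : ∀ a ∈ Q, x * a * x⁻¹ ∈ Q := fun a ha => (Subgroup.mem_normalizer_iff.1 hx a).1 ha
      have himg : (fun a => x * a * x⁻¹) '' (Q : Set X) ⊆ (T' : Subgroup X) := by
        rintro _ ⟨a, ha, rfl⟩
        exact hQ (hxQ a ha)
      obtain ⟨n, hnN, hn⟩ := hcs x himg
      have hnT : n ∈ (T : Subgroup X) := by rw [h]; exact hnN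
      obtain ⟨j, hj⟩ : ∃ j : ℕ, n ^ (p ^ j) = 1 := by
        obtain ⟨j, hj⟩ := T.2 ⟨n, hnT⟩
        exact ⟨j, by simpa using congrArg Subtype.val hj⟩
      have key : ∀ i : ℕ, ∀ a ∈ Q, x ^ i * a * (x ^ i)⁻¹ = n ^ i * a * (n ^ i)⁻¹ := by
        intro i
        induction i with
        | zero => intro a _; simp
        | succ i ih =>
          intro a ha
          have h1 := hn a ha
          have h2 := ih (x * a * x⁻¹) (hxQ a ha)
          calc x ^ (i + 1) * a * (x ^ (i + 1))⁻¹ = x ^ i * (x * a * x⁻¹) * (x ^ i)⁻¹ := by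
                rw [pow_succ]; group
            _ = n ^ i * (x * a * x⁻¹) * (n ^ i)⁻¹ := h2
            _ = n ^ i * (n * a * n⁻¹) * (n ^ i)⁻¹ := by rw [h1]
            _ = n ^ (i + 1) * a * (n ^ (i + 1))⁻¹ := by rw [pow_succ]; group
      rw [Subgroup.mem_centralizer_iff]
      intro a ha
      have h1 : x ^ (p ^ j) * a * (x ^ (p ^ j))⁻¹ = a := by
        rw [key _ a ha, hj]; simp
      have h2 : Commute (x ^ (p ^ j)) a := by
        show x ^ (p ^ j) * a = a * x ^ (p ^ j)
        calc x ^ (p ^ j) * a = (x ^ (p ^ j) * a * (x ^ (p ^ j))⁻¹) * x ^ (p ^ j) := by group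
          _ = a * x ^ (p ^ j) := by rw [h1]
      have hcop' : Nat.Coprime (p ^ j) (orderOf x) := (Nat.Coprime.pow_right j hcop).symm
      have hbez := Nat.gcd_eq_gcd_ab (p ^ j) (orderOf x)
      rw [hcop'] at hbez
      have h3 : x = (x ^ (p ^ j)) ^ (Nat.gcdA (p ^ j) (orderOf x)) := by
        have : x = (x ^ (p ^ j)) ^ (Nat.gcdA (p ^ j) (orderOf x)) *
            (x ^ (orderOf x)) ^ (Nat.gcdB (p ^ j) (orderOf x)) := by
          rw [← zpow_natCast x (p ^ j), ← zpow_natCast x (orderOf x), ← zpow_mul, ← zpow_mul,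
            ← zpow_add, ← hbez]
          simp
        rw [pow_orderOf_eq_one, one_zpow, mul_one] at this
        exact this
      have h4 : Commute x a := by
        rw [h3]; exact h2.zpow_left _
      exact h4.eq.symm
    obtain ⟨M, hMn, hMc⟩ := hfrob
    haveI := hMn
    set B₀ : Subgroup X := Cfsg.pCore p X with hB₀
    have hB₀p : IsPGroup p B₀ := Cfsg.Agent.Helper1.pCore_isPGroup p
    have hMcop : (Nat.card M).Coprime p := by
      rw [← hMc.index_eq_card, Nat.coprime_comm, hp.out.coprime_iff_not_dvd]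
      exact T'.not_dvd_index
    have hMB : M ⊓ B₀ = ⊥ := by
      obtain ⟨k, hk⟩ := IsPGroup.iff_card.1 hB₀p
      apply Disjoint.eq_bot
      apply Subgroup.disjoint_of_coprime_natCard
      rw [hk]
      exact Nat.Coprime.pow_right k hMcop
    have hMC : M ≤ Subgroup.centralizer (B₀ : Set X) := by
      rw [← Subgroup.commutator_eq_bot_iff_le_centralizer, eq_bot_iff, ← hMB]
      exact le_inf (Subgroup.commutator_le_left M B₀) (Subgroup.commutator_le_right M B₀)
    have hMbot : M = ⊥ := by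
      rw [eq_bot_iff, ← hMB]
      exact le_inf le_rfl (hMC.trans hc)
    have hT'top : (T' : Subgroup X) = ⊤ := by
      rw [hMbot] at hMc
      exact Subgroup.isComplement'_bot_left.1 hMc
    have htopp : IsPGroup p (⊤ : Subgroup X) := hT'top ▸ T'.2
    have hTtop : (⊤ : Subgroup X) = T := T.is_maximal' htopp le_top
    exact hT.1 hTtop.symm
  · exact Subgroup.normalizer_eq_top_iff.1 (hT.2 _ h)

end Cfsg.Agent.Helper1.QA
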