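import Mathlib
import Cfsg.Prelude.Def_Local
import Cfsg.Agent.Helper1.FFact1
import Cfsg.Agent.Helper2.PComp1
import Cfsg.Agent.Helper4.SubnormalPRad
import Cfsg.Agent.Helper4.SolvPSolv
import Cfsg.Agent.Helper4.HallHigman
import Cfsg.Agent.Lead.PSolvC
import Cfsg.Agent.Lead.NA8C

set_option autoImplicit false

/-!
`p'`-cores of subgroups (`ppc`), and extensions of `p`-solvable groups.
-/

namespace Cfsg.Agent.Helper1.QCore

open scoped Pointwise commutatorElement

open Cfsg.Agent.Helper1 Cfsg.Agent.Helper1.FFact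

universe u

variable {G : Type u} [Group G]

/-- `O_{p'}(H)` is normalized by `N_G(H)`. -/
theorem normalizer_le_normalizer_ppc (p : ℕ) (H : Subgroup G) :
    Subgroup.normalizer (H : Set G) ≤ Subgroup.normalizer (ppc p H : Set G) := by
  haveI : (Cfsg.pPrimeCore p ↥H).Characteristic := Cfsg.Agent.Helper2.pPrimeCore_characteristic p
  exact Cfsg.Agent.Lead.NA8.normalizer_le_of_char H (Cfsg.pPrimeCore p ↥H)

/-- A normal `p'`-subgroup of `K` lies in `O_{p'}(K)`. -/
theorem le_ppc {p : ℕ} {K M : Subgroup G} (hMK : M ≤ K)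
    (hn : K ≤ Subgroup.normalizer (M : Set G)) (hc : (Nat.card M).Coprime p) : M ≤ ppc p K := by
  have hnorm : (M.subgroupOf K).Normal := by
    constructor
    intro x hx k
    rw [Subgroup.mem_subgroupOf] at hx ⊢
    have := (Subgroup.mem_normalizer_iff.1 (hn k.2) (x : G)).1 hx
    simpa using this
  have hcard : (Nat.card (M.subgroupOf K)).Coprime p := by
    rw [Nat.card_congr (Subgroup.subgroupOfEquivOfLe hMK).toEquiv]; exact hc
  have h1 := le_pPrimeCore hnorm hcard
  intro m hm
  exact ⟨⟨m, hMK hm⟩, h1 (Subgroup.mem_subgroupOf.2 hm), rfl⟩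

/-- A nontrivial `p`-solvable normal subgroup contains a nontrivial normal `p`- or `p'`-subgroup
of the whole group. -/
theorem exists_normal_of_isPSolvable [Finite G] {p : ℕ} [hp : Fact p.Prime] (N : Subgroup G)
    [hNn : N.Normal] (hN : Cfsg.IsPSolvable p ↥N) (hN1 : N ≠ ⊥) :
    ∃ M : Subgroup G, M.Normal ∧ M ≤ N ∧ M ≠ ⊥ ∧
      ((∃ m : ℕ, Nat.card M = p ^ m) ∨ (Nat.card M).Coprime p) := by
  have htop : Subgroup.normalizer (N : Set G) = ⊤ := Subgroup.normalizer_eq_top N
  by_cases hA : Cfsg.pPrimeCore p ↥N = ⊥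
  · -- `O_p(N) ≠ 1`
    have hHH := Cfsg.Agent.Helper4.centralizer_pCore_le_of_isPSolvable hN hA
    have hB : Cfsg.pCore p ↥N ≠ ⊥ := by
      intro hb
      apply hN1
      rw [eq_bot_iff]
      intro x hx
      have h1 : (⟨x, hx⟩ : ↥N) ∈ Subgroup.centralizer (Cfsg.pCore p ↥N : Set ↥N) := by
        rw [hb, Subgroup.mem_centralizer_iff]
        intro y hy
        have : y = 1 := hy
        rw [this, one_mul, mul_one]
      have h2 := hHH h1
      rw [hb, Subgroup.mem_bot] at h2
      rw [Subgroup.mem_bot]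
      exact congrArg Subtype.val h2
    haveI : (Cfsg.pCore p ↥N).Characteristic := Cfsg.Agent.Helper4.SubnormalPRad.pCore_char p ↥N
    refine ⟨(Cfsg.pCore p ↥N).map N.subtype, ?_, Subgroup.map_subtype_le _, ?_, Or.inl ?_⟩
    · have h1 := Cfsg.Agent.Lead.NA8.normalizer_le_of_char N (Cfsg.pCore p ↥N)
      rw [htop] at h1
      exact Subgroup.normalizer_eq_top_iff.1 (top_le_iff.1 h1)
    · intro hb
      apply hB
      exact (Subgroup.map_eq_bot_iff_of_injective _ N.subtype_injective).1 hb
    · rw [Subgroup.card_map_of_injective N.subtype_injective]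
      exact (Cfsg.Agent.Helper5.isPGroup_pCore p).exists_card_eq
  · refine ⟨ppc p N, ?_, ppc_le p N, ?_, Or.inr (card_ppc_coprime p N)⟩
    · have h1 := normalizer_le_normalizer_ppc p N
      rw [htop] at h1
      exact Subgroup.normalizer_eq_top_iff.1 (top_le_iff.1 h1)
    · intro hb
      apply hA
      exact (Subgroup.map_eq_bot_iff_of_injective _ N.subtype_injective).1 hb

theorem isPSolvable_ext_aux (p : ℕ) [hp : Fact p.Prime] :
    ∀ n : ℕ, ∀ (G : Type u) [Group G] [Finite G], Nat.card G = n → ∀ (N : Subgroup G)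
      [N.Normal], Cfsg.IsPSolvable p ↥N → Cfsg.IsPSolvable p (G ⧸ N) → Cfsg.IsPSolvable p G := by
  intro n
  induction n using Nat.strong_induction_on with
  | _ n ih =>
    intro G _ _ hcard N hNn hN hQ
    by_cases hN1 : N = ⊥
    · refine Cfsg.Agent.Helper4.SolvPSolv.isPSolvable_of_quotient N (Or.inl ⟨0, ?_⟩) hQ
      rw [hN1, pow_zero]
      exact Subgroup.card_bot
    · obtain ⟨M, hMn, hMN, hM1, hMc⟩ := exists_normal_of_isPSolvable N hN hN1
      haveI := hMn
      apply Cfsg.Agent.Helper4.SolvPSolv.isPSolvable_of_quotient M hMc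
      have hlt : Nat.card (G ⧸ M) < n := by
        rw [← hcard, ← Subgroup.index_eq_card, ← Subgroup.card_mul_index M]
        have h1 : 1 < Nat.card M := by
          rw [Subgroup.one_lt_card_iff_ne_bot]; exact hM1
        have h2 : 0 < M.index := Nat.pos_of_ne_zero Subgroup.index_ne_zero_of_finite
        nlinarith
      haveI hmapn : (N.map (QuotientGroup.mk' M)).Normal :=
        hNn.map _ (QuotientGroup.mk'_surjective M)
      refine ih _ hlt (G ⧸ M) rfl (N.map (QuotientGroup.mk' M)) ?_ ?_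
      · exact Cfsg.Agent.Lead.PSolvGL2.isPSolvable_of_surjective ((QuotientGroup.mk' M).subgroupMap N)
          ((QuotientGroup.mk' M).subgroupMap_surjective N) hN
      · have e := QuotientGroup.quotientQuotientEquivQuotient M N hMN
        exact Cfsg.Agent.Lead.PSolvGL2.isPSolvable_of_surjective e.symm.toMonoidHom e.symm.surjective hQ

/-- An extension of a `p`-solvable group by a `p`-solvable group is `p`-solvable. -/
theorem isPSolvable_ext [Finite G] {p : ℕ} [hp : Fact p.Prime] (N : Subgroup G) [N.Normal]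
    (hN : Cfsg.IsPSolvable p ↥N) (hQ : Cfsg.IsPSolvable p (G ⧸ N)) : Cfsg.IsPSolvable p G :=
  isPSolvable_ext_aux p _ G rfl N hN hQ

end Cfsg.Agent.Helper1.QCore
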