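import Mathlib
import Cfsg.Prelude.Def_Local
import Cfsg.Agent.Helper1.QCoreA
import Cfsg.Agent.S0661

set_option autoImplicit false

/-!
`O_{q'}(N_H(Q)) ≤ O_{q'}(H)` for `q`-solvable `H`, in subgroup form, and a consequence for
`O_{q'}(C_K(z))`.
-/

namespace Cfsg.Agent.Helper1.QCore

open scoped Pointwise commutatorElement

open Cfsg.Agent.Helper1 Cfsg.Agent.Helper1.FFact

universe u

variable {G : Type u} [Group G]

/-- In a `q`-solvable subgroup `H`, a `q'`-subgroup `D ≤ N_H(Q)` normalized by `N_H(Q)` (`Q` a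
`q`-subgroup of `H`) lies in `O_{q'}(H)`. -/
theorem le_ppc_of_normalizer [Finite G] {q : ℕ} [hq : Fact q.Prime] {H Q D : Subgroup G}
    (hH : Cfsg.IsPSolvable q ↥H) (hQH : Q ≤ H) (hQ : IsPGroup q ↥Q) (hDH : D ≤ H)
    (hDQ : D ≤ Subgroup.normalizer (Q : Set G))
    (hDn : H ⊓ Subgroup.normalizer (Q : Set G) ≤ Subgroup.normalizer (D : Set G))
    (hDc : (Nat.card D).Coprime q) : D ≤ ppc q H := by
  have hc := Cfsg.Agent.Helper4.centralizer_pCore_le_of_isPSolvable
    (Cfsg.Agent.Helper4.isPSolvable_quotient hH (Cfsg.pPrimeCore q ↥H))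
    (Cfsg.Agent.Helper4.pPrimeCore_quotient_eq_bot q)
  set P' : Subgroup ↥H := Q.subgroupOf H with hP'
  have hP'q : IsPGroup q ↥P' := hQ.comap_subtype
  have res := Cfsg.Agent.S0661.result hc P' hP'q
  -- membership in the normalizer of `P'`
  have hmemN : ∀ x : ↥H, (x : G) ∈ Subgroup.normalizer (Q : Set G) →
      x ∈ Subgroup.normalizer (P' : Set ↥H) := by
    intro x hx
    rw [Subgroup.mem_normalizer_iff]
    intro y
    rw [hP', Subgroup.mem_subgroupOf, Subgroup.mem_subgroupOf]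
    have := Subgroup.mem_normalizer_iff.1 hx (y : G)
    simpa using this
  have hNmem : ∀ x : ↥H, x ∈ Subgroup.normalizer (P' : Set ↥H) →
      (x : G) ∈ Subgroup.normalizer (Q : Set G) := by
    intro x hx
    apply Subgroup.mem_normalizer_fintype
    intro y hy
    have := (Subgroup.mem_normalizer_iff.1 hx ⟨y, hQH hy⟩).1 (Subgroup.mem_subgroupOf.2 hy)
    rw [hP', Subgroup.mem_subgroupOf] at this
    simpa using this
  set D' : Subgroup ↥H := D.subgroupOf H with hD'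
  set NP := Subgroup.normalizer (P' : Set ↥H) with hNP
  have hD'N : D' ≤ NP := by
    intro x hx
    rw [hD', Subgroup.mem_subgroupOf] at hx
    exact hmemN x (hDQ hx)
  set D'' : Subgroup ↥NP := D'.subgroupOf NP with hD''
  have hnorm : D''.Normal := by
    constructor
    intro x hx n
    rw [hD'', Subgroup.mem_subgroupOf, hD', Subgroup.mem_subgroupOf] at hx ⊢
    have hn : ((n : ↥H) : G) ∈ H ⊓ Subgroup.normalizer (Q : Set G) :=
      ⟨(n : ↥H).2, hNmem _ n.2⟩
    have := (Subgroup.mem_normalizer_iff.1 (hDn hn) ((x : ↥H) : G)).1 hx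
    simpa using this
  have hcard : (Nat.card D'').Coprime q := by
    rw [hD'', Nat.card_congr (Subgroup.subgroupOfEquivOfLe hD'N).toEquiv, hD',
      Nat.card_congr (Subgroup.subgroupOfEquivOfLe hDH).toEquiv]
    exact hDc
  have h1 := le_pPrimeCore hnorm hcard
  intro d hd
  have hdH : d ∈ H := hDH hd
  have hd' : (⟨d, hdH⟩ : ↥H) ∈ D' := Subgroup.mem_subgroupOf.2 hd
  have hd'' : (⟨⟨d, hdH⟩, hD'N hd'⟩ : ↥NP) ∈ D'' := Subgroup.mem_subgroupOf.2 hd'
  have h2 : (⟨d, hdH⟩ : ↥H) ∈ (Cfsg.pPrimeCore q ↥NP).map NP.subtype :=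
    ⟨⟨⟨d, hdH⟩, hD'N hd'⟩, h1 hd'', rfl⟩
  rw [res] at h2
  exact ⟨⟨d, hdH⟩, h2.1, rfl⟩

end Cfsg.Agent.Helper1.QCore
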