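import Mathlib
import Cfsg.Prelude.Def_Local
import Cfsg.Agent.Helper1.QCoreB

set_option autoImplicit false

/-!
`O_{q'}(C_K(z)) ∩ N ≤ O_{q'}(K)` for a `q`-solvable normal subgroup `N` of `K` and a `q`-element
`z` of `K`.
-/

namespace Cfsg.Agent.Helper1.QCore

open scoped Pointwise commutatorElement

open Cfsg.Agent.Helper1 Cfsg.Agent.Helper1.FFact

universe u

variable {G : Type u} [Group G]

theorem isPSolvable_of_coprime {p : ℕ} (h : (Nat.card G).Coprime p) : Cfsg.IsPSolvable p G := by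
  refine ⟨1, ![⊥, ⊤], rfl, rfl, ?_, ?_, ?_⟩
  · rw [Fin.monotone_iff_le_succ]
    intro i
    fin_cases i
    exact bot_le
  · intro i
    fin_cases i
    · exact (inferInstance : (⊥ : Subgroup G).Normal)
    · exact (inferInstance : (⊤ : Subgroup G).Normal)
  · intro i
    fin_cases i
    right
    show ((⊥ : Subgroup G).relIndex ⊤).Coprime p
    rw [Subgroup.relIndex_top_right, Subgroup.index_bot]
    exact h

/-- The join of a `q`-solvable subgroup with a `q`-solvable subgroup normalizing it. -/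
theorem isPSolvable_sup [Finite G] {q : ℕ} [hq : Fact q.Prime] {N A : Subgroup G}
    (hN : Cfsg.IsPSolvable q ↥N) (hAN : A ≤ Subgroup.normalizer (N : Set G))
    (hA : Cfsg.IsPSolvable q ↥A) : Cfsg.IsPSolvable q ↥(N ⊔ A) := by
  set N' : Subgroup ↥(N ⊔ A) := N.subgroupOf (N ⊔ A) with hN'
  haveI hN'n : N'.Normal := by
    constructor
    intro x hx k
    rw [hN', Subgroup.mem_subgroupOf] at hx ⊢
    have hk : (k : G) ∈ Subgroup.normalizer (N : Set G) :=
      (sup_le Subgroup.le_normalizer hAN) k.2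
    have := (Subgroup.mem_normalizer_iff.1 hk (x : G)).1 hx
    simpa using this
  apply isPSolvable_ext N'
  · exact Cfsg.Agent.Lead.PSolvGL2.isPSolvable_of_surjective
      (Subgroup.subgroupOfEquivOfLe (le_sup_left : N ≤ N ⊔ A)).symm.toMonoidHom
      (Subgroup.subgroupOfEquivOfLe (le_sup_left : N ≤ N ⊔ A)).symm.surjective hN
  · set f : ↥A →* ↥(N ⊔ A) ⧸ N' :=
      (QuotientGroup.mk' N').comp (Subgroup.inclusion (le_sup_right : A ≤ N ⊔ A)) with hf
    refine Cfsg.Agent.Lead.PSolvGL2.isPSolvable_of_surjective f ?_ hA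
    intro y
    obtain ⟨x, rfl⟩ := QuotientGroup.mk'_surjective N' y
    obtain ⟨n, hn, a, ha, hx⟩ := mem_sup_of_le_normalizer hAN x.2
    refine ⟨⟨a, ha⟩, ?_⟩
    rw [hf, MonoidHom.comp_apply, QuotientGroup.mk'_apply, QuotientGroup.mk'_apply,
      QuotientGroup.eq]
    rw [hN', Subgroup.mem_subgroupOf]
    have : ((Subgroup.inclusion (le_sup_right : A ≤ N ⊔ A) ⟨a, ha⟩)⁻¹ * x : ↥(N ⊔ A)).1 =
        a⁻¹ * (n * a) := by
      rw [← hx]; rfl
    rw [this]
    have hna : a⁻¹ ∈ Subgroup.normalizer (N : Set G) := Subgroup.inv_mem _ (hAN ha)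
    have := (Subgroup.mem_normalizer_iff.1 hna n).1 hn
    simpa [mul_assoc] using this

/-- `O_{q'}(C_K(z)) ∩ N ≤ O_{q'}(K)`. -/
theorem inf_le_ppc [Finite G] {q : ℕ} [hq : Fact q.Prime] {K N : Subgroup G} (hNK : N ≤ K)
    (hKN : K ≤ Subgroup.normalizer (N : Set G)) (hN : Cfsg.IsPSolvable q ↥N) {z : G}
    (hzK : z ∈ K) (hz : ∃ k : ℕ, orderOf z = q ^ k) :
    ppc q (K ⊓ Subgroup.centralizer ({z} : Set G)) ⊓ N ≤ ppc q K := by
  set Q := Subgroup.zpowers z with hQ
  have hQq : IsPGroup q ↥Q := by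
    obtain ⟨k, hk⟩ := hz
    apply IsPGroup.of_card (n := k)
    rw [hQ, Nat.card_zpowers, hk]
  have hQK : Q ≤ K := Subgroup.zpowers_le.2 hzK
  have hQN : Q ≤ Subgroup.normalizer (N : Set G) := hQK.trans hKN
  have hQsolv : Cfsg.IsPSolvable q ↥Q := by
    apply Cfsg.Agent.Helper4.SolvPSolv.isPSolvable_of_isSolvable
    infer_instance
  set N₁ := N ⊔ Q with hN₁
  have hN₁solv : Cfsg.IsPSolvable q ↥N₁ := isPSolvable_sup hN hQN hQsolv
  have hN₁K : N₁ ≤ K := sup_le hNK hQK
  set Cz := K ⊓ Subgroup.centralizer ({z} : Set G) with hCz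
  set X := ppc q Cz with hX
  set D := X ⊓ N with hD
  have hXc : X ≤ Subgroup.centralizer ({z} : Set G) := (ppc_le q Cz).trans inf_le_right
  -- the centralizer of `z` and the normalizer of `⟨z⟩`
  have hcen : Subgroup.centralizer ({z} : Set G) = Subgroup.centralizer (Q : Set G) := by
    rw [hQ, Subgroup.zpowers_eq_closure, Subgroup.centralizer_closure]
  have hCQ : Subgroup.centralizer ({z} : Set G) ≤ Subgroup.normalizer (Q : Set G) := by
    rw [hcen]; exact Subgroup.centralizer_le_normalizer _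
  have hDQ : D ≤ Subgroup.normalizer (Q : Set G) := inf_le_left.trans (hXc.trans hCQ)
  have hDn : N₁ ⊓ Subgroup.normalizer (Q : Set G) ≤ Subgroup.normalizer (D : Set G) := by
    have h1 : N₁ ⊓ Subgroup.normalizer (Q : Set G) ≤ Subgroup.normalizer (Cz : Set G) := by
      apply le_normalizer_inf (inf_le_left.trans (hN₁K.trans Subgroup.le_normalizer))
      rw [hcen]
      exact le_normalizer_centralizer inf_le_right
    apply le_normalizer_inf (h1.trans (normalizer_le_normalizer_ppc q Cz))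
    exact inf_le_left.trans (hN₁K.trans hKN)
  have hDc : (Nat.card D).Coprime q :=
    Nat.Coprime.coprime_dvd_left (Subgroup.card_dvd_of_le inf_le_left) (card_ppc_coprime q Cz)
  have hDN₁ : D ≤ N₁ := inf_le_right.trans le_sup_left
  have h1 : D ≤ ppc q N₁ :=
    le_ppc_of_normalizer hN₁solv le_sup_right hQq hDN₁ hDQ hDn hDc
  -- descend to `N`, then to `K`
  have h2 : ppc q N₁ ⊓ N ≤ ppc q N := by
    apply le_ppc inf_le_right
    · apply le_normalizer_inf _ Subgroup.le_normalizer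
      exact (le_sup_left : N ≤ N₁).trans (le_normalizer_ppc q N₁)
    · exact Nat.Coprime.coprime_dvd_left (Subgroup.card_dvd_of_le inf_le_left)
        (card_ppc_coprime q N₁)
  have h3 : ppc q N ≤ ppc q K :=
    le_ppc ((ppc_le q N).trans hNK) (hKN.trans (normalizer_le_normalizer_ppc q N))
      (card_ppc_coprime q N)
  exact (le_inf h1 inf_le_right).trans (h2.trans h3)

end Cfsg.Agent.Helper1.QCore
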