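import Mathlib
import Cfsg.Agent.Helper1.QuadFreeC
import Cfsg.Agent.Helper1.NormLift

set_option autoImplicit false

/-!
Local `SL₂(p)`-freeness gives `p`-stability of every section.
-/

namespace Cfsg.Agent.Helper1
namespace QuadFree

universe u
open scoped commutatorElement Pointwise MatrixGroups
open Cfsg.Agent.Lead.QuadSL2

section generic

variable {p : ℕ} [hp : Fact p.Prime] (𝔉 : ∀ (X : Type u) [Group X], Prop)
  (hquot : ∀ (X : Type u) [Group X] (N : Subgroup X) [N.Normal], 𝔉 X → 𝔉 (X ⧸ N))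
  (hea : ∀ (X : Type u) [Group X] [Finite X] (V : Subgroup X) [V.Normal],
    (∀ u ∈ V, ∀ v ∈ V, u * v = v * u) → (∀ v ∈ V, v ^ p = 1) → ∀ a y : X,
    ⁅⁅V, Subgroup.zpowers a⁆, Subgroup.zpowers a⁆ = ⊥ →
    ⁅⁅V, Subgroup.zpowers y⁆, Subgroup.zpowers y⁆ = ⊥ → 𝔉 X →
    ∀ d ∈ Subgroup.closure {a, y}, (orderOf d).Coprime p →
      d ∈ Subgroup.centralizer (V : Set X))

include hquot hea

/-- the normalizer form at a single `p`-subgroup whose normalizer has the property -/
theorem mem_pCore_normalizer_gen {X : Type u} [Group X] [Finite X] (P : Subgroup X)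
    (hP : IsPGroup p P) (g : X) (hg : g ∈ Subgroup.normalizer (P : Set X))
    (hq : ⁅⁅P, Subgroup.zpowers g⁆, Subgroup.zpowers g⁆ = ⊥)
    (hab : 𝔉 ↥(Subgroup.normalizer (P : Set X))) :
    (QuotientGroup.mk (s := (Subgroup.centralizer (P : Set X)).subgroupOf
        (Subgroup.normalizer (P : Set X)))
      (⟨g, hg⟩ : ↥(Subgroup.normalizer (P : Set X)))) ∈
      Cfsg.pCore p (↥(Subgroup.normalizer (P : Set X)) ⧸
        (Subgroup.centralizer (P : Set X)).subgroupOf (Subgroup.normalizer (P : Set X))) := by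
  set N := Subgroup.normalizer (P : Set X) with hN
  set C := (Subgroup.centralizer (P : Set X)).subgroupOf N with hC
  haveI hCn : C.Normal := by
    rw [hC, hN]; infer_instance
  haveI hPN : (P.subgroupOf N).Normal := by
    rw [hN]; exact Subgroup.normal_in_normalizer
  have hPNp : IsPGroup p (P.subgroupOf N) := hP.comap_subtype
  have hcent : Subgroup.centralizer ((P.subgroupOf N : Subgroup N) : Set N) ≤
      (QuotientGroup.mk' C).ker := by
    rw [QuotientGroup.ker_mk', hC]
    intro d hd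
    rw [Subgroup.mem_subgroupOf, Subgroup.mem_centralizer_iff]
    intro x hx
    have hxN : x ∈ N := hN ▸ Subgroup.le_normalizer hx
    have h1 := Subgroup.mem_centralizer_iff.1 hd ⟨x, hxN⟩ (Subgroup.mem_subgroupOf.2 hx)
    exact congrArg Subtype.val h1
  have hqa : ⁅⁅P.subgroupOf N, Subgroup.zpowers (⟨g, hg⟩ : N)⁆,
      Subgroup.zpowers (⟨g, hg⟩ : N)⁆ = ⊥ := by
    rw [← Subgroup.map_eq_bot_iff_of_injective _ N.subtype_injective, eq_bot_iff, ← hq,
      Subgroup.map_commutator, Subgroup.map_commutator]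
    apply Subgroup.commutator_mono (Subgroup.commutator_mono ?_ ?_) ?_
    · rw [Subgroup.subgroupOf_map_subtype]; exact inf_le_left
    · rw [MonoidHom.map_zpowers]; exact le_rfl
    · rw [MonoidHom.map_zpowers]; exact le_rfl
  exact mem_pCore_of_quad_gen 𝔉 hquot hea (P.subgroupOf N) hPNp ⟨g, hg⟩ hqa hab
    (QuotientGroup.mk' C) (QuotientGroup.mk'_surjective C) hcent

end generic

variable {p : ℕ} [hp : Fact p.Prime]

theorem involves_of_inv {D : Type*} [Group D] (h : Inv p D) :
    Cfsg.Involves (Matrix.SpecialLinearGroup (Fin 2) (ZMod p)) D := by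
  obtain ⟨A, φ, hφ⟩ := h
  exact Cfsg.Agent.Lead.involves_of_maps A.subtype A.subtype_injective φ hφ

theorem inv_of_involves {D : Type*} [Group D]
    (h : Cfsg.Involves (Matrix.SpecialLinearGroup (Fin 2) (ZMod p)) D) : Inv p D := by
  obtain ⟨K, f, hf⟩ := Cfsg.Agent.Lead.exists_maps_of_involves h
  exact ⟨K, f, hf⟩

/-- local `SL₂(p)`-freeness passes to sections -/
theorem not_inv_normalizer_section {G : Type u} [Group G] [Finite G]
    (h : ∀ P : Subgroup G, IsPGroup p P → P ≠ ⊥ →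
      ¬ Cfsg.Involves (Matrix.SpecialLinearGroup (Fin 2) (ZMod p))
        ↥(Subgroup.normalizer (P : Set G)))
    (K R : Subgroup G) [hR : (R.subgroupOf K).Normal]
    (Pb : Subgroup (K ⧸ R.subgroupOf K)) (hPb : IsPGroup p Pb) (hPb1 : Pb ≠ ⊥) :
    ¬ Inv p ↥(Subgroup.normalizer (Pb : Set (K ⧸ R.subgroupOf K))) := by
  intro hinv
  obtain ⟨Q, hQp, hQmap, hQN⟩ := NormLift.exists_lift_normalizer
    (QuotientGroup.mk' (R.subgroupOf K)) (QuotientGroup.mk'_surjective _) Pb hPb
  obtain ⟨QG, hQG⟩ : ∃ QG : Subgroup G, QG = Q.map K.subtype := ⟨_, rfl⟩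
  have hQG1 : QG ≠ ⊥ := by
    intro h1
    rw [hQG, Subgroup.map_eq_bot_iff_of_injective _ K.subtype_injective] at h1
    apply hPb1
    rw [← hQmap, h1, Subgroup.map_bot]
  apply h QG (hQG ▸ hQp.map _) hQG1
  apply involves_of_inv
  -- `N_K(Q)` embeds into `N_G(QG)`
  have hle : ∀ x : ↥(Subgroup.normalizer (Q : Set K)),
      ((x : K) : G) ∈ Subgroup.normalizer (QG : Set G) := by
    intro x
    rw [hQG]
    exact Subgroup.le_normalizer_map K.subtype ⟨x, x.2, rfl⟩
  obtain ⟨j, hj⟩ : ∃ j : ↥(Subgroup.normalizer (Q : Set K)) →*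
      ↥(Subgroup.normalizer (QG : Set G)), ∀ x, ((j x : ↥(Subgroup.normalizer (QG : Set G))) : G)
        = ((x : K) : G) :=
    ⟨(K.subtype.comp (Subgroup.normalizer (Q : Set K)).subtype).codRestrict _ hle, fun x => rfl⟩
  have hjinj : Function.Injective j := by
    intro x y hxy
    have h1 := congrArg Subtype.val hxy
    rw [hj, hj] at h1
    exact Subtype.ext (Subtype.ext h1)
  apply Inv.of_injective j hjinj
  have h2 : Inv p ↥((Subgroup.normalizer (Q : Set K)).map
      (QuotientGroup.mk' (R.subgroupOf K))) := by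
    rw [hQN]; exact hinv
  exact Inv.of_surjective _ ((QuotientGroup.mk' (R.subgroupOf K)).subgroupMap_surjective _) h2

theorem sections_stable_of_local_free {G : Type u} [Group G] [Finite G] (hp2 : p ≠ 2)
    (h : ∀ P : Subgroup G, IsPGroup p P → P ≠ ⊥ →
      ¬ Cfsg.Involves (Matrix.SpecialLinearGroup (Fin 2) (ZMod p))
        ↥(Subgroup.normalizer (P : Set G)))
    (K R : Subgroup G) [hR : (R.subgroupOf K).Normal] :
    Cfsg.IsNormalizerPStable p (↥K ⧸ R.subgroupOf K) := by
  intro Pb hPb g hg hq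
  by_cases hPb1 : Pb = ⊥
  · subst hPb1
    have hmem : (⟨g, hg⟩ : ↥(Subgroup.normalizer (((⊥ : Subgroup (K ⧸ R.subgroupOf K))) :
        Set (K ⧸ R.subgroupOf K)))) ∈
        (Subgroup.centralizer (((⊥ : Subgroup (K ⧸ R.subgroupOf K))) :
          Set (K ⧸ R.subgroupOf K))).subgroupOf _ := by
      rw [Subgroup.mem_subgroupOf, Subgroup.mem_centralizer_iff]
      intro x hx
      rw [SetLike.mem_coe, Subgroup.mem_bot] at hx
      subst hx; simp
    rw [(QuotientGroup.eq_one_iff _).2 hmem]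
    exact Subgroup.one_mem _
  · exact mem_pCore_normalizer_gen (fun X _ => ¬ Inv p X) inv_quot
      (fun X _ _ V _ hab hexp a y hqa hqy hfree d hd hdp =>
        centralizesElemInv hp2 V hab hexp a y hqa hqy
          (fun h' => hfree (Inv.of_subgroup _ h')) d hd hdp) Pb hPb g hg hq
      (not_inv_normalizer_section h K R Pb hPb hPb1)

end QuadFree
end Cfsg.Agent.Helper1
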