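import Mathlib
import Cfsg.Agent.Helper1.QuadStableC

set_option autoImplicit false

/-!
Failure of `p`-stability modulo `O_{p'}` forces a section `SL₂(p)`.
-/

namespace Cfsg.Agent.Helper1
namespace QuadStable

universe u
open scoped commutatorElement Pointwise MatrixGroups
open Cfsg.Agent.Lead.QuadSL2

theorem inv_of_not_stable {G : Type u} [Group G] [Finite G] {p : ℕ} [Fact p.Prime] (hp : p ≠ 2)
    (hO : Cfsg.pPrimeCore p G < Cfsg.pPrimePCore p G)
    (hns : ¬ Cfsg.IsPStable p (G ⧸ Cfsg.pPrimeCore p G)) : Inv p G := by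
  by_contra h
  apply hns
  apply isPStable_of_not_inv hp
  · intro hbot
    unfold Cfsg.pPrimePCore at hO
    rw [hbot, MonoidHom.comap_bot, QuotientGroup.ker_mk'] at hO
    exact lt_irrefl _ hO
  · intro h2
    exact h (Inv.of_surjective (QuotientGroup.mk' _) (QuotientGroup.mk'_surjective _) h2)

theorem section_of_not_stable {G : Type u} [Group G] [Finite G] {p : ℕ} [Fact p.Prime]
    (hp : p ≠ 2) (hO : Cfsg.pPrimeCore p G < Cfsg.pPrimePCore p G)
    (hns : ¬ Cfsg.IsPStable p (G ⧸ Cfsg.pPrimeCore p G)) :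
    ∃ (K L : Subgroup G) (hL : (L.subgroupOf K).Normal), K ≤ ⊤ ∧
      Nonempty ((K ⧸ L.subgroupOf K) ≃* Matrix.SpecialLinearGroup (Fin 2) (ZMod p)) :=
  Inv.exists_section (⊤ : Subgroup G)
    (Inv.of_mulEquiv Subgroup.topEquiv.symm (inv_of_not_stable hp hO hns))

end QuadStable
end Cfsg.Agent.Helper1
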