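import Mathlib
import Cfsg.Prelude.Def_Transfer
import Cfsg.Agent.Helper1.Basic

set_option autoImplicit false

/-!
Quadratic elements have large fixed-point subgroups.
-/

namespace Cfsg.Agent.Helper1

open scoped commutatorElement

universe u

variable {G : Type u} [Group G]

theorem mem_centralizer_zpowers_iff {a x : G} :
    x ∈ Subgroup.centralizer ((Subgroup.zpowers a : Subgroup G) : Set G) ↔ a * x = x * a := by
  constructor
  · intro h
    exact Subgroup.mem_centralizer_iff.1 h a (Subgroup.mem_zpowers a)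
  · intro h
    rw [Subgroup.mem_centralizer_iff]
    intro y hy
    obtain ⟨n, rfl⟩ := Subgroup.mem_zpowers_iff.1 hy
    have : Commute a x := h
    exact (this.zpow_left n).eq

theorem card_le_card_fixed_sq [Finite G] {p : ℕ} (V : Subgroup G)
    (hV : Cfsg.IsElementaryAbelian p V) (a : G) (ha : a ∈ Subgroup.normalizer (V : Set G))
    (hq : ⁅⁅V, Subgroup.zpowers a⁆, Subgroup.zpowers a⁆ = ⊥) :
    Nat.card V ≤
      Nat.card ↥(V ⊓ Subgroup.centralizer ((Subgroup.zpowers a : Subgroup G) : Set G)) ^ 2 := by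
  have hconj : ∀ v ∈ V, a * v * a⁻¹ ∈ V := fun v hv =>
    ((Subgroup.mem_normalizer_iff.1 ha) v).1 hv
  have hcomm : ∀ x ∈ V, ∀ y ∈ V, x * y = y * x := fun x hx y hy =>
    congrArg Subtype.val (hV.1.is_comm.comm (⟨x, hx⟩ : V) ⟨y, hy⟩)
  have hcV : ∀ v ∈ V, ⁅a, v⁆ ∈ V := by
    intro v hv
    rw [commutatorElement_def]
    exact V.mul_mem (hconj v hv) (V.inv_mem hv)
  let φ : V →* V :=
    { toFun := fun v => ⟨⁅a, (v : G)⁆, hcV v v.2⟩
      map_one' := by apply Subtype.ext; simp
      map_mul' := by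
        intro v w
        apply Subtype.ext
        show ⁅a, (v : G) * w⁆ = ⁅a, (v : G)⁆ * ⁅a, (w : G)⁆
        have h1 : ⁅a, (v : G) * w⁆ = (a * v * a⁻¹) * ((a * w * a⁻¹) * (w : G)⁻¹) * (v : G)⁻¹ := by
          rw [commutatorElement_def]; group
        have h2 := hcomm _ (V.mul_mem (hconj w w.2) (V.inv_mem w.2)) _ (V.inv_mem v.2)
        rw [h1, mul_assoc, h2, commutatorElement_def, commutatorElement_def]
        group }
  obtain ⟨C, hC⟩ : ∃ C : Subgroup G,
    C = V ⊓ Subgroup.centralizer ((Subgroup.zpowers a : Subgroup G) : Set G) := ⟨_, rfl⟩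
  rw [← hC]
  have hCV : C ≤ V := hC ▸ inf_le_left
  have hker : φ.ker = C.subgroupOf V := by
    ext v
    rw [MonoidHom.mem_ker, Subgroup.mem_subgroupOf, hC, Subgroup.mem_inf,
      mem_centralizer_zpowers_iff]
    constructor
    · intro h
      have h1 : ⁅a, (v : G)⁆ = 1 := congrArg Subtype.val h
      exact ⟨v.2, commutatorElement_eq_one_iff_mul_comm.1 h1⟩
    · rintro ⟨-, h⟩
      apply Subtype.ext
      exact commutatorElement_eq_one_iff_mul_comm.2 h
  have hrange : φ.range ≤ C.subgroupOf V := by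
    rintro _ ⟨v, rfl⟩
    rw [Subgroup.mem_subgroupOf, hC, Subgroup.mem_inf]
    refine ⟨hcV v v.2, ?_⟩
    rw [Subgroup.commutator_eq_bot_iff_le_centralizer] at hq
    apply hq
    rw [Subgroup.commutator_comm]
    exact Subgroup.commutator_mem_commutator (Subgroup.mem_zpowers a) v.2
  have h1 : Nat.card V = Nat.card φ.ker * Nat.card φ.range := by
    rw [← Subgroup.index_ker, mul_comm]
    exact (φ.ker.index_mul_card).symm
  have h2 : Nat.card φ.ker = Nat.card C := by rw [hker, card_subgroupOf_of_le hCV]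
  have h3 : Nat.card φ.range ≤ Nat.card C := by
    rw [← card_subgroupOf_of_le hCV]
    exact Nat.le_of_dvd Nat.card_pos (Subgroup.card_dvd_of_le hrange)
  rw [h1, h2, sq]
  exact Nat.mul_le_mul_left _ h3

end Cfsg.Agent.Helper1
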