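import Mathlib
import Cfsg.Agent.Lead.SL23Recog2
import Cfsg.Agent.Helper1.FC2e

/-!
S3361 project (helper5), piece R23 (helper1): a group of order `24` with a normal self-centralizing quaternion
subgroup of order `8` is isomorphic to `SL(2,3)` (via lead's `SL23Recog.equivs_of_quaternion`).
-/

set_option autoImplicit false
set_option linter.style.haveILetI false

open QuaternionGroup

namespace Cfsg.Agent.Helper1.FC

theorem q8_a1_sq : (a 1 : QuaternionGroup 2) * a 1 = a 2 := by decide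

theorem q8_triple : ∀ y w : QuaternionGroup 2, y * y = a 2 → w * w = a 2 → y ≠ a 1 → y ≠ (a 1)⁻¹ →
    w ≠ a 1 → w ≠ (a 1)⁻¹ → w ≠ y → w ≠ y⁻¹ →
    y * a 1 * y⁻¹ = (a 1)⁻¹ ∧ w * a 1 * w⁻¹ = (a 1)⁻¹ ∧ (w = a 1 * y ∨ y = a 1 * w) := by
  decide

section

variable {K : Type*} [Group K] [Finite K] {N : Subgroup K} [hNn : N.Normal]
  (e : N ≃* QuaternionGroup 2)

theorem qi_sq : qi e * qi e = qz e := by
  have h : e.symm (a 1) * e.symm (a 1) = e.symm (a 2) := by rw [← map_mul, q8_a1_sq]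
  exact congrArg Subtype.val h

theorem orderOf_qi : orderOf (qi e) = 2 * 2 := by
  have h4 : qi e ^ 4 = 1 := by
    have : qi e ^ 4 = (qi e * qi e) * (qi e * qi e) := by
      simp only [pow_succ, pow_zero, one_mul, mul_assoc]
    rw [this, qi_sq, qz_sq]
  have h2 : qi e ^ 2 ≠ 1 := by
    rw [pow_two, qi_sq]; exact qz_ne e
  have h1 : orderOf (qi e) ∣ 4 := orderOf_dvd_of_pow_eq_one h4
  have h3 : ¬ orderOf (qi e) ∣ 2 := fun h => h2 (orderOf_dvd_iff_pow_eq_one.1 h)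
  have hle : orderOf (qi e) ≤ 4 := Nat.le_of_dvd (by norm_num) h1
  interval_cases h : orderOf (qi e) <;> simp_all

/-- the final step: from a good triple to the isomorphism -/
theorem sl23_of_triple (hK : Nat.card K = 24) (g : K) (hg3 : orderOf g = 3) (y : K) (hyN : y ∈ N)
    (hy : y * y = qi e ^ 2) (hrel : y * qi e * y⁻¹ = (qi e)⁻¹)
    (hgx : g * qi e * g⁻¹ = y) (hgy : g * y * g⁻¹ = qi e * y) :
    Nonempty (K ≃* Matrix.SpecialLinearGroup (Fin 2) (ZMod 3)) := by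
  have hN8 : Nat.card N = 8 := card_of_q8 e
  have hyx : y ∉ Subgroup.zpowers (qi e) := by
    intro h
    obtain ⟨k, hk⟩ := Subgroup.mem_zpowers_iff.1 h
    have hc : Commute y (qi e) := by
      rw [← hk]; exact (Commute.refl (qi e)).zpow_left k
    rw [hc.eq, mul_inv_cancel_right] at hrel
    -- `x = x⁻¹`
    have : qi e * qi e = 1 := by
      nth_rewrite 1 [hrel]
      exact inv_mul_cancel _
    rw [qi_sq] at this
    exact qz_ne e this
  have hgN : g ∈ Subgroup.normalizer (N : Set K) := by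
    rw [Subgroup.normalizer_eq_top]; exact Subgroup.mem_top _
  have hdisj : N ⊓ Subgroup.zpowers g = ⊥ := by
    apply (Subgroup.disjoint_of_coprime_natCard ?_).eq_bot
    rw [hN8, Nat.card_zpowers, hg3]
    norm_num
  obtain ⟨-, ⟨f⟩⟩ := Cfsg.Agent.Lead.SL23Recog.equivs_of_quaternion N hN8 (qi e) y (qi_mem e) hyN
    (orderOf_qi e) hy hrel hyx g hgN hgx hgy hdisj hg3
  -- `N ⊔ ⟨g⟩ = ⊤`
  have htop : N ⊔ Subgroup.zpowers g = ⊤ := by
    apply Subgroup.eq_top_of_card_eq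
    have h8 : 8 ∣ Nat.card ↥(N ⊔ Subgroup.zpowers g) := by
      rw [← hN8]; exact Subgroup.card_dvd_of_le le_sup_left
    have h3 : 3 ∣ Nat.card ↥(N ⊔ Subgroup.zpowers g) := by
      have : Nat.card (Subgroup.zpowers g) = 3 := by rw [Nat.card_zpowers, hg3]
      rw [← this]; exact Subgroup.card_dvd_of_le le_sup_right
    have h24 : 24 ∣ Nat.card ↥(N ⊔ Subgroup.zpowers g) :=
      Nat.Coprime.mul_dvd_of_dvd_of_dvd (by norm_num : Nat.Coprime 8 3) h8 h3
    have hle : Nat.card ↥(N ⊔ Subgroup.zpowers g) ≤ Nat.card K := Subgroup.card_le_card_group _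
    have hpos : 0 < Nat.card ↥(N ⊔ Subgroup.zpowers g) := Nat.card_pos
    rw [hK] at hle ⊢
    obtain ⟨c, hc⟩ := h24
    omega
  exact ⟨(Subgroup.topEquiv.symm.trans (MulEquiv.subgroupCongr htop.symm)).trans f⟩

/-- PIECE R23 (recognition of `SL(2,3)`): a group of order 24 with a normal self-centralizing `Q₈`. -/
theorem sl23_of_q8_core (hK : Nat.card K = 24) (N : Subgroup K)
    [N.Normal] (e : N ≃* QuaternionGroup 2) (hcent : Subgroup.centralizer (N : Set K) ≤ N) :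
    Nonempty (K ≃* Matrix.SpecialLinearGroup (Fin 2) (ZMod 3)) := by
  haveI : Fact (Nat.Prime 3) := ⟨by norm_num⟩
  obtain ⟨g, hg3⟩ := exists_prime_orderOf_dvd_card' (G := K) 3 (by rw [hK]; norm_num)
  have hg3' : g ^ 3 = 1 := by rw [← hg3]; exact pow_orderOf_eq_one g
  have hnorm : ∀ u ∈ N, g * u * g⁻¹ ∈ N := fun u hu => ‹N.Normal›.conj_mem u hu g
  -- elements of `N` fixed or inverted by `g` lie in `{1, z}`
  have hL1 : ∀ u ∈ N, (g * u * g⁻¹ = u ∨ g * u * g⁻¹ = u⁻¹) → u = 1 ∨ u = qz e := by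
    intro u hu h
    apply eq_qz_of_commute_order_three e hcent hg3 hu
    rcases h with h | h
    · calc g * u = g * u * g⁻¹ * g := by group
        _ = u * g := by rw [h]
    · -- `g² u g⁻² = u`, and `g² = g⁻¹`
      have h2 : g * u⁻¹ * g⁻¹ = u := by
        have : g * u⁻¹ * g⁻¹ = (g * u * g⁻¹)⁻¹ := by group
        rw [this, h, inv_inv]
      have h3 : g ^ 2 * u * (g ^ 2)⁻¹ = u := by
        have : g ^ 2 * u * (g ^ 2)⁻¹ = g * (g * u * g⁻¹) * g⁻¹ := by
          rw [pow_two]; group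
        rw [this, h, h2]
      have h4 : g ^ 2 = g⁻¹ := by
        have : g ^ 2 = g ^ 3 * g⁻¹ := by
          rw [pow_succ g 2, mul_inv_cancel_right]
        rw [this, hg3', one_mul]
      rw [h4, inv_inv] at h3
      -- `g⁻¹ u g = u`
      calc g * u = g * (g⁻¹ * u * g) := by rw [h3]
        _ = u * g := by group
  set x := qi e with hxdef
  have hxN : x ∈ N := qi_mem e
  have hx1 : x ≠ 1 := (qi_ne e).1
  have hxz : x ≠ qz e := (qi_ne e).2
  obtain ⟨y, hydef⟩ : ∃ y, y = g * x * g⁻¹ := ⟨_, rfl⟩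
  obtain ⟨w, hwdef⟩ : ∃ w, w = g * y * g⁻¹ := ⟨_, rfl⟩
  have hyN : y ∈ N := by rw [hydef]; exact hnorm x hxN
  have hwN : w ∈ N := by rw [hwdef]; exact hnorm y hyN
  have hgw : g * w * g⁻¹ = x := by
    rw [hwdef, hydef]
    have : g * (g * (g * x * g⁻¹) * g⁻¹) * g⁻¹ = g ^ 3 * x * (g ^ 3)⁻¹ := by
      simp only [pow_succ, pow_zero, one_mul, mul_inv_rev, mul_assoc]
    rw [this, hg3', one_mul, inv_one, mul_one]
  have hzc : ∀ k : K, k * qz e = qz e * k := fun k => qz_central e k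
  have hyy : y * y = qz e := by
    rw [hydef]
    have : g * x * g⁻¹ * (g * x * g⁻¹) = g * (x * x) * g⁻¹ := by group
    rw [this, hxdef, qi_sq, hzc g, mul_inv_cancel_right]
  have hww : w * w = qz e := by
    rw [hwdef]
    have : g * y * g⁻¹ * (g * y * g⁻¹) = g * (y * y) * g⁻¹ := by group
    rw [this, hyy, hzc g, mul_inv_cancel_right]
  -- `y ∉ {1, z}`
  have hy1z : ¬ (y = 1 ∨ y = qz e) := by
    rintro (h | h)
    · apply hx1
      have : x = g⁻¹ * y * g := by rw [hydef]; group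
      rw [this, h]; group
    · apply hxz
      have : x = g⁻¹ * y * g := by rw [hydef]; group
      rw [this, h, hzc g⁻¹, mul_assoc, inv_mul_cancel, mul_one]
  have hyx : y ≠ x := by
    intro h
    rcases hL1 x hxN (Or.inl (by rw [← hydef, h])) with h1 | h1
    · exact hx1 h1
    · exact hxz h1
  have hyx' : y ≠ x⁻¹ := by
    intro h
    rcases hL1 x hxN (Or.inr (by rw [← hydef, h])) with h1 | h1
    · exact hx1 h1
    · exact hxz h1
  have hwy : w ≠ y := fun h => hy1z (hL1 y hyN (Or.inl (by rw [← hwdef, h])))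
  have hwy' : w ≠ y⁻¹ := fun h => hy1z (hL1 y hyN (Or.inr (by rw [← hwdef, h])))
  have hwx : w ≠ x := by
    intro h
    apply hyx
    calc y = g * x * g⁻¹ := hydef
      _ = g * w * g⁻¹ := by rw [h]
      _ = x := hgw
  have hwx' : w ≠ x⁻¹ := by
    intro h
    apply hyx'
    have : y⁻¹ = g * x⁻¹ * g⁻¹ := by rw [hydef]; group
    rw [← inv_inj, inv_inv, this, ← h, hgw]
  -- transport to `Q₈`
  have hex : e ⟨x, hxN⟩ = a 1 := by
    have : (⟨x, hxN⟩ : N) = e.symm (a 1) := Subtype.ext rfl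
    rw [this, MulEquiv.apply_symm_apply]
  have hez : e ⟨qz e, qz_mem e⟩ = a 2 := by
    have : (⟨qz e, qz_mem e⟩ : N) = e.symm (a 2) := Subtype.ext rfl
    rw [this, MulEquiv.apply_symm_apply]
  have hinj : ∀ {u v : K} (hu : u ∈ N) (hv : v ∈ N), e ⟨u, hu⟩ = e ⟨v, hv⟩ → u = v := by
    intro u v hu hv h
    exact congrArg Subtype.val (e.injective h)
  have hinv : ∀ {u : K} (hu : u ∈ N), e ⟨u⁻¹, N.inv_mem hu⟩ = (e ⟨u, hu⟩)⁻¹ := by
    intro u hu
    rw [← map_inv]; rfl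
  have hmul : ∀ {u v : K} (hu : u ∈ N) (hv : v ∈ N),
      e ⟨u * v, N.mul_mem hu hv⟩ = e ⟨u, hu⟩ * e ⟨v, hv⟩ := by
    intro u v hu hv
    rw [← map_mul]; rfl
  obtain ⟨hr1, hr2, hr3⟩ := q8_triple (e ⟨y, hyN⟩) (e ⟨w, hwN⟩)
    (by rw [← hmul, ← hez]; exact congrArg e (Subtype.ext hyy))
    (by rw [← hmul, ← hez]; exact congrArg e (Subtype.ext hww))
    (by rw [← hex]; exact fun h => hyx (hinj _ _ h))
    (by rw [← hex, ← hinv]; exact fun h => hyx' (hinj _ _ h))
    (by rw [← hex]; exact fun h => hwx (hinj _ _ h))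
    (by rw [← hex, ← hinv]; exact fun h => hwx' (hinj _ _ h))
    (fun h => hwy (hinj _ _ h))
    (by rw [← hinv]; exact fun h => hwy' (hinj _ _ h))
  have hrel_y : y * x * y⁻¹ = x⁻¹ := by
    rw [← hex, ← hinv, ← hinv, ← hmul, ← hmul] at hr1
    exact hinj _ _ hr1
  have hrel_w : w * x * w⁻¹ = x⁻¹ := by
    rw [← hex, ← hinv, ← hinv, ← hmul, ← hmul] at hr2
    exact hinj _ _ hr2
  have hx2 : x ^ 2 = qz e := by rw [pow_two, hxdef, qi_sq]
  rcases hr3 with h | h
  · -- `w = x y`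
    have hw : w = x * y := by
      rw [← hex, ← hmul] at h
      exact hinj _ _ h
    exact sl23_of_triple e hK g hg3 y hyN (by rw [hyy, ← hx2]) hrel_y hydef.symm
      (by rw [← hwdef, hw])
  · -- `y = x w`: use `g⁻¹`
    have hy' : y = x * w := by
      rw [← hex, ← hmul] at h
      exact hinj _ _ h
    have hg3i : orderOf g⁻¹ = 3 := by rw [orderOf_inv, hg3]
    refine sl23_of_triple e hK g⁻¹ hg3i w hwN (by rw [hww, ← hx2]) hrel_w ?_ ?_
    · show g⁻¹ * x * g⁻¹⁻¹ = w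
      rw [inv_inv, ← hgw]; group
    · show g⁻¹ * w * g⁻¹⁻¹ = x * w
      rw [inv_inv, ← hy', hwdef]; group

end

end Cfsg.Agent.Helper1.FC
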