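import Mathlib
import Cfsg.Agent.Helper1.R2SA
import Cfsg.Agent.Helper1.NormalEA2

set_option autoImplicit false

/-!
Stabilizer-of-a-chain bounds: in a finite `p`-group `S`, a normal subgroup `D` of order `p ^ k`
(`k ≤ 3`) has centralizer of index at most `p ^ (k (k - 1) / 2)`.
-/

namespace Cfsg.Agent.Helper1.R2Chief

universe u

/-- orbit bound: if all `x d x⁻¹ d⁻¹` (`x ∈ T`) lie in `M`, then `|T : C_T(d)| ≤ |M|`. -/
theorem relIndex_centralizer_singleton_le {G : Type*} [Group G] [Finite G] (T M : Subgroup G)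
    (d : G) (h : ∀ x ∈ T, x * d * x⁻¹ * d⁻¹ ∈ M) :
    (Subgroup.centralizer ({d} : Set G)).relIndex T ≤ Nat.card M := by
  classical
  rw [Subgroup.relIndex, Subgroup.index]
  let f : (T ⧸ (Subgroup.centralizer ({d} : Set G)).subgroupOf T) → M :=
    Quotient.lift (s := QuotientGroup.leftRel _)
      (fun x : T => (⟨(x : G) * d * (x : G)⁻¹ * d⁻¹, h x x.2⟩ : M)) (by
      intro x y hxy
      have h1 := QuotientGroup.leftRel_apply.1 hxy
      rw [Subgroup.mem_subgroupOf, Subgroup.mem_centralizer_singleton_iff] at h1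
      apply Subtype.ext
      simp only [Subgroup.coe_mul, Subgroup.coe_inv] at h1 ⊢
      have h2 : (y : G) = (x : G) * ((x : G)⁻¹ * (y : G)) := by group
      rw [h2]
      have h3 : Commute d ((x : G)⁻¹ * (y : G)) := (show Commute ((x : G)⁻¹ * (y : G)) d from h1).symm
      calc (x : G) * d * (x : G)⁻¹ * d⁻¹
          = (x : G) * (d * ((x : G)⁻¹ * (y : G))) * ((x : G)⁻¹ * (y : G))⁻¹ * (x : G)⁻¹ * d⁻¹ := by
            group
        _ = (x : G) * (((x : G)⁻¹ * (y : G)) * d) * ((x : G)⁻¹ * (y : G))⁻¹ * (x : G)⁻¹ * d⁻¹ := by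
            rw [h3.eq]
        _ = _ := by group)
  apply Nat.card_le_card_of_injective f
  intro a b hab
  induction a using Quotient.inductionOn with
  | _ x =>
  induction b using Quotient.inductionOn with
  | _ y =>
  apply Quotient.sound
  apply QuotientGroup.leftRel_apply.2
  rw [Subgroup.mem_subgroupOf, Subgroup.mem_centralizer_singleton_iff]
  have h1 : (x : G) * d * (x : G)⁻¹ * d⁻¹ = (y : G) * d * (y : G)⁻¹ * d⁻¹ :=
    congrArg Subtype.val hab
  have h2 : (x : G) * d * (x : G)⁻¹ = (y : G) * d * (y : G)⁻¹ := mul_right_cancel h1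
  simp only [Subgroup.coe_mul, Subgroup.coe_inv]
  symm
  calc d * ((x : G)⁻¹ * (y : G)) = (x : G)⁻¹ * ((x : G) * d * (x : G)⁻¹) * (y : G) := by group
    _ = (x : G)⁻¹ * ((y : G) * d * (y : G)⁻¹) * (y : G) := by rw [h2]
    _ = (x : G)⁻¹ * (y : G) * d := by group

variable {S : Type u} [Group S] [Finite S] {p : ℕ} [hp : Fact p.Prime]

/-- a normal section of order `p` of a `p`-group is central -/
theorem conj_mul_inv_mem_of_card_eq (hS : IsPGroup p S) (M D : Subgroup S) [hMn : M.Normal]
    [hDn : D.Normal] (hMD : M ≤ D) (hcard : Nat.card D = p * Nat.card M) (x d : S) (hd : d ∈ D) :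
    x * d * x⁻¹ * d⁻¹ ∈ M := by
  have hQ : IsPGroup p (S ⧸ M) := hS.to_quotient M
  have hsurj : Function.Surjective (QuotientGroup.mk' M) := QuotientGroup.mk'_surjective M
  haveI hDbn : (D.map (QuotientGroup.mk' M)).Normal := hDn.map _ hsurj
  have hDb : Nat.card (D.map (QuotientGroup.mk' M)) = p := by
    have h1 := Subgroup.relIndex_map_map (QuotientGroup.mk' M) M D
    rw [QuotientGroup.ker_mk', sup_idem, sup_of_le_left hMD] at h1
    have h2 : M.map (QuotientGroup.mk' M) = ⊥ := by
      rw [eq_bot_iff]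
      rintro _ ⟨m, hm, rfl⟩
      rw [Subgroup.mem_bot]
      exact (QuotientGroup.eq_one_iff m).2 hm
    rw [h2, Subgroup.relIndex_bot_left] at h1
    rw [h1]
    have h3 := Subgroup.relIndex_mul_relIndex ⊥ M D bot_le hMD
    rw [Subgroup.relIndex_bot_left, Subgroup.relIndex_bot_left, hcard, mul_comm] at h3
    have hMpos : 0 < Nat.card M := Nat.card_pos
    exact Nat.eq_of_mul_eq_mul_right hMpos h3
  have hcen := R2S.le_centralizer_of_card_eq_prime (R := (⊤ : Subgroup (S ⧸ M)))
    (Z := D.map (QuotientGroup.mk' M)) (hQ.to_subgroup ⊤) le_top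
    (by rw [Subgroup.normalizer_eq_top]) hDb
  have h4 := hcen (Subgroup.mem_top (QuotientGroup.mk' M x))
  rw [Subgroup.mem_centralizer_iff] at h4
  have h5 := h4 _ (Subgroup.mem_map_of_mem (QuotientGroup.mk' M) hd)
  rw [← QuotientGroup.eq_one_iff, QuotientGroup.mk_mul, QuotientGroup.mk_mul, QuotientGroup.mk_mul,
    QuotientGroup.mk_inv, QuotientGroup.mk_inv]
  have h6 : (QuotientGroup.mk' M d) * (QuotientGroup.mk' M x) =
      (QuotientGroup.mk' M x) * (QuotientGroup.mk' M d) := h5
  change (QuotientGroup.mk' M x) * (QuotientGroup.mk' M d) * (QuotientGroup.mk' M x)⁻¹ *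
    (QuotientGroup.mk' M d)⁻¹ = 1
  rw [← h6]
  group

/-- an element outside a subgroup of prime index generates the big group with it -/
theorem sup_zpowers_eq_of_card_eq (M D : Subgroup S) (hMD : M ≤ D)
    (hcard : Nat.card D = p * Nat.card M) (d : S) (hd : d ∈ D) (hdM : d ∉ M) :
    M ⊔ Subgroup.zpowers d = D := by
  have hle : M ⊔ Subgroup.zpowers d ≤ D := sup_le hMD (Subgroup.zpowers_le.2 hd)
  have h1 : Nat.card M ∣ Nat.card (M ⊔ Subgroup.zpowers d : Subgroup S) :=
    Subgroup.card_dvd_of_le le_sup_left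
  have h2 : Nat.card (M ⊔ Subgroup.zpowers d : Subgroup S) ∣ Nat.card D :=
    Subgroup.card_dvd_of_le hle
  obtain ⟨a, ha⟩ := h1
  rw [ha, hcard, mul_comm p] at h2
  have hMpos : 0 < Nat.card M := Nat.card_pos
  have h3 : a ∣ p := Nat.dvd_of_mul_dvd_mul_left hMpos h2
  rcases (Nat.dvd_prime hp.out).1 h3 with h4 | h4
  · exfalso
    rw [h4, mul_one] at ha
    have h5 : M = M ⊔ Subgroup.zpowers d :=
      Subgroup.eq_of_le_of_card_ge le_sup_left ha.le
    apply hdM
    rw [h5]
    exact (le_sup_right : Subgroup.zpowers d ≤ _) (Subgroup.mem_zpowers d)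
  · apply Subgroup.eq_of_le_of_card_ge hle
    rw [hcard, ha, h4, mul_comm]

/-- one step of the chain -/
theorem relIndex_centralizer_le_card (hS : IsPGroup p S) (M D : Subgroup S) [hMn : M.Normal]
    [hDn : D.Normal] (hMD : M ≤ D) (hcard : Nat.card D = p * Nat.card M) :
    (Subgroup.centralizer (D : Set S)).relIndex (Subgroup.centralizer (M : Set S)) ≤
      Nat.card M := by
  have hex : ∃ d ∈ D, d ∉ M := by
    by_contra hcon
    push Not at hcon
    have hDM : D ≤ M := hcon
    have h1 := Subgroup.card_le_of_le hDM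
    rw [hcard] at h1
    have hMpos : 0 < Nat.card M := Nat.card_pos
    have h2 : 2 * Nat.card M ≤ p * Nat.card M := Nat.mul_le_mul_right _ hp.out.two_le
    omega
  obtain ⟨d, hd, hdM⟩ := hex
  have hsup := sup_zpowers_eq_of_card_eq M D hMD hcard d hd hdM
  have hC : Subgroup.centralizer (D : Set S) =
      Subgroup.centralizer (M : Set S) ⊓ Subgroup.centralizer ({d} : Set S) := by
    apply le_antisymm
    · apply le_inf
      · exact Subgroup.centralizer_le (by exact_mod_cast hMD)
      · apply Subgroup.centralizer_le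
        intro y hy
        rw [Set.mem_singleton_iff] at hy
        rw [hy]; exact hd
    · intro x hx
      rw [Subgroup.mem_inf] at hx
      obtain ⟨hx1, hx2⟩ := hx
      have hle : D ≤ Subgroup.centralizer ({x} : Set S) := by
        rw [← hsup]
        apply sup_le
        · intro m hm
          rw [Subgroup.mem_centralizer_singleton_iff]
          exact (Subgroup.mem_centralizer_iff.1 hx1 m hm)
        · rw [Subgroup.zpowers_le, Subgroup.mem_centralizer_singleton_iff]
          exact ((Subgroup.mem_centralizer_singleton_iff).1 hx2).symm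
      rw [Subgroup.mem_centralizer_iff]
      intro y hy
      have := hle hy
      rw [Subgroup.mem_centralizer_singleton_iff] at this
      exact this
  rw [hC, Subgroup.inf_relIndex_left]
  apply relIndex_centralizer_singleton_le
  intro x _
  exact conj_mul_inv_mem_of_card_eq hS M D hMD hcard x d hd

/-- a normal subgroup of order `p` is central -/
theorem centralizer_eq_top_of_card_prime (hS : IsPGroup p S) (D : Subgroup S) [hDn : D.Normal]
    (hD : Nat.card D = p) : Subgroup.centralizer (D : Set S) = ⊤ := by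
  have hcen := R2S.le_centralizer_of_card_eq_prime (R := (⊤ : Subgroup S)) (Z := D)
    (hS.to_subgroup ⊤) le_top (by rw [Subgroup.normalizer_eq_top]) hD
  exact top_le_iff.1 hcen

/-- a normal subgroup of order `p ^ 2` has centralizer of index at most `p` -/
theorem index_centralizer_le_of_card_sq (hS : IsPGroup p S) (D : Subgroup S) [hDn : D.Normal]
    (hD : Nat.card D = p ^ 2) : (Subgroup.centralizer (D : Set S)).index ≤ p := by
  have hDne : D ≠ ⊥ := by
    intro h
    rw [h, Subgroup.card_bot] at hD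
    have := Nat.one_lt_pow (n := 2) (by norm_num) hp.out.one_lt
    omega
  obtain ⟨M, hMn, hMD, hM⟩ := exists_normal_index_p_in_normal hS D hDne
  haveI := hMn
  have hMcard : Nat.card M = p := by
    rw [hD, pow_two] at hM
    exact (Nat.eq_of_mul_eq_mul_left hp.out.pos hM).symm
  have h1 := relIndex_centralizer_le_card hS M D hMD hM
  have h2 := Subgroup.relIndex_mul_index
    (Subgroup.centralizer_le (show (M : Set S) ⊆ D from by exact_mod_cast hMD))
  rw [centralizer_eq_top_of_card_prime hS M hMcard, Subgroup.index_top, mul_one] at h2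
  rw [← h2]
  rw [centralizer_eq_top_of_card_prime hS M hMcard] at h1
  exact h1.trans hMcard.le

/-- a normal subgroup of order `p ^ 3` has centralizer of index at most `p ^ 3` -/
theorem index_centralizer_le_of_card_cube (hS : IsPGroup p S) (D : Subgroup S) [hDn : D.Normal]
    (hD : Nat.card D = p ^ 3) : (Subgroup.centralizer (D : Set S)).index ≤ p ^ 3 := by
  have hDne : D ≠ ⊥ := by
    intro h
    rw [h, Subgroup.card_bot] at hD
    have := Nat.one_lt_pow (n := 3) (by norm_num) hp.out.one_lt
    omega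
  obtain ⟨M, hMn, hMD, hM⟩ := exists_normal_index_p_in_normal hS D hDne
  haveI := hMn
  have hMcard : Nat.card M = p ^ 2 := by
    rw [hD, pow_succ'] at hM
    exact (Nat.eq_of_mul_eq_mul_left hp.out.pos hM).symm
  have h1 := relIndex_centralizer_le_card hS M D hMD hM
  have h2 := Subgroup.relIndex_mul_index
    (Subgroup.centralizer_le (show (M : Set S) ⊆ D from by exact_mod_cast hMD))
  have h3 := index_centralizer_le_of_card_sq hS M hMcard
  rw [← h2]
  calc (Subgroup.centralizer (D : Set S)).relIndex (Subgroup.centralizer (M : Set S)) *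
        (Subgroup.centralizer (M : Set S)).index ≤ Nat.card M * p := Nat.mul_le_mul h1 h3
    _ = p ^ 3 := by rw [hMcard]; ring

end Cfsg.Agent.Helper1.R2Chief
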