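import Mathlib
import Cfsg.Prelude.Def_CaseTheorems
import Cfsg.Agent.Helper1.AutPlumbing
import Cfsg.Agent.Helper1.Class2
import Cfsg.Agent.Helper1.R2ChiefA
import Cfsg.Agent.S3771

set_option autoImplicit false

/-!
Tools for the bound on chief factors of groups of `p`-rank at most two: `Ω₁(Z(P))`, preimages of
characteristic subgroups, large subgroups of exponent `p` from quotients of rank at least three,
and the two easy cases (exponent `p`; Frattini subgroup central).
-/

namespace Cfsg.Agent.Helper1.R2Chief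

open scoped commutatorElement

universe u

variable {P : Type u} [Group P]

/-- preimage of a characteristic subgroup of the quotient by a characteristic subgroup -/
theorem comap_mk_characteristic (N : Subgroup P) [N.Normal] (hN : N.Characteristic)
    (L : Subgroup (P ⧸ N)) [hL : L.Characteristic] :
    (L.comap (QuotientGroup.mk' N)).Characteristic := by
  rw [Subgroup.characteristic_iff_le_comap]
  intro ϕ x hx
  rw [Subgroup.mem_comap] at hx
  rw [Subgroup.mem_comap, Subgroup.mem_comap]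
  have := (Subgroup.characteristic_iff_le_comap.1 hL) (AutPlumbing.quotAut N hN ϕ) hx
  exact this

/-- `Ω₁(Z(P))` -/
def omegaCenter (p : ℕ) (P : Type u) [Group P] : Subgroup P where
  carrier := {x | x ∈ Subgroup.center P ∧ x ^ p = 1}
  one_mem' := ⟨one_mem _, one_pow _⟩
  mul_mem' := by
    rintro x y ⟨hx, hxp⟩ ⟨hy, hyp⟩
    refine ⟨mul_mem hx hy, ?_⟩
    have hc : Commute x y := (Subgroup.mem_center_iff.1 hx y).symm
    rw [hc.mul_pow, hxp, hyp, one_mul]
  inv_mem' := by
    rintro x ⟨hx, hxp⟩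
    exact ⟨inv_mem hx, by rw [inv_pow, hxp, inv_one]⟩

theorem mem_omegaCenter {p : ℕ} {x : P} :
    x ∈ omegaCenter p P ↔ x ∈ Subgroup.center P ∧ x ^ p = 1 := Iff.rfl

instance omegaCenter_characteristic (p : ℕ) : (omegaCenter p P).Characteristic := by
  rw [Subgroup.characteristic_iff_le_comap]
  intro ϕ x hx
  rw [Subgroup.mem_comap, mem_omegaCenter]
  obtain ⟨h1, h2⟩ := hx
  refine ⟨?_, ?_⟩
  · have hc : (Subgroup.center P).Characteristic := inferInstance
    exact (Subgroup.characteristic_iff_le_comap.1 hc) ϕ h1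
  · change (ϕ x) ^ p = 1
    rw [← map_pow, h2, map_one]

theorem omegaCenter_ne_bot [Finite P] [Nontrivial P] {p : ℕ} [hp : Fact p.Prime]
    (hP : IsPGroup p P) : omegaCenter p P ≠ ⊥ := by
  haveI : Nontrivial (Subgroup.center P) := hP.center_nontrivial
  have hZ : IsPGroup p (Subgroup.center P) := hP.to_subgroup _
  obtain ⟨k, hk⟩ := IsPGroup.iff_card.1 hZ
  have hk0 : k ≠ 0 := by
    rintro rfl
    rw [pow_zero] at hk
    have := Finite.one_lt_card (α := Subgroup.center P)
    omega
  have hdvd : p ∣ Nat.card (Subgroup.center P) := by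
    rw [hk]; exact dvd_pow_self p hk0
  obtain ⟨z, hz⟩ := exists_prime_orderOf_dvd_card' p hdvd
  intro hbot
  have hmem : (z : P) ∈ omegaCenter p P := by
    refine ⟨z.2, ?_⟩
    have h1 : z ^ p = 1 := by rw [← hz]; exact pow_orderOf_eq_one z
    have h2 := congrArg Subtype.val h1
    simpa using h2
  rw [hbot, Subgroup.mem_bot] at hmem
  have hz1 : z = 1 := Subtype.ext hmem
  rw [hz1, orderOf_one] at hz
  exact hp.out.one_lt.ne hz

/-- a quotient by a central subgroup of exponent `p` containing a large elementary abelian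
subgroup yields a large subgroup of exponent `p`. -/
theorem exists_exponent_p_of_quotient_rank [Finite P] {p : ℕ} [hp : Fact p.Prime] (hp2 : p ≠ 2)
    (N : Subgroup P) [hNn : N.Normal] (hNc : N ≤ Subgroup.center P) (hNe : ∀ x ∈ N, x ^ p = 1)
    (A : Subgroup (P ⧸ N)) (hAc : ∀ a ∈ A, ∀ b ∈ A, a * b = b * a) (hAe : ∀ a ∈ A, a ^ p = 1) :
    ∃ W : Subgroup P, (∀ w ∈ W, w ^ p = 1) ∧ Nat.card A ≤ Nat.card W := by
  classical
  obtain ⟨E, hE⟩ : ∃ E : Subgroup P, E = A.comap (QuotientGroup.mk' N) := ⟨_, rfl⟩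
  have hmemE : ∀ x : P, x ∈ E ↔ QuotientGroup.mk' N x ∈ A := by
    intro x; rw [hE, Subgroup.mem_comap]
  have hdvd : p ∣ p.choose 2 := by
    apply hp.out.dvd_choose_self (by norm_num)
    have := hp.out.two_le
    omega
  have hmul : ∀ x ∈ E, ∀ y ∈ E, (x * y) ^ p = x ^ p * y ^ p := by
    intro x hx y hy
    have hcN : y * x * y⁻¹ * x⁻¹ ∈ N := by
      rw [← QuotientGroup.eq_one_iff]
      have h1 := hAc _ ((hmemE y).1 hy) _ ((hmemE x).1 hx)
      change QuotientGroup.mk' N (y * x * y⁻¹ * x⁻¹) = 1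
      rw [map_mul, map_mul, map_mul, map_inv, map_inv, h1]
      group
    have hcen : ∀ z, Commute (y * x * y⁻¹ * x⁻¹) z := by
      intro z
      exact (Subgroup.mem_center_iff.1 (hNc hcN) z).symm
    have hyx : y * x = (y * x * y⁻¹ * x⁻¹) * x * y := by group
    rw [mul_pow_of_central hcen hyx p]
    obtain ⟨k, hk⟩ := hdvd
    rw [hk, pow_mul, hNe _ hcN, one_pow, mul_one]
  let ψ : ↥E →* P := MonoidHom.mk' (fun x => (x : P) ^ p) (by
    intro x y
    exact hmul x x.2 y y.2)
  have hψ : ∀ x : ↥E, ψ x = (x : P) ^ p := fun x => rfl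
  refine ⟨ψ.ker.map E.subtype, ?_, ?_⟩
  · rintro _ ⟨x, hx, rfl⟩
    rw [SetLike.mem_coe, MonoidHom.mem_ker, hψ] at hx
    exact hx
  · rw [Subgroup.card_map_of_injective E.subtype_injective]
    have hrange : Nat.card ψ.range ≤ Nat.card N := by
      apply Subgroup.card_le_of_le
      rintro _ ⟨x, rfl⟩
      rw [hψ, ← QuotientGroup.eq_one_iff]
      change QuotientGroup.mk' N ((x : P) ^ p) = 1
      rw [map_pow]
      exact hAe _ ((hmemE x).1 x.2)
    have h1 : Nat.card ↥E = Nat.card ψ.ker * Nat.card ψ.range := by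
      rw [← Subgroup.index_ker, mul_comm]
      exact (Subgroup.index_mul_card ψ.ker).symm
    have h2 : Nat.card ↥E = Nat.card A * Nat.card N := by
      have h3 : E.index = A.index := by
        rw [hE]; exact Subgroup.index_comap_of_surjective A (QuotientGroup.mk'_surjective N)
      have h4 := Subgroup.index_mul_card E
      have h5 := Subgroup.index_mul_card A
      have h6 := Subgroup.card_eq_card_quotient_mul_card_subgroup N
      rw [h3] at h4
      have hpos : 0 < A.index := Nat.pos_of_ne_zero Subgroup.index_ne_zero_of_finite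
      have h7 : A.index * Nat.card ↥E = A.index * (Nat.card A * Nat.card N) := by
        rw [h4, h6, ← h5]; ring
      exact Nat.eq_of_mul_eq_mul_left hpos h7
    have hNpos : 0 < Nat.card N := Nat.card_pos
    have h8 : Nat.card A * Nat.card N ≤ Nat.card ψ.ker * Nat.card N := by
      rw [← h2, h1]
      exact Nat.mul_le_mul_left _ hrange
    exact Nat.le_of_mul_le_mul_right h8 hNpos

/-- the case of exponent `p` -/
theorem index_le_of_exponent_p [Finite P] {p : ℕ} [hp : Fact p.Prime] (hP : IsPGroup p P)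
    (hr : Cfsg.PRankLE p 2 P) (hexp : ∀ x : P, x ^ p = 1) (K₀ N : Subgroup P) (hNK : N ≤ K₀)
    (hN : N ≠ ⊥) : K₀.index ≤ p ^ 2 := by
  have h1 : Nat.card P ≤ p ^ 3 := Cfsg.Agent.S3771.result hP hr hexp
  have h2 : p ≤ Nat.card N := by
    have hNp : IsPGroup p N := hP.to_subgroup N
    obtain ⟨k, hk⟩ := IsPGroup.iff_card.1 hNp
    have hk0 : k ≠ 0 := by
      rintro rfl
      rw [pow_zero] at hk
      exact hN ((Subgroup.card_eq_one).1 hk)
    rw [hk]
    calc p = p ^ 1 := (pow_one p).symm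
      _ ≤ p ^ k := Nat.pow_le_pow_right hp.out.pos (Nat.one_le_iff_ne_zero.2 hk0)
  have h3 : p ≤ Nat.card K₀ := h2.trans (Subgroup.card_le_of_le hNK)
  have h4 := Subgroup.index_mul_card K₀
  by_contra hcon
  push Not at hcon
  have h5 : (p ^ 2 + 1) * p ≤ K₀.index * Nat.card K₀ := Nat.mul_le_mul hcon h3
  rw [h4] at h5
  have h6 : p ^ 3 < (p ^ 2 + 1) * p := by
    have := hp.out.pos
    nlinarith
  omega

/-- the case in which commutators and `p`-th powers are central -/
theorem index_le_of_frattini_central [Finite P] {p : ℕ} [hp : Fact p.Prime] (hp2 : p ≠ 2)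
    (hP : IsPGroup p P) (hr : Cfsg.PRankLE p 2 P)
    (hcomm : ∀ x y : P, ⁅x, y⁆ ∈ Subgroup.center P) (hpow : ∀ x : P, x ^ p ∈ Subgroup.center P)
    (hne : ∃ x : P, x ^ p ≠ 1) (K₀ : Subgroup P)
    (hchar : ∀ L : Subgroup P, L.Characteristic → L ≠ ⊤ → L ≤ K₀) : K₀.index ≤ p ^ 2 := by
  classical
  have h2 : ⁅commutator P, (⊤ : Subgroup P)⁆ = ⊥ := by
    rw [eq_bot_iff, Subgroup.commutator_le]
    intro g₁ hg₁ g₂ _
    have hle : commutator P ≤ Subgroup.center P := by
      rw [commutator_def, Subgroup.commutator_le]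
      intro x _ y _
      exact hcomm x y
    rw [Subgroup.mem_bot, commutatorElement_eq_one_iff_commute]
    exact (Subgroup.mem_center_iff.1 (hle hg₁) g₂).symm
  have hmul : ∀ x y : P, (x * y) ^ p = x ^ p * y ^ p := by
    intro x y
    apply mul_pow_prime_of_class_two hp2 h2
    have hcen : ∀ z, Commute ⁅y, x⁆ z := commute_commutator_of_class_two h2 y x
    rw [← commutator_pow_left_of_central hcen p, commutatorElement_eq_one_iff_commute]
    exact (Subgroup.mem_center_iff.1 (hpow y) x).symm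
  have hmulm : ∀ m : ℕ, ∀ x y : P, (x * y) ^ p ^ m = x ^ p ^ m * y ^ p ^ m := by
    intro m
    induction m with
    | zero => intro x y; simp
    | succ m ih =>
      intro x y
      rw [pow_succ, pow_mul, pow_mul, pow_mul, ih, hmul]
  have hex : ∃ j : ℕ, ∀ x : P, x ^ p ^ j = 1 := by
    obtain ⟨k, hk⟩ := IsPGroup.iff_card.1 hP
    refine ⟨k, fun x => ?_⟩
    rw [← hk]; exact pow_card_eq_one'
  obtain ⟨x₀, hx₀⟩ := hne
  have hj2 : 2 ≤ Nat.find hex := by
    by_contra hlt
    push Not at hlt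
    have hspec := Nat.find_spec hex
    interval_cases h : Nat.find hex
    · have := hspec x₀
      rw [pow_zero, pow_one] at this
      rw [this, one_pow] at hx₀
      exact hx₀ rfl
    · have := hspec x₀
      rw [pow_one] at this
      exact hx₀ this
  obtain ⟨m, hm⟩ : ∃ m : ℕ, Nat.find hex = m + 1 := ⟨Nat.find hex - 1, by omega⟩
  have hm1 : 1 ≤ m := by omega
  have hnotm : ¬ ∀ x : P, x ^ p ^ m = 1 := Nat.find_min hex (by omega)
  have hall : ∀ x : P, x ^ p ^ (m + 1) = 1 := by
    have := Nat.find_spec hex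
    rwa [hm] at this
  let ψ : P →* P := MonoidHom.mk' (fun x => x ^ p ^ m) (hmulm m)
  have hψ : ∀ x : P, ψ x = x ^ p ^ m := fun x => rfl
  have hkchar : ψ.ker.Characteristic := by
    rw [Subgroup.characteristic_iff_le_comap]
    intro ϕ x hx
    rw [Subgroup.mem_comap, MonoidHom.mem_ker, hψ]
    rw [MonoidHom.mem_ker, hψ] at hx
    change (ϕ x) ^ p ^ m = 1
    rw [← map_pow, hx, map_one]
  have hkne : ψ.ker ≠ ⊤ := by
    intro h
    apply hnotm
    intro x
    have : x ∈ ψ.ker := by rw [h]; exact Subgroup.mem_top x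
    rwa [MonoidHom.mem_ker, hψ] at this
  have hle := hchar ψ.ker hkchar hkne
  have h3 : K₀.index ≤ ψ.ker.index :=
    Nat.le_of_dvd (Nat.pos_of_ne_zero Subgroup.index_ne_zero_of_finite)
      (Subgroup.index_dvd_of_le hle)
  rw [Subgroup.index_ker] at h3
  refine h3.trans ?_
  apply hr ψ.range
  · refine ⟨⟨?_⟩⟩
    rintro ⟨_, x, rfl⟩ ⟨_, y, rfl⟩
    apply Subtype.ext
    change ψ x * ψ y = ψ y * ψ x
    rw [hψ, hψ]
    have hxc : x ^ p ^ m ∈ Subgroup.center P := by
      obtain ⟨m', rfl⟩ : ∃ m', m = m' + 1 := ⟨m - 1, by omega⟩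
      rw [pow_succ, pow_mul]
      exact hpow _
    exact (Subgroup.mem_center_iff.1 hxc _).symm
  · intro a ha
    obtain ⟨x, rfl⟩ := ha
    rw [hψ, ← pow_mul, ← pow_succ]
    exact hall x

end Cfsg.Agent.Helper1.R2Chief
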