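import Mathlib
import Cfsg.Agent.Helper1.MetacyclicOmega
import Cfsg.Agent.Helper1.R2SA
import Cfsg.Agent.Helper1.Class2
import Cfsg.Agent.Helper1.Supersolvable4

set_option autoImplicit false

/-!
RPRIME piece P3 (`caseTwo`): a finite `p`-group (`p` odd) generated by a normal set of elements of
order `p`, having a self-centralizing normal abelian subgroup `A` with a family of normal subgroups
`K i ≤ A` with cyclic quotients `A / K i` and trivial intersection, is abelian.
-/

namespace Cfsg.Agent.Helper1.RPC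

open scoped commutatorElement

section cyc

variable {G : Type*} [Group G] [Finite G] {p : ℕ} [hp : Fact p.Prime]

/-- elements of order dividing `p` of a cyclic normal subgroup of a `p`-group are central -/
theorem central_of_pow_prime (hG : IsPGroup p G) (C : Subgroup G) [hCn : C.Normal]
    [hC : IsCyclic C] {c : G} (hc : c ∈ C) (hcp : c ^ p = 1) (g : G) : g * c = c * g := by
  by_cases h1 : c = 1
  · subst h1; simp
  have hord : orderOf c = p := orderOf_eq_prime hcp h1
  have hZ : Nat.card (Subgroup.zpowers c) = p := by rw [Nat.card_zpowers, hord]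
  have hZC : Subgroup.zpowers c ≤ C := Subgroup.zpowers_le.2 hc
  have hZ' : Nat.card ((Subgroup.zpowers c).subgroupOf C) = p := by
    rw [card_subgroupOf_of_le hZC, hZ]
  have hconj : ∀ x : G, ∀ z ∈ Subgroup.zpowers c, x * z * x⁻¹ ∈ Subgroup.zpowers c := by
    intro x z hz
    have hzC : z ∈ C := hZC hz
    have hzp : z ^ p = 1 := by
      obtain ⟨k, rfl⟩ := Subgroup.mem_zpowers_iff.1 hz
      rw [← zpow_natCast, ← zpow_mul, mul_comm, zpow_mul, zpow_natCast, hcp, one_zpow]
    have hxC : x * z * x⁻¹ ∈ C := hCn.conj_mem z hzC x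
    have hxp : (⟨x * z * x⁻¹, hxC⟩ : C) ^ p = 1 := by
      apply Subtype.ext
      rw [Subgroup.coe_pow, Subgroup.coe_one]
      change (x * z * x⁻¹) ^ p = 1
      rw [conj_pow, hzp, mul_one, mul_inv_cancel]
    have := mem_of_pow_eq_one_of_card_eq_cyclic ((Subgroup.zpowers c).subgroupOf C) p
      hp.out.pos hZ' _ hxp
    exact Subgroup.mem_subgroupOf.1 this
  have hnorm : (⊤ : Subgroup G) ≤ Subgroup.normalizer ((Subgroup.zpowers c : Subgroup G) : Set G) := by
    intro x _
    rw [Subgroup.mem_normalizer_iff]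
    intro h
    constructor
    · exact hconj x h
    · intro hh
      have := hconj x⁻¹ _ hh
      simpa [mul_assoc] using this
  have hcen := R2S.le_centralizer_of_card_eq_prime (R := (⊤ : Subgroup G)) (Z := Subgroup.zpowers c)
    (hG.to_subgroup ⊤) le_top hnorm hZ
  have h2 := hcen (Subgroup.mem_top g)
  rw [Subgroup.mem_centralizer_iff] at h2
  exact (h2 c (Subgroup.mem_zpowers c)).symm

/-- in a `p`-group, `p` odd, with cyclic normal subgroup `C`: if `t` and `t * w` have order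
dividing `p` and `w ∈ C`, then `w ^ p = 1`. -/
theorem pow_prime_eq_one_of_mul (hp2 : p ≠ 2) (hG : IsPGroup p G) (C : Subgroup G) [hCn : C.Normal]
    [hC : IsCyclic C] {t w : G} (hw : w ∈ C) (ht : t ^ p = 1) (htw : (t * w) ^ p = 1) :
    w ^ p = 1 := by
  set R : Subgroup G := Subgroup.zpowers t ⊔ C with hR
  have htR : t ∈ R := (le_sup_left : Subgroup.zpowers t ≤ R) (Subgroup.mem_zpowers t)
  have hCR : C ≤ R := le_sup_right
  have hwR : w ∈ R := hCR hw
  haveI hNn : (C.subgroupOf R).Normal := hCn.subgroupOf R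
  have hNc : IsCyclic (C.subgroupOf R) :=
    isCyclic_of_surjective (Subgroup.subgroupOfEquivOfLe hCR).symm
      (Subgroup.subgroupOfEquivOfLe hCR).symm.surjective
  have hQc : IsCyclic (R ⧸ C.subgroupOf R) := by
    let f : Subgroup.zpowers t →* R ⧸ C.subgroupOf R :=
      (QuotientGroup.mk' (C.subgroupOf R)).comp (Subgroup.inclusion (le_sup_left : _ ≤ R))
    apply isCyclic_of_surjective f
    intro u
    obtain ⟨⟨r, hr⟩, rfl⟩ := QuotientGroup.mk_surjective u
    have hr' := hr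
    rw [hR, Subgroup.mem_sup_of_normal_right] at hr'
    obtain ⟨y, hy, z, hz, hyz⟩ := hr'
    refine ⟨⟨y, hy⟩, ?_⟩
    change QuotientGroup.mk' (C.subgroupOf R) _ = QuotientGroup.mk' (C.subgroupOf R) _
    rw [QuotientGroup.mk'_eq_mk']
    refine ⟨⟨z, hCR hz⟩, Subgroup.mem_subgroupOf.2 hz, ?_⟩
    apply Subtype.ext
    simpa using hyz
  by_cases hcyc : IsCyclic R
  · have hcomm : (⟨t, htR⟩ : R) * ⟨w, hwR⟩ = ⟨w, hwR⟩ * ⟨t, htR⟩ := by
      letI := hcyc.commGroup
      exact mul_comm _ _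
    have hcomm' : Commute t w := congrArg Subtype.val hcomm
    rw [hcomm'.mul_pow, ht, one_mul] at htw
    exact htw
  · obtain ⟨K, hK, -, -⟩ := metacyclic_omega_aux hp2 (hG.to_subgroup R) hcyc _ (C.subgroupOf R)
      hNc hQc rfl
    have h1 : (⟨t, htR⟩ : R) ∈ K := by
      have : (⟨t, htR⟩ : R) ∈ (K : Set R) := by
        rw [hK]; exact Subtype.ext (by simpa using ht)
      exact this
    have h2 : (⟨t * w, R.mul_mem htR hwR⟩ : R) ∈ K := by
      have : (⟨t * w, R.mul_mem htR hwR⟩ : R) ∈ (K : Set R) := by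
        rw [hK]; exact Subtype.ext (by simpa using htw)
      exact this
    have h3 : (⟨w, hwR⟩ : R) ∈ K := by
      have := K.mul_mem (K.inv_mem h1) h2
      have he : (⟨t, htR⟩ : R)⁻¹ * ⟨t * w, R.mul_mem htR hwR⟩ = ⟨w, hwR⟩ := by
        apply Subtype.ext; simp
      rwa [he] at this
    have h4 : (⟨w, hwR⟩ : R) ∈ (K : Set R) := h3
    rw [hK] at h4
    have h5 := congrArg Subtype.val (show (⟨w, hwR⟩ : R) ^ p = 1 from h4)
    simpa using h5

end cyc

/-- the three facts about a cyclic section `A / K` used in `caseTwo` -/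
theorem quot_facts {P : Type*} [Group P] [Finite P] {p : ℕ} [hp : Fact p.Prime] (hp2 : p ≠ 2)
    (hP : IsPGroup p P) (A K : Subgroup P) [hA : A.Normal] [hK : K.Normal]
    (hcyc : ∃ a ∈ A, ∀ b ∈ A, ∃ k : ℕ, b * (a ^ k)⁻¹ ∈ K) :
    (∀ d ∈ commutator P, ∀ a ∈ A, d * a * d⁻¹ * a⁻¹ ∈ K) ∧
    (∀ a ∈ A, a ^ p = 1 → ∀ g : P, g * a * g⁻¹ * a⁻¹ ∈ K) ∧
    (∀ t w : P, w ∈ A → t ^ p = 1 → (t * w) ^ p = 1 → w ^ p ∈ K) := by
  obtain ⟨a, haA, ha⟩ := hcyc
  have hπ : ∀ x : P, QuotientGroup.mk' K x = 1 ↔ x ∈ K := fun x => QuotientGroup.eq_one_iff x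
  have hsurj : Function.Surjective (QuotientGroup.mk' K) := QuotientGroup.mk'_surjective K
  haveI hCn : (A.map (QuotientGroup.mk' K)).Normal := hA.map _ hsurj
  have hmemC : ∀ x ∈ A, QuotientGroup.mk' K x ∈ A.map (QuotientGroup.mk' K) :=
    fun x hx => Subgroup.mem_map_of_mem _ hx
  haveI hCc : IsCyclic (A.map (QuotientGroup.mk' K)) := by
    refine ⟨⟨⟨QuotientGroup.mk' K a, hmemC a haA⟩, ?_⟩⟩
    rintro ⟨y, b, hb, rfl⟩
    obtain ⟨k, hk⟩ := ha b hb
    refine ⟨(k : ℤ), ?_⟩
    apply Subtype.ext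
    have h1 : QuotientGroup.mk' K (b * (a ^ k)⁻¹) = 1 := (hπ _).2 hk
    rw [map_mul, map_inv, map_pow, mul_inv_eq_one] at h1
    simp only [zpow_natCast, Subgroup.coe_pow]
    exact h1.symm
  have hQ : IsPGroup p (P ⧸ K) := hP.to_quotient K
  refine ⟨?_, ?_, ?_⟩
  · intro d hd x hx
    rw [← hπ]
    have h1 : QuotientGroup.mk' K d ∈ commutator (P ⧸ K) := by
      rw [commutator_def] at hd ⊢
      have h2 : QuotientGroup.mk' K d ∈ Subgroup.map (QuotientGroup.mk' K) ⁅(⊤ : Subgroup P), ⊤⁆ :=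
        Subgroup.mem_map_of_mem _ hd
      rw [Subgroup.map_commutator] at h2
      exact Subgroup.commutator_mono le_top le_top h2
    have h3 := commutator_le_centralizer_of_cyclic_normal (A.map (QuotientGroup.mk' K)) h1
    rw [Subgroup.mem_centralizer_iff] at h3
    have h4 := h3 _ (hmemC x hx)
    rw [map_mul (QuotientGroup.mk' K), map_mul (QuotientGroup.mk' K), map_mul (QuotientGroup.mk' K),
      map_inv (QuotientGroup.mk' K), map_inv (QuotientGroup.mk' K), ← h4]
    group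
  · intro x hx hxp g
    rw [← hπ]
    have h1 := central_of_pow_prime hQ (A.map (QuotientGroup.mk' K)) (hmemC x hx)
      (by rw [← map_pow, hxp, map_one]) (QuotientGroup.mk' K g)
    rw [map_mul (QuotientGroup.mk' K), map_mul (QuotientGroup.mk' K), map_mul (QuotientGroup.mk' K),
      map_inv (QuotientGroup.mk' K), map_inv (QuotientGroup.mk' K), h1]
    group
  · intro t w hw ht htw
    rw [← hπ, map_pow]
    have e1 : (QuotientGroup.mk' K t) ^ p = 1 := by rw [← map_pow, ht, map_one]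
    have e2 : (QuotientGroup.mk' K t * QuotientGroup.mk' K w) ^ p = 1 := by
      rw [← map_mul, ← map_pow, htw, map_one]
    exact pow_prime_eq_one_of_mul hp2 hQ (A.map (QuotientGroup.mk' K)) (hmemC w hw) e1 e2

theorem caseTwo {P : Type*} [Group P] [Finite P] {p : ℕ} [Fact p.Prime] (hp2 : p ≠ 2)
    (hP : IsPGroup p P) (Y : Set P) (hYconj : ∀ g : P, ∀ t ∈ Y, g * t * g⁻¹ ∈ Y)
    (hYp : ∀ t ∈ Y, t ^ p = 1) (hgen : Subgroup.closure Y = ⊤)
    (A : Subgroup P) [A.Normal] (hAab : ∀ a ∈ A, ∀ b ∈ A, a * b = b * a)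
    (hCA : ∀ d : P, (∀ a ∈ A, d * a = a * d) → d ∈ A)
    {ι : Type*} (K : ι → Subgroup P) (hKA : ∀ i, K i ≤ A) (hKn : ∀ i, (K i).Normal)
    (hKcyc : ∀ i, ∃ a ∈ A, ∀ b ∈ A, ∃ k : ℕ, b * (a ^ k)⁻¹ ∈ K i)
    (hKint : ∀ a ∈ A, (∀ i, a ∈ K i) → a = 1) : ∀ g h : P, g * h = h * g := by
  have hAn : A.Normal := inferInstance
  have hF := fun i => by
    haveI := hKn i
    exact quot_facts hp2 hP A (K i) (hKcyc i)
  -- S1: commutator ≤ A
  have hS1 : commutator P ≤ A := by
    intro d hd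
    apply hCA
    intro a ha
    have h1 : d * a * d⁻¹ * a⁻¹ = 1 := by
      apply hKint
      · exact A.mul_mem (hAn.conj_mem a ha d) (A.inv_mem ha)
      · intro i; exact (hF i).1 d hd a ha
    calc d * a = (d * a * d⁻¹ * a⁻¹) * a * d := by group
      _ = a * d := by rw [h1, one_mul]
  -- S2: elements of order p of A are central
  have hS2 : ∀ a ∈ A, a ^ p = 1 → ∀ g : P, g * a = a * g := by
    intro a ha hap g
    have h1 : g * a * g⁻¹ * a⁻¹ = 1 := by
      apply hKint
      · exact A.mul_mem (hAn.conj_mem a ha g) (A.inv_mem ha)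
      · intro i; exact (hF i).2.1 a ha hap g
    calc g * a = (g * a * g⁻¹ * a⁻¹) * a * g := by group
      _ = a * g := by rw [h1, one_mul]
  -- S3
  have hS3 : ∀ t ∈ Y, ∀ g : P, ∀ x : P, x * (t⁻¹ * (g * t * g⁻¹)) = (t⁻¹ * (g * t * g⁻¹)) * x := by
    intro t ht g
    have hwA : t⁻¹ * (g * t * g⁻¹) ∈ A := by
      apply hS1
      have : t⁻¹ * (g * t * g⁻¹) = ⁅t⁻¹, g⁆ := by rw [commutatorElement_def]; group
      rw [this]
      exact Subgroup.commutator_mem_commutator (Subgroup.mem_top _) (Subgroup.mem_top _)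
    have htw : (t * (t⁻¹ * (g * t * g⁻¹))) ^ p = 1 := by
      rw [mul_inv_cancel_left]
      exact hYp _ (hYconj g t ht)
    have hwp : (t⁻¹ * (g * t * g⁻¹)) ^ p = 1 := by
      apply hKint
      · exact A.pow_mem hwA p
      · intro i; exact (hF i).2.2 t _ hwA (hYp t ht) htw
    exact hS2 _ hwA hwp
  -- S4: class two
  have hS4 : ∀ x y : P, x * y * x⁻¹ * y⁻¹ ∈ Subgroup.center P := by
    have hle : Subgroup.closure Y ≤ Subgroup.upperCentralSeries P 2 := by
      rw [Subgroup.closure_le]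
      intro t ht
      rw [SetLike.mem_coe, show (2 : ℕ) = 1 + 1 from rfl, Subgroup.mem_upperCentralSeries_succ_iff]
      intro y
      rw [Subgroup.upperCentralSeries_one, Subgroup.mem_center_iff]
      intro x
      change x * (t * y * t⁻¹ * y⁻¹) = (t * y * t⁻¹ * y⁻¹) * x
      have h1 := hS3 t ht y
      -- t * y * t⁻¹ * y⁻¹ = (t⁻¹ * (y * t * y⁻¹))⁻¹
      have h2 : t * y * t⁻¹ * y⁻¹ = (t⁻¹ * (y * t * y⁻¹))⁻¹ := by
        have h3 := h1 t
        have h4 : t * (t⁻¹ * (y * t * y⁻¹)) * t⁻¹ = t⁻¹ * (y * t * y⁻¹) := by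
          rw [h3]; group
        calc t * y * t⁻¹ * y⁻¹ = (t * (t⁻¹ * (y * t * y⁻¹)) * t⁻¹)⁻¹ := by group
          _ = (t⁻¹ * (y * t * y⁻¹))⁻¹ := by rw [h4]
      rw [h2]
      have h5 := h1 x
      have h6 : Commute x (t⁻¹ * (y * t * y⁻¹)) := h5
      exact (h6.inv_right).eq
    rw [hgen] at hle
    intro x y
    have h1 := hle (Subgroup.mem_top x)
    rw [show (2 : ℕ) = 1 + 1 from rfl, Subgroup.mem_upperCentralSeries_succ_iff] at h1
    have h2 := h1 y
    rwa [Subgroup.upperCentralSeries_one] at h2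
  have hcl2 : ⁅commutator P, (⊤ : Subgroup P)⁆ = ⊥ := by
    have hle : commutator P ≤ Subgroup.center P := by
      rw [commutator_def, Subgroup.commutator_le]
      intro x _ y _
      rw [commutatorElement_def]
      exact hS4 x y
    rw [eq_bot_iff, Subgroup.commutator_le]
    intro g₁ hg₁ g₂ _
    rw [Subgroup.mem_bot, commutatorElement_eq_one_iff_commute]
    have := Subgroup.mem_center_iff.1 (hle hg₁) g₂
    exact this.symm
  -- S5 exponent p
  have hexp : ∀ g : P, g ^ p = 1 := by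
    intro g
    apply pow_prime_eq_one_of_mem_closure hp2 hcl2
    have hle : Subgroup.closure Y ≤ Subgroup.closure {x : P | x ^ p = 1} :=
      Subgroup.closure_mono (fun t ht => hYp t ht)
    exact hle (hgen ▸ Subgroup.mem_top g)
  have hall : ∀ d : P, d ∈ A := by
    intro d
    apply hCA
    intro a ha
    exact hS2 a ha (hexp a) d
  intro g h
  exact hAab g (hall g) h (hall h)

end Cfsg.Agent.Helper1.RPC
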