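import Mathlib
import Cfsg.Prelude.Def_CaseTheorems
import Cfsg.Agent.Helper1.R2ChiefB
import Cfsg.Agent.Helper1.OmegaOdd
import Cfsg.Agent.Helper1.RPCaseTwoA
import Cfsg.Agent.S0016

set_option autoImplicit false

/-!
The critical-subgroup case of the bound on chief factors in rank at most two.
-/

namespace Cfsg.Agent.Helper1.R2Chief

open scoped commutatorElement

universe u

variable {P : Type u} [Group P]

/-- rank at most two, in elementwise form -/
theorem card_le_of_comm_exp {p : ℕ} (hr : Cfsg.PRankLE p 2 P) (A : Subgroup P)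
    (hAc : ∀ a ∈ A, ∀ b ∈ A, a * b = b * a) (hAe : ∀ a ∈ A, a ^ p = 1) : Nat.card A ≤ p ^ 2 := by
  apply hr A
  · exact ⟨⟨fun a b => Subtype.ext (hAc a a.2 b b.2)⟩⟩
  · exact hAe

/-- a set of pairwise commuting elements of order dividing `p` generates a commutative subgroup
of exponent dividing `p` -/
theorem closure_comm_exp {p : ℕ} (S : Set P) (hc : ∀ x ∈ S, ∀ y ∈ S, x * y = y * x)
    (he : ∀ x ∈ S, x ^ p = 1) :
    (∀ x ∈ Subgroup.closure S, ∀ y ∈ Subgroup.closure S, x * y = y * x) ∧
      ∀ x ∈ Subgroup.closure S, x ^ p = 1 := by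
  have hcomm : ∀ x ∈ Subgroup.closure S, ∀ y ∈ Subgroup.closure S, x * y = y * x := by
    have h := Subgroup.isMulCommutative_closure hc
    intro x hx y hy
    have := h.is_comm.comm ⟨x, hx⟩ ⟨y, hy⟩
    exact congrArg Subtype.val this
  refine ⟨hcomm, ?_⟩
  intro x hx
  induction hx using Subgroup.closure_induction with
  | mem x hx => exact he x hx
  | one => exact one_pow p
  | mul x y hx hy ihx ihy =>
    have hc' : Commute x y := hcomm x hx y hy
    rw [hc'.mul_pow, ihx, ihy, one_mul]
  | inv x _ ihx => rw [inv_pow, ihx, inv_one]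

variable [Finite P] {p : ℕ} [hp : Fact p.Prime]

/-- a noncommutative subgroup of exponent `p` in rank at most two has order `p ^ 3` -/
theorem card_eq_cube_of_noncomm (hP : IsPGroup p P) (hr : Cfsg.PRankLE p 2 P) (D : Subgroup P)
    (hDe : ∀ x ∈ D, x ^ p = 1) (hnc : ∃ a ∈ D, ∃ b ∈ D, a * b ≠ b * a) :
    Nat.card D = p ^ 3 := by
  have hDp : IsPGroup p D := hP.to_subgroup D
  have hrD : Cfsg.PRankLE p 2 ↥D := by
    intro A hAc hAe
    have h1 := hr (A.map D.subtype) (by
      refine ⟨⟨?_⟩⟩
      rintro ⟨_, x, hx, rfl⟩ ⟨_, y, hy, rfl⟩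
      apply Subtype.ext
      have := hAc.is_comm.comm ⟨x, hx⟩ ⟨y, hy⟩
      have h5 := congrArg (fun z : ↥A => ((z : ↥D) : P)) this
      simpa using h5) (by
      rintro _ ⟨x, hx, rfl⟩
      have := hAe x hx
      have h5 := congrArg (fun z : ↥D => (z : P)) this
      simpa using h5)
    rwa [Nat.card_congr (A.equivMapOfInjective D.subtype D.subtype_injective).toEquiv]
  have h3 : Nat.card D ≤ p ^ 3 := Cfsg.Agent.S3771.result hDp hrD (fun x => by
    apply Subtype.ext
    simpa using hDe x x.2)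
  obtain ⟨k, hk⟩ := IsPGroup.iff_card.1 hDp
  obtain ⟨a, ha, b, hb, hab⟩ := hnc
  have hk3 : k ≤ 3 := by
    rw [hk] at h3
    exact (Nat.pow_le_pow_iff_right hp.out.one_lt).1 h3
  have hcomm_of : k ≤ 2 → False := by
    intro hk2
    have hcomm : ∀ x y : ↥D, x * y = y * x := by
      interval_cases k
      · rw [pow_zero] at hk
        haveI : Subsingleton ↥D := (Nat.card_eq_one_iff_unique.1 hk).1
        intro x y
        rw [Subsingleton.elim x y]
      · rw [pow_one] at hk
        haveI : IsCyclic ↥D := isCyclic_of_prime_card hk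
        intro x y
        letI := IsCyclic.commGroup (α := ↥D)
        exact mul_comm x y
      · exact (IsPGroup.isMulCommutative_of_card_eq_prime_sq hk).is_comm.comm
    exact hab (congrArg Subtype.val (hcomm ⟨a, ha⟩ ⟨b, hb⟩))
  have : k = 3 := by
    by_contra hne
    exact hcomm_of (by omega)
  rw [hk, this]

/-- the centre of a noncommutative subgroup of order `p ^ 3` has index at least `p ^ 2` -/
theorem sq_le_relIndex_centralizer (D : Subgroup P) (hD : Nat.card D = p ^ 3)
    (hnc : ∃ a ∈ D, ∃ b ∈ D, a * b ≠ b * a) :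
    p ^ 2 ≤ (Subgroup.centralizer (D : Set P)).relIndex D := by
  obtain ⟨a, ha, b, hb, hab⟩ := hnc
  obtain ⟨Z, hZ⟩ : ∃ Z : Subgroup P, Z = Subgroup.centralizer (D : Set P) ⊓ D := ⟨_, rfl⟩
  have hZD : Z ≤ D := by rw [hZ]; exact inf_le_right
  have hZc : ∀ z ∈ Z, ∀ d ∈ D, z * d = d * z := by
    intro z hz d hd
    rw [hZ, Subgroup.mem_inf] at hz
    exact ((Subgroup.mem_centralizer_iff.1 hz.1) d hd).symm
  have hrel : (Subgroup.centralizer (D : Set P)).relIndex D = Z.relIndex D := by
    rw [hZ, Subgroup.inf_relIndex_right]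
  rw [hrel]
  have hmul : Nat.card Z * Z.relIndex D = p ^ 3 := by
    have := Subgroup.relIndex_mul_relIndex ⊥ Z D bot_le hZD
    rwa [Subgroup.relIndex_bot_left, Subgroup.relIndex_bot_left, hD] at this
  have hdvd : Z.relIndex D ∣ p ^ 3 := Dvd.intro_left _ hmul
  obtain ⟨i, hi3, hi⟩ := (Nat.dvd_prime_pow hp.out).1 hdvd
  have hi0 : i ≠ 0 := by
    rintro rfl
    rw [pow_zero, Subgroup.relIndex_eq_one] at hi
    exact hab (hZc a (hi ha) b hb)
  have hi1 : i ≠ 1 := by
    rintro rfl
    rw [pow_one] at hi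
    have hcard : Nat.card D = p * Nat.card Z := by
      rw [hD, ← hmul, hi, mul_comm]
    have hex : ∃ d ∈ D, d ∉ Z := by
      by_contra hcon
      push Not at hcon
      have hDZ : D ≤ Z := hcon
      exact hab (hZc a (hDZ ha) b hb)
    obtain ⟨d, hd, hdZ⟩ := hex
    have hsup := sup_zpowers_eq_of_card_eq Z D hZD hcard d hd hdZ
    have hcl : D = Subgroup.closure ((Z : Set P) ∪ {d}) := by
      rw [← hsup, Subgroup.closure_union, Subgroup.closure_eq, Subgroup.zpowers_eq_closure]
    have hcomm := (closure_comm_exp (p := 0) ((Z : Set P) ∪ {d}) (by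
      rintro x (hx | hx) y (hy | hy)
      · exact hZc x hx y (hZD hy)
      · rw [Set.mem_singleton_iff] at hy; subst hy
        exact hZc x hx y hd
      · rw [Set.mem_singleton_iff] at hx; subst hx
        exact (hZc y hy x hd).symm
      · rw [Set.mem_singleton_iff] at hx hy; subst hx; subst hy; rfl) (by
      intro x _; exact pow_zero x)).1
    rw [← hcl] at hcomm
    exact hab (hcomm a ha b hb)
  rw [hi]
  exact Nat.pow_le_pow_right hp.out.pos (by omega)

end Cfsg.Agent.Helper1.R2Chief
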