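import Mathlib
import Cfsg.Prelude.Def_CaseTheorems
import Cfsg.Agent.Helper1.R2ChiefC

set_option autoImplicit false

/-!
The critical-subgroup case of the bound on chief factors in rank at most two, continued.
-/

namespace Cfsg.Agent.Helper1.R2Chief

open scoped commutatorElement

universe u

variable {P : Type u} [Group P] [Finite P] {p : ℕ} [hp : Fact p.Prime]

/-- `Ω₁` of the critical subgroup is noncommutative -/
theorem index_le_of_noncomm (hP : IsPGroup p P) (hr : Cfsg.PRankLE p 2 P) (D : Subgroup P)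
    [hDc : D.Characteristic] (hDe : ∀ x ∈ D, x ^ p = 1)
    (hnc : ∃ a ∈ D, ∃ b ∈ D, a * b ≠ b * a) (K₀ : Subgroup P) (hDK : D ≤ K₀)
    (hchar : ∀ L : Subgroup P, L.Characteristic → L ≠ ⊤ → L ≤ K₀) : K₀.index ≤ p ^ 2 := by
  have hD : Nat.card D = p ^ 3 := card_eq_cube_of_noncomm hP hr D hDe hnc
  have hDn : D.Normal := inferInstance
  obtain ⟨R, hR⟩ : ∃ R : Subgroup P, R = Subgroup.centralizer (D : Set P) := ⟨_, rfl⟩
  have hRc : R.Characteristic := by rw [hR]; infer_instance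
  have hRn : R.Normal := inferInstance
  have hRne : R ≠ ⊤ := by
    intro h
    obtain ⟨a, ha, b, hb, hab⟩ := hnc
    have : a ∈ R := by rw [h]; exact Subgroup.mem_top a
    rw [hR, Subgroup.mem_centralizer_iff] at this
    exact hab (this b hb).symm
  have hRK : R ≤ K₀ := hchar R hRc hRne
  have hDRK : D ⊔ R ≤ K₀ := sup_le hDK hRK
  have h1 : R.index ≤ p ^ 3 := by rw [hR]; exact index_centralizer_le_of_card_cube hP D hD
  have h2 : p ^ 2 ≤ R.relIndex D := by rw [hR]; exact sq_le_relIndex_centralizer D hD hnc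
  have h3 : R.relIndex (D ⊔ R) * (D ⊔ R).index = R.index :=
    Subgroup.relIndex_mul_index le_sup_right
  rw [Subgroup.relIndex_sup_right] at h3
  have h4 : K₀.index ≤ (D ⊔ R).index :=
    Nat.le_of_dvd (Nat.pos_of_ne_zero Subgroup.index_ne_zero_of_finite)
      (Subgroup.index_dvd_of_le hDRK)
  have h5 : p ^ 2 * (D ⊔ R).index ≤ p ^ 3 := by
    calc p ^ 2 * (D ⊔ R).index ≤ R.relIndex D * (D ⊔ R).index := Nat.mul_le_mul_right _ h2
      _ = R.index := h3
      _ ≤ p ^ 3 := h1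
  have h6 : (D ⊔ R).index ≤ p := by
    have hpos : 0 < p ^ 2 := pow_pos hp.out.pos 2
    have : p ^ 2 * (D ⊔ R).index ≤ p ^ 2 * p := by rw [← pow_succ]; exact h5
    exact Nat.le_of_mul_le_mul_left this hpos
  calc K₀.index ≤ (D ⊔ R).index := h4
    _ ≤ p := h6
    _ ≤ p ^ 2 := by nlinarith [hp.out.one_lt]

/-- a commutative normal subgroup of exponent `p` has centralizer of index at most `p` -/
theorem index_centralizer_le_of_comm (hP : IsPGroup p P) (hr : Cfsg.PRankLE p 2 P)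
    (D : Subgroup P) [hDn : D.Normal] (hDe : ∀ x ∈ D, x ^ p = 1)
    (hDc : ∀ a ∈ D, ∀ b ∈ D, a * b = b * a) :
    (Subgroup.centralizer (D : Set P)).index ≤ p := by
  have h2 : Nat.card D ≤ p ^ 2 := card_le_of_comm_exp hr D hDc hDe
  obtain ⟨k, hk⟩ := IsPGroup.iff_card.1 (hP.to_subgroup D)
  have hk2 : k ≤ 2 := by
    rw [hk] at h2
    exact (Nat.pow_le_pow_iff_right hp.out.one_lt).1 h2
  interval_cases k
  · rw [pow_zero] at hk
    have hbot : D = ⊥ := (Subgroup.card_eq_one).1 hk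
    have htop : Subgroup.centralizer (D : Set P) = ⊤ := by
      rw [eq_top_iff]
      intro x _
      rw [Subgroup.mem_centralizer_iff]
      intro y hy
      rw [SetLike.mem_coe, hbot, Subgroup.mem_bot] at hy
      rw [hy, one_mul, mul_one]
    rw [htop, Subgroup.index_top]
    exact hp.out.one_lt.le
  · rw [pow_one] at hk
    rw [centralizer_eq_top_of_card_prime hP D hk, Subgroup.index_top]
    exact hp.out.one_lt.le
  · exact index_centralizer_le_of_card_sq hP D hk

/-- the final contradiction: `Ω₁` of the critical subgroup is central, but there is a large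
subgroup of exponent `p`. -/
theorem false_of_central (hp2 : p ≠ 2) (hP : IsPGroup p P) (hr : Cfsg.PRankLE p 2 P)
    (C : Subgroup P) [hCn : C.Normal] (hCC : Subgroup.centralizer (C : Set P) ≤ C)
    (D : Subgroup P) (hD : ∀ x, x ∈ D ↔ x ∈ C ∧ x ^ p = 1) (hDne : D ≠ ⊥)
    (hDz : D ≤ Subgroup.center P) (W : Subgroup P) (hWe : ∀ w ∈ W, w ^ p = 1)
    (hW : p ^ 2 < Nat.card W) : False := by
  classical
  have hDC : D ≤ C := fun x hx => ((hD x).1 hx).1
  have hDe : ∀ x ∈ D, x ^ p = 1 := fun x hx => ((hD x).1 hx).2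
  have hDcomm : ∀ x ∈ D, ∀ y : P, x * y = y * x := fun x hx y =>
    (Subgroup.mem_center_iff.1 (hDz hx) y).symm
  -- `W` is not commutative
  have hWnc : ∃ a ∈ W, ∃ b ∈ W, a * b ≠ b * a := by
    by_contra hcon
    push Not at hcon
    have := card_le_of_comm_exp hr W hcon hWe
    omega
  obtain ⟨a, ha, b, hb, hab⟩ := hWnc
  -- `|D| = p`
  obtain ⟨hA1c, hA1e⟩ := closure_comm_exp (p := p) ((D : Set P) ∪ {a}) (by
    rintro x (hx | hx) y (hy | hy)
    · exact hDcomm x hx y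
    · exact hDcomm x hx y
    · exact (hDcomm y hy x).symm
    · rw [Set.mem_singleton_iff] at hx hy; subst hx; subst hy; rfl) (by
    rintro x (hx | hx)
    · exact hDe x hx
    · rw [Set.mem_singleton_iff] at hx; subst hx; exact hWe x ha)
  obtain ⟨hA2c, hA2e⟩ := closure_comm_exp (p := p) ((D : Set P) ∪ {b}) (by
    rintro x (hx | hx) y (hy | hy)
    · exact hDcomm x hx y
    · exact hDcomm x hx y
    · exact (hDcomm y hy x).symm
    · rw [Set.mem_singleton_iff] at hx hy; subst hx; subst hy; rfl) (by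
    rintro x (hx | hx)
    · exact hDe x hx
    · rw [Set.mem_singleton_iff] at hx; subst hx; exact hWe x hb)
  obtain ⟨A₁, hA₁⟩ : ∃ A₁ : Subgroup P, A₁ = Subgroup.closure ((D : Set P) ∪ {a}) := ⟨_, rfl⟩
  obtain ⟨A₂, hA₂⟩ : ∃ A₂ : Subgroup P, A₂ = Subgroup.closure ((D : Set P) ∪ {b}) := ⟨_, rfl⟩
  rw [← hA₁] at hA1c hA1e
  rw [← hA₂] at hA2c hA2e
  have hDA1 : D ≤ A₁ := by
    rw [hA₁]; exact fun x hx => Subgroup.subset_closure (Or.inl hx)
  have hDA2 : D ≤ A₂ := by
    rw [hA₂]; exact fun x hx => Subgroup.subset_closure (Or.inl hx)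
  have haA1 : a ∈ A₁ := by rw [hA₁]; exact Subgroup.subset_closure (Or.inr rfl)
  have hbA2 : b ∈ A₂ := by rw [hA₂]; exact Subgroup.subset_closure (Or.inr rfl)
  have hcardA1 : Nat.card A₁ ≤ p ^ 2 := card_le_of_comm_exp hr A₁ hA1c hA1e
  have hDcard : Nat.card D = p := by
    obtain ⟨i, hi⟩ := IsPGroup.iff_card.1 (hP.to_subgroup A₁)
    obtain ⟨j, hj⟩ := IsPGroup.iff_card.1 (hP.to_subgroup (A₁ ⊓ A₂))
    obtain ⟨k, hk⟩ := IsPGroup.iff_card.1 (hP.to_subgroup D)
    have hi2 : i ≤ 2 := by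
      rw [hi] at hcardA1
      exact (Nat.pow_le_pow_iff_right hp.out.one_lt).1 hcardA1
    have hji : j ≤ i := by
      have := Subgroup.card_le_of_le (inf_le_left : A₁ ⊓ A₂ ≤ A₁)
      rw [hi, hj] at this
      exact (Nat.pow_le_pow_iff_right hp.out.one_lt).1 this
    have hjne : j ≠ i := by
      intro h
      have heq : A₁ ⊓ A₂ = A₁ :=
        Subgroup.eq_of_le_of_card_ge inf_le_left (by rw [hi, hj, h])
      have : a ∈ A₂ := (inf_eq_left.1 heq) haA1
      exact hab (hA2c a this b hbA2)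
    have hkj : k ≤ j := by
      have := Subgroup.card_le_of_le (le_inf hDA1 hDA2)
      rw [hk, hj] at this
      exact (Nat.pow_le_pow_iff_right hp.out.one_lt).1 this
    have hk0 : k ≠ 0 := by
      rintro rfl
      rw [pow_zero] at hk
      exact hDne ((Subgroup.card_eq_one).1 hk)
    have : k = 1 := by omega
    rw [hk, this, pow_one]
  -- `C` is cyclic
  have hCp : IsPGroup p C := hP.to_subgroup C
  have hDsub : Nat.card (D.subgroupOf C) = p := by
    rw [card_subgroupOf_of_le hDC, hDcard]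
  have huniq : ∀ H K : Subgroup ↥C, Nat.card H = p → Nat.card K = p → H = K := by
    have key : ∀ H : Subgroup ↥C, Nat.card H = p → H = D.subgroupOf C := by
      intro H hH
      apply Subgroup.eq_of_le_of_card_ge
      · intro x hx
        rw [Subgroup.mem_subgroupOf, hD]
        refine ⟨x.2, ?_⟩
        have h1 : (⟨x, hx⟩ : H) ^ p = 1 := by rw [← hH]; exact pow_card_eq_one'
        have h2 := congrArg (fun z : H => ((z : ↥C) : P)) h1
        simpa using h2
      · rw [hDsub, hH]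
    intro H K hH hK
    rw [key H hH, key K hK]
  have hcyc : IsCyclic ↥C := by
    rcases Cfsg.Agent.S0016.result p hCp huniq with h | ⟨h, -⟩
    · exact h
    · exact absurd h hp2
  obtain ⟨c, hcC, hc⟩ := exists_eq_zpowers_of_isCyclic C
  -- the commutator map with `c`
  have hfD : ∀ x ∈ W, x⁻¹ * c⁻¹ * x * c ∈ D := by
    intro x hx
    have hwC : x⁻¹ * c⁻¹ * x * c ∈ C := by
      have h1 : x⁻¹ * c⁻¹ * x⁻¹⁻¹ ∈ C := hCn.conj_mem _ (C.inv_mem hcC) x⁻¹
      rw [inv_inv] at h1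
      exact C.mul_mem h1 hcC
    rw [hD]
    refine ⟨hwC, ?_⟩
    apply RPC.pow_prime_eq_one_of_mul hp2 hP C hwC (hWe x hx)
    have : x * (x⁻¹ * c⁻¹ * x * c) = c⁻¹ * x * c⁻¹⁻¹ := by group
    rw [this, conj_pow, hWe x hx, mul_one, mul_inv_cancel]
  let f : ↥W →* P := MonoidHom.mk' (fun x => (x : P)⁻¹ * c⁻¹ * (x : P) * c) (by
    intro x y
    have hx := hDcomm _ (hfD x x.2)
    simp only [Subgroup.coe_mul]
    calc ((x : P) * (y : P))⁻¹ * c⁻¹ * ((x : P) * (y : P)) * c
        = (y : P)⁻¹ * ((x : P)⁻¹ * c⁻¹ * (x : P) * c) * (c⁻¹ * (y : P) * c) := by group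
      _ = ((x : P)⁻¹ * c⁻¹ * (x : P) * c) * (y : P)⁻¹ * (c⁻¹ * (y : P) * c) := by
          rw [← hx (y : P)⁻¹]
      _ = _ := by group)
  have hf : ∀ x : ↥W, f x = (x : P)⁻¹ * c⁻¹ * (x : P) * c := fun x => rfl
  -- kernel elements are central
  have hker : ∀ x : ↥W, f x = 1 → (x : P) ∈ D := by
    intro x hx
    rw [hf] at hx
    have hcomm : (x : P) * c = c * (x : P) := by
      have h1 : (c * (x : P))⁻¹ * ((x : P) * c) = 1 := by
        rw [← hx]; group
      exact (inv_mul_eq_one.1 h1).symm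
    have hxC : (x : P) ∈ C := by
      apply hCC
      rw [Subgroup.mem_centralizer_iff]
      intro y hy
      rw [SetLike.mem_coe, hc] at hy
      obtain ⟨n, rfl⟩ := Subgroup.mem_zpowers_iff.1 hy
      exact ((show Commute (x : P) c from hcomm).zpow_right n).eq.symm
    rw [hD]
    exact ⟨hxC, hWe x x.2⟩
  have hfa : f ⟨a, ha⟩ ≠ 1 := by
    intro h
    exact hab (hDcomm a (hker _ h) b)
  have hzp : Subgroup.zpowers (f ⟨a, ha⟩) = D := by
    apply Subgroup.eq_of_le_of_card_ge (Subgroup.zpowers_le.2 (hfD a ha))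
    rw [hDcard, Nat.card_zpowers]
    have h1 : orderOf (f ⟨a, ha⟩) ∣ p := orderOf_dvd_of_pow_eq_one (hDe _ (hfD a ha))
    rcases (Nat.dvd_prime hp.out).1 h1 with h2 | h2
    · exact absurd (orderOf_eq_one_iff.1 h2) hfa
    · exact h2.ge
  have hfb : f ⟨b, hb⟩ ∈ Subgroup.zpowers (f ⟨a, ha⟩) := by rw [hzp]; exact hfD b hb
  obtain ⟨n, hn⟩ := Subgroup.mem_zpowers_iff.1 hfb
  have h1 : f (⟨b, hb⟩ * (⟨a, ha⟩ : ↥W) ^ (-n)) = 1 := by
    rw [map_mul, map_zpow, ← hn, ← zpow_add, add_neg_cancel, zpow_zero]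
  have h2 := hker _ h1
  have h3 : (((⟨b, hb⟩ : ↥W) * (⟨a, ha⟩ : ↥W) ^ (-n) : ↥W) : P) = b * a ^ (-n) := by
    simp
  rw [h3] at h2
  have h4 := hDcomm _ h2 a
  apply hab
  have h5 : Commute (b * a ^ (-n)) a := h4
  have h6 : Commute (a ^ n) a := (Commute.refl a).zpow_left n
  have h7 : Commute (b * a ^ (-n) * a ^ n) a := h5.mul_left h6
  have h8 : b * a ^ (-n) * a ^ n = b := by group
  rw [h8] at h7
  exact h7.eq.symm

end Cfsg.Agent.Helper1.R2Chief
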