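import Mathlib
import Cfsg.Prelude.Def_CaseTheorems
import Cfsg.Agent.Helper1.R2ChiefD
import Cfsg.Agent.Helper1.CriticalSubgroup

set_option autoImplicit false

/-!
Main `p`-group lemma: a finite `p`-group (`p` odd) of rank at most two in which a proper subgroup
`K₀` contains all proper characteristic subgroups satisfies `|P : K₀| ≤ p²`.
-/

namespace Cfsg.Agent.Helper1.R2Chief

open scoped commutatorElement

universe u

section crit

variable {P : Type u} [Group P] [Finite P] {p : ℕ} [hp : Fact p.Prime]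

theorem index_le_of_critical (hp2 : p ≠ 2) (hP : IsPGroup p P) (hr : Cfsg.PRankLE p 2 P)
    (C : Subgroup P) [hCc : C.Characteristic]
    (hFC : (frattini C).map C.subtype ≤ Subgroup.centralizer (C : Set P))
    (hCC : Subgroup.centralizer (C : Set P) ≤ C) (hCne : C ≠ ⊤) (K₀ : Subgroup P)
    (hchar : ∀ L : Subgroup P, L.Characteristic → L ≠ ⊤ → L ≤ K₀) (W : Subgroup P)
    (hWe : ∀ w ∈ W, w ^ p = 1) (hW : p ^ 2 < Nat.card W) : K₀.index ≤ p ^ 2 := by
  have hCK : C ≤ K₀ := hchar C hCc hCne
  have hCn : C.Normal := inferInstance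
  have haC : ∀ a : MulAut P, ∀ x, x ∈ C → a x ∈ C := by
    intro a x hx
    have := (Subgroup.characteristic_iff_le_comap.1 hCc) a hx
    exact this
  have hFC' : frattini ↥C ≤ Subgroup.center ↥C := by
    intro x hx
    rw [Subgroup.mem_center_iff]
    intro y
    have hx' : (x : P) ∈ Subgroup.centralizer (C : Set P) := hFC ⟨x, hx, rfl⟩
    apply Subtype.ext
    exact (Subgroup.mem_centralizer_iff.1 hx' y y.2)
  have hCp : IsPGroup p ↥C := hP.to_subgroup C
  have hpowmul : ∀ x y : ↥C, (x * y) ^ p = x ^ p * y ^ p :=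
    mul_pow_prime_of_frattini_le_center hp2 hCp hFC'
  let D : Subgroup P :=
    { carrier := {x | x ∈ C ∧ x ^ p = 1}
      one_mem' := ⟨C.one_mem, one_pow p⟩
      mul_mem' := by
        rintro x y ⟨hx, hxp⟩ ⟨hy, hyp⟩
        refine ⟨C.mul_mem hx hy, ?_⟩
        have h := congrArg (fun z : ↥C => (z : P)) (hpowmul ⟨x, hx⟩ ⟨y, hy⟩)
        simp only [Subgroup.coe_pow, Subgroup.coe_mul] at h
        rw [h, hxp, hyp, one_mul]
      inv_mem' := by
        rintro x ⟨hx, hxp⟩
        exact ⟨C.inv_mem hx, by rw [inv_pow, hxp, inv_one]⟩ }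
  have hDmem : ∀ x, x ∈ D ↔ x ∈ C ∧ x ^ p = 1 := fun x => Iff.rfl
  have hDC : D ≤ C := fun x hx => hx.1
  have hDe : ∀ x ∈ D, x ^ p = 1 := fun x hx => hx.2
  haveI hDchar : D.Characteristic := by
    rw [Subgroup.characteristic_iff_le_comap]
    intro a x hx
    exact ⟨haC a x hx.1, by
      change (a x) ^ p = 1
      rw [← map_pow, hx.2, map_one]⟩
  have hDn : D.Normal := inferInstance
  -- `D ≠ ⊥`
  have hCbot : C ≠ ⊥ := by
    intro h
    apply hCne
    rw [h] at hCC
    rw [h]
    apply top_le_iff.1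
    refine le_trans ?_ hCC
    intro x _
    rw [Subgroup.mem_centralizer_iff]
    intro y hy
    rw [SetLike.mem_coe, Subgroup.mem_bot] at hy
    rw [hy, one_mul, mul_one]
  have hDne : D ≠ ⊥ := by
    obtain ⟨k, hk⟩ := IsPGroup.iff_card.1 hCp
    have hk0 : k ≠ 0 := by
      rintro rfl
      rw [pow_zero] at hk
      exact hCbot ((Subgroup.card_eq_one).1 hk)
    have hdvd : p ∣ Nat.card ↥C := by rw [hk]; exact dvd_pow_self p hk0
    obtain ⟨z, hz⟩ := exists_prime_orderOf_dvd_card' p hdvd
    intro hbot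
    have hmem : (z : P) ∈ D := by
      refine ⟨z.2, ?_⟩
      have h1 : z ^ p = 1 := by rw [← hz]; exact pow_orderOf_eq_one z
      have h2 := congrArg Subtype.val h1
      simpa using h2
    rw [hbot, Subgroup.mem_bot] at hmem
    have hz1 : z = 1 := Subtype.ext hmem
    rw [hz1, orderOf_one] at hz
    exact hp.out.one_lt.ne hz
  by_cases hnc : ∃ a ∈ D, ∃ b ∈ D, a * b ≠ b * a
  · exact index_le_of_noncomm hP hr D hDe hnc K₀ (hDC.trans hCK) hchar
  · push Not at hnc
    obtain ⟨R, hR⟩ : ∃ R : Subgroup P, R = Subgroup.centralizer (D : Set P) := ⟨_, rfl⟩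
    have hRc : R.Characteristic := by rw [hR]; infer_instance
    by_cases hRtop : R = ⊤
    · exfalso
      have hDz : D ≤ Subgroup.center P := by
        intro x hx
        rw [Subgroup.mem_center_iff]
        intro y
        have : y ∈ R := by rw [hRtop]; exact Subgroup.mem_top y
        rw [hR, Subgroup.mem_centralizer_iff] at this
        exact (this x hx).symm
      exact false_of_central hp2 hP hr C hCC D hDmem hDne hDz W hWe hW
    · have hRK : R ≤ K₀ := hchar R hRc hRtop
      have h1 : R.index ≤ p := by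
        rw [hR]; exact index_centralizer_le_of_comm hP hr D hDe hnc
      have h2 : K₀.index ≤ R.index :=
        Nat.le_of_dvd (Nat.pos_of_ne_zero Subgroup.index_ne_zero_of_finite)
          (Subgroup.index_dvd_of_le hRK)
      calc K₀.index ≤ R.index := h2
        _ ≤ p := h1
        _ ≤ p ^ 2 := by nlinarith [hp.out.one_lt]

end crit

/-- the main lemma -/
theorem index_le_sq {p : ℕ} [hp : Fact p.Prime] (hp2 : p ≠ 2) :
    ∀ (n : ℕ) (P : Type u) [Group P] [Finite P], Nat.card P = n → IsPGroup p P →
      Cfsg.PRankLE p 2 P → ∀ K₀ : Subgroup P, K₀ ≠ ⊤ →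
      (∀ L : Subgroup P, L.Characteristic → L ≠ ⊤ → L ≤ K₀) → K₀.index ≤ p ^ 2 := by
  intro n
  induction n using Nat.strong_induction_on with
  | _ n ih =>
  intro P _ _ hn hP hr K₀ hK₀ hchar
  classical
  haveI hnt : Nontrivial P := by
    by_contra hcon
    rw [not_nontrivial_iff_subsingleton] at hcon
    exact hK₀ (Subsingleton.elim _ _)
  obtain ⟨N, hNdef⟩ : ∃ N : Subgroup P, N = omegaCenter p P := ⟨_, rfl⟩
  have hNchar : N.Characteristic := by rw [hNdef]; infer_instance
  haveI hNn : N.Normal := inferInstance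
  have hNne : N ≠ ⊥ := by rw [hNdef]; exact omegaCenter_ne_bot hP
  have hNc : N ≤ Subgroup.center P := by
    intro x hx; rw [hNdef] at hx; exact hx.1
  have hNe : ∀ x ∈ N, x ^ p = 1 := by
    intro x hx; rw [hNdef] at hx; exact hx.2
  have hindex_le : K₀.index ≤ Nat.card P :=
    Nat.le_of_dvd Nat.card_pos (Subgroup.index_dvd_card K₀)
  by_cases hNtop : N = ⊤
  · have h1 : Nat.card (⊤ : Subgroup P) ≤ p ^ 2 := by
      apply card_le_of_comm_exp hr
      · intro a _ b _
        have : a ∈ N := by rw [hNtop]; exact Subgroup.mem_top a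
        exact (Subgroup.mem_center_iff.1 (hNc this) b).symm
      · intro a _
        exact hNe a (by rw [hNtop]; exact Subgroup.mem_top a)
    rw [Subgroup.card_top] at h1
    exact hindex_le.trans h1
  have hNK : N ≤ K₀ := hchar N hNchar hNtop
  by_cases hq : Cfsg.PRankLE p 2 (P ⧸ N)
  · have hlt : Nat.card (P ⧸ N) < n := by
      rw [← hn, Subgroup.card_eq_card_quotient_mul_card_subgroup N]
      have h1 : 1 < Nat.card N := by
        rw [Nat.one_lt_iff_ne_zero_and_ne_one]
        exact ⟨Nat.card_pos.ne', fun h => hNne ((Subgroup.card_eq_one).1 h)⟩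
      have h2 : 0 < Nat.card (P ⧸ N) := Nat.card_pos
      nlinarith
    have hsurj : Function.Surjective (QuotientGroup.mk' N) := QuotientGroup.mk'_surjective N
    have hker : (QuotientGroup.mk' N).ker ≤ K₀ := by rw [QuotientGroup.ker_mk']; exact hNK
    have hidx : (K₀.map (QuotientGroup.mk' N)).index = K₀.index :=
      Subgroup.index_map_eq K₀ hsurj hker
    rw [← hidx]
    apply ih (Nat.card (P ⧸ N)) hlt (P ⧸ N) rfl (hP.to_quotient N) hq
    · intro h
      apply hK₀
      have h1 : (K₀.map (QuotientGroup.mk' N)).index = 1 := by rw [h, Subgroup.index_top]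
      rw [hidx] at h1
      exact Subgroup.index_eq_one.1 h1
    · intro L hL hLne
      haveI := hL
      have hLc := comap_mk_characteristic N hNchar L
      have hLne' : L.comap (QuotientGroup.mk' N) ≠ ⊤ := by
        intro h
        apply hLne
        rw [eq_top_iff]
        intro y _
        obtain ⟨x, rfl⟩ := hsurj y
        have : x ∈ L.comap (QuotientGroup.mk' N) := by rw [h]; exact Subgroup.mem_top x
        exact this
      have h1 := hchar _ hLc hLne'
      intro y hy
      obtain ⟨x, rfl⟩ := hsurj y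
      exact ⟨x, h1 hy, rfl⟩
  · -- a large subgroup of exponent `p`
    unfold Cfsg.PRankLE at hq
    push Not at hq
    obtain ⟨A, hAc, hAe, hAcard⟩ := hq
    obtain ⟨W, hWe, hWcard⟩ := exists_exponent_p_of_quotient_rank hp2 N hNc hNe A
      (fun a ha b hb => congrArg Subtype.val (hAc.is_comm.comm ⟨a, ha⟩ ⟨b, hb⟩)) hAe
    have hW : p ^ 2 < Nat.card W := lt_of_lt_of_le hAcard hWcard
    by_cases hexp : ∀ x : P, x ^ p = 1
    · exact index_le_of_exponent_p hP hr hexp K₀ N hNK hNne
    push Not at hexp
    obtain ⟨C, hCchar, h1, h2, h3⟩ := exists_critical_subgroup hP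
    haveI := hCchar
    by_cases hCtop : C = ⊤
    · -- Frattini subgroup central
      have hcen : Subgroup.centralizer ((C : Subgroup P) : Set P) = Subgroup.center P := by
        rw [hCtop, Subgroup.coe_top, Subgroup.centralizer_univ]
      have hcomm : ∀ x y : P, ⁅x, y⁆ ∈ Subgroup.center P := by
        intro x y
        have hx : x ∈ C := by rw [hCtop]; exact Subgroup.mem_top x
        have := h2 (Subgroup.commutator_mem_commutator hx (Subgroup.mem_top y))
        rw [Subgroup.mem_inf, hcen] at this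
        exact this.2
      have hpow : ∀ x : P, x ^ p ∈ Subgroup.center P := by
        intro x
        have hx : x ∈ C := by rw [hCtop]; exact Subgroup.mem_top x
        have hCp : IsPGroup p ↥C := hP.to_subgroup C
        have h4 := IsPGroup.pow_mem_frattini hCp (⟨x, hx⟩ : ↥C)
        have h5 : x ^ p ∈ (frattini ↥C).map C.subtype := ⟨_, h4, by simp⟩
        have := h1 h5
        rwa [hcen] at this
      exact index_le_of_frattini_central hp2 hP hr hcomm hpow hexp K₀ hchar
    · exact index_le_of_critical hp2 hP hr C h1 h3 hCtop K₀ hchar W hWe hW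

end Cfsg.Agent.Helper1.R2Chief
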