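import Mathlib
import Cfsg.Prelude.Def_CaseTheorems
import Cfsg.Agent.Helper1.R2ChiefE

set_option autoImplicit false

/-!
Chief factors covered by a normal `p`-subgroup of rank at most two (`p` odd) have order at most
`p²`.
-/

namespace Cfsg.Agent.Helper1.R2Chief

universe u

variable {G : Type u} [Group G]

/-- rank at most two passes to subgroups -/
theorem pRankLE_subgroup' {p k : ℕ} (h : Cfsg.PRankLE p k G) (H : Subgroup G) :
    Cfsg.PRankLE p k ↥H := by
  intro A hAc hAe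
  have h1 := h (A.map H.subtype) (by
    refine ⟨⟨?_⟩⟩
    rintro ⟨_, x, hx, rfl⟩ ⟨_, y, hy, rfl⟩
    apply Subtype.ext
    have := hAc.is_comm.comm ⟨x, hx⟩ ⟨y, hy⟩
    have h5 := congrArg (fun z : ↥A => ((z : ↥H) : G)) this
    simpa using h5) (by
    rintro _ ⟨x, hx, rfl⟩
    have := hAe x hx
    have h5 := congrArg (fun z : ↥H => (z : G)) this
    simpa using h5)
  rwa [Nat.card_congr (A.equivMapOfInjective H.subtype H.subtype_injective).toEquiv]

/-- Dedekind's modular law, with the right factor normal. -/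
theorem dedekind_right' (A B C : Subgroup G) [C.Normal] (hBA : B ≤ A) :
    A ⊓ (B ⊔ C) = B ⊔ (A ⊓ C) := by
  apply le_antisymm
  · rintro x ⟨hxA, hx⟩
    obtain ⟨b, hb, c, hc, rfl⟩ := Subgroup.mem_sup_of_normal_right.mp hx
    refine Subgroup.mul_mem _ (Subgroup.mem_sup_left hb) (Subgroup.mem_sup_right ⟨?_, hc⟩)
    have : c = b⁻¹ * (b * c) := by group
    rw [this]
    exact A.mul_mem (A.inv_mem (hBA hb)) hxA
  · exact le_inf (sup_le hBA inf_le_left) (sup_le_sup_left inf_le_right B)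

theorem relIndex_le_sq_of_covered [Finite G] {p : ℕ} [hp : Fact p.Prime] (hp2 : p ≠ 2)
    (hr : Cfsg.PRankLE p 2 G) (Q : Subgroup G) [hQn : Q.Normal] (hQ : IsPGroup p Q)
    (H K : Subgroup G) [hHn : H.Normal] [hKn : K.Normal] (hKH : K < H)
    (hchief : ∀ L : Subgroup G, L.Normal → K ≤ L → L ≤ H → L = K ∨ L = H)
    (hcov : (H ⊓ Q) ⊔ K = H) : K.relIndex H ≤ p ^ 2 := by
  classical
  let 𝒮 : Set (Subgroup G) := {H₀ | H₀.Normal ∧ H₀ ≤ H ⊓ Q ∧ H₀ ⊔ K = H}
  have hmem : H ⊓ Q ∈ 𝒮 := ⟨inferInstance, le_rfl, hcov⟩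
  obtain ⟨H₀, -, hmin⟩ := (Set.toFinite 𝒮).exists_le_minimal hmem
  obtain ⟨hH₀n, hH₀le, hH₀K⟩ : H₀ ∈ 𝒮 := hmin.prop
  haveI := hH₀n
  have hH₀H : H₀ ≤ H := hH₀le.trans inf_le_left
  have hH₀Q : H₀ ≤ Q := hH₀le.trans inf_le_right
  have hH₀p : IsPGroup p ↥H₀ := hQ.to_le hH₀Q
  have hrel : K.relIndex H = (K.subgroupOf H₀).index := by
    rw [← Subgroup.relIndex, ← hH₀K, Subgroup.relIndex_sup_right]
  rw [hrel]
  apply index_le_sq hp2 (Nat.card ↥H₀) ↥H₀ rfl hH₀p (pRankLE_subgroup' hr H₀)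
  · intro h
    rw [Subgroup.subgroupOf_eq_top] at h
    have : H₀ ⊔ K = K := sup_of_le_right h
    rw [hH₀K] at this
    exact hKH.ne this.symm
  · intro L hL hLne
    haveI := hL
    have hLn : (L.map H₀.subtype).Normal := inferInstance
    have hLle : L.map H₀.subtype ≤ H₀ := Subgroup.map_subtype_le L
    have hsupn : (L.map H₀.subtype ⊔ K).Normal := inferInstance
    rcases hchief (L.map H₀.subtype ⊔ K) hsupn le_sup_right
      (sup_le (hLle.trans hH₀H) hKH.le) with h | h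
    · -- `L ≤ K`
      intro x hx
      rw [Subgroup.mem_subgroupOf]
      have h1 : (x : G) ∈ L.map H₀.subtype := ⟨x, hx, rfl⟩
      have h2 : L.map H₀.subtype ≤ K := by
        rw [← h]; exact le_sup_left
      exact h2 h1
    · exfalso
      have hin : L.map H₀.subtype ∈ 𝒮 := ⟨hLn, hLle.trans hH₀le, h⟩
      have hge : H₀ ≤ L.map H₀.subtype := hmin.le_of_le hin hLle
      apply hLne
      rw [eq_top_iff]
      intro x _
      obtain ⟨y, hy, hxy⟩ := hge x.2
      have : y = x := Subtype.ext hxy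
      rwa [this] at hy

end Cfsg.Agent.Helper1.R2Chief
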