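import Mathlib
import Cfsg.Prelude.Def_CaseTheorems
import Cfsg.Prelude.Def_Local
import Cfsg.Agent.Helper1.R2ChiefF
import Cfsg.Agent.Helper1.Rank2Key
import Cfsg.Agent.Helper1.Rank2Struct
import Cfsg.Agent.Helper1.Cores
import Cfsg.Agent.Helper1.Fitting
import Cfsg.Agent.Helper4.HallHigman

set_option autoImplicit false

/-!
In a `p`-solvable group of `p`-rank at most two (`p` odd) with `O_{p'}(G) = 1`, the index of
`O_p(G)` is not divisible by `p²`.
-/

namespace Cfsg.Agent.Helper1.R2Chief

open Cfsg.Agent.Helper1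

universe u

variable {G : Type u} [Group G]

/-- the centralizer in a subgroup `S` of a subgroup `D ≤ S` -/
theorem centralizer_subgroupOf (S D : Subgroup G) (hDS : D ≤ S) :
    Subgroup.centralizer ((D.subgroupOf S : Subgroup S) : Set S) =
      (Subgroup.centralizer (D : Set G)).subgroupOf S := by
  ext x
  rw [Subgroup.mem_subgroupOf, Subgroup.mem_centralizer_iff, Subgroup.mem_centralizer_iff]
  constructor
  · intro h y hy
    have := h ⟨y, hDS hy⟩ (Subgroup.mem_subgroupOf.2 hy)
    exact congrArg Subtype.val this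
  · intro h y hy
    apply Subtype.ext
    exact h y (Subgroup.mem_subgroupOf.1 hy)

theorem relIndex_ne_zero' [Finite G] (H K : Subgroup G) : H.relIndex K ≠ 0 := by
  rw [Subgroup.relIndex]
  exact Subgroup.index_ne_zero_of_finite

theorem not_sq_dvd_index_pCore [Finite G] {p : ℕ} [hp : Fact p.Prime] (hp2 : p ≠ 2)
    (hsol : Cfsg.IsPSolvable p G) (hO : Cfsg.pPrimeCore p G = ⊥) (hr : Cfsg.PRankLE p 2 G) :
    ¬ p ^ 2 ∣ (Cfsg.pCore p G).index := by
  classical
  obtain ⟨P, hPdef⟩ : ∃ P : Subgroup G, P = Cfsg.pCore p G := ⟨_, rfl⟩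
  rw [← hPdef]
  haveI hPn : P.Normal := by rw [hPdef]; infer_instance
  have hPp : IsPGroup p ↥P := by rw [hPdef]; exact pCore_isPGroup p
  have hCP : Subgroup.centralizer (P : Set G) ≤ P := by
    rw [hPdef]; exact Cfsg.Agent.Helper4.centralizer_pCore_le_of_isPSolvable hsol hO
  obtain ⟨D, hDchar, hDe, hDcard, hDf⟩ := Rank2Key.exists_omega_critical hp2 hPp
  have hDcard' : Nat.card D ≤ p ^ 3 := hDcard (pRankLE_subgroup' hr P)
  haveI := hDchar
  obtain ⟨D', hD'⟩ : ∃ D' : Subgroup G, D' = D.map P.subtype := ⟨_, rfl⟩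
  haveI hD'n : D'.Normal := by rw [hD']; infer_instance
  have hD'P : D' ≤ P := by rw [hD']; exact Subgroup.map_subtype_le D
  have hD'card : Nat.card D' = Nat.card D := by
    rw [hD']; exact Subgroup.card_map_of_injective P.subtype_injective
  have hD'e : ∀ x ∈ D', x ^ p = 1 := by
    intro x hx
    rw [hD'] at hx
    obtain ⟨y, hy, rfl⟩ := hx
    have := hDe y hy
    have h2 := congrArg Subtype.val this
    simpa using h2
  obtain ⟨R, hR⟩ : ∃ R : Subgroup G, R = Subgroup.centralizer (D' : Set G) := ⟨_, rfl⟩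
  haveI hRn : R.Normal := by rw [hR]; infer_instance
  have hRtriv : ∀ g ∈ R, (orderOf g).Coprime p → g = 1 := by
    intro g hg hcop
    have ha : (orderOf (MulAut.conjNormal g : MulAut ↥P)).Coprime p :=
      Nat.Coprime.coprime_dvd_left (orderOf_map_dvd _ g) hcop
    have htriv : ∀ x ∈ D, (MulAut.conjNormal g : MulAut ↥P) x = x := by
      intro x hx
      apply Subtype.ext
      rw [MulAut.conjNormal_apply]
      have hxD' : (x : G) ∈ D' := by rw [hD']; exact ⟨x, hx, rfl⟩
      rw [hR, Subgroup.mem_centralizer_iff] at hg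
      rw [← hg _ hxD', mul_inv_cancel_right]
    have h1 := hDf _ ha htriv
    have hgC : g ∈ Subgroup.centralizer (P : Set G) := by
      rw [Subgroup.mem_centralizer_iff]
      intro y hy
      have h2 : (MulAut.conjNormal g : MulAut ↥P) ⟨y, hy⟩ = ⟨y, hy⟩ := by rw [h1]; rfl
      have h3 := congrArg Subtype.val h2
      rw [MulAut.conjNormal_apply] at h3
      have h4 : g * y * g⁻¹ = y := h3
      calc y * g = g * y * g⁻¹ * g := by rw [h4]
        _ = g * y := by group
    have hgP : g ∈ P := hCP hgC
    obtain ⟨k, hk⟩ := hPp ⟨g, hgP⟩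
    have hk' : g ^ p ^ k = 1 := by
      have := congrArg Subtype.val hk
      simpa using this
    have h5 : orderOf g ∣ p ^ k := orderOf_dvd_of_pow_eq_one hk'
    have h6 : orderOf g = 1 := Nat.eq_one_of_dvd_coprimes (hcop.pow_right k) dvd_rfl h5
    exact orderOf_eq_one_iff.1 h6
  have hRp : IsPGroup p ↥R := Rank2Struct.isPGroup_of_coprime_trivial R hRtriv
  have hRP : R ≤ P := by rw [hPdef]; exact le_pCore hRn hRp
  obtain ⟨S⟩ : Nonempty (Sylow p G) := inferInstance
  have hPS : P ≤ S := by rw [hPdef]; exact pCore_le_sylow S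
  have hSp : IsPGroup p ↥(S : Subgroup G) := S.2
  have hD'S : D' ≤ S := hD'P.trans hPS
  haveI hDSn : (D'.subgroupOf S).Normal := hD'n.subgroupOf S
  have hDScard : Nat.card (D'.subgroupOf S) = Nat.card D := by
    rw [card_subgroupOf_of_le hD'S, hD'card]
  have hcent : (Subgroup.centralizer ((D'.subgroupOf S : Subgroup S) : Set S)).index =
      R.relIndex S := by
    rw [centralizer_subgroupOf S D' hD'S, ← hR, Subgroup.relIndex]
  -- the key bound
  have hkey : P.relIndex S ≤ p := by
    obtain ⟨k, hk⟩ := IsPGroup.iff_card.1 (hPp.to_subgroup D)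
    have hk3 : k ≤ 3 := by
      rw [hk] at hDcard'
      exact (Nat.pow_le_pow_iff_right hp.out.one_lt).1 hDcard'
    have hmul : R.relIndex P * P.relIndex S = R.relIndex S :=
      Subgroup.relIndex_mul_relIndex R P S hRP hPS
    have hpos : 0 < R.relIndex P :=
      Nat.pos_of_ne_zero (relIndex_ne_zero' _ _)
    have hle : P.relIndex S ≤ R.relIndex S := by
      rw [← hmul]; exact Nat.le_mul_of_pos_left _ hpos
    interval_cases k
    · -- `D = ⊥`
      rw [pow_zero] at hk
      have hbot : D'.subgroupOf S = ⊥ := by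
        apply (Subgroup.card_eq_one).1
        rw [hDScard, hk]
      have htop : Subgroup.centralizer ((D'.subgroupOf S : Subgroup S) : Set S) = ⊤ := by
        rw [eq_top_iff]
        intro x _
        rw [Subgroup.mem_centralizer_iff]
        intro y hy
        rw [SetLike.mem_coe, hbot, Subgroup.mem_bot] at hy
        rw [hy, one_mul, mul_one]
      rw [htop, Subgroup.index_top] at hcent
      rw [← hcent] at hle
      exact hle.trans hp.out.one_lt.le
    · rw [pow_one] at hk
      have htop := centralizer_eq_top_of_card_prime hSp (D'.subgroupOf S) (by rw [hDScard, hk])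
      rw [htop, Subgroup.index_top] at hcent
      rw [← hcent] at hle
      exact hle.trans hp.out.one_lt.le
    · have h1 := index_centralizer_le_of_card_sq hSp (D'.subgroupOf S) (by rw [hDScard, hk])
      rw [hcent] at h1
      exact hle.trans h1
    · have h1 := index_centralizer_le_of_card_cube hSp (D'.subgroupOf S) (by rw [hDScard, hk])
      rw [hcent] at h1
      -- `D'` is not commutative
      have hnc : ∃ a ∈ D', ∃ b ∈ D', a * b ≠ b * a := by
        by_contra hcon
        push Not at hcon
        have := card_le_of_comm_exp hr D' hcon hD'e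
        rw [hD'card, hk] at this
        have h3 : p ^ 2 < p ^ 3 := Nat.pow_lt_pow_right hp.out.one_lt (by norm_num)
        omega
      have h2 : p ^ 2 ≤ R.relIndex D' := by
        rw [hR]; exact sq_le_relIndex_centralizer D' (by rw [hD'card, hk]) hnc
      have h3 : R.relIndex D' ≤ R.relIndex P :=
        Subgroup.relIndex_le_of_le_right hD'P (relIndex_ne_zero' _ _)
      have h4 : p ^ 2 * P.relIndex S ≤ p ^ 2 * p := by
        calc p ^ 2 * P.relIndex S ≤ R.relIndex P * P.relIndex S :=
              Nat.mul_le_mul_right _ (h2.trans h3)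
          _ = R.relIndex S := hmul
          _ ≤ p ^ 3 := h1
          _ = p ^ 2 * p := by ring
      exact Nat.le_of_mul_le_mul_left h4 (pow_pos hp.out.pos 2)
  -- conclusion
  intro hdvd
  have h1 : P.relIndex S * (S : Subgroup G).index = P.index := Subgroup.relIndex_mul_index hPS
  have h2 : ¬ p ∣ (S : Subgroup G).index := S.not_dvd_index
  have h3 : (p ^ 2).Coprime (S : Subgroup G).index :=
    Nat.Coprime.pow_left 2 ((Nat.Prime.coprime_iff_not_dvd hp.out).2 h2)
  rw [← h1] at hdvd
  have h4 : p ^ 2 ∣ P.relIndex S := h3.dvd_of_dvd_mul_right hdvd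
  have h5 : p ^ 2 ≤ P.relIndex S :=
    Nat.le_of_dvd (Nat.pos_of_ne_zero (relIndex_ne_zero' _ _)) h4
  have h6 : p < p ^ 2 := by nlinarith [hp.out.one_lt]
  omega

end Cfsg.Agent.Helper1.R2Chief
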