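import Mathlib
import Cfsg.Prelude.Def_CaseTheorems
import Cfsg.Prelude.Def_Local
import Cfsg.Agent.Helper1.R2ChiefG
import Cfsg.Agent.Helper1.Rank2Struct2
import Cfsg.Agent.Helper1.Fitting2
import Cfsg.Agent.Helper4.PSolvable

set_option autoImplicit false

/-!
`p`-chief factors of `p`-solvable groups of `p`-rank at most two (`p` odd) have order `p` or `p²`.
-/

namespace Cfsg.Agent.Helper1.R2Chief

open Cfsg.Agent.Helper1

universe u

variable {G : Type u} [Group G]

/-- passing a section to the quotient by a normal subgroup which it avoids -/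
theorem relIndex_sup_sup (H K N : Subgroup G) [hNn : N.Normal] [hKn : K.Normal] (hKH : K ≤ H)
    (h : H ⊓ N ≤ K) : (K ⊔ N).relIndex (H ⊔ N) = K.relIndex H := by
  have h1 : H ⊔ N = H ⊔ (K ⊔ N) := by
    rw [← sup_assoc, sup_of_le_left hKH]
  haveI : (K ⊔ N).Normal := inferInstance
  rw [h1, Subgroup.relIndex_sup_right, ← Subgroup.inf_relIndex_right]
  have h2 : (K ⊔ N) ⊓ H = K := by
    rw [inf_comm, dedekind_right' H K N hKH]
    exact sup_of_le_left h
  rw [h2]

theorem chief_of_pPrimeCore_bot [Finite G] {p : ℕ} [hp : Fact p.Prime] (hp2 : p ≠ 2)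
    (hsol : Cfsg.IsPSolvable p G) (hO : Cfsg.pPrimeCore p G = ⊥) (hr : Cfsg.PRankLE p 2 G)
    (H K : Subgroup G) [hHn : H.Normal] [hKn : K.Normal] (hKH : K < H)
    (hpow : ∃ n : ℕ, K.relIndex H = p ^ n)
    (hchief : ∀ L : Subgroup G, L.Normal → K ≤ L → L ≤ H → L = K ∨ L = H) :
    K.relIndex H = p ∨ K.relIndex H = p ^ 2 := by
  obtain ⟨n, hn⟩ := hpow
  have hn0 : n ≠ 0 := by
    rintro rfl
    rw [pow_zero, Subgroup.relIndex_eq_one] at hn
    exact hKH.not_ge hn
  obtain ⟨P, hPdef⟩ : ∃ P : Subgroup G, P = Cfsg.pCore p G := ⟨_, rfl⟩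
  haveI hPn : P.Normal := by rw [hPdef]; infer_instance
  have hPp : IsPGroup p ↥P := by rw [hPdef]; exact pCore_isPGroup p
  have hLn : ((H ⊓ P) ⊔ K).Normal := inferInstance
  rcases hchief ((H ⊓ P) ⊔ K) hLn le_sup_right (sup_le inf_le_left hKH.le) with h | h
  · -- `H ⊓ P ≤ K`
    have hHPK : H ⊓ P ≤ K := by rw [← h]; exact le_sup_left
    have h1 := relIndex_sup_sup H K P hKH.le hHPK
    haveI : (K ⊔ P).Normal := inferInstance
    have h2 : (K ⊔ P).relIndex (H ⊔ P) ∣ (K ⊔ P).index :=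
      Subgroup.relIndex_dvd_index_of_normal (K ⊔ P) (H ⊔ P)
    have h3 : (K ⊔ P).index ∣ P.index := Subgroup.index_dvd_of_le le_sup_right
    have h4 : p ^ n ∣ P.index := by
      rw [← hn, ← h1]; exact h2.trans h3
    have h5 := not_sq_dvd_index_pCore hp2 hsol hO hr
    rw [← hPdef] at h5
    have hn1 : n = 1 := by
      by_contra hne
      have h6 : 2 ≤ n := by omega
      exact h5 ((pow_dvd_pow p h6).trans h4)
    left
    rw [hn, hn1, pow_one]
  · have h1 := relIndex_le_sq_of_covered hp2 hr P hPp H K hKH hchief h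
    rw [hn] at h1
    have hn2 : n ≤ 2 := (Nat.pow_le_pow_iff_right hp.out.one_lt).1 h1
    have : n = 1 ∨ n = 2 := by omega
    rcases this with h | h
    · left; rw [hn, h, pow_one]
    · right; rw [hn, h]

theorem chief_rank_two [Finite G] {p : ℕ} [hp : Fact p.Prime] (hp2 : p ≠ 2)
    (hsol : Cfsg.IsPSolvable p G) (hr : Cfsg.PRankLE p 2 G)
    (H K : Subgroup G) [hHn : H.Normal] [hKn : K.Normal] (hKH : K < H)
    (hpow : ∃ n : ℕ, K.relIndex H = p ^ n)
    (hchief : ∀ L : Subgroup G, L.Normal → K ≤ L → L ≤ H → L = K ∨ L = H) :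
    K.relIndex H = p ∨ K.relIndex H = p ^ 2 := by
  obtain ⟨n, hn⟩ := hpow
  have hn0 : n ≠ 0 := by
    rintro rfl
    rw [pow_zero, Subgroup.relIndex_eq_one] at hn
    exact hKH.not_ge hn
  obtain ⟨O, hOdef⟩ : ∃ O : Subgroup G, O = Cfsg.pPrimeCore p G := ⟨_, rfl⟩
  haveI hOn : O.Normal := by rw [hOdef]; infer_instance
  have hOcop : (Nat.card O).Coprime p := by rw [hOdef]; exact card_pPrimeCore_coprime p
  -- `H ⊓ O ≤ K`
  have hHOK : H ⊓ O ≤ K := by
    have hLn : ((H ⊓ O) ⊔ K).Normal := inferInstance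
    rcases hchief ((H ⊓ O) ⊔ K) hLn le_sup_right (sup_le inf_le_left hKH.le) with h | h
    · rw [← h]; exact le_sup_left
    · exfalso
      have h1 : K.relIndex H = K.relIndex (H ⊓ O) := by
        conv_lhs => rw [← h]
        exact Subgroup.relIndex_sup_right (H ⊓ O) K
      have h2 : K.relIndex (H ⊓ O) ∣ Nat.card (H ⊓ O : Subgroup G) := Subgroup.relIndex_dvd_card _ _
      have h3 : Nat.card (H ⊓ O : Subgroup G) ∣ Nat.card O := Subgroup.card_dvd_of_le inf_le_right
      have h4 : p ^ n ∣ Nat.card O := by rw [← hn, h1]; exact h2.trans h3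
      have h5 : p ∣ Nat.card O := (dvd_pow_self p hn0).trans h4
      have h6 := Nat.eq_one_of_dvd_coprimes hOcop h5 dvd_rfl
      exact hp.out.one_lt.ne' h6
  obtain ⟨π, hπ⟩ : ∃ π : G →* G ⧸ O, π = QuotientGroup.mk' O := ⟨_, rfl⟩
  have hπs : Function.Surjective π := by rw [hπ]; exact QuotientGroup.mk'_surjective O
  have hker : π.ker = O := by rw [hπ]; exact QuotientGroup.ker_mk' O
  haveI hHbn : (H.map π).Normal := hHn.map π hπs
  haveI hKbn : (K.map π).Normal := hKn.map π hπs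
  have hrel : (K.map π).relIndex (H.map π) = K.relIndex H := by
    rw [Subgroup.relIndex_map_map, hker]
    exact relIndex_sup_sup H K O hKH.le hHOK
  have hsolq : Cfsg.IsPSolvable p (G ⧸ O) := Cfsg.Agent.Helper4.isPSolvable_quotient hsol O
  have hOq : Cfsg.pPrimeCore p (G ⧸ O) = ⊥ := by
    subst hOdef; exact pPrimeCore_quotient_pPrimeCore p
  have hrq : Cfsg.PRankLE p 2 (G ⧸ O) := Rank2Struct.pRankLE_quotient_of_coprime hr O hOcop
  have hlt : K.map π < H.map π := by
    refine lt_of_le_of_ne (Subgroup.map_mono hKH.le) ?_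
    intro h
    have h1 : (K.map π).relIndex (H.map π) = 1 := by
      rw [h]; exact Subgroup.relIndex_self _
    rw [hrel, hn] at h1
    have := Nat.one_lt_pow hn0 hp.out.one_lt
    omega
  rw [← hrel]
  apply chief_of_pPrimeCore_bot hp2 hsolq hOq hrq (H.map π) (K.map π) hlt ⟨n, by rw [hrel, hn]⟩
  intro Lb hLbn hKL hLH
  haveI := hLbn
  obtain ⟨L, hL⟩ : ∃ L : Subgroup G, L = Lb.comap π := ⟨_, rfl⟩
  haveI hLn : L.Normal := by rw [hL]; infer_instance
  have hLmap : L.map π = Lb := by rw [hL]; exact Subgroup.map_comap_eq_self_of_surjective hπs Lb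
  have hOL : O ≤ L := by
    have h1 : π.ker ≤ Lb.comap π := Subgroup.ker_le_comap π Lb
    rw [hker] at h1
    rw [hL]; exact h1
  have hKLg : K ≤ L := by
    rw [hL, ← Subgroup.map_le_iff_le_comap]; exact hKL
  have hMn : (L ⊓ H).Normal := inferInstance
  rcases hchief (L ⊓ H) hMn (le_inf hKLg hKH.le) inf_le_right with h | h
  · left
    have hLHO : L ≤ H ⊔ O := by
      have h1 : Lb.comap π ≤ (H.map π).comap π := Subgroup.comap_mono hLH
      rw [Subgroup.comap_map_eq, hker] at h1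
      rw [hL]; exact h1
    have h1 : L = L ⊓ (O ⊔ H) := by
      rw [sup_comm]; exact (inf_eq_left.2 hLHO).symm
    haveI : H.Normal := hHn
    have h2 : L ⊓ (O ⊔ H) = O ⊔ (L ⊓ H) := dedekind_right' L O H hOL
    rw [h] at h2
    have h3 : O.map π = ⊥ := by
      rw [Subgroup.map_eq_bot_iff, hker]
    rw [← hLmap, h1, h2, Subgroup.map_sup, h3, bot_sup_eq]
  · right
    have hHL : H ≤ L := by rw [← h]; exact inf_le_left
    apply le_antisymm hLH
    rw [← hLmap]; exact Subgroup.map_mono hHL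

end Cfsg.Agent.Helper1.R2Chief
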