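import Mathlib
import Cfsg.Prelude.Def_Characters
import Cfsg.Prelude.Def_BlockLocal
import Cfsg.Prelude.Def_Blocks
import Cfsg.Agent.Helper6.RMcKCnt
import Cfsg.Agent.Helper6.RelGlaubC
import Cfsg.Agent.Helper6.RMcKLXa

/-!
# Piece CNTG of S4807: Gallagher's theorem, ambient form
-/

set_option autoImplicit false

namespace Cfsg.Agent.Helper1.RMcK

open Cfsg.Agent.Helper6 Cfsg.Agent.Helper6.RMcK

universe u

variable {X : Type u} [Group X] [Finite X]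

/-- the ambient Gallagher bijection -/
theorem gallagher_amb (Y K : Subgroup X) (hKY : K ≤ Y)
    (hYK : Y ≤ Subgroup.normalizer (K : Set X)) (τ : Y → ℂ) (hτ : Cfsg.IsCharacter Y τ)
    (hτK : Cfsg.IsIrrCharacter K (res hKY τ)) :
    Set.BijOn (fun β : Y → ℂ => β * τ)
      {β : Y → ℂ | Cfsg.IsIrrCharacter Y β ∧ ∀ k : K, β (Subgroup.inclusion hKY k) = β 1}
      {ψ : Y → ℂ | Cfsg.IsIrrCharacter Y ψ ∧ Ov hKY ψ (res hKY τ)} := by
  classical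
  haveI := Fintype.ofFinite Y
  haveI := Fintype.ofFinite K
  haveI := Fintype.ofFinite (K.subgroupOf Y)
  haveI hn : (K.subgroupOf Y).Normal :=
    (Subgroup.normal_subgroupOf_iff_le_normalizer hKY).mpr hYK
  have hτirr : Cfsg.IsIrrCharacter Y τ := isIrr_of_res_isIrr hKY τ hτ hτK
  have h2 : (fun n : K.subgroupOf Y => τ n) =
      (res hKY τ) ∘ (Subgroup.subgroupOfEquivOfLe hKY) := by
    funext n
    rfl
  have hτN : Cfsg.IsIrrCharacter (K.subgroupOf Y) (fun n : K.subgroupOf Y => τ n) := by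
    rw [h2]
    exact irr_subgroupOf hKY hτK
  have hbij := RelGlaub.gallagher_bijOn_one (K.subgroupOf Y) τ hτirr hτN
  have hS : {β : Y → ℂ | Cfsg.IsIrrCharacter Y β ∧ ∀ k : K, β (Subgroup.inclusion hKY k) = β 1} =
      {β : Y → ℂ | Cfsg.IsIrrCharacter Y β ∧ ∀ n ∈ K.subgroupOf Y, β n = β 1} := by
    ext β
    constructor
    · rintro ⟨h1, h3⟩
      refine ⟨h1, fun n hn => ?_⟩
      exact h3 ⟨(n : X), Subgroup.mem_subgroupOf.mp hn⟩
    · rintro ⟨h1, h3⟩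
      refine ⟨h1, fun k => ?_⟩
      exact h3 (Subgroup.inclusion hKY k) (Subgroup.mem_subgroupOf.mpr k.2)
  have hT : {ψ : Y → ℂ | Cfsg.IsIrrCharacter Y ψ ∧ Ov hKY ψ (res hKY τ)} =
      {ψ : Y → ℂ | Cfsg.IsIrrCharacter Y ψ ∧
        Cfsg.classInner (fun n : K.subgroupOf Y => ψ n) (fun n : K.subgroupOf Y => τ n) ≠ 0} := by
    ext ψ
    have h3 := classInner_subgroupOf' hKY ψ (res hKY τ)
    rw [← h2] at h3
    constructor
    · rintro ⟨h1, h4⟩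
      refine ⟨h1, ?_⟩
      rw [h3]
      exact h4
    · rintro ⟨h1, h4⟩
      refine ⟨h1, ?_⟩
      rw [h3] at h4
      exact h4
  rw [hS, hT]
  exact hbij

theorem CNTG1_mul_irr (Y K : Subgroup X) (hKY : K ≤ Y)
    (hYK : Y ≤ Subgroup.normalizer (K : Set X)) (τ : Y → ℂ) (hτ : Cfsg.IsCharacter Y τ)
    (hτK : Cfsg.IsIrrCharacter K (res hKY τ)) (β : Y → ℂ) (hβ : Cfsg.IsIrrCharacter Y β)
    (hβK : ∀ k : K, β (Subgroup.inclusion hKY k) = β 1) :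
    Cfsg.IsIrrCharacter Y (β * τ) ∧ Ov hKY (β * τ) (res hKY τ) :=
  (gallagher_amb Y K hKY hYK τ hτ hτK).mapsTo ⟨hβ, hβK⟩

theorem CNTG2_exists (Y K : Subgroup X) (hKY : K ≤ Y)
    (hYK : Y ≤ Subgroup.normalizer (K : Set X)) (τ : Y → ℂ) (hτ : Cfsg.IsCharacter Y τ)
    (hτK : Cfsg.IsIrrCharacter K (res hKY τ)) (ψ : Y → ℂ) (hψ : Cfsg.IsIrrCharacter Y ψ)
    (hov : Ov hKY ψ (res hKY τ)) :
    ∃ β : Y → ℂ, Cfsg.IsIrrCharacter Y β ∧ (∀ k : K, β (Subgroup.inclusion hKY k) = β 1) ∧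
      ψ = β * τ := by
  obtain ⟨β, ⟨h1, h2⟩, h3⟩ := (gallagher_amb Y K hKY hYK τ hτ hτK).surjOn ⟨hψ, hov⟩
  exact ⟨β, h1, h2, h3.symm⟩

theorem CNTG3_injective (Y K : Subgroup X) (hKY : K ≤ Y)
    (hYK : Y ≤ Subgroup.normalizer (K : Set X)) (τ : Y → ℂ) (hτ : Cfsg.IsCharacter Y τ)
    (hτK : Cfsg.IsIrrCharacter K (res hKY τ)) (β β' : Y → ℂ) (hβ : Cfsg.IsIrrCharacter Y β)
    (hβ' : Cfsg.IsIrrCharacter Y β')
    (hβK : ∀ k : K, β (Subgroup.inclusion hKY k) = β 1)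
    (hβ'K : ∀ k : K, β' (Subgroup.inclusion hKY k) = β' 1) (h : β * τ = β' * τ) : β = β' :=
  (gallagher_amb Y K hKY hYK τ hτ hτK).injOn ⟨hβ, hβK⟩ ⟨hβ', hβ'K⟩ h

/-- inner products of multiples of `τ` by functions constant on `K`-cosets -/
theorem CNTG4_ip_mul (Y K : Subgroup X) (hKY : K ≤ Y)
    (hYK : Y ≤ Subgroup.normalizer (K : Set X)) (τ : Y → ℂ) (hτ : Cfsg.IsCharacter Y τ)
    (hτK : Cfsg.IsIrrCharacter K (res hKY τ)) (α α' : Y → ℂ)
    (hα : ∀ (k : K) (y : Y), α (Subgroup.inclusion hKY k * y) = α y)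
    (hα' : ∀ (k : K) (y : Y), α' (Subgroup.inclusion hKY k * y) = α' y) :
    ip (α * τ) (α' * τ) = ip α α' := by
  classical
  haveI := Fintype.ofFinite Y
  haveI := Fintype.ofFinite K
  haveI := Fintype.ofFinite (K.subgroupOf Y)
  haveI hn : (K.subgroupOf Y).Normal :=
    (Subgroup.normal_subgroupOf_iff_le_normalizer hKY).mpr hYK
  have hτirr : Cfsg.IsIrrCharacter Y τ := isIrr_of_res_isIrr hKY τ hτ hτK
  have h2 : (fun n : K.subgroupOf Y => τ n) =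
      (res hKY τ) ∘ (Subgroup.subgroupOfEquivOfLe hKY) := by
    funext n
    rfl
  have hτN : Cfsg.IsIrrCharacter (K.subgroupOf Y) (fun n : K.subgroupOf Y => τ n) := by
    rw [h2]
    exact irr_subgroupOf hKY hτK
  rw [ip_eq_classInner, ip_eq_classInner]
  apply RelGlaub.classInner_mul_ext (K.subgroupOf Y) τ hτirr hτN α α'
  · intro n y
    exact hα ⟨(n : Y), Subgroup.mem_subgroupOf.mp n.2⟩ y
  · intro n y
    exact hα' ⟨(n : Y), Subgroup.mem_subgroupOf.mp n.2⟩ y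

end Cfsg.Agent.Helper1.RMcK
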