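import Mathlib
import Cfsg.Prelude.Def_Characters
import Cfsg.Prelude.Def_BlockLocal
import Cfsg.Agent.Helper6.RMcKCnt
import Cfsg.Agent.Helper6.RMcKGlC

/-!
# Sylow-invariant constituents: group-theoretic and conjugation lemmas (ambient form)
-/

set_option autoImplicit false

namespace Cfsg.Agent.Helper1.RMcK

open Cfsg.Agent.Helper6 Cfsg.Agent.Helper6.RMcK

universe u

variable {Γ : Type u} [Group Γ]

/-- a `p`-subgroup of `G` is conjugate in `G` into any subgroup whose relative index is prime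
to `p` -/
theorem exists_conj_mem_of_not_dvd_relIndex (p : ℕ) [Fact p.Prime] (G S T : Subgroup Γ)
    (hSG : S ≤ G) (hS : IsPGroup p S) (hT : ¬ p ∣ T.relIndex G) :
    ∃ g ∈ G, ∀ s ∈ S, g⁻¹ * s * g ∈ T := by
  have hP : IsPGroup p (S.subgroupOf G) := hS.comap_subtype
  have hcard : ¬ p ∣ Nat.card (↥G ⧸ T.subgroupOf G) := hT
  obtain ⟨q, hq⟩ := hP.nonempty_fixed_point_of_prime_not_dvd_card (↥G ⧸ T.subgroupOf G) hcard
  obtain ⟨g, rfl⟩ := QuotientGroup.mk_surjective q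
  refine ⟨g.1, g.2, fun s hs => ?_⟩
  have hs' : (⟨s, hSG hs⟩ : ↥G) ∈ S.subgroupOf G := by
    rw [Subgroup.mem_subgroupOf]; exact hs
  have h1 := hq ⟨⟨s, hSG hs⟩, hs'⟩
  have h2 : ((⟨s, hSG hs⟩ * g : ↥G) : ↥G ⧸ T.subgroupOf G) = (g : ↥G ⧸ T.subgroupOf G) := h1
  rw [QuotientGroup.eq, Subgroup.mem_subgroupOf] at h2
  have h3 := T.inv_mem h2
  have e : (((⟨s, hSG hs⟩ * g : ↥G)⁻¹ * g : ↥G) : Γ)⁻¹ = (g : Γ)⁻¹ * s * g := by
    simp only [Subgroup.coe_mul, Subgroup.coe_inv]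
    group
  rwa [e] at h3

/-- an element conjugating a finite subgroup into itself normalizes it -/
theorem mem_normalizer_of_conj_le [Finite Γ] (S : Subgroup Γ) (n : Γ)
    (h : ∀ s ∈ S, n * s * n⁻¹ ∈ S) : n ∈ Subgroup.normalizer (S : Set Γ) := by
  rw [Subgroup.mem_normalizer_iff]
  intro x
  refine ⟨h x, fun hx => ?_⟩
  let f : S → S := fun s => ⟨n * s * n⁻¹, h s s.2⟩
  have hf : Function.Injective f := by
    intro a b hab
    have h1 : n * (a : Γ) * n⁻¹ = n * (b : Γ) * n⁻¹ := congrArg Subtype.val hab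
    apply Subtype.ext
    have h2 : (a : Γ) = n⁻¹ * (n * (a : Γ) * n⁻¹) * n := by group
    rw [h2, h1]; group
  obtain ⟨s, hs⟩ := (Finite.surjective_of_injective hf) ⟨n * x * n⁻¹, hx⟩
  have h1 : n * (s : Γ) * n⁻¹ = n * x * n⁻¹ := congrArg Subtype.val hs
  have h2 : x = n⁻¹ * (n * x * n⁻¹) * n := by group
  rw [h2, ← h1]
  have h3 : n⁻¹ * (n * (s : Γ) * n⁻¹) * n = s := by group
  rw [h3]; exact s.2

/-- conjugating the character conjugates the inertia group -/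
theorem conj_mem_inertia_cjc (K : Subgroup Γ) (g : Γ) (hg : g ∈ Subgroup.normalizer (K : Set Γ))
    (θ : K → ℂ) (x : Γ) (hx : x ∈ inertia K θ) : g * x * g⁻¹ ∈ inertia K (cjc K g hg θ) := by
  have hxK : x ∈ Subgroup.normalizer (K : Set Γ) := hx.1
  have hgi : g⁻¹ ∈ Subgroup.normalizer (K : Set Γ) := Subgroup.inv_mem _ hg
  have hmem : g * x * g⁻¹ ∈ Subgroup.normalizer (K : Set Γ) :=
    Subgroup.mul_mem _ (Subgroup.mul_mem _ hg hxK) hgi
  refine ⟨hmem, ?_⟩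
  rw [isConjCharOf_iff K _ hmem]
  have h1 : cjc K (g * x * g⁻¹) hmem (cjc K g hg θ) =
      cjc K (g * x * g⁻¹ * g) (Subgroup.mul_mem _ hmem hg) θ :=
    (cjc_mul K _ g hmem hg θ).symm
  have h2 : cjc K (g * x) (Subgroup.mul_mem _ hg hxK) θ = cjc K g hg (cjc K x hxK θ) :=
    cjc_mul K g x hg hxK θ
  have h3 : cjc K x hxK θ = θ := cjc_eq_of_mem_inertia K θ x hx
  have h4 : cjc K (g * x * g⁻¹ * g) (Subgroup.mul_mem _ hmem hg) θ =
      cjc K (g * x) (Subgroup.mul_mem _ hg hxK) θ := by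
    congr 1
    group
  rw [h1, h4, h2, h3]

variable [Finite Γ]

/-- the restriction of a class function of `G` to a subgroup `K` normalized by `G` is
`G`-invariant -/
theorem cjc_res_of_mem {K G : Subgroup Γ} (hKG : K ≤ G) (χ : G → ℂ)
    (hχ : Cfsg.IsClassFunction G χ) (g : Γ) (hg : g ∈ G)
    (hgK : g ∈ Subgroup.normalizer (K : Set Γ)) :
    cjc K g hgK (res hKG χ) = res hKG χ := by
  rw [← res_cjc hKG g (Subgroup.le_normalizer hg) hgK χ, cjc_of_mem G g hg χ hχ]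

/-- lying over is preserved by conjugation by an element of the big group -/
theorem ov_cjc_of_mem {K G : Subgroup Γ} (hKG : K ≤ G) (χ : G → ℂ)
    (hχ : Cfsg.IsClassFunction G χ) (g : Γ) (hg : g ∈ G)
    (hgK : g ∈ Subgroup.normalizer (K : Set Γ)) (τ : K → ℂ) (h : Ov hKG χ τ) :
    Ov hKG χ (cjc K g hgK τ) := by
  unfold Ov at h ⊢
  rw [← cjc_res_of_mem hKG χ hχ g hg hgK, ip_cjc]
  exact h

/-- lying over an invariant character is preserved by conjugating the upper character -/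
theorem ov_cjc_of_inertia {L K : Subgroup Γ} (hLK : L ≤ K) (τ : K → ℂ) (ν : L → ℂ) (g : Γ)
    (hgK : g ∈ Subgroup.normalizer (K : Set Γ)) (hgν : g ∈ inertia L ν) (h : Ov hLK τ ν) :
    Ov hLK (cjc K g hgK τ) ν := by
  unfold Ov at h ⊢
  have hgL : g ∈ Subgroup.normalizer (L : Set Γ) := hgν.1
  have e : ip (cjc L g hgL (res hLK τ)) ν = ip (cjc L g hgL (res hLK τ)) (cjc L g hgL ν) := by
    rw [cjc_eq_of_mem_inertia L ν g hgν]
  rw [res_cjc hLK g hgK hgL, e, ip_cjc]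
  exact h

end Cfsg.Agent.Helper1.RMcK
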