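import Mathlib
import Cfsg.Prelude.Def_Characters
import Cfsg.Prelude.Def_BlockLocal
import Cfsg.Agent.Helper6.Expansion
import Cfsg.Agent.Helper1.RMcKPBa

/-!
# Pieces PB1, PB2 of S4807 (modulo CL1, CL2): Sylow-invariant constituents of a character of
`p'`-degree
-/

set_option autoImplicit false

namespace Cfsg.Agent.Helper1.RMcK

open Cfsg.Agent.Helper6 Cfsg.Agent.Helper6.RMcK

universe u

variable {Γ : Type u} [Group Γ] [Finite Γ]

/-- the statement of piece CL1 (constituents are conjugate) -/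
def CL1Stmt (Γ : Type u) [Group Γ] [Finite Γ] : Prop :=
  ∀ (G K : Subgroup Γ) (hKG : K ≤ G) (hnorm : G ≤ Subgroup.normalizer (K : Set Γ)) (χ : G → ℂ)
    (_ : Cfsg.IsIrrCharacter G χ) (τ τ' : Cfsg.IrrCharacter K) (_ : Ov hKG χ (τ : K → ℂ))
    (_ : Ov hKG χ (τ' : K → ℂ)),
    ∃ g, ∃ hg : g ∈ G, (τ' : K → ℂ) = cjc K g (hnorm hg) (τ : K → ℂ)

/-- the statement of piece CL2 (the index of the inertia group divides the degree) -/
def CL2Stmt (Γ : Type u) [Group Γ] [Finite Γ] : Prop :=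
  ∀ (G K : Subgroup Γ) (hKG : K ≤ G) (_ : G ≤ Subgroup.normalizer (K : Set Γ)) (χ : G → ℂ)
    (_ : Cfsg.IsIrrCharacter G χ) (τ : Cfsg.IrrCharacter K) (_ : Ov hKG χ (τ : K → ℂ)),
    (G ⊓ inertia K (τ : K → ℂ)).relIndex G ∣ Cfsg.charDegree χ

/-- an irreducible character of `G` has an irreducible constituent on every subgroup -/
theorem exists_constituent {K G : Subgroup Γ} (hKG : K ≤ G) (χ : G → ℂ)
    (hχ : Cfsg.IsIrrCharacter G χ) : ∃ τ : Cfsg.IrrCharacter K, Ov hKG χ (τ : K → ℂ) := by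
  classical
  haveI := Fintype.ofFinite K
  haveI : Finite (Cfsg.IrrCharacter K) := irr_finite
  haveI := Fintype.ofFinite (Cfsg.IrrCharacter K)
  by_contra hcon
  push Not at hcon
  have hψ : Cfsg.IsClassFunction K (res hKG χ) :=
    IsCharacter.isClassFunction (res_isCharacter hKG (IsIrrCharacter.isCharacter hχ))
  have hexp := classFunction_expansion (res hKG χ) hψ
  have h0 : res hKG χ = 0 := by
    rw [hexp]
    apply Finset.sum_eq_zero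
    intro σ _
    have := hcon σ
    unfold Ov at this
    push Not at this
    rw [← ip_eq_classInner, this, zero_smul]
  have h1 : χ 1 ≠ 0 := IsIrrCharacter.apply_one_ne_zero hχ
  apply h1
  have := congrFun h0 1
  rwa [res_one] at this

theorem PB1_of_CL2 (hCL2 : CL2Stmt Γ) (p : ℕ) [Fact p.Prime] (G K S : Subgroup Γ)
    (hKG : K ≤ G) (hGK : G ≤ Subgroup.normalizer (K : Set Γ)) (hSG : S ≤ G)
    (hS : IsPGroup p S) (χ : G → ℂ)
    (hχ : Cfsg.IsIrrCharacter G χ) (hdeg : ¬ p ∣ Cfsg.charDegree χ) :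
    ∃ τ : Cfsg.IrrCharacter K, Ov hKG χ (τ : K → ℂ) ∧ S ≤ inertia K (τ : K → ℂ) := by
  obtain ⟨τ₀, hτ₀⟩ := exists_constituent hKG χ hχ
  have hdvd := hCL2 G K hKG hGK χ hχ τ₀ hτ₀
  have hT : ¬ p ∣ (G ⊓ inertia K (τ₀ : K → ℂ)).relIndex G := fun h => hdeg (h.trans hdvd)
  obtain ⟨g, hg, hconj⟩ := exists_conj_mem_of_not_dvd_relIndex p G S _ hSG hS hT
  have hgK := hGK hg
  have hcf : Cfsg.IsClassFunction G χ := IsCharacter.isClassFunction (IsIrrCharacter.isCharacter hχ)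
  refine ⟨⟨cjc K g hgK (τ₀ : K → ℂ), cjc_isIrr K g hgK τ₀.2⟩,
    ov_cjc_of_mem hKG χ hcf g hg hgK _ hτ₀, ?_⟩
  intro s hs
  have h1 := (hconj s hs).2
  have h2 := conj_mem_inertia_cjc K g hgK (τ₀ : K → ℂ) _ h1
  have e : g * (g⁻¹ * s * g) * g⁻¹ = s := by group
  rwa [e] at h2

theorem PB2_of_CL1 (hCL1 : CL1Stmt Γ) (p : ℕ) [Fact p.Prime] (G K S : Subgroup Γ)
    (hKG : K ≤ G) (hGK : G ≤ Subgroup.normalizer (K : Set Γ)) (hSG : S ≤ G)
    (hS : IsPGroup p S) (hSyl : ¬ p ∣ S.relIndex G) (χ : G → ℂ)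
    (hχ : Cfsg.IsIrrCharacter G χ) (τ τ' : Cfsg.IrrCharacter K)
    (h1 : Ov hKG χ (τ : K → ℂ)) (h2 : Ov hKG χ (τ' : K → ℂ))
    (hi1 : S ≤ inertia K (τ : K → ℂ)) (hi2 : S ≤ inertia K (τ' : K → ℂ)) :
    ∃ n, ∃ hn : n ∈ G ⊓ Subgroup.normalizer (S : Set Γ),
      (τ' : K → ℂ) = cjc K n (hGK hn.1) (τ : K → ℂ) := by
  obtain ⟨g, hg, hτ'⟩ := hCL1 G K hKG hGK χ hχ τ τ' h1 h2
  have hSI : S ≤ G ⊓ inertia K (τ' : K → ℂ) := le_inf hSG hi2
  have hS'le : S.map (MulAut.conj g).toMonoidHom ≤ G ⊓ inertia K (τ' : K → ℂ) := by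
    rintro _ ⟨s, hs, rfl⟩
    refine ⟨G.mul_mem (G.mul_mem hg (hSG hs)) (G.inv_mem hg), ?_⟩
    have := conj_mem_inertia_cjc K g (hGK hg) (τ : K → ℂ) s (hi1 hs)
    rw [← hτ'] at this
    exact this
  have hS'p : IsPGroup p (S.map (MulAut.conj g).toMonoidHom) := hS.map _
  have hnd : ¬ p ∣ S.relIndex (G ⊓ inertia K (τ' : K → ℂ)) := by
    intro hd
    apply hSyl
    have := Subgroup.relIndex_mul_relIndex S (G ⊓ inertia K (τ' : K → ℂ)) G hSI inf_le_left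
    rw [← this]
    exact Dvd.dvd.mul_right hd _
  obtain ⟨t, ht, hconj⟩ := exists_conj_mem_of_not_dvd_relIndex p _ _ S hS'le hS'p hnd
  have hn : ∀ s ∈ S, (t⁻¹ * g) * s * (t⁻¹ * g)⁻¹ ∈ S := by
    intro s hs
    have := hconj (g * s * g⁻¹) ⟨s, hs, rfl⟩
    have e : t⁻¹ * (g * s * g⁻¹) * t = (t⁻¹ * g) * s * (t⁻¹ * g)⁻¹ := by group
    rwa [e] at this
  have hnN := mem_normalizer_of_conj_le S (t⁻¹ * g) hn
  have hnG : t⁻¹ * g ∈ G := G.mul_mem (G.inv_mem ht.1) hg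
  refine ⟨t⁻¹ * g, ⟨hnG, hnN⟩, ?_⟩
  have htinv : t⁻¹ ∈ inertia K (τ' : K → ℂ) := Subgroup.inv_mem _ ht.2
  have e1 : cjc K (t⁻¹ * g) (hGK hnG) (τ : K → ℂ) =
      cjc K t⁻¹ htinv.1 (cjc K g (hGK hg) (τ : K → ℂ)) := cjc_mul K t⁻¹ g htinv.1 (hGK hg) _
  rw [e1, ← hτ', cjc_eq_of_mem_inertia K _ t⁻¹ htinv]

end Cfsg.Agent.Helper1.RMcK
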