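import Mathlib
import Cfsg.Prelude.Def_Characters
import Cfsg.Prelude.Def_BlockLocal
import Cfsg.Agent.Helper2.RMcKCL45
import Cfsg.Agent.Helper1.RMcKPBb

/-!
# Piece PB3 of S4807 (modulo CL1, CL2): the partition count
-/

set_option autoImplicit false

namespace Cfsg.Agent.Helper1.RMcK

open Cfsg.Agent.Helper6 Cfsg.Agent.Helper6.RMcK Cfsg.Agent.Helper2.RMcK

universe u

/-- two finite types with maps to a common type, all of whose fibres have the same size, have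
the same size -/
theorem card_eq_of_fiber_card_eq {X X' Z : Type*} [Finite X] [Finite X'] (f : X → Z) (f' : X' → Z)
    (h : ∀ z, Nat.card {x // f x = z} = Nat.card {x // f' x = z}) : Nat.card X = Nat.card X' := by
  have e : ∀ z, {x // f x = z} ≃ {x // f' x = z} := fun z =>
    Classical.choice (Finite.card_eq.1 (h z))
  exact Nat.card_congr ((Equiv.sigmaFiberEquiv f).symm.trans
    ((Equiv.sigmaCongrRight e).trans (Equiv.sigmaFiberEquiv f')))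

variable {Γ : Type u} [Group Γ] [Finite Γ]

/-- the `S`-invariant constituents of `χ_K` -/
def invConst {K H : Subgroup Γ} (hKH : K ≤ H) (S : Subgroup Γ) (χ : H → ℂ) :
    Set (Cfsg.IrrCharacter K) :=
  {τ | Ov hKH χ (τ : K → ℂ) ∧ S ≤ inertia K (τ : K → ℂ)}

/-- the orbit of `τ` under `G ⊓ N(S)` -/
def nsOrb {K G : Subgroup Γ} (hGK : G ≤ Subgroup.normalizer (K : Set Γ)) (S : Subgroup Γ)
    (τ : Cfsg.IrrCharacter K) : Set (Cfsg.IrrCharacter K) :=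
  {τ' | ∃ n, ∃ hn : n ∈ G ⊓ Subgroup.normalizer (S : Set Γ),
    (τ' : K → ℂ) = cjc K n (hGK hn.1) (τ : K → ℂ)}

theorem mem_nsOrb_self {K G : Subgroup Γ} (hGK : G ≤ Subgroup.normalizer (K : Set Γ))
    (S : Subgroup Γ) (τ : Cfsg.IrrCharacter K) : τ ∈ nsOrb hGK S τ :=
  ⟨1, Subgroup.one_mem _, (cjc_one K (τ : K → ℂ)).symm⟩

section generic

variable (hCL1 : CL1Stmt Γ) (hCL2 : CL2Stmt Γ)
  (p : ℕ) [Fact p.Prime] {G H K S : Subgroup Γ} (hKH : K ≤ H) (hHG : H ≤ G)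
  (hGK : G ≤ Subgroup.normalizer (K : Set Γ)) (hSH : S ≤ H) (hS : IsPGroup p S)
  (hSylH : ¬ p ∣ S.relIndex H) (hNH : G ⊓ Subgroup.normalizer (S : Set Γ) ≤ H)

include hCL1 hHG hS hSylH hNH hSH in
/-- the `S`-invariant constituents of `χ_K` form one orbit under `G ⊓ N(S)` -/
theorem invConst_eq_nsOrb (χ : H → ℂ) (hχ : Cfsg.IsIrrCharacter H χ) (τ : Cfsg.IrrCharacter K)
    (h1 : Ov hKH χ (τ : K → ℂ)) (hi1 : S ≤ inertia K (τ : K → ℂ)) :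
    invConst hKH S χ = nsOrb hGK S τ := by
  ext τ'
  constructor
  · rintro ⟨h2, hi2⟩
    obtain ⟨n, hn, e⟩ := PB2_of_CL1 hCL1 p H K S hKH (hHG.trans hGK) hSH hS hSylH
      χ hχ τ τ' h1 h2 hi1 hi2
    exact ⟨n, ⟨hHG hn.1, hn.2⟩, e⟩
  · rintro ⟨n, hn, e⟩
    have hnH : n ∈ H := hNH hn
    have hcf : Cfsg.IsClassFunction H χ :=
      IsCharacter.isClassFunction (IsIrrCharacter.isCharacter hχ)
    refine ⟨?_, ?_⟩
    · rw [e]
      exact ov_cjc_of_mem hKH χ hcf n hnH (hGK hn.1) _ h1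
    · rw [e]
      exact cjc_mem_inertia_of_normalizes K S n (hGK hn.1) hn.2 _ hi1

include hCL1 hCL2 hHG hGK hS hSH in
/-- a `p'`-degree character over an invariant `ν` has an `S`-invariant constituent over `ν` -/
theorem exists_invConst_over {L : Subgroup Γ} (hLK : L ≤ K) (ν : L → ℂ)
    (hν : Cfsg.IsIrrCharacter L ν) (hinv : H ≤ inertia L ν) (χ : H → ℂ)
    (hχ : Cfsg.IsIrrCharacter H χ) (hdeg : ¬ p ∣ Cfsg.charDegree χ)
    (hov : Ov (hLK.trans hKH) χ ν) :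
    ∃ τ : Cfsg.IrrCharacter K, Ov hKH χ (τ : K → ℂ) ∧ S ≤ inertia K (τ : K → ℂ) ∧
      Ov hLK (τ : K → ℂ) ν := by
  have hHK : H ≤ Subgroup.normalizer (K : Set Γ) := hHG.trans hGK
  obtain ⟨τ, hτ, hτS⟩ := PB1_of_CL2 hCL2 p H K S hKH hHK hSH hS χ hχ hdeg
  obtain ⟨τ₁, hτ₁, hτ₁ν⟩ := CL5_exists_middle H K L hLK hKH χ hχ ν hν hov
  obtain ⟨g, hg, e⟩ := hCL1 H K hKH hHK χ hχ τ₁ τ hτ₁ hτ
  refine ⟨τ, hτ, hτS, ?_⟩
  rw [e]
  exact ov_cjc_of_inertia hLK _ ν g (hHK hg) (hinv hg) hτ₁ν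

include hCL1 hCL2 hHG hS hSylH hNH hSH in
/-- the fibres of `χ ↦ {S-invariant constituents of χ_K}` -/
theorem card_fiber {L : Subgroup Γ} (hLK : L ≤ K) (ν : L → ℂ)
    (hν : Cfsg.IsIrrCharacter L ν) (hinv : H ≤ inertia L ν) (B : Set (Cfsg.IrrCharacter K)) :
    (∀ τ : Cfsg.IrrCharacter K, Ov hLK (τ : K → ℂ) ν → S ≤ inertia K (τ : K → ℂ) →
      B = nsOrb hGK S τ →
      Nat.card {x : {χ : Cfsg.IrrCharacter H // ¬ p ∣ Cfsg.charDegree (χ : H → ℂ) ∧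
          Ov (hLK.trans hKH) (χ : H → ℂ) ν} // invConst hKH S (x.1 : H → ℂ) = B} =
        pcnt p hKH (τ : K → ℂ)) ∧
    ((¬ ∃ τ : Cfsg.IrrCharacter K, Ov hLK (τ : K → ℂ) ν ∧ S ≤ inertia K (τ : K → ℂ) ∧
        B = nsOrb hGK S τ) →
      Nat.card {x : {χ : Cfsg.IrrCharacter H // ¬ p ∣ Cfsg.charDegree (χ : H → ℂ) ∧
          Ov (hLK.trans hKH) (χ : H → ℂ) ν} // invConst hKH S (x.1 : H → ℂ) = B} = 0) := by
  constructor
  · intro τ hτν hτS hB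
    unfold pcnt
    apply Nat.card_congr
    refine
      { toFun := fun x => ⟨x.1.1, x.1.2.1, ?_⟩
        invFun := fun y => ⟨⟨y.1, y.2.1, ?_⟩, ?_⟩
        left_inv := fun x => rfl
        right_inv := fun y => rfl }
    · have hmem : τ ∈ invConst hKH S (x.1.1 : H → ℂ) := by
        rw [x.2, hB]
        exact mem_nsOrb_self hGK S τ
      exact hmem.1
    · exact CL4_over_trans H K L hLK hKH (y.1 : H → ℂ) (IsIrrCharacter.isCharacter y.1.2)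
        (τ : K → ℂ) τ.2 ν hν y.2.2 hτν
    · show invConst hKH S (y.1 : H → ℂ) = B
      rw [hB]
      exact invConst_eq_nsOrb hCL1 p hKH hHG hGK hSH hS hSylH hNH (y.1 : H → ℂ) y.1.2 τ y.2.2 hτS
  · intro hno
    rw [Nat.card_eq_zero]
    left
    constructor
    rintro ⟨⟨χ, hdeg, hov⟩, hfx⟩
    apply hno
    obtain ⟨τ, hτ, hτS, hτν⟩ := exists_invConst_over hCL1 hCL2 p hKH hHG hGK hSH hS hLK ν hν hinv
      (χ : H → ℂ) χ.2 hdeg hov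
    refine ⟨τ, hτν, hτS, ?_⟩
    rw [← hfx]
    exact invConst_eq_nsOrb hCL1 p hKH hHG hGK hSH hS hSylH hNH (χ : H → ℂ) χ.2 τ hτ hτS

end generic

theorem PB3_of_CL (hCL1 : CL1Stmt Γ) (hCL2 : CL2Stmt Γ) (p : ℕ) [Fact p.Prime]
    (G G₁ K L S : Subgroup Γ) (hLK : L ≤ K)
    (hKG₁ : K ≤ G₁) (hG₁G : G₁ ≤ G) (hGK : G ≤ Subgroup.normalizer (K : Set Γ))
    (hSG₁ : S ≤ G₁) (hS : IsPGroup p S) (hSyl : ¬ p ∣ S.relIndex G)
    (hNS : G ⊓ Subgroup.normalizer (S : Set Γ) ≤ G₁)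
    (ν : L → ℂ) (hν : Cfsg.IsIrrCharacter L ν) (hinv : G ≤ inertia L ν)
    (h : ∀ τ : Cfsg.IrrCharacter K, Ov hLK (τ : K → ℂ) ν → S ≤ inertia K (τ : K → ℂ) →
      pcnt p (hKG₁.trans hG₁G) (τ : K → ℂ) = pcnt p hKG₁ (τ : K → ℂ)) :
    pcnt p (hLK.trans (hKG₁.trans hG₁G)) ν = pcnt p (hLK.trans hKG₁) ν := by
  classical
  have hSyl₁ : ¬ p ∣ S.relIndex G₁ := by
    intro hd
    apply hSyl
    rw [← Subgroup.relIndex_mul_relIndex S G₁ G hSG₁ hG₁G]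
    exact Dvd.dvd.mul_right hd _
  haveI : Finite (Cfsg.IrrCharacter G) := irr_finite
  haveI : Finite (Cfsg.IrrCharacter G₁) := irr_finite
  have hG := card_fiber hCL1 hCL2 p (hKG₁.trans hG₁G) le_rfl hGK (hSG₁.trans hG₁G) hS hSyl inf_le_left
    hLK ν hν hinv
  have hG₁ := card_fiber hCL1 hCL2 p hKG₁ hG₁G hGK hSG₁ hS hSyl₁ hNS hLK ν hν (hG₁G.trans hinv)
  unfold pcnt
  apply card_eq_of_fiber_card_eq
    (fun x : {χ : Cfsg.IrrCharacter G // ¬ p ∣ Cfsg.charDegree (χ : G → ℂ) ∧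
        Ov (hLK.trans (hKG₁.trans hG₁G)) (χ : G → ℂ) ν} =>
      invConst (hKG₁.trans hG₁G) S (x.1 : G → ℂ))
    (fun x : {χ : Cfsg.IrrCharacter G₁ // ¬ p ∣ Cfsg.charDegree (χ : G₁ → ℂ) ∧
        Ov (hLK.trans hKG₁) (χ : G₁ → ℂ) ν} => invConst hKG₁ S (x.1 : G₁ → ℂ))
  intro B
  by_cases hB : ∃ τ : Cfsg.IrrCharacter K, Ov hLK (τ : K → ℂ) ν ∧ S ≤ inertia K (τ : K → ℂ) ∧
      B = nsOrb hGK S τ
  · obtain ⟨τ, hτν, hτS, hBe⟩ := hB
    rw [(hG B).1 τ hτν hτS hBe, (hG₁ B).1 τ hτν hτS hBe]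
    exact h τ hτν hτS
  · rw [(hG B).2 hB, (hG₁ B).2 hB]

end Cfsg.Agent.Helper1.RMcK
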