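import Mathlib
import Cfsg.Prelude.Def_Characters
import Cfsg.Prelude.Def_BlockLocal
import Cfsg.Prelude.Def_Blocks
import Cfsg.Prelude.Def_Local
import Cfsg.Agent.Helper6.RMcKStmts
import Cfsg.Agent.Helper2.RMcKE1
import Cfsg.Agent.Helper8.RMcKSZ
import Cfsg.Agent.Lead.PSolvC
import Cfsg.Agent.Helper1.RMcKPBc

/-!
# Piece MI of S4807 (modulo CL1, CL2, CL3): the main induction
-/

set_option autoImplicit false

namespace Cfsg.Agent.Helper1.RMcK

open Cfsg.Agent.Helper6 Cfsg.Agent.Helper6.RMcK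

universe u

variable {Γ : Type u} [Group Γ] [Finite Γ]

/-- the statement of piece CL3 (Clifford correspondence, `p'`-degree count) -/
def CL3Stmt (Γ : Type u) [Group Γ] [Finite Γ] (p : ℕ) : Prop :=
  ∀ (G L T : Subgroup Γ) (hLG : L ≤ G) (hLT : L ≤ T)
    (_ : G ≤ Subgroup.normalizer (L : Set Γ)) (ν : L → ℂ) (_ : Cfsg.IsIrrCharacter L ν)
    (_ : T = G ⊓ inertia L ν) (_ : ¬ p ∣ T.relIndex G), pcnt p hLG ν = pcnt p hLT ν

theorem relIndex_pos (A B : Subgroup Γ) : 0 < A.relIndex B :=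
  Nat.pos_of_ne_zero (Subgroup.index_ne_zero_of_finite : (A.subgroupOf B).index ≠ 0)

theorem relIndex_lt_of_ne_left {L K G : Subgroup Γ} (hLK : L ≤ K) (hKG : K ≤ G) (hne : L ≠ K) :
    K.relIndex G < L.relIndex G := by
  have h1 := Subgroup.relIndex_mul_relIndex L K G hLK hKG
  have h2 : L.relIndex K ≠ 1 := by
    intro h
    exact hne (le_antisymm hLK (Subgroup.relIndex_eq_one.1 h))
  have h3 := relIndex_pos L K
  have h4 := relIndex_pos K G
  have h5 : 2 ≤ L.relIndex K := by omega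
  calc K.relIndex G < 2 * K.relIndex G := by omega
    _ ≤ L.relIndex K * K.relIndex G := Nat.mul_le_mul_right _ h5
    _ = L.relIndex G := h1

theorem relIndex_lt_of_ne_right {L T G : Subgroup Γ} (hLT : L ≤ T) (hTG : T ≤ G) (hne : T ≠ G) :
    L.relIndex T < L.relIndex G := by
  have h1 := Subgroup.relIndex_mul_relIndex L T G hLT hTG
  have h2 : T.relIndex G ≠ 1 := by
    intro h
    exact hne (le_antisymm hTG (Subgroup.relIndex_eq_one.1 h))
  have h3 := relIndex_pos L T
  have h4 := relIndex_pos T G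
  have h5 : 2 ≤ T.relIndex G := by omega
  calc L.relIndex T < L.relIndex T * 2 := by omega
    _ ≤ L.relIndex T * T.relIndex G := Nat.mul_le_mul_left _ h5
    _ = L.relIndex G := h1

theorem not_dvd_relIndex_left {p : ℕ} {S T G : Subgroup Γ} (hST : S ≤ T) (hTG : T ≤ G)
    (h : ¬ p ∣ S.relIndex G) : ¬ p ∣ S.relIndex T := by
  intro hd
  apply h
  rw [← Subgroup.relIndex_mul_relIndex S T G hST hTG]
  exact Dvd.dvd.mul_right hd _

theorem not_dvd_relIndex_right {p : ℕ} {S T G : Subgroup Γ} (hST : S ≤ T) (hTG : T ≤ G)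
    (h : ¬ p ∣ S.relIndex G) : ¬ p ∣ T.relIndex G := by
  intro hd
  apply h
  rw [← Subgroup.relIndex_mul_relIndex S T G hST hTG]
  exact Dvd.dvd.mul_left hd _

theorem mem_normalizer_sup {A B : Subgroup Γ} {g : Γ}
    (hA : g ∈ Subgroup.normalizer (A : Set Γ)) (hB : g ∈ Subgroup.normalizer (B : Set Γ)) :
    g ∈ Subgroup.normalizer ((A ⊔ B : Subgroup Γ) : Set Γ) := by
  apply mem_normalizer_of_conj_le
  have hle : A ⊔ B ≤ (A ⊔ B).comap (MulAut.conj g).toMonoidHom := by
    refine sup_le ?_ ?_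
    · intro a ha
      rw [Subgroup.mem_comap]
      exact Subgroup.mem_sup_left ((Subgroup.mem_normalizer_iff.1 hA a).1 ha)
    · intro b hb
      rw [Subgroup.mem_comap]
      exact Subgroup.mem_sup_right ((Subgroup.mem_normalizer_iff.1 hB b).1 hb)
  intro s hs
  exact hle hs

theorem isPSolvable_of_le {p : ℕ} [Fact p.Prime] {T G : Subgroup Γ} (hTG : T ≤ G)
    (hG : Cfsg.IsPSolvable p G) : Cfsg.IsPSolvable p T :=
  Cfsg.Agent.Lead.PSolvGL2.isPSolvable_of_injective (Subgroup.inclusion hTG)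
    (Subgroup.inclusion_injective hTG) hG

end Cfsg.Agent.Helper1.RMcK
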