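import Mathlib
import Cfsg.Prelude.Def_Characters
import Cfsg.Prelude.Def_BlockLocal
import Cfsg.Prelude.Def_Blocks
import Cfsg.Prelude.Def_Local
import Cfsg.Agent.Helper1.RMcKMIa

/-!
# Piece MI of S4807 (modulo CL1, CL2, CL3): the main induction
-/

set_option autoImplicit false

namespace Cfsg.Agent.Helper1.RMcK

open Cfsg.Agent.Helper6 Cfsg.Agent.Helper6.RMcK Cfsg.Agent.Helper2.RMcK Cfsg.Agent.Helper8.RMcK

universe u

variable {Γ : Type u} [Group Γ] [Finite Γ]

theorem MI_of_CL (p : ℕ) [Fact p.Prime] (hCL1 : CL1Stmt Γ) (hCL2 : CL2Stmt Γ)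
    (hCL3 : CL3Stmt Γ p) (hT : TermStmt Γ p) : MainStmt Γ p := by
  have key : ∀ n : ℕ, ∀ (G L S N : Subgroup Γ) (hLG : L ≤ G) (hLN : L ≤ N),
      L.relIndex G = n → Cfsg.IsPSolvable p G →
      G ≤ Subgroup.normalizer (L : Set Γ) → S ≤ G → IsPGroup p S → ¬ p ∣ S.relIndex G →
      N = G ⊓ Subgroup.normalizer ((L ⊔ S : Subgroup Γ) : Set Γ) →
      ∀ ν : L → ℂ, Cfsg.IsIrrCharacter L ν → S ≤ inertia L ν →
        pcnt p hLG ν = pcnt p hLN ν := by
    intro n
    induction n using Nat.strong_induction_on with
    | _ n IH =>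
      intro G L S N hLG hLN hn hsol hGL hSG hS hSyl hN ν hν hSν
      have hLν : L ≤ inertia L ν := le_inertia_of_isClassFunction L ν
        (IsCharacter.isClassFunction (IsIrrCharacter.isCharacter hν))
      have hSLS : S ≤ L ⊔ S := le_sup_right
      have hLSN : L ⊔ S ≤ Subgroup.normalizer ((L ⊔ S : Subgroup Γ) : Set Γ) :=
        Subgroup.le_normalizer
      have hNG : N ≤ G := by rw [hN]; exact inf_le_left
      have hSN : S ≤ N := by rw [hN]; exact le_inf hSG (hSLS.trans hLSN)
      by_cases hTG : G ≤ inertia L ν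
      · -- `ν` is `G`-invariant
        by_cases hLeqG : L = G
        · have hNeq : G = N := by
            rw [hN]
            apply le_antisymm
            · refine le_inf le_rfl ?_
              have : L ⊔ S = G := by
                rw [hLeqG]; exact sup_eq_left.2 hSG
              rw [this]; exact Subgroup.le_normalizer
            · exact inf_le_left
          exact pcnt_congr p hLG hLN hNeq ν
        · obtain ⟨K, hLK, hLneK, hKG, hGK, hcase⟩ :=
            E1_exists_normal_section p G L hsol hLG hLeqG hGL
          have hlt : K.relIndex G < n := hn ▸ relIndex_lt_of_ne_left hLK hKG hLneK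
          rcases hcase with ⟨m, hm⟩ | hcop
          · -- `K / L` is a `p`-group
            have hKLS : K ≤ L ⊔ S :=
              SY2_normal_p_section_le p G K L S hLK hKG hGL hGK ⟨m, hm⟩ hSG hS hSyl
            have hsupEq : K ⊔ S = L ⊔ S :=
              le_antisymm (sup_le hKLS le_sup_right) (sup_le_sup_right hLK S)
            have hKN : K ≤ N := by rw [hN]; exact le_inf hKG (hKLS.trans hLSN)
            have hNS : G ⊓ Subgroup.normalizer (S : Set Γ) ≤ N := by
              rw [hN]
              rintro g ⟨hgG, hgS⟩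
              exact ⟨hgG, mem_normalizer_sup (hGL hgG) hgS⟩
            refine PB3_of_CL hCL1 hCL2 p G N K L S hLK hKN hNG hGK hSN hS hSyl hNS ν hν hTG ?_
            intro τ _ hτS
            exact IH (K.relIndex G) hlt G K S N hKG hKN rfl hsol hGK hSG hS hSyl
              (by rw [hsupEq]; exact hN) (τ : K → ℂ) τ.2 hτS
          · -- `K / L` is a `p'`-group
            have hKG₁ : K ≤ G ⊓ Subgroup.normalizer ((K ⊔ S : Subgroup Γ) : Set Γ) :=
              le_inf hKG ((le_sup_left : K ≤ K ⊔ S).trans Subgroup.le_normalizer)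
            have hG₁G : G ⊓ Subgroup.normalizer ((K ⊔ S : Subgroup Γ) : Set Γ) ≤ G := inf_le_left
            have hSG₁ : S ≤ G ⊓ Subgroup.normalizer ((K ⊔ S : Subgroup Γ) : Set Γ) :=
              le_inf hSG ((le_sup_right : S ≤ K ⊔ S).trans Subgroup.le_normalizer)
            have hNS₁ : G ⊓ Subgroup.normalizer (S : Set Γ) ≤
                G ⊓ Subgroup.normalizer ((K ⊔ S : Subgroup Γ) : Set Γ) := by
              rintro g ⟨hgG, hgS⟩
              exact ⟨hgG, mem_normalizer_sup (hGK hgG) hgS⟩
            have h1 : pcnt p hLG ν = pcnt p (hLK.trans hKG₁) ν :=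
              PB3_of_CL hCL1 hCL2 p G _ K L S hLK hKG₁ hG₁G hGK hSG₁ hS hSyl hNS₁ ν hν hTG
                (fun τ _ hτS => IH (K.relIndex G) hlt G K S _ hKG hKG₁ rfl hsol hGK hSG hS hSyl
                  rfl (τ : K → ℂ) τ.2 hτS)
            by_cases hG₁ : G ⊓ Subgroup.normalizer ((K ⊔ S : Subgroup Γ) : Set Γ) = G
            · have hGKS : G ≤ Subgroup.normalizer ((K ⊔ S : Subgroup Γ) : Set Γ) := by
                intro g hg
                have : g ∈ G ⊓ Subgroup.normalizer ((K ⊔ S : Subgroup Γ) : Set Γ) := by
                  rw [hG₁]; exact hg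
                exact this.2
              exact hT G L K S N hLK hKG hLN hGL hGK hSG hS hSyl hcop hGKS hN ν hν hTG
            · have hsup3 : (L ⊔ S) ⊔ K = K ⊔ S := by
                apply le_antisymm
                · exact sup_le (sup_le (hLK.trans le_sup_left) le_sup_right) le_sup_left
                · exact sup_le le_sup_right (le_sup_right.trans le_sup_left)
              have hNG₁ : N ≤ G ⊓ Subgroup.normalizer ((K ⊔ S : Subgroup Γ) : Set Γ) := by
                intro g hg
                rw [hN] at hg
                refine ⟨hg.1, ?_⟩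
                rw [← hsup3]
                exact mem_normalizer_sup hg.2 (hGK hg.1)
              have hN₁ : N = (G ⊓ Subgroup.normalizer ((K ⊔ S : Subgroup Γ) : Set Γ)) ⊓
                  Subgroup.normalizer ((L ⊔ S : Subgroup Γ) : Set Γ) := by
                apply le_antisymm
                · intro g hg
                  refine ⟨hNG₁ hg, ?_⟩
                  rw [hN] at hg
                  exact hg.2
                · intro g hg
                  rw [hN]
                  exact ⟨hg.1.1, hg.2⟩
              have hlt' : L.relIndex (G ⊓ Subgroup.normalizer ((K ⊔ S : Subgroup Γ) : Set Γ)) < n :=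
                hn ▸ relIndex_lt_of_ne_right (hLK.trans hKG₁) hG₁G hG₁
              have h2 : pcnt p (hLK.trans hKG₁) ν = pcnt p hLN ν :=
                IH _ hlt' _ L S N (hLK.trans hKG₁) hLN rfl (isPSolvable_of_le hG₁G hsol)
                  (hG₁G.trans hGL) hSG₁ hS (not_dvd_relIndex_left hSG₁ hG₁G hSyl) hN₁ ν hν hSν
              exact h1.trans h2
      · -- the inertia group is proper
        have hLT : L ≤ G ⊓ inertia L ν := le_inf hLG hLν
        have hTG' : G ⊓ inertia L ν ≤ G := inf_le_left
        have hST : S ≤ G ⊓ inertia L ν := le_inf hSG hSν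
        have hTne : G ⊓ inertia L ν ≠ G := by
          intro h
          apply hTG
          intro g hg
          have : g ∈ G ⊓ inertia L ν := by rw [h]; exact hg
          exact this.2
        have h1 : pcnt p hLG ν = pcnt p hLT ν :=
          hCL3 G L _ hLG hLT hGL ν hν rfl (not_dvd_relIndex_right hST hTG' hSyl)
        have hLTN : L ≤ N ⊓ inertia L ν := le_inf hLN hLν
        have hSTN : S ≤ N ⊓ inertia L ν := le_inf hSN hSν
        have hSylN : ¬ p ∣ S.relIndex N := not_dvd_relIndex_left hSN hNG hSyl
        have h2 : pcnt p hLN ν = pcnt p hLTN ν :=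
          hCL3 N L _ hLN hLTN (hNG.trans hGL) ν hν rfl
            (not_dvd_relIndex_right hSTN inf_le_left hSylN)
        have hTNeq : N ⊓ inertia L ν =
            (G ⊓ inertia L ν) ⊓ Subgroup.normalizer ((L ⊔ S : Subgroup Γ) : Set Γ) := by
          rw [hN, inf_right_comm]
        have hlt : L.relIndex (G ⊓ inertia L ν) < n :=
          hn ▸ relIndex_lt_of_ne_right hLT hTG' hTne
        have h3 : pcnt p hLT ν = pcnt p hLTN ν :=
          IH _ hlt _ L S _ hLT hLTN rfl (isPSolvable_of_le hTG' hsol) (hTG'.trans hGL) hST hS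
            (not_dvd_relIndex_left hST hTG' hSyl) hTNeq ν hν hSν
        exact h1.trans (h3.trans h2.symm)
  intro G L S N hLG hLN hsol hGL hSG hS hSyl hN ν hν hSν
  exact key _ G L S N hLG hLN rfl hsol hGL hSG hS hSyl hN ν hν hSν

end Cfsg.Agent.Helper1.RMcK
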