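import Mathlib
import Cfsg.Prelude.Def_Characters
import Cfsg.Prelude.Def_BlockLocal
import Cfsg.Prelude.Def_Blocks
import Cfsg.Prelude.Def_Local
import Cfsg.Agent.Helper5.RMcKClA
import Cfsg.Agent.Helper5.RMcKClC
import Cfsg.Agent.Helper1.RMcKMIb

/-!
# Pieces PB1, PB2, PB3 and MI of S4807, in the exact forms of the skeletons
-/

set_option autoImplicit false

namespace Cfsg.Agent.Helper1.RMcK

open Cfsg.Agent.Helper6 Cfsg.Agent.Helper6.RMcK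

universe u

variable {Γ : Type u} [Group Γ] [Finite Γ]

theorem cl1Stmt : CL1Stmt Γ := fun G K hKG hnorm χ hχ τ τ' h1 h2 =>
  Cfsg.Agent.Helper5.RMcK.CL1_clifford_conj G K hKG hnorm χ hχ τ τ' h1 h2

theorem cl2Stmt : CL2Stmt Γ := fun G K hKG hnorm χ hχ τ h1 =>
  Cfsg.Agent.Helper5.RMcK.CL2_inertia_index_dvd G K hKG hnorm χ hχ τ h1

theorem cl3Stmt (p : ℕ) [Fact p.Prime] : CL3Stmt Γ p := fun G L T hLG hLT hnorm ν hν hT hp =>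
  Cfsg.Agent.Helper5.RMcK.CL3_pcnt_clifford p G L T hLG hLT hnorm ν hν hT hp

theorem PB1_exists_sylow_invariant_under (p : ℕ) [Fact p.Prime] (G K S : Subgroup Γ)
    (hKG : K ≤ G) (hGK : G ≤ Subgroup.normalizer (K : Set Γ)) (hSG : S ≤ G)
    (hS : IsPGroup p S) (hSyl : ¬ p ∣ S.relIndex G) (χ : G → ℂ)
    (hχ : Cfsg.IsIrrCharacter G χ) (hdeg : ¬ p ∣ Cfsg.charDegree χ) :
    ∃ τ : Cfsg.IrrCharacter K, Ov hKG χ (τ : K → ℂ) ∧ S ≤ inertia K (τ : K → ℂ) :=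
  PB1_of_CL2 cl2Stmt p G K S hKG hGK hSG hS χ hχ hdeg

theorem PB2_sylow_invariant_under_conj (p : ℕ) [Fact p.Prime] (G K S : Subgroup Γ)
    (hKG : K ≤ G) (hGK : G ≤ Subgroup.normalizer (K : Set Γ)) (hSG : S ≤ G)
    (hS : IsPGroup p S) (hSyl : ¬ p ∣ S.relIndex G) (χ : G → ℂ)
    (hχ : Cfsg.IsIrrCharacter G χ) (τ τ' : Cfsg.IrrCharacter K)
    (h1 : Ov hKG χ (τ : K → ℂ)) (h2 : Ov hKG χ (τ' : K → ℂ))
    (hi1 : S ≤ inertia K (τ : K → ℂ)) (hi2 : S ≤ inertia K (τ' : K → ℂ)) :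
    ∃ n, ∃ hn : n ∈ G ⊓ Subgroup.normalizer (S : Set Γ),
      (τ' : K → ℂ) = cjc K n (hGK hn.1) (τ : K → ℂ) :=
  PB2_of_CL1 cl1Stmt p G K S hKG hGK hSG hS hSyl χ hχ τ τ' h1 h2 hi1 hi2

theorem PB3_partition_count (p : ℕ) [Fact p.Prime] (G G₁ K L S : Subgroup Γ) (hLK : L ≤ K)
    (hKG₁ : K ≤ G₁) (hG₁G : G₁ ≤ G) (hGK : G ≤ Subgroup.normalizer (K : Set Γ))
    (hSG₁ : S ≤ G₁) (hS : IsPGroup p S) (hSyl : ¬ p ∣ S.relIndex G)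
    (hNS : G ⊓ Subgroup.normalizer (S : Set Γ) ≤ G₁)
    (ν : L → ℂ) (hν : Cfsg.IsIrrCharacter L ν) (hinv : G ≤ inertia L ν)
    (h : ∀ τ : Cfsg.IrrCharacter K, Ov hLK (τ : K → ℂ) ν → S ≤ inertia K (τ : K → ℂ) →
      pcnt p (hKG₁.trans hG₁G) (τ : K → ℂ) = pcnt p hKG₁ (τ : K → ℂ)) :
    pcnt p (hLK.trans (hKG₁.trans hG₁G)) ν = pcnt p (hLK.trans hKG₁) ν :=
  PB3_of_CL cl1Stmt cl2Stmt p G G₁ K L S hLK hKG₁ hG₁G hGK hSG₁ hS hSyl hNS ν hν hinv h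

/-- **MI**: the main induction. -/
theorem MI_main_of_term (p : ℕ) [Fact p.Prime] (hT : TermStmt Γ p) : MainStmt Γ p :=
  MI_of_CL p cl1Stmt cl2Stmt (cl3Stmt p) hT

end Cfsg.Agent.Helper1.RMcK
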