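import Mathlib
import Cfsg.Agent.Helper1.FPF2
import Cfsg.Agent.S0016

set_option autoImplicit false

/-!
RPRIME piece P4: an abelian `p`-group acting on a nontrivial abelian `p'`-group such that every
element acts trivially or fixed-point-freely is cyclic modulo the kernel of the action.
-/

namespace Cfsg.Agent.Helper1.RPC

theorem cyclic_of_fpf {A M : Type*} [Group A] [Finite A] [Group M] [Finite M] [Nontrivial M]
    (hA : ∀ a b : A, a * b = b * a) (hM : ∀ x y : M, x * y = y * x) {p : ℕ} [hp : Fact p.Prime]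
    (hAp : IsPGroup p A) (hcop : (Nat.card M).Coprime p) (phi : A →* MulAut M)
    (hfpf : ∀ a : A, phi a ≠ 1 → ∀ m : M, phi a m = m → m = 1) :
    ∃ a : A, ∀ b : A, ∃ k : ℕ, phi (b * (a ^ k)⁻¹) = 1 := by
  classical
  letI instM : CommGroup M := { (inferInstance : Group M) with mul_comm := hM }
  have hBcomm : ∀ x y : phi.range, x * y = y * x := by
    rintro ⟨_, a, rfl⟩ ⟨_, b, rfl⟩
    apply Subtype.ext
    change phi a * phi b = phi b * phi a
    rw [← map_mul, ← map_mul, hA a b]
  letI instB : CommGroup phi.range := { (inferInstance : Group phi.range) with mul_comm := hBcomm }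
  have hBp : IsPGroup p phi.range := hAp.of_surjective phi.rangeRestrict phi.rangeRestrict_surjective
  have hf : IsFPF (phi.range.subtype) := by
    rintro ⟨_, a, rfl⟩ hne w hw
    apply hfpf a _ w hw
    intro h
    apply hne
    apply Subtype.ext
    exact h
  have hS : Cfsg.Agent.S0016.SmallOmega p phi.range := by
    intro K hK
    by_contra hlt
    push Not at hlt
    have hK1 : K ≠ ⊥ := by
      rintro rfl
      rw [Subgroup.card_bot] at hlt
      exact absurd hlt (not_lt.2 hp.out.one_lt.le)
    obtain ⟨a, ha1⟩ := (Subgroup.ne_bot_iff_exists_ne_one).1 hK1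
    have ha1' : (a : phi.range) ≠ 1 := fun h => ha1 (Subtype.ext h)
    have hao : orderOf (a : phi.range) = p := orderOf_eq_prime (hK a a.2) ha1'
    have hex : ∃ b ∈ K, b ∉ Subgroup.zpowers (a : phi.range) := by
      by_contra hcon
      push Not at hcon
      have hle : K ≤ Subgroup.zpowers (a : phi.range) := hcon
      have := Subgroup.card_le_of_le hle
      rw [Nat.card_zpowers, hao] at this
      exact absurd hlt (not_lt.2 this)
    obtain ⟨b, hbK, hbz⟩ := hex
    have hw : ∀ w : M, w ^ p = 1 := by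
      intro w
      refine hf.pow_eq_one_of_rank_two hp.out (a : phi.range) b (hBcomm _ _) (hK a a.2)
        (hK b hbK) ha1' ?_ w
      intro i _ h
      apply hbz
      have : b = ((a : phi.range) ^ i)⁻¹ := eq_inv_of_mul_eq_one_right h
      rw [this]
      exact Subgroup.inv_mem _ (Subgroup.pow_mem _ (Subgroup.mem_zpowers _) i)
    obtain ⟨w, hw1⟩ := exists_ne (1 : M)
    apply hw1
    have h1 : orderOf w ∣ p := orderOf_dvd_of_pow_eq_one (hw w)
    have h2 : orderOf w ∣ Nat.card M := orderOf_dvd_natCard w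
    have h3 := Nat.eq_one_of_dvd_coprimes hcop h2 h1
    rwa [orderOf_eq_one_iff] at h3
  have hcyc : IsCyclic phi.range :=
    Cfsg.Agent.S0016.comm_cyclic p (Nat.card phi.range) phi.range rfl hBp hS
  obtain ⟨g₀, hg₀⟩ := hcyc.exists_monoid_generator
  obtain ⟨_, a₀, rfl⟩ := g₀
  refine ⟨a₀, fun b => ?_⟩
  obtain ⟨k, hk⟩ := (Submonoid.mem_powers_iff _ _).1 (hg₀ ⟨phi b, b, rfl⟩)
  refine ⟨k, ?_⟩
  have hk' : phi a₀ ^ k = phi b := by
    have := congrArg Subtype.val hk
    simpa using this
  rw [map_mul, map_inv, map_pow, hk', mul_inv_cancel]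

end Cfsg.Agent.Helper1.RPC
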