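import Mathlib
import Cfsg.Agent.Helper1.RPCaseTwoB

set_option autoImplicit false

/-!
RPRIME: the concrete form of "fixed-point-free abelian implies cyclic" for an abelian `p`-group of
automorphisms of a `p'`-group `Q` of class two acting on a section `X / Z(Q)`.
-/

namespace Cfsg.Agent.Helper1.RPC

section act

variable {Q : Type*} [Group Q]

/-- restriction of a group of automorphisms to an invariant subgroup -/
def resAct (A : Subgroup (MulAut Q)) (X : Subgroup Q) (hX : ∀ a ∈ A, ∀ g ∈ X, a g ∈ X) :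
    A →* MulAut X where
  toFun a :=
    { toFun := fun g => ⟨(a : MulAut Q) g, hX a a.2 g g.2⟩
      invFun := fun g => ⟨(a : MulAut Q)⁻¹ g, hX _ (inv_mem a.2) g g.2⟩
      left_inv := fun g => Subtype.ext (by
        change (a : MulAut Q)⁻¹ ((a : MulAut Q) g) = g
        rw [← MulAut.mul_apply, inv_mul_cancel]; rfl)
      right_inv := fun g => Subtype.ext (by
        change (a : MulAut Q) ((a : MulAut Q)⁻¹ g) = g
        rw [← MulAut.mul_apply, mul_inv_cancel]; rfl)
      map_mul' := fun g h => Subtype.ext (map_mul (a : MulAut Q) (g : Q) (h : Q)) }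
  map_one' := by ext; rfl
  map_mul' := by intro a b; ext; rfl

theorem resAct_coe (A : Subgroup (MulAut Q)) (X : Subgroup Q) (hX : ∀ a ∈ A, ∀ g ∈ X, a g ∈ X)
    (a : A) (g : X) : ((resAct A X hX a g : X) : Q) = (a : MulAut Q) g := rfl

variable {A X : Type*} [Group A] [Group X]

theorem map_eq_of_stable' (ρ : A →* MulAut X) (N : Subgroup X)
    (hN : ∀ a : A, ∀ n ∈ N, ρ a n ∈ N) (a : A) :
    N.map (((ρ a : MulAut X) : X ≃* X) : X →* X) = N := by
  apply le_antisymm
  · rintro _ ⟨h, hh, rfl⟩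
    exact hN a h hh
  · intro h hh
    refine ⟨ρ a⁻¹ h, hN _ h hh, ?_⟩
    change ρ a (ρ a⁻¹ h) = h
    rw [← MulAut.mul_apply, ← map_mul, mul_inv_cancel, map_one]
    rfl

/-- the induced action on a quotient by a stable normal subgroup -/
noncomputable def quotAct' (ρ : A →* MulAut X) (N : Subgroup X) [N.Normal]
    (hN : ∀ a : A, ∀ n ∈ N, ρ a n ∈ N) : A →* MulAut (X ⧸ N) where
  toFun a := QuotientGroup.congr N N (ρ a) (map_eq_of_stable' ρ N hN a)
  map_one' := by
    apply MulEquiv.ext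
    intro q
    induction q using QuotientGroup.induction_on with
    | H x => simp [QuotientGroup.congr_mk]
  map_mul' := by
    intro a b
    apply MulEquiv.ext
    intro q
    induction q using QuotientGroup.induction_on with
    | H x => simp [QuotientGroup.congr_mk]

theorem quotAct'_mk (ρ : A →* MulAut X) (N : Subgroup X) [N.Normal]
    (hN : ∀ a : A, ∀ n ∈ N, ρ a n ∈ N) (a : A) (x : X) :
    quotAct' ρ N hN a (QuotientGroup.mk x) = QuotientGroup.mk (ρ a x) := rfl

end act

/-- an automorphism of `p`-power order of a `p'`-group that multiplies `g` by a fixed element `z`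
fixes `g`. -/
theorem eq_one_of_apply_eq_mul' {Q : Type*} [Group Q] [Finite Q] {p : ℕ} [hp : Fact p.Prime]
    (hcop : (Nat.card Q).Coprime p) (a : MulAut Q) (k : ℕ) (hak : a ^ p ^ k = 1) (g z : Q)
    (hg : a g = g * z) (hz : a z = z) : z = 1 := by
  have hpow : ∀ n : ℕ, (a ^ n) g = g * z ^ n := by
    intro n
    induction n with
    | zero => simp
    | succ n ih =>
      rw [pow_succ', MulAut.mul_apply, ih, map_mul, hg, map_pow, hz, pow_succ', mul_assoc]
  have h1 := hpow (p ^ k)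
  rw [hak, MulAut.one_apply] at h1
  have h2 : z ^ p ^ k = 1 := by
    have := h1.symm
    rwa [mul_eq_left] at this
  have h3 : orderOf z ∣ p ^ k := orderOf_dvd_of_pow_eq_one h2
  have h4 : orderOf z ∣ Nat.card Q := orderOf_dvd_natCard z
  have h5 := Nat.eq_one_of_dvd_coprimes (hcop.pow_right k) h4 h3
  rwa [orderOf_eq_one_iff] at h5

theorem cyclic_mod_pstab {Q : Type*} [Group Q] [Finite Q] {p : ℕ} [hp : Fact p.Prime]
    (A : Subgroup (MulAut Q)) (hAab : ∀ a ∈ A, ∀ b ∈ A, a * b = b * a) (hAp : IsPGroup p A)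
    (hcop : (Nat.card Q).Coprime p) (X : Subgroup Q) (hX : ∀ a ∈ A, ∀ g ∈ X, a g ∈ X)
    (hZX : Subgroup.center Q ≤ X) (hne : ∃ g ∈ X, g ∉ Subgroup.center Q)
    (hcls : ∀ g h : Q, g * h * g⁻¹ * h⁻¹ ∈ Subgroup.center Q)
    (hAZ : ∀ a ∈ A, ∀ z ∈ Subgroup.center Q, a z = z)
    (hfpf : ∀ a ∈ A, (∃ g ∈ X, a g ≠ g) → ∀ g ∈ X, a g = g → g ∈ Subgroup.center Q) :
    ∃ a₀ ∈ A, ∀ b ∈ A, ∃ k : ℕ, ∀ g ∈ X, (b * (a₀ ^ k)⁻¹) g = g := by
  classical
  haveI : Finite (MulAut Q) := Finite.of_injective (fun e : MulAut Q => (e : Q → Q))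
    (fun e f h => MulEquiv.ext (congrFun h))
  set N : Subgroup X := (Subgroup.center Q).subgroupOf X with hNdef
  haveI hNn : N.Normal := by
    have : (Subgroup.center Q).Normal := inferInstance
    exact this.subgroupOf X
  have hNst : ∀ a : A, ∀ n ∈ N, resAct A X hX a n ∈ N := by
    intro a n hn
    rw [hNdef, Subgroup.mem_subgroupOf] at hn ⊢
    rw [resAct_coe, hAZ a a.2 _ hn]
    exact hn
  set phi : A →* MulAut (X ⧸ N) := quotAct' (resAct A X hX) N hNst with hphi
  -- p-power order of elements of A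
  have hpk : ∀ a : A, ∃ k : ℕ, (a : MulAut Q) ^ p ^ k = 1 := by
    intro a
    obtain ⟨k, hk⟩ := hAp a
    refine ⟨k, ?_⟩
    have := congrArg Subtype.val hk
    simpa using this
  -- trivial on the section implies trivial on X
  have htriv : ∀ a : A, ∀ g : X, phi a (QuotientGroup.mk g) = QuotientGroup.mk g →
      (a : MulAut Q) g = g := by
    intro a g h
    rw [hphi, quotAct'_mk, eq_comm, QuotientGroup.eq, hNdef, Subgroup.mem_subgroupOf] at h
    have h' : (g : Q)⁻¹ * (a : MulAut Q) g ∈ Subgroup.center Q := by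
      simpa [resAct_coe] using h
    obtain ⟨k, hk⟩ := hpk a
    have hz := eq_one_of_apply_eq_mul' hcop (a : MulAut Q) k hk (g : Q) _
      (by rw [mul_inv_cancel_left]) (hAZ a a.2 _ h')
    rw [inv_mul_eq_one] at hz
    exact hz.symm
  haveI hnt : Nontrivial (X ⧸ N) := by
    obtain ⟨g, hgX, hgZ⟩ := hne
    refine ⟨⟨QuotientGroup.mk ⟨g, hgX⟩, 1, ?_⟩⟩
    intro h
    rw [QuotientGroup.eq_one_iff, hNdef, Subgroup.mem_subgroupOf] at h
    exact hgZ h
  have hM : ∀ x y : X ⧸ N, x * y = y * x := by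
    intro x y
    obtain ⟨x, rfl⟩ := QuotientGroup.mk_surjective x
    obtain ⟨y, rfl⟩ := QuotientGroup.mk_surjective y
    rw [← QuotientGroup.mk_mul, ← QuotientGroup.mk_mul, eq_comm, QuotientGroup.eq, hNdef,
      Subgroup.mem_subgroupOf]
    have := hcls (x : Q)⁻¹ (y : Q)⁻¹
    simpa [mul_assoc] using this
  have hA' : ∀ a b : A, a * b = b * a := by
    intro a b
    apply Subtype.ext
    exact hAab a a.2 b b.2
  have hcopM : (Nat.card (X ⧸ N)).Coprime p := by
    have h1 : Nat.card (X ⧸ N) ∣ Nat.card X := Subgroup.card_quotient_dvd_card N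
    have h2 : Nat.card X ∣ Nat.card Q := Subgroup.card_subgroup_dvd_card X
    exact Nat.Coprime.coprime_dvd_left (h1.trans h2) hcop
  have hfpf' : ∀ a : A, phi a ≠ 1 → ∀ m : X ⧸ N, phi a m = m → m = 1 := by
    intro a ha m hm
    obtain ⟨g, rfl⟩ := QuotientGroup.mk_surjective m
    have hag := htriv a g hm
    have hex : ∃ g ∈ X, (a : MulAut Q) g ≠ g := by
      by_contra hcon
      push Not at hcon
      apply ha
      apply MulEquiv.ext
      intro m
      obtain ⟨x, rfl⟩ := QuotientGroup.mk_surjective m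
      rw [hphi, quotAct'_mk]
      have : resAct A X hX a x = x := Subtype.ext (by rw [resAct_coe]; exact hcon x x.2)
      rw [this]; rfl
    have := hfpf a a.2 hex g g.2 hag
    rw [QuotientGroup.eq_one_iff, hNdef, Subgroup.mem_subgroupOf]
    exact this
  obtain ⟨a₀, ha₀⟩ := cyclic_of_fpf hA' hM hAp hcopM phi hfpf'
  refine ⟨a₀, a₀.2, fun b hb => ?_⟩
  obtain ⟨k, hk⟩ := ha₀ ⟨b, hb⟩
  refine ⟨k, fun g hg => ?_⟩
  have h1 : phi (⟨b, hb⟩ * (a₀ ^ k)⁻¹) (QuotientGroup.mk ⟨g, hg⟩) = QuotientGroup.mk ⟨g, hg⟩ := by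
    rw [hk]; rfl
  have h2 := htriv _ ⟨g, hg⟩ h1
  simpa using h2

end Cfsg.Agent.Helper1.RPC
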