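import Mathlib
import Cfsg.Prelude.Def_PLocal
import Cfsg.Agent.Helper1.PGroup

set_option autoImplicit false

/-!
Regular `p`-groups: quotients; regular `2`-groups are abelian.
-/

namespace Cfsg.Agent.Helper1

open scoped commutatorElement

universe u v

variable {G : Type u} [Group G]

theorem powerClosure_mono (p n : ℕ) {H K : Subgroup G} (h : H ≤ K) :
    Cfsg.powerClosure p n H ≤ Cfsg.powerClosure p n K := by
  apply Subgroup.closure_mono
  rintro y ⟨x, hx, rfl⟩
  exact ⟨x, h hx, rfl⟩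

theorem map_powerClosure {G' : Type v} [Group G'] (f : G →* G') (p n : ℕ) (H : Subgroup G) :
    (Cfsg.powerClosure p n H).map f = Cfsg.powerClosure p n (H.map f) := by
  rw [Cfsg.powerClosure, MonoidHom.map_closure, Cfsg.powerClosure]
  congr 1
  ext y
  constructor
  · rintro ⟨_, ⟨x, hx, rfl⟩, rfl⟩
    exact ⟨f x, Subgroup.mem_map_of_mem f hx, by rw [map_pow]⟩
  · rintro ⟨_, ⟨x, hx, rfl⟩, rfl⟩
    exact ⟨x ^ (p ^ n), ⟨x, hx, rfl⟩, by rw [map_pow]⟩

theorem isRegularPGroup_quotient {p : ℕ} [Fact p.Prime] (hG : Cfsg.IsRegularPGroup p G)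
    (N : Subgroup G) [N.Normal] : Cfsg.IsRegularPGroup p (G ⧸ N) := by
  refine ⟨hG.1.to_quotient N, ?_⟩
  intro a b n
  obtain ⟨a, rfl⟩ := QuotientGroup.mk_surjective a
  obtain ⟨b, rfl⟩ := QuotientGroup.mk_surjective b
  obtain ⟨c, hc, hab⟩ := hG.2 a b n
  refine ⟨QuotientGroup.mk' N c, ?_, ?_⟩
  · have h1 := Subgroup.mem_map_of_mem (QuotientGroup.mk' N) hc
    rw [map_powerClosure, Subgroup.map_commutator, MonoidHom.map_closure, Set.image_pair] at h1
    exact h1
  · have := congrArg (QuotientGroup.mk' N) hab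
    simpa using this

theorem subsingleton_of_frattini_eq_top {D : Type u} [Group D] [Finite D]
    (h : frattini D = ⊤) : Subsingleton D := by
  rcases IsCoatomic.eq_top_or_exists_le_coatom (⊥ : Subgroup D) with h1 | ⟨M, hM, -⟩
  · exact Subgroup.subsingleton_iff.1 ⟨fun a b => by
      have ha : a = ⊥ := by
        rw [eq_bot_iff, h1]; exact le_top
      have hb : b = ⊥ := by
        rw [eq_bot_iff, h1]; exact le_top
      rw [ha, hb]⟩
  · exfalso
    apply hM.1
    rw [eq_top_iff, ← h]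
    exact frattini_le_coatom hM

theorem commute_of_isRegularPGroup_two [Finite G] (hG : Cfsg.IsRegularPGroup 2 G) (a b : G) :
    a * b = b * a := by
  have := Fact.mk Nat.prime_two
  obtain ⟨D, hD⟩ : ∃ D : Subgroup G, D = commutator G := ⟨_, rfl⟩
  have hT : ∀ x y : G, ⁅x, y⁆ ∈ Cfsg.powerClosure 2 1 D := by
    intro x y
    obtain ⟨c, hc, hab⟩ := hG.2 (x⁻¹ * y⁻¹ * x) x⁻¹ 1
    have hc' : c ∈ Cfsg.powerClosure 2 1 D := by
      refine powerClosure_mono 2 1 ?_ hc
      rw [hD, commutator_def]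
      exact Subgroup.commutator_mono le_top le_top
    have hceq : c = ⁅x, y⁆ := by
      have h1 : c = ((x⁻¹ * y⁻¹ * x) ^ 2 ^ 1 * x⁻¹ ^ 2 ^ 1)⁻¹ * (x⁻¹ * y⁻¹ * x * x⁻¹) ^ 2 ^ 1 := by
        rw [hab]; group
      rw [h1, commutatorElement_def]
      simp only [pow_one, sq]
      group
    rw [← hceq]; exact hc'
  have hDle : D ≤ Cfsg.powerClosure 2 1 D := by
    rw [hD, commutator_def, Subgroup.commutator_le]
    intro x _ y _
    rw [← commutator_def, ← hD]
    exact hT x y
  have hDp : IsPGroup 2 D := hG.1.to_subgroup D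
  have hTle : Cfsg.powerClosure 2 1 D ≤ (frattini D).map D.subtype := by
    rw [Cfsg.powerClosure, Subgroup.closure_le]
    rintro y ⟨x, hx, rfl⟩
    refine ⟨(⟨x, hx⟩ : D) ^ 2, ?_, by simp⟩
    have := IsPGroup.pow_mem_frattini hDp (⟨x, hx⟩ : D)
    exact this
  have hfr : frattini D = ⊤ := by
    rw [eq_top_iff]
    intro z _
    obtain ⟨w, hw, hwz⟩ := hTle (hDle z.2)
    have : w = z := Subtype.ext hwz
    rw [← this]; exact hw
  have hsub : Subsingleton D := subsingleton_of_frattini_eq_top hfr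
  have hab : ⁅a, b⁆ ∈ D := by
    rw [hD, commutator_def]
    exact Subgroup.commutator_mem_commutator (Subgroup.mem_top a) (Subgroup.mem_top b)
  have h1 : (⟨⁅a, b⁆, hab⟩ : D) = 1 := Subsingleton.elim _ _
  have h2 : ⁅a, b⁆ = 1 := congrArg Subtype.val h1
  exact commutatorElement_eq_one_iff_mul_comm.1 h2

theorem isRegularPGroup_two_iff [Finite G] (hG : IsPGroup 2 G) :
    Cfsg.IsRegularPGroup 2 G ↔ ∀ a b : G, a * b = b * a := by
  constructor
  · intro h a b
    exact commute_of_isRegularPGroup_two h a b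
  · intro h
    refine ⟨hG, ?_⟩
    intro a b n
    refine ⟨1, Subgroup.one_mem _, ?_⟩
    have : Commute a b := h a b
    rw [this.mul_pow, mul_one]

end Cfsg.Agent.Helper1
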