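import Mathlib

/-!
# 2-groups of rank two with an automorphism transitive on involutions: basics
-/

set_option autoImplicit false

namespace Cfsg.Agent.Helper1.RkTwo

variable {T : Type*} [Group T]

theorem pow_succ_apply (φ : MulAut T) (k : ℕ) (x : T) : (φ ^ (k + 1)) x = φ ((φ ^ k) x) := by
  rw [pow_succ', MulAut.mul_apply]

theorem pow_succ_apply' (φ : MulAut T) (k : ℕ) (x : T) : (φ ^ (k + 1)) x = (φ ^ k) (φ x) := by
  rw [pow_succ, MulAut.mul_apply]

theorem pow_eq_iterate (φ : MulAut T) (k : ℕ) (x : T) : (φ ^ k) x = (⇑φ)^[k] x := by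
  induction k with
  | zero => simp
  | succ k ih => rw [pow_succ_apply, ih, Function.iterate_succ_apply']

theorem pow_add_apply (φ : MulAut T) (a b : ℕ) (x : T) : (φ ^ (a + b)) x = (φ ^ a) ((φ ^ b) x) := by
  rw [pow_add, MulAut.mul_apply]

theorem pow_mul_apply_fixed (φ : MulAut T) (a : ℕ) (x : T) (h : (φ ^ a) x = x) (b : ℕ) :
    (φ ^ (a * b)) x = x := by
  induction b with
  | zero => simp
  | succ b ih => rw [Nat.mul_succ, pow_add_apply, h, ih]

theorem orderOf_apply (φ : MulAut T) (x : T) : orderOf (φ x) = orderOf x :=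
  MulEquiv.orderOf_eq φ x

theorem mem_center_apply (φ : MulAut T) {z : T} (hz : z ∈ Subgroup.center T) :
    φ z ∈ Subgroup.center T := by
  rw [Subgroup.mem_center_iff] at hz ⊢
  intro g
  obtain ⟨h, rfl⟩ := φ.surjective g
  rw [← map_mul, ← map_mul, hz h]

theorem sq_eq_one_cases {x : T} (h : x ^ 2 = 1) : x = 1 ∨ orderOf x = 2 := by
  by_cases hx : x = 1
  · exact Or.inl hx
  · exact Or.inr (orderOf_eq_prime h hx)

theorem sq_of_orderOf {x : T} (h : orderOf x = 2) : x ^ 2 = 1 := by
  rw [← h]; exact pow_orderOf_eq_one x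

theorem ne_one_of_orderOf {x : T} (h : orderOf x = 2) : x ≠ 1 := by
  intro hx; rw [hx, orderOf_one] at h; omega

variable [Finite T]

/-- a nontrivial finite 2-group has a central involution -/
theorem exists_central_involution (hT : IsPGroup 2 T) [Nontrivial T] :
    ∃ z : T, z ∈ Subgroup.center T ∧ orderOf z = 2 := by
  haveI : Fact (Nat.Prime 2) := ⟨Nat.prime_two⟩
  haveI := hT.center_nontrivial
  have hZ : IsPGroup 2 (Subgroup.center T) := hT.to_subgroup _
  obtain ⟨n, hn⟩ := IsPGroup.iff_card.mp hZ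
  have hn0 : n ≠ 0 := by
    rintro rfl
    have h1 : Nat.card (Subgroup.center T) = 1 := by rw [hn]; rfl
    have := (Finite.one_lt_card_iff_nontrivial (α := Subgroup.center T)).mpr inferInstance
    omega
  have hdvd : 2 ∣ Nat.card (Subgroup.center T) := by rw [hn]; exact dvd_pow_self 2 hn0
  obtain ⟨z, hz⟩ := exists_prime_orderOf_dvd_card' 2 hdvd
  refine ⟨z.1, z.2, ?_⟩
  rw [← hz]
  exact (Subgroup.orderOf_coe z)

/-- if some automorphism's powers act transitively on involutions, all involutions are central -/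
theorem inv_central (hT : IsPGroup 2 T) (φ : MulAut T)
    (htr : ∀ s t : T, orderOf s = 2 → orderOf t = 2 → ∃ k : ℕ, (φ ^ k) s = t)
    (s : T) (hs : orderOf s = 2) : s ∈ Subgroup.center T := by
  haveI : Nontrivial T := ⟨⟨s, 1, ne_one_of_orderOf hs⟩⟩
  obtain ⟨z, hz, hz2⟩ := exists_central_involution hT
  obtain ⟨k, hk⟩ := htr z s hz2 hs
  rw [← hk]
  exact mem_center_apply _ hz

/-- the subgroup `Ω₁` when all involutions are central -/
def omega (h : ∀ s : T, orderOf s = 2 → s ∈ Subgroup.center T) : Subgroup T where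
  carrier := {x | x ^ 2 = 1}
  one_mem' := by simp
  mul_mem' := by
    intro a b ha hb
    simp only [Set.mem_ofPred_eq] at ha hb ⊢
    rcases sq_eq_one_cases ha with rfl | ha'
    · simpa using hb
    · have hc := Subgroup.mem_center_iff.mp (h a ha')
      rw [pow_two] at ha hb ⊢
      calc a * b * (a * b) = a * (b * a) * b := by group
        _ = a * (a * b) * b := by rw [hc b]
        _ = (a * a) * (b * b) := by group
        _ = 1 := by rw [ha, hb, one_mul]
  inv_mem' := by
    intro a ha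
    simp only [Set.mem_ofPred_eq] at ha ⊢
    rw [inv_pow, ha, inv_one]

theorem mem_omega (h : ∀ s : T, orderOf s = 2 → s ∈ Subgroup.center T) (x : T) :
    x ∈ omega h ↔ x ^ 2 = 1 := Iff.rfl

theorem omega_le_center (h : ∀ s : T, orderOf s = 2 → s ∈ Subgroup.center T) :
    omega h ≤ Subgroup.center T := by
  intro x hx
  rcases sq_eq_one_cases ((mem_omega h x).mp hx) with rfl | hx'
  · exact Subgroup.one_mem _
  · exact h x hx'

theorem card_omega (hT : IsPGroup 2 T) (h : ∀ s : T, orderOf s = 2 → s ∈ Subgroup.center T)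
    (h2 : ∀ A : Subgroup T, IsMulCommutative A → (∀ a ∈ A, a ^ 2 = 1) → Nat.card A ≤ 2 ^ 2)
    (h1 : ¬ ∀ A : Subgroup T, IsMulCommutative A → (∀ a ∈ A, a ^ 2 = 1) → Nat.card A ≤ 2 ^ 1) :
    Nat.card (omega h) = 4 := by
  have hcomm : IsMulCommutative (omega h) := by
    refine ⟨⟨fun a b => ?_⟩⟩
    have ha := Subgroup.mem_center_iff.mp (omega_le_center h a.2)
    apply Subtype.ext
    exact (ha b.1).symm
  have hle : Nat.card (omega h) ≤ 4 := h2 (omega h) hcomm (fun a ha => ha)
  push Not at h1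
  obtain ⟨A, _, hA2, hAc⟩ := h1
  have hAle : A ≤ omega h := fun a ha => hA2 a ha
  have hge : 3 ≤ Nat.card (omega h) := by
    have := Subgroup.card_le_of_le hAle
    omega
  obtain ⟨n, hn⟩ := IsPGroup.iff_card.mp (hT.to_subgroup (omega h))
  rw [hn] at hle hge ⊢
  have hn2 : n = 2 := by
    rcases Nat.lt_or_ge n 2 with h | h
    · interval_cases n <;> omega
    · rcases Nat.lt_or_ge 2 n with h' | h'
      · have : 2 ^ 3 ≤ 2 ^ n := Nat.pow_le_pow_right (by norm_num) h'
        omega
      · omega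
  rw [hn2]; norm_num

end Cfsg.Agent.Helper1.RkTwo
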