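import Mathlib
import Cfsg.Agent.Helper1.RkTwoA

/-!
# The three involutions are permuted in a 3-cycle
-/

set_option autoImplicit false

namespace Cfsg.Agent.Helper1.RkTwo

variable {T : Type*} [Group T] [Finite T]

theorem orderOf_pow_apply (φ : MulAut T) (k : ℕ) (x : T) : orderOf ((φ ^ k) x) = orderOf x :=
  MulEquiv.orderOf_eq (φ ^ k) x

/-- the minimal period of an involution under `φ` is three -/
theorem minimalPeriod_eq_three (h : ∀ s : T, orderOf s = 2 → s ∈ Subgroup.center T)
    (hcard : Nat.card (omega h) = 4) (φ : MulAut T)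
    (htr : ∀ s t : T, orderOf s = 2 → orderOf t = 2 → ∃ k : ℕ, (φ ^ k) s = t)
    (v : T) (hv : orderOf v = 2) : Function.minimalPeriod (⇑φ) v = 3 := by
  classical
  set p := Function.minimalPeriod (⇑φ) v with hp
  have hper : v ∈ Function.periodicPts (⇑φ) := by
    have hfin : IsOfFinOrder φ := isOfFinOrder_of_finite φ
    refine Function.mk_mem_periodicPts hfin.orderOf_pos ?_
    unfold Function.IsPeriodicPt Function.IsFixedPt
    rw [← pow_eq_iterate, pow_orderOf_eq_one]
    rfl
  have hppos : 0 < p := Function.minimalPeriod_pos_of_mem_periodicPts hper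
  have hit : ∀ k : ℕ, orderOf ((⇑φ)^[k] v) = 2 := by
    intro k
    rw [← pow_eq_iterate, orderOf_pow_apply, hv]
  let g : Option (Fin p) → ↥(omega h) := fun o =>
    match o with
    | none => 1
    | some k => ⟨(⇑φ)^[k.1] v, sq_of_orderOf (hit k.1)⟩
  have hginj : Function.Injective g := by
    intro a b hab
    rcases a with _ | a <;> rcases b with _ | b
    · rfl
    · exfalso
      have : (1 : T) = (⇑φ)^[b.1] v := congrArg Subtype.val hab
      exact ne_one_of_orderOf (hit b.1) this.symm
    · exfalso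
      have : (⇑φ)^[a.1] v = (1 : T) := congrArg Subtype.val hab
      exact ne_one_of_orderOf (hit a.1) this
    · have : (⇑φ)^[a.1] v = (⇑φ)^[b.1] v := congrArg Subtype.val hab
      have := (Function.iterate_eq_iterate_iff_of_lt_minimalPeriod a.2 b.2).mp this
      rw [Fin.ext this]
  have hgsurj : Function.Surjective g := by
    intro x
    rcases sq_eq_one_cases ((mem_omega h x.1).mp x.2) with hx | hx
    · exact ⟨none, Subtype.ext hx.symm⟩
    · obtain ⟨k, hk⟩ := htr v x.1 hv hx
      refine ⟨some ⟨k % p, Nat.mod_lt _ hppos⟩, Subtype.ext ?_⟩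
      show (⇑φ)^[k % p] v = x.1
      rw [Function.iterate_mod_minimalPeriod_eq, ← pow_eq_iterate, hk]
  have h1 := Nat.card_le_card_of_injective g hginj
  have h2 := Nat.card_le_card_of_surjective g hgsurj
  rw [hcard] at h1 h2
  have h3 : Nat.card (Option (Fin p)) = p + 1 := by
    rw [Nat.card_eq_fintype_card, Fintype.card_option, Fintype.card_fin]
  omega

theorem pow_apply_eq_iff (h : ∀ s : T, orderOf s = 2 → s ∈ Subgroup.center T)
    (hcard : Nat.card (omega h) = 4) (φ : MulAut T)
    (htr : ∀ s t : T, orderOf s = 2 → orderOf t = 2 → ∃ k : ℕ, (φ ^ k) s = t)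
    (v : T) (hv : orderOf v = 2) (k : ℕ) : (φ ^ k) v = v ↔ 3 ∣ k := by
  have hp := minimalPeriod_eq_three h hcard φ htr v hv
  rw [pow_eq_iterate, ← hp]
  exact Function.isPeriodicPt_iff_minimalPeriod_dvd

/-- the involutions are exactly `v, φ v, φ² v` -/
theorem involution_cases (h : ∀ s : T, orderOf s = 2 → s ∈ Subgroup.center T)
    (hcard : Nat.card (omega h) = 4) (φ : MulAut T)
    (htr : ∀ s t : T, orderOf s = 2 → orderOf t = 2 → ∃ k : ℕ, (φ ^ k) s = t)
    (v : T) (hv : orderOf v = 2) (t : T) (ht : orderOf t = 2) :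
    t = v ∨ t = φ v ∨ t = φ (φ v) := by
  obtain ⟨k, hk⟩ := htr v t hv ht
  have hp := minimalPeriod_eq_three h hcard φ htr v hv
  have hk' : (⇑φ)^[k % 3] v = t := by
    rw [← hp, Function.iterate_mod_minimalPeriod_eq, ← pow_eq_iterate, hk]
  have hlt : k % 3 < 3 := Nat.mod_lt _ (by norm_num)
  interval_cases (k % 3)
  · left; exact hk'.symm
  · right; left; exact hk'.symm
  · right; right; exact hk'.symm

end Cfsg.Agent.Helper1.RkTwo
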