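import Mathlib
import Cfsg.Agent.Helper1.RkTwoB

/-!
# The abelian case: homocyclic of rank two
-/

set_option autoImplicit false

namespace Cfsg.Agent.Helper1.RkTwo

variable {T : Type*} [Group T]

/-- the homomorphism `(i, j) ↦ x ^ i * y ^ j` on `ZMod N × ZMod N` -/
def pairHom (hcomm : ∀ a b : T, a * b = b * a) (N : ℕ) [NeZero N] (x y : T) (hx : x ^ N = 1)
    (hy : y ^ N = 1) : Multiplicative (ZMod N × ZMod N) →* T where
  toFun a := x ^ (Multiplicative.toAdd a).1.val * y ^ (Multiplicative.toAdd a).2.val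
  map_one' := by simp
  map_mul' a b := by
    have h1 : (Multiplicative.toAdd (a * b)).1 = (Multiplicative.toAdd a).1 + (Multiplicative.toAdd b).1 := rfl
    have h2 : (Multiplicative.toAdd (a * b)).2 = (Multiplicative.toAdd a).2 + (Multiplicative.toAdd b).2 := rfl
    rw [h1, h2, ZMod.val_add, ZMod.val_add, ← pow_eq_pow_mod _ hx, ← pow_eq_pow_mod _ hy, pow_add, pow_add]
    generalize x ^ (Multiplicative.toAdd a).1.val = p
    generalize x ^ (Multiplicative.toAdd b).1.val = q
    generalize y ^ (Multiplicative.toAdd a).2.val = r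
    generalize y ^ (Multiplicative.toAdd b).2.val = s
    calc p * q * (r * s) = p * (q * r) * s := by group
      _ = p * (r * q) * s := by rw [hcomm q r]
      _ = p * r * (q * s) := by group

theorem pairHom_apply (hcomm : ∀ a b : T, a * b = b * a) (N : ℕ) [NeZero N] (x y : T) (hx : x ^ N = 1)
    (hy : y ^ N = 1) (i j : ZMod N) :
    pairHom hcomm N x y hx hy (Multiplicative.ofAdd (i, j)) = x ^ i.val * y ^ j.val := rfl

theorem pairHom_natCast (hcomm : ∀ a b : T, a * b = b * a) (N : ℕ) [NeZero N] (x y : T) (hx : x ^ N = 1)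
    (hy : y ^ N = 1) (a b : ℕ) :
    pairHom hcomm N x y hx hy (Multiplicative.ofAdd ((a : ZMod N), (b : ZMod N))) = x ^ a * y ^ b := by
  rw [pairHom_apply, ZMod.val_natCast, ZMod.val_natCast, ← pow_eq_pow_mod _ hx, ← pow_eq_pow_mod _ hy]

variable [Finite T]

theorem abelian_case (hT : IsPGroup 2 T) (hcomm : ∀ a b : T, a * b = b * a)
    (h : ∀ s : T, orderOf s = 2 → s ∈ Subgroup.center T)
    (hcard : Nat.card (omega h) = 4) (φ : MulAut T)
    (htr : ∀ s t : T, orderOf s = 2 → orderOf t = 2 → ∃ k : ℕ, (φ ^ k) s = t) :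
    ∃ n : ℕ, 1 ≤ n ∧ Nonempty (T ≃* Multiplicative (ZMod (2 ^ n) × ZMod (2 ^ n))) := by
  classical
  haveI : Fact (Nat.Prime 2) := ⟨Nat.prime_two⟩
  -- the exponent
  obtain ⟨m, hm⟩ := IsPGroup.iff_card.mp hT
  have hexp_dvd : Monoid.exponent T ∣ 2 ^ m := by
    rw [← hm]; exact Group.exponent_dvd_nat_card
  obtain ⟨n, -, hn⟩ := (Nat.dvd_prime_pow Nat.prime_two).mp hexp_dvd
  have hnontriv : Nontrivial T := by
    by_contra hcon
    rw [not_nontrivial_iff_subsingleton] at hcon
    have : Nat.card (omega h) ≤ 1 := by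
      rw [Nat.card_eq_one_iff_unique.mpr ⟨inferInstance, ⟨1⟩⟩]
    omega
  have hn1 : 1 ≤ n := by
    rcases Nat.eq_zero_or_pos n with h0 | h0
    · exfalso
      rw [h0, pow_zero] at hn
      have := Monoid.exp_eq_one_iff.mp hn
      exact not_subsingleton T this
    · exact h0
  obtain ⟨k, rfl⟩ : ∃ k, n = k + 1 := ⟨n - 1, by omega⟩
  -- an element of full order
  have hex : ∃ x : T, x ^ (2 ^ k) ≠ 1 := by
    by_contra hcon
    push Not at hcon
    have := Monoid.exponent_dvd_of_forall_pow_eq_one hcon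
    rw [hn] at this
    have h2 : 2 ^ (k + 1) ≤ 2 ^ k := Nat.le_of_dvd (by positivity) this
    have : 2 ^ k < 2 ^ (k + 1) := Nat.pow_lt_pow_right (by norm_num) (by omega)
    omega
  obtain ⟨x, hx⟩ := hex
  have hpowN : ∀ t : T, t ^ (2 ^ (k + 1)) = 1 := by
    intro t; rw [← hn]; exact Monoid.pow_exponent_eq_one t
  set v1 := x ^ (2 ^ k) with hv1
  have hv1sq : v1 ^ 2 = 1 := by
    rw [hv1, ← pow_mul, ← pow_succ]; exact hpowN x
  have hv1o : orderOf v1 = 2 := orderOf_eq_prime hv1sq hx
  set y := φ x with hy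
  set v2 := φ v1 with hv2
  have hv2y : v2 = y ^ (2 ^ k) := by rw [hv2, hv1, map_pow]
  have hv2o : orderOf v2 = 2 := by rw [hv2, orderOf_apply, hv1o]
  have hv12 : v1 ≠ v2 := by
    intro he
    have := (pow_apply_eq_iff h hcard φ htr v1 hv1o 1).mp (by rw [pow_one]; exact he.symm)
    omega
  have hv2sq : v2 ^ 2 = 1 := sq_of_orderOf hv2o
  -- the omega subgroup is {1, v1, v2, v1 v2}
  have hom : ∀ u : T, u ^ 2 = 1 → ∃ a b : ℕ, u = v1 ^ a * v2 ^ b := by
    intro u hu
    rcases sq_eq_one_cases hu with rfl | huo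
    · exact ⟨0, 0, by simp⟩
    · rcases involution_cases h hcard φ htr v1 hv1o u huo with rfl | rfl | hu3
      · exact ⟨1, 0, by rw [pow_one, pow_zero, mul_one]⟩
      · exact ⟨0, 1, by rw [pow_zero, one_mul, pow_one]⟩
      · -- the third involution is v1 * v2
        have h12 : orderOf (v1 * v2) = 2 := by
          apply orderOf_eq_prime
          · rw [pow_two]
            calc v1 * v2 * (v1 * v2) = v1 * (v2 * v1) * v2 := by group
              _ = v1 * (v1 * v2) * v2 := by rw [hcomm v2 v1]
              _ = v1 ^ 2 * v2 ^ 2 := by rw [pow_two, pow_two]; group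
              _ = 1 := by rw [hv1sq, hv2sq, one_mul]
          · intro h1
            apply hv12
            have : v1 = v2⁻¹ := eq_inv_of_mul_eq_one_left h1
            rw [this]
            exact inv_eq_of_mul_eq_one_left (by rw [← pow_two]; exact hv2sq)
        rcases involution_cases h hcard φ htr v1 hv1o (v1 * v2) h12 with h' | h' | h'
        · exfalso
          have : v2 = 1 := by
            have := mul_left_cancel (a := v1) (b := v2) (c := 1) (by rw [mul_one]; exact h')
            exact this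
          exact ne_one_of_orderOf hv2o this
        · exfalso
          have : v1 = 1 := by
            have h'' : v1 * v2 = 1 * v2 := by rw [one_mul]; exact h'
            exact mul_right_cancel h''
          exact ne_one_of_orderOf hv1o this
        · exact ⟨1, 1, by rw [pow_one, pow_one, hu3, h']⟩
  haveI : NeZero (2 ^ (k + 1)) := ⟨by positivity⟩
  have hyN : y ^ (2 ^ (k + 1)) = 1 := hpowN y
  let f := pairHom hcomm (2 ^ (k + 1)) x y (hpowN x) hyN
  -- surjectivity
  have hsurj : ∀ j : ℕ, j ≤ k + 1 → ∀ t : T, t ^ (2 ^ j) = 1 → t ∈ f.range := by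
    intro j
    induction j with
    | zero =>
      intro _ t ht
      rw [pow_zero, pow_one] at ht
      rw [ht]; exact Subgroup.one_mem _
    | succ j ih =>
      intro hj t ht
      have hu : (t ^ (2 ^ j)) ^ 2 = 1 := by rw [← pow_mul, ← pow_succ]; exact ht
      obtain ⟨a, b, hab⟩ := hom _ hu
      let s : T := (x ^ a * y ^ b) ^ (2 ^ (k - j))
      have hs : s ∈ f.range := by
        apply Subgroup.pow_mem
        refine ⟨Multiplicative.ofAdd ((a : ZMod (2 ^ (k + 1))), (b : ZMod (2 ^ (k + 1)))), ?_⟩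
        exact pairHom_natCast hcomm _ x y _ _ a b
      have hmulpow : ∀ (p q : T) (e : ℕ), (p * q) ^ e = p ^ e * q ^ e := by
        intro p q e
        exact (Commute.mul_pow (hcomm p q) e)
      have hs2 : s ^ (2 ^ j) = t ^ (2 ^ j) := by
        show ((x ^ a * y ^ b) ^ (2 ^ (k - j))) ^ (2 ^ j) = _
        rw [← pow_mul, ← pow_add, show k - j + j = k by omega, hmulpow, ← pow_mul, ← pow_mul,
          mul_comm a, mul_comm b, pow_mul, pow_mul, ← hv1, ← hv2y, hab]
      have hts : (t * s⁻¹) ^ (2 ^ j) = 1 := by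
        rw [hmulpow, inv_pow, hs2, mul_inv_cancel]
      have := ih (by omega) _ hts
      have h2 := Subgroup.mul_mem _ this hs
      rwa [inv_mul_cancel_right] at h2
  have hfsurj : Function.Surjective f := by
    intro t
    exact hsurj (k + 1) le_rfl t (hpowN t)
  -- injectivity: the kernel has no involution
  have hfinj : Function.Injective f := by
    rw [← MonoidHom.ker_eq_bot_iff]
    by_contra hker
    haveI : Nontrivial f.ker := (Subgroup.nontrivial_iff_ne_bot _).mpr hker
    have hkp : IsPGroup 2 f.ker := by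
      apply IsPGroup.to_subgroup
      apply IsPGroup.of_card (n := 2 * (k + 1))
      rw [Nat.card_eq_fintype_card, Fintype.card_multiplicative, Fintype.card_prod, ZMod.card]
      ring
    obtain ⟨z, hzc, hz2⟩ := exists_central_involution hkp
    have hz1 : (z : Multiplicative (ZMod (2 ^ (k + 1)) × ZMod (2 ^ (k + 1)))) ≠ 1 := by
      intro h1
      apply ne_one_of_orderOf hz2
      exact Subtype.ext h1
    have hzsq : (z : Multiplicative (ZMod (2 ^ (k + 1)) × ZMod (2 ^ (k + 1)))) ^ 2 = 1 := by
      have := sq_of_orderOf hz2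
      have := congrArg Subtype.val this
      simpa using this
    have hzker : f (z : Multiplicative (ZMod (2 ^ (k + 1)) × ZMod (2 ^ (k + 1)))) = 1 := z.2
    obtain ⟨⟨i, j⟩, hij⟩ : ∃ p : ZMod (2 ^ (k + 1)) × ZMod (2 ^ (k + 1)),
        (z : Multiplicative (ZMod (2 ^ (k + 1)) × ZMod (2 ^ (k + 1)))) = Multiplicative.ofAdd p :=
      ⟨Multiplicative.toAdd z.1, rfl⟩
    rw [hij] at hz1 hzsq hzker
    have hsq' : (2 : ℕ) • (i, j) = (0 : ZMod (2 ^ (k + 1)) × ZMod (2 ^ (k + 1))) := by
      have := congrArg Multiplicative.toAdd hzsq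
      simpa using this
    have hi2 : (2 : ℕ) • i = 0 := congrArg Prod.fst hsq'
    have hj2 : (2 : ℕ) • j = 0 := congrArg Prod.snd hsq'
    have key : ∀ i : ZMod (2 ^ (k + 1)), (2 : ℕ) • i = 0 → i.val = 0 ∨ i.val = 2 ^ k := by
      intro i hi
      have hlt := ZMod.val_lt i
      have h0 : ((2 * i.val : ℕ) : ZMod (2 ^ (k + 1))) = 0 := by
        rw [Nat.cast_mul, ZMod.natCast_zmod_val]
        rw [nsmul_eq_mul] at hi
        exact_mod_cast hi
      rw [ZMod.natCast_eq_zero_iff] at h0
      obtain ⟨c, hc⟩ := h0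
      have hpk : 2 ^ (k + 1) = 2 ^ k * 2 := pow_succ 2 k
      generalize hvi : i.val = vi at hc hlt ⊢
      rw [hpk] at hc hlt
      have : c = 0 ∨ c = 1 := by
        rcases c with _ | _ | c
        · left; rfl
        · right; rfl
        · exfalso
          have : 2 ^ k * 2 * 2 ≤ 2 * vi := by
            rw [hc]; exact Nat.mul_le_mul_left _ (by omega)
          omega
      rcases this with rfl | rfl
      · left; omega
      · right; omega
    rw [pairHom_apply] at hzker
    rcases key i hi2 with hi0 | hi0 <;> rcases key j hj2 with hj0 | hj0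
    · apply hz1
      have : i = 0 := (ZMod.val_eq_zero i).mp hi0
      have : j = 0 := (ZMod.val_eq_zero j).mp hj0
      subst_vars
      rfl
    · rw [hi0, hj0, pow_zero, one_mul, ← hv2y] at hzker
      exact ne_one_of_orderOf hv2o hzker
    · rw [hi0, hj0, pow_zero, mul_one, ← hv1] at hzker
      exact ne_one_of_orderOf hv1o hzker
    · rw [hi0, hj0, ← hv1, ← hv2y] at hzker
      apply hv12
      have : v1 = v2⁻¹ := eq_inv_of_mul_eq_one_left hzker
      rw [this]
      exact inv_eq_of_mul_eq_one_left (by rw [← pow_two]; exact hv2sq)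
  exact ⟨k + 1, by omega, ⟨(MulEquiv.ofBijective f ⟨hfinj, hfsurj⟩).symm⟩⟩

end Cfsg.Agent.Helper1.RkTwo
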