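import Mathlib
import Cfsg.Agent.Helper1.RkTwoB
import Cfsg.Agent.Helper1.PGroup
import Cfsg.Agent.Helper1.SuzHC

/-!
# The 3-part of the automorphism has order three
-/

set_option autoImplicit false

universe u

namespace Cfsg.Agent.Helper1.RkTwo

open Cfsg.Agent.Helper3.SuzA Cfsg.Agent.Helper1.SuzH
open scoped commutatorElement

/-- a permutation of order dividing nine whose cube is fixed-point-free acts on a set of size
divisible by nine -/
theorem nine_dvd_card {Y : Type*} [Fintype Y] [DecidableEq Y] (σ : Equiv.Perm Y) (h9 : σ ^ 9 = 1)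
    (hfix : ∀ y, (σ ^ 3) y ≠ y) : 9 ∣ Fintype.card Y := by
  have hsupp : σ.support = Finset.univ := by
    ext y
    simp only [Equiv.Perm.mem_support, Finset.mem_univ, iff_true]
    intro hy
    apply hfix y
    have : σ ^ 3 = σ * σ * σ := by rw [pow_succ, pow_succ, pow_one]
    rw [this, Equiv.Perm.mul_apply, Equiv.Perm.mul_apply, hy, hy, hy]
  have hsum := Equiv.Perm.sum_cycleType σ
  rw [hsupp, Finset.card_univ] at hsum
  rw [← hsum]
  apply Multiset.dvd_sum
  intro n hn
  have hd : n ∣ 9 := (Equiv.Perm.dvd_of_mem_cycleType hn).trans (orderOf_dvd_of_pow_eq_one h9)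
  have h2 := Equiv.Perm.two_le_of_mem_cycleType hn
  have h39 : n = 3 ∨ n = 9 := by
    have hle : n ≤ 9 := Nat.le_of_dvd (by norm_num) hd
    interval_cases n <;> first | omega | (exfalso; revert hd; decide)
  rcases h39 with rfl | rfl
  · exfalso
    obtain ⟨c, τ, hστ, hdisj, hc, hcard⟩ := Equiv.Perm.mem_cycleType_iff.mp hn
    have hc3 : c ^ 3 = 1 := by
      rw [← hcard, ← hc.orderOf]; exact pow_orderOf_eq_one c
    obtain ⟨y, hy, -⟩ := hc
    have hτy : τ y = y := by
      rcases hdisj y with h | h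
      · exact absurd h hy
      · exact h
    apply hfix y
    have hcomm := hdisj.commute
    rw [hστ, hcomm.mul_pow, hc3, one_mul]
    have : τ ^ 3 = τ * τ * τ := by rw [pow_succ, pow_succ, pow_one]
    rw [this, Equiv.Perm.mul_apply, Equiv.Perm.mul_apply, hτy, hτy, hτy]
  · exact dvd_refl 9

variable {T : Type u} [Group T]

/-- restriction of an automorphism to an invariant subgroup -/
def resAut (φ : MulAut T) (M : Subgroup T) (h1 : ∀ x ∈ M, φ x ∈ M) (h2 : ∀ x ∈ M, φ.symm x ∈ M) :
    MulAut M where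
  toFun x := ⟨φ x.1, h1 x.1 x.2⟩
  invFun x := ⟨φ.symm x.1, h2 x.1 x.2⟩
  left_inv x := by apply Subtype.ext; simp
  right_inv x := by apply Subtype.ext; simp
  map_mul' x y := by apply Subtype.ext; simp

theorem resAut_apply (φ : MulAut T) (M : Subgroup T) (h1 : ∀ x ∈ M, φ x ∈ M)
    (h2 : ∀ x ∈ M, φ.symm x ∈ M) (x : M) : ((resAut φ M h1 h2 x : M) : T) = φ x.1 := rfl

theorem resAut_pow_apply (φ : MulAut T) (M : Subgroup T) (h1 : ∀ x ∈ M, φ x ∈ M)
    (h2 : ∀ x ∈ M, φ.symm x ∈ M) (k : ℕ) (x : M) :
    ((((resAut φ M h1 h2) ^ k) x : M) : T) = (φ ^ k) x.1 := by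
  induction k with
  | zero => simp
  | succ k ih => rw [pow_succ_apply, resAut_apply, ih, pow_succ_apply]

theorem pow_mem_of_inv (φ : MulAut T) (M : Subgroup T) (h1 : ∀ x ∈ M, φ x ∈ M) (k : ℕ) :
    ∀ x ∈ M, (φ ^ k) x ∈ M := by
  induction k with
  | zero => intro x hx; simpa using hx
  | succ k ih => intro x hx; rw [pow_succ_apply]; exact h1 _ (ih x hx)

theorem eq_one_of_pow_three [Finite T] (hT : IsPGroup 2 T) {c : T} (hc : c ^ 3 = 1) : c = 1 := by
  obtain ⟨k, hk⟩ := hT c
  have h1 : orderOf c ∣ 3 := orderOf_dvd_of_pow_eq_one hc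
  have h2 : orderOf c ∣ 2 ^ k := orderOf_dvd_of_pow_eq_one hk
  have h3 : orderOf c ∣ Nat.gcd 3 (2 ^ k) := Nat.dvd_gcd h1 h2
  have h4 : Nat.gcd 3 (2 ^ k) = 1 := Nat.Coprime.pow_right k (by norm_num)
  rw [h4, Nat.dvd_one] at h3
  exact orderOf_eq_one_iff.mp h3

/-- the commutator `a b a⁻¹ b⁻¹` squares to one if it and `a²` are central -/
theorem comm_sq_eq_one {a b : T} (hc : ⁅a, b⁆ ∈ Subgroup.center T) (ha : a * a ∈ Subgroup.center T) :
    ⁅a, b⁆ * ⁅a, b⁆ = 1 := by
  have h1 := Subgroup.mem_center_iff.mp hc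
  have h2 := Subgroup.mem_center_iff.mp ha
  have e1 : ⁅a, b⁆ * ⁅a, b⁆ = (⁅a, b⁆ * a) * (b * a⁻¹ * b⁻¹) := by
    conv_lhs => rw [commutatorElement_def a b]
    simp only [commutatorElement_def]; group
  have e2 : (a * ⁅a, b⁆) * (b * a⁻¹ * b⁻¹) = (a * a) * b * (a * a)⁻¹ * b⁻¹ := by
    simp only [commutatorElement_def]; group
  rw [e1, ← h1 a, e2, ← h2 b]; group

theorem beta_fix_aux : ∀ (N : ℕ) (T : Type u) [Group T] [Finite T], Nat.card T = N → IsPGroup 2 T →
    ∀ (φ : MulAut T) (i : ℕ), φ ^ (9 * i) = 1 →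
    ∀ (h : ∀ s : T, orderOf s = 2 → s ∈ Subgroup.center T), Nat.card (omega h) = 4 →
    (∀ s t : T, orderOf s = 2 → orderOf t = 2 → ∃ k : ℕ, (φ ^ k) s = t) →
    (∀ s : T, orderOf s = 2 → (φ ^ (3 * i)) s = s) →
    ∀ x : T, (φ ^ (3 * i)) x = x := by
  intro N
  induction N using Nat.strong_induction_on with
  | _ N IH =>
  intro T _ _ hN hT φ i h9 h hcard htr hβinv
  classical
  haveI : Fact (Nat.Prime 2) := ⟨Nat.prime_two⟩
  by_contra hcon
  push Not at hcon
  obtain ⟨x₀, hx₀⟩ := hcon
  set β := φ ^ (3 * i) with hβ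
  have hβ3 : ∀ x : T, β (β (β x)) = x := by
    intro x
    have : β * β * β = 1 := by
      rw [hβ, ← pow_add, ← pow_add, show 3 * i + 3 * i + 3 * i = 9 * i by ring, h9]
    have h' := congrArg (fun f : MulAut T => f x) this
    simpa [MulAut.mul_apply] using h'
  have hi0 : i ≠ 0 := by
    rintro rfl
    apply hx₀
    simp [hβ]
  have hφβ : ∀ x : T, φ (β x) = β (φ x) := by
    intro x
    rw [hβ, ← pow_succ_apply, pow_succ_apply']
  have hsymm : ∀ x : T, φ.symm x = (φ ^ (9 * i - 1)) x := by
    intro x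
    apply φ.injective
    rw [MulEquiv.apply_symm_apply, ← pow_succ_apply, show 9 * i - 1 + 1 = 9 * i by omega, h9]
    rfl
  -- Step A: proper invariant subgroups are fixed by β
  have hA : ∀ M : Subgroup T, M ≠ ⊤ → (∀ x ∈ M, φ x ∈ M) → ∀ x ∈ M, β x = x := by
    intro M hMtop hMinv
    by_contra hcon
    push Not at hcon
    obtain ⟨x₁, hx₁M, hx₁⟩ := hcon
    have hMinv' : ∀ x ∈ M, φ.symm x ∈ M := by
      intro x hx; rw [hsymm]; exact pow_mem_of_inv φ M hMinv _ x hx
    let ψ := resAut φ M hMinv hMinv'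
    have hcardlt : Nat.card M < N := by
      have hle : Nat.card M ≤ Nat.card T := Subgroup.card_le_card_group M
      rcases Nat.lt_or_ge (Nat.card M) (Nat.card T) with hlt | hge
      · rwa [hN] at hlt
      · exact absurd (Subgroup.eq_top_of_card_eq M (le_antisymm hle hge)) hMtop
    have hMp : IsPGroup 2 M := hT.to_subgroup M
    have hψ9 : ψ ^ (9 * i) = 1 := by
      ext x
      rw [resAut_pow_apply, h9]; rfl
    have hM : ∀ s : M, orderOf s = 2 → s ∈ Subgroup.center M := by
      intro s hs
      have hs' : orderOf (s : T) = 2 := by rw [Subgroup.orderOf_coe]; exact hs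
      have hc := Subgroup.mem_center_iff.mp (h s.1 hs')
      rw [Subgroup.mem_center_iff]
      intro g
      apply Subtype.ext
      exact hc g.1
    haveI hMnt : Nontrivial M := by
      refine ⟨⟨⟨x₁, hx₁M⟩, 1, ?_⟩⟩
      intro he
      apply hx₁
      have : x₁ = 1 := congrArg Subtype.val he
      rw [this, map_one]
    obtain ⟨s₀, -, hs₀⟩ := exists_central_involution hMp
    have hs₀' : orderOf (s₀ : T) = 2 := by rw [Subgroup.orderOf_coe]; exact hs₀
    have homle : omega h ≤ M := by
      intro t ht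
      rcases sq_eq_one_cases ((mem_omega h t).mp ht) with rfl | ht2
      · exact M.one_mem
      · obtain ⟨k, hk⟩ := htr s₀.1 t hs₀' ht2
        rw [← hk]
        exact pow_mem_of_inv φ M hMinv k _ s₀.2
    have hcardM : Nat.card (omega hM) = 4 := by
      rw [← hcard]
      apply Nat.card_congr
      refine ⟨fun y => ⟨y.1.1, ?_⟩, fun y => ⟨⟨y.1, homle y.2⟩, ?_⟩, ?_, ?_⟩
      · have := (mem_omega hM y.1).mp y.2
        rw [mem_omega]
        have h' := congrArg Subtype.val this
        simpa using h'
      · rw [mem_omega]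
        apply Subtype.ext
        have := (mem_omega h y.1).mp y.2
        simpa using this
      · intro y; rfl
      · intro y; rfl
    have htrM : ∀ s t : M, orderOf s = 2 → orderOf t = 2 → ∃ k : ℕ, (ψ ^ k) s = t := by
      intro s t hs ht
      have hs' : orderOf (s : T) = 2 := by rw [Subgroup.orderOf_coe]; exact hs
      have ht' : orderOf (t : T) = 2 := by rw [Subgroup.orderOf_coe]; exact ht
      obtain ⟨k, hk⟩ := htr s.1 t.1 hs' ht'
      refine ⟨k, Subtype.ext ?_⟩
      rw [resAut_pow_apply, hk]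
    have hβM : ∀ s : M, orderOf s = 2 → (ψ ^ (3 * i)) s = s := by
      intro s hs
      have hs' : orderOf (s : T) = 2 := by rw [Subgroup.orderOf_coe]; exact hs
      apply Subtype.ext
      rw [resAut_pow_apply]
      exact hβinv s.1 hs'
    have := IH (Nat.card M) hcardlt M rfl hMp ψ i hψ9 hM hcardM htrM hβM ⟨x₁, hx₁M⟩
    have h' := congrArg Subtype.val this
    rw [resAut_pow_apply] at h'
    exact hx₁ h'
  -- Step B: [T, β] = T
  let E : Subgroup T := Subgroup.closure {y | ∃ x : T, y = x⁻¹ * β x}
  have hEtop : E = ⊤ := by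
    by_contra hE
    have hEinv : ∀ y ∈ E, φ y ∈ E := by
      intro y hy
      induction hy using Subgroup.closure_induction with
      | mem y hy =>
        obtain ⟨x, rfl⟩ := hy
        apply Subgroup.subset_closure
        refine ⟨φ x, ?_⟩
        rw [map_mul, map_inv, hφβ]
      | one => rw [map_one]; exact E.one_mem
      | mul a b _ _ ha hb => rw [map_mul]; exact E.mul_mem ha hb
      | inv a _ ha => rw [map_inv]; exact E.inv_mem ha
    have hEfix := hA E hE hEinv
    apply hx₀
    have hc : x₀⁻¹ * β x₀ ∈ E := Subgroup.subset_closure ⟨x₀, rfl⟩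
    set c := x₀⁻¹ * β x₀ with hcdef
    have hβc : β c = c := hEfix c hc
    have e1 : β x₀ = x₀ * c := by rw [hcdef]; group
    have e3 : β (β (β x₀)) = x₀ * (c * c * c) := by
      rw [e1, map_mul, hβc, e1, map_mul, map_mul, hβc, e1]; group
    rw [hβ3] at e3
    have hc3 : c ^ 3 = 1 := by
      have : x₀ * 1 = x₀ * (c * c * c) := by rw [mul_one]; exact e3
      have := mul_left_cancel this
      rw [pow_succ, pow_succ, pow_one]; exact this.symm
    have hc1 := eq_one_of_pow_three hT hc3
    rw [e1, hc1, mul_one]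
  haveI hTnt : Nontrivial T := ⟨⟨x₀, 1, by rintro rfl; apply hx₀; rw [map_one]⟩⟩
  -- Step C: the Frattini subgroup is central
  have hΦne : frattini T ≠ ⊤ := by
    obtain ⟨M, hM⟩ : ∃ M : Subgroup T, IsCoatom M := by
      rcases eq_top_or_exists_le_coatom (⊥ : Subgroup T) with h | ⟨M, hM, -⟩
      · exact absurd h bot_ne_top
      · exact ⟨M, hM⟩
    intro hΦ
    have := frattini_le_coatom hM
    rw [hΦ, top_le_iff] at this
    exact hM.1 this
  have hΦinv : ∀ x ∈ frattini T, φ x ∈ frattini T := by
    intro x hx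
    have hchar : (frattini T).Characteristic := frattini_characteristic
    have := Subgroup.characteristic_iff_map_eq.mp hchar φ
    rw [← this]
    exact Subgroup.mem_map_of_mem _ hx
  have hΦfix := hA (frattini T) hΦne hΦinv
  have hnormal_central : ∀ (Nn : Subgroup T), Nn.Normal → (∀ x ∈ Nn, β x = x) → Nn ≤ Subgroup.center T := by
    intro Nn hNn hfix z hz
    have hle : E ≤ Subgroup.centralizer {z} := by
      rw [Subgroup.closure_le]
      rintro y ⟨m, rfl⟩
      rw [SetLike.mem_coe, Subgroup.mem_centralizer_iff]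
      intro w hw
      rw [Set.mem_singleton_iff] at hw
      subst hw
      have h1 : β (m * w * m⁻¹) = m * w * m⁻¹ := hfix _ (hNn.conj_mem w hz m)
      rw [map_mul, map_mul, map_inv, hfix w hz] at h1
      -- β m * w * (β m)⁻¹ = m * w * m⁻¹
      have : m⁻¹ * β m * w = w * (m⁻¹ * β m) := by
        calc m⁻¹ * β m * w = m⁻¹ * (β m * w * (β m)⁻¹) * β m := by group
          _ = m⁻¹ * (m * w * m⁻¹) * β m := by rw [h1]
          _ = w * (m⁻¹ * β m) := by group
      exact this.symm
    rw [hEtop] at hle
    rw [Subgroup.mem_center_iff]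
    intro g
    have := Subgroup.mem_centralizer_iff.mp (hle (Subgroup.mem_top g)) z rfl
    exact this.symm
  have hΦZ : frattini T ≤ Subgroup.center T :=
    hnormal_central _ inferInstance hΦfix
  have hsq : ∀ x : T, x * x ∈ Subgroup.center T := by
    intro x
    apply hΦZ
    have := Cfsg.Agent.Helper1.IsPGroup.pow_mem_frattini hT x
    rwa [pow_two] at this
  have hcomm' : commutator T ≤ Subgroup.center T :=
    (Cfsg.Agent.Helper1.IsPGroup.commutator_le_frattini hT).trans hΦZ
  have hcmc : ∀ x y : T, cm x y ∈ Subgroup.center T := by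
    intro x y
    apply hcomm'
    have : cm x y = ⁅x⁻¹, y⁻¹⁆ := by unfold cm; simp only [commutatorElement_def]; group
    rw [this]
    exact Subgroup.commutator_mem_commutator (Subgroup.mem_top _) (Subgroup.mem_top _)
  -- Step D: the norm map into the abelianization is trivial
  let ofA : T →* Abelianization T := Abelianization.of
  let ν : T →* Abelianization T :=
    ofA * (ofA.comp β.toMonoidHom) * (ofA.comp (β.toMonoidHom.comp β.toMonoidHom))
  have hν : ∀ x : T, ν x = ofA x * ofA (β x) * ofA (β (β x)) := fun x => rfl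
  have hνtriv : ∀ x : T, ν x = 1 := by
    have hle : E ≤ ν.ker := by
      rw [Subgroup.closure_le]
      rintro y ⟨x, rfl⟩
      rw [SetLike.mem_coe, MonoidHom.mem_ker, hν]
      simp only [map_mul, map_inv, hβ3]
      generalize ofA x = a
      generalize ofA (β x) = b
      generalize ofA (β (β x)) = c
      group
    rw [hEtop] at hle
    intro x
    exact MonoidHom.mem_ker.mp (hle (Subgroup.mem_top x))
  have hfixcomm : ∀ z : T, β z = z → z ∈ commutator T := by
    intro z hz
    have h1 := hνtriv z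
    rw [hν, hz, hz] at h1
    have h2 : ofA (z ^ 3) = 1 := by
      rw [map_pow, pow_succ, pow_succ, pow_one]; exact h1
    have h3 : z ^ 3 ∈ commutator T := by
      rw [← Abelianization.ker_of, MonoidHom.mem_ker]; exact h2
    -- z is a power of z ^ 3
    obtain ⟨k, hk⟩ := hT z
    have hcop : Nat.Coprime 3 (orderOf z) := by
      have : orderOf z ∣ 2 ^ k := orderOf_dvd_of_pow_eq_one hk
      exact Nat.Coprime.coprime_dvd_right this (Nat.Coprime.pow_right k (by norm_num))
    obtain ⟨m, hm⟩ := exists_pow_eq_self_of_coprime hcop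
    rw [← hm]
    exact Subgroup.pow_mem _ h3 m
  -- the commutator subgroup has exponent two
  have hcomm2 : ∀ c ∈ commutator T, c * c = 1 := by
    intro c hc
    rw [commutator_eq_closure] at hc
    induction hc using Subgroup.closure_induction with
    | mem y hy =>
      obtain ⟨a, b, rfl⟩ := hy
      apply comm_sq_eq_one _ (hsq a)
      apply hcomm'
      exact Subgroup.commutator_mem_commutator (Subgroup.mem_top _) (Subgroup.mem_top _)
    | one => simp
    | mul a b ha hb iha ihb =>
      have hac : a ∈ Subgroup.center T := by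
        apply hcomm'; rw [commutator_eq_closure]; exact ha
      have := Subgroup.mem_center_iff.mp hac
      calc a * b * (a * b) = a * (b * a) * b := by group
        _ = a * (a * b) * b := by rw [this b]
        _ = (a * a) * (b * b) := by group
        _ = 1 := by rw [iha, ihb, one_mul]
    | inv a ha iha =>
      have : a⁻¹ * a⁻¹ = (a * a)⁻¹ := by group
      rw [this, iha, inv_one]
  -- Step D4: T is nonabelian and its centre has exponent two
  obtain ⟨v, hvc, hv2⟩ := exists_central_involution hT
  have hZne : Subgroup.center T ≠ ⊤ := by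
    intro hZ
    have hab : ∀ a b : T, ⁅a, b⁆ = 1 := by
      intro a b
      have : a ∈ Subgroup.center T := by rw [hZ]; exact Subgroup.mem_top a
      have := Subgroup.mem_center_iff.mp this b
      rw [commutatorElement_eq_one_iff_mul_comm]; exact this.symm
    have hcb : commutator T = ⊥ := by
      rw [commutator_eq_closure, Subgroup.closure_eq_bot_iff]
      rintro y ⟨a, b, rfl⟩
      exact hab a b
    have := hfixcomm v (hβinv v hv2)
    rw [hcb, Subgroup.mem_bot] at this
    exact ne_one_of_orderOf hv2 this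
  have hZinv : ∀ x ∈ Subgroup.center T, φ x ∈ Subgroup.center T := fun x hx => mem_center_apply φ hx
  have hZfix := hA _ hZne hZinv
  have hZ2 : ∀ z ∈ Subgroup.center T, z * z = 1 := fun z hz => hcomm2 z (hfixcomm z (hZfix z hz))
  have hfixZ : ∀ x : T, β x = x → x ∈ Subgroup.center T := fun x hx => hcomm' (hfixcomm x hx)
  -- Step D6: counting
  have hinvc : ∀ x : T, x * x = 1 → x ∈ Subgroup.center T := by
    intro x hx
    rcases sq_eq_one_cases (by rw [pow_two]; exact hx : x ^ 2 = 1) with rfl | hx2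
    · exact Subgroup.one_mem _
    · exact h x hx2
  have hZom : Subgroup.center T = omega h := by
    apply le_antisymm
    · intro z hz
      rw [mem_omega, pow_two]; exact hZ2 z hz
    · exact omega_le_center h
  have hcardZ : Nat.card (Subgroup.center T) = 4 := by rw [hZom]; exact hcard
  have hcount := count_main (K := MulAut T) hT hsq hcmc hZ2 hinvc
    (by
      intro z z' hz hz' hz1 hz'1
      have hzo : orderOf z = 2 := orderOf_eq_prime (by rw [pow_two]; exact hZ2 z hz) hz1
      have hzo' : orderOf z' = 2 := orderOf_eq_prime (by rw [pow_two]; exact hZ2 z' hz') hz'1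
      obtain ⟨k, hk⟩ := htr z z' hzo hzo'
      exact ⟨φ ^ k, hk⟩)
    ⟨v, hvc, ne_one_of_orderOf hv2⟩
  rw [hcardZ] at hcount
  have hcardT : Nat.card T = 16 ∨ Nat.card T = 64 := by
    rcases hcount with h4 | h16 | h64
    · exfalso
      apply hZne
      apply Subgroup.eq_top_of_card_eq
      rw [hcardZ, h4]
    · left; rw [h16]; norm_num
    · right; rw [h64]; norm_num
  -- Step D7: the orbit count
  haveI : Fintype T := Fintype.ofFinite T
  let g : Equiv.Perm T := (φ ^ i).toEquiv
  have hgc : ∀ x : T, (x ∉ Subgroup.center T → g x ∉ Subgroup.center T) := by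
    intro x hx hgx
    apply hx
    have : x = (φ ^ i).symm (g x) := by simp [g]
    rw [this]
    exact mem_center_apply _ hgx
  have hgiff : ∀ x : T, g x ∉ Subgroup.center T ↔ x ∉ Subgroup.center T := by
    intro x
    constructor
    · intro hgx hx
      exact hgx (mem_center_apply (φ ^ i) hx)
    · exact hgc x
  let σ : Equiv.Perm {x : T // x ∉ Subgroup.center T} := g.subtypePerm hgiff
  have hgpow : ∀ (k : ℕ) (x : T), (g ^ k) x = (φ ^ (i * k)) x := by
    intro k x
    induction k with
    | zero => simp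
    | succ k ih =>
      rw [pow_succ', Equiv.Perm.mul_apply, ih]
      show (φ ^ i) ((φ ^ (i * k)) x) = _
      rw [← pow_add_apply, show i + i * k = i * (k + 1) by ring]
  have hσ9 : σ ^ 9 = 1 := by
    ext y
    rw [Equiv.Perm.subtypePerm_pow, Equiv.Perm.subtypePerm_apply]
    simp only [Equiv.Perm.coe_one, id_eq]
    rw [hgpow, mul_comm, h9]; rfl
  have hσ3 : ∀ y, (σ ^ 3) y ≠ y := by
    intro y hy
    have h' := congrArg Subtype.val hy
    rw [Equiv.Perm.subtypePerm_pow, Equiv.Perm.subtypePerm_apply] at h'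
    simp only at h'
    rw [hgpow, mul_comm] at h'
    exact y.2 (hfixZ y.1 h')
  have h9dvd := nine_dvd_card σ hσ9 hσ3
  have hcardY : Fintype.card {x : T // x ∉ Subgroup.center T} = Nat.card T - 4 := by
    rw [Fintype.card_subtype_compl, ← Nat.card_eq_fintype_card, ← Nat.card_eq_fintype_card]
    congr 1
  rw [hcardY] at h9dvd
  rcases hcardT with h16 | h64
  · rw [h16] at h9dvd; omega
  · rw [h64] at h9dvd; omega

end Cfsg.Agent.Helper1.RkTwo
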