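import Mathlib
import Cfsg.Agent.Helper1.SuzTA

/-!
# Algebra for Higman's theorem on Suzuki 2-groups

* `two_prod`: a product of two field endomorphisms determines the (unordered) pair.
* `fo`: one-variable Fourier components of a function on a finite field of characteristic two.
-/

set_option autoImplicit false

namespace Cfsg.Agent.Helper1.SuzH

open Cfsg.Agent.Helper1.SuzT

section ind

variable {F : Type*} [Field F]

theorem ind4 (f₁ f₂ f₃ f₄ : F →* F) (h2 : f₁ ≠ f₂) (h3 : f₁ ≠ f₃) (h4 : f₁ ≠ f₄)
    (h : ∀ s, f₁ s + f₂ s + f₃ s + f₄ s = 0) : False := by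
  classical
  have hli := linearIndependent_monoidHom F F
  rw [linearIndependent_iff'] at hli
  let S : Finset (F →* F) := {f₁, f₂, f₃, f₄}
  let g : (F →* F) → F := fun f => (if f = f₁ then 1 else 0) + (if f = f₂ then 1 else 0) +
    (if f = f₃ then 1 else 0) + (if f = f₄ then 1 else 0)
  have hsum : ∑ f ∈ S, g f • (f : F → F) = 0 := by
    ext x
    simp only [Finset.sum_apply, Pi.smul_apply, smul_eq_mul, Pi.zero_apply, g, add_mul,
      Finset.sum_add_distrib, ite_mul, one_mul, zero_mul]
    rw [Finset.sum_ite_eq', Finset.sum_ite_eq', Finset.sum_ite_eq', Finset.sum_ite_eq']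
    simp only [S, Finset.mem_insert, Finset.mem_singleton, true_or, or_true, if_true]
    exact h x
  have h1 := hli S g hsum f₁ (by simp [S])
  have h2' : f₂ ≠ f₁ := fun e => h2 e.symm
  have h3' : f₃ ≠ f₁ := fun e => h3 e.symm
  have h4' : f₄ ≠ f₁ := fun e => h4 e.symm
  simp only [g, if_true, if_neg h2, if_neg h3, if_neg h4, add_zero] at h1
  exact one_ne_zero h1

/-- If `α β = γ δ` pointwise for ring endomorphisms of a field of characteristic two, then
`{α, β} = {γ, δ}`. -/
theorem two_prod [CharP F 2] (α β γ δ : F →+* F) (h : ∀ t, α t * β t = γ t * δ t) :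
    (α = γ ∧ β = δ) ∨ (α = δ ∧ β = γ) := by
  have hP : ∀ s, α s + β s = γ s + δ s := by
    intro s
    have h1 := h (s + 1)
    have h2 := h s
    simp only [map_add, map_one] at h1
    linear_combination h1 - h2
  by_cases hag : α = γ
  · left
    refine ⟨hag, ?_⟩
    subst hag
    ext t
    have := hP t
    exact add_left_cancel this
  by_cases had : α = δ
  · right
    refine ⟨had, ?_⟩
    subst had
    ext t
    have := hP t
    rw [add_comm (γ t)] at this
    exact add_left_cancel this
  by_cases hab : α = β
  · -- then γ = δ and α² = γ²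
    subst hab
    have hgd : γ = δ := by
      ext t
      have := hP t
      rw [CharTwo.add_self_eq_zero] at this
      exact (CharTwo.add_eq_zero.mp this.symm)
    subst hgd
    exfalso
    apply hag
    ext t
    have h1 := h t
    have : (α t + γ t) * (α t + γ t) = 0 := by
      have e : (α t + γ t) * (α t + γ t) = α t * α t + γ t * γ t + (α t * γ t + α t * γ t) := by ring
      rw [e, CharTwo.add_self_eq_zero, add_zero, h1, CharTwo.add_self_eq_zero]
    have := mul_self_eq_zero.mp this
    exact CharTwo.add_eq_zero.mp this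
  · exfalso
    apply ind4 (α : F →* F) (β : F →* F) (γ : F →* F) (δ : F →* F)
    · intro e; apply hab; ext t; exact DFunLike.congr_fun e t
    · intro e; apply hag; ext t; exact DFunLike.congr_fun e t
    · intro e; apply had; ext t; exact DFunLike.congr_fun e t
    · intro s
      have := hP s
      show α s + β s + γ s + δ s = 0
      rw [add_assoc, ← this, CharTwo.add_self_eq_zero]

end ind

section fourier

variable {F : Type*} [Field F] [Fintype F] [DecidableEq F]

/-- The `m`-th Fourier component of a function on `F`. -/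
def fo (f : F → F) (m : ℕ) (x : F) : F :=
  ∑ u : Fˣ, ((u⁻¹ : Fˣ) : F) ^ (m + 1) * f (u * x)

theorem fo_eq_four (f : F → F) (m : ℕ) (x : F) : fo f m x = four (fun x _ => f x) m x 0 := rfl

theorem sum_fo [CharP F 2] (f : F → F) (x : F) :
    ∑ m ∈ Finset.range (Fintype.card Fˣ), fo f m x = f x := by
  simp only [fo_eq_four]
  exact sum_four (fun x _ => f x) x 0

theorem fo_add (f : F → F) (hf : ∀ x x', f (x + x') = f x + f x') (m : ℕ) (x x' : F) :
    fo f m (x + x') = fo f m x + fo f m x' := by
  simp only [fo_eq_four]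
  exact four_add_left (fun x _ => f x) (fun x x' _ => hf x x') m x x' 0

theorem fo_smul (f : F → F) (m : ℕ) (t x : F) (ht : t ≠ 0) :
    fo f m (t * x) = t ^ (m + 1) * fo f m x := by
  simp only [fo_eq_four]
  exact four_smul_left (fun x _ => f x) m t x 0 ht

theorem fo_zero (f : F → F) (hf : f 0 = 0) (m : ℕ) : fo f m 0 = 0 := by
  unfold fo
  apply Finset.sum_eq_zero
  intro u _
  rw [mul_zero, hf, mul_zero]

theorem fo_eq (f : F → F) (hf : f 0 = 0) (m : ℕ) (x : F) : fo f m x = x ^ (m + 1) * fo f m 1 := by
  by_cases hx : x = 0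
  · rw [hx, fo_zero f hf, zero_pow (by omega), zero_mul]
  · have := fo_smul f m x 1 hx
    rwa [mul_one] at this

theorem fo_congr (f f' : F → F) (h : ∀ x, f x = f' x) (m : ℕ) (x : F) : fo f m x = fo f' m x := by
  unfold fo
  apply Finset.sum_congr rfl
  intro u _
  rw [h]

theorem fo_add_fun (f f' : F → F) (m : ℕ) (x : F) :
    fo (fun y => f y + f' y) m x = fo f m x + fo f' m x := by
  unfold fo
  rw [← Finset.sum_add_distrib]
  apply Finset.sum_congr rfl
  intro u _
  ring

theorem fo_scale (f : F → F) (c d : F) (m : ℕ) (x : F) :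
    fo (fun y => c * f (d * y)) m x = c * fo f m (d * x) := by
  unfold fo
  rw [Finset.mul_sum]
  apply Finset.sum_congr rfl
  intro u _
  have : d * ((u : F) * x) = (u : F) * (d * x) := by ring
  show _ * (c * f (d * ((u : F) * x))) = _
  rw [this]
  ring

end fourier

end Cfsg.Agent.Helper1.SuzH
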