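import Mathlib
import Cfsg.Agent.Helper1.SuzHA

/-!
# The key injectivity lemma for equivariant biadditive maps (abstract form)
-/

set_option autoImplicit false

namespace Cfsg.Agent.Helper1.SuzH

open Cfsg.Agent.Helper1.SuzT

variable {F : Type*} [Field F] [Fintype F] [DecidableEq F] [CharP F 2]
variable {W : Type*} [Group W]

/-- The hypotheses of the injectivity lemma. -/
structure BiData (g : W → W) (L : W → F → F) (c : F) (Q : Subgroup W) : Prop where
  c0 : c ≠ 0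
  prim : ∀ t : F, t ≠ 0 → ∃ i : ℕ, c ^ i = t
  L1 : ∀ a a' x, L (a * a') x = L a x + L a' x
  L2 : ∀ a x x', L a (x + x') = L a x + L a x'
  Lg : ∀ a x, L (g a) (c * x) = c * L a x
  Qg : ∀ a ∈ Q, g a ∈ Q
  irr : ∀ W' : Subgroup W, W' ≤ Q → (∀ a ∈ W', g a ∈ W') →
      (∀ a ∈ Q, (∀ x, L a x = 0) → a ∈ W') → (∀ a ∈ W', ∀ x, L a x = 0) ∨ W' = Q
  free : ∀ a ∈ Q, ∀ i : ℕ, (∀ x, L (g^[i] a) x = L a x) → (∃ x, L a x ≠ 0) → c ^ i = 1

/-- The Fourier coefficient. -/
def coef (L : W → F → F) (m : ℕ) (a : W) : F := fo (L a) m 1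

/-- The multiplier of the `m`-th coefficient. -/
def rr (c : F) (m : ℕ) : F := c * (c⁻¹) ^ (m + 1)

namespace BiData

variable {g : W → W} {L : W → F → F} {c : F} {Q : Subgroup W}

theorem L_zero (h : BiData g L c Q) (a : W) : L a 0 = 0 := by
  have := h.L2 a 0 0
  rw [add_zero] at this
  exact left_eq_add.mp this

theorem L_one (h : BiData g L c Q) (x : F) : L 1 x = 0 := by
  have := h.L1 1 1 x
  rw [mul_one] at this
  exact left_eq_add.mp this

theorem L_inv (h : BiData g L c Q) (a : W) (x : F) : L a⁻¹ x = L a x := by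
  have := h.L1 a a⁻¹ x
  rw [mul_inv_cancel, h.L_one] at this
  exact (CharTwo.add_eq_zero.mp this.symm).symm

theorem L_div (h : BiData g L c Q) (a b : W) (x : F) : L (a * b⁻¹) x = L a x + L b x := by
  rw [h.L1, h.L_inv]

theorem fo_L (h : BiData g L c Q) (a : W) (m : ℕ) (x : F) :
    fo (L a) m x = x ^ (m + 1) * coef L m a :=
  fo_eq (L a) (h.L_zero a) m x

theorem L_expand (h : BiData g L c Q) (a : W) (x : F) :
    L a x = ∑ m ∈ Finset.range (Fintype.card Fˣ), x ^ (m + 1) * coef L m a := by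
  rw [← sum_fo (L a) x]
  apply Finset.sum_congr rfl
  intro m _
  exact h.fo_L a m x

theorem coef_eq_zero_of_L (a : W) (ha : ∀ x, L a x = 0) (m : ℕ) : coef L m a = 0 := by
  unfold coef fo
  apply Finset.sum_eq_zero
  intro u _
  rw [ha, mul_zero]

theorem coef_mul (h : BiData g L c Q) (m : ℕ) (a a' : W) :
    coef L m (a * a') = coef L m a + coef L m a' := by
  unfold coef
  rw [← fo_add_fun]
  exact fo_congr _ _ (fun x => h.L1 a a' x) m 1

theorem coef_one (h : BiData g L c Q) (m : ℕ) : coef L m (1 : W) = 0 :=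
  coef_eq_zero_of_L 1 (fun x => h.L_one x) m

theorem coef_inv (h : BiData g L c Q) (m : ℕ) (a : W) : coef L m a⁻¹ = coef L m a := by
  unfold coef
  exact fo_congr _ _ (fun x => h.L_inv a x) m 1

theorem coef_div (h : BiData g L c Q) (m : ℕ) (a b : W) :
    coef L m (a * b⁻¹) = coef L m a + coef L m b := by
  rw [h.coef_mul, h.coef_inv]

theorem Lg' (h : BiData g L c Q) (a : W) (x : F) : L (g a) x = c * L a (c⁻¹ * x) := by
  have := h.Lg a (c⁻¹ * x)
  rwa [← mul_assoc, mul_inv_cancel₀ h.c0, one_mul] at this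

theorem coef_g (h : BiData g L c Q) (m : ℕ) (a : W) : coef L m (g a) = rr c m * coef L m a := by
  unfold coef rr
  rw [fo_congr (L (g a)) (fun y => c * L a (c⁻¹ * y)) (fun x => h.Lg' a x) m 1, fo_scale,
    h.fo_L a m (c⁻¹ * 1), mul_one]
  unfold coef
  ring

theorem coef_iter (h : BiData g L c Q) (m : ℕ) (i : ℕ) (a : W) :
    coef L m (g^[i] a) = rr c m ^ i * coef L m a := by
  induction i with
  | zero => simp
  | succ n ih => rw [Function.iterate_succ_apply', h.coef_g, ih, pow_succ]; ring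

theorem iter_mem (h : BiData g L c Q) (i : ℕ) {a : W} (ha : a ∈ Q) : g^[i] a ∈ Q := by
  induction i with
  | zero => simpa using ha
  | succ n ih => rw [Function.iterate_succ_apply']; exact h.Qg _ ih

theorem L_iter (h : BiData g L c Q) (i : ℕ) (a : W) (x : F) :
    L (g^[i] a) x = c ^ i * L a ((c⁻¹) ^ i * x) := by
  induction i generalizing x with
  | zero => simp
  | succ n ih =>
    rw [Function.iterate_succ_apply', h.Lg', ih, pow_succ, pow_succ]
    have : c⁻¹ ^ n * (c⁻¹ * x) = c⁻¹ ^ n * c⁻¹ * x := by ring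
    rw [this]; ring

theorem rr_ne_zero (h : BiData g L c Q) (m : ℕ) : rr c m ≠ 0 := by
  unfold rr
  exact mul_ne_zero h.c0 (pow_ne_zero _ (inv_ne_zero h.c0))

section main

variable (h : BiData g L c Q) {a₀ : W} (ha₀ : a₀ ∈ Q) {m : ℕ} (hm : coef L m a₀ ≠ 0)

include h ha₀ hm

/-- (8) the kernel of a nonzero coefficient is the kernel of `L`. -/
theorem ker_coef {a : W} (ha : a ∈ Q) (h0 : coef L m a = 0) : ∀ x, L a x = 0 := by
  let W' : Subgroup W :=
    { carrier := {a | a ∈ Q ∧ coef L m a = 0}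
      mul_mem' := by
        rintro a b ⟨ha, ha0⟩ ⟨hb, hb0⟩
        exact ⟨Q.mul_mem ha hb, by rw [h.coef_mul, ha0, hb0, add_zero]⟩
      one_mem' := ⟨Q.one_mem, h.coef_one m⟩
      inv_mem' := by
        rintro a ⟨ha, ha0⟩
        exact ⟨Q.inv_mem ha, by rw [h.coef_inv, ha0]⟩ }
  have h1 : W' ≤ Q := fun a ha => ha.1
  have h2 : ∀ a ∈ W', g a ∈ W' := by
    rintro a ⟨ha, ha0⟩
    exact ⟨h.Qg a ha, by rw [h.coef_g, ha0, mul_zero]⟩
  have h3 : ∀ a ∈ Q, (∀ x, L a x = 0) → a ∈ W' := fun a ha hL => ⟨ha, coef_eq_zero_of_L a hL m⟩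
  rcases h.irr W' h1 h2 h3 with h4 | h4
  · exact h4 a ⟨ha, h0⟩
  · exfalso
    have : a₀ ∈ W' := by rw [h4]; exact ha₀
    exact hm this.2

/-- (9) `x ↦ x ^ (m+1)` is additive. -/
theorem pow_additive (x y : F) : (x + y) ^ (m + 1) = x ^ (m + 1) + y ^ (m + 1) := by
  have := fo_add (L a₀) (h.L2 a₀) m x y
  rw [h.fo_L, h.fo_L, h.fo_L, ← add_mul] at this
  exact mul_right_cancel₀ hm this

theorem exists_sigma : ∃ σ : F ≃+* F, ∀ x, σ x = x ^ (m + 1) :=
  exists_ringEquiv_of_map (fun x => x ^ (m + 1)) (pow_additive h ha₀ hm) (fun x y => mul_pow x y _)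
    (one_pow _)

/-- (10') -/
theorem rr_pow_eq_one (i : ℕ) (hi : rr c m ^ i = 1) : c ^ i = 1 := by
  have hmem : g^[i] a₀ * a₀⁻¹ ∈ Q := Q.mul_mem (h.iter_mem i ha₀) (Q.inv_mem ha₀)
  have h0 : coef L m (g^[i] a₀ * a₀⁻¹) = 0 := by
    rw [h.coef_div, h.coef_iter, hi, one_mul, CharTwo.add_self_eq_zero]
  have hL := ker_coef h ha₀ hm hmem h0
  apply h.free a₀ ha₀ i
  · intro x
    have := hL x
    rw [h.L_div] at this
    exact CharTwo.add_eq_zero.mp this
  · by_contra hcon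
    push Not at hcon
    exact hm (coef_eq_zero_of_L a₀ hcon m)

theorem rr_prim (t : F) (ht : t ≠ 0) : ∃ i : ℕ, rr c m ^ i = t := by
  classical
  let γ : Fˣ := Units.mk0 c h.c0
  let ρ : Fˣ := Units.mk0 (rr c m) (h.rr_ne_zero m)
  have hγ : orderOf γ = Nat.card Fˣ := by
    apply orderOf_eq_card_of_forall_mem_powers
    intro u
    obtain ⟨i, hi⟩ := h.prim (u : F) u.ne_zero
    exact ⟨i, Units.ext (by simpa [γ] using hi)⟩
  have hρ : orderOf ρ = Nat.card Fˣ := by
    apply Nat.dvd_antisymm (orderOf_dvd_natCard ρ)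
    rw [← hγ]
    apply orderOf_dvd_of_pow_eq_one
    have h1 : rr c m ^ orderOf ρ = 1 := by
      have := congrArg Units.val (pow_orderOf_eq_one ρ)
      rw [Units.val_pow_eq_pow_val, Units.val_one] at this
      exact this
    have h2 := rr_pow_eq_one h ha₀ hm _ h1
    exact Units.ext (by simpa [γ] using h2)
  have htop : Subgroup.zpowers ρ = ⊤ := by
    apply Subgroup.eq_top_of_card_eq
    rw [Nat.card_zpowers, hρ]
  have hmem : Units.mk0 t ht ∈ Subgroup.zpowers ρ := by rw [htop]; exact Subgroup.mem_top _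
  have := (mem_powers_iff_mem_zpowers (x := ρ) (y := Units.mk0 t ht)).mpr hmem
  obtain ⟨i, hi⟩ := (Submonoid.mem_powers_iff _ _).mp this
  refine ⟨i, ?_⟩
  have := congrArg Units.val hi
  simpa [ρ] using this

/-- (c1) transitivity. -/
theorem trans {a : W} (ha : a ∈ Q) (hne : ∃ x, L a x ≠ 0) :
    ∃ i : ℕ, ∀ x, L (g^[i] a₀) x = L a x := by
  have hca : coef L m a ≠ 0 := by
    intro h0
    obtain ⟨x, hx⟩ := hne
    exact hx (ker_coef h ha₀ hm ha h0 x)
  obtain ⟨i, hi⟩ := rr_prim h ha₀ hm (coef L m a * (coef L m a₀)⁻¹) (mul_ne_zero hca (inv_ne_zero hm))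
  refine ⟨i, ?_⟩
  have hmem : g^[i] a₀ * a⁻¹ ∈ Q := Q.mul_mem (h.iter_mem i ha₀) (Q.inv_mem ha)
  have h0 : coef L m (g^[i] a₀ * a⁻¹) = 0 := by
    rw [h.coef_div, h.coef_iter, hi, mul_assoc, inv_mul_cancel₀ hm, mul_one, CharTwo.add_self_eq_zero]
  intro x
  have := ker_coef h ha₀ hm hmem h0 x
  rw [h.L_div] at this
  exact CharTwo.add_eq_zero.mp this

theorem exists_sec (s : F) : ∃ a ∈ Q, coef L m a = s := by
  by_cases hs : s = 0
  · exact ⟨1, Q.one_mem, by rw [hs, h.coef_one]⟩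
  · obtain ⟨i, hi⟩ := rr_prim h ha₀ hm (s * (coef L m a₀)⁻¹) (mul_ne_zero hs (inv_ne_zero hm))
    refine ⟨g^[i] a₀, h.iter_mem i ha₀, ?_⟩
    rw [h.coef_iter, hi, mul_assoc, inv_mul_cancel₀ hm, mul_one]

end main


theorem pow_inj_of_prim (h : BiData g L c Q) {i j : ℕ} (hi : i < Fintype.card Fˣ)
    (hj : j < Fintype.card Fˣ) (hij : c ^ (i + 1) = c ^ (j + 1)) : i = j := by
  let γ : Fˣ := Units.mk0 c h.c0
  have hγ : orderOf γ = Fintype.card Fˣ := by
    rw [← Nat.card_eq_fintype_card]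
    apply orderOf_eq_card_of_forall_mem_powers
    intro u
    obtain ⟨i, hi⟩ := h.prim (u : F) u.ne_zero
    exact ⟨i, Units.ext (by simpa [γ] using hi)⟩
  have h1 : γ ^ (i + 1) = γ ^ (j + 1) := Units.ext (by simpa [γ] using hij)
  rw [pow_eq_pow_iff_modEq, hγ] at h1
  have h2 : i ≡ j [MOD Fintype.card Fˣ] := Nat.ModEq.add_right_cancel' 1 h1
  exact Nat.ModEq.eq_of_lt_of_lt h2 hi hj

section uniq

variable (h : BiData g L c Q) {a₀ : W} (ha₀ : a₀ ∈ Q) {m m' : ℕ} (hm : coef L m a₀ ≠ 0)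
  (hm' : coef L m' a₀ ≠ 0)

include h ha₀ hm hm'

theorem uniq_aux : ∃ τ : F ≃+* F, τ (rr c m) = rr c m' := by
  classical
  choose sec hsecQ hsec using exists_sec h ha₀ hm
  let f : F → F := fun s => coef L m' (sec s)
  have hf_spec : ∀ a ∈ Q, f (coef L m a) = coef L m' a := by
    intro a ha
    have hmem : a * (sec (coef L m a))⁻¹ ∈ Q := Q.mul_mem ha (Q.inv_mem (hsecQ _))
    have h0 : coef L m (a * (sec (coef L m a))⁻¹) = 0 := by
      rw [h.coef_div, hsec, CharTwo.add_self_eq_zero]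
    have hL := ker_coef h ha₀ hm hmem h0
    have := coef_eq_zero_of_L _ hL m'
    rw [h.coef_div] at this
    exact (CharTwo.add_eq_zero.mp this).symm
  have hfadd : ∀ s t, f (s + t) = f s + f t := by
    intro s t
    have := hf_spec (sec s * sec t) (Q.mul_mem (hsecQ s) (hsecQ t))
    rw [h.coef_mul, hsec, hsec, h.coef_mul] at this
    exact this
  have hfr : ∀ (i : ℕ) s, f (rr c m ^ i * s) = rr c m' ^ i * f s := by
    intro i s
    have := hf_spec (g^[i] (sec s)) (h.iter_mem i (hsecQ s))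
    rw [h.coef_iter, hsec, h.coef_iter] at this
    exact this
  have hfne : f (coef L m a₀) ≠ 0 := by rw [hf_spec a₀ ha₀]; exact hm'
  have hprim := rr_prim h ha₀ hm
  let w : F → F := fun t => if ht : t = 0 then 0 else rr c m' ^ (Classical.choose (hprim t ht))
  have hw0 : w 0 = 0 := by simp [w]
  have hw : ∀ i : ℕ, w (rr c m ^ i) = rr c m' ^ i := by
    intro i
    have hne : rr c m ^ i ≠ 0 := pow_ne_zero _ (h.rr_ne_zero m)
    simp only [w, dif_neg hne]
    have hj := Classical.choose_spec (hprim _ hne)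
    have e1 := hfr (Classical.choose (hprim _ hne)) (coef L m a₀)
    have e2 := hfr i (coef L m a₀)
    rw [hj, e2] at e1
    exact (mul_right_cancel₀ hfne e1).symm
  have hwmul : ∀ x y, w (x * y) = w x * w y := by
    intro x y
    by_cases hx : x = 0
    · rw [hx, zero_mul, hw0, zero_mul]
    by_cases hy : y = 0
    · rw [hy, mul_zero, hw0, mul_zero]
    obtain ⟨i, rfl⟩ := hprim x hx
    obtain ⟨j, rfl⟩ := hprim y hy
    rw [← pow_add, hw, hw, hw, pow_add]
  have hf : ∀ t x, t ≠ 0 → f (t * x) = w t * f x := by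
    intro t x ht
    obtain ⟨i, rfl⟩ := hprim t ht
    rw [hw, hfr]
  obtain ⟨τ, hτ⟩ := exists_ringEquiv_of_weight w f hw0 hwmul hfadd ⟨_, hfne⟩ hf
  refine ⟨τ, ?_⟩
  rw [hτ]
  have := hw 1
  rwa [pow_one, pow_one] at this

theorem uniq (hmN : m < Fintype.card Fˣ) (hm'N : m' < Fintype.card Fˣ) : m = m' := by
  obtain ⟨τ, hτ⟩ := uniq_aux h ha₀ hm hm'
  obtain ⟨σ, hσ⟩ := exists_sigma h ha₀ hm
  obtain ⟨σ', hσ'⟩ := exists_sigma h ha₀ hm'
  have hN : 0 < Fintype.card Fˣ := Fintype.card_pos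
  have hc : τ c * σ' c = c * τ (σ c) := by
    have e : rr c m = c * (σ c)⁻¹ := by unfold rr; rw [hσ, inv_pow]
    have e' : rr c m' = c * (σ' c)⁻¹ := by unfold rr; rw [hσ', inv_pow]
    rw [e, e', map_mul, map_inv₀] at hτ
    have h1 : σ c ≠ 0 := (map_ne_zero σ).mpr h.c0
    have h2 : σ' c ≠ 0 := (map_ne_zero σ').mpr h.c0
    have h3 : τ (σ c) ≠ 0 := (map_ne_zero τ).mpr h1
    field_simp at hτ
    linear_combination hτ
  have hall : ∀ t, (τ : F →+* F) t * (σ' : F →+* F) t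
      = (RingHom.id F) t * ((τ : F →+* F).comp (σ : F →+* F)) t := by
    intro t
    by_cases ht : t = 0
    · simp [ht]
    · obtain ⟨i, rfl⟩ := h.prim t ht
      simp only [RingHom.coe_coe, RingHom.id_apply, RingHom.comp_apply, map_pow]
      rw [← mul_pow, ← mul_pow, hc]
  rcases two_prod _ _ _ _ hall with ⟨h1, h2⟩ | ⟨h1, h2⟩
  · have e1 : σ' c = σ c := by
      have e2 := DFunLike.congr_fun h2 c
      have e3 := DFunLike.congr_fun h1 (σ c)
      simp only [RingHom.coe_coe, RingHom.comp_apply, RingHom.id_apply] at e2 e3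
      rw [e2, e3]
    rw [hσ, hσ'] at e1
    exact (h.pow_inj_of_prim hm'N hmN e1).symm
  · have e1 : σ c = c := by
      have e2 := DFunLike.congr_fun h1 c
      simp only [RingHom.coe_coe, RingHom.comp_apply] at e2
      exact (τ.injective e2).symm
    have e3 : σ' c = c := by
      have e2 := DFunLike.congr_fun h2 c
      simpa using e2
    rw [hσ] at e1
    rw [hσ'] at e3
    have z1 : m = 0 := h.pow_inj_of_prim hmN hN (by rw [e1]; simp)
    have z2 : m' = 0 := h.pow_inj_of_prim hm'N hN (by rw [e3]; simp)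
    rw [z1, z2]

end uniq

/-- **The injectivity lemma.** -/
theorem biinj (h : BiData g L c Q) (hne : ∃ a ∈ Q, ∃ x, L a x ≠ 0) :
    (∀ a ∈ Q, (∃ x, L a x ≠ 0) → ∀ x, x ≠ 0 → L a x ≠ 0) ∧
      ∃ a₀ ∈ Q, (∃ x, L a₀ x ≠ 0) ∧
        ∀ a ∈ Q, (∃ x, L a x ≠ 0) → ∃ i : ℕ, ∀ x, L (g^[i] a₀) x = L a x := by
  obtain ⟨a₀, ha₀, x₀, hx₀⟩ := hne
  have hex : ∃ m ∈ Finset.range (Fintype.card Fˣ), coef L m a₀ ≠ 0 := by
    by_contra hcon
    push Not at hcon
    apply hx₀
    rw [h.L_expand]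
    apply Finset.sum_eq_zero
    intro m hm
    rw [hcon m hm, mul_zero]
  obtain ⟨m, hmr, hm⟩ := hex
  have hmN : m < Fintype.card Fˣ := Finset.mem_range.mp hmr
  refine ⟨?_, a₀, ha₀, ⟨x₀, hx₀⟩, fun a ha hna => trans h ha₀ hm ha hna⟩
  intro a ha hna x hx
  obtain ⟨i, hi⟩ := trans h ha₀ hm ha hna
  rw [← hi, h.L_expand, Finset.sum_eq_single m]
  · rw [h.coef_iter]
    exact mul_ne_zero (pow_ne_zero _ hx) (mul_ne_zero (pow_ne_zero _ (h.rr_ne_zero m)) hm)
  · intro m' hm'r hne'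
    have hm'N : m' < Fintype.card Fˣ := Finset.mem_range.mp hm'r
    have : coef L m' a₀ = 0 := by
      by_contra hcon
      exact hne' (uniq h ha₀ hm hcon hmN hm'N).symm
    rw [h.coef_iter, this, mul_zero, mul_zero]
  · intro hcon; exact absurd hmr hcon


end BiData

end Cfsg.Agent.Helper1.SuzH
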