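import Mathlib
import Cfsg.Agent.Helper1.SuzHD

/-!
# The standing hypothesis for Higman's theorem and its first consequences
-/

set_option autoImplicit false

universe u v

namespace Cfsg.Agent.Helper1.SuzH

open Cfsg.Agent.Helper3.SuzA Cfsg.Agent.Helper1.SuzT

variable {K : Type v} [CommGroup K] {P : Type u} [Group P] [MulDistribMulAction K P]

/-- A nonabelian 2-group with at least two involutions, on which the commutative group `K` acts regularly
on the involutions. -/
structure SH (K : Type v) [CommGroup K] (P : Type u) [Group P] [MulDistribMulAction K P] : Prop where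
  hyp : Hyp K P
  free : ∀ (k : K) (x : P), x ≠ 1 → x * x = 1 → k • x = x → k = 1
  na : ∃ x y : P, x * y ≠ y * x

namespace SH

variable [Finite P]

theorem cen2 (h : SH K P) : ∀ z ∈ Subgroup.center P, z * z = 1 :=
  center_exponent_two (K := K) (Nat.card P) P rfl h.hyp h.na

theorem inv_cen (h : SH K P) (x : P) (hx : x * x = 1) : x ∈ Subgroup.center P :=
  invol_central h.hyp hx

theorem reg (h : SH K P) : Reg K P := by
  refine ⟨h.hyp.pgroup, h.cen2, h.inv_cen, ?_, ?_⟩
  · intro x y hx1 hx2 hy1 hy2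
    obtain ⟨k, hk⟩ := h.hyp.trans x y hx1 hx2 hy1 hy2
    refine ⟨k, hk, ?_⟩
    intro k' hk'
    have : (k⁻¹ * k') • x = x := by
      rw [mul_smul, hk', ← hk, inv_smul_smul]
    have := h.free _ x hx1 hx2 this
    rw [inv_mul_eq_one] at this
    exact this.symm
  · obtain ⟨x, _, _, hx1, hx2, _, _⟩ := h.hyp.two
    exact ⟨x, hx1, hx2⟩

theorem fpf (h : SH K P) {k : K} (hk : k ≠ 1) {p : P} (hp : k • p = p) : p = 1 :=
  h.reg.fpf hk hp

theorem finite_K (h : SH K P) : Finite K := h.reg.finite_K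

theorem exists_ne_one (h : SH K P) : ∃ k : K, k ≠ 1 := by
  obtain ⟨x, y, hxy, hx1, hx2, hy1, hy2⟩ := h.hyp.two
  obtain ⟨k, hk⟩ := h.hyp.trans x y hx1 hx2 hy1 hy2
  refine ⟨k, ?_⟩
  rintro rfl
  rw [one_smul] at hk
  exact hxy hk

theorem twist_inj (h : SH K P) {k : K} (hk : k ≠ 1) {x y : P} (hxy : x⁻¹ * k • x = y⁻¹ * k • y) :
    x = y := by
  have h1 : k • (y * x⁻¹) = y * x⁻¹ := by
    rw [smul_mul', smul_inv']
    have : k • y = y * (x⁻¹ * k • x) := by rw [hxy]; group
    rw [this]; group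
  have := h.fpf hk h1
  rw [mul_inv_eq_one] at this
  exact this.symm

/-- fixed-point-freeness on sections -/
theorem fpf_sub (h : SH K P) {N : Subgroup P} (hN : KInv K N) {k : K} (hk : k ≠ 1) {x : P}
    (hx : x⁻¹ * k • x ∈ N) : x ∈ N := by
  let ν : N → N := fun n => ⟨(n : P)⁻¹ * k • (n : P), N.mul_mem (N.inv_mem n.2) (hN k _ n.2)⟩
  have hinj : Function.Injective ν := by
    intro a b hab
    exact Subtype.ext (h.twist_inj hk (congrArg Subtype.val hab))
  have hsurj : Function.Surjective ν := Finite.surjective_of_injective hinj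
  obtain ⟨n, hn⟩ := hsurj ⟨_, hx⟩
  have : (n : P) = x := h.twist_inj hk (congrArg Subtype.val hn)
  rw [← this]; exact n.2

/-- every nontrivial `K`-invariant subgroup contains the centre -/
theorem center_le (h : SH K P) {N : Subgroup P} (hN : KInv K N) {x : P} (hx : x ∈ N) (hx1 : x ≠ 1) :
    Subgroup.center P ≤ N := by
  obtain ⟨n, hn1, hn2⟩ := exists_invol_pow h.hyp.pgroup hx1
  intro z hz
  by_cases hz1 : z = 1
  · rw [hz1]; exact N.one_mem
  obtain ⟨k, hk⟩ := h.hyp.trans (x ^ n) z hn1 hn2 hz1 (h.cen2 z hz)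
  rw [← hk]
  exact hN k _ (N.pow_mem hx n)

/-- an injective map from `K` to the involutions is onto -/
theorem surj_of_inj (h : SH K P) (f : K → P) (hf : ∀ k, f k ∈ Subgroup.center P ∧ f k ≠ 1)
    (hinj : Function.Injective f) : ∀ z ∈ Subgroup.center P, z ≠ 1 → ∃ k, f k = z := by
  classical
  haveI := h.finite_K
  haveI : Fintype K := Fintype.ofFinite K
  haveI : Fintype (Subgroup.center P) := Fintype.ofFinite _
  let f' : K → {z : Subgroup.center P // z ≠ 1} := fun k =>
    ⟨⟨f k, (hf k).1⟩, fun hh => (hf k).2 (congrArg Subtype.val hh)⟩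
  have hinj' : Function.Injective f' := by
    intro a b hab
    apply hinj
    exact congrArg (fun x => ((x.1 : Subgroup.center P) : P)) hab
  have hcard : Fintype.card K = Fintype.card {z : Subgroup.center P // z ≠ 1} := by
    have := h.reg.card_K
    rw [Nat.card_eq_fintype_card, Nat.card_eq_fintype_card] at this
    rw [Fintype.card_subtype_compl, Fintype.card_subtype_eq]
    omega
  have hbij := (Fintype.bijective_iff_injective_and_card f').mpr ⟨hinj', hcard⟩
  intro z hz hz1
  obtain ⟨k, hk⟩ := hbij.2 ⟨⟨z, hz⟩, fun hh => hz1 (congrArg Subtype.val hh)⟩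
  exact ⟨k, congrArg (fun x => ((x.1 : Subgroup.center P) : P)) hk⟩

/-- a `K`-invariant subgroup of index at most two is everything -/
theorem eq_top_of_index_two (h : SH K P) {N : Subgroup P} (hN : KInv K N)
    (h2 : ∀ b b' : P, b ∉ N → b' ∉ N → b⁻¹ * b' ∈ N) : N = ⊤ := by
  by_contra hne
  obtain ⟨b, hb⟩ : ∃ b : P, b ∉ N := by
    by_contra hcon
    push Not at hcon
    exact hne ((Subgroup.eq_top_iff' N).mpr hcon)
  obtain ⟨k, hk⟩ := h.exists_ne_one
  have hkb : k • b ∉ N := fun hh => hb ((hN.mem_iff k).mp hh)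
  exact hb (h.fpf_sub hN hk (h2 b _ hb hkb))

/-- a `K`-invariant subgroup with a central element outside `Z(P)` is abelian -/
theorem abelian_of_central (h : SH K P) {S : Subgroup P} (hS : KInv K S) {y : P} (hyS : y ∈ S)
    (hyc : ∀ s ∈ S, s * y = y * s) (hyZ : y ∉ Subgroup.center P) :
    ∀ s ∈ S, ∀ t ∈ S, s * t = t * s := by
  by_contra hcon
  push Not at hcon
  obtain ⟨s, hs, t, ht, hst⟩ := hcon
  have hy1 : y ≠ 1 := by
    rintro rfl; exact hyZ (Subgroup.one_mem _)
  have hZS : Z0 P ≤ S := fun z hz => h.center_le hS hyS hy1 (Z0_le_center hz)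
  have hSna : ∃ a b : S, a * b ≠ b * a :=
    ⟨⟨s, hs⟩, ⟨t, ht⟩, fun e => hst (congrArg Subtype.val e)⟩
  have := @center_exponent_two K _ (Nat.card S) S _ _ (subAct S hS) rfl
    (hyp_sub h.hyp S hS hZS) hSna ⟨y, hyS⟩ (by
      rw [Subgroup.mem_center_iff]
      intro g
      exact Subtype.ext (hyc g g.2))
  exact hyZ (h.inv_cen y (congrArg Subtype.val this))

end SH

end Cfsg.Agent.Helper1.SuzH
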