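import Mathlib
import Cfsg.Agent.Helper1.SuzHE

/-!
# The second and third centres of a Suzuki 2-group
-/

set_option autoImplicit false

universe u v

namespace Cfsg.Agent.Helper1.SuzH

open Cfsg.Agent.Helper3.SuzA Cfsg.Agent.Helper1.SuzT

section defs

variable (P : Type u) [Group P]

/-- the second centre -/
def Z2 : Subgroup P := ucs (Subgroup.center P)

instance Z2_normal : (Z2 P).Normal := ucs_normal _

/-- the third centre -/
def Z3 : Subgroup P := ucs (Z2 P)

instance Z3_normal : (Z3 P).Normal := ucs_normal _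

/-- the centraliser of the second centre -/
def CZ2 : Subgroup P := Subgroup.centralizer (Z2 P : Set P)

instance CZ2_normal : (CZ2 P).Normal := Subgroup.normal_centralizer

end defs

section facts

variable {P : Type u} [Group P]

theorem center_le_Z2 : Subgroup.center P ≤ Z2 P := le_ucs _

theorem Z2_le_Z3 : Z2 P ≤ Z3 P := le_ucs _

theorem mem_Z2 {y : P} : y ∈ Z2 P ↔ ∀ b, cm y b ∈ Subgroup.center P := Iff.rfl

theorem mem_Z3 {a : P} : a ∈ Z3 P ↔ ∀ b, cm a b ∈ Z2 P := Iff.rfl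

theorem mem_CZ2 {d : P} : d ∈ CZ2 P ↔ ∀ y ∈ Z2 P, y * d = d * y := Subgroup.mem_centralizer_iff

theorem cm_Z2_right {y : P} (hy : y ∈ Z2 P) (b b' : P) : cm y (b * b') = cm y b * cm y b' :=
  cm_mul_right (hy b)

theorem cm_Z2_left {y : P} (hy : y ∈ Z2 P) (y' b : P) : cm (y * y') b = cm y b * cm y' b :=
  cm_mul_left (hy b)

variable (hZ2 : ∀ z ∈ Subgroup.center P, z * z = 1)

include hZ2

theorem central_inv {z : P} (hz : z ∈ Subgroup.center P) : z⁻¹ = z :=
  inv_eq_of_mul_eq_one_left (hZ2 z hz)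

theorem Z2_sq {y : P} (hy : y ∈ Z2 P) : y * y ∈ Subgroup.center P := by
  rw [Subgroup.mem_center_iff]
  intro b
  have h1 := conj_sq_of_cm_central (hy b)
  rw [hZ2 _ (hy b), mul_one] at h1
  calc b * (y * y) = b * (b⁻¹ * (y * y) * b) := by rw [h1]
    _ = y * y * b := by group

theorem cm_Z2_inv_right {y : P} (hy : y ∈ Z2 P) (b : P) : cm y b⁻¹ = cm y b := by
  have h1 := cm_Z2_right hy b b⁻¹
  rw [mul_inv_cancel, cm_one_right] at h1
  have : cm y b⁻¹ = (cm y b)⁻¹ := eq_inv_of_mul_eq_one_right h1.symm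
  rw [this, central_inv hZ2 (hy b)]

theorem cm_Z2_cm {y : P} (hy : y ∈ Z2 P) (b b' : P) : cm y (cm b b') = 1 := by
  have e : cm b b' = b⁻¹ * b'⁻¹ * b * b' := rfl
  rw [e, cm_Z2_right hy, cm_Z2_right hy, cm_Z2_right hy, cm_Z2_inv_right hZ2 hy, cm_Z2_inv_right hZ2 hy]
  have hc := Subgroup.mem_center_iff.mp (hy b')
  calc cm y b * cm y b' * cm y b * cm y b' = cm y b * (cm y b' * cm y b) * cm y b' := by group
    _ = cm y b * (cm y b * cm y b') * cm y b' := by rw [hc (cm y b)]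
    _ = (cm y b * cm y b) * (cm y b' * cm y b') := by group
    _ = 1 := by rw [hZ2 _ (hy b), hZ2 _ (hy b'), one_mul]

theorem Z3_sq {a : P} (ha : a ∈ Z3 P) : a * a ∈ Z2 P := by
  intro b
  rw [cm_mul_left', conj_eq_mul_cm]
  have hc : cm a b ∈ Z2 P := ha b
  have hz : cm (cm a b) a ∈ Subgroup.center P := hc a
  have hzc := Subgroup.mem_center_iff.mp hz
  have : cm a b * cm (cm a b) a * cm a b = (cm a b * cm a b) * cm (cm a b) a := by
    calc cm a b * cm (cm a b) a * cm a b = cm a b * (cm (cm a b) a * cm a b) := by group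
      _ = cm a b * (cm a b * cm (cm a b) a) := by rw [hzc (cm a b)]
      _ = (cm a b * cm a b) * cm (cm a b) a := by group
  rw [this]
  exact Subgroup.mul_mem _ (Z2_sq hZ2 hc) hz

omit hZ2 in
theorem cm_Z3_left {a : P} (ha : a ∈ Z3 P) (a' b : P) :
    ∃ z ∈ Subgroup.center P, cm (a * a') b = cm a b * cm a' b * z := by
  have hc : cm a b ∈ Z2 P := ha b
  refine ⟨cm (cm a b) a', hc a', ?_⟩
  rw [cm_mul_left', conj_eq_mul_cm]
  have hzc := Subgroup.mem_center_iff.mp (hc a')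
  calc cm a b * cm (cm a b) a' * cm a' b = cm a b * (cm (cm a b) a' * cm a' b) := by group
    _ = cm a b * (cm a' b * cm (cm a b) a') := by rw [hzc (cm a' b)]
    _ = cm a b * cm a' b * cm (cm a b) a' := by group

omit hZ2 in
theorem cm_Z3_right {a : P} (ha : a ∈ Z3 P) (b b' : P) :
    ∃ z ∈ Subgroup.center P, cm a (b * b') = cm a b * cm a b' * z := by
  have hc : cm a b ∈ Z2 P := ha b
  have hc' : cm a b' ∈ Z2 P := ha b'
  -- cm a (b b') = cm a b' * (b'⁻¹ * c * b') = cm a b' * c * z₁ = c * cm a b' * z₂ * z₁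
  refine ⟨cm (cm a b') (cm a b) * cm (cm a b) b', Subgroup.mul_mem _ (hc' _) (hc _), ?_⟩
  rw [cm_mul_right', conj_eq_mul_cm]
  have e : cm a b' * cm a b = cm a b * cm a b' * cm (cm a b') (cm a b) := by
    unfold cm; group
  calc cm a b' * (cm a b * cm (cm a b) b') = (cm a b' * cm a b) * cm (cm a b) b' := by group
    _ = cm a b * cm a b' * cm (cm a b') (cm a b) * cm (cm a b) b' := by rw [e]
    _ = cm a b * cm a b' * (cm (cm a b') (cm a b) * cm (cm a b) b') := by group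

theorem cm_Z3_inv_right {a : P} (ha : a ∈ Z3 P) (b : P) :
    ∃ z ∈ Subgroup.center P, cm a b⁻¹ = (cm a b)⁻¹ * z := by
  obtain ⟨z, hz, he⟩ := cm_Z3_right ha b b⁻¹
  rw [mul_inv_cancel, cm_one_right] at he
  refine ⟨z, hz, ?_⟩
  have hzc := Subgroup.mem_center_iff.mp hz
  have h1 : cm a b * (cm a b⁻¹ * z) = 1 := by rw [he]; group
  have h2 : cm a b⁻¹ * z = (cm a b)⁻¹ := eq_inv_of_mul_eq_one_right h1
  have h3 : cm a b⁻¹ = (cm a b)⁻¹ * z⁻¹ := by rw [← h2]; group
  rw [h3, central_inv hZ2 hz]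

theorem sq_mem_CZ2 (d : P) : d * d ∈ CZ2 P := by
  rw [mem_CZ2]
  intro y hy
  have h1 := cm_Z2_right hy d d
  rw [hZ2 _ (hy d)] at h1
  exact cm_eq_one_iff.mp h1

end facts

end Cfsg.Agent.Helper1.SuzH
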