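import Mathlib
import Cfsg.Agent.Helper1.SuzHF

/-!
# A Suzuki 2-group of class at least three: structure of the second centre; the inversion lemma
-/

set_option autoImplicit false

universe u v

namespace Cfsg.Agent.Helper1.SuzH

open Cfsg.Agent.Helper3.SuzA Cfsg.Agent.Helper1.SuzT

variable {K : Type v} [CommGroup K] {P : Type u} [Group P] [MulDistribMulAction K P] [Finite P]

theorem kinv_Z2 : KInv K (Z2 P) := kinv_center.ucs

theorem kinv_Z3 : KInv K (Z3 P) := (kinv_Z2 (K := K)).ucs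

theorem kinv_CZ2 : KInv K (CZ2 P) := (kinv_Z2 (K := K)).centralizer

section cls3

variable (h : SH K P) (h3 : ¬ Z3 P ≤ Z2 P)

include h h3

theorem Z2_comm : ∀ y ∈ Z2 P, ∀ y' ∈ Z2 P, y * y' = y' * y := by
  by_contra hcon
  push Not at hcon
  obtain ⟨s, hs, t, ht, hst⟩ := hcon
  apply h3
  intro a ha b
  have hc : cm a b ∈ Z2 P := ha b
  by_contra hz
  have hab := h.abelian_of_central (kinv_Z2 (K := K)) hc
    (fun y hy => cm_eq_one_iff.mp (cm_Z2_cm h.cen2 hy a b)) hz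
  exact hst (hab s hs t ht)

theorem exists_Z2_not_center : ∃ y ∈ Z2 P, y ∉ Subgroup.center P := by
  by_contra hcon
  push Not at hcon
  apply h3
  have hle : Z2 P ≤ Subgroup.center P := hcon
  exact ucs_mono hle

theorem Z2_le_CZ2 : Z2 P ≤ CZ2 P := by
  intro y hy
  rw [mem_CZ2]
  intro y' hy'
  exact Z2_comm h h3 y' hy' y hy

theorem exists_sqrt (z : P) (hz : z ∈ Subgroup.center P) : ∃ y ∈ Z2 P, y * y = z := by
  by_cases hz1 : z = 1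
  · exact ⟨1, Subgroup.one_mem _, by rw [hz1, mul_one]⟩
  obtain ⟨y₀, hy₀, hy₀Z⟩ := exists_Z2_not_center h h3
  have h1 : y₀ * y₀ ≠ 1 := fun hh => hy₀Z (h.inv_cen y₀ hh)
  have h2 : y₀ * y₀ ∈ Subgroup.center P := Z2_sq h.cen2 hy₀
  obtain ⟨k, hk⟩ := h.hyp.trans (y₀ * y₀) z h1 (h.cen2 _ h2) hz1 (h.cen2 z hz)
  refine ⟨k • y₀, kinv_Z2 k y₀ hy₀, ?_⟩
  rw [← smul_mul', hk]

theorem Z2_sq_inj {y y' : P} (hy : y ∈ Z2 P) (hy' : y' ∈ Z2 P) (hyy : y * y = y' * y') :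
    y⁻¹ * y' ∈ Subgroup.center P := by
  apply h.inv_cen
  have hc := Z2_comm h h3 y' hy' y⁻¹ (Subgroup.inv_mem _ hy)
  calc y⁻¹ * y' * (y⁻¹ * y') = y⁻¹ * (y' * y⁻¹) * y' := by group
    _ = y⁻¹ * (y⁻¹ * y') * y' := by rw [hc]
    _ = (y * y)⁻¹ * (y' * y') := by group
    _ = 1 := by rw [hyy]; group

theorem CZ2_ne_top : ¬ (⊤ : Subgroup P) ≤ CZ2 P := by
  intro hle
  obtain ⟨y₀, hy₀, hy₀Z⟩ := exists_Z2_not_center h h3
  apply hy₀Z
  rw [Subgroup.mem_center_iff]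
  intro g
  have := mem_CZ2.mp (hle (Subgroup.mem_top g)) y₀ hy₀
  exact this.symm

/-- The conclusions of the injectivity lemma for a `K`-invariant subgroup `Q`. -/
structure Good (K : Type v) [CommGroup K] {P : Type u} [Group P] [MulDistribMulAction K P]
    (Q : Subgroup P) : Prop where
  kinv : KInv K Q
  Z2_le : Z2 P ≤ Q
  inj : ∀ d ∈ Q, d ∉ CZ2 P → ∀ y ∈ Z2 P, y ∉ Subgroup.center P → cm y d ≠ 1
  trans : ∃ a₀ ∈ Q, a₀ ∉ CZ2 P ∧ ∀ a ∈ Q, a ∉ CZ2 P → ∃ k : K, (k • a₀)⁻¹ * a ∈ CZ2 P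

/-- **The inversion lemma.** -/
theorem inversion {Q : Subgroup P} (hQ : Good K Q) : Q ⊓ CZ2 P ≤ Z2 P := by
  set A := Q ⊓ CZ2 P with hA
  have hAk : KInv K A := hQ.kinv.inf kinv_CZ2
  obtain ⟨y₀, hy₀, hy₀Z⟩ := exists_Z2_not_center h h3
  have hZ2A : Z2 P ≤ A := fun y hy => ⟨hQ.Z2_le hy, Z2_le_CZ2 h h3 hy⟩
  have hAab : ∀ s ∈ A, ∀ t ∈ A, s * t = t * s :=
    h.abelian_of_central hAk (hZ2A hy₀) (fun s hs => (mem_CZ2.mp hs.2 y₀ hy₀).symm) hy₀Z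
  -- F1
  have hOmega : ∀ a ∈ A, (a * a) * (a * a) = 1 → a ∈ Z2 P := by
    intro a ha h4
    have haa : a * a ∈ Subgroup.center P := h.inv_cen _ h4
    obtain ⟨y, hy, hyy⟩ := exists_sqrt h h3 (a * a) haa
    have hyA : y⁻¹ ∈ A := A.inv_mem (hZ2A hy)
    have hc := hAab y⁻¹ hyA a ha
    have h1 : (a * y⁻¹) * (a * y⁻¹) = 1 := by
      calc (a * y⁻¹) * (a * y⁻¹) = a * (y⁻¹ * a) * y⁻¹ := by group
        _ = a * (a * y⁻¹) * y⁻¹ := by rw [hc]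
        _ = (a * a) * (y * y)⁻¹ := by group
        _ = 1 := by rw [hyy]; group
    have h2 : a * y⁻¹ ∈ Z2 P := center_le_Z2 (h.inv_cen _ h1)
    have : a = (a * y⁻¹) * y := by group
    rw [this]
    exact Subgroup.mul_mem _ h2 hy
  -- F2
  have hCA : ∀ d ∈ Q, d ∉ CZ2 P → ∀ a ∈ A, a * d = d * a → a ∈ Subgroup.center P := by
    intro d hd hdC a ha had
    by_contra haZ
    have haa : a * a ≠ 1 := fun hh => haZ (h.inv_cen a hh)
    obtain ⟨n, hn1, hn2⟩ := exists_invol_pow h.hyp.pgroup haa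
    have e : (a * a) ^ n = a ^ n * a ^ n := by
      rw [← pow_two, ← pow_mul, mul_comm, pow_mul, pow_two]
    rw [e] at hn1 hn2
    have ha'A : a ^ n ∈ A := A.pow_mem ha n
    have ha'Z2 : a ^ n ∈ Z2 P := hOmega _ ha'A hn2
    have ha'Z : a ^ n ∉ Subgroup.center P := fun hh => hn1 (h.cen2 _ hh)
    have hcomm : a ^ n * d = d * a ^ n := (Commute.pow_left (show Commute a d from had) n)
    exact hQ.inj d hd hdC _ ha'Z2 ha'Z (cm_eq_one_iff.mpr hcomm)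
  -- F3
  have hdsq : ∀ d ∈ Q, d ∉ CZ2 P → d * d ∈ Subgroup.center P := by
    intro d hd hdC
    exact hCA d hd hdC (d * d) ⟨Q.mul_mem hd hd, sq_mem_CZ2 h.cen2 d⟩ (by group)
  -- F4
  have hinvert : ∀ d ∈ Q, d ∉ CZ2 P → ∀ a ∈ A, (d⁻¹ * a * d) * a ∈ Subgroup.center P := by
    intro d hd hdC a ha
    have ha₁ : d⁻¹ * a * d ∈ A := by
      refine ⟨Q.mul_mem (Q.mul_mem (Q.inv_mem hd) ha.1) hd, ?_⟩
      have := (CZ2_normal P).conj_mem a ha.2 d⁻¹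
      simpa using this
    apply hCA d hd hdC _ (A.mul_mem ha₁ ha)
    have hdd := Subgroup.mem_center_iff.mp (hdsq d hd hdC)
    have hc := hAab a ha _ ha₁
    have e3 : d⁻¹ * (d⁻¹ * a * d) * d = a := by
      calc d⁻¹ * (d⁻¹ * a * d) * d = (d * d)⁻¹ * (a * (d * d)) := by group
        _ = (d * d)⁻¹ * ((d * d) * a) := by rw [hdd a]
        _ = a := by group
    have e1 : d⁻¹ * ((d⁻¹ * a * d) * a) * d = (d⁻¹ * a * d) * a := by
      calc d⁻¹ * ((d⁻¹ * a * d) * a) * d = (d⁻¹ * (d⁻¹ * a * d) * d) * (d⁻¹ * a * d) := by group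
        _ = a * (d⁻¹ * a * d) := by rw [e3]
        _ = (d⁻¹ * a * d) * a := hc
    calc (d⁻¹ * a * d) * a * d = d * (d⁻¹ * ((d⁻¹ * a * d) * a) * d) := by group
      _ = d * ((d⁻¹ * a * d) * a) := by rw [e1]
  -- F5
  obtain ⟨a₀, ha₀Q, ha₀C, -⟩ := hQ.trans
  obtain ⟨k, hk⟩ := h.exists_ne_one
  have hd'Q : k • a₀ ∈ Q := hQ.kinv k a₀ ha₀Q
  have hd'C : k • a₀ ∉ CZ2 P := fun hh => ha₀C ((kinv_CZ2.mem_iff k).mp hh)
  have hddC : a₀ * k • a₀ ∉ CZ2 P := by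
    intro hh
    apply ha₀C
    apply h.fpf_sub kinv_CZ2 hk
    have : a₀⁻¹ * k • a₀ = (a₀ * a₀)⁻¹ * (a₀ * k • a₀) := by group
    rw [this]
    exact Subgroup.mul_mem _ (Subgroup.inv_mem _ (sq_mem_CZ2 h.cen2 a₀)) hh
  have hddQ : a₀ * k • a₀ ∈ Q := Q.mul_mem ha₀Q hd'Q
  -- F6
  intro a ha
  apply hOmega a ha
  apply h.cen2
  set d := a₀
  set d' := k • a₀
  have hc1 := hinvert d ha₀Q ha₀C a ha
  have hc2 := hinvert d' hd'Q hd'C a ha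
  have hc3 := hinvert (d * d') hddQ hddC a ha
  set c1 := (d⁻¹ * a * d) * a with hc1def
  set c2 := (d'⁻¹ * a * d') * a with hc2def
  have hz1 := Subgroup.mem_center_iff.mp hc1
  have hz2 := Subgroup.mem_center_iff.mp (Subgroup.inv_mem _ hc2)
  have e1 : d⁻¹ * a * d = c1 * a⁻¹ := by rw [hc1def]; group
  have e2 : d'⁻¹ * a * d' = c2 * a⁻¹ := by rw [hc2def]; group
  have e3 : (d * d')⁻¹ * a * (d * d') = c1 * a * c2⁻¹ := by
    calc (d * d')⁻¹ * a * (d * d') = d'⁻¹ * (d⁻¹ * a * d) * d' := by group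
      _ = d'⁻¹ * (c1 * a⁻¹) * d' := by rw [e1]
      _ = (d'⁻¹ * c1) * a⁻¹ * d' := by group
      _ = (c1 * d'⁻¹) * a⁻¹ * d' := by rw [hz1 d'⁻¹]
      _ = c1 * (d'⁻¹ * a * d')⁻¹ := by group
      _ = c1 * (c2 * a⁻¹)⁻¹ := by rw [e2]
      _ = c1 * a * c2⁻¹ := by group
  rw [e3] at hc3
  have hz2c := Subgroup.mem_center_iff.mp hc2
  have e4 : a * a = c2 * c1⁻¹ * (c1 * a * c2⁻¹ * a) := by
    symm
    calc c2 * c1⁻¹ * (c1 * a * c2⁻¹ * a) = (c2 * a) * c2⁻¹ * a := by group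
      _ = (a * c2) * c2⁻¹ * a := by rw [← hz2c a]
      _ = a * a := by group
  rw [e4]
  exact Subgroup.mul_mem _ (Subgroup.mul_mem _ hc2 (Subgroup.inv_mem _ hc1)) hc3

end cls3

end Cfsg.Agent.Helper1.SuzH
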