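import Mathlib
import Cfsg.Agent.Helper1.SuzHG

/-!
# A Suzuki 2-group of class at least three: the final contradiction for a section of `Z₃ / Z₂`
-/

set_option autoImplicit false

universe u v

namespace Cfsg.Agent.Helper1.SuzH

open Cfsg.Agent.Helper3.SuzA Cfsg.Agent.Helper1.SuzT

variable {K : Type v} [CommGroup K] {P : Type u} [Group P] [MulDistribMulAction K P] [Finite P]

theorem inv_twist {a y w : P} (hw : w ∈ Subgroup.center P) (hww : w * w = 1)
    (h : a⁻¹ * (y * w) * a = (y * w)⁻¹) : a⁻¹ * y * a = y⁻¹ := by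
  have hwc := Subgroup.mem_center_iff.mp hw
  have e1 : a⁻¹ * (y * w) * a = (a⁻¹ * y * a) * w := by
    calc a⁻¹ * (y * w) * a = a⁻¹ * y * (w * a) := by group
      _ = a⁻¹ * y * (a * w) := by rw [← hwc a]
      _ = (a⁻¹ * y * a) * w := by group
  have e2 : (y * w)⁻¹ = y⁻¹ * w := by
    have : w⁻¹ = w := inv_eq_of_mul_eq_one_left hww
    calc (y * w)⁻¹ = w⁻¹ * y⁻¹ := by group
      _ = w * y⁻¹ := by rw [this]
      _ = y⁻¹ * w := (hwc y⁻¹).symm
  rw [e1, e2] at h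
  exact mul_right_cancel h

theorem case_ii (h : SH K P) (h3 : ¬ Z3 P ≤ Z2 P) {T : Subgroup P} (hT : Good K T)
    (hT3 : T ≤ Z3 P) (hTC : T ⊓ CZ2 P ≤ Z2 P) : False := by
  have hcen2 := h.cen2
  -- G1
  have hsqT : ∀ a ∈ T, a * a ∈ Subgroup.center P := by
    intro a ha
    have haa : a * a ∈ Z2 P := Z3_sq hcen2 (hT3 ha)
    by_cases haC : a ∈ CZ2 P
    · exact Z2_sq hcen2 (hTC ⟨ha, haC⟩)
    · by_contra hz
      exact hT.inj a ha haC _ haa hz (cm_eq_one_iff.mpr (by group))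
  -- G2
  have hinvt : ∀ a ∈ T, ∀ b : P, a⁻¹ * cm a b * a = (cm a b)⁻¹ := by
    intro a ha b
    have hconj := conj_eq_mul_cm a b
    have haa := Subgroup.mem_center_iff.mp (hsqT a ha)
    have e1 : (a * cm a b) * (a * cm a b) = b⁻¹ * (a * a) * b := by rw [← hconj]; group
    have e2 : b⁻¹ * (a * a) * b = a * a := by rw [haa b⁻¹]; group
    have e3 : (a * cm a b) * (a * cm a b) = (a * a) * ((a⁻¹ * cm a b * a) * cm a b) := by group
    rw [e3, e2] at e1
    have e4 : (a⁻¹ * cm a b * a) * cm a b = 1 := by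
      have : (a * a) * ((a⁻¹ * cm a b * a) * cm a b) = (a * a) * 1 := by rw [e1, mul_one]
      exact mul_left_cancel this
    exact eq_inv_of_mul_eq_one_left e4
  -- G3
  have hdisj : ∀ y ∈ Z2 P, ∀ a ∈ T, ∀ a' ∈ T, a⁻¹ * y * a = y⁻¹ → a'⁻¹ * y * a' = y⁻¹ →
      a' * a⁻¹ ∉ CZ2 P → y ∈ Subgroup.center P := by
    intro y hy a ha a' ha' h1 h2 hC
    by_contra hyZ
    apply hT.inj (a' * a⁻¹) (T.mul_mem ha' (T.inv_mem ha)) hC y hy hyZ
    rw [cm_eq_one_iff]
    calc y * (a' * a⁻¹) = a' * (a'⁻¹ * y * a') * a⁻¹ := by group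
      _ = a' * (a⁻¹ * y * a) * a⁻¹ := by rw [h2, h1]
      _ = a' * a⁻¹ * y := by group
  -- the subgroup N
  let N : Subgroup P :=
    { carrier := {b | ∀ a ∈ T, cm a b ∈ Subgroup.center P}
      mul_mem' := by
        intro b b' hb hb' a ha
        obtain ⟨z, hz, he⟩ := cm_Z3_right (hT3 ha) b b'
        rw [he]
        exact Subgroup.mul_mem _ (Subgroup.mul_mem _ (hb a ha) (hb' a ha)) hz
      one_mem' := by
        intro a _
        rw [cm_one_right]; exact Subgroup.one_mem _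
      inv_mem' := by
        intro b hb a ha
        obtain ⟨z, hz, he⟩ := cm_Z3_inv_right hcen2 (hT3 ha) b
        rw [he]
        exact Subgroup.mul_mem _ (Subgroup.inv_mem _ (hb a ha)) hz }
  have hNmem : ∀ b, b ∈ N ↔ ∀ a ∈ T, cm a b ∈ Subgroup.center P := fun b => Iff.rfl
  have hNk : KInv K N := by
    intro k b hb a ha
    have : cm a (k • b) = k • cm (k⁻¹ • a) b := by rw [smul_cm, smul_inv_smul]
    rw [this]
    exact kinv_center k _ (hb _ (hT.kinv k⁻¹ a ha))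
  -- elements of T ∩ C are in Z2
  have hTZ2 : ∀ a ∈ T, a ∈ CZ2 P → ∀ b, cm a b ∈ Subgroup.center P :=
    fun a ha haC b => (hTC ⟨ha, haC⟩) b
  -- G6
  have hker : ∀ b : P, (∃ u ∈ T, u ∉ CZ2 P ∧ cm u b ∈ Subgroup.center P) → b ∈ N := by
    rintro b ⟨u, hu, huC, hub⟩ a ha
    by_contra hy
    have haC : a ∉ CZ2 P := fun hh => hy (hTZ2 a ha hh b)
    obtain ⟨z, hz, he⟩ := cm_Z3_left (hT3 ha) u b
    have hauT : a * u ∈ T := T.mul_mem ha hu
    set w := cm u b * z with hw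
    have hwZ : w ∈ Subgroup.center P := Subgroup.mul_mem _ hub hz
    have he' : cm (a * u) b = cm a b * w := by rw [he, hw]; group
    have h1 := hinvt a ha b
    have h2 := hinvt (a * u) hauT b
    rw [he'] at h2
    have h2' := inv_twist hwZ (hcen2 w hwZ) h2
    have hC : (a * u) * a⁻¹ ∉ CZ2 P := by
      intro hh
      apply huC
      have := (CZ2_normal P).conj_mem _ hh a⁻¹
      have e : a⁻¹ * (a * u * a⁻¹) * a⁻¹⁻¹ = u := by group
      rwa [e] at this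
    exact hy (hdisj _ (hT3 ha b) a ha (a * u) hauT h1 h2' hC)
  -- G7
  have hsame : ∀ b b' : P, b ∉ N → b' ∉ N → ∀ a ∈ T,
      (cm a b)⁻¹ * cm a b' ∈ Subgroup.center P := by
    intro b b' hb hb' a ha
    by_cases haC : a ∈ CZ2 P
    · exact Subgroup.mul_mem _ (Subgroup.inv_mem _ (hTZ2 a ha haC b)) (hTZ2 a ha haC b')
    have hnc : ∀ u ∈ T, u ∉ CZ2 P → cm u b ∉ Subgroup.center P :=
      fun u hu huC hh => hb (hker b ⟨u, hu, huC, hh⟩)
    have hnc' : ∀ u ∈ T, u ∉ CZ2 P → cm u b' ∉ Subgroup.center P :=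
      fun u hu huC hh => hb' (hker b' ⟨u, hu, huC, hh⟩)
    obtain ⟨a₀, ha₀T, ha₀C, -⟩ := hT.trans
    have hkT : ∀ k : K, k • a₀ ∈ T := fun k => hT.kinv k a₀ ha₀T
    have hkC : ∀ k : K, k • a₀ ∉ CZ2 P := fun k hh => ha₀C ((kinv_CZ2.mem_iff k).mp hh)
    let f : K → P := fun k => cm (k • a₀) b * cm (k • a₀) b
    have hf : ∀ k, f k ∈ Subgroup.center P ∧ f k ≠ 1 := by
      intro k
      refine ⟨Z2_sq hcen2 (hT3 (hkT k) b), ?_⟩
      intro hh
      exact hnc _ (hkT k) (hkC k) (h.inv_cen _ hh)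
    have hfinj : Function.Injective f := by
      intro k k' hkk
      have hw := Z2_sq_inj h h3 (hT3 (hkT k) b) (hT3 (hkT k') b) hkk
      set w := (cm (k • a₀) b)⁻¹ * cm (k' • a₀) b with hwdef
      have e : cm (k' • a₀) b = cm (k • a₀) b * w := by rw [hwdef]; group
      have h1 := hinvt _ (hkT k) b
      have h2 := hinvt _ (hkT k') b
      rw [e] at h2
      have h2' := inv_twist hw (hcen2 w hw) h2
      by_contra hne
      have hC : (k' • a₀) * (k • a₀)⁻¹ ∉ CZ2 P := by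
        intro hh
        have hκ : k' * k⁻¹ ≠ 1 := by
          intro e1
          apply hne
          rw [mul_inv_eq_one] at e1
          exact e1.symm
        apply hkC k
        apply h.fpf_sub kinv_CZ2 hκ
        have e2 : (k' * k⁻¹) • (k • a₀) = k' • a₀ := by rw [mul_smul, inv_smul_smul]
        rw [e2]
        have := (CZ2_normal P).conj_mem _ hh (k • a₀)⁻¹
        have e3 : (k • a₀)⁻¹ * (k' • a₀ * (k • a₀)⁻¹) * (k • a₀)⁻¹⁻¹ = (k • a₀)⁻¹ * k' • a₀ := by group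
        rwa [e3] at this
      exact hnc _ (hkT k) (hkC k) (hdisj _ (hT3 (hkT k) b) _ (hkT k) _ (hkT k') h1 h2' hC)
    have hy' : cm a b' ∈ Z2 P := hT3 ha b'
    have hy'Z : cm a b' ∉ Subgroup.center P := hnc' a ha haC
    have hy'sq : cm a b' * cm a b' ≠ 1 := fun hh => hy'Z (h.inv_cen _ hh)
    obtain ⟨k, hk⟩ := h.surj_of_inj f hf hfinj _ (Z2_sq hcen2 hy') hy'sq
    have hw := Z2_sq_inj h h3 (hT3 (hkT k) b) hy' hk
    set w := (cm (k • a₀) b)⁻¹ * cm a b' with hwdef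
    have e : cm a b' = cm (k • a₀) b * w := by rw [hwdef]; group
    have h1 := hinvt _ (hkT k) b
    have h2 := hinvt a ha b'
    rw [e] at h2
    have h2' := inv_twist hw (hcen2 w hw) h2
    have hC : a * (k • a₀)⁻¹ ∈ CZ2 P := by
      by_contra hC
      exact hnc _ (hkT k) (hkC k) (hdisj _ (hT3 (hkT k) b) _ (hkT k) a ha h1 h2' hC)
    have huT : a * (k • a₀)⁻¹ ∈ T := T.mul_mem ha (T.inv_mem (hkT k))
    have huZ2 : a * (k • a₀)⁻¹ ∈ Z2 P := hTC ⟨huT, hC⟩
    have ea : a = (a * (k • a₀)⁻¹) * (k • a₀) := by group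
    have e5 : cm a b = cm (a * (k • a₀)⁻¹) b * cm (k • a₀) b := by
      conv_lhs => rw [ea]
      exact cm_Z2_left huZ2 _ b
    have hub : cm (a * (k • a₀)⁻¹) b ∈ Subgroup.center P := huZ2 b
    have hubc := Subgroup.mem_center_iff.mp (Subgroup.inv_mem _ hub)
    have : (cm a b)⁻¹ * cm a b' = (cm (a * (k • a₀)⁻¹) b)⁻¹ * w := by
      rw [e5, hwdef]
      calc (cm (a * (k • a₀)⁻¹) b * cm (k • a₀) b)⁻¹ * cm a b'
          = (cm (k • a₀) b)⁻¹ * (cm (a * (k • a₀)⁻¹) b)⁻¹ * cm a b' := by group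
        _ = (cm (a * (k • a₀)⁻¹) b)⁻¹ * (cm (k • a₀) b)⁻¹ * cm a b' := by rw [hubc]
        _ = (cm (a * (k • a₀)⁻¹) b)⁻¹ * ((cm (k • a₀) b)⁻¹ * cm a b') := by group
    rw [this]
    exact Subgroup.mul_mem _ (Subgroup.inv_mem _ hub) hw
  -- G8, G9
  have hNtop : N = ⊤ := by
    apply h.eq_top_of_index_two hNk
    intro b b' hb hb' a ha
    obtain ⟨z, hz, he⟩ := cm_Z3_right (hT3 ha) b⁻¹ b'
    obtain ⟨z', hz', he'⟩ := cm_Z3_inv_right hcen2 (hT3 ha) b
    have hz'c := Subgroup.mem_center_iff.mp hz'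
    rw [he, he']
    have : (cm a b)⁻¹ * z' * cm a b' * z = ((cm a b)⁻¹ * cm a b') * (z' * z) := by
      calc (cm a b)⁻¹ * z' * cm a b' * z = (cm a b)⁻¹ * (z' * cm a b') * z := by group
        _ = (cm a b)⁻¹ * (cm a b' * z') * z := by rw [← hz'c]
        _ = ((cm a b)⁻¹ * cm a b') * (z' * z) := by group
    rw [this]
    exact Subgroup.mul_mem _ (hsame b b' hb hb' a ha) (Subgroup.mul_mem _ hz' hz)
  obtain ⟨a₀, ha₀T, ha₀C, -⟩ := hT.trans
  apply ha₀C
  apply Z2_le_CZ2 h h3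
  intro b
  have : b ∈ N := by rw [hNtop]; exact Subgroup.mem_top b
  exact this a₀ ha₀T

end Cfsg.Agent.Helper1.SuzH
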