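import Mathlib
import Cfsg.Agent.Helper1.SuzHB
import Cfsg.Agent.Helper1.SuzHH

/-!
# Coordinates on the centre and the existence of good sections
-/

set_option autoImplicit false

universe u v

namespace Cfsg.Agent.Helper1.SuzH

open Cfsg.Agent.Helper3.SuzA Cfsg.Agent.Helper1.SuzT
open scoped IsMulCommutative

variable {K : Type v} [CommGroup K] {P : Type u} [Group P] [MulDistribMulAction K P] [Finite P]

/-- Field coordinates on the centre. -/
structure ZCoords (K : Type v) [CommGroup K] (P : Type u) [Group P] [MulDistribMulAction K P]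
    (F : Type) [Field F] where
  ξ : K
  β : P → F
  c : F
  gen : ∀ k : K, ∃ i : ℕ, ξ ^ i = k
  β_mul : ∀ z z', z ∈ Subgroup.center P → z' ∈ Subgroup.center P → β (z * z') = β z + β z'
  β_inj : ∀ z ∈ Subgroup.center P, β z = 0 → z = 1
  β_surj : ∀ x : F, ∃ z ∈ Subgroup.center P, β z = x
  β_smul : ∀ z ∈ Subgroup.center P, β (ξ • z) = c * β z
  c0 : c ≠ 0
  prim : ∀ t : F, t ≠ 0 → ∃ i : ℕ, c ^ i = t

theorem exists_zcoords (h : SH K P) (hcyc : IsCyclic K) :
    ∃ (F : Type) (_ : Field F) (_ : Fintype F) (_ : CharP F 2), Nonempty (ZCoords K P F) := by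
  classical
  haveI : Finite K := h.finite_K
  obtain ⟨ξ, hξ⟩ := hcyc.exists_generator
  have hpow := Reg.exists_pow_of_generator hξ
  have hreg := h.reg
  let gZ : Subgroup.center P →* Subgroup.center P :=
    { toFun := fun z => ⟨ξ • (z : P), smul_mem_center ξ z.2⟩
      map_one' := Subtype.ext (smul_one ξ)
      map_mul' := fun a b => Subtype.ext (smul_mul' ξ (a : P) (b : P)) }
  have hgZ : ∀ (i : ℕ) (z : Subgroup.center P), (((gZ^[i]) z : Subgroup.center P) : P) = ξ ^ i • (z : P) := by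
    intro i
    induction i with
    | zero => intro z; simp
    | succ n ih =>
      intro z
      rw [Function.iterate_succ_apply', pow_succ', mul_smul, ← ih]
      rfl
  obtain ⟨z0, hz01, hz02⟩ := hreg.inv
  have hz0c : z0 ∈ Subgroup.center P := h.inv_cen z0 hz02
  haveI : Nontrivial (Subgroup.center P) :=
    ⟨⟨⟨z0, hz0c⟩, 1, fun hh => hz01 (congrArg Subtype.val hh)⟩⟩
  have hZ2 : ∀ a : Subgroup.center P, a * a = 1 := fun a => Subtype.ext (h.cen2 a a.2)
  have htrZ : ∀ x y : Subgroup.center P, x ≠ 1 → y ≠ 1 → ∃ i : ℕ, (gZ^[i]) x = y := by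
    intro x y hx hy
    have hx' : (x : P) ≠ 1 := fun hh => hx (Subtype.ext hh)
    have hy' : (y : P) ≠ 1 := fun hh => hy (Subtype.ext hh)
    obtain ⟨k, hk⟩ := h.hyp.trans x y hx' (h.cen2 x x.2) hy' (h.cen2 y y.2)
    obtain ⟨i, rfl⟩ := hpow k
    exact ⟨i, Subtype.ext ((hgZ i x).trans hk)⟩
  obtain ⟨F, hF, hFt, hchar, βZ, lam, hβZbij, hβZadd, hβZg⟩ :=
    exists_field_coords_mul (A := Subgroup.center P) hZ2 gZ htrZ
  refine ⟨F, hF, hFt, hchar, ?_⟩
  have hβZ1 : βZ 1 = 0 := by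
    have := hβZadd 1 1
    rw [one_mul] at this
    exact left_eq_add.mp this
  let βP : P → F := fun p => if hp : p ∈ Subgroup.center P then βZ ⟨p, hp⟩ else 0
  have hβP : ∀ z (hz : z ∈ Subgroup.center P), βP z = βZ ⟨z, hz⟩ := by
    intro z hz; simp only [βP, dif_pos hz]
  have hβ_smul : ∀ z ∈ Subgroup.center P, βP (ξ • z) = lam * βP z := by
    intro z hz
    rw [hβP _ hz, hβP _ (smul_mem_center ξ hz), ← hβZg]
    rfl
  have hβ_smul_pow : ∀ (i : ℕ) z, z ∈ Subgroup.center P → βP (ξ ^ i • z) = lam ^ i * βP z := by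
    intro i
    induction i with
    | zero => intro z _; simp
    | succ n ih =>
      intro z hz
      have hz' : ξ ^ n • z ∈ Subgroup.center P := smul_mem_center _ hz
      rw [pow_succ', mul_smul, hβ_smul _ hz', ih z hz, pow_succ]
      ring
  have hβ_inj : ∀ z, z ∈ Subgroup.center P → βP z = 0 → z = 1 := by
    intro z hz h0
    rw [hβP _ hz, ← hβZ1] at h0
    exact congrArg Subtype.val (hβZbij.injective h0)
  have hβ_surj : ∀ x : F, ∃ z ∈ Subgroup.center P, βP z = x := by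
    intro x
    obtain ⟨z, hz⟩ := hβZbij.surjective x
    exact ⟨z.1, z.2, by rw [hβP _ z.2]; exact hz⟩
  have hlam0 : lam ≠ 0 := by
    have h1 := hβ_smul z0 hz0c
    intro hh
    rw [hh, zero_mul] at h1
    have := hβ_inj _ (smul_mem_center ξ hz0c) h1
    exact hz01 ((smul_eq_one_iff' ξ z0).mp this)
  obtain ⟨z1, hz1c, hz1⟩ := hβ_surj 1
  have hz11 : z1 ≠ 1 := by
    rintro rfl
    rw [hβP _ (Subgroup.one_mem _)] at hz1
    have : βZ 1 = 1 := hz1
    rw [hβZ1] at this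
    exact zero_ne_one this
  refine ⟨⟨ξ, βP, lam, hpow, ?_, hβ_inj, hβ_surj, hβ_smul, hlam0, ?_⟩⟩
  · intro z z' hz hz'
    rw [hβP _ hz, hβP _ hz', hβP _ ((Subgroup.center P).mul_mem hz hz'), ← hβZadd]
    rfl
  · intro t ht
    obtain ⟨z, hzc, hz⟩ := hβ_surj t
    have hz1' : z ≠ 1 := by
      rintro rfl
      rw [hβP _ (Subgroup.one_mem _)] at hz
      have : βZ 1 = t := hz
      rw [hβZ1] at this
      exact ht this.symm
    obtain ⟨k, hk⟩ := h.hyp.trans z1 z hz11 (h.cen2 _ hz1c) hz1' (h.cen2 _ hzc)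
    obtain ⟨i, rfl⟩ := hpow k
    refine ⟨i, ?_⟩
    rw [← hz, ← hk, hβ_smul_pow i z1 hz1c, hz1, mul_one]

namespace ZCoords

variable {F : Type} [Field F] (co : ZCoords K P F)

theorem β_one : co.β 1 = 0 := by
  have := co.β_mul 1 1 (Subgroup.one_mem _) (Subgroup.one_mem _)
  rw [one_mul] at this
  exact left_eq_add.mp this

theorem β_smul_pow (i : ℕ) (z : P) (hz : z ∈ Subgroup.center P) :
    co.β (co.ξ ^ i • z) = co.c ^ i * co.β z := by
  induction i with
  | zero => simp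
  | succ n ih =>
    have hz' : co.ξ ^ n • z ∈ Subgroup.center P := smul_mem_center _ hz
    rw [pow_succ', mul_smul, co.β_smul _ hz', ih, pow_succ]
    ring

end ZCoords

theorem exists_min_sub {B U : Subgroup P} (C : Subgroup P) (hU : KInv K U) (hBU : B ≤ U)
    (hUC : ¬ U ≤ C) :
    ∃ Q : Subgroup P, (KInv K Q ∧ B ≤ Q ∧ Q ≤ U ∧ ¬ Q ≤ C) ∧
      ∀ Q' : Subgroup P, KInv K Q' → B ≤ Q' → Q' ≤ Q → ¬ Q' ≤ C → Q' = Q := by
  let S : Set (Subgroup P) := {Q | KInv K Q ∧ B ≤ Q ∧ Q ≤ U ∧ ¬ Q ≤ C}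
  obtain ⟨Q, hQS, hmin⟩ := Set.exists_min_image S (fun Q => Nat.card Q) (Set.toFinite S)
    ⟨U, hU, hBU, le_refl U, hUC⟩
  refine ⟨Q, hQS, ?_⟩
  intro Q' hQ'k hBQ' hQ'Q hQ'C
  have : Q' ∈ S := ⟨hQ'k, hBQ', hQ'Q.trans hQS.2.2.1, hQ'C⟩
  exact Subgroup.eq_of_le_of_card_ge hQ'Q (hmin Q' this)

end Cfsg.Agent.Helper1.SuzH
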