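import Mathlib
import Cfsg.Agent.Helper1.SuzHI

/-!
# Existence of good sections; Suzuki 2-groups have class two
-/

set_option autoImplicit false

universe u v

namespace Cfsg.Agent.Helper1.SuzH

open Cfsg.Agent.Helper3.SuzA Cfsg.Agent.Helper1.SuzT

variable {K : Type v} [CommGroup K] {P : Type u} [Group P] [MulDistribMulAction K P] [Finite P]

theorem iterate_smul (ξ : K) (i : ℕ) (a : P) : (fun d : P => ξ • d)^[i] a = ξ ^ i • a := by
  induction i with
  | zero => simp
  | succ n ih => rw [Function.iterate_succ_apply', ih, pow_succ', mul_smul]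

theorem exists_good (h : SH K P) (h3 : ¬ Z3 P ≤ Z2 P) (hcyc : IsCyclic K)
    {B U : Subgroup P} (hU : KInv K U) (hZB : Z2 P ≤ B) (hBU : B ≤ U)
    (hBC : B ≤ CZ2 P) (hUC : ¬ U ≤ CZ2 P) :
    ∃ Q : Subgroup P, Good K Q ∧ B ≤ Q ∧ Q ≤ U := by
  classical
  obtain ⟨F, _, _, _, ⟨co⟩⟩ := exists_zcoords h hcyc
  obtain ⟨Q, ⟨hQk, hBQ, hQU, hQC⟩, hmin⟩ := exists_min_sub (K := K) (B := B) (CZ2 P) hU hBU hUC
  have hcen2 := h.cen2
  -- selector
  have hsel : ∀ x : F, ∃ y ∈ Z2 P, co.β (y * y) = x := by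
    intro x
    obtain ⟨z, hz, hzx⟩ := co.β_surj x
    obtain ⟨y, hy, hyy⟩ := exists_sqrt h h3 z hz
    exact ⟨y, hy, by rw [hyy, hzx]⟩
  choose ysel hyselZ hysel using hsel
  let L : P → F → F := fun d x => co.β (cm (ysel x) d)
  have hβinj2 : ∀ z z', z ∈ Subgroup.center P → z' ∈ Subgroup.center P → co.β z = co.β z' → z = z' := by
    intro z z' hz hz' he
    have h1 : co.β (z * z') = 0 := by rw [co.β_mul z z' hz hz', he, CharTwo.add_self_eq_zero]
    have h2 := co.β_inj _ (Subgroup.mul_mem _ hz hz') h1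
    have h3' : z = z'⁻¹ := eq_inv_of_mul_eq_one_left h2
    rw [h3', central_inv hcen2 hz']
  have hLeq : ∀ y ∈ Z2 P, ∀ d, L d (co.β (y * y)) = co.β (cm y d) := by
    intro y hy d
    have hy₀ := hyselZ (co.β (y * y))
    have e1 : ysel (co.β (y * y)) * ysel (co.β (y * y)) = y * y :=
      hβinj2 _ _ (Z2_sq hcen2 hy₀) (Z2_sq hcen2 hy) (hysel _)
    have hw := Z2_sq_inj h h3 hy₀ hy e1
    have e2 : y = ysel (co.β (y * y)) * ((ysel (co.β (y * y)))⁻¹ * y) := by group
    show co.β (cm (ysel (co.β (y * y))) d) = co.β (cm y d)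
    conv_rhs => rw [e2]
    rw [cm_mul_central_left hw]
  have hLzero : ∀ d, (∀ x, L d x = 0) ↔ d ∈ CZ2 P := by
    intro d
    constructor
    · intro hd
      rw [mem_CZ2]
      intro y hy
      have := hd (co.β (y * y))
      rw [hLeq y hy d] at this
      exact cm_eq_one_iff.mp (co.β_inj _ (hy d) this)
    · intro hd x
      have := mem_CZ2.mp hd (ysel x) (hyselZ x)
      show co.β (cm (ysel x) d) = 0
      rw [cm_eq_one_iff.mpr this, co.β_one]
  have hL1 : ∀ a a' x, L (a * a') x = L a x + L a' x := by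
    intro a a' x
    show co.β (cm (ysel x) (a * a')) = _
    rw [cm_Z2_right (hyselZ x), co.β_mul _ _ (hyselZ x a) (hyselZ x a')]
  have hLinv : ∀ a x, L a⁻¹ x = L a x := by
    intro a x
    show co.β (cm (ysel x) a⁻¹) = _
    rw [cm_Z2_inv_right hcen2 (hyselZ x)]
  have hL2 : ∀ a x x', L a (x + x') = L a x + L a x' := by
    intro a x x'
    have hy : ysel x * ysel x' ∈ Z2 P := Subgroup.mul_mem _ (hyselZ x) (hyselZ x')
    have hc := Z2_comm h h3 (ysel x') (hyselZ x') (ysel x) (hyselZ x)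
    have e1 : (ysel x * ysel x') * (ysel x * ysel x') = (ysel x * ysel x) * (ysel x' * ysel x') := by
      calc (ysel x * ysel x') * (ysel x * ysel x') = ysel x * (ysel x' * ysel x) * ysel x' := by group
        _ = ysel x * (ysel x * ysel x') * ysel x' := by rw [hc]
        _ = (ysel x * ysel x) * (ysel x' * ysel x') := by group
    have e2 : co.β ((ysel x * ysel x') * (ysel x * ysel x')) = x + x' := by
      rw [e1, co.β_mul _ _ (Z2_sq hcen2 (hyselZ x)) (Z2_sq hcen2 (hyselZ x')), hysel, hysel]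
    have := hLeq _ hy a
    rw [e2, cm_Z2_left (hyselZ x), co.β_mul _ _ (hyselZ x a) (hyselZ x' a)] at this
    exact this
  have hLg : ∀ a x, L (co.ξ • a) (co.c * x) = co.c * L a x := by
    intro a x
    have hy : co.ξ • ysel x ∈ Z2 P := kinv_Z2 co.ξ _ (hyselZ x)
    have e2 : co.β ((co.ξ • ysel x) * (co.ξ • ysel x)) = co.c * x := by
      rw [← smul_mul', co.β_smul _ (Z2_sq hcen2 (hyselZ x)), hysel]
    have := hLeq _ hy (co.ξ • a)
    rw [e2, ← smul_cm, co.β_smul _ (hyselZ x a)] at this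
    exact this
  -- invariance under ξ is invariance under K
  have hξK : ∀ W' : Subgroup P, (∀ a ∈ W', co.ξ • a ∈ W') → KInv K W' := by
    intro W' hW' k a ha
    obtain ⟨i, rfl⟩ := co.gen k
    induction i with
    | zero => simpa using ha
    | succ n ih => rw [pow_succ', mul_smul]; exact hW' _ ih
  have hdata : BiData (fun d : P => co.ξ • d) L co.c Q := by
    refine ⟨co.c0, co.prim, hL1, hL2, hLg, fun a ha => hQk co.ξ a ha, ?_, ?_⟩
    · intro W' hW'Q hW'ξ hW'ker
      by_cases hW'C : W' ≤ CZ2 P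
      · left
        intro a ha
        exact (hLzero a).mpr (hW'C ha)
      · right
        apply hmin W' (hξK W' hW'ξ) _ hW'Q hW'C
        intro b hb
        exact hW'ker b (hBQ hb) ((hLzero b).mpr (hBC hb))
    · intro a ha i hi hne
      rw [iterate_smul] at hi
      have hmem : a⁻¹ * co.ξ ^ i • a ∈ CZ2 P := by
        rw [← hLzero]
        intro x
        rw [hL1, hLinv, hi, CharTwo.add_self_eq_zero]
      have hξ1 : co.ξ ^ i = 1 := by
        by_contra hne1
        have haC := h.fpf_sub kinv_CZ2 hne1 hmem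
        obtain ⟨x, hx⟩ := hne
        exact hx ((hLzero a).mpr haC x)
      obtain ⟨z0, hz01, hz02⟩ := h.reg.inv
      have hz0c := h.inv_cen z0 hz02
      have := co.β_smul_pow i z0 hz0c
      rw [hξ1, one_smul] at this
      have hβ0 : co.β z0 ≠ 0 := fun hh => hz01 (co.β_inj z0 hz0c hh)
      have : 1 * co.β z0 = co.c ^ i * co.β z0 := by rw [one_mul]; exact this
      exact (mul_right_cancel₀ hβ0 this).symm
  have hne : ∃ a ∈ Q, ∃ x, L a x ≠ 0 := by
    by_contra hcon
    push Not at hcon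
    apply hQC
    intro a ha
    exact (hLzero a).mp (hcon a ha)
  obtain ⟨hinj, a₀, ha₀Q, ha₀ne, htrans⟩ := hdata.biinj hne
  have hnotC : ∀ a, a ∉ CZ2 P → ∃ x, L a x ≠ 0 := by
    intro a ha
    by_contra hcon
    push Not at hcon
    exact ha ((hLzero a).mp hcon)
  refine ⟨Q, ⟨hQk, hZB.trans hBQ, ?_, ?_⟩, hBQ, hQU⟩
  · intro d hd hdC y hy hyZ hcm1
    have hyy : co.β (y * y) ≠ 0 := by
      intro hh
      exact hyZ (h.inv_cen y (co.β_inj _ (Z2_sq hcen2 hy) hh))
    apply hinj d hd (hnotC d hdC) _ hyy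
    rw [hLeq y hy d, hcm1, co.β_one]
  · refine ⟨a₀, ha₀Q, ?_, ?_⟩
    · intro hh
      obtain ⟨x, hx⟩ := ha₀ne
      exact hx ((hLzero a₀).mpr hh x)
    · intro a ha haC
      obtain ⟨i, hi⟩ := htrans a ha (hnotC a haC)
      refine ⟨co.ξ ^ i, ?_⟩
      rw [← hLzero]
      intro x
      have := hi x
      rw [iterate_smul] at this
      rw [hL1, hLinv, this, CharTwo.add_self_eq_zero]

/-- **A Suzuki 2-group has class two.** -/
theorem Z3_le_Z2 (h : SH K P) (hcyc : IsCyclic K) : Z3 P ≤ Z2 P := by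
  by_contra h3
  by_cases hc : Z3 P ≤ CZ2 P
  · obtain ⟨Q, hQ, hBQ, -⟩ := exists_good h h3 hcyc (B := Z3 P) (U := ⊤) kinv_top Z2_le_Z3 le_top hc
      (CZ2_ne_top h h3)
    have := inversion h h3 hQ
    apply h3
    intro a ha
    exact this ⟨hBQ ha, hc ha⟩
  · obtain ⟨T, hT, -, hTU⟩ := exists_good h h3 hcyc (B := Z2 P) (U := Z3 P) kinv_Z3 (le_refl _)
      Z2_le_Z3 (Z2_le_CZ2 h h3) hc
    exact case_ii h h3 hT hTU (inversion h h3 hT)

theorem Z2_eq_top (h : SH K P) (hcyc : IsCyclic K) : Z2 P = ⊤ :=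
  eq_top_of_ucs_le h.hyp.pgroup (Z2 P) (Z3_le_Z2 h hcyc)

end Cfsg.Agent.Helper1.SuzH
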