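import Mathlib
import Cfsg.Agent.Helper1.RkTwoD
import Cfsg.Agent.S1137
import Cfsg.Agent.S1138

/-!
# An automorphism of order three and the Suzuki structure
-/

set_option autoImplicit false

universe u

namespace Cfsg.Agent.Helper1.RkTwo

open Cfsg.Agent.Helper3.SuzA Cfsg.Agent.Helper1.SuzH

variable {T : Type u} [Group T] [Finite T]

theorem pow_apply_congr (h : ∀ s : T, orderOf s = 2 → s ∈ Subgroup.center T)
    (hcard : Nat.card (omega h) = 4) (φ : MulAut T)
    (htr : ∀ s t : T, orderOf s = 2 → orderOf t = 2 → ∃ k : ℕ, (φ ^ k) s = t)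
    (v : T) (hv : orderOf v = 2) (a : ℕ) : (φ ^ a) v = (φ ^ (a % 3)) v := by
  conv_lhs => rw [← Nat.mod_add_div a 3, pow_add_apply]
  rw [(pow_apply_eq_iff h hcard φ htr v hv (3 * (a / 3))).mpr (dvd_mul_right 3 _)]

theorem exists_involution (h : ∀ s : T, orderOf s = 2 → s ∈ Subgroup.center T)
    (hcard : Nat.card (omega h) = 4) : ∃ v : T, orderOf v = 2 := by
  haveI : Nontrivial (omega h) := by
    rw [← Finite.one_lt_card_iff_nontrivial, hcard]; norm_num
  obtain ⟨x, hx⟩ := exists_ne (1 : omega h)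
  refine ⟨x.1, orderOf_eq_prime ((mem_omega h x.1).mp x.2) ?_⟩
  intro h1
  exact hx (Subtype.ext h1)

/-- some power of `φ` has order three and is still transitive on the involutions -/
theorem exists_order_three (hT : IsPGroup 2 T) (h : ∀ s : T, orderOf s = 2 → s ∈ Subgroup.center T)
    (hcard : Nat.card (omega h) = 4) (φ : MulAut T)
    (htr : ∀ s t : T, orderOf s = 2 → orderOf t = 2 → ∃ k : ℕ, (φ ^ k) s = t) :
    ∃ α : MulAut T, α ^ 3 = 1 ∧
      (∀ s t : T, orderOf s = 2 → orderOf t = 2 → ∃ k : ℕ, (α ^ k) s = t) := by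
  obtain ⟨v₀, hv₀⟩ := exists_involution h hcard
  set n := orderOf φ with hn
  have hnpos : 0 < n := (isOfFinOrder_of_finite φ).orderOf_pos
  have h3n : 3 ∣ n := by
    apply (pow_apply_eq_iff h hcard φ htr v₀ hv₀ n).mp
    rw [hn, pow_orderOf_eq_one]; rfl
  have h9n : ¬ 9 ∣ n := by
    rintro ⟨i, hi⟩
    have h9 : φ ^ (9 * i) = 1 := by rw [← hi, hn]; exact pow_orderOf_eq_one φ
    have hfix := beta_fix_aux (Nat.card T) T rfl hT φ i h9 h hcard htr
      (fun s hs => (pow_apply_eq_iff h hcard φ htr s hs (3 * i)).mpr (dvd_mul_right 3 i))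
    have h1 : φ ^ (3 * i) = 1 := by
      ext x; exact hfix x
    have hdvd : n ∣ 3 * i := orderOf_dvd_of_pow_eq_one h1
    rw [hi] at hdvd hnpos
    have hipos : 0 < i := by omega
    have := Nat.le_of_dvd (by omega) hdvd
    omega
  obtain ⟨m, hm⟩ := h3n
  have hm3 : m % 3 ≠ 0 := by
    intro h0
    apply h9n
    obtain ⟨j, hj⟩ := Nat.dvd_of_mod_eq_zero h0
    exact ⟨j, by rw [hm, hj]; ring⟩
  refine ⟨φ ^ m, ?_, ?_⟩
  · rw [← pow_mul, mul_comm, ← hm, hn]; exact pow_orderOf_eq_one φ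
  · intro s t hs ht
    obtain ⟨k, hk⟩ := htr s t hs ht
    refine ⟨k * m, ?_⟩
    rw [← pow_mul, ← hk, pow_apply_congr h hcard φ htr s hs (m * (k * m)),
      pow_apply_congr h hcard φ htr s hs k]
    congr 2
    have hmm : m * m % 3 = 1 := by
      have h1 : m % 3 = 1 ∨ m % 3 = 2 := by omega
      rcases h1 with h1 | h1 <;> simp [Nat.mul_mod, h1]
    calc m * (k * m) % 3 = (k * (m * m)) % 3 := by ring_nf
      _ = (k % 3 * (m * m % 3)) % 3 := Nat.mul_mod _ _ _
      _ = k % 3 := by rw [hmm, mul_one, Nat.mod_mod]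

/-- The working hypotheses on `(T, α)` -/
structure Sett (T : Type u) [Group T] [Finite T] (α : MulAut T) : Prop where
  pg : IsPGroup 2 T
  a3 : ∀ x : T, α (α (α x)) = x
  cen : ∀ s : T, orderOf s = 2 → s ∈ Subgroup.center T
  Z2 : ∀ z ∈ Subgroup.center T, z * z = 1
  mv : ∀ s : T, orderOf s = 2 → α s ≠ s
  cases : ∀ v t : T, orderOf v = 2 → orderOf t = 2 → t = v ∨ t = α v ∨ t = α (α v)
  sq : ∀ x : T, x * x ∈ Subgroup.center T
  cmc : ∀ x y : T, cm x y ∈ Subgroup.center T
  card : Nat.card T = 16 ∨ Nat.card T = 64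
  cardZ : Nat.card (Subgroup.center T) = 4
  na : ∃ x y : T, x * y ≠ y * x

theorem sett_of (hT : IsPGroup 2 T) (h : ∀ s : T, orderOf s = 2 → s ∈ Subgroup.center T)
    (hcard : Nat.card (omega h) = 4) (α : MulAut T) (hα3 : α ^ 3 = 1)
    (htr : ∀ s t : T, orderOf s = 2 → orderOf t = 2 → ∃ k : ℕ, (α ^ k) s = t)
    (hna : ∃ x y : T, x * y ≠ y * x) : Sett T α := by
  have ha3 : ∀ x : T, α (α (α x)) = x := by
    intro x
    have h' := congrArg (fun f : MulAut T => f x) hα3
    simp only [pow_succ, pow_zero, one_mul, MulAut.mul_apply, MulAut.one_apply] at h'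
    exact h'
  have hmv : ∀ s : T, orderOf s = 2 → α s ≠ s := by
    intro s hs he
    have := (pow_apply_eq_iff h hcard α htr s hs 1).mp (by rw [pow_one]; exact he)
    omega
  have hpowmod : ∀ (k : ℕ), α ^ k = α ^ (k % 3) := by
    intro k
    conv_lhs => rw [← Nat.mod_add_div k 3, pow_add, pow_mul, hα3, one_pow, mul_one]
  -- the Suzuki property
  have hSz : Cfsg.IsSuzukiTwoGroup T := by
    obtain ⟨v₀, hv₀⟩ := exists_involution h hcard
    refine ⟨inferInstance, hT, hna, ⟨v₀, α v₀, (hmv v₀ hv₀).symm, ne_one_of_orderOf hv₀, ?_, ?_, ?_⟩,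
      Subgroup.zpowers α, inferInstance, ?_⟩
    · rw [← pow_two]; exact sq_of_orderOf hv₀
    · rw [← orderOf_apply α v₀] at hv₀; exact ne_one_of_orderOf hv₀
    · rw [← pow_two]; rw [← orderOf_apply α v₀] at hv₀; exact sq_of_orderOf hv₀
    · intro x y hx1 hx2 hy1 hy2
      have hxo : orderOf x = 2 := orderOf_eq_prime (by rw [pow_two]; exact hx2) hx1
      have hyo : orderOf y = 2 := orderOf_eq_prime (by rw [pow_two]; exact hy2) hy1
      obtain ⟨k, hk⟩ := htr x y hxo hyo
      refine ⟨⟨α ^ k, Subgroup.pow_mem _ (Subgroup.mem_zpowers α) k⟩, hk, ?_⟩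
      rintro ⟨l, hl⟩ hly
      simp only at hly
      apply Subtype.ext
      show l = α ^ k
      have hfin : IsOfFinOrder α := isOfFinOrder_of_finite α
      obtain ⟨j, rfl⟩ := (hfin.mem_powers_iff_mem_zpowers).mpr hl
      -- α^j x = α^k x
      simp only at hl hly ⊢
      rw [hpowmod j, hpowmod k]
      have hj : (α ^ (j % 3)) x = (α ^ (k % 3)) x := by
        rw [← hpowmod, ← hpowmod, hly, hk]
      have hjlt : j % 3 < 3 := Nat.mod_lt _ (by norm_num)
      have hklt : k % 3 < 3 := Nat.mod_lt _ (by norm_num)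
      have hp := minimalPeriod_eq_three h hcard α htr x hxo
      rw [pow_eq_iterate, pow_eq_iterate] at hj
      have := (Function.iterate_eq_iterate_iff_of_lt_minimalPeriod (by rw [hp]; exact hjlt)
        (by rw [hp]; exact hklt)).mp hj
      rw [this]
  have h37 := Cfsg.Agent.S1137.result hSz
  have h38 := Cfsg.Agent.S1138.result hSz
  have hZom : Subgroup.center T = omega h := by
    apply le_antisymm
    · intro z hz
      rw [mem_omega, pow_two]; exact h37.2 z hz
    · exact omega_le_center h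
  have hcardZ : Nat.card (Subgroup.center T) = 4 := by rw [hZom]; exact hcard
  refine ⟨hT, ha3, h, h37.2, hmv, ?_, h38.1, ?_, ?_, hcardZ, hna⟩
  · intro v t hv ht
    exact involution_cases h hcard α htr v hv t ht
  · intro x y
    exact h38.2.1 x y
  · rcases h38.2.2.1 with h' | h'
    · left; rw [h', hcardZ]; norm_num
    · right; rw [h', hcardZ]; norm_num

end Cfsg.Agent.Helper1.RkTwo
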