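import Mathlib
import Cfsg.Agent.Helper1.RkTwoE
import Cfsg.Agent.Helper1.SuzHD

/-!
# Consequences of the working hypotheses
-/

set_option autoImplicit false

universe u

namespace Cfsg.Agent.Helper1.RkTwo

open Cfsg.Agent.Helper3.SuzA Cfsg.Agent.Helper1.SuzH

namespace Sett

variable {T : Type u} [Group T] [Finite T] {α : MulAut T}

theorem fpf (S : Sett T α) {x : T} (hx : α x = x) : x = 1 := by
  by_contra hx1
  obtain ⟨k, hk⟩ := (IsPGroup.iff_orderOf.mp S.pg) x
  have hk0 : k ≠ 0 := by
    rintro rfl
    rw [pow_zero, orderOf_eq_one_iff] at hk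
    exact hx1 hk
  have h2 : 2 ∣ orderOf x := by rw [hk]; exact dvd_pow_self 2 hk0
  have ho : orderOf (x ^ (orderOf x / 2)) = 2 :=
    orderOf_pow_orderOf_div (by rw [hk]; positivity) h2
  apply S.mv _ ho
  rw [map_pow, hx]

theorem mem_center_alpha (_S : Sett T α) {z : T} (hz : z ∈ Subgroup.center T) :
    α z ∈ Subgroup.center T := mem_center_apply α hz

theorem inv_eq_self (S : Sett T α) {z : T} (hz : z ∈ Subgroup.center T) : z⁻¹ = z :=
  inv_eq_of_mul_eq_one_left (S.Z2 z hz)

theorem nu_center (S : Sett T α) {z : T} (hz : z ∈ Subgroup.center T) :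
    z * α z * α (α z) = 1 := by
  apply S.fpf
  rw [map_mul, map_mul, S.a3]
  have h1 := Subgroup.mem_center_iff.mp hz
  rw [h1 (α z * α (α z)), mul_assoc]

/-- for central `u`: `u * α (α u) = α u` -/
theorem nu_center' (S : Sett T α) {u : T} (hu : u ∈ Subgroup.center T) :
    u * α (α u) = α u := by
  have h1 := S.nu_center hu
  have h2 := Subgroup.mem_center_iff.mp (S.mem_center_alpha hu)
  have h3 : α u * (u * α (α u)) = 1 := by
    rw [← mul_assoc, ← h2 u]; exact h1
  have h4 : u * α (α u) = (α u)⁻¹ := eq_inv_of_mul_eq_one_right h3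
  rw [h4, S.inv_eq_self (S.mem_center_alpha hu)]

theorem nT (S : Sett T α) (a : T) : a * α a * α (α a) ∈ Subgroup.center T := by
  set n := a * α a * α (α a) with hn
  have hαn : α n = n * cm n a := by
    rw [← conj_eq_mul_cm, hn, map_mul, map_mul, S.a3]; group
  set u := cm n a with hu
  have huc : u ∈ Subgroup.center T := S.cmc n a
  have hfix : α (n * α u) = n * α u := by
    rw [map_mul, hαn, mul_assoc, S.nu_center' huc]
  have h1 := S.fpf hfix
  have h2 : n = (α u)⁻¹ := eq_inv_of_mul_eq_one_left h1
  rw [h2]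
  exact Subgroup.inv_mem _ (S.mem_center_alpha huc)

/-- `a` commutes with `α a` -/
theorem comm_alpha (S : Sett T α) (a : T) : a * α a = α a * a := by
  have hn := S.nT a
  set n := a * α a * α (α a) with hndef
  have hnc := Subgroup.mem_center_iff.mp hn
  have e1 : a * α a = n * (α (α a))⁻¹ := by rw [hndef]; group
  set s := a * a with hs
  have hsc : s ∈ Subgroup.center T := S.sq a
  have hααs : α (α s) = α (α a) * α (α a) := by rw [hs, map_mul, map_mul]
  have hααsc : α (α s) ∈ Subgroup.center T := S.mem_center_alpha (S.mem_center_alpha hsc)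
  have e2 : (a * α a) * (a * α a) = α (α s) := by
    rw [e1]
    calc n * (α (α a))⁻¹ * (n * (α (α a))⁻¹) = n * ((α (α a))⁻¹ * n) * (α (α a))⁻¹ := by group
      _ = n * (n * (α (α a))⁻¹) * (α (α a))⁻¹ := by rw [hnc]
      _ = (n * n) * (α (α a) * α (α a))⁻¹ := by group
      _ = α (α s) := by rw [S.Z2 n hn, one_mul, ← hααs, S.inv_eq_self hααsc]
  have e3 := sq_mul_cm (x := a) (u := α a) (S.cmc (α a) a)
  rw [e2] at e3
  have hαs : α s = α a * α a := by rw [hs, map_mul]
  rw [← hs, ← hαs] at e3
  -- e3 : α (α s) = s * α s * cm (α a) a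
  have h4 : s * α s = α (α s) := by
    have := S.nu_center hsc
    have h5 : s * α s = (α (α s))⁻¹ := eq_inv_of_mul_eq_one_left this
    rw [h5, S.inv_eq_self hααsc]
  rw [h4] at e3
  have h6 : cm (α a) a = 1 := by
    have : α (α s) * 1 = α (α s) * cm (α a) a := by rw [mul_one]; exact e3
    exact (mul_left_cancel this).symm
  rw [cm_eq_one_iff] at h6
  exact h6.symm

theorem card_mod3 (S : Sett T α) (H : Subgroup T) (hH : ∀ x ∈ H, α x ∈ H) :
    Nat.card H % 3 = 1 := by
  classical
  haveI : Fintype H := Fintype.ofFinite H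
  haveI : Fact (Nat.Prime 3) := ⟨Nat.prime_three⟩
  let f : Function.End H := fun x => ⟨α x.1, hH x.1 x.2⟩
  have hf : f ^ 3 ^ 1 = 1 := by
    rw [pow_one]
    have : f ^ 3 = f * f * f := by rw [pow_succ, pow_succ, pow_one]
    rw [this]
    funext x
    apply Subtype.ext
    exact S.a3 x.1
  have hmod := Equiv.Perm.card_fixedPoints_modEq (p := 3) (n := 1) hf
  have hfix : Fintype.card (Function.fixedPoints f) = 1 := by
    rw [Fintype.card_eq_one_iff]
    refine ⟨⟨1, ?_⟩, ?_⟩
    · show f 1 = 1
      apply Subtype.ext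
      show α 1 = 1
      exact map_one α
    · rintro ⟨y, hy⟩
      apply Subtype.ext
      apply Subtype.ext
      have : f y = y := hy
      have h' : α y.1 = y.1 := congrArg Subtype.val this
      show y.1 = 1
      exact S.fpf h'
  rw [hfix] at hmod
  rw [Nat.card_eq_fintype_card]
  exact hmod

theorem center_le_of_inv (S : Sett T α) (H : Subgroup T) (hH : ∀ x ∈ H, α x ∈ H)
    (hne : H ≠ ⊥) : Subgroup.center T ≤ H := by
  haveI : Fact (Nat.Prime 2) := ⟨Nat.prime_two⟩
  have hHp : IsPGroup 2 H := S.pg.to_subgroup H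
  haveI : Nontrivial H := (Subgroup.nontrivial_iff_ne_bot H).mpr hne
  obtain ⟨s, -, hs⟩ := exists_central_involution hHp
  have hs' : orderOf (s : T) = 2 := by rw [Subgroup.orderOf_coe]; exact hs
  intro z hz
  by_cases hz1 : z = 1
  · rw [hz1]; exact H.one_mem
  · have hzo : orderOf z = 2 := orderOf_eq_prime (by rw [pow_two]; exact S.Z2 z hz) hz1
    rcases S.cases s.1 z hs' hzo with rfl | rfl | rfl
    · exact s.2
    · exact hH _ s.2
    · exact hH _ (hH _ s.2)

/-- an invariant subgroup of order 16 is abelian -/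
theorem abelian_of_card16 (S : Sett T α) (H : Subgroup T) (hH : ∀ x ∈ H, α x ∈ H)
    (hcard : Nat.card H = 16) : ∀ a ∈ H, ∀ b ∈ H, a * b = b * a := by
  have hne : H ≠ ⊥ := by
    rintro rfl
    rw [Subgroup.card_bot] at hcard; omega
  have hZH := S.center_le_of_inv H hH hne
  obtain ⟨a, haH, haZ⟩ : ∃ a ∈ H, a ∉ Subgroup.center T := by
    by_contra hcon
    push Not at hcon
    have : H ≤ Subgroup.center T := hcon
    have := Subgroup.card_le_of_le this
    rw [hcard, S.cardZ] at this; omega
  let gens : Set T := {a, α a, α (α a)} ∪ (Subgroup.center T : Set T)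
  let K : Subgroup T := Subgroup.closure gens
  have hgensH : gens ⊆ H := by
    rintro g (hg | hg)
    · rcases hg with rfl | rfl | rfl
      · exact haH
      · exact hH _ haH
      · exact hH _ (hH _ haH)
    · exact hZH hg
  have hKH : K ≤ H := (Subgroup.closure_le H).mpr hgensH
  have hgensα : ∀ g ∈ gens, α g ∈ gens := by
    rintro g (hg | hg)
    · rcases hg with rfl | rfl | rfl
      · left; right; left; rfl
      · left; right; right; rfl
      · left; left; exact S.a3 a
    · right; exact S.mem_center_alpha hg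
  have hKα : ∀ x ∈ K, α x ∈ K := by
    intro x hx
    induction hx using Subgroup.closure_induction with
    | mem y hy => exact Subgroup.subset_closure (hgensα y hy)
    | one => rw [map_one]; exact K.one_mem
    | mul p q _ _ hp hq => rw [map_mul]; exact K.mul_mem hp hq
    | inv p _ hp => rw [map_inv]; exact K.inv_mem hp
  have hgcomm : ∀ g ∈ gens, ∀ g' ∈ gens, g * g' = g' * g := by
    have h1 := S.comm_alpha a
    have h2 := S.comm_alpha (α a)
    have h3 := S.comm_alpha (α (α a))
    rw [S.a3] at h3
    rintro g (hg | hg) g' (hg' | hg')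
    · rcases hg with rfl | rfl | rfl <;> rcases hg' with rfl | rfl | rfl
      · rfl
      · exact h1
      · exact h3.symm
      · exact h1.symm
      · rfl
      · exact h2
      · exact h3
      · exact h2.symm
      · rfl
    · exact (Subgroup.mem_center_iff.mp hg' g)
    · exact (Subgroup.mem_center_iff.mp hg g').symm
    · exact (Subgroup.mem_center_iff.mp hg' g)
  have hKcomm : ∀ p ∈ K, ∀ q ∈ K, p * q = q * p := by
    have step1 : K ≤ Subgroup.centralizer gens := by
      rw [Subgroup.closure_le]
      intro g hg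
      rw [SetLike.mem_coe, Subgroup.mem_centralizer_iff]
      intro g' hg'
      exact hgcomm g' hg' g hg
    have step2 : K ≤ Subgroup.centralizer (K : Set T) := by
      rw [Subgroup.closure_le]
      intro g hg
      rw [SetLike.mem_coe, Subgroup.mem_centralizer_iff]
      intro q hq
      have := Subgroup.mem_centralizer_iff.mp (step1 hq) g hg
      exact this.symm
    intro p hp q hq
    exact (Subgroup.mem_centralizer_iff.mp (step2 hp) q hq).symm
  have hmod := S.card_mod3 K hKα
  have hdvd : Nat.card K ∣ 16 := by rw [← hcard]; exact Subgroup.card_dvd_of_le hKH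
  have hZK : Subgroup.center T ≤ K := by
    intro z hz
    exact Subgroup.subset_closure (Or.inr hz)
  have haK : a ∈ K := Subgroup.subset_closure (Or.inl (Or.inl rfl))
  have hK16 : Nat.card K = 16 := by
    have hle : Nat.card K ≤ 16 := Nat.le_of_dvd (by norm_num) hdvd
    have h4 : 4 ≤ Nat.card K := by rw [← S.cardZ]; exact Subgroup.card_le_of_le hZK
    have hne4 : Nat.card K ≠ 4 := by
      intro h4'
      have : Subgroup.center T = K := by
        apply Subgroup.eq_of_le_of_card_ge hZK
        rw [h4', S.cardZ]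
      exact haZ (this ▸ haK)
    interval_cases hK : Nat.card K <;> first | omega | (exfalso; revert hdvd; decide) | rfl
  have hKeq : K = H := Subgroup.eq_of_le_of_card_ge hKH (by rw [hK16, hcard])
  intro p hp q hq
  rw [← hKeq] at hp hq
  exact hKcomm p hp q hq

/-- an invariant nonabelian subgroup is everything, and `T` has order 64 -/
theorem eq_top_of_nonabelian (S : Sett T α) (H : Subgroup T) (hH : ∀ x ∈ H, α x ∈ H)
    (hna : ∃ a ∈ H, ∃ b ∈ H, a * b ≠ b * a) : Nat.card T = 64 ∧ H = ⊤ := by
  haveI : Fact (Nat.Prime 2) := ⟨Nat.prime_two⟩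
  obtain ⟨a, ha, b, hb, hab⟩ := hna
  have hmod := S.card_mod3 H hH
  have hdvd : Nat.card H ∣ Nat.card T := Subgroup.card_subgroup_dvd_card H
  have hdvd64 : Nat.card H ∣ 64 := by
    rcases S.card with h | h
    · rw [h] at hdvd; exact hdvd.trans (by norm_num)
    · rwa [h] at hdvd
  have hle : Nat.card H ≤ 64 := Nat.le_of_dvd (by norm_num) hdvd64
  have hpos : 0 < Nat.card H := Nat.card_pos
  have hcases : Nat.card H = 1 ∨ Nat.card H = 4 ∨ Nat.card H = 16 ∨ Nat.card H = 64 := by
    obtain ⟨k, hk⟩ := IsPGroup.iff_card.mp (S.pg.to_subgroup H)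
    rw [hk] at hle hmod ⊢
    have hk6 : k ≤ 6 := by
      by_contra hcon
      push Not at hcon
      have : 2 ^ 7 ≤ 2 ^ k := Nat.pow_le_pow_right (by norm_num) hcon
      omega
    interval_cases k <;> simp_all
  rcases hcases with h1 | h4 | h16 | h64
  · exfalso
    have hbot : H = ⊥ := Subgroup.card_eq_one.mp h1
    rw [hbot, Subgroup.mem_bot] at ha hb
    rw [ha, hb] at hab
    exact hab rfl
  · exfalso
    have hc := IsPGroup.isMulCommutative_of_card_eq_prime_sq (p := 2) (G := H)
      (by rw [h4]; norm_num)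
    have := hc.is_comm.comm ⟨a, ha⟩ ⟨b, hb⟩
    exact hab (congrArg Subtype.val this)
  · exfalso
    exact hab (S.abelian_of_card16 H hH h16 a ha b hb)
  · have hT64 : Nat.card T = 64 := by
      rcases S.card with h | h
      · exfalso
        have := Subgroup.card_le_card_group H
        omega
      · exact h
    exact ⟨hT64, Subgroup.eq_top_of_card_eq H (by rw [h64, hT64])⟩

theorem card64 (S : Sett T α) : Nat.card T = 64 := by
  obtain ⟨x, y, hxy⟩ := S.na
  exact (S.eq_top_of_nonabelian ⊤ (fun _ _ => Subgroup.mem_top _)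
    ⟨x, Subgroup.mem_top _, y, Subgroup.mem_top _, hxy⟩).1

end Sett

end Cfsg.Agent.Helper1.RkTwo
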