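import Mathlib
import Cfsg.Agent.Helper1.RkTwoF
import Cfsg.Agent.Helper1.RkTwoH

/-!
# Generators and relations on the group side
-/

set_option autoImplicit false

universe u

namespace Cfsg.Agent.Helper1.RkTwo

open Cfsg.Agent.Helper3.SuzA Cfsg.Agent.Helper1.SuzH

/-- linear algebra over the field with four elements, multiplicatively -/
theorem f4_solve {A : Type u} [CommGroup A] (β : A →* A) (h2 : ∀ a : A, a * a = 1)
    (hβ : ∀ a, β (β a) = a * β a) {b₀ b₁ b₂ : A} (e1 : b₀ * b₁ * b₂ = 1)
    (e2 : b₀ * β b₂ * β (β b₁) = 1) : b₁ = β (β b₀) ∧ b₂ = β b₀ := by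
  have hinj : ∀ a, β a = 1 → a = 1 := by
    intro a ha
    have := hβ a
    rw [ha, map_one, mul_one] at this
    exact this.symm
  have hinv : ∀ a : A, a⁻¹ = a := fun a => inv_eq_of_mul_eq_one_left (h2 a)
  have k1 : β (β b₂ * b₁) = 1 := by
    rw [map_mul, hβ]
    have h : (b₀ * b₁ * b₂) * (b₀ * β b₂ * β (β b₁)) = 1 := by rw [e1, e2, one_mul]
    rw [hβ b₁] at h
    have e : (b₀ * b₁ * b₂) * (b₀ * β b₂ * (b₁ * β b₁)) =
        (b₀ * b₀) * (b₁ * b₁) * (b₂ * β b₂ * β b₁) := by ac_rfl
    rw [e, h2, h2, one_mul, one_mul] at h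
    exact h
  have k2 : b₁ = β b₂ := by
    have h := hinj _ k1
    rw [← hinv (β b₂)]
    exact eq_inv_of_mul_eq_one_right h
  have k3 : b₀ = β (β b₂) := by
    rw [hβ, ← k2]
    have h : b₀ * (b₁ * b₂) = 1 := by rw [← mul_assoc]; exact e1
    have h' := eq_inv_of_mul_eq_one_left h
    rw [h', hinv, mul_comm]
  have k4 : β b₀ = b₂ := by
    rw [k3, hβ, hβ, mul_comm b₂, ← mul_assoc, h2, one_mul]
  exact ⟨by rw [k2, ← k4], k4.symm⟩

namespace Sett

variable {T : Type u} [Group T] [Finite T] {α : MulAut T}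

theorem cm_alpha (a b : T) : α (cm a b) = cm (α a) (α b) := by
  unfold cm
  rw [map_mul, map_mul, map_mul, map_inv, map_inv]

theorem alpha2_center (S : Sett T α) {z : T} (hz : z ∈ Subgroup.center T) :
    α (α z) = z * α z := by
  have h1 := S.nu_center hz
  have h2 : α (α z) = (z * α z)⁻¹ := eq_inv_of_mul_eq_one_right h1
  rw [h2]
  exact S.inv_eq_self (Subgroup.mul_mem _ hz (S.mem_center_alpha hz))

theorem cm_symm (S : Sett T α) (a b : T) : cm a b = cm b a := by
  rw [cm_swap b a, S.inv_eq_self (S.cmc b a)]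

theorem central_of_sq_eq_one (S : Sett T α) {t : T} (h : t * t = 1) : t ∈ Subgroup.center T := by
  by_cases ht : t = 1
  · rw [ht]; exact Subgroup.one_mem _
  · exact S.cen t (orderOf_eq_prime (by rw [pow_two]; exact h) ht)

theorem orderOf_central (S : Sett T α) {z : T} (hz : z ∈ Subgroup.center T) (h1 : z ≠ 1) :
    orderOf z = 2 :=
  orderOf_eq_prime (by rw [pow_two]; exact S.Z2 z hz) h1

theorem orderOf_sq (S : Sett T α) {x : T} (hx : x ∉ Subgroup.center T) : orderOf (x * x) = 2 := by
  apply S.orderOf_central (S.sq x)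
  intro h
  exact hx (S.central_of_sq_eq_one h)

theorem cm_central_right (_S : Sett T α) {z : T} (hz : z ∈ Subgroup.center T) (x : T) :
    cm x z = 1 := by
  rw [cm_eq_one_iff]
  exact (Subgroup.mem_center_iff.mp hz x)

open scoped IsMulCommutative in
/-- the three commutators `[x, y]`, `[x, α y]`, `[x, α² y]` -/
theorem cm_relations (S : Sett T α) (x y : T) :
    cm x (α y) = α (α (cm x y)) ∧ cm x (α (α y)) = α (cm x y) := by
  let β : Subgroup.center T →* Subgroup.center T :=
    { toFun := fun z => ⟨α z.1, S.mem_center_alpha z.2⟩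
      map_one' := Subtype.ext (map_one α)
      map_mul' := fun a b => Subtype.ext (map_mul α a.1 b.1) }
  have e1 : cm x y * cm x (α y) * cm x (α (α y)) = 1 := by
    rw [← cm_mul_right (S.cmc x y), ← cm_mul_right (S.cmc x _)]
    exact S.cm_central_right (S.nT y) x
  have e2 : cm x y * α (cm x (α (α y))) * α (α (cm x (α y))) = 1 := by
    rw [cm_alpha, cm_alpha, cm_alpha, S.a3]
    have h : cm (x * α x * α (α x)) y = 1 := cm_central_left (S.nT x)
    rw [cm_mul_left (S.cmc _ y), cm_mul_left (S.cmc x y)] at h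
    exact h
  have key := f4_solve β (fun a => Subtype.ext (S.Z2 a.1 a.2))
    (fun a => Subtype.ext (S.alpha2_center a.2))
    (b₀ := ⟨cm x y, S.cmc x y⟩) (b₁ := ⟨cm x (α y), S.cmc _ _⟩)
    (b₂ := ⟨cm x (α (α y)), S.cmc _ _⟩) (Subtype.ext e1) (Subtype.ext e2)
  exact ⟨congrArg Subtype.val key.1, congrArg Subtype.val key.2⟩

/-- the generators and relations -/
theorem exists_rel (S : Sett T α) : ∃ (x x' y y' v v' : T) (c : Bool),
    Rel T x x' y y' v v' c ∧ Subgroup.closure ({v, v', x, x', y, y'} : Set T) = ⊤ ∧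
    (∀ z ∈ Subgroup.center T, z = 1 ∨ z = v ∨ z = v' ∨ z = v * v') := by
  obtain ⟨x, y₀, hxy₀⟩ := S.na
  have hxZ : x ∉ Subgroup.center T := fun h => hxy₀ (Subgroup.mem_center_iff.mp h y₀).symm
  have hy₀Z : y₀ ∉ Subgroup.center T := fun h => hxy₀ (Subgroup.mem_center_iff.mp h x)
  set v := x * x with hv
  have hvo : orderOf v = 2 := S.orderOf_sq hxZ
  have hvc : v ∈ Subgroup.center T := S.sq x
  have hααv : α (α v) = v * α v := S.alpha2_center hvc
  -- the second generator
  obtain ⟨y, hyy, hy₀⟩ : ∃ y, y * y = v ∧ (y₀ = y ∨ y₀ = α y ∨ y₀ = α (α y)) := by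
    rcases S.cases v (y₀ * y₀) hvo (S.orderOf_sq hy₀Z) with h | h | h
    · exact ⟨y₀, h, Or.inl rfl⟩
    · refine ⟨α (α y₀), ?_, Or.inr (Or.inl (S.a3 y₀).symm)⟩
      rw [← map_mul, ← map_mul, h, S.a3]
    · refine ⟨α y₀, ?_, Or.inr (Or.inr (S.a3 y₀).symm)⟩
      rw [← map_mul, h, S.a3]
  obtain ⟨hb1, hb2⟩ := S.cm_relations x y
  set c := cm x y with hc
  have hcc : c ∈ Subgroup.center T := S.cmc x y
  have hc1 : c ≠ 1 := by
    intro h1
    rw [h1, map_one, map_one] at hb1
    rw [h1, map_one] at hb2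
    apply hxy₀
    rcases hy₀ with rfl | rfl | rfl
    · exact cm_eq_one_iff.mp h1
    · exact cm_eq_one_iff.mp hb1
    · exact cm_eq_one_iff.mp hb2
  have hZ : ∀ z ∈ Subgroup.center T, z = 1 ∨ z = v ∨ z = α v ∨ z = v * α v := by
    intro z hz
    by_cases hz1 : z = 1
    · exact Or.inl hz1
    · rcases S.cases v z hvo (S.orderOf_central hz hz1) with h | h | h
      · exact Or.inr (Or.inl h)
      · exact Or.inr (Or.inr (Or.inl h))
      · exact Or.inr (Or.inr (Or.inr (by rw [h, hααv])))
  have hcv : c ≠ v := by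
    intro hcv
    have h1 := sq_mul_cm (x := x) (u := α y) (S.cmc (α y) x)
    rw [S.cm_symm (α y) x, hb1, hcv, ← map_mul, hyy, ← hv, S.nu_center hvc] at h1
    have h2 := S.cm_central_right (S.central_of_sq_eq_one h1) x
    rw [cm_mul_right (S.cmc x x), cm_self, one_mul, hb1] at h2
    have h3 : α (α c) = α (α 1) := by rw [h2, map_one, map_one]
    exact hc1 (α.injective (α.injective h3))
  have hc_cases : c = α v ∨ c = α (α v) := by
    rcases S.cases v c hvo (S.orderOf_central hcc hc1) with h | h | h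
    · exact absurd h hcv
    · exact Or.inl h
    · exact Or.inr h
  -- the relations
  have hrel : ∀ b : Bool, c = (if b then α v else v * α v) →
      Rel T x (α x) y (α y) v (α v) b := by
    intro b hb
    have hαc : α c = if b then v * α v else v := by
      rw [hb]; cases b
      · simp only [Bool.false_eq_true, if_false]; rw [← hααv, S.a3]
      · simp only [if_true]; exact hααv
    have hααc : α (α c) = if b then v else α v := by
      rw [hαc]; cases b
      · simp only [Bool.false_eq_true, if_false]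
      · simp only [if_true]; rw [← hααv, S.a3]
    refine ⟨hvc, S.mem_center_alpha hvc, S.Z2 v hvc, S.Z2 _ (S.mem_center_alpha hvc), rfl,
      (map_mul α x x).symm, hyy, by rw [← map_mul, hyy], cm_eq_one_iff.mpr (S.comm_alpha x),
      cm_eq_one_iff.mpr (S.comm_alpha y), hb, ?_, ?_, ?_⟩
    · rw [← cm_alpha, ← hc, hαc]
    · rw [hb1, hααc]
    · have h1 : cm (α x) y = α (cm x (α (α y))) := by rw [cm_alpha, S.a3]
      rw [h1, hb2, hααc]
  -- generation
  have hgen : Subgroup.closure ({v, α v, x, α x, y, α y} : Set T) = ⊤ := by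
    set G₀ := Subgroup.closure ({v, α v, x, α x, y, α y} : Set T) with hG₀
    have m1 : v ∈ G₀ := Subgroup.subset_closure (by simp)
    have m2 : α v ∈ G₀ := Subgroup.subset_closure (by simp)
    have m3 : x ∈ G₀ := Subgroup.subset_closure (by simp)
    have m4 : α x ∈ G₀ := Subgroup.subset_closure (by simp)
    have m5 : y ∈ G₀ := Subgroup.subset_closure (by simp)
    have m6 : α y ∈ G₀ := Subgroup.subset_closure (by simp)
    have hZG : Subgroup.center T ≤ G₀ := by
      intro z hz
      rcases hZ z hz with rfl | rfl | rfl | rfl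
      · exact G₀.one_mem
      · exact m1
      · exact m2
      · exact G₀.mul_mem m1 m2
    have hαα : ∀ a : T, a ∈ G₀ → α a ∈ G₀ → α (α a) ∈ G₀ := by
      intro a h1 h2
      have h3 : α (α a) = (a * α a)⁻¹ * (a * α a * α (α a)) := by group
      rw [h3]
      exact G₀.mul_mem (G₀.inv_mem (G₀.mul_mem h1 h2)) (hZG (S.nT a))
    have hinv : ∀ g ∈ G₀, α g ∈ G₀ := by
      intro g hg
      induction hg using Subgroup.closure_induction with
      | mem w hw =>
        simp only [Set.mem_insert_iff, Set.mem_singleton_iff] at hw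
        rcases hw with rfl | rfl | rfl | rfl | rfl | rfl
        · exact m2
        · exact hαα _ m1 m2
        · exact m4
        · exact hαα _ m3 m4
        · exact m6
        · exact hαα _ m5 m6
      | one => rw [map_one]; exact G₀.one_mem
      | mul p q _ _ hp hq => rw [map_mul]; exact G₀.mul_mem hp hq
      | inv p _ hp => rw [map_inv]; exact G₀.inv_mem hp
    exact (S.eq_top_of_nonabelian G₀ hinv
      ⟨x, m3, y, m5, fun h => hc1 (cm_eq_one_iff.mpr h)⟩).2
  rcases hc_cases with h | h
  · exact ⟨x, α x, y, α y, v, α v, true, hrel true (by simpa using h), hgen, hZ⟩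
  · exact ⟨x, α x, y, α y, v, α v, false, hrel false (by simpa [hααv] using h), hgen, hZ⟩

end Sett

end Cfsg.Agent.Helper1.RkTwo
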