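import Mathlib
import Cfsg.Agent.Helper1.RkTwoG
import Cfsg.Agent.Helper2.U34F

/-!
# The relations in the Sylow 2-subgroup of `U₃(4)`, and the conclusion
-/

set_option autoImplicit false

universe u v

namespace Cfsg.Agent.Helper1.RkTwo

open Cfsg.Agent.Helper3.SuzA Cfsg.Agent.Helper1.SuzH Cfsg.Agent.Helper2.U34

section USide

variable {F : Type v} [Field F]

section
variable [hF16 : IsF16 F]

theorem u_sq_fst (p : U F) : (p * p).1.1 = 0 := by rw [mul_fst]; exact add_self _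

theorem u_sq_snd (p : U F) : (p * p).1.2 = p.1.1 ^ 5 := by
  rw [mul_snd]; linear_combination p.1.2 * hF16.two

theorem u_cm_fst (p q : U F) : (cm p q).1.1 = 0 := by
  unfold cm
  simp only [mul_fst, inv_fst]
  linear_combination (p.1.1 + q.1.1) * hF16.two

theorem u_cm_snd (p q : U F) : (cm p q).1.2 = p.1.1 ^ 4 * q.1.1 + p.1.1 * q.1.1 ^ 4 := by
  unfold cm
  simp only [mul_fst, mul_snd, inv_fst, inv_snd, frob4]
  linear_combination (p.1.2 + q.1.2 + p.1.1 ^ 5 + q.1.1 ^ 5 + p.1.1 ^ 4 * q.1.1) * hF16.two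

end

variable [Fintype F]

theorem exists_zeta (hF : Fintype.card F = 16) :
    ∃ ζ : F, ζ ^ 5 = 1 ∧ 1 + ζ + ζ ^ 2 + ζ ^ 3 + ζ ^ 4 = 0 := by
  haveI : Fact (Nat.Prime 5) := ⟨by norm_num⟩
  have hcard : Nat.card Fˣ = 15 := by
    rw [Nat.card_units, Nat.card_eq_fintype_card, hF]
  obtain ⟨g, hg⟩ := exists_prime_orderOf_dvd_card' (G := Fˣ) 5 (by rw [hcard]; norm_num)
  have h5 : (g : F) ^ 5 = 1 := by
    rw [← Units.val_pow_eq_pow_val, ← hg, pow_orderOf_eq_one]; rfl
  have hne : (g : F) - 1 ≠ 0 := by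
    intro h
    have h1 : (g : F) = 1 := by linear_combination h
    have h2 : g = 1 := Units.ext h1
    rw [h2, orderOf_one] at hg
    norm_num at hg
  refine ⟨(g : F), h5, ?_⟩
  have h6 : ((g : F) - 1) * (1 + (g : F) + (g : F) ^ 2 + (g : F) ^ 3 + (g : F) ^ 4) = 0 := by
    linear_combination h5
  rcases mul_eq_zero.mp h6 with h | h
  · exact absurd h hne
  · exact h

theorem rel_U (hF : Fintype.card F = 16) [hF16 : IsF16 F] (ζ ω : F) (h5 : ζ ^ 5 = 1)
    (hω : ω ^ 2 + ω + 1 = 0) (c : Bool) (hc : ζ + ζ ^ 4 = if c then ω ^ 2 else ω) :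
    Rel (U F) (lift hF 1) (lift hF ω) (lift hF ζ) (lift hF (ω * ζ))
      (lift hF 1 * lift hF 1) (lift hF ω * lift hF ω) c := by
  have h2 := hF16.two
  have hω3 : ω ^ 3 = 1 := by linear_combination (ω - 1) * hω
  have hω4 : ω ^ 4 = ω := by linear_combination ω * hω3
  have hω5 : ω ^ 5 = ω ^ 2 := by linear_combination ω ^ 2 * hω3
  refine ⟨?_, ?_, ?_, ?_, rfl, rfl, ?_, ?_, ?_, ?_, ?_, ?_, ?_, ?_⟩
  · exact (mem_center_iff hF _).mpr (u_sq_fst _)
  · exact (mem_center_iff hF _).mpr (u_sq_fst _)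
  · apply U.ext
    · rw [u_sq_fst]; rfl
    · rw [u_sq_snd, u_sq_fst]; simp
  · apply U.ext
    · rw [u_sq_fst]; rfl
    · rw [u_sq_snd, u_sq_fst]; simp
  · apply U.ext
    · rw [u_sq_fst, u_sq_fst]
    · rw [u_sq_snd, u_sq_snd, lift_fst, lift_fst, h5, one_pow]
  · apply U.ext
    · rw [u_sq_fst, u_sq_fst]
    · rw [u_sq_snd, u_sq_snd, lift_fst, lift_fst, mul_pow, h5, mul_one]
  · apply U.ext
    · rw [u_cm_fst]; rfl
    · rw [u_cm_snd, lift_fst, lift_fst, one_snd]
      linear_combination hω4 + ω * h2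
  · apply U.ext
    · rw [u_cm_fst]; rfl
    · rw [u_cm_snd, lift_fst, lift_fst, one_snd]
      linear_combination (ω + ω ^ 4) * h5 + hω4 + ω * h2
  · cases c
    · simp only [Bool.false_eq_true, if_false] at hc ⊢
      apply U.ext
      · rw [u_cm_fst, mul_fst, u_sq_fst, u_sq_fst, add_zero]
      · rw [u_cm_snd, mul_snd, u_sq_snd, u_sq_snd, u_sq_fst]
        simp only [lift_fst]
        linear_combination hc - hω5 - hω + ω * h2
    · simp only [if_true] at hc ⊢
      apply U.ext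
      · rw [u_cm_fst, u_sq_fst]
      · rw [u_cm_snd, u_sq_snd]
        simp only [lift_fst]
        linear_combination hc - hω5
  · cases c
    · simp only [Bool.false_eq_true, if_false] at hc ⊢
      apply U.ext
      · rw [u_cm_fst, u_sq_fst]
      · rw [u_cm_snd, u_sq_snd]
        simp only [lift_fst]
        linear_combination ω ^ 5 * hc + (ω ^ 3 + 1) * hω3
    · simp only [if_true] at hc ⊢
      apply U.ext
      · rw [u_cm_fst, mul_fst, u_sq_fst, u_sq_fst, add_zero]
      · rw [u_cm_snd, mul_snd, u_sq_snd, u_sq_snd, u_sq_fst]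
        simp only [lift_fst]
        linear_combination ω ^ 5 * hc + ω * (ω ^ 3 + 1) * hω3 - hω5 - hω + ω * h2
  · cases c
    · simp only [Bool.false_eq_true, if_false] at hc ⊢
      apply U.ext
      · rw [u_cm_fst, u_sq_fst]
      · rw [u_cm_snd, u_sq_snd]
        simp only [lift_fst]
        linear_combination ω * hc + ζ ^ 4 * hω4 - hω5
    · simp only [if_true] at hc ⊢
      apply U.ext
      · rw [u_cm_fst, u_sq_fst]
      · rw [u_cm_snd, u_sq_snd]
        simp only [lift_fst]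
        linear_combination ω * hc + ζ ^ 4 * hω4 + hω3
  · cases c
    · simp only [Bool.false_eq_true, if_false] at hc ⊢
      apply U.ext
      · rw [u_cm_fst, u_sq_fst]
      · rw [u_cm_snd, u_sq_snd]
        simp only [lift_fst]
        linear_combination ω * hc + ζ * hω4 - hω5
    · simp only [if_true] at hc ⊢
      apply U.ext
      · rw [u_cm_fst, u_sq_fst]
      · rw [u_cm_snd, u_sq_snd]
        simp only [lift_fst]
        linear_combination ω * hc + ζ * hω4 + hω3

end USide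

theorem nonabelian_case {T : Type u} [Group T] [Finite T] {α : MulAut T} (S : Sett T α)
    {F : Type v} [Field F] [Fintype F] (hF : Fintype.card F = 16)
    (P : Sylow 2 (Cfsg.PSU 3 F 4)) : Nonempty (T ≃* (P : Subgroup (Cfsg.PSU 3 F 4))) := by
  haveI hF16 := isF16_of_card hF
  have h2 := hF16.two
  obtain ⟨x, x', y, y', v, v', c, hrel, hgen, hZ⟩ := S.exists_rel
  obtain ⟨ζ, h5, hΦ⟩ := exists_zeta hF
  obtain ⟨τ, hτdef⟩ : ∃ τ : F, ζ + ζ ^ 4 = τ := ⟨_, rfl⟩
  have hτ : τ ^ 2 + τ + 1 = 0 := by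
    rw [← hτdef]
    linear_combination hΦ + ζ ^ 5 * h2 + ζ ^ 3 * h5
  obtain ⟨ω, hω, hc⟩ : ∃ ω : F, ω ^ 2 + ω + 1 = 0 ∧ ζ + ζ ^ 4 = if c then ω ^ 2 else ω := by
    cases c
    · exact ⟨τ, hτ, by simpa using hτdef⟩
    · refine ⟨τ ^ 2, by linear_combination (τ ^ 2 - τ + 1) * hτ, ?_⟩
      simp only [if_true]
      rw [hτdef]
      linear_combination (-τ * (τ - 1)) * hτ
  have hU := rel_U hF ζ ω h5 hω c hc
  have hω0 : ω ≠ 0 := by
    intro h0
    rw [h0] at hω
    norm_num at hω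
  have hω5 : ω ^ 5 = ω ^ 2 := by linear_combination ω ^ 2 * (ω - 1) * hω
  have hV : lift hF 1 * lift hF 1 ≠ (1 : U F) := by
    intro h
    have h' := congrArg (fun p : U F => p.1.2) h
    simp only [u_sq_snd, lift_fst, one_snd, one_pow] at h'
    exact one_ne_zero h'
  have hV' : lift hF ω * lift hF ω ≠ (1 : U F) := by
    intro h
    have h' := congrArg (fun p : U F => p.1.2) h
    simp only [u_sq_snd, lift_fst, one_snd] at h'
    exact hω0 (pow_eq_zero_iff (by norm_num) |>.mp h')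
  have hVV' : (lift hF 1 * lift hF 1) * (lift hF ω * lift hF ω) ≠ (1 : U F) := by
    intro h
    have h' : ((lift hF 1 * lift hF 1) * (lift hF ω * lift hF ω)).1.2 = (1 : U F).1.2 := by rw [h]
    rw [mul_snd, u_sq_snd, u_sq_snd, u_sq_fst, lift_fst, lift_fst, one_snd] at h'
    apply hω0
    linear_combination (-1 : F) * h' + hω5 + hω
  haveI : Finite (U F) := Nat.finite_of_card_ne_zero (by rw [card_U hF]; norm_num)
  obtain ⟨e⟩ := iso_of_rel hrel hU hgen S.card64 (card_U hF) hZ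
    (fun t ht => S.central_of_sq_eq_one ht) S.sq hV hV' hVV'
  obtain ⟨e'⟩ := equiv_sylow hF P
  exact ⟨e.trans e'⟩

end Cfsg.Agent.Helper1.RkTwo
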