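import Mathlib
import Cfsg.Agent.Helper6.DihOrdA

set_option autoImplicit false

/-!
A quotient lemma for helper5 (S3174): if the first three terms of the upper central series of a
`2`-group `T` have orders `2, 4, 8`, the third has exponent `2` and its centralizer `W` has index
`8`, then `T ⧸ W` is dihedral of order `8`.
-/

namespace Cfsg.Agent.Helper1.RuQuot

open scoped commutatorElement

/-- cosets of a subgroup of relative index two -/
theorem coset2 {G : Type*} [Group G] [Finite G] (H K : Subgroup G) (hHK : H ≤ K)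
    (hc : Nat.card K = 2 * Nat.card H) {x g : G} (hx : x ∈ K) (hg : g ∈ K) (hgH : g ∉ H) :
    x ∈ H ∨ x * g⁻¹ ∈ H := by
  have hidx : (H.subgroupOf K).index = 2 := by
    have h1 := Subgroup.card_mul_index (H.subgroupOf K)
    have h2 : Nat.card (H.subgroupOf K) = Nat.card H :=
      Nat.card_congr (Subgroup.subgroupOfEquivOfLe hHK).toEquiv
    rw [h2, hc] at h1
    have hpos : 0 < Nat.card H := Nat.card_pos
    exact Nat.eq_of_mul_eq_mul_left hpos (by linarith)
  by_cases hxH : x ∈ H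
  · exact Or.inl hxH
  · right
    have key := Subgroup.mul_mem_iff_of_index_two hidx (a := (⟨x, hx⟩ : K))
      (b := (⟨g, hg⟩ : K)⁻¹)
    have h3 : (⟨x, hx⟩ : K) * (⟨g, hg⟩ : K)⁻¹ ∈ H.subgroupOf K := by
      rw [key]
      constructor
      · intro h; exact absurd (Subgroup.mem_subgroupOf.mp h) hxH
      · intro h
        rw [Subgroup.inv_mem_iff] at h
        exact absurd (Subgroup.mem_subgroupOf.mp h) hgH
    exact Subgroup.mem_subgroupOf.mp h3

theorem quot_dihedral {T : Type*} [Group T] [Finite T]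
    (hT : IsPGroup 2 T)
    (h1 : Nat.card ↥(Subgroup.upperCentralSeries T 1) = 2)
    (h2 : Nat.card ↥(Subgroup.upperCentralSeries T 2) = 4)
    (h3 : Nat.card ↥(Subgroup.upperCentralSeries T 3) = 8)
    (hexp : ∀ z ∈ Subgroup.upperCentralSeries T 3, z ^ 2 = 1)
    (W : Subgroup T) (hW : W = Subgroup.centralizer ((Subgroup.upperCentralSeries T 3 : Subgroup T) : Set T))
    (hWn : W.Normal) (hidx : W.index = 8) :
    Nonempty (T ⧸ W ≃* DihedralGroup 4) := by
  classical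
  obtain ⟨Z1, hZ1⟩ : ∃ Z, Z = Subgroup.upperCentralSeries T 1 := ⟨_, rfl⟩
  obtain ⟨Z2, hZ2⟩ : ∃ Z, Z = Subgroup.upperCentralSeries T 2 := ⟨_, rfl⟩
  obtain ⟨Z3, hZ3⟩ : ∃ Z, Z = Subgroup.upperCentralSeries T 3 := ⟨_, rfl⟩
  rw [← hZ1] at h1
  rw [← hZ2] at h2
  rw [← hZ3] at h3 hexp hW
  have h12 : Z1 ≤ Z2 := by rw [hZ1, hZ2]; exact Subgroup.upperCentralSeries_mono T (by norm_num)
  have h23 : Z2 ≤ Z3 := by rw [hZ2, hZ3]; exact Subgroup.upperCentralSeries_mono T (by norm_num)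
  have h13 : Z1 ≤ Z3 := h12.trans h23
  -- elements of `Z1` are central
  have hcen : ∀ z ∈ Z1, ∀ t : T, Commute t z := by
    intro z hz t
    rw [hZ1, Subgroup.upperCentralSeries_one] at hz
    exact (Subgroup.mem_center_iff.mp hz t)
  have hcom2 : ∀ g ∈ Z2, ∀ t : T, t * g * t⁻¹ * g⁻¹ ∈ Z1 := by
    intro g hg t
    rw [hZ2] at hg
    have := (Subgroup.mem_upperCentralSeries_succ_iff.mp hg) t
    rw [← hZ1] at this
    have h' := Z1.inv_mem this
    rwa [commutatorElement_inv, commutatorElement_def] at h'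
  have hcom3 : ∀ g ∈ Z3, ∀ t : T, t * g * t⁻¹ * g⁻¹ ∈ Z2 := by
    intro g hg t
    rw [hZ3] at hg
    have := (Subgroup.mem_upperCentralSeries_succ_iff.mp hg) t
    rw [← hZ2] at this
    have h' := Z2.inv_mem this
    rwa [commutatorElement_inv, commutatorElement_def] at h'
  -- generators
  obtain ⟨g1, hg1, hg1ne⟩ : ∃ g ∈ Z1, g ≠ 1 := by
    by_contra hcon
    push_neg at hcon
    have : Z1 = ⊥ := (Subgroup.eq_bot_iff_forall _).mpr hcon
    rw [this, Subgroup.card_bot] at h1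
    omega
  obtain ⟨g2, hg2, hg2n⟩ : ∃ g ∈ Z2, g ∉ Z1 := by
    by_contra hcon
    push_neg at hcon
    have : Z2 ≤ Z1 := hcon
    have := Subgroup.card_le_of_le this
    omega
  obtain ⟨g3, hg3, hg3n⟩ : ∃ g ∈ Z3, g ∉ Z2 := by
    by_contra hcon
    push_neg at hcon
    have : Z3 ≤ Z2 := hcon
    have := Subgroup.card_le_of_le this
    omega
  have sq : ∀ z ∈ Z3, z * z = 1 := fun z hz => by rw [← pow_two]; exact hexp z hz
  have inv_self : ∀ z ∈ Z3, z⁻¹ = z := fun z hz => inv_eq_of_mul_eq_one_left (sq z hz)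
  have comm3 : ∀ x ∈ Z3, ∀ y ∈ Z3, x * y = y * x := by
    intro x hx y hy
    have := inv_self (x * y) (Z3.mul_mem hx hy)
    rw [mul_inv_rev, inv_self x hx, inv_self y hy] at this
    exact this.symm
  have hg2ne : g2 ≠ 1 := fun h => hg2n (h ▸ Z1.one_mem)
  -- coset descriptions
  have K1 : ∀ z ∈ Z1, z = 1 ∨ z = g1 := by
    intro z hz
    have hc : Nat.card Z1 = 2 * Nat.card (⊥ : Subgroup T) := by rw [Subgroup.card_bot, h1]
    have hg1' : g1 ∉ (⊥ : Subgroup T) := fun h => hg1ne (Subgroup.mem_bot.mp h)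
    rcases coset2 ⊥ Z1 bot_le hc hz hg1 hg1' with h | h
    · exact Or.inl (Subgroup.mem_bot.mp h)
    · exact Or.inr (mul_inv_eq_one.mp (Subgroup.mem_bot.mp h))
  have K2 : ∀ z ∈ Z2, z ∈ Z1 ∨ z * g2⁻¹ ∈ Z1 := fun z hz =>
    coset2 Z1 Z2 h12 (by rw [h1, h2]) hz hg2 hg2n
  have K3 : ∀ z ∈ Z3, z ∈ Z2 ∨ z * g3⁻¹ ∈ Z2 := fun z hz =>
    coset2 Z2 Z3 h23 (by rw [h2, h3]) hz hg3 hg3n
  -- centralizing `g2` and `g3` is enough
  have L : ∀ u : T, Commute u g2 → Commute u g3 → u ∈ W := by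
    intro u hu2 hu3
    have L2 : ∀ w ∈ Z2, Commute u w := by
      intro w hw
      rcases K2 w hw with h | h
      · exact hcen w h u
      · have : w = (w * g2⁻¹) * g2 := by group
        rw [this]
        exact (hcen _ h u).mul_right hu2
    rw [hW, Subgroup.mem_centralizer_iff]
    intro z hz
    have hz' : z ∈ Z3 := hz
    rcases K3 z hz' with h | h
    · exact (L2 z h).eq.symm
    · have e : z = (z * g3⁻¹) * g3 := by group
      have : Commute u z := by
        rw [e]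
        exact (L2 _ h).mul_right hu3
      exact this.eq.symm
  have Wc : ∀ u ∈ W, ∀ z ∈ Z3, Commute u z := by
    intro u hu z hz
    rw [hW, Subgroup.mem_centralizer_iff] at hu
    exact (hu z hz).symm
  -- the map to `Z1 × Z2`
  let ψ : T → Z1 × Z2 := fun t =>
    (⟨t * g2 * t⁻¹ * g2⁻¹, hcom2 g2 hg2 t⟩, ⟨t * g3 * t⁻¹ * g3⁻¹, hcom3 g3 hg3 t⟩)
  have conj_eq : ∀ (s t g : T), s * g * s⁻¹ * g⁻¹ = t * g * t⁻¹ * g⁻¹ → Commute (s⁻¹ * t) g := by
    intro s t g h
    have h' : s * g * s⁻¹ = t * g * t⁻¹ := mul_right_cancel h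
    show (s⁻¹ * t) * g = g * (s⁻¹ * t)
    calc (s⁻¹ * t) * g = s⁻¹ * (t * g * t⁻¹) * t := by group
      _ = s⁻¹ * (s * g * s⁻¹) * t := by rw [h']
      _ = g * (s⁻¹ * t) := by group
  have hψ1 : ∀ s t, ψ s = ψ t → s⁻¹ * t ∈ W := by
    intro s t h
    have e1 := congrArg (fun p : Z1 × Z2 => (p.1 : T)) h
    have e2 := congrArg (fun p : Z1 × Z2 => (p.2 : T)) h
    exact L _ (conj_eq s t g2 e1) (conj_eq s t g3 e2)
  have hψ2 : ∀ s t, s⁻¹ * t ∈ W → ψ s = ψ t := by
    intro s t h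
    have c2 := Wc _ h g2 (h23 hg2)
    have c3 := Wc _ h g3 hg3
    have e : ∀ g : T, Commute (s⁻¹ * t) g → s * g * s⁻¹ * g⁻¹ = t * g * t⁻¹ * g⁻¹ := by
      intro g hc
      have hc' : (s⁻¹ * t) * g = g * (s⁻¹ * t) := hc
      have : s * g * s⁻¹ = t * g * t⁻¹ := by
        calc s * g * s⁻¹ = s * (g * (s⁻¹ * t)) * t⁻¹ := by group
          _ = s * ((s⁻¹ * t) * g) * t⁻¹ := by rw [hc']
          _ = t * g * t⁻¹ := by group
      rw [this]
    apply Prod.ext
    · exact Subtype.ext (e g2 c2)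
    · exact Subtype.ext (e g3 c3)
  let f : T ⧸ W → Z1 × Z2 := fun q =>
    Quotient.liftOn' q ψ (fun s t hst => hψ2 s t (QuotientGroup.leftRel_apply.mp hst))
  have hf : Function.Injective f := by
    intro q1 q2
    refine Quotient.inductionOn₂' q1 q2 (fun s t h => ?_)
    exact QuotientGroup.eq.mpr (hψ1 s t h)
  have hcard : Nat.card (Z1 × Z2) ≤ Nat.card (T ⧸ W) := by
    rw [Nat.card_prod, h1, h2]
    have : Nat.card (T ⧸ W) = 8 := hidx
    omega
  have hbij := hf.bijective_of_nat_card_le hcard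
  obtain ⟨qa, hqa⟩ := hbij.2 (1, ⟨g2, hg2⟩)
  obtain ⟨qb, hqb⟩ := hbij.2 (⟨g1, hg1⟩, 1)
  obtain ⟨a, rfl⟩ := QuotientGroup.mk_surjective qa
  obtain ⟨b, rfl⟩ := QuotientGroup.mk_surjective qb
  have ha : ψ a = (1, ⟨g2, hg2⟩) := hqa
  have hb : ψ b = (⟨g1, hg1⟩, 1) := hqb
  have ha2 : a * g2 * a⁻¹ * g2⁻¹ = 1 := congrArg (fun p : Z1 × Z2 => (p.1 : T)) ha
  have ha3 : a * g3 * a⁻¹ * g3⁻¹ = g2 := congrArg (fun p : Z1 × Z2 => (p.2 : T)) ha
  have hb2 : b * g2 * b⁻¹ * g2⁻¹ = g1 := congrArg (fun p : Z1 × Z2 => (p.1 : T)) hb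
  have hb3 : b * g3 * b⁻¹ * g3⁻¹ = 1 := congrArg (fun p : Z1 × Z2 => (p.2 : T)) hb
  -- conjugation action
  have ca2 : MulAut.conj a g2 = g2 := by
    rw [MulAut.conj_apply]; exact mul_inv_eq_one.mp ha2
  have ca3 : MulAut.conj a g3 = g2 * g3 := by
    rw [MulAut.conj_apply]; exact mul_inv_eq_iff_eq_mul.mp ha3
  have cb2 : MulAut.conj b g2 = g1 * g2 := by
    rw [MulAut.conj_apply]; exact mul_inv_eq_iff_eq_mul.mp hb2
  have cb3 : MulAut.conj b g3 = g3 := by
    rw [MulAut.conj_apply]; exact mul_inv_eq_one.mp hb3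
  have c1 : ∀ t : T, MulAut.conj t g1 = g1 := by
    intro t
    rw [MulAut.conj_apply, (hcen g1 hg1 t).eq, mul_inv_cancel_right]
  have g1sq := sq g1 (h13 hg1)
  have g2sq := sq g2 (h23 hg2)
  have comm_of_conj : ∀ (u g : T), MulAut.conj u g = g → Commute u g := by
    intro u g h
    rw [MulAut.conj_apply] at h
    exact mul_inv_eq_iff_eq_mul.mp h
  have haa : a * a ∈ W := by
    apply L
    · apply comm_of_conj
      rw [map_mul, MulAut.mul_apply, ca2, ca2]
    · apply comm_of_conj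
      rw [map_mul, MulAut.mul_apply, ca3, map_mul, ca2, ca3, ← mul_assoc, g2sq, one_mul]
  have hbb : b * b ∈ W := by
    apply L
    · apply comm_of_conj
      rw [map_mul, MulAut.mul_apply, cb2, map_mul, c1, cb2, ← mul_assoc, g1sq, one_mul]
    · apply comm_of_conj
      rw [map_mul, MulAut.mul_apply, cb3, cb3]
  have haW : a ∉ W := by
    intro h
    have := Wc a h g3 hg3
    have e : MulAut.conj a g3 = g3 := by
      rw [MulAut.conj_apply, this.eq, mul_inv_cancel_right]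
    rw [ca3] at e
    exact hg2ne (mul_eq_right.mp e)
  have hbW : b ∉ W := by
    intro h
    have := Wc b h g2 (h23 hg2)
    have e : MulAut.conj b g2 = g2 := by
      rw [MulAut.conj_apply, this.eq, mul_inv_cancel_right]
    rw [cb2] at e
    exact hg1ne (mul_eq_right.mp e)
  have habW : (a * b) * (a * b) ∉ W := by
    intro h
    have := Wc _ h g3 hg3
    have e : MulAut.conj ((a * b) * (a * b)) g3 = g3 := by
      rw [MulAut.conj_apply, this.eq, mul_inv_cancel_right]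
    have e2 : MulAut.conj (a * b) g3 = g2 * g3 := by
      rw [map_mul, MulAut.mul_apply, cb3, ca3]
    have e3 : MulAut.conj (a * b) g2 = g1 * g2 := by
      rw [map_mul, MulAut.mul_apply, cb2, map_mul, c1, ca2]
    rw [map_mul, MulAut.mul_apply, e2, map_mul, e3, e2] at e
    have e4 : g1 * g2 * (g2 * g3) = g1 * g3 := by
      rw [mul_assoc, ← mul_assoc g2, g2sq, one_mul]
    rw [e4] at e
    exact hg1ne (mul_eq_right.mp e)
  -- pass to the quotient
  obtain ⟨x, hx⟩ : ∃ x : T ⧸ W, x = (a : T ⧸ W) := ⟨_, rfl⟩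
  obtain ⟨y, hy⟩ : ∃ y : T ⧸ W, y = (b : T ⧸ W) := ⟨_, rfl⟩
  have hxx : x * x = 1 := by
    rw [hx, ← QuotientGroup.mk_mul]; exact (QuotientGroup.eq_one_iff _).mpr haa
  have hyy : y * y = 1 := by
    rw [hy, ← QuotientGroup.mk_mul]; exact (QuotientGroup.eq_one_iff _).mpr hbb
  have hx1 : x ≠ 1 := by
    rw [hx]; exact fun h => haW ((QuotientGroup.eq_one_iff _).mp h)
  have hy1 : y ≠ 1 := by
    rw [hy]; exact fun h => hbW ((QuotientGroup.eq_one_iff _).mp h)
  have hxy : (x * y) * (x * y) ≠ 1 := by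
    rw [hx, hy, ← QuotientGroup.mk_mul, ← QuotientGroup.mk_mul]
    exact fun h => habW ((QuotientGroup.eq_one_iff _).mp h)
  obtain ⟨e⟩ := Cfsg.Agent.Helper2.closure_pair_invol_equiv_dihedral hxx hyy hx1 hy1
  have hQ : Nat.card (T ⧸ W) = 8 := hidx
  have hcl : Nat.card (Subgroup.closure ({x, y} : Set (T ⧸ W))) = 2 * orderOf (x * y) := by
    rw [Nat.card_congr e.toEquiv, DihedralGroup.nat_card]
  have hdvd : Nat.card (Subgroup.closure ({x, y} : Set (T ⧸ W))) ∣ 8 := by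
    rw [← hQ]; exact Subgroup.card_subgroup_dvd_card _
  have hn : orderOf (x * y) = 4 := by
    have hpos : 0 < orderOf (x * y) := orderOf_pos _
    have h4 : orderOf (x * y) ∣ 4 := by
      rw [hcl] at hdvd
      exact Nat.dvd_of_mul_dvd_mul_left (by norm_num : 0 < 2) (by simpa using hdvd)
    have hle : orderOf (x * y) ≤ 4 := Nat.le_of_dvd (by norm_num) h4
    have hn2 : ¬ orderOf (x * y) ∣ 2 := by
      intro h
      rw [orderOf_dvd_iff_pow_eq_one, pow_two] at h
      exact hxy h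
    interval_cases hn : orderOf (x * y)
    · exact absurd (one_dvd 2) hn2
    · exact absurd (dvd_refl 2) hn2
    · omega
    · rfl
  rw [hn] at e hcl
  have htop : Subgroup.closure ({x, y} : Set (T ⧸ W)) = ⊤ :=
    Subgroup.eq_top_of_card_eq _ (by rw [hcl, hQ])
  exact ⟨(Subgroup.topEquiv.symm.trans (MulEquiv.subgroupCongr htop.symm)).trans e⟩

end Cfsg.Agent.Helper1.RuQuot
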