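import Mathlib
import Cfsg.Agent.Helper7.S4017Defs

/-!
Sub-piece `b2_TI` of (P8) of S4017 (helper5's stub): the Sylow `p`-subgroups are TI.
-/

namespace Cfsg.Agent.Helper7.S4017

universe u

variable {G : Type u} [Group G] [Finite G] {p : ℕ}

omit [Finite G] in
theorem h1_mem_cent (v y : G) : y ∈ Cent v ↔ v * y = y * v := by
  unfold Cent
  rw [Subgroup.mem_centralizer_iff]
  constructor
  · intro h; exact h v rfl
  · intro h z hz
    rw [Set.mem_singleton_iff] at hz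
    subst hz
    exact h

/-- two Sylow subgroups are conjugate, elementwise form. -/
theorem h1_sylow_conj {q : ℕ} [Fact q.Prime] (P P' : Sylow q G) :
    ∃ g : G, ∀ x : G, x ∈ P' ↔ g⁻¹ * x * g ∈ P := by
  obtain ⟨g, hg⟩ := MulAction.exists_smul_eq G P P'
  refine ⟨g, fun x => ?_⟩
  rw [← hg]
  show x ∈ ((g • P : Sylow q G) : Subgroup G) ↔ _
  rw [Sylow.coe_subgroup_smul, Subgroup.mem_pointwise_smul_iff_inv_smul_mem]
  simp only [MulAut.smul_def, MulAut.conj_inv_apply]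
  exact Iff.rfl

theorem h1_two_p_number (n p : ℕ) (hn : n ≠ 0) (hp : p.Prime) (hp2 : p ≠ 2)
    (hpq : ∀ ℓ : ℕ, ℓ.Prime → ℓ ∣ n → ℓ = 2 ∨ ℓ = p) :
    ∃ j : ℕ, n = 2 ^ n.factorization 2 * p ^ j := by
  have h1 : ordProj[2] n * ordCompl[2] n = n := Nat.ordProj_mul_ordCompl_eq_self n 2
  have h2 : ¬ 2 ∣ ordCompl[2] n := Nat.not_dvd_ordCompl Nat.prime_two hn
  have h3 : ordCompl[2] n ≠ 0 := by
    intro h0
    rw [h0, mul_zero] at h1
    exact hn h1.symm
  have h4 : ordCompl[2] n = p ^ (ordCompl[2] n).primeFactorsList.length := by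
    apply Nat.eq_prime_pow_of_unique_prime_dvd h3
    intro d hd hdn
    have hdn' : d ∣ n := by
      rw [← h1]; exact dvd_mul_of_dvd_right hdn _
    rcases hpq d hd hdn' with h | h
    · subst h; exact absurd hdn h2
    · exact h
  exact ⟨_, by rw [← h4]; exact h1.symm⟩

theorem h1_card_eq (hp : p.Prime) (hp2 : p ≠ 2) (Y : Subgroup G) (P : Sylow p G)
    (hPY : (P : Subgroup G) ≤ Y)
    (hYpq : ∀ ℓ : ℕ, ℓ.Prime → ℓ ∣ Nat.card Y → ℓ = 2 ∨ ℓ = p) :
    Nat.card Y = 2 ^ (Nat.card Y).factorization 2 * Nat.card P := by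
  have : Fact p.Prime := ⟨hp⟩
  have hY0 : Nat.card Y ≠ 0 := Nat.card_pos.ne'
  obtain ⟨j, hj⟩ := h1_two_p_number (Nat.card Y) p hY0 hp hp2 hYpq
  have hPc : Nat.card (P : Subgroup G) = p ^ (Nat.card G).factorization p :=
    P.card_eq_multiplicity
  have hcop : Nat.Coprime p 2 := (Nat.coprime_primes hp Nat.prime_two).mpr hp2
  have h1 : Nat.card (P : Subgroup G) ∣ Nat.card Y := Subgroup.card_dvd_of_le hPY
  have h2 : p ^ (Nat.card G).factorization p ∣ p ^ j := by
    rw [hPc, hj] at h1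
    exact Nat.Coprime.dvd_of_dvd_mul_left (Nat.Coprime.pow _ _ hcop) h1
  have h3 : (Nat.card G).factorization p ≤ j := (Nat.pow_dvd_pow_iff_le_right hp.one_lt).mp h2
  have h4 : p ^ j ∣ Nat.card G := by
    have : p ^ j ∣ Nat.card Y := by rw [hj]; exact dvd_mul_left _ _
    exact this.trans (Subgroup.card_subgroup_dvd_card Y)
  have h5 : j ≤ (Nat.card G).factorization p :=
    (Nat.Prime.pow_dvd_iff_le_factorization hp (Nat.card_pos.ne')).mp h4
  have h6 : j = (Nat.card G).factorization p := le_antisymm h5 h3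
  rw [hPc, ← h6]
  exact hj

omit [Finite G] in
theorem h1_pelt_of_mem (hp : p.Prime) (P : Sylow p G) (x : G) (hx : x ∈ (P : Subgroup G)) :
    IsPElt p x := by
  obtain ⟨k, hk⟩ := P.isPGroup' ⟨x, hx⟩
  have hk' : x ^ p ^ k = 1 := congrArg Subtype.val hk
  obtain ⟨j, _, hj⟩ := (Nat.dvd_prime_pow hp).mp (orderOf_dvd_of_pow_eq_one hk')
  exact ⟨j, hj⟩

theorem b2_TI (h : MinCE G p 2) (fa : FactsA G p 2) (fb : FactsB G p 2) (hdich : Dichotomy G p 2)
    (Q : Sylow 2 G) (t : G) (htQ : t ∈ Q) (ht1 : t ≠ 1) (P : Sylow p G)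
    (hc : ∀ x ∈ (P : Subgroup G), t * x * t⁻¹ = x)
    (hi : ∀ s ∈ Q, s ≠ 1 → s ≠ t → ∀ x ∈ (P : Subgroup G), s * x * s⁻¹ = x⁻¹)
    (g v : G) (hv1 : v ≠ 1) (hvP : v ∈ (P : Subgroup G)) (hvg : g * v * g⁻¹ ∈ (P : Subgroup G)) :
    ∀ x ∈ (P : Subgroup G), g * x * g⁻¹ ∈ (P : Subgroup G) := by
  classical
  have hp := h.hp
  have : Fact p.Prime := ⟨hp⟩
  have hp2 : p ≠ 2 := by
    intro h2
    have := h.hpa
    rw [h2] at this
    omega
  have hab := h.hab P
  have htt : t * t = 1 := fa.two_exp Q Q.isPGroup' t htQ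
  -- Y
  obtain ⟨Y, hYdef⟩ : ∃ Y : Subgroup G, Y = Cent v := ⟨_, rfl⟩
  have hmemY : ∀ y : G, y ∈ Y ↔ v * y = y * v := by
    intro y; rw [hYdef]; exact h1_mem_cent v y
  have hPY : (P : Subgroup G) ≤ Y := by
    intro x hx
    rw [hmemY]
    exact hab v hvP x hx
  have htY : t ∈ Y := by
    rw [hmemY]
    have h1 := hc v hvP
    calc v * t = (t * v * t⁻¹) * t := by rw [h1]
      _ = t * v := by group
  have hYtop : Y ≠ ⊤ := by rw [hYdef]; exact fa.cent_ne_top v hv1
  have h2Y : 2 ∣ Nat.card Y := by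
    have ho : orderOf t = 2 := orderOf_eq_prime (by rw [pow_two]; exact htt) ht1
    rw [← ho]
    exact Subgroup.orderOf_dvd_natCard Y htY
  have hYpq := h.hH1 Y hYtop h2Y
  have hYpq' : ∀ ℓ : ℕ, ℓ.Prime → ℓ ∣ Nat.card Y → ℓ = 2 ∨ ℓ = p := hYpq
  -- T
  obtain ⟨S⟩ : Nonempty (Sylow 2 Y) := inferInstance
  obtain ⟨T, hTdef⟩ : ∃ T : Subgroup G, T = (S : Subgroup Y).map Y.subtype := ⟨_, rfl⟩
  have hTY : T ≤ Y := by rw [hTdef]; exact Subgroup.map_subtype_le _
  have hT2 : IsPGroup 2 T := by rw [hTdef]; exact S.isPGroup'.map _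
  have hTcard : Nat.card T = 2 ^ (Nat.card Y).factorization 2 := by
    rw [hTdef, Subgroup.card_map_of_injective Y.subtype_injective]
    exact S.card_eq_multiplicity
  have hcard : Nat.card Y = Nat.card T * Nat.card P := by
    rw [hTcard]; exact h1_card_eq hp hp2 Y P hPY hYpq'
  rcases hdich Y P T hPY hTY hT2 hcard with hN | ⟨hT4, -⟩
  · -- `P` is normal in `Y`
    obtain ⟨P₂, hP₂def⟩ : ∃ P₂ : Subgroup G,
        P₂ = (P : Subgroup G).map (MulAut.conj g⁻¹).toMonoidHom := ⟨_, rfl⟩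
    have hmemP₂ : ∀ x : G, x ∈ P₂ ↔ ∃ x' ∈ (P : Subgroup G), g⁻¹ * x' * g = x := by
      intro x
      rw [hP₂def, Subgroup.mem_map]
      constructor
      · rintro ⟨x', hx', rfl⟩
        exact ⟨x', hx', by simp [MulAut.conj_apply]⟩
      · rintro ⟨x', hx', rfl⟩
        exact ⟨x', hx', by simp [MulAut.conj_apply]⟩
    have hP₂p : IsPGroup p P₂ := by rw [hP₂def]; exact P.isPGroup'.map _
    have hP₂card : Nat.card P₂ = Nat.card (P : Subgroup G) := by
      rw [hP₂def]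
      exact Subgroup.card_map_of_injective (MulAut.conj g⁻¹).injective
    have hP₂Y : P₂ ≤ Y := by
      intro x hx
      obtain ⟨x', hx', rfl⟩ := (hmemP₂ x).mp hx
      rw [hmemY]
      have h1 := hab (g * v * g⁻¹) hvg x' hx'
      calc v * (g⁻¹ * x' * g) = g⁻¹ * ((g * v * g⁻¹) * x') * g := by group
        _ = g⁻¹ * (x' * (g * v * g⁻¹)) * g := by rw [h1]
        _ = g⁻¹ * x' * g * v := by group
    have hP₂N : P₂ ≤ Subgroup.normalizer ((P : Subgroup G) : Set G) := by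
      intro y hy
      have hyY := hP₂Y hy
      rw [Subgroup.mem_normalizer_iff]
      intro z
      constructor
      · intro hz; exact hN y hyY z hz
      · intro hz
        have := hN y⁻¹ (Y.inv_mem hyY) _ hz
        have e : y⁻¹ * (y * z * y⁻¹) * y⁻¹⁻¹ = z := by group
        rwa [e] at this
    have hP₂P : P₂ ≤ (P : Subgroup G) := by
      have h1 := hP₂p.inf_normalizer_sylow P
      intro x hx
      have h2 : x ∈ P₂ ⊓ (P : Subgroup G) := by
        rw [← h1]; exact ⟨hx, hP₂N hx⟩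
      exact h2.2
    have hP₂eq : P₂ = (P : Subgroup G) :=
      Subgroup.eq_of_le_of_card_ge hP₂P (le_of_eq hP₂card.symm)
    intro x hx
    rw [← hP₂eq] at hx
    obtain ⟨x', hx', rfl⟩ := (hmemP₂ x).mp hx
    have e : g * (g⁻¹ * x' * g) * g⁻¹ = x' := by group
    rw [e]; exact hx'
  · -- `|T| = 4`
    exfalso
    have hTS : Nat.card T = 2 ^ (Nat.card G).factorization 2 := by rw [hT4, h.h2]
    obtain ⟨T', hT'⟩ : ∃ T' : Sylow 2 G, (T' : Subgroup G) = T := ⟨Sylow.ofCard T hTS, rfl⟩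
    obtain ⟨k, hk⟩ := h1_sylow_conj Q T'
    -- `w`
    obtain ⟨w, hwdef⟩ : ∃ w : G, w = k⁻¹ * v * k := ⟨_, rfl⟩
    have hwQ : ∀ s ∈ Q, w * s = s * w := by
      intro s hs
      have h1 : k * s * k⁻¹ ∈ T' := by
        rw [hk]
        have e : k⁻¹ * (k * s * k⁻¹) * k = s := by group
        rw [e]; exact hs
      have h2 : k * s * k⁻¹ ∈ Y := hTY (by rw [← hT']; exact h1)
      rw [hmemY] at h2
      rw [hwdef]
      calc k⁻¹ * v * k * s = k⁻¹ * (v * (k * s * k⁻¹)) * k := by group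
        _ = k⁻¹ * ((k * s * k⁻¹) * v) * k := by rw [h2]
        _ = s * (k⁻¹ * v * k) := by group
    have hwp : IsPElt p w := by
      obtain ⟨j, hj⟩ := h1_pelt_of_mem hp P v hvP
      refine ⟨j, ?_⟩
      have : w = MulAut.conj k⁻¹ v := by rw [hwdef]; simp [MulAut.conj_apply]
      rw [this, MulEquiv.orderOf_eq]; exact hj
    have hwD : w ∈ Dsub p t := by
      unfold Dsub
      apply Subgroup.subset_closure
      refine ⟨?_, hwp⟩
      rw [h1_mem_cent]
      exact (hwQ t htQ).symm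
    have hDp : IsPGroup p (Dsub p t) := fb.dsub_pgroup t ⟨ht1, htt⟩
    have hPD : (P : Subgroup G) ≤ Dsub p t := by
      intro x hx
      unfold Dsub
      apply Subgroup.subset_closure
      refine ⟨?_, h1_pelt_of_mem hp P x hx⟩
      rw [h1_mem_cent]
      have h1 := hc x hx
      calc t * x = (t * x * t⁻¹) * t := by group
        _ = x * t := by rw [h1]
    have hDeq : Dsub p t = (P : Subgroup G) := P.is_maximal' hDp hPD
    have hwP : w ∈ (P : Subgroup G) := by rw [← hDeq]; exact hwD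
    -- an element `s₀` of `Q` other than `1`, `t`
    have hQcard : Nat.card (Q : Subgroup G) = 2 ^ 2 := by
      rw [Q.card_eq_multiplicity, h.h2]
    obtain ⟨s₀, hs₀Q, hs₀1, hs₀t⟩ : ∃ s₀ ∈ Q, s₀ ≠ 1 ∧ s₀ ≠ t := by
      by_contra hcon
      push Not at hcon
      have hsub : ((Q : Subgroup G) : Set G) ⊆ {1, t} := by
        intro s hs
        by_cases h1 : s = 1
        · left; exact h1
        · right; exact hcon s hs h1
      have h1 : Nat.card (Q : Subgroup G) ≤ 2 := by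
        have h2 : (((Q : Subgroup G) : Set G)).ncard ≤ ({1, t} : Set G).ncard :=
          Set.ncard_le_ncard hsub (Set.toFinite _)
        have h3 : ({1, t} : Set G).ncard ≤ 2 := Set.ncard_insert_le _ _ |>.trans (by simp)
        have h4 : Nat.card (Q : Subgroup G) = (((Q : Subgroup G) : Set G)).ncard :=
          (Nat.card_coe_set_eq _)
        omega
      omega
    have h1 := hi s₀ hs₀Q hs₀1 hs₀t w hwP
    have h2 := hwQ s₀ hs₀Q
    have h3 : s₀ * w * s₀⁻¹ = w := by rw [← h2]; group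
    have h4 : w * w = 1 := by
      have : w = w⁻¹ := h3.symm.trans h1
      calc w * w = w * w⁻¹ := by rw [← this]
        _ = 1 := mul_inv_cancel w
    have hw1 : w = 1 := by
      obtain ⟨j, hj⟩ := hwp
      have h5 : orderOf w ∣ 2 := orderOf_dvd_of_pow_eq_one (by rw [pow_two]; exact h4)
      rw [hj] at h5
      have h6 : Nat.Coprime (p ^ j) 2 :=
        Nat.Coprime.pow_left j ((Nat.coprime_primes hp Nat.prime_two).mpr hp2)
      have h7 : p ^ j = 1 := Nat.Coprime.eq_one_of_dvd h6 h5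
      rw [h7] at hj
      exact orderOf_eq_one_iff.mp hj
    apply hv1
    rw [hwdef] at hw1
    calc v = k * (k⁻¹ * v * k) * k⁻¹ := by group
      _ = 1 := by rw [hw1]; group

end Cfsg.Agent.Helper7.S4017
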