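import Mathlib

/-!
Piece (I) for S4017 (helper7's blueprint): Itô's theorem — a product of two abelian subgroups has
abelian derived subgroup.
-/

namespace Cfsg.Agent.Helper1.S4017

open scoped commutatorElement

theorem ito_comm1 {Y : Type*} [Group Y] (x y z : Y) (h : y * z = z * y) : ⁅x * y, z⁆ = ⁅x, z⁆ := by
  have h1 : y * z * y⁻¹ = z := by rw [h, mul_inv_cancel_right]
  rw [commutatorElement_def, commutatorElement_def]
  have h2 : x * y * z * (x * y)⁻¹ * z⁻¹ = x * (y * z * y⁻¹) * x⁻¹ * z⁻¹ := by group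
  rw [h2, h1]

theorem ito_comm2 {Y : Type*} [Group Y] (x y z : Y) (h : x * z = z * x) : ⁅x, y * z⁆ = ⁅x, y⁆ := by
  have h1 : z * x⁻¹ * z⁻¹ = x⁻¹ := by
    have : x⁻¹ * z = z * x⁻¹ := by
      rw [inv_mul_eq_iff_eq_mul, ← mul_assoc, h, mul_assoc, mul_inv_cancel, mul_one]
    rw [← this, mul_inv_cancel_right]
  rw [commutatorElement_def, commutatorElement_def]
  have h2 : x * (y * z) * x⁻¹ * (y * z)⁻¹ = x * y * (z * x⁻¹ * z⁻¹) * y⁻¹ := by group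
  rw [h2, h1]

theorem ito_conj_comm {Y : Type*} [Group Y] (g x y : Y) :
    g * ⁅x, y⁆ * g⁻¹ = ⁅g * x * g⁻¹, g * y * g⁻¹⁆ := by
  rw [commutatorElement_def, commutatorElement_def]
  group

theorem ito_key {Y : Type*} [Group Y] (A B : Subgroup Y)
    (hA : ∀ x ∈ A, ∀ y ∈ A, x * y = y * x) (hB : ∀ x ∈ B, ∀ y ∈ B, x * y = y * x)
    (hAB : ∀ g : Y, ∃ a ∈ A, ∃ b ∈ B, g = a * b)
    {a₁ b₁ a b : Y} (ha₁ : a₁ ∈ A) (hb₁ : b₁ ∈ B) (ha : a ∈ A) (hb : b ∈ B) :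
    a₁ * (b₁ * ⁅a, b⁆ * b₁⁻¹) * a₁⁻¹ = b₁ * (a₁ * ⁅a, b⁆ * a₁⁻¹) * b₁⁻¹ := by
  obtain ⟨a₃, ha₃, b₃, hb₃, e1⟩ := hAB (b₁ * a * b₁⁻¹)
  obtain ⟨a', ha', b', hb', e2'⟩ := hAB (a₁ * b * a₁⁻¹)⁻¹
  have e2 : a₁ * b * a₁⁻¹ = b'⁻¹ * a'⁻¹ := by
    rw [← mul_inv_rev, ← e2', inv_inv]
  have hb'i : b'⁻¹ ∈ B := B.inv_mem hb'
  have ha'i : a'⁻¹ ∈ A := A.inv_mem ha'
  have fb : ∀ z ∈ B, b₁ * z * b₁⁻¹ = z := by
    intro z hz
    rw [hB b₁ hb₁ z hz, mul_inv_cancel_right]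
  have fa : ∀ z ∈ A, a₁ * z * a₁⁻¹ = z := by
    intro z hz
    rw [hA a₁ ha₁ z hz, mul_inv_cancel_right]
  -- left side
  have L : a₁ * (b₁ * ⁅a, b⁆ * b₁⁻¹) * a₁⁻¹ = ⁅a₃, b'⁻¹⁆ := by
    rw [ito_conj_comm b₁, fb b hb, e1, ito_comm1 a₃ b₃ b (hB b₃ hb₃ b hb), ito_conj_comm a₁,
      fa a₃ ha₃, e2, ito_comm2 a₃ b'⁻¹ a'⁻¹ (hA a₃ ha₃ _ ha'i)]
  have R : b₁ * (a₁ * ⁅a, b⁆ * a₁⁻¹) * b₁⁻¹ = ⁅a₃, b'⁻¹⁆ := by
    rw [ito_conj_comm a₁, fa a ha, e2, ito_comm2 a b'⁻¹ a'⁻¹ (hA a ha _ ha'i), ito_conj_comm b₁,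
      fb _ hb'i, e1, ito_comm1 a₃ b₃ b'⁻¹ (hB b₃ hb₃ _ hb'i)]
  rw [L, R]

theorem ito_gens_commute {Y : Type*} [Group Y] (A B : Subgroup Y)
    (hA : ∀ x ∈ A, ∀ y ∈ A, x * y = y * x) (hB : ∀ x ∈ B, ∀ y ∈ B, x * y = y * x)
    (hAB : ∀ g : Y, ∃ a ∈ A, ∃ b ∈ B, g = a * b)
    {a₁ b₁ a b : Y} (ha₁ : a₁ ∈ A) (hb₁ : b₁ ∈ B) (ha : a ∈ A) (hb : b ∈ B) :
    ⁅a₁, b₁⁆ * ⁅a, b⁆ = ⁅a, b⁆ * ⁅a₁, b₁⁆ := by
  have key := ito_key A B hA hB hAB (A.inv_mem ha₁) (B.inv_mem hb₁) ha hb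
  obtain ⟨c, hc⟩ : ∃ c, c = ⁅a, b⁆ := ⟨_, rfl⟩
  rw [← hc] at key ⊢
  rw [inv_inv, inv_inv] at key
  -- key : a₁⁻¹ * (b₁⁻¹ * c * b₁) * a₁ = b₁⁻¹ * (a₁⁻¹ * c * a₁) * b₁
  have h2 : ⁅a₁, b₁⁆ * c * ⁅a₁, b₁⁆⁻¹ = c := by
    have e : ⁅a₁, b₁⁆ * c * ⁅a₁, b₁⁆⁻¹ =
        a₁ * b₁ * (a₁⁻¹ * (b₁⁻¹ * c * b₁) * a₁) * b₁⁻¹ * a₁⁻¹ := by
      rw [commutatorElement_def]; group
    rw [e, key]
    group
  calc ⁅a₁, b₁⁆ * c = ⁅a₁, b₁⁆ * c * ⁅a₁, b₁⁆⁻¹ * ⁅a₁, b₁⁆ := by group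
    _ = c * ⁅a₁, b₁⁆ := by rw [h2]

/-- Itô -/
theorem ito_commutator_comm {Y : Type*} [Group Y] (A B : Subgroup Y)
    (hA : ∀ x ∈ A, ∀ y ∈ A, x * y = y * x) (hB : ∀ x ∈ B, ∀ y ∈ B, x * y = y * x)
    (hAB : ∀ g : Y, ∃ a ∈ A, ∃ b ∈ B, g = a * b) :
    ∀ x ∈ commutator Y, ∀ y ∈ commutator Y, x * y = y * x := by
  obtain ⟨S, hS⟩ : ∃ S : Set Y, S = {c | ∃ a ∈ A, ∃ b ∈ B, c = ⁅a, b⁆} := ⟨_, rfl⟩
  have hScomm : ∀ x ∈ S, ∀ y ∈ S, x * y = y * x := by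
    rw [hS]
    rintro _ ⟨a₁, ha₁, b₁, hb₁, rfl⟩ _ ⟨a, ha, b, hb, rfl⟩
    exact ito_gens_commute A B hA hB hAB ha₁ hb₁ ha hb
  -- the closure `K` of `S` is normal
  have hSmem : ∀ a ∈ A, ∀ b ∈ B, ⁅a, b⁆ ∈ Subgroup.closure S := by
    intro a ha b hb
    apply Subgroup.subset_closure
    rw [hS]
    exact ⟨a, ha, b, hb, rfl⟩
  have hconjA : ∀ a' ∈ A, ∀ k ∈ Subgroup.closure S, a' * k * a'⁻¹ ∈ Subgroup.closure S := by
    intro a' ha' k hk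
    induction hk using Subgroup.closure_induction with
    | mem x hx =>
      rw [hS] at hx
      obtain ⟨a, ha, b, hb, rfl⟩ := hx
      have e : a' * ⁅a, b⁆ * a'⁻¹ = ⁅a' * a, b⁆ * ⁅a', b⁆⁻¹ := by
        rw [commutatorElement_def, commutatorElement_def, commutatorElement_def]; group
      rw [e]
      exact mul_mem (hSmem _ (A.mul_mem ha' ha) _ hb) (inv_mem (hSmem _ ha' _ hb))
    | one => simp
    | mul x y _ _ hx hy =>
      have e : a' * (x * y) * a'⁻¹ = (a' * x * a'⁻¹) * (a' * y * a'⁻¹) := by group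
      rw [e]; exact mul_mem hx hy
    | inv x _ hx =>
      have e : a' * x⁻¹ * a'⁻¹ = (a' * x * a'⁻¹)⁻¹ := by group
      rw [e]; exact inv_mem hx
  have hconjB : ∀ b' ∈ B, ∀ k ∈ Subgroup.closure S, b' * k * b'⁻¹ ∈ Subgroup.closure S := by
    intro b' hb' k hk
    induction hk using Subgroup.closure_induction with
    | mem x hx =>
      rw [hS] at hx
      obtain ⟨a, ha, b, hb, rfl⟩ := hx
      have e : b' * ⁅a, b⁆ * b'⁻¹ = ⁅a, b'⁆⁻¹ * ⁅a, b' * b⁆ := by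
        rw [commutatorElement_def, commutatorElement_def, commutatorElement_def]; group
      rw [e]
      exact mul_mem (inv_mem (hSmem _ ha _ hb')) (hSmem _ ha _ (B.mul_mem hb' hb))
    | one => simp
    | mul x y _ _ hx hy =>
      have e : b' * (x * y) * b'⁻¹ = (b' * x * b'⁻¹) * (b' * y * b'⁻¹) := by group
      rw [e]; exact mul_mem hx hy
    | inv x _ hx =>
      have e : b' * x⁻¹ * b'⁻¹ = (b' * x * b'⁻¹)⁻¹ := by group
      rw [e]; exact inv_mem hx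
  have hnormal : (Subgroup.closure S).Normal := by
    constructor
    intro k hk g
    obtain ⟨a', ha', b', hb', rfl⟩ := hAB g
    have e : a' * b' * k * (a' * b')⁻¹ = a' * (b' * k * b'⁻¹) * a'⁻¹ := by group
    rw [e]
    exact hconjA a' ha' _ (hconjB b' hb' k hk)
  -- the quotient is commutative
  have hle : commutator Y ≤ Subgroup.closure S := by
    rw [commutator_eq_closure, Subgroup.closure_le]
    rintro _ ⟨g, h, rfl⟩
    -- work in the quotient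
    have := hnormal
    rw [SetLike.mem_coe, ← QuotientGroup.eq_one_iff]
    obtain ⟨a₁, ha₁, b₁, hb₁, rfl⟩ := hAB g
    obtain ⟨a₂, ha₂, b₂, hb₂, rfl⟩ := hAB h
    have hmap : ((⁅a₁ * b₁, a₂ * b₂⁆ : Y) : Y ⧸ Subgroup.closure S) =
        ⁅(QuotientGroup.mk (a₁ * b₁) : Y ⧸ Subgroup.closure S), QuotientGroup.mk (a₂ * b₂)⁆ :=
      map_commutatorElement (QuotientGroup.mk' (Subgroup.closure S)) _ _
    rw [hmap]
    have cAB : ∀ a ∈ A, ∀ b ∈ B, (QuotientGroup.mk a : Y ⧸ Subgroup.closure S) * QuotientGroup.mk b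
        = QuotientGroup.mk b * QuotientGroup.mk a := by
      intro a ha b hb
      have h1 : ((⁅a, b⁆ : Y) : Y ⧸ Subgroup.closure S) = 1 :=
        (QuotientGroup.eq_one_iff _).mpr (hSmem a ha b hb)
      rw [commutatorElement_def] at h1
      have h2 : (QuotientGroup.mk a : Y ⧸ Subgroup.closure S) * QuotientGroup.mk b *
          (QuotientGroup.mk a)⁻¹ * (QuotientGroup.mk b)⁻¹ = 1 := by
        simpa using h1
      calc (QuotientGroup.mk a : Y ⧸ Subgroup.closure S) * QuotientGroup.mk b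
          = (QuotientGroup.mk a * QuotientGroup.mk b * (QuotientGroup.mk a)⁻¹ *
              (QuotientGroup.mk b)⁻¹) * (QuotientGroup.mk b * QuotientGroup.mk a) := by group
        _ = QuotientGroup.mk b * QuotientGroup.mk a := by rw [h2, one_mul]
    have cAA : (QuotientGroup.mk a₁ : Y ⧸ Subgroup.closure S) * QuotientGroup.mk a₂
        = QuotientGroup.mk a₂ * QuotientGroup.mk a₁ := by
      rw [← QuotientGroup.mk_mul, ← QuotientGroup.mk_mul, hA a₁ ha₁ a₂ ha₂]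
    have cBB : (QuotientGroup.mk b₁ : Y ⧸ Subgroup.closure S) * QuotientGroup.mk b₂
        = QuotientGroup.mk b₂ * QuotientGroup.mk b₁ := by
      rw [← QuotientGroup.mk_mul, ← QuotientGroup.mk_mul, hB b₁ hb₁ b₂ hb₂]
    have c12 := cAB a₁ ha₁ b₂ hb₂
    have c21 := cAB a₂ ha₂ b₁ hb₁
    rw [commutatorElement_eq_one_iff_mul_comm]
    simp only [QuotientGroup.mk_mul]
    calc (QuotientGroup.mk a₁ : Y ⧸ Subgroup.closure S) * QuotientGroup.mk b₁ *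
          (QuotientGroup.mk a₂ * QuotientGroup.mk b₂)
        = QuotientGroup.mk a₁ * (QuotientGroup.mk b₁ * QuotientGroup.mk a₂) *
            QuotientGroup.mk b₂ := by group
      _ = QuotientGroup.mk a₁ * (QuotientGroup.mk a₂ * QuotientGroup.mk b₁) *
            QuotientGroup.mk b₂ := by rw [c21]
      _ = (QuotientGroup.mk a₁ * QuotientGroup.mk a₂) * (QuotientGroup.mk b₁ *
            QuotientGroup.mk b₂) := by group
      _ = (QuotientGroup.mk a₂ * QuotientGroup.mk a₁) * (QuotientGroup.mk b₂ *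
            QuotientGroup.mk b₁) := by rw [cAA, cBB]
      _ = QuotientGroup.mk a₂ * (QuotientGroup.mk a₁ * QuotientGroup.mk b₂) *
            QuotientGroup.mk b₁ := by group
      _ = QuotientGroup.mk a₂ * (QuotientGroup.mk b₂ * QuotientGroup.mk a₁) *
            QuotientGroup.mk b₁ := by rw [c12]
      _ = QuotientGroup.mk a₂ * QuotientGroup.mk b₂ * (QuotientGroup.mk a₁ *
            QuotientGroup.mk b₁) := by group
  intro x hx y hy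
  have hc := Subgroup.isMulCommutative_closure hScomm
  have := hc.is_comm.comm (⟨x, hle hx⟩ : Subgroup.closure S) ⟨y, hle hy⟩
  exact congrArg Subtype.val this

end Cfsg.Agent.Helper1.S4017
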