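import Mathlib

/-!
Piece (R4) for S4017 (helper7's blueprint): a `p`-element acting nontrivially on a `q`-group.
-/

namespace Cfsg.Agent.Helper1.S4017

/-- conjugation action of `zpowers x` on `V` when `x` normalizes `V` -/
@[reducible] def peltAct {G : Type*} [Group G] (V : Subgroup G) (x : G)
    (hxN : x ∈ Subgroup.normalizer (V : Set G)) : MulAction (Subgroup.zpowers x) V where
  smul g v := ⟨(g : G) * v * (g : G)⁻¹, by
    have hle : Subgroup.zpowers x ≤ Subgroup.normalizer (V : Set G) := by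
      rw [Subgroup.zpowers_le]; exact hxN
    exact (Subgroup.mem_normalizer_iff.mp (hle g.2) v).mp v.2⟩
  one_smul v := by
    apply Subtype.ext
    show ((1 : Subgroup.zpowers x) : G) * v * ((1 : Subgroup.zpowers x) : G)⁻¹ = v
    simp
  mul_smul g h v := by
    apply Subtype.ext
    show ((g * h : Subgroup.zpowers x) : G) * v * ((g * h : Subgroup.zpowers x) : G)⁻¹ =
      (g : G) * ((h : G) * v * (h : G)⁻¹) * (g : G)⁻¹
    simp [mul_assoc]

theorem peltAct_fixed {G : Type*} [Group G] (V : Subgroup G) (x : G)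
    (hxN : x ∈ Subgroup.normalizer (V : Set G)) :
    let _ := peltAct V x hxN
    MulAction.fixedPoints (Subgroup.zpowers x) V =
      (((Subgroup.centralizer {x}).subgroupOf V : Subgroup V) : Set V) := by
  let _ := peltAct V x hxN
  ext v
  rw [MulAction.mem_fixedPoints, SetLike.mem_coe, Subgroup.mem_subgroupOf,
    Subgroup.mem_centralizer_iff]
  constructor
  · intro h y hy
    rw [Set.mem_singleton_iff] at hy
    subst hy
    have h1 := congrArg Subtype.val (h ⟨y, Subgroup.mem_zpowers y⟩)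
    have h2 : y * (v : G) * y⁻¹ = v := h1
    calc y * (v : G) = (y * v * y⁻¹) * y := by group
      _ = v * y := by rw [h2]
  · intro h g
    apply Subtype.ext
    show (g : G) * v * (g : G)⁻¹ = v
    obtain ⟨n, hn⟩ := Subgroup.mem_zpowers_iff.mp g.2
    have hc : Commute x (v : G) := h x rfl
    have := (hc.zpow_left n)
    rw [← hn, this.eq, mul_inv_cancel_right]

theorem pelt_acts {G : Type*} [Group G] [Finite G] {p q : ℕ} (hp : p.Prime) (hq : q.Prime) (hpq : p ≠ q) (V : Subgroup G) (b : ℕ) (hV : Nat.card V = q ^ b) (x : G) (k : ℕ) (hx : orderOf x = p ^ k) (hxN : x ∈ Subgroup.normalizer (V : Set G)) (hxC : x ∉ Subgroup.centralizer (V : Set G)) : ∃ d : ℕ, 1 ≤ d ∧ d ≤ b ∧ p ∣ q ^ d - 1 ∧ (d = b → ∀ v ∈ V, x * v * x⁻¹ = v → v = 1) := by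
  classical
  have : Fact p.Prime := ⟨hp⟩
  let _ := peltAct V x hxN
  have hP : IsPGroup p (Subgroup.zpowers x) := by
    rw [IsPGroup.iff_card]
    exact ⟨k, by rw [Nat.card_zpowers, hx]⟩
  have hmod := hP.card_modEq_card_fixedPoints V
  obtain ⟨C, hC⟩ : ∃ C : Subgroup V, C = (Subgroup.centralizer {x}).subgroupOf V := ⟨_, rfl⟩
  have hfix : MulAction.fixedPoints (Subgroup.zpowers x) V = (C : Set V) := by
    rw [hC]; exact peltAct_fixed V x hxN
  have hcardfix : Nat.card (MulAction.fixedPoints (Subgroup.zpowers x) V) = Nat.card C := by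
    rw [hfix]; rfl
  rw [hcardfix, hV] at hmod
  have hCdvd : Nat.card C ∣ q ^ b := by
    rw [← hV]; exact Subgroup.card_subgroup_dvd_card C
  obtain ⟨c, hcb, hCc⟩ := (Nat.dvd_prime_pow hq).mp hCdvd
  have hmemC : ∀ v : V, v ∈ C ↔ x * (v : G) = v * x := by
    intro v
    rw [hC, Subgroup.mem_subgroupOf, Subgroup.mem_centralizer_iff]
    simp
  have hcne : c ≠ b := by
    intro hcb'
    apply hxC
    have htop : C = ⊤ := by
      rw [← Subgroup.card_eq_iff_eq_top, hCc, hV, hcb']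
    rw [Subgroup.mem_centralizer_iff]
    intro v hv
    have : (⟨v, hv⟩ : V) ∈ C := by rw [htop]; trivial
    exact ((hmemC _).mp this).symm
  have hclt : c < b := lt_of_le_of_ne hcb hcne
  rw [hCc] at hmod
  refine ⟨b - c, by omega, by omega, ?_, ?_⟩
  · have hcop : Nat.gcd p (q ^ c) = 1 := by
      apply Nat.Coprime.pow_right
      exact (Nat.coprime_primes hp hq).mpr hpq
    have e : q ^ b = q ^ c * q ^ (b - c) := by
      rw [← pow_add]; congr 1; omega
    rw [e] at hmod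
    have h2 : q ^ c * q ^ (b - c) ≡ q ^ c * 1 [MOD p] := by rwa [mul_one]
    have h3 := Nat.ModEq.cancel_left_of_coprime hcop h2
    exact (Nat.modEq_iff_dvd' (Nat.one_le_pow _ _ hq.pos)).mp h3.symm
  · intro hd v hv hxv
    have hc0 : c = 0 := by omega
    rw [hc0, pow_zero, Subgroup.card_eq_one] at hCc
    have hmem : (⟨v, hv⟩ : V) ∈ C := by
      rw [hmemC]
      show x * v = v * x
      calc x * v = (x * v * x⁻¹) * x := by group
        _ = v * x := by rw [hxv]
    rw [hCc, Subgroup.mem_bot] at hmem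
    exact congrArg Subtype.val hmem

theorem pelt_transitive {G : Type*} [Group G] [Finite G] {p q : ℕ} (hp : p.Prime) (hq : q.Prime) (hpq : p ≠ q) (V : Subgroup G) (b : ℕ) (hV : Nat.card V = q ^ b) (hpb : p + 1 = q ^ b) (x : G) (k : ℕ) (hx : orderOf x = p ^ k) (hxN : x ∈ Subgroup.normalizer (V : Set G)) (hxC : x ∉ Subgroup.centralizer (V : Set G)) : ∀ s ∈ V, s ≠ 1 → ∀ t ∈ V, t ≠ 1 → ∃ j : ℕ, x ^ j * s * (x ^ j)⁻¹ = t := by
  classical
  obtain ⟨d, hd1, hdb, hdvd, hfree⟩ := pelt_acts hp hq hpq V b hV x k hx hxN hxC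
  have hdeq : d = b := by
    by_contra hne
    have hlt : d < b := lt_of_le_of_ne hdb hne
    have h1 : q ^ d < q ^ b := Nat.pow_lt_pow_right hq.one_lt hlt
    have h2 : 2 ≤ q ^ d := by
      calc 2 ≤ q := hq.two_le
        _ = q ^ 1 := (pow_one q).symm
        _ ≤ q ^ d := Nat.pow_le_pow_right hq.pos hd1
    have h3 : p ≤ q ^ d - 1 := Nat.le_of_dvd (by omega) hdvd
    omega
  have hfree' := hfree hdeq
  have : Fact p.Prime := ⟨hp⟩
  let _ := peltAct V x hxN
  have hP : IsPGroup p (Subgroup.zpowers x) := by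
    rw [IsPGroup.iff_card]
    exact ⟨k, by rw [Nat.card_zpowers, hx]⟩
  intro s hs hs1 t ht ht1
  obtain ⟨T, hT⟩ : ∃ T : Set V, T = {v | v ≠ 1} := ⟨_, rfl⟩
  obtain ⟨O, hO⟩ : ∃ O : Set V, O = MulAction.orbit (Subgroup.zpowers x) (⟨s, hs⟩ : V) :=
    ⟨_, rfl⟩
  have hOT : O ⊆ T := by
    rw [hO, hT]
    rintro _ ⟨g, rfl⟩
    intro h1
    apply hs1
    have h2 : (g : G) * s * (g : G)⁻¹ = 1 := congrArg Subtype.val h1
    calc s = (g : G)⁻¹ * ((g : G) * s * (g : G)⁻¹) * g := by group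
      _ = 1 := by rw [h2]; group
  have hTcard : T.ncard = p := by
    have : T = ({1} : Set V)ᶜ := by rw [hT]; ext v; simp
    rw [this, Set.ncard_compl, Set.ncard_singleton, hV, ← hpb]; omega
  obtain ⟨n, hn⟩ := hP.card_orbit (⟨s, hs⟩ : V)
  have hOcard : O.ncard = p ^ n := by
    rw [← hn, hO, Nat.card_coe_set_eq]
  have hn0 : n ≠ 0 := by
    intro h0
    rw [h0, pow_zero] at hOcard
    rw [Set.ncard_eq_one] at hOcard
    obtain ⟨a, ha⟩ := hOcard
    have m1 : (⟨s, hs⟩ : V) ∈ O := by rw [hO]; exact MulAction.mem_orbit_self _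
    have m2 : ((⟨x, Subgroup.mem_zpowers x⟩ : Subgroup.zpowers x) • (⟨s, hs⟩ : V)) ∈ O := by
      rw [hO]; exact MulAction.mem_orbit _ _
    rw [ha, Set.mem_singleton_iff] at m1 m2
    have h3 : ((⟨x, Subgroup.mem_zpowers x⟩ : Subgroup.zpowers x) • (⟨s, hs⟩ : V)) = ⟨s, hs⟩ :=
      m2.trans m1.symm
    have h4 : x * s * x⁻¹ = s := congrArg Subtype.val h3
    exact hs1 (hfree' s hs h4)
  have hle : T.ncard ≤ O.ncard := by
    rw [hTcard, hOcard]
    calc p = p ^ 1 := (pow_one p).symm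
      _ ≤ p ^ n := Nat.pow_le_pow_right hp.pos (Nat.one_le_iff_ne_zero.mpr hn0)
  have hOeq : O = T := Set.eq_of_subset_of_ncard_le hOT hle (Set.toFinite T)
  have htO : (⟨t, ht⟩ : V) ∈ O := by
    rw [hOeq, hT]
    intro h1
    exact ht1 (congrArg Subtype.val h1)
  rw [hO] at htO
  obtain ⟨g, hg⟩ := htO
  have hgp : (g : G) ∈ Submonoid.powers x := by
    rw [mem_powers_iff_mem_zpowers]; exact g.2
  obtain ⟨j, hj⟩ := (Submonoid.mem_powers_iff _ _).mp hgp
  refine ⟨j, ?_⟩
  rw [hj]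
  exact congrArg Subtype.val hg

end Cfsg.Agent.Helper1.S4017
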