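import Mathlib
import Cfsg.Agent.Helper7.S4017Defs
import Cfsg.Agent.Helper1.S4017_Ito
import Cfsg.Agent.Helper1.S4017_Pelt

/-!
Piece (P5) of S4017 (helper7's blueprint): the `P ⊴ Y` or `T ⊴ Y` dichotomy.
-/

namespace Cfsg.Agent.Helper7.S4017

universe u

/-- the `n`-torsion of a commutative subgroup -/
def h1_tors {H : Type*} [Group H] (K : Subgroup H) (hK : ∀ x ∈ K, ∀ y ∈ K, x * y = y * x)
    (n : ℕ) : Subgroup H where
  carrier := {g | g ∈ K ∧ g ^ n = 1}
  one_mem' := ⟨K.one_mem, one_pow n⟩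
  mul_mem' := fun {a b} ha hb => ⟨K.mul_mem ha.1 hb.1, by
    rw [(show Commute a b from hK a ha.1 b hb.1).mul_pow, ha.2, hb.2, one_mul]⟩
  inv_mem' := fun {a} ha => ⟨K.inv_mem ha.1, by rw [inv_pow, ha.2, inv_one]⟩

theorem h1_mem_tors {H : Type*} [Group H] (K : Subgroup H)
    (hK : ∀ x ∈ K, ∀ y ∈ K, x * y = y * x) (n : ℕ) (g : H) :
    g ∈ h1_tors K hK n ↔ g ∈ K ∧ g ^ n = 1 := Iff.rfl

theorem h1_tors_normal {H : Type*} [Group H] (K : Subgroup H) [hKn : K.Normal]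
    (hK : ∀ x ∈ K, ∀ y ∈ K, x * y = y * x) (n : ℕ) : (h1_tors K hK n).Normal := by
  constructor
  intro a ha g
  rw [h1_mem_tors] at ha ⊢
  exact ⟨hKn.conj_mem a ha.1 g, by rw [conj_pow, ha.2, mul_one, mul_inv_cancel]⟩

theorem h1_tors_pgroup {H : Type*} [Group H] (K : Subgroup H)
    (hK : ∀ x ∈ K, ∀ y ∈ K, x * y = y * x) (ℓ j : ℕ) : IsPGroup ℓ (h1_tors K hK (ℓ ^ j)) := by
  intro g
  refine ⟨j, ?_⟩
  apply Subtype.ext
  rw [Subgroup.coe_pow]
  exact g.2.2

theorem h1_normal_le {H : Type*} [Group H] [Finite H] {ℓ : ℕ} (hℓ : ℓ.Prime) (S V : Subgroup H)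
    (hS : IsPGroup ℓ S) (hV : IsPGroup ℓ V) [V.Normal] (c : ℕ) (hc : Nat.Coprime ℓ c)
    (hcard : Nat.card H = Nat.card S * c) : V ≤ S := by
  have : Fact ℓ.Prime := ⟨hℓ⟩
  have hW : IsPGroup ℓ (S ⊔ V : Subgroup H) := IsPGroup.to_sup_of_normal_right hS hV
  obtain ⟨j, hj⟩ := IsPGroup.iff_card.mp hW
  have hdvd : Nat.card (S ⊔ V : Subgroup H) ∣ Nat.card S * c := by
    rw [← hcard]; exact Subgroup.card_subgroup_dvd_card _
  have hdvd2 : Nat.card (S ⊔ V : Subgroup H) ∣ Nat.card S := by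
    apply Nat.Coprime.dvd_of_dvd_mul_right _ hdvd
    rw [hj]; exact Nat.Coprime.pow_left j hc
  have hle : Nat.card (S ⊔ V : Subgroup H) ≤ Nat.card S := Nat.le_of_dvd Nat.card_pos hdvd2
  have heq : S = S ⊔ V := Subgroup.eq_of_le_of_card_ge le_sup_left hle
  calc V ≤ S ⊔ V := le_sup_right
    _ = S := heq.symm

theorem h1_decomp {H : Type*} [Group H] (K : Subgroup H)
    (hK : ∀ x ∈ K, ∀ y ∈ K, x * y = y * x) (n₁ n₂ : ℕ) (hcop : Nat.Coprime n₁ n₂) (c : H)
    (hc : c ∈ K) (hpow : c ^ (n₁ * n₂) = 1) :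
    ∃ v ∈ h1_tors K hK n₁, ∃ u ∈ h1_tors K hK n₂, c = v * u := by
  have hb : (n₁ : ℤ) * Nat.gcdA n₁ n₂ + n₂ * Nat.gcdB n₁ n₂ = 1 := by
    have := Nat.gcd_eq_gcd_ab n₁ n₂
    rw [hcop] at this
    simpa using this.symm
  have hz : c ^ ((n₁ : ℤ) * n₂) = 1 := by
    rw [← Nat.cast_mul, zpow_natCast, hpow]
  refine ⟨c ^ ((n₂ : ℤ) * Nat.gcdB n₁ n₂), ⟨K.zpow_mem hc _, ?_⟩,
    c ^ ((n₁ : ℤ) * Nat.gcdA n₁ n₂), ⟨K.zpow_mem hc _, ?_⟩, ?_⟩
  · rw [← zpow_natCast, ← zpow_mul]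
    have : (n₂ : ℤ) * Nat.gcdB n₁ n₂ * n₁ = ((n₁ : ℤ) * n₂) * Nat.gcdB n₁ n₂ := by ring
    rw [this, zpow_mul, hz, one_zpow]
  · rw [← zpow_natCast, ← zpow_mul]
    have : (n₁ : ℤ) * Nat.gcdA n₁ n₂ * n₂ = ((n₁ : ℤ) * n₂) * Nat.gcdA n₁ n₂ := by ring
    rw [this, zpow_mul, hz, one_zpow]
  · rw [← zpow_add, add_comm, hb, zpow_one]

theorem h1_comm_of_sq {H : Type*} [Group H] (T : Subgroup H) (h : ∀ x ∈ T, x * x = 1) :
    ∀ x ∈ T, ∀ y ∈ T, x * y = y * x := by
  intro x hx y hy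
  have h1 := h x hx
  have h2 := h y hy
  have h3 := h (x * y) (T.mul_mem hx hy)
  calc x * y = (y * y) * (x * y) * (x * x) := by rw [h1, h2, one_mul, mul_one]
    _ = y * (y * x * (y * x)) * x := by group
    _ = y * x := by
      have h4 : y * x * (y * x) = 1 := by
        have : y * x * (y * x) = y * (x * y * (x * y)) * y⁻¹ := by group
        rw [this, h3, mul_one, mul_inv_cancel]
      rw [h4, mul_one]

theorem h1_dich_core {H : Type*} [Group H] [Finite H] {p a : ℕ} (hp : p.Prime) (hp2 : p ≠ 2)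
    (hpa : p + 1 = 2 ^ a)
    (T P : Subgroup H) (hT : IsPGroup 2 T) (hP : IsPGroup p P)
    (hTab : ∀ x ∈ T, ∀ y ∈ T, x * y = y * x) (hPab : ∀ x ∈ P, ∀ y ∈ P, x * y = y * x)
    (hcard : Nat.card H = Nat.card T * Nat.card P)
    (h2a : ∀ b : ℕ, 2 ^ b ∣ Nat.card H → b ≤ a) :
    P.Normal ∨ (Nat.card T = 2 ^ a ∧ T.Normal) := by
  classical
  have : Fact p.Prime := ⟨hp⟩
  obtain ⟨m, hm⟩ := (IsPGroup.iff_card (p := 2)).mp hT
  obtain ⟨e, he⟩ := (IsPGroup.iff_card).mp hP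
  have hcop2p : Nat.Coprime 2 p := (Nat.coprime_primes Nat.prime_two hp).mpr (Ne.symm hp2)
  have hcop : Nat.Coprime (2 ^ m) (p ^ e) := Nat.Coprime.pow _ _ hcop2p
  have hfac : ∀ h : H, ∃ t ∈ T, ∃ x ∈ P, h = t * x := by
    have hc : Subgroup.IsComplement' T P :=
      Subgroup.isComplement'_of_coprime (by rw [hcard]) (by rw [hm, he]; exact hcop)
    intro h
    obtain ⟨⟨t, x⟩, htx⟩ := hc.2 h
    exact ⟨t, t.2, x, x.2, htx.symm⟩
  have hK := Cfsg.Agent.Helper1.S4017.ito_commutator_comm T P hTab hPab hfac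
  have hKn : (commutator H).Normal := inferInstance
  obtain ⟨V, hVdef⟩ : ∃ V : Subgroup H, V = h1_tors (commutator H) hK (2 ^ m) := ⟨_, rfl⟩
  obtain ⟨U, hUdef⟩ : ∃ U : Subgroup H, U = h1_tors (commutator H) hK (p ^ e) := ⟨_, rfl⟩
  have hVn : V.Normal := by rw [hVdef]; exact h1_tors_normal _ hK _
  have hUn : U.Normal := by rw [hUdef]; exact h1_tors_normal _ hK _
  have hV2 : IsPGroup 2 V := by rw [hVdef]; exact h1_tors_pgroup _ hK _ _
  have hUp : IsPGroup p U := by rw [hUdef]; exact h1_tors_pgroup _ hK _ _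
  have hVT : V ≤ T :=
    h1_normal_le Nat.prime_two T V hT hV2 (p ^ e) (Nat.Coprime.pow_right e hcop2p)
      (by rw [hcard, he])
  have hUP : U ≤ P :=
    h1_normal_le hp P U hP hUp (2 ^ m) (Nat.Coprime.pow_right m hcop2p.symm)
      (by rw [hcard, hm, he, mul_comm])
  have hcardH : Nat.card H = 2 ^ m * p ^ e := by rw [hcard, hm, he]
  by_cases hcase : ∀ x ∈ P, ∀ v ∈ V, x * v = v * x
  · left
    constructor
    intro x hx g
    have hc : g * x * g⁻¹ * x⁻¹ ∈ commutator H := by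
      have := Subgroup.commutator_mem_commutator (Subgroup.mem_top g) (Subgroup.mem_top x)
      rwa [commutatorElement_def] at this
    have hcpow : (g * x * g⁻¹ * x⁻¹) ^ (2 ^ m * p ^ e) = 1 := by
      rw [← hcardH]; exact pow_card_eq_one'
    obtain ⟨v, hv, u, hu, hvu⟩ := h1_decomp (commutator H) hK (2 ^ m) (p ^ e) hcop _ hc hcpow
    rw [← hVdef] at hv
    rw [← hUdef] at hu
    have hy : u * x ∈ P := P.mul_mem (hUP hu) hx
    have e1 : g * x * g⁻¹ = v * (u * x) := by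
      rw [← mul_assoc, ← hvu]; group
    have hxpow : x ^ (p ^ e) = 1 := by
      have : (⟨x, hx⟩ : P) ^ (Nat.card P) = 1 := pow_card_eq_one'
      rw [he] at this
      exact congrArg Subtype.val this
    have hypow : (u * x) ^ (p ^ e) = 1 := by
      have : (⟨u * x, hy⟩ : P) ^ (Nat.card P) = 1 := pow_card_eq_one'
      rw [he] at this
      exact congrArg Subtype.val this
    have hvpe : v ^ (p ^ e) = 1 := by
      have h1 : (g * x * g⁻¹) ^ (p ^ e) = 1 := by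
        rw [conj_pow, hxpow, mul_one, mul_inv_cancel]
      rw [e1, (show Commute v (u * x) from (hcase _ hy v hv).symm).mul_pow, hypow, mul_one] at h1
      exact h1
    have hv2m : v ^ (2 ^ m) = 1 := by
      rw [hVdef, h1_mem_tors] at hv
      exact hv.2
    have hv1 : v = 1 := by
      have h1 : orderOf v ∣ 2 ^ m := orderOf_dvd_of_pow_eq_one hv2m
      have h2 : orderOf v ∣ p ^ e := orderOf_dvd_of_pow_eq_one hvpe
      have h3 : orderOf v ∣ Nat.gcd (2 ^ m) (p ^ e) := Nat.dvd_gcd h1 h2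
      rw [hcop, Nat.dvd_one] at h3
      exact orderOf_eq_one_iff.mp h3
    rw [e1, hv1, one_mul]
    exact hy
  · right
    push Not at hcase
    obtain ⟨x, hx, v, hv, hxv⟩ := hcase
    obtain ⟨b, hb⟩ := (IsPGroup.iff_card (p := 2)).mp hV2
    obtain ⟨k, hk⟩ : ∃ k : ℕ, orderOf x = p ^ k := by
      have hxpow : x ^ (p ^ e) = 1 := by
        have : (⟨x, hx⟩ : P) ^ (Nat.card P) = 1 := pow_card_eq_one'
        rw [he] at this
        exact congrArg Subtype.val this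
      obtain ⟨k, _, hk⟩ := (Nat.dvd_prime_pow hp).mp (orderOf_dvd_of_pow_eq_one hxpow)
      exact ⟨k, hk⟩
    have hxN : x ∈ Subgroup.normalizer (V : Set H) := by
      rw [Subgroup.mem_normalizer_iff]
      intro h
      constructor
      · intro hh; exact hVn.conj_mem h hh x
      · intro hh
        have := hVn.conj_mem _ hh x⁻¹
        have e2 : x⁻¹ * (x * h * x⁻¹) * x⁻¹⁻¹ = h := by group
        rwa [e2] at this
    have hxC : x ∉ Subgroup.centralizer (V : Set H) := by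
      intro hmem
      rw [Subgroup.mem_centralizer_iff] at hmem
      exact hxv (hmem v hv).symm
    obtain ⟨d, hd1, hdb, hdvd, -⟩ :=
      Cfsg.Agent.Helper1.S4017.pelt_acts hp Nat.prime_two hp2 V b hb x k hk hxN hxC
    have hba : b ≤ a := by
      apply h2a
      rw [← hb]; exact Subgroup.card_subgroup_dvd_card V
    have hma : m ≤ a := by
      apply h2a
      rw [← hm]; exact Subgroup.card_subgroup_dvd_card T
    have h2d : 2 ≤ 2 ^ d := by
      calc 2 = 2 ^ 1 := (pow_one 2).symm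
        _ ≤ 2 ^ d := Nat.pow_le_pow_right (by norm_num) hd1
    have hple : p ≤ 2 ^ d - 1 := Nat.le_of_dvd (by omega) hdvd
    have had : a ≤ d := by
      have : 2 ^ a ≤ 2 ^ d := by omega
      exact (Nat.pow_le_pow_iff_right (by norm_num)).mp this
    have hbeq : b = a := by omega
    have hcVT : Nat.card V ≤ Nat.card T := Nat.card_mono (Set.toFinite _) hVT
    have ham : a ≤ m := by
      rw [hb, hm, hbeq] at hcVT
      exact (Nat.pow_le_pow_iff_right (by norm_num)).mp hcVT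
    have hmeq : m = a := by omega
    have hVeqT : V = T := by
      apply Subgroup.eq_of_le_of_card_ge hVT
      rw [hb, hm, hbeq, hmeq]
    refine ⟨by rw [hm, hmeq], ?_⟩
    rw [← hVeqT]; exact hVn

variable {G : Type u} [Group G] [Finite G] {p a : ℕ}

theorem dichotomy (h : MinCE G p a) (fa : FactsA G p a) : Dichotomy G p a := by
  intro Y P T hPY hTY hT2 hcardY
  have hp2 : p ≠ 2 := by
    intro h2
    have := h.hpa
    have ha := h.ha
    rw [h2] at this
    have h4 : 2 ^ 2 ≤ 2 ^ a := Nat.pow_le_pow_right (by norm_num) ha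
    omega
  obtain ⟨T', hT'⟩ : ∃ T' : Subgroup Y, T' = T.subgroupOf Y := ⟨_, rfl⟩
  obtain ⟨P', hP'⟩ : ∃ P' : Subgroup Y, P' = (P : Subgroup G).subgroupOf Y := ⟨_, rfl⟩
  have hT'2 : IsPGroup 2 T' := by rw [hT']; exact hT2.comap_subtype
  have hP'p : IsPGroup p P' := by rw [hP']; exact P.isPGroup'.comap_subtype
  have hTab : ∀ x ∈ T, ∀ y ∈ T, x * y = y * x := h1_comm_of_sq T (fa.two_exp T hT2)
  have hT'ab : ∀ x ∈ T', ∀ y ∈ T', x * y = y * x := by
    intro x hx y hy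
    rw [hT', Subgroup.mem_subgroupOf] at hx hy
    apply Subtype.ext
    exact hTab _ hx _ hy
  have hP'ab : ∀ x ∈ P', ∀ y ∈ P', x * y = y * x := by
    intro x hx y hy
    rw [hP', Subgroup.mem_subgroupOf] at hx hy
    apply Subtype.ext
    exact h.hab P _ hx _ hy
  have hcT : Nat.card T' = Nat.card T := by
    rw [hT']; exact Nat.card_congr (Subgroup.subgroupOfEquivOfLe hTY).toEquiv
  have hcP : Nat.card P' = Nat.card P := by
    rw [hP']; exact Nat.card_congr (Subgroup.subgroupOfEquivOfLe hPY).toEquiv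
  have hcard' : Nat.card Y = Nat.card T' * Nat.card P' := by rw [hcT, hcP, hcardY]
  have h2a : ∀ b : ℕ, 2 ^ b ∣ Nat.card Y → b ≤ a := by
    intro b hb
    have h1 : 2 ^ b ∣ Nat.card G := hb.trans (Subgroup.card_subgroup_dvd_card Y)
    have := (Nat.Prime.pow_dvd_iff_le_factorization Nat.prime_two (Nat.card_pos.ne')).mp h1
    rwa [h.h2] at this
  rcases h1_dich_core h.hp hp2 h.hpa T' P' hT'2 hP'p hT'ab hP'ab hcard' h2a with hn | ⟨hc, hn⟩
  · left
    intro g hg x hx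
    have := hn.conj_mem ⟨x, hPY hx⟩ (by rw [hP', Subgroup.mem_subgroupOf]; exact hx) ⟨g, hg⟩
    rw [hP', Subgroup.mem_subgroupOf] at this
    exact this
  · right
    refine ⟨by rw [← hcT, hc], ?_⟩
    intro g hg x hx
    have := hn.conj_mem ⟨x, hTY hx⟩ (by rw [hT', Subgroup.mem_subgroupOf]; exact hx) ⟨g, hg⟩
    rw [hT', Subgroup.mem_subgroupOf] at this
    exact this

end Cfsg.Agent.Helper7.S4017
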