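import Mathlib

/-!
Piece D1 of S2986 (helper1, for helper5): in `End(𝔽₃²)` the square roots of `-1` are the six noncentral elements of the
unique quaternion group, so any square root `b` of `-1` is `±a`, `±a'` or `±a a'` for two noncommuting square roots
`a`, `a'` of `-1`.
-/

set_option autoImplicit false
set_option linter.style.haveILetI false

namespace Cfsg.Agent.Helper1.SBD1

abbrev M2 := Matrix (Fin 2) (Fin 2) (ZMod 3)

/-- square roots of `-1` -/
def isI (A : M2) : Prop := A * A = -1

instance : DecidablePred isI := fun A => by unfold isI; infer_instance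

/-- the conclusion in matrix form -/
def concl (A A' B : M2) : Prop :=
  B = A ∨ B = -A ∨ B = A' ∨ B = -A' ∨ B = A * A' ∨ B = -(A * A')

instance : ∀ A A' B, Decidable (concl A A' B) := fun A A' B => by unfold concl; infer_instance

set_option maxRecDepth 100000 in
set_option synthInstance.maxSize 2000 in
set_option synthInstance.maxHeartbeats 400000 in
theorem mat_q8 : ∀ A A' B : M2, isI A → isI A' → isI B → A * A' ≠ A' * A → concl A A' B := by
  decide +kernel

theorem q8_unique {V : Type*} [Group V] (hc : ∀ x y : V, x * y = y * x) (hV : Nat.card V = 9)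
    (h3 : ∀ v : V, v ^ 3 = 1) (a a' b : V →* V)
    (ha : ∀ v, a (a v) = v⁻¹) (ha' : ∀ v, a' (a' v) = v⁻¹) (hb : ∀ v, b (b v) = v⁻¹)
    (hne : ∃ v, a (a' v) ≠ a' (a v)) :
    (∀ v, b v = a v) ∨ (∀ v, b v = (a v)⁻¹) ∨ (∀ v, b v = a' v) ∨ (∀ v, b v = (a' v)⁻¹) ∨
      (∀ v, b v = a (a' v)) ∨ (∀ v, b v = (a (a' v))⁻¹) := by
  letI : CommGroup V := { ‹Group V› with mul_comm := hc }
  haveI : Finite V := Nat.finite_of_card_ne_zero (by rw [hV]; norm_num)
  haveI : Fact (Nat.Prime 3) := ⟨by norm_num⟩
  letI : Module (ZMod 3) (Additive V) := AddCommGroup.zmodModule (by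
    intro x
    show Additive.ofMul (x.toMul ^ 3) = 0
    rw [h3]; rfl)
  have hfr : Module.finrank (ZMod 3) (Additive V) = 2 := by
    have h1 := Module.natCard_eq_pow_finrank (K := ZMod 3) (V := Additive V)
    have h2 : Nat.card (Additive V) = 9 := hV
    rw [h2, Nat.card_zmod] at h1
    have : (3 : ℕ) ^ 2 = 3 ^ Module.finrank (ZMod 3) (Additive V) := by rw [← h1]; norm_num
    exact (Nat.pow_right_injective (show 2 ≤ 3 by norm_num) this).symm
  let B := Module.finBasisOfFinrankEq (ZMod 3) (Additive V) hfr
  let Φ := LinearMap.toMatrixAlgEquiv B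
  let L : (V →* V) → (Additive V →ₗ[ZMod 3] Additive V) := fun f =>
    (MonoidHom.toAdditive f).toZModLinearMap 3
  have hL : ∀ (f : V →* V) (v : V), L f (Additive.ofMul v) = Additive.ofMul (f v) := fun f v => rfl
  have hsq : ∀ f : V →* V, (∀ v, f (f v) = v⁻¹) → isI (Φ (L f)) := by
    intro f hf
    show Φ (L f) * Φ (L f) = -1
    rw [← map_mul, ← map_one Φ, ← map_neg]
    congr 1
    ext v
    show L f (L f v) = -v
    obtain ⟨w, rfl⟩ := Additive.ofMul.surjective v
    rw [hL, hL, hf]; rfl
  have hnc : Φ (L a) * Φ (L a') ≠ Φ (L a') * Φ (L a) := by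
    intro h
    rw [← map_mul, ← map_mul] at h
    have h' := Φ.injective h
    obtain ⟨v, hv⟩ := hne
    apply hv
    have := LinearMap.congr_fun h' (Additive.ofMul v)
    exact congrArg Additive.toMul this
  have key := mat_q8 _ _ _ (hsq a ha) (hsq a' ha') (hsq b hb) hnc
  have pull : ∀ f : Additive V →ₗ[ZMod 3] Additive V, Φ (L b) = Φ f →
      ∀ v : V, Additive.ofMul (b v) = f (Additive.ofMul v) := by
    intro f hf v
    have h' := Φ.injective hf
    rw [← hL, h']
  rcases key with h | h | h | h | h | h
  · left
    intro v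
    exact congrArg Additive.toMul (pull _ h v)
  · right; left
    intro v
    rw [← map_neg] at h
    exact congrArg Additive.toMul (pull _ h v)
  · right; right; left
    intro v
    exact congrArg Additive.toMul (pull _ h v)
  · right; right; right; left
    intro v
    rw [← map_neg] at h
    exact congrArg Additive.toMul (pull _ h v)
  · right; right; right; right; left
    intro v
    rw [← map_mul] at h
    exact congrArg Additive.toMul (pull _ h v)
  · right; right; right; right; right
    intro v
    rw [← map_mul, ← map_neg] at h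
    exact congrArg Additive.toMul (pull _ h v)

end Cfsg.Agent.Helper1.SBD1
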