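import Mathlib
import Cfsg.Agent.Helper8.DkSolv
import Cfsg.Agent.Helper9.BBC

set_option autoImplicit false

/-!
# Piece D3a of S2986 (helper5's stubs): `SL₂(F)'` for `|F| ≥ 4`
-/

namespace Cfsg.Agent.Helper1.SBD3

open Matrix
open scoped commutatorElement

/-- The derived subgroup of a perfect group, as a group, is perfect. -/
theorem commutator_commutator_eq_top {G : Type*} [Group G] (h : commutator G = ⊤) :
    commutator ↥(commutator G) = ⊤ := by
  apply Subgroup.map_injective (Subgroup.subtype_injective (commutator G))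
  rw [Subgroup.map_subtype_commutator, ← MonoidHom.range_eq_map, Subgroup.range_subtype, h,
    ← commutator_def, h]

/-- In a perfect group whose central quotient is simple, a normal subgroup is central or everything. -/
theorem normal_of_perfect_central_simple {G : Type*} [Group G] (hp : commutator G = ⊤)
    [hs : IsSimpleGroup (G ⧸ Subgroup.center G)] (M : Subgroup G) [hM : M.Normal] :
    M = ⊤ ∨ M ≤ Subgroup.center G := by
  have hsurj : Function.Surjective (QuotientGroup.mk' (Subgroup.center G)) :=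
    QuotientGroup.mk'_surjective _
  have hn : (M.map (QuotientGroup.mk' (Subgroup.center G))).Normal := hM.map _ hsurj
  rcases hn.eq_bot_or_eq_top with h0 | h1
  · right
    intro m hm
    have : QuotientGroup.mk' (Subgroup.center G) m ∈ M.map (QuotientGroup.mk' (Subgroup.center G)) :=
      Subgroup.mem_map_of_mem _ hm
    rw [h0, Subgroup.mem_bot, QuotientGroup.mk'_apply, QuotientGroup.eq_one_iff] at this
    exact this
  · left
    rw [eq_top_iff, ← hp, commutator_def, Subgroup.commutator_le]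
    intro g _ h _
    have hg : ∃ m ∈ M, ∃ z ∈ Subgroup.center G, g = m * z := by
      have : QuotientGroup.mk' (Subgroup.center G) g ∈
          M.map (QuotientGroup.mk' (Subgroup.center G)) := by rw [h1]; exact Subgroup.mem_top _
      obtain ⟨m, hm, hmg⟩ := this
      refine ⟨m, hm, m⁻¹ * g, ?_, by group⟩
      have := QuotientGroup.eq.mp hmg
      exact this
    obtain ⟨m, hm, z, hz, rfl⟩ := hg
    have hz' : ∀ y : G, z * y = y * z := fun y => (Subgroup.mem_center_iff.mp hz y).symm
    have : ⁅m * z, h⁆ = ⁅m, h⁆ := by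
      rw [commutatorElement_def, commutatorElement_def]
      have e1 : (m * z)⁻¹ = z⁻¹ * m⁻¹ := mul_inv_rev m z
      have e2 : m * z * h * (z⁻¹ * m⁻¹) * h⁻¹ = m * h * m⁻¹ * h⁻¹ := by
        have : z * h * z⁻¹ = h := by rw [hz' h, mul_assoc, mul_inv_cancel, mul_one]
        calc m * z * h * (z⁻¹ * m⁻¹) * h⁻¹ = m * (z * h * z⁻¹) * m⁻¹ * h⁻¹ := by group
          _ = m * h * m⁻¹ * h⁻¹ := by rw [this]
      rw [e1, e2]
    rw [this, commutatorElement_def]
    have h2 : h * m⁻¹ * h⁻¹ ∈ M := hM.conj_mem _ (M.inv_mem hm) h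
    have : m * h * m⁻¹ * h⁻¹ = m * (h * m⁻¹ * h⁻¹) := by group
    rw [this]
    exact M.mul_mem hm h2

/-- Transport along `⊤ ≃ G`: a normal subgroup of `↥(commutator G)` for perfect `G`. -/
theorem normal_subgroup_of_commutator {G : Type*} [Group G] (hp : commutator G = ⊤)
    [hs : IsSimpleGroup (G ⧸ Subgroup.center G)] (N : Subgroup ↥(commutator G)) (hN : N.Normal) :
    N = ⊤ ∨ N ≤ Subgroup.center ↥(commutator G) := by
  have hsurj : Function.Surjective (commutator G).subtype := by
    intro g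
    exact ⟨⟨g, by rw [hp]; exact Subgroup.mem_top g⟩, rfl⟩
  haveI : (N.map (commutator G).subtype).Normal := hN.map _ hsurj
  rcases normal_of_perfect_central_simple hp (N.map (commutator G).subtype) with h1 | h1
  · left
    rw [eq_top_iff]
    intro n _
    have : (n : G) ∈ N.map (commutator G).subtype := by rw [h1]; exact Subgroup.mem_top _
    obtain ⟨n', hn', he⟩ := this
    have : n' = n := Subtype.ext he
    rw [← this]; exact hn'
  · right
    intro n hn
    rw [Subgroup.mem_center_iff]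
    intro y
    have h2 : (n : G) ∈ Subgroup.center G := h1 (Subgroup.mem_map_of_mem _ hn)
    apply Subtype.ext
    exact Subgroup.mem_center_iff.mp h2 (y : G)

theorem sl2_big (F : Type) [Field F] [Fintype F] {p n : ℕ} [Fact p.Prime]
    (hc : Fintype.card F = p ^ n) (h4 : 4 ≤ Fintype.card F) :
    (commutator ↥(commutator (Matrix.SpecialLinearGroup (Fin 2) F)) = ⊤) ∧
    (∀ N : Subgroup ↥(commutator (Matrix.SpecialLinearGroup (Fin 2) F)), N.Normal →
      N = ⊤ ∨ N ≤ Subgroup.center ↥(commutator (Matrix.SpecialLinearGroup (Fin 2) F))) ∧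
    (∃ u : ↥(commutator (Matrix.SpecialLinearGroup (Fin 2) F)), u ^ p = 1 ∧
      u ∉ Subgroup.center ↥(commutator (Matrix.SpecialLinearGroup (Fin 2) F))) := by
  have hx := Cfsg.Agent.Helper8.Dk.exists_sq_ne_one h4
  have hp : commutator (Matrix.SpecialLinearGroup (Fin 2) F) = ⊤ :=
    Cfsg.Agent.Helper4.L2p.commutator_SL2_eq_top hx
  haveI hs : IsSimpleGroup (Matrix.SpecialLinearGroup (Fin 2) F ⧸
      Subgroup.center (Matrix.SpecialLinearGroup (Fin 2) F)) :=
    Cfsg.Agent.Helper8.Dk.isSimpleGroup_PSL2_of_card h4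
  refine ⟨commutator_commutator_eq_top hp, fun N hN => normal_subgroup_of_commutator hp N hN, ?_⟩
  -- characteristic
  have hpF : (p : F) = 0 := by
    have h1 : ((Fintype.card F : ℕ) : F) = 0 := Nat.cast_card_eq_zero F
    rw [hc, Nat.cast_pow] at h1
    exact pow_eq_zero_iff (by
      intro h0
      rw [h0, pow_zero] at hc
      omega) |>.mp h1
  have hmemU : Cfsg.Agent.Helper9.BB.tU (1 : F) ∈ commutator (Matrix.SpecialLinearGroup (Fin 2) F) := by
    rw [hp]; exact Subgroup.mem_top _
  have hmemL : Cfsg.Agent.Helper9.BB.tL (1 : F) ∈ commutator (Matrix.SpecialLinearGroup (Fin 2) F) := by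
    rw [hp]; exact Subgroup.mem_top _
  have hpow : ∀ k : ℕ, (Cfsg.Agent.Helper9.BB.tU (1 : F)) ^ k = Cfsg.Agent.Helper9.BB.tU (k : F) := by
    intro k
    induction k with
    | zero => rw [pow_zero, Nat.cast_zero, Cfsg.Agent.Helper9.BB.tU_zero]
    | succ k ih => rw [pow_succ, ih, Cfsg.Agent.Helper9.BB.tU_mul, Nat.cast_succ]
  refine ⟨⟨_, hmemU⟩, ?_, ?_⟩
  · apply Subtype.ext
    rw [Subgroup.coe_pow, Subgroup.coe_one, hpow, hpF, Cfsg.Agent.Helper9.BB.tU_zero]
  · intro hcen
    have h1 := Subgroup.mem_center_iff.mp hcen ⟨_, hmemL⟩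
    have h1' : Cfsg.Agent.Helper9.BB.tL (1 : F) * Cfsg.Agent.Helper9.BB.tU (1 : F) =
        Cfsg.Agent.Helper9.BB.tU (1 : F) * Cfsg.Agent.Helper9.BB.tL (1 : F) := congrArg Subtype.val h1
    have h2 : ((Cfsg.Agent.Helper9.BB.tL (1 : F) * Cfsg.Agent.Helper9.BB.tU (1 : F) :
        Matrix.SpecialLinearGroup (Fin 2) F) : Matrix (Fin 2) (Fin 2) F) 0 0 =
        ((Cfsg.Agent.Helper9.BB.tU (1 : F) * Cfsg.Agent.Helper9.BB.tL (1 : F) :
        Matrix.SpecialLinearGroup (Fin 2) F) : Matrix (Fin 2) (Fin 2) F) 0 0 := by rw [h1']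
    rw [Matrix.SpecialLinearGroup.coe_mul, Matrix.SpecialLinearGroup.coe_mul] at h2
    simp [Cfsg.Agent.Helper9.BB.tU, Cfsg.Agent.Helper9.BB.tL, Matrix.mul_apply, Fin.sum_univ_two] at h2

end Cfsg.Agent.Helper1.SBD3
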