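import Mathlib

set_option autoImplicit false

/-!
# Pieces D3b, D3c of S2986 (helper5's stubs): `SL₂(2)' ≅ C₃`, `SL₂(3)' ≅ Q₈`
-/

namespace Cfsg.Agent.Helper1.SBD3

open Matrix
open scoped commutatorElement

/-- `SL₂` over isomorphic rings. -/
noncomputable def slEquiv {R S : Type*} [CommRing R] [CommRing S] (e : R ≃+* S) :
    Matrix.SpecialLinearGroup (Fin 2) R ≃* Matrix.SpecialLinearGroup (Fin 2) S where
  toFun := Matrix.SpecialLinearGroup.map (e : R →+* S)
  invFun := Matrix.SpecialLinearGroup.map (e.symm : S →+* R)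
  left_inv g := by
    apply Matrix.SpecialLinearGroup.ext
    intro i j
    change e.symm (e ((g : Matrix (Fin 2) (Fin 2) R) i j)) = _
    exact e.symm_apply_apply _
  right_inv g := by
    apply Matrix.SpecialLinearGroup.ext
    intro i j
    change e (e.symm ((g : Matrix (Fin 2) (Fin 2) S) i j)) = _
    exact e.apply_symm_apply _
  map_mul' a b := map_mul _ a b

/-- Derived subgroups of isomorphic groups are isomorphic. -/
noncomputable def commEquiv {G G' : Type*} [Group G] [Group G'] (e : G ≃* G') :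
    ↥(commutator G) ≃* ↥(commutator G') :=
  (e.subgroupMap (commutator G)).trans (MulEquiv.subgroupCongr (by
    rw [commutator_def, Subgroup.map_commutator,
      Subgroup.map_top_of_surjective (e : G →* G') e.surjective, ← commutator_def]))

abbrev G2 := Matrix.SpecialLinearGroup (Fin 2) (ZMod 2)
abbrev G3 := Matrix.SpecialLinearGroup (Fin 2) (ZMod 3)

set_option maxRecDepth 100000 in
theorem comm_pow3_G2 : ∀ a b : G2, ⁅a, b⁆ ^ 3 = 1 := by decide +kernel

set_option maxRecDepth 100000 in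
theorem ex_comm_G2 : ∀ g : G2, g ^ 3 = 1 → ∃ a b : G2, ⁅a, b⁆ = g := by decide +kernel

set_option maxRecDepth 100000 in
theorem card_Q_G2 : (Finset.univ.filter (fun g : G2 => g ^ 3 = 1)).card = 3 := by decide +kernel

set_option maxRecDepth 100000 in
theorem Q_mul_G2 : ∀ a b : G2, a ^ 3 = 1 → b ^ 3 = 1 → (a * b) ^ 3 = 1 := by decide +kernel

set_option maxRecDepth 100000 in
theorem comm_pow4_G3 : ∀ a b : G3, ⁅a, b⁆ ^ 4 = 1 := by decide +kernel

set_option maxRecDepth 100000 in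
theorem ex_comm_G3 : ∀ g : G3, g ^ 4 = 1 → ∃ a b : G3, ⁅a, b⁆ = g := by decide +kernel

set_option maxRecDepth 100000 in
theorem card_Q_G3 : (Finset.univ.filter (fun g : G3 => g ^ 4 = 1)).card = 8 := by decide +kernel

set_option maxRecDepth 100000 in
theorem Q_mul_G3 : ∀ a b : G3, a ^ 4 = 1 → b ^ 4 = 1 → (a * b) ^ 4 = 1 := by decide +kernel

set_option maxRecDepth 100000 in
theorem Q_props_G3 : ∀ x : G3, x ^ 4 = 1 →
    ((-1 : G3) * x = x * (-1)) ∧ (x = 1 ∨ x = -1 ∨ x * x = -1) := by decide +kernel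

set_option maxRecDepth 100000 in
theorem Q_nc_G3 : ∃ x y : G3, x ^ 4 = 1 ∧ y ^ 4 = 1 ∧ x * y ≠ y * x := by decide +kernel

set_option maxRecDepth 100000 in
theorem neg_one_G3 : (-1 : G3) ≠ 1 ∧ (-1 : G3) * (-1) = 1 ∧ (-1 : G3) ^ 4 = 1 := by decide +kernel

/-- The subgroup of elements of exponent dividing `k`, given closure under multiplication. -/
def expSub {G : Type*} [Group G] (k : ℕ) (hmul : ∀ a b : G, a ^ k = 1 → b ^ k = 1 → (a * b) ^ k = 1) :
    Subgroup G where
  carrier := {g | g ^ k = 1}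
  mul_mem' := fun {a b} ha hb => hmul a b ha hb
  one_mem' := one_pow k
  inv_mem' := fun {a} ha => by
    change (a⁻¹) ^ k = 1
    rw [inv_pow, show a ^ k = 1 from ha, inv_one]

theorem mem_commutator_iff_of {G : Type*} [Group G] (k : ℕ)
    (hmul : ∀ a b : G, a ^ k = 1 → b ^ k = 1 → (a * b) ^ k = 1)
    (hc : ∀ a b : G, ⁅a, b⁆ ^ k = 1) (hex : ∀ g : G, g ^ k = 1 → ∃ a b : G, ⁅a, b⁆ = g) (g : G) :
    g ∈ commutator G ↔ g ^ k = 1 := by
  constructor
  · intro hg
    have hle : commutator G ≤ expSub k hmul := by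
      rw [commutator_def, Subgroup.commutator_le]
      intro a _ b _
      exact hc a b
    exact hle hg
  · intro hg
    obtain ⟨a, b, rfl⟩ := hex g hg
    rw [commutator_def]
    exact Subgroup.commutator_mem_commutator (Subgroup.mem_top a) (Subgroup.mem_top b)

theorem mem_comm_G2 (g : G2) : g ∈ commutator G2 ↔ g ^ 3 = 1 :=
  mem_commutator_iff_of 3 Q_mul_G2 comm_pow3_G2 ex_comm_G2 g

theorem mem_comm_G3 (g : G3) : g ∈ commutator G3 ↔ g ^ 4 = 1 :=
  mem_commutator_iff_of 4 Q_mul_G3 comm_pow4_G3 ex_comm_G3 g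

theorem card_comm_G2 : Nat.card ↥(commutator G2) = 3 := by
  rw [Nat.card_congr (Equiv.subtypeEquivRight mem_comm_G2), Nat.card_eq_fintype_card,
    Fintype.card_subtype]
  exact card_Q_G2

theorem card_comm_G3 : Nat.card ↥(commutator G3) = 8 := by
  rw [Nat.card_congr (Equiv.subtypeEquivRight mem_comm_G3), Nat.card_eq_fintype_card,
    Fintype.card_subtype]
  exact card_Q_G3

/-- PIECE D3b. -/
theorem sl2_two (F : Type) [Field F] [Fintype F] (h2 : Fintype.card F = 2) :
    Nat.card ↥(commutator (Matrix.SpecialLinearGroup (Fin 2) F)) = 3 := by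
  have φ := commEquiv (slEquiv (ZMod.ringEquivOfPrime F Nat.prime_two h2))
  rw [← Nat.card_congr φ.toEquiv]
  exact card_comm_G2

/-- The `Q₈`-property, transported along isomorphisms. -/
def IsQ8Like (K : Type*) [Group K] : Prop :=
  Nat.card K = 8 ∧ ∃ t : K, t ≠ 1 ∧ t * t = 1 ∧ (∀ x, t * x = x * t) ∧
    (∀ x, x = 1 ∨ x = t ∨ x * x = t) ∧ ∃ x y : K, x * y ≠ y * x

theorem IsQ8Like.congr {K K' : Type*} [Group K] [Group K'] (φ : K ≃* K') (h : IsQ8Like K) :
    IsQ8Like K' := by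
  obtain ⟨hc, t, ht1, ht2, ht3, ht4, x, y, hxy⟩ := h
  refine ⟨by rw [← Nat.card_congr φ.toEquiv]; exact hc, φ t, ?_, ?_, ?_, ?_, φ x, φ y, ?_⟩
  · intro h0
    apply ht1
    apply φ.injective
    rw [h0, map_one]
  · rw [← map_mul, ht2, map_one]
  · intro z
    obtain ⟨z', rfl⟩ := φ.surjective z
    rw [← map_mul, ← map_mul, ht3]
  · intro z
    obtain ⟨z', rfl⟩ := φ.surjective z
    rcases ht4 z' with h0 | h0 | h0
    · left; rw [h0, map_one]
    · right; left; rw [h0]
    · right; right; rw [← map_mul, h0]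
  · intro h0
    apply hxy
    apply φ.injective
    rw [map_mul, map_mul, h0]

theorem isQ8Like_G3 : IsQ8Like ↥(commutator G3) := by
  refine ⟨card_comm_G3, ⟨-1, (mem_comm_G3 _).mpr neg_one_G3.2.2⟩, ?_, ?_, ?_, ?_, ?_⟩
  · intro h0
    exact neg_one_G3.1 (congrArg Subtype.val h0)
  · apply Subtype.ext
    exact neg_one_G3.2.1
  · intro x
    apply Subtype.ext
    exact (Q_props_G3 x.1 ((mem_comm_G3 _).mp x.2)).1
  · intro x
    rcases (Q_props_G3 x.1 ((mem_comm_G3 _).mp x.2)).2 with h0 | h0 | h0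
    · left; exact Subtype.ext h0
    · right; left; exact Subtype.ext h0
    · right; right; exact Subtype.ext h0
  · obtain ⟨x, y, hx, hy, hxy⟩ := Q_nc_G3
    refine ⟨⟨x, (mem_comm_G3 _).mpr hx⟩, ⟨y, (mem_comm_G3 _).mpr hy⟩, ?_⟩
    intro h0
    exact hxy (congrArg Subtype.val h0)

/-- PIECE D3c. -/
theorem sl2_three (F : Type) [Field F] [Fintype F] (h3 : Fintype.card F = 3) :
    Nat.card ↥(commutator (Matrix.SpecialLinearGroup (Fin 2) F)) = 8 ∧
    ∃ t : ↥(commutator (Matrix.SpecialLinearGroup (Fin 2) F)), t ≠ 1 ∧ t * t = 1 ∧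
      (∀ x, t * x = x * t) ∧ (∀ x, x = 1 ∨ x = t ∨ x * x = t) ∧
      ∃ x y : ↥(commutator (Matrix.SpecialLinearGroup (Fin 2) F)), x * y ≠ y * x :=
  isQ8Like_G3.congr (commEquiv (slEquiv (ZMod.ringEquivOfPrime F Nat.prime_three h3)))

end Cfsg.Agent.Helper1.SBD3
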