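import Mathlib

set_option autoImplicit false

/-!
# Pieces D3d, D3e of S2986 (helper5's stubs): alternating groups of odd degree
-/

namespace Cfsg.Agent.Helper1.SBD3

open scoped commutatorElement

/-- PIECE D3d. -/
theorem alt_big (m : ℕ) (hm : 2 ≤ m) :
    (commutator ↥(alternatingGroup (Fin (2 * m + 1))) = ⊤) ∧
    (∀ N : Subgroup ↥(alternatingGroup (Fin (2 * m + 1))), N.Normal → N = ⊤ ∨ N = ⊥) ∧
    (∃ u : ↥(alternatingGroup (Fin (2 * m + 1))), u ≠ 1 ∧ u ^ 2 = 1) := by
  haveI hs : IsSimpleGroup ↥(alternatingGroup (Fin (2 * m + 1))) :=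
    alternatingGroup.isSimpleGroup (by rw [Nat.card_eq_fintype_card, Fintype.card_fin]; omega)
  set a0 : Fin (2 * m + 1) := ⟨0, by omega⟩ with ha0
  set a1 : Fin (2 * m + 1) := ⟨1, by omega⟩ with ha1
  set a2 : Fin (2 * m + 1) := ⟨2, by omega⟩ with ha2
  set a3 : Fin (2 * m + 1) := ⟨3, by omega⟩ with ha3
  set a4 : Fin (2 * m + 1) := ⟨4, by omega⟩ with ha4
  have h01 : a0 ≠ a1 := by rw [ha0, ha1]; intro h; simp [Fin.ext_iff] at h
  have h02 : a0 ≠ a2 := by rw [ha0, ha2]; intro h; simp [Fin.ext_iff] at h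
  have h03 : a0 ≠ a3 := by rw [ha0, ha3]; intro h; simp [Fin.ext_iff] at h
  have h04 : a0 ≠ a4 := by rw [ha0, ha4]; intro h; simp [Fin.ext_iff] at h
  have h12 : a1 ≠ a2 := by rw [ha1, ha2]; intro h; simp [Fin.ext_iff] at h
  have h13 : a1 ≠ a3 := by rw [ha1, ha3]; intro h; simp [Fin.ext_iff] at h
  have h14 : a1 ≠ a4 := by rw [ha1, ha4]; intro h; simp [Fin.ext_iff] at h
  have h23 : a2 ≠ a3 := by rw [ha2, ha3]; intro h; simp [Fin.ext_iff] at h
  have h24 : a2 ≠ a4 := by rw [ha2, ha4]; intro h; simp [Fin.ext_iff] at h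
  have h34 : a3 ≠ a4 := by rw [ha3, ha4]; intro h; simp [Fin.ext_iff] at h
  have hu : Equiv.swap a0 a1 * Equiv.swap a2 a3 ∈ alternatingGroup (Fin (2 * m + 1)) := by
    rw [Equiv.Perm.mem_alternatingGroup, map_mul, Equiv.Perm.sign_swap h01, Equiv.Perm.sign_swap h23]
    rfl
  have hw : Equiv.swap a0 a1 * Equiv.swap a2 a4 ∈ alternatingGroup (Fin (2 * m + 1)) := by
    rw [Equiv.Perm.mem_alternatingGroup, map_mul, Equiv.Perm.sign_swap h01, Equiv.Perm.sign_swap h24]
    rfl
  refine ⟨?_, fun N hN => hN.eq_bot_or_eq_top.symm, ⟨_, hu⟩, ?_, ?_⟩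
  · rcases (inferInstance : (commutator ↥(alternatingGroup (Fin (2 * m + 1)))).Normal).eq_bot_or_eq_top
      with h0 | h1
    · exfalso
      have hc : ⁅(⟨_, hu⟩ : ↥(alternatingGroup (Fin (2 * m + 1)))), ⟨_, hw⟩⁆ ∈
          commutator ↥(alternatingGroup (Fin (2 * m + 1))) := by
        rw [commutator_def]
        exact Subgroup.commutator_mem_commutator (Subgroup.mem_top _) (Subgroup.mem_top _)
      rw [h0, Subgroup.mem_bot, commutatorElement_eq_one_iff_mul_comm] at hc
      have h1 := congrArg Subtype.val hc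
      have h2 := congrArg (fun f : Equiv.Perm (Fin (2 * m + 1)) => f a4) h1
      simp only [Subgroup.coe_mul, Equiv.Perm.mul_apply] at h2
      rw [Equiv.swap_apply_right, Equiv.swap_apply_of_ne_of_ne h02.symm h12.symm,
        Equiv.swap_apply_left, Equiv.swap_apply_of_ne_of_ne h03.symm h13.symm,
        Equiv.swap_apply_of_ne_of_ne h24.symm h34.symm,
        Equiv.swap_apply_of_ne_of_ne h04.symm h14.symm, Equiv.swap_apply_right,
        Equiv.swap_apply_of_ne_of_ne h02.symm h12.symm] at h2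
      exact h23 h2.symm
    · exact h1
  · intro h0
    have h1 := congrArg Subtype.val h0
    have h2 := congrArg (fun f : Equiv.Perm (Fin (2 * m + 1)) => f a0) h1
    simp only [Subgroup.coe_one, Equiv.Perm.mul_apply, Equiv.Perm.one_apply] at h2
    rw [Equiv.swap_apply_of_ne_of_ne h02 h03, Equiv.swap_apply_left] at h2
    exact h01 h2.symm
  · apply Subtype.ext
    rw [Subgroup.coe_pow, Subgroup.coe_one, pow_two]
    have hcomm : Equiv.swap a2 a3 * Equiv.swap a0 a1 = Equiv.swap a0 a1 * Equiv.swap a2 a3 := by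
      have hd : Equiv.Perm.Disjoint (Equiv.swap a0 a1) (Equiv.swap a2 a3) := by
        intro x
        by_cases hx0 : x = a0
        · right; rw [hx0]; exact Equiv.swap_apply_of_ne_of_ne h02 h03
        by_cases hx1 : x = a1
        · right; rw [hx1]; exact Equiv.swap_apply_of_ne_of_ne h12 h13
        left; exact Equiv.swap_apply_of_ne_of_ne hx0 hx1
      exact hd.commute.eq.symm
    calc Equiv.swap a0 a1 * Equiv.swap a2 a3 * (Equiv.swap a0 a1 * Equiv.swap a2 a3)
        = Equiv.swap a0 a1 * (Equiv.swap a2 a3 * Equiv.swap a0 a1) * Equiv.swap a2 a3 := by group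
      _ = Equiv.swap a0 a1 * (Equiv.swap a0 a1 * Equiv.swap a2 a3) * Equiv.swap a2 a3 := by rw [hcomm]
      _ = (Equiv.swap a0 a1 * Equiv.swap a0 a1) * (Equiv.swap a2 a3 * Equiv.swap a2 a3) := by group
      _ = 1 := by rw [Equiv.swap_mul_self, Equiv.swap_mul_self, one_mul]

/-- PIECE D3e. -/
theorem alt_small : Nat.card ↥(alternatingGroup (Fin (2 * 1 + 1))) = 3 ∧
    Nat.card ↥(alternatingGroup (Fin (2 * 0 + 1))) = 1 := by
  constructor
  · change Nat.card ↥(alternatingGroup (Fin 3)) = 3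
    rw [Nat.card_eq_fintype_card]
    decide
  · change Nat.card ↥(alternatingGroup (Fin 1)) = 1
    rw [Nat.card_eq_fintype_card]
    decide

end Cfsg.Agent.Helper1.SBD3
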