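import Mathlib
import Cfsg.Prelude.Def_PLocal
import Cfsg.Agent.Helper1.FFGlobal1
import Cfsg.Agent.Helper1.GWo

set_option autoImplicit false

/-!
Failure of factorization for `p = 2` in a `2`-solvable group produces an element acting as a
transvection on `V`, hence a section `S₄`.
-/

namespace Cfsg.Agent.Helper1

namespace SF

open scoped Pointwise commutatorElement

open Cfsg.Agent.Helper1 SemidirectProduct Cfsg.Agent.Helper1.Hol

universe u

variable {G : Type u} [Group G]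

set_option maxHeartbeats 1600000 in
theorem exists_transvection [Finite G] (V : Subgroup G) [V.Normal]
    (hV : Cfsg.IsElementaryAbelian 2 V) (hsep : Cfsg.IsPSolvable 2 G)
    (hOp : ∀ D : Subgroup G, D.Normal → Subgroup.centralizer (V : Set G) ≤ D →
      (∃ k : ℕ, (Subgroup.centralizer (V : Set G)).relIndex D = 2 ^ k) →
      D = Subgroup.centralizer (V : Set G))
    (hJ : ¬ Cfsg.thompsonSubgroup 2 G ≤ Subgroup.centralizer (V : Set G)) :
    ∃ a r : G, (∃ k : ℕ, a ^ (2 ^ k) = 1) ∧ a ∉ Subgroup.centralizer (V : Set G) ∧ r ∈ V ∧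
      r * r = 1 ∧ r ≠ 1 ∧ ∀ v ∈ V, a * v * a⁻¹ * v⁻¹ = 1 ∨ a * v * a⁻¹ * v⁻¹ = r := by
  haveI : Fact (Nat.Prime 2) := ⟨Nat.prime_two⟩
  set J := Cfsg.thompsonSubgroup 2 G with hJdef
  haveI hJc : J.Characteristic := thompsonSubgroup_characteristic 2
  haveI hJn : J.Normal := inferInstance
  have h := hyp_map V hV hsep hOp J
  have hS3 := map_thompsonSubgroup_eq_iSup (p := 2) V hV
  set ℋ := J.map (psi V) with hℋ
  have hℋ1 : ℋ ≠ ⊥ := by
    intro hb
    apply hJ
    intro j hj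
    rw [← mem_ker_psi_iff, MonoidHom.mem_ker]
    have : psi V j ∈ ℋ := Subgroup.mem_map_of_mem _ hj
    rw [hb, Subgroup.mem_bot] at this
    exact this
  obtain ⟨A₀, hA₀H, hm₀⟩ : ∃ A : Subgroup (HolG V), A ≤ ℋ ∧ FFact.IsMinBest 2 (VV V) A := by
    by_contra hno
    apply hℋ1
    rw [eq_bot_iff]
    exact h.le_of_forall_minBest hS3 (fun A hAH hm => (hno ⟨A, hAH, hm⟩).elim)
  have hT := h.isTrv_of_isMinBest hA₀H hm₀
  obtain ⟨ab, habA, hab1, habo, habz⟩ := hT.exists_generator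
  obtain ⟨a0, ha0J, ha0⟩ := hA₀H habA
  have hab2 : ab * ab = 1 := by
    rw [← pow_two, ← habo]; exact pow_orderOf_eq_one ab
  -- the 2-part of `a0`
  have hord0 : orderOf a0 ≠ 0 := (orderOf_pos a0).ne'
  obtain ⟨k, m, hm, hkm⟩ := Nat.exists_eq_two_pow_mul_odd hord0
  obtain ⟨j, hj⟩ := hm
  obtain ⟨a, haa⟩ : ∃ a, a = a0 ^ m := ⟨_, rfl⟩
  have hpsia : psi V a = ab := by
    rw [haa, map_pow, ha0, hj, pow_succ, pow_mul, pow_two, hab2, one_pow, one_mul]
  have ha2 : a ^ (2 ^ k) = 1 := by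
    rw [haa, ← pow_mul, mul_comm, ← hkm]; exact pow_orderOf_eq_one a0
  have haC : a ∉ Subgroup.centralizer (V : Set G) := by
    intro hc
    rw [← mem_ker_psi_iff, MonoidHom.mem_ker, hpsia] at hc
    exact hab1 hc
  -- the commutator of order 2
  have hcard : Nat.card ↥(⁅VV V, A₀⁆) = 2 := hT.comm
  obtain ⟨rb, hrb1, hrbu⟩ := (Nat.card_eq_two_iff' (1 : ↥(⁅VV V, A₀⁆))).1 hcard
  have hcVV : ⁅VV V, A₀⁆ ≤ VV V := Subgroup.commutator_le_left _ _
  obtain ⟨r', hr'⟩ : ∃ r' : ↥V, inl r' = (rb : HolG V) := hcVV rb.2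
  have hr'1 : r' ≠ 1 := by
    rintro rfl
    apply hrb1
    apply Subtype.ext
    rw [← hr', map_one]; rfl
  have hinj : Function.Injective (inl : ↥V →* HolG V) := inl_injective
  refine ⟨a, (r' : G), ⟨k, ha2⟩, haC, r'.2, ?_, fun h1 => hr'1 (Subtype.ext h1), ?_⟩
  · have := hV.2 (r' : G) r'.2
    rw [pow_two] at this
    exact this
  · intro v hv
    obtain ⟨w, hw⟩ : ∃ w : ↥V, w = (MulAut.conjNormal a : MulAut ↥V) ⟨v, hv⟩ * (⟨v, hv⟩ : ↥V)⁻¹ :=
      ⟨_, rfl⟩
    have hwG : (w : G) = a * v * a⁻¹ * v⁻¹ := by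
      rw [hw]
      simp [MulAut.conjNormal_apply]
    have hwc : (inl w : HolG V) ∈ ⁅VV V, A₀⁆ := by
      have e : (inl w : HolG V) = ⁅ab, (inl (⟨v, hv⟩ : ↥V) : HolG V)⁆ := by
        rw [hw, map_mul, map_inv, ← psi_conj, hpsia, commutatorElement_def]
      rw [e, Subgroup.commutator_comm]
      exact Subgroup.commutator_mem_commutator habA ⟨_, rfl⟩
    by_cases hw1 : (⟨inl w, hwc⟩ : ↥(⁅VV V, A₀⁆)) = 1
    · left
      have h2 : (inl w : HolG V) = 1 := congrArg Subtype.val hw1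
      have h3 : w = 1 := hinj (by rw [h2, map_one])
      rw [← hwG, h3]; rfl
    · right
      have h2 := hrbu _ hw1
      have h3 : (inl w : HolG V) = inl r' := by
        rw [hr']; exact congrArg Subtype.val h2
      rw [← hwG, hinj h3]

/-- Failure of factorization for `p = 2` gives a section `S₄`. -/
theorem involves_S4_of_not_le [Finite G] (V : Subgroup G) [V.Normal]
    (hV : Cfsg.IsElementaryAbelian 2 V) (hsep : Cfsg.IsPSolvable 2 G)
    (hOp : ∀ D : Subgroup G, D.Normal → Subgroup.centralizer (V : Set G) ≤ D →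
      (∃ k : ℕ, (Subgroup.centralizer (V : Set G)).relIndex D = 2 ^ k) →
      D = Subgroup.centralizer (V : Set G))
    (hJ : ¬ Cfsg.thompsonSubgroup 2 G ≤ Subgroup.centralizer (V : Set G)) :
    Cfsg.Involves (Equiv.Perm (Fin 4)) G := by
  obtain ⟨a, r, ha2, haC, hrV, hr, hr1, ha⟩ := exists_transvection V hV hsep hOp hJ
  have hVc : ∀ u ∈ V, ∀ v ∈ V, u * v = v * u := by
    intro u hu v hv
    have := hV.1.is_comm.comm ⟨u, hu⟩ ⟨v, hv⟩
    exact congrArg Subtype.val this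
  exact GW.involves_S4_of_transvection V hVc hOp a r ha2 haC hrV hr hr1 ha

end SF

end Cfsg.Agent.Helper1
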