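import Mathlib
import Cfsg.Prelude.Def_PLocal
import Cfsg.Agent.Helper1.SFa
import Cfsg.Agent.Helper1.GWn
import Cfsg.Agent.Helper1.Fitting2
import Cfsg.Agent.Helper1.ThompsonNPC
import Cfsg.Agent.Helper4.SolvPSolv

set_option autoImplicit false

/-!
A solvable `S₄`-free group with `O_{2'}(G) = 1` and Sylow `2`-subgroups of class at most two has
`J_e(S)` normal.
-/

namespace Cfsg.Agent.Helper1

namespace SF

open scoped Pointwise commutatorElement

universe u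

variable {G : Type u} [Group G]

set_option maxHeartbeats 1600000 in
theorem normalizer_thompson_eq_top [Finite G] [Group.IsSolvable G]
    (hS4 : ¬ Cfsg.Involves (Equiv.Perm (Fin 4)) G) (S : Sylow 2 G)
    (hcl : Subgroup.lowerCentralSeries (S : Subgroup G) 2 = ⊥)
    (hO : Cfsg.pPrimeCore 2 G = ⊥) :
    Subgroup.normalizer ((Cfsg.thompsonSubgroupOf 2 (S : Subgroup G)) : Set G) = ⊤ := by
  haveI : Fact (Nat.Prime 2) := ⟨Nat.prime_two⟩
  have hc := centralizer_pCore_le (G := G) 2 hO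
  obtain ⟨hWn, hW, hOpW⟩ := omegaCenterSup_facts hc
  haveI := hWn
  obtain ⟨V, hVdef⟩ : ∃ V, V = omegaCenterSup 2 G := ⟨_, rfl⟩
  rw [← hVdef] at hW hOpW
  haveI hVn : V.Normal := hVdef ▸ hWn
  have hsep : Cfsg.IsPSolvable 2 G :=
    Cfsg.Agent.Helper4.SolvPSolv.isPSolvable_of_isSolvable 2 inferInstance
  have hJV : Cfsg.thompsonSubgroup 2 G ≤ Subgroup.centralizer (V : Set G) := by
    by_contra hJ
    exact hS4 (involves_S4_of_not_le V hW hsep hOpW hJ)
  obtain ⟨Q, hQdef⟩ : ∃ Q, Q = Cfsg.pCore 2 G := ⟨_, rfl⟩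
  rw [← hQdef] at hc
  haveI hQn : Q.Normal := hQdef ▸ pCore_normal 2
  have hQ2 : IsPGroup 2 Q := hQdef ▸ pCore_isPGroup 2
  have hQS : Q ≤ (S : Subgroup G) := hQdef ▸ pCore_le_sylow S
  have hV2 : ∀ u ∈ V, u * u = 1 := by
    intro u hu
    have := hW.2 u hu
    rwa [pow_two] at this
  -- class two
  have hcent : ∀ x ∈ (S : Subgroup G), ∀ y ∈ (S : Subgroup G), ∀ z ∈ (S : Subgroup G),
      z * ⁅x, y⁆ = ⁅x, y⁆ * z := by
    intro x hx y hy z hz
    have h1 : ⁅⁅x, y⁆, z⁆ ∈ Subgroup.lowerCentralSeries (S : Subgroup G) 2 := by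
      show ⁅⁅x, y⁆, z⁆ ∈ ⁅⁅(S : Subgroup G), (S : Subgroup G)⁆, (S : Subgroup G)⁆
      exact Subgroup.commutator_mem_commutator (Subgroup.commutator_mem_commutator hx hy) hz
    rw [hcl, Subgroup.mem_bot, commutatorElement_eq_one_iff_mul_comm] at h1
    exact h1.symm
  have hΩV : Cfsg.omegaOne 2 ((S : Subgroup G) ⊓ Subgroup.centralizer ((S : Subgroup G) : Set G))
      ≤ V := by
    rw [hVdef]
    exact le_iSup (fun S : Sylow 2 G => Cfsg.omegaOne 2 ((S : Subgroup G) ⊓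
      Subgroup.centralizer ((S : Subgroup G) : Set G))) S
  have key : ∀ a ∈ (S : Subgroup G), a * a = 1 → ∀ x ∈ (S : Subgroup G),
      a * x * a⁻¹ * x⁻¹ ∈ V := by
    intro a ha ha2 x hx
    apply hΩV
    apply Subgroup.subset_closure
    have e : a * x * a⁻¹ * x⁻¹ = ⁅a, x⁆ := (commutatorElement_def a x).symm
    have hwS : ⁅a, x⁆ ∈ (S : Subgroup G) := by
      rw [commutatorElement_def]
      exact Subgroup.mul_mem _ (Subgroup.mul_mem _ (Subgroup.mul_mem _ ha hx)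
        (Subgroup.inv_mem _ ha)) (Subgroup.inv_mem _ hx)
    refine ⟨⟨by rw [e]; exact hwS, ?_⟩, ?_⟩
    · rw [e]
      show ⁅a, x⁆ ∈ Subgroup.centralizer (((S : Subgroup G) : Subgroup G) : Set G)
      rw [Subgroup.mem_centralizer_iff]
      intro z hz
      exact hcent a ha x hx z hz
    · -- [a,x]^2 = [a^2,x] = 1
      have hca : a * ⁅a, x⁆ = ⁅a, x⁆ * a := hcent a ha x hx a ha
      rw [e, pow_two]
      have h1 : ⁅a, x⁆ * ⁅a, x⁆ = (a * a) * x * (a * a)⁻¹ * x⁻¹ := by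
        calc ⁅a, x⁆ * ⁅a, x⁆ = ⁅a, x⁆ * (a * x * a⁻¹ * x⁻¹) := by rw [← commutatorElement_def]
          _ = (⁅a, x⁆ * a) * x * a⁻¹ * x⁻¹ := by group
          _ = (a * ⁅a, x⁆) * x * a⁻¹ * x⁻¹ := by rw [hca]
          _ = (a * (a * x * a⁻¹ * x⁻¹)) * x * a⁻¹ * x⁻¹ := by rw [← commutatorElement_def]
          _ = (a * a) * x * (a * a)⁻¹ * x⁻¹ := by group
      rw [h1, ha2]; group
  -- the stabilizer of the chain `1 ≤ V ≤ Q`
  obtain ⟨T, hTdef⟩ : ∃ T, T = GW.KK Q V ⊓ Subgroup.centralizer (V : Set G) := ⟨_, rfl⟩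
  have hTn : T.Normal := by
    constructor
    intro d hd g
    rw [hTdef] at hd ⊢
    obtain ⟨hd1, hd2⟩ := Subgroup.mem_inf.1 hd
    refine Subgroup.mem_inf.2 ⟨?_, ?_⟩
    · rw [GW.mem_KK]
      refine ⟨by rw [Subgroup.normalizer_eq_top]; exact Subgroup.mem_top _, fun x hx => ?_⟩
      have hx' : g⁻¹ * x * g ∈ Q := by
        have := hQn.conj_mem x hx g⁻¹
        rwa [inv_inv] at this
      have h1 := hd1.2 _ hx'
      have h2 := hVn.conj_mem _ h1 g
      have e : g * d * g⁻¹ * x * (g * d * g⁻¹)⁻¹ * x⁻¹ =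
          g * (d * (g⁻¹ * x * g) * d⁻¹ * (g⁻¹ * x * g)⁻¹) * g⁻¹ := by group
      rw [e]; exact h2
    · exact (Subgroup.normal_centralizer (H := V)).conj_mem d hd2 g
  have hT2 : IsPGroup 2 T := by
    intro d
    have hd : (d : G) ∈ GW.KK Q V ⊓ Subgroup.centralizer (V : Set G) := hTdef ▸ d.2
    obtain ⟨hd1, hd2⟩ := Subgroup.mem_inf.1 hd
    have h1 : (d : G) * d ∈ Q := hc (GW.sq_mem_centralizer_of_mem_KK hV2 hd1 hd2)
    obtain ⟨k, hk⟩ := hQ2 ⟨(d : G) * d, h1⟩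
    refine ⟨k + 1, ?_⟩
    apply Subtype.ext
    have h2 : ((d : G) * d) ^ (2 ^ k) = 1 := by
      have := congrArg Subtype.val hk
      simpa using this
    rw [Subgroup.coe_pow, Subgroup.coe_one, pow_succ, pow_mul', pow_two]
    exact h2
  have hTQ : T ≤ Q := hQdef ▸ le_pCore hTn hT2
  -- `J_e(S) ≤ Q`
  have hJS : Cfsg.thompsonSubgroupOf 2 (S : Subgroup G) ≤ Cfsg.thompsonSubgroup 2 G := by
    rw [thompsonSubgroup_eq_iSup_sylow]
    exact le_iSup (fun S : Sylow 2 G => Cfsg.thompsonSubgroupOf 2 (S : Subgroup G)) S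
  have hJQ : Cfsg.thompsonSubgroupOf 2 (S : Subgroup G) ≤ Q := by
    have h0 : ∀ A ∈ Cfsg.maxElementaryAbelianSubgroups 2 ↥(S : Subgroup G),
        A.map (S : Subgroup G).subtype ≤ Q := by
      intro A hA
      rintro _ ⟨a, haA, rfl⟩
      apply hTQ
      rw [hTdef]
      have haJ : ((S : Subgroup G).subtype a) ∈ Cfsg.thompsonSubgroupOf 2 (S : Subgroup G) := by
        refine ⟨a, ?_, rfl⟩
        exact (le_sSup hA : A ≤ Cfsg.thompsonSubgroup 2 ↥(S : Subgroup G)) haA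
      have ha2 : ((S : Subgroup G).subtype a) * ((S : Subgroup G).subtype a) = 1 := by
        have := hA.1.2 a haA
        rw [pow_two] at this
        rw [← map_mul, this, map_one]
      refine Subgroup.mem_inf.2 ⟨?_, hJV (hJS haJ)⟩
      rw [GW.mem_KK]
      refine ⟨by rw [Subgroup.normalizer_eq_top]; exact Subgroup.mem_top _, fun x hx => ?_⟩
      exact key _ a.2 ha2 x (hQS hx)
    unfold Cfsg.thompsonSubgroupOf Cfsg.thompsonSubgroup
    rw [Subgroup.map_le_iff_le_comap]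
    apply sSup_le
    intro A hA
    rw [← Subgroup.map_le_iff_le_comap]
    exact h0 A hA
  have hJeq := ThompsonRed.thompsonSubgroupOf_eq_of_le_of_le hQS hJQ
  rw [← hJeq, ← ThompsonRed.jFunctor_of]
  have h1 := (ThompsonRed.jFunctor 2).normalizer_le Q
  rw [Subgroup.normalizer_eq_top] at h1
  exact top_le_iff.1 h1

end SF

end Cfsg.Agent.Helper1
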