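import Mathlib
import Cfsg.Prelude.Def_PLocal
import Cfsg.Agent.Helper1.SFb
import Cfsg.Agent.Helper1.ThompsonFactorQuot
import Cfsg.Agent.Helper1.QuadFreeA

set_option autoImplicit false

/-!
A solvable `S₄`-free group with Sylow `2`-subgroups of class at most two satisfies
`G = N_G(J_e(S)) O_{2'}(G)`.
-/

namespace Cfsg.Agent.Helper1

namespace SF

open scoped Pointwise commutatorElement

universe u

variable {G : Type u} [Group G]

set_option maxHeartbeats 1600000 in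
theorem normalizer_thompson_sup_pPrimeCore [Finite G] [Group.IsSolvable G]
    (hS4 : ¬ Cfsg.Involves (Equiv.Perm (Fin 4)) G) (S : Sylow 2 G)
    (hcl : Subgroup.lowerCentralSeries (S : Subgroup G) 2 = ⊥) :
    Subgroup.normalizer ((Cfsg.thompsonSubgroupOf 2 (S : Subgroup G)) : Set G) ⊔
      Cfsg.pPrimeCore 2 G = ⊤ := by
  haveI : Fact (Nat.Prime 2) := ⟨Nat.prime_two⟩
  have hKcop : (Nat.card (Cfsg.pPrimeCore 2 G)).Coprime 2 := card_pPrimeCore_coprime 2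
  have hπs : Function.Surjective (QuotientGroup.mk' (Cfsg.pPrimeCore 2 G)) :=
    QuotientGroup.mk'_surjective _
  have hdisj : (S : Subgroup G) ⊓ Cfsg.pPrimeCore 2 G = ⊥ := by
    apply inf_eq_bot_of_coprime_card
    obtain ⟨k, hk⟩ := IsPGroup.iff_card.1 S.isPGroup'
    rw [hk]; exact (Nat.Coprime.pow_right k hKcop).symm
  have hS4' : ¬ Cfsg.Involves (Equiv.Perm (Fin 4)) (G ⧸ Cfsg.pPrimeCore 2 G) :=
    fun h => hS4 (QuadFree.involves_of_surjective _ hπs h)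
  have hcl' : Subgroup.lowerCentralSeries
      ((S.mapSurjective hπs : Sylow 2 (G ⧸ Cfsg.pPrimeCore 2 G)) :
        Subgroup (G ⧸ Cfsg.pPrimeCore 2 G)) 2 = ⊥ := by
    rw [Sylow.coe_mapSurjective]
    show ⁅⁅(S : Subgroup G).map (QuotientGroup.mk' (Cfsg.pPrimeCore 2 G)),
      (S : Subgroup G).map (QuotientGroup.mk' (Cfsg.pPrimeCore 2 G))⁆,
      (S : Subgroup G).map (QuotientGroup.mk' (Cfsg.pPrimeCore 2 G))⁆ = ⊥
    rw [← Subgroup.map_commutator, ← Subgroup.map_commutator]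
    have h0 : ⁅⁅(S : Subgroup G), (S : Subgroup G)⁆, (S : Subgroup G)⁆ = ⊥ := hcl
    rw [h0, Subgroup.map_bot]
  have hO' : Cfsg.pPrimeCore 2 (G ⧸ Cfsg.pPrimeCore 2 G) = ⊥ := pPrimeCore_quotient_pPrimeCore 2
  have h1 := normalizer_thompson_eq_top hS4' (S.mapSurjective hπs) hcl' hO'
  rw [Sylow.coe_mapSurjective, thompsonSubgroupOf_map_mk' (Cfsg.pPrimeCore 2 G) 2 S hdisj] at h1
  have hJ : IsPGroup 2 (Cfsg.thompsonSubgroupOf 2 (S : Subgroup G)) :=
    S.isPGroup'.to_le (Subgroup.map_subtype_le _)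
  have h2 := normalizer_map_mk'_le (Cfsg.pPrimeCore 2 G) _ hJ hKcop
  rw [h1] at h2
  rw [eq_top_iff]
  intro g _
  obtain ⟨n, hn, hng⟩ := h2 (Subgroup.mem_top (QuotientGroup.mk' (Cfsg.pPrimeCore 2 G) g))
  have h3 : n⁻¹ * g ∈ Cfsg.pPrimeCore 2 G := by
    rw [← QuotientGroup.eq_one_iff]
    show (QuotientGroup.mk' (Cfsg.pPrimeCore 2 G)) (n⁻¹ * g) = 1
    rw [map_mul, map_inv, hng, inv_mul_cancel]
  have h4 : g = n * (n⁻¹ * g) := by group
  rw [h4]
  exact Subgroup.mul_mem _ (Subgroup.mem_sup_left hn) (Subgroup.mem_sup_right h3)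

end SF

end Cfsg.Agent.Helper1
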