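import Mathlib
import Cfsg.Prelude.Def_LocalEven
import Cfsg.Agent.Helper1.GWl
import Cfsg.Agent.Helper1.GWm
import Cfsg.Agent.Helper1.EPPO
import Cfsg.Agent.Helper4.PNilpMaxShape

set_option autoImplicit false

/-!
A minimal normal `2`-subgroup `T` of `X = T ⟨a, b⟩`, where `a` induces an automorphism of order
three on `T` and the `2`-element `b` inverts `a`, is a four-group on which `X` induces `S₃`.
Hence `S₄` is involved in `X`.
-/

namespace Cfsg.Agent.Helper1

namespace SFour

universe u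

variable {X : Type u} [Group X]

theorem mem_normalizer_of_conj (F : Subgroup X) (g : X)
    (h1 : ∀ n ∈ F, g * n * g⁻¹ ∈ F) (h2 : ∀ n ∈ F, g⁻¹ * n * g ∈ F) :
    g ∈ Subgroup.normalizer (F : Set X) := by
  rw [Subgroup.mem_normalizer_iff]
  intro n
  constructor
  · exact h1 n
  · intro h
    have := h2 _ h
    have e : g⁻¹ * (g * n * g⁻¹) * g = n := by group
    rwa [e] at this

theorem normal_of_gen (T F : Subgroup X) (a b : X) (hgen : T ⊔ Subgroup.closure {a, b} = ⊤)
    (hTF : T ≤ Subgroup.normalizer (F : Set X))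
    (ha : a ∈ Subgroup.normalizer (F : Set X)) (hb : b ∈ Subgroup.normalizer (F : Set X)) :
    F.Normal := by
  have h1 : Subgroup.closure {a, b} ≤ Subgroup.normalizer (F : Set X) := by
    rw [Subgroup.closure_le]
    intro x hx
    rcases hx with rfl | rfl
    · exact ha
    · exact hb
  have h2 : (⊤ : Subgroup X) ≤ Subgroup.normalizer (F : Set X) := by
    rw [← hgen]; exact sup_le hTF h1
  exact Subgroup.normalizer_eq_top_iff.1 (top_le_iff.1 h2)

/-- The fixed points in `T` of an element `c` commuting with `a` and `b` form a normal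
subgroup. -/
theorem fix_normal (T : Subgroup X) [hTn : T.Normal] (a b c : X)
    (hgen : T ⊔ Subgroup.closure {a, b} = ⊤)
    (hTc : ∀ u ∈ T, ∀ v ∈ T, u * v = v * u)
    (hac : a * c = c * a) (hbc : b * c = c * b) :
    (T ⊓ Subgroup.centralizer ({c} : Set X)).Normal := by
  have hmem : ∀ n : X, n ∈ T ⊓ Subgroup.centralizer ({c} : Set X) ↔ n ∈ T ∧ c * n = n * c := by
    intro n
    rw [Subgroup.mem_inf, Subgroup.mem_centralizer_iff]
    constructor
    · rintro ⟨h1, h2⟩; exact ⟨h1, h2 c rfl⟩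
    · rintro ⟨h1, h2⟩
      refine ⟨h1, fun y hy => ?_⟩
      rw [Set.mem_singleton_iff] at hy
      rw [hy]; exact h2
  have hconj : ∀ g : X, g * c = c * g → ∀ n ∈ T ⊓ Subgroup.centralizer ({c} : Set X),
      g * n * g⁻¹ ∈ T ⊓ Subgroup.centralizer ({c} : Set X) := by
    intro g hg n hn
    rw [hmem] at hn ⊢
    refine ⟨hTn.conj_mem n hn.1 g, ?_⟩
    have h1 : c * g⁻¹ = g⁻¹ * c := by
      calc c * g⁻¹ = g⁻¹ * (g * c) * g⁻¹ := by group
        _ = g⁻¹ * (c * g) * g⁻¹ := by rw [hg]
        _ = g⁻¹ * c := by group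
    calc c * (g * n * g⁻¹) = (c * g) * n * g⁻¹ := by group
      _ = (g * c) * n * g⁻¹ := by rw [hg]
      _ = g * (c * n) * g⁻¹ := by group
      _ = g * (n * c) * g⁻¹ := by rw [hn.2]
      _ = g * n * (c * g⁻¹) := by group
      _ = g * n * (g⁻¹ * c) := by rw [h1]
      _ = g * n * g⁻¹ * c := by group
  have hinvc : ∀ g : X, g * c = c * g → g⁻¹ * c = c * g⁻¹ := by
    intro g hg
    calc g⁻¹ * c = g⁻¹ * (c * g) * g⁻¹ := by group
      _ = g⁻¹ * (g * c) * g⁻¹ := by rw [hg]
      _ = c * g⁻¹ := by group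
  have hnorm : ∀ g : X, g * c = c * g →
      g ∈ Subgroup.normalizer ((T ⊓ Subgroup.centralizer ({c} : Set X) : Subgroup X) : Set X) := by
    intro g hg
    apply mem_normalizer_of_conj
    · exact hconj g hg
    · intro n hn
      have := hconj g⁻¹ (hinvc g hg) n hn
      rwa [inv_inv] at this
  apply normal_of_gen T _ a b hgen _ (hnorm a hac) (hnorm b hbc)
  intro t ht
  apply mem_normalizer_of_conj
  · intro n hn
    have hn' := (hmem n).1 hn
    have e : t * n * t⁻¹ = n := by
      rw [hTc t ht n hn'.1]; group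
    rw [e]; exact hn
  · intro n hn
    have hn' := (hmem n).1 hn
    have e : t⁻¹ * n * t = n := by
      rw [mul_assoc, hTc n hn'.1 t ht]; group
    rw [e]; exact hn

/-- The common fixed points of `a` and `b` in `T` form a normal subgroup. -/
theorem fix2_normal (T : Subgroup X) (a b : X)
    (hgen : T ⊔ Subgroup.closure {a, b} = ⊤)
    (hTc : ∀ u ∈ T, ∀ v ∈ T, u * v = v * u) :
    (T ⊓ Subgroup.centralizer ({a, b} : Set X)).Normal := by
  have hmem : ∀ n : X, n ∈ T ⊓ Subgroup.centralizer ({a, b} : Set X) ↔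
      n ∈ T ∧ a * n = n * a ∧ b * n = n * b := by
    intro n
    rw [Subgroup.mem_inf, Subgroup.mem_centralizer_iff]
    constructor
    · rintro ⟨h1, h2⟩
      exact ⟨h1, h2 a (Set.mem_insert _ _), h2 b (Set.mem_insert_of_mem _ rfl)⟩
    · rintro ⟨h1, h2, h3⟩
      refine ⟨h1, fun y hy => ?_⟩
      rcases hy with rfl | hy
      · exact h2
      · rw [Set.mem_singleton_iff] at hy
        rw [hy]; exact h3
  have hnorm : ∀ g : X, (∀ n ∈ T ⊓ Subgroup.centralizer ({a, b} : Set X), g * n = n * g) →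
      g ∈ Subgroup.normalizer ((T ⊓ Subgroup.centralizer ({a, b} : Set X) : Subgroup X) : Set X) := by
    intro g hg
    apply mem_normalizer_of_conj
    · intro n hn
      have e : g * n * g⁻¹ = n := by rw [hg n hn]; group
      rw [e]; exact hn
    · intro n hn
      have e : g⁻¹ * n * g = n := by rw [mul_assoc, ← hg n hn]; group
      rw [e]; exact hn
  apply normal_of_gen T _ a b hgen
  · intro t ht
    apply hnorm
    intro n hn
    exact hTc t ht n ((hmem n).1 hn).1
  · apply hnorm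
    intro n hn
    exact ((hmem n).1 hn).2.1
  · apply hnorm
    intro n hn
    exact ((hmem n).1 hn).2.2

/-- If `c` normalizes the abelian group `T` of exponent two, `c * c` centralizes `T`, `c`
commutes with `a` and `b`, and `T` is a minimal normal subgroup, then `c` centralizes `T`. -/
theorem centralizes_of_sq (T : Subgroup X) [hTn : T.Normal] (a b c : X)
    (hgen : T ⊔ Subgroup.closure {a, b} = ⊤)
    (hTc : ∀ u ∈ T, ∀ v ∈ T, u * v = v * u) (hT2 : ∀ t ∈ T, t * t = 1)
    (hmin : ∀ M : Subgroup X, M.Normal → M ≤ T → M = ⊥ ∨ M = T)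
    (hac : a * c = c * a) (hbc : b * c = c * b)
    (hcc : c * c ∈ Subgroup.centralizer (T : Set X)) :
    c ∈ Subgroup.centralizer (T : Set X) := by
  have hFn := fix_normal T a b c hgen hTc hac hbc
  by_contra hc
  -- some `t` with `t * c t c⁻¹ ≠ 1`
  have hex : ∃ t ∈ T, t * (c * t * c⁻¹) ≠ 1 := by
    by_contra hcon
    push Not at hcon
    apply hc
    rw [Subgroup.mem_centralizer_iff]
    intro t ht
    have h1 := hcon t ht
    have h2 : c * t * c⁻¹ = t⁻¹ := (eq_inv_of_mul_eq_one_right h1)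
    have h3 : t⁻¹ = t := inv_eq_of_mul_eq_one_right (hT2 t ht)
    rw [h3] at h2
    calc t * c = (c * t * c⁻¹) * c := by rw [h2]
      _ = c * t := by group
  obtain ⟨t, ht, htne⟩ := hex
  obtain ⟨u, hu⟩ : ∃ u, u = t * (c * t * c⁻¹) := ⟨_, rfl⟩
  have hctT : c * t * c⁻¹ ∈ T := hTn.conj_mem t ht c
  have huT : u ∈ T := hu ▸ T.mul_mem ht hctT
  have hcct : c * c * t = t * (c * c) := ((Subgroup.mem_centralizer_iff.1 hcc) t ht).symm
  have hfix : c * u = u * c := by
    have h1 : c * (c * t * c⁻¹) * c⁻¹ = t := by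
      calc c * (c * t * c⁻¹) * c⁻¹ = (c * c * t) * c⁻¹ * c⁻¹ := by group
        _ = (t * (c * c)) * c⁻¹ * c⁻¹ := by rw [hcct]
        _ = t := by group
    have h2 : c * u * c⁻¹ = u := by
      calc c * u * c⁻¹ = (c * t * c⁻¹) * (c * (c * t * c⁻¹) * c⁻¹) := by rw [hu]; group
        _ = (c * t * c⁻¹) * t := by rw [h1]
        _ = t * (c * t * c⁻¹) := hTc _ hctT _ ht
        _ = u := hu.symm
    calc c * u = (c * u * c⁻¹) * c := by group
      _ = u * c := by rw [h2]
  have huF : u ∈ T ⊓ Subgroup.centralizer ({c} : Set X) := by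
    refine Subgroup.mem_inf.2 ⟨huT, ?_⟩
    rw [Subgroup.mem_centralizer_iff]
    intro y hy
    rw [Set.mem_singleton_iff] at hy
    rw [hy]; exact hfix
  rcases hmin _ hFn inf_le_left with h | h
  · rw [h, Subgroup.mem_bot] at huF
    exact htne (hu ▸ huF)
  · apply hc
    rw [Subgroup.mem_centralizer_iff]
    intro t' ht'
    have : t' ∈ T ⊓ Subgroup.centralizer ({c} : Set X) := by rw [h]; exact ht'
    have h2 := Subgroup.mem_centralizer_iff.1 (Subgroup.mem_inf.1 this).2 c rfl
    exact h2.symm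

end SFour

end Cfsg.Agent.Helper1
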