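import Mathlib
import Cfsg.Prelude.Def_LocalEven
import Cfsg.Agent.Helper1.SFourA

set_option autoImplicit false

/-!
The minimal case: structure of `T` (a four-group `{1, w, a w a⁻¹, w (a w a⁻¹)}`).
-/

namespace Cfsg.Agent.Helper1

namespace SFour

universe u

variable {X : Type u} [Group X]

/-- Structure of the minimal case. -/
theorem minimal_structure [Finite X] (T : Subgroup X) [hTn : T.Normal] (hT2 : IsPGroup 2 T)
    (a b : X) (hgen : T ⊔ Subgroup.closure {a, b} = ⊤)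
    (haC : a ∉ Subgroup.centralizer (T : Set X)) (ha3 : a ^ 3 ∈ Subgroup.centralizer (T : Set X))
    (hb2 : ∃ l : ℕ, b ^ 2 ^ l = 1) (hinv : b * a * b⁻¹ = a⁻¹)
    (hmin : ∀ M : Subgroup X, M.Normal → M ≤ T → M = ⊥ ∨ M = T) :
    (∀ u ∈ T, ∀ v ∈ T, u * v = v * u) ∧ (∀ t ∈ T, t * t = 1) ∧
      b * b ∈ Subgroup.centralizer (T : Set X) ∧
      ∃ w ∈ T, w ≠ 1 ∧ b * w * b⁻¹ = w ∧ a * w * a⁻¹ ≠ w ∧
        a * (a * w * a⁻¹) * a⁻¹ = w * (a * w * a⁻¹) ∧
        b * (a * w * a⁻¹) * b⁻¹ = w * (a * w * a⁻¹) ∧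
        ∀ t ∈ T, t = 1 ∨ t = w ∨ t = a * w * a⁻¹ ∨ t = w * (a * w * a⁻¹) := by
  haveI : Fact (Nat.Prime 2) := ⟨Nat.prime_two⟩
  have hTne : T ≠ ⊥ := by
    intro h
    apply haC
    rw [h, Subgroup.mem_centralizer_iff]
    intro y hy
    rw [Subgroup.coe_bot, Set.mem_singleton_iff] at hy
    rw [hy, mul_one, one_mul]
  have hTmin : Minimal (fun N : Subgroup X => N.Normal ∧ N ≠ ⊥) T := by
    refine ⟨⟨hTn, hTne⟩, ?_⟩
    rintro N ⟨hNn, hNne⟩ hNT
    rcases hmin N hNn hNT with h | h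
    · exact absurd h hNne
    · rw [h]
  have hTc : ∀ u ∈ T, ∀ v ∈ T, u * v = v * u :=
    Cfsg.Agent.Helper4.PNilpMaxShape.comm_of_minimal_normal_pgroup hTmin hT2
  haveI hTcomm : IsMulCommutative T := ⟨⟨fun x y => Subtype.ext (hTc x x.2 y y.2)⟩⟩
  have hTsq : ∀ t ∈ T, t * t = 1 := by
    intro t ht
    have := minimal_normal_abelian_pow_eq_one T hTne hT2 hTcomm hmin t ht
    rwa [pow_two] at this
  have hTinv : ∀ t ∈ T, t⁻¹ = t := fun t ht => inv_eq_of_mul_eq_one_right (hTsq t ht)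
  have hmemC : ∀ g : X, g ∈ Subgroup.centralizer (T : Set X) ↔ ∀ t ∈ T, g * t * g⁻¹ = t := by
    intro g
    rw [Subgroup.mem_centralizer_iff]
    constructor
    · intro h t ht
      have := h t ht
      calc g * t * g⁻¹ = (t * g) * g⁻¹ := by rw [this]
        _ = t := by group
    · intro h t ht
      have := h t ht
      calc t * g = (g * t * g⁻¹) * g := by rw [this]
        _ = g * t := by group
  -- `b * b` commutes with `a`
  have hbba : a * (b * b) = (b * b) * a := by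
    have h1 : b * a⁻¹ * b⁻¹ = a := by
      have h0 : (b * a * b⁻¹)⁻¹ = a⁻¹⁻¹ := by rw [hinv]
      rw [inv_inv] at h0
      calc b * a⁻¹ * b⁻¹ = (b * a * b⁻¹)⁻¹ := by group
        _ = a := h0
    have h2 : b * b * a * (b * b)⁻¹ = a := by
      calc b * b * a * (b * b)⁻¹ = b * (b * a * b⁻¹) * b⁻¹ := by group
        _ = b * a⁻¹ * b⁻¹ := by rw [hinv]
        _ = a := h1
    calc a * (b * b) = (b * b * a * (b * b)⁻¹) * (b * b) := by rw [h2]
      _ = b * b * a := by group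
  -- powers `b ^ (2 ^ (l + 1))` commute with `a` and `b`
  have hpow_a : ∀ l : ℕ, a * b ^ 2 ^ (l + 1) = b ^ 2 ^ (l + 1) * a := by
    intro l
    have e : b ^ 2 ^ (l + 1) = (b * b) ^ 2 ^ l := by
      rw [pow_succ, pow_mul', pow_two]
    rw [e]
    exact (Commute.pow_right (show Commute a (b * b) from hbba) _).eq
  have hpow_b : ∀ l : ℕ, b * b ^ l = b ^ l * b := fun l => ((Commute.refl b).pow_right l).eq
  -- `b ^ 2 ∈ C(T)`
  have hbbC : b * b ∈ Subgroup.centralizer (T : Set X) := by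
    obtain ⟨l, hl⟩ := hb2
    have key : ∀ l : ℕ, b ^ 2 ^ (l + 1) ∈ Subgroup.centralizer (T : Set X) →
        b ^ 2 ^ 1 ∈ Subgroup.centralizer (T : Set X) := by
      intro l
      induction l with
      | zero => intro h; exact h
      | succ l ih =>
        intro h
        apply ih
        apply centralizes_of_sq T a b _ hgen hTc hTsq hmin (hpow_a l) (hpow_b _)
        have e : b ^ 2 ^ (l + 1) * b ^ 2 ^ (l + 1) = b ^ 2 ^ (l + 1 + 1) := by
          rw [← pow_add, ← two_mul, ← pow_succ']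
        rw [e]; exact h
    have h1 : b ^ 2 ^ (l + 1) ∈ Subgroup.centralizer (T : Set X) := by
      rw [pow_succ, pow_mul, hl, one_pow]; exact Subgroup.one_mem _
    have := key l h1
    rwa [pow_one, pow_two] at this
  have hbb : ∀ t ∈ T, b * b * t * (b * b)⁻¹ = t := (hmemC _).1 hbbC
  have ha3' : ∀ t ∈ T, a * (a * (a * t * a⁻¹) * a⁻¹) * a⁻¹ = t := by
    intro t ht
    have := (hmemC _).1 ha3 t ht
    calc a * (a * (a * t * a⁻¹) * a⁻¹) * a⁻¹ = a ^ 3 * t * (a ^ 3)⁻¹ := by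
          simp only [pow_succ, pow_zero, one_mul]; group
      _ = t := this
  -- `b ∉ C(T)`
  have hbC : b ∉ Subgroup.centralizer (T : Set X) := by
    intro hb
    have hb' := (hmemC _).1 hb
    apply haC
    rw [hmemC]
    intro t ht
    have h1 : a * t * a⁻¹ ∈ T := hTn.conj_mem t ht a
    -- a⁻¹ t a = a t a⁻¹
    have h2 : a⁻¹ * t * a = a * t * a⁻¹ := by
      have e1 : b⁻¹ * t * b = t := by
        have := hb' t ht
        calc b⁻¹ * t * b = b⁻¹ * (b * t * b⁻¹) * b := by rw [this]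
          _ = t := by group
      calc a⁻¹ * t * a = (b * a * b⁻¹) * t * (b * a * b⁻¹)⁻¹ := by rw [hinv, inv_inv]
        _ = b * (a * (b⁻¹ * t * b) * a⁻¹) * b⁻¹ := by group
        _ = b * (a * t * a⁻¹) * b⁻¹ := by rw [e1]
        _ = a * t * a⁻¹ := hb' _ h1
    -- hence a² centralizes t, and so does a = a³ a⁻²
    have h3 := ha3' t ht
    have h4 : a * (a * t * a⁻¹) * a⁻¹ = t := by
      calc a * (a * t * a⁻¹) * a⁻¹ = a * (a⁻¹ * t * a) * a⁻¹ := by rw [h2]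
        _ = t := by group
    rw [h4] at h3
    exact h3
  -- a `b`-fixed element
  have hexw : ∃ w ∈ T, w ≠ 1 ∧ b * w * b⁻¹ = w := by
    have hex : ∃ t ∈ T, t * (b * t * b⁻¹) ≠ 1 := by
      by_contra hcon
      push Not at hcon
      apply hbC
      rw [hmemC]
      intro t ht
      have h1 := hcon t ht
      have h2 : b * t * b⁻¹ = t⁻¹ := eq_inv_of_mul_eq_one_right h1
      rw [h2, hTinv t ht]
    obtain ⟨t, ht, htne⟩ := hex
    have hbt : b * t * b⁻¹ ∈ T := hTn.conj_mem t ht b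
    refine ⟨t * (b * t * b⁻¹), T.mul_mem ht hbt, htne, ?_⟩
    have h1 : b * (b * t * b⁻¹) * b⁻¹ = t := by
      have := hbb t ht
      calc b * (b * t * b⁻¹) * b⁻¹ = b * b * t * (b * b)⁻¹ := by group
        _ = t := this
    calc b * (t * (b * t * b⁻¹)) * b⁻¹ = (b * t * b⁻¹) * (b * (b * t * b⁻¹) * b⁻¹) := by group
      _ = (b * t * b⁻¹) * t := by rw [h1]
      _ = t * (b * t * b⁻¹) := hTc _ hbt _ ht
  obtain ⟨w, hwT, hw1, hbw⟩ := hexw
  obtain ⟨w₁, hw₁⟩ : ∃ w₁, w₁ = a * w * a⁻¹ := ⟨_, rfl⟩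
  obtain ⟨w₂, hw₂⟩ : ∃ w₂, w₂ = a * w₁ * a⁻¹ := ⟨_, rfl⟩
  have hw₁T : w₁ ∈ T := hw₁ ▸ hTn.conj_mem w hwT a
  have hw₂T : w₂ ∈ T := hw₂ ▸ hTn.conj_mem w₁ hw₁T a
  have haw₂ : a * w₂ * a⁻¹ = w := by
    rw [hw₂, hw₁]; exact ha3' w hwT
  -- action of `b`
  have hainv : ∀ t ∈ T, a⁻¹ * t * a = a * (a * t * a⁻¹) * a⁻¹ := by
    intro t ht
    have := ha3' t ht
    calc a⁻¹ * t * a = a⁻¹ * (a * (a * (a * t * a⁻¹) * a⁻¹) * a⁻¹) * a := by rw [this]
      _ = a * (a * t * a⁻¹) * a⁻¹ := by group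
  have hbw₁ : b * w₁ * b⁻¹ = w₂ := by
    calc b * w₁ * b⁻¹ = (b * a * b⁻¹) * (b * w * b⁻¹) * (b * a * b⁻¹)⁻¹ := by rw [hw₁]; group
      _ = a⁻¹ * w * a := by rw [hinv, hbw, inv_inv]
      _ = a * (a * w * a⁻¹) * a⁻¹ := hainv w hwT
      _ = w₂ := by rw [hw₂, hw₁]
  have hbw₂ : b * w₂ * b⁻¹ = w₁ := by
    have := hbb w₁ hw₁T
    calc b * w₂ * b⁻¹ = b * (b * w₁ * b⁻¹) * b⁻¹ := by rw [hbw₁]
      _ = b * b * w₁ * (b * b)⁻¹ := by group
      _ = w₁ := this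
  -- the product `u = w w₁ w₂` is fixed by `a` and `b`
  obtain ⟨u, hu⟩ : ∃ u, u = w * w₁ * w₂ := ⟨_, rfl⟩
  have huT : u ∈ T := hu ▸ T.mul_mem (T.mul_mem hwT hw₁T) hw₂T
  have hau : a * u * a⁻¹ = u := by
    calc a * u * a⁻¹ = (a * w * a⁻¹) * (a * w₁ * a⁻¹) * (a * w₂ * a⁻¹) := by rw [hu]; group
      _ = w₁ * w₂ * w := by rw [← hw₁, ← hw₂, haw₂]
      _ = w * (w₁ * w₂) := hTc _ (T.mul_mem hw₁T hw₂T) _ hwT
      _ = u := by rw [hu, mul_assoc]
  have hbu : b * u * b⁻¹ = u := by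
    calc b * u * b⁻¹ = (b * w * b⁻¹) * (b * w₁ * b⁻¹) * (b * w₂ * b⁻¹) := by rw [hu]; group
      _ = w * w₂ * w₁ := by rw [hbw, hbw₁, hbw₂]
      _ = w * (w₂ * w₁) := mul_assoc _ _ _
      _ = w * (w₁ * w₂) := by rw [hTc w₂ hw₂T w₁ hw₁T]
      _ = u := by rw [hu, mul_assoc]
  -- the common fixed points of `a` and `b` in `T`
  have hcomm_of_conj : ∀ g t : X, g * t * g⁻¹ = t → g * t = t * g := by
    intro g t h
    calc g * t = (g * t * g⁻¹) * g := by group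
      _ = t * g := by rw [h]
  have hF2n := fix2_normal T a b hgen hTc
  have hF2bot : T ⊓ Subgroup.centralizer ({a, b} : Set X) = ⊥ := by
    rcases hmin _ hF2n inf_le_left with h | h
    · exact h
    · exfalso
      apply haC
      rw [Subgroup.mem_centralizer_iff]
      intro t ht
      have : t ∈ T ⊓ Subgroup.centralizer ({a, b} : Set X) := by rw [h]; exact ht
      have h2 := Subgroup.mem_centralizer_iff.1 (Subgroup.mem_inf.1 this).2 a
        (Set.mem_insert _ _)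
      exact h2.symm
  have hfix_one : ∀ t ∈ T, a * t * a⁻¹ = t → b * t * b⁻¹ = t → t = 1 := by
    intro t ht h1 h2
    have : t ∈ T ⊓ Subgroup.centralizer ({a, b} : Set X) := by
      refine Subgroup.mem_inf.2 ⟨ht, ?_⟩
      rw [Subgroup.mem_centralizer_iff]
      intro y hy
      rcases hy with rfl | hy
      · exact hcomm_of_conj _ _ h1
      · rw [Set.mem_singleton_iff] at hy
        rw [hy]; exact hcomm_of_conj _ _ h2
    rw [hF2bot, Subgroup.mem_bot] at this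
    exact this
  have hu1 : u = 1 := hfix_one u huT hau hbu
  -- `w₂ = w w₁`
  have hw₂eq : w₂ = w * w₁ := by
    have h1 : (w * w₁) * w₂ = 1 := by rw [← hu, hu1]
    have h2 : w₂ = (w * w₁)⁻¹ := eq_inv_of_mul_eq_one_right h1
    rw [h2, hTinv _ (T.mul_mem hwT hw₁T)]
  have hw₁ne : w₁ ≠ w := by
    intro h
    apply hw1
    apply hfix_one w hwT _ hbw
    rw [← hw₁, h]
  -- the four-group
  have hww : w * w = 1 := hTsq w hwT
  have hw₁w₁ : w₁ * w₁ = 1 := hTsq w₁ hw₁T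
  have hcw : w * w₁ = w₁ * w := hTc w hwT w₁ hw₁T
  obtain ⟨W, hW⟩ : ∃ W, W = GW.fourGroup w w₁ hww hw₁w₁ hcw := ⟨_, rfl⟩
  have hmemW : ∀ t, t ∈ W ↔ t = 1 ∨ t = w ∨ t = w₁ ∨ t = w * w₁ := by
    intro t; rw [hW]; exact GW.mem_fourGroup hww hw₁w₁ hcw t
  have hWT : W ≤ T := by
    intro t ht
    rcases (hmemW t).1 ht with h | h | h | h <;> rw [h]
    · exact T.one_mem
    · exact hwT
    · exact hw₁T
    · exact T.mul_mem hwT hw₁T
  have haww₁ : a * (w * w₁) * a⁻¹ = w := by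
    calc a * (w * w₁) * a⁻¹ = (a * w * a⁻¹) * (a * w₁ * a⁻¹) := by group
      _ = w₁ * w₂ := by rw [← hw₁, ← hw₂]
      _ = w₁ * (w * w₁) := by rw [hw₂eq]
      _ = w₁ * (w₁ * w) := by rw [hcw]
      _ = (w₁ * w₁) * w := by group
      _ = w := by rw [hw₁w₁, one_mul]
  have hbww₁ : b * (w * w₁) * b⁻¹ = w₁ := by
    calc b * (w * w₁) * b⁻¹ = (b * w * b⁻¹) * (b * w₁ * b⁻¹) := by group
      _ = w * w₂ := by rw [hbw, hbw₁]
      _ = w * (w * w₁) := by rw [hw₂eq]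
      _ = (w * w) * w₁ := by group
      _ = w₁ := by rw [hww, one_mul]
  have haW : ∀ t ∈ W, a * t * a⁻¹ ∈ W := by
    intro t ht
    rcases (hmemW t).1 ht with h | h | h | h <;> rw [h]
    · rw [mul_one, mul_inv_cancel]; exact W.one_mem
    · rw [← hw₁]; exact (hmemW _).2 (Or.inr (Or.inr (Or.inl rfl)))
    · rw [← hw₂, hw₂eq]; exact (hmemW _).2 (Or.inr (Or.inr (Or.inr rfl)))
    · rw [haww₁]; exact (hmemW _).2 (Or.inr (Or.inl rfl))
  have hbW : ∀ t ∈ W, b * t * b⁻¹ ∈ W := by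
    intro t ht
    rcases (hmemW t).1 ht with h | h | h | h <;> rw [h]
    · rw [mul_one, mul_inv_cancel]; exact W.one_mem
    · rw [hbw]; exact (hmemW _).2 (Or.inr (Or.inl rfl))
    · rw [hbw₁, hw₂eq]; exact (hmemW _).2 (Or.inr (Or.inr (Or.inr rfl)))
    · rw [hbww₁]; exact (hmemW _).2 (Or.inr (Or.inr (Or.inl rfl)))
  have haW' : ∀ t ∈ W, a⁻¹ * t * a ∈ W := by
    intro t ht
    rw [hainv t (hWT ht)]
    exact haW _ (haW _ ht)
  have hbW' : ∀ t ∈ W, b⁻¹ * t * b ∈ W := by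
    intro t ht
    have h1 := hbb t (hWT ht)
    have h2 : b⁻¹ * t * b = b * t * b⁻¹ := by
      calc b⁻¹ * t * b = b⁻¹ * (b * b * t * (b * b)⁻¹) * b := by rw [h1]
        _ = b * t * b⁻¹ := by group
    rw [h2]; exact hbW t ht
  have hWn : W.Normal := by
    apply normal_of_gen T W a b hgen _ (mem_normalizer_of_conj W a haW haW')
      (mem_normalizer_of_conj W b hbW hbW')
    intro t ht
    apply mem_normalizer_of_conj
    · intro n hn
      have e : t * n * t⁻¹ = n := by rw [hTc t ht n (hWT hn)]; group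
      rw [e]; exact hn
    · intro n hn
      have e : t⁻¹ * n * t = n := by rw [mul_assoc, hTc n (hWT hn) t ht]; group
      rw [e]; exact hn
  have hWeq : W = T := by
    rcases hmin W hWn hWT with h | h
    · exfalso
      have : w ∈ W := (hmemW w).2 (Or.inr (Or.inl rfl))
      rw [h, Subgroup.mem_bot] at this
      exact hw1 this
    · exact h
  refine ⟨hTc, hTsq, hbbC, w, hwT, hw1, hbw, ?_, ?_, ?_, ?_⟩
  · rw [← hw₁]; exact hw₁ne
  · rw [← hw₁, ← hw₂]; exact hw₂eq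
  · rw [← hw₁, hbw₁]; exact hw₂eq
  · intro t ht
    rw [← hw₁]
    rw [← hWeq] at ht
    exact (hmemW t).1 ht

end SFour

end Cfsg.Agent.Helper1
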