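import Mathlib
import Cfsg.Prelude.Def_LocalEven
import Cfsg.Agent.Helper1.SFourB

set_option autoImplicit false

/-!
The minimal case: `T` is a four-group whose centralizer has index six, so `S₄` is involved.
-/

namespace Cfsg.Agent.Helper1

namespace SFour

universe u

variable {X : Type u} [Group X]

theorem involves_S4_of_minimal [Finite X] (T : Subgroup X) [hTn : T.Normal] (hT2 : IsPGroup 2 T)
    (a b : X) (hgen : T ⊔ Subgroup.closure {a, b} = ⊤)
    (haC : a ∉ Subgroup.centralizer (T : Set X)) (ha3 : a ^ 3 ∈ Subgroup.centralizer (T : Set X))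
    (hb2 : ∃ l : ℕ, b ^ 2 ^ l = 1) (hinv : b * a * b⁻¹ = a⁻¹)
    (hmin : ∀ M : Subgroup X, M.Normal → M ≤ T → M = ⊥ ∨ M = T) :
    Cfsg.Involves (Equiv.Perm (Fin 4)) X := by
  obtain ⟨hTc, hTsq, hbbC, w, hwT, hw1, hbw, haw, haww, hbww, hall⟩ :=
    minimal_structure T hT2 a b hgen haC ha3 hb2 hinv hmin
  obtain ⟨w₁, hw₁⟩ : ∃ w₁, w₁ = a * w * a⁻¹ := ⟨_, rfl⟩
  rw [← hw₁] at haw haww hbww hall
  have hw₁T : w₁ ∈ T := hw₁ ▸ hTn.conj_mem w hwT a
  have hw₁1 : w₁ ≠ 1 := by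
    intro h
    apply hw1
    rw [h] at hw₁
    have : a⁻¹ * 1 * a = w := by rw [hw₁]; group
    rw [← this]; group
  have hww : w * w = 1 := hTsq w hwT
  have hw₁w₁ : w₁ * w₁ = 1 := hTsq w₁ hw₁T
  have hcw : w * w₁ = w₁ * w := hTc w hwT w₁ hw₁T
  have hTeq : T = GW.fourGroup w w₁ hww hw₁w₁ hcw := by
    apply le_antisymm
    · intro t ht
      exact (GW.mem_fourGroup hww hw₁w₁ hcw t).2 (hall t ht)
    · intro t ht
      rcases (GW.mem_fourGroup hww hw₁w₁ hcw t).1 ht with h | h | h | h <;> rw [h]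
      · exact T.one_mem
      · exact hwT
      · exact hw₁T
      · exact T.mul_mem hwT hw₁T
  have hcard : Nat.card T = 4 := by
    rw [hTeq]; exact GW.card_fourGroup hww hw₁w₁ hcw hw1 hw₁1 (Ne.symm haw)
  -- the centralizer
  obtain ⟨C, hC⟩ : ∃ C, C = Subgroup.centralizer (T : Set X) := ⟨_, rfl⟩
  haveI hCn : C.Normal := by rw [hC]; infer_instance
  rw [← hC] at haC ha3 hbbC
  have hmemC : ∀ g : X, g * w * g⁻¹ = w → g * w₁ * g⁻¹ = w₁ → g ∈ C := by
    intro g h1 h2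
    rw [hC, Subgroup.mem_centralizer_iff]
    intro t ht
    have h3 : g * t * g⁻¹ = t := by
      rcases hall t ht with h | h | h | h <;> rw [h]
      · group
      · exact h1
      · exact h2
      · calc g * (w * w₁) * g⁻¹ = (g * w * g⁻¹) * (g * w₁ * g⁻¹) := by group
          _ = w * w₁ := by rw [h1, h2]
    calc t * g = (g * t * g⁻¹) * g := by rw [h3]
      _ = g * t := by group
  have hconjC : ∀ g : X, g ∈ C → ∀ t ∈ T, g * t * g⁻¹ = t := by
    intro g hg t ht
    rw [hC, Subgroup.mem_centralizer_iff] at hg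
    have := hg t ht
    calc g * t * g⁻¹ = (t * g) * g⁻¹ := by rw [this]
      _ = t := by group
  -- the action of `a`
  have haww₁ : a * (w * w₁) * a⁻¹ = w := by
    calc a * (w * w₁) * a⁻¹ = (a * w * a⁻¹) * (a * w₁ * a⁻¹) := by group
      _ = w₁ * (w * w₁) := by rw [← hw₁, haww]
      _ = w₁ * (w₁ * w) := by rw [hcw]
      _ = (w₁ * w₁) * w := by group
      _ = w := by rw [hw₁w₁, one_mul]
  -- step 1: move `g w g⁻¹` back to `w` by a power of `a`
  have step1 : ∀ g : X, ∃ i : Fin 3, ((a ^ (i : ℕ))⁻¹ * g) * w * ((a ^ (i : ℕ))⁻¹ * g)⁻¹ = w := by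
    intro g
    have hgw : g * w * g⁻¹ ∈ T := hTn.conj_mem w hwT g
    rcases hall _ hgw with h | h | h | h
    · exfalso
      apply hw1
      have : g⁻¹ * (g * w * g⁻¹) * g = w := by group
      rw [← this, h]; group
    · refine ⟨0, ?_⟩
      simp only [Fin.val_zero, pow_zero, inv_one, one_mul]
      exact h
    · refine ⟨1, ?_⟩
      simp only [Fin.val_one, pow_one]
      calc a⁻¹ * g * w * (a⁻¹ * g)⁻¹ = a⁻¹ * (g * w * g⁻¹) * a := by group
        _ = a⁻¹ * w₁ * a := by rw [h]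
        _ = w := by rw [hw₁]; group
    · refine ⟨2, ?_⟩
      have e2 : ((2 : Fin 3) : ℕ) = 2 := rfl
      rw [e2]
      calc (a ^ 2)⁻¹ * g * w * ((a ^ 2)⁻¹ * g)⁻¹ = (a ^ 2)⁻¹ * (g * w * g⁻¹) * (a ^ 2) := by group
        _ = (a ^ 2)⁻¹ * (w * w₁) * (a ^ 2) := by rw [h]
        _ = (a ^ 2)⁻¹ * (a * w₁ * a⁻¹) * (a ^ 2) := by rw [haww]
        _ = (a ^ 2)⁻¹ * (a * (a * w * a⁻¹) * a⁻¹) * (a ^ 2) := by rw [hw₁]
        _ = w := by rw [pow_two]; group
  -- step 2: an element fixing `w` is, up to a power of `b`, in `C`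
  have step2 : ∀ g : X, g * w * g⁻¹ = w → ∃ j : Fin 2, (b ^ (j : ℕ))⁻¹ * g ∈ C := by
    intro g hg
    have hgw₁ : g * w₁ * g⁻¹ ∈ T := hTn.conj_mem w₁ hw₁T g
    have hinj : ∀ x y : X, g * x * g⁻¹ = g * y * g⁻¹ → x = y := by
      intro x y h
      have : g⁻¹ * (g * x * g⁻¹) * g = g⁻¹ * (g * y * g⁻¹) * g := by rw [h]
      calc x = g⁻¹ * (g * x * g⁻¹) * g := by group
        _ = g⁻¹ * (g * y * g⁻¹) * g := this
        _ = y := by group
    rcases hall _ hgw₁ with h | h | h | h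
    · exfalso
      apply hw₁1
      apply hinj
      rw [h]; group
    · exfalso
      apply haw
      apply hinj
      rw [h, hg]
    · refine ⟨0, ?_⟩
      simp only [Fin.val_zero, pow_zero, inv_one, one_mul]
      exact hmemC g hg h
    · refine ⟨1, ?_⟩
      simp only [Fin.val_one, pow_one]
      apply hmemC
      · calc b⁻¹ * g * w * (b⁻¹ * g)⁻¹ = b⁻¹ * (g * w * g⁻¹) * b := by group
          _ = b⁻¹ * w * b := by rw [hg]
          _ = b⁻¹ * (b * w * b⁻¹) * b := by rw [hbw]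
          _ = w := by group
      · calc b⁻¹ * g * w₁ * (b⁻¹ * g)⁻¹ = b⁻¹ * (g * w₁ * g⁻¹) * b := by group
          _ = b⁻¹ * (w * w₁) * b := by rw [h]
          _ = b⁻¹ * (b * w₁ * b⁻¹) * b := by rw [hbww]
          _ = w₁ := by group
  -- the index is at most six
  have hle : Nat.card (X ⧸ C) ≤ 6 := by
    let φ : Fin 3 × Fin 2 → X ⧸ C := fun q => ((a ^ (q.1 : ℕ) * b ^ (q.2 : ℕ) : X) : X ⧸ C)
    have hφ : Function.Surjective φ := by
      intro q
      induction q using QuotientGroup.induction_on with | _ g => ?_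
      obtain ⟨i, hi⟩ := step1 g
      obtain ⟨j, hj⟩ := step2 _ hi
      refine ⟨(i, j), ?_⟩
      show ((a ^ (i : ℕ) * b ^ (j : ℕ) : X) : X ⧸ C) = (g : X ⧸ C)
      rw [QuotientGroup.eq]
      have e : (a ^ (i : ℕ) * b ^ (j : ℕ))⁻¹ * g = (b ^ (j : ℕ))⁻¹ * ((a ^ (i : ℕ))⁻¹ * g) := by
        group
      rw [e]; exact hj
    have := Nat.card_le_card_of_surjective φ hφ
    simpa using this
  -- the index is divisible by six
  have h3 : 3 ∣ Nat.card (X ⧸ C) := by
    have h1 : ((a : X) : X ⧸ C) ^ 3 = 1 := by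
      rw [← QuotientGroup.mk_pow, QuotientGroup.eq_one_iff]; exact ha3
    have h2 : ((a : X) : X ⧸ C) ≠ 1 := by
      rw [Ne, QuotientGroup.eq_one_iff]; exact haC
    have := orderOf_eq_prime h1 h2
    rw [← this]; exact orderOf_dvd_natCard _
  have h2 : 2 ∣ Nat.card (X ⧸ C) := by
    have h1 : ((b : X) : X ⧸ C) ^ 2 = 1 := by
      rw [← QuotientGroup.mk_pow, QuotientGroup.eq_one_iff, pow_two]; exact hbbC
    have h2 : ((b : X) : X ⧸ C) ≠ 1 := by
      rw [Ne, QuotientGroup.eq_one_iff]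
      intro hb
      have := hconjC b hb w₁ hw₁T
      rw [hbww] at this
      -- w * w₁ = w₁ → w = 1
      apply hw1
      calc w = (w * w₁) * w₁⁻¹ := by group
        _ = w₁ * w₁⁻¹ := by rw [this]
        _ = 1 := by group
    have := orderOf_eq_prime h1 h2
    rw [← this]; exact orderOf_dvd_natCard _
  have h6 : 6 ∣ Nat.card (X ⧸ C) := by
    have : Nat.Coprime 2 3 := by norm_num
    exact this.mul_dvd_of_dvd_of_dvd h2 h3
  have hpos : 0 < Nat.card (X ⧸ C) := Nat.card_pos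
  have hidx : C.index = 6 := by
    rw [Subgroup.index_eq_card]
    obtain ⟨k, hk⟩ := h6
    have : k = 1 := by omega
    rw [hk, this]
  rw [hC] at hidx
  exact GW.involves_S4_of_normal_four _ X rfl T hcard hTsq hidx

end SFour

end Cfsg.Agent.Helper1
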