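import Mathlib
import Cfsg.Prelude.Def_LocalEven
import Cfsg.Agent.Helper1.SFourC
import Cfsg.Agent.Helper1.Hall
import Cfsg.Agent.Helper1.QuadFreeA

set_option autoImplicit false

/-!
A `3`-element `a` acting nontrivially on a normal `2`-subgroup `T`, with `a ^ 3` centralizing `T`,
and inverted by a `2`-element: `S₄` is involved.
-/

namespace Cfsg.Agent.Helper1

namespace SFour

universe u

/-- Coprime action: a `3`-element centralizing `M` and `T / M` centralizes the `2`-group `T`. -/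
theorem centralizes_of_stable {Y : Type u} [Group Y] (T M : Subgroup Y) (hT2 : IsPGroup 2 T)
    (hMT : M ≤ T) (a : Y) (ha : ∃ k : ℕ, a ^ 3 ^ k = 1)
    (haM : a ∈ Subgroup.centralizer (M : Set Y))
    (hTM : ∀ t ∈ T, a * t * a⁻¹ * t⁻¹ ∈ M) :
    a ∈ Subgroup.centralizer (T : Set Y) := by
  rw [Subgroup.mem_centralizer_iff]
  intro t ht
  obtain ⟨m, hm⟩ : ∃ m, m = a * t * a⁻¹ * t⁻¹ := ⟨_, rfl⟩
  have hmM : m ∈ M := hm ▸ hTM t ht
  have hat : a * t * a⁻¹ = m * t := by rw [hm]; group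
  have ham : a * m = m * a := ((Subgroup.mem_centralizer_iff.1 haM) m hmM).symm
  have hpow : ∀ j : ℕ, a ^ j * t * (a ^ j)⁻¹ = m ^ j * t := by
    intro j
    induction j with
    | zero => simp
    | succ j ih =>
      have hamj : a * m ^ j = m ^ j * a := (Commute.pow_right (show Commute a m from ham) j).eq
      calc a ^ (j + 1) * t * (a ^ (j + 1))⁻¹ = a * (a ^ j * t * (a ^ j)⁻¹) * a⁻¹ := by
            rw [pow_succ']; group
        _ = a * (m ^ j * t) * a⁻¹ := by rw [ih]
        _ = (a * m ^ j) * t * a⁻¹ := by group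
        _ = (m ^ j * a) * t * a⁻¹ := by rw [hamj]
        _ = m ^ j * (a * t * a⁻¹) := by group
        _ = m ^ j * (m * t) := by rw [hat]
        _ = m ^ (j + 1) * t := by rw [pow_succ]; group
  obtain ⟨k, hk⟩ := ha
  have h1 : m ^ 3 ^ k = 1 := by
    have := hpow (3 ^ k)
    rw [hk, inv_one, one_mul, mul_one] at this
    calc m ^ 3 ^ k = (m ^ 3 ^ k * t) * t⁻¹ := by group
      _ = t * t⁻¹ := by rw [← this]
      _ = 1 := by group
  obtain ⟨i, hi⟩ := hT2 ⟨m, hMT hmM⟩
  have h2 : m ^ 2 ^ i = 1 := by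
    have := congrArg Subtype.val hi
    simpa using this
  have h3 : orderOf m ∣ Nat.gcd (3 ^ k) (2 ^ i) :=
    Nat.dvd_gcd (orderOf_dvd_of_pow_eq_one h1) (orderOf_dvd_of_pow_eq_one h2)
  have h4 : Nat.gcd (3 ^ k) (2 ^ i) = 1 := by
    apply Nat.Coprime.pow
    norm_num
  rw [h4, Nat.dvd_one, orderOf_eq_one_iff] at h3
  rw [h3, one_mul] at hat
  calc t * a = (a * t * a⁻¹) * a := by rw [hat]
    _ = a * t := by group

theorem involves_S4_of_inverted : ∀ (n : ℕ) (X : Type u) [Group X] [Finite X] (T : Subgroup X)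
    [T.Normal], Nat.card T = n → IsPGroup 2 T → ∀ a b : X, (∃ k : ℕ, a ^ 3 ^ k = 1) →
    a ∉ Subgroup.centralizer (T : Set X) → a ^ 3 ∈ Subgroup.centralizer (T : Set X) →
    (∃ l : ℕ, b ^ 2 ^ l = 1) → b * a * b⁻¹ = a⁻¹ →
    Cfsg.Involves (Equiv.Perm (Fin 4)) X := by
  intro n
  induction n using Nat.strong_induction_on with
  | _ n ih =>
  intro X _ _ T hTn hn hT2 a b ha haC ha3 hb hinv
  obtain ⟨Y, hY⟩ : ∃ Y : Subgroup X, Y = T ⊔ Subgroup.closure {a, b} := ⟨_, rfl⟩
  have hTY : T ≤ Y := hY ▸ le_sup_left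
  have hclY : Subgroup.closure {a, b} ≤ Y := hY ▸ le_sup_right
  have haY : a ∈ Y := hclY (Subgroup.subset_closure (Set.mem_insert _ _))
  have hbY : b ∈ Y := hclY (Subgroup.subset_closure (Set.mem_insert_of_mem _ rfl))
  suffices h : Cfsg.Involves (Equiv.Perm (Fin 4)) Y from
    QuadFree.involves_of_injective Y.subtype Y.subtype_injective h
  obtain ⟨T', hT'⟩ : ∃ T' : Subgroup Y, T' = T.subgroupOf Y := ⟨_, rfl⟩
  haveI hT'n : T'.Normal := hT' ▸ hTn.subgroupOf Y
  have hT'card : Nat.card T' = n := by rw [hT', card_subgroupOf_of_le hTY, hn]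
  have hT'2 : IsPGroup 2 T' := by
    rw [hT']
    exact hT2.comap_of_injective Y.subtype Y.subtype_injective
  obtain ⟨a', ha'⟩ : ∃ a' : Y, a' = ⟨a, haY⟩ := ⟨_, rfl⟩
  obtain ⟨b', hb'⟩ : ∃ b' : Y, b' = ⟨b, hbY⟩ := ⟨_, rfl⟩
  have hcent : Subgroup.centralizer (T' : Set Y) = (Subgroup.centralizer (T : Set X)).subgroupOf Y := by
    rw [hT']; exact GW.centralizer_subgroupOf_eq hTY
  have ha'pow : ∃ k : ℕ, a' ^ 3 ^ k = 1 := by
    obtain ⟨k, hk⟩ := ha
    exact ⟨k, Subtype.ext (by rw [ha']; simpa using hk)⟩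
  have hb'pow : ∃ l : ℕ, b' ^ 2 ^ l = 1 := by
    obtain ⟨l, hl⟩ := hb
    exact ⟨l, Subtype.ext (by rw [hb']; simpa using hl)⟩
  have ha'C : a' ∉ Subgroup.centralizer (T' : Set Y) := by
    rw [hcent, Subgroup.mem_subgroupOf, ha']; exact haC
  have ha'3 : a' ^ 3 ∈ Subgroup.centralizer (T' : Set Y) := by
    rw [hcent, Subgroup.mem_subgroupOf, ha']; simpa using ha3
  have hinv' : b' * a' * b'⁻¹ = a'⁻¹ := by
    rw [ha', hb']; exact Subtype.ext hinv
  have hgen' : T' ⊔ Subgroup.closure {a', b'} = ⊤ := by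
    have h1 : (T' ⊔ Subgroup.closure {a', b'}).map Y.subtype = Y := by
      rw [Subgroup.map_sup, MonoidHom.map_closure, Set.image_pair, hT',
        Subgroup.map_subgroupOf_eq_of_le hTY, ha', hb']
      exact hY.symm
    rw [eq_top_iff]
    intro y _
    have : (y : X) ∈ (T' ⊔ Subgroup.closure {a', b'}).map Y.subtype := by rw [h1]; exact y.2
    obtain ⟨y', hy', hyy⟩ := this
    have : y' = y := Subtype.ext hyy
    rw [← this]; exact hy'
  by_cases hmin : ∀ M : Subgroup Y, M.Normal → M ≤ T' → M = ⊥ ∨ M = T'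
  · exact involves_S4_of_minimal T' hT'2 a' b' hgen' ha'C ha'3 hb'pow hinv' hmin
  · push Not at hmin
    obtain ⟨M, hMn, hMT, hMbot, hMne⟩ := hmin
    haveI := hMn
    have hMlt : Nat.card M < n := by
      rw [← hT'card]
      exact card_lt_card_of_lt (lt_of_le_of_ne hMT hMne)
    have hM2 : IsPGroup 2 M := hT'2.to_le hMT
    by_cases haM : a' ∈ Subgroup.centralizer (M : Set Y)
    · -- pass to the quotient
      obtain ⟨π, hπ⟩ : ∃ π : Y →* Y ⧸ M, π = QuotientGroup.mk' M := ⟨_, rfl⟩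
      have hπs : Function.Surjective π := hπ ▸ QuotientGroup.mk'_surjective M
      suffices h : Cfsg.Involves (Equiv.Perm (Fin 4)) (Y ⧸ M) from
        QuadFree.involves_of_surjective π hπs h
      haveI hT''n : (T'.map π).Normal := hT'n.map π hπs
      have hcard : Nat.card (T'.map π) < n := by
        have h1 := card_map_mk'_mul_card M T' hMT
        rw [hT'card, ← hπ] at h1
        have h2 : 1 < Nat.card M := by
          rw [Finite.one_lt_card_iff_nontrivial]
          exact (Subgroup.nontrivial_iff_ne_bot M).2 hMbot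
        have h3 : 0 < Nat.card (T'.map π) := Nat.card_pos
        nlinarith
      refine ih _ hcard (Y ⧸ M) (T'.map π) rfl (hT'2.map π) (π a') (π b') ?_ ?_ ?_ ?_ ?_
      · obtain ⟨k, hk⟩ := ha'pow
        exact ⟨k, by rw [← map_pow, hk, map_one]⟩
      · intro hcon
        apply ha'C
        apply centralizes_of_stable T' M hT'2 hMT a' ha'pow haM
        intro t ht
        have h1 := (Subgroup.mem_centralizer_iff.1 hcon) (π t) (Subgroup.mem_map_of_mem π ht)
        have h2 : π (a' * t * a'⁻¹ * t⁻¹) = 1 := by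
          simp only [map_mul, map_inv]
          rw [← h1]; group
        rw [hπ, QuotientGroup.mk'_apply, QuotientGroup.eq_one_iff] at h2
        exact h2
      · rw [← map_pow, Subgroup.mem_centralizer_iff]
        rintro _ ⟨t, ht, rfl⟩
        have := (Subgroup.mem_centralizer_iff.1 ha'3) t ht
        rw [← map_mul, ← map_mul, this]
      · obtain ⟨l, hl⟩ := hb'pow
        exact ⟨l, by rw [← map_pow, hl, map_one]⟩
      · rw [← map_inv, ← map_inv, ← map_mul, ← map_mul, hinv']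
    · -- apply the induction hypothesis to `M`
      refine ih _ hMlt Y M rfl hM2 a' b' ha'pow haM ?_ hb'pow hinv'
      exact Subgroup.centralizer_le (show (M : Set Y) ⊆ T' from hMT) ha'3

end SFour

end Cfsg.Agent.Helper1
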