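import Mathlib
import Cfsg.Prelude.Def_LocalEven
import Cfsg.Agent.Helper2.PComp7

set_option autoImplicit false

/-!
A finite group mapping onto `S₃` contains a `3`-element `a`, not in the kernel, inverted by a
`2`-element `b`.
-/

namespace Cfsg.Agent.Helper1

namespace SFour

universe u

open Equiv

theorem s3_sq_of_sign : ∀ τ : Perm (Fin 3), Perm.sign τ = -1 → τ * τ = 1 := by decide

theorem s3_cube_of_sign : ∀ τ : Perm (Fin 3), Perm.sign τ = 1 → τ ^ 3 = 1 := by decide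

theorem s3_conj_of_sign : ∀ c s : Perm (Fin 3), Perm.sign c = 1 → Perm.sign s = -1 →
    s * c⁻¹ * s⁻¹ = c := by decide

theorem s3_sq_ne_one : ∀ c : Perm (Fin 3), Perm.sign c = 1 → c ≠ 1 → c * c ≠ 1 := by decide

theorem s3_cycle_sign : Perm.sign (swap (0 : Fin 3) 1 * swap 1 2) = 1 := by decide

theorem s3_cycle_ne : swap (0 : Fin 3) 1 * swap 1 2 ≠ 1 := by decide

theorem s3_swap_sign : Perm.sign (swap (0 : Fin 3) 1) = -1 := by decide

theorem exists_inverted_pair {K : Type u} [Group K] [Finite K] (f : K →* Perm (Fin 3))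
    (hf : Function.Surjective f) :
    ∃ a b : K, (∃ k : ℕ, a ^ 3 ^ k = 1) ∧ (∃ l : ℕ, b ^ 2 ^ l = 1) ∧ b * a * b⁻¹ = a⁻¹ ∧
      f a ≠ 1 := by
  haveI : Fact (Nat.Prime 3) := ⟨Nat.prime_three⟩
  obtain ⟨g, hg⟩ : ∃ g : K →* ℤˣ, g = (Perm.sign : Perm (Fin 3) →* ℤˣ).comp f := ⟨_, rfl⟩
  have hgf : ∀ x : K, g x = Perm.sign (f x) := fun x => by rw [hg]; rfl
  obtain ⟨K₃, hK₃⟩ : ∃ K₃ : Subgroup K, K₃ = g.ker := ⟨_, rfl⟩
  haveI hK₃n : K₃.Normal := by rw [hK₃]; infer_instance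
  have hmemK₃ : ∀ x : K, x ∈ K₃ ↔ Perm.sign (f x) = 1 := by
    intro x; rw [hK₃, MonoidHom.mem_ker, hgf]
  obtain ⟨P⟩ : Nonempty (Sylow 3 K₃) := inferInstance
  obtain ⟨P', hP'⟩ : ∃ P' : Subgroup K, P' = (P : Subgroup K₃).map K₃.subtype := ⟨_, rfl⟩
  have hP'3 : IsPGroup 3 P' := by rw [hP']; exact P.isPGroup'.map _
  have hfr : Subgroup.normalizer (P' : Set K) ⊔ K₃ = ⊤ := by
    rw [hP']; exact Sylow.normalizer_sup_eq_top P
  -- a `2`-element `b` of the normalizer outside `K₃`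
  obtain ⟨k₀, hk₀⟩ := hf (swap (0 : Fin 3) 1)
  have hk₀mem : k₀ ∈ Subgroup.normalizer (P' : Set K) ⊔ K₃ := by rw [hfr]; exact Subgroup.mem_top _
  rw [← SetLike.mem_coe, Subgroup.mul_normal, Set.mem_mul] at hk₀mem
  obtain ⟨n, hn, k₃, hk₃, hnk⟩ := hk₀mem
  have hgn : g n = -1 := by
    have h1 : g k₀ = -1 := by rw [hgf, hk₀]; exact s3_swap_sign
    have h2 : g k₃ = 1 := by rw [hgf]; exact (hmemK₃ k₃).1 hk₃
    rw [← hnk, map_mul, h2, mul_one] at h1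
    exact h1
  obtain ⟨e, m, hm, hem⟩ := Nat.exists_eq_two_pow_mul_odd (orderOf_pos n).ne'
  obtain ⟨b, hb⟩ : ∃ b, b = n ^ m := ⟨_, rfl⟩
  have hbpow : b ^ 2 ^ e = 1 := by
    rw [hb, ← pow_mul, mul_comm, ← hem, pow_orderOf_eq_one]
  have hbN : b ∈ Subgroup.normalizer (P' : Set K) := hb ▸ Subgroup.pow_mem _ hn m
  have hgb : Perm.sign (f b) = -1 := by
    rw [← hgf, hb, map_pow, hgn, hm.neg_one_pow]
  have hfbb : f (b * b) = 1 := by rw [map_mul]; exact s3_sq_of_sign _ hgb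
  -- an element of `P'` mapping to a `3`-cycle
  obtain ⟨c, hc⟩ : ∃ c : Perm (Fin 3), c = swap (0 : Fin 3) 1 * swap 1 2 := ⟨_, rfl⟩
  have hcs : Perm.sign c = 1 := hc ▸ s3_cycle_sign
  have hc1 : c ≠ 1 := hc ▸ s3_cycle_ne
  obtain ⟨A₃, hA₃⟩ : ∃ A₃ : Subgroup (Perm (Fin 3)), A₃ = (Perm.sign : Perm (Fin 3) →* ℤˣ).ker :=
    ⟨_, rfl⟩
  have hmemA₃ : ∀ τ, τ ∈ A₃ ↔ Perm.sign τ = 1 := fun τ => by rw [hA₃, MonoidHom.mem_ker]
  have hA₃p : IsPGroup 3 A₃ := by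
    intro τ
    refine ⟨1, Subtype.ext ?_⟩
    have := s3_cube_of_sign τ.1 ((hmemA₃ _).1 τ.2)
    simpa using this
  have hxex : ∃ x ∈ P', f x = c := by
    let f₃ : K₃ →* A₃ := (f.comp K₃.subtype).codRestrict A₃
      (fun x => (hmemA₃ _).2 ((hmemK₃ _).1 x.2))
    have hf₃ : Function.Surjective f₃ := by
      intro τ
      obtain ⟨k, hk⟩ := hf τ.1
      have hkK : k ∈ K₃ := by rw [hmemK₃, hk]; exact (hmemA₃ _).1 τ.2
      exact ⟨⟨k, hkK⟩, Subtype.ext hk⟩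
    have h1 : ((P.mapSurjective hf₃ : Sylow 3 A₃) : Subgroup A₃) = (P : Subgroup K₃).map f₃ := rfl
    have h2 : IsPGroup 3 (⊤ : Subgroup A₃) := hA₃p.to_subgroup _
    have h3 : (⊤ : Subgroup A₃) = ((P.mapSurjective hf₃ : Sylow 3 A₃) : Subgroup A₃) :=
      (P.mapSurjective hf₃).3 h2 le_top
    have h4 : (⟨c, (hmemA₃ c).2 hcs⟩ : A₃) ∈ (P : Subgroup K₃).map f₃ := by
      rw [← h1, ← h3]; exact Subgroup.mem_top _
    obtain ⟨x₀, hx₀, hx₀c⟩ := h4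
    refine ⟨(x₀ : K), ?_, ?_⟩
    · rw [hP']; exact ⟨x₀, hx₀, rfl⟩
    · have := congrArg Subtype.val hx₀c
      exact this
  obtain ⟨x, hxP, hxc⟩ := hxex
  -- make `x` commute with `b * b`
  obtain ⟨A, hA⟩ : ∃ A : Subgroup K, A = Subgroup.zpowers (b * b) := ⟨_, rfl⟩
  obtain ⟨D, hD⟩ : ∃ D : Subgroup K, D = P' ⊓ f.ker := ⟨_, rfl⟩
  have hAker : A ≤ f.ker := by
    rw [hA, Subgroup.zpowers_le, MonoidHom.mem_ker]; exact hfbb
  have hAN : A ≤ Subgroup.normalizer (P' : Set K) := by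
    rw [hA, Subgroup.zpowers_le]; exact Subgroup.mul_mem _ hbN hbN
  have hAD : A ≤ Subgroup.normalizer (D : Set K) := by
    intro a' ha'
    rw [Subgroup.mem_normalizer_iff]
    intro h
    have h1 := (Subgroup.mem_normalizer_iff.1 (hAN ha')) h
    have h2 : h ∈ f.ker ↔ a' * h * a'⁻¹ ∈ f.ker := by
      rw [MonoidHom.mem_ker, MonoidHom.mem_ker, map_mul, map_mul, map_inv,
        (MonoidHom.mem_ker).1 (hAker ha')]
      simp
    rw [hD, Subgroup.mem_inf, Subgroup.mem_inf, h1, h2]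
  have hD3 : IsPGroup 3 D := hP'3.to_le (hD ▸ inf_le_left)
  have hcop : (Nat.card D).Coprime (Nat.card A) := by
    obtain ⟨i, hi⟩ := IsPGroup.iff_card.1 hD3
    have h1 : Nat.card A = orderOf (b * b) := by rw [hA]; exact Nat.card_zpowers _
    have h2 : orderOf (b * b) ∣ 2 ^ e := by
      apply orderOf_dvd_of_pow_eq_one
      rw [← pow_two, ← pow_mul, mul_comm, pow_mul, hbpow, one_pow]
    obtain ⟨j, -, hj⟩ := (Nat.dvd_prime_pow Nat.prime_two).1 h2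
    rw [hi, h1, hj]
    apply Nat.Coprime.pow
    norm_num
  have hsolv : Group.IsSolvable D ∨ Group.IsSolvable A := by
    left
    haveI := hD3.isNilpotent
    infer_instance
  have hfix : ∀ a' ∈ A, ∀ k ∈ P', a' * k * a'⁻¹ * k⁻¹ ∈ D := by
    intro a' ha' k hk
    rw [hD]
    refine Subgroup.mem_inf.2 ⟨?_, ?_⟩
    · exact P'.mul_mem ((Subgroup.mem_normalizer_iff.1 (hAN ha') k).1 hk) (P'.inv_mem hk)
    · rw [MonoidHom.mem_ker, map_mul, map_mul, map_mul, map_inv, map_inv,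
        (MonoidHom.mem_ker).1 (hAker ha')]
      simp
  obtain ⟨n', hn'D, hn'x⟩ := Cfsg.Agent.Helper2.exists_mem_centralizer_of_trivial_quotient_action
    A P' D hAD (hD ▸ inf_le_left) hcop hsolv hfix x hxP
  obtain ⟨x', hx'⟩ : ∃ x', x' = n'⁻¹ * x := ⟨_, rfl⟩
  rw [← hx'] at hn'x
  have hx'P : x' ∈ P' := (Subgroup.mem_inf.1 hn'x).1
  have hx'c : f x' = c := by
    have : f n' = 1 := by
      rw [hD] at hn'D
      exact (MonoidHom.mem_ker).1 (Subgroup.mem_inf.1 hn'D).2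
    rw [hx', map_mul, map_inv, this, inv_one, one_mul, hxc]
  have hx'bb : (b * b) * x' = x' * (b * b) := by
    have := Subgroup.mem_centralizer_iff.1 (Subgroup.mem_inf.1 hn'x).2 (b * b)
      (by rw [hA]; exact Subgroup.mem_zpowers _)
    exact this
  -- the pair
  refine ⟨x' * (b * x'⁻¹ * b⁻¹), b, ?_, ⟨e, hbpow⟩, ?_, ?_⟩
  · have hmem : x' * (b * x'⁻¹ * b⁻¹) ∈ P' :=
      P'.mul_mem hx'P ((Subgroup.mem_normalizer_iff.1 hbN _).1 (P'.inv_mem hx'P))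
    obtain ⟨k, hk⟩ := hP'3 ⟨_, hmem⟩
    refine ⟨k, ?_⟩
    have := congrArg Subtype.val hk
    simpa using this
  · have h1 : (b * b) * x'⁻¹ * (b * b)⁻¹ = x'⁻¹ := by
      have : (b * b) * x'⁻¹ = x'⁻¹ * (b * b) := by
        calc (b * b) * x'⁻¹ = x'⁻¹ * (x' * (b * b)) * x'⁻¹ := by group
          _ = x'⁻¹ * ((b * b) * x') * x'⁻¹ := by rw [hx'bb]
          _ = x'⁻¹ * (b * b) := by group
      rw [this]; group
    calc b * (x' * (b * x'⁻¹ * b⁻¹)) * b⁻¹ = (b * x' * b⁻¹) * ((b * b) * x'⁻¹ * (b * b)⁻¹) := by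
          group
      _ = (b * x' * b⁻¹) * x'⁻¹ := by rw [h1]
      _ = (x' * (b * x'⁻¹ * b⁻¹))⁻¹ := by group
  · rw [map_mul, map_mul, map_mul, map_inv, map_inv, hx'c,
      s3_conj_of_sign c (f b) hcs hgb]
    exact s3_sq_ne_one c hcs hc1

end SFour

end Cfsg.Agent.Helper1
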