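import Mathlib
import Cfsg.Prelude.Def_LocalEven
import Cfsg.Agent.Helper1.SFourD
import Cfsg.Agent.Helper1.SFourE
import Cfsg.Agent.Lead.InvolvesLemmas

set_option autoImplicit false

/-!
If `S₃` is involved in `N_G(T) / C_G(T)` for a `2`-subgroup `T`, then `S₄` is involved in `G`.
-/

namespace Cfsg.Agent.Helper1

namespace SFour

universe u

variable {G : Type u} [Group G]

theorem involves_S4_of_automizer [Finite G] (T : Subgroup G) (hT : IsPGroup 2 T)
    (h : Cfsg.Involves (Equiv.Perm (Fin 3))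
      (↥(Subgroup.normalizer (T : Set G)) ⧸
        (Subgroup.centralizer (T : Set G)).subgroupOf (Subgroup.normalizer (T : Set G)))) :
    Cfsg.Involves (Equiv.Perm (Fin 4)) G := by
  obtain ⟨X, hX⟩ : ∃ X : Subgroup G, X = Subgroup.normalizer (T : Set G) := ⟨_, rfl⟩
  have hTX : T ≤ X := hX ▸ Subgroup.le_normalizer
  suffices hs : Cfsg.Involves (Equiv.Perm (Fin 4)) X from
    QuadFree.involves_of_injective X.subtype X.subtype_injective hs
  obtain ⟨K₂, f₂, hf₂⟩ := Cfsg.Agent.Lead.exists_maps_of_involves h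
  obtain ⟨C, hC⟩ : ∃ C : Subgroup (Subgroup.normalizer (T : Set G)),
      C = (Subgroup.centralizer (T : Set G)).subgroupOf (Subgroup.normalizer (T : Set G)) :=
    ⟨_, rfl⟩
  subst hX
  haveI hCn : C.Normal := by rw [hC]; infer_instance
  obtain ⟨T', hT'⟩ : ∃ T' : Subgroup (Subgroup.normalizer (T : Set G)),
      T' = T.subgroupOf (Subgroup.normalizer (T : Set G)) := ⟨_, rfl⟩
  haveI hT'n : T'.Normal := by rw [hT']; infer_instance
  have hT'2 : IsPGroup 2 T' := by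
    rw [hT']
    exact hT.comap_of_injective _ (Subgroup.subtype_injective _)
  have hcent : Subgroup.centralizer (T' : Set (Subgroup.normalizer (T : Set G))) = C := by
    rw [hT', hC]; exact GW.centralizer_subgroupOf_eq hTX
  -- the maps
  have hquot : ∀ x : Subgroup.normalizer (T : Set G),
      (QuotientGroup.mk' ((Subgroup.centralizer (T : Set G)).subgroupOf
        (Subgroup.normalizer (T : Set G)))) x = 1 ↔ x ∈ C := by
    intro x
    rw [hC, QuotientGroup.mk'_apply, QuotientGroup.eq_one_iff]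
  obtain ⟨π, hπ⟩ : ∃ π : Subgroup.normalizer (T : Set G) →* _, π = QuotientGroup.mk'
      ((Subgroup.centralizer (T : Set G)).subgroupOf (Subgroup.normalizer (T : Set G))) :=
    ⟨_, rfl⟩
  rw [← hπ] at hquot
  have hπs : Function.Surjective π := hπ ▸ QuotientGroup.mk'_surjective _
  obtain ⟨K, hK⟩ : ∃ K, K = K₂.comap π := ⟨_, rfl⟩
  obtain ⟨f, hf⟩ : ∃ f : K →* Equiv.Perm (Fin 3),
      f = f₂.comp ((π.subgroupComap K₂).comp (MulEquiv.subgroupCongr hK).toMonoidHom) := ⟨_, rfl⟩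
  have hfs : Function.Surjective f := by
    rw [hf]
    exact hf₂.comp ((π.subgroupComap_surjective_of_surjective K₂ hπs).comp
      (MulEquiv.subgroupCongr hK).surjective)
  have hfker : ∀ x : K, (x : Subgroup.normalizer (T : Set G)) ∈ C → f x = 1 := by
    intro x hx
    rw [hf]
    have h1 : ((π.subgroupComap K₂).comp (MulEquiv.subgroupCongr hK).toMonoidHom) x = 1 := by
      apply Subtype.ext
      show π (x : Subgroup.normalizer (T : Set G)) = 1
      exact (hquot _).2 hx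
    rw [MonoidHom.comp_apply, h1, map_one]
  obtain ⟨a, b, ⟨k, hak⟩, ⟨l, hbl⟩, hinv, hfa⟩ := exists_inverted_pair f hfs
  obtain ⟨a₁, ha₁⟩ : ∃ a₁ : Subgroup.normalizer (T : Set G), a₁ = (a : _) := ⟨_, rfl⟩
  obtain ⟨b₁, hb₁⟩ : ∃ b₁ : Subgroup.normalizer (T : Set G), b₁ = (b : _) := ⟨_, rfl⟩
  have ha₁k : a₁ ^ 3 ^ k = 1 := by
    rw [ha₁]
    have := congrArg Subtype.val hak
    simpa using this
  have hb₁l : b₁ ^ 2 ^ l = 1 := by
    rw [hb₁]
    have := congrArg Subtype.val hbl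
    simpa using this
  have hinv₁ : b₁ * a₁ * b₁⁻¹ = a₁⁻¹ := by
    rw [ha₁, hb₁]
    have := congrArg Subtype.val hinv
    simpa using this
  have ha₁C : a₁ ∉ C := by
    intro hcon
    apply hfa
    apply hfker
    rw [← ha₁]; exact hcon
  -- the last power of `a₁` outside `C`
  classical
  have hex : ∃ j : ℕ, a₁ ^ 3 ^ j ∈ C := ⟨k, by rw [ha₁k]; exact C.one_mem⟩
  obtain ⟨j, hj⟩ : ∃ j, j = Nat.find hex := ⟨_, rfl⟩
  have hjC : a₁ ^ 3 ^ j ∈ C := hj ▸ Nat.find_spec hex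
  have hj0 : j ≠ 0 := by
    intro h0
    rw [h0, pow_zero, pow_one] at hjC
    exact ha₁C hjC
  obtain ⟨j', hj'⟩ : ∃ j', j = j' + 1 := Nat.exists_eq_succ_of_ne_zero hj0
  have hj'C : a₁ ^ 3 ^ j' ∉ C := by
    apply Nat.find_min hex
    rw [← hj, hj']; exact Nat.lt_succ_self _
  obtain ⟨a₀, ha₀⟩ : ∃ a₀, a₀ = a₁ ^ 3 ^ j' := ⟨_, rfl⟩
  have ha₀pow : ∃ k' : ℕ, a₀ ^ 3 ^ k' = 1 := by
    refine ⟨k, ?_⟩
    rw [ha₀, ← pow_mul, mul_comm, pow_mul, ha₁k, one_pow]
  have ha₀3 : a₀ ^ 3 ∈ C := by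
    rw [ha₀, ← pow_mul, ← pow_succ, ← hj']; exact hjC
  have hinv₀ : b₁ * a₀ * b₁⁻¹ = a₀⁻¹ := by
    rw [ha₀, ← conj_pow, hinv₁, inv_pow]
  rw [← ha₀] at hj'C
  rw [← hcent] at hj'C ha₀3
  exact involves_S4_of_inverted _ _ T' rfl hT'2 a₀ b₁ ha₀pow hj'C ha₀3 ⟨l, hb₁l⟩ hinv₀

end SFour

end Cfsg.Agent.Helper1
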