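import Mathlib
import Cfsg.Prelude.Def_LocalEven
import Cfsg.Agent.Lead.InvolvesLemmas
import Cfsg.Agent.Helper3.S4Pres

set_option autoImplicit false

/-!
If `S₄` is involved in `G`, then `S₃` is involved in `N_G(T) / C_G(T)` for some `2`-subgroup `T`.
-/

namespace Cfsg.Agent.Helper1

namespace SFour

universe u

open Equiv

/-- A variant of `involves_of_maps` with a non-injective map. -/
theorem involves_of_maps_ker {H : Type*} [Group H] {G : Type*} [Group G] {A : Type*} [Group A]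
    (i : A →* G) (f : A →* H) (hf : Function.Surjective f) (hk : ∀ x, i x = 1 → f x = 1) :
    Cfsg.Involves H G := by
  have hle : i.ker ≤ f.ker := fun x hx => MonoidHom.mem_ker.2 (hk x (MonoidHom.mem_ker.1 hx))
  refine Cfsg.Agent.Lead.involves_of_maps (QuotientGroup.kerLift i)
    (QuotientGroup.kerLift_injective i) (QuotientGroup.lift i.ker f hle) ?_
  intro y
  obtain ⟨x, hx⟩ := hf y
  exact ⟨(x : A ⧸ i.ker), by rw [QuotientGroup.lift_mk]; exact hx⟩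

/-- The normal four-group of `S₄`. -/
def V4 : Subgroup (Perm (Fin 4)) where
  carrier := {σ | σ = 1 ∨ σ = swap 0 1 * swap 2 3 ∨ σ = swap 0 2 * swap 1 3 ∨
    σ = swap 0 3 * swap 1 2}
  one_mem' := Or.inl rfl
  mul_mem' := by
    have : ∀ a b : Perm (Fin 4),
        (a = 1 ∨ a = swap 0 1 * swap 2 3 ∨ a = swap 0 2 * swap 1 3 ∨ a = swap 0 3 * swap 1 2) →
        (b = 1 ∨ b = swap 0 1 * swap 2 3 ∨ b = swap 0 2 * swap 1 3 ∨ b = swap 0 3 * swap 1 2) →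
        (a * b = 1 ∨ a * b = swap 0 1 * swap 2 3 ∨ a * b = swap 0 2 * swap 1 3 ∨
          a * b = swap 0 3 * swap 1 2) := by decide
    intro a b ha hb
    exact this a b ha hb
  inv_mem' := by
    have : ∀ a : Perm (Fin 4),
        (a = 1 ∨ a = swap 0 1 * swap 2 3 ∨ a = swap 0 2 * swap 1 3 ∨ a = swap 0 3 * swap 1 2) →
        (a⁻¹ = 1 ∨ a⁻¹ = swap 0 1 * swap 2 3 ∨ a⁻¹ = swap 0 2 * swap 1 3 ∨
          a⁻¹ = swap 0 3 * swap 1 2) := by decide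
    intro a ha
    exact this a ha

theorem mem_V4 (σ : Perm (Fin 4)) : σ ∈ V4 ↔ σ = 1 ∨ σ = swap 0 1 * swap 2 3 ∨
    σ = swap 0 2 * swap 1 3 ∨ σ = swap 0 3 * swap 1 2 := Iff.rfl

theorem V4_conj : ∀ g a : Perm (Fin 4),
    (a = 1 ∨ a = swap 0 1 * swap 2 3 ∨ a = swap 0 2 * swap 1 3 ∨ a = swap 0 3 * swap 1 2) →
    (g * a * g⁻¹ = 1 ∨ g * a * g⁻¹ = swap 0 1 * swap 2 3 ∨ g * a * g⁻¹ = swap 0 2 * swap 1 3 ∨
      g * a * g⁻¹ = swap 0 3 * swap 1 2) := by decide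

instance V4_normal : V4.Normal := ⟨fun a ha g => V4_conj g a ha⟩

theorem V4_sq : ∀ a : Perm (Fin 4),
    (a = 1 ∨ a = swap 0 1 * swap 2 3 ∨ a = swap 0 2 * swap 1 3 ∨ a = swap 0 3 * swap 1 2) →
    a * a = 1 := by decide

theorem V4_cent : ∀ g : Perm (Fin 4),
    g * (swap 0 1 * swap 2 3) = (swap 0 1 * swap 2 3) * g →
    g * (swap 0 2 * swap 1 3) = (swap 0 2 * swap 1 3) * g →
    (g = 1 ∨ g = swap 0 1 * swap 2 3 ∨ g = swap 0 2 * swap 1 3 ∨ g = swap 0 3 * swap 1 2) := by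
  decide

theorem V4_conj1 : swap (0 : Fin 4) 2 * swap 1 3 =
    swap 1 2 * (swap 0 1 * swap 2 3) * (swap 1 2)⁻¹ := by decide

theorem V4_conj2 : swap (0 : Fin 4) 3 * swap 1 2 =
    swap 1 3 * (swap 0 1 * swap 2 3) * (swap 1 3)⁻¹ := by decide

theorem s3_enum : ∀ τ : Perm (Fin 3), τ = 1 ∨ τ = swap 0 1 ∨ τ = swap 1 2 ∨
    τ = swap 0 1 * swap 1 2 ∨ τ = swap 1 2 * swap 0 1 ∨ τ = swap 0 1 * swap 1 2 * swap 0 1 := by
  decide

theorem s3_rel1 : (swap (0 : Fin 3) 1) ^ 2 = 1 := by decide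
theorem s3_rel2 : (swap (1 : Fin 3) 2) ^ 2 = 1 := by decide
theorem s3_rel3 : (swap (0 : Fin 3) 1 * swap 1 2) ^ 3 = 1 := by decide
theorem s3_rel4 : (swap (1 : Fin 3) 2 * swap 0 1) ^ 3 = 1 := by decide
theorem s3_rel5 : (swap (0 : Fin 3) 1 * swap 0 1) ^ 2 = 1 := by decide

/-- A homomorphism from `S₄` onto `S₃` killing the four-group. -/
theorem exists_rho : ∃ ρ : Perm (Fin 4) →* Perm (Fin 3), Function.Surjective ρ ∧
    ∀ σ ∈ V4, ρ σ = 1 := by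
  obtain ⟨ρ, h1, h2, h3⟩ := Cfsg.Agent.Helper3.S4Pres.exists_hom (swap (0 : Fin 3) 1)
    (swap 1 2) (swap 0 1) s3_rel1 s3_rel2 s3_rel1 s3_rel3 s3_rel4 s3_rel5
  refine ⟨ρ, ?_, ?_⟩
  · intro τ
    rcases s3_enum τ with h | h | h | h | h | h <;> rw [h]
    · exact ⟨1, map_one ρ⟩
    · exact ⟨_, h1⟩
    · exact ⟨_, h2⟩
    · exact ⟨swap 0 1 * swap 1 2, by rw [map_mul, h1, h2]⟩
    · exact ⟨swap 1 2 * swap 0 1, by rw [map_mul, h1, h2]⟩
    · exact ⟨swap 0 1 * swap 1 2 * swap 0 1, by rw [map_mul, map_mul, h1, h2]⟩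
  · have hd0 : ρ (swap 0 1 * swap 2 3) = 1 := by
      rw [map_mul, h1, h3]; decide
    intro σ hσ
    rcases (mem_V4 σ).1 hσ with h | h | h | h <;> rw [h]
    · exact map_one ρ
    · exact hd0
    · rw [V4_conj1, map_mul, map_mul, hd0, mul_one, ← map_mul, mul_inv_cancel, map_one]
    · rw [V4_conj2, map_mul, map_mul, hd0, mul_one, ← map_mul, mul_inv_cancel, map_one]

end SFour

end Cfsg.Agent.Helper1
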