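import Mathlib
import Cfsg.Prelude.Def_LocalEven
import Cfsg.Agent.Helper1.SFourG

set_option autoImplicit false

/-!
If `S₄` is involved in `G`, then `S₃` is involved in `N_G(T) / C_G(T)` for some `2`-subgroup `T`.
-/

namespace Cfsg.Agent.Helper1

namespace SFour

universe u

open Equiv

variable {G : Type u} [Group G]

theorem exists_two_subgroup [Finite G] (h : Cfsg.Involves (Perm (Fin 4)) G) :
    ∃ T : Subgroup G, IsPGroup 2 T ∧ Cfsg.Involves (Perm (Fin 3))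
      (↥(Subgroup.normalizer (T : Set G)) ⧸
        (Subgroup.centralizer (T : Set G)).subgroupOf (Subgroup.normalizer (T : Set G))) := by
  haveI : Fact (Nat.Prime 2) := ⟨Nat.prime_two⟩
  obtain ⟨K, φ, hφ⟩ := Cfsg.Agent.Lead.exists_maps_of_involves h
  obtain ⟨ρ, hρs, hρV⟩ := exists_rho
  obtain ⟨V₁, hV₁⟩ : ∃ V₁ : Subgroup K, V₁ = V4.comap φ := ⟨_, rfl⟩
  haveI hV₁n : V₁.Normal := by rw [hV₁]; exact V4_normal.comap φ
  have hmemV₁ : ∀ x : K, x ∈ V₁ ↔ φ x ∈ V4 := fun x => by rw [hV₁, Subgroup.mem_comap]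
  obtain ⟨P⟩ : Nonempty (Sylow 2 V₁) := inferInstance
  obtain ⟨T₀, hT₀⟩ : ∃ T₀ : Subgroup K, T₀ = (P : Subgroup V₁).map V₁.subtype := ⟨_, rfl⟩
  have hT₀2 : IsPGroup 2 T₀ := by rw [hT₀]; exact P.isPGroup'.map _
  have hfr : Subgroup.normalizer (T₀ : Set K) ⊔ V₁ = ⊤ := by
    rw [hT₀]; exact Sylow.normalizer_sup_eq_top P
  -- `φ` maps `T₀` onto `V4`
  have hV4p : IsPGroup 2 V4 := by
    intro v
    refine ⟨1, Subtype.ext ?_⟩
    have := V4_sq v.1 ((mem_V4 _).1 v.2)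
    simpa [pow_two] using this
  have honto : ∀ v ∈ V4, ∃ t ∈ T₀, φ t = v := by
    intro v hv
    let φ₁ : V₁ →* V4 := (φ.comp V₁.subtype).codRestrict V4 (fun x => (hmemV₁ _).1 x.2)
    have hφ₁ : Function.Surjective φ₁ := by
      intro w
      obtain ⟨k, hk⟩ := hφ w.1
      have hkV : k ∈ V₁ := by rw [hmemV₁, hk]; exact w.2
      exact ⟨⟨k, hkV⟩, Subtype.ext hk⟩
    have h1 : ((P.mapSurjective hφ₁ : Sylow 2 V4) : Subgroup V4) = (P : Subgroup V₁).map φ₁ := rfl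
    have h2 : IsPGroup 2 (⊤ : Subgroup V4) := hV4p.to_subgroup _
    have h3 : (⊤ : Subgroup V4) = ((P.mapSurjective hφ₁ : Sylow 2 V4) : Subgroup V4) :=
      (P.mapSurjective hφ₁).3 h2 le_top
    have h4 : (⟨v, hv⟩ : V4) ∈ (P : Subgroup V₁).map φ₁ := by
      rw [← h1, ← h3]; exact Subgroup.mem_top _
    obtain ⟨x₀, hx₀, hx₀v⟩ := h4
    refine ⟨(x₀ : K), ?_, ?_⟩
    · rw [hT₀]; exact ⟨x₀, hx₀, rfl⟩
    · exact congrArg Subtype.val hx₀v
  obtain ⟨T, hT⟩ : ∃ T : Subgroup G, T = T₀.map K.subtype := ⟨_, rfl⟩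
  have hT2 : IsPGroup 2 T := by rw [hT]; exact hT₀2.map _
  refine ⟨T, hT2, ?_⟩
  obtain ⟨N₁, hN₁⟩ : ∃ N₁ : Subgroup K, N₁ = Subgroup.normalizer (T₀ : Set K) := ⟨_, rfl⟩
  rw [← hN₁] at hfr
  -- the surjection onto `S₃`
  obtain ⟨f, hf⟩ : ∃ f : N₁ →* Perm (Fin 3), f = ρ.comp (φ.comp N₁.subtype) := ⟨_, rfl⟩
  have hfs : Function.Surjective f := by
    intro τ
    obtain ⟨σ, hσ⟩ := hρs τ
    obtain ⟨k, hk⟩ := hφ σ
    have hkmem : k ∈ N₁ ⊔ V₁ := by rw [hfr]; exact Subgroup.mem_top _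
    rw [← SetLike.mem_coe, Subgroup.mul_normal, Set.mem_mul] at hkmem
    obtain ⟨n, hn, v, hv, hnv⟩ := hkmem
    refine ⟨⟨n, hn⟩, ?_⟩
    rw [hf]
    show ρ (φ n) = τ
    have h1 : ρ (φ v) = 1 := hρV _ ((hmemV₁ v).1 hv)
    rw [← hσ, ← hk, ← hnv, map_mul, map_mul, h1, mul_one]
  -- the map into the automizer
  have hNT : ∀ x : N₁, ((x : K) : G) ∈ Subgroup.normalizer (T : Set G) := by
    intro x
    have h1 : (x : K) ∈ Subgroup.normalizer (T₀ : Set K) := hN₁ ▸ x.2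
    have h2 := Subgroup.le_normalizer_map K.subtype (H := T₀) (Subgroup.mem_map_of_mem _ h1)
    rw [hT]; exact h2
  let j : N₁ →* Subgroup.normalizer (T : Set G) :=
    (K.subtype.comp N₁.subtype).codRestrict _ hNT
  refine involves_of_maps_ker ((QuotientGroup.mk' _).comp j) f hfs ?_
  intro x hx
  rw [MonoidHom.comp_apply, QuotientGroup.mk'_apply, QuotientGroup.eq_one_iff,
    Subgroup.mem_subgroupOf] at hx
  have hx' : ((x : K) : G) ∈ Subgroup.centralizer (T : Set G) := hx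
  -- `x` centralizes `T₀`, so `φ x` centralizes `V4`
  have hcent : ∀ t ∈ T₀, (x : K) * t = t * (x : K) := by
    intro t ht
    have h1 : (t : G) ∈ T := by rw [hT]; exact Subgroup.mem_map_of_mem _ ht
    have h2 := (Subgroup.mem_centralizer_iff.1 hx') (t : G) h1
    apply Subtype.ext
    exact h2.symm
  have hφx : φ (x : K) ∈ V4 := by
    rw [mem_V4]
    apply V4_cent
    · obtain ⟨t, ht, htv⟩ := honto (swap 0 1 * swap 2 3)
        ((mem_V4 _).2 (Or.inr (Or.inl rfl)))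
      rw [← htv, ← map_mul, ← map_mul, hcent t ht]
    · obtain ⟨t, ht, htv⟩ := honto (swap 0 2 * swap 1 3)
        ((mem_V4 _).2 (Or.inr (Or.inr (Or.inl rfl))))
      rw [← htv, ← map_mul, ← map_mul, hcent t ht]
  rw [hf]
  exact hρV _ hφx

end SFour

end Cfsg.Agent.Helper1
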