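import Mathlib
import Cfsg.Prelude.Def_GeometricClasses
import Cfsg.Agent.Helper8.QuadForm

set_option autoImplicit false
set_option linter.unusedSectionVars false

/-! Elements of `SL_n(F)` and similarity groups of quadratic forms (row S5981): the framework
(helper1). -/

namespace Cfsg.Agent.Helper1.SLO

open Matrix Module Cfsg Cfsg.Geo Cfsg.Agent.Helper8.QuadForm

variable {F : Type*} [Field F] {n : ℕ}

/-- the number of singular vectors. -/
noncomputable def nu (Q : (Fin n → F) → F) : ℕ := Nat.card {v : Fin n → F // Q v = 0}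

/-- `x` is a similarity of no nondegenerate quadratic form with `k` singular vectors. -/
def NoSimQ (x : Matrix (Fin n) (Fin n) F) (k : ℕ) : Prop :=
  ∀ Q' : (Fin n → F) → F, IsNondegenerateQuadraticForm Q' → nu Q' = k → ∀ c : Fˣ,
    ¬ ∀ v, Q' (x *ᵥ v) = (c : F) * Q' v

/-- the pull back of a form along a matrix. -/
def pullQ (Q : (Fin n → F) → F) (g : Matrix (Fin n) (Fin n) F) : (Fin n → F) → F :=
  fun v => Q (g *ᵥ v)

theorem polar_pullQ (Q : (Fin n → F) → F) (g : Matrix (Fin n) (Fin n) F) (u v : Fin n → F) :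
    QuadraticMap.polar (pullQ Q g) u v = QuadraticMap.polar Q (g *ᵥ u) (g *ᵥ v) := by
  unfold QuadraticMap.polar pullQ
  rw [mulVec_add]

theorem pullQ_nondeg {Q : (Fin n → F) → F} (hQ : IsNondegenerateQuadraticForm Q)
    (g : GL (Fin n) F) : IsNondegenerateQuadraticForm (pullQ Q (g : Matrix (Fin n) (Fin n) F)) := by
  have hinv : ∀ w : Fin n → F, (g : Matrix (Fin n) (Fin n) F) *ᵥ
      (((g⁻¹ : GL (Fin n) F) : Matrix (Fin n) (Fin n) F) *ᵥ w) = w := by
    intro w
    rw [mulVec_mulVec, ← Units.val_mul, mul_inv_cancel, Units.val_one, one_mulVec]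
  have hinv' : ∀ w : Fin n → F, ((g⁻¹ : GL (Fin n) F) : Matrix (Fin n) (Fin n) F) *ᵥ
      ((g : Matrix (Fin n) (Fin n) F) *ᵥ w) = w := by
    intro w
    rw [mulVec_mulVec, ← Units.val_mul, inv_mul_cancel, Units.val_one, one_mulVec]
  refine ⟨?_, ⟨?_, ?_, ?_, ?_⟩, ?_⟩
  · intro c v
    show Q _ = c ^ 2 * Q _
    rw [mulVec_smul, hQ.smul]
  · intro x y v
    rw [polar_pullQ, polar_pullQ, polar_pullQ, mulVec_add, hQ.polar_bilinear.add_left]
  · intro c x v
    rw [polar_pullQ, polar_pullQ, mulVec_smul, hQ.polar_bilinear.smul_left]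
  · intro v x y
    rw [polar_pullQ, polar_pullQ, polar_pullQ, mulVec_add, hQ.polar_bilinear.add_right]
  · intro c v x
    rw [polar_pullQ, polar_pullQ, mulVec_smul, hQ.polar_bilinear.smul_right]
  · intro v hv
    have hgv : (g : Matrix (Fin n) (Fin n) F) *ᵥ v ≠ 0 := by
      intro h
      apply hv
      rw [← hinv' v, h, mulVec_zero]
    obtain ⟨⟨x, hx⟩, ⟨y, hy⟩⟩ := hQ.nondegenerate _ hgv
    refine ⟨⟨((g⁻¹ : GL (Fin n) F) : Matrix (Fin n) (Fin n) F) *ᵥ x, ?_⟩,
      ⟨((g⁻¹ : GL (Fin n) F) : Matrix (Fin n) (Fin n) F) *ᵥ y, ?_⟩⟩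
    · rw [polar_pullQ, hinv]
      exact hx
    · rw [polar_pullQ, hinv]
      exact hy

theorem nu_pullQ (Q : (Fin n → F) → F) (g : GL (Fin n) F) :
    nu (pullQ Q (g : Matrix (Fin n) (Fin n) F)) = nu Q := by
  have hinv : ∀ w : Fin n → F, (g : Matrix (Fin n) (Fin n) F) *ᵥ
      (((g⁻¹ : GL (Fin n) F) : Matrix (Fin n) (Fin n) F) *ᵥ w) = w := by
    intro w
    rw [mulVec_mulVec, ← Units.val_mul, mul_inv_cancel, Units.val_one, one_mulVec]
  have hinv' : ∀ w : Fin n → F, ((g⁻¹ : GL (Fin n) F) : Matrix (Fin n) (Fin n) F) *ᵥ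
      ((g : Matrix (Fin n) (Fin n) F) *ᵥ w) = w := by
    intro w
    rw [mulVec_mulVec, ← Units.val_mul, inv_mul_cancel, Units.val_one, one_mulVec]
  unfold nu
  refine Nat.card_congr
    { toFun := fun v => ⟨(g : Matrix (Fin n) (Fin n) F) *ᵥ v.1, v.2⟩
      invFun := fun w => ⟨((g⁻¹ : GL (Fin n) F) : Matrix (Fin n) (Fin n) F) *ᵥ w.1, ?_⟩
      left_inv := fun v => Subtype.ext (hinv' v.1)
      right_inv := fun w => Subtype.ext (hinv w.1) }
  show Q _ = 0
  rw [hinv]
  exact w.2

/-- the framework: an element that is a similarity of no form with the same number of singular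
vectors as `Q` has no conjugate in the similarity group of `Q`. -/
theorem not_mem_of_noSimQ {Q : (Fin n → F) → F} (hQ : IsNondegenerateQuadraticForm Q)
    (x g : GL (Fin n) F) (hx : NoSimQ (x : Matrix (Fin n) (Fin n) F) (nu Q)) :
    g⁻¹ * x * g ∉ quadSimilarityGroup Q := by
  rintro ⟨c, hc⟩
  apply hx (pullQ Q ((g⁻¹ : GL (Fin n) F) : Matrix (Fin n) (Fin n) F)) (pullQ_nondeg hQ g⁻¹)
    (nu_pullQ Q g⁻¹) c
  intro v
  have h := hc (((g⁻¹ : GL (Fin n) F) : Matrix (Fin n) (Fin n) F) *ᵥ v)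
  have e : ((g⁻¹ * x * g : GL (Fin n) F) : Matrix (Fin n) (Fin n) F) *ᵥ
      (((g⁻¹ : GL (Fin n) F) : Matrix (Fin n) (Fin n) F) *ᵥ v) =
      ((g⁻¹ : GL (Fin n) F) : Matrix (Fin n) (Fin n) F) *ᵥ
        ((x : Matrix (Fin n) (Fin n) F) *ᵥ v) := by
    rw [mulVec_mulVec, mulVec_mulVec, ← Units.val_mul, ← Units.val_mul]
    congr 2
    group
  rw [e] at h
  exact h

/-- a nonzero scalar multiple of such an element is again such an element. -/
theorem NoSimQ.smul {x : Matrix (Fin n) (Fin n) F} {k : ℕ} (hx : NoSimQ x k) (a : F) (ha : a ≠ 0) :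
    NoSimQ (a • x) k := by
  intro Q' hQ' hk c hc
  apply hx Q' hQ' hk (c * (Units.mk0 a ha ^ 2)⁻¹)
  intro v
  have h := hc v
  rw [smul_mulVec, hQ'.smul] at h
  rw [Units.val_mul, Units.val_inv_eq_inv_val, Units.val_pow_eq_pow_val, Units.val_mk0]
  have ha2 : a ^ 2 ≠ 0 := pow_ne_zero 2 ha
  field_simp
  linear_combination h

/-- bundle a function satisfying the frozen predicate into a quadratic form. -/
noncomputable def bundleQ (Q : (Fin n → F) → F) (h : IsNondegenerateQuadraticForm Q) :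
    QuadraticForm F (Fin n → F) where
  toFun := Q
  toFun_smul := fun a x => by rw [h.smul, sq, smul_eq_mul]
  exists_companion' := ⟨LinearMap.mk₂ F (QuadraticMap.polar Q) h.polar_bilinear.add_left
    (fun c m n => by rw [h.polar_bilinear.smul_left, smul_eq_mul]) h.polar_bilinear.add_right
    (fun c m n => by rw [h.polar_bilinear.smul_right, smul_eq_mul]), fun x y => by
      simp only [LinearMap.mk₂_apply, QuadraticMap.polar]
      ring⟩

theorem bundleQ_apply (Q : (Fin n → F) → F) (h : IsNondegenerateQuadraticForm Q) (v : Fin n → F) :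
    bundleQ Q h v = Q v := rfl

theorem bundleQ_nondeg (Q : (Fin n → F) → F) (h : IsNondegenerateQuadraticForm Q) :
    Nondeg (bundleQ Q h) := by
  intro v hv
  by_contra hne
  obtain ⟨-, ⟨x, hx⟩⟩ := h.nondegenerate v hne
  exact hx (hv x)

/-- a nondegenerate quadratic form satisfies the frozen predicate. -/
theorem isNondeg_of_form (Q' : QuadraticForm F (Fin n → F)) (h : Nondeg Q') :
    IsNondegenerateQuadraticForm (fun v => Q' v) := by
  refine ⟨?_, ⟨?_, ?_, ?_, ?_⟩, ?_⟩
  · intro c v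
    show Q' (c • v) = c ^ 2 * Q' v
    rw [QuadraticMap.map_smul, smul_eq_mul, sq]
  · intro x y v
    exact QuadraticMap.polar_add_left Q' x y v
  · intro c x v
    exact QuadraticMap.polar_smul_left Q' c x v
  · intro v x y
    exact QuadraticMap.polar_add_right Q' v x y
  · intro c v x
    exact QuadraticMap.polar_smul_right Q' c v x
  · intro v hv
    have h1 : ∃ x, QuadraticMap.polar Q' v x ≠ 0 := by
      by_contra hcon
      apply hv
      apply h
      intro w
      by_contra hw
      exact hcon ⟨w, hw⟩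
    obtain ⟨x, hx⟩ := h1
    refine ⟨⟨x, ?_⟩, ⟨x, hx⟩⟩
    show QuadraticMap.polar Q' x v ≠ 0
    rw [QuadraticMap.polar_comm]
    exact hx

universe u

variable {E : Type u} [AddCommGroup E] [Module F E]

/-- the matrix of an endomorphism in a basis is a similarity of no quadratic form with `k`
singular vectors, if the endomorphism is a similarity of no such form. -/
theorem noSimQ_of_basis (b : Basis (Fin n) F E) (φ : E →ₗ[F] E) (k : ℕ)
    (H : ∀ Q' : QuadraticForm F E, Nondeg Q' → Nat.card {v : E // Q' v = 0} = k → ∀ c : Fˣ,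
      ¬ ∀ u, Q' (φ u) = (c : F) * Q' u) :
    NoSimQ (LinearMap.toMatrix b b φ) k := by
  intro Q₀ hQ₀ hk c hc
  apply H ((bundleQ Q₀ hQ₀).comp b.equivFun.toLinearMap) ?_ ?_ c
  · intro u
    rw [QuadraticMap.comp_apply, QuadraticMap.comp_apply, bundleQ_apply, bundleQ_apply]
    have e : b.equivFun.toLinearMap (φ u) =
        LinearMap.toMatrix b b φ *ᵥ b.equivFun.toLinearMap u :=
      (LinearMap.toMatrix_mulVec_repr b b φ u).symm
    rw [e]
    exact hc _
  · intro v hv
    have h1 : b.equivFun v = 0 := by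
      apply bundleQ_nondeg Q₀ hQ₀
      intro w
      have h2 := hv (b.equivFun.symm w)
      have h3 : QuadraticMap.polar (⇑((bundleQ Q₀ hQ₀).comp b.equivFun.toLinearMap)) v
          (b.equivFun.symm w) =
          QuadraticMap.polar (⇑(bundleQ Q₀ hQ₀)) (b.equivFun v) (b.equivFun (b.equivFun.symm w)) := by
        unfold QuadraticMap.polar
        rw [QuadraticMap.comp_apply, QuadraticMap.comp_apply, QuadraticMap.comp_apply, map_add]
        rfl
      rw [h3, LinearEquiv.apply_symm_apply] at h2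
      exact h2
    exact b.equivFun.map_eq_zero_iff.mp h1
  · rw [← hk]
    unfold nu
    refine Nat.card_congr
      { toFun := fun v => ⟨b.equivFun v.1, v.2⟩
        invFun := fun w => ⟨b.equivFun.symm w.1, ?_⟩
        left_inv := fun v => Subtype.ext (b.equivFun.symm_apply_apply v.1)
        right_inv := fun w => Subtype.ext (b.equivFun.apply_symm_apply w.1) }
    rw [QuadraticMap.comp_apply, bundleQ_apply]
    simp only [LinearEquiv.coe_coe, LinearEquiv.apply_symm_apply]
    exact w.2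

end Cfsg.Agent.Helper1.SLO
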