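import Mathlib
import Cfsg.Agent.Helper1.SLOA
import Cfsg.Agent.Helper7.SLSpD

set_option autoImplicit false
set_option linter.unusedSectionVars false

/-! Row S5981, the case `r = p`: a transvection is a similarity of no nondegenerate quadratic
form in odd characteristic (helper1). -/

namespace Cfsg.Agent.Helper1.SLO

open Matrix Module Cfsg Cfsg.Geo Cfsg.Agent.Helper7.SLMax Cfsg.Agent.Helper7.SLSp

variable {F : Type*} [Field F] {n : ℕ}

/-- a vector orthogonal to all standard basis vectors is zero. -/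
theorem radicalQ {Q' : (Fin n → F) → F} (hQ' : IsNondegenerateQuadraticForm Q')
    (u : Fin n → F) (h : ∀ j, QuadraticMap.polar Q' (ev j) u = 0) : u = 0 := by
  by_contra hu
  have h1 : cov (QuadraticMap.polar Q') u = 0 := by
    funext j
    exact h j
  obtain ⟨⟨x, hx⟩, -⟩ := hQ'.nondegenerate u hu
  apply hx
  rw [← cov_dot hQ'.polar_bilinear, h1, zero_dotProduct]

theorem polar_symm (Q' : (Fin n → F) → F) (u v : Fin n → F) :
    QuadraticMap.polar Q' u v = QuadraticMap.polar Q' v u := QuadraticMap.polar_comm Q' u v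

theorem map_add_eq (Q' : (Fin n → F) → F) (u v : Fin n → F) :
    Q' (u + v) = Q' u + Q' v + QuadraticMap.polar Q' u v := by
  unfold QuadraticMap.polar
  ring

theorem polar_self_eq {Q' : (Fin n → F) → F} (hQ' : IsNondegenerateQuadraticForm Q')
    (u : Fin n → F) : QuadraticMap.polar Q' u u = 2 * Q' u := by
  unfold QuadraticMap.polar
  have : u + u = (2 : F) • u := (two_smul F u).symm
  rw [this, hQ'.smul]
  ring

/-- a nondegenerate form takes a nonzero value (if `n ≥ 1`). -/
theorem exists_ne_zero (hn : 0 < n) {Q' : (Fin n → F) → F}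
    (hQ' : IsNondegenerateQuadraticForm Q') : ∃ v, Q' v ≠ 0 := by
  by_contra hcon
  have h0 : ∀ v, Q' v = 0 := by
    intro v
    by_contra hv
    exact hcon ⟨v, hv⟩
  have hne : (ev ⟨0, hn⟩ : Fin n → F) ≠ 0 := ev_ne_zero _
  obtain ⟨⟨x, hx⟩, -⟩ := hQ'.nondegenerate _ hne
  apply hx
  unfold QuadraticMap.polar
  rw [h0, h0, h0]
  ring

/-- the multiplier of a power. -/
theorem sim_pow {Q' : (Fin n → F) → F} (x : Matrix (Fin n) (Fin n) F) (c : F)
    (hc : ∀ v, Q' (x *ᵥ v) = c * Q' v) (k : ℕ) (v : Fin n → F) :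
    Q' ((x ^ k) *ᵥ v) = c ^ k * Q' v := by
  induction k generalizing v with
  | zero => rw [pow_zero, one_mulVec, pow_zero, one_mul]
  | succ k ih =>
    rw [pow_succ, ← mulVec_mulVec, ih, hc, pow_succ, mul_assoc]

/-- if `x ^ k = 1` then the multiplier is a `k`-th root of unity. -/
theorem mult_pow_eq_one (hn : 0 < n) {Q' : (Fin n → F) → F}
    (hQ' : IsNondegenerateQuadraticForm Q') (x : Matrix (Fin n) (Fin n) F) (c : F)
    (hc : ∀ v, Q' (x *ᵥ v) = c * Q' v) (k : ℕ) (hx : x ^ k = 1) : c ^ k = 1 := by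
  obtain ⟨v, hv⟩ := exists_ne_zero hn hQ'
  have h := sim_pow x c hc k v
  rw [hx, one_mulVec] at h
  have h' : (1 : F) * Q' v = c ^ k * Q' v := by rw [one_mul]; exact h
  exact (mul_right_cancel₀ hv h').symm

theorem transvection_mulVec {i0 i1 : Fin n} (w : Fin n → F) :
    (transvection i0 i1 (1 : F)) *ᵥ w = w + w i1 • ev i0 := by
  unfold transvection
  rw [add_mulVec, one_mulVec, single_mulVec_eq, one_mul]
  rfl

/-- the case `r = p`. -/
theorem exists_case_char {p : ℕ} [hp : Fact p.Prime] [CharP F p] (hn : 3 ≤ n) (hp2 : p ≠ 2)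
    (k : ℕ) :
    ∃ x : Matrix (Fin n) (Fin n) F, x.det = 1 ∧ x ^ p = 1 ∧
      (∀ z : F, x ≠ z • (1 : Matrix (Fin n) (Fin n) F)) ∧ NoSimQ x k := by
  have h2 : (2 : F) ≠ 0 := by
    intro h
    have h1 : ((2 : ℕ) : F) = 0 := by exact_mod_cast h
    have h3 := (CharP.cast_eq_zero_iff F p 2).mp h1
    exact hp2 ((Nat.prime_dvd_prime_iff_eq hp.out Nat.prime_two).mp h3)
  set i0 : Fin n := ⟨0, by omega⟩ with hi0
  set i1 : Fin n := ⟨1, by omega⟩ with hi1
  have h01 : i0 ≠ i1 := by rw [hi0, hi1, Ne, Fin.mk.injEq]; omega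
  have hpow : (transvection i0 i1 (1 : F)) ^ p = 1 := by
    have : Nonempty (Fin n) := ⟨i0⟩
    unfold transvection
    rw [add_pow_char_of_commute p (Commute.one_left _), one_pow]
    have e : p = 2 + (p - 2) := by
      have := hp.out.two_le
      omega
    have hsq : (single i0 i1 (1 : F)) ^ 2 = 0 := by
      rw [pow_two, single_mul_single_of_ne _ _ _ _ (Ne.symm h01)]
    rw [e, pow_add, hsq, zero_mul, add_zero]
  refine ⟨transvection i0 i1 1, det_transvection_of_ne _ _ h01 _, hpow, ?_, ?_⟩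
  · intro z hz
    have h1 : ((transvection i0 i1 (1 : F)) *ᵥ (ev i1 : Fin n → F)) i0 =
        ((z • (1 : Matrix (Fin n) (Fin n) F)) *ᵥ (ev i1 : Fin n → F)) i0 := by rw [hz]
    rw [transvection_mulVec, smul_mulVec, one_mulVec, Pi.add_apply, Pi.smul_apply,
      Pi.smul_apply] at h1
    have e1 : (ev i1 : Fin n → F) i0 = 0 := Pi.single_eq_of_ne h01 1
    have e2 : (ev i0 : Fin n → F) i0 = 1 := Pi.single_eq_same i0 1
    have e3 : (ev i1 : Fin n → F) i1 = 1 := Pi.single_eq_same i1 1
    rw [e1, e2, e3, zero_add, smul_zero, smul_eq_mul, mul_one] at h1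
    exact one_ne_zero h1
  · intro Q' hQ' _ c hc
    -- the multiplier is trivial
    have hcp : (c : F) ^ p = 1 := mult_pow_eq_one (by omega) hQ' _ c hc p hpow
    have hc1 : (c : F) = 1 := by
      have h3 : ((c : F) - 1) ^ p = 0 := by
        rw [sub_pow_char, hcp, one_pow, sub_self]
      exact sub_eq_zero.mp (pow_eq_zero_iff (hp.out.ne_zero) |>.mp h3)
    have hb := hQ'.polar_bilinear
    -- the basic identity
    have key : ∀ v : Fin n → F, v i1 * (QuadraticMap.polar Q' v (ev i0) + v i1 * Q' (ev i0)) = 0 := by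
      intro v
      have h := hc v
      rw [hc1, one_mul, transvection_mulVec, map_add_eq Q', hQ'.smul, hb.smul_right] at h
      linear_combination h
    have hk1 := key (ev i1)
    have e3 : (ev i1 : Fin n → F) i1 = 1 := Pi.single_eq_same i1 1
    rw [e3, one_mul, one_mul] at hk1
    have hj : ∀ j, j ≠ i1 → QuadraticMap.polar Q' (ev j) (ev i0) = 0 := by
      intro j hj
      have hk2 := key (ev i1 + ev j)
      have e4 : (ev j : Fin n → F) i1 = 0 := Pi.single_eq_of_ne (Ne.symm hj) 1
      rw [Pi.add_apply, e3, e4, add_zero, one_mul, one_mul, hb.add_left] at hk2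
      linear_combination hk2 - hk1
    have hQ0 : Q' (ev i0) = 0 := by
      have h3 := hj i0 h01
      rw [polar_self_eq hQ'] at h3
      exact (mul_eq_zero.mp h3).resolve_left h2
    rw [hQ0, add_zero] at hk1
    apply ev_ne_zero (F := F) i0
    apply radicalQ hQ'
    intro j
    by_cases hji : j = i1
    · rw [hji]; exact hk1
    · exact hj j hji

end Cfsg.Agent.Helper1.SLO
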