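import Mathlib
import Cfsg.Agent.Helper1.SLOB
import Cfsg.Agent.Helper7.SLSpD
import Cfsg.Agent.Helper7.SingerJ

set_option autoImplicit false
set_option linter.unusedSectionVars false

/-! Row S5981, the case `r ∣ q - 1`: diagonal elements that are similarities of no nondegenerate
quadratic form (helper1; adapted from helper7's `SLSpD`, `SLSpE`). -/

namespace Cfsg.Agent.Helper1.SLO

open Matrix Module Cfsg Cfsg.Geo Cfsg.Agent.Helper7.SLMax Cfsg.Agent.Helper7.SLSp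

open scoped Classical

variable {F : Type*} [Field F] {n : ℕ}

theorem gram_det_ne_zeroQ {Q' : (Fin n → F) → F} (hQ' : IsNondegenerateQuadraticForm Q') :
    (gram (QuadraticMap.polar Q')).det ≠ 0 := by
  intro h
  obtain ⟨v, hv, hvG⟩ := exists_vecMul_eq_zero_iff.mpr h
  have h1 : ∀ j, QuadraticMap.polar Q' v (ev j) = 0 := by
    intro j
    have h2 := congrFun hvG j
    rw [← cov_dot hQ'.polar_bilinear, dotProduct_comm]
    exact h2
  apply hv
  apply radicalQ hQ'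
  intro j
  rw [polar_symm]
  exact h1 j

/-- a permutation along which the Gram matrix does not vanish. -/
theorem exists_permQ {Q' : (Fin n → F) → F} (hQ' : IsNondegenerateQuadraticForm Q') :
    ∃ σ : Equiv.Perm (Fin n), ∀ i, QuadraticMap.polar Q' (ev (σ i)) (ev i) ≠ 0 := by
  by_contra hcon
  apply gram_det_ne_zeroQ hQ'
  rw [det_apply]
  apply Finset.sum_eq_zero
  intro σ _
  have hex : ∃ i, QuadraticMap.polar Q' (ev (σ i)) (ev i) = 0 := by
    by_contra hno
    apply hcon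
    refine ⟨σ, fun i hi => hno ⟨i, hi⟩⟩
  obtain ⟨i, hi⟩ := hex
  have : ∏ i, gram (QuadraticMap.polar Q') (σ i) i = 0 :=
    Finset.prod_eq_zero (Finset.mem_univ i) hi
  rw [this, smul_zero]

/-- a similarity of a quadratic form is a similarity of its polar form. -/
theorem polar_sim {Q' : (Fin n → F) → F} (x : Matrix (Fin n) (Fin n) F) (c : F)
    (hc : ∀ v, Q' (x *ᵥ v) = c * Q' v) (u v : Fin n → F) :
    QuadraticMap.polar Q' (x *ᵥ u) (x *ᵥ v) = c * QuadraticMap.polar Q' u v := by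
  unfold QuadraticMap.polar
  rw [← mulVec_add, hc, hc, hc]
  ring

/-- the symmetry of the multiplicities. -/
theorem cnt_symmQ {Q' : (Fin n → F) → F} (hQ' : IsNondegenerateQuadraticForm Q')
    (d : Fin n → F) (c : Fˣ)
    (hc : ∀ v, Q' (diagonal d *ᵥ v) = (c : F) * Q' v)
    (μ : F) (hμ : μ ≠ 0) : cnt d μ = cnt d ((c : F) / μ) := by
  obtain ⟨σ, hσ⟩ := exists_permQ hQ'
  have h1 : ∀ i, d (σ i) * d i = (c : F) := by
    intro i
    have h2 := polar_sim _ _ hc (ev (σ i)) (ev i)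
    rw [diagonal_mulVec_ev, diagonal_mulVec_ev, hQ'.polar_bilinear.smul_left,
      hQ'.polar_bilinear.smul_right, ← mul_assoc] at h2
    exact mul_right_cancel₀ (hσ i) h2
  unfold cnt
  apply Finset.card_equiv σ
  intro i
  simp only [Finset.mem_filter, Finset.mem_univ, true_and]
  constructor
  · intro h
    rw [eq_div_iff hμ, ← h]
    exact h1 i
  · intro h
    have h2 := h1 i
    rw [h, div_mul_eq_mul_div, div_eq_iff hμ] at h2
    exact mul_left_cancel₀ c.ne_zero h2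

theorem diag_noSimQ_big {i0 i1 i2 : Fin n} (h01 : i0 ≠ i1) (h12 : i1 ≠ i2) (h02 : i0 ≠ i2)
    (hn3 : 3 ≤ n) (ω : F) (h0 : ω ≠ 0) (h1 : ω ≠ 1) (h2 : ω ^ 2 ≠ 1)
    (h3 : ω ^ 3 ≠ 1) (h4 : ω ^ 4 ≠ 1) (h6 : ω ^ 6 ≠ 1) (h5 : n = 5 → ω ^ 5 ≠ 1) (k : ℕ) :
    NoSimQ (diagonal (dAB {i0, i1} {i2} ω (ω⁻¹ * ω⁻¹)) : Matrix (Fin n) (Fin n) F) k := by
  intro Q' hQ' _ c hc
  have hab : ω ≠ ω⁻¹ * ω⁻¹ := by
    intro h
    apply h3
    have : ω ^ 3 = ω ^ 2 * (ω⁻¹ * ω⁻¹) := by rw [← h]; ring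
    rw [this]
    field_simp
  have hb1 : ω⁻¹ * ω⁻¹ ≠ 1 := by
    intro h
    apply h2
    have : ω ^ 2 = ω ^ 2 * (ω⁻¹ * ω⁻¹) := by rw [h, mul_one]
    rw [this]
    field_simp
  have hb0 : ω⁻¹ * ω⁻¹ ≠ 0 := mul_ne_zero (inv_ne_zero h0) (inv_ne_zero h0)
  have hdisj : Disjoint ({i0, i1} : Finset (Fin n)) {i2} := by
    rw [Finset.disjoint_singleton_right, Finset.mem_insert, Finset.mem_singleton, not_or]
    exact ⟨Ne.symm h02, Ne.symm h12⟩
  have hcA : ({i0, i1} : Finset (Fin n)).card = 2 := Finset.card_pair h01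
  have hcB : ({i2} : Finset (Fin n)).card = 1 := Finset.card_singleton i2
  have hcAB : (({i0, i1} : Finset (Fin n)) ∪ {i2}).card = 3 := by
    rw [Finset.card_union_of_disjoint hdisj, hcA, hcB]
  have ca := cnt_a ({i0, i1} : Finset (Fin n)) {i2} ω (ω⁻¹ * ω⁻¹) hab h1
  have cb := cnt_b ({i0, i1} : Finset (Fin n)) {i2} ω (ω⁻¹ * ω⁻¹) hdisj hab hb1
  have c1 := cnt_one ({i0, i1} : Finset (Fin n)) {i2} ω (ω⁻¹ * ω⁻¹) h1 hb1
  rw [hcA] at ca
  rw [hcB] at cb
  rw [hcAB] at c1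
  have sym := cnt_symmQ hQ' _ c hc
  -- step 1
  have s1 := sym ω h0
  rw [ca] at s1
  have s2 := sym (ω⁻¹ * ω⁻¹) hb0
  rw [cb] at s2
  by_cases hcω : (c : F) / ω = ω
  · have hcval : (c : F) = ω * ω := by
      rw [div_eq_iff h0] at hcω
      exact hcω
    rw [hcval] at s2
    have e4 : ω * ω / (ω⁻¹ * ω⁻¹) = ω ^ 4 := by
      field_simp
    rw [e4] at s2
    have n1 : ω ^ 4 ≠ ω := by
      intro h
      apply h3
      have : ω ^ 3 * ω = 1 * ω := by
        rw [one_mul]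
        calc ω ^ 3 * ω = ω ^ 4 := by ring
          _ = ω := h
      exact mul_right_cancel₀ h0 this
    have n2 : ω ^ 4 ≠ ω⁻¹ * ω⁻¹ := by
      intro h
      apply h6
      have : ω ^ 6 = ω ^ 2 * ω ^ 4 := by ring
      rw [this, h]
      field_simp
    rw [cnt_other _ _ _ _ _ n1 n2 h4] at s2
    omega
  · by_cases hb : (c : F) / ω = ω⁻¹ * ω⁻¹
    · rw [hb, cb] at s1
      omega
    by_cases h1' : (c : F) / ω = 1
    · rw [h1', c1] at s1
      have hn5 : n = 5 := by omega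
      have hcval : (c : F) = ω := by
        rw [div_eq_iff h0, one_mul] at h1'
        exact h1'
      rw [hcval] at s2
      have e3 : ω / (ω⁻¹ * ω⁻¹) = ω ^ 3 := by
        field_simp
      rw [e3] at s2
      have n1 : ω ^ 3 ≠ ω := by
        intro h
        apply h2
        have : ω ^ 2 * ω = 1 * ω := by
          rw [one_mul]
          calc ω ^ 2 * ω = ω ^ 3 := by ring
            _ = ω := h
        exact mul_right_cancel₀ h0 this
      have n2 : ω ^ 3 ≠ ω⁻¹ * ω⁻¹ := by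
        intro h
        apply h5 hn5
        have : ω ^ 5 = ω ^ 2 * ω ^ 3 := by ring
        rw [this, h]
        field_simp
      rw [cnt_other _ _ _ _ _ n1 n2 h3] at s2
      omega
    · rw [cnt_other _ _ _ _ _ hcω hb h1'] at s1
      omega

theorem diag_noSimQ_three {i0 i1 i2 : Fin n} (h01 : i0 ≠ i1) (h12 : i1 ≠ i2) (h02 : i0 ≠ i2)
    (hn4 : 4 ≤ n) (hn6 : n ≠ 6) (ω : F) (h0 : ω ≠ 0) (h1 : ω ≠ 1) (h2 : ω ^ 2 ≠ 1) (k : ℕ) :
    NoSimQ (diagonal (dAB {i0, i1, i2} ∅ ω (ω * ω)) : Matrix (Fin n) (Fin n) F) k := by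
  intro Q' hQ' _ c hc
  have hab : ω ≠ ω * ω := by
    intro h
    apply h1
    have : ω * 1 = ω * ω := by rw [mul_one]; exact h
    exact (mul_left_cancel₀ h0 this).symm
  have hb1 : ω * ω ≠ 1 := by
    rw [← pow_two]
    exact h2
  have hdisj : Disjoint ({i0, i1, i2} : Finset (Fin n)) ∅ := Finset.disjoint_empty_right _
  have hcA : ({i0, i1, i2} : Finset (Fin n)).card = 3 := by
    rw [Finset.card_insert_of_notMem, Finset.card_pair h12]
    rw [Finset.mem_insert, Finset.mem_singleton, not_or]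
    exact ⟨h01, h02⟩
  have hcAB : (({i0, i1, i2} : Finset (Fin n)) ∪ ∅).card = 3 := by
    rw [Finset.union_empty, hcA]
  have ca := cnt_a ({i0, i1, i2} : Finset (Fin n)) ∅ ω (ω * ω) hab h1
  have cb := cnt_b ({i0, i1, i2} : Finset (Fin n)) ∅ ω (ω * ω) hdisj hab hb1
  have c1 := cnt_one ({i0, i1, i2} : Finset (Fin n)) ∅ ω (ω * ω) h1 hb1
  rw [hcA] at ca
  rw [Finset.card_empty] at cb
  rw [hcAB] at c1
  have sym := cnt_symmQ hQ' _ c hc
  have s1 := sym ω h0
  rw [ca] at s1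
  have hcω : (c : F) / ω = ω := by
    by_contra hne
    by_cases hb : (c : F) / ω = ω * ω
    · rw [hb, cb] at s1
      omega
    by_cases h1' : (c : F) / ω = 1
    · rw [h1', c1] at s1
      omega
    · rw [cnt_other _ _ _ _ _ hne hb h1'] at s1
      omega
  have hcval : (c : F) = ω * ω := by
    rw [div_eq_iff h0] at hcω
    exact hcω
  have s2 := sym 1 one_ne_zero
  rw [c1, div_one, hcval, cb] at s2
  omega

theorem diag_noSimQ_one {i0 : Fin n} (hn3 : 3 ≤ n) (ω : F) (h0 : ω ≠ 0) (h1 : ω ≠ 1)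
    (h2 : ω ^ 2 ≠ 1) (k : ℕ) :
    NoSimQ (diagonal (dAB {i0} ∅ ω (ω * ω)) : Matrix (Fin n) (Fin n) F) k := by
  intro Q' hQ' _ c hc
  have hab : ω ≠ ω * ω := by
    intro h
    apply h1
    have : ω * 1 = ω * ω := by rw [mul_one]; exact h
    exact (mul_left_cancel₀ h0 this).symm
  have hb1 : ω * ω ≠ 1 := by
    rw [← pow_two]
    exact h2
  have hdisj : Disjoint ({i0} : Finset (Fin n)) ∅ := Finset.disjoint_empty_right _
  have hcA : ({i0} : Finset (Fin n)).card = 1 := Finset.card_singleton i0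
  have hcAB : (({i0} : Finset (Fin n)) ∪ ∅).card = 1 := by
    rw [Finset.union_empty, hcA]
  have ca := cnt_a ({i0} : Finset (Fin n)) ∅ ω (ω * ω) hab h1
  have cb := cnt_b ({i0} : Finset (Fin n)) ∅ ω (ω * ω) hdisj hab hb1
  have c1 := cnt_one ({i0} : Finset (Fin n)) ∅ ω (ω * ω) h1 hb1
  rw [hcA] at ca
  rw [Finset.card_empty] at cb
  rw [hcAB] at c1
  have sym := cnt_symmQ hQ' _ c hc
  have s1 := sym ω h0
  rw [ca] at s1
  have hcω : (c : F) / ω = ω := by
    by_contra hne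
    by_cases hb : (c : F) / ω = ω * ω
    · rw [hb, cb] at s1
      omega
    by_cases h1' : (c : F) / ω = 1
    · rw [h1', c1] at s1
      omega
    · rw [cnt_other _ _ _ _ _ hne hb h1'] at s1
      omega
  have hcval : (c : F) = ω * ω := by
    rw [div_eq_iff h0] at hcω
    exact hcω
  have s2 := sym 1 one_ne_zero
  rw [c1, div_one, hcval, cb] at s2
  omega

end Cfsg.Agent.Helper1.SLO
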