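import Mathlib
import Cfsg.Agent.Helper1.SLOC

set_option autoImplicit false
set_option linter.unusedSectionVars false

/-! Row S5981, the case `r ∣ q - 1`: existence of the derangement (helper1). -/

namespace Cfsg.Agent.Helper1.SLO

open Matrix Module Cfsg Cfsg.Geo Cfsg.Agent.Helper7.SLMax Cfsg.Agent.Helper7.SLSp

variable {F : Type*} [Field F] {n : ℕ}

/-- the case `n = r` with `r ^ 2 ∣ q - 1`. -/
theorem exists_case_sq [Fintype F] (hn : 3 ≤ n) (r : ℕ) [hr : Fact r.Prime] (hr2 : r ≠ 2)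
    (hnr : n = r) (hrq : r ^ 2 ∣ Fintype.card F - 1) (k : ℕ) :
    ∃ x : Matrix (Fin n) (Fin n) F, x.det = 1 ∧
      (∃ z : F, x ^ r = z • (1 : Matrix (Fin n) (Fin n) F)) ∧
      (∀ z : F, x ≠ z • (1 : Matrix (Fin n) (Fin n) F)) ∧ NoSimQ x k := by
  obtain ⟨ξ, hξ⟩ := Cfsg.Agent.Helper7.Singer.exists_unit_of_order (F := F) (r ^ 2) hrq
  have hpow : ∀ m : ℕ, (ξ : F) ^ m = 1 ↔ r ^ 2 ∣ m := by
    intro m
    rw [← hξ, orderOf_dvd_iff_pow_eq_one, ← Units.val_pow_eq_pow_val, Units.val_eq_one]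
  have hξ0 : (ξ : F) ≠ 0 := ξ.ne_zero
  have hrpos : 0 < r := hr.out.pos
  have hr1 : 1 < r := hr.out.one_lt
  obtain ⟨ω, hω⟩ : ∃ ω : F, ω = ((ξ : F) ^ r)⁻¹ := ⟨_, rfl⟩
  have hωξ : ω * (ξ : F) ^ r = 1 := by
    rw [hω, inv_mul_cancel₀ (pow_ne_zero r hξ0)]
  have h0 : ω ≠ 0 := by
    rw [hω]
    exact inv_ne_zero (pow_ne_zero r hξ0)
  have hωpow : ∀ m : ℕ, ω ^ m = 1 ↔ (ξ : F) ^ (r * m) = 1 := by
    intro m
    rw [hω, inv_pow, inv_eq_one, ← pow_mul]
  have h1 : ω ≠ 1 := by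
    intro h
    have h3 := (hωpow 1).mp (by rw [pow_one]; exact h)
    rw [hpow, mul_one] at h3
    have := Nat.le_of_dvd hrpos h3
    nlinarith
  have h2 : ω ^ 2 ≠ 1 := by
    intro h
    have h3 := (hωpow 2).mp h
    rw [hpow, pow_two] at h3
    have h4 : r ∣ 2 := Nat.dvd_of_mul_dvd_mul_left hrpos h3
    exact hr2 ((Nat.prime_dvd_prime_iff_eq hr.out Nat.prime_two).mp h4)
  have hωr : ω ^ r = 1 := by
    rw [hωpow, hpow, pow_two]
  set i0 : Fin n := ⟨0, by omega⟩ with hi0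
  set j0 : Fin n := ⟨1, by omega⟩ with hj0
  have h01 : j0 ≠ i0 := by rw [hi0, hj0, Ne, Fin.mk.injEq]; omega
  have hdisj : Disjoint ({i0} : Finset (Fin n)) ∅ := Finset.disjoint_empty_right _
  have hD : (diagonal (dAB {i0} ∅ ω (ω * ω)) : Matrix (Fin n) (Fin n) F) ^ r = 1 := by
    apply dAB_pow
    · exact hωr
    · rw [mul_pow, hωr, one_mul]
  refine ⟨(ξ : F) • diagonal (dAB {i0} ∅ ω (ω * ω)), ?_, ⟨(ξ : F) ^ r, ?_⟩, ?_, ?_⟩
  · rw [det_smul, det_diagonal, dAB_prod _ _ _ _ hdisj, Finset.card_singleton, Finset.card_empty,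
      pow_zero, mul_one, pow_one, Fintype.card_fin, hnr, mul_comm]
    exact hωξ
  · rw [smul_pow, hD]
  · intro z hz
    have hz' : (diagonal (dAB {i0} ∅ ω (ω * ω)) : Matrix (Fin n) (Fin n) F) =
        ((ξ : F)⁻¹ * z) • (1 : Matrix (Fin n) (Fin n) F) := by
      rw [mul_smul, ← hz, smul_smul, inv_mul_cancel₀ hξ0, one_smul]
    revert hz'
    apply dAB_not_scalar _ _ _ _ h1 (i0 := i0) (j0 := j0)
    · simp
    · rw [Finset.union_empty, Finset.mem_singleton]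
      exact h01
  · exact (diag_noSimQ_one hn ω h0 h1 h2 k).smul _ hξ0

/-- the case `r ∣ q - 1`. -/
theorem exists_case_dvd [Fintype F] (hn : 3 ≤ n) (r : ℕ) [hr : Fact r.Prime]
    (hr2 : r ≠ 2) (hgap : ¬ (n = 6 ∧ r = 3)) (hrq : r ∣ Fintype.card F - 1)
    (hexc : ¬ ((r = 3 ∨ r = 5) ∧ n = r ∧ padicValNat r (Fintype.card F - 1) = 1)) (k : ℕ) :
    ∃ x : Matrix (Fin n) (Fin n) F, x.det = 1 ∧
      (∃ z : F, x ^ r = z • (1 : Matrix (Fin n) (Fin n) F)) ∧
      (∀ z : F, x ≠ z • (1 : Matrix (Fin n) (Fin n) F)) ∧ NoSimQ x k := by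
  have hq1 : Fintype.card F - 1 ≠ 0 := by
    have := Fintype.one_lt_card (α := F)
    omega
  -- the exceptional shape with a larger `r`-part
  have hsq : (r = 3 ∨ r = 5) → n = r → r ^ 2 ∣ Fintype.card F - 1 := by
    intro h35 hnr
    have hv : padicValNat r (Fintype.card F - 1) ≠ 1 := fun hv => hexc ⟨h35, hnr, hv⟩
    have hv1 : 1 ≤ padicValNat r (Fintype.card F - 1) := one_le_padicValNat_of_dvd hq1 hrq
    rw [padicValNat_dvd_iff_le hq1]
    omega
  by_cases hex : (r = 3 ∨ r = 5) ∧ n = r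
  · exact exists_case_sq hn r hr2 hex.2 (hsq hex.1 hex.2) k
  obtain ⟨ζ, hζ⟩ := Cfsg.Agent.Helper7.Singer.exists_unit_of_order (F := F) r hrq
  have hpow : ∀ m : ℕ, (ζ : F) ^ m = 1 ↔ r ∣ m := by
    intro m
    rw [← hζ, orderOf_dvd_iff_pow_eq_one, ← Units.val_pow_eq_pow_val, Units.val_eq_one]
  have h0 : (ζ : F) ≠ 0 := ζ.ne_zero
  have hr1 : ¬ r ∣ 1 := fun h => hr.out.one_lt.ne' (Nat.dvd_one.mp h)
  have hr2' : ¬ r ∣ 2 := fun h => hr2 ((Nat.prime_dvd_prime_iff_eq hr.out Nat.prime_two).mp h)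
  have h1 : (ζ : F) ≠ 1 := by
    intro h
    apply hr1
    rw [← hpow, pow_one]
    exact h
  have h2 : (ζ : F) ^ 2 ≠ 1 := fun h => hr2' ((hpow 2).mp h)
  set i0 : Fin n := ⟨0, by omega⟩ with hi0
  set i1 : Fin n := ⟨1, by omega⟩ with hi1
  set i2 : Fin n := ⟨2, by omega⟩ with hi2
  have h01 : i0 ≠ i1 := by rw [hi0, hi1, Ne, Fin.mk.injEq]; omega
  have h12 : i1 ≠ i2 := by rw [hi1, hi2, Ne, Fin.mk.injEq]; omega
  have h02 : i0 ≠ i2 := by rw [hi0, hi2, Ne, Fin.mk.injEq]; omega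
  have hζr : (ζ : F) ^ r = 1 := (hpow r).mpr dvd_rfl
  by_cases hr3 : r = 3
  · -- `r = 3`, `n ≠ 3`, `n ≠ 6`
    have hn6 : n ≠ 6 := fun h => hgap ⟨h, hr3⟩
    have hn3 : n ≠ 3 := fun h => hex ⟨Or.inl hr3, by rw [h, hr3]⟩
    have hn4 : 4 ≤ n := by omega
    set j0 : Fin n := ⟨3, by omega⟩ with hj0
    have h03 : j0 ≠ i0 := by rw [hi0, hj0, Ne, Fin.mk.injEq]; omega
    have h13 : j0 ≠ i1 := by rw [hi1, hj0, Ne, Fin.mk.injEq]; omega
    have h23 : j0 ≠ i2 := by rw [hi2, hj0, Ne, Fin.mk.injEq]; omega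
    have h3 : (ζ : F) ^ 3 = 1 := by rw [← hr3]; exact hζr
    have hdisj : Disjoint ({i0, i1, i2} : Finset (Fin n)) ∅ := Finset.disjoint_empty_right _
    have hcA : ({i0, i1, i2} : Finset (Fin n)).card = 3 := by
      rw [Finset.card_insert_of_notMem, Finset.card_pair h12]
      rw [Finset.mem_insert, Finset.mem_singleton, not_or]
      exact ⟨h01, h02⟩
    refine ⟨diagonal (dAB {i0, i1, i2} ∅ (ζ : F) ((ζ : F) * ζ)), ?_, ⟨1, ?_⟩, ?_, ?_⟩
    · rw [det_diagonal, dAB_prod _ _ _ _ hdisj, hcA, Finset.card_empty, pow_zero, mul_one, h3]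
    · rw [one_smul]
      apply dAB_pow
      · exact hζr
      · rw [mul_pow, hζr, one_mul]
    · intro z
      apply dAB_not_scalar _ _ _ _ h1 (i0 := i0) (j0 := j0)
      · simp
      · rw [Finset.union_empty, Finset.mem_insert, Finset.mem_insert, Finset.mem_singleton,
          not_or, not_or]
        exact ⟨h03, h13, h23⟩
    · exact diag_noSimQ_three h01 h12 h02 hn4 hn6 _ h0 h1 h2 k
  · -- `r ≥ 5`
    have hr5 : ∀ m, 0 < m → m ≤ 6 → m ≠ 5 → ¬ r ∣ m := by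
      intro m hm0 hm6 hm5 hdvd
      have hle := Nat.le_of_dvd hm0 hdvd
      have hr1' := hr.out.two_le
      have : r = 4 ∨ r = 5 ∨ r = 6 := by omega
      rcases this with h | h | h
      · rw [h] at hr; exact absurd hr.out (by norm_num)
      · rw [h] at hdvd
        have : m = 5 := by
          obtain ⟨t, ht⟩ := hdvd
          omega
        exact hm5 this
      · rw [h] at hr; exact absurd hr.out (by norm_num)
    have h3 : (ζ : F) ^ 3 ≠ 1 := fun h =>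
      hr5 3 (by norm_num) (by norm_num) (by norm_num) ((hpow 3).mp h)
    have h4 : (ζ : F) ^ 4 ≠ 1 := fun h =>
      hr5 4 (by norm_num) (by norm_num) (by norm_num) ((hpow 4).mp h)
    have h6 : (ζ : F) ^ 6 ≠ 1 := fun h =>
      hr5 6 (by norm_num) (by norm_num) (by norm_num) ((hpow 6).mp h)
    have h5 : n = 5 → (ζ : F) ^ 5 ≠ 1 := by
      intro hn5 h
      have h5' := (hpow 5).mp h
      have hr5' : r = 5 := (Nat.prime_dvd_prime_iff_eq hr.out (by norm_num)).mp h5'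
      exact hex ⟨Or.inr hr5', by rw [hn5, hr5']⟩
    have hdisj : Disjoint ({i0, i1} : Finset (Fin n)) {i2} := by
      rw [Finset.disjoint_singleton_right, Finset.mem_insert, Finset.mem_singleton, not_or]
      exact ⟨Ne.symm h02, Ne.symm h12⟩
    have hcA : ({i0, i1} : Finset (Fin n)).card = 2 := Finset.card_pair h01
    have hcB : ({i2} : Finset (Fin n)).card = 1 := Finset.card_singleton i2
    refine ⟨diagonal (dAB {i0, i1} {i2} (ζ : F) ((ζ : F)⁻¹ * (ζ : F)⁻¹)), ?_, ⟨1, ?_⟩, ?_, ?_⟩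
    · rw [det_diagonal, dAB_prod _ _ _ _ hdisj, hcA, hcB]
      field_simp
    · rw [one_smul]
      apply dAB_pow
      · exact hζr
      · rw [mul_pow, inv_pow, hζr, inv_one, one_mul]
    · intro z hz
      -- compare the entries at `i0` and `i2`
      have e1 := congrFun (congrFun hz i0) i0
      have e2 := congrFun (congrFun hz i2) i2
      rw [diagonal_apply_eq, Matrix.smul_apply, one_apply_eq, smul_eq_mul, mul_one] at e1 e2
      have hi0A : i0 ∈ ({i0, i1} : Finset (Fin n)) := by simp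
      have hi2A : i2 ∉ ({i0, i1} : Finset (Fin n)) := by
        rw [Finset.mem_insert, Finset.mem_singleton, not_or]
        exact ⟨Ne.symm h02, Ne.symm h12⟩
      unfold dAB at e1 e2
      rw [if_pos hi0A] at e1
      rw [if_neg hi2A, if_pos (Finset.mem_singleton_self i2)] at e2
      apply h3
      have : (ζ : F) = (ζ : F)⁻¹ * (ζ : F)⁻¹ := e1.trans e2.symm
      have h' : (ζ : F) ^ 3 = (ζ : F) ^ 2 * ((ζ : F)⁻¹ * (ζ : F)⁻¹) := by rw [← this]; ring
      rw [h']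
      field_simp
    · exact diag_noSimQ_big h01 h12 h02 hn _ h0 h1 h2 h3 h4 h6 h5 k

end Cfsg.Agent.Helper1.SLO
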