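import Mathlib
import Cfsg.Agent.Helper1.SLOA
import Cfsg.Agent.Helper7.SLSpG
import Cfsg.Agent.Helper7.OrTSF

set_option autoImplicit false
set_option linter.unusedSectionVars false

/-! Row S5981, the case `r ∤ q (q - 1)`: an element acting as a field element of order `r` on a
block; counting singular vectors (helper1; the block endomorphism is helper7's). -/

namespace Cfsg.Agent.Helper1.SLO

open Matrix Module Cfsg Cfsg.Geo Cfsg.Agent.Helper7.SLSp Cfsg.Agent.Helper8.QuadForm

variable {F : Type*} [Field F] {n : ℕ}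

theorem natCast_eq_one_iff_dvd (q r : ℕ) (hq : 1 ≤ q) : ((q : ℕ) : ZMod r) = 1 ↔ r ∣ q - 1 := by
  rw [← ZMod.natCast_eq_zero_iff, Nat.cast_sub hq, Nat.cast_one, sub_eq_zero]

theorem natCast_pow_eq_one_iff_dvd (q r j : ℕ) (hq : 1 ≤ q) :
    ((q : ℕ) : ZMod r) ^ j = 1 ↔ r ∣ q ^ j - 1 := by
  rw [← Nat.cast_pow, natCast_eq_one_iff_dvd _ _ (Nat.one_le_pow _ _ hq)]

section block

variable [Fintype F] {L : Type} [Field L] [Algebra F L] [FiniteDimensional F L] {m : ℕ}

theorem blockEnd_apply (ζ : L) (a : L) (w : Fin m → F) :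
    blockEnd (F := F) (m := m) ζ (a, w) = (ζ * a, w) := by
  unfold blockEnd
  rw [LinearMap.prodMap_apply]
  rfl

/-- a nondegenerate form on a nonzero space takes a nonzero value. -/
theorem exists_ne_zero_form (Q' : QuadraticForm F (L × (Fin m → F))) (hND : Nondeg Q') :
    ∃ v, Q' v ≠ 0 := by
  by_contra hcon
  have h0 : ∀ v, Q' v = 0 := by
    intro v
    by_contra hv
    exact hcon ⟨v, hv⟩
  have hu0 : ((1, 0) : L × (Fin m → F)) ≠ 0 := by
    intro h
    exact one_ne_zero (Prod.mk_eq_zero.mp h).1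
  apply hu0
  apply hND
  intro w
  unfold QuadraticMap.polar
  rw [h0, h0, h0]
  ring

/-- the multiplier is trivial. -/
theorem blockEnd_mult_eq_one (ζ : L) (r : ℕ) [hr : Fact r.Prime]
    (hrq : ¬ r ∣ Fintype.card F - 1) (hζ : ζ ^ r = 1)
    (Q' : QuadraticForm F (L × (Fin m → F))) (hND : Nondeg Q') (c : F)
    (hc : ∀ u, Q' (blockEnd ζ u) = c * Q' u) : c = 1 := by
  have hpowQ : ∀ (k : ℕ) u, Q' ((blockEnd ζ ^ k) u) = c ^ k * Q' u := by
    intro k
    induction k with
    | zero => intro u; simp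
    | succ k ih =>
      intro u
      rw [pow_succ, Module.End.mul_apply, ih, hc, pow_succ, mul_assoc]
  obtain ⟨v, hv⟩ := exists_ne_zero_form Q' hND
  have h1 := hpowQ r v
  rw [blockEnd_pow_eq_one ζ r hζ, Module.End.one_apply] at h1
  have h2 : (1 : F) * Q' v = c ^ r * Q' v := by rw [one_mul]; exact h1
  exact eq_one_of_pow r hrq _ (mul_right_cancel₀ hv h2).symm

theorem polar_of_inv (Q' : QuadraticForm F (L × (Fin m → F)))
    (φ : (L × (Fin m → F)) →ₗ[F] (L × (Fin m → F))) (hinv : ∀ u, Q' (φ u) = Q' u)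
    (u v : L × (Fin m → F)) : QuadraticMap.polar Q' (φ u) (φ v) = QuadraticMap.polar Q' u v := by
  unfold QuadraticMap.polar
  rw [← map_add, hinv, hinv, hinv]

/-- the block is orthogonal to the fixed space. -/
theorem block_orth (ζ : L) (hζ1 : ζ ≠ 1) (Q' : QuadraticForm F (L × (Fin m → F)))
    (hinv : ∀ u, Q' (blockEnd ζ u) = Q' u) (a : L) (w : Fin m → F) :
    QuadraticMap.polar Q' (a, 0) (0, w) = 0 := by
  have hne : ζ - 1 ≠ 0 := sub_ne_zero.mpr hζ1
  obtain ⟨a', ha'⟩ : ∃ a', ζ * a' - a' = a := by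
    refine ⟨(ζ - 1)⁻¹ * a, ?_⟩
    field_simp
  have h1 := polar_of_inv Q' _ hinv (a', 0) (0, w)
  rw [blockEnd_apply, blockEnd_apply, mul_zero] at h1
  have h2 : ((a, 0) : L × (Fin m → F)) = (ζ * a', 0) - (a', 0) := by
    rw [Prod.mk_sub_mk, ha', sub_zero]
  rw [h2, QuadraticMap.polar_sub_left, h1, sub_self]

/-- the form on the block. -/
noncomputable def blockForm (Q' : QuadraticForm F (L × (Fin m → F))) : QuadraticForm F L :=
  Q'.comp (LinearMap.inl F L (Fin m → F))

theorem blockForm_apply (Q' : QuadraticForm F (L × (Fin m → F))) (a : L) :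
    blockForm Q' a = Q' (a, 0) := rfl

theorem blockForm_polar (Q' : QuadraticForm F (L × (Fin m → F))) (a a' : L) :
    QuadraticMap.polar (blockForm Q') a a' = QuadraticMap.polar Q' (a, 0) (a', 0) := by
  unfold QuadraticMap.polar
  rw [blockForm_apply, blockForm_apply, blockForm_apply, Prod.mk_add_mk, add_zero]

/-- the block is nondegenerate. -/
theorem block_nondeg (ζ : L) (hζ1 : ζ ≠ 1) (Q' : QuadraticForm F (L × (Fin m → F)))
    (hND : Nondeg Q') (hinv : ∀ u, Q' (blockEnd ζ u) = Q' u) : Nondeg (blockForm Q') := by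
  intro a ha
  have h1 : ((a, 0) : L × (Fin m → F)) = 0 := by
    apply hND
    rintro ⟨a', w⟩
    have h2 : ((a', w) : L × (Fin m → F)) = (a', 0) + (0, w) := by
      rw [Prod.mk_add_mk, add_zero, zero_add]
    have h3 := ha a'
    rw [blockForm_polar] at h3
    rw [h2, QuadraticMap.polar_add_right, h3, block_orth ζ hζ1 Q' hinv, add_zero]
  exact (Prod.mk_eq_zero.mp h1).1

/-- the number of singular vectors of the block is `1` modulo `r`. -/
theorem block_card (ζ : L) (r : ℕ) [hr : Fact r.Prime] (hζ : ζ ^ r = 1) (hζ1 : ζ ≠ 1)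
    (Q' : QuadraticForm F (L × (Fin m → F))) (hinv : ∀ u, Q' (blockEnd ζ u) = Q' u) :
    Nat.card {a : L // blockForm Q' a = 0} ≡ 1 [MOD r] := by
  classical
  haveI : Finite L := Module.finite_of_finite F
  haveI : Fintype {a : L // blockForm Q' a = 0} := Fintype.ofFinite _
  have hne : ζ - 1 ≠ 0 := sub_ne_zero.mpr hζ1
  have hζ0 : ζ ≠ 0 := by
    rintro rfl
    rw [zero_pow hr.out.ne_zero] at hζ
    exact zero_ne_one hζ
  have hmem : ∀ (k : ℕ) (a : L), blockForm Q' a = 0 → blockForm Q' (ζ ^ k * a) = 0 := by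
    intro k
    induction k with
    | zero => intro a ha; rw [pow_zero, one_mul]; exact ha
    | succ k ih =>
      intro a ha
      have h1 := hinv (ζ ^ k * a, 0)
      rw [blockEnd_apply] at h1
      rw [blockForm_apply, pow_succ', mul_assoc, h1]
      exact ih a ha
  -- the permutation
  obtain ⟨g, hg⟩ : ∃ g : Function.End {a : L // blockForm Q' a = 0},
      ∀ s, ((g s).1 : L) = ζ * s.1 :=
    ⟨fun s => ⟨ζ * s.1, by have := hmem 1 s.1 s.2; rwa [pow_one] at this⟩, fun s => rfl⟩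
  have hiter : ∀ k : ℕ, ∀ s, (((g ^ k) s).1 : L) = ζ ^ k * s.1 := by
    intro k
    induction k with
    | zero =>
      intro s
      rw [pow_zero, pow_zero, one_mul]
      rfl
    | succ k ih =>
      intro s
      rw [pow_succ', pow_succ', mul_assoc, ← ih, ← hg]
      rfl
  have hgr : g ^ r ^ 1 = 1 := by
    rw [pow_one]
    funext s
    apply Subtype.ext
    rw [hiter, hζ, one_mul]
    rfl
  have hmod := Equiv.Perm.card_fixedPoints_modEq (p := r) (n := 1) hgr
  have hzero : ∀ s : {a : L // blockForm Q' a = 0}, g s = s → (s.1 : L) = 0 := by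
    intro s hs
    have h1 : ζ * s.1 = s.1 := by rw [← hg, hs]
    have h2 : (ζ - 1) * s.1 = 0 := by rw [sub_mul, h1, one_mul, sub_self]
    exact (mul_eq_zero.mp h2).resolve_left hne
  have hfixed : Nat.card (Function.fixedPoints g) = 1 := by
    rw [Nat.card_eq_one_iff_unique]
    constructor
    · constructor
      rintro ⟨s, hs⟩ ⟨s', hs'⟩
      apply Subtype.ext
      apply Subtype.ext
      rw [hzero s hs, hzero s' hs']
    · refine ⟨⟨⟨0, QuadraticMap.map_zero _⟩, ?_⟩⟩
      show g _ = _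
      apply Subtype.ext
      rw [hg]
      simp
  rw [Fintype.card_eq_nat_card, Fintype.card_eq_nat_card, hfixed] at hmod
  exact hmod

/-- the block endomorphism is a similarity of no nondegenerate quadratic form, when the
dimension of `L` is odd. -/
theorem blockEnd_noSimQ_odd (h2 : (2 : F) ≠ 0) (ζ : L) (r : ℕ) [hr : Fact r.Prime]
    (hrq : ¬ r ∣ Fintype.card F - 1) (hζ : ζ ^ r = 1) (hζ1 : ζ ≠ 1) (hodd : Odd (finrank F L))
    (hrj : r ∣ Fintype.card F ^ (finrank F L) - 1)
    (Q' : QuadraticForm F (L × (Fin m → F))) (hND : Nondeg Q')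
    (c : Fˣ) : ¬ ∀ u, Q' (blockEnd ζ u) = (c : F) * Q' u := by
  intro hc
  have hc1 := blockEnd_mult_eq_one ζ r hrq hζ Q' hND c hc
  have hinv : ∀ u, Q' (blockEnd ζ u) = Q' u := by
    intro u
    rw [hc u, hc1, one_mul]
  have hnd := block_nondeg ζ hζ1 Q' hND hinv
  have hcard := block_card ζ r hζ hζ1 Q' hinv
  obtain ⟨t, ht⟩ := hodd
  rw [Cfsg.Agent.Helper7.OrTS.card_singular_odd h2 t (blockForm Q') ((nondeg_iff _).mpr hnd) ht]
    at hcard
  have hq1 : 1 ≤ Fintype.card F := Fintype.card_pos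
  have e1 : ((Fintype.card F : ℕ) : ZMod r) ^ (2 * t) = 1 := by
    have := (ZMod.natCast_eq_natCast_iff _ _ _).mpr hcard
    rw [Nat.cast_pow, Nat.cast_one] at this
    exact this
  have e2 : ((Fintype.card F : ℕ) : ZMod r) ^ (2 * t + 1) = 1 := by
    rw [natCast_pow_eq_one_iff_dvd _ _ _ hq1, ← ht]
    exact hrj
  apply hrq
  rw [← natCast_eq_one_iff_dvd _ _ hq1]
  rw [pow_succ, e1, one_mul] at e2
  exact e2

end block

end Cfsg.Agent.Helper1.SLO
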