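import Mathlib
import Cfsg.Agent.Helper1.SLOE

set_option autoImplicit false
set_option linter.unusedSectionVars false

/-! Row S5981, the case `r ∤ q (q - 1)`: the full block, and the existence of the derangements
(helper1). -/

namespace Cfsg.Agent.Helper1.SLO

open Matrix Module Cfsg Cfsg.Geo Cfsg.Agent.Helper7.SLSp Cfsg.Agent.Helper8.QuadForm

variable {F : Type*} [Field F] {n : ℕ}

section block

variable [Fintype F] {L : Type} [Field L] [Algebra F L] [FiniteDimensional F L] {m : ℕ}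

/-- with no fixed space, the singular vectors of the block are those of the form. -/
theorem card_blockForm_zero (hm : m = 0) (Q' : QuadraticForm F (L × (Fin m → F))) :
    Nat.card {a : L // blockForm Q' a = 0} = Nat.card {v : L × (Fin m → F) // Q' v = 0} := by
  subst hm
  refine Nat.card_congr
    { toFun := fun a => ⟨(a.1, 0), a.2⟩
      invFun := fun v => ⟨v.1.1, ?_⟩
      left_inv := fun a => rfl
      right_inv := ?_ }
  · have e : ((v.1.1, 0) : L × (Fin 0 → F)) = v.1 := by
      apply Prod.ext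
      · rfl
      · exact Subsingleton.elim _ _
    rw [blockForm_apply, e]
    exact v.2
  · intro v
    apply Subtype.ext
    apply Prod.ext
    · rfl
    · exact Subsingleton.elim _ _

/-- the arithmetic of the full block. -/
theorem arith_even (q r : ℕ) [hr : Fact r.Prime] (hr2 : r ≠ 2) (hq : 1 ≤ q)
    (hrq : ¬ r ∣ q - 1) (d : ℕ) (hd : 1 ≤ d) (k : ℕ) (hk1 : k ≡ 1 [MOD r])
    (hk : (k + q ^ (d - 1) = q ^ (2 * d - 1) + q ^ d ∧ r ∣ q ^ d + 1) ∨
          (k + q ^ d = q ^ (2 * d - 1) + q ^ (d - 1) ∧ r ∣ q ^ d - 1)) : False := by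
  obtain ⟨d', rfl⟩ : ∃ d', d = d' + 1 := ⟨d - 1, by omega⟩
  have e1 : d' + 1 - 1 = d' := by omega
  have e2 : 2 * (d' + 1) - 1 = (d' + 1) + d' := by omega
  rw [e1, e2] at hk
  have hK : ((k : ℕ) : ZMod r) = 1 := by
    have := (ZMod.natCast_eq_natCast_iff _ _ _).mpr hk1
    rwa [Nat.cast_one] at this
  have h2 : (2 : ZMod r) ≠ 0 := by
    intro h
    have h' : ((2 : ℕ) : ZMod r) = 0 := by exact_mod_cast h
    rw [ZMod.natCast_eq_zero_iff] at h'
    exact hr2 ((Nat.prime_dvd_prime_iff_eq hr.out Nat.prime_two).mp h')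
  apply hrq
  rw [← natCast_eq_one_iff_dvd _ _ hq]
  obtain ⟨Q, hQ⟩ : ∃ Q : ZMod r, Q = ((q : ℕ) : ZMod r) := ⟨_, rfl⟩
  rw [← hQ]
  rcases hk with ⟨hk, hdvd⟩ | ⟨hk, hdvd⟩
  · have hc := congrArg (fun t : ℕ => (t : ZMod r)) hk
    simp only [Nat.cast_add, Nat.cast_pow] at hc
    rw [hK, ← hQ] at hc
    have hQd : Q ^ (d' + 1) = -1 := by
      have := (ZMod.natCast_eq_zero_iff _ _).mpr hdvd
      rw [Nat.cast_add, Nat.cast_pow, Nat.cast_one, ← hQ] at this
      linear_combination this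
    rw [pow_add Q (d' + 1) d', hQd] at hc
    have h3 : 2 * (1 + Q ^ d') = 0 := by linear_combination hc
    have h4 : Q ^ d' = -1 := by
      have := (mul_eq_zero.mp h3).resolve_left h2
      linear_combination this
    rw [pow_succ, h4] at hQd
    linear_combination -hQd
  · have hc := congrArg (fun t : ℕ => (t : ZMod r)) hk
    simp only [Nat.cast_add, Nat.cast_pow] at hc
    rw [hK, ← hQ] at hc
    have hQd : Q ^ (d' + 1) = 1 := by
      rw [hQ, natCast_pow_eq_one_iff_dvd _ _ _ hq]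
      exact hdvd
    rw [pow_add Q (d' + 1) d', hQd] at hc
    have h3 : 2 * (Q ^ d' - 1) = 0 := by linear_combination -hc
    have h4 : Q ^ d' = 1 := by
      have := (mul_eq_zero.mp h3).resolve_left h2
      linear_combination this
    rw [pow_succ, h4, one_mul] at hQd
    exact hQd

/-- the full block: the block endomorphism is a similarity of no nondegenerate quadratic form
with a prescribed number of singular vectors. -/
theorem blockEnd_noSimQ_even (hm : m = 0) (ζ : L) (r : ℕ) [hr : Fact r.Prime] (hr2 : r ≠ 2)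
    (hrq : ¬ r ∣ Fintype.card F - 1) (hζ : ζ ^ r = 1) (hζ1 : ζ ≠ 1)
    (d : ℕ) (hd : 1 ≤ d) (k : ℕ)
    (hk : (k + Fintype.card F ^ (d - 1) = Fintype.card F ^ (2 * d - 1) + Fintype.card F ^ d ∧
            r ∣ Fintype.card F ^ d + 1) ∨
          (k + Fintype.card F ^ d = Fintype.card F ^ (2 * d - 1) + Fintype.card F ^ (d - 1) ∧
            r ∣ Fintype.card F ^ d - 1))
    (Q' : QuadraticForm F (L × (Fin m → F))) (hND : Nondeg Q')
    (hν : Nat.card {v : L × (Fin m → F) // Q' v = 0} = k)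
    (c : Fˣ) : ¬ ∀ u, Q' (blockEnd ζ u) = (c : F) * Q' u := by
  intro hc
  have hc1 := blockEnd_mult_eq_one ζ r hrq hζ Q' hND c hc
  have hinv : ∀ u, Q' (blockEnd ζ u) = Q' u := by
    intro u
    rw [hc u, hc1, one_mul]
  have hcard := block_card ζ r hζ hζ1 Q' hinv
  rw [card_blockForm_zero hm, hν] at hcard
  exact arith_even (Fintype.card F) r hr2 Fintype.card_pos hrq d hd k hcard hk

end block

/-- the construction of the element from a block. -/
theorem exists_of_block [Fintype F] {p : ℕ} [Fact p.Prime] [CharP F p] (r : ℕ) [hr : Fact r.Prime]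
    (j : ℕ) [NeZero j] (hjn : j ≤ n)
    (hrq : ¬ r ∣ Fintype.card F - 1) (hrj : r ∣ Fintype.card F ^ j - 1) (k : ℕ)
    (H : ∀ ζ : FiniteField.Extension F p j, ζ ^ r = 1 → ζ ≠ 1 →
      ∀ Q' : QuadraticForm F (FiniteField.Extension F p j × (Fin (n - j) → F)), Nondeg Q' →
        Nat.card {v : FiniteField.Extension F p j × (Fin (n - j) → F) // Q' v = 0} = k →
        ∀ c : Fˣ, ¬ ∀ u, Q' (blockEnd ζ u) = (c : F) * Q' u) :
    ∃ x : Matrix (Fin n) (Fin n) F, x.det = 1 ∧ x ^ r = 1 ∧
      (∀ z : F, x ≠ z • (1 : Matrix (Fin n) (Fin n) F)) ∧ NoSimQ x k := by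
  letI : Fintype (FiniteField.Extension F p j) := Fintype.ofFinite _
  have hcardL : Fintype.card (FiniteField.Extension F p j) = Fintype.card F ^ j := by
    rw [← Nat.card_eq_fintype_card, FiniteField.natCard_extension, Nat.card_eq_fintype_card]
  obtain ⟨ζ, hζ⟩ := Cfsg.Agent.Helper7.Singer.exists_unit_of_order
    (F := FiniteField.Extension F p j) r (by rw [hcardL]; exact hrj)
  have hζr : ((ζ : (FiniteField.Extension F p j)ˣ) : FiniteField.Extension F p j) ^ r = 1 := by
    rw [← Units.val_pow_eq_pow_val, ← hζ, pow_orderOf_eq_one, Units.val_one]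
  have hζ1 : ((ζ : (FiniteField.Extension F p j)ˣ) : FiniteField.Extension F p j) ≠ 1 := by
    intro h
    have h1 : ζ = 1 := Units.ext h
    rw [h1, orderOf_one] at hζ
    exact hr.out.one_lt.ne hζ
  have hfrL : finrank F (FiniteField.Extension F p j) = j := FiniteField.finrank_extension F p j
  have hfr : finrank F (FiniteField.Extension F p j × (Fin (n - j) → F)) = n := by
    rw [Module.finrank_prod, hfrL, Module.finrank_fin_fun]
    omega
  obtain ⟨b⟩ : Nonempty (Basis (Fin n) F (FiniteField.Extension F p j × (Fin (n - j) → F))) :=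
    ⟨Module.finBasisOfFinrankEq F _ hfr⟩
  obtain ⟨φ, hφ⟩ : ∃ φ, φ = blockEnd (F := F) (m := n - j)
    ((ζ : (FiniteField.Extension F p j)ˣ) : FiniteField.Extension F p j) := ⟨_, rfl⟩
  have hdet : (LinearMap.toMatrix b b φ).det = 1 := by
    rw [LinearMap.det_toMatrix, hφ]
    exact blockEnd_det _ r hrq hζr
  refine ⟨LinearMap.toMatrix b b φ, hdet, ?_, ?_, ?_⟩
  · rw [LinearMap.toMatrix_pow, hφ, blockEnd_pow_eq_one _ r hζr, LinearMap.toMatrix_one]
  · intro z hz
    have h1 : φ = z • (1 : Module.End F _) := by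
      apply (LinearMap.toMatrix b b).injective
      rw [hz, map_smul, LinearMap.toMatrix_one]
    have h3 := LinearMap.congr_fun h1 ((1 : FiniteField.Extension F p j), (0 : Fin (n - j) → F))
    rw [hφ, blockEnd_apply, LinearMap.smul_apply, Module.End.one_apply, Prod.smul_mk,
      Prod.mk.injEq, mul_one] at h3
    have h5 := h3.1
    have hzr : z ^ r = 1 := by
      have h6 : (algebraMap F (FiniteField.Extension F p j)) (z ^ r) =
          (algebraMap F (FiniteField.Extension F p j)) 1 := by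
        rw [map_pow, map_one, ← hζr, h5, Algebra.smul_def, mul_one]
      exact (algebraMap F (FiniteField.Extension F p j)).injective h6
    have hz1 : z = 1 := eq_one_of_pow r hrq z hzr
    rw [hz1, one_smul] at h5
    exact hζ1 h5
  · apply noSimQ_of_basis b φ k
    intro Q' hND hν c
    rw [hφ]
    exact H _ hζr hζ1 Q' hND hν c

/-- piece E: a block of odd dimension. -/
theorem exists_case_ext_odd [Fintype F] {p : ℕ} [Fact p.Prime] [CharP F p] (h2 : (2 : F) ≠ 0)
    (r : ℕ) [hr : Fact r.Prime]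
    (j : ℕ) (hj : Odd j) (hj3 : 3 ≤ j) (hjn : j ≤ n)
    (hrq : ¬ r ∣ Fintype.card F - 1) (hrj : r ∣ Fintype.card F ^ j - 1) (k : ℕ) :
    ∃ x : Matrix (Fin n) (Fin n) F, x.det = 1 ∧ x ^ r = 1 ∧
      (∀ z : F, x ≠ z • (1 : Matrix (Fin n) (Fin n) F)) ∧ NoSimQ x k := by
  haveI : NeZero j := ⟨by omega⟩
  have hfrL : finrank F (FiniteField.Extension F p j) = j := FiniteField.finrank_extension F p j
  apply exists_of_block (p := p) r j hjn hrq hrj k
  intro ζ hζ hζ1 Q' hND _ c
  exact blockEnd_noSimQ_odd h2 ζ r hrq hζ hζ1 (by rw [hfrL]; exact hj) (by rw [hfrL]; exact hrj)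
    Q' hND c

/-- piece F: the full block in even dimension. -/
theorem exists_case_ext_even [Fintype F] {p : ℕ} [Fact p.Prime] [CharP F p]
    (r : ℕ) [hr : Fact r.Prime] (hr2 : r ≠ 2)
    (d : ℕ) (hd : 1 ≤ d) (hnd : n = 2 * d)
    (hrq : ¬ r ∣ Fintype.card F - 1) (k : ℕ)
    (hk : (k + Fintype.card F ^ (d - 1) = Fintype.card F ^ (2 * d - 1) + Fintype.card F ^ d ∧
            r ∣ Fintype.card F ^ d + 1) ∨
          (k + Fintype.card F ^ d = Fintype.card F ^ (2 * d - 1) + Fintype.card F ^ (d - 1) ∧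
            r ∣ Fintype.card F ^ d - 1)) :
    ∃ x : Matrix (Fin n) (Fin n) F, x.det = 1 ∧ x ^ r = 1 ∧
      (∀ z : F, x ≠ z • (1 : Matrix (Fin n) (Fin n) F)) ∧ NoSimQ x k := by
  have hq1 : 1 ≤ Fintype.card F := Fintype.card_pos
  have hrn : r ∣ Fintype.card F ^ n - 1 := by
    have e : Fintype.card F ^ n - 1 = (Fintype.card F ^ d - 1) * (Fintype.card F ^ d + 1) := by
      rw [hnd, two_mul, pow_add]
      have : 1 ≤ Fintype.card F ^ d := Nat.one_le_pow _ _ hq1
      obtain ⟨t, ht⟩ : ∃ t, Fintype.card F ^ d = t + 1 := ⟨Fintype.card F ^ d - 1, by omega⟩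
      rw [ht, Nat.add_sub_cancel]
      have : (t + 1) * (t + 1) - 1 = t * (t + 1 + 1) := by
        have : (t + 1) * (t + 1) = t * (t + 1 + 1) + 1 := by ring
        omega
      exact this
    rw [e]
    rcases hk with ⟨-, h⟩ | ⟨-, h⟩
    · exact Dvd.dvd.mul_left h _
    · exact Dvd.dvd.mul_right h _
  haveI : NeZero n := ⟨by omega⟩
  apply exists_of_block (p := p) r n le_rfl hrq hrn k
  intro ζ hζ hζ1 Q' hND hν c
  exact blockEnd_noSimQ_even (by omega) ζ r hr2 hrq hζ hζ1 d hd k hk Q' hND hν c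

end Cfsg.Agent.Helper1.SLO
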