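import Mathlib
import Cfsg.Agent.Helper1.SLOA
import Cfsg.Prelude.Def_Classical

set_option autoImplicit false
set_option linter.unusedSectionVars false

/-! Row S5981, index arithmetic, the group theory part: `r * |O(Q)|` divides `2 * |SL_n|`
(helper1). -/

namespace Cfsg.Agent.Helper1.SLO

open Matrix Module Cfsg Cfsg.Geo Cfsg.Agent.Helper8.QuadForm

variable {F : Type*} [Field F] {n : ℕ}

theorem mem_isometryGroup_iff (Q : (Fin n → F) → F) (g : GL (Fin n) F) :
    g ∈ isometryGroup F Q ↔ ∀ v, Q ((g : Matrix (Fin n) (Fin n) F) *ᵥ v) = Q v :=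
  ⟨fun h v => h v v, fun h u _ => h u⟩

theorem isometry_le_similarity (Q : (Fin n → F) → F) :
    isometryGroup F Q ≤ quadSimilarityGroup Q := by
  intro g hg
  refine ⟨1, fun v => ?_⟩
  rw [Units.val_one, one_mul]
  exact (mem_isometryGroup_iff Q g).mp hg v

/-- the determinant of an isometry squares to one. -/
theorem det_sq_isometry (Q : QuadraticForm F (Fin n → F)) (hQ : Nondeg Q)
    (g : Matrix (Fin n) (Fin n) F) (hc : ∀ v, Q (g *ᵥ v) = Q v) : g.det ^ 2 = 1 := by
  obtain ⟨B, hB⟩ : ∃ B : LinearMap.BilinForm F (Fin n → F), B = QuadraticMap.polarBilin Q :=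
    ⟨_, rfl⟩
  have hcomp : B.comp (Matrix.toLin' g) (Matrix.toLin' g) = B := by
    refine LinearMap.ext fun x => LinearMap.ext fun y => ?_
    rw [hB]
    show QuadraticMap.polar Q (Matrix.toLin' g x) (Matrix.toLin' g y) = QuadraticMap.polar Q x y
    rw [Matrix.toLin'_apply, Matrix.toLin'_apply]
    unfold QuadraticMap.polar
    rw [← Matrix.mulVec_add, hc, hc, hc]
  have hmat := congrArg LinearMap.BilinForm.toMatrix' hcomp
  rw [LinearMap.BilinForm.toMatrix'_comp, LinearMap.toMatrix'_toLin'] at hmat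
  have hdet := congrArg Matrix.det hmat
  rw [Matrix.det_mul, Matrix.det_mul, Matrix.det_transpose] at hdet
  have hnd : (LinearMap.BilinForm.toMatrix' B).det ≠ 0 := by
    rw [← Matrix.nondegenerate_iff_det_ne_zero, LinearMap.BilinForm.nondegenerate_toMatrix'_iff, hB]
    exact (nondeg_iff Q).mpr hQ
  have h3 : g.det ^ 2 * (LinearMap.BilinForm.toMatrix' B).det =
      1 * (LinearMap.BilinForm.toMatrix' B).det := by
    linear_combination hdet
  exact mul_right_cancel₀ hnd h3

theorem det_isometry {Q : (Fin n → F) → F}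
    (hQ : IsNondegenerateQuadraticForm Q) (g : GL (Fin n) F) (hg : g ∈ isometryGroup F Q) :
    (g : Matrix (Fin n) (Fin n) F).det = 1 ∨ (g : Matrix (Fin n) (Fin n) F).det = -1 := by
  have h := det_sq_isometry (bundleQ Q hQ) (bundleQ_nondeg Q hQ) (g : Matrix (Fin n) (Fin n) F)
    (fun v => (mem_isometryGroup_iff Q g).mp hg v)
  have h' : ((g : Matrix (Fin n) (Fin n) F).det - 1) * ((g : Matrix (Fin n) (Fin n) F).det + 1) = 0 := by
    linear_combination h
  rcases mul_eq_zero.mp h' with h1 | h1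
  · left; linear_combination h1
  · right; linear_combination h1

theorem mem_specialLinear_iff (g : GL (Fin n) F) :
    g ∈ specialLinear (Fin n) F ↔ (g : Matrix (Fin n) (Fin n) F).det = 1 := by
  unfold specialLinear
  rw [MonoidHom.mem_ker]
  constructor
  · intro h
    have := congrArg Units.val h
    rw [Matrix.GeneralLinearGroup.val_det_apply, Units.val_one] at this
    exact this
  · intro h
    apply Units.ext
    rw [Matrix.GeneralLinearGroup.val_det_apply, Units.val_one]
    exact h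

/-- the special linear group has relative index dividing two in the isometry group. -/
theorem relIndex_SL_isometry {Q : (Fin n → F) → F}
    (hQ : IsNondegenerateQuadraticForm Q) :
    (specialLinear (Fin n) F).relIndex (isometryGroup F Q) ∣ 2 := by
  rw [Subgroup.relIindex_dvd_two_iff']
  by_cases h : ∃ a ∈ isometryGroup F Q, (a : Matrix (Fin n) (Fin n) F).det ≠ 1
  · obtain ⟨a, ha, hdet⟩ := h
    have hdeta : (a : Matrix (Fin n) (Fin n) F).det = -1 :=
      (det_isometry hQ a ha).resolve_left hdet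
    refine ⟨a, ha, fun b hb => ?_⟩
    rcases det_isometry hQ b hb with h1 | h1
    · right
      exact (mem_specialLinear_iff b).mpr h1
    · left
      rw [mem_specialLinear_iff, Units.val_mul, Matrix.det_mul, hdeta, h1]
      ring
  · refine ⟨1, Subgroup.one_mem _, fun b hb => ?_⟩
    right
    rw [mem_specialLinear_iff]
    by_contra hne
    exact h ⟨b, hb, hne⟩

/-- the group theory part of the index arithmetic. -/
theorem dvd_two_mul_card_SL {Q : (Fin n → F) → F}
    (hQ : IsNondegenerateQuadraticForm Q) (r : ℕ)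
    (hΩ : r ∣ (quadSimilarityGroup Q).relIndex (specialLinear (Fin n) F)) :
    r * Nat.card (isometryGroup F Q) ∣ 2 * Nat.card (specialLinear (Fin n) F) := by
  obtain ⟨S, hS⟩ : ∃ S, S = specialLinear (Fin n) F := ⟨_, rfl⟩
  obtain ⟨M, hM⟩ : ∃ M, M = quadSimilarityGroup Q := ⟨_, rfl⟩
  obtain ⟨I, hI⟩ : ∃ I, I = isometryGroup F Q := ⟨_, rfl⟩
  rw [← hS, ← hM] at hΩ
  rw [← hS, ← hI]
  have hIM : I ≤ M := by rw [hI, hM]; exact isometry_le_similarity Q
  have h1 : I ⊓ S ≤ M ⊓ S := inf_le_inf_right S hIM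
  have h3 := Subgroup.relIndex_mul_relIndex (I ⊓ S) (M ⊓ S) S h1 inf_le_right
  rw [Subgroup.inf_relIndex_right M S] at h3
  have h4 : r ∣ (I ⊓ S).relIndex S := by
    rw [← h3]
    exact Dvd.dvd.mul_left hΩ _
  have h5 := Subgroup.relIndex_mul_relIndex ⊥ (I ⊓ S) S bot_le inf_le_right
  rw [Subgroup.relIndex_bot_left, Subgroup.relIndex_bot_left] at h5
  have h6 := Subgroup.relIndex_mul_relIndex ⊥ (I ⊓ S) I bot_le inf_le_left
  rw [Subgroup.relIndex_bot_left, Subgroup.relIndex_bot_left, inf_comm,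
    Subgroup.inf_relIndex_right S I] at h6
  have h7 : S.relIndex I ∣ 2 := by
    rw [hS, hI]
    exact relIndex_SL_isometry hQ
  rw [inf_comm] at h6
  rw [← h5, ← h6]
  obtain ⟨t, ht⟩ := h4
  obtain ⟨s, hs⟩ := h7
  rw [ht]
  refine ⟨t * s, ?_⟩
  have e : r * (Nat.card ↥(I ⊓ S) * S.relIndex I) * (t * s) =
      (S.relIndex I * s) * (Nat.card ↥(I ⊓ S) * (r * t)) := by ring
  rw [e, ← hs]

end Cfsg.Agent.Helper1.SLO
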