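import Mathlib
import Cfsg.Agent.Helper1.SLOG
import Cfsg.Agent.Helper7.OpNDE
import Cfsg.Agent.Helper7.OrTSF
import Cfsg.Agent.Helper7.SLSpB

set_option autoImplicit false
set_option linter.unusedSectionVars false

/-! Row S5981, index arithmetic: the order of the isometry group by the number of singular
vectors, and the primes dividing the index (helper1). -/

namespace Cfsg.Agent.Helper1.SLO

open Matrix Module Cfsg Cfsg.Geo Cfsg.Agent.Helper8.QuadForm

universe u

variable {F : Type u} [Field F] {n : ℕ}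

/-- the product of the `q^(2l) - 1`, `1 ≤ l ≤ k`. -/
def piE (q k : ℕ) : ℕ := ∏ i ∈ Finset.range k, (q ^ (2 * (i + 1)) - 1)

/-- the product of the `q^(2l+3) - 1`, `0 ≤ l < k`. -/
def piD (q k : ℕ) : ℕ := ∏ i ∈ Finset.range k, (q ^ (2 * i + 3) - 1)

theorem nd_top_of_nondeg {V : Type u} [AddCommGroup V] [Module F V] {Q : QuadraticForm F V}
    (h : Nondeg Q) : Cfsg.Agent.Helper7.SpOrd.ND (QuadraticMap.polarBilin Q) ⊤ := by
  intro v _ hv
  by_contra hcon
  apply hv
  apply h
  intro w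
  by_contra hw
  exact hcon ⟨w, Submodule.mem_top, hw⟩

/-- the order of the isometry group, by the parity of the dimension and the number of singular
vectors. -/
theorem card_isom_cases [Fintype F] (h2 : (2 : F) ≠ 0) (hn : 1 ≤ n) {Q : (Fin n → F) → F}
    (hQ : IsNondegenerateQuadraticForm Q) :
    (∃ m, n = 2 * m + 1 ∧ Nat.card (isometryGroup F Q) =
        2 * Fintype.card F ^ (m ^ 2) * piE (Fintype.card F) m) ∨
    (∃ k, n = 2 * (k + 1) ∧
      ((nu Q + Fintype.card F ^ k = Fintype.card F ^ (2 * k + 1) + Fintype.card F ^ (k + 1) ∧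
        Nat.card (isometryGroup F Q) = 2 * Fintype.card F ^ ((k + 1) * k) *
          (Fintype.card F ^ (k + 1) - 1) * piE (Fintype.card F) k) ∨
       (nu Q + Fintype.card F ^ (k + 1) = Fintype.card F ^ (2 * k + 1) + Fintype.card F ^ k ∧
        Nat.card (isometryGroup F Q) = 2 * Fintype.card F ^ ((k + 1) * k) *
          (Fintype.card F ^ (k + 1) + 1) * piE (Fintype.card F) k))) := by
  have hN := Cfsg.Agent.Helper8.OrthOrder.card_isometryGroup (bundleQ Q hQ) Q (fun v => rfl)
  have hnd := bundleQ_nondeg Q hQ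
  have hQ' : (QuadraticMap.polarBilin (bundleQ Q hQ)).Nondegenerate := (nondeg_iff _).mpr hnd
  have hfr : finrank F (Fin n → F) = n := Module.finrank_fin_fun F
  have hnu : nu Q = Nat.card {v : Fin n → F // bundleQ Q hQ v = 0} := rfl
  rcases Nat.even_or_odd n with ⟨d, hd⟩ | ⟨m, hm⟩
  · right
    obtain ⟨k, rfl⟩ : ∃ k, d = k + 1 := ⟨d - 1, by omega⟩
    have hd' : finrank F (Fin n → F) = 2 * (k + 1) := by rw [hfr]; omega
    refine ⟨k, by omega, ?_⟩
    have hV := nd_top_of_nondeg hnd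
    have h1 := Cfsg.Agent.Helper7.OpND.card_Isom_sg (bundleQ Q hQ) hV hd'
    have h3 := Cfsg.Agent.Helper7.OpTS.nuS_top hV hd'
    unfold Cfsg.Agent.Helper8.OrT.NuS Cfsg.Agent.Helper8.OrT.lev at h3
    rw [← hnu] at h3
    rw [hN, h1]
    unfold Cfsg.Agent.Helper7.OpND.gO Cfsg.Agent.Helper7.OpND.fO Cfsg.Agent.Helper7.OpND.piO piE
    rcases Cfsg.Agent.Helper7.OpTS.sg_cases (bundleQ Q hQ) ⊤ with h | h
    · left
      rw [h] at h3 ⊢
      rw [if_pos rfl]
      refine ⟨?_, rfl⟩
      have : ((nu Q + Fintype.card F ^ k : ℕ) : ℤ) =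
          ((Fintype.card F ^ (2 * k + 1) + Fintype.card F ^ (k + 1) : ℕ) : ℤ) := by
        push_cast
        rw [h3]
        ring
      exact_mod_cast this
    · right
      rw [h] at h3 ⊢
      rw [if_neg (by norm_num)]
      refine ⟨?_, rfl⟩
      have : ((nu Q + Fintype.card F ^ (k + 1) : ℕ) : ℤ) =
          ((Fintype.card F ^ (2 * k + 1) + Fintype.card F ^ k : ℕ) : ℤ) := by
        push_cast
        rw [h3]
        ring
      exact_mod_cast this
  · left
    refine ⟨m, hm, ?_⟩
    have hd' : finrank F (Fin n → F) = 2 * m + 1 := by rw [hfr]; exact hm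
    have h1 := Cfsg.Agent.Helper7.OrTS.card_singular_odd h2 m (bundleQ Q hQ) hQ' hd'
    rw [hN, Cfsg.Agent.Helper8.OrthOrder.card_Isom_odd h2 m (bundleQ Q hQ) hQ' hd' h1]
    rfl

end Cfsg.Agent.Helper1.SLO
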