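import Mathlib
import Cfsg.Agent.Helper1.SLOH

set_option autoImplicit false
set_option linter.unusedSectionVars false

/-! Row S5981, index arithmetic: the primes dividing the index (helper1). -/

namespace Cfsg.Agent.Helper1.SLO

open Matrix Module Cfsg Cfsg.Geo Cfsg.Agent.Helper8.QuadForm

universe u

variable {F : Type u} [Field F] {n : ℕ}

theorem card_SL_mul [Fintype F] (hn : 1 ≤ n) :
    (Fintype.card F - 1) * Nat.card (specialLinear (Fin n) F) =
      (∏ i ∈ Finset.range n, Fintype.card F ^ i) *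
        ∏ i ∈ Finset.range n, (Fintype.card F ^ (i + 1) - 1) := by
  haveI : Nonempty (Fin n) := ⟨⟨0, by omega⟩⟩
  have h1 := Cfsg.Agent.Helper7.card_units_mul_card_SL (n := Fin n) (F := F)
  rw [Cfsg.Agent.Helper7.card_SL_eq_card_ker_det, Matrix.card_GL_field,
    Cfsg.Agent.Helper7.SpCP.prod_gl _ _ Fintype.card_pos] at h1
  exact h1

theorem piE_pos (q k : ℕ) (hq : 2 ≤ q) : 0 < piE q k := by
  unfold piE
  apply Finset.prod_pos
  intro i _
  have : 2 ≤ q ^ (2 * (i + 1)) := by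
    calc 2 ≤ q := hq
      _ = q ^ 1 := (pow_one q).symm
      _ ≤ q ^ (2 * (i + 1)) := Nat.pow_le_pow_right (by omega) (by omega)
  omega

theorem prod_odd (q m : ℕ) :
    ∏ i ∈ Finset.range (2 * m + 1), (q ^ (i + 1) - 1) = (q - 1) * piD q m * piE q m := by
  rw [Finset.prod_range_succ, Cfsg.Agent.Helper7.SLSp.prod_split_parity]
  have h1 : (∏ i ∈ Finset.range m, (q ^ (2 * i + 1) - 1)) * (q ^ (2 * m + 1) - 1) =
      ∏ i ∈ Finset.range (m + 1), (q ^ (2 * i + 1) - 1) := by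
    rw [Finset.prod_range_succ]
  have h2 : ∏ i ∈ Finset.range (m + 1), (q ^ (2 * i + 1) - 1) = piD q m * (q - 1) := by
    rw [Finset.prod_range_succ']
    unfold piD
    have e3 : ∀ i, 2 * (i + 1) + 1 = 2 * i + 3 := fun i => by ring
    simp only [e3]
    simp
  unfold piE at *
  calc (∏ i ∈ Finset.range m, (q ^ (2 * i + 1) - 1)) *
        (∏ i ∈ Finset.range m, (q ^ (2 * (i + 1)) - 1)) * (q ^ (2 * m + 1) - 1)
      = ((∏ i ∈ Finset.range m, (q ^ (2 * i + 1) - 1)) * (q ^ (2 * m + 1) - 1)) *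
        (∏ i ∈ Finset.range m, (q ^ (2 * (i + 1)) - 1)) := by ring
    _ = (q - 1) * piD q m * ∏ i ∈ Finset.range m, (q ^ (2 * (i + 1)) - 1) := by
        rw [h1, h2]; ring

theorem prod_even (q k : ℕ) (hq : 1 ≤ q) :
    ∏ i ∈ Finset.range (2 * (k + 1)), (q ^ (i + 1) - 1) =
      (q - 1) * piD q k * (piE q k * ((q ^ (k + 1) - 1) * (q ^ (k + 1) + 1))) := by
  rw [Cfsg.Agent.Helper7.SLSp.prod_split_parity]
  have h2 : ∏ i ∈ Finset.range (k + 1), (q ^ (2 * i + 1) - 1) = piD q k * (q - 1) := by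
    rw [Finset.prod_range_succ']
    unfold piD
    have e3 : ∀ i, 2 * (i + 1) + 1 = 2 * i + 3 := fun i => by ring
    simp only [e3]
    simp
  have h3 : ∏ i ∈ Finset.range (k + 1), (q ^ (2 * (i + 1)) - 1) =
      piE q k * ((q ^ (k + 1) - 1) * (q ^ (k + 1) + 1)) := by
    rw [Finset.prod_range_succ]
    unfold piE
    congr 1
    have : 1 ≤ q ^ (k + 1) := Nat.one_le_pow _ _ hq
    obtain ⟨t, ht⟩ : ∃ t, q ^ (k + 1) = t + 1 := ⟨q ^ (k + 1) - 1, by omega⟩
    rw [two_mul, pow_add, ht, Nat.add_sub_cancel]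
    have : (t + 1) * (t + 1) = t * (t + 1 + 1) + 1 := by ring
    omega
  rw [h2, h3]
  ring

theorem eq_char_of_dvd_prod [Fintype F] {p : ℕ} [Fact p.Prime] [CharP F p] (r : ℕ)
    [hr : Fact r.Prime] (m : ℕ) (h : r ∣ ∏ i ∈ Finset.range m, Fintype.card F ^ i) : r = p := by
  rw [Prime.dvd_finsetProd_iff (Nat.Prime.prime hr.out)] at h
  obtain ⟨i, -, hd⟩ := h
  have h5 := hr.out.dvd_of_dvd_pow hd
  obtain ⟨a, hp, ha⟩ := FiniteField.card F p
  rw [ha] at h5
  have h6 := hr.out.dvd_of_dvd_pow h5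
  exact (Nat.prime_dvd_prime_iff_eq hr.out hp).mp h6

theorem exists_of_dvd_piD (q r : ℕ) [hr : Fact r.Prime] (k : ℕ) (h : r ∣ piD q k) :
    ∃ j : ℕ, Odd j ∧ 3 ≤ j ∧ j ≤ 2 * k + 1 ∧ r ∣ q ^ j - 1 := by
  unfold piD at h
  rw [Prime.dvd_finsetProd_iff (Nat.Prime.prime hr.out)] at h
  obtain ⟨i, hi, hd⟩ := h
  rw [Finset.mem_range] at hi
  exact ⟨2 * i + 3, ⟨i + 1, by ring⟩, by omega, by omega, hd⟩

/-- piece G: the primes dividing the index. -/
theorem cases_of_dvd_index [Fintype F] {p : ℕ} [Fact p.Prime] [CharP F p] (h2 : (2 : F) ≠ 0)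
    (hn : 3 ≤ n) {Q : (Fin n → F) → F} (hQ : IsNondegenerateQuadraticForm Q) (r : ℕ)
    [hr : Fact r.Prime] (hrp : r ≠ p)
    (hΩ : r ∣ (quadSimilarityGroup Q).relIndex (specialLinear (Fin n) F)) :
    (∃ j : ℕ, Odd j ∧ 3 ≤ j ∧ j ≤ n ∧ r ∣ Fintype.card F ^ j - 1) ∨
    (∃ d : ℕ, 1 ≤ d ∧ n = 2 * d ∧
      ((nu Q + Fintype.card F ^ (d - 1) = Fintype.card F ^ (2 * d - 1) + Fintype.card F ^ d ∧
            r ∣ Fintype.card F ^ d + 1) ∨
       (nu Q + Fintype.card F ^ d = Fintype.card F ^ (2 * d - 1) + Fintype.card F ^ (d - 1) ∧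
            r ∣ Fintype.card F ^ d - 1))) := by
  have hq : 2 ≤ Fintype.card F := Fintype.one_lt_card
  obtain ⟨q, hqdef⟩ : ∃ q, q = Fintype.card F := ⟨_, rfl⟩
  have h1 := dvd_two_mul_card_SL hQ r hΩ
  have h3 := card_SL_mul (F := F) (n := n) (by omega)
  rw [← hqdef] at h3 hq ⊢
  have hq1 : 0 < q - 1 := by omega
  -- multiply by `q - 1`
  have h4 : r * Nat.card (isometryGroup F Q) * (q - 1) ∣
      2 * ((∏ i ∈ Finset.range n, q ^ i) * ∏ i ∈ Finset.range n, (q ^ (i + 1) - 1)) := by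
    rw [← h3]
    obtain ⟨t, ht⟩ := h1
    exact ⟨t, by rw [mul_left_comm 2, ht]; ring⟩
  obtain ⟨P0, hP0⟩ : ∃ P0, P0 = ∏ i ∈ Finset.range n, q ^ i := ⟨_, rfl⟩
  have hP0r : ¬ r ∣ P0 := by
    intro h
    apply hrp
    rw [hP0, hqdef] at h
    exact eq_char_of_dvd_prod (p := p) r n h
  rw [← hP0] at h4
  rcases card_isom_cases h2 (by omega) hQ with ⟨m, hm, hN⟩ | ⟨k, hk, hcase⟩
  · -- odd dimension
    left
    rw [← hqdef] at hN
    rw [hN, hm, prod_odd] at h4
    have hE := piE_pos q m hq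
    have h5 : (2 * piE q m * (q - 1)) * (r * q ^ (m ^ 2)) ∣
        (2 * piE q m * (q - 1)) * (P0 * piD q m) := by
      have e1 : (2 * piE q m * (q - 1)) * (r * q ^ (m ^ 2)) =
          r * (2 * q ^ (m ^ 2) * piE q m) * (q - 1) := by ring
      have e2 : (2 * piE q m * (q - 1)) * (P0 * piD q m) =
          2 * (P0 * ((q - 1) * piD q m * piE q m)) := by ring
      rw [e1, e2]
      exact h4
    have h6 := Nat.dvd_of_mul_dvd_mul_left (by positivity) h5
    have h7 : r ∣ P0 * piD q m := Dvd.dvd.trans (Dvd.intro _ rfl) h6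
    rcases (Nat.Prime.dvd_mul hr.out).mp h7 with h8 | h8
    · exact absurd h8 hP0r
    · obtain ⟨j, hj, hj3, hjn, hd⟩ := exists_of_dvd_piD q r m h8
      exact ⟨j, hj, hj3, by omega, hd⟩
  · -- even dimension
    rw [← hqdef] at hcase
    have hE := piE_pos q k hq
    have hqk : 2 ≤ q ^ (k + 1) := by
      calc 2 ≤ q := hq
        _ = q ^ 1 := (pow_one q).symm
        _ ≤ q ^ (k + 1) := Nat.pow_le_pow_right (by omega) (by omega)
    have e1 : k + 1 - 1 = k := by omega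
    have e2 : 2 * (k + 1) - 1 = 2 * k + 1 := by omega
    rcases hcase with ⟨hν, hN⟩ | ⟨hν, hN⟩
    · rw [hN, hk, prod_even q k (by omega)] at h4
      have hpos : 0 < q ^ (k + 1) - 1 := by omega
      have h5 : (2 * piE q k * (q - 1) * (q ^ (k + 1) - 1)) * (r * q ^ ((k + 1) * k)) ∣
          (2 * piE q k * (q - 1) * (q ^ (k + 1) - 1)) * (P0 * piD q k * (q ^ (k + 1) + 1)) := by
        have e1 : (2 * piE q k * (q - 1) * (q ^ (k + 1) - 1)) * (r * q ^ ((k + 1) * k)) =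
            r * (2 * q ^ ((k + 1) * k) * (q ^ (k + 1) - 1) * piE q k) * (q - 1) := by ring
        have e2 : (2 * piE q k * (q - 1) * (q ^ (k + 1) - 1)) *
            (P0 * piD q k * (q ^ (k + 1) + 1)) =
            2 * (P0 * ((q - 1) * piD q k *
              (piE q k * ((q ^ (k + 1) - 1) * (q ^ (k + 1) + 1))))) := by ring
        rw [e1, e2]
        exact h4
      have h6 := Nat.dvd_of_mul_dvd_mul_left (by positivity) h5
      have h7 : r ∣ P0 * piD q k * (q ^ (k + 1) + 1) := Dvd.dvd.trans (Dvd.intro _ rfl) h6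
      rcases (Nat.Prime.dvd_mul hr.out).mp h7 with h8 | h8
      · rcases (Nat.Prime.dvd_mul hr.out).mp h8 with h9 | h9
        · exact absurd h9 hP0r
        · left
          obtain ⟨j, hj, hj3, hjn, hd⟩ := exists_of_dvd_piD q r k h9
          exact ⟨j, hj, hj3, by omega, hd⟩
      · right
        refine ⟨k + 1, by omega, hk, Or.inl ⟨?_, h8⟩⟩
        rw [e1, e2]
        exact hν
    · rw [hN, hk, prod_even q k (by omega)] at h4
      have h5 : (2 * piE q k * (q - 1) * (q ^ (k + 1) + 1)) * (r * q ^ ((k + 1) * k)) ∣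
          (2 * piE q k * (q - 1) * (q ^ (k + 1) + 1)) * (P0 * piD q k * (q ^ (k + 1) - 1)) := by
        have e1 : (2 * piE q k * (q - 1) * (q ^ (k + 1) + 1)) * (r * q ^ ((k + 1) * k)) =
            r * (2 * q ^ ((k + 1) * k) * (q ^ (k + 1) + 1) * piE q k) * (q - 1) := by ring
        have e2 : (2 * piE q k * (q - 1) * (q ^ (k + 1) + 1)) *
            (P0 * piD q k * (q ^ (k + 1) - 1)) =
            2 * (P0 * ((q - 1) * piD q k *
              (piE q k * ((q ^ (k + 1) - 1) * (q ^ (k + 1) + 1))))) := by ring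
        rw [e1, e2]
        exact h4
      have h6 := Nat.dvd_of_mul_dvd_mul_left (by positivity) h5
      have h7 : r ∣ P0 * piD q k * (q ^ (k + 1) - 1) := Dvd.dvd.trans (Dvd.intro _ rfl) h6
      rcases (Nat.Prime.dvd_mul hr.out).mp h7 with h8 | h8
      · rcases (Nat.Prime.dvd_mul hr.out).mp h8 with h9 | h9
        · exact absurd h9 hP0r
        · left
          obtain ⟨j, hj, hj3, hjn, hd⟩ := exists_of_dvd_piD q r k h9
          exact ⟨j, hj, hj3, by omega, hd⟩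
      · right
        refine ⟨k + 1, by omega, hk, Or.inr ⟨?_, h8⟩⟩
        rw [e1, e2]
        exact hν

end Cfsg.Agent.Helper1.SLO
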