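import Mathlib
import Cfsg.Agent.Helper1.SLOG
import Cfsg.Agent.Helper8.SemiSSL
import Cfsg.Agent.Helper8.SemiSFam

set_option autoImplicit false
set_option linter.unusedSectionVars false

/-! Row S5981, the conjugation side: from a model similarity with the same characteristic
polynomial to a conjugating element of determinant one; diagonalisable elements (helper1; uses
helper8's semisimple conjugacy library). -/

namespace Cfsg.Agent.Helper1.SLO

open Matrix Module Polynomial Cfsg Cfsg.Geo Cfsg.Agent.Helper8.QuadForm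

variable {F : Type*} [Field F] {n : ℕ}

/-- from a model: if a similarity `y` of `Q` has the same characteristic polynomial as `x`, and
both are semisimple, then `x` has a conjugate by an element of determinant one in the similarity
group. -/
theorem conj_of_model [Fintype F] (hn : 1 ≤ n) {Q : (Fin n → F) → F}
    (x : GL (Fin n) F)
    (y : Matrix (Fin n) (Fin n) F) (c : F) (hc : c ≠ 0) (hy : ∀ v, Q (y *ᵥ v) = c * Q v)
    (h h' : F[X]) (hsq : Squarefree h) (hsq' : Squarefree h')
    (hxh : aeval (x : Matrix (Fin n) (Fin n) F) h = 0) (hyh : aeval y h' = 0)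
    (hchar : (x : Matrix (Fin n) (Fin n) F).charpoly = y.charpoly) :
    ∃ g ∈ specialLinear (Fin n) F, g⁻¹ * x * g ∈ quadSimilarityGroup Q := by
  obtain ⟨P, hP⟩ := Cfsg.Agent.Helper8.SemiS.exists_conj_of_charpoly_eq
    (x : Matrix (Fin n) (Fin n) F) y h h' hsq hsq' hxh hyh hchar
  have hPdet : (P : Matrix (Fin n) (Fin n) F).det ≠ 0 :=
    ((Matrix.isUnit_iff_isUnit_det (P : Matrix (Fin n) (Fin n) F)).mp ⟨P, rfl⟩).ne_zero
  obtain ⟨t, ht1, ht2⟩ := Cfsg.Agent.Helper8.SemiS.exists_centralizer_det hn
    (x : Matrix (Fin n) (Fin n) F) h hsq hxh (P : Matrix (Fin n) (Fin n) F).det hPdet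
  have htx : t * x = x * t := by
    apply Units.ext
    rw [Units.val_mul, Units.val_mul]
    exact ht1
  refine ⟨t * P⁻¹, ?_, ?_⟩
  · rw [mem_specialLinear_iff, Units.val_mul, Matrix.det_mul, ht2]
    have h1 : (P : Matrix (Fin n) (Fin n) F).det *
        ((P⁻¹ : GL (Fin n) F) : Matrix (Fin n) (Fin n) F).det = 1 := by
      rw [← Matrix.det_mul, ← Units.val_mul, mul_inv_cancel, Units.val_one, Matrix.det_one]
    exact h1
  · have e : (t * P⁻¹)⁻¹ * x * (t * P⁻¹) = P * x * P⁻¹ := by
      have : (t * P⁻¹)⁻¹ * x * (t * P⁻¹) = P * (t⁻¹ * (x * t)) * P⁻¹ := by group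
      rw [this, ← htx]
      group
    rw [e]
    refine ⟨Units.mk0 c hc, fun v => ?_⟩
    rw [Units.val_mk0]
    have e2 : ((P * x * P⁻¹ : GL (Fin n) F) : Matrix (Fin n) (Fin n) F) = y := by
      rw [Units.val_mul, Units.val_mul]
      exact hP
    rw [e2]
    exact hy v

/-- a matrix killed by a product of distinct linear factors has a characteristic polynomial which
is a product of such factors. -/
theorem exists_diag_charpoly (A : Matrix (Fin n) (Fin n) F) (S : Finset F)
    (hA : aeval A (∏ μ ∈ S, (X - C μ)) = 0) :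
    ∃ μ : Fin n → F, (∀ i, μ i ∈ S) ∧ A.charpoly = ∏ i, (X - C (μ i)) := by
  classical
  have hsq : Squarefree (∏ μ ∈ S, (X - C μ) : F[X]) := by
    apply Polynomial.Separable.squarefree
    rw [Polynomial.separable_prod_X_sub_C_iff']
    intro a _ b _ hab
    exact hab
  obtain ⟨d, P, hP, hdvd, hchar⟩ :=
    Cfsg.Agent.Helper8.SemiS.exists_family_of_matrix A _ hsq hA
  have hlin : ∀ i, ∃ μ ∈ S, P i = X - C μ := by
    intro i
    have hprime : Prime (P i) := (hP i).2.prime
    obtain ⟨μ, hμ, hdiv⟩ := (Prime.dvd_finsetProd_iff hprime _).mp (hdvd i)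
    refine ⟨μ, hμ, ?_⟩
    have hassoc : Associated (P i) (X - C μ) :=
      Irreducible.associated_of_dvd (hP i).2 (Polynomial.irreducible_X_sub_C μ) hdiv
    exact Polynomial.eq_of_monic_of_associated (hP i).1 (Polynomial.monic_X_sub_C μ) hassoc
  choose ν hνS hν using hlin
  have hd : d = n := by
    have h1 := congrArg Polynomial.natDegree hchar
    rw [Matrix.charpoly_natDegree_eq_dim, Fintype.card_fin,
      Polynomial.natDegree_prod_of_monic _ _ (fun i _ => (hP i).1)] at h1
    have h2 : ∀ i, (P i).natDegree = 1 := by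
      intro i
      rw [hν i]
      exact Polynomial.natDegree_X_sub_C _
    simp only [h2, Finset.sum_const, Finset.card_univ, Fintype.card_fin, smul_eq_mul, mul_one] at h1
    exact h1.symm
  subst hd
  refine ⟨ν, hνS, ?_⟩
  rw [hchar]
  exact Finset.prod_congr rfl (fun i _ => hν i)

/-- the determinant from a split characteristic polynomial. -/
theorem det_of_charpoly (A : Matrix (Fin n) (Fin n) F) (μ : Fin n → F)
    (hA : A.charpoly = ∏ i, (X - C (μ i))) : A.det = ∏ i, μ i := by
  rw [Matrix.det_eq_sign_charpoly_coeff, hA, Polynomial.coeff_zero_eq_eval_zero,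
    Polynomial.eval_prod]
  simp only [Polynomial.eval_sub, Polynomial.eval_X, Polynomial.eval_C, zero_sub]
  rw [Finset.prod_neg, Finset.card_univ, ← mul_assoc, ← mul_pow]
  simp

end Cfsg.Agent.Helper1.SLO
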