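import Mathlib
import Cfsg.Agent.Helper1.SLOJ

set_option autoImplicit false
set_option linter.unusedSectionVars false

/-! Row S5981, the conjugation side: diagonal endomorphisms in a basis as similarities of a
quadratic form (helper1). -/

namespace Cfsg.Agent.Helper1.SLO

open Matrix Module Polynomial Cfsg Cfsg.Geo Cfsg.Agent.Helper8.QuadForm

variable {F : Type*} [Field F] {n : ℕ}
variable {V : Type*} [AddCommGroup V] [Module F V]
variable {ι : Type*} [Fintype ι] [DecidableEq ι]

/-- the diagonal endomorphism in a basis. -/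
noncomputable def diagEnd (b : Basis ι F V) (δ : ι → F) : V →ₗ[F] V :=
  Matrix.toLin b b (Matrix.diagonal δ)

theorem diagEnd_basis (b : Basis ι F V) (δ : ι → F) (i : ι) :
    diagEnd b δ (b i) = δ i • b i := by
  unfold diagEnd
  rw [Matrix.toLin_self]
  rw [Finset.sum_eq_single i]
  · rw [Matrix.diagonal_apply_eq]
  · intro j _ hji
    rw [Matrix.diagonal_apply_ne _ hji, zero_smul]
  · intro h
    exact absurd (Finset.mem_univ i) h

theorem diagEnd_charpoly [FiniteDimensional F V] (b : Basis ι F V) (δ : ι → F) :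
    (diagEnd b δ).charpoly = ∏ i, (X - C (δ i)) := by
  unfold diagEnd
  rw [Matrix.charpoly_toLin, Matrix.charpoly_diagonal]

theorem diagEnd_pow (b : Basis ι F V) (δ : ι → F) (k : ℕ) :
    (diagEnd b δ) ^ k = diagEnd b (δ ^ k) := by
  unfold diagEnd
  rw [← Matrix.toLin_pow, Matrix.diagonal_pow]

theorem diagEnd_const (b : Basis ι F V) (s : F) :
    diagEnd b (fun _ => s) = s • (1 : Module.End F V) := by
  apply b.ext
  intro i
  rw [diagEnd_basis, LinearMap.smul_apply, Module.End.one_apply]

/-- a diagonal endomorphism is a similarity of the polar form, if the products of the eigenvalues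
of non-orthogonal basis vectors are constant. -/
theorem diagEnd_polar (Q' : QuadraticForm F V) (b : Basis ι F V) (δ : ι → F) (c : F)
    (hδ : ∀ i j, QuadraticMap.polar Q' (b i) (b j) ≠ 0 → δ i * δ j = c) (u v : V) :
    QuadraticMap.polar Q' (diagEnd b δ u) (diagEnd b δ v) = c * QuadraticMap.polar Q' u v := by
  have h : (QuadraticMap.polarBilin Q').compl₁₂ (diagEnd b δ) (diagEnd b δ) =
      c • QuadraticMap.polarBilin Q' := by
    apply LinearMap.BilinForm.ext_basis b
    intro i j
    rw [LinearMap.compl₁₂_apply, diagEnd_basis, diagEnd_basis, LinearMap.smul_apply,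
      LinearMap.smul_apply, QuadraticMap.polarBilin_apply_apply, QuadraticMap.polarBilin_apply_apply,
      QuadraticMap.polar_smul_left, QuadraticMap.polar_smul_right, smul_eq_mul, smul_eq_mul,
      smul_eq_mul]
    by_cases h0 : QuadraticMap.polar Q' (b i) (b j) = 0
    · rw [h0, mul_zero, mul_zero, mul_zero]
    · rw [← mul_assoc, hδ i j h0]
  have h1 := LinearMap.congr_fun (LinearMap.congr_fun h u) v
  rw [LinearMap.compl₁₂_apply, LinearMap.smul_apply, LinearMap.smul_apply,
    QuadraticMap.polarBilin_apply_apply, QuadraticMap.polarBilin_apply_apply, smul_eq_mul] at h1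
  exact h1

/-- a diagonal endomorphism is a similarity of the quadratic form. -/
theorem diagEnd_sim (h2 : (2 : F) ≠ 0) (Q' : QuadraticForm F V) (b : Basis ι F V) (δ : ι → F)
    (c : F) (hδ : ∀ i j, QuadraticMap.polar Q' (b i) (b j) ≠ 0 → δ i * δ j = c) (v : V) :
    Q' (diagEnd b δ v) = c * Q' v := by
  have h := diagEnd_polar Q' b δ c hδ v v
  rw [polar_self', polar_self'] at h
  have h' : (2 : F) * Q' (diagEnd b δ v) = 2 * (c * Q' v) := by rw [h]; ring
  exact mul_left_cancel₀ h2 h'

/-- the matrix model of an endomorphism of `F^n`. -/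
theorem model_of_end [Fintype F] (hn : 1 ≤ n) {Q : (Fin n → F) → F}
    (x : GL (Fin n) F) (g : (Fin n → F) →ₗ[F] (Fin n → F)) (c : F) (hc : c ≠ 0)
    (hg : ∀ v, Q (g v) = c * Q v) (k : ℕ) (s : F) (hk : ((k : ℕ) : F) ≠ 0) (hs : s ≠ 0)
    (hxk : (x : Matrix (Fin n) (Fin n) F) ^ k = s • (1 : Matrix (Fin n) (Fin n) F))
    (hgk : g ^ k = s • (1 : Module.End F (Fin n → F)))
    (hchar : (x : Matrix (Fin n) (Fin n) F).charpoly = g.charpoly) :
    ∃ g' ∈ specialLinear (Fin n) F, g'⁻¹ * x * g' ∈ quadSimilarityGroup Q := by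
  have hsq : Squarefree (X ^ k - C s : F[X]) :=
    (Polynomial.separable_X_pow_sub_C s hk hs).squarefree
  have hy : ∀ v, Q ((LinearMap.toMatrix' g) *ᵥ v) = c * Q v := by
    intro v
    rw [LinearMap.toMatrix'_mulVec]
    exact hg v
  have e1 : aeval (x : Matrix (Fin n) (Fin n) F) (X ^ k - C s : F[X]) = 0 := by
    rw [map_sub, map_pow, aeval_X, aeval_C, hxk, Algebra.algebraMap_eq_smul_one, sub_self]
  have e2 : aeval (LinearMap.toMatrix' g) (X ^ k - C s : F[X]) = 0 := by
    rw [map_sub, map_pow, aeval_X, aeval_C, Algebra.algebraMap_eq_smul_one,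
      ← LinearMap.toMatrix_eq_toMatrix', LinearMap.toMatrix_pow, hgk, map_smul,
      LinearMap.toMatrix_one, sub_self]
  have e3 : (x : Matrix (Fin n) (Fin n) F).charpoly = (LinearMap.toMatrix' g).charpoly := by
    rw [hchar, ← LinearMap.toMatrix_eq_toMatrix', LinearMap.charpoly_toMatrix]
  exact conj_of_model hn x _ c hc hy _ _ hsq hsq e1 e2 e3

end Cfsg.Agent.Helper1.SLO
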