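import Mathlib
import Cfsg.Agent.Helper1.SLOK

set_option autoImplicit false
set_option linter.unusedSectionVars false

/-! Row S5981, `r = 2`, the case of a square: an element whose square is the scalar `λ²`
(helper1). -/

namespace Cfsg.Agent.Helper1.SLO

open Matrix Module Polynomial Cfsg Cfsg.Geo Cfsg.Agent.Helper8.QuadForm

variable {F : Type*} [Field F] {n : ℕ}

/-- an orthogonal basis of a nondegenerate quadratic form on `F^n`. -/
theorem exists_orth_basis [Fintype F] (h2 : (2 : F) ≠ 0) (hn : 1 ≤ n)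
    (Q' : QuadraticForm F (Fin n → F)) (hQ' : Nondeg Q') :
    ∃ b : Basis (Fin n) F (Fin n → F),
      (∀ i j, i ≠ j → QuadraticMap.polar Q' (b i) (b j) = 0) ∧ ∀ i, Q' (b i) ≠ 0 := by
  obtain ⟨n', rfl⟩ : ∃ n', n = n' + 1 := ⟨n - 1, by omega⟩
  have hfr : finrank F (Fin (n' + 1) → F) = n' + 1 := Module.finrank_fin_fun F
  obtain ⟨b, hb1, hb2, hb3⟩ := exists_orthogonal_family h2 n' Q' hQ' hfr
  have hb4 : ∀ i, Q' (b i) ≠ 0 := by
    intro i
    by_cases hi : i = 0
    · rw [hi]; exact hb2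
    · rw [hb3 i hi]; exact one_ne_zero
  obtain ⟨b', hb'⟩ := exists_basis_of_orthogonal h2 Q' hfr hb1 hb4
  refine ⟨b', ?_, ?_⟩
  · intro i j hij
    rw [hb']
    exact hb1 i j hij
  · intro i
    rw [hb']
    exact hb4 i

/-- `r = 2`, the square of `x` is the square of a scalar. -/
theorem conj_of_sq_square [Fintype F] (h2 : (2 : F) ≠ 0) (hn : 1 ≤ n) {Q : (Fin n → F) → F}
    (hQ : IsNondegenerateQuadraticForm Q) (x : GL (Fin n) F) (lam : F) (hlam : lam ≠ 0)
    (hz : (x : Matrix (Fin n) (Fin n) F) ^ 2 = (lam ^ 2) • (1 : Matrix (Fin n) (Fin n) F)) :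
    ∃ g ∈ specialLinear (Fin n) F, g⁻¹ * x * g ∈ quadSimilarityGroup Q := by
  classical
  have hne : lam ≠ -lam := by
    intro h
    have : (2 : F) * lam = 0 := by linear_combination h
    rcases mul_eq_zero.mp this with h' | h'
    · exact h2 h'
    · exact hlam h'
  -- the characteristic polynomial of `x`
  have hpoly : (∏ μ ∈ ({lam, -lam} : Finset F), (X - C μ) : F[X]) = X ^ 2 - C (lam ^ 2) := by
    rw [Finset.prod_pair hne, C_neg, C_pow]
    ring
  have hx : aeval (x : Matrix (Fin n) (Fin n) F)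
      (∏ μ ∈ ({lam, -lam} : Finset F), (X - C μ) : F[X]) = 0 := by
    rw [hpoly, map_sub, map_pow, aeval_X, aeval_C, hz, Algebra.algebraMap_eq_smul_one, sub_self]
  obtain ⟨μ, hμS, hchar⟩ := exists_diag_charpoly (x : Matrix (Fin n) (Fin n) F) _ hx
  have hμ2 : ∀ i, μ i * μ i = lam ^ 2 := by
    intro i
    have := hμS i
    rw [Finset.mem_insert, Finset.mem_singleton] at this
    rcases this with h | h
    · rw [h]; ring
    · rw [h]; ring
  -- the model
  obtain ⟨b, hb1, hb2⟩ := exists_orth_basis h2 hn (bundleQ Q hQ) (bundleQ_nondeg Q hQ)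
  have hsim : ∀ v, Q (diagEnd b μ v) = lam ^ 2 * Q v := by
    intro v
    apply diagEnd_sim h2 (bundleQ Q hQ) b μ (lam ^ 2)
    intro i j hij
    have : i = j := by
      by_contra hne'
      exact hij (hb1 i j hne')
    rw [← this]
    exact hμ2 i
  have hpow : (diagEnd b μ) ^ 2 = (lam ^ 2) • (1 : Module.End F (Fin n → F)) := by
    rw [diagEnd_pow, ← diagEnd_const b]
    congr 1
    funext i
    rw [Pi.pow_apply, pow_two]
    exact hμ2 i
  have h2' : ((2 : ℕ) : F) ≠ 0 := by exact_mod_cast h2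
  exact model_of_end hn x (diagEnd b μ) (lam ^ 2) (pow_ne_zero 2 hlam) hsim 2 (lam ^ 2) h2'
    (pow_ne_zero 2 hlam) hz hpow (by rw [hchar, diagEnd_charpoly])

end Cfsg.Agent.Helper1.SLO
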