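import Mathlib
import Cfsg.Agent.Helper1.SLOL
import Cfsg.Agent.Helper8.SemiSExpo

set_option autoImplicit false
set_option linter.unusedSectionVars false

/-! Row S5981, `r = 2`, the case of a nonsquare: the characteristic polynomial, and a similarity
of a quadratic form whose square is a given scalar (helper1). -/

namespace Cfsg.Agent.Helper1.SLO

open Matrix Module Polynomial Cfsg Cfsg.Geo Cfsg.Agent.Helper8.QuadForm

variable {F : Type*} [Field F] {n : ℕ}

/-- the characteristic polynomial of a matrix whose square is a nonsquare scalar. -/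
theorem charpoly_of_sq_nonsquare (A : Matrix (Fin n) (Fin n) F) (z : F)
    (hA : A ^ 2 = z • (1 : Matrix (Fin n) (Fin n) F)) (h2 : (2 : F) ≠ 0) (hz0 : z ≠ 0)
    (hz : ∀ b : F, b ^ 2 ≠ z) :
    ∃ a : ℕ, n = 2 * a ∧ A.charpoly = (X ^ 2 - C z) ^ a := by
  have hirr : Irreducible (X ^ 2 - C z : F[X]) := X_pow_sub_C_irreducible_of_prime Nat.prime_two hz
  have hmon : (X ^ 2 - C z : F[X]).Monic := Polynomial.monic_X_pow_sub_C z (by norm_num)
  have h2' : ((2 : ℕ) : F) ≠ 0 := by exact_mod_cast h2
  have hsq : Squarefree (X ^ 2 - C z : F[X]) :=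
    (Polynomial.separable_X_pow_sub_C z h2' hz0).squarefree
  have hkill : aeval A (X ^ 2 - C z : F[X]) = 0 := by
    rw [map_sub, map_pow, aeval_X, aeval_C, hA, Algebra.algebraMap_eq_smul_one, sub_self]
  obtain ⟨a, ha1, ha2⟩ := Cfsg.Agent.Helper8.SemiS.expo_of_killed
    (fun _ : Unit => (X ^ 2 - C z : F[X])) (X ^ 2 - C z) hsq
    (fun P hP hPi hdvd => ⟨(), Polynomial.eq_of_monic_of_associated hP hmon
      (Irreducible.associated_of_dvd hPi hirr hdvd)⟩)
    (fun _ => hmon) A hkill
  refine ⟨a default, ?_, ?_⟩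
  · have hdeg : (X ^ 2 - C z : F[X]).natDegree = 2 := Polynomial.natDegree_X_pow_sub_C
    simp only [Finset.univ_unique, Finset.sum_singleton, hdeg] at ha2
    omega
  · simp only [Finset.univ_unique, Finset.prod_singleton] at ha1
    exact ha1

variable {V : Type*} [AddCommGroup V] [Module F V]

theorem map_comb (Q' : QuadraticForm F V) (p p' : V) (a c : F) :
    Q' (a • p + c • p') = a ^ 2 * Q' p + c ^ 2 * Q' p' + a * c * QuadraticMap.polar Q' p p' := by
  rw [QuadraticMap.map_add Q', QuadraticMap.map_smul, QuadraticMap.map_smul,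
    QuadraticMap.polar_smul_left, QuadraticMap.polar_smul_right, smul_eq_mul, smul_eq_mul,
    smul_eq_mul, smul_eq_mul]
  ring

theorem polar_comb (Q' : QuadraticForm F V) (p p' r r' : V) (a c a' c' : F) :
    QuadraticMap.polar Q' (a • p + c • p') (a' • r + c' • r') =
      a * a' * QuadraticMap.polar Q' p r + a * c' * QuadraticMap.polar Q' p r' +
        c * a' * QuadraticMap.polar Q' p' r + c * c' * QuadraticMap.polar Q' p' r' := by
  rw [QuadraticMap.polar_add_left, QuadraticMap.polar_add_right, QuadraticMap.polar_add_right,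
    QuadraticMap.polar_smul_left, QuadraticMap.polar_smul_left, QuadraticMap.polar_smul_left,
    QuadraticMap.polar_smul_left, QuadraticMap.polar_smul_right, QuadraticMap.polar_smul_right,
    QuadraticMap.polar_smul_right, QuadraticMap.polar_smul_right]
  simp only [smul_eq_mul]
  ring

/-- a similarity with multiplier `z` and square `z`, from an orthogonal basis indexed by pairs. -/
theorem exists_sq_similarity [Fintype F] [FiniteDimensional F V] (h2 : (2 : F) ≠ 0) {m : ℕ}
    (Q' : QuadraticForm F V) (hQ' : Nondeg Q') (b : Basis (Fin m ⊕ Fin m) F V)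
    (hb1 : ∀ s t, s ≠ t → QuadraticMap.polar Q' (b s) (b t) = 0) (hb2 : ∀ s, Q' (b s) ≠ 0)
    (z : F) (hz0 : z ≠ 0) :
    ∃ g : V ≃ₗ[F] V, (∀ v, Q' (g v) = z * Q' v) ∧ ∀ v, g (g v) = z • v := by
  have hodd : Fintype.card F % 2 = 1 := by
    apply FiniteField.odd_card_of_char_ne_two
    intro h
    apply h2
    have := ringChar.Nat.cast_ringChar (R := F)
    rw [h] at this
    exact_mod_cast this
  -- the coefficients
  have hex : ∀ i : Fin m, ∃ al ga : F,
      Q' (b (Sum.inl i)) * al ^ 2 + Q' (b (Sum.inr i)) * ga ^ 2 = z * Q' (b (Sum.inl i)) := by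
    intro i
    have hf : (C (Q' (b (Sum.inl i))) * X ^ 2 + C 0 * X + C (-(z * Q' (b (Sum.inl i)))) : F[X]).degree
        = 2 := Polynomial.degree_quadratic (hb2 _)
    have hg : (C (Q' (b (Sum.inr i))) * X ^ 2 + C 0 * X + C 0 : F[X]).degree = 2 :=
      Polynomial.degree_quadratic (hb2 _)
    obtain ⟨al, ga, h⟩ := FiniteField.exists_root_sum_quadratic hf hg hodd
    refine ⟨al, ga, ?_⟩
    simp only [eval_add, eval_mul, eval_C, eval_pow, eval_X, zero_mul, add_zero] at h
    linear_combination h
  choose al ga hag using hex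
  obtain ⟨be, hbe⟩ : ∃ be : Fin m → F,
      ∀ i, be i * Q' (b (Sum.inl i)) = Q' (b (Sum.inr i)) * ga i := by
    refine ⟨fun i => Q' (b (Sum.inr i)) * ga i / Q' (b (Sum.inl i)), fun i => ?_⟩
    rw [div_mul_cancel₀ _ (hb2 _)]
  -- the images of the basis vectors
  obtain ⟨u, hu⟩ : ∃ u : Fin m ⊕ Fin m → V, u = Sum.elim
      (fun i => al i • b (Sum.inl i) + ga i • b (Sum.inr i))
      (fun i => be i • b (Sum.inl i) + (-al i) • b (Sum.inr i)) := ⟨_, rfl⟩
  have hul : ∀ i, u (Sum.inl i) = al i • b (Sum.inl i) + ga i • b (Sum.inr i) := by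
    intro i; rw [hu]; rfl
  have hur : ∀ i, u (Sum.inr i) = be i • b (Sum.inl i) + (-al i) • b (Sum.inr i) := by
    intro i; rw [hu]; rfl
  have hlr : ∀ i j : Fin m, QuadraticMap.polar Q' (b (Sum.inl i)) (b (Sum.inr j)) = 0 :=
    fun i j => hb1 _ _ Sum.inl_ne_inr
  have hrl : ∀ i j : Fin m, QuadraticMap.polar Q' (b (Sum.inr i)) (b (Sum.inl j)) = 0 :=
    fun i j => hb1 _ _ Sum.inr_ne_inl
  have hll : ∀ i j : Fin m, i ≠ j → QuadraticMap.polar Q' (b (Sum.inl i)) (b (Sum.inl j)) = 0 :=
    fun i j hij => hb1 _ _ (fun h => hij (Sum.inl_injective h))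
  have hrr : ∀ i j : Fin m, i ≠ j → QuadraticMap.polar Q' (b (Sum.inr i)) (b (Sum.inr j)) = 0 :=
    fun i j hij => hb1 _ _ (fun h => hij (Sum.inr_injective h))
  -- the values
  have h1l : ∀ i, Q' (u (Sum.inl i)) = z * Q' (b (Sum.inl i)) := by
    intro i
    rw [hul, map_comb, hlr, mul_zero, add_zero]
    linear_combination hag i
  have h1r : ∀ i, Q' (u (Sum.inr i)) = z * Q' (b (Sum.inr i)) := by
    intro i
    rw [hur, map_comb, hlr, mul_zero, add_zero]
    have hA := hb2 (Sum.inl i)
    apply mul_left_cancel₀ hA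
    linear_combination (be i * Q' (b (Sum.inl i)) + Q' (b (Sum.inr i)) * ga i) * hbe i +
      Q' (b (Sum.inr i)) * hag i
  have h1 : ∀ s, Q' (u s) = z * Q' (b s) := by
    rintro (i | i)
    · exact h1l i
    · exact h1r i
  have h2' : ∀ s t, QuadraticMap.polar Q' (u s) (u t) = z * QuadraticMap.polar Q' (b s) (b t) := by
    have hlr' : ∀ i j, QuadraticMap.polar Q' (u (Sum.inl i)) (u (Sum.inr j)) =
        z * QuadraticMap.polar Q' (b (Sum.inl i)) (b (Sum.inr j)) := by
      intro i j
      rw [hul, hur, polar_comb, hlr, hrl]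
      by_cases hij : i = j
      · subst hij
        rw [polar_self', polar_self']
        linear_combination (2 * al i) * hbe i
      · rw [hll i j hij, hrr i j hij]
        ring
    rintro (i | i) (j | j)
    · by_cases hij : i = j
      · subst hij
        rw [polar_self', polar_self', h1l]
        ring
      · rw [hul, hul, polar_comb, hll i j hij, hrr i j hij, hlr, hrl]
        ring
    · exact hlr' i j
    · rw [QuadraticMap.polar_comm, hlr' j i, QuadraticMap.polar_comm]
    · by_cases hij : i = j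
      · subst hij
        rw [polar_self', polar_self', h1r]
        ring
      · rw [hur, hur, polar_comb, hll i j hij, hrr i j hij, hlr, hrl]
        ring
  obtain ⟨g, hg1, hg2⟩ := exists_similarity Q' hQ' b u hz0 h1 h2'
  refine ⟨g, hg1, ?_⟩
  have hcomp : (g : V →ₗ[F] V) ∘ₗ (g : V →ₗ[F] V) = z • LinearMap.id := by
    apply b.ext
    rintro (i | i)
    · have hA := hb2 (Sum.inl i)
      have hz' : z = al i ^ 2 + ga i * be i := by
        apply mul_left_cancel₀ hA
        linear_combination -(hag i) - ga i * hbe i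
      simp only [LinearMap.comp_apply, LinearEquiv.coe_coe, LinearMap.smul_apply,
        LinearMap.id_apply]
      rw [hg2, hul, map_add, map_smul, map_smul, hg2, hg2, hul, hur, hz']
      module
    · have hA := hb2 (Sum.inl i)
      have hz' : z = al i ^ 2 + ga i * be i := by
        apply mul_left_cancel₀ hA
        linear_combination -(hag i) - ga i * hbe i
      simp only [LinearMap.comp_apply, LinearEquiv.coe_coe, LinearMap.smul_apply,
        LinearMap.id_apply]
      rw [hg2, hur, map_add, map_smul, map_smul, hg2, hg2, hul, hur, hz']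
      module
  intro v
  have := LinearMap.congr_fun hcomp v
  simpa using this

end Cfsg.Agent.Helper1.SLO
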