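import Mathlib
import Cfsg.Agent.Helper1.SLOM

set_option autoImplicit false
set_option linter.unusedSectionVars false

/-! Row S5981, `r = 2`: every element of `SL_n` whose square is scalar has a conjugate in the
similarity group of the quadratic form (helper1). -/

namespace Cfsg.Agent.Helper1.SLO

open Matrix Module Polynomial Cfsg Cfsg.Geo Cfsg.Agent.Helper8.QuadForm

variable {F : Type*} [Field F] {n : ℕ}

/-- `r = 2`, the square of `x` is a nonsquare scalar. -/
theorem conj_of_sq_nonsquare [Fintype F] (h2 : (2 : F) ≠ 0) (hn : 1 ≤ n) {Q : (Fin n → F) → F}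
    (hQ : IsNondegenerateQuadraticForm Q) (x : GL (Fin n) F) (z : F)
    (hz : (x : Matrix (Fin n) (Fin n) F) ^ 2 = z • (1 : Matrix (Fin n) (Fin n) F))
    (hns : ∀ b : F, b ^ 2 ≠ z) :
    ∃ g ∈ specialLinear (Fin n) F, g⁻¹ * x * g ∈ quadSimilarityGroup Q := by
  have hz0 : z ≠ 0 := by
    intro h
    apply hns 0
    rw [h]
    ring
  obtain ⟨a, hna, hchar⟩ := charpoly_of_sq_nonsquare (x : Matrix (Fin n) (Fin n) F) z hz h2 hz0 hns
  obtain ⟨b, hb1, hb2⟩ := exists_orth_basis h2 hn (bundleQ Q hQ) (bundleQ_nondeg Q hQ)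
  obtain ⟨e, -⟩ : ∃ e : Fin a ⊕ Fin a ≃ Fin n, True :=
    ⟨finSumFinEquiv.trans (finCongr (by omega)), trivial⟩
  obtain ⟨b', hb'⟩ : ∃ b' : Basis (Fin a ⊕ Fin a) F (Fin n → F), ∀ s, b' s = b (e s) :=
    ⟨b.reindex e.symm, fun s => by rw [Basis.reindex_apply, Equiv.symm_symm]⟩
  obtain ⟨g, hg1, hg2⟩ := exists_sq_similarity h2 (bundleQ Q hQ) (bundleQ_nondeg Q hQ) b'
    (by
      intro s t hst
      rw [hb', hb']
      exact hb1 _ _ (fun h => hst (e.injective h)))
    (by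
      intro s
      rw [hb']
      exact hb2 _) z hz0
  have hgk : (g : (Fin n → F) →ₗ[F] (Fin n → F)) ^ 2 = z • (1 : Module.End F (Fin n → F)) := by
    apply LinearMap.ext
    intro v
    rw [pow_two, Module.End.mul_apply, LinearMap.smul_apply, Module.End.one_apply]
    exact hg2 v
  have hM : (LinearMap.toMatrix' (g : (Fin n → F) →ₗ[F] (Fin n → F))) ^ 2 =
      z • (1 : Matrix (Fin n) (Fin n) F) := by
    rw [← LinearMap.toMatrix_eq_toMatrix', LinearMap.toMatrix_pow, hgk, map_smul,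
      LinearMap.toMatrix_one]
  obtain ⟨a', hna', hchar'⟩ := charpoly_of_sq_nonsquare _ z hM h2 hz0 hns
  have haa : a' = a := by omega
  have h2' : ((2 : ℕ) : F) ≠ 0 := by exact_mod_cast h2
  refine model_of_end hn x (g : (Fin n → F) →ₗ[F] (Fin n → F)) z hz0 hg1 2 z h2' hz0 hz hgk ?_
  rw [hchar, ← LinearMap.charpoly_toMatrix (g : (Fin n → F) →ₗ[F] (Fin n → F))
    (Pi.basisFun F (Fin n)), LinearMap.toMatrix_eq_toMatrix', hchar', haa]

/-- piece A: `r = 2`. -/
theorem conj_of_sq [Fintype F] (h2 : (2 : F) ≠ 0) (hn : 1 ≤ n) {Q : (Fin n → F) → F}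
    (hQ : IsNondegenerateQuadraticForm Q) (x : GL (Fin n) F) (z : F)
    (hz : ((x ^ 2 : GL (Fin n) F) : Matrix (Fin n) (Fin n) F) =
      z • (1 : Matrix (Fin n) (Fin n) F)) :
    ∃ g ∈ specialLinear (Fin n) F, g⁻¹ * x * g ∈ quadSimilarityGroup Q := by
  rw [Units.val_pow_eq_pow_val] at hz
  by_cases hsq : ∃ lam : F, lam ^ 2 = z
  · obtain ⟨lam, hlam⟩ := hsq
    have hlam0 : lam ≠ 0 := by
      rintro rfl
      have hz0 : z = 0 := by rw [← hlam]; ring
      rw [hz0, zero_smul] at hz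
      have hdet : ((x : Matrix (Fin n) (Fin n) F) ^ 2).det ≠ 0 := by
        rw [Matrix.det_pow]
        exact pow_ne_zero 2
          ((Matrix.isUnit_iff_isUnit_det (x : Matrix (Fin n) (Fin n) F)).mp ⟨x, rfl⟩).ne_zero
      rw [hz] at hdet
      haveI : Nonempty (Fin n) := ⟨⟨0, by omega⟩⟩
      exact hdet Matrix.det_zero
    rw [← hlam] at hz
    exact conj_of_sq_square h2 hn hQ x lam hlam0 hz
  · apply conj_of_sq_nonsquare h2 hn hQ x z hz
    intro b hb
    exact hsq ⟨b, hb⟩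

end Cfsg.Agent.Helper1.SLO
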