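import Mathlib
import Cfsg.Agent.Helper8.QuadForm

set_option autoImplicit false
set_option linter.unusedSectionVars false

/-! Row S5981: a Witt basis of a nondegenerate quadratic space of odd dimension over a finite
field: hyperbolic pairs and one nonsingular vector (helper1; from helper8's `exists_hyp_family`). -/

namespace Cfsg.Agent.Helper1.SLO

open Module Cfsg.Agent.Helper8.QuadForm

variable {F : Type*} [Field F]

/-- the partner of an index of a Witt basis. -/
def wittPartner {k : ℕ} : (Fin k ⊕ Fin k) ⊕ Fin 1 → (Fin k ⊕ Fin k) ⊕ Fin 1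
  | Sum.inl (Sum.inl i) => Sum.inl (Sum.inr i)
  | Sum.inl (Sum.inr i) => Sum.inl (Sum.inl i)
  | Sum.inr j => Sum.inr j

/-- a Witt basis in odd dimension: two basis vectors are orthogonal unless they are partners. -/
theorem exists_witt_basis [Fintype F] (k : ℕ) {V : Type*} [AddCommGroup V] [Module F V]
    [FiniteDimensional F V] (Q' : QuadraticForm F V) (hQ' : Nondeg Q')
    (hV : finrank F V = 2 * k + 1) :
    ∃ b : Basis ((Fin k ⊕ Fin k) ⊕ Fin 1) F V,
      ∀ s t, QuadraticMap.polar Q' (b s) (b t) ≠ 0 → t = wittPartner s := by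
  classical
  obtain ⟨e, f, W, hhyp, hperp, hWdim, hWnd⟩ := exists_hyp_family k Q' hQ' 1 le_rfl hV
  obtain ⟨x, hxW, hxx, -⟩ := ne_zero_of_line Q' hWdim hWnd
  have hpx := hperp x hxW
  have hdual : ∀ i j : (Fin k ⊕ Fin k) ⊕ Fin 1,
      QuadraticMap.polar Q' (Sum.elim (Sum.elim e f) (fun _ : Fin 1 => x) i)
        (Sum.elim (Sum.elim f e) (fun _ : Fin 1 => x) j) =
      if i = j then Sum.elim (fun _ => (1 : F)) (fun _ : Fin 1 => QuadraticMap.polar Q' x x) i
        else 0 := by
    apply dual_sum Q' (hhyp.dual Q')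
    · intro i j
      rw [if_pos (Subsingleton.elim i j)]
    · rintro (i | i) j
      · exact (hpx i).1
      · exact (hpx i).2
    · rintro i (j | j)
      · rw [QuadraticMap.polar_comm]; exact (hpx j).2
      · rw [QuadraticMap.polar_comm]; exact (hpx j).1
  have hli : LinearIndependent F (Sum.elim (Sum.elim e f) (fun _ : Fin 1 => x)) := by
    refine linearIndependent_of_dual Q' _ _ _ ?_ hdual
    rintro (i | i)
    · exact one_ne_zero
    · exact hxx
  obtain ⟨b, hb⟩ := exists_basis_of_li hli (by simp [hV]; omega)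
  refine ⟨b, ?_⟩
  obtain ⟨h1, h2, h3⟩ := hhyp
  intro s t hst
  rw [hb] at hst
  rcases s with (i | i) | i <;> rcases t with (j | j) | j
  · exact absurd (h3 i j).1 hst
  · simp only [Sum.elim_inl, Sum.elim_inr] at hst
    rw [h2 i j] at hst
    by_cases hij : i = j
    · rw [hij]; rfl
    · rw [if_neg hij] at hst; exact absurd rfl hst
  · exact absurd (hpx i).1 hst
  · simp only [Sum.elim_inl, Sum.elim_inr] at hst
    rw [QuadraticMap.polar_comm, h2 j i] at hst
    by_cases hij : j = i
    · rw [hij]; rfl
    · rw [if_neg hij] at hst; exact absurd rfl hst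
  · exact absurd (h3 i j).2 hst
  · exact absurd (hpx i).2 hst
  · simp only [Sum.elim_inl, Sum.elim_inr] at hst
    rw [QuadraticMap.polar_comm] at hst
    exact absurd (hpx j).1 hst
  · simp only [Sum.elim_inl, Sum.elim_inr] at hst
    rw [QuadraticMap.polar_comm] at hst
    exact absurd (hpx j).2 hst
  · show Sum.inr j = Sum.inr i
    rw [Subsingleton.elim j i]

end Cfsg.Agent.Helper1.SLO
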