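import Mathlib
import Cfsg.Agent.Helper8.SpSSympIso
import Cfsg.Agent.Helper8.SpSHerm
import Cfsg.Agent.Helper8.SpOrder
set_option autoImplicit false

/-! The `K`-linear isometries of an alternating `F`-form on a `K`-space for which `K` acts by
self-adjoint maps `a` with `B (a v) v = 0`: they form a symplectic group over `K`. -/

namespace Cfsg.Agent.Helper1.SSCent

open Module Matrix
open Cfsg.Agent.Helper8.SpS

universe u

section defs

variable {F K : Type*} {V : Type u} [Field F] [Field K] [Algebra F K] [AddCommGroup V]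
  [Module F V] [Module K V] [IsScalarTower F K V]

/-- the functional `a ↦ B (a • u) v` -/
def nu (B : V →ₗ[F] V →ₗ[F] F) (u v : V) : K →ₗ[F] F where
  toFun a := B (a • u) v
  map_add' a a' := by rw [add_smul, map_add, LinearMap.add_apply]
  map_smul' r a := by
    rw [smul_assoc, map_smul, LinearMap.smul_apply]
    rfl

theorem nu_apply (B : V →ₗ[F] V →ₗ[F] F) (u v : V) (a : K) : nu B u v a = B (a • u) v := rfl

variable [FiniteDimensional F K]

/-- the `K`-valued form -/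
noncomputable def bk (l₀ : K →ₗ[F] F) (hl₀ : l₀ ≠ 0) (B : V →ₗ[F] V →ₗ[F] F) (u v : V) : K :=
  Classical.choose (exists_repr_functional l₀ hl₀ (nu B u v))

theorem bk_spec (l₀ : K →ₗ[F] F) (hl₀ : l₀ ≠ 0) (B : V →ₗ[F] V →ₗ[F] F) (u v : V) (a : K) :
    B (a • u) v = l₀ (bk l₀ hl₀ B u v * a) :=
  Classical.choose_spec (exists_repr_functional l₀ hl₀ (nu B u v)) a

theorem bk_unique (l₀ : K →ₗ[F] F) (hl₀ : l₀ ≠ 0) (B : V →ₗ[F] V →ₗ[F] F) (u v : V) {c : K}
    (h : ∀ a, B (a • u) v = l₀ (c * a)) : bk l₀ hl₀ B u v = c := by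
  have h1 : ∀ a, l₀ ((bk l₀ hl₀ B u v - c) * a) = 0 := by
    intro a
    rw [sub_mul, map_sub, ← bk_spec, ← h, sub_self]
  exact sub_eq_zero.mp (eq_zero_of_functional l₀ hl₀ _ h1)

/-- the `K`-bilinear form -/
noncomputable def BK (l₀ : K →ₗ[F] F) (hl₀ : l₀ ≠ 0) (B : V →ₗ[F] V →ₗ[F] F)
    (hsa : ∀ (a : K) (u v : V), B (a • u) v = B u (a • v)) : V →ₗ[K] V →ₗ[K] K :=
  LinearMap.mk₂ K (bk l₀ hl₀ B)
    (by
      intro u u' v
      apply bk_unique
      intro a
      rw [smul_add, map_add, LinearMap.add_apply, bk_spec l₀ hl₀, bk_spec l₀ hl₀, add_mul, map_add])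
    (by
      intro c u v
      apply bk_unique
      intro a
      rw [smul_smul, bk_spec l₀ hl₀, smul_eq_mul]
      congr 1
      ring)
    (by
      intro u v v'
      apply bk_unique
      intro a
      rw [map_add, bk_spec l₀ hl₀, bk_spec l₀ hl₀, add_mul, map_add])
    (by
      intro c u v
      apply bk_unique
      intro a
      rw [← hsa, smul_smul, bk_spec l₀ hl₀, smul_eq_mul]
      congr 1
      ring)

theorem BK_apply (l₀ : K →ₗ[F] F) (hl₀ : l₀ ≠ 0) (B : V →ₗ[F] V →ₗ[F] F)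
    (hsa : ∀ (a : K) (u v : V), B (a • u) v = B u (a • v)) (u v : V) :
    BK l₀ hl₀ B hsa u v = bk l₀ hl₀ B u v := rfl

theorem BK_spec (l₀ : K →ₗ[F] F) (hl₀ : l₀ ≠ 0) (B : V →ₗ[F] V →ₗ[F] F)
    (hsa : ∀ (a : K) (u v : V), B (a • u) v = B u (a • v)) (u v : V) :
    B u v = l₀ (BK l₀ hl₀ B hsa u v) := by
  have := bk_spec l₀ hl₀ B u v 1
  rwa [one_smul, mul_one] at this

theorem BK_alt (l₀ : K →ₗ[F] F) (hl₀ : l₀ ≠ 0) (B : V →ₗ[F] V →ₗ[F] F)
    (hsa : ∀ (a : K) (u v : V), B (a • u) v = B u (a • v))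
    (halt : ∀ (a : K) (v : V), B (a • v) v = 0) : Alt (BK l₀ hl₀ B hsa) := by
  intro v
  rw [BK_apply]
  apply bk_unique
  intro a
  rw [halt, zero_mul, map_zero]

theorem BK_nondeg (l₀ : K →ₗ[F] F) (hl₀ : l₀ ≠ 0) (B : V →ₗ[F] V →ₗ[F] F)
    (hsa : ∀ (a : K) (u v : V), B (a • u) v = B u (a • v))
    (hnd : ∀ u, (∀ v, B u v = 0) → u = 0) : Nondeg (BK l₀ hl₀ B hsa) := by
  intro u hu
  apply hnd
  intro v
  rw [BK_spec l₀ hl₀ B hsa, hu, map_zero]

/-- `K`-linear maps preserve `B` iff they preserve the `K`-form -/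
theorem pres_iff (l₀ : K →ₗ[F] F) (hl₀ : l₀ ≠ 0) (B : V →ₗ[F] V →ₗ[F] F)
    (hsa : ∀ (a : K) (u v : V), B (a • u) v = B u (a • v)) (z : V →ₗ[K] V) :
    (∀ u v, B (z u) (z v) = B u v) ↔
      ∀ u v, BK l₀ hl₀ B hsa (z u) (z v) = BK l₀ hl₀ B hsa u v := by
  constructor
  · intro h u v
    rw [BK_apply, BK_apply]
    apply bk_unique
    intro a
    rw [← map_smul, h, bk_spec l₀ hl₀]
  · intro h u v
    rw [BK_spec l₀ hl₀ B hsa, BK_spec l₀ hl₀ B hsa, h]

end defs

section mat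

variable {K : Type*} {V : Type u} [Field K] [AddCommGroup V] [Module K V]

/-- the Gram matrix of a symplectic basis is `-J` -/
theorem gram_eq {k : ℕ} (C : V →ₗ[K] V →ₗ[K] K) (b : Basis (Fin k ⊕ Fin k) K V)
    (hb : ∀ x y, C (b x) (b y) = Jent x y) :
    LinearMap.toMatrix₂ b b C = -(Matrix.J (Fin k) K) := by
  ext x y
  rw [LinearMap.toMatrix₂_apply, hb]
  rcases x with i | i <;> rcases y with j | j <;> simp [Jent, Matrix.J, Matrix.one_apply]
  split_ifs <;> simp

theorem pres_iff_mem {k : ℕ} (C : V →ₗ[K] V →ₗ[K] K) (b : Basis (Fin k ⊕ Fin k) K V)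
    (hb : ∀ x y, C (b x) (b y) = Jent x y) (z : V →ₗ[K] V) :
    (∀ u v, C (z u) (z v) = C u v) ↔
      LinearMap.toMatrix b b z ∈ symplecticGroup (Fin k) K := by
  rw [SymplecticGroup.mem_iff']
  have h1 : (∀ u v, C (z u) (z v) = C u v) ↔ C.compl₁₂ z z = C := by
    constructor
    · intro h
      exact LinearMap.ext₂ h
    · intro h u v
      conv_rhs => rw [← h]
      rfl
  rw [h1, ← (LinearMap.toMatrix₂ b b).injective.eq_iff, LinearMap.toMatrix₂_compl₁₂ b b,
    gram_eq C b hb]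
  simp

end mat

section main

variable {F K V : Type*} [Field F] [Field K] [Algebra F K] [AddCommGroup V]
  [Module F V] [Module K V] [IsScalarTower F K V]

theorem injective_of_pres (B : V →ₗ[F] V →ₗ[F] F) (hnd : ∀ u, (∀ v, B u v = 0) → u = 0)
    (z : V →ₗ[K] V) (hz : ∀ u v, B (z u) (z v) = B u v) : Function.Injective z := by
  rw [injective_iff_map_eq_zero]
  intro u hu
  apply hnd
  intro v
  rw [← hz, hu, map_zero, LinearMap.zero_apply]

/-- the `K`-linear isometries, as equivalences or as maps -/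
noncomputable def equivMaps [Finite V] (B : V →ₗ[F] V →ₗ[F] F)
    (hnd : ∀ u, (∀ v, B u v = 0) → u = 0) :
    {T : V ≃ₗ[F] V // (∀ u v, B (T u) (T v) = B u v) ∧ ∀ (a : K) (v : V), T (a • v) = a • T v} ≃
      {z : V →ₗ[K] V // ∀ u v, B (z u) (z v) = B u v} where
  toFun T := ⟨{ toFun := T.1, map_add' := T.1.map_add, map_smul' := T.2.2 }, T.2.1⟩
  invFun z := ⟨LinearEquiv.ofBijective (z.1.restrictScalars F)
      (Finite.injective_iff_bijective.mp (injective_of_pres B hnd z.1 z.2)), z.2,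
      fun a v => z.1.map_smul a v⟩
  left_inv T := by
    apply Subtype.ext
    apply LinearEquiv.ext
    intro v
    rfl
  right_inv z := by
    apply Subtype.ext
    apply LinearMap.ext
    intro v
    rfl

set_option linter.unusedVariables false in
theorem card_centralizer_SS [Fintype F] [Fintype K] [Finite V]
    (B : LinearMap.BilinForm F V) (hAlt : B.IsAlt) (hnd : ∀ u, (∀ v, B u v = 0) → u = 0)
    (hsa : ∀ (a : K) (u v : V), B (a • u) v = B u (a • v))
    (halt : ∀ (a : K) (v : V), B (a • v) v = 0) :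
    ∃ m : ℕ, Module.finrank K V = 2 * m ∧
      Nat.card {T : V ≃ₗ[F] V // (∀ u v, B (T u) (T v) = B u v) ∧
          ∀ (a : K) (v : V), T (a • v) = a • T v} =
        Fintype.card K ^ (m ^ 2) * ∏ j ∈ Finset.range m, (Fintype.card K ^ (2 * (j + 1)) - 1) := by
  haveI : FiniteDimensional F K := Module.Finite.of_finite
  haveI : FiniteDimensional K V := Module.Finite.of_finite
  obtain ⟨l₀, hl₀⟩ : ∃ l₀ : K →ₗ[F] F, l₀ ≠ 0 := by
    by_contra h0
    have h : ∀ l : K →ₗ[F] F, l = 0 := fun l => by_contra (fun hl => h0 ⟨l, hl⟩)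
    have h1 : (1 : K) = 0 :=
      (Module.forall_dual_apply_eq_zero_iff F (1 : K)).mp (fun φ => by rw [h φ]; rfl)
    exact one_ne_zero h1
  obtain ⟨k, b, hb⟩ := exists_symp_basis (BK l₀ hl₀ B hsa) (BK_alt l₀ hl₀ B hsa halt)
    (BK_nondeg l₀ hl₀ B hsa hnd)
  refine ⟨k, ?_, ?_⟩
  · rw [Module.finrank_eq_card_basis b, Fintype.card_sum, Fintype.card_fin]
    ring
  · rw [← Cfsg.Agent.Helper8.SpOrder.card_symp, Nat.card_congr (equivMaps B hnd)]
    have key : ∀ z : V →ₗ[K] V, (∀ u v, B (z u) (z v) = B u v) ↔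
        LinearMap.toMatrix b b z ∈ symplecticGroup (Fin k) K := fun z =>
      (pres_iff l₀ hl₀ B hsa z).trans (pres_iff_mem (BK l₀ hl₀ B hsa) b hb z)
    exact Nat.card_congr
      { toFun := fun z => ⟨LinearMap.toMatrix b b z.1, (key z.1).mp z.2⟩
        invFun := fun M => ⟨Matrix.toLin b b M.1, (key _).mpr (by
          rw [LinearMap.toMatrix_toLin]; exact M.2)⟩
        left_inv := fun z => by
          apply Subtype.ext
          exact Matrix.toLin_toMatrix b b z.1
        right_inv := fun M => by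
          apply Subtype.ext
          exact LinearMap.toMatrix_toLin b b M.1 }

end main

end Cfsg.Agent.Helper1.SSCent
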