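import Mathlib

/-!
# Strict evaluation for kernel computations (helper1)

`Strict.strict x f = f x`, but the kernel evaluates `x` to a literal before passing it to the boolean test `f`;
this avoids the repeated evaluation of shared subterms in `decide +kernel`.
-/

set_option autoImplicit false

namespace Cfsg.Agent.Helper1.SU3

/-- a type with a strict application of boolean tests. -/
class Strict (K : Type*) where
  /-- evaluate `x`, then apply `f`. -/
  strict : K → (K → Bool) → Bool
  strict_eq : ∀ (x : K) (f : K → Bool), strict x f = f x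

variable {K : Type*} [Strict K]

/-- strict application to a triple. -/
def strict3 (t : K × K × K) (f : K × K × K → Bool) : Bool :=
  Strict.strict t.1 fun a => Strict.strict t.2.1 fun b => Strict.strict t.2.2 fun c => f (a, b, c)

@[simp] theorem strict3_eq (t : K × K × K) (f : K × K × K → Bool) : strict3 t f = f t := by
  unfold strict3
  rw [Strict.strict_eq, Strict.strict_eq, Strict.strict_eq]

/-- strict application to a `3 × 3` matrix. -/
def strictM (g : Matrix (Fin 3) (Fin 3) K) (f : Matrix (Fin 3) (Fin 3) K → Bool) : Bool :=
  strict3 (g 0 0, g 0 1, g 0 2) fun r0 => strict3 (g 1 0, g 1 1, g 1 2) fun r1 =>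
    strict3 (g 2 0, g 2 1, g 2 2) fun r2 =>
      f !![r0.1, r0.2.1, r0.2.2; r1.1, r1.2.1, r1.2.2; r2.1, r2.2.1, r2.2.2]

@[simp] theorem strictM_eq (g : Matrix (Fin 3) (Fin 3) K) (f : Matrix (Fin 3) (Fin 3) K → Bool) :
    strictM g f = f g := by
  unfold strictM
  rw [strict3_eq, strict3_eq, strict3_eq]
  congr 1
  ext i j
  fin_cases i <;> fin_cases j <;> rfl

end Cfsg.Agent.Helper1.SU3
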