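import Mathlib
import Cfsg.Agent.Helper1.SU3Strict

/-!
# A fast model of the field with `9` elements (helper1)

`E9` is `Fin 9` with the element `a + 3 * b` standing for `a + b r`, `r² = 2`; the operations are table
look-ups in natural-number literals (five bits per entry), so that the kernel evaluates each argument of an
operation exactly once.  `E9.strict x f = f x` evaluates `x` before it is passed to `f`.
-/

set_option autoImplicit false

namespace Cfsg.Agent.Helper1.SU3

/-- the field with `9` elements, as codes `a + 3 b` for `a + b r`, `r² = 2`. -/
def E9 : Type := Fin 9

namespace E9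

instance : DecidableEq E9 := inferInstanceAs (DecidableEq (Fin 9))
instance : Fintype E9 := inferInstanceAs (Fintype (Fin 9))

/-- the element with code `n % 9`. -/
def mk (n : ℕ) : E9 := (⟨n % 9, Nat.mod_lt _ (by decide)⟩ : Fin 9)

/-- the code. -/
def val (x : E9) : ℕ := Fin.val (show Fin 9 from x)

theorem val_lt (x : E9) : x.val < 9 := Fin.isLt (show Fin 9 from x)

theorem mk_val (x : E9) : mk x.val = x := by
  apply Fin.ext
  exact Nat.mod_eq_of_lt x.val_lt

theorem val_mk (n : ℕ) : (mk n).val = n % 9 := rfl

theorem ext_val {x y : E9} (h : x.val = y.val) : x = y := Fin.ext h

def ADD : ℕ := 93807277019118456224640587023517355096215633472923732714620812529974486536212715129712131194714801883298941016554175890072995955743762175872195834862917457952995616165570313473089032300574757480375839724240929536013450157461948374849584941574950163740293953943589281694255369543331403048430443846284708328085929573672491000818419894117665756869606902712914569779759925837521288565631935650308655136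
def MUL : ℕ := 138152158880271204397582885213048489963966764236665373199272421221232045020237471175625472830283811491865194411438956948669338754566426335697596207952576443690140798367974147671361127555872797964061746839242358278923021625353408880280950405331927128153113767656407763908675550025674179592848645629104886517769131237771156968824286315694842133831294984626202670581577509180358084311379288721142579200
def NEG : ℕ := 4573309895744
def INV : ℕ := 7974820186144

def add (x y : E9) : E9 := mk ((ADD >>> (5 * (32 * x.val + y.val))) &&& 31)
def mul (x y : E9) : E9 := mk ((MUL >>> (5 * (32 * x.val + y.val))) &&& 31)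
def neg (x : E9) : E9 := mk ((NEG >>> (5 * x.val)) &&& 31)
def inv (x : E9) : E9 := mk ((INV >>> (5 * x.val)) &&& 31)

instance : Zero E9 := ⟨mk 0⟩
instance : One E9 := ⟨mk 1⟩
instance : Add E9 := ⟨add⟩
instance : Mul E9 := ⟨mul⟩
instance : Neg E9 := ⟨neg⟩
instance : Inv E9 := ⟨inv⟩

/-- evaluate `x` first. -/
def strict (x : E9) (f : E9 → Bool) : Bool :=
  Nat.rec (f (mk 0)) (fun k _ => f (mk (k + 1))) x.val

theorem strict_eq (x : E9) (f : E9 → Bool) : strict x f = f x := by
  unfold strict
  have h := mk_val x
  generalize x.val = n at h
  cases n with
  | zero => show f (mk 0) = f x; rw [h]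
  | succ k => show f (mk (k + 1)) = f x; rw [h]

instance : Strict E9 := ⟨strict, strict_eq⟩

set_option maxRecDepth 100000 in
instance : Field E9 where
  add_assoc := by decide +kernel
  zero_add := by decide +kernel
  add_zero := by decide +kernel
  add_comm := by decide +kernel
  neg_add_cancel := by decide +kernel
  mul_assoc := by decide +kernel
  one_mul := by decide +kernel
  mul_one := by decide +kernel
  left_distrib := by decide +kernel
  right_distrib := by decide +kernel
  mul_comm := by decide +kernel
  zero_mul := by decide +kernel
  mul_zero := by decide +kernel
  exists_pair_ne := ⟨0, 1, by decide +kernel⟩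
  mul_inv_cancel := by decide +kernel
  inv_zero := by decide +kernel
  nsmul := nsmulRec
  zsmul := zsmulRec
  nnqsmul := _
  nnqsmul_def := fun _ _ => rfl
  qsmul := _
  qsmul_def := fun _ _ => rfl

theorem card : Fintype.card E9 = 3 ^ 2 := by decide +kernel

/-- the element `a + b r`. -/
def ofPair (a b : ℕ) : E9 := mk (a + 3 * b)

end E9

end Cfsg.Agent.Helper1.SU3
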