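import Mathlib
import Cfsg.Prelude.Def_GeometricClasses
import Cfsg.Prelude.Def_LieClassical
import Cfsg.Agent.Helper8.GUOrder
import Cfsg.Agent.Helper1.SU3E9
import Cfsg.Agent.Helper1.SU3E25

/-!
# `SU_3(q)`, `q = 3, 5`: common base for the exceptional non-maximal geometric subgroups (helper1)

* concrete models `F9`, `F25` of the fields with `9` and `25` elements (table-based, fast for `decide`);
* `glMap e : GL n K ≃* GL n F` for a ring isomorphism `e`, with `GU`, `SL` pulled back;
* `IsMaximalIn` pulled back along a group isomorphism, and moved by a conjugation;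
* the orbit method: a subgroup all of whose elements map a finite set `C` of vectors into itself is not
  maximal, as soon as some further element does so and some element of the big group does not.
-/

set_option autoImplicit false

namespace Cfsg.Agent.Helper1.SU3

open Cfsg Cfsg.Geo Matrix
open scoped MatrixGroups

/-! ## models -/

/-- the field with nine elements (fast model `E9`: codes `a + 3 b` for `a + b i`, `i² = 2 = -1`). -/
abbrev F9 := E9

/-- the field with twenty-five elements (fast model `E25`: codes `a + 5 b` for `a + b r`, `r² = 2`). -/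
abbrev F25 := E25

theorem card_F9 : Fintype.card F9 = 3 ^ 2 := E9.card
theorem card_F25 : Fintype.card F25 = 5 ^ 2 := E25.card

/-! ## transport along a ring isomorphism -/

section transport

variable {n : ℕ} {K : Type*} [Field K] {F : Type*} [Field F]

/-- the isomorphism of general linear groups induced by a ring isomorphism. -/
def glMap (e : K ≃+* F) : GL (Fin n) K ≃* GL (Fin n) F :=
  Units.mapEquiv (RingEquiv.mapMatrix e).toMulEquiv

@[simp] theorem glMap_val (e : K ≃+* F) (g : GL (Fin n) K) :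
    ((glMap e g : GL (Fin n) F) : Matrix (Fin n) (Fin n) F) = (g : Matrix (Fin n) (Fin n) K).map e := rfl

theorem comap_GU [Fintype K] [Fintype F] {q : ℕ} (hK : Fintype.card K = q ^ 2)
    (hF : Fintype.card F = q ^ 2) (e : K ≃+* F) :
    (GU n F q).comap (glMap e).toMonoidHom = GU n K q := by
  ext g
  rw [Subgroup.mem_comap, Cfsg.Agent.Helper8.GUOrder.mem_GU_iff hF,
    Cfsg.Agent.Helper8.GUOrder.mem_GU_iff hK]
  show ((g : Matrix (Fin n) (Fin n) K).map e)ᵀ * ((g : Matrix (Fin n) (Fin n) K).map e).map (· ^ q) = 1 ↔ _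
  have h2 : ((g : Matrix (Fin n) (Fin n) K).map e).map (· ^ q)
      = ((g : Matrix (Fin n) (Fin n) K).map (· ^ q)).map e := by
    ext i j
    simp [Matrix.map_apply, map_pow]
  rw [h2, ← Matrix.transpose_map, ← Matrix.map_mul]
  have h1 : ((1 : Matrix (Fin n) (Fin n) K).map e) = 1 := by
    ext i j
    simp [Matrix.map_apply, Matrix.one_apply]
  constructor
  · intro h
    exact Matrix.map_injective e.injective (h.trans h1.symm)
  · intro h
    rw [h, h1]

theorem comap_SL (e : K ≃+* F) :
    (specialLinear (Fin n) F).comap (glMap e).toMonoidHom = specialLinear (Fin n) K := by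
  ext g
  rw [Subgroup.mem_comap]
  unfold specialLinear
  rw [MonoidHom.mem_ker, MonoidHom.mem_ker]
  rw [Units.ext_iff, Units.ext_iff]
  show ((g : Matrix (Fin n) (Fin n) K).map e).det = 1 ↔ (g : Matrix (Fin n) (Fin n) K).det = 1
  have : ((g : Matrix (Fin n) (Fin n) K).map e).det = e ((g : Matrix (Fin n) (Fin n) K).det) := by
    have := RingHom.map_det (e : K →+* F) (g : Matrix (Fin n) (Fin n) K)
    simpa using this.symm
  rw [this]
  constructor
  · intro h
    exact e.injective (by rw [h, map_one])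
  · intro h
    rw [h, map_one]

theorem comap_SU [Fintype K] [Fintype F] {q : ℕ} (hK : Fintype.card K = q ^ 2)
    (hF : Fintype.card F = q ^ 2) (e : K ≃+* F) :
    (GU n F q ⊓ specialLinear (Fin n) F).comap (glMap e).toMonoidHom
      = GU n K q ⊓ specialLinear (Fin n) K := by
  rw [Subgroup.comap_inf, comap_GU hK hF, comap_SL]

end transport

/-! ## `IsMaximalIn` under isomorphisms and conjugation -/

theorem isMaximalIn_comap {G₁ G₂ : Type*} [Group G₁] [Group G₂] (Φ : G₁ ≃* G₂) {A B : Subgroup G₂}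
    (h : IsMaximalIn A B) : IsMaximalIn (A.comap Φ.toMonoidHom) (B.comap Φ.toMonoidHom) := by
  obtain ⟨hlt, hmax⟩ := h
  have hsurj : Function.Surjective Φ.toMonoidHom := Φ.surjective
  refine ⟨?_, ?_⟩
  · refine lt_of_le_of_ne (Subgroup.comap_mono hlt.le) ?_
    intro heq
    exact hlt.ne (Subgroup.comap_injective hsurj heq)
  · intro M hBM hMA
    have h1 : B ≤ M.map Φ.toMonoidHom := by
      intro x hx
      obtain ⟨y, rfl⟩ := hsurj x
      exact ⟨y, hBM hx, rfl⟩
    have h2 : M.map Φ.toMonoidHom ≤ A := by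
      rintro x ⟨y, hy, rfl⟩
      exact hMA hy
    have hM : (M.map Φ.toMonoidHom).comap Φ.toMonoidHom = M :=
      Subgroup.comap_map_eq_self_of_injective Φ.injective M
    rcases hmax _ h1 h2 with h3 | h3
    · left; rw [← hM, h3]
    · right; rw [← hM, h3]

/-- conjugation by an element normalising the big group. -/
theorem isMaximalIn_conj {G : Type*} [Group G] {A B : Subgroup G} (g : G)
    (hA : A.map (MulAut.conj g).toMonoidHom = A) (h : IsMaximalIn A (B.map (MulAut.conj g).toMonoidHom)) :
    IsMaximalIn A B := by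
  have h1 := isMaximalIn_comap (MulAut.conj g) h
  have h2 : (B.map (MulAut.conj g).toMonoidHom).comap (MulAut.conj g).toMonoidHom = B :=
    Subgroup.comap_map_eq_self_of_injective (MulAut.conj g).injective B
  have h3 : A.comap (MulAut.conj g).toMonoidHom = A := by
    conv_lhs => rw [← hA]
    exact Subgroup.comap_map_eq_self_of_injective (MulAut.conj g).injective A
  rw [h2, h3] at h1
  exact h1

/-- the special unitary group is normalised by the general unitary group. -/
theorem map_conj_SU {n : ℕ} {F : Type*} [Field F] {q : ℕ} {g : GL (Fin n) F} (hg : g ∈ GU n F q) :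
    (GU n F q ⊓ specialLinear (Fin n) F).map (MulAut.conj g).toMonoidHom
      = GU n F q ⊓ specialLinear (Fin n) F := by
  have hsl : ∀ x : GL (Fin n) F, x ∈ specialLinear (Fin n) F → ∀ y : GL (Fin n) F,
      y * x * y⁻¹ ∈ specialLinear (Fin n) F := by
    intro x hx y
    unfold specialLinear at hx ⊢
    rw [MonoidHom.mem_ker] at hx ⊢
    rw [map_mul, map_mul, hx, mul_one, map_inv, mul_inv_cancel]
  ext x
  constructor
  · rintro ⟨y, ⟨hy1, hy2⟩, rfl⟩
    exact ⟨(GU n F q).mul_mem ((GU n F q).mul_mem hg hy1) ((GU n F q).inv_mem hg), hsl y hy2 g⟩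
  · rintro ⟨hx1, hx2⟩
    refine ⟨g⁻¹ * x * g, ⟨(GU n F q).mul_mem ((GU n F q).mul_mem ((GU n F q).inv_mem hg) hx1) hg, ?_⟩, ?_⟩
    · have := hsl x hx2 g⁻¹
      rwa [inv_inv] at this
    · show g * (g⁻¹ * x * g) * g⁻¹ = x
      group

/-- non-maximality of a conjugate by an element of the general unitary group. -/
theorem not_isMaximalIn_conj_GU {n : ℕ} {F : Type*} [Field F] {q : ℕ} {g : GL (Fin n) F}
    (hg : g ∈ GU n F q) {B : Subgroup (GL (Fin n) F)}
    (h : ¬ IsMaximalIn (GU n F q ⊓ specialLinear (Fin n) F) B) :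
    ¬ IsMaximalIn (GU n F q ⊓ specialLinear (Fin n) F) (B.map (MulAut.conj g).toMonoidHom) :=
  fun h' => h (isMaximalIn_conj g (map_conj_SU hg) h')

/-- non-maximality pulled back to a model of the field. -/
theorem not_isMaximalIn_of_comap {n : ℕ} {K : Type*} [Field K] [Fintype K] {F : Type*} [Field F]
    [Fintype F] {q : ℕ} (hK : Fintype.card K = q ^ 2) (hF : Fintype.card F = q ^ 2) (e : K ≃+* F)
    {B : Subgroup (GL (Fin n) F)}
    (h : ¬ IsMaximalIn (GU n K q ⊓ specialLinear (Fin n) K) (B.comap (glMap e).toMonoidHom)) :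
    ¬ IsMaximalIn (GU n F q ⊓ specialLinear (Fin n) F) B := by
  intro h'
  have := isMaximalIn_comap (glMap (n := n) e) h'
  rw [comap_SU hK hF] at this
  exact h this

/-- a field with as many elements as the model is isomorphic to it. -/
theorem exists_ringEquiv (K : Type*) [Field K] [Fintype K] (F : Type*) [Field F] [Fintype F]
    (h : Fintype.card K = Fintype.card F) : Nonempty (K ≃+* F) :=
  ⟨FiniteField.ringEquivOfCardEq h⟩

/-! ## the orbit method -/

section orbit

variable {n : ℕ} {K : Type*} [Field K]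

/-- A subgroup `H ≤ G` all of whose elements map the finite set `C` into itself is not maximal in `G`,
if some `t ∈ G ∖ H` maps `C` into itself and some `g₁ ∈ G` does not. -/
theorem not_isMaximalIn_of_invariant {G H : Subgroup (GL (Fin n) K)} (C : Set (Fin n → K))
    (hC : C.Finite)
    (hH : ∀ g ∈ H, ∀ v ∈ C, (g : Matrix (Fin n) (Fin n) K) *ᵥ v ∈ C)
    (t : GL (Fin n) K) (htG : t ∈ G) (htH : t ∉ H)
    (ht : ∀ v ∈ C, (t : Matrix (Fin n) (Fin n) K) *ᵥ v ∈ C)
    (g₁ : GL (Fin n) K) (hg₁ : g₁ ∈ G) (v₁ : Fin n → K) (hv₁ : v₁ ∈ C)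
    (hgv : (g₁ : Matrix (Fin n) (Fin n) K) *ᵥ v₁ ∉ C) :
    ¬ IsMaximalIn G H := by
  rintro ⟨hlt, hmax⟩
  -- the stabiliser
  have key : ∀ g : GL (Fin n) K, (∀ v ∈ C, (g : Matrix (Fin n) (Fin n) K) *ᵥ v ∈ C) →
      ∀ v, (g : Matrix (Fin n) (Fin n) K) *ᵥ v ∈ C → v ∈ C := by
    intro g hg v hv
    have hinj : Function.Injective (fun w : Fin n → K => (g : Matrix (Fin n) (Fin n) K) *ᵥ w) := by
      intro a b hab
      have := congrArg (fun w => ((g⁻¹ : GL (Fin n) K) : Matrix (Fin n) (Fin n) K) *ᵥ w) hab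
      simpa [Matrix.mulVec_mulVec] using this
    have hmaps : Set.MapsTo (fun w : Fin n → K => (g : Matrix (Fin n) (Fin n) K) *ᵥ w) C C := hg
    have hsurj : Set.SurjOn (fun w : Fin n → K => (g : Matrix (Fin n) (Fin n) K) *ᵥ w) C C :=
      ((hC.injOn_iff_bijOn_of_mapsTo hmaps).mp hinj.injOn).surjOn
    obtain ⟨w, hw, hwv⟩ := hsurj hv
    rw [← hinj hwv]
    exact hw
  let M : Subgroup (GL (Fin n) K) :=
    { carrier := {g | g ∈ G ∧ ∀ v ∈ C, (g : Matrix (Fin n) (Fin n) K) *ᵥ v ∈ C}
      mul_mem' := by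
        rintro a b ⟨ha, ha'⟩ ⟨hb, hb'⟩
        refine ⟨G.mul_mem ha hb, fun v hv => ?_⟩
        rw [Units.val_mul, ← Matrix.mulVec_mulVec]
        exact ha' _ (hb' v hv)
      one_mem' := ⟨G.one_mem, fun v hv => by simpa using hv⟩
      inv_mem' := by
        rintro a ⟨ha, ha'⟩
        refine ⟨G.inv_mem ha, fun v hv => ?_⟩
        apply key a ha'
        rw [Matrix.mulVec_mulVec, ← Units.val_mul, mul_inv_cancel, Units.val_one, Matrix.one_mulVec]
        exact hv }
  have hHM : H ≤ M := fun g hg => ⟨hlt.le hg, hH g hg⟩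
  have hMG : M ≤ G := fun g hg => hg.1
  rcases hmax M hHM hMG with h | h
  · exact htH (h ▸ (⟨htG, ht⟩ : t ∈ M))
  · have : g₁ ∈ M := h ▸ hg₁
    exact hgv (this.2 v₁ hv₁)

end orbit

end Cfsg.Agent.Helper1.SU3
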