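import Mathlib
import Cfsg.Agent.Helper1.SU3Base

/-!
# Points of the projective plane as normalised triples, for `decide` (helper1)

`cone L` is the set of non-zero multiples of the vectors of the list `L` of triples; `chk L g` is the boolean test
that the matrix `g` maps every vector of `L` to a multiple of a vector of `L`.
-/

set_option autoImplicit false
set_option linter.unusedSectionVars false
set_option linter.unusedTactic false
set_option linter.unreachableTactic false
set_option linter.unnecessarySimpa false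

namespace Cfsg.Agent.Helper1.SU3

open Matrix

variable {K : Type*} [Field K] [DecidableEq K] [Strict K]

/-- the vector of a triple. -/
def toV (t : K × K × K) : Fin 3 → K := ![t.1, t.2.1, t.2.2]

/-- the triple of a vector. -/
def ofV (v : Fin 3 → K) : K × K × K := (v 0, v 1, v 2)

@[simp] theorem toV_ofV (v : Fin 3 → K) : toV (ofV v) = v := by
  funext i; fin_cases i <;> rfl

@[simp] theorem ofV_toV (t : K × K × K) : ofV (toV t) = t := rfl

/-- matrix times triple. -/
def mvT (g : Matrix (Fin 3) (Fin 3) K) (t : K × K × K) : K × K × K :=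
  (g 0 0 * t.1 + g 0 1 * t.2.1 + g 0 2 * t.2.2,
   g 1 0 * t.1 + g 1 1 * t.2.1 + g 1 2 * t.2.2,
   g 2 0 * t.1 + g 2 1 * t.2.1 + g 2 2 * t.2.2)

theorem toV_mvT (g : Matrix (Fin 3) (Fin 3) K) (t : K × K × K) : toV (mvT g t) = g *ᵥ toV t := by
  funext i
  fin_cases i <;> simp [toV, mvT, Matrix.mulVec, dotProduct, Fin.sum_univ_three]

/-- the first non-zero coordinate. -/
def piv (t : K × K × K) : K := if t.1 ≠ 0 then t.1 else if t.2.1 ≠ 0 then t.2.1 else t.2.2

/-- the normalised multiple (first non-zero coordinate one); zero for zero. -/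
def nrmT (t : K × K × K) : K × K × K :=
  if t.1 ≠ 0 then (1, t.1⁻¹ * t.2.1, t.1⁻¹ * t.2.2)
  else if t.2.1 ≠ 0 then (0, 1, t.2.1⁻¹ * t.2.2)
  else if t.2.2 ≠ 0 then (0, 0, 1) else (0, 0, 0)

theorem toV_eq_piv_smul (t : K × K × K) : toV t = piv t • toV (nrmT t) := by
  obtain ⟨a, b, c⟩ := t
  by_cases ha : a = 0
  · by_cases hb : b = 0
    · by_cases hc : c = 0
      · funext i
        fin_cases i <;> simp [toV, piv, nrmT, ha, hb, hc]
      · funext i
        fin_cases i <;> simp [toV, piv, nrmT, ha, hb, hc]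
    · funext i
      fin_cases i <;> simp [toV, piv, nrmT, ha, hb] <;> field_simp
  · funext i
    fin_cases i <;> simp [toV, piv, nrmT, ha] <;> field_simp

theorem piv_ne_zero {t : K × K × K} (h : nrmT t ≠ (0, 0, 0)) : piv t ≠ 0 := by
  obtain ⟨a, b, c⟩ := t
  by_cases ha : a = 0
  · by_cases hb : b = 0
    · by_cases hc : c = 0
      · simp [nrmT, ha, hb, hc] at h
      · simpa [piv, ha, hb] using hc
    · simpa [piv, ha, hb] using hb
  · simpa [piv, ha] using ha

theorem nrmT_smul {c : K} (hc : c ≠ 0) (t : K × K × K) :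
    nrmT (c * t.1, c * t.2.1, c * t.2.2) = nrmT t := by
  obtain ⟨a, b, d⟩ := t
  by_cases ha : a = 0
  · by_cases hb : b = 0
    · by_cases hd : d = 0
      · simp [nrmT, ha, hb, hd]
      · simp [nrmT, ha, hb, hd, hc]
    · simp [nrmT, ha, hb, hc]
      field_simp
  · simp [nrmT, ha, hc]
    constructor <;> field_simp

/-- the non-zero multiples of the vectors of a list of triples. -/
def cone (L : List (K × K × K)) : Set (Fin 3 → K) :=
  {v | ∃ c : K, c ≠ 0 ∧ ∃ t ∈ L, v = c • toV t}

theorem cone_finite [Finite K] (L : List (K × K × K)) : (cone L).Finite := Set.toFinite _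

theorem toV_mem_cone {L : List (K × K × K)} {t : K × K × K} (ht : t ∈ L) : toV t ∈ cone L :=
  ⟨1, one_ne_zero, t, ht, (one_smul _ _).symm⟩

theorem smul_mem_cone {L : List (K × K × K)} {v : Fin 3 → K} (hv : v ∈ cone L) {c : K} (hc : c ≠ 0) :
    c • v ∈ cone L := by
  obtain ⟨d, hd, t, ht, rfl⟩ := hv
  exact ⟨c * d, mul_ne_zero hc hd, t, ht, by rw [smul_smul]⟩

/-- the boolean test: `g` maps every vector of `L` to a multiple of a vector of `L`. -/
def chk (L : List (K × K × K)) (g : Matrix (Fin 3) (Fin 3) K) : Bool :=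
  L.all fun t => strict3 (mvT g t) fun u => strict3 (nrmT u) fun w => decide (w ∈ L)

theorem chk_iff (L : List (K × K × K)) (g : Matrix (Fin 3) (Fin 3) K) :
    chk L g = true ↔ ∀ t ∈ L, nrmT (mvT g t) ∈ L := by
  unfold chk
  simp only [strict3_eq, List.all_eq_true, decide_eq_true_eq]

theorem chk_sound {L : List (K × K × K)} (hL : ((0 : K), (0 : K), (0 : K)) ∉ L)
    {g : Matrix (Fin 3) (Fin 3) K} (h : chk L g = true) : ∀ v ∈ cone L, g *ᵥ v ∈ cone L := by
  rintro v ⟨c, hc, t, ht, rfl⟩
  rw [Matrix.mulVec_smul]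
  apply smul_mem_cone _ hc
  rw [chk_iff] at h
  have h1 := h t ht
  have h0 : nrmT (mvT g t) ≠ (0, 0, 0) := fun h2 => hL (h2 ▸ h1)
  rw [← toV_mvT, toV_eq_piv_smul (mvT g t)]
  exact ⟨piv (mvT g t), piv_ne_zero h0, _, h1, rfl⟩

/-- a vector of the cone of a list of normalised triples has its normalised triple in the list. -/
theorem nrmT_mem_of_mem_cone {L : List (K × K × K)} (hL : ∀ t ∈ L, nrmT t = t) {v : Fin 3 → K}
    (hv : v ∈ cone L) : nrmT (ofV v) ∈ L := by
  obtain ⟨c, hc, t, ht, rfl⟩ := hv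
  have : ofV (c • toV t) = (c * t.1, c * t.2.1, c * t.2.2) := by
    simp [ofV, toV]
  rw [this, nrmT_smul hc, hL t ht]
  exact ht

theorem not_mem_cone {L : List (K × K × K)} (hL : ∀ t ∈ L, nrmT t = t)
    {g : Matrix (Fin 3) (Fin 3) K} {t : K × K × K} (h : nrmT (mvT g t) ∉ L) :
    g *ᵥ toV t ∉ cone L := by
  intro hv
  apply h
  have := nrmT_mem_of_mem_cone hL hv
  rwa [← toV_mvT, ofV_toV] at this


end Cfsg.Agent.Helper1.SU3

namespace Cfsg.Agent.Helper1.SU3

open Matrix

variable {K : Type*} [Field K] [DecidableEq K]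

/-- the hermitian product of two triples. -/
def hermT (q : ℕ) (u v : K × K × K) : K := u.1 * v.1 ^ q + u.2.1 * v.2.1 ^ q + u.2.2 * v.2.2 ^ q

theorem hermT_eq (q : ℕ) (u v : K × K × K) : hermT q u v = Cfsg.hermForm 3 K q (toV u) (toV v) := by
  unfold hermT Cfsg.hermForm
  rw [Fin.sum_univ_three]
  rfl

/-- the `j`-th column of a matrix, as a triple. -/
def colT (g : Matrix (Fin 3) (Fin 3) K) (j : Fin 3) : K × K × K := (g 0 j, g 1 j, g 2 j)

/-- the boolean test: the columns of `g` are orthonormal for the hermitian form. -/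
def isU3 (q : ℕ) (g : Matrix (Fin 3) (Fin 3) K) : Bool :=
  decide (hermT q (colT g 0) (colT g 0) = 1) && decide (hermT q (colT g 1) (colT g 1) = 1) &&
  decide (hermT q (colT g 2) (colT g 2) = 1) && decide (hermT q (colT g 0) (colT g 1) = 0) &&
  decide (hermT q (colT g 0) (colT g 2) = 0) && decide (hermT q (colT g 1) (colT g 2) = 0) &&
  decide (hermT q (colT g 1) (colT g 0) = 0) && decide (hermT q (colT g 2) (colT g 0) = 0) &&
  decide (hermT q (colT g 2) (colT g 1) = 0)

theorem isU3_iff (q : ℕ) (g : Matrix (Fin 3) (Fin 3) K) :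
    isU3 q g = true ↔ gᵀ * g.map (· ^ q) = 1 := by
  unfold isU3
  simp only [Bool.and_eq_true, hermT, colT]
  constructor
  · rintro ⟨⟨⟨⟨⟨⟨⟨⟨h00, h11⟩, h22⟩, h01⟩, h02⟩, h12⟩, h10⟩, h20⟩, h21⟩
    replace h00 := of_decide_eq_true h00
    replace h11 := of_decide_eq_true h11
    replace h22 := of_decide_eq_true h22
    replace h01 := of_decide_eq_true h01
    replace h02 := of_decide_eq_true h02
    replace h12 := of_decide_eq_true h12
    replace h10 := of_decide_eq_true h10
    replace h20 := of_decide_eq_true h20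
    replace h21 := of_decide_eq_true h21
    ext i j
    fin_cases i <;> fin_cases j <;>
      simp [Matrix.mul_apply, Fin.sum_univ_three] <;> assumption
  · intro h
    have e : ∀ i j : Fin 3, (gᵀ * g.map (· ^ q)) i j = (1 : Matrix (Fin 3) (Fin 3) K) i j := by
      intro i j; rw [h]
    have e00 := e 0 0; have e11 := e 1 1; have e22 := e 2 2
    have e01 := e 0 1; have e02 := e 0 2; have e12 := e 1 2
    have e10 := e 1 0; have e20 := e 2 0; have e21 := e 2 1
    simp [Matrix.mul_apply, Fin.sum_univ_three] at e00 e11 e22 e01 e02 e12 e10 e20 e21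
    exact ⟨⟨⟨⟨⟨⟨⟨⟨decide_eq_true e00, decide_eq_true e11⟩, decide_eq_true e22⟩, decide_eq_true e01⟩,
      decide_eq_true e02⟩, decide_eq_true e12⟩, decide_eq_true e10⟩, decide_eq_true e20⟩, decide_eq_true e21⟩

/-- the determinant, written out. -/
def det3 (g : Matrix (Fin 3) (Fin 3) K) : K :=
  g 0 0 * g 1 1 * g 2 2 - g 0 0 * g 1 2 * g 2 1 - g 0 1 * g 1 0 * g 2 2 + g 0 1 * g 1 2 * g 2 0
    + g 0 2 * g 1 0 * g 2 1 - g 0 2 * g 1 1 * g 2 0

theorem det3_eq (g : Matrix (Fin 3) (Fin 3) K) : det3 g = g.det := by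
  rw [Matrix.det_fin_three]
  rfl

end Cfsg.Agent.Helper1.SU3
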