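import Mathlib
import Cfsg.Agent.Helper1.SU3Pts

/-!
# The `105` non-isotropic points of `PG(2,25)` fixed by `3·A_7 < SU_3(5)` (helper1)

`O105` is the orbit of the three points of the standard frame under the group generated by the monomial
matrices of `SU_3(5)` and the rational orthogonal group `SO_3(5)`; this group is `3·A_7`, of order `7560`
(computed outside Lean).  Proved here: the list is normalised, and an explicit element of `SU_3(5)` moves
the point `(0,1,0)` of `O105` outside it.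
-/

set_option autoImplicit false
set_option linter.unusedSectionVars false

namespace Cfsg.Agent.Helper1.SU3

open Matrix

/-- the element of `F25` with code `n`. -/
abbrev c (n : ℕ) : F25 := E25.mk n

/-- the `105` points. -/
def O105 : List (F25 × F25 × F25) := [
  (c 0, c 0, c 1), (c 0, c 1, c 0), (c 0, c 1, c 1), (c 0, c 1, c 4), (c 0, c 1, c 12),
  (c 0, c 1, c 13), (c 0, c 1, c 17), (c 0, c 1, c 18), (c 1, c 0, c 0), (c 1, c 0, c 1),
  (c 1, c 0, c 4), (c 1, c 0, c 12), (c 1, c 0, c 13), (c 1, c 0, c 17), (c 1, c 0, c 18),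
  (c 1, c 1, c 0), (c 1, c 1, c 1), (c 1, c 1, c 2), (c 1, c 1, c 3), (c 1, c 1, c 4),
  (c 1, c 1, c 10), (c 1, c 1, c 15), (c 1, c 2, c 1), (c 1, c 2, c 2), (c 1, c 2, c 3),
  (c 1, c 2, c 4), (c 1, c 3, c 1), (c 1, c 3, c 2), (c 1, c 3, c 3), (c 1, c 3, c 4),
  (c 1, c 4, c 0), (c 1, c 4, c 1), (c 1, c 4, c 2), (c 1, c 4, c 3), (c 1, c 4, c 4),
  (c 1, c 4, c 10), (c 1, c 4, c 15), (c 1, c 5, c 5), (c 1, c 5, c 20), (c 1, c 6, c 9),
  (c 1, c 6, c 13), (c 1, c 6, c 17), (c 1, c 6, c 21), (c 1, c 7, c 13), (c 1, c 7, c 17),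
  (c 1, c 8, c 12), (c 1, c 8, c 18), (c 1, c 9, c 6), (c 1, c 9, c 12), (c 1, c 9, c 18),
  (c 1, c 9, c 24), (c 1, c 10, c 1), (c 1, c 10, c 4), (c 1, c 11, c 14), (c 1, c 11, c 16),
  (c 1, c 12, c 0), (c 1, c 12, c 8), (c 1, c 12, c 9), (c 1, c 12, c 13), (c 1, c 12, c 17),
  (c 1, c 12, c 21), (c 1, c 12, c 22), (c 1, c 13, c 0), (c 1, c 13, c 6), (c 1, c 13, c 7),
  (c 1, c 13, c 12), (c 1, c 13, c 18), (c 1, c 13, c 23), (c 1, c 13, c 24), (c 1, c 14, c 11),
  (c 1, c 14, c 19), (c 1, c 15, c 1), (c 1, c 15, c 4), (c 1, c 16, c 11), (c 1, c 16, c 19),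
  (c 1, c 17, c 0), (c 1, c 17, c 6), (c 1, c 17, c 7), (c 1, c 17, c 12), (c 1, c 17, c 18),
  (c 1, c 17, c 23), (c 1, c 17, c 24), (c 1, c 18, c 0), (c 1, c 18, c 8), (c 1, c 18, c 9),
  (c 1, c 18, c 13), (c 1, c 18, c 17), (c 1, c 18, c 21), (c 1, c 18, c 22), (c 1, c 19, c 14),
  (c 1, c 19, c 16), (c 1, c 20, c 5), (c 1, c 20, c 20), (c 1, c 21, c 6), (c 1, c 21, c 12),
  (c 1, c 21, c 18), (c 1, c 21, c 24), (c 1, c 22, c 12), (c 1, c 22, c 18), (c 1, c 23, c 13),
  (c 1, c 23, c 17), (c 1, c 24, c 9), (c 1, c 24, c 13), (c 1, c 24, c 17), (c 1, c 24, c 21)]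

set_option maxRecDepth 100000 in
theorem O105_length : O105.length = 105 := by decide +kernel

set_option maxRecDepth 100000 in
theorem O105_zero : ((0 : F25), (0 : F25), (0 : F25)) ∉ O105 := by decide +kernel

set_option maxRecDepth 100000 in
theorem O105_nrm : ∀ t ∈ O105, nrmT t = t := by
  have h : (O105.all fun t => decide (nrmT t = t)) = true := by decide +kernel
  simpa [List.all_eq_true] using h

/-- an element of `SU_3(5)` which does not preserve `O105`. -/
def gBad25 : Matrix (Fin 3) (Fin 3) F25 := !![c 2, c 8, c 0; c 7, c 2, c 0; c 0, c 0, c 1]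

set_option maxRecDepth 100000 in
theorem gBad25_unitary : isU3 5 gBad25 = true := by decide +kernel

set_option maxRecDepth 100000 in
theorem gBad25_det : det3 gBad25 = 1 := by decide +kernel

set_option maxRecDepth 100000 in
theorem gBad25_mem : ((0 : F25), (1 : F25), (0 : F25)) ∈ O105 := by decide +kernel

set_option maxRecDepth 100000 in
theorem gBad25_bad : nrmT (mvT gBad25 ((0 : F25), (1 : F25), (0 : F25))) ∉ O105 := by decide +kernel

/-- the set of vectors spanning the `105` points. -/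
def C105 : Set (Fin 3 → F25) := cone O105

theorem C105_finite : C105.Finite := cone_finite O105

/-- a matrix passing the boolean test maps `C105` into itself. -/
theorem maps_C105 {g : Matrix (Fin 3) (Fin 3) F25} (h : chk O105 g = true) :
    ∀ v ∈ C105, g *ᵥ v ∈ C105 := chk_sound O105_zero h

theorem gBad25_not_maps : toV ((0 : F25), (1 : F25), (0 : F25)) ∈ C105 ∧
    gBad25 *ᵥ toV ((0 : F25), (1 : F25), (0 : F25)) ∉ C105 :=
  ⟨toV_mem_cone gBad25_mem, not_mem_cone O105_nrm gBad25_bad⟩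

end Cfsg.Agent.Helper1.SU3
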