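import Mathlib
import Cfsg.Agent.Lead.SpBNA

set_option autoImplicit false

/-!
The unitary group of the antidiagonal hermitian form over a field with an involution
(`StarRing`), as a standalone group of matrices over `Fin n`: basic definitions.
-/

namespace Cfsg.Agent.Helper1.SUJ

open Matrix Cfsg.Agent.Lead.SpBN

variable {K : Type*} [Field K] [StarRing K] {n : ℕ}

/-- The adjoint with respect to the antidiagonal hermitian form. -/
def dag (M : Matrix (Fin n) (Fin n) K) : Matrix (Fin n) (Fin n) K :=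
  Mᴴ.submatrix (Fin.revPerm : Equiv.Perm (Fin n)) (Fin.revPerm : Equiv.Perm (Fin n))

theorem dag_apply (M : Matrix (Fin n) (Fin n) K) (i j : Fin n) :
    dag M i j = star (M j.rev i.rev) := rfl

theorem dag_mul (A B : Matrix (Fin n) (Fin n) K) : dag (A * B) = dag B * dag A := by
  unfold dag
  rw [conjTranspose_mul, submatrix_mul_equiv]

theorem dag_one : dag (1 : Matrix (Fin n) (Fin n) K) = 1 := by
  unfold dag
  rw [conjTranspose_one, submatrix_one_equiv]

theorem dag_dag (M : Matrix (Fin n) (Fin n) K) : dag (dag M) = M := by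
  ext i j
  rw [dag_apply, dag_apply, Fin.rev_rev, Fin.rev_rev, star_star]

theorem det_dag (M : Matrix (Fin n) (Fin n) K) : (dag M).det = star M.det := by
  unfold dag
  rw [det_submatrix_equiv_self, det_conjTranspose]

theorem dag_add (A B : Matrix (Fin n) (Fin n) K) : dag (A + B) = dag A + dag B := by
  ext i j
  simp [dag_apply]

theorem dag_sub (A B : Matrix (Fin n) (Fin n) K) : dag (A - B) = dag A - dag B := by
  ext i j
  simp [dag_apply]

/-- The special unitary group of the antidiagonal form. -/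
@[ext] structure UG (n : ℕ) (K : Type*) [Field K] [StarRing K] where
  val : Matrix (Fin n) (Fin n) K
  unit : dag val * val = 1
  det : val.det = 1

namespace UG

instance : Mul (UG n K) :=
  ⟨fun a b => ⟨a.val * b.val, by
    rw [dag_mul, Matrix.mul_assoc, ← Matrix.mul_assoc (dag a.val), a.unit, Matrix.one_mul, b.unit],
    by rw [det_mul, a.det, b.det, one_mul]⟩⟩

instance : One (UG n K) := ⟨⟨1, by rw [dag_one, Matrix.one_mul], det_one⟩⟩

instance : Inv (UG n K) :=
  ⟨fun a => ⟨dag a.val, by rw [dag_dag]; exact mul_eq_one_comm.mp a.unit,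
    by rw [det_dag, a.det, star_one]⟩⟩

@[simp] theorem mul_val (a b : UG n K) : (a * b).val = a.val * b.val := rfl

@[simp] theorem one_val : (1 : UG n K).val = 1 := rfl

@[simp] theorem inv_val (a : UG n K) : (a⁻¹).val = dag a.val := rfl

instance : Group (UG n K) where
  mul_assoc a b c := UG.ext (Matrix.mul_assoc _ _ _)
  one_mul a := UG.ext (Matrix.one_mul _)
  mul_one a := UG.ext (Matrix.mul_one _)
  inv_mul_cancel a := UG.ext a.unit

theorem val_mul_dag (a : UG n K) : a.val * dag a.val = 1 := mul_eq_one_comm.mp a.unit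

theorem val_injective : Function.Injective (UG.val : UG n K → Matrix (Fin n) (Fin n) K) :=
  fun _ _ h => UG.ext h

instance [Finite K] : Finite (UG n K) := Finite.of_injective _ val_injective

theorem pow_val (a : UG n K) (k : ℕ) : (a ^ k).val = a.val ^ k := by
  induction k with
  | zero => rfl
  | succ k ih => rw [pow_succ, pow_succ, mul_val, ih]

/-- The map to the special linear group. -/
def toSL : UG n K →* Matrix.SpecialLinearGroup (Fin n) K where
  toFun a := ⟨a.val, a.det⟩
  map_one' := rfl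
  map_mul' _ _ := rfl

theorem toSL_injective : Function.Injective (toSL : UG n K → _) := by
  intro a b h
  apply UG.ext
  exact congrArg Subtype.val h

end UG

/-! ### The subgroups `B`, `N`, `T`, `U` -/

theorem dag_upper {M : Matrix (Fin n) (Fin n) K} (h : M.BlockTriangular id) :
    (dag M).BlockTriangular id := by
  intro i j hij
  change j < i at hij
  rw [dag_apply]
  have : i.rev < j.rev := Fin.rev_lt_rev.mpr hij
  have h2 : M j.rev i.rev = 0 := h this
  rw [h2, star_zero]

/-- The pattern of the adjoint of a monomial matrix. -/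
theorem dag_mono {M : Matrix (Fin n) (Fin n) K} {τ : Equiv.Perm (Fin n)} (h : MonoQ τ M) :
    MonoQ (Fin.revPerm * τ⁻¹ * Fin.revPerm) (dag M) := by
  intro i j hij
  rw [dag_apply]
  rw [h _ _, star_zero]
  intro e
  apply hij
  rw [Equiv.Perm.mul_apply, Equiv.Perm.mul_apply, Fin.revPerm_apply, Fin.revPerm_apply, e,
    perm_inv_apply, Fin.rev_rev]

/-- The upper triangular subgroup. -/
def Bsub (n : ℕ) (K : Type*) [Field K] [StarRing K] : Subgroup (UG n K) where
  carrier := {g | g.val.BlockTriangular id}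
  mul_mem' := fun ha hb => BlockTriangular.mul ha hb
  one_mem' := blockTriangular_one
  inv_mem' := fun ha => dag_upper ha

theorem mem_Bsub {g : UG n K} : g ∈ Bsub n K ↔ g.val.BlockTriangular id := Iff.rfl

/-- The monomial subgroup. -/
def Nsub (n : ℕ) (K : Type*) [Field K] [StarRing K] : Subgroup (UG n K) where
  carrier := {g | ∃ τ : Equiv.Perm (Fin n), MonoQ τ g.val}
  mul_mem' := by
    rintro a b ⟨τ, h1⟩ ⟨τ', h2⟩
    exact ⟨τ * τ', h1.mul h2⟩
  one_mem' := ⟨1, MonoQ.one⟩
  inv_mem' := by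
    rintro a ⟨τ, h1⟩
    exact ⟨_, dag_mono h1⟩

theorem mem_Nsub {g : UG n K} : g ∈ Nsub n K ↔ ∃ τ : Equiv.Perm (Fin n), MonoQ τ g.val := Iff.rfl

/-- The unitriangular subgroup. -/
def Usub (n : ℕ) (K : Type*) [Field K] [StarRing K] : Subgroup (UG n K) where
  carrier := {g | g.val.BlockTriangular id ∧ ∀ i, g.val i i = 1}
  mul_mem' := by
    rintro a b ⟨ha, ha1⟩ ⟨hb, hb1⟩
    refine ⟨BlockTriangular.mul ha hb, fun i => ?_⟩
    rw [UG.mul_val, Matrix.mul_apply, Finset.sum_eq_single i, ha1, hb1, one_mul]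
    · intro l _ hl
      rcases lt_or_gt_of_ne hl with h | h
      · rw [ha h, zero_mul]
      · rw [hb h, mul_zero]
    · intro h
      exact absurd (Finset.mem_univ _) h
  one_mem' := ⟨blockTriangular_one, fun i => one_apply_eq i⟩
  inv_mem' := by
    rintro a ⟨ha, ha1⟩
    refine ⟨dag_upper ha, fun i => ?_⟩
    rw [UG.inv_val, dag_apply, ha1, star_one]

theorem mem_Usub {g : UG n K} :
    g ∈ Usub n K ↔ g.val.BlockTriangular id ∧ ∀ i, g.val i i = 1 := Iff.rfl

theorem Usub_le_Bsub : Usub n K ≤ Bsub n K := fun _ h => h.1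

/-- Entries of a monomial element at the pattern are non-zero. -/
theorem entry_ne_zero {g : UG n K} {τ : Equiv.Perm (Fin n)} (h : MonoQ τ g.val) (j : Fin n) :
    g.val (τ j) j ≠ 0 := by
  intro h0
  have hdet : g.val.det = 0 := by
    apply Matrix.det_eq_zero_of_column_eq_zero j
    intro i
    by_cases hi : i = τ j
    · rw [hi]
      exact h0
    · exact h i j hi
  rw [g.det] at hdet
  exact one_ne_zero hdet

theorem pattern_unique {g : UG n K} {τ τ' : Equiv.Perm (Fin n)} (h : MonoQ τ g.val)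
    (h' : MonoQ τ' g.val) : τ = τ' := by
  apply Equiv.ext
  intro j
  by_contra hne
  exact entry_ne_zero h j (h' _ _ hne)

/-- The inverse of a monomial element is monomial with the inverse pattern. -/
theorem mono_inv {g : UG n K} {τ : Equiv.Perm (Fin n)} (h : MonoQ τ g.val) :
    MonoQ τ⁻¹ (g⁻¹).val := by
  intro i c hic
  have h1 : ((g⁻¹ * g : UG n K)).val i (τ⁻¹ c) = (1 : Matrix (Fin n) (Fin n) K) i (τ⁻¹ c) := by
    rw [inv_mul_cancel]
    rfl
  rw [UG.mul_val, mul_mono_apply h, perm_apply_inv, one_apply_ne hic] at h1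
  have h2 := entry_ne_zero h (τ⁻¹ c)
  rw [perm_apply_inv] at h2
  exact (mul_eq_zero.mp h1).resolve_right h2

/-- The pattern of a monomial unitary matrix commutes with the reversal. -/
theorem pattern_rev {g : UG n K} {τ : Equiv.Perm (Fin n)} (h : MonoQ τ g.val) (a : Fin n) :
    τ a.rev = (τ a).rev := by
  have h1 := mono_inv h
  have h2 : MonoQ (Fin.revPerm * τ⁻¹ * Fin.revPerm) (g⁻¹).val := dag_mono h
  have h3 := pattern_unique h1 h2
  have h4 := congrArg (fun π : Equiv.Perm (Fin n) => π (τ a).rev) h3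
  simp only [Equiv.Perm.mul_apply, Fin.revPerm_apply, Fin.rev_rev, perm_inv_apply] at h4
  -- h4 : τ⁻¹ (τ a).rev = a.rev
  rw [← h4, perm_apply_inv]

theorem perm_eq_one_of_mono_upper {g : UG n K} {τ : Equiv.Perm (Fin n)} (h : MonoQ τ g.val)
    (hB : g ∈ Bsub n K) : τ = 1 := by
  apply perm_eq_one_of_le (fun i : Fin n => (i : ℕ)) Fin.val_injective
  intro j
  by_contra hlt
  rw [not_le] at hlt
  exact entry_ne_zero h j (hB hlt)

theorem mono_one_of_mem_inf {g : UG n K} (hg : g ∈ Bsub n K ⊓ Nsub n K) :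
    MonoQ (1 : Equiv.Perm (Fin n)) g.val := by
  obtain ⟨hB, τ, h1⟩ := hg
  have hτ : τ = 1 := perm_eq_one_of_mono_upper h1 hB
  subst hτ
  exact h1

theorem mem_inf_of_mono_one {g : UG n K} (h1 : MonoQ (1 : Equiv.Perm (Fin n)) g.val) :
    g ∈ Bsub n K ⊓ Nsub n K :=
  ⟨upper_of_mono_one (fun i : Fin n => (i : ℕ)) h1, 1, h1⟩

/-- `B ⊓ N` is normalised by `N`. -/
theorem conj_mem_Bsub {m t : UG n K} (hm : m ∈ Nsub n K) (ht : t ∈ Bsub n K ⊓ Nsub n K) :
    m * t * m⁻¹ ∈ Bsub n K := by
  obtain ⟨τ, h1⟩ := hm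
  have ht1 := mono_one_of_mem_inf ht
  rw [mem_Bsub]
  apply upper_of_mono_one (fun i : Fin n => (i : ℕ))
  have h3 := (h1.mul ht1).mul (mono_inv h1)
  rw [mul_one, mul_inv_cancel] at h3
  exact h3

/-! ### Conjugation by monomial elements -/

theorem conj_inv_apply {m : UG n K} {τ : Equiv.Perm (Fin n)} (h1 : MonoQ τ m.val) (g : UG n K)
    (r c : Fin n) :
    (m⁻¹ * g * m).val r c = (m⁻¹).val r (τ r) * g.val (τ r) (τ c) * m.val (τ c) c := by
  have h1' : MonoQ (τ⁻¹)⁻¹ m.val := by
    rw [inv_inv]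
    exact h1
  have := mono_conj_apply (mono_inv h1) h1' g.val r c
  rw [inv_inv] at this
  exact this

theorem conj_apply {m : UG n K} {τ : Equiv.Perm (Fin n)} (h1 : MonoQ τ m.val) (g : UG n K)
    (r c : Fin n) :
    (m * g * m⁻¹).val r c = m.val r (τ⁻¹ r) * g.val (τ⁻¹ r) (τ⁻¹ c) * (m⁻¹).val (τ⁻¹ c) c :=
  mono_conj_apply h1 (mono_inv h1) g.val r c

/-- An element whose off-diagonal support is made increasing by `τ⁻¹` is conjugated into `B` by
`m⁻¹`. -/
theorem conj_inv_mem {m : UG n K} {τ : Equiv.Perm (Fin n)} (h1 : MonoQ τ m.val) {g : UG n K}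
    (hg : ∀ r c, r ≠ c → g.val r c ≠ 0 → τ⁻¹ r < τ⁻¹ c) : m⁻¹ * g * m ∈ Bsub n K := by
  rw [mem_Bsub]
  intro r c hcr
  change c < r at hcr
  rw [conj_inv_apply h1]
  have hne : τ r ≠ τ c := by
    intro e
    rw [τ.injective e] at hcr
    exact lt_irrefl _ hcr
  by_cases h0 : g.val (τ r) (τ c) = 0
  · rw [h0, mul_zero, zero_mul]
  · exfalso
    have := hg _ _ hne h0
    rw [perm_inv_apply, perm_inv_apply] at this
    exact lt_asymm this hcr

/-- Conjugation by a monomial element keeps in `B` the elements of `B` whose entries at the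
inverted positions vanish. -/
theorem conj_mem_of_inverted {s : UG n K} {π : Equiv.Perm (Fin n)} (h1 : MonoQ π s.val)
    {b : UG n K} (hb : b ∈ Bsub n K)
    (h0 : ∀ r c, c < r → π⁻¹ r < π⁻¹ c → b.val (π⁻¹ r) (π⁻¹ c) = 0) :
    s * b * s⁻¹ ∈ Bsub n K := by
  rw [mem_Bsub]
  intro r c hcr
  change c < r at hcr
  rw [conj_apply h1]
  have hne : π⁻¹ r ≠ π⁻¹ c := by
    intro e
    rw [(π⁻¹).injective e] at hcr
    exact lt_irrefl _ hcr
  have hz : b.val (π⁻¹ r) (π⁻¹ c) = 0 := by
    rcases lt_or_gt_of_ne hne with hlt | hgt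
    · exact h0 r c hcr hlt
    · exact hb hgt
  rw [hz, mul_zero, zero_mul]

end Cfsg.Agent.Helper1.SUJ
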