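import Mathlib
import Cfsg.Agent.Helper1.SUJa

set_option autoImplicit false

/-!
Embedding a small matrix along an injection of index sets (identity outside the range).
-/

namespace Cfsg.Agent.Helper1.SUJ

open Matrix Cfsg.Agent.Lead.SpBN

variable {K : Type*} [Field K] {n d : ℕ}

/-- The `0/1` matrix of a map of index sets. -/
def Pm (K : Type*) [Field K] {n d : ℕ} (f : Fin d → Fin n) : Matrix (Fin n) (Fin d) K :=
  (1 : Matrix (Fin n) (Fin n) K).submatrix id f

theorem Pm_apply (f : Fin d → Fin n) (i : Fin n) (a : Fin d) :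
    Pm K f i a = if i = f a then 1 else 0 := by
  unfold Pm
  rw [submatrix_apply, id, one_apply]

theorem Pm_transpose_mul {f : Fin d → Fin n} (hf : Function.Injective f) :
    (Pm K f)ᵀ * Pm K f = 1 := by
  ext a b
  rw [Matrix.mul_apply, one_apply]
  simp only [transpose_apply, Pm_apply]
  rw [Finset.sum_eq_single (f a)]
  · rw [if_pos rfl, one_mul]
    by_cases hab : a = b
    · rw [if_pos hab, if_pos (by rw [hab])]
    · rw [if_neg hab, if_neg (fun e => hab (hf e))]
  · intro i _ hi
    rw [if_neg hi, zero_mul]
  · intro h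
    exact absurd (Finset.mem_univ _) h

/-- The push-forward of a small matrix. -/
def push (f : Fin d → Fin n) (M : Matrix (Fin d) (Fin d) K) : Matrix (Fin n) (Fin n) K :=
  Pm K f * M * (Pm K f)ᵀ

theorem push_apply (f : Fin d → Fin n) (M : Matrix (Fin d) (Fin d) K) (i j : Fin n) :
    push f M i j = ∑ a, ∑ b, (if i = f a then 1 else 0) * M a b * (if j = f b then 1 else 0) := by
  unfold push
  rw [Matrix.mul_apply]
  simp only [Matrix.mul_apply, transpose_apply, Pm_apply, Finset.sum_mul]
  rw [Finset.sum_comm]

theorem push_apply_range {f : Fin d → Fin n} (hf : Function.Injective f)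
    (M : Matrix (Fin d) (Fin d) K) (a b : Fin d) : push f M (f a) (f b) = M a b := by
  rw [push_apply, Finset.sum_eq_single a]
  · rw [Finset.sum_eq_single b]
    · rw [if_pos rfl, if_pos rfl, one_mul, mul_one]
    · intro b' _ hb'
      rw [if_neg (fun e => hb' (hf e).symm), mul_zero]
    · intro h
      exact absurd (Finset.mem_univ _) h
  · intro a' _ ha'
    apply Finset.sum_eq_zero
    intro b' _
    rw [if_neg (fun e => ha' (hf e).symm), zero_mul, zero_mul]
  · intro h
    exact absurd (Finset.mem_univ _) h

theorem push_apply_of_not_left {f : Fin d → Fin n} (M : Matrix (Fin d) (Fin d) K) {i : Fin n}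
    (hi : ∀ a, f a ≠ i) (j : Fin n) : push f M i j = 0 := by
  rw [push_apply]
  apply Finset.sum_eq_zero
  intro a _
  apply Finset.sum_eq_zero
  intro b _
  rw [if_neg (fun e => hi a e.symm), zero_mul, zero_mul]

theorem push_apply_of_not_right {f : Fin d → Fin n} (M : Matrix (Fin d) (Fin d) K) (i : Fin n)
    {j : Fin n} (hj : ∀ a, f a ≠ j) : push f M i j = 0 := by
  rw [push_apply]
  apply Finset.sum_eq_zero
  intro a _
  apply Finset.sum_eq_zero
  intro b _
  rw [if_neg (fun e : j = f b => hj b e.symm), mul_zero]

theorem push_mul {f : Fin d → Fin n} (hf : Function.Injective f)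
    (A B : Matrix (Fin d) (Fin d) K) : push f A * push f B = push f (A * B) := by
  unfold push
  calc Pm K f * A * (Pm K f)ᵀ * (Pm K f * B * (Pm K f)ᵀ)
      = Pm K f * A * ((Pm K f)ᵀ * Pm K f) * B * (Pm K f)ᵀ := by
        simp only [Matrix.mul_assoc]
    _ = Pm K f * (A * B) * (Pm K f)ᵀ := by
        rw [Pm_transpose_mul hf, Matrix.mul_one, Matrix.mul_assoc (Pm K f) A B]

/-- The embedding of a small matrix: identity outside the range. -/
def emb (f : Fin d → Fin n) (A : Matrix (Fin d) (Fin d) K) : Matrix (Fin n) (Fin n) K :=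
  1 + push f (A - 1)

theorem emb_one (f : Fin d → Fin n) : emb f (1 : Matrix (Fin d) (Fin d) K) = 1 := by
  unfold emb push
  rw [sub_self, Matrix.mul_zero, Matrix.zero_mul, add_zero]

theorem push_add (f : Fin d → Fin n) (A B : Matrix (Fin d) (Fin d) K) :
    push f (A + B) = push f A + push f B := by
  unfold push
  rw [Matrix.mul_add, Matrix.add_mul]

theorem emb_mul {f : Fin d → Fin n} (hf : Function.Injective f)
    (A B : Matrix (Fin d) (Fin d) K) : emb f (A * B) = emb f A * emb f B := by
  unfold emb
  rw [Matrix.add_mul, Matrix.mul_add, Matrix.mul_add, Matrix.one_mul, Matrix.mul_one,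
    Matrix.one_mul, push_mul hf]
  have e : A * B - 1 = (B - 1) + ((A - 1) + (A - 1) * (B - 1)) := by
    rw [Matrix.sub_mul, Matrix.mul_sub, Matrix.mul_sub, Matrix.one_mul, Matrix.mul_one,
      Matrix.mul_one]
    abel
  rw [e, push_add, push_add]
  abel

theorem emb_apply_range {f : Fin d → Fin n} (hf : Function.Injective f)
    (A : Matrix (Fin d) (Fin d) K) (a b : Fin d) : emb f A (f a) (f b) = A a b := by
  unfold emb
  rw [Matrix.add_apply, push_apply_range hf, Matrix.sub_apply, one_apply, one_apply]
  by_cases hab : a = b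
  · rw [if_pos hab, if_pos (by rw [hab])]
    ring
  · rw [if_neg hab, if_neg (fun e => hab (hf e))]
    ring

theorem emb_apply_of_not_left {f : Fin d → Fin n} (A : Matrix (Fin d) (Fin d) K) {i : Fin n}
    (hi : ∀ a, f a ≠ i) (j : Fin n) : emb f A i j = (1 : Matrix (Fin n) (Fin n) K) i j := by
  unfold emb
  rw [Matrix.add_apply, push_apply_of_not_left _ hi, add_zero]

theorem emb_apply_of_not_right {f : Fin d → Fin n} (A : Matrix (Fin d) (Fin d) K) (i : Fin n)
    {j : Fin n} (hj : ∀ a, f a ≠ j) : emb f A i j = (1 : Matrix (Fin n) (Fin n) K) i j := by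
  unfold emb
  rw [Matrix.add_apply, push_apply_of_not_right _ _ hj, add_zero]

theorem det_emb {f : Fin d → Fin n} (hf : Function.Injective f) (A : Matrix (Fin d) (Fin d) K) :
    (emb f A).det = A.det := by
  unfold emb push
  rw [Matrix.mul_assoc, det_one_add_mul_comm, Matrix.mul_assoc, Pm_transpose_mul hf,
    Matrix.mul_one, add_sub_cancel]

/-- Entries of the embedding, general form. -/
theorem emb_apply_cases {f : Fin d → Fin n} (hf : Function.Injective f)
    (A : Matrix (Fin d) (Fin d) K) (i j : Fin n) :
    (∃ a b, i = f a ∧ j = f b ∧ emb f A i j = A a b) ∨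
      (((∀ a, f a ≠ i) ∨ (∀ a, f a ≠ j)) ∧ emb f A i j = (1 : Matrix (Fin n) (Fin n) K) i j) := by
  by_cases hi : ∃ a, f a = i
  · by_cases hj : ∃ b, f b = j
    · obtain ⟨a, rfl⟩ := hi
      obtain ⟨b, rfl⟩ := hj
      exact Or.inl ⟨a, b, rfl, rfl, emb_apply_range hf A a b⟩
    · push Not at hj
      exact Or.inr ⟨Or.inr hj, emb_apply_of_not_right A i hj⟩
  · push Not at hi
    exact Or.inr ⟨Or.inl hi, emb_apply_of_not_left A hi j⟩

/-- Right multiplication by an embedded matrix, columns in the range. -/
theorem mul_emb_apply_range {f : Fin d → Fin n} (hf : Function.Injective f)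
    (M : Matrix (Fin n) (Fin n) K) (A : Matrix (Fin d) (Fin d) K) (r : Fin n) (b : Fin d) :
    (M * emb f A) r (f b) = ∑ a, M r (f a) * A a b := by
  rw [Matrix.mul_apply]
  rw [← Finset.sum_subset (Finset.subset_univ (Finset.univ.image f))]
  · rw [Finset.sum_image (fun x _ y _ h => hf h)]
    apply Finset.sum_congr rfl
    intro a _
    rw [emb_apply_range hf]
  · intro l _ hl
    have hl' : ∀ a, f a ≠ l := by
      intro a e
      apply hl
      rw [Finset.mem_image]
      exact ⟨a, Finset.mem_univ _, e⟩
    rw [emb_apply_of_not_left _ hl', one_apply_ne, mul_zero]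
    intro e
    exact hl' b e.symm

/-- Right multiplication by an embedded matrix, columns outside the range. -/
theorem mul_emb_apply_of_not {f : Fin d → Fin n}
    (M : Matrix (Fin n) (Fin n) K) (A : Matrix (Fin d) (Fin d) K) (r : Fin n) {j : Fin n}
    (hj : ∀ a, f a ≠ j) : (M * emb f A) r j = M r j := by
  rw [Matrix.mul_apply, Finset.sum_eq_single j]
  · rw [emb_apply_of_not_right _ _ hj, one_apply_eq, mul_one]
  · intro l _ hl
    rw [emb_apply_of_not_right _ _ hj, one_apply_ne hl, mul_zero]
  · intro h
    exact absurd (Finset.mem_univ _) h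

/-- Left multiplication by an embedded matrix, rows in the range. -/
theorem emb_mul_apply_range {f : Fin d → Fin n} (hf : Function.Injective f)
    (A : Matrix (Fin d) (Fin d) K) (M : Matrix (Fin n) (Fin n) K) (a : Fin d) (c : Fin n) :
    (emb f A * M) (f a) c = ∑ b, A a b * M (f b) c := by
  rw [Matrix.mul_apply]
  rw [← Finset.sum_subset (Finset.subset_univ (Finset.univ.image f))]
  · rw [Finset.sum_image (fun x _ y _ h => hf h)]
    apply Finset.sum_congr rfl
    intro b _
    rw [emb_apply_range hf]
  · intro l _ hl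
    have hl' : ∀ a, f a ≠ l := by
      intro a e
      apply hl
      rw [Finset.mem_image]
      exact ⟨a, Finset.mem_univ _, e⟩
    rw [emb_apply_of_not_right _ _ hl', one_apply_ne, zero_mul]
    exact hl' a

/-- Left multiplication by an embedded matrix, rows outside the range. -/
theorem emb_mul_apply_of_not {f : Fin d → Fin n}
    (A : Matrix (Fin d) (Fin d) K) (M : Matrix (Fin n) (Fin n) K) {i : Fin n}
    (hi : ∀ a, f a ≠ i) (c : Fin n) : (emb f A * M) i c = M i c := by
  rw [Matrix.mul_apply, Finset.sum_eq_single i]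
  · rw [emb_apply_of_not_left _ hi, one_apply_eq, one_mul]
  · intro l _ hl
    rw [emb_apply_of_not_left _ hi, one_apply_ne hl.symm, zero_mul]
  · intro h
    exact absurd (Finset.mem_univ _) h

/-- The action on vectors, coordinates in the range. -/
theorem emb_mulVec_range {f : Fin d → Fin n} (hf : Function.Injective f)
    (A : Matrix (Fin d) (Fin d) K) (v : Fin n → K) (a : Fin d) :
    (emb f A *ᵥ v) (f a) = ∑ b, A a b * v (f b) := by
  change ∑ l, emb f A (f a) l * v l = _
  rw [← Finset.sum_subset (Finset.subset_univ (Finset.univ.image f))]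
  · rw [Finset.sum_image (fun x _ y _ h => hf h)]
    apply Finset.sum_congr rfl
    intro b _
    rw [emb_apply_range hf]
  · intro l _ hl
    have hl' : ∀ a, f a ≠ l := by
      intro a e
      apply hl
      rw [Finset.mem_image]
      exact ⟨a, Finset.mem_univ _, e⟩
    rw [emb_apply_of_not_right _ _ hl', one_apply_ne, zero_mul]
    exact hl' a

/-- The action on vectors, coordinates outside the range. -/
theorem emb_mulVec_of_not {f : Fin d → Fin n}
    (A : Matrix (Fin d) (Fin d) K) (v : Fin n → K) {i : Fin n} (hi : ∀ a, f a ≠ i) :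
    (emb f A *ᵥ v) i = v i := by
  change ∑ l, emb f A i l * v l = _
  rw [Finset.sum_eq_single i]
  · rw [emb_apply_of_not_left _ hi, one_apply_eq, one_mul]
  · intro l _ hl
    rw [emb_apply_of_not_left _ hi, one_apply_ne hl.symm, zero_mul]
  · intro h
    exact absurd (Finset.mem_univ _) h

/-- Upper triangularity of the embedding. -/
theorem emb_upper {f : Fin d → Fin n} (hf : StrictMono f) {A : Matrix (Fin d) (Fin d) K}
    (hA : A.BlockTriangular id) : (emb f A).BlockTriangular id := by
  intro i j hij
  change j < i at hij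
  rcases emb_apply_cases hf.injective A i j with ⟨a, b, rfl, rfl, e⟩ | ⟨-, e⟩
  · rw [e]
    exact hA (hf.lt_iff_lt.mp hij)
  · rw [e, one_apply_ne hij.ne']

/-- Diagonal entries of the embedding of a matrix with unit diagonal. -/
theorem emb_diag {f : Fin d → Fin n} (hf : Function.Injective f) {A : Matrix (Fin d) (Fin d) K}
    (hA : ∀ a, A a a = 1) (i : Fin n) : emb f A i i = 1 := by
  rcases emb_apply_cases hf A i i with ⟨a, b, h1, h2, e⟩ | ⟨-, e⟩
  · have : a = b := hf (h1.symm.trans h2)
    subst this
    rw [e, hA]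
  · rw [e, one_apply_eq]

section star

variable [StarRing K]

/-- The adjoint of the embedding along a map commuting with the reversals. -/
theorem dag_emb {f : Fin d → Fin n} (hf : Function.Injective f)
    (hrev : ∀ a, f a.rev = (f a).rev) (A : Matrix (Fin d) (Fin d) K) :
    dag (emb f A) = emb f (dag A) := by
  ext i j
  rw [dag_apply]
  rcases emb_apply_cases hf (dag A) i j with ⟨a, b, rfl, rfl, e⟩ | ⟨h, e⟩
  · rw [e, ← hrev, ← hrev, emb_apply_range hf, dag_apply]
  · rw [e]
    rcases h with h | h
    · have h' : ∀ a, f a ≠ i.rev := by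
        intro a e'
        apply h a.rev
        rw [hrev, e', Fin.rev_rev]
      rw [emb_apply_of_not_right _ _ h', one_apply, one_apply]
      by_cases hij : i = j
      · rw [if_pos hij, if_pos (by rw [hij]), star_one]
      · rw [if_neg hij, if_neg (fun e' => hij (Fin.rev_injective e'.symm)), star_zero]
    · have h' : ∀ a, f a ≠ j.rev := by
        intro a e'
        apply h a.rev
        rw [hrev, e', Fin.rev_rev]
      rw [emb_apply_of_not_left _ h', one_apply, one_apply]
      by_cases hij : i = j
      · rw [if_pos hij, if_pos (by rw [hij]), star_one]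
      · rw [if_neg hij, if_neg (fun e' => hij (Fin.rev_injective e'.symm)), star_zero]

/-- The embedding of a small unitary matrix, as an element of the group. -/
def embG (f : Fin d → Fin n) (hf : Function.Injective f) (hrev : ∀ a, f a.rev = (f a).rev)
    (A : UG d K) : UG n K :=
  ⟨emb f A.val, by rw [dag_emb hf hrev, ← emb_mul hf, A.unit, emb_one],
    by rw [det_emb hf, A.det]⟩

theorem embG_val (f : Fin d → Fin n) (hf : Function.Injective f)
    (hrev : ∀ a, f a.rev = (f a).rev) (A : UG d K) :
    (embG f hf hrev A).val = emb f A.val := rfl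

theorem embG_mul (f : Fin d → Fin n) (hf : Function.Injective f)
    (hrev : ∀ a, f a.rev = (f a).rev) (A B : UG d K) :
    embG f hf hrev (A * B) = embG f hf hrev A * embG f hf hrev B :=
  UG.ext (emb_mul hf _ _)

theorem embG_one (f : Fin d → Fin n) (hf : Function.Injective f)
    (hrev : ∀ a, f a.rev = (f a).rev) : embG f hf hrev (1 : UG d K) = 1 :=
  UG.ext (emb_one f)

theorem embG_inv (f : Fin d → Fin n) (hf : Function.Injective f)
    (hrev : ∀ a, f a.rev = (f a).rev) (A : UG d K) :
    embG f hf hrev A⁻¹ = (embG f hf hrev A)⁻¹ := by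
  rw [eq_inv_iff_mul_eq_one, ← embG_mul, inv_mul_cancel, embG_one]

end star

end Cfsg.Agent.Helper1.SUJ
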