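import Mathlib
import Cfsg.Agent.Helper1.SUJb

set_option autoImplicit false

/-!
Rank one data for the unitary groups and their transport to the big group: the double coset axiom.
-/

namespace Cfsg.Agent.Helper1.SUJ

open Matrix Cfsg.Agent.Lead.SpBN

section abstract

variable {G : Type*} [Group G]

/-- The rank one argument behind the double coset axiom, for arbitrary root groups. -/
theorem union_of_rank_one (B : Subgroup G) {s m b : G} (X Y : Set G)
    (hXinv : ∀ x ∈ X, x⁻¹ ∈ X) (hYinv : ∀ y ∈ Y, y⁻¹ ∈ Y)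
    (hclear : ∃ x ∈ X, s * (b * x) * s⁻¹ ∈ B)
    (hrank : ∀ x ∈ X, x ≠ 1 → ∃ y ∈ Y, s * x * y ∈ B)
    (hdich : (∀ x ∈ X, m⁻¹ * x * m ∈ B) ∨ (∀ y ∈ Y, m⁻¹ * y * m ∈ B)) :
    s * b * m ∈ DoubleCoset.doubleCoset (s * m) (B : Set G) B ∪
      DoubleCoset.doubleCoset m (B : Set G) B := by
  obtain ⟨x, hx, ht⟩ := hclear
  rcases hdich with hd | hd
  · left
    rw [DoubleCoset.mem_doubleCoset]
    refine ⟨_, ht, _, hd x⁻¹ (hXinv x hx), ?_⟩
    group
  · by_cases hx1 : x = 1
    · left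
      rw [hx1, mul_one] at ht
      rw [DoubleCoset.mem_doubleCoset]
      refine ⟨_, ht, 1, B.one_mem, ?_⟩
      group
    · right
      have hx1' : x⁻¹ ≠ 1 := fun e => hx1 (inv_eq_one.mp e)
      obtain ⟨y, hy, hU⟩ := hrank x⁻¹ (hXinv x hx) hx1'
      have hy' := hd y⁻¹ (hYinv y hy)
      rw [DoubleCoset.mem_doubleCoset]
      refine ⟨_, B.mul_mem ht hU, _, hy', ?_⟩
      group

/-- The positive case of the rank one argument. -/
theorem mem_of_pos (B : Subgroup G) {s m b : G} (X : Set G) (hXinv : ∀ x ∈ X, x⁻¹ ∈ X)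
    (hclear : ∃ x ∈ X, s * (b * x) * s⁻¹ ∈ B) (hd : ∀ x ∈ X, m⁻¹ * x * m ∈ B) :
    s * b * m ∈ DoubleCoset.doubleCoset (s * m) (B : Set G) B := by
  obtain ⟨x, hx, ht⟩ := hclear
  rw [DoubleCoset.mem_doubleCoset]
  refine ⟨_, ht, _, hd x⁻¹ (hXinv x hx), ?_⟩
  group

end abstract

variable {K : Type*} [Field K] [StarRing K] {n : ℕ}

/-- Rank one data. -/
structure R1 (n : ℕ) (K : Type*) [Field K] [StarRing K] where
  /-- the size of the small group -/
  d : ℕ
  /-- the embedding of the index sets -/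
  f : Fin d → Fin n
  hf : StrictMono f
  hrev : ∀ a, f a.rev = (f a).rev
  /-- the reflection -/
  s : UG d K
  /-- its pattern -/
  π : Equiv.Perm (Fin d)
  hπ : ∀ a, π (π a) = a
  hs : MonoQ π s.val
  /-- the positive root elements -/
  X : Set (UG d K)
  /-- the negative root elements -/
  Y : Set (UG d K)
  X_inv : ∀ x ∈ X, x⁻¹ ∈ X
  Y_inv : ∀ y ∈ Y, y⁻¹ ∈ Y
  X_upper : ∀ x ∈ X, x ∈ Usub d K
  Y_lower : ∀ y ∈ Y, (∀ a b, a < b → y.val a b = 0) ∧ ∀ a, y.val a a = 1
  X_supp : ∀ x ∈ X, ∀ a b, a < b → x.val a b ≠ 0 → π b < π a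
  Y_supp : ∀ y ∈ Y, ∀ a b, b < a → y.val a b ≠ 0 → π a < π b
  X_ne : ∃ x ∈ X, x ≠ 1
  rank : ∀ x ∈ X, x ≠ 1 → ∃ y ∈ Y, s * x * y ∈ Bsub d K
  conv : ∀ a, ∀ c : Fin n, (∀ b, f b ≠ c) → (c < f a ↔ c < f (π a))
  link : ∀ τ : Equiv.Perm (Fin n), (∀ c, τ c.rev = (τ c).rev) →
    (∀ a b, a < b → π b < π a → τ (f a) < τ (f b)) ∨
      (∀ a b, a < b → π b < π a → τ (f b) < τ (f a))
  /-- the pairs at which the diagonal block of an upper triangular unitary matrix is unitary -/
  Adm : Fin d → Fin d → Prop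
  adm_ok : ∀ a a', Adm a a' → ∀ l, f a ≤ l → l ≤ f a' → ∃ c, f c = l
  clear : ∀ β : Matrix (Fin d) (Fin d) K, β.BlockTriangular id →
    (∀ a a', Adm a a' → (dag β * β) a a' = (1 : Matrix (Fin d) (Fin d) K) a a') →
    ∃ x ∈ X, ∀ a a', a < a' → π a' < π a → (β * x.val) a a' = 0

namespace R1

variable (D : R1 n K)

theorem inj : Function.Injective D.f := D.hf.injective

/-- The embedding of the index sets. -/
def fe : Fin D.d ↪ Fin n := ⟨D.f, D.inj⟩

/-- The pattern of the reflection in the big group. -/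
def pat : Equiv.Perm (Fin n) := D.π.viaFintypeEmbedding D.fe

theorem pat_apply_range (a : Fin D.d) : D.pat (D.f a) = D.f (D.π a) :=
  Equiv.Perm.viaFintypeEmbedding_apply_image D.π D.fe a

theorem pat_apply_of_not {c : Fin n} (hc : ∀ b, D.f b ≠ c) : D.pat c = c := by
  apply Equiv.Perm.viaFintypeEmbedding_apply_notMem_range
  rintro ⟨b, hb⟩
  exact hc b hb

theorem pat_pat (c : Fin n) : D.pat (D.pat c) = c := by
  by_cases hc : ∃ b, D.f b = c
  · obtain ⟨b, rfl⟩ := hc
    rw [pat_apply_range, pat_apply_range, D.hπ]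
  · push Not at hc
    rw [pat_apply_of_not D hc, pat_apply_of_not D hc]

theorem pat_mul_self : D.pat * D.pat = 1 := by
  apply Equiv.ext
  intro c
  rw [Equiv.Perm.mul_apply, pat_pat, Equiv.Perm.one_apply]

theorem pat_inv : D.pat⁻¹ = D.pat := inv_eq_of_mul_eq_one_left D.pat_mul_self

/-- The embedding of the small group. -/
def E (A : UG D.d K) : UG n K := embG D.f D.inj D.hrev A

theorem E_val (A : UG D.d K) : (D.E A).val = emb D.f A.val := rfl

theorem E_mul (A B : UG D.d K) : D.E (A * B) = D.E A * D.E B := embG_mul _ _ _ A B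

theorem E_one : D.E (1 : UG D.d K) = 1 := embG_one _ _ _

theorem E_inv (A : UG D.d K) : D.E A⁻¹ = (D.E A)⁻¹ := embG_inv _ _ _ A

theorem E_injective : Function.Injective D.E := by
  intro A B h
  apply UG.ext
  ext a b
  have := congrArg (fun g : UG n K => g.val (D.f a) (D.f b)) h
  simp only [E_val, emb_apply_range D.inj] at this
  exact this

/-- The reflection in the big group. -/
def gen : UG n K := D.E D.s

theorem gen_mono : MonoQ D.pat D.gen.val := by
  intro i j hij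
  change emb D.f D.s.val i j = 0
  rcases emb_apply_cases D.inj D.s.val i j with ⟨a, b, rfl, rfl, e⟩ | ⟨h, e⟩
  · rw [e]
    apply D.hs
    intro hab
    apply hij
    rw [pat_apply_range, hab]
  · rw [e]
    apply one_apply_ne
    rintro rfl
    rcases h with h | h
    · exact hij (pat_apply_of_not D h).symm
    · exact hij (pat_apply_of_not D h).symm

theorem gen_mem_Nsub : D.gen ∈ Nsub n K := ⟨_, D.gen_mono⟩

theorem gen_inv_mono : MonoQ D.pat (D.gen⁻¹).val := by
  have h := mono_inv D.gen_mono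
  rwa [pat_inv] at h

theorem gen_sq_mem : D.gen * D.gen ∈ Bsub n K := by
  rw [mem_Bsub]
  apply upper_of_mono_one (fun i : Fin n => (i : ℕ))
  have h := D.gen_mono.mul D.gen_mono
  rwa [pat_mul_self] at h

/-- The embedded root elements are unitriangular. -/
theorem E_mem_Usub {x : UG D.d K} (hx : x ∈ Usub D.d K) : D.E x ∈ Usub n K :=
  ⟨emb_upper D.hf hx.1, fun i => emb_diag D.inj hx.2 i⟩

theorem E_mem_Bsub {x : UG D.d K} (hx : x ∈ Bsub D.d K) : D.E x ∈ Bsub n K :=
  emb_upper D.hf hx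

/-- Off-diagonal support of the embedding. -/
theorem E_supp (A : UG D.d K) {r c : Fin n} (hrc : r ≠ c) (h : (D.E A).val r c ≠ 0) :
    ∃ a b, r = D.f a ∧ c = D.f b ∧ a ≠ b ∧ A.val a b ≠ 0 := by
  rcases emb_apply_cases D.inj A.val r c with ⟨a, b, rfl, rfl, e⟩ | ⟨-, e⟩
  · refine ⟨a, b, rfl, rfl, ?_, ?_⟩
    · rintro rfl
      exact hrc rfl
    · rw [← e]
      exact h
  · exfalso
    apply h
    change emb D.f A.val r c = 0
    rw [e, one_apply_ne hrc]

/-- The dichotomy for conjugation by monomial elements. -/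
theorem dich {m : UG n K} {τ : Equiv.Perm (Fin n)} (h1 : MonoQ τ m.val) :
    (∀ x ∈ D.X, m⁻¹ * D.E x * m ∈ Bsub n K) ∨ (∀ y ∈ D.Y, m⁻¹ * D.E y * m ∈ Bsub n K) := by
  have hrev : ∀ c, τ⁻¹ c.rev = (τ⁻¹ c).rev := pattern_rev (mono_inv h1)
  rcases D.link τ⁻¹ hrev with hl | hl
  · left
    intro x hx
    apply conj_inv_mem h1
    intro r c hrc hne
    obtain ⟨a, b, rfl, rfl, hab, hne'⟩ := D.E_supp x hrc hne
    rcases lt_or_gt_of_ne hab with hlt | hgt
    · exact hl a b hlt (D.X_supp x hx a b hlt hne')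
    · exfalso
      exact hne' ((D.X_upper x hx).1 hgt)
  · right
    intro y hy
    apply conj_inv_mem h1
    intro r c hrc hne
    obtain ⟨a, b, rfl, rfl, hab, hne'⟩ := D.E_supp y hrc hne
    rcases lt_or_gt_of_ne hab with hlt | hgt
    · exfalso
      exact hne' ((D.Y_lower y hy).1 a b hlt)
    · exact hl b a hgt (D.Y_supp y hy a b hgt hne')

/-- The positive case of the dichotomy. -/
theorem conj_X_mem {m : UG n K} {τ : Equiv.Perm (Fin n)} (h1 : MonoQ τ m.val)
    (hl : ∀ a b, a < b → D.π b < D.π a → τ⁻¹ (D.f a) < τ⁻¹ (D.f b)) :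
    ∀ x ∈ D.X, m⁻¹ * D.E x * m ∈ Bsub n K := by
  intro x hx
  apply conj_inv_mem h1
  intro r c hrc hne
  obtain ⟨a, b, rfl, rfl, hab, hne'⟩ := D.E_supp x hrc hne
  rcases lt_or_gt_of_ne hab with hlt | hgt
  · exact hl a b hlt (D.X_supp x hx a b hlt hne')
  · exfalso
    exact hne' ((D.X_upper x hx).1 hgt)

/-- The diagonal block of an upper triangular unitary matrix is unitary at the admissible
pairs. -/
theorem block_unit {b : UG n K} (hb : b ∈ Bsub n K) (a a' : Fin D.d) (h : D.Adm a a') :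
    (dag (b.val.submatrix D.f D.f) * b.val.submatrix D.f D.f) a a' =
      (1 : Matrix (Fin D.d) (Fin D.d) K) a a' := by
  have h1 : (dag b.val * b.val) (D.f a) (D.f a') = (1 : Matrix (Fin n) (Fin n) K) (D.f a) (D.f a') := by
    rw [b.unit]
  rw [Matrix.mul_apply] at h1
  rw [Matrix.mul_apply]
  have h2 : (1 : Matrix (Fin n) (Fin n) K) (D.f a) (D.f a') =
      (1 : Matrix (Fin D.d) (Fin D.d) K) a a' := by
    rw [one_apply, one_apply]
    by_cases haa : a = a'
    · rw [if_pos haa, if_pos (by rw [haa])]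
    · rw [if_neg haa, if_neg (fun e => haa (D.inj e))]
  rw [← h2, ← h1]
  rw [← Finset.sum_subset (Finset.subset_univ (Finset.univ.image D.f))]
  · rw [Finset.sum_image (fun x _ y _ h => D.inj h)]
    apply Finset.sum_congr rfl
    intro c _
    rw [dag_apply, dag_apply, submatrix_apply, submatrix_apply, D.hrev, D.hrev]
  · intro l _ hl
    have hl' : ∀ c, D.f c ≠ l := by
      intro c e
      apply hl
      rw [Finset.mem_image]
      exact ⟨c, Finset.mem_univ _, e⟩
    rw [dag_apply]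
    by_cases h3 : D.f a ≤ l
    · by_cases h4 : l ≤ D.f a'
      · exfalso
        obtain ⟨c, hc⟩ := D.adm_ok a a' h l h3 h4
        exact hl' c hc
      · rw [not_le] at h4
        have : b.val l (D.f a') = 0 := hb h4
        rw [this, mul_zero]
    · rw [not_le] at h3
      have h5 : (D.f a).rev < l.rev := Fin.rev_lt_rev.mpr h3
      have : b.val l.rev (D.f a).rev = 0 := hb h5
      rw [this, star_zero, zero_mul]

/-- Clearing the inverted entries. -/
theorem clear_gen {b : UG n K} (hb : b ∈ Bsub n K) :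
    ∃ x ∈ D.E '' D.X, D.gen * (b * x) * D.gen⁻¹ ∈ Bsub n K := by
  have hβ : (b.val.submatrix D.f D.f).BlockTriangular id := by
    intro a a' haa
    change a' < a at haa
    exact hb (D.hf haa)
  obtain ⟨x, hx, hx0⟩ := D.clear _ hβ (D.block_unit hb)
  refine ⟨D.E x, ⟨x, hx, rfl⟩, ?_⟩
  have hbx : b * D.E x ∈ Bsub n K :=
    Subgroup.mul_mem _ hb (Usub_le_Bsub (D.E_mem_Usub (D.X_upper x hx)))
  apply conj_mem_of_inverted D.gen_mono hbx
  rw [pat_inv]
  intro r c hcr hlt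
  by_cases hr : ∃ a, D.f a = r
  · obtain ⟨a', rfl⟩ := hr
    by_cases hc : ∃ a, D.f a = c
    · obtain ⟨a, rfl⟩ := hc
      rw [pat_apply_range, pat_apply_range] at hlt ⊢
      have haa : a < a' := D.hf.lt_iff_lt.mp hcr
      have hππ : D.π a' < D.π a := D.hf.lt_iff_lt.mp hlt
      rw [UG.mul_val, E_val, mul_emb_apply_range D.inj]
      have := hx0 (D.π a') (D.π a) hππ (by rw [D.hπ, D.hπ]; exact haa)
      rw [Matrix.mul_apply] at this
      simpa [submatrix_apply] using this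
    · push Not at hc
      exfalso
      rw [pat_apply_range, pat_apply_of_not D hc] at hlt
      have := (D.conv a' c hc).mp hcr
      exact lt_asymm this hlt
  · push Not at hr
    by_cases hc : ∃ a, D.f a = c
    · obtain ⟨a, rfl⟩ := hc
      exfalso
      rw [pat_apply_of_not D hr, pat_apply_range] at hlt
      -- `f a < r` and `r < f (π a)`
      have h1 : ¬ r < D.f a := not_lt.mpr hcr.le
      have h2 := (D.conv a r hr).not.mp h1
      exact h2 hlt
    · push Not at hc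
      exfalso
      rw [pat_apply_of_not D hr, pat_apply_of_not D hc] at hlt
      exact lt_asymm hlt hcr

/-- The rank one relation in the big group. -/
theorem rank_gen : ∀ x ∈ D.E '' D.X, x ≠ 1 → ∃ y ∈ D.E '' D.Y, D.gen * x * y ∈ Bsub n K := by
  rintro _ ⟨x, hx, rfl⟩ hx1
  have hx1' : x ≠ 1 := by
    rintro rfl
    exact hx1 D.E_one
  obtain ⟨y, hy, h⟩ := D.rank x hx hx1'
  refine ⟨D.E y, ⟨y, hy, rfl⟩, ?_⟩
  unfold gen
  rw [← E_mul, ← E_mul]
  exact D.E_mem_Bsub h

theorem EX_inv : ∀ x ∈ D.E '' D.X, x⁻¹ ∈ D.E '' D.X := by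
  rintro _ ⟨x, hx, rfl⟩
  exact ⟨x⁻¹, D.X_inv x hx, D.E_inv x⟩

theorem EY_inv : ∀ y ∈ D.E '' D.Y, y⁻¹ ∈ D.E '' D.Y := by
  rintro _ ⟨y, hy, rfl⟩
  exact ⟨y⁻¹, D.Y_inv y hy, D.E_inv y⟩

/-- The double coset axiom. -/
theorem mul_mem_union {m b : UG n K} (hm : m ∈ Nsub n K) (hb : b ∈ Bsub n K) :
    D.gen * b * m ∈ DoubleCoset.doubleCoset (D.gen * m) (Bsub n K : Set (UG n K)) (Bsub n K) ∪
      DoubleCoset.doubleCoset m (Bsub n K : Set (UG n K)) (Bsub n K) := by
  obtain ⟨τ, h1⟩ := hm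
  apply union_of_rank_one (Bsub n K) (D.E '' D.X) (D.E '' D.Y) D.EX_inv D.EY_inv
    (D.clear_gen hb) D.rank_gen
  rcases D.dich h1 with h | h
  · left
    rintro _ ⟨x, hx, rfl⟩
    exact h x hx
  · right
    rintro _ ⟨y, hy, rfl⟩
    exact h y hy

/-- The product `s b m` lies in `B s m B` when `m⁻¹` keeps the roots positive. -/
theorem mul_mem_of_lt {m b : UG n K} {τ : Equiv.Perm (Fin n)} (h1 : MonoQ τ m.val)
    (hl : ∀ a b, a < b → D.π b < D.π a → τ⁻¹ (D.f a) < τ⁻¹ (D.f b)) (hb : b ∈ Bsub n K) :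
    D.gen * b * m ∈ DoubleCoset.doubleCoset (D.gen * m) (Bsub n K : Set (UG n K)) (Bsub n K) := by
  apply mem_of_pos (Bsub n K) (D.E '' D.X) D.EX_inv (D.clear_gen hb)
  rintro _ ⟨x, hx, rfl⟩
  exact D.conj_X_mem h1 hl x hx

/-- `s B s ≠ B`. -/
theorem conj_ne :
    (fun b : UG n K => D.gen * b * D.gen) '' (Bsub n K : Set (UG n K)) ≠
      (Bsub n K : Set (UG n K)) := by
  intro heq
  obtain ⟨x, hx, hx1⟩ := D.X_ne
  have hxB : D.E x ∈ Bsub n K := Usub_le_Bsub (D.E_mem_Usub (D.X_upper x hx))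
  have h1 : D.gen * D.E x * D.gen ∈ (Bsub n K : Set (UG n K)) := by
    rw [← heq]
    exact ⟨_, hxB, rfl⟩
  have h2 : D.gen * D.E x * D.gen⁻¹ ∈ Bsub n K := by
    have e : D.gen * D.E x * D.gen⁻¹ = (D.gen * D.E x * D.gen) * (D.gen * D.gen)⁻¹ := by group
    rw [e]
    exact Subgroup.mul_mem _ h1 (Subgroup.inv_mem _ D.gen_sq_mem)
  -- a non-zero off-diagonal entry of `x`
  have hex : ∃ a b, a < b ∧ x.val a b ≠ 0 := by
    by_contra hno
    push Not at hno
    apply hx1
    apply UG.ext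
    ext a b
    rw [UG.one_val]
    rcases lt_trichotomy a b with h | h | h
    · rw [hno a b h, one_apply_ne h.ne]
    · rw [h, (D.X_upper x hx).2, one_apply_eq]
    · rw [(D.X_upper x hx).1 h, one_apply_ne h.ne']
  obtain ⟨a, b, hab, hne⟩ := hex
  have hπ := D.X_supp x hx a b hab hne
  rw [mem_Bsub] at h2
  have hlt : D.f (D.π b) < D.f (D.π a) := D.hf hπ
  have h3 := h2 hlt
  rw [conj_apply D.gen_mono, pat_inv, pat_apply_range, pat_apply_range, D.hπ, D.hπ, E_val,
    emb_apply_range D.inj] at h3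
  have h4 := entry_ne_zero D.gen_mono (D.f a)
  rw [pat_apply_range] at h4
  have h5 := entry_ne_zero D.gen_inv_mono (D.f (D.π b))
  rw [pat_apply_range, D.hπ] at h5
  exact mul_ne_zero (mul_ne_zero h4 hne) h5 h3

end R1

end Cfsg.Agent.Helper1.SUJ
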