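import Mathlib
import Cfsg.Agent.Helper1.SUJc

set_option autoImplicit false

/-!
The rank one group of type `SU_2` (the middle node in even dimension): small data.
-/

namespace Cfsg.Agent.Helper1.SUJ

open Matrix Cfsg.Agent.Lead.SpBN

variable {K : Type*} [Field K] [StarRing K]

theorem dag2 (M : Matrix (Fin 2) (Fin 2) K) :
    dag M = !![star (M 1 1), star (M 0 1); star (M 1 0), star (M 0 0)] := by
  ext i j
  fin_cases i <;> fin_cases j <;> rfl

namespace T2

/-- The reflection. -/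
def s (τ₀ : K) (hτ : star τ₀ = -τ₀) (hτ0 : τ₀ ≠ 0) : UG 2 K :=
  ⟨!![0, τ₀; -τ₀⁻¹, 0], by
    rw [dag2]
    ext i j
    fin_cases i <;> fin_cases j <;>
      simp [Matrix.mul_apply, Fin.sum_univ_two, hτ, star_inv₀, hτ0],
    by
      rw [det_fin_two_of]
      field_simp
      ring⟩

/-- The positive root elements. -/
def x (t : K) (ht : star t = -t) : UG 2 K :=
  ⟨!![1, t; 0, 1], by
    rw [dag2]
    ext i j
    fin_cases i <;> fin_cases j <;> simp [Matrix.mul_apply, Fin.sum_univ_two, ht],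
    by rw [det_fin_two_of]; ring⟩

/-- The negative root elements. -/
def y (t : K) (ht : star t = -t) : UG 2 K :=
  ⟨!![1, 0; t, 1], by
    rw [dag2]
    ext i j
    fin_cases i <;> fin_cases j <;> simp [Matrix.mul_apply, Fin.sum_univ_two, ht],
    by rw [det_fin_two_of]; ring⟩

/-- The set of positive root elements. -/
def X (K : Type*) [Field K] [StarRing K] : Set (UG 2 K) :=
  {g | ∃ (t : K) (ht : star t = -t), g = x t ht}

/-- The set of negative root elements. -/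
def Y (K : Type*) [Field K] [StarRing K] : Set (UG 2 K) :=
  {g | ∃ (t : K) (ht : star t = -t), g = y t ht}

theorem star_neg_of {t : K} (ht : star t = -t) : star (-t) = - -t := by
  rw [star_neg, ht]

theorem x_inv (t : K) (ht : star t = -t) : (x t ht)⁻¹ = x (-t) (star_neg_of ht) := by
  apply UG.ext
  change dag (!![1, t; 0, 1] : Matrix (Fin 2) (Fin 2) K) = !![1, -t; 0, 1]
  rw [dag2]
  ext i j
  fin_cases i <;> fin_cases j <;> simp [ht]

theorem y_inv (t : K) (ht : star t = -t) : (y t ht)⁻¹ = y (-t) (star_neg_of ht) := by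
  apply UG.ext
  change dag (!![1, 0; t, 1] : Matrix (Fin 2) (Fin 2) K) = !![1, 0; -t, 1]
  rw [dag2]
  ext i j
  fin_cases i <;> fin_cases j <;> simp [ht]

theorem X_inv : ∀ g ∈ X K, g⁻¹ ∈ X K := by
  rintro _ ⟨t, ht, rfl⟩
  exact ⟨-t, star_neg_of ht, x_inv t ht⟩

theorem Y_inv : ∀ g ∈ Y K, g⁻¹ ∈ Y K := by
  rintro _ ⟨t, ht, rfl⟩
  exact ⟨-t, star_neg_of ht, y_inv t ht⟩

theorem X_upper : ∀ g ∈ X K, g ∈ Usub 2 K := by
  rintro _ ⟨t, ht, rfl⟩
  refine ⟨?_, ?_⟩
  · intro i j hij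
    change j < i at hij
    fin_cases i <;> fin_cases j <;> simp_all [x]
  · intro i
    fin_cases i <;> simp [x]

theorem Y_lower : ∀ g ∈ Y K, (∀ a b, a < b → g.val a b = 0) ∧ ∀ a, g.val a a = 1 := by
  rintro _ ⟨t, ht, rfl⟩
  refine ⟨?_, ?_⟩
  · intro i j hij
    fin_cases i <;> fin_cases j <;> simp_all [y]
  · intro i
    fin_cases i <;> simp [y]

/-- The pattern of the reflection. -/
def π : Equiv.Perm (Fin 2) := Equiv.swap 0 1

theorem hπ (a : Fin 2) : π (π a) = a := Equiv.swap_apply_self 0 1 a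

theorem hs (τ₀ : K) (hτ : star τ₀ = -τ₀) (hτ0 : τ₀ ≠ 0) : MonoQ π (s τ₀ hτ hτ0).val := by
  intro i j hij
  fin_cases i <;> fin_cases j <;> simp_all [s, π]

theorem X_supp : ∀ g ∈ X K, ∀ a b : Fin 2, a < b → g.val a b ≠ 0 → π b < π a := by
  intro g _ a b hab _
  fin_cases a <;> fin_cases b <;> simp_all [π]

theorem Y_supp : ∀ g ∈ Y K, ∀ a b : Fin 2, b < a → g.val a b ≠ 0 → π a < π b := by
  intro g _ a b hab _
  fin_cases a <;> fin_cases b <;> simp_all [π]

theorem X_ne (τ₀ : K) (hτ : star τ₀ = -τ₀) (hτ0 : τ₀ ≠ 0) : ∃ g ∈ X K, g ≠ 1 := by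
  refine ⟨x τ₀ hτ, ⟨τ₀, hτ, rfl⟩, ?_⟩
  intro e
  have := congrArg (fun g : UG 2 K => g.val 0 1) e
  simp [x] at this
  exact hτ0 this

theorem rank (τ₀ : K) (hτ : star τ₀ = -τ₀) (hτ0 : τ₀ ≠ 0) :
    ∀ g ∈ X K, g ≠ 1 → ∃ h ∈ Y K, s τ₀ hτ hτ0 * g * h ∈ Bsub 2 K := by
  rintro _ ⟨t, ht, rfl⟩ hne
  have ht0 : t ≠ 0 := by
    rintro rfl
    apply hne
    apply UG.ext
    ext i j
    fin_cases i <;> fin_cases j <;> simp [x]
  have ht' : star (-t⁻¹) = - -t⁻¹ := by
    rw [star_neg, star_inv₀, ht, inv_neg]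
  refine ⟨y (-t⁻¹) ht', ⟨_, ht', rfl⟩, ?_⟩
  rw [mem_Bsub]
  intro i j hij
  change j < i at hij
  fin_cases i <;> fin_cases j <;> simp at hij
  simp only [UG.mul_val, s, x, y]
  simp [Matrix.mul_apply, Fin.sum_univ_two]
  field_simp
  ring

/-- Clearing the inverted entry of an upper triangular unitary matrix. -/
theorem clear (β : Matrix (Fin 2) (Fin 2) K) (hβ : β.BlockTriangular id)
    (hu : ∀ a a' : Fin 2, True → (dag β * β) a a' = (1 : Matrix (Fin 2) (Fin 2) K) a a') :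
    ∃ g ∈ X K, ∀ a a' : Fin 2, a < a' → π a' < π a → (β * g.val) a a' = 0 := by
  have h10 : β 1 0 = 0 := hβ (show (0 : Fin 2) < 1 by decide)
  have h00 := hu 0 0 trivial
  have h01 := hu 0 1 trivial
  rw [dag2] at h00 h01
  simp [Matrix.mul_apply, Fin.sum_univ_two, h10] at h00 h01
  -- h00 : star (β 1 1) * β 0 0 = 1, h01 : star (β 1 1) * β 0 1 + star (β 0 1) * β 1 1 = 0
  have hb00 : β 0 0 ≠ 0 := by
    rintro e
    rw [e, mul_zero] at h00
    exact zero_ne_one h00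
  have hs11 : star (β 1 1) = (β 0 0)⁻¹ := eq_inv_of_mul_eq_one_left h00
  have hb11 : β 1 1 = (star (β 0 0))⁻¹ := by
    have := congrArg star hs11
    rwa [star_star, star_inv₀] at this
  have hs00 : star (β 0 0) ≠ 0 := by
    intro e
    apply hb00
    have := congrArg star e
    rwa [star_star, star_zero] at this
  have ht : star (-(β 0 1 / β 0 0)) = - -(β 0 1 / β 0 0) := by
    rw [star_neg, star_div₀, neg_neg]
    rw [hs11, hb11] at h01
    field_simp at h01 ⊢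
    linear_combination -h01
  refine ⟨x _ ht, ⟨_, ht, rfl⟩, ?_⟩
  intro a a' haa _
  fin_cases a <;> fin_cases a' <;> simp at haa
  simp [x, Matrix.mul_apply, Fin.sum_univ_two]
  field_simp
  ring

/-- Lowering the top of an isotropic vector. -/
theorem vstep (τ₀ : K) (hτ : star τ₀ = -τ₀) (hτ0 : τ₀ ≠ 0) (w : Fin 2 → K) (hw : w 1 ≠ 0)
    (hiso : ∑ a, star (w a.rev) * w a = 0) :
    ∃ g ∈ X K, ∀ a : Fin 2, 1 ≤ a → ((s τ₀ hτ hτ0 * g).val *ᵥ w) a = 0 := by
  rw [Fin.sum_univ_two] at hiso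
  have e0 : (0 : Fin 2).rev = 1 := rfl
  have e1 : (1 : Fin 2).rev = 0 := rfl
  rw [e0, e1] at hiso
  have hs1 : star (w 1) ≠ 0 := by
    intro e
    apply hw
    have := congrArg star e
    rwa [star_star, star_zero] at this
  have ht : star (-(w 0 / w 1)) = - -(w 0 / w 1) := by
    rw [star_neg, star_div₀, neg_neg]
    field_simp
    linear_combination -hiso
  refine ⟨x _ ht, ⟨_, ht, rfl⟩, ?_⟩
  intro a ha
  fin_cases a <;> simp at ha
  simp [s, x, Matrix.mulVec, dotProduct, Matrix.mul_apply, Fin.sum_univ_two]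
  field_simp
  ring

end T2

end Cfsg.Agent.Helper1.SUJ
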