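import Mathlib
import Cfsg.Agent.Helper1.SUJc

set_option autoImplicit false

/-!
The rank one group of type `SU_3` (the middle node in odd dimension): small data.
-/

namespace Cfsg.Agent.Helper1.SUJ

open Matrix Cfsg.Agent.Lead.SpBN

variable {K : Type*} [Field K] [StarRing K]

theorem dag3 (M : Matrix (Fin 3) (Fin 3) K) :
    dag M = !![star (M 2 2), star (M 1 2), star (M 0 2);
               star (M 2 1), star (M 1 1), star (M 0 1);
               star (M 2 0), star (M 1 0), star (M 0 0)] := by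
  ext i j
  fin_cases i <;> fin_cases j <;> rfl

namespace T3

/-- The reflection. -/
def s (K : Type*) [Field K] [StarRing K] : UG 3 K :=
  ⟨!![0, 0, 1; 0, -1, 0; 1, 0, 0], by
    rw [dag3]
    ext i j
    fin_cases i <;> fin_cases j <;> simp [Matrix.mul_apply, Fin.sum_univ_three],
    by
      rw [det_fin_three]
      simp⟩

/-- The positive root elements. -/
def x (a b : K) (h : b + star b + a * star a = 0) : UG 3 K :=
  ⟨!![1, a, b; 0, 1, -star a; 0, 0, 1], by
    rw [dag3]
    ext i j
    fin_cases i <;> fin_cases j <;> simp [Matrix.mul_apply, Fin.sum_univ_three]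
    linear_combination h,
    by rw [det_fin_three]; simp⟩

/-- The negative root elements. -/
def y (a b : K) (h : b + star b + a * star a = 0) : UG 3 K :=
  ⟨!![1, 0, 0; a, 1, 0; b, -star a, 1], by
    rw [dag3]
    ext i j
    fin_cases i <;> fin_cases j <;> simp [Matrix.mul_apply, Fin.sum_univ_three]
    linear_combination h,
    by rw [det_fin_three]; simp⟩

/-- The set of positive root elements. -/
def X (K : Type*) [Field K] [StarRing K] : Set (UG 3 K) :=
  {g | ∃ (a b : K) (h : b + star b + a * star a = 0), g = x a b h}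

/-- The set of negative root elements. -/
def Y (K : Type*) [Field K] [StarRing K] : Set (UG 3 K) :=
  {g | ∃ (a b : K) (h : b + star b + a * star a = 0), g = y a b h}

theorem cond_inv {a b : K} (h : b + star b + a * star a = 0) :
    star b + star (star b) + (-a) * star (-a) = 0 := by
  rw [star_star, star_neg]
  linear_combination h

theorem x_inv (a b : K) (h : b + star b + a * star a = 0) :
    (x a b h)⁻¹ = x (-a) (star b) (cond_inv h) := by
  apply UG.ext
  change dag (!![1, a, b; 0, 1, -star a; 0, 0, 1] : Matrix (Fin 3) (Fin 3) K) =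
    !![1, -a, star b; 0, 1, -star (-a); 0, 0, 1]
  rw [dag3]
  ext i j
  fin_cases i <;> fin_cases j <;> simp

theorem y_inv (a b : K) (h : b + star b + a * star a = 0) :
    (y a b h)⁻¹ = y (-a) (star b) (cond_inv h) := by
  apply UG.ext
  change dag (!![1, 0, 0; a, 1, 0; b, -star a, 1] : Matrix (Fin 3) (Fin 3) K) =
    !![1, 0, 0; -a, 1, 0; star b, -star (-a), 1]
  rw [dag3]
  ext i j
  fin_cases i <;> fin_cases j <;> simp

theorem X_inv : ∀ g ∈ X K, g⁻¹ ∈ X K := by
  rintro _ ⟨a, b, h, rfl⟩
  exact ⟨-a, star b, cond_inv h, x_inv a b h⟩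

theorem Y_inv : ∀ g ∈ Y K, g⁻¹ ∈ Y K := by
  rintro _ ⟨a, b, h, rfl⟩
  exact ⟨-a, star b, cond_inv h, y_inv a b h⟩

theorem X_upper : ∀ g ∈ X K, g ∈ Usub 3 K := by
  rintro _ ⟨a, b, h, rfl⟩
  refine ⟨?_, ?_⟩
  · intro i j hij
    change j < i at hij
    fin_cases i <;> fin_cases j <;> simp_all [x]
  · intro i
    fin_cases i <;> simp [x]

theorem Y_lower : ∀ g ∈ Y K, (∀ a b, a < b → g.val a b = 0) ∧ ∀ a, g.val a a = 1 := by
  rintro _ ⟨a, b, h, rfl⟩
  refine ⟨?_, ?_⟩
  · intro i j hij
    fin_cases i <;> fin_cases j <;> simp_all [y]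
  · intro i
    fin_cases i <;> simp [y]

/-- The pattern of the reflection. -/
def π : Equiv.Perm (Fin 3) := Equiv.swap 0 2

theorem hπ (a : Fin 3) : π (π a) = a := Equiv.swap_apply_self 0 2 a

theorem hs : MonoQ π (s K).val := by
  intro i j hij
  fin_cases i <;> fin_cases j <;> simp_all [s, π, Equiv.swap_apply_def]

theorem X_supp : ∀ g ∈ X K, ∀ a b : Fin 3, a < b → g.val a b ≠ 0 → π b < π a := by
  intro g _ a b hab _
  fin_cases a <;> fin_cases b <;> simp_all [π, Equiv.swap_apply_def] <;> decide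

theorem Y_supp : ∀ g ∈ Y K, ∀ a b : Fin 3, b < a → g.val a b ≠ 0 → π a < π b := by
  intro g _ a b hab _
  fin_cases a <;> fin_cases b <;> simp_all [π, Equiv.swap_apply_def] <;> decide

theorem star_eq_zero_iff' {c : K} : star c = 0 ↔ c = 0 := star_eq_zero

/-- A nontrivial root element (needs a non-zero element of trace zero). -/
theorem X_ne (τ₀ : K) (hτ : star τ₀ = -τ₀) (hτ0 : τ₀ ≠ 0) : ∃ g ∈ X K, g ≠ 1 := by
  have h : τ₀ + star τ₀ + 0 * star 0 = 0 := by rw [hτ]; ring
  refine ⟨x 0 τ₀ h, ⟨0, τ₀, h, rfl⟩, ?_⟩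
  intro e
  have := congrArg (fun g : UG 3 K => g.val 0 2) e
  simp [x] at this
  exact hτ0 this

theorem rank : ∀ g ∈ X K, g ≠ 1 → ∃ h ∈ Y K, s K * g * h ∈ Bsub 3 K := by
  rintro _ ⟨a, b, h, rfl⟩ hne
  have hb0 : b ≠ 0 := by
    rintro rfl
    rw [star_zero, add_zero, zero_add] at h
    have ha : a = 0 := by
      rcases mul_eq_zero.mp h with h1 | h1
      · exact h1
      · exact star_eq_zero.mp h1
    subst ha
    apply hne
    apply UG.ext
    ext i j
    fin_cases i <;> fin_cases j <;> simp [x]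
  have hsb : star b ≠ 0 := fun e => hb0 (star_eq_zero.mp e)
  have hy : (star b)⁻¹ + star (star b)⁻¹ + (star a / star b) * star (star a / star b) = 0 := by
    simp only [star_inv₀, star_star, star_div₀]
    field_simp
    linear_combination h
  refine ⟨y _ _ hy, ⟨_, _, hy, rfl⟩, ?_⟩
  rw [mem_Bsub]
  intro i j hij
  change j < i at hij
  fin_cases i <;> fin_cases j <;> simp at hij <;>
    simp only [UG.mul_val, s, x, y] <;>
    simp [Matrix.mul_apply, Fin.sum_univ_three, star_div₀] <;>
    field_simp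
  · ring
  · linear_combination h
  · ring

/-- Clearing the inverted entries of an upper triangular unitary matrix. -/
theorem clear (β : Matrix (Fin 3) (Fin 3) K) (hβ : β.BlockTriangular id)
    (hu : ∀ a a' : Fin 3, True → (dag β * β) a a' = (1 : Matrix (Fin 3) (Fin 3) K) a a') :
    ∃ g ∈ X K, ∀ a a' : Fin 3, a < a' → π a' < π a → (β * g.val) a a' = 0 := by
  have h10 : β 1 0 = 0 := hβ (show (0 : Fin 3) < 1 by decide)
  have h20 : β 2 0 = 0 := hβ (show (0 : Fin 3) < 2 by decide)
  have h21 : β 2 1 = 0 := hβ (show (1 : Fin 3) < 2 by decide)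
  have u00 := hu 0 0 trivial
  have u11 := hu 1 1 trivial
  have u01 := hu 0 1 trivial
  have u02 := hu 0 2 trivial
  rw [dag3] at u00 u11 u01 u02
  simp [Matrix.mul_apply, Fin.sum_univ_three, h10, h20, h21] at u00 u11 u01 u02
  -- u00 : star (β 2 2) * β 0 0 = 1
  -- u11 : star (β 1 1) * β 1 1 = 1
  -- u01 : star (β 2 2) * β 0 1 + star (β 1 2) * β 1 1 = 0
  -- u02 : star (β 2 2) * β 0 2 + star (β 1 2) * β 1 2 + star (β 0 2) * β 2 2 = 0
  have hb00 : β 0 0 ≠ 0 := by
    rintro e
    rw [e, mul_zero] at u00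
    exact zero_ne_one u00
  have u22 : star (β 0 0) * β 2 2 = 1 := by
    have := congrArg star u00
    rwa [star_mul', star_star, star_one, mul_comm] at this
  have u10 : star (β 0 1) * β 2 2 + β 1 2 * star (β 1 1) = 0 := by
    have := congrArg star u01
    rw [star_add, star_mul', star_mul', star_star, star_star, star_zero] at this
    linear_combination this
  have ha : star (star (β 1 2) * β 1 1) = β 1 2 * star (β 1 1) := by
    rw [star_mul', star_star]
  have hc : -(star (β 1 2) * β 1 2 + star (β 2 2) * β 0 2) +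
      star (-(star (β 1 2) * β 1 2 + star (β 2 2) * β 0 2)) +
      (star (β 1 2) * β 1 1) * star (star (β 1 2) * β 1 1) = 0 := by
    rw [ha, star_neg, star_add, star_mul', star_mul', star_star, star_star]
    linear_combination -u02 + star (β 1 2) * β 1 2 * u11
  refine ⟨x _ _ hc, ⟨_, _, hc, rfl⟩, ?_⟩
  intro a a' haa _
  fin_cases a <;> fin_cases a' <;> simp at haa <;>
    simp [x, Matrix.mul_apply, Fin.sum_univ_three, h10, h20, h21]
  · linear_combination β 0 0 * u01 - β 0 1 * u00
  · linear_combination (-(β 0 2) + β 1 2 * β 0 1 * star (β 1 1)) * u00 -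
      β 1 2 * β 0 0 * star (β 1 1) * u01 + β 1 2 * β 0 0 * star (β 1 2) * u11
  · linear_combination -(β 1 2) * u11

/-- Lowering the top of an isotropic vector. -/
theorem vstep (w : Fin 3 → K) (hw : w 2 ≠ 0) (hiso : ∑ a, star (w a.rev) * w a = 0) :
    ∃ g ∈ X K, ∀ a : Fin 3, 2 ≤ a → ((s K * g).val *ᵥ w) a = 0 := by
  rw [Fin.sum_univ_three] at hiso
  have e0 : (0 : Fin 3).rev = 2 := rfl
  have e1 : (1 : Fin 3).rev = 1 := rfl
  have e2 : (2 : Fin 3).rev = 0 := rfl
  rw [e0, e1, e2] at hiso
  have hs2 : star (w 2) ≠ 0 := fun e => hw (star_eq_zero.mp e)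
  have hc : -((w 0 + star (w 1) / star (w 2) * w 1) / w 2) +
      star (-((w 0 + star (w 1) / star (w 2) * w 1) / w 2)) +
      (star (w 1) / star (w 2)) * star (star (w 1) / star (w 2)) = 0 := by
    simp only [star_neg, star_div₀, star_add, star_mul', star_star]
    field_simp
    linear_combination -hiso
  refine ⟨x _ _ hc, ⟨_, _, hc, rfl⟩, ?_⟩
  intro a ha
  fin_cases a <;> simp at ha
  simp [s, x, Matrix.mulVec, dotProduct, Matrix.mul_apply, Fin.sum_univ_three]
  field_simp
  ring

end T3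

end Cfsg.Agent.Helper1.SUJ
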