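import Mathlib
import Cfsg.Agent.Helper1.SUJc

set_option autoImplicit false

/-!
The rank one group of type `SL_2(q²)` (the nodes away from the middle): small data.
-/

namespace Cfsg.Agent.Helper1.SUJ

open Matrix Cfsg.Agent.Lead.SpBN

variable {K : Type*} [Field K] [StarRing K]

theorem dag4 (M : Matrix (Fin 4) (Fin 4) K) :
    dag M = !![star (M 3 3), star (M 2 3), star (M 1 3), star (M 0 3);
               star (M 3 2), star (M 2 2), star (M 1 2), star (M 0 2);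
               star (M 3 1), star (M 2 1), star (M 1 1), star (M 0 1);
               star (M 3 0), star (M 2 0), star (M 1 0), star (M 0 0)] := by
  ext i j
  fin_cases i <;> fin_cases j <;> rfl

namespace T4

/-- The reflection. -/
def s (K : Type*) [Field K] [StarRing K] : UG 4 K :=
  ⟨!![0, 1, 0, 0; -1, 0, 0, 0; 0, 0, 0, -1; 0, 0, 1, 0], by
    rw [dag4]
    ext i j
    fin_cases i <;> fin_cases j <;> simp [Matrix.mul_apply, Fin.sum_univ_four],
    by simp [det_succ_row_zero, Fin.sum_univ_succ, Fin.succAbove, submatrix]⟩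

/-- The positive root elements. -/
def x (c : K) : UG 4 K :=
  ⟨!![1, c, 0, 0; 0, 1, 0, 0; 0, 0, 1, -star c; 0, 0, 0, 1], by
    rw [dag4]
    ext i j
    fin_cases i <;> fin_cases j <;> simp [Matrix.mul_apply, Fin.sum_univ_four],
    by simp [det_succ_row_zero, Fin.sum_univ_succ, Fin.succAbove, submatrix]⟩

/-- The negative root elements. -/
def y (c : K) : UG 4 K :=
  ⟨!![1, 0, 0, 0; c, 1, 0, 0; 0, 0, 1, 0; 0, 0, -star c, 1], by
    rw [dag4]
    ext i j
    fin_cases i <;> fin_cases j <;> simp [Matrix.mul_apply, Fin.sum_univ_four],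
    by simp [det_succ_row_zero, Fin.sum_univ_succ, Fin.succAbove, submatrix]⟩

/-- The set of positive root elements. -/
def X (K : Type*) [Field K] [StarRing K] : Set (UG 4 K) := Set.range x

/-- The set of negative root elements. -/
def Y (K : Type*) [Field K] [StarRing K] : Set (UG 4 K) := Set.range y

theorem x_val (c : K) :
    (x c).val = !![1, c, 0, 0; 0, 1, 0, 0; 0, 0, 1, -star c; 0, 0, 0, 1] := rfl

theorem y_val (c : K) :
    (y c).val = !![1, 0, 0, 0; c, 1, 0, 0; 0, 0, 1, 0; 0, 0, -star c, 1] := rfl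

theorem x_inv (c : K) : (x c)⁻¹ = x (-c) := by
  apply inv_eq_of_mul_eq_one_right
  apply UG.ext
  rw [UG.mul_val, UG.one_val, x_val, x_val]
  ext i j
  fin_cases i <;> fin_cases j <;> simp [Matrix.mul_apply, Fin.sum_univ_four]

theorem y_inv (c : K) : (y c)⁻¹ = y (-c) := by
  apply inv_eq_of_mul_eq_one_right
  apply UG.ext
  rw [UG.mul_val, UG.one_val, y_val, y_val]
  ext i j
  fin_cases i <;> fin_cases j <;> simp [Matrix.mul_apply, Fin.sum_univ_four]

theorem X_inv : ∀ g ∈ X K, g⁻¹ ∈ X K := by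
  rintro _ ⟨c, rfl⟩
  exact ⟨-c, (x_inv c).symm⟩

theorem Y_inv : ∀ g ∈ Y K, g⁻¹ ∈ Y K := by
  rintro _ ⟨c, rfl⟩
  exact ⟨-c, (y_inv c).symm⟩

theorem X_upper : ∀ g ∈ X K, g ∈ Usub 4 K := by
  rintro _ ⟨c, rfl⟩
  refine ⟨?_, ?_⟩
  · intro i j hij
    change j < i at hij
    fin_cases i <;> fin_cases j <;> simp_all [x]
  · intro i
    fin_cases i <;> simp [x]

theorem Y_lower : ∀ g ∈ Y K, (∀ a b, a < b → g.val a b = 0) ∧ ∀ a, g.val a a = 1 := by
  rintro _ ⟨c, rfl⟩
  refine ⟨?_, ?_⟩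
  · intro i j hij
    fin_cases i <;> fin_cases j <;> simp_all [y]
  · intro i
    fin_cases i <;> simp [y]

/-- The pattern of the reflection. -/
def π : Equiv.Perm (Fin 4) := Equiv.swap 0 1 * Equiv.swap 2 3

theorem π_0 : π 0 = 1 := by decide
theorem π_1 : π 1 = 0 := by decide
theorem π_2 : π 2 = 3 := by decide
theorem π_3 : π 3 = 2 := by decide

theorem hπ (a : Fin 4) : π (π a) = a := by
  fin_cases a <;> simp [π_0, π_1, π_2, π_3]

theorem hs : MonoQ π (s K).val := by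
  intro i j hij
  fin_cases i <;> fin_cases j <;> simp_all [s, π_0, π_1, π_2, π_3]

theorem X_supp : ∀ g ∈ X K, ∀ a b : Fin 4, a < b → g.val a b ≠ 0 → π b < π a := by
  rintro _ ⟨c, rfl⟩ a b hab hne
  fin_cases a <;> fin_cases b <;> simp_all [x, π_0, π_1, π_2, π_3]

theorem Y_supp : ∀ g ∈ Y K, ∀ a b : Fin 4, b < a → g.val a b ≠ 0 → π a < π b := by
  rintro _ ⟨c, rfl⟩ a b hab hne
  fin_cases a <;> fin_cases b <;> simp_all [y, π_0, π_1, π_2, π_3]

theorem X_ne : ∃ g ∈ X K, g ≠ 1 := by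
  refine ⟨x 1, ⟨1, rfl⟩, ?_⟩
  intro e
  have := congrArg (fun g : UG 4 K => g.val 0 1) e
  simp [x] at this

theorem rank : ∀ g ∈ X K, g ≠ 1 → ∃ h ∈ Y K, s K * g * h ∈ Bsub 4 K := by
  rintro _ ⟨c, rfl⟩ hne
  have hc0 : c ≠ 0 := by
    rintro rfl
    apply hne
    apply UG.ext
    ext i j
    fin_cases i <;> fin_cases j <;> simp [x]
  have hsc : star c ≠ 0 := fun e => hc0 (star_eq_zero.mp e)
  refine ⟨y (-c⁻¹), ⟨_, rfl⟩, ?_⟩
  rw [mem_Bsub]
  intro i j hij
  change j < i at hij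
  fin_cases i <;> fin_cases j <;> simp at hij <;>
    simp only [UG.mul_val, s, x, y] <;>
    simp [Matrix.mul_apply, Fin.sum_univ_four, hc0, hsc]

/-- The admissible pairs. -/
def Adm (a a' : Fin 4) : Prop := a = a' ∨ (a = 0 ∧ a' = 1) ∨ (a = 2 ∧ a' = 3)

/-- Clearing the inverted entries of an upper triangular matrix, unitary at the admissible
pairs. -/
theorem clear (β : Matrix (Fin 4) (Fin 4) K) (hβ : β.BlockTriangular id)
    (hu : ∀ a a' : Fin 4, Adm a a' → (dag β * β) a a' = (1 : Matrix (Fin 4) (Fin 4) K) a a') :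
    ∃ g ∈ X K, ∀ a a' : Fin 4, a < a' → π a' < π a → (β * g.val) a a' = 0 := by
  have h10 : β 1 0 = 0 := hβ (show (0 : Fin 4) < 1 by decide)
  have h20 : β 2 0 = 0 := hβ (show (0 : Fin 4) < 2 by decide)
  have h30 : β 3 0 = 0 := hβ (show (0 : Fin 4) < 3 by decide)
  have h21 : β 2 1 = 0 := hβ (show (1 : Fin 4) < 2 by decide)
  have h31 : β 3 1 = 0 := hβ (show (1 : Fin 4) < 3 by decide)
  have h32 : β 3 2 = 0 := hβ (show (2 : Fin 4) < 3 by decide)
  have u00 := hu 0 0 (Or.inl rfl)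
  have u11 := hu 1 1 (Or.inl rfl)
  have u01 := hu 0 1 (Or.inr (Or.inl ⟨rfl, rfl⟩))
  rw [dag4] at u00 u11 u01
  simp [Matrix.mul_apply, Fin.sum_univ_four, h10, h20, h30, h21, h31, h32] at u00 u11 u01
  -- u00 : star (β 3 3) * β 0 0 = 1
  -- u11 : star (β 2 2) * β 1 1 = 1
  -- u01 : star (β 3 3) * β 0 1 + star (β 2 3) * β 1 1 = 0
  have u22 : star (β 1 1) * β 2 2 = 1 := by
    have := congrArg star u11
    rwa [star_mul', star_star, star_one, mul_comm] at this
  refine ⟨x (star (β 2 3) * β 1 1), ⟨_, rfl⟩, ?_⟩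
  intro a a' haa hπ
  fin_cases a <;> fin_cases a' <;> simp [π_0, π_1, π_2, π_3] at haa hπ <;>
    simp [x, Matrix.mul_apply, Fin.sum_univ_four, h10, h20, h30, h21, h31, h32]
  · linear_combination β 0 0 * u01 - β 0 1 * u00
  · linear_combination -(β 2 3) * u22

/-- Lowering the top of a vector, upper case. -/
theorem vstep1 (w : Fin 4 → K) (hw : w 1 ≠ 0) (h2 : w 2 = 0) (h3 : w 3 = 0) :
    ∃ g ∈ X K, ∀ a : Fin 4, 1 ≤ a → ((s K * g).val *ᵥ w) a = 0 := by
  refine ⟨x (-(w 0 / w 1)), ⟨_, rfl⟩, ?_⟩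
  intro a ha
  fin_cases a <;> simp at ha <;>
    simp [s, x, Matrix.mulVec, dotProduct, Matrix.mul_apply, Fin.sum_univ_four, h2, h3]
  field_simp
  ring

/-- Lowering the top of a vector, lower case. -/
theorem vstep3 (w : Fin 4 → K) (hw : w 3 ≠ 0) :
    ∃ g ∈ X K, ∀ a : Fin 4, 3 ≤ a → ((s K * g).val *ᵥ w) a = 0 := by
  have hs3 : star (w 3) ≠ 0 := fun e => hw (star_eq_zero.mp e)
  refine ⟨x (star (w 2) / star (w 3)), ⟨_, rfl⟩, ?_⟩
  intro a ha
  fin_cases a <;> simp [Fin.le_def] at ha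
  simp [s, x, Matrix.mulVec, dotProduct, Matrix.mul_apply, Fin.sum_univ_four, star_div₀]
  field_simp
  ring

end T4

end Cfsg.Agent.Helper1.SUJ
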