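import Mathlib
import Cfsg.Agent.Helper1.SUJd
import Cfsg.Agent.Helper1.SUJe
import Cfsg.Agent.Helper1.SUJf

set_option autoImplicit false

/-!
The rank one data of the unitary group of the antidiagonal form: the three kinds of nodes.
-/

namespace Cfsg.Agent.Helper1.SUJ

open Matrix Cfsg.Agent.Lead.SpBN

variable {K : Type*} [Field K] [StarRing K] {n : ℕ}

/-! ### Nodes of type `SL_2(q²)` -/

/-- The index map of a node away from the middle. -/
def f4 (n o : ℕ) (h : 2 * o + 4 ≤ n) : Fin 4 → Fin n :=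
  ![⟨o, by omega⟩, ⟨o + 1, by omega⟩, ⟨n - 2 - o, by omega⟩, ⟨n - 1 - o, by omega⟩]

theorem f4_val (o : ℕ) (h : 2 * o + 4 ≤ n) (a : Fin 4) :
    (f4 n o h a : ℕ) = ![o, o + 1, n - 2 - o, n - 1 - o] a := by
  fin_cases a <;> rfl

theorem f4_strictMono (o : ℕ) (h : 2 * o + 4 ≤ n) : StrictMono (f4 n o h) := by
  intro a b hab
  rw [Fin.lt_def, f4_val, f4_val]
  fin_cases a <;> fin_cases b <;> simp at hab ⊢ <;> omega

theorem f4_rev (o : ℕ) (h : 2 * o + 4 ≤ n) (a : Fin 4) : f4 n o h a.rev = (f4 n o h a).rev := by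
  apply Fin.ext
  rw [Fin.val_rev, f4_val, f4_val]
  fin_cases a <;> simp [Fin.rev] <;> omega

theorem f4_conv (o : ℕ) (h : 2 * o + 4 ≤ n) (a : Fin 4) (c : Fin n)
    (hc : ∀ b, f4 n o h b ≠ c) : c < f4 n o h a ↔ c < f4 n o h (T4.π a) := by
  have h0 := fun e => hc 0 (Fin.ext e)
  have h1 := fun e => hc 1 (Fin.ext e)
  have h2 := fun e => hc 2 (Fin.ext e)
  have h3 := fun e => hc 3 (Fin.ext e)
  rw [f4_val] at h0 h1 h2 h3
  rw [Fin.lt_def, Fin.lt_def, f4_val, f4_val]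
  fin_cases a
  · rw [show T4.π ((fun i => i) ⟨0, by decide⟩ : Fin 4) = 1 from T4.π_0]
    simp at h0 h1 h2 h3 ⊢
    omega
  · rw [show T4.π ((fun i => i) ⟨1, by decide⟩ : Fin 4) = 0 from T4.π_1]
    simp at h0 h1 h2 h3 ⊢
    omega
  · rw [show T4.π ((fun i => i) ⟨2, by decide⟩ : Fin 4) = 3 from T4.π_2]
    simp at h0 h1 h2 h3 ⊢
    omega
  · rw [show T4.π ((fun i => i) ⟨3, by decide⟩ : Fin 4) = 2 from T4.π_3]
    simp at h0 h1 h2 h3 ⊢
    omega

theorem f4_link (o : ℕ) (h : 2 * o + 4 ≤ n) (τ : Equiv.Perm (Fin n))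
    (hτ : ∀ c, τ c.rev = (τ c).rev) :
    (∀ a b, a < b → T4.π b < T4.π a → τ (f4 n o h a) < τ (f4 n o h b)) ∨
      (∀ a b, a < b → T4.π b < T4.π a → τ (f4 n o h b) < τ (f4 n o h a)) := by
  have e2 : f4 n o h 2 = (f4 n o h 1).rev := f4_rev o h 1
  have e3 : f4 n o h 3 = (f4 n o h 0).rev := f4_rev o h 0
  have hne : τ (f4 n o h 0) ≠ τ (f4 n o h 1) := by
    intro e
    have := (f4_strictMono o h).injective (τ.injective e)
    exact absurd this (by decide)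
  rcases lt_or_gt_of_ne hne with hlt | hgt
  · left
    intro a b hab hπ
    fin_cases a <;> fin_cases b <;> simp [T4.π_0, T4.π_1, T4.π_2, T4.π_3] at hab hπ
    · exact hlt
    · change τ (f4 n o h 2) < τ (f4 n o h 3)
      rw [e2, e3, hτ, hτ, Fin.rev_lt_rev]
      exact hlt
  · right
    intro a b hab hπ
    fin_cases a <;> fin_cases b <;> simp [T4.π_0, T4.π_1, T4.π_2, T4.π_3] at hab hπ
    · exact hgt
    · change τ (f4 n o h 3) < τ (f4 n o h 2)
      rw [e2, e3, hτ, hτ, Fin.rev_lt_rev]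
      exact hgt

theorem f4_adm (o : ℕ) (h : 2 * o + 4 ≤ n) (a a' : Fin 4) (ha : T4.Adm a a') (l : Fin n)
    (h1 : f4 n o h a ≤ l) (h2 : l ≤ f4 n o h a') : ∃ c, f4 n o h c = l := by
  rw [Fin.le_def, f4_val] at h1 h2
  rcases ha with rfl | ⟨rfl, rfl⟩ | ⟨rfl, rfl⟩
  · exact ⟨a, Fin.ext (le_antisymm (by rw [f4_val]; exact h1) (by rw [f4_val]; exact h2))⟩
  · simp at h1 h2
    rcases (by omega : (l : ℕ) = o ∨ (l : ℕ) = o + 1) with e | e
    · exact ⟨0, Fin.ext e.symm⟩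
    · exact ⟨1, Fin.ext e.symm⟩
  · simp at h1 h2
    rcases (by omega : (l : ℕ) = n - 2 - o ∨ (l : ℕ) = n - 1 - o) with e | e
    · exact ⟨2, Fin.ext e.symm⟩
    · exact ⟨3, Fin.ext e.symm⟩

/-- The rank one datum of a node away from the middle. -/
def D4 (K : Type*) [Field K] [StarRing K] (n o : ℕ) (h : 2 * o + 4 ≤ n) : R1 n K where
  d := 4
  f := f4 n o h
  hf := f4_strictMono o h
  hrev := f4_rev o h
  s := T4.s K
  π := T4.π
  hπ := T4.hπ
  hs := T4.hs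
  X := T4.X K
  Y := T4.Y K
  X_inv := T4.X_inv
  Y_inv := T4.Y_inv
  X_upper := T4.X_upper
  Y_lower := T4.Y_lower
  X_supp := T4.X_supp
  Y_supp := T4.Y_supp
  X_ne := T4.X_ne
  rank := T4.rank
  conv := f4_conv o h
  link := f4_link o h
  Adm := T4.Adm
  adm_ok := f4_adm o h
  clear := T4.clear

/-! ### The middle node, even dimension -/

/-- The index map of the middle node in even dimension. -/
def f2 (n k : ℕ) (h : n = 2 * k) (hk : 1 ≤ k) : Fin 2 → Fin n :=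
  ![⟨k - 1, by omega⟩, ⟨k, by omega⟩]

theorem f2_val (k : ℕ) (h : n = 2 * k) (hk : 1 ≤ k) (a : Fin 2) :
    (f2 n k h hk a : ℕ) = ![k - 1, k] a := by
  fin_cases a <;> rfl

theorem f2_strictMono (k : ℕ) (h : n = 2 * k) (hk : 1 ≤ k) : StrictMono (f2 n k h hk) := by
  intro a b hab
  rw [Fin.lt_def, f2_val, f2_val]
  fin_cases a <;> fin_cases b <;> simp at hab ⊢ <;> omega

theorem f2_rev (k : ℕ) (h : n = 2 * k) (hk : 1 ≤ k) (a : Fin 2) :
    f2 n k h hk a.rev = (f2 n k h hk a).rev := by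
  apply Fin.ext
  rw [Fin.val_rev, f2_val, f2_val]
  fin_cases a <;> simp [Fin.rev] <;> omega

theorem T2_π_0 : T2.π 0 = 1 := by decide
theorem T2_π_1 : T2.π 1 = 0 := by decide

theorem f2_conv (k : ℕ) (h : n = 2 * k) (hk : 1 ≤ k) (a : Fin 2) (c : Fin n)
    (hc : ∀ b, f2 n k h hk b ≠ c) : c < f2 n k h hk a ↔ c < f2 n k h hk (T2.π a) := by
  have h0 := fun e => hc 0 (Fin.ext e)
  have h1 := fun e => hc 1 (Fin.ext e)
  rw [f2_val] at h0 h1
  rw [Fin.lt_def, Fin.lt_def, f2_val, f2_val]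
  fin_cases a
  · rw [show T2.π ((fun i => i) ⟨0, by decide⟩ : Fin 2) = 1 from T2_π_0]
    simp at h0 h1 ⊢
    omega
  · rw [show T2.π ((fun i => i) ⟨1, by decide⟩ : Fin 2) = 0 from T2_π_1]
    simp at h0 h1 ⊢
    omega

theorem f2_link (k : ℕ) (h : n = 2 * k) (hk : 1 ≤ k) (τ : Equiv.Perm (Fin n))
    (_hτ : ∀ c, τ c.rev = (τ c).rev) :
    (∀ a b, a < b → T2.π b < T2.π a → τ (f2 n k h hk a) < τ (f2 n k h hk b)) ∨
      (∀ a b, a < b → T2.π b < T2.π a → τ (f2 n k h hk b) < τ (f2 n k h hk a)) := by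
  have hne : τ (f2 n k h hk 0) ≠ τ (f2 n k h hk 1) := by
    intro e
    have := (f2_strictMono k h hk).injective (τ.injective e)
    exact absurd this (by decide)
  rcases lt_or_gt_of_ne hne with hlt | hgt
  · left
    intro a b hab hπ
    fin_cases a <;> fin_cases b <;> simp at hab
    exact hlt
  · right
    intro a b hab hπ
    fin_cases a <;> fin_cases b <;> simp at hab
    exact hgt

theorem f2_adm (k : ℕ) (h : n = 2 * k) (hk : 1 ≤ k) (a a' : Fin 2) (_ha : True) (l : Fin n)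
    (h1 : f2 n k h hk a ≤ l) (h2 : l ≤ f2 n k h hk a') : ∃ c, f2 n k h hk c = l := by
  rw [Fin.le_def, f2_val] at h1 h2
  have : (l : ℕ) = k - 1 ∨ (l : ℕ) = k := by
    fin_cases a <;> fin_cases a' <;> simp at h1 h2 <;> omega
  rcases this with e | e
  · exact ⟨0, Fin.ext e.symm⟩
  · exact ⟨1, Fin.ext e.symm⟩

/-- The rank one datum of the middle node in even dimension. -/
def D2 (n k : ℕ) (h : n = 2 * k) (hk : 1 ≤ k) (τ₀ : K) (hτ : star τ₀ = -τ₀) (hτ0 : τ₀ ≠ 0) :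
    R1 n K where
  d := 2
  f := f2 n k h hk
  hf := f2_strictMono k h hk
  hrev := f2_rev k h hk
  s := T2.s τ₀ hτ hτ0
  π := T2.π
  hπ := T2.hπ
  hs := T2.hs τ₀ hτ hτ0
  X := T2.X K
  Y := T2.Y K
  X_inv := T2.X_inv
  Y_inv := T2.Y_inv
  X_upper := T2.X_upper
  Y_lower := T2.Y_lower
  X_supp := T2.X_supp
  Y_supp := T2.Y_supp
  X_ne := T2.X_ne τ₀ hτ hτ0
  rank := T2.rank τ₀ hτ hτ0
  conv := f2_conv k h hk
  link := f2_link k h hk
  Adm := fun _ _ => True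
  adm_ok := f2_adm k h hk
  clear := T2.clear

/-! ### The middle node, odd dimension -/

/-- The index map of the middle node in odd dimension. -/
def f3 (n k : ℕ) (h : n = 2 * k + 1) (hk : 1 ≤ k) : Fin 3 → Fin n :=
  ![⟨k - 1, by omega⟩, ⟨k, by omega⟩, ⟨k + 1, by omega⟩]

theorem f3_val (k : ℕ) (h : n = 2 * k + 1) (hk : 1 ≤ k) (a : Fin 3) :
    (f3 n k h hk a : ℕ) = ![k - 1, k, k + 1] a := by
  fin_cases a <;> rfl

theorem f3_strictMono (k : ℕ) (h : n = 2 * k + 1) (hk : 1 ≤ k) :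
    StrictMono (f3 n k h hk) := by
  intro a b hab
  rw [Fin.lt_def, f3_val, f3_val]
  fin_cases a <;> fin_cases b <;> simp at hab ⊢ <;> omega

theorem f3_rev (k : ℕ) (h : n = 2 * k + 1) (hk : 1 ≤ k) (a : Fin 3) :
    f3 n k h hk a.rev = (f3 n k h hk a).rev := by
  apply Fin.ext
  rw [Fin.val_rev, f3_val, f3_val]
  fin_cases a <;> simp [Fin.rev] <;> omega

theorem T3_π_0 : T3.π 0 = 2 := by decide
theorem T3_π_1 : T3.π 1 = 1 := by decide
theorem T3_π_2 : T3.π 2 = 0 := by decide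

theorem f3_conv (k : ℕ) (h : n = 2 * k + 1) (hk : 1 ≤ k) (a : Fin 3) (c : Fin n)
    (hc : ∀ b, f3 n k h hk b ≠ c) : c < f3 n k h hk a ↔ c < f3 n k h hk (T3.π a) := by
  have h0 := fun e => hc 0 (Fin.ext e)
  have h1 := fun e => hc 1 (Fin.ext e)
  have h2 := fun e => hc 2 (Fin.ext e)
  rw [f3_val] at h0 h1 h2
  rw [Fin.lt_def, Fin.lt_def, f3_val, f3_val]
  fin_cases a
  · rw [show T3.π ((fun i => i) ⟨0, by decide⟩ : Fin 3) = 2 from T3_π_0]
    simp at h0 h1 h2 ⊢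
    omega
  · rw [show T3.π ((fun i => i) ⟨1, by decide⟩ : Fin 3) = 1 from T3_π_1]
    exact Iff.rfl
  · rw [show T3.π ((fun i => i) ⟨2, by decide⟩ : Fin 3) = 0 from T3_π_2]
    simp at h0 h1 h2 ⊢
    omega

theorem f3_link (k : ℕ) (h : n = 2 * k + 1) (hk : 1 ≤ k) (τ : Equiv.Perm (Fin n))
    (hτ : ∀ c, τ c.rev = (τ c).rev) :
    (∀ a b, a < b → T3.π b < T3.π a → τ (f3 n k h hk a) < τ (f3 n k h hk b)) ∨
      (∀ a b, a < b → T3.π b < T3.π a → τ (f3 n k h hk b) < τ (f3 n k h hk a)) := by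
  have e1 : f3 n k h hk 1 = (f3 n k h hk 1).rev := f3_rev k h hk 1
  have e2 : f3 n k h hk 2 = (f3 n k h hk 0).rev := f3_rev k h hk 0
  have hne : τ (f3 n k h hk 0) ≠ τ (f3 n k h hk 1) := by
    intro e
    have := (f3_strictMono k h hk).injective (τ.injective e)
    exact absurd this (by decide)
  have hmid : τ (f3 n k h hk 1) = (τ (f3 n k h hk 1)).rev := by
    rw [← hτ, ← e1]
  rcases lt_or_gt_of_ne hne with hlt | hgt
  · have h12 : τ (f3 n k h hk 1) < τ (f3 n k h hk 2) := by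
      rw [e2, hτ, hmid, Fin.rev_lt_rev]
      exact hlt
    left
    intro a b hab hπ
    fin_cases a <;> fin_cases b <;> simp at hab
    · exact hlt
    · exact hlt.trans h12
    · exact h12
  · have h12 : τ (f3 n k h hk 2) < τ (f3 n k h hk 1) := by
      rw [e2, hτ, hmid, Fin.rev_lt_rev]
      exact hgt
    right
    intro a b hab hπ
    fin_cases a <;> fin_cases b <;> simp at hab
    · exact hgt
    · exact h12.trans hgt
    · exact h12

theorem f3_adm (k : ℕ) (h : n = 2 * k + 1) (hk : 1 ≤ k) (a a' : Fin 3) (_ha : True) (l : Fin n)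
    (h1 : f3 n k h hk a ≤ l) (h2 : l ≤ f3 n k h hk a') : ∃ c, f3 n k h hk c = l := by
  rw [Fin.le_def, f3_val] at h1 h2
  have : (l : ℕ) = k - 1 ∨ (l : ℕ) = k ∨ (l : ℕ) = k + 1 := by
    fin_cases a <;> fin_cases a' <;> simp at h1 h2 <;> omega
  rcases this with e | e | e
  · exact ⟨0, Fin.ext e.symm⟩
  · exact ⟨1, Fin.ext e.symm⟩
  · exact ⟨2, Fin.ext e.symm⟩

/-- The rank one datum of the middle node in odd dimension. -/
def D3 (n k : ℕ) (h : n = 2 * k + 1) (hk : 1 ≤ k) (τ₀ : K) (hτ : star τ₀ = -τ₀) (hτ0 : τ₀ ≠ 0) :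
    R1 n K where
  d := 3
  f := f3 n k h hk
  hf := f3_strictMono k h hk
  hrev := f3_rev k h hk
  s := T3.s K
  π := T3.π
  hπ := T3.hπ
  hs := T3.hs
  X := T3.X K
  Y := T3.Y K
  X_inv := T3.X_inv
  Y_inv := T3.Y_inv
  X_upper := T3.X_upper
  Y_lower := T3.Y_lower
  X_supp := T3.X_supp
  Y_supp := T3.Y_supp
  X_ne := T3.X_ne τ₀ hτ hτ0
  rank := T3.rank
  conv := f3_conv k h hk
  link := f3_link k h hk
  Adm := fun _ _ => True
  adm_ok := f3_adm k h hk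
  clear := T3.clear

end Cfsg.Agent.Helper1.SUJ
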