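import Mathlib
import Cfsg.Agent.Helper1.SUJg

set_option autoImplicit false

/-!
The family of rank one data of the unitary group, and the combinatorics of the patterns.
-/

namespace Cfsg.Agent.Helper1.SUJ

open Matrix Cfsg.Agent.Lead.SpBN

variable {K : Type*} [Field K] [StarRing K] {n : ℕ}

/-- The rank one datum of a node. -/
def datum (n : ℕ) (τ₀ : K) (hτ : star τ₀ = -τ₀) (hτ0 : τ₀ ≠ 0) (o : Fin (n / 2)) : R1 n K :=
  if h : 2 * (o : ℕ) + 4 ≤ n then D4 K n o h
  else if he : n % 2 = 0 then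
    D2 n (n / 2) (by omega) (by have := o.2; omega) τ₀ hτ hτ0
  else D3 n (n / 2) (by omega) (by have := o.2; omega) τ₀ hτ hτ0

variable (τ₀ : K) (hτ : star τ₀ = -τ₀) (hτ0 : τ₀ ≠ 0)

theorem datum_cases (o : Fin (n / 2)) :
    (∃ h : 2 * (o : ℕ) + 4 ≤ n, datum n τ₀ hτ hτ0 o = D4 K n o h) ∨
    (∃ (h : n = 2 * (n / 2)) (hk : 1 ≤ n / 2), (o : ℕ) + 1 = n / 2 ∧
      datum n τ₀ hτ hτ0 o = D2 n (n / 2) h hk τ₀ hτ hτ0) ∨
    (∃ (h : n = 2 * (n / 2) + 1) (hk : 1 ≤ n / 2), (o : ℕ) + 1 = n / 2 ∧
      datum n τ₀ hτ hτ0 o = D3 n (n / 2) h hk τ₀ hτ hτ0) := by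
  have ho := o.2
  by_cases h : 2 * (o : ℕ) + 4 ≤ n
  · left
    exact ⟨h, dif_pos h⟩
  · right
    by_cases he : n % 2 = 0
    · left
      refine ⟨by omega, by omega, by omega, ?_⟩
      unfold datum
      rw [dif_neg h, dif_pos he]
    · right
      refine ⟨by omega, by omega, by omega, ?_⟩
      unfold datum
      rw [dif_neg h, dif_neg he]

/-- The pattern of a node. -/
def npat (o : Fin (n / 2)) : Equiv.Perm (Fin n) := (datum n τ₀ hτ hτ0 o).pat

/-- The generator of a node. -/
def ngen (o : Fin (n / 2)) : UG n K := (datum n τ₀ hτ hτ0 o).gen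

theorem ngen_mono (o : Fin (n / 2)) : MonoQ (npat τ₀ hτ hτ0 o) (ngen τ₀ hτ hτ0 o).val :=
  (datum n τ₀ hτ hτ0 o).gen_mono

theorem npat_rev (o : Fin (n / 2)) (c : Fin n) :
    npat τ₀ hτ hτ0 o c.rev = (npat τ₀ hτ hτ0 o c).rev :=
  pattern_rev (ngen_mono τ₀ hτ hτ0 o) c

theorem npat_npat (o : Fin (n / 2)) (c : Fin n) :
    npat τ₀ hτ hτ0 o (npat τ₀ hτ hτ0 o c) = c := (datum n τ₀ hτ hτ0 o).pat_pat c

/-- The index set of a node lies between the node and its mirror image. -/
theorem datum_f_ge (o : Fin (n / 2)) : ∀ a : Fin (datum n τ₀ hτ hτ0 o).d,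
    (o : ℕ) ≤ ((datum n τ₀ hτ hτ0 o).f a : ℕ) := by
  generalize hD : datum n τ₀ hτ hτ0 o = D
  rcases datum_cases τ₀ hτ hτ0 o with ⟨h, e⟩ | ⟨h, hk, ho, e⟩ | ⟨h, hk, ho, e⟩
  · rw [e] at hD
    subst hD
    intro (a : Fin 4)
    change (o : ℕ) ≤ (f4 n o h a : ℕ)
    rw [f4_val]
    fin_cases a <;> simp <;> omega
  · rw [e] at hD
    subst hD
    intro (a : Fin 2)
    change (o : ℕ) ≤ (f2 n (n / 2) h hk a : ℕ)
    rw [f2_val]
    fin_cases a <;> simp <;> omega
  · rw [e] at hD
    subst hD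
    intro (a : Fin 3)
    change (o : ℕ) ≤ (f3 n (n / 2) h hk a : ℕ)
    rw [f3_val]
    fin_cases a <;> simp <;> omega

theorem npat_of_lt (o : Fin (n / 2)) (c : Fin n) (hc : (c : ℕ) < o) :
    npat τ₀ hτ hτ0 o c = c := by
  apply R1.pat_apply_of_not
  intro b e
  have := datum_f_ge τ₀ hτ hτ0 o b
  rw [e] at this
  omega

/-- The pattern of a node moves the node. -/
theorem exists_moved (o : Fin (n / 2)) : ∃ a : Fin (datum n τ₀ hτ hτ0 o).d,
    ((datum n τ₀ hτ hτ0 o).f a : ℕ) = o ∧ (datum n τ₀ hτ hτ0 o).π a ≠ a := by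
  generalize hD : datum n τ₀ hτ hτ0 o = D
  rcases datum_cases τ₀ hτ hτ0 o with ⟨h, e⟩ | ⟨h, hk, ho, e⟩ | ⟨h, hk, ho, e⟩
  · rw [e] at hD
    subst hD
    refine ⟨(0 : Fin 4), rfl, ?_⟩
    change T4.π 0 ≠ 0
    rw [T4.π_0]
    decide
  · rw [e] at hD
    subst hD
    refine ⟨(0 : Fin 2), ?_, ?_⟩
    · change n / 2 - 1 = (o : ℕ)
      omega
    · change T2.π 0 ≠ 0
      rw [T2_π_0]
      decide
  · rw [e] at hD
    subst hD
    refine ⟨(0 : Fin 3), ?_, ?_⟩
    · change n / 2 - 1 = (o : ℕ)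
      omega
    · change T3.π 0 ≠ 0
      rw [T3_π_0]
      decide

theorem npat_node_ne (o : Fin (n / 2)) (c : Fin n) (hc : (c : ℕ) = o) :
    npat τ₀ hτ hτ0 o c ≠ c := by
  obtain ⟨a, ha, hπ⟩ := exists_moved τ₀ hτ hτ0 o
  have e : c = (datum n τ₀ hτ hτ0 o).f a := Fin.ext (by rw [hc, ha])
  rw [e]
  unfold npat
  rw [R1.pat_apply_range]
  intro h
  exact hπ ((datum n τ₀ hτ hτ0 o).inj h)

theorem npat_injective {o o' : Fin (n / 2)} (h : npat τ₀ hτ hτ0 o = npat τ₀ hτ hτ0 o') :
    o = o' := by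
  have hn : (o : ℕ) < n := by have := o.2; omega
  have hn' : (o' : ℕ) < n := by have := o'.2; omega
  rcases lt_trichotomy o o' with hlt | heq | hgt
  · exfalso
    apply npat_node_ne τ₀ hτ hτ0 o ⟨o, hn⟩ rfl
    rw [h]
    exact npat_of_lt τ₀ hτ hτ0 o' _ hlt
  · exact heq
  · exfalso
    apply npat_node_ne τ₀ hτ hτ0 o' ⟨o', hn'⟩ rfl
    rw [← h]
    exact npat_of_lt τ₀ hτ hτ0 o _ hgt

theorem down_aux (D : R1 n K) (o : Fin (n / 2)) (e : datum n τ₀ hτ hτ0 o = D) (a a' : Fin D.d)
    (hπ : D.π a = a') (m : ℕ) (r : Fin n) (hr : r = D.f a) (hlt : (D.f a' : ℕ) < r)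
    (hm : m ≤ (D.f a' : ℕ)) :
    (npat τ₀ hτ hτ0 o r : ℕ) < r ∧ m ≤ (npat τ₀ hτ hτ0 o r : ℕ) := by
  unfold npat
  rw [e]
  have : D.pat r = D.f a' := by rw [hr, R1.pat_apply_range, hπ]
  rw [this]
  exact ⟨hlt, hm⟩

/-- Moving an index down by the pattern of a node. -/
theorem exists_down (m : ℕ) (r : Fin n) (h1 : m < r) (h2 : (r : ℕ) + m ≤ n - 1)
    (h3 : r ≠ r.rev) : ∃ o : Fin (n / 2), m ≤ o ∧
      (npat τ₀ hτ hτ0 o r : ℕ) < r ∧ m ≤ (npat τ₀ hτ hτ0 o r : ℕ) := by
  have hr := r.2
  have h3' : (r : ℕ) ≠ n - 1 - r := by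
    intro e
    apply h3
    apply Fin.ext
    rw [Fin.val_rev]
    omega
  by_cases hA : (r : ℕ) < n / 2
  · -- the upper left case
    have ho : (r : ℕ) - 1 < n / 2 := by omega
    have h4 : 2 * ((r : ℕ) - 1) + 4 ≤ n := by omega
    have e : datum n τ₀ hτ hτ0 ⟨(r : ℕ) - 1, ho⟩ = D4 K n ((r : ℕ) - 1) h4 := dif_pos h4
    refine ⟨⟨(r : ℕ) - 1, ho⟩, by change m ≤ (r : ℕ) - 1; omega,
      down_aux τ₀ hτ hτ0 _ _ e (1 : Fin 4) (0 : Fin 4) T4.π_1 m r ?_ ?_ ?_⟩
    · apply Fin.ext
      change (r : ℕ) = (r : ℕ) - 1 + 1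
      omega
    · change (r : ℕ) - 1 < r
      omega
    · change m ≤ (r : ℕ) - 1
      omega
  · by_cases hB : 2 * (n - 1 - (r : ℕ)) + 4 ≤ n
    · -- the lower right case
      have ho : n - 1 - (r : ℕ) < n / 2 := by omega
      have e : datum n τ₀ hτ hτ0 ⟨n - 1 - (r : ℕ), ho⟩ = D4 K n (n - 1 - (r : ℕ)) hB :=
        dif_pos hB
      refine ⟨⟨n - 1 - (r : ℕ), ho⟩, by change m ≤ n - 1 - (r : ℕ); omega,
        down_aux τ₀ hτ hτ0 _ _ e (3 : Fin 4) (2 : Fin 4) T4.π_3 m r ?_ ?_ ?_⟩
      · apply Fin.ext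
        change (r : ℕ) = n - 1 - (n - 1 - (r : ℕ))
        omega
      · change n - 2 - (n - 1 - (r : ℕ)) < r
        omega
      · change m ≤ n - 2 - (n - 1 - (r : ℕ))
        omega
    · -- the middle node
      have ho : n / 2 - 1 < n / 2 := by omega
      have hno : ¬ 2 * (n / 2 - 1) + 4 ≤ n := by omega
      by_cases he : n % 2 = 0
      · have e : datum n τ₀ hτ hτ0 ⟨n / 2 - 1, ho⟩ =
            D2 n (n / 2) (by omega) (by omega) τ₀ hτ hτ0 := by
          unfold datum
          rw [dif_neg hno, dif_pos he]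
        refine ⟨⟨n / 2 - 1, ho⟩, by change m ≤ n / 2 - 1; omega,
          down_aux τ₀ hτ hτ0 _ _ e (1 : Fin 2) (0 : Fin 2) T2_π_1 m r ?_ ?_ ?_⟩
        · apply Fin.ext
          change (r : ℕ) = n / 2
          omega
        · change n / 2 - 1 < r
          omega
        · change m ≤ n / 2 - 1
          omega
      · have e : datum n τ₀ hτ hτ0 ⟨n / 2 - 1, ho⟩ =
            D3 n (n / 2) (by omega) (by omega) τ₀ hτ hτ0 := by
          unfold datum
          rw [dif_neg hno, dif_neg he]
        refine ⟨⟨n / 2 - 1, ho⟩, by change m ≤ n / 2 - 1; omega,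
          down_aux τ₀ hτ hτ0 _ _ e (2 : Fin 3) (0 : Fin 3) T3_π_2 m r ?_ ?_ ?_⟩
        · apply Fin.ext
          change (r : ℕ) = n / 2 + 1
          omega
        · change n / 2 - 1 < r
          omega
        · change m ≤ n / 2 - 1
          omega

/-- A permutation commuting with the reversal which fixes the first half is trivial. -/
theorem eq_one_of_fix (τ : Equiv.Perm (Fin n)) (hτr : ∀ c, τ c.rev = (τ c).rev)
    (h : ∀ c : Fin n, (c : ℕ) < n / 2 → τ c = c) : τ = 1 := by
  have h' : ∀ c : Fin n, (c.rev : ℕ) < n / 2 → τ c = c := by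
    intro c hc
    have h1 := h c.rev hc
    rw [hτr] at h1
    exact Fin.rev_injective h1
  apply Equiv.ext
  intro c
  rw [Equiv.Perm.one_apply]
  by_cases h1 : (c : ℕ) < n / 2
  · exact h c h1
  · by_cases h2 : (c.rev : ℕ) < n / 2
    · exact h' c h2
    · by_contra hv
      have hfix : τ (τ c) = τ c := by
        by_cases h3 : ((τ c : Fin n) : ℕ) < n / 2
        · exact h _ h3
        · by_cases h4 : (((τ c : Fin n).rev : Fin n) : ℕ) < n / 2
          · exact h' _ h4
          · exfalso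
            apply hv
            apply Fin.ext
            rw [Fin.val_rev] at h2 h4
            have := c.2
            have := (τ c).2
            omega
      exact hv (τ.injective hfix)

/-- The set of node patterns. -/
def patSet : Set (Equiv.Perm (Fin n)) := Set.range (npat τ₀ hτ hτ0)

theorem mem_closure_aux : ∀ j : ℕ, ∀ τ : Equiv.Perm (Fin n), (∀ c, τ c.rev = (τ c).rev) →
    (∀ c : Fin n, (c : ℕ) < n / 2 - j → τ c = c) →
    τ ∈ Submonoid.closure (patSet (n := n) τ₀ hτ hτ0) := by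
  intro j
  induction j with
  | zero =>
    intro τ hτr hfix
    rw [eq_one_of_fix τ hτr hfix]
    exact Submonoid.one_mem _
  | succ j ih =>
    intro τ hτr hfix
    by_cases hj : j + 1 ≤ n / 2
    · have hm : n / 2 - (j + 1) < n := by omega
      -- inner induction on the image of the first free point
      have key : ∀ r : ℕ, ∀ τ : Equiv.Perm (Fin n), (∀ c, τ c.rev = (τ c).rev) →
          (∀ c : Fin n, (c : ℕ) < n / 2 - (j + 1) → τ c = c) →
          ((τ ⟨n / 2 - (j + 1), hm⟩ : Fin n) : ℕ) = r →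
          τ ∈ Submonoid.closure (patSet (n := n) τ₀ hτ hτ0) := by
        intro r
        induction r using Nat.strong_induction_on with
        | _ r ihr =>
          intro τ hτr hfix hr
          set pm : Fin n := ⟨n / 2 - (j + 1), hm⟩ with hpm
          have hge : n / 2 - (j + 1) ≤ r := by
            by_contra hlt
            rw [not_le] at hlt
            have h1 := hfix (τ pm) (by rw [hr]; exact hlt)
            have h2 := τ.injective h1
            have h3 := congrArg Fin.val h2
            rw [hr] at h3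
            change r = n / 2 - (j + 1) at h3
            omega
          rcases Nat.eq_or_lt_of_le hge with heq | hgt
          · apply ih τ hτr
            intro c hc
            by_cases hc' : (c : ℕ) < n / 2 - (j + 1)
            · exact hfix c hc'
            · have hcm : c = pm := Fin.ext (by change (c : ℕ) = n / 2 - (j + 1); omega)
              rw [hcm]
              apply Fin.ext
              rw [hr, ← heq]
          · have hle : r + (n / 2 - (j + 1)) ≤ n - 1 := by
              by_contra hlt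
              rw [not_le] at hlt
              have hr' : (((τ pm : Fin n).rev : Fin n) : ℕ) < n / 2 - (j + 1) := by
                rw [Fin.val_rev, hr]
                omega
              have h1 := hfix _ hr'
              rw [hτr] at h1
              have h2 := τ.injective (Fin.rev_injective h1)
              have h3 := congrArg Fin.val h2
              rw [hr] at h3
              change r = n / 2 - (j + 1) at h3
              omega
            have hne : τ pm ≠ (τ pm).rev := by
              intro e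
              rw [← hτr] at e
              have h2 := congrArg Fin.val (τ.injective e)
              rw [Fin.val_rev] at h2
              change n / 2 - (j + 1) = n - (n / 2 - (j + 1) + 1) at h2
              omega
            obtain ⟨o, ho, hlt, hmo⟩ := exists_down τ₀ hτ hτ0 (n / 2 - (j + 1)) (τ pm)
              (by rw [hr]; exact hgt) (by rw [hr]; exact hle) hne
            have hmem : npat τ₀ hτ hτ0 o * τ ∈ Submonoid.closure (patSet (n := n) τ₀ hτ hτ0) := by
              apply ihr _ _ (npat τ₀ hτ hτ0 o * τ) _ _ rfl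
              · rw [Equiv.Perm.mul_apply, ← hr]
                exact hlt
              · intro c
                rw [Equiv.Perm.mul_apply, Equiv.Perm.mul_apply, hτr, npat_rev]
              · intro c hc
                rw [Equiv.Perm.mul_apply, hfix c hc]
                exact npat_of_lt τ₀ hτ hτ0 o c (by omega)
            have e : τ = npat τ₀ hτ hτ0 o * (npat τ₀ hτ hτ0 o * τ) := by
              apply Equiv.ext
              intro c
              rw [Equiv.Perm.mul_apply, Equiv.Perm.mul_apply, npat_npat]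
            rw [e]
            exact Submonoid.mul_mem _ (Submonoid.subset_closure ⟨o, rfl⟩) hmem
      exact key _ τ hτr hfix rfl
    · apply ih τ hτr
      intro c hc
      omega

/-- Every permutation commuting with the reversal is a product of node patterns. -/
theorem mem_closure_patSet (τ : Equiv.Perm (Fin n)) (hτr : ∀ c, τ c.rev = (τ c).rev) :
    τ ∈ Submonoid.closure (patSet (n := n) τ₀ hτ hτ0) := by
  apply mem_closure_aux τ₀ hτ hτ0 (n / 2) τ hτr
  intro c hc
  omega

end Cfsg.Agent.Helper1.SUJ
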