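import Mathlib
import Cfsg.Agent.Helper1.SUJh

set_option autoImplicit false

/-!
The monomial subgroup of the unitary group of the antidiagonal form: generation.
-/

namespace Cfsg.Agent.Helper1.SUJ

open Matrix Cfsg.Agent.Lead.SpBN

variable {K : Type*} [Field K] [StarRing K] {n : ℕ}
variable (τ₀ : K) (hτ : star τ₀ = -τ₀) (hτ0 : τ₀ ≠ 0)

/-- The set of distinguished generators. -/
def Ssub : Set (UG n K) := Set.range (ngen (n := n) τ₀ hτ hτ0)

theorem ngen_mem_Nsub (o : Fin (n / 2)) : ngen τ₀ hτ hτ0 o ∈ Nsub n K :=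
  (datum n τ₀ hτ hτ0 o).gen_mem_Nsub

theorem Ssub_subset : Ssub (n := n) τ₀ hτ hτ0 ⊆ (Nsub n K : Set (UG n K)) := by
  rintro _ ⟨o, rfl⟩
  exact ngen_mem_Nsub τ₀ hτ hτ0 o

theorem ngen_sq_mem (o : Fin (n / 2)) : ngen τ₀ hτ hτ0 o * ngen τ₀ hτ hτ0 o ∈ Bsub n K :=
  (datum n τ₀ hτ hτ0 o).gen_sq_mem

theorem ngen_inv_mono (o : Fin (n / 2)) :
    MonoQ (npat τ₀ hτ hτ0 o) ((ngen τ₀ hτ hτ0 o)⁻¹).val :=
  (datum n τ₀ hτ hτ0 o).gen_inv_mono

theorem npat_mul_self (o : Fin (n / 2)) : npat τ₀ hτ hτ0 o * npat τ₀ hτ hτ0 o = 1 :=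
  (datum n τ₀ hτ hτ0 o).pat_mul_self

theorem npat_inv (o : Fin (n / 2)) : (npat τ₀ hτ hτ0 o)⁻¹ = npat τ₀ hτ hτ0 o :=
  (datum n τ₀ hτ hτ0 o).pat_inv

theorem ngen_inj {o o' : Fin (n / 2)}
    (h : (ngen τ₀ hτ hτ0 o)⁻¹ * ngen τ₀ hτ hτ0 o' ∈ Bsub n K) : o = o' := by
  have h1 := (ngen_inv_mono τ₀ hτ hτ0 o).mul (ngen_mono τ₀ hτ hτ0 o')
  have h2 := perm_eq_one_of_mono_upper
    (g := (ngen τ₀ hτ hτ0 o)⁻¹ * ngen τ₀ hτ hτ0 o') h1 h
  apply npat_injective τ₀ hτ hτ0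
  have h3 : npat τ₀ hτ hτ0 o * (npat τ₀ hτ hτ0 o * npat τ₀ hτ hτ0 o') =
      npat τ₀ hτ hτ0 o * 1 := by rw [h2]
  rw [← mul_assoc, npat_mul_self, one_mul, mul_one] at h3
  exact h3.symm

/-- `N` is generated by the representatives and `B ⊓ N`. -/
theorem closure_sup_eq :
    Subgroup.closure (Ssub (n := n) τ₀ hτ hτ0) ⊔ (Bsub n K ⊓ Nsub n K) = Nsub n K := by
  apply le_antisymm
  · exact sup_le ((Subgroup.closure_le _).mpr (Ssub_subset τ₀ hτ hτ0)) inf_le_right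
  · intro g hg
    obtain ⟨σ, h1⟩ := hg
    have hσ : σ ∈ Submonoid.closure (patSet (n := n) τ₀ hτ hτ0) :=
      mem_closure_patSet τ₀ hτ hτ0 σ (pattern_rev h1)
    have key : ∀ σ ∈ Submonoid.closure (patSet (n := n) τ₀ hτ hτ0), ∀ g : UG n K,
        MonoQ σ g.val →
        g ∈ Subgroup.closure (Ssub (n := n) τ₀ hτ hτ0) ⊔ (Bsub n K ⊓ Nsub n K) := by
      intro σ hσ
      induction hσ using Submonoid.closure_induction_left with
      | one =>
        intro g h1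
        exact Subgroup.mem_sup_right (mem_inf_of_mono_one h1)
      | mul_left x hx y hy ih =>
        intro g h1
        obtain ⟨o, rfl⟩ := hx
        have e : g = ngen τ₀ hτ hτ0 o * ((ngen τ₀ hτ hτ0 o)⁻¹ * g) := by group
        rw [e]
        apply Subgroup.mul_mem
        · exact Subgroup.mem_sup_left (Subgroup.subset_closure ⟨o, rfl⟩)
        · apply ih
          have h3 := (ngen_inv_mono τ₀ hτ hτ0 o).mul h1
          rw [← mul_assoc, npat_mul_self, one_mul] at h3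
          exact h3
    exact key σ hσ g h1

include τ₀ hτ hτ0 in
/-- Every permutation commuting with the reversal is the pattern of a monomial element. -/
theorem exists_mono (σ : Equiv.Perm (Fin n)) (hσ : ∀ c, σ c.rev = (σ c).rev) :
    ∃ g : UG n K, MonoQ σ g.val := by
  have hmem := mem_closure_patSet τ₀ hτ hτ0 σ hσ
  clear hσ
  induction hmem using Submonoid.closure_induction_left with
  | one => exact ⟨1, MonoQ.one⟩
  | mul_left x hx y hy ih =>
    obtain ⟨o, rfl⟩ := hx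
    obtain ⟨g, hg⟩ := ih
    exact ⟨ngen τ₀ hτ hτ0 o * g, (ngen_mono τ₀ hτ hτ0 o).mul hg⟩

include τ₀ hτ hτ0 in
/-- A representative of the longest element. -/
theorem exists_w0 : ∃ g : UG n K, MonoQ (Fin.revPerm : Equiv.Perm (Fin n)) g.val := by
  apply exists_mono τ₀ hτ hτ0
  intro c
  rfl

end Cfsg.Agent.Helper1.SUJ
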