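import Mathlib
import Cfsg.Agent.Helper1.SUJi

set_option autoImplicit false

/-!
The unitary group of the antidiagonal form is generated by the upper triangular and the
monomial subgroups: column reduction.
-/

namespace Cfsg.Agent.Helper1.SUJ

open Matrix Cfsg.Agent.Lead.SpBN

variable {K : Type*} [Field K] [StarRing K] {n : ℕ}

/-- The first `m` columns are upper triangular. -/
def GoodM (m : ℕ) (M : Matrix (Fin n) (Fin n) K) : Prop :=
  M.BlockTriangular (fun i : Fin n => min (i : ℕ) m)

theorem goodM_iff (m : ℕ) (M : Matrix (Fin n) (Fin n) K) :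
    GoodM m M ↔ ∀ i j : Fin n, (j : ℕ) < m → j < i → M i j = 0 := by
  constructor
  · intro h i j hj hji
    apply h
    change min (j : ℕ) m < min (i : ℕ) m
    rw [Fin.lt_def] at hji
    rw [lt_min_iff, min_lt_iff, min_lt_iff]
    exact ⟨Or.inl hji, Or.inl hj⟩
  · intro h i j hij
    change min (j : ℕ) m < min (i : ℕ) m at hij
    rw [lt_min_iff, min_lt_iff, min_lt_iff] at hij
    apply h i j
    · rcases hij.2 with h1 | h1
      · exact h1
      · exact absurd h1 (lt_irrefl _)
    · rw [Fin.lt_def]
      rcases hij.1 with h1 | h1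
      · exact h1
      · have := min_le_right (j : ℕ) m
        rcases hij.2 with h2 | h2
        · omega
        · exact absurd h2 (lt_irrefl _)

theorem GoodM.mul {m : ℕ} {A B : Matrix (Fin n) (Fin n) K} (hA : GoodM m A) (hB : GoodM m B) :
    GoodM m (A * B) := Matrix.BlockTriangular.mul hA hB

theorem goodM_zero (M : Matrix (Fin n) (Fin n) K) : GoodM 0 M := by
  rw [goodM_iff]
  intro i j hj
  omega

theorem goodM_of_upper {M : Matrix (Fin n) (Fin n) K} (h : M.BlockTriangular id) (m : ℕ) :
    GoodM m M := by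
  rw [goodM_iff]
  intro i j _ hji
  exact h hji

/-- The last rows of a unitary matrix whose first columns are triangular are triangular. -/
theorem goodM_rows {m : ℕ} (g : UG n K) (h : GoodM m g.val) (i j : Fin n)
    (hi : n ≤ (i : ℕ) + m) (hji : j < i) : g.val i j = 0 := by
  haveI : Invertible g.val := invertibleOfLeftInverse _ _ g.unit
  have h1 : GoodM m (g.val)⁻¹ := blockTriangular_inv_of_blockTriangular h
  rw [inv_eq_left_inv g.unit, goodM_iff] at h1
  have h2 := h1 j.rev i.rev (by rw [Fin.val_rev]; omega) (Fin.rev_lt_rev.mpr hji)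
  rw [dag_apply, Fin.rev_rev, Fin.rev_rev] at h2
  exact star_eq_zero.mp h2

theorem mem_Bsub_of_goodM (g : UG n K) (h : GoodM (n / 2) g.val) : g ∈ Bsub n K := by
  rw [mem_Bsub]
  intro i j hji
  change j < i at hji
  by_cases hj : (j : ℕ) < n / 2
  · exact (goodM_iff _ _).mp h i j hj hji
  · apply goodM_rows g h i j _ hji
    rw [Fin.lt_def] at hji
    omega

namespace R1

variable (D : R1 n K)

theorem E_sg_mem {g : UG D.d K} (hg : g ∈ D.X) : D.E (D.s * g) ∈ Bsub n K ⊔ Nsub n K := by
  rw [E_mul]
  exact Subgroup.mul_mem _ (Subgroup.mem_sup_right D.gen_mem_Nsub)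
    (Subgroup.mem_sup_left (Usub_le_Bsub (D.E_mem_Usub (D.X_upper g hg))))

theorem E_goodM (A : UG D.d K) (m : ℕ) (hm : ∀ a, m ≤ (D.f a : ℕ)) : GoodM m (D.E A).val := by
  rw [goodM_iff]
  intro i j hj hji
  rw [E_val]
  rcases emb_apply_cases D.inj A.val i j with ⟨a, b, rfl, rfl, -⟩ | ⟨-, e⟩
  · have := hm b
    omega
  · rw [e, one_apply_ne hji.ne']

/-- Lowering the top of a vector by an element of the rank one group. -/
theorem lower (a₀ : Fin D.d) (w : Fin n → K) (hz : ∀ c, D.f a₀ < c → w c = 0)
    (A : UG D.d K) (hA : ∀ a, a₀ ≤ a → (A.val *ᵥ (w ∘ D.f)) a = 0) :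
    ∀ c, D.f a₀ ≤ c → ((D.E A).val *ᵥ w) c = 0 := by
  intro c hc
  rw [E_val]
  by_cases hr : ∃ a, D.f a = c
  · obtain ⟨a, rfl⟩ := hr
    rw [emb_mulVec_range D.inj]
    have := hA a (D.hf.le_iff_le.mp hc)
    exact this
  · push Not at hr
    rw [emb_mulVec_of_not _ _ hr]
    apply hz
    exact lt_of_le_of_ne hc (hr a₀)

/-- The isotropy of a vector supported near the index set of the datum. -/
theorem local_iso (w : Fin n → K)
    (h : ∀ l, (∀ c, D.f c ≠ l) → star (w l.rev) * w l = 0)
    (hiso : ∑ i, star (w i.rev) * w i = 0) :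
    ∑ a, star ((w ∘ D.f) a.rev) * (w ∘ D.f) a = 0 := by
  rw [← hiso, ← Finset.sum_subset (Finset.subset_univ (Finset.univ.image D.f))]
  · rw [Finset.sum_image (fun x _ y _ h => D.inj h)]
    apply Finset.sum_congr rfl
    intro a _
    simp only [Function.comp_apply]
    rw [D.hrev]
  · intro l _ hl
    apply h
    intro c e
    apply hl
    rw [Finset.mem_image]
    exact ⟨c, Finset.mem_univ _, e⟩

theorem lower_aux (m : ℕ) (hD : ∀ a, m ≤ (D.f a : ℕ)) (a₀ : Fin D.d) (w : Fin n → K) (t : Fin n)
    (ht : t = D.f a₀) (hz : ∀ c, t < c → w c = 0)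
    (hv : ∃ g ∈ D.X, ∀ a, a₀ ≤ a → ((D.s * g).val *ᵥ (w ∘ D.f)) a = 0) :
    ∃ h : UG n K, h ∈ Bsub n K ⊔ Nsub n K ∧ GoodM m h.val ∧
      ∀ c, t ≤ c → (h.val *ᵥ w) c = 0 := by
  obtain ⟨g, hg, hv⟩ := hv
  refine ⟨D.E (D.s * g), D.E_sg_mem hg, D.E_goodM _ m hD, ?_⟩
  rw [ht] at hz ⊢
  exact D.lower a₀ w hz _ hv

end R1

variable (τ₀ : K) (hτ : star τ₀ = -τ₀) (hτ0 : τ₀ ≠ 0)

include τ₀ hτ hτ0 in
/-- Lowering the top of an isotropic vector. -/
theorem exists_lower (m : ℕ) (hm : m < n / 2) (w : Fin n → K) (t : Fin n) (h1 : m < t)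
    (h2 : (t : ℕ) + m ≤ n - 1) (hw : w t ≠ 0) (hz : ∀ c, t < c → w c = 0)
    (hiso : ∑ i, star (w i.rev) * w i = 0) :
    ∃ h : UG n K, h ∈ Bsub n K ⊔ Nsub n K ∧ GoodM m h.val ∧
      ∀ c, t ≤ c → (h.val *ᵥ w) c = 0 := by
  have htn := t.2
  by_cases hA : (t : ℕ) < n / 2
  · -- the upper left case
    have h4 : 2 * ((t : ℕ) - 1) + 4 ≤ n := by omega
    have et : t = f4 n ((t : ℕ) - 1) h4 1 := by
      apply Fin.ext
      change (t : ℕ) = (t : ℕ) - 1 + 1
      omega
    apply (D4 K n ((t : ℕ) - 1) h4).lower_aux m _ (1 : Fin 4) w t et hz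
    · have hw1 : (w ∘ f4 n ((t : ℕ) - 1) h4) 1 ≠ 0 := by
        rw [Function.comp_apply, ← et]
        exact hw
      have hw2 : (w ∘ f4 n ((t : ℕ) - 1) h4) 2 = 0 := by
        rw [Function.comp_apply]
        apply hz
        rw [Fin.lt_def]
        change (t : ℕ) < n - 2 - ((t : ℕ) - 1)
        omega
      have hw3 : (w ∘ f4 n ((t : ℕ) - 1) h4) 3 = 0 := by
        rw [Function.comp_apply]
        apply hz
        rw [Fin.lt_def]
        change (t : ℕ) < n - 1 - ((t : ℕ) - 1)
        omega
      exact T4.vstep1 _ hw1 hw2 hw3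
    · intro (a : Fin 4)
      change m ≤ (f4 n ((t : ℕ) - 1) h4 a : ℕ)
      rw [f4_val]
      fin_cases a <;> simp <;> omega
  · by_cases hB : 2 * (n - 1 - (t : ℕ)) + 4 ≤ n
    · -- the lower right case
      have et : t = f4 n (n - 1 - (t : ℕ)) hB 3 := by
        apply Fin.ext
        change (t : ℕ) = n - 1 - (n - 1 - (t : ℕ))
        omega
      apply (D4 K n (n - 1 - (t : ℕ)) hB).lower_aux m _ (3 : Fin 4) w t et hz
      · have hw3 : (w ∘ f4 n (n - 1 - (t : ℕ)) hB) 3 ≠ 0 := by
          rw [Function.comp_apply, ← et]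
          exact hw
        exact T4.vstep3 _ hw3
      · intro (a : Fin 4)
        change m ≤ (f4 n (n - 1 - (t : ℕ)) hB a : ℕ)
        rw [f4_val]
        fin_cases a <;> simp <;> omega
    · by_cases he : n % 2 = 0
      · -- the middle node, even dimension
        have hn : n = 2 * (n / 2) := by omega
        have hk : 1 ≤ n / 2 := by omega
        have et : t = f2 n (n / 2) hn hk 1 := by
          apply Fin.ext
          change (t : ℕ) = n / 2
          omega
        apply (D2 n (n / 2) hn hk τ₀ hτ hτ0).lower_aux m _ (1 : Fin 2) w t et hz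
        · have hw1 : (w ∘ f2 n (n / 2) hn hk) 1 ≠ 0 := by
            rw [Function.comp_apply, ← et]
            exact hw
          apply T2.vstep τ₀ hτ hτ0 _ hw1
          apply (D2 n (n / 2) hn hk τ₀ hτ hτ0).local_iso w _ hiso
          intro l hl
          have h0 := fun e => hl (0 : Fin 2) (Fin.ext e)
          have h1' := fun e => hl (1 : Fin 2) (Fin.ext e)
          change n / 2 - 1 = (l : ℕ) → False at h0
          change n / 2 = (l : ℕ) → False at h1'
          have hl0 : (l : ℕ) ≠ n / 2 - 1 := fun e => h0 e.symm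
          have hl1 : (l : ℕ) ≠ n / 2 := fun e => h1' e.symm
          have htk : (t : ℕ) = n / 2 := by omega
          have hln := l.2
          by_cases hlt : t < l
          · rw [hz l hlt, mul_zero]
          · rw [Fin.lt_def, not_lt] at hlt
            have : t < l.rev := by
              rw [Fin.lt_def, Fin.val_rev]
              omega
            rw [hz _ this, star_zero, zero_mul]
        · intro (a : Fin 2)
          change m ≤ (f2 n (n / 2) hn hk a : ℕ)
          rw [f2_val]
          fin_cases a <;> simp <;> omega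
      · -- odd dimension
        have hn : n = 2 * (n / 2) + 1 := by omega
        have hk : 1 ≤ n / 2 := by omega
        have htne : (t : ℕ) ≠ n / 2 := by
          intro e
          apply hw
          -- the middle entry of an isotropic vector with nothing below vanishes
          rw [Finset.sum_eq_single t] at hiso
          · have e2 : t.rev = t := by
              apply Fin.ext
              rw [Fin.val_rev]
              omega
            rw [e2] at hiso
            rcases mul_eq_zero.mp hiso with h | h
            · exact star_eq_zero.mp h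
            · exact h
          · intro l _ hl
            rcases lt_or_gt_of_ne hl with hlt | hgt
            · have : t < l.rev := by
                rw [Fin.lt_def] at hlt ⊢
                rw [Fin.val_rev]
                omega
              rw [hz _ this, star_zero, zero_mul]
            · rw [hz l hgt, mul_zero]
          · intro h
            exact absurd (Finset.mem_univ t) h
        have et : t = f3 n (n / 2) hn hk 2 := by
          apply Fin.ext
          change (t : ℕ) = n / 2 + 1
          omega
        apply (D3 n (n / 2) hn hk τ₀ hτ hτ0).lower_aux m _ (2 : Fin 3) w t et hz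
        · have hw2 : (w ∘ f3 n (n / 2) hn hk) 2 ≠ 0 := by
            rw [Function.comp_apply, ← et]
            exact hw
          apply T3.vstep _ hw2
          apply (D3 n (n / 2) hn hk τ₀ hτ hτ0).local_iso w _ hiso
          intro l hl
          have h0 := fun e => hl (0 : Fin 3) (Fin.ext e)
          have h1' := fun e => hl (1 : Fin 3) (Fin.ext e)
          have h2' := fun e => hl (2 : Fin 3) (Fin.ext e)
          change n / 2 - 1 = (l : ℕ) → False at h0
          change n / 2 = (l : ℕ) → False at h1'
          change n / 2 + 1 = (l : ℕ) → False at h2'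
          have hl0 : (l : ℕ) ≠ n / 2 - 1 := fun e => h0 e.symm
          have hl1 : (l : ℕ) ≠ n / 2 := fun e => h1' e.symm
          have hl2 : (l : ℕ) ≠ n / 2 + 1 := fun e => h2' e.symm
          have htk : (t : ℕ) = n / 2 + 1 := by omega
          have hln := l.2
          by_cases hlt : t < l
          · rw [hz l hlt, mul_zero]
          · rw [Fin.lt_def, not_lt] at hlt
            have : t < l.rev := by
              rw [Fin.lt_def, Fin.val_rev]
              omega
            rw [hz _ this, star_zero, zero_mul]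
        · intro (a : Fin 3)
          change m ≤ (f3 n (n / 2) hn hk a : ℕ)
          rw [f3_val]
          fin_cases a <;> simp <;> omega

theorem mul_col (h g : UG n K) (j c : Fin n) :
    (h * g).val c j = (h.val *ᵥ fun i => g.val i j) c := by
  rw [UG.mul_val, Matrix.mul_apply]
  rfl

/-- The isotropy of the columns in the first half. -/
theorem col_iso (g : UG n K) (j : Fin n) (hj : j.rev ≠ j) :
    ∑ i, star (g.val i.rev j) * g.val i j = 0 := by
  have h1 : (dag g.val * g.val) j.rev j = (1 : Matrix (Fin n) (Fin n) K) j.rev j := by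
    rw [g.unit]
  rw [one_apply_ne hj, Matrix.mul_apply] at h1
  rw [← h1]
  apply Finset.sum_congr rfl
  intro i _
  rw [dag_apply, Fin.rev_rev]

theorem goodM_succ_of_col {m : ℕ} (hmn : m < n) {M : Matrix (Fin n) (Fin n) K} (hg : GoodM m M)
    (hT : ∀ c : Fin n, m < (c : ℕ) → M c ⟨m, hmn⟩ = 0) : GoodM (m + 1) M := by
  rw [goodM_iff]
  intro i j hj hji
  by_cases hjm : (j : ℕ) < m
  · exact (goodM_iff _ _).mp hg i j hjm hji
  · have e : j = ⟨m, hmn⟩ := Fin.ext (by change (j : ℕ) = m; omega)
    rw [e]
    apply hT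
    rw [Fin.lt_def] at hji
    omega

include τ₀ hτ hτ0 in
theorem exists_goodM_succ (m : ℕ) (hm : m < n / 2) : ∀ T : ℕ, ∀ g : UG n K, GoodM m g.val →
    (∀ c : Fin n, T < (c : ℕ) → g.val c ⟨m, by omega⟩ = 0) →
    ∃ h ∈ Bsub n K ⊔ Nsub n K, GoodM (m + 1) (h * g).val := by
  have hmn : m < n := by omega
  intro T
  induction T with
  | zero =>
    intro g hg hT
    refine ⟨1, Subgroup.one_mem _, ?_⟩
    rw [one_mul]
    apply goodM_succ_of_col hmn hg
    intro c hc
    apply hT
    omega
  | succ T ih =>
    intro g hg hT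
    by_cases hTm : T + 1 ≤ m
    · refine ⟨1, Subgroup.one_mem _, ?_⟩
      rw [one_mul]
      apply goodM_succ_of_col hmn hg
      intro c hc
      apply hT
      omega
    · rw [not_le] at hTm
      by_cases hTn : T + 1 < n
      · by_cases hw : g.val ⟨T + 1, hTn⟩ ⟨m, hmn⟩ = 0
        · apply ih g hg
          intro c hc
          by_cases hc' : T + 1 < (c : ℕ)
          · exact hT c hc'
          · have e : c = ⟨T + 1, hTn⟩ := Fin.ext (by change (c : ℕ) = T + 1; omega)
            rw [e]
            exact hw
        · -- lower the top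
          have hle : T + 1 + m ≤ n - 1 := by
            by_contra hlt
            apply hw
            apply goodM_rows g hg
            · change n ≤ T + 1 + m
              omega
            · rw [Fin.lt_def]
              exact hTm
          have hrev : (⟨m, hmn⟩ : Fin n).rev ≠ ⟨m, hmn⟩ := by
            intro e
            have := congrArg Fin.val e
            rw [Fin.val_rev] at this
            change n - (m + 1) = m at this
            omega
          obtain ⟨h1, h1mem, h1good, h1z⟩ := exists_lower τ₀ hτ hτ0 m hm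
            (fun i => g.val i ⟨m, hmn⟩) ⟨T + 1, hTn⟩ hTm hle hw
            (fun c hc => hT c hc) (col_iso g _ hrev)
          obtain ⟨h2, h2mem, h2good⟩ := ih (h1 * g) (h1good.mul hg) (by
            intro c hc
            rw [mul_col]
            apply h1z
            rw [Fin.le_def]
            change T + 1 ≤ (c : ℕ)
            omega)
          refine ⟨h2 * h1, Subgroup.mul_mem _ h2mem h1mem, ?_⟩
          rw [mul_assoc]
          exact h2good
      · apply ih g hg
        intro c _
        apply hT
        have := c.2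
        omega

include τ₀ hτ hτ0 in
theorem exists_goodM : ∀ m : ℕ, m ≤ n / 2 → ∀ g : UG n K,
    ∃ h ∈ Bsub n K ⊔ Nsub n K, GoodM m (h * g).val := by
  intro m
  induction m with
  | zero =>
    intro _ g
    exact ⟨1, Subgroup.one_mem _, goodM_zero _⟩
  | succ m ih =>
    intro hm g
    obtain ⟨h0, h0mem, h0good⟩ := ih (by omega) g
    obtain ⟨h1, h1mem, h1good⟩ := exists_goodM_succ τ₀ hτ hτ0 m (by omega) n (h0 * g) h0good
      (by
        intro c hc
        have := c.2
        omega)
    refine ⟨h1 * h0, Subgroup.mul_mem _ h1mem h0mem, ?_⟩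
    rw [mul_assoc]
    exact h1good

include τ₀ hτ hτ0 in
/-- `B` and `N` generate. -/
theorem sup_eq_top' : Bsub n K ⊔ Nsub n K = ⊤ := by
  rw [eq_top_iff]
  intro g _
  obtain ⟨h, hmem, hgood⟩ := exists_goodM τ₀ hτ hτ0 (n / 2) le_rfl g
  have h1 : h * g ∈ Bsub n K ⊔ Nsub n K :=
    Subgroup.mem_sup_left (mem_Bsub_of_goodM _ hgood)
  have e : g = h⁻¹ * (h * g) := by group
  rw [e]
  exact Subgroup.mul_mem _ (Subgroup.inv_mem _ hmem) h1

end Cfsg.Agent.Helper1.SUJ
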