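import Mathlib
import Cfsg.Agent.Helper1.SUJj
import Cfsg.Agent.Lead.SLBND
import Cfsg.Agent.Lead.SteinCharE
import Cfsg.Agent.Helper7.BNParabolic

set_option autoImplicit false

/-!
The `(B, N)`-pair of the unitary group of the antidiagonal form and its Steinberg character.
-/

namespace Cfsg.Agent.Helper1.SUJ

open Matrix Cfsg Cfsg.Agent.Lead.SpBN Cfsg.Agent.Helper7.BN Cfsg.Agent.Lead.SteinChar
  Cfsg.Agent.Lead.SteinBN

universe u

variable {K : Type u} [Field K] [StarRing K] {n : ℕ}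
variable (τ₀ : K) (hτ : star τ₀ = -τ₀) (hτ0 : τ₀ ≠ 0)

/-- The `(B, N)`-pair of the unitary group. -/
noncomputable def suBN (n : ℕ) : Cfsg.BNPair (UG n K) where
  B := Bsub n K
  N := Nsub n K
  S := Ssub τ₀ hτ hτ0
  sup_eq_top := sup_eq_top' τ₀ hτ hτ0
  conj_mem := fun _ hn _ ht => conj_mem_Bsub hn ht
  subset := Ssub_subset τ₀ hτ hτ0
  sq_mem := by
    rintro _ ⟨o, rfl⟩
    exact ngen_sq_mem τ₀ hτ hτ0 o
  inj := by
    rintro _ ⟨o, rfl⟩ _ ⟨o', rfl⟩ h
    rw [ngen_inj τ₀ hτ hτ0 h]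
  closure_sup := closure_sup_eq τ₀ hτ hτ0
  mul_mem_union := by
    rintro _ ⟨o, rfl⟩ m hm b hb
    exact (datum n τ₀ hτ hτ0 o).mul_mem_union hm hb
  conj_ne := by
    rintro _ ⟨o, rfl⟩
    exact (datum n τ₀ hτ hτ0 o).conj_ne

include τ₀ hτ hτ0 in
theorem center_le_Bsub : Subgroup.center (UG n K) ≤ Bsub n K := by
  intro z hz
  have h1 : z ∈ Subgroup.normalizer ((Bsub n K : Subgroup (UG n K)) : Set (UG n K)) := by
    rw [Subgroup.mem_normalizer_iff]
    intro b
    have e : z * b * z⁻¹ = b := by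
      rw [Subgroup.mem_center_iff] at hz
      rw [← hz b, mul_inv_cancel_right]
    rw [e]
  have h2 := normalizer_eq_of_le (suBN τ₀ hτ hτ0 n) (M := Bsub n K) le_rfl
  rw [h2] at h1
  exact h1

/-! ### The diagonal part of an upper triangular element -/

theorem diag_unit {b : UG n K} (hb : b ∈ Bsub n K) (i : Fin n) :
    star (b.val i.rev i.rev) * b.val i i = 1 := by
  have h1 : (dag b.val * b.val) i i = (1 : Matrix (Fin n) (Fin n) K) i i := by rw [b.unit]
  rw [one_apply_eq, Matrix.mul_apply, Finset.sum_eq_single i] at h1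
  · rw [dag_apply] at h1
    exact h1
  · intro l _ hl
    rw [dag_apply]
    rcases lt_or_gt_of_ne hl with hlt | hgt
    · have : b.val l.rev i.rev = 0 := hb (Fin.rev_lt_rev.mpr hlt)
      rw [this, star_zero, zero_mul]
    · have : b.val l i = 0 := hb hgt
      rw [this, mul_zero]
  · intro h
    exact absurd (Finset.mem_univ i) h

theorem dag_diagonal (d : Fin n → K) :
    dag (Matrix.diagonal d) = Matrix.diagonal (fun i => star (d i.rev)) := by
  ext i j
  rw [dag_apply]
  by_cases hij : i = j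
  · subst hij
    rw [diagonal_apply_eq, diagonal_apply_eq]
  · rw [diagonal_apply_ne _ (fun e => hij (Fin.rev_injective e).symm), diagonal_apply_ne _ hij,
      star_zero]

/-- The diagonal part. -/
def dg (b : UG n K) (hb : b ∈ Bsub n K) : UG n K :=
  ⟨Matrix.diagonal (fun i => b.val i i), by
    rw [dag_diagonal, Matrix.diagonal_mul_diagonal]
    rw [← Matrix.diagonal_one]
    congr 1
    ext i
    exact diag_unit hb i, by
    rw [Matrix.det_diagonal, ← Matrix.det_of_isUpperTriangular hb, b.det]⟩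

theorem dg_val (b : UG n K) (hb : b ∈ Bsub n K) :
    (dg b hb).val = Matrix.diagonal (fun i => b.val i i) := rfl

theorem dg_mono (b : UG n K) (hb : b ∈ Bsub n K) :
    MonoQ (1 : Equiv.Perm (Fin n)) (dg b hb).val := by
  intro i j hij
  rw [Equiv.Perm.one_apply] at hij
  rw [dg_val, diagonal_apply_ne _ hij]

theorem dg_mem_Bsub (b : UG n K) (hb : b ∈ Bsub n K) : dg b hb ∈ Bsub n K :=
  (mem_inf_of_mono_one (dg_mono b hb)).1

theorem mul_dg_inv_mem (b : UG n K) (hb : b ∈ Bsub n K) : b * (dg b hb)⁻¹ ∈ Usub n K := by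
  refine ⟨(Bsub n K).mul_mem hb ((Bsub n K).inv_mem (dg_mem_Bsub b hb)), ?_⟩
  intro i
  rw [UG.mul_val, UG.inv_val, dg_val, dag_diagonal, Matrix.mul_diagonal]
  rw [mul_comm]
  exact diag_unit hb i

/-- The diagonal subgroup of `B` has the unipotent subgroup as a complement. -/
theorem index_eq_card_Usub (T' : Subgroup ↥(Bsub n K))
    (hT : ∀ b : ↥(Bsub n K), b ∈ T' ↔ MonoQ (1 : Equiv.Perm (Fin n)) (b : UG n K).val) :
    T'.index = Nat.card (Usub n K) := by
  have hcompl : Subgroup.IsComplement' ((Usub n K).subgroupOf (Bsub n K)) T' := by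
    apply Subgroup.isComplement'_of_disjoint_and_mul_eq_univ
    · rw [Subgroup.disjoint_def]
      intro x hx hxT
      rw [Subgroup.mem_subgroupOf] at hx
      rw [hT] at hxT
      apply Subtype.ext
      apply UG.ext
      ext i j
      change (x : UG n K).val i j = (1 : Matrix (Fin n) (Fin n) K) i j
      by_cases hij : i = j
      · subst hij
        rw [hx.2 i, one_apply_eq]
      · rw [hxT i j (by rwa [Equiv.Perm.one_apply]), one_apply_ne hij]
    · rw [Set.eq_univ_iff_forall]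
      intro b
      refine Set.mem_mul.mpr ⟨(⟨(b : UG n K) * (dg (b : UG n K) b.2)⁻¹,
        Usub_le_Bsub (mul_dg_inv_mem (b : UG n K) b.2)⟩ : ↥(Bsub n K)), ?_,
        (⟨dg (b : UG n K) b.2, dg_mem_Bsub (b : UG n K) b.2⟩ : ↥(Bsub n K)), ?_, ?_⟩
      · rw [SetLike.mem_coe, Subgroup.mem_subgroupOf]
        exact mul_dg_inv_mem (b : UG n K) b.2
      · rw [SetLike.mem_coe, hT]
        exact dg_mono (b : UG n K) b.2
      · apply Subtype.ext
        change (b : UG n K) * (dg (b : UG n K) b.2)⁻¹ * dg (b : UG n K) b.2 = b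
        rw [inv_mul_cancel_right]
  rw [hcompl.index_eq_card]
  exact Nat.card_congr (Subgroup.subgroupOfEquivOfLe Usub_le_Bsub).toEquiv

/-- The elements of `B` which the longest element conjugates into `B` are the diagonal ones. -/
theorem conj_w0_mem_iff {w0 : UG n K} (hw0 : MonoQ (Fin.revPerm : Equiv.Perm (Fin n)) w0.val)
    {b : UG n K} (hb : b ∈ Bsub n K) :
    w0 * b * w0⁻¹ ∈ Bsub n K ↔ MonoQ (1 : Equiv.Perm (Fin n)) b.val := by
  constructor
  · intro h i j hij
    rw [Equiv.Perm.one_apply] at hij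
    rcases lt_or_gt_of_ne hij with hlt | hgt
    · have hrev : j.rev < i.rev := Fin.rev_lt_rev.mpr hlt
      have h3 : (w0 * b * w0⁻¹).val i.rev j.rev = 0 := h hrev
      rw [conj_apply hw0] at h3
      have e1 : (Fin.revPerm : Equiv.Perm (Fin n))⁻¹ i.rev = i := by
        rw [Equiv.Perm.inv_def, Fin.revPerm_symm, Fin.revPerm_apply, Fin.rev_rev]
      have e2 : (Fin.revPerm : Equiv.Perm (Fin n))⁻¹ j.rev = j := by
        rw [Equiv.Perm.inv_def, Fin.revPerm_symm, Fin.revPerm_apply, Fin.rev_rev]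
      rw [e1, e2] at h3
      have h4 := entry_ne_zero hw0 i
      have h5 := entry_ne_zero (mono_inv hw0) j.rev
      rw [e2] at h5
      rw [Fin.revPerm_apply] at h4
      rcases mul_eq_zero.mp h3 with h6 | h6
      · rcases mul_eq_zero.mp h6 with h7 | h7
        · exact absurd h7 h4
        · exact h7
      · exact absurd h6 h5
    · exact hb hgt
  · intro h
    rw [mem_Bsub]
    apply upper_of_mono_one (fun i : Fin n => (i : ℕ))
    have h3 := (hw0.mul h).mul (mono_inv hw0)
    rw [mul_one, mul_inv_cancel] at h3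
    exact h3

include τ₀ hτ hτ0 in
/-- The Steinberg character of the unitary group of the antidiagonal form. -/
theorem exists_steinberg_UG [Fintype K] (n : ℕ) :
    ∃ χ : UG n K → ℂ, Cfsg.IsIrrCharacter (UG n K) χ ∧
      χ 1 = Nat.card (Usub n K) ∧ ∀ z ∈ Subgroup.center (UG n K), χ z = χ 1 := by
  classical
  haveI : Fintype (UG n K) := Fintype.ofFinite _
  set P := suBN τ₀ hτ hτ0 n with hP
  have himg : ngen (n := n) τ₀ hτ hτ0 '' (((Finset.univ : Finset (Fin (n / 2))) :
      Set (Fin (n / 2)))) = P.S := by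
    rw [Finset.coe_univ, Set.image_univ]
    rfl
  have hpar : ∀ J : Finset (Fin (n / 2)), J ⊆ Finset.univ →
      (fun J : Finset (Fin (n / 2)) =>
        P.parabolic (ngen (n := n) τ₀ hτ hτ0 '' (J : Set (Fin (n / 2))))) J =
        P.parabolic (ngen (n := n) τ₀ hτ hτ0 '' (J : Set (Fin (n / 2)))) := fun _ _ => rfl
  obtain ⟨w0, hw0⟩ := exists_w0 (n := n) τ₀ hτ hτ0
  refine ⟨St Finset.univ (fun J : Finset (Fin (n / 2)) =>
    P.parabolic (ngen (n := n) τ₀ hτ hτ0 '' (J : Set (Fin (n / 2))))),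
    isIrrCharacter_St P himg hpar, ?_, ?_⟩
  · have hn0 : w0 ∈ P.N := ⟨_, hw0⟩
    have hgood : ∀ o ∈ (Finset.univ : Finset (Fin (n / 2))),
        Good P (rr P (ngen (n := n) τ₀ hτ hτ0) o)
          (rr P (ngen (n := n) τ₀ hτ hτ0) o * proj P ⟨w0, hn0⟩) := by
      intro o _
      have hsN : ngen τ₀ hτ hτ0 o ∈ P.N := ngen_mem_Nsub τ₀ hτ hτ0 o
      rw [rr_eq P hsN, ← map_mul]
      apply good_of_rep
      intro b hb
      have h1 : MonoQ (npat τ₀ hτ hτ0 o * Fin.revPerm) (ngen τ₀ hτ hτ0 o * w0).val :=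
        (ngen_mono τ₀ hτ hτ0 o).mul hw0
      apply (datum n τ₀ hτ hτ0 o).mul_mem_of_lt h1 _ hb
      intro a a' haa hπ
      have e : ∀ c : Fin n, (npat τ₀ hτ hτ0 o * (Fin.revPerm : Equiv.Perm (Fin n)))⁻¹ c =
          (npat τ₀ hτ hτ0 o c).rev := by
        intro c
        rw [_root_.mul_inv_rev, npat_inv, Equiv.Perm.mul_apply, Equiv.Perm.inv_def,
          Fin.revPerm_symm, Fin.revPerm_apply]
      rw [e, e]
      unfold npat
      rw [R1.pat_apply_range, R1.pat_apply_range, Fin.rev_lt_rev]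
      exact (datum n τ₀ hτ hτ0 o).hf hπ
    have key := St_apply_B_of_good P (I := Finset.univ) (s := ngen (n := n) τ₀ hτ hτ0)
      (par := fun J : Finset (Fin (n / 2)) =>
        P.parabolic (ngen (n := n) τ₀ hτ hτ0 '' (J : Set (Fin (n / 2)))))
      himg hpar ⟨w0, hn0⟩ hgood 1
    rw [Subgroup.coe_one, fixedPointCharacter_one] at key
    rw [key]
    congr 1
    apply index_eq_card_Usub
    intro b
    exact (mem_stab_inv_proj P ⟨w0, hn0⟩ b).trans (conj_w0_mem_iff hw0 b.2)
  · intro z hz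
    unfold St
    apply Finset.sum_congr rfl
    intro J _
    congr 1
    exact Cfsg.Agent.Lead.SLBN.fixedPointCharacter_central _ hz
      (Subgroup.mem_sup_left (center_le_Bsub τ₀ hτ hτ0 hz))

end Cfsg.Agent.Helper1.SUJ
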