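import Mathlib
import Cfsg.Agent.Helper1.SUJk
import Cfsg.Agent.Helper2.BaerSuzuki
import Cfsg.Agent.Helper8.AutSLnA

set_option autoImplicit false

/-!
The unitriangular subgroup of the unitary group of the antidiagonal form is a Sylow subgroup.
-/

namespace Cfsg.Agent.Helper1.SUJ

open Matrix Cfsg Cfsg.Agent.Lead.SpBN Cfsg.Agent.Helper7.BN

universe u

variable {K : Type u} [Field K] [StarRing K] {n : ℕ}

namespace R1

variable (D : R1 n K)

/-- A root element which the reflection conjugates out of `B`. -/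
theorem exists_conj_not_mem : ∃ x ∈ D.X, D.gen * D.E x * D.gen⁻¹ ∉ Bsub n K := by
  obtain ⟨x, hx, hx1⟩ := D.X_ne
  refine ⟨x, hx, ?_⟩
  intro h2
  have hex : ∃ a b, a < b ∧ x.val a b ≠ 0 := by
    by_contra hno
    push Not at hno
    apply hx1
    apply UG.ext
    ext a b
    rw [UG.one_val]
    rcases lt_trichotomy a b with h | h | h
    · rw [hno a b h, one_apply_ne h.ne]
    · rw [h, (D.X_upper x hx).2, one_apply_eq]
    · rw [(D.X_upper x hx).1 h, one_apply_ne h.ne']
  obtain ⟨a, b, hab, hne⟩ := hex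
  have hπ := D.X_supp x hx a b hab hne
  rw [mem_Bsub] at h2
  have hlt : D.f (D.π b) < D.f (D.π a) := D.hf hπ
  have h3 := h2 hlt
  rw [conj_apply D.gen_mono, pat_inv, pat_apply_range, pat_apply_range, D.hπ, D.hπ, E_val,
    emb_apply_range D.inj] at h3
  have h4 := entry_ne_zero D.gen_mono (D.f a)
  rw [pat_apply_range] at h4
  have h5 := entry_ne_zero D.gen_inv_mono (D.f (D.π b))
  rw [pat_apply_range, D.hπ] at h5
  exact mul_ne_zero (mul_ne_zero h4 hne) h5 h3

end R1

theorem diag_mul_of_upper' {M N : Matrix (Fin n) (Fin n) K} (hM : M.BlockTriangular id)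
    (hN : N.BlockTriangular id) (i : Fin n) : (M * N) i i = M i i * N i i :=
  Cfsg.Agent.Helper8.AutSLn.diag_mul_of_upper hM hN i

/-- `U` is normal in `B`. -/
theorem conj_mem_Usub {b u : UG n K} (hb : b ∈ Bsub n K) (hu : u ∈ Usub n K) :
    b * u * b⁻¹ ∈ Usub n K := by
  have hbi : b⁻¹ ∈ Bsub n K := (Bsub n K).inv_mem hb
  refine ⟨(Bsub n K).mul_mem ((Bsub n K).mul_mem hb hu.1) hbi, fun i => ?_⟩
  rw [UG.mul_val, UG.mul_val,
    diag_mul_of_upper' (BlockTriangular.mul (mem_Bsub.mp hb) hu.1) (mem_Bsub.mp hbi),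
    diag_mul_of_upper' (mem_Bsub.mp hb) hu.1, hu.2, mul_one,
    ← diag_mul_of_upper' (mem_Bsub.mp hb) (mem_Bsub.mp hbi), ← UG.mul_val, mul_inv_cancel,
    UG.one_val, one_apply_eq]

variable (τ₀ : K) (hτ : star τ₀ = -τ₀) (hτ0 : τ₀ ≠ 0)

include τ₀ hτ hτ0 in
/-- The normaliser of `U` lies in `B`. -/
theorem normalizer_Usub_le :
    Subgroup.normalizer ((Usub n K : Subgroup (UG n K)) : Set (UG n K)) ≤ Bsub n K := by
  set P := suBN τ₀ hτ hτ0 n with hP
  set M := Subgroup.normalizer ((Usub n K : Subgroup (UG n K)) : Set (UG n K)) with hM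
  have hBM : P.B ≤ M := by
    intro b hb
    rw [hM, Subgroup.mem_normalizer_iff]
    intro u
    constructor
    · intro hu
      exact conj_mem_Usub hb hu
    · intro hu
      have := conj_mem_Usub ((Bsub n K).inv_mem hb) hu
      have e : b⁻¹ * (b * u * b⁻¹) * b⁻¹⁻¹ = u := by group
      rwa [e] at this
  have h1 := eq_parabolic_of_le P M hBM
  have h2 : P.S ∩ (M : Set (UG n K)) = ∅ := by
    rw [Set.eq_empty_iff_forall_notMem]
    rintro s ⟨⟨o, rfl⟩, hs⟩
    obtain ⟨x, hx, hxn⟩ := (datum n τ₀ hτ hτ0 o).exists_conj_not_mem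
    apply hxn
    have hs' : ngen τ₀ hτ hτ0 o ∈ M := hs
    rw [hM, Subgroup.mem_normalizer_iff] at hs'
    exact Usub_le_Bsub ((hs' _).mp
      ((datum n τ₀ hτ hτ0 o).E_mem_Usub ((datum n τ₀ hτ hτ0 o).X_upper x hx)))
  rw [h2] at h1
  rw [h1]
  unfold Cfsg.BNPair.parabolic
  rw [Subgroup.closure_empty, sup_bot_eq]
  exact le_rfl

theorem diag_pow_of_upper {g : UG n K} (hg : g ∈ Bsub n K) (k : ℕ) (c : Fin n) :
    (g ^ k).val c c = (g.val c c) ^ k := by
  induction k with
  | zero =>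
    rw [pow_zero, pow_zero, UG.one_val]
    exact one_apply_eq c
  | succ k ih =>
    rw [pow_succ, pow_succ, UG.mul_val,
      diag_mul_of_upper' (mem_Bsub.mp ((Bsub n K).pow_mem hg k)) (mem_Bsub.mp hg), ih]

/-- A `p`-element of the Borel subgroup is unipotent. -/
theorem pElement_mem_Usub (p : ℕ) [Fact p.Prime] [CharP K p] {g : UG n K}
    (hg : g ∈ Bsub n K) {k : ℕ} (hk : g ^ p ^ k = 1) : g ∈ Usub n K := by
  refine ⟨hg, fun c => ?_⟩
  have h1 := diag_pow_of_upper hg (p ^ k) c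
  rw [hk, UG.one_val, one_apply_eq] at h1
  have h3 : (g.val c c - 1) ^ p ^ k = 0 := by
    rw [sub_pow_char_pow, ← h1, one_pow, sub_self]
  have h4 := pow_eq_zero_iff (pow_ne_zero k (Fact.out : p.Prime).ne_zero) |>.mp h3
  exact sub_eq_zero.mp h4

theorem isPGroup_Usub [Fintype K] (p : ℕ) [Fact p.Prime] [CharP K p] :
    IsPGroup p (Usub n K) := by
  have h := Cfsg.Agent.Helper8.AutSLn.isPGroup_UT (F := K) (k := n) p
  let φ : ↥(Usub n K) →* ↥(Cfsg.Agent.Helper8.AutSLn.UT K n) :=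
    (UG.toSL.comp (Usub n K).subtype).codRestrict _ (fun u => ⟨u.2.1, u.2.2⟩)
  apply h.of_injective φ
  intro a b hab
  apply Subtype.ext
  apply UG.toSL_injective
  exact congrArg Subtype.val hab

include τ₀ hτ hτ0 in
/-- `U` is a Sylow `p`-subgroup. -/
theorem not_dvd_index_Usub [Fintype K] (p : ℕ) [Fact p.Prime] [CharP K p] :
    ¬ p ∣ (Usub n K).index := by
  let S : Sylow p (UG n K) :=
    { toSubgroup := Usub n K
      isPGroup' := isPGroup_Usub p
      is_maximal' := by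
        intro Q hQ hUQ
        by_contra hne
        have hlt : Usub n K < Q := lt_of_le_of_ne hUQ (Ne.symm hne)
        obtain ⟨r, hrQ, hrU, hrN⟩ := Cfsg.Agent.Helper2.exists_mem_normalizer_notMem_of_lt hQ hlt
        apply hrU
        obtain ⟨k, hk⟩ := hQ ⟨r, hrQ⟩
        have hk' : r ^ p ^ k = 1 := by
          have := congrArg Subtype.val hk
          simpa using this
        exact pElement_mem_Usub p (normalizer_Usub_le τ₀ hτ hτ0 hrN) hk' }
  exact S.not_dvd_index

end Cfsg.Agent.Helper1.SUJ
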