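import Mathlib
import Cfsg.Agent.Helper1.SUJl
import Cfsg.Agent.Helper8.SUCenter

set_option autoImplicit false

/-!
The special unitary group of the standard hermitian form is isomorphic to the unitary group of the
antidiagonal form: a Witt basis.
-/

namespace Cfsg.Agent.Helper1.SUJ

open Matrix Cfsg Cfsg.Agent.Helper7.Herm Cfsg.Agent.Helper8.GUOrder

section inst

variable {F : Type*} [Field F] [Fintype F] {q : ℕ}

/-- The involution `x ↦ x ^ q` of a field with `q²` elements. -/
@[reducible] def starRingQ (hF : Fintype.card F = q ^ 2) : StarRing F where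
  star x := x ^ q
  star_involutive x := pow_q_pow_q hF x
  star_mul a b := by
    change (a * b) ^ q = b ^ q * a ^ q
    rw [mul_pow, mul_comm]
  star_add a b := add_pow_q hF a b

end inst

section J

variable {K : Type*} [Field K] [StarRing K] {n : ℕ}

/-- The antidiagonal matrix. -/
def Jm (n : ℕ) (K : Type*) [Field K] : Matrix (Fin n) (Fin n) K :=
  (1 : Matrix (Fin n) (Fin n) K).submatrix Fin.rev id

theorem Jm_apply (i j : Fin n) : Jm n K i j = if i.rev = j then 1 else 0 := by
  unfold Jm
  rw [submatrix_apply, id, one_apply]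

theorem Jm_mul_apply (M : Matrix (Fin n) (Fin n) K) (i j : Fin n) :
    (Jm n K * M) i j = M i.rev j := by
  rw [Matrix.mul_apply, Finset.sum_eq_single i.rev]
  · rw [Jm_apply, if_pos rfl, one_mul]
  · intro k _ hk
    rw [Jm_apply, if_neg hk.symm, zero_mul]
  · intro h
    exact absurd (Finset.mem_univ _) h

theorem mul_Jm_apply (M : Matrix (Fin n) (Fin n) K) (i j : Fin n) :
    (M * Jm n K) i j = M i j.rev := by
  rw [Matrix.mul_apply, Finset.sum_eq_single j.rev]
  · rw [Jm_apply, Fin.rev_rev, if_pos rfl, mul_one]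
  · intro k _ hk
    rw [Jm_apply, if_neg, mul_zero]
    intro e
    apply hk
    rw [← e, Fin.rev_rev]
  · intro h
    exact absurd (Finset.mem_univ _) h

theorem Jm_mul_Jm : Jm n K * Jm n K = 1 := by
  ext i j
  rw [Jm_mul_apply, Jm_apply, Fin.rev_rev, one_apply]

theorem Jm_conjTranspose : (Jm n K)ᴴ = Jm n K := by
  ext i j
  rw [conjTranspose_apply, Jm_apply, Jm_apply]
  by_cases h : j.rev = i
  · rw [if_pos h, if_pos (by rw [← h, Fin.rev_rev]), star_one]
  · rw [if_neg h, if_neg, star_zero]
    intro e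
    apply h
    rw [← e, Fin.rev_rev]

theorem dag_eq (M : Matrix (Fin n) (Fin n) K) : dag M = Jm n K * Mᴴ * Jm n K := by
  ext i j
  rw [mul_Jm_apply, Jm_mul_apply, dag_apply, conjTranspose_apply]

/-- Transport along a Witt basis, forwards. -/
theorem unit_of_dag {C Ci g : Matrix (Fin n) (Fin n) K} (hC : Cᴴ * C = Jm n K)
    (hCi : Ci = Jm n K * Cᴴ) (hCC : C * Ci = 1) (hg : dag g * g = 1) :
    (C * g * Ci)ᴴ * (C * g * Ci) = 1 := by
  have hCiH : Ciᴴ = C * Jm n K := by
    rw [hCi, conjTranspose_mul, conjTranspose_conjTranspose, Jm_conjTranspose]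
  rw [dag_eq] at hg
  calc (C * g * Ci)ᴴ * (C * g * Ci)
      = Ciᴴ * gᴴ * (Cᴴ * C) * g * Ci := by
        rw [conjTranspose_mul, conjTranspose_mul]
        simp only [Matrix.mul_assoc]
    _ = C * (Jm n K * gᴴ * Jm n K * g) * Ci := by
        rw [hCiH, hC]
        simp only [Matrix.mul_assoc]
    _ = 1 := by rw [hg, Matrix.mul_one, hCC]

/-- Transport along a Witt basis, backwards. -/
theorem dag_of_unit {C Ci h : Matrix (Fin n) (Fin n) K}
    (hCi : Ci = Jm n K * Cᴴ) (hCC : C * Ci = 1) (hCC' : Ci * C = 1) (hh : hᴴ * h = 1) :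
    dag (Ci * h * C) * (Ci * h * C) = 1 := by
  have hCiH : Ciᴴ = C * Jm n K := by
    rw [hCi, conjTranspose_mul, conjTranspose_conjTranspose, Jm_conjTranspose]
  rw [dag_eq]
  calc Jm n K * (Ci * h * C)ᴴ * Jm n K * (Ci * h * C)
      = (Jm n K * Cᴴ) * hᴴ * C * (Jm n K * Jm n K) * Ci * h * C := by
        rw [conjTranspose_mul, conjTranspose_mul, hCiH]
        simp only [Matrix.mul_assoc]
    _ = Ci * hᴴ * (C * Ci) * h * C := by
        rw [Jm_mul_Jm, ← hCi, Matrix.mul_one]
        simp only [Matrix.mul_assoc]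
    _ = Ci * (hᴴ * h) * C := by
        rw [hCC, Matrix.mul_one]
        simp only [Matrix.mul_assoc]
    _ = 1 := by rw [hh, Matrix.mul_one, hCC']

end J

section witt

variable {K : Type*} [Field K] [StarRing K] {n : ℕ}

/-- The diagonal coefficients of the Witt matrix. -/
def wa (ε ζ l : K) (i : Fin n) : K :=
  if i < i.rev then 1 else if i = i.rev then 1 else l * ζ * ε

/-- The antidiagonal coefficients of the Witt matrix. -/
def wb (ε l : K) (i : Fin n) : K :=
  if i < i.rev then l else if i = i.rev then 0 else ε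

/-- The Witt matrix. -/
def Cw (n : ℕ) (ε ζ l : K) : Matrix (Fin n) (Fin n) K :=
  Matrix.of fun i j => if i = j then wa ε ζ l i else if i = j.rev then wb ε l i else 0

theorem Cw_self (ε ζ l : K) (i : Fin n) : Cw n ε ζ l i i = wa ε ζ l i := by
  unfold Cw
  rw [of_apply, if_pos rfl]

theorem Cw_rev (ε ζ l : K) (i : Fin n) (h : i ≠ i.rev) : Cw n ε ζ l i i.rev = wb ε l i := by
  unfold Cw
  rw [of_apply, if_neg h, Fin.rev_rev, if_pos rfl]

theorem Cw_rev' (ε ζ l : K) (i : Fin n) (h : i ≠ i.rev) : Cw n ε ζ l i.rev i = wb ε l i.rev := by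
  unfold Cw
  rw [of_apply, if_neg h.symm, if_pos rfl]

theorem Cw_of_ne (ε ζ l : K) (i j : Fin n) (h1 : i ≠ j) (h2 : i ≠ j.rev) :
    Cw n ε ζ l i j = 0 := by
  unfold Cw
  rw [of_apply, if_neg h1, if_neg h2]

theorem wa_lt (ε ζ l : K) {i : Fin n} (h : i < i.rev) : wa ε ζ l i = 1 := if_pos h

theorem wa_gt (ε ζ l : K) {i : Fin n} (h : i.rev < i) : wa ε ζ l i = l * ζ * ε := by
  unfold wa
  rw [if_neg (not_lt.mpr h.le), if_neg h.ne']

theorem wa_eq (ε ζ l : K) {i : Fin n} (h : i = i.rev) : wa ε ζ l i = 1 := by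
  unfold wa
  rw [if_neg (by rw [← h]; exact lt_irrefl _), if_pos h]

theorem wb_lt (ε l : K) {i : Fin n} (h : i < i.rev) : wb ε l i = l := if_pos h

theorem wb_gt (ε l : K) {i : Fin n} (h : i.rev < i) : wb ε l i = ε := by
  unfold wb
  rw [if_neg (not_lt.mpr h.le), if_neg h.ne']

/-- The columns of the Witt matrix form a Witt basis. -/
theorem Cw_gram {ε ζ l : K} (hε : ε * star ε = -1) (hζ : ζ * star ζ = 1)
    (hl : l * (1 - ζ) = 1) : (Cw n ε ζ l)ᴴ * Cw n ε ζ l = Jm n K := by
  have hl' : star l * (1 - star ζ) = 1 := by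
    have := congrArg star hl
    rwa [star_mul', star_sub, star_one] at this
  ext j l'
  rw [Matrix.mul_apply, Jm_apply]
  simp only [conjTranspose_apply]
  by_cases hj : j = j.rev
  · -- the middle index
    rw [Finset.sum_eq_single j]
    · rw [Cw_self, wa_eq _ _ _ hj, star_one, one_mul]
      by_cases hjl : j = l'
      · subst hjl
        rw [Cw_self, wa_eq _ _ _ hj, if_pos hj.symm]
      · rw [Cw_of_ne _ _ _ _ _ hjl, if_neg]
        · rw [← hj]
          exact hjl
        · intro e
          apply hjl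
          rw [hj, e, Fin.rev_rev]
    · intro i _ hi
      rw [Cw_of_ne _ _ _ _ _ hi (by rw [← hj]; exact hi), star_zero, zero_mul]
    · intro h
      exact absurd (Finset.mem_univ _) h
  · rw [Finset.sum_eq_add j j.rev hj]
    · rw [Cw_self, Cw_rev' _ _ _ _ hj]
      by_cases hjl : l' = j
      · -- the isotropy of the columns
        subst hjl
        rw [Cw_self, Cw_rev' _ _ _ _ hj, if_neg (Ne.symm hj)]
        rcases lt_or_gt_of_ne hj with hlt | hgt
        · have hlt' : l'.rev.rev < l'.rev := by rwa [Fin.rev_rev]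
          rw [wa_lt _ _ _ hlt, wb_gt _ _ hlt', star_one, one_mul]
          linear_combination hε
        · have hgt' : l'.rev < l'.rev.rev := by rwa [Fin.rev_rev]
          rw [wa_gt _ _ _ hgt, wb_lt _ _ hgt']
          simp only [star_mul']
          linear_combination (star l * l * ε * star ε) * hζ + (star l * l) * hε
      · by_cases hjl2 : l' = j.rev
        · -- the pairing of the columns
          subst hjl2
          rw [Cw_rev _ _ _ _ hj, Cw_self, if_pos rfl]
          rcases lt_or_gt_of_ne hj with hlt | hgt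
          · have hlt' : j.rev.rev < j.rev := by rwa [Fin.rev_rev]
            rw [wa_lt _ _ _ hlt, wb_lt _ _ hlt, wb_gt _ _ hlt', wa_gt _ _ _ hlt', star_one, one_mul]
            linear_combination hl + (l * ζ) * hε
          · have hgt' : j.rev < j.rev.rev := by rwa [Fin.rev_rev]
            rw [wa_gt _ _ _ hgt, wb_gt _ _ hgt, wb_lt _ _ hgt', wa_lt _ _ _ hgt']
            simp only [star_mul']
            linear_combination hl' + (star l * star ζ) * hε
        · rw [Cw_of_ne _ _ _ j l' (Ne.symm hjl), Cw_of_ne _ _ _ j.rev l', mul_zero, mul_zero,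
            add_zero, if_neg (Ne.symm hjl2)]
          · exact Ne.symm hjl2
          · intro e
            exact hjl (Fin.rev_injective e).symm
          · intro e
            apply hjl2
            rw [e, Fin.rev_rev]
    · intro i _ hi
      rw [Cw_of_ne _ _ _ _ _ hi.1 hi.2, star_zero, zero_mul]
    · intro h
      exact absurd (Finset.mem_univ _) h
    · intro h
      exact absurd (Finset.mem_univ _) h

end witt

section iso

variable {F : Type*} [Field F] [Fintype F] [StarRing F] {q n : ℕ}

theorem unitary_iff (hstar : ∀ x : F, star x = x ^ q) (M : Matrix (Fin n) (Fin n) F) :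
    Mᵀ * M.map (· ^ q) = 1 ↔ Mᴴ * M = 1 := by
  have e : (M.map (· ^ q))ᵀ = Mᴴ := by
    ext i j
    rw [transpose_apply, map_apply, conjTranspose_apply, hstar]
  constructor
  · intro h
    have := congrArg transpose h
    rw [transpose_mul, transpose_transpose, transpose_one, e] at this
    exact this
  · intro h
    have := congrArg transpose h
    rw [transpose_mul, transpose_one, ← e, transpose_transpose] at this
    exact this

theorem det_conj {C Ci : Matrix (Fin n) (Fin n) F} (hCC : C * Ci = 1)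
    (M : Matrix (Fin n) (Fin n) F) : (C * M * Ci).det = M.det := by
  rw [det_mul, det_mul, mul_comm (C.det), mul_assoc, ← det_mul, hCC, det_one, mul_one]

/-- The isomorphism attached to a Witt basis. -/
noncomputable def isoOfWitt (hstar : ∀ x : F, star x = x ^ q) (hF : Fintype.card F = q ^ 2)
    (C Ci : Matrix (Fin n) (Fin n) F) (hC : Cᴴ * C = Jm n F) (hCi : Ci = Jm n F * Cᴴ)
    (hCC : C * Ci = 1) (hCC' : Ci * C = 1) : UG n F ≃* SU n F q where
  toFun g := ⟨⟨C * g.val * Ci, by rw [det_conj hCC, g.det]⟩,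
    (Cfsg.Agent.Helper8.SUCenter.mem_SU_iff hF _).mpr
      ((unitary_iff hstar _).mpr (unit_of_dag hC hCi hCC g.unit))⟩
  invFun s := ⟨Ci * (s : Matrix.SpecialLinearGroup (Fin n) F).1 * C,
    dag_of_unit hCi hCC hCC' ((unitary_iff hstar _).mp
      ((Cfsg.Agent.Helper8.SUCenter.mem_SU_iff hF _).mp s.2)),
    by rw [det_conj hCC', (s : Matrix.SpecialLinearGroup (Fin n) F).2]⟩
  left_inv g := by
    apply UG.ext
    change Ci * (C * g.val * Ci) * C = g.val
    calc Ci * (C * g.val * Ci) * C = (Ci * C) * g.val * (Ci * C) := by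
          simp only [Matrix.mul_assoc]
      _ = g.val := by rw [hCC', Matrix.one_mul, Matrix.mul_one]
  right_inv s := by
    apply Subtype.ext
    apply Subtype.ext
    change C * (Ci * (s : Matrix.SpecialLinearGroup (Fin n) F).1 * C) * Ci = _
    calc C * (Ci * (s : Matrix.SpecialLinearGroup (Fin n) F).1 * C) * Ci
        = (C * Ci) * (s : Matrix.SpecialLinearGroup (Fin n) F).1 * (C * Ci) := by
          simp only [Matrix.mul_assoc]
      _ = (s : Matrix.SpecialLinearGroup (Fin n) F).1 := by
          rw [hCC, Matrix.one_mul, Matrix.mul_one]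
  map_mul' g g' := by
    apply Subtype.ext
    apply Subtype.ext
    change C * (g.val * g'.val) * Ci = (C * g.val * Ci) * (C * g'.val * Ci)
    calc C * (g.val * g'.val) * Ci = C * g.val * 1 * g'.val * Ci := by
          rw [Matrix.mul_one]
          simp only [Matrix.mul_assoc]
      _ = (C * g.val * Ci) * (C * g'.val * Ci) := by
          rw [← hCC']
          simp only [Matrix.mul_assoc]

/-- The unitary group of the antidiagonal form is the special unitary group. -/
theorem exists_iso (hstar : ∀ x : F, star x = x ^ q) (hF : Fintype.card F = q ^ 2) :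
    Nonempty (UG n F ≃* SU n F q) := by
  obtain ⟨ε, hε⟩ := exists_norm hF (c := (-1 : F)) (neg_ne_zero.mpr one_ne_zero)
    (neg_one_pow_q hF)
  obtain ⟨ζ, hζ, hζ1⟩ := exists_zeta hF
  have hne : (1 : F) - ζ ≠ 0 := sub_ne_zero.mpr (Ne.symm hζ1)
  have hC := Cw_gram (n := n) (ε := ε) (ζ := ζ) (l := (1 - ζ)⁻¹)
    (by rw [hstar]; exact hε) (by rw [hstar]; exact hζ) (inv_mul_cancel₀ hne)
  have hCC' : (Jm n F * (Cw n ε ζ (1 - ζ)⁻¹)ᴴ) * Cw n ε ζ (1 - ζ)⁻¹ = 1 := by
    rw [Matrix.mul_assoc, hC, Jm_mul_Jm]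
  exact ⟨isoOfWitt hstar hF _ _ hC rfl (mul_eq_one_comm.mp hCC') hCC'⟩

end iso

end Cfsg.Agent.Helper1.SUJ
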