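import Mathlib
import Cfsg.Agent.Helper1.SUJm
import Cfsg.Agent.Helper6.BrauerPerm2
import Cfsg.Agent.Helper6.Inflation
import Cfsg.Agent.Helper6.DefectZeroBlock
import Cfsg.Agent.Helper6.PowCongr

set_option autoImplicit false

/-!
The Steinberg character of the projective special unitary group.
-/

namespace Cfsg.Agent.Helper1.SUJ

open Matrix Cfsg

universe u

/-- From an irreducible character of `p`-power degree equal to the `p`-part of the order, trivial
on the centre, to the Steinberg property on the central quotient of an isomorphic group. -/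
theorem steinberg_of_iso {G H : Type u} [Group G] [Group H] [Finite G] [Finite H] (φ : H ≃* G)
    (p : ℕ) [Fact p.Prime] (U : Subgroup G) (hU : IsPGroup p U) (hidx : ¬ p ∣ U.index)
    (χ : G → ℂ) (hirr : Cfsg.IsIrrCharacter G χ) (h1 : χ 1 = Nat.card U)
    (hz : ∀ z ∈ Subgroup.center G, χ z = χ 1) :
    ∃ ψ : H ⧸ Subgroup.center H → ℂ, Cfsg.IsIrrCharacter (H ⧸ Subgroup.center H) ψ ∧
      ∀ P : Sylow p (H ⧸ Subgroup.center H), ψ 1 = Nat.card P ∧
        ∀ x : H ⧸ Subgroup.center H, x ∈ P → x ≠ 1 → ψ x = 0 := by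
  have hp : p.Prime := Fact.out
  have hirr0 : Cfsg.IsIrrCharacter H (χ ∘ φ) := Cfsg.Agent.Helper6.IsIrrCharacter.comp_mulEquiv φ hirr
  have hz0 : ∀ z ∈ Subgroup.center H, (χ ∘ φ) z = (χ ∘ φ) 1 := by
    intro z hz'
    rw [Function.comp_apply, Function.comp_apply, map_one]
    apply hz
    rw [Subgroup.mem_center_iff] at hz' ⊢
    intro g
    obtain ⟨g', rfl⟩ := φ.surjective g
    rw [← map_mul, ← map_mul, hz' g']
  obtain ⟨ψ, hψ⟩ := Cfsg.Agent.Helper6.exists_deflate (Subgroup.center H) ⟨χ ∘ φ, hirr0⟩ hz0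
  have hψ1 : (ψ : H ⧸ Subgroup.center H → ℂ) 1 = Nat.card U := by
    rw [← h1]
    have := (congrFun hψ 1).symm
    rw [Function.comp_apply, QuotientGroup.mk_one] at this
    rw [this]
    change χ (φ 1) = χ 1
    rw [map_one]
  obtain ⟨e, he⟩ := hU.exists_card_eq
  have hdeg : Cfsg.charDegree (ψ : H ⧸ Subgroup.center H → ℂ) = p ^ e := by
    unfold Cfsg.charDegree
    rw [hψ1, he, Complex.natCast_re, Nat.floor_natCast]
  have hN0 : Nat.card (H ⧸ Subgroup.center H) ≠ 0 := Nat.card_pos.ne'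
  have hfac : (Nat.card (H ⧸ Subgroup.center H)).factorization p = e := by
    apply le_antisymm
    · have hcard : Nat.card U * U.index = Nat.card G := Subgroup.card_mul_index _
      have hdvd : Nat.card (H ⧸ Subgroup.center H) ∣ p ^ e * U.index := by
        rw [← he, hcard, ← Nat.card_congr φ.toEquiv]
        exact Subgroup.card_quotient_dvd_card _
      have hi0 : U.index ≠ 0 := Subgroup.index_ne_zero_of_finite
      have h2 := (Nat.factorization_le_iff_dvd hN0 (mul_ne_zero (pow_ne_zero e hp.ne_zero) hi0)).mpr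
        hdvd p
      rw [Nat.factorization_mul (pow_ne_zero e hp.ne_zero) hi0, Finsupp.add_apply,
        hp.factorization_pow, Finsupp.single_eq_same,
        Nat.factorization_eq_zero_of_not_dvd hidx, add_zero] at h2
      exact h2
    · have hdvd := Cfsg.Agent.Helper6.charDegree_dvd_card ψ.2
      rw [hdeg] at hdvd
      exact (hp.pow_dvd_iff_le_factorization hN0).mp hdvd
  refine ⟨ψ, ψ.2, fun P => ⟨?_, ?_⟩⟩
  · rw [hψ1, he, Sylow.card_eq_multiplicity P, hfac]
  · intro x hx hx1
    obtain ⟨M, -, hM, hpM⟩ := Cfsg.Agent.Helper6.exists_isPModular p hp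
    have hnd : ¬ p ∣ Nat.card (H ⧸ Subgroup.center H) /
        Cfsg.charDegree (ψ : H ⧸ Subgroup.center H → ℂ) := by
      rw [hdeg, ← hfac]
      exact Nat.not_dvd_ordCompl hp hN0
    have hsing := Cfsg.Agent.Helper6.blockOf_eq_singleton_of_not_dvd hM p hp hpM ψ hnd
    refine Cfsg.Agent.Helper6.vanish_of_blockOf_eq_singleton hM p hpM ψ hsing x ?_
    obtain ⟨j, hj⟩ := (IsPGroup.iff_orderOf.mp P.isPGroup') ⟨x, hx⟩
    rw [Subgroup.orderOf_mk] at hj
    rw [hj]
    apply dvd_pow_self
    rintro rfl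
    rw [pow_zero, orderOf_eq_one_iff] at hj
    exact hx1 hj

end Cfsg.Agent.Helper1.SUJ
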