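import Mathlib
import Cfsg.Agent.Helper7.SUPairC

set_option autoImplicit false
set_option linter.unusedSectionVars false

/-! Two-generation of `SU_n(q)`: general facts on the Siegel elements of the standard unitary
space, and a criterion for a subgroup to be the whole group (helper1). -/

namespace Cfsg.Agent.Helper1.SUTwo

open Matrix Cfsg Cfsg.Agent.Helper7.Herm Cfsg.Agent.Helper8.GUOrder Cfsg.Agent.Helper8.SURoot
  Cfsg.Agent.Helper8.AutSU Cfsg.Agent.Helper7.SUGen Cfsg.Agent.Helper7.SUMax
  Cfsg.Agent.Helper7.SUPair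

variable {K : Type*} [Field K] [Fintype K] {q N : ℕ} [hK : Fact (Fintype.card K = q ^ 2)]

/-- the norm of a vector is fixed by the involution. -/
theorem herm_self_fixed (b : Fin N → K) : (hermForm N K q b b) ^ q = hermForm N K q b b :=
  (h_swap b b).symm

/-- every vector has an admissible parameter. -/
theorem exists_adm (b : Fin N → K) : ∃ c : K, c + c ^ q + hermForm N K q b b = 0 := by
  have hfix : (-(hermForm N K q b b)) ^ q = -(hermForm N K q b b) := by
    rw [neg_pow_q hK.out, herm_self_fixed]
  obtain ⟨z, hz⟩ := exists_trace hfix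
  exact ⟨z, by rw [add_comm z, hz]; ring⟩

theorem adm_neg {b : Fin N → K} {c : K} (hc : c + c ^ q + hermForm N K q b b = 0) :
    c ^ q + (c ^ q) ^ q + hermForm N K q (-b) (-b) = 0 := by
  rw [bb, h_neg_left, h_neg_right, neg_neg]
  linear_combination hc

/-- the inverse of a Siegel element. -/
theorem sg_inv {a b : Fin N → K} (ha : hermForm N K q a a = 0) (hba : hermForm N K q b a = 0)
    {c : K} (hc : c + c ^ q + hermForm N K q b b = 0) :
    (sg q a b c)⁻¹ = sg q a (-b) (c ^ q) := by
  apply inv_eq_of_mul_eq_one_right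
  have hba' : hermForm N K q (-b) a = 0 := by rw [h_neg_left, hba, neg_zero]
  rw [sg_mul ha hba hba' hc (adm_neg hc)]
  have e1 : b + -b = 0 := add_neg_cancel b
  have e2 : c + c ^ q - hermForm N K q (-b) b = 0 := by
    rw [h_neg_left]
    linear_combination hc
  rw [e1, e2, sg_zero ha]

/-- the difference of two admissible parameters has trace zero. -/
theorem tz_sub_adm {b : Fin N → K} {c c' : K} (hc : c + c ^ q + hermForm N K q b b = 0)
    (hc' : c' + c' ^ q + hermForm N K q b b = 0) : (c' - c) ^ q + (c' - c) = 0 := by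
  rw [b_sub]
  linear_combination hc' - hc

/-- changing the admissible parameter multiplies by a transvection. -/
theorem sg_mul_TU {a b : Fin N → K} (ha : hermForm N K q a a = 0) (hba : hermForm N K q b a = 0)
    {c s : K} (hc : c + c ^ q + hermForm N K q b b = 0) (hs : s ^ q + s = 0) :
    sg q a b c * TU q a s = sg q a b (c + s) := by
  have h0a : hermForm N K q (0 : Fin N → K) a = 0 := hermForm_zero_left a
  have hs' : s + s ^ q + hermForm N K q (0 : Fin N → K) 0 = 0 := by
    rw [hermForm_zero_left, add_zero, add_comm]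
    exact hs
  rw [← sg_zero_mid ha hs, sg_mul ha hba h0a hc hs', hermForm_zero_left, add_zero, sub_zero]

/-- all transvections along `a` lie in `M`. -/
def Full (M : Subgroup (SU N K q)) (a : Fin N → K) : Prop :=
  ∀ s : K, s ^ q + s = 0 → TU q a s ∈ M

/-- all Siegel elements at `a` with second parameter `b` lie in `M`. -/
def QF (M : Subgroup (SU N K q)) (a b : Fin N → K) : Prop :=
  ∀ c : K, c + c ^ q + hermForm N K q b b = 0 → sg q a b c ∈ M

variable {M : Subgroup (SU N K q)}

theorem QF_of_mem {a b : Fin N → K} (ha : hermForm N K q a a = 0) (hba : hermForm N K q b a = 0)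
    (hF : Full M a) {c₀ : K} (hc₀ : c₀ + c₀ ^ q + hermForm N K q b b = 0)
    (h1 : sg q a b c₀ ∈ M) : QF M a b := by
  intro c hc
  have hs := tz_sub_adm hc₀ hc
  have e := sg_mul_TU ha hba hc₀ hs
  rw [add_sub_cancel] at e
  rw [← e]
  exact M.mul_mem h1 (hF _ hs)

theorem QF_zero {a : Fin N → K} (ha : hermForm N K q a a = 0) (hF : Full M a) :
    QF M a (0 : Fin N → K) := by
  intro c hc
  have hs : c ^ q + c = 0 := by
    rw [hermForm_zero_left, add_zero, add_comm] at hc
    exact hc
  rw [sg_zero_mid ha hs]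
  exact hF c hs

theorem Full_of_QF_zero {a : Fin N → K} (ha : hermForm N K q a a = 0)
    (h : QF M a (0 : Fin N → K)) : Full M a := by
  intro s hs
  rw [← sg_zero_mid ha hs]
  apply h
  rw [hermForm_zero_left, add_zero, add_comm]
  exact hs

theorem QF_add {a b b' : Fin N → K} (ha : hermForm N K q a a = 0)
    (hba : hermForm N K q b a = 0) (hb'a : hermForm N K q b' a = 0) (hF : Full M a)
    (h1 : QF M a b) (h2 : QF M a b') : QF M a (b + b') := by
  obtain ⟨c, hc⟩ := exists_adm (q := q) b
  obtain ⟨c', hc'⟩ := exists_adm (q := q) b'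
  have hbb'a : hermForm N K q (b + b') a = 0 := by rw [hermForm_add_left, hba, hb'a, add_zero]
  apply QF_of_mem ha hbb'a hF (sg_mul_aux hc hc')
  rw [← sg_mul ha hba hb'a hc hc']
  exact M.mul_mem (h1 c hc) (h2 c' hc')

theorem QF_neg {a b : Fin N → K} (ha : hermForm N K q a a = 0)
    (hba : hermForm N K q b a = 0) (hF : Full M a) (h1 : QF M a b) : QF M a (-b) := by
  obtain ⟨c, hc⟩ := exists_adm (q := q) b
  have hba' : hermForm N K q (-b) a = 0 := by rw [h_neg_left, hba, neg_zero]
  apply QF_of_mem ha hba' hF (adm_neg hc)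
  rw [← sg_inv ha hba hc]
  exact M.inv_mem (h1 c hc)

theorem QF_sub {a b b' : Fin N → K} (ha : hermForm N K q a a = 0)
    (hba : hermForm N K q b a = 0) (hb'a : hermForm N K q b' a = 0) (hF : Full M a)
    (h1 : QF M a b) (h2 : QF M a b') : QF M a (b - b') := by
  rw [sub_eq_add_neg]
  have hb'a' : hermForm N K q (-b') a = 0 := by rw [h_neg_left, hb'a, neg_zero]
  exact QF_add ha hba hb'a' hF h1 (QF_neg ha hb'a hF h2)

theorem QF_self_smul {a : Fin N → K} (ha : hermForm N K q a a = 0) (hF : Full M a) (t : K) :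
    QF M a (t • a) := by
  have h1 : hermForm N K q (t • a) a = 0 := by rw [hermForm_smul_left, ha, mul_zero]
  have h2 : (0 : K) + 0 ^ q + hermForm N K q (t • a) (t • a) = 0 := by
    rw [hermForm_smul_left, hermForm_smul_right, ha, b_zero, mul_zero, mul_zero, add_zero,
      add_zero]
  apply QF_of_mem ha h1 hF h2
  rw [sg_self_smul ha]
  exact hF _ (tz_im t)

theorem QF_conj {a b : Fin N → K} (ha : hermForm N K q a a = 0)
    (hba : hermForm N K q b a = 0) {g : SU N K q} (hg : g ∈ M) (h1 : QF M a b) :
    QF M (mt g *ᵥ a) (mt g *ᵥ b) := by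
  intro c hc
  rw [herm_mt] at hc
  rw [← conj_sg g ha hba hc]
  exact M.mul_mem (M.mul_mem hg (h1 c hc)) (M.inv_mem hg)

theorem Full_conj {a : Fin N → K} (ha : hermForm N K q a a = 0) {g : SU N K q} (hg : g ∈ M)
    (h1 : Full M a) : Full M (mt g *ᵥ a) := by
  intro s hs
  rw [← conj_TU g ha hs]
  exact M.mul_mem (M.mul_mem hg (h1 s hs)) (M.inv_mem hg)

theorem norm_ne_zero {t : K} (ht : t ≠ 0) : t * t ^ q ≠ 0 := mul_ne_zero ht (pow_ne_zero q ht)

theorem Full_of_smul {a : Fin N → K} (ha : hermForm N K q a a = 0) {t : K} (ht : t ≠ 0)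
    (h1 : Full M (t • a)) : Full M a := by
  intro s hs
  have hfix : (t * t ^ q) ^ q = t * t ^ q := norm_fixed t
  have hn := norm_ne_zero (q := q) ht
  have hs' : (s / (t * t ^ q)) ^ q + s / (t * t ^ q) = 0 := by
    rw [div_pow, hfix, ← add_div, hs, zero_div]
  have := h1 _ hs'
  rw [TU_smul ha hs', div_mul_cancel₀ _ hn] at this
  exact this

theorem Full_smul {a : Fin N → K} (ha : hermForm N K q a a = 0) (t : K)
    (h1 : Full M a) : Full M (t • a) := by
  intro s hs
  rw [TU_smul ha hs]
  exact h1 _ (tz_mul_fixed hs (norm_fixed t))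

/-- moving a scalar from the first to the second parameter. -/
theorem QF_of_smul_left {a b : Fin N → K} (ha : hermForm N K q a a = 0)
    (hba : hermForm N K q b a = 0) {t : K} (ht : t ≠ 0) (h1 : QF M (t • a) b) :
    QF M a (t ^ q • b) := by
  intro c hc
  have hn := norm_ne_zero (q := q) ht
  have hfix : (t * t ^ q) ^ q = t * t ^ q := norm_fixed t
  have hc' : c / (t * t ^ q) + (c / (t * t ^ q)) ^ q + hermForm N K q b b = 0 := by
    rw [hermForm_smul_left, hermForm_smul_right, bb] at hc
    rw [div_pow, hfix]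
    field_simp
    linear_combination hc
  have := h1 _ hc'
  rw [sg_smul_left ha hba hc', div_mul_cancel₀ _ hn] at this
  exact this

theorem QF_smul_left {a b : Fin N → K} (ha : hermForm N K q a a = 0)
    (hba : hermForm N K q b a = 0) (t : K) (h1 : QF M a (t ^ q • b)) :
    QF M (t • a) b := by
  intro c hc
  rw [sg_smul_left ha hba hc]
  apply h1
  rw [hermForm_smul_left, hermForm_smul_right, bb, mul_pow, norm_fixed]
  linear_combination (t * t ^ q) * hc

/-- a commutator of two Siegel elements at the same vector. -/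
theorem TU_mem_of_sg_mem {a b b' : Fin N → K} (ha : hermForm N K q a a = 0)
    (hba : hermForm N K q b a = 0) (hb'a : hermForm N K q b' a = 0) {c c' : K}
    (hc : c + c ^ q + hermForm N K q b b = 0) (hc' : c' + c' ^ q + hermForm N K q b' b' = 0)
    (h1 : sg q a b c ∈ M) (h2 : sg q a b' c' ∈ M) :
    TU q a (hermForm N K q b b' - hermForm N K q b' b) ∈ M := by
  have hs : (hermForm N K q b b' - hermForm N K q b' b) ^ q
      + (hermForm N K q b b' - hermForm N K q b' b) = 0 := by
    rw [b_sub, ← h_swap, ← h_swap]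
    ring
  have hb'ba : hermForm N K q (b' + b) a = 0 := by rw [hermForm_add_left, hba, hb'a, add_zero]
  have e : sg q a b c * sg q a b' c'
      = sg q a b' c' * sg q a b c * TU q a (hermForm N K q b b' - hermForm N K q b' b) := by
    rw [sg_mul ha hba hb'a hc hc', sg_mul ha hb'a hba hc' hc,
      sg_mul_TU ha hb'ba (sg_mul_aux hc' hc) hs]
    have e1 : b' + b = b + b' := add_comm _ _
    have e2 : c' + c - hermForm N K q b b' + (hermForm N K q b b' - hermForm N K q b' b)
        = c + c' - hermForm N K q b' b := by ring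
    rw [e1, e2]
  have e' : TU q a (hermForm N K q b b' - hermForm N K q b' b)
      = (sg q a b' c' * sg q a b c)⁻¹ * (sg q a b c * sg q a b' c') := by
    rw [e, inv_mul_cancel_left]
  rw [e']
  exact M.mul_mem (M.inv_mem (M.mul_mem h2 h1)) (M.mul_mem h1 h2)

theorem TU_zero_vec (s : K) (hs : s ^ q + s = 0) : TU q (0 : Fin N → K) s = 1 := by
  have h0 : hermForm N K q (0 : Fin N → K) 0 = 0 := hermForm_zero_left 0
  apply ext_mulVec
  intro v
  rw [TU_mulVec h0 hs, mt_one_mulVec, smul_zero, add_zero]

/-- **Criterion.** A subgroup containing all Siegel elements at the vectors of a family of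
isotropic vectors, each of which has a partner whose transvections lie in the subgroup, is the
whole group as soon as no non-zero isotropic vector is orthogonal to the family. -/
theorem top_of_family (hN : 2 ≤ N) (h32 : ¬ (N = 3 ∧ q = 2)) (M : Subgroup (SU N K q))
    (A : Set (Fin N → K)) (hA0 : ∀ a ∈ A, hermForm N K q a a = 0)
    (hQ : ∀ a ∈ A, ∀ b : Fin N → K, hermForm N K q b a = 0 → QF M a b)
    (hpart : ∀ a ∈ A, ∃ u : Fin N → K, hermForm N K q u u = 0 ∧ Full M u ∧
      hermForm N K q u a ≠ 0)
    (hsep : ∀ y : Fin N → K, hermForm N K q y y = 0 → (∀ a ∈ A, hermForm N K q y a = 0) →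
      y = 0) : M = ⊤ := by
  have hall : ∀ y : Fin N → K, hermForm N K q y y = 0 → Full M y := by
    intro y hyy
    by_cases hy : ∀ a ∈ A, hermForm N K q y a = 0
    · rw [hsep y hyy hy]
      intro s hs
      rw [TU_zero_vec s hs]
      exact M.one_mem
    · push Not at hy
      obtain ⟨a, haA, hya⟩ := hy
      have haa := hA0 a haA
      obtain ⟨u, huu, hu, hua⟩ := hpart a haA
      obtain ⟨l, hl⟩ : ∃ l : K, l = hermForm N K q u a / hermForm N K q y a := ⟨_, rfl⟩
      have hl0 : l ≠ 0 := by rw [hl]; exact div_ne_zero hua hya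
      have hly : hermForm N K q (l • y) (l • y) = 0 := by
        rw [hermForm_smul_left, hermForm_smul_right, hyy, mul_zero, mul_zero]
      have hlya : hermForm N K q (l • y) a = hermForm N K q u a := by
        rw [hermForm_smul_left, hl, div_mul_cancel₀ _ hya]
      obtain ⟨b, c, hba, hc, hs⟩ := exists_sgG haa huu hly hua hlya
      have hsM : sgG haa hba hc ∈ M := by
        rw [← sg_eq haa hba hc]
        exact hQ a haA b hba c hc
      have h1 := Full_conj huu hsM hu
      rw [hs] at h1
      exact Full_of_smul hyy hl0 h1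
  rw [eq_top_iff, ← Tsub_eq_top N hN h32]
  unfold Tsub
  rw [Subgroup.closure_le]
  rintro g ⟨p, s, hp, hs, rfl⟩
  exact hall p hp s hs

end Cfsg.Agent.Helper1.SUTwo
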