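import Mathlib

set_option autoImplicit false

/-! Two-generation of `SU_n(q)`: an additive subgroup of a finite field stable under
multiplication by an element of large order is everything; orders of some powers of a generator
of the multiplicative group (helper1). -/

namespace Cfsg.Agent.Helper1.SUTwo

variable {K : Type*} [Field K] [Fintype K] {q : ℕ}

/-- **Subfield lemma.** A non-zero additive subgroup of a field with `q²` elements which is stable
under multiplication by an element of order at least `q` is the whole field. -/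
theorem mem_of_mul_closed (hK : Fintype.card K = q ^ 2) (S : AddSubgroup K) (χ : K)
    (hχ : ∀ s ∈ S, χ * s ∈ S) {s₀ : K} (hs₀ : s₀ ∈ S) (hs₀0 : s₀ ≠ 0) (hord : q ≤ orderOf χ)
    (z : K) : z ∈ S := by
  classical
  have hq2 : 2 ≤ q := by
    by_contra hcon
    have h1 : q ≤ 1 := by omega
    have h2 : 1 < Fintype.card K := Fintype.one_lt_card
    rw [hK] at h2
    have h3 : q ^ 2 ≤ 1 ^ 2 := Nat.pow_le_pow_left h1 2
    omega
  -- the multipliers of `S`
  let P : K → Prop := fun y => ∀ s ∈ S, y * s ∈ S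
  have hP1 : P 1 := fun s hs => by rw [one_mul]; exact hs
  have hPmul : ∀ x y, P x → P y → P (x * y) := fun x y hx hy s hs => by
    rw [mul_assoc]; exact hx _ (hy s hs)
  have hPadd : ∀ x y, P x → P y → P (x + y) := fun x y hx hy s hs => by
    rw [add_mul]; exact S.add_mem (hx s hs) (hy s hs)
  have hPneg : ∀ x, P x → P (-x) := fun x hx s hs => by
    rw [neg_mul]; exact S.neg_mem (hx s hs)
  have hPpow : ∀ x, P x → ∀ j : ℕ, P (x ^ j) := by
    intro x hx j
    induction j with
    | zero => rw [pow_zero]; exact hP1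
    | succ j ih => rw [pow_succ]; exact hPmul _ _ ih hx
  have hP0 : P 0 := fun s _ => by rw [zero_mul]; exact S.zero_mem
  have hPinv : ∀ x, P x → P x⁻¹ := by
    intro x hx
    by_cases hx0 : x = 0
    · rw [hx0, inv_zero]; exact hP0
    · have h1 : x ^ (Fintype.card K - 1) = 1 := FiniteField.pow_card_sub_one_eq_one x hx0
      have h2 : x⁻¹ = x ^ (Fintype.card K - 2) := by
        have hc : 2 ≤ Fintype.card K := Fintype.one_lt_card
        have h3 : x * x ^ (Fintype.card K - 2) = 1 := by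
          rw [← pow_succ']
          have : Fintype.card K - 2 + 1 = Fintype.card K - 1 := by omega
          rw [this, h1]
        exact inv_eq_of_mul_eq_one_right h3
      rw [h2]
      exact hPpow x hx _
  let k : Subfield K := Subfield.closure {χ}
  have hk : ∀ y ∈ k, P y := by
    intro y hy
    induction hy using Subfield.closure_induction with
    | mem x hx =>
      rw [Set.mem_singleton_iff] at hx
      rw [hx]; exact hχ
    | one => exact hP1
    | add x y _ _ hx hy => exact hPadd x y hx hy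
    | neg x _ hx => exact hPneg x hx
    | inv x _ hx => exact hPinv x hx
    | mul x y _ _ hx hy => exact hPmul x y hx hy
  -- the cardinality of `k`
  have hχk : χ ∈ k := Subfield.subset_closure (Set.mem_singleton χ)
  have hχ0 : χ ≠ 0 := by
    intro h0
    rw [h0, orderOf_eq_zero_iff.mpr] at hord
    · omega
    · intro hfin
      obtain ⟨j, hj, hj'⟩ := hfin.exists_pow_eq_one
      rw [zero_pow (by omega)] at hj'
      exact zero_ne_one hj'
  have hcardk : q + 1 ≤ Nat.card k := by
    have h1 : (⟨χ, hχk⟩ : k) ≠ 0 := fun h => hχ0 (congrArg Subtype.val h)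
    have h2 : (⟨χ, hχk⟩ : k) ^ (Nat.card k - 1) = 1 := by
      haveI : Fintype k := Fintype.ofFinite k
      rw [Nat.card_eq_fintype_card]
      exact FiniteField.pow_card_sub_one_eq_one _ h1
    have h3 : χ ^ (Nat.card k - 1) = 1 := by
      have := congrArg Subtype.val h2
      simpa using this
    have h4 : 1 < Nat.card k := Finite.one_lt_card
    have h5 : orderOf χ ≤ Nat.card k - 1 :=
      Nat.le_of_dvd (by omega) (orderOf_dvd_of_pow_eq_one h3)
    omega
  have hcard : Nat.card K = Nat.card k ^ Module.finrank k K := Module.natCard_eq_pow_finrank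
  rw [Nat.card_eq_fintype_card, hK] at hcard
  have hd : Module.finrank k K = 1 := by
    rcases Nat.lt_or_ge (Module.finrank k K) 2 with h | h
    · rcases Nat.eq_zero_or_pos (Module.finrank k K) with h0 | h0
      · rw [h0, pow_zero] at hcard
        have : 2 ^ 2 ≤ q ^ 2 := Nat.pow_le_pow_left hq2 2
        omega
      · omega
    · exfalso
      have h1 : (q + 1) ^ 2 ≤ Nat.card k ^ 2 := Nat.pow_le_pow_left hcardk 2
      have h2 : Nat.card k ^ 2 ≤ Nat.card k ^ Module.finrank k K :=
        Nat.pow_le_pow_right (by omega) h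
      have h3 : q ^ 2 < (q + 1) ^ 2 := Nat.pow_lt_pow_left (by omega) (by norm_num)
      omega
  rw [hd, pow_one] at hcard
  have hbij : Function.Bijective (Subtype.val : k → K) := by
    apply Function.Injective.bijective_of_nat_card_le Subtype.val_injective
    rw [Nat.card_eq_fintype_card, hK, hcard]
  obtain ⟨y, hy⟩ := hbij.2 (z * s₀⁻¹)
  have h1 := hk y y.2 s₀ hs₀
  rw [hy, inv_mul_cancel_right₀ hs₀0] at h1
  exact h1

/-! ### Orders of powers of a generator -/

variable {G : Type*} [Group G]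

theorem le_orderOf_pow {g : G} {k : ℕ} (hk : k ≠ 0) (hg : orderOf g = q ^ 2 - 1)
    (h : Nat.gcd (q ^ 2 - 1) k * q ≤ q ^ 2 - 1) : q ≤ orderOf (g ^ k) := by
  rw [orderOf_pow' g hk, hg]
  have hpos : 0 < Nat.gcd (q ^ 2 - 1) k := Nat.gcd_pos_of_pos_right _ (Nat.pos_of_ne_zero hk)
  rw [Nat.le_div_iff_mul_le hpos, mul_comm]
  exact h

theorem sq_sub_one (hq : 2 ≤ q) : q ^ 2 - 1 = (q - 1) * (q + 1) := by
  obtain ⟨r, rfl⟩ : ∃ r, q = r + 2 := ⟨q - 2, by omega⟩
  have : r + 2 - 1 = r + 1 := by omega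
  rw [this]
  have h2 : (r + 2) ^ 2 = (r + 1) * (r + 2 + 1) + 1 := by ring
  omega

/-- the order of `g ^ q`. -/
theorem le_orderOf_pow_q {g : G} (hq : 2 ≤ q) (hg : orderOf g = q ^ 2 - 1) :
    q ≤ orderOf (g ^ q) := by
  apply le_orderOf_pow (by omega) hg
  have h1 : Nat.gcd (q ^ 2 - 1) q = 1 := by
    have h2 : Nat.Coprime (q ^ 2 - 1) q := by
      have h3 : q ^ 2 - 1 + 1 = q * q := by
        have : 1 ≤ q ^ 2 := Nat.one_le_pow _ _ (by omega)
        rw [Nat.sub_add_cancel this, sq]
      have h4 : Nat.Coprime (q ^ 2 - 1) (q ^ 2 - 1 + 1) := by simp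
      rw [h3] at h4
      exact Nat.Coprime.coprime_mul_left_right h4
    exact h2
  rw [h1, one_mul, sq_sub_one hq]
  have : q - 1 ≥ 1 := by omega
  nlinarith

/-- the order of `g ^ (q - 1)`. -/
theorem le_orderOf_pow_q_sub_one {g : G} (hq : 2 ≤ q) (hg : orderOf g = q ^ 2 - 1) :
    q ≤ orderOf (g ^ (q - 1)) := by
  apply le_orderOf_pow (by omega) hg
  have h1 : Nat.gcd (q ^ 2 - 1) (q - 1) ≤ q - 1 :=
    Nat.le_of_dvd (by omega) (Nat.gcd_dvd_right _ _)
  rw [sq_sub_one hq]
  have h2 : Nat.gcd ((q - 1) * (q + 1)) (q - 1) * q ≤ (q - 1) * q := by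
    rw [← sq_sub_one hq]
    exact Nat.mul_le_mul_right q h1
  have h3 : (q - 1) * q ≤ (q - 1) * (q + 1) := Nat.mul_le_mul_left _ (by omega)
  exact le_trans h2 h3

/-- the order of `g ^ (2 q - 1)`. -/
theorem le_orderOf_pow_two_q_sub_one {g : G} (hq : 3 ≤ q) (hg : orderOf g = q ^ 2 - 1) :
    q ≤ orderOf (g ^ (2 * q - 1)) := by
  apply le_orderOf_pow (by omega) hg
  have hd3 : Nat.gcd (q ^ 2 - 1) (2 * q - 1) ∣ 3 := by
    have h1 : Nat.gcd (q ^ 2 - 1) (2 * q - 1) ∣ 4 * (q ^ 2 - 1) :=
      Dvd.dvd.mul_left (Nat.gcd_dvd_left _ _) 4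
    have h2 : Nat.gcd (q ^ 2 - 1) (2 * q - 1) ∣ (2 * q + 1) * (2 * q - 1) :=
      Dvd.dvd.mul_left (Nat.gcd_dvd_right _ _) _
    have h3 : (2 * q + 1) * (2 * q - 1) = 4 * (q ^ 2 - 1) + 3 := by
      obtain ⟨r, rfl⟩ : ∃ r, q = r + 1 := ⟨q - 1, by omega⟩
      have e1 : 2 * (r + 1) - 1 = 2 * r + 1 := by omega
      have e2 : (r + 1) ^ 2 - 1 = r ^ 2 + 2 * r := by
        have : (r + 1) ^ 2 = r ^ 2 + 2 * r + 1 := by ring
        omega
      rw [e1, e2]
      ring
    rw [h3] at h2
    exact (Nat.dvd_add_right h1).mp h2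
  have hle : Nat.gcd (q ^ 2 - 1) (2 * q - 1) ≤ 3 := Nat.le_of_dvd (by norm_num) hd3
  rcases Nat.lt_or_ge q 4 with h | h
  · have hq3 : q = 3 := by omega
    subst hq3
    norm_num
  · have h1 : Nat.gcd (q ^ 2 - 1) (2 * q - 1) * q ≤ 3 * q := Nat.mul_le_mul_right q hle
    have h2 : 3 * q ≤ q ^ 2 - 1 := by
      have : 4 * q ≤ q * q := Nat.mul_le_mul_right q h
      have : q ^ 2 = q * q := sq q
      omega
    exact le_trans h1 h2

end Cfsg.Agent.Helper1.SUTwo
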