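import Mathlib
import Cfsg.Agent.Helper1.SUJm
import Cfsg.Agent.Helper8.SURootA

set_option autoImplicit false
set_option linter.unusedSectionVars false

/-! Two-generation of `SU_n(q)`: a Witt frame of the standard unitary space, and the action on it
of the images of the diagonal and monomial elements of the unitary group of the antidiagonal form
(helper1). -/

namespace Cfsg.Agent.Helper1.SUTwo

open Matrix Cfsg Cfsg.Agent.Helper7.Herm Cfsg.Agent.Helper8.GUOrder Cfsg.Agent.Helper8.SURoot
  Cfsg.Agent.Helper1.SUJ Cfsg.Agent.Lead.SpBN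

variable {K : Type*} [Field K] [Fintype K] {q n : ℕ} [hK : Fact (Fintype.card K = q ^ 2)]

variable [StarRing K]

omit [Fintype K] hK [StarRing K] in
/-- the columns of a matrix. -/
def V (C : Matrix (Fin n) (Fin n) K) (i : Fin n) : Fin n → K := fun k => C k i

omit [Fintype K] hK [StarRing K] in
theorem V_eq (C : Matrix (Fin n) (Fin n) K) (i : Fin n) : V C i = C *ᵥ Pi.single i 1 := by
  rw [mulVec_single_one]
  rfl

/-- the data of a Witt basis. -/
structure WittData (K : Type*) [Field K] [Fintype K] [StarRing K] (q n : ℕ)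
    [hK : Fact (Fintype.card K = q ^ 2)] where
  hstar : ∀ x : K, star x = x ^ q
  C : Matrix (Fin n) (Fin n) K
  Ci : Matrix (Fin n) (Fin n) K
  hC : Cᴴ * C = Jm n K
  hCi : Ci = Jm n K * Cᴴ
  hCC : C * Ci = 1
  hCC' : Ci * C = 1

theorem exists_wittData (K : Type*) [Field K] [Fintype K] [StarRing K] (q n : ℕ)
    [hK : Fact (Fintype.card K = q ^ 2)] (hstar : ∀ x : K, star x = x ^ q) :
    Nonempty (WittData K q n) := by
  have hF := hK.out
  obtain ⟨ε, hε⟩ := exists_norm hF (c := (-1 : K)) (neg_ne_zero.mpr one_ne_zero)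
    (neg_one_pow_q hF)
  obtain ⟨ζ, hζ, hζ1⟩ := exists_zeta hF
  have hne : (1 : K) - ζ ≠ 0 := sub_ne_zero.mpr (Ne.symm hζ1)
  have hC := Cw_gram (n := n) (ε := ε) (ζ := ζ) (l := (1 - ζ)⁻¹)
    (by rw [hstar]; exact hε) (by rw [hstar]; exact hζ) (inv_mul_cancel₀ hne)
  have hCC' : (Jm n K * (Cw n ε ζ (1 - ζ)⁻¹)ᴴ) * Cw n ε ζ (1 - ζ)⁻¹ = 1 := by
    rw [Matrix.mul_assoc, hC, Jm_mul_Jm]
  exact ⟨⟨hstar, _, _, hC, rfl, mul_eq_one_comm.mp hCC', hCC'⟩⟩

namespace WittData

variable (D : WittData K q n)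

/-- the frame vectors. -/
def v (i : Fin n) : Fin n → K := V D.C i

/-- the isomorphism. -/
noncomputable def phi : UG n K ≃* SU n K q :=
  isoOfWitt D.hstar hK.out D.C D.Ci D.hC D.hCi D.hCC D.hCC'

theorem mt_phi (g : UG n K) : mt (D.phi g) = D.C * g.val * D.Ci := rfl

theorem gram (i j : Fin n) :
    hermForm n K q (D.v j) (D.v i) = if i.rev = j then 1 else 0 := by
  have h := congrFun (congrFun D.hC i) j
  rw [Matrix.mul_apply, Jm_apply] at h
  rw [← h]
  unfold hermForm
  apply Finset.sum_congr rfl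
  intro k _
  rw [conjTranspose_apply, mul_comm, D.hstar]
  rfl

theorem gram' (i j : Fin n) :
    hermForm n K q (D.v i) (D.v j) = if i = j.rev then 1 else 0 := by
  rw [D.gram j i]
  by_cases h : j.rev = i
  · rw [if_pos h, if_pos h.symm]
  · rw [if_neg h, if_neg (fun e => h e.symm)]

theorem v_iso {i : Fin n} (hi : i ≠ i.rev) : hermForm n K q (D.v i) (D.v i) = 0 := by
  rw [D.gram', if_neg hi]

theorem phi_mulVec (g : UG n K) (x : Fin n → K) :
    mt (D.phi g) *ᵥ (D.C *ᵥ x) = D.C *ᵥ (g.val *ᵥ x) := by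
  rw [mt_phi, mulVec_mulVec, Matrix.mul_assoc, Matrix.mul_assoc, D.hCC', Matrix.mul_one,
    ← mulVec_mulVec]

/-- the action of a diagonal element on the frame. -/
theorem phi_diag (g : UG n K) (d : Fin n → K) (hg : g.val = Matrix.diagonal d) (j : Fin n) :
    mt (D.phi g) *ᵥ D.v j = d j • D.v j := by
  unfold v
  rw [V_eq, phi_mulVec, hg]
  have : Matrix.diagonal d *ᵥ Pi.single j (1 : K) = d j • Pi.single j 1 := by
    rw [mulVec_single_one]
    funext i
    rw [Matrix.col_apply, Pi.smul_apply, Pi.single_apply, smul_eq_mul]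
    by_cases hij : i = j
    · rw [hij, diagonal_apply_eq, if_pos rfl, mul_one]
    · rw [diagonal_apply_ne _ hij, if_neg hij, mul_zero]
  rw [this, mulVec_smul]

/-- the action of a monomial element on the frame. -/
theorem phi_mono (g : UG n K) (σ : Equiv.Perm (Fin n)) (hg : MonoQ σ g.val) (j : Fin n) :
    mt (D.phi g) *ᵥ D.v j = g.val (σ j) j • D.v (σ j) := by
  unfold v
  rw [V_eq, V_eq, phi_mulVec]
  have : g.val *ᵥ Pi.single j (1 : K) = g.val (σ j) j • Pi.single (σ j) 1 := by
    rw [mulVec_single_one]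
    funext i
    rw [Matrix.col_apply, Pi.smul_apply, Pi.single_apply, smul_eq_mul]
    by_cases hij : i = σ j
    · rw [hij, if_pos rfl, mul_one]
    · rw [hg i j hij, if_neg hij, mul_zero]
  rw [this, mulVec_smul]

/-- the frame separates vectors. -/
theorem sep {y : Fin n → K} (h : ∀ i, hermForm n K q y (D.v i) = 0) : y = 0 := by
  have h1 : D.Cᴴ *ᵥ y = 0 := by
    funext i
    rw [Matrix.mulVec, dotProduct, Pi.zero_apply, ← h i]
    unfold hermForm
    apply Finset.sum_congr rfl
    intro k _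
    rw [conjTranspose_apply, mul_comm, D.hstar]
    rfl
  have h2 : D.Ciᴴ * D.Cᴴ = 1 := by
    rw [← conjTranspose_mul, D.hCC, conjTranspose_one]
  have h3 := congrArg (fun z => D.Ciᴴ *ᵥ z) h1
  beta_reduce at h3
  rw [mulVec_mulVec, h2, one_mulVec, mulVec_zero] at h3
  exact h3

omit D in
theorem herm_finset_sum_left {ι : Type*} (s : Finset ι) (u : ι → (Fin n → K)) (x : Fin n → K) :
    hermForm n K q (∑ i ∈ s, u i) x = ∑ i ∈ s, hermForm n K q (u i) x := by
  classical
  induction s using Finset.induction_on with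
  | empty => rw [Finset.sum_empty, Finset.sum_empty, hermForm_zero_left]
  | insert a s ha ih => rw [Finset.sum_insert ha, Finset.sum_insert ha, hermForm_add_left, ih]

/-- the expansion of a vector in the frame. -/
theorem expand (y : Fin n → K) : y = ∑ i, hermForm n K q y (D.v i.rev) • D.v i := by
  rw [← sub_eq_zero]
  apply D.sep
  intro j
  rw [hermForm_sub_left, sub_eq_zero, herm_finset_sum_left, Finset.sum_eq_single j.rev]
  · rw [hermForm_smul_left, D.gram', if_pos rfl, mul_one, Fin.rev_rev]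
  · intro i _ hij
    rw [hermForm_smul_left, D.gram', if_neg hij, mul_zero]
  · intro h
    exact absurd (Finset.mem_univ _) h

end WittData

end Cfsg.Agent.Helper1.SUTwo
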