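import Mathlib
import Cfsg.Agent.Helper1.SUJk

set_option autoImplicit false
set_option linter.unusedSectionVars false

/-! Two-generation of `SU_n(q)`: a torus element and the Coxeter permutation in the unitary group
of the antidiagonal form (helper1). -/

namespace Cfsg.Agent.Helper1.SUTwo

open Matrix Cfsg.Agent.Helper1.SUJ Cfsg.Agent.Lead.SpBN

section torus

variable {K : Type*} [Field K] [StarRing K] {n : ℕ}

/-- a diagonal element. -/
def diagU (d : Fin n → K) (hd : ∀ i, star (d i.rev) * d i = 1) (hdet : ∏ i, d i = 1) : UG n K :=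
  ⟨Matrix.diagonal d, by
    rw [dag_diagonal, Matrix.diagonal_mul_diagonal, ← Matrix.diagonal_one]
    congr 1
    ext i
    exact hd i, by rw [Matrix.det_diagonal, hdet]⟩

theorem diagU_val (d : Fin n → K) (hd : ∀ i, star (d i.rev) * d i = 1) (hdet : ∏ i, d i = 1) :
    (diagU d hd hdet).val = Matrix.diagonal d := rfl

/-- the diagonal of the torus element. -/
def dfun (i0 p : Fin n) (g : K) : Fin n → K :=
  Pi.mulSingle i0 g * Pi.mulSingle p (star g) * Pi.mulSingle p.rev g⁻¹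
    * Pi.mulSingle i0.rev (star g)⁻¹

theorem dfun_apply (i0 p : Fin n) (g : K) (i : Fin n) :
    dfun i0 p g i = (if i = i0 then g else 1) * (if i = p then star g else 1)
      * (if i = p.rev then g⁻¹ else 1) * (if i = i0.rev then (star g)⁻¹ else 1) := by
  unfold dfun
  rw [Pi.mul_apply, Pi.mul_apply, Pi.mul_apply, Pi.mulSingle_apply, Pi.mulSingle_apply,
    Pi.mulSingle_apply, Pi.mulSingle_apply]

theorem dfun_prod (i0 p : Fin n) {g : K} (hg : g ≠ 0) : ∏ i, dfun i0 p g i = 1 := by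
  have hsg : star g ≠ 0 := fun h => hg (star_eq_zero.mp h)
  unfold dfun
  simp only [Pi.mul_apply]
  rw [Finset.prod_mul_distrib, Finset.prod_mul_distrib, Finset.prod_mul_distrib,
    Fintype.prod_pi_mulSingle', Fintype.prod_pi_mulSingle', Fintype.prod_pi_mulSingle',
    Fintype.prod_pi_mulSingle']
  field_simp

theorem rev_eq_iff (i j : Fin n) : i.rev = j ↔ i = j.rev := by
  constructor
  · intro h
    rw [← h, Fin.rev_rev]
  · intro h
    rw [h, Fin.rev_rev]

theorem dfun_unit_aux {g : K} (hg : g ≠ 0) (c1 c2 c3 c4 : Prop) [Decidable c1] [Decidable c2]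
    [Decidable c3] [Decidable c4] :
    star ((if c4 then g else 1) * (if c3 then star g else 1) * (if c2 then g⁻¹ else 1)
        * (if c1 then (star g)⁻¹ else 1))
      * ((if c1 then g else 1) * (if c2 then star g else 1) * (if c3 then g⁻¹ else 1)
        * (if c4 then (star g)⁻¹ else 1)) = 1 := by
  have hsg : star g ≠ 0 := fun h => hg (star_eq_zero.mp h)
  by_cases h1 : c1 <;> by_cases h2 : c2 <;> by_cases h3 : c3 <;> by_cases h4 : c4 <;>
    simp only [h1, h2, h3, h4, if_true, if_false, star_mul', star_one, star_inv₀, star_star,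
      mul_one, one_mul] <;> field_simp

theorem dfun_unit (i0 p : Fin n) {g : K} (hg : g ≠ 0) (i : Fin n) :
    star (dfun i0 p g i.rev) * dfun i0 p g i = 1 := by
  rw [dfun_apply, dfun_apply]
  have e := dfun_unit_aux hg (i = i0) (i = p) (i = p.rev) (i = i0.rev)
  have c1 : (i.rev = i0) ↔ (i = i0.rev) := rev_eq_iff i i0
  have c2 : (i.rev = p) ↔ (i = p.rev) := rev_eq_iff i p
  have c3 : (i.rev = p.rev) ↔ (i = p) := by rw [rev_eq_iff, Fin.rev_rev]
  have c4 : (i.rev = i0.rev) ↔ (i = i0) := by rw [rev_eq_iff, Fin.rev_rev]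
  simp only [c1, c2, c3, c4]
  exact e

/-- the torus element. -/
def torus (i0 p : Fin n) (g : K) (hg : g ≠ 0) : UG n K :=
  diagU (dfun i0 p g) (dfun_unit i0 p hg) (dfun_prod i0 p hg)

theorem torus_val (i0 p : Fin n) (g : K) (hg : g ≠ 0) :
    (torus i0 p g hg).val = Matrix.diagonal (dfun i0 p g) := rfl

end torus

section cox

variable {n : ℕ}

/-- the Coxeter permutation, on natural numbers. -/
def coxFun (n i : ℕ) : ℕ :=
  if i + 1 < n / 2 then i + 1 else if i + 1 = n / 2 then n - 1 else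
  if i = n - n / 2 then 0 else if n - n / 2 < i then i - 1 else i

/-- its inverse. -/
def coxInv (n j : ℕ) : ℕ :=
  if j = 0 then n - n / 2 else if j < n / 2 then j - 1 else if j = n - 1 then n / 2 - 1 else
  if n - n / 2 ≤ j then j + 1 else j

theorem coxFun_lt (hn : 3 ≤ n) {i : ℕ} (hi : i < n) : coxFun n i < n := by
  unfold coxFun
  split_ifs <;> omega

theorem coxInv_lt (hn : 3 ≤ n) {j : ℕ} (hj : j < n) : coxInv n j < n := by
  unfold coxInv
  split_ifs <;> omega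

theorem coxFun_cases (n i : ℕ) :
    (i + 1 < n / 2 ∧ coxFun n i = i + 1) ∨ (i + 1 = n / 2 ∧ coxFun n i = n - 1) ∨
    (¬ i + 1 < n / 2 ∧ ¬ i + 1 = n / 2 ∧ i = n - n / 2 ∧ coxFun n i = 0) ∨
    (¬ i + 1 < n / 2 ∧ ¬ i + 1 = n / 2 ∧ ¬ i = n - n / 2 ∧ n - n / 2 < i ∧ coxFun n i = i - 1) ∨
    (¬ i + 1 < n / 2 ∧ ¬ i + 1 = n / 2 ∧ ¬ i = n - n / 2 ∧ ¬ n - n / 2 < i ∧ coxFun n i = i) := by
  unfold coxFun
  by_cases h1 : i + 1 < n / 2
  · left; exact ⟨h1, if_pos h1⟩
  · right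
    by_cases h2 : i + 1 = n / 2
    · left; exact ⟨h2, by rw [if_neg h1, if_pos h2]⟩
    · right
      by_cases h3 : i = n - n / 2
      · left; exact ⟨h1, h2, h3, by rw [if_neg h1, if_neg h2, if_pos h3]⟩
      · right
        by_cases h4 : n - n / 2 < i
        · left; exact ⟨h1, h2, h3, h4, by rw [if_neg h1, if_neg h2, if_neg h3, if_pos h4]⟩
        · right; exact ⟨h1, h2, h3, h4, by rw [if_neg h1, if_neg h2, if_neg h3, if_neg h4]⟩

theorem coxInv_cases (n j : ℕ) :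
    (j = 0 ∧ coxInv n j = n - n / 2) ∨ (¬ j = 0 ∧ j < n / 2 ∧ coxInv n j = j - 1) ∨
    (¬ j = 0 ∧ ¬ j < n / 2 ∧ j = n - 1 ∧ coxInv n j = n / 2 - 1) ∨
    (¬ j = 0 ∧ ¬ j < n / 2 ∧ ¬ j = n - 1 ∧ n - n / 2 ≤ j ∧ coxInv n j = j + 1) ∨
    (¬ j = 0 ∧ ¬ j < n / 2 ∧ ¬ j = n - 1 ∧ ¬ n - n / 2 ≤ j ∧ coxInv n j = j) := by
  unfold coxInv
  by_cases h1 : j = 0
  · left; exact ⟨h1, if_pos h1⟩
  · right
    by_cases h2 : j < n / 2
    · left; exact ⟨h1, h2, by rw [if_neg h1, if_pos h2]⟩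
    · right
      by_cases h3 : j = n - 1
      · left; exact ⟨h1, h2, h3, by rw [if_neg h1, if_neg h2, if_pos h3]⟩
      · right
        by_cases h4 : n - n / 2 ≤ j
        · left; exact ⟨h1, h2, h3, h4, by rw [if_neg h1, if_neg h2, if_neg h3, if_pos h4]⟩
        · right; exact ⟨h1, h2, h3, h4, by rw [if_neg h1, if_neg h2, if_neg h3, if_neg h4]⟩

theorem coxInv_coxFun (hn : 3 ≤ n) {i : ℕ} (hi : i < n) : coxInv n (coxFun n i) = i := by
  rcases coxFun_cases n i with ⟨h, e⟩ | ⟨h, e⟩ | ⟨h1, h2, h3, e⟩ | ⟨h1, h2, h3, h4, e⟩ |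
      ⟨h1, h2, h3, h4, e⟩ <;> rw [e] <;>
    rcases coxInv_cases n (coxFun n i) with ⟨k, e'⟩ | ⟨k1, k2, e'⟩ | ⟨k1, k2, k3, e'⟩ |
      ⟨k1, k2, k3, k4, e'⟩ | ⟨k1, k2, k3, k4, e'⟩ <;> rw [e] at * <;> rw [e'] <;> omega

theorem coxFun_coxInv (hn : 3 ≤ n) {j : ℕ} (hj : j < n) : coxFun n (coxInv n j) = j := by
  rcases coxInv_cases n j with ⟨k, e'⟩ | ⟨k1, k2, e'⟩ | ⟨k1, k2, k3, e'⟩ |
      ⟨k1, k2, k3, k4, e'⟩ | ⟨k1, k2, k3, k4, e'⟩ <;> rw [e'] <;>
    rcases coxFun_cases n (coxInv n j) with ⟨h, e⟩ | ⟨h, e⟩ | ⟨h1, h2, h3, e⟩ |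
      ⟨h1, h2, h3, h4, e⟩ | ⟨h1, h2, h3, h4, e⟩ <;> rw [e'] at * <;> rw [e] <;> omega

/-- the Coxeter permutation. -/
def cox (hn : 3 ≤ n) : Equiv.Perm (Fin n) where
  toFun i := ⟨coxFun n i, coxFun_lt hn i.2⟩
  invFun j := ⟨coxInv n j, coxInv_lt hn j.2⟩
  left_inv i := Fin.ext (coxInv_coxFun hn i.2)
  right_inv j := Fin.ext (coxFun_coxInv hn j.2)

theorem cox_val (hn : 3 ≤ n) (i : Fin n) : ((cox hn i : Fin n) : ℕ) = coxFun n i := rfl

theorem cox_rev (hn : 3 ≤ n) (c : Fin n) : cox hn c.rev = (cox hn c).rev := by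
  apply Fin.ext
  rw [Fin.val_rev, cox_val, cox_val, Fin.val_rev]
  have := c.2
  unfold coxFun
  split_ifs <;> omega

theorem cox_of_lt (hn : 3 ≤ n) {k : ℕ} (hk : k + 1 < n / 2) :
    cox hn ⟨k, by omega⟩ = ⟨k + 1, by omega⟩ := by
  apply Fin.ext
  rw [cox_val]
  show coxFun n k = k + 1
  unfold coxFun
  rw [if_pos hk]

theorem cox_half (hn : 3 ≤ n) : cox hn ⟨n / 2 - 1, by omega⟩ = ⟨n - 1, by omega⟩ := by
  apply Fin.ext
  rw [cox_val]
  show coxFun n (n / 2 - 1) = n - 1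
  unfold coxFun
  split_ifs <;> omega

theorem cox_upper (hn : 3 ≤ n) {k : ℕ} (hk : n - n / 2 < k) (hkn : k < n) :
    cox hn ⟨k, hkn⟩ = ⟨k - 1, by omega⟩ := by
  apply Fin.ext
  rw [cox_val]
  show coxFun n k = k - 1
  unfold coxFun
  split_ifs <;> omega

theorem cox_wrap (hn : 3 ≤ n) : cox hn ⟨n - n / 2, by omega⟩ = ⟨0, by omega⟩ := by
  apply Fin.ext
  rw [cox_val]
  show coxFun n (n - n / 2) = 0
  unfold coxFun
  split_ifs <;> omega

theorem cox_mid (hn : 3 ≤ n) {i : Fin n} (hi : i = i.rev) : cox hn i = i := by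
  apply Fin.ext
  rw [cox_val]
  have h1 := congrArg Fin.val hi
  rw [Fin.val_rev] at h1
  have := i.2
  unfold coxFun
  split_ifs <;> omega

/-- induction along the Coxeter permutation: it is transitive on the indices other than the
middle one. -/
theorem cox_induction (hn : 3 ≤ n) (Pr : Fin n → Prop) (h0 : Pr ⟨0, by omega⟩)
    (hstep : ∀ i, Pr i → Pr (cox hn i)) : ∀ i : Fin n, i ≠ i.rev → Pr i := by
  have h1 : ∀ k : ℕ, ∀ hk : k < n / 2, Pr ⟨k, by omega⟩ := by
    intro k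
    induction k with
    | zero => intro _; exact h0
    | succ k ih =>
      intro hk
      have := hstep _ (ih (by omega))
      rw [cox_of_lt hn hk] at this
      exact this
  have h2 : ∀ j : ℕ, ∀ hj : j < n / 2, Pr ⟨n - 1 - j, by omega⟩ := by
    intro j
    induction j with
    | zero =>
      intro _
      have := hstep _ (h1 (n / 2 - 1) (by omega))
      rw [cox_half hn] at this
      exact this
    | succ j ih =>
      intro hj
      have := hstep _ (ih (by omega))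
      rw [cox_upper hn (by omega) (by omega)] at this
      have e : (⟨n - 1 - j - 1, by omega⟩ : Fin n) = ⟨n - 1 - (j + 1), by omega⟩ :=
        Fin.ext (by show n - 1 - j - 1 = n - 1 - (j + 1); omega)
      rw [e] at this
      exact this
  intro i hi
  have hi' : (i : ℕ) ≠ n - 1 - i := by
    intro h
    apply hi
    apply Fin.ext
    rw [Fin.val_rev]
    omega
  have := i.2
  rcases Nat.lt_or_ge (i : ℕ) (n / 2) with h | h
  · exact h1 i h
  · have h3 : n - 1 - (i : ℕ) < n / 2 := by omega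
    have := h2 (n - 1 - i) h3
    have e : (⟨n - 1 - (n - 1 - (i : ℕ)), by omega⟩ : Fin n) = i :=
      Fin.ext (by show n - 1 - (n - 1 - (i : ℕ)) = i; omega)
    rw [e] at this
    exact this

end cox

end Cfsg.Agent.Helper1.SUTwo
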