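import Mathlib
import Cfsg.Agent.Helper1.SUTwoA
import Cfsg.Agent.Helper1.SUTwoC
import Cfsg.Agent.Helper1.SUTwoD

set_option autoImplicit false
set_option linter.unusedSectionVars false

/-! Two-generation of `SU_n(q)`: a subgroup containing a Coxeter-type element and all Siegel
elements at the first frame vector is the whole group (helper1). -/

namespace Cfsg.Agent.Helper1.SUTwo

open Matrix Cfsg Cfsg.Agent.Helper7.Herm Cfsg.Agent.Helper8.GUOrder Cfsg.Agent.Helper8.SURoot
  Cfsg.Agent.Helper8.AutSU Cfsg.Agent.Helper7.SUGen Cfsg.Agent.Helper7.SUMax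
  Cfsg.Agent.Helper7.SUPair Cfsg.Agent.Helper1.SUJ

variable {K : Type*} [Field K] [Fintype K] [StarRing K] {q n : ℕ}
  [hK : Fact (Fintype.card K = q ^ 2)]

omit [StarRing K] in
/-- every element of trace zero is of the form `β - β^q`. -/
theorem exists_sub_pow_eq {s : K} (hs : s ^ q + s = 0) : ∃ β : K, β - β ^ q = s := by
  obtain ⟨ε, hε0, hε⟩ := exists_tz_ne_zero (F := K) (q := q)
  have hεq : ε ^ q = -ε := by linear_combination hε
  have hsq : s ^ q = -s := by linear_combination hs
  have hfix : (s / ε) ^ q = s / ε := by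
    rw [div_pow, hεq, hsq, neg_div_neg_eq]
  obtain ⟨z, hz⟩ := exists_trace hfix
  refine ⟨ε * z, ?_⟩
  rw [mul_pow, hεq]
  have : ε * z - -ε * z ^ q = ε * (z ^ q + z) := by ring
  rw [this, hz, mul_div_cancel₀ _ hε0]

omit [Field K] [Fintype K] [StarRing K] hK in
/-- the first frame vector. -/
def i0 (hn : 3 ≤ n) : Fin n := ⟨0, by omega⟩

omit [Field K] [Fintype K] [StarRing K] hK in
theorem i0_ne_rev (hn : 3 ≤ n) : i0 hn ≠ (i0 hn).rev := by
  intro h
  have := congrArg Fin.val h
  rw [Fin.val_rev] at this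
  simp only [i0] at this
  omega

/-- a Coxeter-type element on the frame. -/
structure CoxData (D : WittData K q n) (hn : 3 ≤ n) where
  cc : SU n K q
  γ : Fin n → K
  hγ : ∀ i, γ i ≠ 0
  hcc : ∀ i, mt cc *ᵥ D.v i = γ i • D.v (cox hn i)

variable {D : WittData K q n} {hn : 3 ≤ n} (X : CoxData D hn) {M : Subgroup (SU n K q)}

theorem CoxData.ne_rev {i : Fin n} (hi : i ≠ i.rev) : cox hn i ≠ (cox hn i).rev := by
  intro h
  rw [← cox_rev] at h
  exact hi ((cox hn).injective h)

include X in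
theorem CoxData.Full_step (hcc : X.cc ∈ M) {i : Fin n} (hi : i ≠ i.rev)
    (h : Full M (D.v i)) : Full M (D.v (cox hn i)) := by
  have h1 := Full_conj (D.v_iso hi) hcc h
  rw [X.hcc] at h1
  exact Full_of_smul (D.v_iso (CoxData.ne_rev hi)) (X.hγ i) h1

include X in
/-- transport of the Siegel elements along the Coxeter element. -/
theorem CoxData.QF_step (hcc : X.cc ∈ M) {i : Fin n} (hi : i ≠ i.rev) {b : Fin n → K}
    (hb : hermForm n K q b (D.v i) = 0) (h : QF M (D.v i) b) :
    QF M (D.v (cox hn i)) ((X.γ i) ^ q • (mt X.cc *ᵥ b)) := by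
  have h1 := QF_conj (D.v_iso hi) hb hcc h
  rw [X.hcc] at h1
  have hb' : hermForm n K q (mt X.cc *ᵥ b) (D.v (cox hn i)) = 0 := by
    have h2 : hermForm n K q (mt X.cc *ᵥ b) (mt X.cc *ᵥ D.v i) = 0 := by rw [herm_mt, hb]
    rw [X.hcc, hermForm_smul_right] at h2
    rcases mul_eq_zero.mp h2 with h3 | h3
    · exact absurd h3 (pow_ne_zero q (X.hγ i))
    · exact h3
  exact QF_of_smul_left (D.v_iso (CoxData.ne_rev hi)) hb' (X.hγ i) h1

include X in
/-- transport of the Siegel elements with parameter zero. -/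
theorem CoxData.sg0_step (hcc : X.cc ∈ M) {i : Fin n} (hi : i ≠ i.rev) {b : Fin n → K}
    (hb : hermForm n K q b (D.v i) = 0) (hbb : hermForm n K q b b = 0)
    (h : sg q (D.v i) b 0 ∈ M) :
    sg q (D.v (cox hn i)) ((X.γ i) ^ q • (mt X.cc *ᵥ b)) 0 ∈ M := by
  have hc : (0 : K) + 0 ^ q + hermForm n K q b b = 0 := adm_zero hbb
  have h1 : X.cc * sg q (D.v i) b 0 * X.cc⁻¹ ∈ M := M.mul_mem (M.mul_mem hcc h) (M.inv_mem hcc)
  rw [conj_sg X.cc (D.v_iso hi) hb hc, X.hcc] at h1
  have hb' : hermForm n K q (mt X.cc *ᵥ b) (D.v (cox hn i)) = 0 := by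
    have h2 : hermForm n K q (mt X.cc *ᵥ b) (mt X.cc *ᵥ D.v i) = 0 := by rw [herm_mt, hb]
    rw [X.hcc, hermForm_smul_right] at h2
    rcases mul_eq_zero.mp h2 with h3 | h3
    · exact absurd h3 (pow_ne_zero q (X.hγ i))
    · exact h3
  have hc' : (0 : K) + 0 ^ q + hermForm n K q (mt X.cc *ᵥ b) (mt X.cc *ᵥ b) = 0 := by
    rw [herm_mt]; exact hc
  rw [sg_smul_left (D.v_iso (CoxData.ne_rev hi)) hb' hc', zero_mul] at h1
  exact h1

include X in
/-- all Siegel elements at a frame vector: transport. -/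
theorem CoxData.QV_step (hcc : X.cc ∈ M) {i : Fin n} (hi : i ≠ i.rev)
    (h : ∀ b : Fin n → K, hermForm n K q b (D.v i) = 0 → QF M (D.v i) b) :
    ∀ b : Fin n → K, hermForm n K q b (D.v (cox hn i)) = 0 → QF M (D.v (cox hn i)) b := by
  intro b hb
  have hγq : (X.γ i) ^ q ≠ 0 := pow_ne_zero q (X.hγ i)
  set b₀ : Fin n → K := mt X.cc⁻¹ *ᵥ (((X.γ i) ^ q)⁻¹ • b) with hb₀
  have e1 : mt X.cc *ᵥ b₀ = ((X.γ i) ^ q)⁻¹ • b := by rw [hb₀, mt_inv_mulVec]
  have hb₀i : hermForm n K q b₀ (D.v i) = 0 := by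
    rw [← herm_mt X.cc, e1, X.hcc, hermForm_smul_left, hermForm_smul_right, hb, mul_zero,
      mul_zero]
  have h1 := X.QF_step hcc hi hb₀i (h b₀ hb₀i)
  rw [e1, smul_smul, mul_inv_cancel₀ hγq, one_smul] at h1
  exact h1

omit [StarRing K] in
theorem QF_finset_sum {ι : Type*} (s : Finset ι) {a : Fin n → K}
    (ha : hermForm n K q a a = 0) (hF : Full M a) (b : ι → (Fin n → K))
    (hb : ∀ i ∈ s, hermForm n K q (b i) a = 0) (h : ∀ i ∈ s, QF M a (b i)) :
    QF M a (∑ i ∈ s, b i) ∧ hermForm n K q (∑ i ∈ s, b i) a = 0 := by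
  classical
  induction s using Finset.induction_on with
  | empty =>
    rw [Finset.sum_empty]
    exact ⟨QF_zero ha hF, hermForm_zero_left a⟩
  | insert j s hj ih =>
    rw [Finset.sum_insert hj]
    have ih' := ih (fun i hi => hb i (Finset.mem_insert_of_mem hi))
      (fun i hi => h i (Finset.mem_insert_of_mem hi))
    have hbj := hb j (Finset.mem_insert_self j s)
    refine ⟨QF_add ha hbj ih'.2 hF (h j (Finset.mem_insert_self j s)) ih'.1, ?_⟩
    rw [hermForm_add_left, hbj, ih'.2, add_zero]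

/-- all Siegel elements at the first frame vector, from those along the frame vectors. -/
theorem QV0_of_lines (hF : Full M (D.v (i0 hn)))
    (h : ∀ k : Fin n, k ≠ (i0 hn).rev → ∀ β : K, QF M (D.v (i0 hn)) (β • D.v k)) :
    ∀ b : Fin n → K, hermForm n K q b (D.v (i0 hn)) = 0 → QF M (D.v (i0 hn)) b := by
  intro b hb
  have ha := D.v_iso (i0_ne_rev hn)
  rw [D.expand b]
  refine (QF_finset_sum Finset.univ ha hF _ ?_ ?_).1
  · intro k _
    by_cases hk : k = (i0 hn).rev
    · rw [hk, Fin.rev_rev, hb, zero_smul, hermForm_zero_left]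
    · rw [hermForm_smul_left, D.gram', if_neg hk, mul_zero]
  · intro k _
    by_cases hk : k = (i0 hn).rev
    · rw [hk, Fin.rev_rev, hb, zero_smul]
      exact QF_zero ha hF
    · exact h k hk _

include X in
/-- **The final step.** -/
theorem CoxData.top_of_QV0 (h32 : ¬ (n = 3 ∧ q = 2)) (hcc : X.cc ∈ M)
    (h : ∀ b : Fin n → K, hermForm n K q b (D.v (i0 hn)) = 0 → QF M (D.v (i0 hn)) b) :
    M = ⊤ := by
  have hall : ∀ i : Fin n, i ≠ i.rev →
      ∀ b : Fin n → K, hermForm n K q b (D.v i) = 0 → QF M (D.v i) b := by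
    intro i hi
    refine cox_induction hn
      (fun i => i ≠ i.rev → ∀ b : Fin n → K, hermForm n K q b (D.v i) = 0 → QF M (D.v i) b)
      (fun _ => h) ?_ i hi hi
    intro j ih hj
    have hj' : j ≠ j.rev := by
      intro e
      apply hj
      rw [← cox_rev, ← e]
    exact X.QV_step hcc hj' (ih hj')
  have hfull : ∀ i : Fin n, i ≠ i.rev → Full M (D.v i) := by
    intro i hi
    exact Full_of_QF_zero (D.v_iso hi) (hall i hi 0 (hermForm_zero_left _))
  apply top_of_family (by omega) h32 M {a | ∃ i : Fin n, i ≠ i.rev ∧ a = D.v i}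
  · rintro a ⟨i, hi, rfl⟩
    exact D.v_iso hi
  · rintro a ⟨i, hi, rfl⟩ b hb
    exact hall i hi b hb
  · rintro a ⟨i, hi, rfl⟩
    have hi' : i.rev ≠ i.rev.rev := by
      rw [Fin.rev_rev]
      exact fun e => hi e.symm
    refine ⟨D.v i.rev, D.v_iso hi', hfull _ hi', ?_⟩
    rw [D.gram', if_pos rfl]
    exact one_ne_zero
  · intro y hyy hy
    have hy' : ∀ i : Fin n, i ≠ i.rev → hermForm n K q y (D.v i) = 0 :=
      fun i hi => hy _ ⟨i, hi, rfl⟩
    apply D.sep
    intro i
    by_cases hi : i = i.rev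
    · -- the middle vector
      have e : y = hermForm n K q y (D.v i) • D.v i := by
        conv_lhs => rw [D.expand y]
        rw [Finset.sum_eq_single i]
        · rw [← hi]
        · intro j _ hji
          have hj : j.rev ≠ j.rev.rev := by
            intro e
            rw [Fin.rev_rev] at e
            apply hji
            have h1 : (j : ℕ) = i := by
              have h2 := congrArg Fin.val e
              have h3 := congrArg Fin.val hi
              rw [Fin.val_rev] at h2 h3
              omega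
            exact Fin.ext h1
          rw [hy' _ hj, zero_smul]
        · intro h
          exact absurd (Finset.mem_univ _) h
      have h1 : hermForm n K q y y = hermForm n K q y (D.v i) * (hermForm n K q y (D.v i)) ^ q := by
        conv_lhs => rw [e]
        rw [hermForm_smul_left, hermForm_smul_right, D.gram', if_pos hi, mul_one]
      rw [hyy] at h1
      rcases mul_eq_zero.mp h1.symm with h2 | h2
      · exact h2
      · exact pow_eq_zero_iff (by have := two_le_q hK.out; omega) |>.mp h2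
    · exact hy' i hi

end Cfsg.Agent.Helper1.SUTwo
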