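import Mathlib
import Cfsg.Agent.Helper1.SUTwoE

set_option autoImplicit false
set_option linter.unusedSectionVars false

/-! Two-generation of `SU_n(q)`: from a root group at the first frame vector and a Coxeter-type
element to the whole group, in odd dimension (helper1). -/

namespace Cfsg.Agent.Helper1.SUTwo

open Matrix Cfsg Cfsg.Agent.Helper7.Herm Cfsg.Agent.Helper8.GUOrder Cfsg.Agent.Helper8.SURoot
  Cfsg.Agent.Helper8.AutSU Cfsg.Agent.Helper7.SUGen Cfsg.Agent.Helper7.SUMax
  Cfsg.Agent.Helper7.SUPair Cfsg.Agent.Helper1.SUJ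

variable {K : Type*} [Field K] [Fintype K] [StarRing K] {q n : ℕ}
  [hK : Fact (Fintype.card K = q ^ 2)]

variable {D : WittData K q n} {hn : 3 ≤ n} (X : CoxData D hn) {M : Subgroup (SU n K q)}

theorem ne_mid_of_ne_rev {i mid : Fin n} (hmid : mid = mid.rev) (hi : i ≠ i.rev) :
    mid ≠ i.rev := by
  intro h
  apply hi
  have h1 : i = mid.rev := by rw [h, Fin.rev_rev]
  rw [← hmid] at h1
  rw [h1]
  exact hmid

include X in
/-- **Odd dimension.** -/
theorem CoxData.top_of_odd (h32 : ¬ (n = 3 ∧ q = 2)) (hcc : X.cc ∈ M) {mid : Fin n}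
    (hmid : mid = mid.rev) (hF : Full M (D.v (i0 hn)))
    (hQ : ∀ β : K, QF M (D.v (i0 hn)) (β • D.v mid)) : M = ⊤ := by
  have hmm : hermForm n K q (D.v mid) (D.v mid) = 1 := by rw [D.gram', if_pos hmid]
  -- the root groups at all frame vectors
  have hall : ∀ i : Fin n, i ≠ i.rev → Full M (D.v i) ∧ ∀ β : K, QF M (D.v i) (β • D.v mid) := by
    intro i hi
    refine cox_induction hn
      (fun i => i ≠ i.rev → Full M (D.v i) ∧ ∀ β : K, QF M (D.v i) (β • D.v mid))
      (fun _ => ⟨hF, hQ⟩) ?_ i hi hi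
    intro j ih hj
    have hj' : j ≠ j.rev := by
      intro e
      apply hj
      rw [← cox_rev, ← e]
    obtain ⟨ih1, ih2⟩ := ih hj'
    refine ⟨X.Full_step hcc hj' ih1, fun β => ?_⟩
    have hγ1 : (X.γ j) ^ q ≠ 0 := pow_ne_zero q (X.hγ j)
    have hγ2 : X.γ mid ≠ 0 := X.hγ mid
    have hb : hermForm n K q ((β / ((X.γ j) ^ q * X.γ mid)) • D.v mid) (D.v j) = 0 := by
      rw [hermForm_smul_left, D.gram', if_neg (ne_mid_of_ne_rev hmid hj'), mul_zero]
    have h1 := X.QF_step hcc hj' hb (ih2 _)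
    rw [mulVec_smul, X.hcc, cox_mid hn hmid, smul_smul, smul_smul] at h1
    have e : (X.γ j) ^ q * (β / ((X.γ j) ^ q * X.γ mid)) * X.γ mid = β := by
      field_simp
    rw [e] at h1
    exact h1
  have ha := D.v_iso (i0_ne_rev hn)
  have h0m : hermForm n K q (D.v (i0 hn)) (D.v mid) = 0 := by
    rw [D.gram', if_neg]
    intro e
    exact ne_mid_of_ne_rev hmid (i0_ne_rev hn) (by rw [e, Fin.rev_rev])
  have hm0 : hermForm n K q (D.v mid) (D.v (i0 hn)) = 0 := h_eq_zero_of_swap h0m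
  apply X.top_of_QV0 h32 hcc
  apply QV0_of_lines hF
  intro k hk β
  by_cases hk0 : k = i0 hn
  · rw [hk0]
    exact QF_self_smul ha hF β
  by_cases hkm : k = mid
  · rw [hkm]
    exact hQ β
  -- the other frame vectors
  have hkr : k ≠ k.rev := by
    intro e
    apply hkm
    have h1 := congrArg Fin.val e
    have h2 := congrArg Fin.val hmid
    rw [Fin.val_rev] at h1 h2
    exact Fin.ext (by omega)
  obtain ⟨c', hc'⟩ := exists_adm (q := q) (D.v mid)
  have hak := D.v_iso hkr
  have hmk : hermForm n K q (D.v mid) (D.v k) = 0 := by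
    rw [D.gram', if_neg (ne_mid_of_ne_rev hmid hkr)]
  have h0k : hermForm n K q (D.v (i0 hn)) (D.v k) = 0 := by
    rw [D.gram', if_neg]
    intro e
    apply hk
    rw [e, Fin.rev_rev]
  have hk0' : hermForm n K q (D.v k) (D.v (i0 hn)) = 0 := h_eq_zero_of_swap h0k
  have hg : sg q (D.v k) (D.v mid) c' ∈ M := by
    have := (hall k hkr).2 1 c' (by rw [one_smul]; exact hc')
    rw [one_smul] at this
    exact this
  have hfix : mt (sg q (D.v k) (D.v mid) c') *ᵥ D.v (i0 hn) = D.v (i0 hn) :=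
    sg_fix hak hmk hc' h0k h0m
  have hmove : mt (sg q (D.v k) (D.v mid) c') *ᵥ D.v mid = D.v mid - D.v k := by
    rw [sg_mulVec hak hmk hc', hmk, hmm, zero_smul, add_zero, one_smul]
  have hbm : hermForm n K q (β • D.v mid) (D.v (i0 hn)) = 0 := by
    rw [hermForm_smul_left, hm0, mul_zero]
  have h1 := QF_conj ha hbm hg (hQ β)
  rw [hfix, mulVec_smul, hmove] at h1
  have hb2 : hermForm n K q (β • (D.v mid - D.v k)) (D.v (i0 hn)) = 0 := by
    rw [hermForm_smul_left, hermForm_sub_left, hm0, hk0', sub_zero, mul_zero]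
  have h2 := QF_sub ha hbm hb2 hF (hQ β) h1
  have e : β • D.v mid - β • (D.v mid - D.v k) = β • D.v k := by
    rw [smul_sub]
    abel
  rw [e] at h2
  exact h2

end Cfsg.Agent.Helper1.SUTwo
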