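import Mathlib
import Cfsg.Agent.Helper1.SUTwoE

set_option autoImplicit false
set_option linter.unusedSectionVars false

/-! Two-generation of `SU_n(q)`: from a root group at the first frame vector and a Coxeter-type
element to the whole group, in even dimension (helper1). -/

namespace Cfsg.Agent.Helper1.SUTwo

open Matrix Cfsg Cfsg.Agent.Helper7.Herm Cfsg.Agent.Helper8.GUOrder Cfsg.Agent.Helper8.SURoot
  Cfsg.Agent.Helper8.AutSU Cfsg.Agent.Helper7.SUGen Cfsg.Agent.Helper7.SUMax
  Cfsg.Agent.Helper7.SUPair Cfsg.Agent.Helper1.SUJ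

variable {K : Type*} [Field K] [Fintype K] [StarRing K] {q n : ℕ}
  [hK : Fact (Fintype.card K = q ^ 2)]

theorem WittData.gram_nat (D : WittData K q n) {a b : ℕ} (ha : a < n) (hb : b < n) :
    hermForm n K q (D.v ⟨a, ha⟩) (D.v ⟨b, hb⟩) = if a + b = n - 1 then 1 else 0 := by
  rw [D.gram']
  have key : ((⟨a, ha⟩ : Fin n) = (⟨b, hb⟩ : Fin n).rev) ↔ a + b = n - 1 := by
    constructor
    · intro h
      have h1 := congrArg Fin.val h
      rw [Fin.val_rev] at h1
      simp only at h1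
      omega
    · intro h
      apply Fin.ext
      rw [Fin.val_rev]
      simp only
      omega
  by_cases h : a + b = n - 1
  · rw [if_pos h, if_pos (key.mpr h)]
  · rw [if_neg h, if_neg (fun e => h (key.mp e))]

variable {D : WittData K q n} {hn : 3 ≤ n} (X : CoxData D hn) {M : Subgroup (SU n K q)}

include X in
/-- transport of a root group with parameter zero. -/
theorem CoxData.P0_step (hcc : X.cc ∈ M) {i j : Fin n} (hi : i ≠ i.rev) (hj : j ≠ j.rev)
    (hij : i ≠ j.rev) (h : ∀ β : K, sg q (D.v i) (β • D.v j) 0 ∈ M) (β : K) :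
    sg q (D.v (cox hn i)) (β • D.v (cox hn j)) 0 ∈ M := by
  have hγ1 : (X.γ i) ^ q ≠ 0 := pow_ne_zero q (X.hγ i)
  have hγ2 : X.γ j ≠ 0 := X.hγ j
  have hji : j ≠ i.rev := by
    intro e
    apply hij
    rw [e, Fin.rev_rev]
  have hb : hermForm n K q ((β / ((X.γ i) ^ q * X.γ j)) • D.v j) (D.v i) = 0 := by
    rw [hermForm_smul_left, D.gram', if_neg hji, mul_zero]
  have hbb : hermForm n K q ((β / ((X.γ i) ^ q * X.γ j)) • D.v j)
      ((β / ((X.γ i) ^ q * X.γ j)) • D.v j) = 0 := by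
    rw [hermForm_smul_left, hermForm_smul_right, D.v_iso hj, mul_zero, mul_zero]
  have h1 := X.sg0_step hcc hi hb hbb (h _)
  rw [mulVec_smul, X.hcc, smul_smul, smul_smul] at h1
  have e : (X.γ i) ^ q * (β / ((X.γ i) ^ q * X.γ j)) * X.γ j = β := by
    field_simp
  rw [e] at h1
  exact h1

omit hn X in
/-- the symmetry of the root groups with parameter zero. -/
theorem P0_symm {i j : Fin n} (hi : i ≠ i.rev) (hj : j ≠ j.rev) (hij : i ≠ j.rev)
    (h : ∀ β : K, sg q (D.v i) (β • D.v j) 0 ∈ M) (β : K) :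
    sg q (D.v j) (β • D.v i) 0 ∈ M := by
  have hvi := D.v_iso hi
  have hvj := D.v_iso hj
  have hij' : hermForm n K q (D.v i) (D.v j) = 0 := by rw [D.gram', if_neg hij]
  have h1 : hermForm n K q (β • D.v i) (β • D.v i) = 0 := by
    rw [hermForm_smul_left, hermForm_smul_right, hvi, mul_zero, mul_zero]
  have h2 : hermForm n K q (β • D.v i) (D.v j) = 0 := by
    rw [hermForm_smul_left, hij', mul_zero]
  have h3 : hermForm n K q (-D.v j) (D.v i) = 0 := by
    rw [h_neg_left, h_eq_zero_of_swap hij', neg_zero]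
  have h4 : (0 : K) + 0 ^ q + hermForm n K q (-D.v j) (-D.v j) = 0 := by
    rw [h_neg_left, h_neg_right, hvj, b_zero, neg_zero, neg_zero, add_zero, add_zero]
  rw [sg_symm h1 hvj h2, sg_smul_left hvi h3 h4, zero_mul, smul_neg, ← neg_smul]
  exact h _

include X in
/-- **Even dimension.** -/
theorem CoxData.top_of_even (h32 : ¬ (n = 3 ∧ q = 2)) (hcc : X.cc ∈ M)
    (heven : ∀ i : Fin n, i ≠ i.rev)
    (hP : ∀ β : K, sg q (D.v (i0 hn)) (β • D.v ⟨n - 2, by omega⟩) 0 ∈ M) : M = ⊤ := by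
  -- `n` is even
  have hn2 : 2 * (n / 2) = n := by
    by_contra hcon
    have h1 : n = 2 * (n / 2) + 1 := by omega
    apply heven ⟨n / 2, by omega⟩
    apply Fin.ext
    rw [Fin.val_rev]
    simp only
    omega
  have hm2 : 2 ≤ n / 2 := by omega
  -- chain A
  have hA : ∀ j : ℕ, ∀ hj : j + 1 < n / 2, ∀ β : K,
      sg q (D.v ⟨j, by omega⟩) (β • D.v ⟨n - 2 - j, by omega⟩) 0 ∈ M := by
    intro j
    induction j with
    | zero => intro _; exact hP
    | succ j ih =>
      intro hj β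
      have h1 := X.P0_step hcc (heven _) (heven _) (by
        intro e
        have h2 := congrArg Fin.val e
        rw [Fin.val_rev] at h2
        simp only at h2
        omega) (ih (by omega)) β
      rw [cox_of_lt hn (by omega), cox_upper hn (by show n - n / 2 < n - 2 - j; omega)
        (by omega)] at h1
      have e : (⟨n - 2 - j - 1, by omega⟩ : Fin n) = ⟨n - 2 - (j + 1), by omega⟩ :=
        Fin.ext (by show n - 2 - j - 1 = n - 2 - (j + 1); omega)
      rw [e] at h1
      exact h1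
  -- the root group of `ε_{m-1} + ε_0`
  have hB : ∀ β : K, sg q (D.v (i0 hn)) (β • D.v ⟨n / 2 - 1, by omega⟩) 0 ∈ M := by
    have h1 : ∀ β : K, sg q (D.v ⟨n / 2 - 1, by omega⟩) (β • D.v (i0 hn)) 0 ∈ M := by
      intro β
      have h2 := X.P0_step hcc (heven _) (heven _) (by
        intro e
        have h2 := congrArg Fin.val e
        rw [Fin.val_rev] at h2
        simp only at h2
        omega) (hA (n / 2 - 2) (by omega)) β
      rw [cox_of_lt hn (by omega)] at h2
      have e1 : (⟨n - 2 - (n / 2 - 2), by omega⟩ : Fin n) = ⟨n - n / 2, by omega⟩ :=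
        Fin.ext (by show n - 2 - (n / 2 - 2) = n - n / 2; omega)
      have e2 : (⟨n / 2 - 2 + 1, by omega⟩ : Fin n) = ⟨n / 2 - 1, by omega⟩ :=
        Fin.ext (by show n / 2 - 2 + 1 = n / 2 - 1; omega)
      rw [e1, cox_wrap hn, e2] at h2
      exact h2
    exact P0_symm (heven _) (heven _) (by
      intro e
      have h2 := congrArg Fin.val e
      rw [Fin.val_rev] at h2
      simp only [i0] at h2
      omega) h1
  have ha := D.v_iso (i0_ne_rev hn)
  -- chain B
  have hC : ∀ j : ℕ, ∀ hj : j + 1 < n / 2, ∀ β : K,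
      sg q (D.v (i0 hn)) (β • D.v ⟨n - 2 - j, by omega⟩) 0 ∈ M := by
    intro j
    induction j with
    | zero => intro _; exact hP
    | succ j ih =>
      intro hj β
      -- indices: `a = j + 1`, `b = n - 2 - j`, `b' = n - 2 - (j + 1)`
      have hva := D.v_iso (heven ⟨j + 1, by omega⟩)
      have hb'a : hermForm n K q (D.v ⟨n - 2 - (j + 1), by omega⟩) (D.v ⟨j + 1, by omega⟩) = 0 := by
        rw [D.gram_nat, if_neg (by omega)]
      have hvb' := D.v_iso (heven ⟨n - 2 - (j + 1), by omega⟩)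
      have hvb := D.v_iso (heven ⟨n - 2 - j, by omega⟩)
      have hc0 : (0 : K) + 0 ^ q + hermForm n K q (D.v ⟨n - 2 - (j + 1), by omega⟩)
          (D.v ⟨n - 2 - (j + 1), by omega⟩) = 0 := adm_zero hvb'
      have hg : sg q (D.v ⟨j + 1, by omega⟩) (D.v ⟨n - 2 - (j + 1), by omega⟩) 0 ∈ M := by
        have := hA (j + 1) hj 1
        rw [one_smul] at this
        exact this
      have h0a : hermForm n K q (D.v (i0 hn)) (D.v ⟨j + 1, by omega⟩) = 0 := by
        unfold i0
        rw [D.gram_nat, if_neg (by omega)]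
      have h0b' : hermForm n K q (D.v (i0 hn)) (D.v ⟨n - 2 - (j + 1), by omega⟩) = 0 := by
        unfold i0
        rw [D.gram_nat, if_neg (by omega)]
      have h0b : hermForm n K q (D.v (i0 hn)) (D.v ⟨n - 2 - j, by omega⟩) = 0 := by
        unfold i0
        rw [D.gram_nat, if_neg (by omega)]
      have hfix : mt (sg q (D.v ⟨j + 1, by omega⟩) (D.v ⟨n - 2 - (j + 1), by omega⟩) 0) *ᵥ
          D.v (i0 hn) = D.v (i0 hn) := sg_fix hva hb'a hc0 h0a h0b'
      have hba : hermForm n K q (D.v ⟨n - 2 - j, by omega⟩) (D.v ⟨j + 1, by omega⟩) = 1 := by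
        rw [D.gram_nat, if_pos (by omega)]
      have hbb' : hermForm n K q (D.v ⟨n - 2 - j, by omega⟩)
          (D.v ⟨n - 2 - (j + 1), by omega⟩) = 0 := by
        rw [D.gram_nat, if_neg (by omega)]
      have hmove : mt (sg q (D.v ⟨j + 1, by omega⟩) (D.v ⟨n - 2 - (j + 1), by omega⟩) 0) *ᵥ
          D.v ⟨n - 2 - j, by omega⟩
          = D.v ⟨n - 2 - j, by omega⟩ + D.v ⟨n - 2 - (j + 1), by omega⟩ := by
        rw [sg_mulVec hva hb'a hc0, hba, hbb']
        simp only [zero_smul, add_zero, sub_zero, one_smul]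
      -- the conjugate
      have hb0 : hermForm n K q (β • D.v ⟨n - 2 - j, by omega⟩) (D.v (i0 hn)) = 0 := by
        rw [hermForm_smul_left, h_eq_zero_of_swap h0b, mul_zero]
      have hbb0 : (0 : K) + 0 ^ q + hermForm n K q (β • D.v ⟨n - 2 - j, by omega⟩)
          (β • D.v ⟨n - 2 - j, by omega⟩) = 0 := by
        apply adm_zero
        rw [hermForm_smul_left, hermForm_smul_right, hvb, mul_zero, mul_zero]
      have h1 : sg q (D.v ⟨j + 1, by omega⟩) (D.v ⟨n - 2 - (j + 1), by omega⟩) 0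
          * sg q (D.v (i0 hn)) (β • D.v ⟨n - 2 - j, by omega⟩) 0
          * (sg q (D.v ⟨j + 1, by omega⟩) (D.v ⟨n - 2 - (j + 1), by omega⟩) 0)⁻¹ ∈ M :=
        M.mul_mem (M.mul_mem hg (ih (by omega) β)) (M.inv_mem hg)
      rw [conj_sg _ ha hb0 hbb0, hfix, mulVec_smul, hmove] at h1
      -- divide by the old element
      have h2 := ih (by omega) (-β)
      have hb1 : hermForm n K q (β • (D.v ⟨n - 2 - j, by omega⟩
          + D.v ⟨n - 2 - (j + 1), by omega⟩)) (D.v (i0 hn)) = 0 := by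
        rw [hermForm_smul_left, hermForm_add_left, h_eq_zero_of_swap h0b,
          h_eq_zero_of_swap h0b', add_zero, mul_zero]
      have hb2 : hermForm n K q (-β • D.v ⟨n - 2 - j, by omega⟩) (D.v (i0 hn)) = 0 := by
        rw [hermForm_smul_left, h_eq_zero_of_swap h0b, mul_zero]
      have hb'b : hermForm n K q (D.v ⟨n - 2 - (j + 1), by omega⟩)
          (D.v ⟨n - 2 - j, by omega⟩) = 0 := h_eq_zero_of_swap hbb'
      have hc1 : (0 : K) + 0 ^ q + hermForm n K q (β • (D.v ⟨n - 2 - j, by omega⟩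
          + D.v ⟨n - 2 - (j + 1), by omega⟩)) (β • (D.v ⟨n - 2 - j, by omega⟩
          + D.v ⟨n - 2 - (j + 1), by omega⟩)) = 0 := by
        apply adm_zero
        rw [hermForm_smul_left, hermForm_smul_right, hermForm_add_left, h_add_right, h_add_right,
          hvb, hvb', hbb', hb'b]
        ring
      have hc2 : (0 : K) + 0 ^ q + hermForm n K q (-β • D.v ⟨n - 2 - j, by omega⟩)
          (-β • D.v ⟨n - 2 - j, by omega⟩) = 0 := by
        apply adm_zero
        rw [hermForm_smul_left, hermForm_smul_right, hvb, mul_zero, mul_zero]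
      have h3 := M.mul_mem h1 h2
      rw [sg_mul ha hb1 hb2 hc1 hc2] at h3
      have e1 : β • (D.v ⟨n - 2 - j, by omega⟩ + D.v ⟨n - 2 - (j + 1), by omega⟩)
          + -β • D.v ⟨n - 2 - j, by omega⟩ = β • D.v ⟨n - 2 - (j + 1), by omega⟩ := by
        rw [smul_add, neg_smul]
        abel
      have e2 : (0 : K) + 0 - hermForm n K q (-β • D.v ⟨n - 2 - j, by omega⟩)
          (β • (D.v ⟨n - 2 - j, by omega⟩ + D.v ⟨n - 2 - (j + 1), by omega⟩)) = 0 := by
        rw [hermForm_smul_left, hermForm_smul_right, h_add_right, hvb, hbb']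
        ring
      rw [e1, e2] at h3
      exact h3
  -- the transvections along the first frame vector
  have hF : Full M (D.v (i0 hn)) := by
    intro s hs
    obtain ⟨β, hβ⟩ := exists_sub_pow_eq hs
    have h1 := hC (n / 2 - 2) (by omega) β
    have h2 := hB 1
    have e1 : (⟨n - 2 - (n / 2 - 2), by omega⟩ : Fin n) = ⟨n - n / 2, by omega⟩ :=
      Fin.ext (by show n - 2 - (n / 2 - 2) = n - n / 2; omega)
    rw [e1] at h1
    rw [one_smul] at h2
    have hv1 := D.v_iso (heven ⟨n - n / 2, by omega⟩)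
    have hv2 := D.v_iso (heven ⟨n / 2 - 1, by omega⟩)
    have h01 : hermForm n K q (D.v (i0 hn)) (D.v ⟨n - n / 2, by omega⟩) = 0 := by
      unfold i0
      rw [D.gram_nat, if_neg (by omega)]
    have h02 : hermForm n K q (D.v (i0 hn)) (D.v ⟨n / 2 - 1, by omega⟩) = 0 := by
      unfold i0
      rw [D.gram_nat, if_neg (by omega)]
    have hb1 : hermForm n K q (β • D.v ⟨n - n / 2, by omega⟩) (D.v (i0 hn)) = 0 := by
      rw [hermForm_smul_left, h_eq_zero_of_swap h01, mul_zero]
    have hc1 : (0 : K) + 0 ^ q + hermForm n K q (β • D.v ⟨n - n / 2, by omega⟩)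
        (β • D.v ⟨n - n / 2, by omega⟩) = 0 := by
      apply adm_zero
      rw [hermForm_smul_left, hermForm_smul_right, hv1, mul_zero, mul_zero]
    have h3 := TU_mem_of_sg_mem ha hb1 (h_eq_zero_of_swap h02) hc1 (adm_zero hv2) h1 h2
    have e : hermForm n K q (β • D.v ⟨n - n / 2, by omega⟩) (D.v ⟨n / 2 - 1, by omega⟩)
        - hermForm n K q (D.v ⟨n / 2 - 1, by omega⟩) (β • D.v ⟨n - n / 2, by omega⟩) = s := by
      rw [hermForm_smul_left, hermForm_smul_right, D.gram_nat, D.gram_nat, if_pos (by omega),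
        if_pos (by omega), mul_one, mul_one, hβ]
    rw [e] at h3
    exact h3
  -- all frame vectors
  have hFall : ∀ i : Fin n, Full M (D.v i) := by
    intro i
    refine cox_induction hn (fun i => Full M (D.v i)) hF ?_ i (heven i)
    intro j ih
    exact X.Full_step hcc (heven j) ih
  apply X.top_of_QV0 h32 hcc
  apply QV0_of_lines hF
  intro k hk β
  by_cases hk0 : k = i0 hn
  · rw [hk0]
    exact QF_self_smul ha hF β
  have hkv : (k : ℕ) ≠ 0 := fun e => hk0 (Fin.ext e)
  have hkn : (k : ℕ) ≠ n - 1 := by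
    intro e
    apply hk
    apply Fin.ext
    rw [Fin.val_rev]
    simp only [i0]
    omega
  have hkl := k.2
  -- the upper half
  have hup : ∀ j : ℕ, ∀ hj : j + 1 < n / 2, ∀ β : K,
      QF M (D.v (i0 hn)) (β • D.v ⟨n - 2 - j, by omega⟩) := by
    intro j hj β
    have hvb := D.v_iso (heven ⟨n - 2 - j, by omega⟩)
    have h0b : hermForm n K q (D.v (i0 hn)) (D.v ⟨n - 2 - j, by omega⟩) = 0 := by
      unfold i0
      rw [D.gram_nat, if_neg (by omega)]
    have hb0 : hermForm n K q (β • D.v ⟨n - 2 - j, by omega⟩) (D.v (i0 hn)) = 0 := by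
      rw [hermForm_smul_left, h_eq_zero_of_swap h0b, mul_zero]
    have hbb0 : (0 : K) + 0 ^ q + hermForm n K q (β • D.v ⟨n - 2 - j, by omega⟩)
        (β • D.v ⟨n - 2 - j, by omega⟩) = 0 := by
      apply adm_zero
      rw [hermForm_smul_left, hermForm_smul_right, hvb, mul_zero, mul_zero]
    exact QF_of_mem ha hb0 hF hbb0 (hC j hj β)
  rcases Nat.lt_or_ge (k : ℕ) (n / 2) with hlt | hge
  · -- the lower half: a transvection
    obtain ⟨ε, hε0, hε⟩ := exists_tz_ne_zero (F := K) (q := q)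
    have hjk : (k : ℕ) - 1 + 1 < n / 2 := by omega
    have hvk := D.v_iso (heven k)
    have hg : TU q (D.v k) ε ∈ M := hFall k ε hε
    have h0k : hermForm n K q (D.v (i0 hn)) (D.v k) = 0 := by
      rw [D.gram', if_neg]
      intro e
      apply hk
      rw [e, Fin.rev_rev]
    have hfix : mt (TU q (D.v k) ε) *ᵥ D.v (i0 hn) = D.v (i0 hn) := by
      rw [TU_mulVec hvk hε, h0k, mul_zero, zero_smul, add_zero]
    have hkk : hermForm n K q (D.v ⟨n - 2 - ((k : ℕ) - 1), by omega⟩) (D.v k) = 1 := by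
      have h := D.gram_nat (show n - 2 - ((k : ℕ) - 1) < n by omega) k.2
      rw [if_pos (by omega)] at h
      exact h
    have hmove : mt (TU q (D.v k) ε) *ᵥ D.v ⟨n - 2 - ((k : ℕ) - 1), by omega⟩
        = D.v ⟨n - 2 - ((k : ℕ) - 1), by omega⟩ + ε • D.v k := by
      rw [TU_mulVec hvk hε, hkk, mul_one]
    have h0b : hermForm n K q (D.v (i0 hn)) (D.v ⟨n - 2 - ((k : ℕ) - 1), by omega⟩) = 0 := by
      unfold i0
      rw [D.gram_nat, if_neg (by omega)]
    have hb0 : hermForm n K q ((β / ε) • D.v ⟨n - 2 - ((k : ℕ) - 1), by omega⟩)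
        (D.v (i0 hn)) = 0 := by
      rw [hermForm_smul_left, h_eq_zero_of_swap h0b, mul_zero]
    have h1 := QF_conj ha hb0 hg (hup ((k : ℕ) - 1) hjk (β / ε))
    rw [hfix, mulVec_smul, hmove] at h1
    have hb1 : hermForm n K q ((β / ε) • (D.v ⟨n - 2 - ((k : ℕ) - 1), by omega⟩ + ε • D.v k))
        (D.v (i0 hn)) = 0 := by
      rw [hermForm_smul_left, hermForm_add_left, hermForm_smul_left, h_eq_zero_of_swap h0b,
        h_eq_zero_of_swap h0k, mul_zero, add_zero, mul_zero]
    have h2 := QF_sub ha hb1 hb0 hF h1 (hup ((k : ℕ) - 1) hjk (β / ε))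
    have e : (β / ε) • (D.v ⟨n - 2 - ((k : ℕ) - 1), by omega⟩ + ε • D.v k)
        - (β / ε) • D.v ⟨n - 2 - ((k : ℕ) - 1), by omega⟩ = β • D.v k := by
      rw [smul_add, smul_smul, div_mul_cancel₀ _ hε0]
      abel
    rw [e] at h2
    exact h2
  · -- the upper half
    have h1 := hup (n - 2 - (k : ℕ)) (by omega) β
    have e : (⟨n - 2 - (n - 2 - (k : ℕ)), by omega⟩ : Fin n) = k :=
      Fin.ext (by show n - 2 - (n - 2 - (k : ℕ)) = k; omega)
    rw [e] at h1
    exact h1

end Cfsg.Agent.Helper1.SUTwo
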