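import Mathlib
import Cfsg.Agent.Helper1.SUTwoB
import Cfsg.Agent.Helper1.SUTwoE

set_option autoImplicit false
set_option linter.unusedSectionVars false

/-! Two-generation of `SU_n(q)`: the first phase, from a torus element and the product of a root
element with a Coxeter-type element to a root group (helper1). -/

namespace Cfsg.Agent.Helper1.SUTwo

open Matrix Cfsg Cfsg.Agent.Helper7.Herm Cfsg.Agent.Helper8.GUOrder Cfsg.Agent.Helper8.SURoot
  Cfsg.Agent.Helper8.AutSU Cfsg.Agent.Helper7.SUGen Cfsg.Agent.Helper7.SUMax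
  Cfsg.Agent.Helper7.SUPair Cfsg.Agent.Helper1.SUJ

/-- the group-theoretic identity behind the first phase. -/
theorem grp_aux {G : Type*} [Group G] (t t₁ x c : G) (h1 : t₁ = c * t * c⁻¹)
    (hc : t * t₁ = t₁ * t) :
    t * ((x * c) * t * (x * c)⁻¹) * t⁻¹ * ((x * c) * t * (x * c)⁻¹)⁻¹
      = (t * (x * (t₁ * x⁻¹ * t₁⁻¹)) * t⁻¹) * (x * (t₁ * x⁻¹ * t₁⁻¹))⁻¹ := by
  have e1 : (x * c) * t * (x * c)⁻¹ = (x * (t₁ * x⁻¹ * t₁⁻¹)) * t₁ := by
    rw [h1]
    group
  have e2 : t₁ * t⁻¹ * t₁⁻¹ = t⁻¹ := by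
    have h2 : t₁ * t⁻¹ = t⁻¹ * t₁ := by
      calc t₁ * t⁻¹ = t⁻¹ * (t * t₁) * t⁻¹ := by group
        _ = t⁻¹ * (t₁ * t) * t⁻¹ := by rw [hc]
        _ = t⁻¹ * t₁ := by group
    rw [h2]
    group
  rw [e1]
  calc t * (x * (t₁ * x⁻¹ * t₁⁻¹) * t₁) * t⁻¹ * (x * (t₁ * x⁻¹ * t₁⁻¹) * t₁)⁻¹
      = t * (x * (t₁ * x⁻¹ * t₁⁻¹)) * (t₁ * t⁻¹ * t₁⁻¹) * (x * (t₁ * x⁻¹ * t₁⁻¹))⁻¹ := by group
    _ = _ := by rw [e2]

variable {K : Type*} [Field K] [Fintype K] [StarRing K] {q n : ℕ}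
  [hK : Fact (Fintype.card K = q ^ 2)]

omit [Fintype K] hK [StarRing K] in
theorem mulVec_finset_sum' {ι : Type*} (s : Finset ι) (A : Matrix (Fin n) (Fin n) K)
    (f : ι → (Fin n → K)) : A *ᵥ (∑ i ∈ s, f i) = ∑ i ∈ s, A *ᵥ f i := by
  classical
  induction s using Finset.induction_on with
  | empty => rw [Finset.sum_empty, Finset.sum_empty, mulVec_zero]
  | insert a s ha ih => rw [Finset.sum_insert ha, Finset.sum_insert ha, mulVec_add, ih]

/-- an element of `SU` is determined by its action on the frame. -/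
theorem WittData.ext_frame (D : WittData K q n) {g g' : SU n K q}
    (h : ∀ i, mt g *ᵥ D.v i = mt g' *ᵥ D.v i) : g = g' := by
  apply ext_mulVec
  intro y
  rw [D.expand y, mulVec_finset_sum', mulVec_finset_sum']
  apply Finset.sum_congr rfl
  intro i _
  rw [mulVec_smul, mulVec_smul, h]

/-- a torus element on the frame. -/
structure TorData (D : WittData K q n) where
  hh : SU n K q
  d : Fin n → K
  hd : ∀ i, d i ≠ 0
  hhv : ∀ i, mt hh *ᵥ D.v i = d i • D.v i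

variable {D : WittData K q n} {hn : 3 ≤ n} (X : CoxData D hn) (T : TorData D)
  {M : Subgroup (SU n K q)}

/-- the conjugate torus element. -/
def hh1 : SU n K q := X.cc * T.hh * X.cc⁻¹

theorem hh1_v (k : Fin n) : mt (hh1 X T) *ᵥ D.v (cox hn k) = T.d k • D.v (cox hn k) := by
  have h1 : mt X.cc⁻¹ *ᵥ D.v (cox hn k) = (X.γ k)⁻¹ • D.v k := by
    have h2 : mt X.cc⁻¹ *ᵥ (mt X.cc *ᵥ D.v k) = D.v k := mt_inv_mulVec' X.cc _
    rw [X.hcc, mulVec_smul] at h2
    rw [← h2, smul_smul, inv_mul_cancel₀ (X.hγ k), one_smul]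
  unfold hh1
  rw [mt_mul_mulVec, mt_mul_mulVec, h1, mulVec_smul, T.hhv, mulVec_smul, mulVec_smul, X.hcc,
    smul_smul, smul_smul]
  congr 1
  field_simp [X.hγ k]

theorem hh1_v' (i : Fin n) :
    mt (hh1 X T) *ᵥ D.v i = T.d ((cox hn).symm i) • D.v i := by
  have := hh1_v X T ((cox hn).symm i)
  rw [Equiv.apply_symm_apply] at this
  exact this

theorem hh_comm : T.hh * hh1 X T = hh1 X T * T.hh := by
  apply D.ext_frame
  intro i
  rw [mt_mul_mulVec, mt_mul_mulVec, hh1_v', T.hhv, mulVec_smul, mulVec_smul, T.hhv, hh1_v',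
    smul_smul, smul_smul, mul_comm]

omit hn X in
/-- conjugating a Siegel element along frame vectors by an element diagonal on the frame. -/
theorem conj_diag {t : SU n K q} {i j : Fin n} {t₀ t₁ : K} (hi : i ≠ i.rev) (hij : j ≠ i.rev)
    (h0 : mt t *ᵥ D.v i = t₀ • D.v i) (h1 : mt t *ᵥ D.v j = t₁ • D.v j) {κ c : K}
    (hc : c + c ^ q + hermForm n K q (κ • D.v j) (κ • D.v j) = 0) :
    t * sg q (D.v i) (κ • D.v j) c * t⁻¹
      = sg q (D.v i) ((t₀ ^ q * t₁ * κ) • D.v j) (c * (t₀ * t₀ ^ q)) := by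
  have ha := D.v_iso hi
  have hba : hermForm n K q (κ • D.v j) (D.v i) = 0 := by
    rw [hermForm_smul_left, D.gram', if_neg hij, mul_zero]
  rw [conj_sg t ha hba hc, h0, mulVec_smul, h1]
  have hba' : hermForm n K q (κ • t₁ • D.v j) (D.v i) = 0 := by
    rw [hermForm_smul_left, hermForm_smul_left, D.gram', if_neg hij, mul_zero, mul_zero]
  have hc' : c + c ^ q + hermForm n K q (κ • t₁ • D.v j) (κ • t₁ • D.v j) = 0 := by
    have h2 : κ • t₁ • D.v j = mt t *ᵥ (κ • D.v j) := by rw [mulVec_smul, h1]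
    rw [h2, herm_mt]
    exact hc
  rw [sg_smul_left ha hba' hc', smul_smul, smul_smul]
  congr 2
  ring

end Cfsg.Agent.Helper1.SUTwo
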