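import Mathlib
import Cfsg.Agent.Helper1.SUTwoH

set_option autoImplicit false
set_option linter.unusedSectionVars false

/-! Two-generation of `SU_n(q)`: the first phase in even dimension (helper1). -/

namespace Cfsg.Agent.Helper1.SUTwo

open Matrix Cfsg Cfsg.Agent.Helper7.Herm Cfsg.Agent.Helper8.GUOrder Cfsg.Agent.Helper8.SURoot
  Cfsg.Agent.Helper8.AutSU Cfsg.Agent.Helper7.SUGen Cfsg.Agent.Helper7.SUMax
  Cfsg.Agent.Helper7.SUPair Cfsg.Agent.Helper1.SUJ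

variable {K : Type*} [Field K] [Fintype K] [StarRing K] {q n : ℕ}
  [hK : Fact (Fintype.card K = q ^ 2)]

variable {D : WittData K q n}

section rootgroup

variable {i j : Fin n} (hi : i ≠ i.rev) (hj : j ≠ j.rev) (hij : j ≠ i.rev)

include hj in
theorem adm0 (κ : K) : (0 : K) + 0 ^ q + hermForm n K q (κ • D.v j) (κ • D.v j) = 0 := by
  apply adm_zero
  rw [hermForm_smul_left, hermForm_smul_right, D.v_iso hj, mul_zero, mul_zero]

include hij in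
theorem perp0 (κ : K) : hermForm n K q (κ • D.v j) (D.v i) = 0 := by
  rw [hermForm_smul_left, D.gram', if_neg hij, mul_zero]

include hi hj hij in
theorem R0_mul (κ κ' : K) :
    sg q (D.v i) (κ • D.v j) 0 * sg q (D.v i) (κ' • D.v j) 0
      = sg q (D.v i) ((κ + κ') • D.v j) 0 := by
  rw [sg_mul (D.v_iso hi) (perp0 hij κ) (perp0 hij κ') (adm0 hj κ) (adm0 hj κ'), ← add_smul]
  congr 1
  rw [hermForm_smul_left, hermForm_smul_right, D.v_iso hj]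
  ring

include hi hj hij in
theorem R0_inv (κ : K) :
    (sg q (D.v i) (κ • D.v j) 0)⁻¹ = sg q (D.v i) ((-κ) • D.v j) 0 := by
  rw [sg_inv (D.v_iso hi) (perp0 hij κ) (adm0 hj κ), b_zero, neg_smul]

include hi hj hij in
theorem R0_conj {t : SU n K q} {t₀ t₁ : K} (h0 : mt t *ᵥ D.v i = t₀ • D.v i)
    (h1 : mt t *ᵥ D.v j = t₁ • D.v j) (κ : K) :
    t * sg q (D.v i) (κ • D.v j) 0 * t⁻¹ = sg q (D.v i) ((t₀ ^ q * t₁ * κ) • D.v j) 0 := by
  rw [conj_diag hi hij h0 h1 (adm0 hj κ), zero_mul]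

variable (D) in
/-- the parameters of the root elements lying in a subgroup. -/
def S0 (M : Subgroup (SU n K q)) : AddSubgroup K where
  carrier := {κ | sg q (D.v i) (κ • D.v j) 0 ∈ M}
  zero_mem' := by
    show sg q (D.v i) ((0 : K) • D.v j) 0 ∈ M
    rw [zero_smul, sg_zero (D.v_iso hi)]
    exact M.one_mem
  add_mem' := by
    intro κ κ' h1 h2
    show sg q (D.v i) ((κ + κ') • D.v j) 0 ∈ M
    rw [← R0_mul hi hj hij]
    exact M.mul_mem h1 h2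
  neg_mem' := by
    intro κ h1
    show sg q (D.v i) ((-κ) • D.v j) 0 ∈ M
    rw [← R0_inv hi hj hij]
    exact M.inv_mem h1

theorem mem_S0 {M : Subgroup (SU n K q)} {κ : K} :
    κ ∈ S0 D hi hj hij M ↔ sg q (D.v i) (κ • D.v j) 0 ∈ M := Iff.rfl

end rootgroup

variable {hn : 3 ≤ n} (X : CoxData D hn) (T : TorData D) {M : Subgroup (SU n K q)}

/-- **The first phase, even dimension.** -/
theorem phase_even {j k₀ k₁ : Fin n} (hj : j ≠ j.rev) (hij : j ≠ (i0 hn).rev)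
    (hk₀ : cox hn k₀ = i0 hn) (hk₁ : cox hn k₁ = j)
    (hχ : q ≤ orderOf ((T.d (i0 hn)) ^ q * T.d j)) (hχ₁ : (T.d k₀) ^ q * T.d k₁ ≠ 1)
    {θ : K} (hθ : θ ≠ 0) (hM1 : T.hh ∈ M)
    (hM2 : sg q (D.v (i0 hn)) (θ • D.v j) 0 * X.cc ∈ M) :
    X.cc ∈ M ∧ ∀ κ : K, sg q (D.v (i0 hn)) (κ • D.v j) 0 ∈ M := by
  have hi := i0_ne_rev hn
  have hq2 : 2 ≤ q := two_le_q hK.out
  set χ : K := (T.d (i0 hn)) ^ q * T.d j with hχdef
  set χ₁ : K := (T.d k₀) ^ q * T.d k₁ with hχ₁def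
  have hχ1 : χ ≠ 1 := by
    intro h
    rw [h, orderOf_one] at hχ
    omega
  -- the element of the root group
  have hz : sg q (D.v (i0 hn)) (((χ - 1) * (1 - χ₁) * θ) • D.v j) 0 ∈ M := by
    have hg : T.hh * ((sg q (D.v (i0 hn)) (θ • D.v j) 0 * X.cc) * T.hh
        * (sg q (D.v (i0 hn)) (θ • D.v j) 0 * X.cc)⁻¹) * T.hh⁻¹
        * ((sg q (D.v (i0 hn)) (θ • D.v j) 0 * X.cc) * T.hh
        * (sg q (D.v (i0 hn)) (θ • D.v j) 0 * X.cc)⁻¹)⁻¹ ∈ M := by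
      have h1 : (sg q (D.v (i0 hn)) (θ • D.v j) 0 * X.cc) * T.hh
          * (sg q (D.v (i0 hn)) (θ • D.v j) 0 * X.cc)⁻¹ ∈ M :=
        M.mul_mem (M.mul_mem hM2 hM1) (M.inv_mem hM2)
      exact M.mul_mem (M.mul_mem (M.mul_mem hM1 h1) (M.inv_mem hM1)) (M.inv_mem h1)
    rw [grp_aux T.hh (hh1 X T) _ X.cc rfl (hh_comm X T)] at hg
    have e0 : mt (hh1 X T) *ᵥ D.v (i0 hn) = T.d k₀ • D.v (i0 hn) := by
      have := hh1_v X T k₀
      rw [hk₀] at this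
      exact this
    have e1 : mt (hh1 X T) *ᵥ D.v j = T.d k₁ • D.v j := by
      have := hh1_v X T k₁
      rw [hk₁] at this
      exact this
    rw [R0_inv hi hj hij, R0_conj hi hj hij e0 e1, R0_mul hi hj hij,
      R0_conj hi hj hij (T.hhv _) (T.hhv _), R0_inv hi hj hij, R0_mul hi hj hij] at hg
    have e : (T.d (i0 hn)) ^ q * T.d j * (θ + (T.d k₀) ^ q * T.d k₁ * -θ)
        + -(θ + (T.d k₀) ^ q * T.d k₁ * -θ) = (χ - 1) * (1 - χ₁) * θ := by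
      rw [hχdef, hχ₁def]
      ring
    rw [e] at hg
    exact hg
  -- the subfield lemma
  have hne : (χ - 1) * (1 - χ₁) * θ ≠ 0 :=
    mul_ne_zero (mul_ne_zero (sub_ne_zero.mpr hχ1) (sub_ne_zero.mpr (Ne.symm hχ₁))) hθ
  have hclosed : ∀ s ∈ S0 D hi hj hij M, χ * s ∈ S0 D hi hj hij M := by
    intro s hs
    rw [mem_S0] at hs ⊢
    have h1 : T.hh * sg q (D.v (i0 hn)) (s • D.v j) 0 * T.hh⁻¹ ∈ M :=
      M.mul_mem (M.mul_mem hM1 hs) (M.inv_mem hM1)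
    rw [R0_conj hi hj hij (T.hhv _) (T.hhv _)] at h1
    exact h1
  have hall : ∀ κ : K, sg q (D.v (i0 hn)) (κ • D.v j) 0 ∈ M := fun κ =>
    mem_of_mul_closed hK.out (S0 D hi hj hij M) χ hclosed ((mem_S0 hi hj hij).mpr hz) hne hχ κ
  refine ⟨?_, hall⟩
  have h1 := M.mul_mem (M.inv_mem (hall θ)) hM2
  rw [inv_mul_cancel_left] at h1
  exact h1

end Cfsg.Agent.Helper1.SUTwo
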