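import Mathlib
import Cfsg.Agent.Helper1.SUTwoH

set_option autoImplicit false
set_option linter.unusedSectionVars false

/-! Two-generation of `SU_n(q)`: the first phase in odd dimension (helper1). -/

namespace Cfsg.Agent.Helper1.SUTwo

open Matrix Cfsg Cfsg.Agent.Helper7.Herm Cfsg.Agent.Helper8.GUOrder Cfsg.Agent.Helper8.SURoot
  Cfsg.Agent.Helper8.AutSU Cfsg.Agent.Helper7.SUGen Cfsg.Agent.Helper7.SUMax
  Cfsg.Agent.Helper7.SUPair Cfsg.Agent.Helper1.SUJ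

variable {K : Type*} [Field K] [Fintype K] [StarRing K] {q n : ℕ}
  [hK : Fact (Fintype.card K = q ^ 2)]

variable {D : WittData K q n}

section rootgroup

variable {i j : Fin n}

variable (D) in
/-- an element of the root group with first parameter `κ`. -/
def IsR (i j : Fin n) (g : SU n K q) (κ : K) : Prop :=
  ∃ c : K, c + c ^ q + hermForm n K q (κ • D.v j) (κ • D.v j) = 0 ∧
    g = sg q (D.v i) (κ • D.v j) c

variable (hi : i ≠ i.rev) (hij : j ≠ i.rev)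

include hij in
theorem perp1 (κ : K) : hermForm n K q (κ • D.v j) (D.v i) = 0 := by
  rw [hermForm_smul_left, D.gram', if_neg hij, mul_zero]

include hi hij in
theorem IsR.mul {g g' : SU n K q} {κ κ' : K} (h : IsR D i j g κ) (h' : IsR D i j g' κ') :
    IsR D i j (g * g') (κ + κ') := by
  obtain ⟨c, hc, rfl⟩ := h
  obtain ⟨c', hc', rfl⟩ := h'
  refine ⟨c + c' - hermForm n K q (κ' • D.v j) (κ • D.v j), ?_, ?_⟩
  · have := sg_mul_aux hc hc'
    rw [← add_smul] at this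
    exact this
  · rw [sg_mul (D.v_iso hi) (perp1 hij κ) (perp1 hij κ') hc hc', ← add_smul]

include hi hij in
theorem IsR.inv {g : SU n K q} {κ : K} (h : IsR D i j g κ) : IsR D i j g⁻¹ (-κ) := by
  obtain ⟨c, hc, rfl⟩ := h
  refine ⟨c ^ q, ?_, ?_⟩
  · have := adm_neg hc
    rw [← neg_smul] at this
    exact this
  · rw [sg_inv (D.v_iso hi) (perp1 hij κ) hc, neg_smul]

include hi hij in
theorem IsR.conj {g : SU n K q} {κ : K} (h : IsR D i j g κ) {t : SU n K q} {t₀ t₁ : K}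
    (h0 : mt t *ᵥ D.v i = t₀ • D.v i) (h1 : mt t *ᵥ D.v j = t₁ • D.v j) :
    IsR D i j (t * g * t⁻¹) (t₀ ^ q * t₁ * κ) := by
  obtain ⟨c, hc, rfl⟩ := h
  refine ⟨c * (t₀ * t₀ ^ q), ?_, conj_diag hi hij h0 h1 hc⟩
  have h2 : t₁ * t₁ ^ q * hermForm n K q (D.v j) (D.v j) = hermForm n K q (D.v j) (D.v j) := by
    have := herm_mt t (D.v j) (D.v j)
    rw [h1, hermForm_smul_left, hermForm_smul_right] at this
    linear_combination this
  rw [hermForm_smul_left, hermForm_smul_right] at hc ⊢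
  rw [mul_pow, mul_pow, mul_pow, mul_pow, bb]
  linear_combination (t₀ * t₀ ^ q) * hc + (t₀ * t₀ ^ q * κ * κ ^ q) * h2

variable (D) in
/-- the parameters of the root elements lying in a subgroup. -/
def S1 (M : Subgroup (SU n K q)) : AddSubgroup K where
  carrier := {κ | ∃ g ∈ M, IsR D i j g κ}
  zero_mem' := by
    refine ⟨1, M.one_mem, 0, ?_, ?_⟩
    · rw [zero_smul, hermForm_zero_left, b_zero, add_zero, add_zero]
    · rw [zero_smul, sg_zero (D.v_iso hi)]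
  add_mem' := by
    rintro κ κ' ⟨g, hg, h⟩ ⟨g', hg', h'⟩
    exact ⟨g * g', M.mul_mem hg hg', h.mul hi hij h'⟩
  neg_mem' := by
    rintro κ ⟨g, hg, h⟩
    exact ⟨g⁻¹, M.inv_mem hg, h.inv hi hij⟩

theorem mem_S1 {M : Subgroup (SU n K q)} {κ : K} :
    κ ∈ S1 D hi hij M ↔ ∃ g ∈ M, IsR D i j g κ := Iff.rfl

end rootgroup

variable {hn : 3 ≤ n} (X : CoxData D hn) (T : TorData D) {M : Subgroup (SU n K q)}

/-- **The first phase, odd dimension.** -/
theorem phase_odd {mid k₀ : Fin n} (hmid : mid = mid.rev) (hk₀ : cox hn k₀ = i0 hn)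
    (hχ : q ≤ orderOf ((T.d (i0 hn)) ^ q * T.d mid)) (hχ₁ : (T.d k₀) ^ q * T.d mid ≠ 1)
    {θ cθ : K} (hθ : θ ≠ 0)
    (hcθ : cθ + cθ ^ q + hermForm n K q (θ • D.v mid) (θ • D.v mid) = 0) (hM1 : T.hh ∈ M)
    (hM2 : sg q (D.v (i0 hn)) (θ • D.v mid) cθ * X.cc ∈ M) :
    X.cc ∈ M ∧ Full M (D.v (i0 hn)) ∧ ∀ κ : K, QF M (D.v (i0 hn)) (κ • D.v mid) := by
  have hi := i0_ne_rev hn
  have hij : mid ≠ (i0 hn).rev := by
    intro e
    apply hi
    have h1 : (i0 hn) = mid.rev := by rw [e, Fin.rev_rev]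
    rw [← hmid] at h1
    rw [h1]
    exact hmid
  have hq2 : 2 ≤ q := two_le_q hK.out
  have ha := D.v_iso hi
  have hmm : hermForm n K q (D.v mid) (D.v mid) = 1 := by rw [D.gram', if_pos hmid]
  set χ : K := (T.d (i0 hn)) ^ q * T.d mid with hχdef
  set χ₁ : K := (T.d k₀) ^ q * T.d mid with hχ₁def
  have hχ1 : χ ≠ 1 := by
    intro h
    rw [h, orderOf_one] at hχ
    omega
  have hx : IsR D (i0 hn) mid (sg q (D.v (i0 hn)) (θ • D.v mid) cθ) θ := ⟨cθ, hcθ, rfl⟩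
  -- the element of the root group
  have hz : ((χ - 1) * (1 - χ₁) * θ) ∈ S1 D hi hij M := by
    have hg : T.hh * ((sg q (D.v (i0 hn)) (θ • D.v mid) cθ * X.cc) * T.hh
        * (sg q (D.v (i0 hn)) (θ • D.v mid) cθ * X.cc)⁻¹) * T.hh⁻¹
        * ((sg q (D.v (i0 hn)) (θ • D.v mid) cθ * X.cc) * T.hh
        * (sg q (D.v (i0 hn)) (θ • D.v mid) cθ * X.cc)⁻¹)⁻¹ ∈ M := by
      have h1 : (sg q (D.v (i0 hn)) (θ • D.v mid) cθ * X.cc) * T.hh
          * (sg q (D.v (i0 hn)) (θ • D.v mid) cθ * X.cc)⁻¹ ∈ M :=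
        M.mul_mem (M.mul_mem hM2 hM1) (M.inv_mem hM2)
      exact M.mul_mem (M.mul_mem (M.mul_mem hM1 h1) (M.inv_mem hM1)) (M.inv_mem h1)
    rw [grp_aux T.hh (hh1 X T) _ X.cc rfl (hh_comm X T)] at hg
    have e0 : mt (hh1 X T) *ᵥ D.v (i0 hn) = T.d k₀ • D.v (i0 hn) := by
      have := hh1_v X T k₀
      rw [hk₀] at this
      exact this
    have e1 : mt (hh1 X T) *ᵥ D.v mid = T.d mid • D.v mid := by
      have := hh1_v X T mid
      rw [cox_mid hn hmid] at this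
      exact this
    have hr := hx.mul hi hij ((hx.inv hi hij).conj hi hij e0 e1)
    have hz := ((hr.conj hi hij (T.hhv _) (T.hhv _)).mul hi hij (hr.inv hi hij))
    have e : (T.d (i0 hn)) ^ q * T.d mid * (θ + (T.d k₀) ^ q * T.d mid * -θ)
        + -(θ + (T.d k₀) ^ q * T.d mid * -θ) = (χ - 1) * (1 - χ₁) * θ := by
      rw [hχdef, hχ₁def]
      ring
    rw [e] at hz
    exact ⟨_, hg, hz⟩
  -- the subfield lemma
  have hne : (χ - 1) * (1 - χ₁) * θ ≠ 0 :=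
    mul_ne_zero (mul_ne_zero (sub_ne_zero.mpr hχ1) (sub_ne_zero.mpr (Ne.symm hχ₁))) hθ
  have hclosed : ∀ s ∈ S1 D hi hij M, χ * s ∈ S1 D hi hij M := by
    rintro s ⟨g, hg, h⟩
    exact ⟨T.hh * g * T.hh⁻¹, M.mul_mem (M.mul_mem hM1 hg) (M.inv_mem hM1),
      h.conj hi hij (T.hhv _) (T.hhv _)⟩
  have hall : ∀ κ : K, κ ∈ S1 D hi hij M := fun κ =>
    mem_of_mul_closed hK.out (S1 D hi hij M) χ hclosed hz hne hχ κ
  -- the transvections
  have hF : Full M (D.v (i0 hn)) := by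
    intro s hs
    obtain ⟨β, hβ⟩ := exists_sub_pow_eq hs
    obtain ⟨g₁, hg₁, c₁, hc₁, rfl⟩ := hall β
    obtain ⟨g₂, hg₂, c₂, hc₂, rfl⟩ := hall 1
    have h3 := TU_mem_of_sg_mem ha (perp1 hij β) (perp1 hij 1) hc₁ hc₂ hg₁ hg₂
    have e : hermForm n K q (β • D.v mid) ((1 : K) • D.v mid)
        - hermForm n K q ((1 : K) • D.v mid) (β • D.v mid) = s := by
      rw [hermForm_smul_left, hermForm_smul_right, hermForm_smul_left, hermForm_smul_right, hmm,
        one_pow, mul_one, mul_one, mul_one, one_mul, hβ]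
    rw [e] at h3
    exact h3
  have hQ : ∀ κ : K, QF M (D.v (i0 hn)) (κ • D.v mid) := by
    intro κ
    obtain ⟨g, hg, c, hc, rfl⟩ := hall κ
    exact QF_of_mem ha (perp1 hij κ) hF hc hg
  refine ⟨?_, hF, hQ⟩
  have h1 := M.mul_mem (M.inv_mem (hQ θ cθ hcθ)) hM2
  rw [inv_mul_cancel_left] at h1
  exact h1

end Cfsg.Agent.Helper1.SUTwo
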