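import Mathlib
import Cfsg.Agent.Helper1.SUTwoB
import Cfsg.Agent.Helper8.GUOrder

set_option autoImplicit false
set_option linter.unusedSectionVars false

/-! Two-generation of `SU_n(q)`: a generator of the multiplicative group and the characters of the
torus element (helper1). -/

namespace Cfsg.Agent.Helper1.SUTwo

open Cfsg.Agent.Helper8.GUOrder

variable {F : Type*} [Field F] [Fintype F] {q : ℕ}

theorem exists_gen (hF : Fintype.card F = q ^ 2) : ∃ g : Fˣ, orderOf g = q ^ 2 - 1 := by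
  obtain ⟨g, hg⟩ := IsCyclic.exists_generator (α := Fˣ)
  refine ⟨g, ?_⟩
  rw [orderOf_eq_card_of_forall_mem_zpowers hg, card_units_K hF]

variable {g : Fˣ}

theorem val_pow_eq (g : Fˣ) (k : ℕ) : ((g ^ k : Fˣ) : F) = (g : F) ^ k :=
  Units.val_pow_eq_pow_val g k

/-- the character `g ^ q`. -/
theorem char1 (hF : Fintype.card F = q ^ 2) (hg : orderOf g = q ^ 2 - 1) :
    q ≤ orderOf ((g : F) ^ q) := by
  rw [← val_pow_eq, orderOf_units]
  exact le_orderOf_pow_q (two_le_q hF) hg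

/-- the character `g ^ q / g`. -/
theorem char2 (hF : Fintype.card F = q ^ 2) (hg : orderOf g = q ^ 2 - 1) :
    q ≤ orderOf ((g : F) ^ q * (g : F)⁻¹) := by
  have hq := two_le_q hF
  have e : (g : F) ^ q * (g : F)⁻¹ = ((g ^ (q - 1) : Fˣ) : F) := by
    rw [val_pow_eq, mul_inv_eq_iff_eq_mul₀ g.ne_zero, ← pow_succ]
    congr 1
    omega
  rw [e, orderOf_units]
  exact le_orderOf_pow_q_sub_one hq hg

/-- the character `g ^ (2 q) / g`. -/
theorem char3 (hq : 3 ≤ q) (hg : orderOf g = q ^ 2 - 1) :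
    q ≤ orderOf ((g : F) ^ q * ((g : F) ^ q * (g : F)⁻¹)) := by
  have e : (g : F) ^ q * ((g : F) ^ q * (g : F)⁻¹) = ((g ^ (2 * q - 1) : Fˣ) : F) := by
    rw [val_pow_eq, ← mul_assoc, mul_inv_eq_iff_eq_mul₀ g.ne_zero, ← pow_succ, ← pow_add]
    congr 1
    omega
  rw [e, orderOf_units]
  exact le_orderOf_pow_two_q_sub_one hq hg

theorem pow_ne_one_of_lt (hg : orderOf g = q ^ 2 - 1) {k : ℕ} (hk0 : 0 < k) (hk : k < q ^ 2 - 1) :
    (g : F) ^ k ≠ 1 := by
  intro h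
  have h1 : g ^ k = 1 := Units.ext (by rw [val_pow_eq, h]; rfl)
  have h2 := orderOf_dvd_of_pow_eq_one h1
  rw [hg] at h2
  have := Nat.le_of_dvd hk0 h2
  omega

/-- `g ^ q ≠ 1`. -/
theorem ne1 (hF : Fintype.card F = q ^ 2) (hg : orderOf g = q ^ 2 - 1) : (g : F) ^ q ≠ 1 := by
  have hq := two_le_q hF
  apply pow_ne_one_of_lt hg (by omega)
  have : q * 2 ≤ q * q := Nat.mul_le_mul_left q hq
  have : q ^ 2 = q * q := sq q
  omega

/-- `g ^ (2 q) ≠ 1`. -/
theorem ne2 (hF : Fintype.card F = q ^ 2) (hg : orderOf g = q ^ 2 - 1) :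
    (g : F) ^ (2 * q) ≠ 1 := by
  have hq := two_le_q hF
  intro h
  have h1 : g ^ (2 * q) = 1 := Units.ext (by rw [val_pow_eq, h]; rfl)
  have h2 := orderOf_dvd_of_pow_eq_one h1
  rw [hg] at h2
  rcases Nat.lt_or_ge q 3 with h3 | h3
  · have hq2 : q = 2 := by omega
    subst hq2
    norm_num at h2
  · have h4 := Nat.le_of_dvd (by omega) h2
    have : q * 3 ≤ q * q := Nat.mul_le_mul_left q h3
    have : q ^ 2 = q * q := sq q
    omega

/-- `g ^ q ≠ g ^ 2` for `q ≥ 3`. -/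
theorem ne3 (hq : 3 ≤ q) (hg : orderOf g = q ^ 2 - 1) : (g : F) ^ q ≠ (g : F) ^ 2 := by
  intro h
  have h1 : (g : F) ^ (q - 2) = 1 := by
    have h2 : (g : F) ^ (q - 2) * (g : F) ^ 2 = 1 * (g : F) ^ 2 := by
      rw [← pow_add, one_mul, ← h]
      congr 1
      omega
    exact mul_right_cancel₀ (pow_ne_zero 2 g.ne_zero) h2
  refine pow_ne_one_of_lt hg (k := q - 2) (by omega) ?_ h1
  have : q * 3 ≤ q * q := Nat.mul_le_mul_left q hq
  have : q ^ 2 = q * q := sq q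
  omega

end Cfsg.Agent.Helper1.SUTwo
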