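import Mathlib
import Cfsg.Agent.Helper1.SUTwoF
import Cfsg.Agent.Helper1.SUTwoG
import Cfsg.Agent.Helper1.SUTwoI
import Cfsg.Agent.Helper1.SUTwoJ
import Cfsg.Agent.Helper1.SUTwoK

set_option autoImplicit false
set_option linter.unusedSectionVars false

/-! Two-generation of `SU_n(q)`: the generators (helper1). -/

namespace Cfsg.Agent.Helper1.SUTwo

open Matrix Cfsg Cfsg.Agent.Helper7.Herm Cfsg.Agent.Helper8.GUOrder Cfsg.Agent.Helper8.SURoot
  Cfsg.Agent.Helper8.AutSU Cfsg.Agent.Helper7.SUGen Cfsg.Agent.Helper7.SUMax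
  Cfsg.Agent.Helper7.SUPair Cfsg.Agent.Helper1.SUJ Cfsg.Agent.Lead.SpBN

variable {F : Type*} [Field F] [Fintype F] [StarRing F] {q n : ℕ}
  [hK : Fact (Fintype.card F = q ^ 2)]

/-- the Coxeter data from the unitary group of the antidiagonal form. -/
theorem exists_coxData (D : WittData F q n) (hn : 3 ≤ n) : Nonempty (CoxData D hn) := by
  obtain ⟨τ₀, hτ0, hτ⟩ := Cfsg.Agent.Helper8.SUCenter.exists_trace_zero hK.out
  have hτ' : star τ₀ = -τ₀ := by
    rw [D.hstar]
    linear_combination hτ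
  obtain ⟨cU, hcU⟩ := exists_mono τ₀ hτ' hτ0 (cox hn) (cox_rev hn)
  exact ⟨⟨D.phi cU, fun i => cU.val (cox hn i) i, fun i => entry_ne_zero hcU i,
    fun i => D.phi_mono cU _ hcU i⟩⟩

/-- the torus data. -/
noncomputable def torData (D : WittData F q n) (a p : Fin n) (g : F) (hg : g ≠ 0) : TorData D :=
  ⟨D.phi (torus a p g hg), dfun a p g,
    fun i => right_ne_zero_of_mul_eq_one (dfun_unit a p hg i),
    fun i => D.phi_diag _ _ (torus_val a p g hg) i⟩

theorem torData_d (D : WittData F q n) (a p : Fin n) (g : F) (hg : g ≠ 0) :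
    (torData D a p g hg).d = dfun a p g := rfl

omit [Fintype F] hK in
/-- the diagonal entries, with natural number indices. -/
theorem dfun_nat {a b c : ℕ} (ha : a < n) (hb : b < n) (hc : c < n) (g : F) :
    dfun (⟨a, ha⟩ : Fin n) ⟨b, hb⟩ g ⟨c, hc⟩
      = (if c = a then g else 1) * (if c = b then star g else 1)
        * (if c = n - (b + 1) then g⁻¹ else 1) * (if c = n - (a + 1) then (star g)⁻¹ else 1) := by
  rw [dfun_apply]
  simp only [Fin.ext_iff, Fin.val_rev]

end Cfsg.Agent.Helper1.SUTwo
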