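import Mathlib
import Cfsg.Agent.Helper1.SUTwoL

set_option autoImplicit false
set_option linter.unusedSectionVars false

/-! Two-generation of `SU_n(q)`: the main theorem (helper1). -/

namespace Cfsg.Agent.Helper1.SUTwo

open Matrix Cfsg Cfsg.Agent.Helper7.Herm Cfsg.Agent.Helper8.GUOrder Cfsg.Agent.Helper8.SURoot
  Cfsg.Agent.Helper8.AutSU Cfsg.Agent.Helper7.SUGen Cfsg.Agent.Helper7.SUMax
  Cfsg.Agent.Helper7.SUPair Cfsg.Agent.Helper1.SUJ Cfsg.Agent.Lead.SpBN

section aux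

variable {F : Type*} [Field F] [Fintype F] [StarRing F] {q n : ℕ}
  [hK : Fact (Fintype.card F = q ^ 2)]

/-- odd dimension: the two generators. -/
theorem two_gen_odd_aux (D : WittData F q n) (hn : 3 ≤ n) (h32 : ¬ (n = 3 ∧ q = 2))
    (X : CoxData D hn) (T : TorData D) {mid k₀ : Fin n} (hmid : mid = mid.rev)
    (hk₀ : cox hn k₀ = i0 hn)
    (hχ : q ≤ orderOf ((T.d (i0 hn)) ^ q * T.d mid)) (hχ₁ : (T.d k₀) ^ q * T.d mid ≠ 1) :
    ∃ a b : SU n F q, Subgroup.closure {a, b} = ⊤ := by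
  obtain ⟨c, hc⟩ := exists_adm (q := q) ((1 : F) • D.v mid)
  refine ⟨T.hh, sg q (D.v (i0 hn)) ((1 : F) • D.v mid) c * X.cc, ?_⟩
  have hM1 : T.hh ∈ Subgroup.closure
      ({T.hh, sg q (D.v (i0 hn)) ((1 : F) • D.v mid) c * X.cc} : Set (SU n F q)) :=
    Subgroup.subset_closure (Set.mem_insert _ _)
  have hM2 : sg q (D.v (i0 hn)) ((1 : F) • D.v mid) c * X.cc ∈ Subgroup.closure
      ({T.hh, sg q (D.v (i0 hn)) ((1 : F) • D.v mid) c * X.cc} : Set (SU n F q)) :=
    Subgroup.subset_closure (Set.mem_insert_of_mem _ rfl)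
  obtain ⟨h1, h2, h3⟩ := phase_odd X T hmid hk₀ hχ hχ₁ one_ne_zero hc hM1 hM2
  exact X.top_of_odd h32 h1 hmid h2 h3

/-- even dimension: the two generators. -/
theorem two_gen_even_aux (D : WittData F q n) (hn : 3 ≤ n) (h32 : ¬ (n = 3 ∧ q = 2))
    (X : CoxData D hn) (T : TorData D) (heven : ∀ i : Fin n, i ≠ i.rev) {k₀ k₁ : Fin n}
    (hk₀ : cox hn k₀ = i0 hn) (hk₁ : cox hn k₁ = ⟨n - 2, by omega⟩)
    (hχ : q ≤ orderOf ((T.d (i0 hn)) ^ q * T.d ⟨n - 2, by omega⟩))
    (hχ₁ : (T.d k₀) ^ q * T.d k₁ ≠ 1) :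
    ∃ a b : SU n F q, Subgroup.closure {a, b} = ⊤ := by
  refine ⟨T.hh, sg q (D.v (i0 hn)) ((1 : F) • D.v ⟨n - 2, by omega⟩) 0 * X.cc, ?_⟩
  have hM1 : T.hh ∈ Subgroup.closure
      ({T.hh, sg q (D.v (i0 hn)) ((1 : F) • D.v ⟨n - 2, by omega⟩) 0 * X.cc} :
        Set (SU n F q)) :=
    Subgroup.subset_closure (Set.mem_insert _ _)
  have hM2 : sg q (D.v (i0 hn)) ((1 : F) • D.v ⟨n - 2, by omega⟩) 0 * X.cc ∈ Subgroup.closure
      ({T.hh, sg q (D.v (i0 hn)) ((1 : F) • D.v ⟨n - 2, by omega⟩) 0 * X.cc} :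
        Set (SU n F q)) :=
    Subgroup.subset_closure (Set.mem_insert_of_mem _ rfl)
  have hij : (⟨n - 2, by omega⟩ : Fin n) ≠ (i0 hn).rev := by
    intro h
    have h1 := congrArg Fin.val h
    rw [Fin.val_rev] at h1
    unfold i0 at h1
    simp only at h1
    omega
  obtain ⟨h1, h2⟩ := phase_even X T (heven _) hij hk₀ hk₁ hχ hχ₁ one_ne_zero hM1 hM2
  exact X.top_of_even h32 h1 heven h2

/-- the entries of the torus element. -/
theorem tor_d (D : WittData F q n) (hn : 3 ≤ n) {p c : ℕ} (hp : p < n) (hc : c < n) (g : F)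
    (hg : g ≠ 0) :
    (torData D (i0 hn) ⟨p, hp⟩ g hg).d ⟨c, hc⟩
      = (if c = 0 then g else 1) * (if c = p then g ^ q else 1)
        * (if c = n - (p + 1) then g⁻¹ else 1) * (if c = n - (0 + 1) then (g ^ q)⁻¹ else 1) := by
  rw [torData_d]
  unfold i0
  rw [dfun_nat, D.hstar]

/-- dimension three. -/
theorem two_gen_three (D : WittData F q n) (hn : 3 ≤ n) (h3 : n = 3) (hq : q ≠ 2) :
    ∃ a b : SU n F q, Subgroup.closure {a, b} = ⊤ := by
  have hF := hK.out
  have hq3 : 3 ≤ q := by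
    have := two_le_q hF
    omega
  obtain ⟨X⟩ := exists_coxData D hn
  obtain ⟨g, hg⟩ := exists_gen hF
  have hqq : ∀ a : F, (a ^ q) ^ q = a := pow_q_pow_q hF
  have hg0 : (g : F) ≠ 0 := g.ne_zero
  have hmid : (⟨1, by omega⟩ : Fin n) = (⟨1, by omega⟩ : Fin n).rev := by
    apply Fin.ext
    rw [Fin.val_rev]
    simp only
    omega
  have hk₀ : cox hn (⟨2, by omega⟩ : Fin n) = i0 hn := by
    have e : (⟨2, by omega⟩ : Fin n) = ⟨n - n / 2, by omega⟩ := Fin.ext (by simp only; omega)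
    rw [e]
    exact cox_wrap hn
  have e0 : (torData D (i0 hn) ⟨1, by omega⟩ (g : F) hg0).d (i0 hn) = (g : F) := by
    show (torData D (i0 hn) ⟨1, by omega⟩ (g : F) hg0).d ⟨0, by omega⟩ = (g : F)
    rw [tor_d, if_pos rfl, if_neg (by omega), if_neg (by omega), if_neg (by omega), mul_one,
      mul_one, mul_one]
  have e1 : (torData D (i0 hn) ⟨1, by omega⟩ (g : F) hg0).d ⟨1, by omega⟩
      = (g : F) ^ q * (g : F)⁻¹ := by
    rw [tor_d, if_neg (by omega), if_pos rfl, if_pos (by omega), if_neg (by omega), mul_one,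
      one_mul]
  have e2 : (torData D (i0 hn) ⟨1, by omega⟩ (g : F) hg0).d ⟨2, by omega⟩
      = ((g : F) ^ q)⁻¹ := by
    rw [tor_d, if_neg (by omega), if_neg (by omega), if_neg (by omega), if_pos (by omega), one_mul,
      one_mul, one_mul]
  refine two_gen_odd_aux D hn (fun h => hq h.2) X (torData D (i0 hn) ⟨1, by omega⟩ (g : F) hg0)
    hmid hk₀ ?_ ?_
  · rw [e0, e1]
    exact char3 hq3 hg
  · rw [e2, e1, inv_pow, hqq]
    intro h
    apply ne3 hq3 hg
    field_simp at h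
    rw [h]

/-- odd dimension at least five. -/
theorem two_gen_odd (D : WittData F q n) (hn : 3 ≤ n) (h5 : 5 ≤ n) (hodd : n = 2 * (n / 2) + 1) :
    ∃ a b : SU n F q, Subgroup.closure {a, b} = ⊤ := by
  have hF := hK.out
  obtain ⟨X⟩ := exists_coxData D hn
  obtain ⟨g, hg⟩ := exists_gen hF
  have hg0 : (g : F) ≠ 0 := g.ne_zero
  have hmid : (⟨n / 2, by omega⟩ : Fin n) = (⟨n / 2, by omega⟩ : Fin n).rev := by
    apply Fin.ext
    rw [Fin.val_rev]
    simp only
    omega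
  have hk₀ : cox hn (⟨n - n / 2, by omega⟩ : Fin n) = i0 hn := cox_wrap hn
  have e0 : (torData D (i0 hn) ⟨n / 2 - 1, by omega⟩ (g : F) hg0).d (i0 hn) = (g : F) := by
    show (torData D (i0 hn) ⟨n / 2 - 1, by omega⟩ (g : F) hg0).d ⟨0, by omega⟩ = (g : F)
    rw [tor_d, if_pos rfl, if_neg (by omega), if_neg (by omega), if_neg (by omega), mul_one,
      mul_one, mul_one]
  have e1 : (torData D (i0 hn) ⟨n / 2 - 1, by omega⟩ (g : F) hg0).d ⟨n / 2, by omega⟩ = 1 := by
    rw [tor_d, if_neg (by omega), if_neg (by omega), if_neg (by omega), if_neg (by omega), mul_one,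
      mul_one, mul_one]
  have e2 : (torData D (i0 hn) ⟨n / 2 - 1, by omega⟩ (g : F) hg0).d ⟨n - n / 2, by omega⟩
      = (g : F)⁻¹ := by
    rw [tor_d, if_neg (by omega), if_neg (by omega), if_pos (by omega), if_neg (by omega), one_mul,
      one_mul, mul_one]
  refine two_gen_odd_aux D hn (fun h => by omega) X
    (torData D (i0 hn) ⟨n / 2 - 1, by omega⟩ (g : F) hg0) hmid hk₀ ?_ ?_
  · rw [e0, e1, mul_one]
    exact char1 hF hg
  · rw [e2, e1, mul_one, inv_pow]
    intro h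
    apply ne1 hF hg
    rw [inv_eq_one] at h
    exact h

/-- even dimension at least four. -/
theorem two_gen_even (D : WittData F q n) (hn : 3 ≤ n) (heven : n = 2 * (n / 2)) :
    ∃ a b : SU n F q, Subgroup.closure {a, b} = ⊤ := by
  have hF := hK.out
  obtain ⟨X⟩ := exists_coxData D hn
  obtain ⟨g, hg⟩ := exists_gen hF
  have hg0 : (g : F) ≠ 0 := g.ne_zero
  have hev : ∀ i : Fin n, i ≠ i.rev := by
    intro i h
    have h1 := congrArg Fin.val h
    rw [Fin.val_rev] at h1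
    omega
  have hk₀ : cox hn (⟨n - n / 2, by omega⟩ : Fin n) = i0 hn := cox_wrap hn
  have hk₁ : cox hn (⟨n - 1, by omega⟩ : Fin n) = ⟨n - 2, by omega⟩ := by
    rw [cox_upper hn (by omega)]
    apply Fin.ext
    simp only
    omega
  have e0 : (torData D (i0 hn) ⟨n / 2 - 1, by omega⟩ (g : F) hg0).d (i0 hn) = (g : F) := by
    show (torData D (i0 hn) ⟨n / 2 - 1, by omega⟩ (g : F) hg0).d ⟨0, by omega⟩ = (g : F)
    rw [tor_d, if_pos rfl, if_neg (by omega), if_neg (by omega), if_neg (by omega), mul_one,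
      mul_one, mul_one]
  have e1 : (torData D (i0 hn) ⟨n / 2 - 1, by omega⟩ (g : F) hg0).d ⟨n - n / 2, by omega⟩
      = (g : F)⁻¹ := by
    rw [tor_d, if_neg (by omega), if_neg (by omega), if_pos (by omega), if_neg (by omega), one_mul,
      one_mul, mul_one]
  have e2 : (torData D (i0 hn) ⟨n / 2 - 1, by omega⟩ (g : F) hg0).d ⟨n - 1, by omega⟩
      = ((g : F) ^ q)⁻¹ := by
    rw [tor_d, if_neg (by omega), if_neg (by omega), if_neg (by omega), if_pos (by omega), one_mul,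
      one_mul, one_mul]
  have e3 : (torData D (i0 hn) ⟨n / 2 - 1, by omega⟩ (g : F) hg0).d ⟨n - 2, by omega⟩
      = if n = 4 then (g : F)⁻¹ else 1 := by
    rw [tor_d]
    by_cases h4 : n = 4
    · rw [if_pos h4, if_neg (by omega), if_neg (by omega), if_pos (by omega), if_neg (by omega),
        one_mul, one_mul, mul_one]
    · rw [if_neg h4, if_neg (by omega), if_neg (by omega), if_neg (by omega), if_neg (by omega),
        one_mul, one_mul, mul_one]
  refine two_gen_even_aux D hn (fun h => by omega) X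
    (torData D (i0 hn) ⟨n / 2 - 1, by omega⟩ (g : F) hg0) hev hk₀ hk₁ ?_ ?_
  · rw [e0, e3]
    by_cases h4 : n = 4
    · rw [if_pos h4]
      exact char2 hF hg
    · rw [if_neg h4, mul_one]
      exact char1 hF hg
  · rw [e1, e2, inv_pow, ← mul_inv, ← pow_two, ← pow_mul, mul_comm q 2]
    intro h
    apply ne2 hF hg
    rw [inv_eq_one] at h
    exact h

end aux

/-- **`SU_n(q)` is generated by two elements**, `n ≥ 3`, `(n, q) ≠ (3, 2)`. -/
theorem two_gen_SU {F : Type*} [Field F] [Fintype F] {q n : ℕ} (hF : Fintype.card F = q ^ 2)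
    (hn : 3 ≤ n) (h32 : ¬ (n = 3 ∧ q = 2)) :
    ∃ a b : SU n F q, Subgroup.closure {a, b} = ⊤ := by
  haveI : Fact (Fintype.card F = q ^ 2) := ⟨hF⟩
  letI : StarRing F := starRingQ hF
  obtain ⟨D⟩ := exists_wittData F q n (fun _ => rfl)
  by_cases h3 : n = 3
  · exact two_gen_three D hn h3 (fun h => h32 ⟨h3, h⟩)
  · rcases Nat.even_or_odd' n with ⟨m, hm | hm⟩
    · exact two_gen_even D hn (by omega)
    · exact two_gen_odd D hn (by omega) (by omega)

end Cfsg.Agent.Helper1.SUTwo
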