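import Mathlib
import Cfsg.Agent.Helper5.SaDefs
import Cfsg.Agent.Helper1.Fitting

/-!
# S4025 piece S: solvability of `tildeA`
-/

set_option autoImplicit false

namespace Cfsg.Agent.Helper5.Sa

/-- the scalar maps as a homomorphism into the linear automorphisms -/
def h1_scal (p : ℕ) [Fact p.Prime] (V : Type*) [AddCommGroup V] [Module (ZMod p) V] :
    (ZMod p)ˣ →* (V ≃ₗ[ZMod p] V) where
  toFun c := LinearEquiv.smulOfUnit c
  map_one' := by
    ext v
    change (1 : (ZMod p)ˣ) • v = v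
    rw [one_smul]
  map_mul' a b := by
    ext v
    change (a * b) • v = a • (b • v)
    rw [mul_smul]

theorem h1_scal_apply (p : ℕ) [Fact p.Prime] (V : Type*) [AddCommGroup V] [Module (ZMod p) V]
    (c : (ZMod p)ˣ) (v : V) : h1_scal p V c v = (c : ZMod p) • v := rfl

theorem solvable_tildeA {X : Type*} [Group X] [Finite X] {p : ℕ} [Fact p.Prime] (Q : Subgroup X)
    [Q.Normal] (hQp : IsPGroup p Q)
    {V : Type*} [AddCommGroup V] [Module (ZMod p) V] (φ : ↥Q ≃ V)
    (ρ₀ : X →* (V ≃ₗ[ZMod p] V))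
    (hρ₀ : ∀ (x : X) (q : Q),
      ρ₀ x (φ q) = φ (cj Q x q))
    (hsolv : Group.IsSolvable (X ⧸ Cfsg.pPrimeCore p X)) :
    Group.IsSolvable (tildeA ρ₀) := by
  -- `K` centralizes `Q`
  have hKn : (Cfsg.pPrimeCore p X).Normal := Cfsg.Agent.Helper1.pPrimeCore_normal p
  obtain ⟨n, hn⟩ := hQp.exists_card_eq
  have hcop : (Nat.card (Cfsg.pPrimeCore p X)).Coprime (Nat.card Q) := by
    rw [hn]
    exact Nat.Coprime.pow_right n (Cfsg.Agent.Helper1.card_pPrimeCore_coprime p)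
  have hdis : Disjoint (Cfsg.pPrimeCore p X) Q :=
    Subgroup.disjoint_of_coprime_natCard hcop
  have hker : ∀ k ∈ Cfsg.pPrimeCore p X, ρ₀ k = 1 := by
    intro k hk
    ext v
    obtain ⟨q, rfl⟩ := φ.surjective v
    rw [hρ₀]
    change φ (cj Q k q) = φ q
    congr 1
    apply Subtype.ext
    rw [coe_cj]
    have h1 : Commute k (q : X) :=
      Subgroup.commute_of_normal_of_disjoint _ _ hKn inferInstance hdis k q hk q.2
    rw [h1.eq, mul_inv_cancel_right]
  -- the homomorphism from the solvable group `(X ⧸ K) × (ZMod p)ˣ`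
  let ρbar : X ⧸ Cfsg.pPrimeCore p X →* (V ≃ₗ[ZMod p] V) :=
    QuotientGroup.lift (Cfsg.pPrimeCore p X) ρ₀ hker
  have hcomm : ∀ (y : X ⧸ Cfsg.pPrimeCore p X) (c : (ZMod p)ˣ),
      Commute (ρbar y) (h1_scal p V c) := by
    intro y c
    ext v
    change ρbar y ((c : ZMod p) • v) = (c : ZMod p) • ρbar y v
    rw [map_smul]
  let f : (X ⧸ Cfsg.pPrimeCore p X) × (ZMod p)ˣ →* (V ≃ₗ[ZMod p] V) :=
    MonoidHom.noncommCoprod ρbar (h1_scal p V) hcomm
  have hle : tildeA ρ₀ ≤ f.range := by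
    rintro g ⟨x, c, hg⟩
    refine ⟨((x : X ⧸ Cfsg.pPrimeCore p X), c), ?_⟩
    ext v
    rw [hg v]
    change (ρbar (x : X ⧸ Cfsg.pPrimeCore p X) * h1_scal p V c) v = _
    rw [LinearEquiv.mul_apply, h1_scal_apply, map_smul]
    rfl
  have hsr : Group.IsSolvable f.range := Group.isSolvable_of_surjective f.rangeRestrict_surjective
  exact Group.isSolvable_of_isSolvable_injective (Subgroup.inclusion_injective hle)

end Cfsg.Agent.Helper5.Sa
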