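import Mathlib
import Cfsg.Agent.Helper5.SaDefs

/-!
# S4025 piece T: transitivity on submodules and on non-zero vectors
-/

set_option autoImplicit false

namespace Cfsg.Agent.Helper5.Sa

/-- the subgroup of `Q` corresponding to a submodule `W` under the additive bijection `φ` -/
def h1_pull {X : Type*} [Group X] {p : ℕ} [Fact p.Prime] (Q : Subgroup X)
    {V : Type*} [AddCommGroup V] [Module (ZMod p) V] (φ : ↥Q ≃ V)
    (hφ : ∀ a b : Q, φ (a * b) = φ a + φ b) (W : Submodule (ZMod p) V) : Subgroup Q where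
  carrier := {q | φ q ∈ W}
  one_mem' := by
    have h1 : φ 1 = 0 := by
      have h := hφ 1 1
      rw [mul_one] at h
      exact left_eq_add.mp h
    change φ 1 ∈ W
    rw [h1]
    exact W.zero_mem
  mul_mem' := by
    intro a b ha hb
    change φ (a * b) ∈ W
    rw [hφ]
    exact W.add_mem ha hb
  inv_mem' := by
    intro a ha
    have h1 : φ 1 = 0 := by
      have h := hφ 1 1
      rw [mul_one] at h
      exact left_eq_add.mp h
    have h2 : φ a⁻¹ = -φ a := by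
      have h := hφ a a⁻¹
      rw [mul_inv_cancel, h1] at h
      exact (neg_eq_of_add_eq_zero_right h.symm).symm
    change φ a⁻¹ ∈ W
    rw [h2]
    exact W.neg_mem ha

theorem h1_mem_pull {X : Type*} [Group X] {p : ℕ} [Fact p.Prime] (Q : Subgroup X)
    {V : Type*} [AddCommGroup V] [Module (ZMod p) V] (φ : ↥Q ≃ V)
    (hφ : ∀ a b : Q, φ (a * b) = φ a + φ b) (W : Submodule (ZMod p) V) (q : Q) :
    q ∈ h1_pull Q φ hφ W ↔ φ q ∈ W := Iff.rfl

theorem h1_card_pull {X : Type*} [Group X] {p : ℕ} [Fact p.Prime] (Q : Subgroup X)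
    {V : Type*} [AddCommGroup V] [Module (ZMod p) V] (φ : ↥Q ≃ V)
    (hφ : ∀ a b : Q, φ (a * b) = φ a + φ b) (W : Submodule (ZMod p) V) :
    Nat.card ((h1_pull Q φ hφ W).map Q.subtype) = Nat.card W := by
  rw [Subgroup.card_map_of_injective Q.subtype_injective]
  exact Nat.card_congr (Equiv.subtypeEquiv φ (fun q => Iff.rfl))

theorem trans_submodule {X : Type*} [Group X] [Finite X] {p : ℕ} [Fact p.Prime] (Q : Subgroup X)
    [Q.Normal] {V : Type*} [AddCommGroup V] [Module (ZMod p) V] (φ : ↥Q ≃ V)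
    (hφ : ∀ a b : Q, φ (a * b) = φ a + φ b)
    (ρ₀ : X →* (V ≃ₗ[ZMod p] V))
    (hρ₀ : ∀ (x : X) (q : Q),
      ρ₀ x (φ q) = φ (cj Q x q))
    (htr : ∀ H K : Subgroup X, H ≤ Q → K ≤ Q → Nat.card H = Nat.card K →
      ∃ x : X, K = H.map (MulAut.conj x).toMonoidHom)
    (W W' : Submodule (ZMod p) V) (hWW' : Nat.card W = Nat.card W') :
    ∃ x : X, W.map ((ρ₀ x : V ≃ₗ[ZMod p] V) : V →ₗ[ZMod p] V) = W' := by
  obtain ⟨x, hx⟩ := htr ((h1_pull Q φ hφ W).map Q.subtype) ((h1_pull Q φ hφ W').map Q.subtype)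
    (Subgroup.map_subtype_le _) (Subgroup.map_subtype_le _)
    (by rw [h1_card_pull, h1_card_pull, hWW'])
  refine ⟨x, ?_⟩
  ext w'
  rw [Submodule.mem_map]
  constructor
  · rintro ⟨w, hw, rfl⟩
    obtain ⟨q, rfl⟩ := φ.surjective w
    change ρ₀ x (φ q) ∈ W'
    rw [hρ₀]
    have h1 : ((cj Q x q : Q) : X) ∈ (h1_pull Q φ hφ W').map Q.subtype := by
      rw [hx]
      refine ⟨(q : X), ⟨q, hw, rfl⟩, ?_⟩
      rfl
    obtain ⟨q', hq', hqq'⟩ := h1
    have h2 : q' = cj Q x q := Subtype.ext hqq'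
    rw [← h2]
    exact hq'
  · intro hw'
    obtain ⟨q', rfl⟩ := φ.surjective w'
    have h1 : (q' : X) ∈ (h1_pull Q φ hφ W').map Q.subtype := ⟨q', hw', rfl⟩
    rw [hx] at h1
    obtain ⟨y, ⟨q, hq, rfl⟩, hy⟩ := h1
    refine ⟨φ q, hq, ?_⟩
    change ρ₀ x (φ q) = φ q'
    rw [hρ₀]
    congr 1
    apply Subtype.ext
    rw [coe_cj]
    exact hy

theorem trans_vector {X : Type*} [Group X] {p : ℕ} [Fact p.Prime]
    {V : Type*} [AddCommGroup V] [Module (ZMod p) V] [Finite V]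
    (ρ₀ : X →* (V ≃ₗ[ZMod p] V))
    (h : ∀ W W' : Submodule (ZMod p) V, Nat.card W = Nat.card W' →
      ∃ x : X, W.map ((ρ₀ x : V ≃ₗ[ZMod p] V) : V →ₗ[ZMod p] V) = W')
    (v w : V) (hv : v ≠ 0) (hw : w ≠ 0) : ∃ g ∈ tildeA ρ₀, g v = w := by
  have hcard : ∀ u : V, u ≠ 0 → Nat.card (Submodule.span (ZMod p) {u}) = p := by
    intro u hu
    rw [← Nat.card_congr (LinearEquiv.toSpanNonzeroSingleton (ZMod p) V u hu).toEquiv,
      Nat.card_eq_fintype_card, ZMod.card]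
  obtain ⟨x, hx⟩ := h (Submodule.span (ZMod p) {v}) (Submodule.span (ZMod p) {w})
    (by rw [hcard v hv, hcard w hw])
  have h1 : ρ₀ x v ∈ Submodule.span (ZMod p) {w} := by
    rw [← hx]
    exact ⟨v, Submodule.mem_span_singleton_self v, rfl⟩
  obtain ⟨c, hc⟩ := Submodule.mem_span_singleton.mp h1
  have hc0 : c ≠ 0 := by
    rintro rfl
    rw [zero_smul] at hc
    exact hv ((ρ₀ x).map_eq_zero_iff.mp hc.symm)
  let u : (ZMod p)ˣ := Units.mk0 c hc0
  refine ⟨LinearEquiv.smulOfUnit u⁻¹ * ρ₀ x, ⟨x, u⁻¹, fun z => ?_⟩, ?_⟩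
  · rw [LinearEquiv.mul_apply]
    rfl
  · rw [LinearEquiv.mul_apply, ← hc]
    change (u⁻¹ : (ZMod p)ˣ) • (c • w) = w
    rw [Units.smul_def, smul_smul]
    have : ((u⁻¹ : (ZMod p)ˣ) : ZMod p) * c = 1 := by
      have h2 : c = (u : ZMod p) := rfl
      rw [h2, ← Units.val_mul, inv_mul_cancel, Units.val_one]
    rw [this, one_smul]

end Cfsg.Agent.Helper5.Sa
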