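import Mathlib
import Cfsg.Prelude.Def_AxialAlgebras
import Cfsg.Agent.Helper5.MajoranaA

set_option autoImplicit false

/-!
Sakuma's theorem (6-transposition property of Majorana involutions), part A:
single-axis facts (full eigen-decomposition, the basic relations for a second vector,
an axis determines its involution) and two induction principles on `ℤ`.
-/

namespace Cfsg.Agent.Helper1.Sak

open Cfsg.Axial

variable {V : Type*} [AddCommGroup V] [Module ℝ V]

theorem int_const {α : Type*} (f : ℤ → α) (h : ∀ i, f (i + 1) = f i) : ∀ i, f i = f 0 := by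
  intro i
  induction i using Int.induction_on with
  | zero => rfl
  | succ k ih => rw [h, ih]
  | pred k ih =>
    have := h (-(k : ℤ) - 1)
    rw [sub_add_cancel] at this
    rw [← this, ih]

theorem int_per2 {α : Type*} (f : ℤ → α) (h : ∀ i, f (i + 2) = f i) (i k : ℤ) :
    f (i + 2 * k) = f i := by
  have := int_const (fun k => f (i + 2 * k)) (fun k => by
    show f (i + 2 * (k + 1)) = f (i + 2 * k)
    rw [show i + 2 * (k + 1) = (i + 2 * k) + 2 by ring, h]) k
  simpa using this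

section single

variable (mul : V →ₗ[ℝ] V →ₗ[ℝ] V) (B : LinearMap.BilinForm ℝ V)

theorem eigen_le_sum (a : V) (S : Set ℝ) (c : ℝ) (hc : c ∈ S) :
    eigen mul a c ≤ eigenSum mul a S := by
  unfold eigenSum
  exact le_iSup₂ (f := fun c (_ : c ∈ S) => eigen mul a c) c hc

/-- full eigen-decomposition with respect to a Majorana axis -/
theorem decomp4 {μ : V ≃ₗ[ℝ] V} {a : V} (h : IsMajoranaPair mul B μ a) (x : V) :
    ∃ (t : ℝ) (u v w : V), x = t • a + u + v + w ∧ mul a u = 0 ∧ mul a v = (1 / 4 : ℝ) • v ∧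
      mul a w = (1 / 32 : ℝ) • w ∧ μ x = t • a + u + v - w ∧ μ (μ x) = x := by
  obtain ⟨hm, hB, ⟨⟨h0, hid, htop, hfus⟩, hprim⟩, hmiy1, hmiy2⟩ := h
  have hxtop : x ∈ eigenSum mul a majoranaSpectrum := by rw [htop]; trivial
  unfold eigenSum majoranaSpectrum at hxtop
  rw [iSup_insert, iSup_insert, iSup_insert, iSup_singleton] at hxtop
  obtain ⟨w1, hw1, y, hy, rfl⟩ := Submodule.mem_sup.mp hxtop
  obtain ⟨w0, hw0, y', hy', rfl⟩ := Submodule.mem_sup.mp hy
  obtain ⟨wq, hwq, ws, hws, rfl⟩ := Submodule.mem_sup.mp hy'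
  have hsub : ∀ c ∈ ({1, 0, 1 / 4} : Set ℝ), eigen mul a c ≤ eigenSum mul a {1, 0, 1 / 4} :=
    fun c hc => eigen_le_sum mul a _ c hc
  have f1 : μ w1 = w1 := hmiy1 w1 (hsub 1 (by simp) hw1)
  have f0 : μ w0 = w0 := hmiy1 w0 (hsub 0 (by simp) hw0)
  have fq : μ wq = wq := hmiy1 wq (hsub (1 / 4) (by simp) hwq)
  have fs : μ ws = -ws := hmiy2 ws hws
  rw [hprim, Submodule.mem_span_singleton] at hw1
  obtain ⟨t, rfl⟩ := hw1
  unfold eigen at hw0 hwq hws
  rw [Module.End.mem_eigenspace_iff] at hw0 hwq hws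
  have hμ : μ (t • a + (w0 + (wq + ws))) = t • a + w0 + wq - ws := by
    rw [map_add, map_add, map_add, f1, f0, fq, fs]; module
  refine ⟨t, w0, wq, ws, by module, ?_, hwq, hws, hμ, ?_⟩
  · rw [hw0, zero_smul]
  · rw [hμ, map_sub, map_add, map_add, f1, f0, fq, fs]; module

theorem pair_idem {μ : V ≃ₗ[ℝ] V} {a : V} (h : IsMajoranaPair mul B μ a) : mul a a = a :=
  h.2.2.1.1.2.1

theorem pair_fix {μ : V ≃ₗ[ℝ] V} {a : V} (h : IsMajoranaPair mul B μ a) : μ a = a := by
  have hid := pair_idem mul B h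
  obtain ⟨hm, hB, hprim, hmiy1, hmiy2⟩ := h
  have ha : a ∈ eigen mul a 1 := by
    unfold eigen; rw [Module.End.mem_eigenspace_iff, hid, one_smul]
  exact hmiy1 a (eigen_le_sum mul a _ 1 (by simp) ha)

/-- the basic relations for a vector `x`, its mirror image `μ x`, and
`σ = a·x - (a + x)/32`. -/
theorem core (hV : IsMajoranaAmbient mul B) {μ : V ≃ₗ[ℝ] V} {a : V}
    (h : IsMajoranaPair mul B μ a) (hn : B a a = 1) (x : V) :
    mul a (μ x) = (mul a x - (1 / 32 : ℝ) • (a + x)) + (1 / 32 : ℝ) • (a + μ x) ∧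
    mul a (-(4 : ℝ) • (mul a x - (1 / 32 : ℝ) • (a + x)) + (3 * B a x - 1 / 8) • a
        + (7 / 16 : ℝ) • (x + μ x)) = 0 ∧
    mul a ((4 : ℝ) • (mul a x - (1 / 32 : ℝ) • (a + x)) - (4 * B a x - 1 / 8) • a
        + (1 / 16 : ℝ) • (x + μ x)) =
      (1 / 4 : ℝ) • ((4 : ℝ) • (mul a x - (1 / 32 : ℝ) • (a + x)) - (4 * B a x - 1 / 8) • a
        + (1 / 16 : ℝ) • (x + μ x)) ∧
    μ (μ x) = x := by
  obtain ⟨hcomm, hsymm, hpos, hassoc, -⟩ := hV
  have hid : mul a a = a := pair_idem mul B h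
  obtain ⟨t, u, v, w, hx, hu, hv, hw, hμx, hμμ⟩ := decomp4 mul B h x
  have ht : B a x = t := by
    have o := Helper5.Majorana.orth mul B hassoc hid hu hv
    have ow : B a w = 0 := by
      have := hassoc a a w
      rw [hw, hid, map_smul, smul_eq_mul] at this
      linarith
    rw [hx, map_add, map_add, map_add, map_smul, smul_eq_mul, hn, o.1, o.2, ow]; ring
  have hax : mul a x = t • a + (1 / 4 : ℝ) • v + (1 / 32 : ℝ) • w := by
    conv_lhs => rw [hx]
    rw [map_add, map_add, map_add, map_smul, hid, hu, hv, hw]; module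
  have hay : mul a (μ x) = t • a + (1 / 4 : ℝ) • v - (1 / 32 : ℝ) • w := by
    rw [hμx, map_sub, map_add, map_add, map_smul, hid, hu, hv, hw]; module
  have hα : -(4 : ℝ) • (mul a x - (1 / 32 : ℝ) • (a + x)) + (3 * B a x - 1 / 8) • a
        + (7 / 16 : ℝ) • (x + μ x) = u := by
    rw [ht]
    linear_combination (norm := module) (-4 : ℝ) • hax + (9 / 16 : ℝ) • hx + (7 / 16 : ℝ) • hμx
  have hβ : (4 : ℝ) • (mul a x - (1 / 32 : ℝ) • (a + x)) - (4 * B a x - 1 / 8) • a
        + (1 / 16 : ℝ) • (x + μ x) = v := by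
    rw [ht]
    linear_combination (norm := module) (4 : ℝ) • hax + (-1 / 16 : ℝ) • hx + (1 / 16 : ℝ) • hμx
  refine ⟨?_, ?_, ?_, hμμ⟩
  · linear_combination (norm := module) hay - hax + (1 / 32 : ℝ) • hx - (1 / 32 : ℝ) • hμx
  · rw [hα]; exact hu
  · rw [hβ]; exact hv

/-- a Majorana axis determines its involution -/
theorem inv_unique {μ μ' : V ≃ₗ[ℝ] V} {a : V} (h : IsMajoranaPair mul B μ a)
    (h' : IsMajoranaPair mul B μ' a) : μ = μ' := by
  have hid := pair_idem mul B h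
  ext x
  obtain ⟨t, u, v, w, hx, hu, hv, hw, hμx, -⟩ := decomp4 mul B h x
  obtain ⟨-, -, -, hmiy1, hmiy2⟩ := h'
  have ha : a ∈ eigen mul a 1 := by
    unfold eigen; rw [Module.End.mem_eigenspace_iff, hid, one_smul]
  have mu : u ∈ eigen mul a 0 := by
    unfold eigen; rw [Module.End.mem_eigenspace_iff, hu, zero_smul]
  have mv : v ∈ eigen mul a (1 / 4) := by
    unfold eigen; rw [Module.End.mem_eigenspace_iff, hv]
  have mw : w ∈ eigen mul a (1 / 32) := by
    unfold eigen; rw [Module.End.mem_eigenspace_iff, hw]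
  have g1 : μ' (t • a) = t • a :=
    hmiy1 _ (eigen_le_sum mul a _ 1 (by simp) (Submodule.smul_mem _ t ha))
  have g0 : μ' u = u := hmiy1 _ (eigen_le_sum mul a _ 0 (by simp) mu)
  have gq : μ' v = v := hmiy1 _ (eigen_le_sum mul a _ (1 / 4) (by simp) mv)
  have gs : μ' w = -w := hmiy2 _ mw
  rw [hμx]
  conv_rhs => rw [hx]
  rw [map_add, map_add, map_add, g1, g0, gq, gs]; module

end single

end Cfsg.Agent.Helper1.Sak
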