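import Cfsg.Agent.Helper1.SakA

set_option autoImplicit false

/-!
Sakuma's theorem, part B: a `ℤ`-indexed dihedral family of Majorana axes and its basic
invariants (the vectors `S`, `rf i`, the numbers `l`, `mm i`), products of neighbouring axes,
inner products, and the eigenvector relations.
-/

namespace Cfsg.Agent.Helper1.Sak

open Cfsg.Axial

variable {V : Type*} [AddCommGroup V] [Module ℝ V]

/-- a dihedral family of Majorana axes of norm one -/
structure Fam (mul : V →ₗ[ℝ] V →ₗ[ℝ] V) (B : LinearMap.BilinForm ℝ V) where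
  ax : ℤ → V
  tau : ℤ → V ≃ₗ[ℝ] V
  pair : ∀ i, IsMajoranaPair mul B (tau i) (ax i)
  refl : ∀ i j, tau i (ax j) = ax (2 * i - j)
  nrm : ∀ i, B (ax i) (ax i) = 1

namespace Fam

variable {mul : V →ₗ[ℝ] V →ₗ[ℝ] V} {B : LinearMap.BilinForm ℝ V} (F : Fam mul B)

noncomputable def sg (i : ℤ) : V := mul (F.ax i) (F.ax (i + 1)) - (1 / 32 : ℝ) • (F.ax i + F.ax (i + 1))
noncomputable def S : V := F.sg 0
noncomputable def rf (i : ℤ) : V := mul (F.ax i) (F.ax (i + 2)) - (1 / 32 : ℝ) • (F.ax i + F.ax (i + 2))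
noncomputable def l : ℝ := B (F.ax 0) (F.ax 1)
noncomputable def mm (i : ℤ) : ℝ := B (F.ax i) (F.ax (i + 2))

theorem idem (i : ℤ) : mul (F.ax i) (F.ax i) = F.ax i := pair_idem mul B (F.pair i)

theorem refl' (i j k : ℤ) (h : k = 2 * i - j) : F.tau i (F.ax j) = F.ax k := by rw [h, F.refl]

variable (hV : IsMajoranaAmbient mul B)
include hV

theorem prod_refl (i j k : ℤ) (h : k = 2 * i - j) :
    mul (F.ax i) (F.ax k) = (mul (F.ax i) (F.ax j) - (1 / 32 : ℝ) • (F.ax i + F.ax j))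
      + (1 / 32 : ℝ) • (F.ax i + F.ax k) := by
  have := (core mul B hV (F.pair i) (F.nrm i) (F.ax j)).1
  rwa [F.refl' i j k h] at this

theorem sg_succ (i : ℤ) : F.sg (i + 1) = F.sg i := by
  have hcomm := hV.1
  have := F.prod_refl hV (i + 1) i (i + 1 + 1) (by ring)
  unfold sg
  rw [this, hcomm (F.ax (i + 1)) (F.ax i)]; module

theorem sg_eq (i : ℤ) : F.sg i = F.S := int_const F.sg (F.sg_succ hV) i

theorem rf_add2 (i : ℤ) : F.rf (i + 2) = F.rf i := by
  have hcomm := hV.1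
  have := F.prod_refl hV (i + 2) i (i + 2 + 2) (by ring)
  unfold rf
  rw [this, hcomm (F.ax (i + 2)) (F.ax i)]; module

theorem rf_per (i k : ℤ) : F.rf (i + 2 * k) = F.rf i := int_per2 F.rf (F.rf_add2 hV) i k

theorem p1 (i : ℤ) : mul (F.ax i) (F.ax (i + 1)) = F.S + (1 / 32 : ℝ) • (F.ax i + F.ax (i + 1)) := by
  have e : mul (F.ax i) (F.ax (i + 1)) - (1 / 32 : ℝ) • (F.ax i + F.ax (i + 1)) = F.S :=
    F.sg_eq hV i
  linear_combination (norm := module) e

theorem p1' (i : ℤ) : mul (F.ax i) (F.ax (i - 1)) = F.S + (1 / 32 : ℝ) • (F.ax i + F.ax (i - 1)) := by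
  have e := F.p1 hV (i - 1)
  rw [sub_add_cancel] at e
  rw [hV.1 (F.ax i) (F.ax (i - 1))]
  linear_combination (norm := module) e

theorem p2 (i : ℤ) : mul (F.ax i) (F.ax (i + 2)) = F.rf i + (1 / 32 : ℝ) • (F.ax i + F.ax (i + 2)) := by
  unfold rf; module

theorem p2' (i : ℤ) : mul (F.ax i) (F.ax (i - 2)) = F.rf i + (1 / 32 : ℝ) • (F.ax i + F.ax (i - 2)) := by
  have e := F.rf_add2 hV (i - 2)
  rw [sub_add_cancel] at e
  have e2 := F.p2 hV (i - 2)
  rw [sub_add_cancel] at e2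
  rw [hV.1 (F.ax i) (F.ax (i - 2)), e]
  linear_combination (norm := module) e2

theorem ip_refl (i j k : ℤ) : B (F.ax (2 * i - j)) (F.ax (2 * i - k)) = B (F.ax j) (F.ax k) := by
  rw [← F.refl i j, ← F.refl i k]; exact (F.pair i).2.1 _ _

theorem ip1 (i : ℤ) : B (F.ax i) (F.ax (i + 1)) = F.l := by
  have hsymm := hV.2.1
  refine int_const (fun i => B (F.ax i) (F.ax (i + 1))) (fun i => ?_) i
  show B (F.ax (i + 1)) (F.ax (i + 1 + 1)) = B (F.ax i) (F.ax (i + 1))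
  have := F.ip_refl hV (i + 1) (i + 1) i
  rw [show 2 * (i + 1) - (i + 1) = i + 1 by ring, show 2 * (i + 1) - i = i + 1 + 1 by ring] at this
  rw [this, hsymm]

theorem ip1' (i : ℤ) : B (F.ax i) (F.ax (i - 1)) = F.l := by
  have e := F.ip1 hV (i - 1)
  rw [sub_add_cancel] at e
  rw [hV.2.1, e]

theorem mm_add2 (i : ℤ) : F.mm (i + 2) = F.mm i := by
  have hsymm := hV.2.1
  unfold mm
  have := F.ip_refl hV (i + 2) (i + 2) i
  rw [show 2 * (i + 2) - (i + 2) = i + 2 by ring, show 2 * (i + 2) - i = i + 2 + 2 by ring] at this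
  rw [this, hsymm]

theorem mm_per (i k : ℤ) : F.mm (i + 2 * k) = F.mm i := int_per2 F.mm (F.mm_add2 hV) i k

theorem ip2 (i : ℤ) : B (F.ax i) (F.ax (i + 2)) = F.mm i := rfl

theorem ip2' (i : ℤ) : B (F.ax i) (F.ax (i - 2)) = F.mm i := by
  have e := F.mm_add2 hV (i - 2)
  rw [sub_add_cancel] at e
  have e2 : B (F.ax (i - 2)) (F.ax (i - 2 + 2)) = F.mm (i - 2) := rfl
  rw [sub_add_cancel] at e2
  rw [hV.2.1, e2, e]

theorem ipS (i : ℤ) : B F.S (F.ax i) = (31 * F.l - 1) / 32 := by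
  have hcomm := hV.1
  have hsymm := hV.2.1
  have hassoc := hV.2.2.2.1
  have hV' := hV
  rw [← F.sg_eq hV' i]
  unfold sg
  have e1 : B (mul (F.ax i) (F.ax (i + 1))) (F.ax i) = F.l := by
    rw [hsymm, hassoc, F.idem, F.ip1 hV']
  simp only [map_sub, map_add, map_smul, LinearMap.sub_apply, LinearMap.add_apply,
    LinearMap.smul_apply, smul_eq_mul]
  rw [e1, F.nrm, hsymm (F.ax (i + 1)) (F.ax i), F.ip1 hV']
  ring

theorem ipR0 (i : ℤ) : B (F.rf i) (F.ax i) = (31 * F.mm i - 1) / 32 := by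
  have hcomm := hV.1
  have hsymm := hV.2.1
  have hassoc := hV.2.2.2.1
  unfold rf
  have e1 : B (mul (F.ax i) (F.ax (i + 2))) (F.ax i) = F.mm i := by
    rw [hsymm, hassoc, F.idem]; rfl
  simp only [map_sub, map_add, map_smul, LinearMap.sub_apply, LinearMap.add_apply,
    LinearMap.smul_apply, smul_eq_mul]
  rw [e1, F.nrm, hsymm (F.ax (i + 2)) (F.ax i), F.ip2 hV]
  ring

theorem ipR2 (i : ℤ) : B (F.rf i) (F.ax (i + 2)) = (31 * F.mm i - 1) / 32 := by
  have hcomm := hV.1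
  have hsymm := hV.2.1
  have hassoc := hV.2.2.2.1
  unfold rf
  have e1 : B (mul (F.ax i) (F.ax (i + 2))) (F.ax (i + 2)) = F.mm i := by
    rw [← hassoc, F.idem]; rfl
  simp only [map_sub, map_add, map_smul, LinearMap.sub_apply, LinearMap.add_apply,
    LinearMap.smul_apply, smul_eq_mul]
  rw [e1, F.nrm, F.ip2 hV]
  ring

theorem ipR1 (i : ℤ) : B (F.rf i) (F.ax (i + 1)) = (30 * F.l + F.mm i - 1) / 32 := by
  have hcomm := hV.1
  have hsymm := hV.2.1
  have hassoc := hV.2.2.2.1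
  have hV' := hV
  unfold rf
  have e0 := F.p1 hV' (i + 1)
  rw [show i + 1 + 1 = i + 2 by ring] at e0
  have e1 : B (mul (F.ax i) (F.ax (i + 2))) (F.ax (i + 1)) =
      (31 * F.l - 1) / 32 + (1 / 32) * (F.l + F.mm i) := by
    rw [← hassoc, hcomm (F.ax (i + 2)) (F.ax (i + 1)), e0]
    simp only [map_add, map_smul, smul_eq_mul]
    rw [hsymm (F.ax i) F.S, F.ipS hV', F.ip1 hV', F.ip2 hV']
  simp only [map_sub, map_add, map_smul, LinearMap.sub_apply, LinearMap.add_apply,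
    LinearMap.smul_apply, smul_eq_mul]
  have e2 := F.ip1 hV' (i + 1)
  rw [show i + 1 + 1 = i + 2 by ring] at e2
  rw [e1, F.ip1 hV', hsymm (F.ax (i + 2)) (F.ax (i + 1)), e2]
  ring

/-- the `0`-eigenvector attached to the neighbours of `ax i` -/
noncomputable def al (i : ℤ) : V := -(4 : ℝ) • F.S + (3 * F.l - 1 / 8) • F.ax i
  + (7 / 16 : ℝ) • (F.ax (i + 1) + F.ax (i - 1))

/-- the `1/4`-eigenvector attached to the neighbours of `ax i` -/
noncomputable def be (i : ℤ) : V := (4 : ℝ) • F.S - (4 * F.l - 1 / 8) • F.ax i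
  + (1 / 16 : ℝ) • (F.ax (i + 1) + F.ax (i - 1))

theorem al_eig (i : ℤ) : mul (F.ax i) (F.al i) = 0 := by
  have h := (core mul B hV (F.pair i) (F.nrm i) (F.ax (i + 1))).2.1
  have e : mul (F.ax i) (F.ax (i + 1)) - (1 / 32 : ℝ) • (F.ax i + F.ax (i + 1)) = F.S :=
    F.sg_eq hV i
  rw [e, F.refl' i (i + 1) (i - 1) (by ring), F.ip1 hV] at h
  exact h

theorem be_eig (i : ℤ) : mul (F.ax i) (F.be i) = (1 / 4 : ℝ) • F.be i := by
  have h := (core mul B hV (F.pair i) (F.nrm i) (F.ax (i + 1))).2.2.1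
  have e : mul (F.ax i) (F.ax (i + 1)) - (1 / 32 : ℝ) • (F.ax i + F.ax (i + 1)) = F.S :=
    F.sg_eq hV i
  rw [e, F.refl' i (i + 1) (i - 1) (by ring), F.ip1 hV] at h
  exact h

/-- multiplication of an axis with `S` -/
theorem aS (i : ℤ) : mul (F.ax i) F.S = (7 / 32 : ℝ) • F.S + (3 / 4 * F.l - 25 / 1024) • F.ax i
    + (7 / 2048 : ℝ) • (F.ax (i - 1) + F.ax (i + 1)) := by
  have h := F.al_eig hV i
  unfold al at h
  rw [map_add, map_add, map_smul, map_smul, map_smul, map_add, F.idem, F.p1 hV, F.p1' hV] at h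
  linear_combination (norm := module) (-1 / 4 : ℝ) • h

/-- multiplication of an axis with its own second invariant -/
theorem aR (i : ℤ) : mul (F.ax i) (F.rf i) = (7 / 32 : ℝ) • F.rf i
    + (3 / 4 * F.mm i - 25 / 1024) • F.ax i + (7 / 2048 : ℝ) • (F.ax (i - 2) + F.ax (i + 2)) := by
  have h := (core mul B hV (F.pair i) (F.nrm i) (F.ax (i + 2))).2.1
  have e : mul (F.ax i) (F.ax (i + 2)) - (1 / 32 : ℝ) • (F.ax i + F.ax (i + 2)) = F.rf i := rfl
  rw [e, F.refl' i (i + 2) (i - 2) (by ring), F.ip2 hV] at h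
  rw [map_add, map_add, map_smul, map_smul, map_smul, map_add, F.idem, F.p2 hV, F.p2' hV] at h
  linear_combination (norm := module) (-1 / 4 : ℝ) • h

end Fam

end Cfsg.Agent.Helper1.Sak
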