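import Cfsg.Agent.Helper1.SakB

set_option autoImplicit false
set_option maxHeartbeats 1600000

/-!
Sakuma's theorem, part C: the core computation. From the fusion rules for the `0`- and
`1/4`-eigenvectors attached to a neighbouring axis one obtains the product of the axis with the
neighbouring second invariant and the square of `S`.
-/

namespace Cfsg.Agent.Helper1.Sak

variable {V : Type*} [AddCommGroup V] [Module ℝ V]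

theorem g3_core (mul : V →ₗ[ℝ] V →ₗ[ℝ] V) (hc : ∀ x y : V, mul x y = mul y x)
    (a u u₂ S R T : V) (l n : ℝ)
    (h1 : mul a a = a)
    (h2 : mul a u = (2 : ℝ) • S + (1 / 16 : ℝ) • a + (1 / 32 : ℝ) • u)
    (h3 : mul a S = (7 / 32 : ℝ) • S + (3 / 4 * l - 25 / 1024) • a + (7 / 2048 : ℝ) • u)
    (h4 : mul a u₂ = (2 : ℝ) • R + (1 / 16 : ℝ) • a + (1 / 32 : ℝ) • u₂)
    (h6 : mul S u = (7 / 16 : ℝ) • S + (3 / 4 * l - 25 / 1024) • u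
      + (7 / 2048 : ℝ) • ((2 : ℝ) • a + u₂))
    (h7 : mul u u = (17 / 16 : ℝ) • u + (2 : ℝ) • T)
    (f1 : mul a (mul (-(4 : ℝ) • S + (3 * l - 1 / 8) • a + (7 / 16 : ℝ) • u) (-(4 : ℝ) • S + (3 * l - 1 / 8) • a + (7 / 16 : ℝ) • u)) = 0)
    (f2 : mul a (mul (-(4 : ℝ) • S + (3 * l - 1 / 8) • a + (7 / 16 : ℝ) • u) ((4 : ℝ) • S - (4 * l - 1 / 8) • a + (1 / 16 : ℝ) • u)) = (1 / 4 : ℝ) • mul (-(4 : ℝ) • S + (3 * l - 1 / 8) • a + (7 / 16 : ℝ) • u) ((4 : ℝ) • S - (4 * l - 1 / 8) • a + (1 / 16 : ℝ) • u))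
    (f3 : mul a (mul ((4 : ℝ) • S - (4 * l - 1 / 8) • a + (1 / 16 : ℝ) • u) ((4 : ℝ) • S - (4 * l - 1 / 8) • a + (1 / 16 : ℝ) • u)) = ((1 / 4 : ℝ) * (-4 * l ^ 2 + 4 * l - 1 / 16 + n / 16)) • a) :
    mul a T = ((-32/3:ℝ)*l^2 + (5/3:ℝ)*l + (-1/24:ℝ)*n + (-127/3072:ℝ)) • a + ((32/3:ℝ)*l + (-19/48:ℝ)) • S + ((1/6:ℝ)*l + (-19/3072:ℝ)) • u + ((7/96:ℝ)) • R + ((7/6144:ℝ)) • u₂ ∧
    mul S S = ((-5/12:ℝ)*l + (-13/1536:ℝ)) • S + ((7/6:ℝ)*l^2 + (-7/384:ℝ)*l + (7/1536:ℝ)*n + (-7/98304:ℝ)) • a + ((49/768:ℝ)*l + (-245/196608:ℝ)) • u + ((-7/1536:ℝ)) • R + ((49/196608:ℝ)) • u₂ + ((7/2048:ℝ)) • T := by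
  have eaa : mul (-(4 : ℝ) • S + (3 * l - 1 / 8) • a + (7 / 16 : ℝ) • u) (-(4 : ℝ) • S + (3 * l - 1 / 8) • a + (7 / 16 : ℝ) • u) =
      ((16:ℝ)) • mul S S + ((-9:ℝ)*l^2 + (3/4:ℝ)*l + (-81/2048:ℝ)) • a + ((-21/8:ℝ)*l + (1183/4096:ℝ)) • u + ((49/128:ℝ)) • T + ((-49/32:ℝ)) • S + ((-49/4096:ℝ)) • u₂ := by
    simp only [map_add, map_sub, map_smul, LinearMap.add_apply, LinearMap.sub_apply,
      LinearMap.smul_apply]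
    rw [hc S a, hc u a, hc u S, h1, h2, h3, h6, h7]
    module
  have eab : mul (-(4 : ℝ) • S + (3 * l - 1 / 8) • a + (7 / 16 : ℝ) • u) ((4 : ℝ) • S - (4 * l - 1 / 8) • a + (1 / 16 : ℝ) • u) =
      ((-16:ℝ)) • mul S S + ((3:ℝ)*l + (17/32:ℝ)) • S + ((9:ℝ)*l^2 + (-21/32:ℝ)*l + (45/2048:ℝ)) • a + ((75/64:ℝ)*l + (-39/4096:ℝ)) • u + ((21/4096:ℝ)) • u₂ + ((7/128:ℝ)) • T := by
    simp only [map_add, map_sub, map_smul, LinearMap.add_apply, LinearMap.sub_apply,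
      LinearMap.smul_apply]
    rw [hc S a, hc u a, hc u S, h1, h2, h3, h6, h7]
    module
  have ebb : mul ((4 : ℝ) • S - (4 * l - 1 / 8) • a + (1 / 16 : ℝ) • u) ((4 : ℝ) • S - (4 * l - 1 / 8) • a + (1 / 16 : ℝ) • u) =
      ((16:ℝ)) • mul S S + ((-8:ℝ)*l^2 + (1/2:ℝ)*l + (-9/2048:ℝ)) • a + ((1/4:ℝ)*l + (-17/4096:ℝ)) • u + ((1/128:ℝ)) • T + ((-8:ℝ)*l + (15/32:ℝ)) • S + ((7/4096:ℝ)) • u₂ := by
    simp only [map_add, map_sub, map_smul, LinearMap.add_apply, LinearMap.sub_apply,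
      LinearMap.smul_apply]
    rw [hc S a, hc u a, hc u S, h1, h2, h3, h6, h7]
    module
  have eaaa : mul a (mul (-(4 : ℝ) • S + (3 * l - 1 / 8) • a + (7 / 16 : ℝ) • u) (-(4 : ℝ) • S + (3 * l - 1 / 8) • a + (7 / 16 : ℝ) • u)) =
      ((16:ℝ)) • mul a (mul S S) + ((-9:ℝ)*l^2 + (-9/16:ℝ)*l + (31/2048:ℝ)) • a + ((-21/4:ℝ)*l + (497/2048:ℝ)) • S + ((-21/256:ℝ)*l + (497/131072:ℝ)) • u + ((49/128:ℝ)) • mul a T + ((-49/2048:ℝ)) • R + ((-49/131072:ℝ)) • u₂ := by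
    rw [eaa]
    simp only [map_add, map_smul]
    rw [h1, h2, h3, h4]
    module
  have eaab : mul a (mul (-(4 : ℝ) • S + (3 * l - 1 / 8) • a + (7 / 16 : ℝ) • u) ((4 : ℝ) • S - (4 * l - 1 / 8) • a + (1 / 16 : ℝ) • u)) =
      ((-16:ℝ)) • mul a (mul S S) + ((3:ℝ)*l + (199/2048:ℝ)) • S + ((45/4:ℝ)*l^2 + (-33/128:ℝ)*l + (143/16384:ℝ)) • a + ((3/64:ℝ)*l + (199/131072:ℝ)) • u + ((21/2048:ℝ)) • R + ((21/131072:ℝ)) • u₂ + ((7/128:ℝ)) • mul a T := by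
    rw [eab]
    simp only [map_add, map_smul]
    rw [h1, h2, h3, h4]
    module
  have eabb : mul a (mul ((4 : ℝ) • S - (4 * l - 1 / 8) • a + (1 / 16 : ℝ) • u) ((4 : ℝ) • S - (4 * l - 1 / 8) • a + (1 / 16 : ℝ) • u)) =
      ((16:ℝ)) • mul a (mul S S) + ((-14:ℝ)*l^2 + (17/16:ℝ)*l + (-131/8192:ℝ)) • a + ((-5/4:ℝ)*l + (193/2048:ℝ)) • S + ((-5/256:ℝ)*l + (193/131072:ℝ)) • u + ((1/128:ℝ)) • mul a T + ((7/2048:ℝ)) • R + ((7/131072:ℝ)) • u₂ := by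
    rw [ebb]
    simp only [map_add, map_smul]
    rw [h1, h2, h3, h4]
    module
  rw [eaaa] at f1
  rw [eaab, eab] at f2
  rw [eabb] at f3
  constructor
  · linear_combination (norm := module) (8 / 3 : ℝ) • f1 - (8 / 3 : ℝ) • f3
  · linear_combination (norm := module) (1 / 4 : ℝ) • f2 + (7 / 24 : ℝ) • f3 - (1 / 24 : ℝ) • f1

end Cfsg.Agent.Helper1.Sak
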