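import Cfsg.Agent.Helper1.SakC

set_option autoImplicit false
set_option maxHeartbeats 1600000

/-!
Sakuma's theorem, part D: the fusion rules applied to a dihedral family: the product of an axis
with the neighbouring second invariant, the square of `S`, constancy of the second inner product,
and the five-term recurrence for the axes.
-/

namespace Cfsg.Agent.Helper1.Sak

open Cfsg.Axial

variable {V : Type*} [AddCommGroup V] [Module ℝ V]

namespace Fam

variable {mul : V →ₗ[ℝ] V →ₗ[ℝ] V} {B : LinearMap.BilinForm ℝ V} (F : Fam mul B)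
variable (hV : IsMajoranaAmbient mul B)
include hV

theorem al_be_orth (i : ℤ) : B (F.al i) (F.be i) = 0 := by
  have h := hV.2.2.2.1 (F.al i) (F.ax i) (F.be i)
  rw [F.be_eig hV, hV.1 (F.al i) (F.ax i), F.al_eig hV] at h
  simp only [map_smul, smul_eq_mul, map_zero, LinearMap.zero_apply] at h
  linarith

theorem be_ax_orth (i : ℤ) : B (F.be i) (F.ax i) = 0 := by
  have o := Helper5.Majorana.orth mul B hV.2.2.2.1 (F.idem i) (F.al_eig hV i) (F.be_eig hV i)
  rw [hV.2.1]; exact o.2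

theorem u_eq (i : ℤ) : F.ax (i + 1) + F.ax (i - 1) =
    (2 * F.l) • F.ax i + (2 : ℝ) • F.al i + (2 : ℝ) • F.be i := by
  unfold al be; module

theorem ip_m1p1 (i : ℤ) : B (F.ax (i - 1)) (F.ax (i + 1)) = F.mm (i - 1) := by
  have : B (F.ax (i - 1)) (F.ax (i - 1 + 2)) = F.mm (i - 1) := rfl
  rwa [show i - 1 + 2 = i + 1 by ring] at this

theorem be_norm (i : ℤ) :
    B (F.be i) (F.be i) = -4 * F.l ^ 2 + 4 * F.l - 1 / 16 + F.mm (i - 1) / 16 := by
  have hsymm := hV.2.1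
  have h1 : B (F.be i) (F.ax (i + 1) + F.ax (i - 1)) = 2 * B (F.be i) (F.be i) := by
    rw [F.u_eq hV i]
    simp only [map_add, map_smul, smul_eq_mul]
    rw [F.be_ax_orth hV, hsymm (F.be i) (F.al i), F.al_be_orth hV]; ring
  have h2 : B (F.be i) (F.ax (i + 1) + F.ax (i - 1)) =
      2 * (-4 * F.l ^ 2 + 4 * F.l - 1 / 16 + F.mm (i - 1) / 16) := by
    unfold be
    simp only [map_add, map_sub, map_smul, LinearMap.add_apply, LinearMap.sub_apply,
      LinearMap.smul_apply, smul_eq_mul]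
    have e := F.ip_m1p1 hV i
    rw [F.ipS hV, F.ipS hV, F.ip1 hV, F.ip1' hV, F.nrm, F.nrm, hsymm (F.ax (i + 1)) (F.ax (i - 1)), e]
    ring
  linarith

theorem ss_ip (i : ℤ) : 16 * B F.S F.S =
    4 * ((3 * F.l - 1 / 8) + (4 * F.l - 1 / 8)) * ((31 * F.l - 1) / 32) + 3 * ((31 * F.l - 1) / 32)
      - (3 * F.l - 1 / 8) * (4 * F.l - 1 / 8)
      + ((3 * F.l - 1 / 8) / 8 - 7 * (4 * F.l - 1 / 8) / 8) * F.l
      + 7 / 128 * (1 + F.mm (i - 1)) := by
  have hsymm := hV.2.1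
  have h := F.al_be_orth hV i
  unfold al be at h
  simp only [map_add, map_sub, map_smul, LinearMap.add_apply, LinearMap.sub_apply,
    LinearMap.smul_apply, smul_eq_mul] at h
  have e := F.ip_m1p1 hV i
  rw [hsymm (F.ax i) F.S, hsymm (F.ax (i + 1)) F.S, hsymm (F.ax (i - 1)) F.S,
    F.ipS hV, F.ipS hV, F.ipS hV, F.ip1 hV, F.ip1' hV, hsymm (F.ax (i + 1)) (F.ax i),
    hsymm (F.ax (i - 1)) (F.ax i), F.ip1 hV, F.ip1' hV,
    F.nrm, F.nrm, F.nrm, hsymm (F.ax (i + 1)) (F.ax (i - 1)), e] at h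
  linear_combination (-1 : ℝ) * h

theorem mm_succ (i : ℤ) : F.mm (i + 1) = F.mm i := by
  have a := F.ss_ip hV (i + 1)
  have b := F.ss_ip hV (i + 2)
  rw [show i + 1 - 1 = i by ring] at a
  rw [show i + 2 - 1 = i + 1 by ring] at b
  linarith

/-- the common value of the second inner product -/
noncomputable def m : ℝ := F.mm 0

theorem mm_eq (i : ℤ) : F.mm i = F.m := int_const F.mm (F.mm_succ hV) i

theorem g3 (i : ℤ) :
    mul (F.ax i) (F.rf (i - 1)) =
      (-32 / 3 * F.l ^ 2 + 5 / 3 * F.l - 1 / 24 * F.m - 127 / 3072) • F.ax i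
      + (32 / 3 * F.l - 19 / 48) • F.S
      + (1 / 6 * F.l - 19 / 3072) • (F.ax (i + 1) + F.ax (i - 1))
      + (7 / 96 : ℝ) • F.rf i + (7 / 6144 : ℝ) • (F.ax (i + 2) + F.ax (i - 2)) ∧
    mul F.S F.S =
      (-5 / 12 * F.l - 13 / 1536) • F.S
      + (7 / 6 * F.l ^ 2 - 7 / 384 * F.l + 7 / 1536 * F.m - 7 / 98304) • F.ax i
      + (49 / 768 * F.l - 245 / 196608) • (F.ax (i + 1) + F.ax (i - 1))
      + (-7 / 1536 : ℝ) • F.rf i + (49 / 196608 : ℝ) • (F.ax (i + 2) + F.ax (i - 2))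
      + (7 / 2048 : ℝ) • F.rf (i - 1) := by
  have hcomm := hV.1
  obtain ⟨fa, fb, r, r0, hr, hr0⟩ := Helper5.Majorana.fusion mul B (F.pair i)
    (F.al_eig hV i) (F.al_eig hV i) (F.be_eig hV i) (F.be_eig hV i)
  have f3 : mul (F.ax i) (mul (F.be i) (F.be i)) =
      ((1 / 4 : ℝ) * (-4 * F.l ^ 2 + 4 * F.l - 1 / 16 + F.mm (i - 1) / 16)) • F.ax i := by
    have hr' : r = (1 / 4) * B (F.be i) (F.be i) := by
      have o := Helper5.Majorana.orth mul B hV.2.2.2.1 (F.idem i) hr0 (F.be_eig hV i)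
      have h := hV.2.2.2.1 (F.ax i) (F.be i) (F.be i)
      rw [hr, F.be_eig hV i] at h
      simp only [map_add, map_smul, LinearMap.smul_apply, smul_eq_mul] at h
      rw [F.nrm, o.1] at h
      linarith
    rw [hr, map_add, map_smul, F.idem, hr0, hr', F.be_norm hV i]; module
  have h2 : mul (F.ax i) (F.ax (i + 1) + F.ax (i - 1)) =
      (2 : ℝ) • F.S + (1 / 16 : ℝ) • F.ax i + (1 / 32 : ℝ) • (F.ax (i + 1) + F.ax (i - 1)) := by
    rw [map_add, F.p1 hV, F.p1' hV]; module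
  have h3 : mul (F.ax i) F.S = (7 / 32 : ℝ) • F.S + (3 / 4 * F.l - 25 / 1024) • F.ax i
      + (7 / 2048 : ℝ) • (F.ax (i + 1) + F.ax (i - 1)) := by
    rw [F.aS hV]; module
  have h4 : mul (F.ax i) (F.ax (i + 2) + F.ax (i - 2)) =
      (2 : ℝ) • F.rf i + (1 / 16 : ℝ) • F.ax i + (1 / 32 : ℝ) • (F.ax (i + 2) + F.ax (i - 2)) := by
    rw [map_add, F.p2 hV, F.p2' hV]; module
  have h6 : mul F.S (F.ax (i + 1) + F.ax (i - 1)) = (7 / 16 : ℝ) • F.S
      + (3 / 4 * F.l - 25 / 1024) • (F.ax (i + 1) + F.ax (i - 1))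
      + (7 / 2048 : ℝ) • ((2 : ℝ) • F.ax i + (F.ax (i + 2) + F.ax (i - 2))) := by
    have e1 := F.aS hV (i + 1)
    have e2 := F.aS hV (i - 1)
    rw [show i + 1 - 1 = i by ring, show i + 1 + 1 = i + 2 by ring] at e1
    rw [show i - 1 - 1 = i - 2 by ring, show i - 1 + 1 = i by ring] at e2
    rw [map_add, hcomm F.S (F.ax (i + 1)), hcomm F.S (F.ax (i - 1)), e1, e2]; module
  have h7 : mul (F.ax (i + 1) + F.ax (i - 1)) (F.ax (i + 1) + F.ax (i - 1)) =
      (17 / 16 : ℝ) • (F.ax (i + 1) + F.ax (i - 1)) + (2 : ℝ) • F.rf (i - 1) := by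
    have e := F.p2 hV (i - 1)
    rw [show i - 1 + 2 = i + 1 by ring] at e
    simp only [map_add, LinearMap.add_apply]
    rw [F.idem, F.idem, hcomm (F.ax (i + 1)) (F.ax (i - 1)), e]; module
  obtain ⟨c1, c2⟩ := g3_core mul hcomm (F.ax i) (F.ax (i + 1) + F.ax (i - 1))
    (F.ax (i + 2) + F.ax (i - 2)) F.S (F.rf i) (F.rf (i - 1)) F.l (F.mm (i - 1))
    (F.idem i) h2 h3 h4 h6 h7 fa fb f3
  rw [F.mm_eq hV] at c1 c2
  constructor
  · linear_combination (norm := module) c1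
  · linear_combination (norm := module) c2

/-- the five-term recurrence -/
theorem star (i : ℤ) : F.ax (i + 3) = F.ax (i - 2)
    + ((32768 * F.l ^ 2 - 512 * F.l + 128 * F.m - 2) / 7) • (F.ax i - F.ax (i + 1))
    + (256 * F.l - 5) • (F.ax (i + 1) + F.ax (i - 1) - F.ax i - F.ax (i + 2))
    + (F.ax (i + 2) - F.ax (i - 1)) + (32 : ℝ) • (F.rf (i + 1) - F.rf i) := by
  have hi := (F.g3 hV i).2
  have hi1 := (F.g3 hV (i + 1)).2
  rw [show i + 1 + 1 = i + 2 by ring, show i + 1 - 1 = i by ring, show i + 1 + 2 = i + 3 by ring,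
    show i + 1 - 2 = i - 1 by ring] at hi1
  have e := F.rf_add2 hV (i - 1)
  rw [show i - 1 + 2 = i + 1 by ring] at e
  rw [← e] at hi
  linear_combination (norm := module) (196608 / 49 : ℝ) • hi - (196608 / 49 : ℝ) • hi1

end Fam

end Cfsg.Agent.Helper1.Sak
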