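import Cfsg.Agent.Helper1.SakD

set_option autoImplicit false
set_option maxHeartbeats 3200000

/-!
Sakuma's theorem, part E: computing `a₀·a₃` in two ways gives a linear relation among
`a₋₂,…,a₂,S,R,T`; pairing it with `a₀` and `a₁` gives two polynomial equations for the
inner products `l = (a₀,a₁)` and `m = (a₀,a₂)`. Also the inner products `(a₀,a_k)`, `k = 3,…,6`.
-/

namespace Cfsg.Agent.Helper1.Sak

open Cfsg.Axial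

variable {V : Type*} [AddCommGroup V] [Module ℝ V]

namespace Fam

variable {mul : V →ₗ[ℝ] V →ₗ[ℝ] V} {B : LinearMap.BilinForm ℝ V} (F : Fam mul B)
variable (hV : IsMajoranaAmbient mul B)
include hV

theorem s3 : F.ax 3 = F.ax (-2)
    + ((32768 * F.l ^ 2 - 512 * F.l + 128 * F.m - 2) / 7) • (F.ax 0 - F.ax 1)
    + (256 * F.l - 5) • (F.ax 1 + F.ax (-1) - F.ax 0 - F.ax 2)
    + (F.ax 2 - F.ax (-1)) + (32 : ℝ) • (F.rf 1 - F.rf 0) := by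
  have h := F.star hV 0
  simp only [zero_add, zero_sub, Int.reduceAdd, Int.reduceSub, Int.reduceNeg] at h
  exact h

theorem r2 : F.rf 2 = F.rf 0 := by
  have h := F.rf_add2 hV 0
  simp only [zero_add] at h
  exact h

theorem r3 : F.rf 3 = F.rf 1 := by
  have h := F.rf_add2 hV 1
  simp only [Int.reduceAdd] at h
  exact h

theorem r4 : F.rf 4 = F.rf 0 := by
  have h := F.rf_add2 hV 2
  simp only [Int.reduceAdd] at h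
  rw [h, F.r2 hV]

theorem rm1 : F.rf (-1) = F.rf 1 := by
  have h := F.rf_add2 hV (-1)
  simp only [Int.reduceAdd, Int.reduceNeg] at h
  exact h.symm

theorem s4 : F.ax 4 = F.ax (-1)
    + ((32768 * F.l ^ 2 - 512 * F.l + 128 * F.m - 2) / 7) • (F.ax 1 - F.ax 2)
    + (256 * F.l - 5) • (F.ax 2 + F.ax 0 - F.ax 1 - F.ax 3)
    + (F.ax 3 - F.ax 0) + (32 : ℝ) • (F.rf 0 - F.rf 1) := by
  have h := F.star hV 1
  simp only [Int.reduceAdd, Int.reduceSub, Int.reduceNeg] at h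
  rw [F.r2 hV] at h
  exact h

theorem s5 : F.ax 5 = F.ax 0
    + ((32768 * F.l ^ 2 - 512 * F.l + 128 * F.m - 2) / 7) • (F.ax 2 - F.ax 3)
    + (256 * F.l - 5) • (F.ax 3 + F.ax 1 - F.ax 2 - F.ax 4)
    + (F.ax 4 - F.ax 1) + (32 : ℝ) • (F.rf 1 - F.rf 0) := by
  have h := F.star hV 2
  simp only [Int.reduceAdd, Int.reduceSub, Int.reduceNeg] at h
  rw [F.r2 hV, F.r3 hV] at h
  exact h

theorem s6 : F.ax 6 = F.ax 1
    + ((32768 * F.l ^ 2 - 512 * F.l + 128 * F.m - 2) / 7) • (F.ax 3 - F.ax 4)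
    + (256 * F.l - 5) • (F.ax 4 + F.ax 2 - F.ax 3 - F.ax 5)
    + (F.ax 5 - F.ax 2) + (32 : ℝ) • (F.rf 0 - F.rf 1) := by
  have h := F.star hV 3
  simp only [Int.reduceAdd, Int.reduceSub, Int.reduceNeg] at h
  rw [F.r4 hV, F.r3 hV] at h
  exact h

/-- the linear relation obtained from `a₀·a₃ = a₃·a₀` -/
theorem k1 : ((-393216/7:ℝ)*F.l^2 + (-1024/7:ℝ)*F.l + (-1536/7:ℝ)*F.m + (248/7:ℝ)) • F.rf 0 + ((402653184/49:ℝ)*F.l^4 + (-34603008/49:ℝ)*F.l^3 + (3145728/49:ℝ)*F.l^2*F.m + (651264/49:ℝ)*F.l^2 + (-135168/49:ℝ)*F.l*F.m + (2784/49:ℝ)*F.l + (6144/49:ℝ)*F.m^2 + (816/49:ℝ)*F.m + (-351/196:ℝ)) • F.ax 0 + ((12288/7:ℝ)*F.l^2 + (-192/7:ℝ)*F.l + (48/7:ℝ)*F.m + (-27/56:ℝ)) • F.ax (-2) + ((-402653184/49:ℝ)*F.l^4 + (29097984/49:ℝ)*F.l^3 + (-3145728/49:ℝ)*F.l^2*F.m + (-221184/49:ℝ)*F.l^2 + (113664/49:ℝ)*F.l*F.m + (-14880/49:ℝ)*F.l + (-6144/49:ℝ)*F.m^2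 + (-648/49:ℝ)*F.m + (855/196:ℝ)) • F.ax 1 + ((3145728/7:ℝ)*F.l^3 + (-122880/7:ℝ)*F.l^2 + (12288/7:ℝ)*F.l*F.m + (288/7:ℝ)*F.l + (-288/7:ℝ)*F.m + (81/28:ℝ)) • F.ax (-1) + ((-2359296/7:ℝ)*F.l^3 + (49152/7:ℝ)*F.l^2 + (-9216/7:ℝ)*F.l*F.m + (1632/7:ℝ)*F.l + (216/7:ℝ)*F.m + (-279/56:ℝ)) • F.ax 2 + ((393216/7:ℝ)*F.l^2 + (1024/7:ℝ)*F.l + (1536/7:ℝ)*F.m + (-248/7:ℝ)) • F.rf 1 = 0 := by
  have hcomm := hV.1
  have key := hcomm (F.ax 0) (F.ax 3)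
  have s0 : F.ax 0 = F.ax 5
      - (((32768 * F.l ^ 2 - 512 * F.l + 128 * F.m - 2) / 7) • (F.ax 2 - F.ax 3)
      + (256 * F.l - 5) • (F.ax 3 + F.ax 1 - F.ax 2 - F.ax 4)
      + (F.ax 4 - F.ax 1) + (32 : ℝ) • (F.rf 1 - F.rf 0)) := by
    linear_combination (norm := module) (-1 : ℝ) • F.s5 hV
  -- products with base `a₀`
  have q00 := F.idem 0
  have q01 := F.p1 hV 0
  have q0m1 := F.p1' hV 0
  have q02 := F.p2 hV 0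
  have q0m2 := F.p2' hV 0
  have q0R := F.aR hV 0
  have q0T := (F.g3 hV 0).1
  simp only [zero_add, zero_sub, Int.reduceAdd, Int.reduceSub, Int.reduceNeg] at q01 q0m1 q02 q0m2 q0R q0T
  rw [F.rm1 hV] at q0T
  rw [F.mm_eq hV] at q0R
  -- products with base `a₃`
  have q33 := F.idem 3
  have q34 := F.p1 hV 3
  have q32 := F.p1' hV 3
  have q35 := F.p2 hV 3
  have q31 := F.p2' hV 3
  have q3T := F.aR hV 3
  have q3R := (F.g3 hV 3).1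
  simp only [Int.reduceAdd, Int.reduceSub, Int.reduceNeg] at q34 q32 q35 q31 q3T q3R
  rw [F.r3 hV] at q35 q31 q3T q3R
  rw [F.r2 hV] at q3R
  rw [F.mm_eq hV] at q3T
  conv_lhs at key => rw [F.s3 hV]
  conv_rhs at key => rw [s0]
  simp only [map_add, map_sub, map_smul] at key
  rw [q00, q01, q0m1, q02, q0m2, q0R, q0T, q33, q34, q32, q35, q31, q3T, q3R] at key
  rw [F.s5 hV, F.s4 hV, F.s3 hV] at key
  linear_combination (norm := module) key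

/-! inner products with `a₀` and `a₁` -/

theorem b00 : B (F.ax 0) (F.ax 0) = 1 := F.nrm 0

theorem b01 : B (F.ax 0) (F.ax 1) = F.l := rfl

theorem b0m1 : B (F.ax 0) (F.ax (-1)) = F.l := by
  have h := F.ip1' hV 0
  simp only [zero_sub] at h
  exact h

theorem b02 : B (F.ax 0) (F.ax 2) = F.m := by
  have h := F.ip2 hV 0
  simp only [zero_add] at h
  exact h

theorem b0m2 : B (F.ax 0) (F.ax (-2)) = F.m := by
  have h := F.ip2' hV 0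
  simp only [zero_sub] at h
  exact h

theorem b0S : B (F.ax 0) F.S = (31 * F.l - 1) / 32 := by rw [hV.2.1, F.ipS hV]

theorem b0R : B (F.ax 0) (F.rf 0) = (31 * F.m - 1) / 32 := by
  rw [hV.2.1, F.ipR0 hV]; rfl

theorem b0T : B (F.ax 0) (F.rf 1) = (30 * F.l + F.m - 1) / 32 := by
  have h := F.ipR1 hV (-1)
  rw [show (-1 : ℤ) + 1 = 0 by norm_num, F.rm1 hV, F.mm_eq hV] at h
  rw [hV.2.1, h]

theorem b11 : B (F.ax 1) (F.ax 1) = 1 := F.nrm 1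

theorem b10 : B (F.ax 1) (F.ax 0) = F.l := by rw [hV.2.1]; rfl

theorem b12 : B (F.ax 1) (F.ax 2) = F.l := by
  have h := F.ip1 hV 1
  rw [show (1 : ℤ) + 1 = 2 by norm_num] at h
  exact h

theorem b1m1 : B (F.ax 1) (F.ax (-1)) = F.m := by
  have h := F.ip2' hV 1
  rw [show (1 : ℤ) - 2 = -1 by norm_num, F.mm_eq hV] at h
  exact h

theorem b1S : B (F.ax 1) F.S = (31 * F.l - 1) / 32 := by rw [hV.2.1, F.ipS hV]

theorem b1R : B (F.ax 1) (F.rf 0) = (30 * F.l + F.m - 1) / 32 := by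
  have h := F.ipR1 hV 0
  rw [show (0 : ℤ) + 1 = 1 by norm_num, F.mm_eq hV] at h
  rw [hV.2.1, h]

theorem b1T : B (F.ax 1) (F.rf 1) = (31 * F.m - 1) / 32 := by
  have h := F.ipR0 hV 1
  rw [F.mm_eq hV] at h
  rw [hV.2.1, h]

theorem b1m2 : B (F.ax 1) (F.ax (-2)) = B (F.ax 0) (F.ax 3) := by
  have h1 := F.ip_refl hV 0 0 3
  have h2 := F.ip_refl hV (-1) 0 (-3)
  rw [show (2 : ℤ) * 0 - 0 = 0 by norm_num, show (2 : ℤ) * 0 - 3 = -3 by norm_num] at h1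
  rw [show (2 : ℤ) * (-1) - 0 = -2 by norm_num, show (2 : ℤ) * (-1) - (-3) = 1 by norm_num] at h2
  rw [hV.2.1, h2, h1]

theorem lam3 : B (F.ax 0) (F.ax 3) = ((-32768/7:ℝ)*F.l^3 + (36864/7:ℝ)*F.l^2 + (-1920/7:ℝ)*F.l*F.m + (-2169/7:ℝ)*F.l + (-33/7:ℝ)*F.m + (33/7:ℝ)) := by
  have h := congrArg (B (F.ax 0)) (F.s3 hV)
  simp only [map_add, map_sub, map_smul, smul_eq_mul, F.b00 hV, F.b01 hV, F.b0m1 hV, F.b02 hV,
    F.b0m2 hV, F.b0R hV, F.b0T hV] at h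
  rw [h]; ring

theorem lam4 : B (F.ax 0) (F.ax 4) = ((8388608/7:ℝ)*F.l^4 + (-9601024/7:ℝ)*F.l^3 + (65536:ℝ)*F.l^2*F.m + (110592:ℝ)*F.l^2 + (-640/7:ℝ)*F.l*F.m + (-19840/7:ℝ)*F.l + (-128/7:ℝ)*F.m^2 + (-3:ℝ)*F.m + (156/7:ℝ)) := by
  have h := congrArg (B (F.ax 0)) (F.s4 hV)
  simp only [map_add, map_sub, map_smul, smul_eq_mul, F.b00 hV, F.b01 hV, F.b0m1 hV, F.b02 hV,
    F.b0m2 hV, F.b0R hV, F.b0T hV, F.lam3 hV] at h
  rw [h]; ring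

theorem lam5 : B (F.ax 0) (F.ax 5) = ((-13958643712/49:ℝ)*F.l^5 + (16273899520/49:ℝ)*F.l^4 + (-754974720/49:ℝ)*F.l^3*F.m + (-1633419264/49:ℝ)*F.l^3 + (12582912/49:ℝ)*F.l^2*F.m + (8683520/7:ℝ)*F.l^2 + (475136/49:ℝ)*F.l*F.m^2 + (259584/49:ℝ)*F.l*F.m + (-137721/7:ℝ)*F.l + (-256/49:ℝ)*F.m^2 + (-5256/49:ℝ)*F.m + (5512/49:ℝ)) := by
  have h := congrArg (B (F.ax 0)) (F.s5 hV)
  simp only [map_add, map_sub, map_smul, smul_eq_mul, F.b00 hV, F.b01 hV, F.b0m1 hV, F.b02 hV,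
    F.b0m2 hV, F.b0R hV, F.b0T hV, F.lam3 hV, F.lam4 hV] at h
  rw [h]; ring

theorem lam6 : B (F.ax 0) (F.ax 6) = ((3298534883328/49:ℝ)*F.l^6 + (-3917010173952/49:ℝ)*F.l^5 + (177167400960/49:ℝ)*F.l^4*F.m + (469317451776/49:ℝ)*F.l^4 + (-5511315456/49:ℝ)*F.l^3*F.m + (-22767894528/49:ℝ)*F.l^3 + (-25165824/7:ℝ)*F.l^2*F.m^2 + (-97910784/49:ℝ)*F.l^2*F.m + (542429184/49:ℝ)*F.l^2 + (2457600/49:ℝ)*F.l*F.m^2 + (5162880/49:ℝ)*F.l*F.m + (-904320/7:ℝ)*F.l + (16384/49:ℝ)*F.m^3 + (1152/49:ℝ)*F.m^2 + (-46500/49:ℝ)*F.m + (29013/49:ℝ)) := by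
  have h := congrArg (B (F.ax 0)) (F.s6 hV)
  simp only [map_add, map_sub, map_smul, smul_eq_mul, F.b00 hV, F.b01 hV, F.b0m1 hV, F.b02 hV,
    F.b0m2 hV, F.b0R hV, F.b0T hV, F.lam3 hV, F.lam4 hV, F.lam5 hV] at h
  rw [h]; ring

/-- first polynomial relation -/
theorem f1 : ((-402653184/49:ℝ)*F.l^5 + (453771264/49:ℝ)*F.l^4 + (-19660800/49:ℝ)*F.l^3*F.m + (-33103872/49:ℝ)*F.l^3 + (1195008/49:ℝ)*F.l^2*F.m + (92160/7:ℝ)*F.l^2 + (-70656/49:ℝ)*F.l*F.m^2 + (-124392/49:ℝ)*F.l*F.m + (216/7:ℝ)*F.l + (-2088/49:ℝ)*F.m^2 + (8703/196:ℝ)*F.m + (-351/196:ℝ)) = 0 := by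
  have h := congrArg (B (F.ax 0)) (F.k1 hV)
  simp only [map_add, map_smul, smul_eq_mul, map_zero, F.b00 hV, F.b01 hV, F.b0m1 hV, F.b02 hV,
    F.b0m2 hV, F.b0R hV, F.b0T hV, F.b0S hV] at h
  linear_combination h

/-- second polynomial relation -/
theorem f2 : ((786432/7:ℝ)*F.l^4 + (-872448/7:ℝ)*F.l^3 + (15360/7:ℝ)*F.l^2*F.m + (69120/7:ℝ)*F.l^2 + (3336/7:ℝ)*F.l*F.m + (-1800/7:ℝ)*F.l + (48/7:ℝ)*F.m^2 + (-501/56:ℝ)*F.m + (117/56:ℝ)) = 0 := by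
  have h := congrArg (B (F.ax 1)) (F.k1 hV)
  simp only [map_add, map_smul, smul_eq_mul, map_zero, F.b11 hV, F.b10 hV, F.b1m1 hV, F.b12 hV,
    F.b1m2 hV, F.b1R hV, F.b1T hV, F.b1S hV, F.lam3 hV] at h
  linear_combination h

end Fam

end Cfsg.Agent.Helper1.Sak
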