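import Cfsg.Agent.Helper1.SakE

set_option autoImplicit false
set_option maxHeartbeats 3200000

/-!
Sakuma's theorem, part F: the two polynomial relations have exactly the nine Sakuma solutions;
in each case some `a_n` with `1 ≤ n ≤ 6` coincides with `a₀`.
-/

namespace Cfsg.Agent.Helper1.Sak

open Cfsg.Axial

variable {V : Type*} [AddCommGroup V] [Module ℝ V]

theorem solve9 (l m : ℝ) (h1 : ((-402653184/49:ℝ)*l^5 + (453771264/49:ℝ)*l^4 + (-19660800/49:ℝ)*l^3*m + (-33103872/49:ℝ)*l^3 + (1195008/49:ℝ)*l^2*m + (92160/7:ℝ)*l^2 + (-70656/49:ℝ)*l*m^2 + (-124392/49:ℝ)*l*m + (216/7:ℝ)*l + (-2088/49:ℝ)*m^2 + (8703/196:ℝ)*m + (-351/196:ℝ)) = 0) (h2 : ((786432/7:ℝ)*l^4 + (-872448/7:ℝ)*l^3 + (15360/7:ℝ)*l^2*m + (69120/7:ℝ)*l^2 + (3336/7:ℝ)*l*m + (-1800/7:ℝ)*l + (48/7:ℝ)*m^2 + (-501/56:ℝ)*m + (117/56:ℝ)) = 0) :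
    l = 1 ∨ (l = 1 / 8 ∧ m = 1) ∨ (l = 0 ∧ m = 1) ∨ (l = 13 / 256 ∧ m = 13 / 256) ∨
    (l = 1 / 64 ∧ m = 1 / 64) ∨ (l = 1 / 64 ∧ m = 1 / 8) ∨ (l = 1 / 32 ∧ m = 0) ∨
    (l = 3 / 128 ∧ m = 3 / 128) ∨ (l = 5 / 256 ∧ m = 13 / 256) := by
  have hres : l * (l - 1) * (8 * l - 1) * (256 * l - 13) * (64 * l - 1) * (64 * l - 1)
      * (32 * l - 1) * (128 * l - 3) * (256 * l - 5) = 0 := by
    linear_combination ((2097152/45:ℝ)*l^5 + (35209216/45:ℝ)*l^4 + (32768/45:ℝ)*l^3*m + (510336/5:ℝ)*l^3 + (25088/15:ℝ)*l^2*m + (-33293/9:ℝ)*l^2 + (-794/45:ℝ)*l*m + (7849/288:ℝ)*l + (-13/96:ℝ)*m + (169/4096:ℝ)) * h1 + ((1073741824/315:ℝ)*l^6 + (42670751744/315:ℝ)*l^5 + (48234496/315:ℝ)*l^4*m + (-247906304/35:ℝ)*l^4 + (12468224/35:ℝ)*l^3*m + (179607424/315:ℝ)*l^3 + (2105216/315:ℝ)*l^2*m + (-979625/63:ℝ)*l^2 + (-14503/105:ℝ)*l*m + (161867/1344:ℝ)*l + (-377/448:ℝ)*m + (507/14336:ℝ)) * h2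
  simp only [mul_eq_zero] at hres
  rcases hres with (((((((h | h) | h) | h) | h) | h) | h) | h) | h
  · -- l = 0
    subst h
    right; right; left
    refine ⟨rfl, ?_⟩
    linear_combination (-784/8775:ℝ) * h1 + (-1624/2925:ℝ) * h2
  · left; linarith
  · have hl : l = 1 / 8 := by linarith
    subst hl
    right; left
    refine ⟨rfl, ?_⟩
    linear_combination (16/33345:ℝ) * h1 + (8/513:ℝ) * h2
  · have hl : l = 13 / 256 := by linarith
    subst hl
    right; right; right; left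
    refine ⟨rfl, ?_⟩
    linear_combination (1792/500175:ℝ) * h1 + (30272/500175:ℝ) * h2
  · have hl : l = 1 / 64 := by linarith
    subst hl
    have hm : (m - 1 / 64) * (m - 1 / 8) = 0 := by linear_combination (7 / 48 : ℝ) * h2
    rcases mul_eq_zero.mp hm with hm | hm
    · right; right; right; right; left
      exact ⟨rfl, by linarith⟩
    · right; right; right; right; right; left
      exact ⟨rfl, by linarith⟩
  · have hl : l = 1 / 64 := by linarith
    subst hl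
    have hm : (m - 1 / 64) * (m - 1 / 8) = 0 := by linear_combination (7 / 48 : ℝ) * h2
    rcases mul_eq_zero.mp hm with hm | hm
    · right; right; right; right; left
      exact ⟨rfl, by linarith⟩
    · right; right; right; right; right; left
      exact ⟨rfl, by linarith⟩
  · have hl : l = 1 / 32 := by linarith
    subst hl
    right; right; right; right; right; right; left
    refine ⟨rfl, ?_⟩
    linear_combination (784/62775:ℝ) * h1 + (10024/62775:ℝ) * h2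
  · have hl : l = 3 / 128 := by linarith
    subst hl
    right; right; right; right; right; right; right; left
    refine ⟨rfl, ?_⟩
    linear_combination (56/1755:ℝ) * h1 + (16/45:ℝ) * h2
  · have hl : l = 5 / 256 := by linarith
    subst hl
    right; right; right; right; right; right; right; right
    refine ⟨rfl, ?_⟩
    linear_combination (12544/169425:ℝ) * h1 + (129472/169425:ℝ) * h2

namespace Fam

variable {mul : V →ₗ[ℝ] V →ₗ[ℝ] V} {B : LinearMap.BilinForm ℝ V} (F : Fam mul B)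
variable (hV : IsMajoranaAmbient mul B)
include hV

theorem cases6 : B (F.ax 0) (F.ax 1) = 1 ∨ B (F.ax 0) (F.ax 2) = 1 ∨ B (F.ax 0) (F.ax 3) = 1 ∨
    B (F.ax 0) (F.ax 4) = 1 ∨ B (F.ax 0) (F.ax 5) = 1 ∨ B (F.ax 0) (F.ax 6) = 1 := by
  rcases solve9 F.l F.m (F.f1 hV) (F.f2 hV) with h | ⟨hl, hm⟩ | ⟨hl, hm⟩ | ⟨hl, hm⟩ | ⟨hl, hm⟩ |
    ⟨hl, hm⟩ | ⟨hl, hm⟩ | ⟨hl, hm⟩ | ⟨hl, hm⟩
  · left; exact h
  · right; left; rw [F.b02 hV]; exact hm
  · right; left; rw [F.b02 hV]; exact hm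
  · right; right; left; rw [F.lam3 hV, hl, hm]; norm_num
  · right; right; left; rw [F.lam3 hV, hl, hm]; norm_num
  · right; right; right; left; rw [F.lam4 hV, hl, hm]; norm_num
  · right; right; right; left; rw [F.lam4 hV, hl, hm]; norm_num
  · right; right; right; right; left; rw [F.lam5 hV, hl, hm]; norm_num
  · right; right; right; right; right; rw [F.lam6 hV, hl, hm]; norm_num

theorem eq_of_ip_one (i : ℤ) (h : B (F.ax 0) (F.ax i) = 1) : F.ax i = F.ax 0 := by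
  have hsymm := hV.2.1
  have hpos := hV.2.2.1
  by_contra hne
  have hne' : F.ax i - F.ax 0 ≠ 0 := sub_ne_zero.mpr hne
  have := hpos _ hne'
  simp only [map_sub, LinearMap.sub_apply] at this
  rw [F.nrm, F.nrm, h, hsymm (F.ax i) (F.ax 0), h] at this
  linarith

theorem exists_eq : ∃ n : ℕ, 1 ≤ n ∧ n ≤ 6 ∧ F.ax (n : ℤ) = F.ax 0 := by
  rcases F.cases6 hV with h | h | h | h | h | h
  · exact ⟨1, le_refl _, by norm_num, F.eq_of_ip_one hV _ h⟩
  · exact ⟨2, by norm_num, by norm_num, F.eq_of_ip_one hV _ h⟩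
  · exact ⟨3, by norm_num, by norm_num, F.eq_of_ip_one hV _ h⟩
  · exact ⟨4, by norm_num, by norm_num, F.eq_of_ip_one hV _ h⟩
  · exact ⟨5, by norm_num, by norm_num, F.eq_of_ip_one hV _ h⟩
  · exact ⟨6, by norm_num, by norm_num, F.eq_of_ip_one hV _ h⟩

end Fam

end Cfsg.Agent.Helper1.Sak
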