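import Cfsg.Agent.Helper1.SakF

set_option autoImplicit false

/-!
Sakuma's theorem, part G: two Majorana involutions generate a dihedral family of axes; the
product of the involutions has order at most six.
-/

namespace Cfsg.Agent.Helper1.Sak

open Cfsg.Axial

variable {V : Type*} [AddCommGroup V] [Module ℝ V]

section build

variable (mul : V →ₗ[ℝ] V →ₗ[ℝ] V) (B : LinearMap.BilinForm ℝ V)

/-- the group of automorphisms of the product and the form -/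
def autSub : Subgroup (V ≃ₗ[ℝ] V) where
  carrier := {f | (∀ u v : V, f (mul u v) = mul (f u) (f v)) ∧ ∀ u v : V, B (f u) (f v) = B u v}
  mul_mem' := by
    rintro f g ⟨hf1, hf2⟩ ⟨hg1, hg2⟩
    refine ⟨fun u v => ?_, fun u v => ?_⟩
    · simp only [LinearEquiv.mul_apply]; rw [hg1, hf1]
    · simp only [LinearEquiv.mul_apply]; rw [hf2, hg2]
  one_mem' := ⟨fun u v => rfl, fun u v => rfl⟩
  inv_mem' := by
    rintro f ⟨hf1, hf2⟩
    refine ⟨fun u v => ?_, fun u v => ?_⟩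
    · exact Helper5.Majorana.symm_mul mul f hf1 u v
    · show B (f.symm u) (f.symm v) = B u v
      rw [← hf2, LinearEquiv.apply_symm_apply, LinearEquiv.apply_symm_apply]

theorem pair_mem {μ : V ≃ₗ[ℝ] V} {a : V} (h : IsMajoranaPair mul B μ a) : μ ∈ autSub mul B :=
  ⟨h.1, h.2.1⟩

theorem pair_sq {μ : V ≃ₗ[ℝ] V} {a : V} (h : IsMajoranaPair mul B μ a) : μ * μ = 1 := by
  ext x
  obtain ⟨t, u, v, w, -, -, -, -, -, hx⟩ := decomp4 mul B h x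
  exact hx

theorem pair_conj {μ : V ≃ₗ[ℝ] V} {a : V} (h : IsMajoranaPair mul B μ a) {g : V ≃ₗ[ℝ] V}
    (hg : g ∈ autSub mul B) : IsMajoranaPair mul B (g * μ * g⁻¹) (g a) := by
  have hμ : μ ∈ autSub mul B := pair_mem mul B h
  have hc := (autSub mul B).mul_mem ((autSub mul B).mul_mem hg hμ) ((autSub mul B).inv_mem hg)
  obtain ⟨hm, hB, hprim, hmiy1, hmiy2⟩ := h
  have hgs := Helper5.Majorana.symm_mul mul g hg.1
  refine ⟨hc.1, hc.2, Helper5.Majorana.isPrimitiveAxis_map mul g hg.1 hprim, ?_, ?_⟩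
  · intro v hv
    have hv' : g.symm v ∈ eigenSum mul a {1, 0, 1 / 4} := by
      have := Helper5.Majorana.eigenSum_map mul g.symm hgs hv
      rwa [LinearEquiv.symm_apply_apply] at this
    have h1 : μ (g.symm v) = g.symm v := hmiy1 _ hv'
    show g (μ (g.symm v)) = v
    rw [h1, LinearEquiv.apply_symm_apply]
  · intro v hv
    have hv' : g.symm v ∈ eigen mul a (1 / 32) := by
      have := Helper5.Majorana.eigen_map mul g.symm hgs hv
      rwa [LinearEquiv.symm_apply_apply] at this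
    have h1 : μ (g.symm v) = -(g.symm v) := hmiy2 _ hv'
    show g (μ (g.symm v)) = -v
    rw [h1, map_neg, LinearEquiv.apply_symm_apply]

variable {μ₀ μ₁ : V ≃ₗ[ℝ] V} {a₀ a₁ : V}

/-- the axes of the dihedral family -/
noncomputable def axF (μ₀ μ₁ : V ≃ₗ[ℝ] V) (a₀ a₁ : V) (i : ℤ) : V :=
  ((μ₁ * μ₀) ^ (i / 2)) (if i % 2 = 0 then a₀ else a₁)

theorem d1 (h₀ : IsMajoranaPair mul B μ₀ a₀) (h₁ : IsMajoranaPair mul B μ₁ a₁) (k : ℤ) :
    μ₀ * (μ₁ * μ₀) ^ k = (μ₁ * μ₀) ^ (-k) * μ₀ := by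
  have s0 := pair_sq mul B h₀
  have s1 := pair_sq mul B h₁
  have i0 : μ₀⁻¹ = μ₀ := inv_eq_of_mul_eq_one_right s0
  have i1 : μ₁⁻¹ = μ₁ := inv_eq_of_mul_eq_one_right s1
  have c : μ₀ * (μ₁ * μ₀) * μ₀⁻¹ = (μ₁ * μ₀)⁻¹ := by
    rw [mul_inv_rev, i0, i1, mul_assoc, mul_assoc, s0, mul_one]
  have c2 := conj_zpow (a := μ₀) (b := μ₁ * μ₀) (i := k)
  rw [c, inv_zpow'] at c2
  rw [c2, inv_mul_cancel_right]

theorem axF_shift (k j : ℤ) :
    ((μ₁ * μ₀) ^ k) (axF μ₀ μ₁ a₀ a₁ j) = axF μ₀ μ₁ a₀ a₁ (j + 2 * k) := by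
  unfold axF
  rw [Int.add_mul_ediv_left _ _ (two_ne_zero), Int.add_mul_emod_self_left,
    show j / 2 + k = k + j / 2 by ring, zpow_add, LinearEquiv.mul_apply]

theorem axF_neg (h₀ : IsMajoranaPair mul B μ₀ a₀) (h₁ : IsMajoranaPair mul B μ₁ a₁) (j : ℤ) :
    μ₀ (axF μ₀ μ₁ a₀ a₁ j) = axF μ₀ μ₁ a₀ a₁ (-j) := by
  unfold axF
  have e : ∀ v, μ₀ (((μ₁ * μ₀) ^ (j / 2)) v) = ((μ₁ * μ₀) ^ (-(j / 2))) (μ₀ v) := by
    intro v
    have := congrArg (fun f : V ≃ₗ[ℝ] V => f v) (d1 mul B h₀ h₁ (j / 2))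
    simpa only [LinearEquiv.mul_apply] using this
  rw [e]
  rcases Int.emod_two_eq_zero_or_one j with h | h
  · have h2 : (-j) % 2 = 0 := by omega
    have h3 : (-j) / 2 = -(j / 2) := by omega
    rw [if_pos h, if_pos h2, h3, pair_fix mul B h₀]
  · have h2 : ¬ ((-j) % 2 = 0) := by omega
    have h2' : ¬ (j % 2 = 0) := by omega
    have h3 : (-j) / 2 = -(j / 2) - 1 := by omega
    have s0 := pair_sq mul B h₀
    have s1 := pair_sq mul B h₁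
    have i0 : μ₀⁻¹ = μ₀ := inv_eq_of_mul_eq_one_right s0
    have i1 : μ₁⁻¹ = μ₁ := inv_eq_of_mul_eq_one_right s1
    rw [if_neg h2', if_neg h2, h3, zpow_sub_one, LinearEquiv.mul_apply, mul_inv_rev, i0, i1,
      LinearEquiv.mul_apply, pair_fix mul B h₁]

theorem axF_pair (h₀ : IsMajoranaPair mul B μ₀ a₀) (h₁ : IsMajoranaPair mul B μ₁ a₁) (i : ℤ) :
    IsMajoranaPair mul B ((μ₁ * μ₀) ^ i * μ₀) (axF μ₀ μ₁ a₀ a₁ i) := by
  have hg : μ₁ * μ₀ ∈ autSub mul B :=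
    (autSub mul B).mul_mem (pair_mem mul B h₁) (pair_mem mul B h₀)
  have hk : (μ₁ * μ₀) ^ (i / 2) ∈ autSub mul B := (autSub mul B).zpow_mem hg _
  have dd := d1 mul B h₀ h₁ (-(i / 2))
  rw [neg_neg] at dd
  unfold axF
  rcases Int.emod_two_eq_zero_or_one i with h | h
  · have hi : i = i / 2 + i / 2 := by omega
    have e : (μ₁ * μ₀) ^ i * μ₀ = (μ₁ * μ₀) ^ (i / 2) * μ₀ * ((μ₁ * μ₀) ^ (i / 2))⁻¹ := by
      rw [← zpow_neg, mul_assoc, dd, ← mul_assoc, ← zpow_add, ← hi]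
    rw [if_pos h, e]
    exact pair_conj mul B h₀ hk
  · have hi : i = i / 2 + 1 + i / 2 := by omega
    have h' : ¬ (i % 2 = 0) := by omega
    have s0 := pair_sq mul B h₀
    have e : (μ₁ * μ₀) ^ i * μ₀ = (μ₁ * μ₀) ^ (i / 2) * μ₁ * ((μ₁ * μ₀) ^ (i / 2))⁻¹ := by
      have e1 : μ₁ = (μ₁ * μ₀) * μ₀ := by rw [mul_assoc, s0, mul_one]
      obtain ⟨G, hG⟩ : ∃ G, G = μ₁ * μ₀ := ⟨_, rfl⟩
      rw [← hG] at dd e1 ⊢
      rw [e1, ← zpow_neg, mul_assoc, mul_assoc, dd, ← mul_assoc, ← mul_assoc, ← zpow_add_one,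
        ← zpow_add, ← hi]
    rw [if_neg h', e]
    exact pair_conj mul B h₁ hk

/-- the dihedral family generated by two Majorana pairs -/
noncomputable def mkFam (h₀ : IsMajoranaPair mul B μ₀ a₀) (h₁ : IsMajoranaPair mul B μ₁ a₁)
    (hn₀ : B a₀ a₀ = 1) (hn₁ : B a₁ a₁ = 1) : Fam mul B where
  ax := axF μ₀ μ₁ a₀ a₁
  tau := fun i => (μ₁ * μ₀) ^ i * μ₀
  pair := axF_pair mul B h₀ h₁
  refl := by
    intro i j
    rw [LinearEquiv.mul_apply, axF_neg mul B h₀ h₁, axF_shift]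
    congr 1; ring
  nrm := by
    intro i
    have hg : μ₁ * μ₀ ∈ autSub mul B :=
      (autSub mul B).mul_mem (pair_mem mul B h₁) (pair_mem mul B h₀)
    have hk : (μ₁ * μ₀) ^ (i / 2) ∈ autSub mul B := (autSub mul B).zpow_mem hg _
    unfold axF
    rw [hk.2]
    split_ifs
    · exact hn₀
    · exact hn₁

/-- **Sakuma's theorem** (6-transposition property). -/
theorem sakuma (hV : IsMajoranaAmbient mul B) (h₀ : IsMajoranaPair mul B μ₀ a₀)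
    (h₁ : IsMajoranaPair mul B μ₁ a₁) (hn₀ : B a₀ a₀ = 1) (hn₁ : B a₁ a₁ = 1) :
    ∃ n : ℕ, 1 ≤ n ∧ n ≤ 6 ∧ (μ₀ * μ₁) ^ n = 1 := by
  obtain ⟨n, hn1, hn6, hn⟩ := (mkFam mul B h₀ h₁ hn₀ hn₁).exists_eq hV
  refine ⟨n, hn1, hn6, ?_⟩
  have p1 := (mkFam mul B h₀ h₁ hn₀ hn₁).pair n
  have p0 := (mkFam mul B h₀ h₁ hn₀ hn₁).pair 0
  rw [hn] at p1
  have e : (μ₁ * μ₀) ^ (n : ℤ) * μ₀ = (μ₁ * μ₀) ^ (0 : ℤ) * μ₀ := inv_unique mul B p1 p0
  have e2 : (μ₁ * μ₀) ^ n = 1 := by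
    have := mul_right_cancel e
    rwa [zpow_natCast, zpow_zero] at this
  have s0 := pair_sq mul B h₀
  have s1 := pair_sq mul B h₁
  have i0 : μ₀⁻¹ = μ₀ := inv_eq_of_mul_eq_one_right s0
  have i1 : μ₁⁻¹ = μ₁ := inv_eq_of_mul_eq_one_right s1
  have e3 : μ₀ * μ₁ = (μ₁ * μ₀)⁻¹ := by rw [mul_inv_rev, i0, i1]
  rw [e3, inv_pow, e2, inv_one]

end build

end Cfsg.Agent.Helper1.Sak
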