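import Mathlib
import Cfsg.Agent.Helper1.Basic
import Cfsg.Agent.Helper1.PGroup
import Cfsg.Agent.Helper1.Transfer1

set_option autoImplicit false

/-!
Perfect central extensions and Sylow subgroups.
-/

namespace Cfsg.Agent.Helper1

open scoped Pointwise commutatorElement

universe u v

theorem sylow_inf_ker_eq_bot_of_perfect_cyclic {H : Type u} {G : Type v} [Group H] [Group G]
    [Finite H] (σ : H →* G) (hσ : Function.Surjective σ) (hz : σ.ker ≤ Subgroup.center H)
    (hH : commutator H = ⊤) {p : ℕ} [hp : Fact p.Prime] (hcyc : ∀ P : Sylow p G, IsCyclic P)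
    (Q : Sylow p H) : (Q : Subgroup H) ⊓ σ.ker = ⊥ := by
  have hc : IsCyclic ↥((Q : Subgroup H).map σ) := hcyc (Q.mapSurjective hσ)
  have hker : (σ.subgroupMap (Q : Subgroup H)).ker ≤ Subgroup.center ↥(Q : Subgroup H) := by
    intro x hx
    rw [MonoidHom.mem_ker] at hx
    have h1 : σ (x : H) = 1 := congrArg Subtype.val hx
    have h2 : (x : H) ∈ Subgroup.center H := hz ((MonoidHom.mem_ker).2 h1)
    rw [Subgroup.mem_center_iff] at h2 ⊢
    intro g
    exact Subtype.ext (h2 (g : H))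
  have hcomm : IsMulCommutative ↥(Q : Subgroup H) :=
    (σ.subgroupMap (Q : Subgroup H)).isMulCommutative_of_isCyclic_of_ker_le_center hker
  have hHall : Nat.Coprime (Nat.card (Q : Subgroup H)) (Q : Subgroup H).index := by
    obtain ⟨k, hk⟩ := IsPGroup.iff_card.1 Q.2
    rw [hk]
    exact Nat.Coprime.pow_left k ((Nat.Prime.coprime_iff_not_dvd hp.out).2 Q.not_dvd_index)
  have h0 := abelian_hall_inf_commutator_inf_center (Q : Subgroup H) hHall
  rw [hH, inf_top_eq] at h0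
  rw [eq_bot_iff, ← h0]
  exact inf_le_inf_left _ hz

theorem not_dvd_card_ker_of_perfect_cyclic {H : Type u} {G : Type v} [Group H] [Group G]
    [Finite H] (σ : H →* G) (hσ : Function.Surjective σ) (hz : σ.ker ≤ Subgroup.center H)
    (hH : commutator H = ⊤) {p : ℕ} [hp : Fact p.Prime] (hcyc : ∀ P : Sylow p G, IsCyclic P) :
    ¬ p ∣ Nat.card σ.ker := by
  intro hdvd
  obtain ⟨x, hx⟩ := exists_prime_orderOf_dvd_card' p hdvd
  have hx' : orderOf (x : H) = p := by rw [Subgroup.orderOf_coe]; exact hx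
  have hPg : IsPGroup p (Subgroup.zpowers (x : H)) := by
    rw [IsPGroup.iff_card]
    exact ⟨1, by rw [Nat.card_zpowers, pow_one, hx']⟩
  obtain ⟨Q, hQ⟩ := hPg.exists_le_sylow
  have hmem : (x : H) ∈ (Q : Subgroup H) ⊓ σ.ker :=
    Subgroup.mem_inf.2 ⟨hQ (Subgroup.mem_zpowers _), x.2⟩
  rw [sylow_inf_ker_eq_bot_of_perfect_cyclic σ hσ hz hH hcyc Q, Subgroup.mem_bot] at hmem
  rw [hmem, orderOf_one] at hx'
  exact hp.out.one_lt.ne hx'

open scoped IsMulCommutative in
theorem ker_inf_sylow_le_frattini {H : Type u} {G : Type v} [Group H] [Group G] [Finite H]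
    (σ : H →* G) (hc : σ.ker ≤ Subgroup.center H) (hH : commutator H = ⊤) {p : ℕ}
    [hp : Fact p.Prime] (P : Sylow p H) :
    σ.ker ⊓ (P : Subgroup H) ≤ (frattini ↥(P : Subgroup H)).map (P : Subgroup H).subtype := by
  intro z hz
  obtain ⟨hzk, hzP⟩ := Subgroup.mem_inf.1 hz
  have hzZ : z ∈ Subgroup.center H := hc hzk
  have key : ∀ (k : ℕ) (g₀ : H), g₀⁻¹ * z ^ k * g₀ ∈ (P : Subgroup H) →
      g₀⁻¹ * z ^ k * g₀ = z ^ k := by
    intro k g₀ _
    have hzk : z ^ k ∈ Subgroup.center H := Subgroup.pow_mem _ hzZ k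
    rw [Subgroup.mem_center_iff] at hzk
    rw [mul_assoc, ← hzk g₀, ← mul_assoc, inv_mul_cancel, one_mul]
  set ϕ : ↥(P : Subgroup H) →* Abelianization ↥(P : Subgroup H) := Abelianization.of with hϕ
  have h1 : MonoidHom.transfer ϕ z = 1 := by
    have : z ∈ commutator H := hH ▸ Subgroup.mem_top z
    exact Abelianization.commutator_subset_ker (MonoidHom.transfer ϕ) this
  rw [MonoidHom.transfer_eq_pow ϕ z key] at h1
  have h2 : (⟨z ^ (P : Subgroup H).index, MonoidHom.transfer_eq_pow_aux z key⟩ :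
      ↥(P : Subgroup H)) ∈ commutator ↥(P : Subgroup H) := by
    rw [← Abelianization.ker_of]; exact h1
  have h3 : (⟨z, hzP⟩ : ↥(P : Subgroup H)) ^ (P : Subgroup H).index ∈
      frattini ↥(P : Subgroup H) := by
    have : (⟨z, hzP⟩ : ↥(P : Subgroup H)) ^ (P : Subgroup H).index =
        ⟨z ^ (P : Subgroup H).index, MonoidHom.transfer_eq_pow_aux z key⟩ := Subtype.ext rfl
    rw [this]
    exact IsPGroup.commutator_le_frattini P.2 h2
  have hcop : ((P : Subgroup H).index).Coprime (orderOf (⟨z, hzP⟩ : ↥(P : Subgroup H))) := by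
    obtain ⟨k, hk⟩ := IsPGroup.iff_card.1 P.2
    have h4 : orderOf (⟨z, hzP⟩ : ↥(P : Subgroup H)) ∣ p ^ k := hk ▸ orderOf_dvd_natCard _
    exact Nat.Coprime.coprime_dvd_right h4
      (Nat.Coprime.pow_right k ((Nat.Prime.coprime_iff_not_dvd hp.out).2 P.not_dvd_index).symm)
  obtain ⟨m, hm⟩ := exists_pow_eq_self_of_coprime hcop
  refine ⟨⟨z, hzP⟩, ?_, rfl⟩
  rw [SetLike.mem_coe, ← hm]
  exact Subgroup.pow_mem _ h3 m

end Cfsg.Agent.Helper1
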