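import Mathlib
import Cfsg.Prelude.Def_LocalEven
import Cfsg.Prelude.Def_PLocal
import Cfsg.Agent.Lead.InvolvesLemmas
import Cfsg.Agent.Lead.QdStruct
import Cfsg.Agent.Helper8.DkSolv
import Cfsg.Agent.Helper1.QuadFreeC

set_option autoImplicit false

/-!
Solvable groups are `Qd(q)`-free for `q ≥ 5`, hence `q`-stable on every normal `q`-subgroup.
-/

namespace Cfsg.Agent.Helper1

namespace ScnCent

universe u

theorem not_involves_qd_of_solvable {X : Type u} [Group X] [hs : Group.IsSolvable X] (q : ℕ)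
    [hq : Fact q.Prime] (h5 : 5 ≤ q) : ¬ Cfsg.Involves ↥(Cfsg.qd q) X := by
  intro h
  obtain ⟨K, f, hf⟩ := Cfsg.Agent.Lead.exists_maps_of_involves h
  haveI : Group.IsSolvable ↥(Cfsg.qd q) := Group.isSolvable_of_surjective hf
  haveI : Group.IsSolvable (Matrix.SpecialLinearGroup (Fin 2) (ZMod q)) :=
    Group.isSolvable_of_surjective (Cfsg.Agent.Lead.Qd.proj_surjective q)
  haveI : NeZero q := ⟨hq.out.ne_zero⟩
  have h4 : 4 ≤ Fintype.card (ZMod q) := by rw [ZMod.card]; omega
  apply Cfsg.Agent.Helper8.Dk.not_isSolvable_PSL2 (F := ZMod q) h4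
  exact Group.isSolvable_of_surjective (QuotientGroup.mk'_surjective _)

theorem isPStableOn_of_solvable {X : Type u} [Group X] [Finite X] [Group.IsSolvable X] (q : ℕ)
    [hq : Fact q.Prime] (h5 : 5 ≤ q) (P : Subgroup X) [P.Normal] (hP : IsPGroup q P) :
    Cfsg.IsPStableOn q P :=
  QuadFree.isPStableOn_of_qd_free (by omega) (not_involves_qd_of_solvable q h5) P hP

end ScnCent

end Cfsg.Agent.Helper1
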