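import Mathlib
import Cfsg.Prelude.Def_PLocal
import Cfsg.Agent.Helper1.Fitting2
import Cfsg.Agent.Helper1.NilpCoprime
import Cfsg.Agent.Helper1.Rank2Fitting
import Cfsg.Agent.Helper1.Cores

set_option autoImplicit false

/-!
An element that centralizes `O_r(S)` for all primes `r ≠ q` and lies in `O_q(S mod C_S(O_q(S)))`
lies in the Fitting subgroup (`S` finite solvable).
-/

namespace Cfsg.Agent.Helper1

namespace ScnCent

universe u

variable {S : Type u} [Group S]

/-- the `q'`-part of the Fitting subgroup -/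
def fitPrime (q : ℕ) (S : Type u) [Group S] : Subgroup S :=
  ⨆ p : Nat.Primes, ⨆ (_ : (p : ℕ) ≠ q), Cfsg.pCore (p : ℕ) S

instance fitPrime_normal (q : ℕ) : (fitPrime q S).Normal := by
  unfold fitPrime
  infer_instance

theorem pCore_le_fitPrime {q r : ℕ} (hr : r.Prime) (hrq : r ≠ q) :
    Cfsg.pCore r S ≤ fitPrime q S := by
  unfold fitPrime
  exact le_iSup_of_le (⟨r, hr⟩ : Nat.Primes) (le_iSup_of_le hrq le_rfl)

theorem centralizer_fitPrime_le {q r : ℕ} (hr : r.Prime) (hrq : r ≠ q) :
    Subgroup.centralizer (fitPrime q S : Set S) ≤ Subgroup.centralizer (Cfsg.pCore r S : Set S) :=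
  Subgroup.centralizer_le (pCore_le_fitPrime hr hrq)

theorem mem_centralizer_fitPrime {q : ℕ} {x : S}
    (h : ∀ r : ℕ, r.Prime → r ≠ q → x ∈ Subgroup.centralizer (Cfsg.pCore r S : Set S)) :
    x ∈ Subgroup.centralizer (fitPrime q S : Set S) := by
  have h1 : fitPrime q S ≤ Subgroup.centralizer ((Subgroup.zpowers x : Subgroup S) : Set S) := by
    unfold fitPrime
    refine iSup_le fun p => iSup_le fun hp => ?_
    rw [Subgroup.le_centralizer_iff, Subgroup.zpowers_le]
    exact h p p.2 hp
  rw [Subgroup.le_centralizer_iff] at h1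
  exact h1 (Subgroup.mem_zpowers x)

/-- a `q'`-element of the Fitting subgroup lies in `fitPrime q` -/
theorem mem_fitPrime_of_coprime [Finite S] {q : ℕ} {c : S} (hc : c ∈ Cfsg.fittingSubgroup S)
    (hcop : (orderOf c).Coprime q) : c ∈ fitPrime q S := by
  apply mem_of_forall_primePow_mem
  intro y hy hyp
  rw [isPrimePow_nat_iff] at hyp
  obtain ⟨r, k, hr, hk, hrk⟩ := hyp
  haveI : Fact r.Prime := ⟨hr⟩
  have hyF : y ∈ Cfsg.fittingSubgroup S :=
    (Subgroup.zpowers_le.2 hc) hy
  have hdvd : orderOf y ∣ orderOf c := orderOf_dvd_of_mem_zpowers hy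
  have hrq : r ≠ q := by
    rintro rfl
    have h1 : r ∣ orderOf c := by
      refine Dvd.dvd.trans ?_ hdvd
      rw [← hrk]; exact dvd_pow_self r hk.ne'
    have h2 : r ∣ Nat.gcd (orderOf c) r := Nat.dvd_gcd h1 dvd_rfl
    rw [hcop] at h2
    exact hr.one_lt.ne' (Nat.dvd_one.1 h2)
  have hyp' : IsPGroup r (Subgroup.zpowers y) := by
    rw [IsPGroup.iff_card]
    exact ⟨k, by rw [Nat.card_zpowers, hrk]⟩
  have h3 : Subgroup.zpowers y ≤ Cfsg.pCore r S :=
    Rank2Fitting.le_pCore_of_le_fitting _ hyp' (Subgroup.zpowers_le.2 hyF)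
  exact pCore_le_fitPrime hr hrq (h3 (Subgroup.mem_zpowers y))

theorem mem_fitting_of_stable [Finite S] [Group.IsSolvable S] (q : ℕ) [hq : Fact q.Prime] (x : S)
    (hcent : ∀ r : ℕ, r.Prime → r ≠ q → x ∈ Subgroup.centralizer (Cfsg.pCore r S : Set S))
    (hst : (QuotientGroup.mk x : S ⧸ Subgroup.centralizer (Cfsg.pCore q S : Set S)) ∈
      Cfsg.pCore q (S ⧸ Subgroup.centralizer (Cfsg.pCore q S : Set S))) :
    x ∈ Cfsg.fittingSubgroup S := by
  set CQ := Subgroup.centralizer (Cfsg.pCore q S : Set S) with hCQ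
  haveI hCQn : CQ.Normal := Subgroup.normal_centralizer
  set L : Subgroup S := (Cfsg.pCore q (S ⧸ CQ)).comap (QuotientGroup.mk' CQ) with hL
  haveI hLn : L.Normal := by rw [hL]; infer_instance
  set K : Subgroup S := Subgroup.centralizer (fitPrime q S : Set S) with hK
  haveI hKn : K.Normal := Subgroup.normal_centralizer
  set M : Subgroup S := L ⊓ K with hM
  haveI hMn : M.Normal := Subgroup.normal_inf_normal L K
  have hxM : x ∈ M := ⟨hst, mem_centralizer_fitPrime hcent⟩
  -- `M` is nilpotent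
  set Z : Subgroup M := (fitPrime q S).subgroupOf M with hZ
  haveI hZn : Z.Normal := by rw [hZ]; infer_instance
  have hZc : Z ≤ Subgroup.center M := by
    intro z hz
    rw [Subgroup.mem_center_iff]
    intro m
    apply Subtype.ext
    have hz' : (z : S) ∈ fitPrime q S := Subgroup.mem_subgroupOf.1 hz
    have hm' : (m : S) ∈ K := m.2.2
    exact ((Subgroup.mem_centralizer_iff.1 hm') _ hz').symm
  have hquot : IsPGroup q (M ⧸ Z) := by
    intro g
    obtain ⟨m, rfl⟩ := QuotientGroup.mk_surjective g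
    -- a power of `m` centralizes `O_q`
    obtain ⟨a, ha⟩ := (pCore_isPGroup (G := S ⧸ CQ) q) ⟨QuotientGroup.mk' CQ (m : S), m.2.1⟩
    have ha' : ((m : S)) ^ q ^ a ∈ CQ := by
      have := congrArg Subtype.val ha
      simp only [Subgroup.coe_pow, Subgroup.coe_one] at this
      rw [← map_pow] at this
      exact (QuotientGroup.eq_one_iff _).1 this
    set c : S := (m : S) ^ q ^ a with hc
    have hcK : c ∈ K := K.pow_mem m.2.2 _
    have hcF : c ∈ Cfsg.fittingSubgroup S := by
      apply centralizer_fittingSubgroup_le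
      have h1 : Cfsg.fittingSubgroup S ≤
          Subgroup.centralizer ((Subgroup.zpowers c : Subgroup S) : Set S) := by
        rw [fittingSubgroup_eq_fitJoin]
        unfold fitJoin
        refine iSup_le fun p => ?_
        rw [Subgroup.le_centralizer_iff, Subgroup.zpowers_le]
        by_cases hp : (p : ℕ) = q
        · rw [hp]; exact ha'
        · exact centralizer_fitPrime_le p.2 hp hcK
      rw [Subgroup.le_centralizer_iff] at h1
      exact h1 (Subgroup.mem_zpowers c)
    obtain ⟨b, t, ht, hbt⟩ := Nat.exists_eq_pow_mul_and_not_dvd (orderOf_pos c).ne' q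
      hq.out.one_lt.ne'
    have hc' : c ^ q ^ b ∈ fitPrime q S := by
      apply mem_fitPrime_of_coprime ((Cfsg.fittingSubgroup S).pow_mem hcF _)
      have ho : orderOf (c ^ q ^ b) = t := by
        rw [orderOf_pow' c (pow_ne_zero b hq.out.ne_zero), hbt, Nat.gcd_mul_right_left,
          Nat.mul_div_cancel_left _ (pow_pos hq.out.pos b)]
      rw [ho]
      exact ((Nat.Prime.coprime_iff_not_dvd hq.out).2 ht).symm
    refine ⟨a + b, ?_⟩
    rw [← QuotientGroup.mk_pow, QuotientGroup.eq_one_iff, hZ, Subgroup.mem_subgroupOf]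
    have : ((m ^ q ^ (a + b) : M) : S) = c ^ q ^ b := by
      rw [Subgroup.coe_pow, pow_add, pow_mul, hc]
    rw [this]
    exact hc'
  haveI hqn : Group.IsNilpotent (M ⧸ Z) := hquot.isNilpotent
  have hMnil : Group.IsNilpotent M := by
    apply Subgroup.isNilpotent_of_ker_le_center (QuotientGroup.mk' Z)
    rw [QuotientGroup.ker_mk']
    exact hZc
  exact le_fittingSubgroup hMn hMnil hxM

end ScnCent

end Cfsg.Agent.Helper1
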