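import Mathlib
import Cfsg.Agent.Helper1.ScnCentA
import Cfsg.Agent.Helper1.ScnCentB
import Cfsg.Agent.Helper5.AxB

set_option autoImplicit false

/-!
`q`-elements (`q ≥ 5`) centralizing a self-centralizing normal subgroup `A` of a nilpotent subgroup
`N ≥ F(S)` of a finite solvable group `S` lie in `A`.
-/

namespace Cfsg.Agent.Helper1

namespace ScnCent

universe u

open scoped commutatorElement

variable {S : Type u} [Group S]

theorem exists_orderOf_eq_pow_of_pow_eq_one {q : ℕ} (hq : q.Prime) {x : S} {k : ℕ}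
    (h : x ^ q ^ k = 1) : ∃ j, orderOf x = q ^ j := by
  obtain ⟨j, -, hj⟩ := (Nat.dvd_prime_pow hq).1 (orderOf_dvd_of_pow_eq_one h)
  exact ⟨j, hj⟩

theorem mem_of_centralizes_scn [Finite S] [Group.IsSolvable S] (q : ℕ) [hq : Fact q.Prime]
    (h5 : 5 ≤ q) (N A : Subgroup S) (hNnil : Group.IsNilpotent N)
    (hFN : Cfsg.fittingSubgroup S ≤ N) (hAN : A ≤ N)
    (hNA : N ≤ Subgroup.normalizer (A : Set S))
    (hself : N ⊓ Subgroup.centralizer (A : Set S) = A)
    (x : S) (hx : x ∈ Subgroup.centralizer (A : Set S)) (hxq : ∃ k : ℕ, x ^ q ^ k = 1) :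
    x ∈ A := by
  obtain ⟨k₀, hk₀⟩ := hxq
  obtain ⟨j₀, hj₀⟩ := exists_orderOf_eq_pow_of_pow_eq_one hq.out hk₀
  have hpF : ∀ r : ℕ, r.Prime → Cfsg.pCore r S ≤ N := by
    intro r hr
    haveI : Fact r.Prime := ⟨hr⟩
    exact (le_fittingSubgroup inferInstance (pCore_isPGroup r).isNilpotent).trans hFN
  -- step (c)
  have hcent : ∀ r : ℕ, r.Prime → r ≠ q →
      x ∈ Subgroup.centralizer (Cfsg.pCore r S : Set S) := by
    intro r hr hrq
    haveI : Fact r.Prime := ⟨hr⟩
    set R := Cfsg.pCore r S with hR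
    have hRp : IsPGroup r R := pCore_isPGroup r
    obtain ⟨P⟩ : Nonempty (Sylow r N) := inferInstance
    set B : Subgroup S := A ⊓ (P : Subgroup N).map N.subtype with hB
    have hBp : IsPGroup r B := (P.2.map N.subtype).to_le inf_le_right
    have hxr : (orderOf x).Coprime r := by
      rw [hj₀]
      exact Nat.Coprime.pow_left _ ((Nat.coprime_primes hq.out hr).2 (Ne.symm hrq))
    have hxB : x ∈ Subgroup.centralizer (B : Set S) :=
      Subgroup.centralizer_le (inf_le_left : B ≤ A) hx
    have hRn : Subgroup.normalizer (R : Set S) = ⊤ := Subgroup.normalizer_eq_top R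
    have hmain := Cfsg.Agent.Helper5.thompson_AxB B hBp x hxr hxB R hRp
      (by rw [hRn]; exact Subgroup.mem_top x) (by rw [hRn]; exact le_top) ?_
    · rw [Subgroup.mem_centralizer_iff]
      intro y hy
      exact (hmain y hy).symm
    · intro y hyR hyB
      have hyN : y ∈ N := hpF r hr hyR
      obtain ⟨i, hi⟩ : ∃ i, orderOf y = r ^ i := by
        obtain ⟨k, hk⟩ := hRp ⟨y, hyR⟩
        have hk' : y ^ r ^ k = 1 := by
          have := congrArg Subtype.val hk
          simpa using this
        exact exists_orderOf_eq_pow_of_pow_eq_one hr hk'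
      have hyA : y ∈ A := by
        rw [← hself]
        refine ⟨hyN, ?_⟩
        show y ∈ Subgroup.centralizer (A : Set S)
        rw [Subgroup.mem_centralizer_iff]
        intro a ha
        have : a ∈ Subgroup.centralizer ({y} : Set S) := by
          apply mem_of_forall_primePow_mem
          intro z hz hzp
          have hzA : z ∈ A := (Subgroup.zpowers_le.2 ha) hz
          have hzN : z ∈ N := hAN hzA
          rw [isPrimePow_nat_iff] at hzp
          obtain ⟨s, j, hs, hj, hsj⟩ := hzp
          rw [Subgroup.mem_centralizer_iff]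
          intro g hg
          rw [Set.mem_singleton_iff] at hg
          subst hg
          by_cases hsr : s = r
          · subst hsr
            have hzP : (⟨z, hzN⟩ : N) ∈ (P : Subgroup N) := by
              apply mem_sylow_of_isNilpotent P _ j
              rw [← Subgroup.orderOf_coe]
              exact hsj.symm
            have hzB : z ∈ B := ⟨hzA, ⟨⟨z, hzN⟩, hzP, rfl⟩⟩
            exact ((Subgroup.mem_centralizer_iff.1 hyB) z hzB).symm
          · have hcop : (orderOf (⟨z, hzN⟩ : N)).Coprime (orderOf (⟨g, hyN⟩ : N)) := by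
              rw [← Subgroup.orderOf_coe, ← Subgroup.orderOf_coe]
              show (orderOf z).Coprime (orderOf g)
              rw [← hsj, hi]
              exact Nat.Coprime.pow _ _ ((Nat.coprime_primes hs hr).2 hsr)
            have := commute_of_coprime_orderOf (⟨z, hzN⟩ : N) ⟨g, hyN⟩ hcop
            have h2 := congrArg Subtype.val this
            exact h2.symm
        exact ((Subgroup.mem_centralizer_iff.1 this) y rfl).symm
      exact ((Subgroup.mem_centralizer_iff.1 hx) y hyA).symm
  -- step (d)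
  set Q := Cfsg.pCore q S with hQ
  have hQp : IsPGroup q Q := pCore_isPGroup q
  have hQN : Q ≤ N := hpF q hq.out
  have hzx : Subgroup.zpowers x ≤ Subgroup.centralizer (A : Set S) := Subgroup.zpowers_le.2 hx
  have hcomm : ⁅Q, Subgroup.zpowers x⁆ ≤ A := by
    rw [Subgroup.commutator_le]
    intro y hy g hg
    have hgA := Subgroup.mem_centralizer_iff.1 (hzx hg)
    rw [← hself]
    refine ⟨hQN ?_, ?_⟩
    · show ⁅y, g⁆ ∈ Q
      have h1 : g * y⁻¹ * g⁻¹ ∈ Q := (inferInstance : Q.Normal).conj_mem _ (Q.inv_mem hy) g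
      have e : ⁅y, g⁆ = y * (g * y⁻¹ * g⁻¹) := by rw [commutatorElement_def]; group
      rw [e]
      exact Q.mul_mem hy h1
    · show ⁅y, g⁆ ∈ Subgroup.centralizer (A : Set S)
      rw [Subgroup.mem_centralizer_iff]
      intro a ha
      have hyNA := hNA (hQN hy)
      have ha' : y⁻¹ * a * y ∈ A := by
        have := (Subgroup.mem_normalizer_iff.1 (Subgroup.inv_mem _ hyNA) a).1 ha
        simpa using this
      have h1 : (y⁻¹ * a * y) * g = g * (y⁻¹ * a * y) := hgA _ ha'
      have h2 : a * g = g * a := hgA a ha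
      have h3 : g⁻¹ * a = a * g⁻¹ := by
        have : g⁻¹ * (a * g) * g⁻¹ = g⁻¹ * (g * a) * g⁻¹ := by rw [h2]
        simpa [mul_assoc] using this
      rw [commutatorElement_def]
      calc a * (y * g * y⁻¹ * g⁻¹) = y * ((y⁻¹ * a * y) * g) * y⁻¹ * g⁻¹ := by group
        _ = y * (g * (y⁻¹ * a * y)) * y⁻¹ * g⁻¹ := by rw [h1]
        _ = y * g * y⁻¹ * (a * g⁻¹) := by group
        _ = y * g * y⁻¹ * (g⁻¹ * a) := by rw [h3]
        _ = y * g * y⁻¹ * g⁻¹ * a := by group
  have hquad : ⁅⁅Q, Subgroup.zpowers x⁆, Subgroup.zpowers x⁆ = ⊥ := by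
    rw [eq_bot_iff]
    refine (Subgroup.commutator_mono hcomm le_rfl).trans ?_
    rw [le_bot_iff, Subgroup.commutator_eq_bot_iff_le_centralizer, Subgroup.le_centralizer_iff]
    exact hzx
  -- steps (e), (f)
  have hst := isPStableOn_of_solvable q h5 Q hQp x hquad
  have hxF := mem_fitting_of_stable q x hcent hst
  rw [← hself]
  exact ⟨hFN hxF, hx⟩

end ScnCent

end Cfsg.Agent.Helper1
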