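import Mathlib
import Cfsg.Prelude.Def_OddOrderLocal
import Cfsg.Agent.Helper1.ScnCentC

set_option autoImplicit false

/-!
Hall `π`-subgroups, normal `π`-subgroups, and the Fitting subgroup when `O_{π'}(S) = 1`.
-/

namespace Cfsg.Agent.Helper1

namespace ScnCent

universe u

variable {S : Type u} [Group S]

theorem inf_eq_bot_of_pi (π : Set ℕ) (Y N₀ : Subgroup S)
    (hY : ∀ p : ℕ, p.Prime → p ∣ Nat.card Y → p ∈ π)
    (hN₀ : ∀ p : ℕ, p.Prime → p ∣ Nat.card N₀ → p ∉ π) : Y ⊓ N₀ = ⊥ := by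
  apply Subgroup.inf_eq_bot_of_coprime
  apply Nat.coprime_of_dvd
  intro k hk h1 h2
  exact hN₀ k hk h2 (hY k hk h1)

theorem pi_of_le [Finite S] (π : Set ℕ) {Y H : Subgroup S} (hYH : Y ≤ H)
    (hH : ∀ p : ℕ, p.Prime → p ∣ Nat.card H → p ∈ π) :
    ∀ p : ℕ, p.Prime → p ∣ Nat.card Y → p ∈ π :=
  fun p hp hd => hH p hp (hd.trans (Subgroup.card_dvd_of_le hYH))

/-- a normal `π`-subgroup lies in every Hall `π`-subgroup -/
theorem normal_pi_le_hall [Finite S] (π : Set ℕ) (H : Subgroup S) (hH : Cfsg.IsPiHall π H)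
    (M : Subgroup S) [M.Normal] (hM : ∀ p : ℕ, p.Prime → p ∣ Nat.card M → p ∈ π) : M ≤ H := by
  have h1 : Nat.card (H ⊔ M : Subgroup S) ∣ Nat.card H * Nat.card M := card_sup_dvd H M
  have hle : H ≤ H ⊔ M := le_sup_left
  have h2 : H.relIndex (H ⊔ M) ∣ H.index := Subgroup.relIndex_dvd_index_of_le hle
  have h3 : H.relIndex (H ⊔ M) ∣ Nat.card (H ⊔ M : Subgroup S) := Subgroup.relIndex_dvd_card _ _
  have h4 : H.relIndex (H ⊔ M) = 1 := by
    by_contra hne
    obtain ⟨p, hp, hpd⟩ := Nat.exists_prime_and_dvd hne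
    have hp1 : p ∣ Nat.card H * Nat.card M := (hpd.trans h3).trans h1
    have hpπ : p ∈ π := by
      rcases (Nat.Prime.dvd_mul hp).1 hp1 with h | h
      · exact hH.1 p hp h
      · exact hM p hp h
    exact hH.2 p hp hpπ (hpd.trans h2)
  have h5 : H ⊔ M ≤ H := Subgroup.relIndex_eq_one.1 h4
  exact le_sup_right.trans h5

end ScnCent

end Cfsg.Agent.Helper1
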