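import Mathlib
import Cfsg.Agent.Helper1.ScnCentD

set_option autoImplicit false

/-!
The key statement, by induction on the order: pass to the quotient by a normal `π'`-subgroup.
-/

namespace Cfsg.Agent.Helper1

namespace ScnCent

universe u

theorem mem_normalizer_of_conj_both {X : Type u} [Group X] (F : Subgroup X) (g : X)
    (h1 : ∀ n ∈ F, g * n * g⁻¹ ∈ F) (h2 : ∀ n ∈ F, g⁻¹ * n * g ∈ F) :
    g ∈ Subgroup.normalizer (F : Set X) := by
  rw [Subgroup.mem_normalizer_iff]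
  intro n
  constructor
  · exact h1 n
  · intro h
    have := h2 _ h
    have e : g⁻¹ * (g * n * g⁻¹) * g = n := by group
    rwa [e] at this

theorem fitting_le_hall {S : Type u} [Group S] [Finite S] (π : Set ℕ) (H : Subgroup S)
    (hH : Cfsg.IsPiHall π H)
    (hno : ∀ N₀ : Subgroup S, N₀.Normal → (∀ p : ℕ, p.Prime → p ∣ Nat.card N₀ → p ∉ π) → N₀ = ⊥) :
    Cfsg.fittingSubgroup S ≤ H := by
  apply normal_pi_le_hall π H hH
  intro p hp hd
  by_contra hpπ
  haveI : Fact p.Prime := ⟨hp⟩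
  have h0 : Cfsg.pCore p S = ⊥ := by
    apply hno _ inferInstance
    intro r hr hrd
    obtain ⟨k, hk⟩ := IsPGroup.iff_card.1 (pCore_isPGroup (G := S) p)
    rw [hk] at hrd
    have : r = p := (Nat.prime_dvd_prime_iff_eq hr hp).1 (hr.dvd_of_dvd_pow hrd)
    rw [this]
    exact hpπ
  obtain ⟨y, hy⟩ := exists_prime_orderOf_dvd_card' (G := ↥(Cfsg.fittingSubgroup S)) p hd
  have hyp : IsPGroup p (Subgroup.zpowers (y : S)) := by
    rw [IsPGroup.iff_card]
    exact ⟨1, by rw [Nat.card_zpowers, Subgroup.orderOf_coe, hy, pow_one]⟩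
  have h1 : Subgroup.zpowers (y : S) ≤ Cfsg.pCore p S :=
    Rank2Fitting.le_pCore_of_le_fitting _ hyp (Subgroup.zpowers_le.2 y.2)
  rw [h0] at h1
  have h2 : (y : S) = 1 := Subgroup.mem_bot.1 (h1 (Subgroup.mem_zpowers _))
  have h3 : orderOf (y : S) = 1 := by rw [h2, orderOf_one]
  rw [Subgroup.orderOf_coe, hy] at h3
  exact hp.one_lt.ne' h3

/-- the hypotheses on `(H, N, A)` -/
structure Hyp {S : Type u} [Group S] (π : Set ℕ) (H N A : Subgroup S) : Prop where
  hall : Cfsg.IsPiHall π H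
  le : N ≤ H
  nil : Group.IsNilpotent N
  max : ∀ Y : Subgroup S, Y ≤ H → Group.IsNilpotent Y →
    H ≤ Subgroup.normalizer (Y : Set S) → Y ≤ N
  AN : A ≤ N
  NA : N ≤ Subgroup.normalizer (A : Set S)
  self : N ⊓ Subgroup.centralizer (A : Set S) = A

theorem Hyp.comm {S : Type u} [Group S] {π : Set ℕ} {H N A : Subgroup S} (h : Hyp π H N A) :
    ∀ a ∈ A, ∀ b ∈ A, a * b = b * a := by
  intro a ha b hb
  have h1 : a ∈ N ⊓ Subgroup.centralizer (A : Set S) := by rw [h.self]; exact ha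
  exact ((Subgroup.mem_centralizer_iff.1 h1.2) b hb).symm

/-- the hypotheses pass to the quotient by a normal `π'`-subgroup -/
theorem Hyp.quot {S : Type u} [Group S] [Finite S] {π : Set ℕ} {H N A : Subgroup S}
    (h : Hyp π H N A) (N₀ : Subgroup S) [N₀.Normal]
    (hN₀ : ∀ p : ℕ, p.Prime → p ∣ Nat.card N₀ → p ∉ π) :
    Hyp π (H.map (QuotientGroup.mk' N₀)) (N.map (QuotientGroup.mk' N₀))
      (A.map (QuotientGroup.mk' N₀)) := by
  have hdisj : ∀ Y : Subgroup S, Y ≤ H → Y ⊓ N₀ = ⊥ := fun Y hY =>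
    inf_eq_bot_of_pi π Y N₀ (pi_of_le π hY h.hall.1) hN₀
  have hinj : ∀ a ∈ H, ∀ b ∈ H, QuotientGroup.mk' N₀ a = QuotientGroup.mk' N₀ b → a = b := by
    intro a ha b hb hab
    have h1 : a⁻¹ * b ∈ N₀ := by
      rw [← QuotientGroup.eq_one_iff]
      have : QuotientGroup.mk' N₀ (a⁻¹ * b) = 1 := by rw [map_mul, map_inv, hab, inv_mul_cancel]
      exact this
    have h2 : a⁻¹ * b ∈ H ⊓ N₀ := ⟨H.mul_mem (H.inv_mem ha) hb, h1⟩
    rw [hdisj H le_rfl, Subgroup.mem_bot] at h2
    exact (inv_mul_eq_one.1 h2)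
  refine ⟨⟨?_, ?_⟩, Subgroup.map_mono h.le, ?_, ?_, Subgroup.map_mono h.AN, ?_, ?_⟩
  · intro p hp hd
    exact h.hall.1 p hp (hd.trans (Subgroup.card_map_dvd H _))
  · intro p hp hpπ hd
    exact h.hall.2 p hp hpπ (hd.trans (Subgroup.index_map_dvd H (QuotientGroup.mk'_surjective N₀)))
  · haveI := h.nil
    exact Group.nilpotent_of_surjective ((QuotientGroup.mk' N₀).subgroupMap N)
      ((QuotientGroup.mk' N₀).subgroupMap_surjective N)
  · intro Yb hYb hYbnil hYbnorm
    set Y : Subgroup S := Yb.comap (QuotientGroup.mk' N₀) ⊓ H with hY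
    have hYH : Y ≤ H := inf_le_right
    -- `Y` embeds in `Yb`
    let f : Y →* Yb := ((QuotientGroup.mk' N₀).comp Y.subtype).codRestrict Yb (fun y => y.2.1)
    have hf : Function.Injective f := by
      intro a b hab
      have h1 : QuotientGroup.mk' N₀ (a : S) = QuotientGroup.mk' N₀ (b : S) :=
        congrArg Subtype.val hab
      exact Subtype.ext (hinj _ (hYH a.2) _ (hYH b.2) h1)
    have hYnil : Group.IsNilpotent Y := by
      haveI := hYbnil
      haveI : Group.IsNilpotent f.range := inferInstance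
      exact Group.nilpotent_of_mulEquiv (MonoidHom.ofInjective hf).symm
    have hYnorm : H ≤ Subgroup.normalizer (Y : Set S) := by
      intro g hg
      have hgb : QuotientGroup.mk' N₀ g ∈ Subgroup.normalizer (Yb : Set (S ⧸ N₀)) :=
        hYbnorm ⟨g, hg, rfl⟩
      apply mem_normalizer_of_conj_both
      · intro n hn
        refine ⟨?_, H.mul_mem (H.mul_mem hg hn.2) (H.inv_mem hg)⟩
        show QuotientGroup.mk' N₀ (g * n * g⁻¹) ∈ Yb
        rw [map_mul, map_mul, map_inv]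
        exact (Subgroup.mem_normalizer_iff.1 hgb _).1 hn.1
      · intro n hn
        refine ⟨?_, H.mul_mem (H.mul_mem (H.inv_mem hg) hn.2) hg⟩
        show QuotientGroup.mk' N₀ (g⁻¹ * n * g) ∈ Yb
        rw [map_mul, map_mul, map_inv]
        have := (Subgroup.mem_normalizer_iff.1 (Subgroup.inv_mem _ hgb) _).1 hn.1
        simpa using this
    have hYN : Y ≤ N := h.max Y hYH hYnil hYnorm
    intro yb hyb
    obtain ⟨g, hg, rfl⟩ := hYb hyb
    exact ⟨g, hYN ⟨hyb, hg⟩, rfl⟩
  · exact (Subgroup.map_mono h.NA).trans (Subgroup.le_normalizer_map _)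
  · apply le_antisymm
    · rintro zb ⟨⟨z, hz, rfl⟩, hzc⟩
      have hzc' := Subgroup.mem_centralizer_iff.1 hzc
      have hzA : z ∈ A := by
        rw [← h.self]
        refine ⟨hz, ?_⟩
        show z ∈ Subgroup.centralizer (A : Set S)
        rw [Subgroup.mem_centralizer_iff]
        intro a ha
        have hw : z * a * z⁻¹ * a⁻¹ ∈ A :=
          A.mul_mem ((Subgroup.mem_normalizer_iff.1 (h.NA hz) a).1 ha) (A.inv_mem ha)
        have hw2 : z * a * z⁻¹ * a⁻¹ ∈ N₀ := by
          rw [← QuotientGroup.eq_one_iff]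
          have e : QuotientGroup.mk' N₀ (z * a * z⁻¹ * a⁻¹) = 1 := by
            have hc := hzc' (QuotientGroup.mk' N₀ a) ⟨a, ha, rfl⟩
            rw [map_mul, map_mul, map_mul, map_inv, map_inv, ← hc]
            group
          exact e
        have hw3 : z * a * z⁻¹ * a⁻¹ ∈ A ⊓ N₀ := ⟨hw, hw2⟩
        rw [hdisj A (h.AN.trans h.le), Subgroup.mem_bot] at hw3
        have : a * z = z * a * z⁻¹ * a⁻¹ * (a * z) := by rw [hw3, one_mul]
        rw [this]; group
      exact ⟨z, hzA, rfl⟩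
    · rintro ab ⟨a, ha, rfl⟩
      refine ⟨⟨a, h.AN ha, rfl⟩, ?_⟩
      show QuotientGroup.mk' N₀ a ∈ Subgroup.centralizer _
      rw [Subgroup.mem_centralizer_iff]
      rintro bb ⟨b, hb, rfl⟩
      rw [← map_mul, ← map_mul, h.comm b hb a ha]

end ScnCent

end Cfsg.Agent.Helper1
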