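import Mathlib
import Cfsg.Agent.Helper1.ScnCentE
import Cfsg.Agent.Helper1.FTD

set_option autoImplicit false

/-!
The key statement and the splitting `C_S(A) = A × D`.
-/

namespace Cfsg.Agent.Helper1

namespace ScnCent

universe u

theorem key : ∀ (n : ℕ) (S : Type u) [Group S] [Finite S] [Group.IsSolvable S], Nat.card S = n →
    ∀ (π : Set ℕ) (H N A : Subgroup S), Hyp π H N A →
    ∀ (q : ℕ) [Fact q.Prime], 5 ≤ q → q ∈ π →
    ∀ x ∈ Subgroup.centralizer (A : Set S), (∃ k : ℕ, x ^ q ^ k = 1) → x ∈ A := by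
  intro n
  induction n using Nat.strong_induction_on with
  | _ n ih =>
    intro S _ _ _ hcard π H N A h q hq h5 hqπ x hx hxq
    by_cases hex : ∃ N₀ : Subgroup S, N₀.Normal ∧ N₀ ≠ ⊥ ∧
        ∀ p : ℕ, p.Prime → p ∣ Nat.card N₀ → p ∉ π
    · obtain ⟨N₀, hN₀n, hN₀ne, hN₀π⟩ := hex
      haveI := hN₀n
      have hlt : Nat.card (S ⧸ N₀) < n := hcard ▸ FT.card_quotient_lt hN₀ne
      have hq' := h.quot N₀ hN₀π
      have hxb : QuotientGroup.mk' N₀ x ∈
          Subgroup.centralizer ((A.map (QuotientGroup.mk' N₀) : Subgroup (S ⧸ N₀)) : Set (S ⧸ N₀)) := by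
        rw [Subgroup.mem_centralizer_iff]
        rintro ab ⟨a, ha, rfl⟩
        rw [← map_mul, ← map_mul, (Subgroup.mem_centralizer_iff.1 hx) a ha]
      have hxqb : ∃ k : ℕ, (QuotientGroup.mk' N₀ x) ^ q ^ k = 1 := by
        obtain ⟨k, hk⟩ := hxq
        exact ⟨k, by rw [← map_pow, hk, map_one]⟩
      obtain ⟨a, ha, hax⟩ := ih _ hlt (S ⧸ N₀) rfl π _ _ _ hq' q h5 hqπ _ hxb hxqb
      -- `x ∈ A N₀`
      have ho : a⁻¹ * x ∈ N₀ := by
        rw [← QuotientGroup.eq_one_iff]
        have : QuotientGroup.mk' N₀ (a⁻¹ * x) = 1 := by rw [map_mul, map_inv, hax, inv_mul_cancel]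
        exact this
      have hax' : a * x = x * a := (Subgroup.mem_centralizer_iff.1 hx) a ha
      set m := Nat.card N₀ with hm
      have hom : (a⁻¹ * x) ^ m = 1 := by
        have h1 : (⟨a⁻¹ * x, ho⟩ : N₀) ^ Nat.card N₀ = 1 := pow_card_eq_one'
        have h2 := congrArg Subtype.val h1
        rw [Subgroup.coe_pow, Subgroup.coe_one] at h2
        exact h2
      have hcomm : Commute a⁻¹ x := (Commute.inv_left (show Commute a x from hax'))
      have hxm : x ^ m = a ^ m := by
        have h1 : (a⁻¹ * x) ^ m = (a⁻¹) ^ m * x ^ m := hcomm.mul_pow m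
        rw [h1, inv_pow] at hom
        exact (inv_mul_eq_one.1 hom).symm
      obtain ⟨k₀, hk₀⟩ := hxq
      obtain ⟨j₀, hj₀⟩ := exists_orderOf_eq_pow_of_pow_eq_one hq.out hk₀
      have hcop : m.Coprime (orderOf x) := by
        rw [hj₀]
        apply Nat.Coprime.pow_right
        rw [Nat.coprime_comm, Nat.Prime.coprime_iff_not_dvd hq.out]
        intro hd
        exact hN₀π q hq.out hd hqπ
      obtain ⟨t, ht⟩ := exists_pow_eq_self_of_coprime hcop
      rw [← ht, hxm]
      exact A.pow_mem (A.pow_mem ha _) _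
    · have hno : ∀ N₀ : Subgroup S, N₀.Normal →
          (∀ p : ℕ, p.Prime → p ∣ Nat.card N₀ → p ∉ π) → N₀ = ⊥ := by
        intro N₀ h1 h2
        by_contra h3
        exact hex ⟨N₀, h1, h3, h2⟩
      have hFH : Cfsg.fittingSubgroup S ≤ H := fitting_le_hall π H h.hall hno
      have hFN : Cfsg.fittingSubgroup S ≤ N := by
        apply h.max _ hFH fittingSubgroup_isNilpotent
        rw [Subgroup.normalizer_eq_top]
        exact le_top
      exact mem_of_centralizes_scn q h5 N A h.nil hFN h.AN h.NA h.self x hx hxq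

end ScnCent

end Cfsg.Agent.Helper1
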