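import Mathlib
import Cfsg.Agent.Helper1.ScnCentF

set_option autoImplicit false

/-!
`C_S(A) = A × D` for `A ∈ SCN(F(H))`, `H` a Hall `π`-subgroup of the solvable group `S`,
`2, 3 ∉ π`.
-/

namespace Cfsg.Agent.Helper1

namespace ScnCent

universe u

variable {S : Type u} [Group S]

theorem hyp_of_scn [Finite S] (π : Set ℕ) (H : Subgroup S) (hH : Cfsg.IsPiHall π H)
    (A : Subgroup S) (hA : Cfsg.IsSCN ((Cfsg.fittingSubgroup H).map H.subtype) A) :
    Hyp π H ((Cfsg.fittingSubgroup H).map H.subtype) A := by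
  obtain ⟨hAN, hNA, hself⟩ := hA
  refine ⟨hH, Subgroup.map_subtype_le _, ?_, ?_, hAN, hNA, hself⟩
  · haveI : Group.IsNilpotent (Cfsg.fittingSubgroup H) := fittingSubgroup_isNilpotent
    exact Group.nilpotent_of_surjective (H.subtype.subgroupMap (Cfsg.fittingSubgroup H))
      (H.subtype.subgroupMap_surjective _)
  · intro Y hYH hYnil hYnorm
    have hn : (Y.subgroupOf H).Normal := by
      refine ⟨fun n hn g => ?_⟩
      rw [Subgroup.mem_subgroupOf] at hn ⊢
      exact (Subgroup.mem_normalizer_iff.1 (hYnorm g.2) _).1 hn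
    have hnil : Group.IsNilpotent (Y.subgroupOf H) := by
      haveI := hYnil
      exact Group.nilpotent_of_mulEquiv (Subgroup.subgroupOfEquivOfLe hYH).symm
    have hle := le_fittingSubgroup hn hnil
    intro y hy
    exact ⟨⟨y, hYH hy⟩, hle (Subgroup.mem_subgroupOf.2 hy), rfl⟩

theorem scn_centralizer_split [Finite S] [Group.IsSolvable S]
    (π : Set ℕ) (h2 : 2 ∉ π) (h3 : 3 ∉ π) (H : Subgroup S) (hH : Cfsg.IsPiHall π H)
    (A : Subgroup S) (hA : Cfsg.IsSCN ((Cfsg.fittingSubgroup H).map H.subtype) A) :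
    ∃ D : Subgroup S, D ≤ Subgroup.centralizer (A : Set S) ∧
      (∀ c ∈ Subgroup.centralizer (A : Set S), ∀ d ∈ D, c * d * c⁻¹ ∈ D) ∧
      A ⊓ D = ⊥ ∧ A ⊔ D = Subgroup.centralizer (A : Set S) ∧
      ∀ q : ℕ, q.Prime → q ∣ Nat.card D → q ∉ π := by
  have hyp := hyp_of_scn π H hH A hA
  have hqA : ∀ q : ℕ, q.Prime → q ∈ π → ∀ x ∈ Subgroup.centralizer (A : Set S),
      (∃ k : ℕ, x ^ q ^ k = 1) → x ∈ A := by
    intro q hq hqπ x hx hxq
    haveI : Fact q.Prime := ⟨hq⟩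
    have h5 : 5 ≤ q := by
      by_contra hlt
      rw [not_le] at hlt
      interval_cases q
      · exact Nat.not_prime_zero hq
      · exact Nat.not_prime_one hq
      · exact h2 hqπ
      · exact h3 hqπ
      · exact (by decide : ¬ Nat.Prime 4) hq
    exact key _ S rfl π H _ A hyp q h5 hqπ x hx hxq
  set C := Subgroup.centralizer (A : Set S) with hC
  have hAC : A ≤ C := by
    intro a ha
    rw [hC, Subgroup.mem_centralizer_iff]
    intro b hb
    exact hyp.comm b hb a ha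
  set A' : Subgroup C := A.subgroupOf C with hA'
  have hcentral : ∀ a ∈ A', ∀ c : C, a * c = c * a := by
    intro a ha c
    apply Subtype.ext
    exact ((Subgroup.mem_centralizer_iff.1 c.2) _ (Subgroup.mem_subgroupOf.1 ha))
  haveI hA'n : A'.Normal := by
    refine ⟨fun n hn g => ?_⟩
    have : g * n * g⁻¹ = n := by rw [← hcentral n hn g]; group
    rw [this]; exact hn
  have hidx : ∀ q : ℕ, q.Prime → q ∈ π → ¬ q ∣ A'.index := by
    intro q hq hqπ hd
    haveI : Fact q.Prime := ⟨hq⟩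
    obtain ⟨P⟩ : Nonempty (Sylow q C) := inferInstance
    have hPA : (P : Subgroup C) ≤ A' := by
      intro g hg
      obtain ⟨k, hk⟩ := P.2 ⟨g, hg⟩
      have hk' : (g : S) ^ q ^ k = 1 := by
        have h1 := congrArg Subtype.val hk
        have h2 := congrArg Subtype.val h1
        simpa using h2
      exact Subgroup.mem_subgroupOf.2 (hqA q hq hqπ _ g.2 ⟨k, hk'⟩)
    exact P.not_dvd_index (hd.trans (Subgroup.index_dvd_of_le hPA))
  have hcardA' : Nat.card A' = Nat.card A := Nat.card_congr (Subgroup.subgroupOfEquivOfLe hAC).toEquiv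
  have hcop : (Nat.card A').Coprime A'.index := by
    apply Nat.coprime_of_dvd
    intro k hk hk1 hk2
    rw [hcardA'] at hk1
    have hkπ : k ∈ π := pi_of_le π (hyp.AN.trans hyp.le) hH.1 k hk hk1
    exact hidx k hk hkπ hk2
  obtain ⟨D', hD'⟩ := Subgroup.exists_right_complement'_of_coprime hcop
  have hdecomp : ∀ c : C, ∃ a ∈ A', ∃ d ∈ D', a * d = c := by
    intro c
    have : c ∈ A' ⊔ D' := by rw [hD'.sup_eq_top]; exact Subgroup.mem_top c
    exact Subgroup.mem_sup_of_normal_left.1 this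
  refine ⟨D'.map C.subtype, Subgroup.map_subtype_le _, ?_, ?_, ?_, ?_⟩
  · rintro c hc _ ⟨d, hd, rfl⟩
    obtain ⟨a, ha, d₁, hd₁, hc'⟩ := hdecomp ⟨c, hc⟩
    refine ⟨d₁ * d * d₁⁻¹, D'.mul_mem (D'.mul_mem hd₁ hd) (D'.inv_mem hd₁), ?_⟩
    have e : (⟨c, hc⟩ : C) * d * (⟨c, hc⟩ : C)⁻¹ = d₁ * d * d₁⁻¹ := by
      rw [← hc']
      have h1 := hcentral a ha (d₁ * d * d₁⁻¹)
      calc a * d₁ * d * (a * d₁)⁻¹ = a * (d₁ * d * d₁⁻¹) * a⁻¹ := by group
        _ = (d₁ * d * d₁⁻¹) * a * a⁻¹ := by rw [h1]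
        _ = d₁ * d * d₁⁻¹ := by group
    have := congrArg Subtype.val e
    simpa using this.symm
  · rw [eq_bot_iff]
    rintro y ⟨hyA, ⟨d, hd, rfl⟩⟩
    have hdA : d ∈ A' := Subgroup.mem_subgroupOf.2 hyA
    have : d ∈ A' ⊓ D' := ⟨hdA, hd⟩
    rw [disjoint_iff.1 hD'.disjoint, Subgroup.mem_bot] at this
    rw [Subgroup.mem_bot, this]
    rfl
  · apply le_antisymm (sup_le hAC (Subgroup.map_subtype_le _))
    intro c hc
    obtain ⟨a, ha, d₁, hd₁, hc'⟩ := hdecomp ⟨c, hc⟩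
    have : c = (a : S) * (d₁ : S) := by
      have := congrArg Subtype.val hc'
      simpa using this.symm
    rw [this]
    exact Subgroup.mul_mem_sup (Subgroup.mem_subgroupOf.1 ha) ⟨d₁, hd₁, rfl⟩
  · intro q hq hqd hqπ
    rw [Subgroup.card_map_of_injective C.subtype_injective, ← hD'.symm.index_eq_card] at hqd
    exact hidx q hq hqπ hqd

end ScnCent

end Cfsg.Agent.Helper1
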