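import Mathlib
import Cfsg.Agent.Helper1.Ito

set_option autoImplicit false

/-!
Scott's theorem: `G = AB` finite, `A` abelian, `B` of class at most two, `|B'|` a product of `n`
primes. Then `G^(2n+2) = 1`.

Key step: with `T = (B')^G`, `X = AT = A (B ∩ X)`, the derived subgroup of `B ∩ X` lies in `T'`;
hence it is a proper subgroup of `B'` (else `T` would be perfect). Induct on `n`.
-/

namespace Cfsg.Agent.Helper1.ScottAB

open scoped commutatorElement

universe u

/-- in a quotient, images commute iff the commutator lies in the kernel -/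
theorem mk_comm_iff {G : Type u} [Group G] (N : Subgroup G) [N.Normal] (x y : G) :
    (QuotientGroup.mk' N x) * (QuotientGroup.mk' N y) = (QuotientGroup.mk' N y) * (QuotientGroup.mk' N x)
      ↔ ⁅x, y⁆ ∈ N := by
  rw [← commutatorElement_eq_one_iff_mul_comm, ← map_commutatorElement]
  exact QuotientGroup.eq_one_iff _

/-- **Key lemma.** -/
theorem comm_mem_of_factor {G : Type u} [Group G] (A B D : Subgroup G)
    (hA : ∀ a ∈ A, ∀ a' ∈ A, a * a' = a' * a)
    (hDB : ∀ d ∈ D, ∀ b ∈ B, d * b = b * d)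
    (hAB : ∀ g : G, ∃ a ∈ A, ∃ b ∈ B, g = a * b)
    (b₁ b₂ : G) (hb₁ : b₁ ∈ B ⊓ (A ⊔ Subgroup.normalClosure (D : Set G)))
    (hb₂ : b₂ ∈ B ⊓ (A ⊔ Subgroup.normalClosure (D : Set G))) :
    ⁅b₁, b₂⁆ ∈ ⁅Subgroup.normalClosure (D : Set G), Subgroup.normalClosure (D : Set G)⁆ := by
  set T := Subgroup.normalClosure (D : Set G) with hT
  haveI hTn : T.Normal := Subgroup.normalClosure_normal
  set N : Subgroup G := ⁅T, T⁆ with hN
  haveI hNn : N.Normal := Subgroup.commutator_normal T T
  set π := QuotientGroup.mk' N with hπ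
  have hDT : D ≤ T := Subgroup.subset_normalClosure
  -- images of `T` commute
  have hTab : ∀ t ∈ T, ∀ t' ∈ T, π t * π t' = π t' * π t := by
    intro t ht t' ht'
    rw [mk_comm_iff]
    exact Subgroup.commutator_mem_commutator ht ht'
  -- the `A`-part of an element of `B ∩ AT` centralizes the image of `T`
  have key : ∀ b ∈ B ⊓ (A ⊔ T), ∃ a ∈ A, ∃ t ∈ T, a * t = b ∧
      ∀ t' ∈ T, π a * π t' = π t' * π a := by
    intro b hb
    obtain ⟨a, ha, t, ht, hat⟩ := Subgroup.mem_sup_of_normal_right.1 hb.2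
    refine ⟨a, ha, t, ht, hat, ?_⟩
    have hbB : b ∈ B := hb.1
    -- `π a` commutes with `π d`
    have hd : ∀ d ∈ D, π a * π d = π d * π a := by
      intro d hdD
      have h1 : π b * π d = π d * π b := by
        rw [← map_mul, ← map_mul, hDB d hdD b hbB]
      have h2 : π t * π d = π d * π t := hTab t ht d (hDT hdD)
      have h3 : π a = π b * (π t)⁻¹ := by
        rw [← hat, map_mul]; group
      have h4 : (π t)⁻¹ * π d = π d * (π t)⁻¹ := by
        rw [inv_mul_eq_iff_eq_mul, ← mul_assoc, h2, mul_assoc, mul_inv_cancel, mul_one]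
      rw [h3, mul_assoc, h4, ← mul_assoc, h1, mul_assoc]
    -- `T ≤ comap π (centralizer {π a})`
    have hle : T ≤ (Subgroup.centralizer ({π a} : Set (G ⧸ N))).comap π := by
      rw [hT, Subgroup.normalClosure, Subgroup.closure_le]
      intro x hx
      obtain ⟨d, hdD, hconj⟩ := Group.mem_conjugatesOfSet_iff.1 hx
      obtain ⟨g, hg⟩ := isConj_iff.1 hconj
      obtain ⟨a', ha', b', hb', rfl⟩ := hAB g
      have hx' : x = a' * d * a'⁻¹ := by
        rw [← hg]
        have := hDB d hdD b' hb'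
        calc a' * b' * d * (a' * b')⁻¹ = a' * (b' * d) * b'⁻¹ * a'⁻¹ := by group
          _ = a' * (d * b') * b'⁻¹ * a'⁻¹ := by rw [this]
          _ = a' * d * a'⁻¹ := by group
      show π x ∈ Subgroup.centralizer ({π a} : Set (G ⧸ N))
      rw [Subgroup.mem_centralizer_iff]
      intro y hy
      rw [Set.mem_singleton_iff] at hy
      subst hy
      have haa : π a * π a' = π a' * π a := by
        rw [← map_mul, ← map_mul, hA a ha a' ha']
      have hda := hd d hdD
      rw [hx', map_mul, map_mul, map_inv]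
      calc π a * (π a' * π d * (π a')⁻¹) = (π a * π a') * π d * (π a')⁻¹ := by group
        _ = π a' * (π a * π d) * (π a')⁻¹ := by rw [haa]; group
        _ = π a' * π d * (π a * (π a')⁻¹) := by rw [hda]; group
        _ = π a' * π d * ((π a')⁻¹ * π a) := by
            have : π a * (π a')⁻¹ = (π a')⁻¹ * π a := by
              rw [eq_inv_mul_iff_mul_eq, ← mul_assoc, ← haa, mul_assoc, mul_inv_cancel, mul_one]
            rw [this]
        _ = π a' * π d * (π a')⁻¹ * π a := by group
    intro t' ht'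
    have := hle ht'
    rw [Subgroup.mem_comap, Subgroup.mem_centralizer_iff] at this
    exact this (π a) rfl
  obtain ⟨a₁, ha₁, t₁, ht₁, h₁, hc₁⟩ := key b₁ hb₁
  obtain ⟨a₂, ha₂, t₂, ht₂, h₂, hc₂⟩ := key b₂ hb₂
  rw [← mk_comm_iff N, ← hπ, ← h₁, ← h₂, map_mul, map_mul]
  have e1 : π a₁ * π a₂ = π a₂ * π a₁ := by rw [← map_mul, ← map_mul, hA a₁ ha₁ a₂ ha₂]
  have e2 : π t₁ * π t₂ = π t₂ * π t₁ := hTab t₁ ht₁ t₂ ht₂
  have e3 : π a₁ * π t₂ = π t₂ * π a₁ := hc₁ t₂ ht₂
  have e4 : π a₂ * π t₁ = π t₁ * π a₂ := hc₂ t₁ ht₁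
  calc π a₁ * π t₁ * (π a₂ * π t₂) = π a₁ * (π t₁ * π a₂) * π t₂ := by group
    _ = π a₁ * (π a₂ * π t₁) * π t₂ := by rw [e4]
    _ = (π a₁ * π a₂) * (π t₁ * π t₂) := by group
    _ = (π a₂ * π a₁) * (π t₂ * π t₁) := by rw [e1, e2]
    _ = π a₂ * (π a₁ * π t₂) * π t₁ := by group
    _ = π a₂ * (π t₂ * π a₁) * π t₁ := by rw [e3]
    _ = π a₂ * π t₂ * (π a₁ * π t₁) := by group

/-- Itô modulo a normal subgroup containing `B'`. -/
theorem derivedSeries_two_le {G : Type u} [Group G] (A B T : Subgroup G) [T.Normal]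
    (hA : ∀ a ∈ A, ∀ a' ∈ A, a * a' = a' * a)
    (hBT : ⁅B, B⁆ ≤ T)
    (hAB : ∀ g : G, ∃ a ∈ A, ∃ b ∈ B, g = a * b) :
    derivedSeries G 2 ≤ T := by
  set π := QuotientGroup.mk' T with hπ
  haveI : IsMulCommutative (A.map π) := by
    refine ⟨⟨?_⟩⟩
    rintro ⟨_, a, ha, rfl⟩ ⟨_, a', ha', rfl⟩
    apply Subtype.ext
    show π a * π a' = π a' * π a
    rw [← map_mul, ← map_mul, hA a ha a' ha']
  haveI : IsMulCommutative (B.map π) := by
    refine ⟨⟨?_⟩⟩
    rintro ⟨_, b, hb, rfl⟩ ⟨_, b', hb', rfl⟩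
    apply Subtype.ext
    show π b * π b' = π b' * π b
    rw [mk_comm_iff]
    exact hBT (Subgroup.commutator_mem_commutator hb hb')
  have hAB' : ∀ q : G ⧸ T, ∃ a ∈ A.map π, ∃ b ∈ B.map π, q = a * b := by
    intro q
    obtain ⟨g, rfl⟩ := QuotientGroup.mk'_surjective T q
    obtain ⟨a, ha, b, hb, rfl⟩ := hAB g
    exact ⟨π a, Subgroup.mem_map_of_mem π ha, π b, Subgroup.mem_map_of_mem π hb, map_mul π a b⟩
  have h2 := Cfsg.Agent.Helper1.ito_derivedSeries_two (A.map π) (B.map π) hAB'
  have h3 := map_derivedSeries_le_derivedSeries π 2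
  rw [h2, le_bot_iff, Subgroup.map_eq_bot_iff, QuotientGroup.ker_mk'] at h3
  exact h3

/-- the derived series of `G` from a term inside `X` on is dominated by that of `X`. -/
theorem derivedSeries_add_le {G : Type u} [Group G] (X : Subgroup G) (j : ℕ)
    (hj : derivedSeries G j ≤ X) (k : ℕ) :
    derivedSeries G (j + k) ≤ (derivedSeries X k).map X.subtype := by
  induction k with
  | zero =>
    rw [add_zero, derivedSeries_zero, ← MonoidHom.range_eq_map, Subgroup.range_subtype]
    exact hj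
  | succ k ih =>
    rw [← add_assoc, derivedSeries_succ, derivedSeries_succ, Subgroup.map_commutator]
    exact Subgroup.commutator_mono ih ih

theorem length_primeFactorsList_lt {m n : ℕ} (hn : n ≠ 0) (hd : m ∣ n) (hne : m ≠ n) :
    m.primeFactorsList.length < n.primeFactorsList.length := by
  obtain ⟨k, rfl⟩ := hd
  have hm : m ≠ 0 := fun h => hn (by rw [h, zero_mul])
  have hk : k ≠ 0 := fun h => hn (by rw [h, mul_zero])
  have hk1 : k ≠ 1 := fun h => hne (by rw [h, mul_one])
  have hperm := Nat.perm_primeFactorsList_mul hm hk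
  rw [hperm.length_eq, List.length_append]
  have : k.primeFactorsList ≠ [] := by
    intro h
    rcases (Nat.primeFactorsList_eq_nil k).1 h with h | h
    · exact hk h
    · exact hk1 h
  have := List.length_pos_iff.2 this
  omega

/-- **Scott's theorem**, internal form. -/
theorem main : ∀ n : ℕ, ∀ (G : Type u) [Group G] [Finite G] [Group.IsSolvable G] (A B : Subgroup G),
    (∀ a ∈ A, ∀ a' ∈ A, a * a' = a' * a) →
    (∀ x ∈ ⁅B, B⁆, ∀ b ∈ B, x * b = b * x) →
    (∀ g : G, ∃ a ∈ A, ∃ b ∈ B, g = a * b) →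
    (Nat.card (⁅B, B⁆ : Subgroup G)).primeFactorsList.length ≤ n →
    derivedSeries G (2 * (1 + n)) = ⊥ := by
  intro n
  induction n with
  | zero =>
    intro G _ _ _ A B hA hcent hAB hcard
    -- `B' = 1`
    have h1 : (Nat.card (⁅B, B⁆ : Subgroup G)).primeFactorsList = [] :=
      List.length_eq_zero_iff.1 (Nat.le_zero.1 hcard)
    have h2 : Nat.card (⁅B, B⁆ : Subgroup G) = 1 := by
      rcases (Nat.primeFactorsList_eq_nil _).1 h1 with h | h
      · exact absurd h Nat.card_pos.ne'
      · exact h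
    have h3 : (⁅B, B⁆ : Subgroup G) = ⊥ := Subgroup.card_eq_one.1 h2
    have h4 := derivedSeries_two_le A B ⊥ hA (le_of_eq h3) hAB
    exact le_bot_iff.1 h4
  | succ m ih =>
    intro G _ _ _ A B hA hcent hAB hcard
    classical
    by_cases hD : (⁅B, B⁆ : Subgroup G) = ⊥
    · have h4 := derivedSeries_two_le A B ⊥ hA (le_of_eq hD) hAB
      have h5 : derivedSeries G (2 * (1 + (m + 1))) ≤ derivedSeries G 2 :=
        derivedSeries_antitone G (by omega)
      exact le_bot_iff.1 (h5.trans h4)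
    set D : Subgroup G := ⁅B, B⁆ with hDdef
    set T := Subgroup.normalClosure (D : Set G) with hT
    haveI hTn : T.Normal := Subgroup.normalClosure_normal
    have hDT : D ≤ T := Subgroup.subset_normalClosure
    set X : Subgroup G := A ⊔ T with hX
    set Bs : Subgroup G := B ⊓ X with hBs
    have hDB : ∀ d ∈ D, ∀ b ∈ B, d * b = b * d := hcent
    -- `Bs' < D`
    have hle : (⁅Bs, Bs⁆ : Subgroup G) ≤ D := Subgroup.commutator_mono inf_le_left inf_le_left
    have hne : (⁅Bs, Bs⁆ : Subgroup G) ≠ D := by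
      intro heq
      have h1 : (⁅Bs, Bs⁆ : Subgroup G) ≤ ⁅T, T⁆ := by
        rw [Subgroup.commutator_le]
        intro b₁ hb₁ b₂ hb₂
        exact comm_mem_of_factor A B D hA hDB hAB b₁ b₂ hb₁ hb₂
      rw [heq] at h1
      haveI : (⁅T, T⁆ : Subgroup G).Normal := Subgroup.commutator_normal T T
      have h2 : T ≤ ⁅T, T⁆ := Subgroup.normalClosure_le_normal h1
      have hTne : T ≠ ⊥ := by
        intro h
        apply hD
        rw [← le_bot_iff, ← h]
        exact hDT
      exact absurd h2 (not_le_of_gt (Group.IsSolvable.commutator_lt_of_ne_bot hTne))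
    have hcard' : (Nat.card (⁅Bs, Bs⁆ : Subgroup G)).primeFactorsList.length ≤ m := by
      have hdvd : Nat.card (⁅Bs, Bs⁆ : Subgroup G) ∣ Nat.card D := Subgroup.card_dvd_of_le hle
      have hne' : Nat.card (⁅Bs, Bs⁆ : Subgroup G) ≠ Nat.card D := by
        intro h
        exact hne (Subgroup.eq_of_le_of_card_ge hle (le_of_eq h.symm))
      have := length_primeFactorsList_lt Nat.card_pos.ne' hdvd hne'
      omega
    -- apply the induction hypothesis to `X`
    have hAX : A ≤ X := le_sup_left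
    have hBsX : Bs ≤ X := inf_le_right
    have hIH : derivedSeries X (2 * (1 + m)) = ⊥ := by
      apply ih X (A.subgroupOf X) (Bs.subgroupOf X)
      · intro a ha a' ha'
        exact Subtype.ext (hA a ha a' ha')
      · intro x hx b hb
        apply Subtype.ext
        have hx' : (x : G) ∈ (⁅Bs.subgroupOf X, Bs.subgroupOf X⁆ : Subgroup X).map X.subtype :=
          Subgroup.mem_map_of_mem X.subtype hx
        rw [Subgroup.map_commutator, Subgroup.subgroupOf_map_subtype, inf_eq_left.2 hBsX] at hx'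
        exact hcent x (hle hx') b hb.1
      · intro g
        obtain ⟨a, ha, b, hb, hg⟩ := hAB (g : G)
        have haX : a ∈ X := hAX ha
        have hbX : b ∈ X := by
          have : b = a⁻¹ * g := by rw [hg]; group
          rw [this]
          exact X.mul_mem (X.inv_mem haX) g.2
        refine ⟨⟨a, haX⟩, ha, ⟨b, hbX⟩, ⟨hb, hbX⟩, Subtype.ext hg⟩
      · have e : Nat.card (⁅Bs.subgroupOf X, Bs.subgroupOf X⁆ : Subgroup X) =
            Nat.card (⁅Bs, Bs⁆ : Subgroup G) := by
          rw [← Subgroup.card_map_of_injective X.subtype_injective, Subgroup.map_commutator,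
            Subgroup.subgroupOf_map_subtype, inf_eq_left.2 hBsX]
        rw [e]
        exact hcard'
    have h2 : derivedSeries G 2 ≤ X :=
      (derivedSeries_two_le A B T hA hDT hAB).trans le_sup_right
    have h3 := derivedSeries_add_le X 2 h2 (2 * (1 + m))
    rw [hIH, Subgroup.map_bot, le_bot_iff] at h3
    have e : 2 * (1 + (m + 1)) = 2 + 2 * (1 + m) := by ring
    rw [e]
    exact h3

end Cfsg.Agent.Helper1.ScottAB
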