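import Mathlib

/-!
# Finite fields: ring automorphisms and Frobenius fixed points
-/

set_option autoImplicit false

namespace Cfsg.Agent.Helper1.SemiLin

/-- The ring automorphism group of a finite field of order `p ^ d` is cyclic of order `d`. -/
theorem ringAut_finite_field (K : Type*) [Field K] [Finite K] (p d : ℕ) [Fact p.Prime] [CharP K p]
    (hK : Nat.card K = p ^ d) : IsCyclic (K ≃+* K) ∧ Nat.card (K ≃+* K) = d := by
  letI := ZMod.algebra K p
  let f : (K ≃ₐ[ZMod p] K) →* (K ≃+* K) :=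
    MonoidHom.mk' (fun e => e.toRingEquiv) (fun a b => rfl)
  have hinj : Function.Injective f := by
    intro a b hab
    ext x
    exact DFunLike.congr_fun hab x
  have hsurj : Function.Surjective f := by
    intro e
    refine ⟨AlgEquiv.ofRingEquiv (f := e) ?_, ?_⟩
    · intro x
      have : e.toRingHom.comp (algebraMap (ZMod p) K) = algebraMap (ZMod p) K :=
        Subsingleton.elim _ _
      exact DFunLike.congr_fun this x
    · ext x
      rfl
  refine ⟨isCyclic_of_surjective f hsurj, ?_⟩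
  rw [← Nat.card_eq_of_bijective f ⟨hinj, hsurj⟩, IsGalois.card_aut_eq_finrank]
  have h1 := Module.natCard_eq_pow_finrank (K := ZMod p) (V := K)
  rw [hK, Nat.card_zmod] at h1
  exact (Nat.pow_right_injective (Fact.out : p.Prime).two_le h1).symm

open Polynomial in
theorem le_of_forall_pow_eq (K : Type*) [Field K] [Finite K] (p d i : ℕ)
    (hp : p.Prime) (hi : 0 < i)
    (hK : Nat.card K = p ^ d) (hall : ∀ x : K, x ^ (p ^ i) = x) : d ≤ i := by
  classical
  haveI := Fintype.ofFinite K
  obtain ⟨n, hn⟩ : ∃ n, n = p ^ i := ⟨_, rfl⟩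
  have h1 : 1 < n := hn ▸ Nat.one_lt_pow hi.ne' hp.one_lt
  rw [← hn] at hall
  have hne : (X ^ n - X : K[X]) ≠ 0 := FiniteField.X_pow_card_sub_X_ne_zero K h1
  have h2 : (Finset.univ : Finset K).val ⊆ (X ^ n - X : K[X]).roots := by
    intro x _
    rw [mem_roots hne, IsRoot, eval_sub, eval_pow, eval_X, hall x, sub_self]
  have h3 := card_le_degree_of_subset_roots h2
  rw [FiniteField.X_pow_card_sub_X_natDegree_eq K h1, Finset.card_univ,
    ← Nat.card_eq_fintype_card, hK, hn] at h3
  exact (Nat.pow_le_pow_iff_right hp.one_lt).mp h3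

/-- Domain version of `ringAut_finite_field`. -/
theorem ringAut_finite_domain (K : Type*) [CommRing K] [IsDomain K] [Finite K] (p d : ℕ)
    [Fact p.Prime] [CharP K p] (hK : Nat.card K = p ^ d) :
    IsCyclic (K ≃+* K) ∧ Nat.card (K ≃+* K) = d := by
  classical
  haveI := Fintype.ofFinite K
  letI := Fintype.fieldOfDomain K
  exact ringAut_finite_field K p d hK

/-- Domain version of `le_of_forall_pow_eq`. -/
theorem le_of_forall_pow_eq' (K : Type*) [CommRing K] [IsDomain K] [Finite K] (p d i : ℕ)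
    (hp : p.Prime) (hi : 0 < i)
    (hK : Nat.card K = p ^ d) (hall : ∀ x : K, x ^ (p ^ i) = x) : d ≤ i := by
  classical
  haveI := Fintype.ofFinite K
  letI := Fintype.fieldOfDomain K
  exact le_of_forall_pow_eq K p d i hp hi hK hall

/-- A finite group mapping to the automorphism group of a finite field with kernel inside a cyclic
subgroup. -/
theorem comb {K : Type*} [CommRing K] [IsDomain K] [Finite K] (p d : ℕ) [Fact p.Prime] [CharP K p]
    (hK : Nat.card K = p ^ d) {H : Type*} [Group H] [Finite H] (Ψ : H →* (K ≃+* K)) (t : H)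
    (hker : Ψ.ker ≤ Subgroup.zpowers t) :
    Nat.card H ∣ orderOf t * d ∧
      ∃ h : H, (⊤ : Subgroup H) = Subgroup.zpowers t ⊔ Subgroup.zpowers h := by
  obtain ⟨hcyc, hcardA⟩ := ringAut_finite_domain K p d hK
  constructor
  · rw [← Subgroup.card_mul_index Ψ.ker]
    apply mul_dvd_mul
    · rw [← Nat.card_zpowers]
      exact Subgroup.card_dvd_of_le hker
    · rw [Subgroup.index_ker, ← hcardA]
      exact Subgroup.card_subgroup_dvd_card _
  · haveI : IsCyclic Ψ.range := inferInstance
    obtain ⟨g, hg⟩ := IsCyclic.exists_generator (α := Ψ.range)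
    obtain ⟨h₀, hh₀⟩ := g.2
    refine ⟨h₀, ?_⟩
    symm
    rw [eq_top_iff]
    intro h _
    obtain ⟨k, hk⟩ := Subgroup.mem_zpowers_iff.mp (hg ⟨Ψ h, ⟨h, rfl⟩⟩)
    have h1 : Ψ (h₀ ^ k) = Ψ h := by
      rw [map_zpow, hh₀]
      have := congrArg Subtype.val hk
      rw [Subgroup.coe_zpow] at this
      exact this
    have h2 : h * (h₀ ^ k)⁻¹ ∈ Ψ.ker := by
      rw [MonoidHom.mem_ker, map_mul, map_inv, h1, mul_inv_cancel]
    have h3 : h = (h * (h₀ ^ k)⁻¹) * h₀ ^ k := by group
    rw [h3]
    exact Subgroup.mul_mem _ (Subgroup.mem_sup_left (hker h2))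
      (Subgroup.mem_sup_right (Subgroup.zpow_mem _ (Subgroup.mem_zpowers _) k))

end Cfsg.Agent.Helper1.SemiLin
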