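import Mathlib
import Cfsg.Agent.Helper1.SemiLinA

/-!
# A cyclic irreducible automorphism group and its normalizer: semilinear structure
-/

set_option autoImplicit false

namespace Cfsg.Agent.Helper1.SemiLin

variable {M : Type*} [AddCommGroup M]

/-- `τ`-irreducibility of an additive group. -/
def Irr (τ : AddMonoid.End M) : Prop :=
  ∀ A : AddSubgroup M, (∀ m ∈ A, τ m ∈ A) → A = ⊥ ∨ A = ⊤

/-- The subring of the endomorphism ring generated by `τ`. -/
abbrev Rg (τ : AddMonoid.End M) : Subring (AddMonoid.End M) := Subring.closure {τ}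

theorem tau_mem (τ : AddMonoid.End M) : τ ∈ Rg τ := Subring.subset_closure (Set.mem_singleton τ)

theorem comm_tau (τ : AddMonoid.End M) {x : AddMonoid.End M} (hx : x ∈ Rg τ) :
    x * τ = τ * x := by
  induction hx using Subring.closure_induction with
  | mem y hy => rw [Set.mem_singleton_iff.mp hy]
  | zero => rw [zero_mul, mul_zero]
  | one => rw [one_mul, mul_one]
  | add x y _ _ hx hy => rw [add_mul, mul_add, hx, hy]
  | neg x _ hx => rw [neg_mul, mul_neg, hx]
  | mul x y _ _ hx hy => rw [mul_assoc, hy, ← mul_assoc, hx, mul_assoc]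

instance instIsMulCommRg (τ : AddMonoid.End M) : IsMulCommutative (Rg τ) :=
  Subring.isMulCommutative_closure (by
    intro x hx y hy
    rw [Set.mem_singleton_iff.mp hx, Set.mem_singleton_iff.mp hy])

open scoped IsMulCommutative in
noncomputable instance instCommRingRg (τ : AddMonoid.End M) : CommRing (Rg τ) := inferInstance

theorem injective_of_ne_zero {τ : AddMonoid.End M} (hirr : Irr τ) {x : AddMonoid.End M}
    (hx : x ∈ Rg τ) (hx0 : x ≠ 0) : Function.Injective x := by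
  let x' : M →+ M := x
  have hinv : ∀ m ∈ AddMonoidHom.ker x', τ m ∈ AddMonoidHom.ker x' := by
    intro m hm
    rw [AddMonoidHom.mem_ker] at hm ⊢
    have h1 : x (τ m) = τ (x m) := DFunLike.congr_fun (comm_tau τ hx) m
    change x (τ m) = 0
    rw [h1]
    change τ (x' m) = 0
    rw [hm, map_zero]
  rcases hirr _ hinv with h | h
  · exact (AddMonoidHom.ker_eq_bot_iff x').mp h
  · exfalso
    apply hx0
    ext m
    have : m ∈ AddMonoidHom.ker x' := h ▸ AddSubgroup.mem_top m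
    exact this

theorem noZeroDivisors_Rg {τ : AddMonoid.End M} (hirr : Irr τ) : NoZeroDivisors (Rg τ) := by
  constructor
  intro x y hxy
  by_contra hcon
  push Not at hcon
  obtain ⟨hx, hy⟩ := hcon
  have hx' : x.1 ≠ 0 := fun h => hx (Subtype.ext h)
  have hinj := injective_of_ne_zero hirr x.2 hx'
  apply hy
  apply Subtype.ext
  ext m
  apply hinj
  have := DFunLike.congr_fun (congrArg Subtype.val hxy) m
  exact this.trans (map_zero x.1).symm

theorem nontrivial_Rg [Nontrivial M] (τ : AddMonoid.End M) : Nontrivial (Rg τ) := by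
  obtain ⟨m, hm⟩ := exists_ne (0 : M)
  refine ⟨⟨1, 0, ?_⟩⟩
  intro h
  apply hm
  have := DFunLike.congr_fun (congrArg Subtype.val h) m
  exact this

theorem card_Rg [Finite M] {τ : AddMonoid.End M} (hirr : Irr τ) (m₀ : M) (hm₀ : m₀ ≠ 0) :
    Nat.card (Rg τ) = Nat.card M := by
  let ev : Rg τ →+ M := AddMonoidHom.mk' (fun x => x.1 m₀) (fun x y => rfl)
  have hinj : Function.Injective ev := by
    rw [injective_iff_map_eq_zero]
    intro x hx
    by_contra hne
    have hne' : x.1 ≠ 0 := fun h => hne (Subtype.ext h)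
    have := injective_of_ne_zero hirr x.2 hne'
    exact hm₀ (this (hx.trans (map_zero x.1).symm))
  have hsurj : Function.Surjective ev := by
    rw [← AddMonoidHom.range_eq_top]
    have hinv : ∀ m ∈ ev.range, τ m ∈ ev.range := by
      rintro m ⟨x, rfl⟩
      exact ⟨⟨τ, tau_mem τ⟩ * x, rfl⟩
    rcases hirr ev.range hinv with h | h
    · exfalso
      apply hm₀
      have : m₀ ∈ ev.range := ⟨1, rfl⟩
      rw [h] at this
      exact this
    · exact h
  exact Nat.card_eq_of_bijective ev ⟨hinj, hsurj⟩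

theorem charP_Rg [Nontrivial M] (τ : AddMonoid.End M) (p : ℕ) (hp : p.Prime)
    (hpM : ∀ m : M, p • m = 0) : CharP (Rg τ) p := by
  haveI : Nontrivial (Rg τ) := nontrivial_Rg τ
  apply ringChar.of_eq
  apply CharP.ringChar_of_prime_eq_zero hp
  apply Subtype.ext
  ext m
  have : ((p : Rg τ) : AddMonoid.End M) = (p : AddMonoid.End M) := rfl
  rw [this, AddMonoid.End.natCast_apply, hpM]
  rfl

theorem frob_fix {τ : AddMonoid.End M} (p i : ℕ) [Fact p.Prime] [CharP (Rg τ) p]
    (hτ : (⟨τ, tau_mem τ⟩ : Rg τ) ^ (p ^ i) = ⟨τ, tau_mem τ⟩) :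
    ∀ x : Rg τ, x ^ (p ^ i) = x := by
  intro x
  have key : ∀ (y : AddMonoid.End M) (hy : y ∈ Rg τ),
      iterateFrobenius (Rg τ) p i ⟨y, hy⟩ = ⟨y, hy⟩ := by
    intro y hy
    induction hy using Subring.closure_induction with
    | mem z hz =>
      have : z = τ := Set.mem_singleton_iff.mp hz
      subst this
      rw [iterateFrobenius_def]
      exact hτ
    | zero => exact map_zero _
    | one => exact map_one _
    | add a b ha hb iha ihb =>
      have : (⟨a + b, Subring.add_mem _ ha hb⟩ : Rg τ) = ⟨a, ha⟩ + ⟨b, hb⟩ := rfl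
      rw [this, map_add, iha, ihb]
    | neg a ha iha =>
      have : (⟨-a, Subring.neg_mem _ ha⟩ : Rg τ) = -⟨a, ha⟩ := rfl
      rw [this, map_neg, iha]
    | mul a b ha hb iha ihb =>
      have : (⟨a * b, Subring.mul_mem _ ha hb⟩ : Rg τ) = ⟨a, ha⟩ * ⟨b, hb⟩ := rfl
      rw [this, map_mul, iha, ihb]
  have := key x.1 x.2
  rwa [iterateFrobenius_def] at this

theorem conj_mul_aux {E : Type*} [Monoid E] (u u' x y : E) (h : u' * u = 1) :
    u * (x * y) * u' = (u * x * u') * (u * y * u') := by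
  calc u * (x * y) * u' = u * x * (1 * (y * u')) := by simp only [one_mul, mul_assoc]
    _ = u * x * ((u' * u) * (y * u')) := by rw [h]
    _ = _ := by simp only [mul_assoc]

variable {H : Type*} [Group H]

theorem conj_mem (σ : H →* AddMonoid.End M) (t : H)
    (hnorm : ∀ h : H, ∃ n : ℕ, h * t * h⁻¹ = t ^ n) (h : H) {x : AddMonoid.End M}
    (hx : x ∈ Rg (σ t)) : σ h * x * σ h⁻¹ ∈ Rg (σ t) := by
  have e1 : σ h⁻¹ * σ h = 1 := by rw [← map_mul, inv_mul_cancel, map_one]
  induction hx using Subring.closure_induction with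
  | mem y hy =>
    rw [Set.mem_singleton_iff.mp hy]
    obtain ⟨n, hn⟩ := hnorm h
    rw [← map_mul, ← map_mul, hn, map_pow]
    exact Subring.pow_mem _ (tau_mem _) n
  | zero =>
    rw [mul_zero, zero_mul]
    exact Subring.zero_mem _
  | one =>
    rw [mul_one, ← map_mul, mul_inv_cancel, map_one]
    exact Subring.one_mem _
  | add x y _ _ hx hy =>
    rw [mul_add, add_mul]
    exact Subring.add_mem _ hx hy
  | neg x _ hx =>
    rw [mul_neg, neg_mul]
    exact Subring.neg_mem _ hx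
  | mul x y _ _ hx hy =>
    rw [conj_mul_aux _ _ _ _ e1]
    exact Subring.mul_mem _ hx hy

/-- Conjugation by `σ h` as a ring automorphism of `Rg (σ t)`. -/
noncomputable def conjEquiv (σ : H →* AddMonoid.End M) (t : H)
    (hnorm : ∀ h : H, ∃ n : ℕ, h * t * h⁻¹ = t ^ n) (h : H) : Rg (σ t) ≃+* Rg (σ t) where
  toFun x := ⟨σ h * x.1 * σ h⁻¹, conj_mem σ t hnorm h x.2⟩
  invFun x := ⟨σ h⁻¹ * x.1 * σ h, by
    have := conj_mem σ t hnorm h⁻¹ x.2
    rwa [inv_inv] at this⟩
  left_inv x := by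
    have e1 : σ h⁻¹ * σ h = 1 := by rw [← map_mul, inv_mul_cancel, map_one]
    apply Subtype.ext
    change σ h⁻¹ * (σ h * x.1 * σ h⁻¹) * σ h = x.1
    calc σ h⁻¹ * (σ h * x.1 * σ h⁻¹) * σ h = (σ h⁻¹ * σ h) * x.1 * (σ h⁻¹ * σ h) := by
          simp only [mul_assoc]
      _ = x.1 := by rw [e1, one_mul, mul_one]
  right_inv x := by
    have e1 : σ h * σ h⁻¹ = 1 := by rw [← map_mul, mul_inv_cancel, map_one]
    apply Subtype.ext
    change σ h * (σ h⁻¹ * x.1 * σ h) * σ h⁻¹ = x.1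
    calc σ h * (σ h⁻¹ * x.1 * σ h) * σ h⁻¹ = (σ h * σ h⁻¹) * x.1 * (σ h * σ h⁻¹) := by
          simp only [mul_assoc]
      _ = x.1 := by rw [e1, one_mul, mul_one]
  map_mul' x y := by
    have e1 : σ h⁻¹ * σ h = 1 := by rw [← map_mul, inv_mul_cancel, map_one]
    exact Subtype.ext (conj_mul_aux _ _ _ _ e1)
  map_add' x y := by
    apply Subtype.ext
    change σ h * (x.1 + y.1) * σ h⁻¹ = σ h * x.1 * σ h⁻¹ + σ h * y.1 * σ h⁻¹
    rw [mul_add, add_mul]

theorem conjEquiv_apply (σ : H →* AddMonoid.End M) (t : H)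
    (hnorm : ∀ h : H, ∃ n : ℕ, h * t * h⁻¹ = t ^ n) (h : H) (x : Rg (σ t)) :
    ((conjEquiv σ t hnorm h x : Rg (σ t)) : AddMonoid.End M) = σ h * x.1 * σ h⁻¹ := rfl

/-- The conjugation action as a group homomorphism. -/
noncomputable def conjHom (σ : H →* AddMonoid.End M) (t : H)
    (hnorm : ∀ h : H, ∃ n : ℕ, h * t * h⁻¹ = t ^ n) : H →* (Rg (σ t) ≃+* Rg (σ t)) :=
  MonoidHom.mk' (conjEquiv σ t hnorm) (by
    intro a b
    apply RingEquiv.ext
    intro x
    apply Subtype.ext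
    change σ (a * b) * x.1 * σ (a * b)⁻¹ = σ a * (σ b * x.1 * σ b⁻¹) * σ a⁻¹
    rw [mul_inv_rev, map_mul, map_mul]
    simp only [mul_assoc])

theorem conjHom_ker_le (σ : H →* AddMonoid.End M) (hσ : Function.Injective σ) (t : H)
    (hnorm : ∀ h : H, ∃ n : ℕ, h * t * h⁻¹ = t ^ n)
    (hcent : ∀ h : H, h * t = t * h → h ∈ Subgroup.zpowers t) :
    (conjHom σ t hnorm).ker ≤ Subgroup.zpowers t := by
  intro h hh
  rw [MonoidHom.mem_ker] at hh
  apply hcent
  have h1 := congrArg (fun e : Rg (σ t) ≃+* Rg (σ t) =>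
    ((e ⟨σ t, tau_mem _⟩ : Rg (σ t)) : AddMonoid.End M)) hh
  have h2 : σ (h * t * h⁻¹) = σ t := by
    rw [map_mul, map_mul]
    exact h1
  have h3 := hσ h2
  rw [mul_inv_eq_iff_eq_mul] at h3
  exact h3

/-- Main abstract theorem. -/
theorem main [Finite M] [Finite H] (p d : ℕ) (hp : p.Prime)
    (hpM : ∀ m : M, p • m = 0) (hcard : Nat.card M = p ^ d) (m₀ : M) (hm₀ : m₀ ≠ 0)
    (σ : H →* AddMonoid.End M) (hσ : Function.Injective σ) (t : H)
    (hnorm : ∀ h : H, h * t * h⁻¹ ∈ Subgroup.zpowers t)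
    (hcent : ∀ h : H, h * t = t * h → h ∈ Subgroup.zpowers t)
    (hirr : Irr (σ t)) :
    (∀ i, 0 < i → i < d → ¬ orderOf t ∣ p ^ i - 1) ∧ Nat.card H ∣ orderOf t * d ∧
      ∃ h : H, (⊤ : Subgroup H) = Subgroup.zpowers t ⊔ Subgroup.zpowers h := by
  classical
  haveI := Fact.mk hp
  haveI : Nontrivial M := ⟨⟨m₀, 0, hm₀⟩⟩
  haveI : Nontrivial (Rg (σ t)) := nontrivial_Rg (σ t)
  haveI : NoZeroDivisors (Rg (σ t)) := noZeroDivisors_Rg hirr
  haveI : IsDomain (Rg (σ t)) := NoZeroDivisors.to_isDomain _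
  haveI : Finite (AddMonoid.End M) :=
    Finite.of_injective (fun f : AddMonoid.End M => (f : M → M)) DFunLike.coe_injective
  haveI : Finite (Rg (σ t)) := inferInstance
  haveI : CharP (Rg (σ t)) p := charP_Rg (σ t) p hp hpM
  have hK : Nat.card (Rg (σ t)) = p ^ d := (card_Rg hirr m₀ hm₀).trans hcard
  have hnorm' : ∀ h : H, ∃ n : ℕ, h * t * h⁻¹ = t ^ n := by
    intro h
    have := hnorm h
    rw [← mem_powers_iff_mem_zpowers, Submonoid.mem_powers_iff] at this
    obtain ⟨n, hn⟩ := this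
    exact ⟨n, hn.symm⟩
  refine ⟨?_, ?_⟩
  · intro i hi hid hdvd
    have hfix : ∀ x : Rg (σ t), x ^ (p ^ i) = x := by
      apply frob_fix p i
      obtain ⟨k, hk⟩ := hdvd
      apply Subtype.ext
      change (σ t) ^ (p ^ i) = σ t
      rw [← map_pow]
      congr 1
      have h1 : p ^ i = (p ^ i - 1) + 1 := (Nat.sub_add_cancel (Nat.one_le_pow _ _ hp.pos)).symm
      rw [h1, pow_succ, hk, pow_mul, pow_orderOf_eq_one, one_pow, one_mul]
    have := le_of_forall_pow_eq' (Rg (σ t)) p d i hp hi hK hfix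
    omega
  · exact comb p d hK (conjHom σ t hnorm') t (conjHom_ker_le σ hσ t hnorm' hcent)

end Cfsg.Agent.Helper1.SemiLin
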