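import Mathlib
import Cfsg.Prelude.Def_Transfer
import Cfsg.Agent.Helper1.NormalPCompl
import Cfsg.Agent.Helper1.KleinSylow

set_option autoImplicit false

/-!
The order of a non-abelian simple group is divisible by `p³` (`p` the least prime divisor) or by 12.
-/

namespace Cfsg.Agent.Helper1

universe u

variable {G : Type u} [Group G]

/-- Fixed points of an automorphism of prime order. -/
theorem card_fixed_modEq_of_prime_order (T : Type u) [Group T] [Finite T] (σ : MulAut T) {r : ℕ}
    [Fact r.Prime] (hσ : orderOf σ = r) :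
    ∃ F : Subgroup T, (∀ t, t ∈ F ↔ σ t = t) ∧ Nat.card T ≡ Nat.card F [MOD r] := by
  have hS : IsPGroup r (Subgroup.zpowers σ) :=
    IsPGroup.of_card (n := 1) (by rw [Nat.card_zpowers, hσ, pow_one])
  have hmod := hS.card_modEq_card_fixedPoints T
  let F : Subgroup T :=
    { carrier := {t | σ t = t}
      mul_mem' := by
        intro a b ha hb
        show σ (a * b) = a * b
        rw [map_mul, ha, hb]
      one_mem' := map_one σ
      inv_mem' := by
        intro a ha
        show σ a⁻¹ = a⁻¹
        rw [map_inv, ha] }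
  have hFeq : (MulAction.fixedPoints (Subgroup.zpowers σ) T) = (F : Set T) := by
    ext t
    constructor
    · intro ht
      exact ht ⟨σ, Subgroup.mem_zpowers σ⟩
    · intro ht τ
      obtain ⟨τ, hτ⟩ := τ
      obtain ⟨k, rfl⟩ := Subgroup.mem_zpowers_iff.1 hτ
      show (σ ^ k) • t = t
      have hst : σ ∈ MulAction.stabilizer (MulAut T) t := MulAction.mem_stabilizer_iff.2 ht
      exact MulAction.mem_stabilizer_iff.1 (Subgroup.zpow_mem _ hst k)
  have hcardF : Nat.card (MulAction.fixedPoints (Subgroup.zpowers σ) T) = Nat.card F := by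
    rw [hFeq]; rfl
  rw [hcardF] at hmod
  exact ⟨F, fun t => Iff.rfl, hmod⟩

/-- An automorphism of prime order `r > p` of a group of order `p` or `p²` forces `p = 2`, `r = 3`. -/
theorem aut_prime_order_of_card_le_sq (T : Type u) [Group T] [Finite T] {p k r : ℕ} (hp : p.Prime)
    (hr : r.Prime) (hpr : p < r) (hk : k ≤ 2) (hT : Nat.card T = p ^ k) (σ : MulAut T)
    (hσ : orderOf σ = r) : p = 2 ∧ r = 3 ∧ k = 2 := by
  have hrF : Fact r.Prime := ⟨hr⟩
  obtain ⟨F, hF, hmod⟩ := card_fixed_modEq_of_prime_order T σ hσ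
  have hdvd : Nat.card F ∣ p ^ k := hT ▸ Subgroup.card_subgroup_dvd_card F
  obtain ⟨j, hjk, hj⟩ := (Nat.dvd_prime_pow hp).1 hdvd
  have hFtop : F ≠ ⊤ := by
    intro htop
    have hσ1 : σ = 1 := by
      ext t
      exact (hF t).1 (htop ▸ Subgroup.mem_top t)
    rw [hσ1, orderOf_one] at hσ
    exact hr.one_lt.ne hσ
  have hjlt : j < k := by
    rcases lt_or_eq_of_le hjk with h | h
    · exact h
    · exfalso
      apply hFtop
      apply (Subgroup.card_eq_iff_eq_top F).1
      rw [hj, hT, h]
  rw [hT, hj] at hmod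
  -- `r ∣ p^k - p^j`
  have hle : p ^ j ≤ p ^ k := Nat.pow_le_pow_right hp.pos hjk
  have h1 : r ∣ p ^ k - p ^ j := (Nat.modEq_iff_dvd' hle).1 hmod.symm
  have h2 : p ^ k - p ^ j = p ^ j * (p ^ (k - j) - 1) := by
    rw [Nat.mul_sub, mul_one, ← pow_add, Nat.add_sub_cancel' hjk]
  rw [h2] at h1
  have hrp : ¬ r ∣ p ^ j := by
    intro h
    have := (Nat.prime_dvd_prime_iff_eq hr hp).1 (hr.dvd_of_dvd_pow h)
    omega
  have h3 : r ∣ p ^ (k - j) - 1 := ((Nat.Prime.dvd_mul hr).1 h1).resolve_left hrp
  have hkj : k - j = 1 ∨ k - j = 2 := by omega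
  rcases hkj with h | h
  · exfalso
    rw [h, pow_one] at h3
    have := Nat.le_of_dvd (by have := hp.one_lt; omega) h3
    omega
  · have hk2 : k = 2 := by omega
    have hj0 : j = 0 := by omega
    rw [h] at h3
    have h4 : p ^ 2 - 1 = (p - 1) * (p + 1) := by
      obtain ⟨s, rfl⟩ : ∃ s, p = s + 1 := ⟨p - 1, by have := hp.pos; omega⟩
      simp only [Nat.add_sub_cancel]
      have : (s + 1) ^ 2 = s * (s + 1 + 1) + 1 := by ring
      rw [this, Nat.add_sub_cancel]
    rw [h4] at h3
    have hr_eq : r = p + 1 := by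
      rcases (Nat.Prime.dvd_mul hr).1 h3 with h' | h'
      · exfalso
        have := Nat.le_of_dvd (by have := hp.one_lt; omega) h'
        omega
      · have := Nat.le_of_dvd (by omega) h'
        omega
    have hp2 : p = 2 := by
      rcases hp.eq_two_or_odd with h' | h'
      · exact h'
      · exfalso
        rcases hr.eq_two_or_odd with h'' | h''
        · have := hp.two_le; omega
        · omega
    exact ⟨hp2, by omega, hk2⟩

theorem simple_order_dvd [Finite G] [IsSimpleGroup G] (hG : ∃ x y : G, x * y ≠ y * x) :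
    (Nat.card G).minFac ^ 3 ∣ Nat.card G ∨ 12 ∣ Nat.card G := by
  classical
  by_contra hcon
  push Not at hcon
  obtain ⟨hcube, h12⟩ := hcon
  have hcard1 : Nat.card G ≠ 1 := by
    intro h
    have := (Nat.card_eq_one_iff_unique.1 h).1
    obtain ⟨x, y, hxy⟩ := hG
    exact hxy (Subsingleton.elim _ _)
  set p := (Nat.card G).minFac with hpdef
  have hp : p.Prime := Nat.minFac_prime hcard1
  have hpF : Fact p.Prime := ⟨hp⟩
  obtain ⟨P⟩ : Nonempty (Sylow p G) := inferInstance
  obtain ⟨k, hk⟩ := IsPGroup.iff_card.1 P.2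
  have hkdvd : p ^ k ∣ Nat.card G := hk ▸ Subgroup.card_subgroup_dvd_card _
  have hk2 : k ≤ 2 := by
    by_contra h
    push Not at h
    exact hcube ((pow_dvd_pow p h).trans hkdvd)
  have hk0 : k ≠ 0 := by
    intro h0
    rw [h0, pow_zero] at hk
    have h1 := P.card_eq_multiplicity
    rw [hk] at h1
    have h2 : (Nat.card G).factorization p = 0 := by
      by_contra hne
      have : 1 < p ^ (Nat.card G).factorization p := Nat.one_lt_pow hne hp.one_lt
      omega
    have h3 : p ∣ Nat.card G := Nat.minFac_dvd _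
    have h4 := (hp.dvd_iff_one_le_factorization Nat.card_pos.ne').1 h3
    omega
  -- `P` is abelian
  have hPc : IsMulCommutative (P : Subgroup G) := by
    have hk12 : k = 1 ∨ k = 2 := by omega
    rcases hk12 with h | h
    · rw [h, pow_one] at hk
      have := isCyclic_of_prime_card hk
      exact ⟨⟨fun a b => IsCyclic.commGroup.mul_comm a b⟩⟩
    · rw [h] at hk
      exact IsPGroup.isMulCommutative_of_card_eq_prime_sq hk
  -- coprimality
  have hcop : Nat.Coprime (P : Subgroup G).index (Nat.card (MulAut (P : Subgroup G))) := by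
    apply Nat.coprime_of_dvd
    intro r hr hr1 hr2
    have hrG : r ∣ Nat.card G := hr1.trans (Subgroup.index_dvd_card _)
    have hpr : p ≤ r := Nat.minFac_le_of_dvd hr.two_le hrG
    have hrp : r ≠ p := by
      intro h
      rw [h] at hr1
      exact P.not_dvd_index hr1
    have hlt : p < r := lt_of_le_of_ne hpr (Ne.symm hrp)
    have hrF : Fact r.Prime := ⟨hr⟩
    have hfin : Finite (MulAut (P : Subgroup G)) :=
      Finite.of_injective (autPermNonOne _) (autPermNonOne_injective _)
    obtain ⟨σ, hσ⟩ := exists_prime_orderOf_dvd_card' r hr2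
    obtain ⟨hp2, hr3, hk2'⟩ := aut_prime_order_of_card_le_sq (P : Subgroup G) hp hr hlt hk2 hk σ hσ
    apply h12
    have h4 : 4 ∣ Nat.card G := by
      rw [hp2, hk2'] at hkdvd
      exact hkdvd
    have h3 : 3 ∣ Nat.card G := hr3 ▸ hrG
    have : (12 : ℕ) = 4 * 3 := by norm_num
    rw [this]
    exact Nat.Coprime.mul_dvd_of_dvd_of_dvd (by norm_num) h4 h3
  have hNC := normalizer_le_centralizer_of_coprime_aut (P : Subgroup G) hPc hcop
  obtain ⟨P', K, hKn, hK⟩ := hasNormalPComplement_of_normalizer_le_centralizer P hNC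
  have hK' := isComplement'_sylow_of_isComplement'_sylow P' P K hK
  rcases hKn.eq_bot_or_eq_top with h | h
  · -- `G = P` is abelian
    have htop : (P : Subgroup G) = ⊤ := by
      have := hK'.sup_eq_top
      rwa [h, bot_sup_eq] at this
    obtain ⟨x, y, hxy⟩ := hG
    apply hxy
    have := mul_comm' (⟨x, htop ▸ Subgroup.mem_top x⟩ : (P : Subgroup G))
      ⟨y, htop ▸ Subgroup.mem_top y⟩
    exact congrArg Subtype.val this
  · -- `P = 1`
    have hbot : (P : Subgroup G) = ⊥ := by
      have := hK'.disjoint.eq_bot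
      rwa [h, top_inf_eq] at this
    rw [hbot, Subgroup.card_bot] at hk
    have : 1 < p ^ k := Nat.one_lt_pow hk0 hp.one_lt
    omega

end Cfsg.Agent.Helper1
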