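import Mathlib

set_option autoImplicit false

/-!
Groups generated by two involutions (piece 5 of the S4385 project, part A): the order of such a
group, and normalizers of cyclic subgroups.
-/

namespace Cfsg.Agent.Helper1.SimsEnd

variable {B : Type*} [Group B]

theorem inv_of_sq {a : B} (ha : a * a = 1) : a⁻¹ = a := inv_eq_of_mul_eq_one_left ha

theorem conj_left_eq_inv {a b : B} (ha : a * a = 1) (hb : b * b = 1) :
    a * (a * b) * a⁻¹ = (a * b)⁻¹ := by
  rw [mul_inv_rev, inv_of_sq ha, inv_of_sq hb, ← mul_assoc, ha, one_mul]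

theorem conj_right_eq_inv {a b : B} (ha : a * a = 1) (hb : b * b = 1) :
    b * (a * b) * b⁻¹ = (a * b)⁻¹ := by
  rw [mul_inv_rev, inv_of_sq ha, inv_of_sq hb, mul_assoc, mul_assoc, hb, mul_one]

/-- an element inverting `x` normalizes `⟨x⟩`. -/
theorem mem_normalizer_zpowers_of_conj_eq_inv {g x : B} (h : g * x * g⁻¹ = x⁻¹) :
    g ∈ Subgroup.normalizer (Subgroup.zpowers x : Set B) := by
  have h2 : g * x⁻¹ * g⁻¹ = x := by
    have := congrArg (·⁻¹) h
    simpa [mul_assoc] using this
  have h' : g⁻¹ * x * g = x⁻¹ := by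
    calc g⁻¹ * x * g = g⁻¹ * (g * x⁻¹ * g⁻¹) * g := by rw [h2]
      _ = x⁻¹ := by group
  rw [Subgroup.mem_normalizer_iff]
  intro y
  constructor
  · intro hy
    obtain ⟨k, rfl⟩ := Subgroup.mem_zpowers_iff.mp hy
    rw [← conj_zpow, h, inv_zpow]
    exact Subgroup.inv_mem _ (Subgroup.zpow_mem_zpowers x k)
  · intro hy
    obtain ⟨k, hk⟩ := Subgroup.mem_zpowers_iff.mp hy
    have : y = g⁻¹ * x ^ k * g := by rw [hk]; group
    rw [this]
    have h3 : g⁻¹ * x ^ k * g = (g⁻¹ * x * g) ^ k := by
      have := conj_zpow (a := g⁻¹) (b := x) (i := k)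
      rw [inv_inv] at this
      exact this.symm
    rw [h3, h', inv_zpow]
    exact Subgroup.inv_mem _ (Subgroup.zpow_mem_zpowers x k)

theorem mem_normalizer_zpowers_of_commute {g x : B} (h : g * x = x * g) :
    g ∈ Subgroup.normalizer (Subgroup.zpowers x : Set B) := by
  have hc : Commute g x := h
  rw [Subgroup.mem_normalizer_iff]
  intro y
  constructor
  · intro hy
    obtain ⟨k, rfl⟩ := Subgroup.mem_zpowers_iff.mp hy
    have : g * x ^ k * g⁻¹ = x ^ k := by
      rw [(hc.zpow_right k).eq, mul_assoc, mul_inv_cancel, mul_one]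
    rw [this]
    exact Subgroup.zpow_mem_zpowers x k
  · intro hy
    obtain ⟨k, hk⟩ := Subgroup.mem_zpowers_iff.mp hy
    have : y = x ^ k := by
      have e : y = g⁻¹ * x ^ k * g := by rw [hk]; group
      rw [e, mul_assoc, ← (hc.zpow_right k).eq, ← mul_assoc, inv_mul_cancel, one_mul]
    rw [this]
    exact Subgroup.zpow_mem_zpowers x k

/-- every element of a group generated by involutions `a`, `b` is `(ab)^k` or `(ab)^k a`. -/
theorem mem_zpowers_or {a b : B} (ha : a * a = 1) (hb : b * b = 1)
    (hgen : Subgroup.closure ({a, b} : Set B) = ⊤) (g : B) :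
    g ∈ Subgroup.zpowers (a * b) ∨ g * a ∈ Subgroup.zpowers (a * b) := by
  have hg : g ∈ Subgroup.closure ({a, b} : Set B) := by rw [hgen]; trivial
  have hba : b * a = (a * b)⁻¹ := by rw [mul_inv_rev, inv_of_sq ha, inv_of_sq hb]
  have key : ∀ x : B, (x ∈ Subgroup.zpowers (a * b) ∨ x * a ∈ Subgroup.zpowers (a * b)) →
      ∀ y ∈ ({a, b} : Set B),
        (x * y ∈ Subgroup.zpowers (a * b) ∨ x * y * a ∈ Subgroup.zpowers (a * b)) := by
    intro x hx y hy
    rcases hy with rfl | hy
    · rcases hx with hx | hx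
      · right
        rw [mul_assoc, ha, mul_one]
        exact hx
      · left
        exact hx
    · rw [Set.mem_singleton_iff] at hy
      subst hy
      rcases hx with hx | hx
      · right
        rw [mul_assoc, hba]
        exact Subgroup.mul_mem _ hx (Subgroup.inv_mem _ (Subgroup.mem_zpowers _))
      · left
        have : x * y = x * a * (a * y) := by
          rw [mul_assoc, ← mul_assoc a a y, ha, one_mul]
        rw [this]
        exact Subgroup.mul_mem _ hx (Subgroup.mem_zpowers _)
  induction hg using Subgroup.closure_induction_right with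
  | one => left; exact Subgroup.one_mem _
  | mul_right x hx y hy ih => exact key x ih y hy
  | mul_inv_cancel x hx y hy ih =>
    have hyy : y⁻¹ = y := by
      rcases hy with rfl | hy
      · exact inv_of_sq ha
      · rw [Set.mem_singleton_iff] at hy
        subst hy
        exact inv_of_sq hb
    rw [hyy]
    exact key x ih y hy

theorem zpowers_subset_of_sq {c : B} (hc : c * c = 1) {g : B} (hg : g ∈ Subgroup.zpowers c) :
    g = 1 ∨ g = c := by
  obtain ⟨k, rfl⟩ := Subgroup.mem_zpowers_iff.mp hg
  have hc2 : c ^ (2 : ℤ) = 1 := by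
    rw [zpow_two, hc]
  rcases Int.even_or_odd' k with ⟨m, rfl | rfl⟩
  · left
    rw [zpow_mul, hc2, one_zpow]
  · right
    rw [zpow_add, zpow_mul, hc2, one_zpow, one_mul, zpow_one]

theorem not_mem_zpowers {a b : B} (ha : a * a = 1) (hb : b * b = 1) (ha1 : a ≠ 1) (hb1 : b ≠ 1) :
    a ∉ Subgroup.zpowers (a * b) := by
  intro h
  obtain ⟨k, hk⟩ := Subgroup.mem_zpowers_iff.mp h
  have hcomm : a * (a * b) = (a * b) * a := by
    have hc := (Commute.refl (a * b)).zpow_left k
    rw [hk] at hc
    exact hc.eq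
  have hab : b = a * b * a := by
    rw [← hcomm, ← mul_assoc, ha, one_mul]
  have hc2 : (a * b) * (a * b) = 1 := by
    calc a * b * (a * b) = a * (b * a) * b := by group
      _ = a * ((a * b * a) * a) * b := by rw [← hab]
      _ = (a * a) * b * (a * a) * b := by group
      _ = 1 := by rw [ha, one_mul, mul_one, hb]
  rcases zpowers_subset_of_sq hc2 h with h1 | h1
  · exact ha1 h1
  · apply hb1
    have : a * 1 = a * b := by rw [mul_one]; exact h1
    exact (mul_left_cancel this).symm

/-- the order of a finite group generated by two nontrivial involutions. -/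
theorem card_eq_two_mul_orderOf [Finite B] {a b : B} (ha : a * a = 1) (hb : b * b = 1)
    (ha1 : a ≠ 1) (hb1 : b ≠ 1) (hgen : Subgroup.closure ({a, b} : Set B) = ⊤) :
    Nat.card B = 2 * orderOf (a * b) := by
  have hidx : (Subgroup.zpowers (a * b)).index = 2 := by
    rw [Subgroup.index_eq_two_iff]
    refine ⟨a, fun g => ?_⟩
    rcases mem_zpowers_or ha hb hgen g with h | h
    · refine Or.inr ⟨h, fun h' => ?_⟩
      apply not_mem_zpowers ha hb ha1 hb1
      have := Subgroup.mul_mem _ (Subgroup.inv_mem _ h) h'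
      rwa [← mul_assoc, inv_mul_cancel, one_mul] at this
    · refine Or.inl ⟨h, fun h' => ?_⟩
      apply not_mem_zpowers ha hb ha1 hb1
      have := Subgroup.mul_mem _ (Subgroup.inv_mem _ h') h
      rwa [← mul_assoc, inv_mul_cancel, one_mul] at this
  have := Subgroup.card_mul_index (Subgroup.zpowers (a * b))
  rw [hidx, Nat.card_zpowers] at this
  omega

end Cfsg.Agent.Helper1.SimsEnd
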