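import Mathlib
import Cfsg.Prelude.Def_Solvable
import Cfsg.Prelude.Def_CaseTheorems
import Cfsg.Agent.Helper1.SimsEndA
import Cfsg.Agent.Helper1.Fitting
import Cfsg.Agent.Helper1.Coprime

set_option autoImplicit false

/-!
Piece 5 of the S4385 project, part B: common setup and the case `|Q| = 2`.
-/

namespace Cfsg.Agent.Helper1.SimsEnd

variable {A : Type*} [Group A] [Finite A]

/-- powers of `uv` lying in `Q`. -/
theorem pow_mem_iff (Q : Subgroup A) [Q.Normal] (n : ℕ)
    (hcard : Nat.card A = n * (2 * Nat.card Q)) (u v : A) (hu : u * u = 1) (hv : v * v = 1)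
    (huQ : u ∉ Q) (hvQ : v ∉ Q) (hgen : Q ⊔ Subgroup.closure {u, v} = ⊤) (k : ℕ) :
    (u * v) ^ k ∈ Q ↔ n ∣ k := by
  have hgen' : Subgroup.closure ({(QuotientGroup.mk' Q u), (QuotientGroup.mk' Q v)} : Set (A ⧸ Q))
      = ⊤ := by
    have h1 : Subgroup.map (QuotientGroup.mk' Q) (Q ⊔ Subgroup.closure {u, v}) = ⊤ := by
      rw [hgen]
      exact Subgroup.map_top_of_surjective _ (QuotientGroup.mk'_surjective Q)
    rw [Subgroup.map_sup, QuotientGroup.map_mk'_self, bot_sup_eq, MonoidHom.map_closure,
      Set.image_pair] at h1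
    exact h1
  have ha : QuotientGroup.mk' Q u * QuotientGroup.mk' Q u = 1 := by rw [← map_mul, hu, map_one]
  have hb : QuotientGroup.mk' Q v * QuotientGroup.mk' Q v = 1 := by rw [← map_mul, hv, map_one]
  have ha1 : QuotientGroup.mk' Q u ≠ 1 := by
    intro h
    exact huQ ((QuotientGroup.eq_one_iff u).mp h)
  have hb1 : QuotientGroup.mk' Q v ≠ 1 := by
    intro h
    exact hvQ ((QuotientGroup.eq_one_iff v).mp h)
  have h2 := card_eq_two_mul_orderOf ha hb ha1 hb1 hgen'
  have h3 := Subgroup.card_eq_card_quotient_mul_card_subgroup Q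
  have hQpos : 0 < Nat.card Q := Nat.card_pos
  have h4 : Nat.card (A ⧸ Q) = 2 * n := by
    rw [hcard] at h3
    have : Nat.card (A ⧸ Q) * Nat.card Q = (2 * n) * Nat.card Q := by rw [← h3]; ring
    exact Nat.eq_of_mul_eq_mul_right hQpos this
  have h5 : orderOf (QuotientGroup.mk' Q u * QuotientGroup.mk' Q v) = n := by
    rw [h4] at h2
    omega
  rw [← h5, orderOf_dvd_iff_pow_eq_one, ← map_mul, ← map_pow]
  exact (QuotientGroup.eq_one_iff _).symm

/-- a power of `uv` centralizing `Q` generates a normal subgroup. -/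
theorem zpowers_pow_normal (Q : Subgroup A) (u v : A) (hu : u * u = 1) (hv : v * v = 1)
    (hgen : Q ⊔ Subgroup.closure {u, v} = ⊤) (j : ℕ)
    (hc : ∀ q ∈ Q, q * (u * v) ^ j = (u * v) ^ j * q) :
    (Subgroup.zpowers ((u * v) ^ j)).Normal := by
  rw [← Subgroup.normalizer_eq_top_iff, eq_top_iff, ← hgen, sup_le_iff, Subgroup.closure_le]
  refine ⟨fun q hq => mem_normalizer_zpowers_of_commute (hc q hq), ?_⟩
  intro g hg
  apply mem_normalizer_zpowers_of_conj_eq_inv
  rcases hg with rfl | hg
  · rw [← conj_pow, conj_left_eq_inv hu hv, inv_pow]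
  · rw [Set.mem_singleton_iff] at hg
    subst hg
    rw [← conj_pow, conj_right_eq_inv hu hv, inv_pow]

theorem kleinFour_prod : IsKleinFour (Multiplicative (ZMod 2) × Multiplicative (ZMod 2)) where
  card_four := by
    rw [Nat.card_prod, Nat.card_eq_fintype_card]
    rfl
  exponent_two := by
    have h1 : Monoid.exponent (Multiplicative (ZMod 2) × Multiplicative (ZMod 2)) ∣ 2 := by
      apply Monoid.exponent_dvd_of_forall_pow_eq_one
      decide
    have h2 : Monoid.exponent (Multiplicative (ZMod 2) × Multiplicative (ZMod 2)) ≠ 1 := by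
      intro h
      rw [Monoid.exp_eq_one_iff] at h
      have := h.elim (Multiplicative.ofAdd (1 : ZMod 2), 1) 1
      revert this
      decide
    rcases (Nat.dvd_prime Nat.prime_two).mp h1 with h | h
    · exact absurd h h2
    · exact h

/-- a group of order `4` generated by elements of square one is a four-group. -/
theorem kleinFour_of_card_of_gen {X : Type*} [Group X] [Finite X] (hX : Nat.card X = 4)
    (S : Set X) (hS : Subgroup.closure S = ⊤) (hsq : ∀ s ∈ S, s * s = 1) :
    Nonempty (X ≃* Multiplicative (ZMod 2) × Multiplicative (ZMod 2)) := by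
  haveI : Fact (Nat.Prime 2) := ⟨Nat.prime_two⟩
  have hcomm : ∀ a b : X, a * b = b * a := by
    haveI : IsMulCommutative X :=
      IsPGroup.isMulCommutative_of_card_eq_prime_sq (p := 2) (by rw [hX]; norm_num)
    intro a b
    exact mul_comm' a b
  have hall : ∀ g : X, g * g = 1 := by
    intro g
    have hg : g ∈ Subgroup.closure S := by rw [hS]; trivial
    induction hg using Subgroup.closure_induction with
    | mem x hx => exact hsq x hx
    | one => rw [mul_one]
    | mul x y _ _ hx hy =>
      calc x * y * (x * y) = x * (y * x) * y := by group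
        _ = x * (x * y) * y := by rw [hcomm y x]
        _ = (x * x) * (y * y) := by group
        _ = 1 := by rw [hx, hy, mul_one]
    | inv x _ hx =>
      rw [← mul_inv_rev, hx, inv_one]
  haveI : IsKleinFour X :=
    { card_four := hX
      exponent_two := by
        have h1 : Monoid.exponent X ∣ 2 := by
          apply Monoid.exponent_dvd_of_forall_pow_eq_one
          intro g
          rw [pow_two]
          exact hall g
        have h2 : Monoid.exponent X ≠ 1 := by
          intro h
          rw [Monoid.exp_eq_one_iff] at h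
          have := Nat.card_eq_one_iff_unique.mpr ⟨h, ⟨1⟩⟩
          omega
        rcases (Nat.dvd_prime Nat.prime_two).mp h1 with h | h
        · exact absurd h h2
        · exact h }
  haveI := kleinFour_prod
  exact IsKleinFour.nonempty_mulEquiv

/-- the case `|Q| = 2` of the endgame. -/
theorem end_game_one (Q : Subgroup A) [Q.Normal] (n : ℕ) (hn : Odd n)
    (hcard : Nat.card A = n * (2 * Nat.card Q)) (u v : A) (hu : u * u = 1) (hv : v * v = 1)
    (huQ : u ∉ Q) (hvQ : v ∉ Q) (hgen : Q ⊔ Subgroup.closure {u, v} = ⊤)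
    (hQ2 : Nat.card Q = 2) (hcent : ∀ q ∈ Q, ∀ h : A, h * q = q * h) :
    Nonempty (A ⧸ Cfsg.oddCore A ≃* Multiplicative (ZMod 2) × Multiplicative (ZMod 2)) := by
  have hmem := pow_mem_iff Q n hcard u v hu hv huQ hvQ hgen
  have hnpos : 0 < n := hn.pos
  have hcop : Nat.Coprime n 2 := Nat.coprime_two_right.mpr hn
  have hqsq : ∀ q ∈ Q, q * q = 1 := by
    intro q hq
    have h := pow_card_eq_one' (G := Q) (x := ⟨q, hq⟩)
    rw [hQ2, pow_two] at h
    exact congrArg Subtype.val h
  -- the element `x = (uv)²` of order `n`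
  have hwn : (u * v) ^ n ∈ Q := (hmem n).mpr dvd_rfl
  have hx1 : ((u * v) ^ 2) ^ n = 1 := by
    rw [← pow_mul, mul_comm, pow_mul, pow_two]
    exact hqsq _ hwn
  have hxord : orderOf ((u * v) ^ 2) = n := by
    apply Nat.dvd_antisymm (orderOf_dvd_of_pow_eq_one hx1)
    have h1 : ((u * v) ^ 2) ^ orderOf ((u * v) ^ 2) = 1 := pow_orderOf_eq_one _
    rw [← pow_mul] at h1
    have h2 : n ∣ 2 * orderOf ((u * v) ^ 2) := by
      rw [← hmem, h1]
      exact Q.one_mem
    exact hcop.dvd_of_dvd_mul_left h2
  haveI hOn : (Subgroup.zpowers ((u * v) ^ 2)).Normal :=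
    zpowers_pow_normal Q u v hu hv hgen 2 (fun q hq => (hcent q hq _).symm)
  have hOcard : Nat.card (Subgroup.zpowers ((u * v) ^ 2)) = n := by
    rw [Nat.card_zpowers, hxord]
  -- it is the odd core
  have hO : Cfsg.oddCore A = Subgroup.zpowers ((u * v) ^ 2) := by
    symm
    apply Subgroup.eq_of_le_of_card_ge
    · exact le_pPrimeCore hOn (by rw [hOcard]; exact hcop)
    · rw [hOcard]
      have h1 : Nat.card (Cfsg.oddCore A) ∣ n * 4 := by
        have := Subgroup.card_subgroup_dvd_card (Cfsg.oddCore A)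
        rw [hcard, hQ2] at this
        exact this
      have h2 : (Nat.card (Cfsg.oddCore A)).Coprime 4 :=
        Nat.Coprime.pow_right 2 (card_pPrimeCore_coprime (G := A) 2)
      exact Nat.le_of_dvd hnpos (h2.dvd_of_dvd_mul_right h1)
  have e1 : A ⧸ Cfsg.oddCore A ≃* A ⧸ Subgroup.zpowers ((u * v) ^ 2) :=
    QuotientGroup.quotientMulEquivOfEq hO
  have hcard4 : Nat.card (A ⧸ Subgroup.zpowers ((u * v) ^ 2)) = 4 := by
    have h3 := Subgroup.card_eq_card_quotient_mul_card_subgroup (Subgroup.zpowers ((u * v) ^ 2))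
    rw [hcard, hQ2, hOcard] at h3
    have : Nat.card (A ⧸ Subgroup.zpowers ((u * v) ^ 2)) * n = 4 * n := by rw [← h3]; ring
    exact Nat.eq_of_mul_eq_mul_right hnpos this
  obtain ⟨e2⟩ := kleinFour_of_card_of_gen hcard4
    (QuotientGroup.mk' (Subgroup.zpowers ((u * v) ^ 2)) '' ((Q : Set A) ∪ {u, v}))
    (by
      rw [← MonoidHom.map_closure, Subgroup.closure_union, Subgroup.closure_eq, hgen]
      exact Subgroup.map_top_of_surjective _ (QuotientGroup.mk'_surjective _))
    (by
      rintro _ ⟨g, hg, rfl⟩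
      rw [← map_mul]
      have : g * g = 1 := by
        rcases hg with hg | hg | hg
        · exact hqsq g hg
        · rw [hg]; exact hu
        · rw [Set.mem_singleton_iff] at hg
          rw [hg]; exact hv
      rw [this, map_one])
  exact ⟨e1.trans e2⟩

end Cfsg.Agent.Helper1.SimsEnd
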