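import Mathlib
import Cfsg.Prelude.Def_Solvable
import Cfsg.Prelude.Def_CaseTheorems
import Cfsg.Agent.Helper1.SimsEndB
import Cfsg.Agent.Helper1.AbJe
import Cfsg.Agent.Helper9.GoldRec

set_option autoImplicit false

/-!
Piece 5 of the S4385 project, part C: the case `|Q| ∈ {4, 8}`.
-/

namespace Cfsg.Agent.Helper1.SimsEnd

variable {A : Type*} [Group A] [Finite A]

/-- the structure of the centralizer of `Q`: `C_A(Q) = Q × ⟨(uv)⁶⟩`, of index `6`. -/
theorem centralizer_structure (Q : Subgroup A) [Q.Normal] (n : ℕ) (hn : Odd n)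
    (hcard : Nat.card A = n * (2 * Nat.card Q)) (u v : A) (hu : u * u = 1) (hv : v * v = 1)
    (huQ : u ∉ Q) (hvQ : v ∉ Q) (hgen : Q ⊔ Subgroup.closure {u, v} = ⊤)
    (hexp : ∀ q ∈ Q, q * q = 1)
    (hab : ∀ q ∈ Q, ∀ q' ∈ Q, q * q' = q' * q) (huC : ∃ q ∈ Q, u * q ≠ q * u)
    (hw3 : ∀ q ∈ Q, (u * v) ^ 3 * q = q * (u * v) ^ 3) (hwC : ∃ q ∈ Q, (u * v) * q ≠ q * (u * v)) :
    ∃ m : ℕ, Odd m ∧ n = 3 * m ∧ orderOf ((u * v) ^ 6) = m ∧
      (Subgroup.zpowers ((u * v) ^ 6)).Normal ∧
      Subgroup.zpowers ((u * v) ^ 6) ⊓ Q = ⊥ ∧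
      Q ⊔ Subgroup.zpowers ((u * v) ^ 6) = Subgroup.centralizer (Q : Set A) := by
  have hmem := pow_mem_iff Q n hcard u v hu hv huQ hvQ hgen
  have hQC : Q ≤ Subgroup.centralizer (Q : Set A) := by
    intro q hq
    rw [Subgroup.mem_centralizer_iff]
    intro q' hq'
    exact hab q' hq' q hq
  have huC' : u ∉ Subgroup.centralizer (Q : Set A) := by
    intro h
    obtain ⟨q, hq, hne⟩ := huC
    exact hne ((Subgroup.mem_centralizer_iff.mp h q hq).symm)
  have hwC' : u * v ∉ Subgroup.centralizer (Q : Set A) := by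
    intro h
    obtain ⟨q, hq, hne⟩ := hwC
    exact hne ((Subgroup.mem_centralizer_iff.mp h q hq).symm)
  have hw3' : (u * v) ^ 3 ∈ Subgroup.centralizer (Q : Set A) := by
    rw [Subgroup.mem_centralizer_iff]
    intro q hq
    exact (hw3 q hq).symm
  -- the quotient by the centralizer has order 6
  have hmk1 : ∀ g : A, QuotientGroup.mk' (Subgroup.centralizer (Q : Set A)) g = 1 ↔
      g ∈ Subgroup.centralizer (Q : Set A) := fun g => QuotientGroup.eq_one_iff g
  have hgen' : Subgroup.closure ({(QuotientGroup.mk' (Subgroup.centralizer (Q : Set A)) u),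
      (QuotientGroup.mk' (Subgroup.centralizer (Q : Set A)) v)} :
        Set (A ⧸ Subgroup.centralizer (Q : Set A))) = ⊤ := by
    have h1 : Subgroup.map (QuotientGroup.mk' (Subgroup.centralizer (Q : Set A)))
        (Q ⊔ Subgroup.closure {u, v}) = ⊤ := by
      rw [hgen]
      exact Subgroup.map_top_of_surjective _ (QuotientGroup.mk'_surjective _)
    have h2 : Subgroup.map (QuotientGroup.mk' (Subgroup.centralizer (Q : Set A))) Q = ⊥ := by
      rw [Subgroup.map_eq_bot_iff, QuotientGroup.ker_mk']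
      exact hQC
    rw [Subgroup.map_sup, h2, bot_sup_eq, MonoidHom.map_closure, Set.image_pair] at h1
    exact h1
  have ha : QuotientGroup.mk' (Subgroup.centralizer (Q : Set A)) u *
      QuotientGroup.mk' (Subgroup.centralizer (Q : Set A)) u = 1 := by
    rw [← map_mul, hu, map_one]
  have hb : QuotientGroup.mk' (Subgroup.centralizer (Q : Set A)) v *
      QuotientGroup.mk' (Subgroup.centralizer (Q : Set A)) v = 1 := by
    rw [← map_mul, hv, map_one]
  have ha1 : QuotientGroup.mk' (Subgroup.centralizer (Q : Set A)) u ≠ 1 := by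
    intro h
    exact huC' ((hmk1 u).mp h)
  have hord3 : orderOf (QuotientGroup.mk' (Subgroup.centralizer (Q : Set A)) u *
      QuotientGroup.mk' (Subgroup.centralizer (Q : Set A)) v) = 3 := by
    haveI : Fact (Nat.Prime 3) := ⟨Nat.prime_three⟩
    apply orderOf_eq_prime
    · rw [← map_mul, ← map_pow]
      exact (hmk1 _).mpr hw3'
    · rw [← map_mul]
      intro h
      exact hwC' ((hmk1 _).mp h)
  have hb1 : QuotientGroup.mk' (Subgroup.centralizer (Q : Set A)) v ≠ 1 := by
    intro h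
    rw [h, mul_one] at hord3
    have h2 : orderOf (QuotientGroup.mk' (Subgroup.centralizer (Q : Set A)) u) ∣ 2 := by
      apply orderOf_dvd_of_pow_eq_one
      rw [pow_two]
      exact ha
    rw [hord3] at h2
    omega
  have h6 := card_eq_two_mul_orderOf ha hb ha1 hb1 hgen'
  rw [hord3] at h6
  -- the numbers
  have hQpos : 0 < Nat.card Q := Nat.card_pos
  obtain ⟨m, hm⟩ := Subgroup.card_dvd_of_le hQC
  have hn3 : n = 3 * m := by
    have h3 := Subgroup.card_eq_card_quotient_mul_card_subgroup (Subgroup.centralizer (Q : Set A))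
    rw [hcard, h6, hm] at h3
    have : (2 * n) * Nat.card Q = (2 * (3 * m)) * Nat.card Q := by
      calc (2 * n) * Nat.card Q = n * (2 * Nat.card Q) := by ring
        _ = 2 * 3 * (Nat.card Q * m) := h3
        _ = (2 * (3 * m)) * Nat.card Q := by ring
    have := Nat.eq_of_mul_eq_mul_right hQpos this
    omega
  have hmodd : Odd m := by
    rw [hn3] at hn
    exact (Nat.odd_mul.mp hn).2
  have hmpos : 0 < m := hmodd.pos
  have hcop : Nat.Coprime m 2 := Nat.coprime_two_right.mpr hmodd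
  -- the element `x = (uv)⁶`
  have hwn : (u * v) ^ n ∈ Q := (hmem n).mpr dvd_rfl
  have hx1 : ((u * v) ^ 6) ^ m = 1 := by
    have : 6 * m = n * 2 := by omega
    rw [← pow_mul, this, pow_mul, pow_two]
    exact hexp _ hwn
  have hdvd : ∀ k : ℕ, ((u * v) ^ 6) ^ k ∈ Q → m ∣ k := by
    intro k hk
    rw [← pow_mul, hmem, hn3] at hk
    have h2 : m ∣ 2 * k := by
      have : 3 * m ∣ 3 * (2 * k) := by
        have e : 3 * (2 * k) = 6 * k := by ring
        rw [e]; exact hk
      exact (Nat.mul_dvd_mul_iff_left (by norm_num)).mp this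
    exact hcop.dvd_of_dvd_mul_left h2
  have hxord : orderOf ((u * v) ^ 6) = m := by
    apply Nat.dvd_antisymm (orderOf_dvd_of_pow_eq_one hx1)
    apply hdvd
    rw [pow_orderOf_eq_one]
    exact Q.one_mem
  have hxC : (u * v) ^ 6 ∈ Subgroup.centralizer (Q : Set A) := by
    have : (u * v) ^ 6 = (u * v) ^ 3 * (u * v) ^ 3 := by rw [← pow_add]
    rw [this]
    exact Subgroup.mul_mem _ hw3' hw3'
  have hOn : (Subgroup.zpowers ((u * v) ^ 6)).Normal :=
    zpowers_pow_normal Q u v hu hv hgen 6 (fun q hq => Subgroup.mem_centralizer_iff.mp hxC q hq)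
  have hdisj : Subgroup.zpowers ((u * v) ^ 6) ⊓ Q = ⊥ := by
    rw [eq_bot_iff]
    intro g hg
    obtain ⟨hg1, hg2⟩ := Subgroup.mem_inf.mp hg
    rw [← mem_powers_iff_mem_zpowers] at hg1
    obtain ⟨k, rfl⟩ := Submonoid.mem_powers_iff _ _ |>.mp hg1
    rw [Subgroup.mem_bot, ← orderOf_dvd_iff_pow_eq_one, hxord]
    exact hdvd k hg2
  refine ⟨m, hmodd, hn3, hxord, hOn, hdisj, ?_⟩
  apply Subgroup.eq_of_le_of_card_ge
  · exact sup_le hQC ((Subgroup.zpowers_le).mpr hxC)
  · have hnorm : Subgroup.zpowers ((u * v) ^ 6) ≤ Subgroup.normalizer (Q : Set A) := by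
      rw [Subgroup.normalizer_eq_top]
      exact le_top
    rw [card_sup_of_le_normalizer hnorm hdisj, Nat.card_zpowers, hxord, hm, mul_comm]

end Cfsg.Agent.Helper1.SimsEnd
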