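import Mathlib
import Cfsg.Prelude.Def_Solvable
import Cfsg.Prelude.Def_CaseTheorems
import Cfsg.Agent.Helper1.SimsEndC

set_option autoImplicit false

/-!
Piece 5 of the S4385 project, part D: recognition of the quotient by the odd core.
-/

namespace Cfsg.Agent.Helper1.SimsEnd

variable {A : Type*} [Group A] [Finite A]

/-- the case `|Q| ∈ {4, 8}` of the endgame. -/
theorem end_game_two (Q : Subgroup A) [Q.Normal] (n : ℕ) (hn : Odd n)
    (hcard : Nat.card A = n * (2 * Nat.card Q)) (u v : A) (hu : u * u = 1) (hv : v * v = 1)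
    (huQ : u ∉ Q) (hvQ : v ∉ Q) (hgen : Q ⊔ Subgroup.closure {u, v} = ⊤)
    (hQ48 : Nat.card Q = 4 ∨ Nat.card Q = 8) (hexp : ∀ q ∈ Q, q * q = 1)
    (hab : ∀ q ∈ Q, ∀ q' ∈ Q, q * q' = q' * q) (huC : ∃ q ∈ Q, u * q ≠ q * u)
    (hw3 : ∀ q ∈ Q, (u * v) ^ 3 * q = q * (u * v) ^ 3) (hwC : ∃ q ∈ Q, (u * v) * q ≠ q * (u * v)) :
    (Nat.card Q = 4 ∧ Nonempty (A ⧸ Cfsg.oddCore A ≃* Equiv.Perm (Fin 4))) ∨
    (Nat.card Q = 8 ∧
      Nonempty (A ⧸ Cfsg.oddCore A ≃* Equiv.Perm (Fin 4) × Multiplicative (ZMod 2))) := by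
  obtain ⟨m, hmodd, hn3, hxord, hOn, hdisj, hC⟩ := centralizer_structure Q n hn hcard u v hu hv
    huQ hvQ hgen hexp hab huC hw3 hwC
  have hmpos : 0 < m := hmodd.pos
  have hcop : Nat.Coprime m 2 := Nat.coprime_two_right.mpr hmodd
  have hOcard : Nat.card (Subgroup.zpowers ((u * v) ^ 6)) = m := by
    rw [Nat.card_zpowers, hxord]
  have hQpos : 0 < Nat.card Q := Nat.card_pos
  have hCcard : Nat.card (Subgroup.centralizer (Q : Set A)) = Nat.card Q * m := by
    have hnorm : Subgroup.zpowers ((u * v) ^ 6) ≤ Subgroup.normalizer (Q : Set A) := by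
      rw [Subgroup.normalizer_eq_top]
      exact le_top
    rw [← hC, card_sup_of_le_normalizer hnorm hdisj, hOcard, mul_comm]
  have hQ2pow : ∃ k, Nat.card Q = 2 ^ k := by
    rcases hQ48 with h | h
    · exact ⟨2, by rw [h]; norm_num⟩
    · exact ⟨3, by rw [h]; norm_num⟩
  have huC' : u ∉ Subgroup.centralizer (Q : Set A) := by
    intro h
    obtain ⟨q, hq, hne⟩ := huC
    exact hne ((Subgroup.mem_centralizer_iff.mp h q hq).symm)
  have hwC' : u * v ∉ Subgroup.centralizer (Q : Set A) := by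
    intro h
    obtain ⟨q, hq, hne⟩ := hwC
    exact hne ((Subgroup.mem_centralizer_iff.mp h q hq).symm)
  have hw3' : (u * v) ^ 3 ∈ Subgroup.centralizer (Q : Set A) := by
    rw [Subgroup.mem_centralizer_iff]
    intro q hq
    exact (hw3 q hq).symm
  -- the odd core
  have hO : Cfsg.oddCore A = Subgroup.zpowers ((u * v) ^ 6) := by
    symm
    apply Subgroup.eq_of_le_of_card_ge
    · exact le_pPrimeCore hOn (by rw [hOcard]; exact hcop)
    · rw [hOcard]
      have hOQ : Cfsg.oddCore A ⊓ Q = ⊥ := by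
        apply inf_eq_bot_of_coprime_card
        obtain ⟨k, hk⟩ := hQ2pow
        rw [hk]
        exact Nat.Coprime.pow_right k (card_pPrimeCore_coprime (G := A) 2)
      have hOC : Cfsg.oddCore A ≤ Subgroup.centralizer (Q : Set A) := by
        intro g hg
        rw [Subgroup.mem_centralizer_iff]
        intro q hq
        have h1 : g * q⁻¹ * g⁻¹ * q ∈ Cfsg.oddCore A ⊓ Q := by
          refine Subgroup.mem_inf.mpr ⟨?_, ?_⟩
          · have : g * q⁻¹ * g⁻¹ * q = g * (q⁻¹ * g⁻¹ * q⁻¹⁻¹) := by group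
            rw [this]
            exact Subgroup.mul_mem _ hg
              ((inferInstance : (Cfsg.oddCore A).Normal).conj_mem _ (Subgroup.inv_mem _ hg) _)
          · exact Subgroup.mul_mem _
              ((inferInstance : Q.Normal).conj_mem _ (Subgroup.inv_mem _ hq) _) hq
        rw [hOQ, Subgroup.mem_bot] at h1
        have h2 : g * q⁻¹ = q⁻¹ * g := by
          calc g * q⁻¹ = (g * q⁻¹ * g⁻¹ * q) * (q⁻¹ * g) := by group
            _ = q⁻¹ * g := by rw [h1, one_mul]
        calc q * g = q * (g * q⁻¹) * q := by group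
          _ = q * (q⁻¹ * g) * q := by rw [h2]
          _ = g * q := by group
      have h2 : Nat.card (Cfsg.oddCore A) ∣ Nat.card Q * m := by
        rw [← hCcard]
        exact Subgroup.card_dvd_of_le hOC
      have h3 : (Nat.card (Cfsg.oddCore A)).Coprime (Nat.card Q) := by
        obtain ⟨k, hk⟩ := hQ2pow
        rw [hk]
        exact Nat.Coprime.pow_right k (card_pPrimeCore_coprime (G := A) 2)
      exact Nat.le_of_dvd hmpos (h3.dvd_of_dvd_mul_left h2)
  have e1 : A ⧸ Cfsg.oddCore A ≃* A ⧸ Subgroup.zpowers ((u * v) ^ 6) :=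
    QuotientGroup.quotientMulEquivOfEq hO
  -- the quotient
  obtain ⟨π, hπ⟩ : ∃ π : A →* A ⧸ Subgroup.zpowers ((u * v) ^ 6),
      π = QuotientGroup.mk' (Subgroup.zpowers ((u * v) ^ 6)) := ⟨_, rfl⟩
  have hπs : Function.Surjective π := by rw [hπ]; exact QuotientGroup.mk'_surjective _
  have hπker : π.ker = Subgroup.zpowers ((u * v) ^ 6) := by rw [hπ]; exact QuotientGroup.ker_mk' _
  haveI hQbar : (Q.map π).Normal := Subgroup.Normal.map inferInstance π hπs
  have hmemQ : ∀ g : A, π g ∈ Q.map π ↔ g ∈ Subgroup.centralizer (Q : Set A) := by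
    intro g
    rw [← Subgroup.mem_comap, Subgroup.comap_map_eq, hπker, hC]
  have hQbarcard : Nat.card (Q.map π) = Nat.card Q := by
    apply card_map_of_disjoint_ker
    rw [hπker, inf_comm]
    exact hdisj
  have hAbar : Nat.card (A ⧸ Subgroup.zpowers ((u * v) ^ 6)) = 6 * Nat.card Q := by
    have h3 := Subgroup.card_eq_card_quotient_mul_card_subgroup (Subgroup.zpowers ((u * v) ^ 6))
    rw [hcard, hOcard, hn3] at h3
    have : Nat.card (A ⧸ Subgroup.zpowers ((u * v) ^ 6)) * m = (6 * Nat.card Q) * m := by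
      rw [← h3]; ring
    exact Nat.eq_of_mul_eq_mul_right hmpos this
  have h6 : Nat.card ((A ⧸ Subgroup.zpowers ((u * v) ^ 6)) ⧸ Q.map π) = 6 := by
    have h3 := Subgroup.card_eq_card_quotient_mul_card_subgroup (Q.map π)
    rw [hAbar, hQbarcard] at h3
    exact (Nat.eq_of_mul_eq_mul_right hQpos h3).symm
  have hS3 : Nonempty ((A ⧸ Subgroup.zpowers ((u * v) ^ 6)) ⧸ Q.map π ≃* Equiv.Perm (Fin 3)) := by
    refine Cfsg.Agent.Helper1.AbJ.s3_of_card_six_of_not_commute h6
      (QuotientGroup.mk' (Q.map π) (π u)) (QuotientGroup.mk' (Q.map π) (π (u * v))) ?_ ?_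
    · haveI : Fact (Nat.Prime 2) := ⟨Nat.prime_two⟩
      apply orderOf_eq_prime
      · rw [pow_two, ← map_mul, ← map_mul, hu, map_one, map_one]
      · intro h
        rw [QuotientGroup.mk'_apply, QuotientGroup.eq_one_iff, hmemQ] at h
        exact huC' h
    · intro h
      have h' : QuotientGroup.mk' (Q.map π) (π (u * (u * v))) =
          QuotientGroup.mk' (Q.map π) (π ((u * v) * u)) := by
        simp only [← map_mul] at h
        exact h
      have h2 := QuotientGroup.eq.mp h'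
      rw [← map_inv, ← map_mul, hmemQ] at h2
      have e : (u * (u * v))⁻¹ * ((u * v) * u) = ((u * v) ^ 2)⁻¹ := by
        have e0 : u * (u * v) = v := by rw [← mul_assoc, hu, one_mul]
        rw [e0, pow_two, mul_inv_rev, mul_inv_rev, inv_of_sq hu, inv_of_sq hv]
        simp only [mul_assoc]
      rw [e] at h2
      apply hwC'
      have e2 : u * v = (u * v) ^ 3 * ((u * v) ^ 2)⁻¹ := by group
      rw [e2]
      exact Subgroup.mul_mem _ hw3' h2
  -- recognition
  have hrec := Cfsg.Agent.Helper9.Gold.rec_S4 (Q.map π) hS3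
    (by
      rintro _ ⟨q, hq, rfl⟩
      rw [← map_mul, hexp q hq, map_one])
    (by
      intro g hg
      obtain ⟨g, rfl⟩ := hπs g
      rw [hmemQ, Subgroup.mem_centralizer_iff]
      intro q hq
      have h1 : (g * q)⁻¹ * (q * g) ∈ Subgroup.zpowers ((u * v) ^ 6) ⊓ Q := by
        refine Subgroup.mem_inf.mpr ⟨?_, ?_⟩
        · have h2 := hg (π q) (Subgroup.mem_map_of_mem π hq)
          rw [← map_mul, ← map_mul, hπ, QuotientGroup.mk'_apply, QuotientGroup.mk'_apply,
            QuotientGroup.eq] at h2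
          exact h2
        · have : (g * q)⁻¹ * (q * g) = q⁻¹ * (g⁻¹ * q * g⁻¹⁻¹) := by group
          rw [this]
          exact Subgroup.mul_mem _ (Subgroup.inv_mem _ hq)
            ((inferInstance : Q.Normal).conj_mem _ hq _)
      rw [hdisj, Subgroup.mem_bot] at h1
      calc q * g = (g * q) * ((g * q)⁻¹ * (q * g)) := by group
        _ = g * q := by rw [h1, mul_one])
    (π u) (by rw [← map_mul, hu, map_one])
    (by
      intro h
      exact huC' ((hmemQ u).mp h))
    (by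
      rw [hQbarcard]
      rcases hQ48 with h | h <;> omega)
  rw [hQbarcard] at hrec
  rcases hrec with ⟨h4, ⟨e2⟩⟩ | ⟨h8, ⟨e2⟩⟩
  · exact Or.inl ⟨h4, ⟨e1.trans e2⟩⟩
  · exact Or.inr ⟨h8, ⟨(e1.trans e2).trans MulEquiv.prodComm⟩⟩

/-- PIECE 5 (endgame, in an abstract finite group `A` (= `↥H`)). -/
theorem end_game {A : Type*} [Group A] [Finite A] (Q : Subgroup A) [Q.Normal] (n : ℕ) (hn : Odd n)
    (hcard : Nat.card A = n * (2 * Nat.card Q)) (u v : A) (hu : u * u = 1) (hv : v * v = 1)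
    (huQ : u ∉ Q) (hvQ : v ∉ Q) (hgen : Q ⊔ Subgroup.closure {u, v} = ⊤) :
    (Nat.card Q = 2 → (∀ q ∈ Q, ∀ h : A, h * q = q * h) →
      Nonempty (A ⧸ Cfsg.oddCore A ≃* Multiplicative (ZMod 2) × Multiplicative (ZMod 2))) ∧
    ((Nat.card Q = 4 ∨ Nat.card Q = 8) → (∀ q ∈ Q, q * q = 1) →
      (∀ q ∈ Q, ∀ q' ∈ Q, q * q' = q' * q) → (∃ q ∈ Q, u * q ≠ q * u) →
      (∀ q ∈ Q, (u * v) ^ 3 * q = q * (u * v) ^ 3) → (∃ q ∈ Q, (u * v) * q ≠ q * (u * v)) →
      (Nat.card Q = 4 ∧ Nonempty (A ⧸ Cfsg.oddCore A ≃* Equiv.Perm (Fin 4))) ∨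
      (Nat.card Q = 8 ∧ Nonempty (A ⧸ Cfsg.oddCore A ≃* Equiv.Perm (Fin 4) × Multiplicative (ZMod 2)))) :=
  ⟨fun hQ2 hcent => end_game_one Q n hn hcard u v hu hv huQ hvQ hgen hQ2 hcent,
   fun hQ48 hexp hab huC hw3 hwC =>
    end_game_two Q n hn hcard u v hu hv huQ hvQ hgen hQ48 hexp hab huC hw3 hwC⟩

end Cfsg.Agent.Helper1.SimsEnd
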