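import Cfsg.Agent.Helper3.Sims.Calc0

/-!
# Sims' theorem (dihedral form), piece T6: `t = 6`, `λ = 4` is impossible
-/

set_option autoImplicit false
set_option linter.unusedSectionVars false
open Pointwise

namespace Cfsg.Agent.Helper1.SimsSix

open Cfsg.Agent.Helper3.SimsW

variable {G : Type*} [Group G] [Finite G] {P : Subgroup G} {γ : G} {t : ℕ} {z : G}

/-- a window is normalized by `g` as soon as `g` conjugates its generators into it -/
theorem smul_eq_of_gens (L : Line P γ t z) {a b : ℤ} (hlen : b + 1 - a ≤ t) (g : G)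
    (h : ∀ k, a ≤ k → k ≤ b → g * X γ t z k * g⁻¹ ∈ Y P γ t a b) :
    MulAut.conj g • Y P γ t a b = Y P γ t a b := by
  have key : ∀ w ∈ Y P γ t a b, g * w * g⁻¹ ∈ Y P γ t a b := by
    refine L.Y_induction hlen (fun w => g * w * g⁻¹ ∈ Y P γ t a b) ?_ ?_ h
    · simp
    · intro u v hu hv
      have e : g * (u * v) * g⁻¹ = (g * u * g⁻¹) * (g * v * g⁻¹) := by group
      rw [e]; exact Subgroup.mul_mem _ hu hv
  have hle : MulAut.conj g • Y P γ t a b ≤ Y P γ t a b := by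
    intro x hx
    rw [mem_conj_smul] at hx
    have := key _ hx
    have e : g * (g⁻¹ * x * g) * g⁻¹ = x := by group
    rwa [e] at this
  exact Subgroup.eq_of_le_of_card_ge hle (by rw [card_conj_smul])

/-- shifting membership in a window along the line -/
theorem shift_mem (P : Subgroup G) (γ : G) (t : ℕ) {a b : ℤ} {w : G} (hw : w ∈ Y P γ t a b) (m : ℤ) :
    γ ^ m * w * (γ ^ m)⁻¹ ∈ Y P γ t (a + m) (b + m) := by
  rw [← smul_Y, mem_conj_smul]
  have e : (γ ^ m)⁻¹ * (γ ^ m * w * (γ ^ m)⁻¹) * γ ^ m = w := by group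
  rw [e]; exact hw

/-- shifting a commutator of two involutions of the line -/
theorem shift_comm (P : Subgroup G) (γ : G) (t : ℕ) (z : G) {a b : ℤ} {j : ℤ}
    (hw : X γ t z 0 * X γ t z j * X γ t z 0 * X γ t z j ∈ Y P γ t a b) (m : ℤ) :
    X γ t z m * X γ t z (m + j) * X γ t z m * X γ t z (m + j) ∈ Y P γ t (a + m) (b + m) := by
  have h := shift_mem P γ t hw m
  have e : γ ^ m * (X γ t z 0 * X γ t z j * X γ t z 0 * X γ t z j) * (γ ^ m)⁻¹ =
      (γ ^ m * X γ t z 0 * (γ ^ m)⁻¹) * (γ ^ m * X γ t z j * (γ ^ m)⁻¹) *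
      (γ ^ m * X γ t z 0 * (γ ^ m)⁻¹) * (γ ^ m * X γ t z j * (γ ^ m)⁻¹) := by group
  rw [e, X_shift, X_shift] at h
  have e1 : (0 : ℤ) + m = m := by ring
  have e2 : j + m = m + j := by ring
  rwa [e1, e2] at h


/-- the conjugate `g x g⁻¹` lies in `N` when the commutator `g x g x` does, `x ∈ N`, `g`, `x` involutions -/
theorem conj_mem_of_comm_mem {N : Subgroup G} {g x : G} (hg : g * g = 1) (hx : x * x = 1)
    (hc : g * x * g * x ∈ N) (hxN : x ∈ N) : g * x * g⁻¹ ∈ N := by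
  have hg' : g⁻¹ = g := inv_eq_of_mul_eq_one_left hg
  have e : g * x * g⁻¹ = (g * x * g * x) * x := by
    rw [hg', mul_assoc (g * x * g), hx, mul_one]
  rw [e]; exact N.mul_mem hc hxN

/-- the reversed commutator -/
theorem comm_rev_mem {N : Subgroup G} {g x : G} (hg : g * g = 1) (hx : x * x = 1)
    (hc : g * x * g * x ∈ N) : x * g * x * g ∈ N := by
  have e : x * g * x * g = (g * x * g * x)⁻¹ := by
    have hg' : g⁻¹ = g := inv_eq_of_mul_eq_one_left hg
    have hx' : x⁻¹ = x := inv_eq_of_mul_eq_one_left hx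
    rw [mul_inv_rev, mul_inv_rev, mul_inv_rev, hg', hx']
    group
  rw [e]; exact N.inv_mem hc

/-- if the commutator of two involutions is an involution, both commute with it -/
theorem commute_comm_of_sq {g x : G} (hg : g * g = 1) (hx : x * x = 1)
    (h : (g * x * g * x) * (g * x * g * x) = 1) :
    Commute g (g * x * g * x) ∧ Commute x (g * x * g * x) := by
  have hg' : g⁻¹ = g := inv_eq_of_mul_eq_one_left hg
  have hx' : x⁻¹ = x := inv_eq_of_mul_eq_one_left hx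
  have e : g * x * g * x = x * g * x * g := by
    have h1 : (g * x * g * x)⁻¹ = g * x * g * x := inv_eq_of_mul_eq_one_left h
    rw [← h1, mul_inv_rev, mul_inv_rev, mul_inv_rev, hg', hx']; group
  constructor
  · show g * (g * x * g * x) = (g * x * g * x) * g
    conv_lhs => rw [e]
    group
  · show x * (g * x * g * x) = (g * x * g * x) * x
    conv_rhs => rw [e]
    group

/-- PIECE T6 (`t = 6`, `λ = 4` is impossible). -/
theorem not_six {z : G} (L : Line P γ 6 z) (hC : Comm γ 6 z 4)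
    (hN : ¬ Commute (X γ 6 z 0) (X γ 6 z 4))
    (hc : X γ 6 z 0 * X γ 6 z 4 * X γ 6 z 0 * X γ 6 z 4 ∈ Y P γ 6 2 2)
    (hCF : ∀ N : Subgroup G, N ≤ Y P γ 6 1 6 →
      (∀ k : ℤ, 0 ≤ k → k ≤ 7 → MulAut.conj (X γ 6 z k) • N = N) → N = ⊥) : False := by
  have sq : ∀ k, X γ 6 z k * X γ 6 z k = 1 := L.X_sq
  have inv : ∀ k, (X γ 6 z k)⁻¹ = X γ 6 z k := fun k => inv_eq_of_mul_eq_one_left (L.X_sq k)
  have cm : ∀ i j : ℤ, i - j < 4 → j - i < 4 → Commute (X γ 6 z i) (X γ 6 z j) :=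
    fun i j h1 h2 => hC.comm (by exact_mod_cast h1) (by exact_mod_cast h2)
  -- the element `d`
  have hd14 : X γ 6 z 0 * X γ 6 z 5 * X γ 6 z 0 * X γ 6 z 5 ∈ Y P γ 6 1 4 := by
    have := L.comm_loc (i := 0) (j := 5) (by norm_num) (by norm_num)
    norm_num at this
    exact this
  have hdd : (X γ 6 z 0 * X γ 6 z 5 * X γ 6 z 0 * X γ 6 z 5) *
      (X γ 6 z 0 * X γ 6 z 5 * X γ 6 z 0 * X γ 6 z 5) = 1 :=
    L.Y_sq hC (a := 1) (b := 4) (by norm_num) (by norm_num) _ hd14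
  obtain ⟨hc0d, hc5d⟩ := commute_comm_of_sq (sq 0) (sq 5) hdd
  -- `d ∈ Y 1 3`
  have hd13 : X γ 6 z 0 * X γ 6 z 5 * X γ 6 z 0 * X γ 6 z 5 ∈ Y P γ 6 1 3 := by
    have h := L.decomp_right (a := 1) (b := 4) (by norm_num) (by norm_num) hd14
    have e : (4 : ℤ) - 1 = 3 := by norm_num
    rw [e] at h
    rcases h with h | h
    · exact h
    · exfalso
      have h1 : Commute (X γ 6 z 0)
          (X γ 6 z 0 * X γ 6 z 5 * X γ 6 z 0 * X γ 6 z 5 * X γ 6 z 4) :=
        L.commute_window (a := 1) (b := 3) (by norm_num)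
          (fun k hk1 hk2 => cm 0 k (by omega) (by omega)) _ h
      apply hN
      have h2 := (hc0d.inv_right).mul_right h1
      rwa [inv_mul_cancel_left] at h2
  -- `d ∈ Y 2 4`
  have hd24 : X γ 6 z 0 * X γ 6 z 5 * X γ 6 z 0 * X γ 6 z 5 ∈ Y P γ 6 2 4 := by
    have h := L.decomp_left (a := 1) (b := 4) (by norm_num) (by norm_num) hd14
    have e : (1 : ℤ) + 1 = 2 := by norm_num
    rw [e] at h
    rcases h with h | h
    · exact h
    · exfalso
      have h1 : Commute (X γ 6 z 5)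
          (X γ 6 z 1 * (X γ 6 z 0 * X γ 6 z 5 * X γ 6 z 0 * X γ 6 z 5)) :=
        L.commute_window (a := 2) (b := 4) (by norm_num)
          (fun k hk1 hk2 => cm 5 k (by omega) (by omega)) _ h
      apply hN
      have h2 := h1.mul_right (hc5d.inv_right)
      rw [mul_inv_cancel_right] at h2
      have h3 := (comm_shift γ 6 z 0 4 1).1
      norm_num at h3
      exact h3 h2.symm
  have hd23 : X γ 6 z 0 * X γ 6 z 5 * X γ 6 z 0 * X γ 6 z 5 ∈ Y P γ 6 2 3 := by
    have h : X γ 6 z 0 * X γ 6 z 5 * X γ 6 z 0 * X γ 6 z 5 ∈ Y P γ 6 1 3 ⊓ Y P γ 6 2 4 :=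
      ⟨hd13, hd24⟩
    rwa [Y_inf P γ 6 (by norm_num) (by norm_num) (by norm_num)] at h
  -- shifted commutators
  have hc3 : X γ 6 z 3 * X γ 6 z 7 * X γ 6 z 3 * X γ 6 z 7 ∈ Y P γ 6 5 5 := by
    have h := shift_comm P γ 6 z hc 3
    norm_num at h
    exact h
  have hd2 : X γ 6 z 2 * X γ 6 z 7 * X γ 6 z 2 * X γ 6 z 7 ∈ Y P γ 6 4 5 := by
    have h := shift_comm P γ 6 z hd23 2
    norm_num at h
    exact h
  -- `Y 2 5` is normalized by `X 0, …, X 7`
  have hcomm_conj : ∀ i j : ℤ, i - j < 4 → j - i < 4 → 2 ≤ j → j ≤ 5 →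
      X γ 6 z i * X γ 6 z j * (X γ 6 z i)⁻¹ ∈ Y P γ 6 2 5 := by
    intro i j h1 h2 h3 h4
    rw [(cm i j h1 h2).eq, mul_inv_cancel_right]
    exact L.X_mem' h3 h4
  have hnorm : ∀ k : ℤ, 0 ≤ k → k ≤ 7 → MulAut.conj (X γ 6 z k) • Y P γ 6 2 5 = Y P γ 6 2 5 := by
    intro k hk0 hk7
    have hk : k = 0 ∨ k = 1 ∨ k = 6 ∨ k = 7 ∨ (2 ≤ k ∧ k ≤ 5) := by omega
    rcases hk with rfl | rfl | rfl | rfl | ⟨hk2, hk5⟩
    · refine smul_eq_of_gens L (by norm_num) _ ?_
      intro j hj1 hj2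
      have hj : j = 4 ∨ j = 5 ∨ (2 ≤ j ∧ j ≤ 3) := by omega
      rcases hj with rfl | rfl | ⟨hj3, hj4⟩
      · exact conj_mem_of_comm_mem (sq 0) (sq 4)
          (Y_mono P γ 6 (by norm_num) (by norm_num) hc) (L.X_mem' (by norm_num) (by norm_num))
      · exact conj_mem_of_comm_mem (sq 0) (sq 5)
          (Y_mono P γ 6 (by norm_num) (by norm_num) hd23) (L.X_mem' (by norm_num) (by norm_num))
      · exact hcomm_conj 0 j (by omega) (by omega) hj1 hj2
    · have h := L.relIndex_left (a := 1) (b := 5) (by norm_num) (by norm_num)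
      have e : (1 : ℤ) + 1 = 2 := by norm_num
      rw [e] at h
      exact conj_smul_eq_of_relIndex_two (Y_mono P γ 6 (by norm_num) le_rfl) h
        (L.X_mem' le_rfl (by norm_num))
    · have h := L.relIndex_right (a := 2) (b := 6) (by norm_num) (by norm_num)
      have e : (6 : ℤ) - 1 = 5 := by norm_num
      rw [e] at h
      exact conj_smul_eq_of_relIndex_two (Y_mono P γ 6 le_rfl (by norm_num)) h
        (L.X_mem' (by norm_num) le_rfl)
    · refine smul_eq_of_gens L (by norm_num) _ ?_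
      intro j hj1 hj2
      have hj : j = 3 ∨ j = 2 ∨ (4 ≤ j ∧ j ≤ 5) := by omega
      rcases hj with rfl | rfl | ⟨hj3, hj4⟩
      · exact conj_mem_of_comm_mem (sq 7) (sq 3)
          (Y_mono P γ 6 (by norm_num) (by norm_num) (comm_rev_mem (sq 3) (sq 7) hc3))
          (L.X_mem' (by norm_num) (by norm_num))
      · exact conj_mem_of_comm_mem (sq 7) (sq 2)
          (Y_mono P γ 6 (by norm_num) (by norm_num) (comm_rev_mem (sq 2) (sq 7) hd2))
          (L.X_mem' (by norm_num) (by norm_num))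
      · exact hcomm_conj 7 j (by omega) (by omega) hj1 hj2
    · exact Subgroup.conj_smul_eq_self_of_mem (L.X_mem' hk2 hk5)
  have hbot := hCF (Y P γ 6 2 5) (Y_mono P γ 6 (by norm_num) (by norm_num)) hnorm
  have h2 : X γ 6 z 2 ∈ Y P γ 6 2 5 := L.X_mem' le_rfl (by norm_num)
  rw [hbot] at h2
  exact L.X_ne_one 2 (Subgroup.mem_bot.1 h2)

end Cfsg.Agent.Helper1.SimsSix
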