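import Mathlib
import Cfsg.Agent.Helper1.ExtPrimC
import Cfsg.Agent.Helper1.FPFSub
import Cfsg.Agent.Helper1.Fitting2

/-!
# Soluble extremely primitive groups: the group-theoretic part
-/

set_option autoImplicit false

namespace Cfsg.Agent.Helper1.SolExt

open MulAction

theorem fitting_ne_bot (G : Type*) [Group G] [Finite G] [Group.IsSolvable G] [Nontrivial G] :
    Cfsg.fittingSubgroup G ≠ ⊥ := by
  have hcent := centralizer_fittingSubgroup_le (G := G)
  intro h
  rw [h] at hcent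
  obtain ⟨x, hx1⟩ := exists_ne (1 : G)
  apply hx1
  have hx : x ∈ Subgroup.centralizer (((⊥ : Subgroup G) : Subgroup G) : Set G) := by
    rw [Subgroup.mem_centralizer_iff]
    intro y hy
    rw [SetLike.mem_coe, Subgroup.mem_bot] at hy
    rw [hy, one_mul, mul_one]
  exact Subgroup.mem_bot.1 (hcent hx)

variable {G : Type*} [Group G] [Finite G] {Ω : Type*} [Fintype Ω] [MulAction G Ω]
  [FaithfulSMul G Ω]

/-- Structure of the Fitting subgroup of a point stabilizer, via one suborbit. -/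
theorem fit_facts (hprim : IsPreprimitive G Ω) (hH : ∀ α : Ω, stabilizer G α ≠ ⊥)
    (hep : ∀ (α : Ω) (ω : Ω), IsPreprimitive (stabilizer G α) (orbit (stabilizer G α) ω))
    (α ω : Ω) (hω : ω ≠ α) (hF : Cfsg.fittingSubgroup (stabilizer G α) ≠ ⊥) :
    (∀ a ∈ Cfsg.fittingSubgroup (stabilizer G α),
      ∀ b ∈ Cfsg.fittingSubgroup (stabilizer G α), a * b = b * a) ∧
    Nat.card (Cfsg.fittingSubgroup (stabilizer G α)) = Nat.card (orbit (stabilizer G α) ω) ∧
    Subgroup.centralizer (Cfsg.fittingSubgroup (stabilizer G α) : Set (stabilizer G α)) =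
      Cfsg.fittingSubgroup (stabilizer G α) ∧
    ∃ r e : ℕ, r.Prime ∧ Nat.card (Cfsg.fittingSubgroup (stabilizer G α)) = r ^ e ∧
      ∀ x ∈ Cfsg.fittingSubgroup (stabilizer G α), x ^ r = 1 := by
  haveI := ExtPrim.faithful_orbit hprim hH hep α ω hω
  haveI := hep α ω
  haveI := ExtPrim.nontrivial_orbit hprim hH α ω hω
  exact ExtPrim.fitting_struct (X := orbit (stabilizer G α) ω) hF

/-- The Fitting subgroup of a point stabilizer acts freely off the fixed point. -/
theorem fit_free (hprim : IsPreprimitive G Ω) (hH : ∀ α : Ω, stabilizer G α ≠ ⊥)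
    (hep : ∀ (α : Ω) (ω : Ω), IsPreprimitive (stabilizer G α) (orbit (stabilizer G α) ω))
    (α : Ω) (hF : Cfsg.fittingSubgroup (stabilizer G α) ≠ ⊥)
    (f : stabilizer G α) (hf : f ∈ Cfsg.fittingSubgroup (stabilizer G α)) (x : Ω) (hx : x ≠ α)
    (hfx : f • x = x) : f = 1 := by
  haveI := ExtPrim.faithful_orbit hprim hH hep α x hx
  haveI := hep α x
  haveI : (Cfsg.fittingSubgroup (stabilizer G α)).Normal :=
    Cfsg.Agent.Helper1.fittingSubgroup_normal
  obtain ⟨hab, -⟩ := fit_facts hprim hH hep α x hx hF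
  exact ExtPrim.abelian_normal_free (X := orbit (stabilizer G α) x)
    (Cfsg.fittingSubgroup (stabilizer G α)) hF hab f hf ⟨x, mem_orbit_self _⟩ (Subtype.ext hfx)

/-- The Fitting subgroup of a point stabilizer is transitive on every suborbit. -/
theorem fit_trans (hprim : IsPreprimitive G Ω) (hH : ∀ α : Ω, stabilizer G α ≠ ⊥)
    (hep : ∀ (α : Ω) (ω : Ω), IsPreprimitive (stabilizer G α) (orbit (stabilizer G α) ω))
    (α : Ω) (hF : Cfsg.fittingSubgroup (stabilizer G α) ≠ ⊥) (x : Ω) (hx : x ≠ α)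
    (h : stabilizer G α) :
    ∃ f ∈ Cfsg.fittingSubgroup (stabilizer G α), f • x = h • x := by
  obtain ⟨-, hcard, -⟩ := fit_facts hprim hH hep α x hx hF
  let φ : Cfsg.fittingSubgroup (stabilizer G α) → orbit (stabilizer G α) x :=
    fun f => ⟨(f : stabilizer G α) • x, ⟨(f : stabilizer G α), rfl⟩⟩
  have hinj : Function.Injective φ := by
    intro f₁ f₂ h12
    have h1 : (f₁ : stabilizer G α) • x = (f₂ : stabilizer G α) • x := congrArg Subtype.val h12
    have h2 : ((f₂ : stabilizer G α)⁻¹ * (f₁ : stabilizer G α)) • x = x := by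
      rw [mul_smul, h1, inv_smul_smul]
    have h3 := fit_free hprim hH hep α hF _
      (Subgroup.mul_mem _ (Subgroup.inv_mem _ f₂.2) f₁.2) x hx h2
    rw [inv_mul_eq_one] at h3
    exact Subtype.ext h3.symm
  have hbij := hinj.bijective_of_nat_card_le hcard.ge
  obtain ⟨f, hf⟩ := hbij.2 ⟨h • x, ⟨h, rfl⟩⟩
  exact ⟨f, f.2, congrArg Subtype.val hf⟩

/-- Elements of the stabilizer act on a regular normal abelian subgroup like elements of the Fitting
subgroup. -/
theorem conj_eq_fit (hprim : IsPreprimitive G Ω) (hH : ∀ α : Ω, stabilizer G α ≠ ⊥)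
    (hep : ∀ (α : Ω) (ω : Ω), IsPreprimitive (stabilizer G α) (orbit (stabilizer G α) ω))
    (α : Ω) (hF : Cfsg.fittingSubgroup (stabilizer G α) ≠ ⊥)
    (V : Subgroup G) [V.Normal] (hVfree : ∀ n ∈ V, ∀ x : Ω, n • x = x → n = 1)
    (h : stabilizer G α) (w : G) (hw : w ∈ V) :
    ∃ f ∈ Cfsg.fittingSubgroup (stabilizer G α),
      (h : G) * w * (h : G)⁻¹ = (f : G) * w * (f : G)⁻¹ := by
  by_cases hw1 : w = 1
  · refine ⟨1, Subgroup.one_mem _, ?_⟩
    rw [hw1]
    simp
  have hx : w • α ≠ α := fun h0 => hw1 (hVfree w hw α h0)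
  obtain ⟨f, hfF, hf⟩ := fit_trans hprim hH hep α hF (w • α) hx h
  refine ⟨f, hfF, ?_⟩
  have hfα : (f : G)⁻¹ • α = α := by
    rw [inv_smul_eq_iff]
    exact f.2.symm
  have hhα : (h : G)⁻¹ • α = α := by
    rw [inv_smul_eq_iff]
    exact h.2.symm
  have h1 : ((f : G) * w * (f : G)⁻¹) • α = ((h : G) * w * (h : G)⁻¹) • α := by
    rw [mul_smul, mul_smul, hfα, mul_smul, mul_smul, hhα]
    exact hf
  have h2 : (((h : G) * w * (h : G)⁻¹)⁻¹ * ((f : G) * w * (f : G)⁻¹)) • α = α := by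
    rw [mul_smul, h1, inv_smul_smul]
  have h3 := hVfree _ (Subgroup.mul_mem _ (Subgroup.inv_mem _ (‹V.Normal›.conj_mem w hw _))
    (‹V.Normal›.conj_mem w hw _)) α h2
  rw [inv_mul_eq_one] at h3
  exact h3

/-- The Fitting subgroup of the stabilizer acts fixed-point-freely on a regular normal subgroup. -/
theorem fpf_on_V (hprim : IsPreprimitive G Ω) (hH : ∀ α : Ω, stabilizer G α ≠ ⊥)
    (hep : ∀ (α : Ω) (ω : Ω), IsPreprimitive (stabilizer G α) (orbit (stabilizer G α) ω))
    (α : Ω) (hF : Cfsg.fittingSubgroup (stabilizer G α) ≠ ⊥)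
    (V : Subgroup G) (hVfree : ∀ n ∈ V, ∀ x : Ω, n • x = x → n = 1)
    (a : G) (ha : a ∈ (Cfsg.fittingSubgroup (stabilizer G α)).map (stabilizer G α).subtype)
    (ha1 : a ≠ 1) : V ⊓ Subgroup.centralizer {a} = ⊥ := by
  rw [Subgroup.eq_bot_iff_forall]
  rintro v ⟨hvV, hvc⟩
  by_contra hv1
  obtain ⟨f, hfF, rfl⟩ := ha
  have hva : v • α ≠ α := fun h => hv1 (hVfree v hvV α h)
  have hcomm : (f : G) * v = v * (f : G) := Subgroup.mem_centralizer_iff.mp hvc _ rfl
  have hfix : f • (v • α) = v • α := by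
    change (f : G) • (v • α) = v • α
    rw [← mul_smul, hcomm, mul_smul]
    congr 1
    exact f.2
  apply ha1
  rw [fit_free hprim hH hep α hF f hfF _ hva hfix]
  rfl

end Cfsg.Agent.Helper1.SolExt
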