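import Mathlib
import Cfsg.Agent.Helper1.SolExtA
import Cfsg.Agent.Helper1.SemiLinB

/-!
# Soluble extremely primitive groups: assembling
-/

set_option autoImplicit false

namespace Cfsg.Agent.Helper1.SolExt

open MulAction

open scoped IsMulCommutative

/-- Conjugation action on a normal subgroup, written additively. -/
noncomputable def conjAdd {G : Type*} [Group G] (V : Subgroup G) [V.Normal] :
    G →* AddMonoid.End (Additive V) where
  toFun g := MonoidHom.toAdditive (MulAut.conjNormal g : MulAut V).toMonoidHom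
  map_one' := by
    rw [map_one]
    rfl
  map_mul' a b := by
    rw [map_mul]
    rfl

theorem conjAdd_apply {G : Type*} [Group G] (V : Subgroup G) [V.Normal] (g : G)
    (x : Additive V) : (((conjAdd V g x).toMul : V) : G) = g * ((x.toMul : V) : G) * g⁻¹ := rfl

variable {G : Type*} [Group G] [Finite G] {Ω : Type*} [Fintype Ω] [MulAction G Ω]
  [FaithfulSMul G Ω]

omit [Finite G] [FaithfulSMul G Ω] in
/-- A regular normal subgroup together with a point stabilizer gives the whole group. -/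
theorem exists_mul_of_regular (V : Subgroup G) (hVfree : ∀ n ∈ V, ∀ x : Ω, n • x = x → n = 1)
    (hVcard : Nat.card V = Nat.card Ω) (α : Ω) (g : G) :
    ∃ v ∈ V, ∃ h ∈ stabilizer G α, g = v * h := by
  let φ : V → Ω := fun v => (v : G) • α
  have hinj : Function.Injective φ := by
    intro v₁ v₂ h12
    have h1 : (v₁ : G) • α = (v₂ : G) • α := h12
    have h2 : ((v₂ : G)⁻¹ * (v₁ : G)) • α = α := by rw [mul_smul, h1, inv_smul_smul]
    have h3 := hVfree _ (Subgroup.mul_mem _ (Subgroup.inv_mem _ v₂.2) v₁.2) α h2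
    rw [inv_mul_eq_one] at h3
    exact Subtype.ext h3.symm
  have hbij := hinj.bijective_of_nat_card_le hVcard.ge
  obtain ⟨v, hv⟩ := hbij.2 (g • α)
  refine ⟨v, v.2, (v : G)⁻¹ * g, ?_, by group⟩
  rw [mem_stabilizer_iff, mul_smul, ← hv]
  exact inv_smul_smul _ _

omit [Finite G] [Fintype Ω] in
theorem exists_ne_of_stab_ne_bot (α : Ω) (h : stabilizer G α ≠ ⊥) : ∃ ω : Ω, ω ≠ α := by
  by_contra hcon
  push Not at hcon
  apply h
  rw [Subgroup.eq_bot_iff_forall]
  intro g _
  apply FaithfulSMul.eq_of_smul_eq_smul (α := Ω)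
  intro x
  rw [hcon x, one_smul, hcon (g • α)]

/-- The generator of the Fitting subgroup of the stabilizer acts irreducibly on a regular normal
abelian subgroup. -/
theorem irr_conj (hprim : IsPreprimitive G Ω) (hH : ∀ α : Ω, stabilizer G α ≠ ⊥)
    (hep : ∀ (α : Ω) (ω : Ω), IsPreprimitive (stabilizer G α) (orbit (stabilizer G α) ω))
    (α : Ω) (hF : Cfsg.fittingSubgroup (stabilizer G α) ≠ ⊥)
    (V : Subgroup G) [V.Normal] [IsMulCommutative V] (hVne : V ≠ ⊥) (t : stabilizer G α)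
    (htF : Subgroup.zpowers t = Cfsg.fittingSubgroup (stabilizer G α)) :
    SemiLin.Irr (conjAdd V (t : G)) := by
  haveI := hprim
  haveI : Nonempty Ω := ⟨α⟩
  have hVab : ∀ a ∈ V, ∀ b ∈ V, a * b = b * a := fun a ha b hb =>
    congrArg Subtype.val (mul_comm' (⟨a, ha⟩ : V) ⟨b, hb⟩)
  have hVfree := ExtPrim.abelian_normal_free (X := Ω) V hVne hVab
  have hVcard := ExtPrim.card_abelian_normal (X := Ω) V hVne hVab
  intro A hA
  let W : Subgroup G :=
    { carrier := {g | ∃ hg : g ∈ V, Additive.ofMul (⟨g, hg⟩ : V) ∈ A}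
      one_mem' := ⟨V.one_mem, A.zero_mem⟩
      mul_mem' := by
        rintro a b ⟨ha, ha'⟩ ⟨hb, hb'⟩
        exact ⟨V.mul_mem ha hb, A.add_mem ha' hb'⟩
      inv_mem' := by
        rintro a ⟨ha, ha'⟩
        exact ⟨V.inv_mem ha, A.neg_mem ha'⟩ }
  have hWV : W ≤ V := fun g hg => hg.1
  have ht1 : ∀ w ∈ W, (t : G) * w * (t : G)⁻¹ ∈ W := by
    rintro w ⟨hw, hw'⟩
    exact ⟨‹V.Normal›.conj_mem w hw _, hA _ hw'⟩
  have htk : ∀ (k : ℕ), ∀ w ∈ W, (t : G) ^ k * w * ((t : G) ^ k)⁻¹ ∈ W := by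
    intro k
    induction k with
    | zero =>
      intro w hw
      simpa using hw
    | succ k ih =>
      intro w hw
      have := ht1 _ (ih w hw)
      have e : (t : G) ^ (k + 1) * w * ((t : G) ^ (k + 1))⁻¹ =
          (t : G) * ((t : G) ^ k * w * ((t : G) ^ k)⁻¹) * (t : G)⁻¹ := by
        rw [pow_succ']
        group
      rw [e]
      exact this
  have hWn : W.Normal := by
    constructor
    intro n hn g
    obtain ⟨v, hv, h, hh, rfl⟩ := exists_mul_of_regular V hVfree hVcard α g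
    obtain ⟨f, hfF, hf⟩ := conj_eq_fit hprim hH hep α hF V hVfree ⟨h, hh⟩ n (hWV hn)
    rw [← htF] at hfF
    rw [← mem_powers_iff_mem_zpowers, Submonoid.mem_powers_iff] at hfF
    obtain ⟨k, hk⟩ := hfF
    have h1 : h * n * h⁻¹ ∈ W := by
      have e : h * n * h⁻¹ = (t : G) ^ k * n * ((t : G) ^ k)⁻¹ := by
        have hf' : h * n * h⁻¹ = (f : G) * n * (f : G)⁻¹ := hf
        rw [hf', ← hk]
        rfl
      rw [e]
      exact htk k n hn
    have h2 : v * h * n * (v * h)⁻¹ = v * (h * n * h⁻¹) * v⁻¹ := by group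
    rw [h2, hVab v hv _ (hWV h1), mul_inv_cancel_right]
    exact h1
  by_cases hW : W = ⊥
  · left
    rw [AddSubgroup.eq_bot_iff_forall]
    intro m hm
    have hmW : ((m.toMul : V) : G) ∈ W := ⟨(m.toMul : V).2, hm⟩
    rw [hW, Subgroup.mem_bot] at hmW
    have h2 : (m.toMul : V) = 1 := Subtype.ext hmW
    exact h2
  · right
    have hWab : ∀ a ∈ W, ∀ b ∈ W, a * b = b * a :=
      fun a ha b hb => hVab a (hWV ha) b (hWV hb)
    have hc := ExtPrim.card_abelian_normal (X := Ω) W hW hWab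
    have hWeq : W = V := Subgroup.eq_of_le_of_card_ge hWV (by rw [hc, hVcard])
    rw [eq_top_iff]
    intro m _
    have hmW : ((m.toMul : V) : G) ∈ W := by
      rw [hWeq]
      exact (m.toMul : V).2
    obtain ⟨_, h'⟩ := hmW
    exact h'

end Cfsg.Agent.Helper1.SolExt
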