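import Mathlib
import Cfsg.Agent.Helper1.SolExtB

/-!
# Soluble extremely primitive groups: main theorem
-/

set_option autoImplicit false

namespace Cfsg.Agent.Helper1.SolExt

open MulAction

open scoped IsMulCommutative

variable {G : Type*} [Group G] [Finite G] {Ω : Type*} [Fintype Ω] [MulAction G Ω]
  [FaithfulSMul G Ω]

/-- The Fitting subgroup of the stabilizer has order dividing `|Ω| - 1`. -/
theorem fit_card_dvd (hprim : IsPreprimitive G Ω) (hH : ∀ α : Ω, stabilizer G α ≠ ⊥)
    (hep : ∀ (α : Ω) (ω : Ω), IsPreprimitive (stabilizer G α) (orbit (stabilizer G α) ω))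
    (α : Ω) (hF : Cfsg.fittingSubgroup (stabilizer G α) ≠ ⊥) :
    Nat.card (Cfsg.fittingSubgroup (stabilizer G α)) ∣ Fintype.card Ω - 1 := by
  classical
  set F := Cfsg.fittingSubgroup (stabilizer G α) with hFdef
  let S : SubMulAction F Ω :=
    { carrier := {x | x ≠ α}
      smul_mem' := by
        intro f x hx hfx
        apply hx
        have hfα : f • α = α := (f : stabilizer G α).2
        have h2 : f • x = f • α := hfx.trans hfα.symm
        exact smul_left_cancel f h2 }
  have hfree : ∀ x : S, stabilizer F x = ⊥ := by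
    intro x
    rw [Subgroup.eq_bot_iff_forall]
    intro f hf
    have hx : (x : Ω) ≠ α := x.2
    have hfx : (f : stabilizer G α) • (x : Ω) = (x : Ω) := by
      have := congrArg Subtype.val (mem_stabilizer_iff.mp hf)
      exact this
    exact Subtype.ext (fit_free hprim hH hep α hF (f : stabilizer G α) f.2 (x : Ω) hx hfx)
  have hdvd := Cfsg.Agent.Helper1.card_dvd_of_free F S hfree
  have hS : Nat.card S = Fintype.card Ω - 1 := by
    rw [← Set.card_ne_eq α, ← Nat.card_eq_fintype_card]
    rfl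
  rw [hS] at hdvd
  exact hdvd

theorem main_aux [Group.IsSolvable G] (p d : ℕ) (hp : p.Prime) (hcard : Fintype.card Ω = p ^ d)
    (hprim : IsPreprimitive G Ω) (hH : ∀ α : Ω, stabilizer G α ≠ ⊥)
    (hep : ∀ (α : Ω) (ω : Ω), IsPreprimitive (stabilizer G α) (orbit (stabilizer G α) ω))
    (α : Ω) :
    ∃ q : ℕ, q.Prime ∧ (∀ ω : Ω, ω ≠ α → Nat.card (orbit (stabilizer G α) ω) = q) ∧
      q ∣ p ^ d - 1 ∧ (∀ i : ℕ, 0 < i → i < d → ¬ q ∣ p ^ i - 1) ∧
      ∃ t : stabilizer G α, orderOf t = q ∧
        Subgroup.zpowers t = Cfsg.fittingSubgroup (stabilizer G α) ∧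
        Nat.card (stabilizer G α) ∣ q * d ∧
        ∃ h : stabilizer G α,
          (⊤ : Subgroup (stabilizer G α)) = Subgroup.zpowers t ⊔ Subgroup.zpowers h := by
  classical
  haveI : Nontrivial (stabilizer G α) := (Subgroup.nontrivial_iff_ne_bot _).mpr (hH α)
  haveI : Nontrivial G := by
    obtain ⟨a, ha⟩ := exists_ne (1 : stabilizer G α)
    exact ⟨⟨(a : G), 1, fun h => ha (Subtype.ext h)⟩⟩
  -- the regular normal subgroup
  have hV : Cfsg.fittingSubgroup G ≠ ⊥ := fitting_ne_bot G
  haveI hVn : (Cfsg.fittingSubgroup G).Normal := Cfsg.Agent.Helper1.fittingSubgroup_normal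
  haveI := hprim
  haveI : Nonempty Ω := ⟨α⟩
  obtain ⟨hVab, hVcard, hVcent, p', e, hp', hVcard', hVexp⟩ :=
    ExtPrim.fitting_struct (H := G) (X := Ω) hV
  have hVfree := ExtPrim.abelian_normal_free (X := Ω) (Cfsg.fittingSubgroup G) hV hVab
  have hcardV : Nat.card (Cfsg.fittingSubgroup G) = p ^ d := by
    rw [hVcard, Nat.card_eq_fintype_card, hcard]
  have hpp : p' = p := by
    have h1 : p' ∣ p ^ d := by
      rw [← hcardV, hVcard']
      have he : e ≠ 0 := by
        rintro rfl
        rw [pow_zero] at hVcard'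
        exact hV (Subgroup.card_eq_one.mp hVcard')
      exact dvd_pow_self p' he
    exact (Nat.prime_dvd_prime_iff_eq hp' hp).mp (hp'.dvd_of_dvd_pow h1)
  rw [hpp] at hVexp
  haveI hVc : IsMulCommutative (Cfsg.fittingSubgroup G) :=
    ⟨⟨fun a b => Subtype.ext (hVab a a.2 b b.2)⟩⟩
  -- the Fitting subgroup of the stabilizer
  have hF : Cfsg.fittingSubgroup (stabilizer G α) ≠ ⊥ := fitting_ne_bot (stabilizer G α)
  haveI hFn : (Cfsg.fittingSubgroup (stabilizer G α)).Normal :=
    Cfsg.Agent.Helper1.fittingSubgroup_normal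
  obtain ⟨ω₀, hω₀⟩ := exists_ne_of_stab_ne_bot α (hH α)
  obtain ⟨hFab, -, hFcent, r, e', hr, -, hFexp⟩ := fit_facts hprim hH hep α ω₀ hω₀ hF
  have hTcomm : IsMulCommutative
      ((Cfsg.fittingSubgroup (stabilizer G α)).map (stabilizer G α).subtype) := by
    refine ⟨⟨?_⟩⟩
    rintro ⟨a, f, hf, rfl⟩ ⟨b, g, hg, rfl⟩
    apply Subtype.ext
    change (f : G) * (g : G) = (g : G) * (f : G)
    exact congrArg Subtype.val (hFab f hf g hg)
  have hTV : (Cfsg.fittingSubgroup (stabilizer G α)).map (stabilizer G α).subtype ≤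
      Subgroup.normalizer ((Cfsg.fittingSubgroup G : Subgroup G) : Set G) := by
    rw [Subgroup.normalizer_eq_top]
    exact le_top
  have hTcyc : IsCyclic
      ((Cfsg.fittingSubgroup (stabilizer G α)).map (stabilizer G α).subtype) :=
    isCyclic_of_fpf_of_comm _ (Cfsg.fittingSubgroup G) hV hTV
      (fun a ha ha1 => fpf_on_V hprim hH hep α hF _ hVfree a ha ha1) hTcomm
  have hFcyc : IsCyclic (Cfsg.fittingSubgroup (stabilizer G α)) := by
    let e := Subgroup.equivMapOfInjective (Cfsg.fittingSubgroup (stabilizer G α))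
      (stabilizer G α).subtype (Subgroup.subtype_injective _)
    exact isCyclic_of_surjective e.symm e.symm.surjective
  obtain ⟨g, hg⟩ := IsCyclic.exists_generator (α := Cfsg.fittingSubgroup (stabilizer G α))
  have htF : Subgroup.zpowers (g : stabilizer G α) = Cfsg.fittingSubgroup (stabilizer G α) := by
    apply le_antisymm
    · rw [Subgroup.zpowers_le]
      exact g.2
    · intro x hx
      obtain ⟨k, hk⟩ := Subgroup.mem_zpowers_iff.mp (hg ⟨x, hx⟩)
      refine Subgroup.mem_zpowers_iff.mpr ⟨k, ?_⟩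
      have := congrArg Subtype.val hk
      rw [Subgroup.coe_zpow] at this
      exact this
  have ht_ord : orderOf (g : stabilizer G α) = r := by
    have h1 : orderOf (g : stabilizer G α) ∣ r := orderOf_dvd_of_pow_eq_one (hFexp _ g.2)
    have h2 : orderOf (g : stabilizer G α) ≠ 1 := by
      intro h
      rw [orderOf_eq_one_iff] at h
      apply hF
      rw [← htF, h, Subgroup.zpowers_one_eq_bot]
    exact ((Nat.dvd_prime hr).mp h1).resolve_left h2
  have hFcard : Nat.card (Cfsg.fittingSubgroup (stabilizer G α)) = r := by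
    rw [← htF, Nat.card_zpowers, ht_ord]
  refine ⟨r, hr, ?_, ?_, ?_⟩
  · intro ω hω
    obtain ⟨-, hc, -⟩ := fit_facts hprim hH hep α ω hω hF
    rw [← hc, hFcard]
  · have := fit_card_dvd hprim hH hep α hF
    rwa [hFcard, hcard] at this
  · -- the semilinear part
    obtain ⟨v₀, hv₀⟩ := (Subgroup.ne_bot_iff_exists_ne_one).mp hV
    have hpM : ∀ m : Additive (Cfsg.fittingSubgroup G), p • m = 0 := by
      intro m
      change Additive.ofMul (m.toMul ^ p) = 0
      have : m.toMul ^ p = 1 := Subtype.ext (by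
        rw [Subgroup.coe_pow]
        exact hVexp _ (m.toMul).2)
      rw [this]
      rfl
    have hcardM : Nat.card (Additive (Cfsg.fittingSubgroup G)) = p ^ d := by
      rw [← hcardV]
      exact Nat.card_congr Additive.toMul
    have hm₀ : Additive.ofMul v₀ ≠ 0 := fun h => hv₀ h
    have hσ : Function.Injective
        ((conjAdd (Cfsg.fittingSubgroup G)).comp (stabilizer G α).subtype) := by
      intro h₁ h₂ h12
      have hc : (h₂ : G)⁻¹ * (h₁ : G) ∈
          Subgroup.centralizer ((Cfsg.fittingSubgroup G : Subgroup G) : Set G) := by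
        rw [Subgroup.mem_centralizer_iff]
        intro v hv
        have h3 := DFunLike.congr_fun h12 (Additive.ofMul (⟨v, hv⟩ : Cfsg.fittingSubgroup G))
        have h4 : (h₁ : G) * v * (h₁ : G)⁻¹ = (h₂ : G) * v * (h₂ : G)⁻¹ :=
          congrArg (fun m : Additive (Cfsg.fittingSubgroup G) =>
            ((m.toMul : Cfsg.fittingSubgroup G) : G)) h3
        calc v * ((h₂ : G)⁻¹ * (h₁ : G))
            = (h₂ : G)⁻¹ * ((h₂ : G) * v * (h₂ : G)⁻¹) * (h₁ : G) := by group
          _ = (h₂ : G)⁻¹ * ((h₁ : G) * v * (h₁ : G)⁻¹) * (h₁ : G) := by rw [h4]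
          _ = (h₂ : G)⁻¹ * (h₁ : G) * v := by group
      rw [hVcent] at hc
      have hα : ((h₂ : G)⁻¹ * (h₁ : G)) • α = α := by
        rw [mul_smul]
        have h1 : (h₁ : G) • α = α := h₁.2
        have h2 : (h₂ : G) • α = α := h₂.2
        rw [h1, inv_smul_eq_iff, h2]
      have := hVfree _ hc α hα
      rw [inv_mul_eq_one] at this
      exact Subtype.ext this.symm
    have hnorm : ∀ h : stabilizer G α,
        h * (g : stabilizer G α) * h⁻¹ ∈ Subgroup.zpowers (g : stabilizer G α) := by
      intro h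
      rw [htF]
      exact hFn.conj_mem _ g.2 h
    have hcent : ∀ h : stabilizer G α, h * (g : stabilizer G α) = (g : stabilizer G α) * h →
        h ∈ Subgroup.zpowers (g : stabilizer G α) := by
      intro h hh
      rw [htF, ← hFcent, Subgroup.mem_centralizer_iff]
      intro y hy
      rw [SetLike.mem_coe, ← htF] at hy
      obtain ⟨k, rfl⟩ := Subgroup.mem_zpowers_iff.mp hy
      have hc : Commute h (g : stabilizer G α) := hh
      exact (hc.zpow_right k).eq.symm
    have hirr := irr_conj hprim hH hep α hF (Cfsg.fittingSubgroup G) hV (g : stabilizer G α) htF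
    obtain ⟨h1, h2, h3⟩ := SemiLin.main p d hp hpM hcardM _ hm₀
      ((conjAdd (Cfsg.fittingSubgroup G)).comp (stabilizer G α).subtype) hσ
      (g : stabilizer G α) hnorm hcent hirr
    rw [ht_ord] at h1 h2
    exact ⟨h1, (g : stabilizer G α), ht_ord, htF, h2, h3⟩

/-- Soluble extremely primitive groups. -/
theorem main [Group.IsSolvable G] (p d : ℕ) (hp : p.Prime) (hcard : Fintype.card Ω = p ^ d)
    (hprim : IsPreprimitive G Ω) (hH : ∀ α : Ω, stabilizer G α ≠ ⊥)
    (hep : ∀ (α : Ω) (ω : Ω), IsPreprimitive (stabilizer G α) (orbit (stabilizer G α) ω))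
    (α : Ω) :
    ∃ q : ℕ, q.Prime ∧ (∀ ω : Ω, ω ≠ α → Nat.card (orbit (stabilizer G α) ω) = q) ∧
      q ∣ p ^ d - 1 ∧ (∀ i : ℕ, 0 < i → i < d → ¬ q ∣ p ^ i - 1) ∧
      ∃ T : Subgroup G, T ≤ stabilizer G α ∧
        stabilizer G α ≤ Subgroup.normalizer (T : Set G) ∧ Nat.card T = q ∧
        (∃ h : G, stabilizer G α = T ⊔ Subgroup.zpowers h) ∧
        Nat.card (stabilizer G α) ∣ q * d := by
  obtain ⟨q, hq, h1, h2, h3, t, ht, htF, h4, h, hh⟩ := main_aux p d hp hcard hprim hH hep α
  haveI hFn : (Cfsg.fittingSubgroup (stabilizer G α)).Normal :=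
    Cfsg.Agent.Helper1.fittingSubgroup_normal
  refine ⟨q, hq, h1, h2, h3, (Subgroup.zpowers t).map (stabilizer G α).subtype, ?_, ?_, ?_,
    ⟨(h : G), ?_⟩, h4⟩
  · exact Subgroup.map_subtype_le _
  · have := Subgroup.le_normalizer_map (H := Subgroup.zpowers t) (stabilizer G α).subtype
    rw [htF, Subgroup.normalizer_eq_top, ← MonoidHom.range_eq_map, Subgroup.range_subtype] at this
    rw [htF]
    exact this
  · rw [Subgroup.card_map_of_injective (Subgroup.subtype_injective _), Nat.card_zpowers, ht]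
  · have := congrArg (Subgroup.map (stabilizer G α).subtype) hh
    rw [Subgroup.map_sup, ← MonoidHom.range_eq_map, Subgroup.range_subtype,
      MonoidHom.map_zpowers _ h] at this
    exact this

end Cfsg.Agent.Helper1.SolExt
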