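import Mathlib
import Cfsg.Prelude.Def_CaseTheorems
import Cfsg.Prelude.Def_Local
import Cfsg.Agent.Helper2.Quasisimple
import Cfsg.Agent.Helper2.Component

/-!
General lemmas for S3153 (standard subgroup whose centralizer has 2-rank one).
All names carry the prefix `sr1_`.
-/

set_option autoImplicit false

namespace Cfsg.Agent.Helper1

open scoped commutatorElement

/-- a nontrivial normal subgroup of a finite `q`-group contains a nontrivial central element -/
theorem sr1_n_center {Q : Type*} [Group Q] [Finite Q] {q : ℕ} [hq : Fact q.Prime]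
    (hQ : IsPGroup q Q) (M : Subgroup Q) [hM : M.Normal] (hMne : M ≠ ⊥) :
    ∃ b ∈ M, b ≠ 1 ∧ ∀ g : Q, g * b = b * g := by
  have hQ' : IsPGroup q (ConjAct Q) := hQ
  have hcard : q ∣ Nat.card M := by
    obtain ⟨k, hk⟩ := (hQ.to_subgroup M).exists_card_eq
    have hk0 : k ≠ 0 := by
      rintro rfl
      rw [pow_zero] at hk
      exact hMne (Subgroup.card_eq_one.1 hk)
    rw [hk]
    exact dvd_pow_self q hk0
  have h1 : (1 : M) ∈ MulAction.fixedPoints (ConjAct Q) M := by
    intro g
    exact smul_one g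
  obtain ⟨b, hb, hne⟩ := hQ'.exists_fixed_point_of_prime_dvd_card_of_fixed_point M hcard h1
  refine ⟨(b : Q), b.2, ?_, ?_⟩
  · intro h
    apply hne
    exact (Subtype.ext h).symm
  · intro g
    have h2 := hb (ConjAct.toConjAct g)
    have h3 := congrArg Subtype.val h2
    rw [ConjAct.Subgroup.val_conj_smul, ConjAct.smul_def, ConjAct.ofConjAct_toConjAct] at h3
    calc g * b = g * b * g⁻¹ * g := by group
      _ = b * g := by rw [h3]

theorem sr1_card_gt_two {α : Type*} [Finite α] (a b c : α) (hab : a ≠ b) (hac : a ≠ c)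
    (hbc : b ≠ c) : 2 < Nat.card α := by
  haveI := Fintype.ofFinite α
  rw [Nat.card_eq_fintype_card]
  exact Fintype.two_lt_card_iff.mpr ⟨a, b, c, hab, hac, hbc⟩

theorem sr1_pow_odd {G : Type*} [Group G] {x : G} (hx : x ^ 2 = 1) {n : ℕ} (hn : Odd n) :
    x ^ n = x := by
  obtain ⟨m, rfl⟩ := hn
  rw [pow_succ, pow_mul, hx, one_pow, one_mul]

section
variable {X : Type*} [Group X]

/-- elements of the group generated by two commuting involutions -/
theorem sr1_four {x y : X} (hx : x ^ 2 = 1) (hy : y ^ 2 = 1) (hxy : x * y = y * x) :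
    ∀ a ∈ Subgroup.closure ({x, y} : Set X), a = 1 ∨ a = x ∨ a = y ∨ a = x * y := by
  have hxx : x * x = 1 := by rw [← pow_two]; exact hx
  have hyy : y * y = 1 := by rw [← pow_two]; exact hy
  have hxi : x⁻¹ = x := inv_eq_of_mul_eq_one_left hxx
  have hyi : y⁻¹ = y := inv_eq_of_mul_eq_one_left hyy
  have e1 : ∀ z, x * (x * z) = z := fun z => by rw [← mul_assoc, hxx, one_mul]
  have e3 : ∀ z, y * (x * z) = x * (y * z) := fun z => by
    rw [← mul_assoc, ← hxy, mul_assoc]
  have e4 : y * x = x * y := hxy.symm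
  intro a ha
  induction ha using Subgroup.closure_induction with
  | mem a ha =>
    rcases ha with h | h
    · right; left; exact h
    · right; right; left; exact h
  | one => left; rfl
  | mul a b _ _ iha ihb =>
    rcases iha with h | h | h | h <;> rcases ihb with h' | h' | h' | h' <;>
      simp [h, h', mul_assoc, hxx, hyy, e1, e3, e4]
  | inv a _ iha =>
    rcases iha with h | h | h | h <;> simp [h, hxi, hyi, mul_inv_rev, e4]

theorem sr1_four_sq {x y : X} (hx : x ^ 2 = 1) (hy : y ^ 2 = 1) (hxy : x * y = y * x) :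
    ∀ a ∈ Subgroup.closure ({x, y} : Set X), a ^ 2 = 1 := by
  intro a ha
  rcases sr1_four hx hy hxy a ha with h | h | h | h
  · rw [h, one_pow]
  · rw [h, hx]
  · rw [h, hy]
  · have hc : Commute x y := hxy
    rw [h, hc.mul_pow, hx, hy, one_mul]

theorem sr1_four_comm {x y : X} (hxy : x * y = y * x) :
    IsMulCommutative ↥(Subgroup.closure ({x, y} : Set X)) := by
  apply Subgroup.isMulCommutative_closure
  intro a ha b hb
  rcases ha with h | h <;> rcases hb with h' | h'
  · rw [h, h']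
  · rw [h, h']; exact hxy
  · rw [h, h']; exact hxy.symm
  · rw [h, h']

/-- (a') in a group of 2-rank one, an involution commuting with the involution `t` is `t` -/
theorem sr1_two_invol {G : Type*} [Group G] [Finite G] (hr : Cfsg.PRankLE 2 1 G) {t k : G}
    (ht2 : t ^ 2 = 1) (hk2 : k ^ 2 = 1) (htk : t * k = k * t) (ht1 : t ≠ 1) :
    k = 1 ∨ k = t := by
  by_contra hne
  push Not at hne
  have hcard := hr _ (sr1_four_comm htk) (sr1_four_sq ht2 hk2 htk)
  have h3 := sr1_card_gt_two (α := ↥(Subgroup.closure ({t, k} : Set G))) 1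
    ⟨t, Subgroup.subset_closure (by simp)⟩ ⟨k, Subgroup.subset_closure (by simp)⟩
    (fun h => ht1 (congrArg Subtype.val h).symm)
    (fun h => hne.1 (congrArg Subtype.val h).symm)
    (fun h => hne.2 (congrArg Subtype.val h).symm)
  norm_num at hcard
  omega

theorem sr1_four_not_cyclic [Finite X] {x y : X} (hx : x ^ 2 = 1) (hy : y ^ 2 = 1)
    (hxy : x * y = y * x) (hx1 : x ≠ 1) (hy1 : y ≠ 1) (hne : x ≠ y) :
    ¬ IsCyclic ↥(Subgroup.closure ({x, y} : Set X)) := by
  intro hc
  obtain ⟨e, he⟩ := hc.exists_generator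
  have he2 : e ^ 2 = 1 := by
    apply Subtype.ext
    have := sr1_four_sq hx hy hxy e e.2
    simpa using this
  have hcard : Nat.card ↥(Subgroup.closure ({x, y} : Set X)) ≤ 2 := by
    rw [← orderOf_eq_card_of_forall_mem_zpowers he]
    exact orderOf_le_of_pow_eq_one (by norm_num) he2
  have h3 := sr1_card_gt_two (α := ↥(Subgroup.closure ({x, y} : Set X))) 1
    ⟨x, Subgroup.subset_closure (by simp)⟩ ⟨y, Subgroup.subset_closure (by simp)⟩
    (fun h => hx1 (congrArg Subtype.val h).symm)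
    (fun h => hy1 (congrArg Subtype.val h).symm)
    (fun h => hne (congrArg Subtype.val h))
  omega

theorem sr1_four_coprime [Finite X] {x y : X} (hx : x ^ 2 = 1) (hy : y ^ 2 = 1)
    (hxy : x * y = y * x) {n : ℕ} (hn : n.Coprime 2) :
    (Nat.card ↥(Subgroup.closure ({x, y} : Set X))).Coprime n := by
  have hp : IsPGroup 2 ↥(Subgroup.closure ({x, y} : Set X)) := by
    intro a
    refine ⟨1, ?_⟩
    apply Subtype.ext
    have := sr1_four_sq hx hy hxy a a.2
    simpa using this
  obtain ⟨m, hm⟩ := hp.exists_card_eq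
  rw [hm]
  exact Nat.Coprime.pow_left m hn.symm

/-- an element of a subgroup of odd order whose square is one is trivial -/
theorem sr1_odd_invol (H : Subgroup X) (hH : (Nat.card H).Coprime 2) {x : X} (hx : x ∈ H)
    (hx2 : x ^ 2 = 1) : x = 1 := by
  have h1 : orderOf x ∣ Nat.card H := Subgroup.orderOf_dvd_natCard H hx
  have h2 : orderOf x ∣ 2 := orderOf_dvd_of_pow_eq_one hx2
  have h3 : orderOf x = 1 := (hH.coprime_dvd_left h1).eq_one_of_dvd h2
  exact orderOf_eq_one_iff.mp h3

theorem sr1_center_pow (P : Subgroup X) {x : X} (hx : x ∈ P)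
    (hxc : x ∈ Subgroup.centralizer (P : Set X)) :
    x ^ Nat.card ↥(Subgroup.center ↥P) = 1 := by
  have h1 : (⟨x, hx⟩ : ↥P) ∈ Subgroup.center ↥P := by
    rw [Subgroup.mem_center_iff]
    intro g
    apply Subtype.ext
    exact Subgroup.mem_centralizer_iff.mp hxc g g.2
  have h2 : orderOf x ∣ Nat.card ↥(Subgroup.center ↥P) := by
    have := orderOf_dvd_natCard (⟨⟨x, hx⟩, h1⟩ : ↥(Subgroup.center ↥P))
    rwa [Subgroup.orderOf_mk, Subgroup.orderOf_mk] at this
  exact orderOf_dvd_iff_pow_eq_one.mp h2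

/-- an involution lying in `P ⊓ C(P)` is trivial when `Z(P)` has odd order -/
theorem sr1_center_invol (P : Subgroup X) (hZ : Odd (Nat.card ↥(Subgroup.center ↥P))) {x : X}
    (hx : x ∈ P) (hxc : x ∈ Subgroup.centralizer (P : Set X)) (hx2 : x ^ 2 = 1) : x = 1 := by
  rw [← sr1_pow_odd hx2 hZ]
  exact sr1_center_pow P hx hxc

/-- (b) the centralizer of an involution of a tightly embedded subgroup normalizes it -/
theorem sr1_cent_le_norm (K : Subgroup X) (hK : Cfsg.IsTightlyEmbedded K) {t : X}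
    (ht : orderOf t = 2) (htK : t ∈ K) {c : X} (hc : c * t * c⁻¹ = t) :
    c ∈ Subgroup.normalizer (K : Set X) := by
  by_contra h
  have hodd := hK.2 c h
  have hmem : t ∈ K ⊓ K.map (MulAut.conj c).toMonoidHom := by
    refine ⟨htK, t, htK, ?_⟩
    simp [MulAut.conj_apply, hc]
  have hdvd := Subgroup.orderOf_dvd_natCard _ hmem
  rw [ht] at hdvd
  exact (Nat.not_even_iff_odd.mpr hodd) (even_iff_two_dvd.mpr hdvd)

/-- decomposition of elements of `P ⊔ K` when `K` centralizes `P` -/
theorem sr1_sup_mem (P K : Subgroup X) (hK : K ≤ Subgroup.centralizer (P : Set X)) {x : X}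
    (hx : x ∈ P ⊔ K) : ∃ p ∈ P, ∃ k ∈ K, x = p * k := by
  rw [Subgroup.sup_eq_closure] at hx
  induction hx using Subgroup.closure_induction with
  | mem a ha =>
    rcases ha with ha | ha
    · exact ⟨a, ha, 1, K.one_mem, (mul_one a).symm⟩
    · exact ⟨1, P.one_mem, a, ha, (one_mul a).symm⟩
  | one => exact ⟨1, P.one_mem, 1, K.one_mem, (mul_one 1).symm⟩
  | mul a b _ _ iha ihb =>
    obtain ⟨p1, hp1, k1, hk1, rfl⟩ := iha
    obtain ⟨p2, hp2, k2, hk2, rfl⟩ := ihb
    refine ⟨p1 * p2, P.mul_mem hp1 hp2, k1 * k2, K.mul_mem hk1 hk2, ?_⟩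
    have hc : p2 * k1 = k1 * p2 := Subgroup.mem_centralizer_iff.mp (hK hk1) p2 hp2
    calc p1 * k1 * (p2 * k2) = p1 * (k1 * p2) * k2 := by group
      _ = p1 * (p2 * k1) * k2 := by rw [hc]
      _ = p1 * p2 * (k1 * k2) := by group
  | inv a _ iha =>
    obtain ⟨p1, hp1, k1, hk1, rfl⟩ := iha
    refine ⟨p1⁻¹, P.inv_mem hp1, k1⁻¹, K.inv_mem hk1, ?_⟩
    have hc : p1⁻¹ * k1⁻¹ = k1⁻¹ * p1⁻¹ :=
      Subgroup.mem_centralizer_iff.mp (hK (K.inv_mem hk1)) p1⁻¹ (P.inv_mem hp1)
    rw [mul_inv_rev, hc]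

/-- a normal subgroup `M` not containing the quasisimple subgroup `P`: `N_M(P)` centralizes `P` -/
theorem sr1_cent_of_normal (P : Subgroup X) (hP : Cfsg.IsQuasisimple ↥P) (M : Subgroup X)
    [hM : M.Normal] :
    P ≤ M ∨ M ⊓ Subgroup.normalizer (P : Set X) ≤ Subgroup.centralizer (P : Set X) := by
  rcases Cfsg.Agent.Helper2.isSubnormal_quasisimple hP (M.subgroupOf P)
    (Subgroup.Normal.isSubnormal inferInstance) with h | h
  · left; exact Subgroup.subgroupOf_eq_top.mp h
  · right
    have hPM : P ⊓ M ≤ Subgroup.centralizer (P : Set X) := by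
      intro y hy
      rw [Subgroup.mem_centralizer_iff]
      intro x hx
      have h1 : (⟨y, hy.1⟩ : ↥P) ∈ M.subgroupOf P := Subgroup.mem_subgroupOf.mpr hy.2
      have h2 := Subgroup.mem_center_iff.mp (h h1) ⟨x, hx⟩
      exact congrArg Subtype.val h2
    have hperf : ⁅P, P⁆ = P := Subgroup.isPerfect_iff.mp hP.1
    have hC : ⁅M ⊓ Subgroup.normalizer (P : Set X), P⁆ ≤ Subgroup.centralizer (P : Set X) := by
      rw [Subgroup.commutator_le]
      intro c hc x hx
      apply hPM
      refine ⟨?_, ?_⟩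
      · rw [commutatorElement_def]
        exact P.mul_mem ((Subgroup.mem_normalizer_iff.mp hc.2 x).mp hx) (P.inv_mem hx)
      · rw [commutatorElement_def]
        have e : c * x * c⁻¹ * x⁻¹ = c * (x * c⁻¹ * x⁻¹) := by group
        rw [e]
        exact M.mul_mem hc.1 (hM.conj_mem _ (M.inv_mem hc.1) x)
    have h3 : ⁅⁅M ⊓ Subgroup.normalizer (P : Set X), P⁆, P⁆ = ⊥ := by
      rw [Subgroup.commutator_eq_bot_iff_le_centralizer]; exact hC
    have h4 := Cfsg.Agent.Helper2.commutator_eq_bot_of_commutator_commutator_eq_bot hperf h3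
    rwa [Subgroup.commutator_eq_bot_iff_le_centralizer] at h4

end

end Cfsg.Agent.Helper1
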