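import Mathlib
import Cfsg.Agent.Helper1.StdRk1

/-!
S3153: the Sylow-theoretic lemmas (prefix `sr1_`).
-/

set_option autoImplicit false

namespace Cfsg.Agent.Helper1

open scoped commutatorElement

section
variable {X : Type*} [Group X]

/-- (a) an involution of `Q ⊓ K` is central in the 2-group `Q` when `Q` normalizes `K` and `K`
has 2-rank one -/
theorem sr1_central [Finite X] (Q K : Subgroup X) (hQ : IsPGroup 2 ↥Q)
    (hQK : Q ≤ Subgroup.normalizer (K : Set X)) (hr : Cfsg.PRankLE 2 1 ↥K) {t : X}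
    (ht : orderOf t = 2) (htQ : t ∈ Q) (htK : t ∈ K) : ∀ s ∈ Q, s * t = t * s := by
  haveI : Fact (Nat.Prime 2) := ⟨Nat.prime_two⟩
  haveI hn : (K.subgroupOf Q).Normal := Subgroup.normal_subgroupOf_of_le_normalizer hQK
  have ht1 : t ≠ 1 := by
    rintro rfl
    rw [orderOf_one] at ht
    norm_num at ht
  have ht2 : t ^ 2 = 1 := by rw [← ht]; exact pow_orderOf_eq_one t
  have hne : K.subgroupOf Q ≠ ⊥ := by
    intro h
    have : (⟨t, htQ⟩ : ↥Q) ∈ K.subgroupOf Q := Subgroup.mem_subgroupOf.mpr htK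
    rw [h, Subgroup.mem_bot] at this
    exact ht1 (congrArg Subtype.val this)
  obtain ⟨b, hbM, hb1, hbc⟩ := sr1_n_center hQ (K.subgroupOf Q) hne
  obtain ⟨m, hm⟩ := (IsPGroup.iff_orderOf.mp hQ) b
  have hm0 : m ≠ 0 := by
    rintro rfl
    rw [pow_zero, orderOf_eq_one_iff] at hm
    exact hb1 hm
  have hzo : orderOf (b ^ (2 ^ (m - 1))) = 2 := by
    rw [orderOf_pow_of_dvd (by positivity)
      (by rw [hm]; exact pow_dvd_pow 2 (Nat.sub_le m 1)), hm,
      Nat.pow_div (Nat.sub_le m 1) (by norm_num)]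
    have : m - (m - 1) = 1 := by omega
    rw [this, pow_one]
  have hzM : b ^ (2 ^ (m - 1)) ∈ K.subgroupOf Q := (K.subgroupOf Q).pow_mem hbM _
  have hzc : ∀ g : ↥Q, g * b ^ (2 ^ (m - 1)) = b ^ (2 ^ (m - 1)) * g := fun g =>
    (Commute.pow_right (hbc g) _ : Commute g (b ^ (2 ^ (m - 1))))
  set z : ↥Q := b ^ (2 ^ (m - 1)) with hz
  have hzK : (z : X) ∈ K := Subgroup.mem_subgroupOf.mp hzM
  have hz2 : (z : X) ^ 2 = 1 := by
    have h1 : z ^ 2 = 1 := by rw [← hzo]; exact pow_orderOf_eq_one z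
    have h2 := congrArg Subtype.val h1
    simpa using h2
  have hzt : t * (z : X) = (z : X) * t := congrArg Subtype.val (hzc ⟨t, htQ⟩)
  have hcase := sr1_two_invol hr (t := (⟨t, htK⟩ : ↥K)) (k := (⟨(z : X), hzK⟩ : ↥K))
    (Subtype.ext (by simpa using ht2)) (Subtype.ext (by simpa using hz2))
    (Subtype.ext (by simpa using hzt))
    (fun h => ht1 (congrArg Subtype.val h))
  have hzt' : (z : X) = t := by
    rcases hcase with h | h
    · exfalso
      have h1 : (z : X) = 1 := congrArg Subtype.val h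
      have h2 : z = 1 := Subtype.ext h1
      rw [h2, orderOf_one] at hzo
      norm_num at hzo
    · exact congrArg Subtype.val h
  intro s hs
  have := congrArg Subtype.val (hzc ⟨s, hs⟩)
  rw [← hzt']
  exact this

/-- (c) an element of `N` normalizing a Sylow 2-subgroup of `N` with square in it lies in it -/
theorem sr1_sylow_mem [Finite X] (N : Subgroup X) (S : Sylow 2 ↥N) {g : X} (hgN : g ∈ N)
    (hnorm : ∀ s ∈ (S : Subgroup ↥N).map N.subtype,
      g * s * g⁻¹ ∈ (S : Subgroup ↥N).map N.subtype)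
    (hg2 : g ^ 2 ∈ (S : Subgroup ↥N).map N.subtype) :
    g ∈ (S : Subgroup ↥N).map N.subtype := by
  have h1 : (⟨g, hgN⟩ : ↥N) ∈ Subgroup.normalizer ((S : Subgroup ↥N) : Set ↥N) := by
    apply Subgroup.mem_normalizer_fintype
    intro n hn
    obtain ⟨m, hm, hme⟩ := hnorm (n : X) ⟨n, hn, rfl⟩
    have : (⟨g, hgN⟩ : ↥N) * n * (⟨g, hgN⟩ : ↥N)⁻¹ = m := Subtype.ext (by simpa using hme.symm)
    rw [this]; exact hm
  have h2 : (⟨g, hgN⟩ : ↥N) ^ 2 ∈ (S : Subgroup ↥N) := by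
    obtain ⟨m, hm, hme⟩ := hg2
    have : (⟨g, hgN⟩ : ↥N) ^ 2 = m := Subtype.ext (by simpa using hme.symm)
    rw [this]; exact hm
  have hZ : IsPGroup 2 ↥(Subgroup.zpowers (⟨g, hgN⟩ : ↥N)) := by
    obtain ⟨k, hk⟩ := S.isPGroup' ⟨_, h2⟩
    have hk' : ((⟨g, hgN⟩ : ↥N) ^ 2) ^ (2 ^ k) = 1 := by
      have := congrArg Subtype.val hk
      simpa using this
    have hdvd : orderOf (⟨g, hgN⟩ : ↥N) ∣ 2 ^ (k + 1) := by
      apply orderOf_dvd_of_pow_eq_one
      rw [pow_succ', pow_mul]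
      exact hk'
    obtain ⟨j, -, hj⟩ := (Nat.dvd_prime_pow Nat.prime_two).mp hdvd
    apply IsPGroup.of_card (n := j)
    rw [Nat.card_zpowers, hj]
  have h3 := hZ.inf_normalizer_sylow S
  have h4 : (⟨g, hgN⟩ : ↥N) ∈ Subgroup.zpowers (⟨g, hgN⟩ : ↥N) ⊓ (S : Subgroup ↥N) :=
    h3.le ⟨Subgroup.mem_zpowers _, h1⟩
  exact ⟨⟨g, hgN⟩, h4.2, rfl⟩

end

end Cfsg.Agent.Helper1
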