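import Mathlib
import Cfsg.Agent.Helper1.StdRk1b
import Cfsg.Agent.Helper1.Fitting
import Cfsg.Agent.Helper2.PComp5
import Cfsg.Agent.S0058

/-!
S3153: assembly (prefix `sr1_`).
-/

set_option autoImplicit false

namespace Cfsg.Agent.Helper1

open scoped commutatorElement

section
variable {X : Type*} [Group X] [Finite X]

/-- steps (a)-(d): the involution `p` of `P` and the two cases -/
theorem sr1_setup (P K N S' : Subgroup X) (hKdef : K = Subgroup.centralizer (P : Set X))
    (hNK : N = Subgroup.normalizer (K : Set X))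
    (hKt : Cfsg.IsTightlyEmbedded K)
    (hr : Cfsg.PRankLE 2 1 ↥K) (hZ : Odd (Nat.card ↥(Subgroup.center ↥P)))
    (S : Sylow 2 ↥N) (hS' : S' = (S : Subgroup ↥N).map N.subtype)
    (t : X) (ht : orderOf t = 2) (htS : t ∈ S') (htK : t ∈ K)
    (g : X) (hgN : ∀ s ∈ S', g * s * g⁻¹ ∈ S') (hgS : g ∉ S') (hg2 : g ^ 2 ∈ S')
    (hgt : g * t * g⁻¹ ∈ P ⊔ K) :
    ∃ p ∈ P, p ^ 2 = 1 ∧ p ≠ 1 ∧
      ((g * t * g⁻¹ = p ∧ g * p * g⁻¹ = t) ∨ (g * t * g⁻¹ = p * t ∧ g * p * g⁻¹ = p)) := by
  have hS'N : S' ≤ N := by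
    rw [hS']; rintro _ ⟨s, -, rfl⟩; exact s.2
  have hS'p : IsPGroup 2 ↥S' := by
    rw [hS']; exact S.isPGroup'.map N.subtype
  have ht1 : t ≠ 1 := by
    rintro rfl
    rw [orderOf_one] at ht
    norm_num at ht
  have ht2 : t ^ 2 = 1 := by rw [← ht]; exact pow_orderOf_eq_one t
  -- (a)
  have hcen : ∀ s ∈ S', s * t = t * s :=
    sr1_central S' K hS'p (by rw [← hNK]; exact hS'N) hr ht htS htK
  -- the conjugate
  have ht'S : g * t * g⁻¹ ∈ S' := hgN t htS
  have ht'2 : (g * t * g⁻¹) ^ 2 = 1 := by rw [conj_pow, ht2]; group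
  have ht'1 : g * t * g⁻¹ ≠ 1 := by
    intro h
    apply ht1
    have : t = g⁻¹ * (g * t * g⁻¹) * g := by group
    rw [this, h]; group
  have htt' : g * t * g⁻¹ * t = t * (g * t * g⁻¹) := hcen _ ht'S
  -- (c)
  have hne : g * t * g⁻¹ ≠ t := by
    intro h
    have hgK : g ∈ Subgroup.normalizer (K : Set X) := sr1_cent_le_norm K hKt ht htK h
    rw [← hNK] at hgK
    apply hgS
    have := sr1_sylow_mem N S hgK (by rw [← hS']; exact hgN) (by rw [← hS']; exact hg2)
    rw [← hS'] at this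
    exact this
  -- (d)
  obtain ⟨p0, hp0, k0, hk0, he⟩ := sr1_sup_mem P K (le_of_eq hKdef) hgt
  have hk0' : k0 ∈ Subgroup.centralizer (P : Set X) := hKdef ▸ hk0
  have hpk0 : Commute p0 k0 := Subgroup.mem_centralizer_iff.mp hk0' p0 hp0
  have hsq : p0 ^ 2 * k0 ^ 2 = 1 := by
    rw [← hpk0.mul_pow, ← he]; exact ht'2
  have hp0sq : p0 ^ 2 ∈ Subgroup.centralizer (P : Set X) := by
    have : p0 ^ 2 = (k0 ^ 2)⁻¹ := eq_inv_of_mul_eq_one_left hsq
    rw [this]; exact inv_mem (pow_mem hk0' 2)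
  have hp0n : (p0 ^ 2) ^ Nat.card ↥(Subgroup.center ↥P) = 1 :=
    sr1_center_pow P (P.pow_mem hp0 2) hp0sq
  have hp2 : (p0 ^ Nat.card ↥(Subgroup.center ↥P)) ^ 2 = 1 := by
    rw [← pow_mul, mul_comm, pow_mul]; exact hp0n
  have hk2 : (k0 ^ Nat.card ↥(Subgroup.center ↥P)) ^ 2 = 1 := by
    rw [← pow_mul, mul_comm, pow_mul]
    have : k0 ^ 2 = (p0 ^ 2)⁻¹ := eq_inv_of_mul_eq_one_right hsq
    rw [this, inv_pow, hp0n, inv_one]
  have het : g * t * g⁻¹ = p0 ^ Nat.card ↥(Subgroup.center ↥P) *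
      k0 ^ Nat.card ↥(Subgroup.center ↥P) := by
    rw [← hpk0.mul_pow, ← he]; exact (sr1_pow_odd ht'2 hZ).symm
  have hpP : p0 ^ Nat.card ↥(Subgroup.center ↥P) ∈ P := P.pow_mem hp0 _
  have hkK : k0 ^ Nat.card ↥(Subgroup.center ↥P) ∈ K := K.pow_mem hk0 _
  generalize p0 ^ Nat.card ↥(Subgroup.center ↥P) = p at hp2 het hpP
  generalize k0 ^ Nat.card ↥(Subgroup.center ↥P) = k at hk2 het hkK
  have htK' : t ∈ Subgroup.centralizer (P : Set X) := hKdef ▸ htK
  have htp : p * t = t * p := Subgroup.mem_centralizer_iff.mp htK' p hpP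
  have hkeq : k = p * (g * t * g⁻¹) := by
    rw [het, ← mul_assoc, ← pow_two, hp2, one_mul]
  have htk : t * k = k * t := by
    rw [hkeq]
    calc t * (p * (g * t * g⁻¹)) = (t * p) * (g * t * g⁻¹) := by group
      _ = p * t * (g * t * g⁻¹) := by rw [htp]
      _ = p * (t * (g * t * g⁻¹)) := by group
      _ = p * (g * t * g⁻¹ * t) := by rw [htt']
      _ = p * (g * t * g⁻¹) * t := by group
  have hcase := sr1_two_invol hr (t := (⟨t, htK⟩ : ↥K)) (k := (⟨k, hkK⟩ : ↥K))
    (Subtype.ext (by simpa using ht2)) (Subtype.ext (by simpa using hk2))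
    (Subtype.ext (by simpa using htk))
    (fun h => ht1 (congrArg Subtype.val h))
  have hcase' : k = 1 ∨ k = t := by
    rcases hcase with h | h
    · left; exact congrArg Subtype.val h
    · right; exact congrArg Subtype.val h
  have hp1 : p ≠ 1 := by
    intro h
    rw [h, one_mul] at het
    rcases hcase' with h' | h'
    · exact ht'1 (het.trans h')
    · exact hne (het.trans h')
  have hg2t : g ^ 2 * t * (g ^ 2)⁻¹ = t := by
    rw [hcen (g ^ 2) hg2]; group
  have hgt' : g * (g * t * g⁻¹) * g⁻¹ = t := by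
    calc g * (g * t * g⁻¹) * g⁻¹ = g ^ 2 * t * (g ^ 2)⁻¹ := by
          rw [pow_two, mul_inv_rev]; simp only [mul_assoc]
      _ = t := hg2t
  refine ⟨p, hpP, hp2, hp1, ?_⟩
  rcases hcase' with h' | h'
  · left
    have e : g * t * g⁻¹ = p := by rw [het, h', mul_one]
    exact ⟨e, by rw [← e]; exact hgt'⟩
  · right
    have e : g * t * g⁻¹ = p * t := by rw [het, h']
    refine ⟨e, ?_⟩
    have e2 : p = g * t * g⁻¹ * t := by rw [e, mul_assoc, ← pow_two, ht2, mul_one]
    calc g * p * g⁻¹ = (g * (g * t * g⁻¹) * g⁻¹) * (g * t * g⁻¹) := by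
          conv_lhs => rw [e2]
          group
      _ = t * (g * t * g⁻¹) := by rw [hgt']
      _ = g * t * g⁻¹ * t := htt'.symm
      _ = p := e2.symm

/-- steps (f), (g): `P` centralizes the core -/
theorem sr1_part1 (P K W : Subgroup X) (hKdef : K = Subgroup.centralizer (P : Set X))
    (hWdef : W = Cfsg.pPrimeCore 2 X)
    (hPq : Cfsg.IsQuasisimple ↥P) (hKt : Cfsg.IsTightlyEmbedded K)
    (hNK : Subgroup.normalizer (P : Set X) = Subgroup.normalizer (K : Set X))
    (hZ : Odd (Nat.card ↥(Subgroup.center ↥P)))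
    (t : X) (ht : orderOf t = 2) (htK : t ∈ K) (g p : X) (hpP : p ∈ P) (hp2 : p ^ 2 = 1)
    (hp1 : p ≠ 1)
    (hcase : (g * t * g⁻¹ = p ∧ g * p * g⁻¹ = t) ∨ (g * t * g⁻¹ = p * t ∧ g * p * g⁻¹ = p)) :
    ⁅P, W⁆ = ⊥ := by
  haveI hWn : W.Normal := by rw [hWdef]; infer_instance
  have hWodd : (Nat.card W).Coprime 2 := by rw [hWdef]; exact card_pPrimeCore_coprime 2
  have hPW : ¬ P ≤ W := fun h => hp1 (sr1_odd_invol W hWodd (h hpP) hp2)
  have hf0 : W ⊓ Subgroup.normalizer (P : Set X) ≤ K := by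
    rw [hKdef]
    exact (sr1_cent_of_normal P hPq W).resolve_left hPW
  have ht1 : t ≠ 1 := by
    rintro rfl
    rw [orderOf_one] at ht
    norm_num at ht
  have ht2 : t ^ 2 = 1 := by rw [← ht]; exact pow_orderOf_eq_one t
  have htK' : t ∈ Subgroup.centralizer (P : Set X) := hKdef ▸ htK
  -- (f)
  have hf : ∀ c ∈ W, c * t = t * c → c ∈ K := by
    intro c hc hct
    apply hf0
    refine ⟨hc, ?_⟩
    rw [hNK]
    apply sr1_cent_le_norm K hKt ht htK
    rw [hct]; group
  have hf' : ∀ c ∈ W, c * (g * t * g⁻¹) = (g * t * g⁻¹) * c →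
      c * (g * p * g⁻¹) = (g * p * g⁻¹) * c := by
    intro c hc hct
    have h1 : g⁻¹ * c * g ∈ W := by simpa using hWn.conj_mem c hc g⁻¹
    have h2 : (g⁻¹ * c * g) * t = t * (g⁻¹ * c * g) := by
      calc g⁻¹ * c * g * t = g⁻¹ * (c * (g * t * g⁻¹)) * g := by group
        _ = g⁻¹ * (g * t * g⁻¹ * c) * g := by rw [hct]
        _ = t * (g⁻¹ * c * g) := by group
    have h3 : g⁻¹ * c * g ∈ Subgroup.centralizer (P : Set X) := hKdef ▸ hf _ h1 h2
    have h4 : p * (g⁻¹ * c * g) = (g⁻¹ * c * g) * p :=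
      Subgroup.mem_centralizer_iff.mp h3 p hpP
    calc c * (g * p * g⁻¹) = g * ((g⁻¹ * c * g) * p) * g⁻¹ := by group
      _ = g * (p * (g⁻¹ * c * g)) * g⁻¹ := by rw [h4]
      _ = g * p * g⁻¹ * c := by group
  have hfp : ∀ c ∈ W, c * t = t * c → c * p = p * c := by
    intro c hc hct
    have h3 : c ∈ Subgroup.centralizer (P : Set X) := hKdef ▸ hf c hc hct
    exact (Subgroup.mem_centralizer_iff.mp h3 p hpP).symm
  have htp : t * p = p * t := (Subgroup.mem_centralizer_iff.mp htK' p hpP).symm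
  have hpt : t ≠ p := by
    intro h
    apply ht1
    exact sr1_center_invol P hZ (h ▸ hpP) htK' ht2
  -- the four-group
  haveI hEc := sr1_four_comm htp
  have hEnc := sr1_four_not_cyclic ht2 hp2 htp ht1 hp1 hpt
  have hEcop := sr1_four_coprime ht2 hp2 htp (n := Nat.card W) hWodd
  have hEW : Subgroup.closure ({t, p} : Set X) ≤ Subgroup.normalizer (W : Set X) := by
    rw [Subgroup.normalizer_eq_top]; exact le_top
  have hgen := Cfsg.Agent.S0058.result (Subgroup.closure ({t, p} : Set X)) W hEnc hEW hEcop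
  have key : ∃ u, (u = p ∨ u = t * p) ∧ ∀ c ∈ W, Commute c u := by
    rcases hcase with ⟨e1, e2⟩ | ⟨e1, e2⟩
    · refine ⟨t * p, Or.inr rfl, ?_⟩
      have hle : W ≤ Subgroup.centralizer {t * p} := by
        refine le_trans hgen.ge ?_
        apply iSup₂_le
        rintro a ⟨haE, ha1⟩
        intro c hc
        have hcW : c ∈ W := (Subgroup.mem_inf.mp hc).1
        have hca : Commute c a :=
          Subgroup.mem_centralizer_singleton_iff.mp (Subgroup.mem_inf.mp hc).2
        rw [Subgroup.mem_centralizer_singleton_iff]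
        change Commute c (t * p)
        rcases sr1_four ht2 hp2 htp a haE with h | h | h | h
        · exact absurd h ha1
        · rw [h] at hca
          have h5 : Commute c p := hfp c hcW hca.eq
          exact hca.mul_right h5
        · rw [h] at hca
          have h5 : Commute c t := by
            have := hf' c hcW (by rw [e1]; exact hca.eq)
            rwa [e2] at this
          exact h5.mul_right hca
        · rw [h] at hca; exact hca
      intro c hc
      exact Subgroup.mem_centralizer_singleton_iff.mp (hle hc)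
    · refine ⟨p, Or.inl rfl, ?_⟩
      have hle : W ≤ Subgroup.centralizer {p} := by
        refine le_trans hgen.ge ?_
        apply iSup₂_le
        rintro a ⟨haE, ha1⟩
        intro c hc
        have hcW : c ∈ W := (Subgroup.mem_inf.mp hc).1
        have hca : Commute c a :=
          Subgroup.mem_centralizer_singleton_iff.mp (Subgroup.mem_inf.mp hc).2
        rw [Subgroup.mem_centralizer_singleton_iff]
        change Commute c p
        rcases sr1_four ht2 hp2 htp a haE with h | h | h | h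
        · exact absurd h ha1
        · rw [h] at hca
          exact hfp c hcW hca.eq
        · rw [h] at hca; exact hca
        · rw [h] at hca
          have := hf' c hcW (by rw [e1, ← htp]; exact hca.eq)
          rwa [e2] at this
      intro c hc
      exact Subgroup.mem_centralizer_singleton_iff.mp (hle hc)
  obtain ⟨u, hu, hWu⟩ := key
  rcases sr1_cent_of_normal P hPq (Subgroup.centralizer (W : Set X)) with h | h
  · exact Subgroup.commutator_eq_bot_iff_le_centralizer.mpr h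
  · exfalso
    have huC : u ∈ Subgroup.centralizer (W : Set X) := by
      rw [Subgroup.mem_centralizer_iff]
      intro w hw
      exact (hWu w hw).eq
    have hpN : p ∈ Subgroup.normalizer (P : Set X) := Subgroup.le_normalizer hpP
    have htN : t ∈ Subgroup.normalizer (P : Set X) :=
      Subgroup.centralizer_le_normalizer _ htK'
    have huN : u ∈ Subgroup.normalizer (P : Set X) := by
      rcases hu with rfl | rfl
      · exact hpN
      · exact mul_mem htN hpN
    have huK : u ∈ Subgroup.centralizer (P : Set X) := h ⟨huC, huN⟩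
    have hpK : p ∈ Subgroup.centralizer (P : Set X) := by
      rcases hu with rfl | rfl
      · exact huK
      · have : p = t⁻¹ * (t * p) := by group
        rw [this]; exact mul_mem (inv_mem htK') huK
    exact hp1 (sr1_center_invol P hZ hpP hpK hp2)

/-- part 2: a 2-component containing `P` is quasisimple once `P` centralizes the core -/
theorem sr1_part2 (P : Subgroup X) (hPq : Cfsg.IsQuasisimple ↥P)
    (hPW : ⁅P, Cfsg.pPrimeCore 2 X⁆ = ⊥)
    (p : X) (hpP : p ∈ P) (hp2 : p ^ 2 = 1) (hp1 : p ≠ 1)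
    (L : Subgroup X) (hL : Cfsg.IsPComponent 2 L) (hPL : P ≤ L) : Cfsg.IsQuasisimple ↥L := by
  apply Cfsg.Agent.Helper2.pComponent_quasisimple_of_commutator_core_eq_bot hL
  rw [Cfsg.Agent.Helper2.pPrimeCore_subnormal_eq 2 L hL.1]
  have hWn : (Cfsg.pPrimeCore 2 X).Normal := inferInstance
  suffices hCL : L ⊓ Subgroup.centralizer ((L ⊓ Cfsg.pPrimeCore 2 X : Subgroup X) : Set X) = L by
    rw [Subgroup.commutator_eq_bot_iff_le_centralizer]
    intro x hx
    have : x ∈ L ⊓ Subgroup.centralizer ((L ⊓ Cfsg.pPrimeCore 2 X : Subgroup X) : Set X) := by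
      rw [hCL]; exact hx
    exact (Subgroup.mem_inf.mp this).2
  have hCle : L ⊓ Subgroup.centralizer ((L ⊓ Cfsg.pPrimeCore 2 X : Subgroup X) : Set X) ≤ L :=
    inf_le_left
  have hCn : ((L ⊓ Subgroup.centralizer
      ((L ⊓ Cfsg.pPrimeCore 2 X : Subgroup X) : Set X)).subgroupOf L).Normal := by
    refine ⟨fun n hn l => ?_⟩
    rw [Subgroup.mem_subgroupOf] at hn ⊢
    refine Subgroup.mem_inf.mpr ⟨(l * n * l⁻¹).2, ?_⟩
    rw [Subgroup.mem_centralizer_iff]
    intro o ho
    have ho' : (l : X)⁻¹ * o * l ∈ L ⊓ Cfsg.pPrimeCore 2 X := by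
      refine Subgroup.mem_inf.mpr
        ⟨L.mul_mem (L.mul_mem (L.inv_mem l.2) (Subgroup.mem_inf.mp ho).1) l.2, ?_⟩
      simpa using hWn.conj_mem o (Subgroup.mem_inf.mp ho).2 (l : X)⁻¹
    have h1 := Subgroup.mem_centralizer_iff.mp (Subgroup.mem_inf.mp hn).2 _ ho'
    simp only [Subgroup.coe_mul, Subgroup.coe_inv]
    calc o * ((l : X) * n * (l : X)⁻¹) = l * (((l : X)⁻¹ * o * l) * n) * (l : X)⁻¹ := by group
      _ = l * (n * ((l : X)⁻¹ * o * l)) * (l : X)⁻¹ := by rw [h1]
      _ = (l : X) * n * (l : X)⁻¹ * o := by group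
  have hCsub : (L ⊓ Subgroup.centralizer
      ((L ⊓ Cfsg.pPrimeCore 2 X : Subgroup X) : Set X)).IsSubnormal :=
    Subgroup.IsSubnormal.step _ L hCle hL.1 hCn
  have hPC : P ≤ L ⊓ Subgroup.centralizer ((L ⊓ Cfsg.pPrimeCore 2 X : Subgroup X) : Set X) := by
    apply le_inf hPL
    refine le_trans (Subgroup.commutator_eq_bot_iff_le_centralizer.mp hPW) ?_
    apply Subgroup.centralizer_le
    intro x hx
    exact (Subgroup.mem_inf.mp hx).2
  apply hL.2.2 _ hCsub hCle
  have hq : Cfsg.IsQuasisimple ↥(L.map (QuotientGroup.mk' (Cfsg.pPrimeCore 2 X))) := hL.2.1.2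
  have hn' : (((L ⊓ Subgroup.centralizer
      ((L ⊓ Cfsg.pPrimeCore 2 X : Subgroup X) : Set X)).map
        (QuotientGroup.mk' (Cfsg.pPrimeCore 2 X))).subgroupOf
          (L.map (QuotientGroup.mk' (Cfsg.pPrimeCore 2 X)))).Normal := by
    apply Subgroup.normal_subgroupOf_of_le_normalizer
    refine le_trans (Subgroup.map_mono
      ((Subgroup.normal_subgroupOf_iff_le_normalizer hCle).mp hCn)) ?_
    exact Subgroup.le_normalizer_map _
  rcases Cfsg.Agent.Helper2.isSubnormal_quasisimple hq _ hn'.isSubnormal with h | h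
  · exact le_antisymm (Subgroup.map_mono hCle) (Subgroup.subgroupOf_eq_top.mp h)
  · exfalso
    have hPW' : P ≤ Cfsg.pPrimeCore 2 X := by
      have hperf : ⁅P, P⁆ = P := Subgroup.isPerfect_iff.mp hPq.1
      refine le_trans (le_of_eq hperf.symm) ?_
      rw [Subgroup.commutator_le]
      intro x hx y hy
      rw [← QuotientGroup.ker_mk' (Cfsg.pPrimeCore 2 X), MonoidHom.mem_ker,
        map_commutatorElement, commutatorElement_eq_one_iff_mul_comm]
      have hx' : QuotientGroup.mk' (Cfsg.pPrimeCore 2 X) x ∈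
          (L ⊓ Subgroup.centralizer ((L ⊓ Cfsg.pPrimeCore 2 X : Subgroup X) : Set X)).map
            (QuotientGroup.mk' (Cfsg.pPrimeCore 2 X)) := ⟨x, hPC hx, rfl⟩
      have hxL : QuotientGroup.mk' (Cfsg.pPrimeCore 2 X) x ∈
          L.map (QuotientGroup.mk' (Cfsg.pPrimeCore 2 X)) := ⟨x, hPL hx, rfl⟩
      have hyL : QuotientGroup.mk' (Cfsg.pPrimeCore 2 X) y ∈
          L.map (QuotientGroup.mk' (Cfsg.pPrimeCore 2 X)) := ⟨y, hPL hy, rfl⟩
      have h1 : (⟨_, hxL⟩ : ↥(L.map (QuotientGroup.mk' (Cfsg.pPrimeCore 2 X)))) ∈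
          ((L ⊓ Subgroup.centralizer ((L ⊓ Cfsg.pPrimeCore 2 X : Subgroup X) : Set X)).map
            (QuotientGroup.mk' (Cfsg.pPrimeCore 2 X))).subgroupOf
              (L.map (QuotientGroup.mk' (Cfsg.pPrimeCore 2 X))) :=
        Subgroup.mem_subgroupOf.mpr hx'
      have h2 := Subgroup.mem_center_iff.mp (h h1) ⟨_, hyL⟩
      exact (congrArg Subtype.val h2).symm
    exact hp1 (sr1_odd_invol _ (card_pPrimeCore_coprime 2) (hPW' hpP) hp2)

end

end Cfsg.Agent.Helper1
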