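import Mathlib
import Cfsg.Prelude.Def_PLocal
import Cfsg.Agent.Helper1.Basic
import Cfsg.Agent.Helper1.Cores
import Cfsg.Agent.Helper1.Subnormal
import Cfsg.Agent.Helper1.SubnormalComm
import Cfsg.Agent.Helper1.SubnormalJoin

set_option autoImplicit false

/-!
If two subnormal subgroups of a faithful group on an elementary abelian `p`-group satisfy
`[V, E₁, E₂] = 1` then `[E₁, E₂] ≤ O_p`.
-/

namespace Cfsg.Agent.Helper1

open scoped commutatorElement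

universe u

variable {G : Type u} [Group G]

/-- the stability group of the chain `1 ≤ W ≤ V` -/
def chainStabilizer (V W : Subgroup G) : Subgroup G where
  carrier := {g | g ∈ Subgroup.centralizer (W : Set G) ∧ ∀ v ∈ V, g * v * g⁻¹ * v⁻¹ ∈ W}
  one_mem' := ⟨Subgroup.one_mem _, fun v _ => by simp [W.one_mem]⟩
  mul_mem' := by
    rintro g g' ⟨hg, hgv⟩ ⟨hg', hgv'⟩
    refine ⟨Subgroup.mul_mem _ hg hg', ?_⟩
    intro v hv
    have h1 : g * g' * v * (g * g')⁻¹ * v⁻¹ = g * (g' * v * g'⁻¹ * v⁻¹) * g⁻¹ * (g * v * g⁻¹ * v⁻¹) := by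
      group
    rw [h1]
    have h2 := Subgroup.mem_centralizer_iff.1 hg _ (hgv' v hv)
    have h3 : g * (g' * v * g'⁻¹ * v⁻¹) * g⁻¹ = g' * v * g'⁻¹ * v⁻¹ := by
      rw [← h2, mul_assoc, mul_inv_cancel, mul_one]
    rw [h3]
    exact W.mul_mem (hgv' v hv) (hgv v hv)
  inv_mem' := by
    rintro g ⟨hg, hgv⟩
    refine ⟨Subgroup.inv_mem _ hg, ?_⟩
    intro v hv
    have h1 : g⁻¹ * v * g⁻¹⁻¹ * v⁻¹ = g⁻¹ * (g * v * g⁻¹ * v⁻¹)⁻¹ * g := by group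
    rw [h1]
    have h2 := Subgroup.mem_centralizer_iff.1 hg _ (W.inv_mem (hgv v hv))
    have h3 : g⁻¹ * (g * v * g⁻¹ * v⁻¹)⁻¹ * g = (g * v * g⁻¹ * v⁻¹)⁻¹ := by
      rw [mul_assoc, h2, inv_mul_cancel_left]
    rw [h3]
    exact W.inv_mem (hgv v hv)

/-- elements of the stability group: `g ^ k * v * g ^ (-k) = δ ^ k * v`. -/
theorem chainStabilizer_pow {V W : Subgroup G} {g : G} (hg : g ∈ chainStabilizer V W)
    {v : G} (hv : v ∈ V) (k : ℕ) :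
    g ^ k * v * (g ^ k)⁻¹ = (g * v * g⁻¹ * v⁻¹) ^ k * v := by
  induction k with
  | zero => simp
  | succ k ih =>
    have hδ := hg.2 v hv
    have h2 := Subgroup.mem_centralizer_iff.1 hg.1 _ (W.pow_mem hδ k)
    calc g ^ (k + 1) * v * (g ^ (k + 1))⁻¹ = g * (g ^ k * v * (g ^ k)⁻¹) * g⁻¹ := by
          rw [pow_succ']; group
      _ = g * ((g * v * g⁻¹ * v⁻¹) ^ k * v) * g⁻¹ := by rw [ih]
      _ = (g * (g * v * g⁻¹ * v⁻¹) ^ k) * v * g⁻¹ := by group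
      _ = ((g * v * g⁻¹ * v⁻¹) ^ k * g) * v * g⁻¹ := by rw [h2]
      _ = (g * v * g⁻¹ * v⁻¹) ^ k * (g * v * g⁻¹ * v⁻¹) * v := by group
      _ = (g * v * g⁻¹ * v⁻¹) ^ (k + 1) * v := by rw [pow_succ]

/-- a subnormal `p`-subgroup lies in `O_p` -/
theorem le_pCore_of_isSubnormal [Finite G] {p : ℕ} [Fact p.Prime] {D : Subgroup G}
    (hD : D.IsSubnormal) (hp : IsPGroup p D) : D ≤ Cfsg.pCore p G := by
  rw [pCore_eq_iInf_sylow]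
  apply le_iInf
  intro S
  obtain ⟨Q, hQ⟩ := sylow_inf_subnormal p D hD S
  have h1 : (⊤ : Subgroup D) = (Q : Subgroup D) :=
    Q.is_maximal' (hp.to_subgroup ⊤) le_top
  rw [hQ] at h1
  exact Subgroup.subgroupOf_eq_top.1 h1.symm

theorem commutator_le_pCore_of_subnormal [Finite G] {p : ℕ} [Fact p.Prime] (V H : Subgroup G)
    (hV : Cfsg.IsElementaryAbelian p V) (hHV : H ≤ Subgroup.normalizer (V : Set G))
    (hf : H ⊓ Subgroup.centralizer (V : Set G) = ⊥) (E₁ E₂ : Subgroup G) (h₁ : E₁ ≤ H)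
    (h₂ : E₂ ≤ H) (hs₁ : (E₁.subgroupOf H).IsSubnormal) (hs₂ : (E₂.subgroupOf H).IsSubnormal)
    (hc : ⁅⁅V, E₁⁆, E₂⁆ = ⊥) : ⁅E₁, E₂⁆ ≤ (Cfsg.pCore p H).map H.subtype := by
  have hDH : ⁅E₁, E₂⁆ ≤ H := Subgroup.commutator_le.2 fun a ha b hb =>
    H.mul_mem (H.mul_mem (H.mul_mem (h₁ ha) (h₂ hb)) (H.inv_mem (h₁ ha))) (H.inv_mem (h₂ hb))
  have hE₁V : E₁ ≤ Subgroup.normalizer (V : Set G) := h₁.trans hHV
  have hE₂V : E₂ ≤ Subgroup.normalizer (V : Set G) := h₂.trans hHV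
  have hWV : ⁅V, E₁⁆ ≤ V := Subgroup.le_normalizer_iff_commutator_le_left.1 hE₁V
  -- `E₂` centralizes `W`
  have hE₂W : ∀ e ∈ E₂, ∀ w ∈ ⁅V, E₁⁆, e * w = w * e := by
    intro e he w hw
    have h := (Subgroup.commutator_eq_bot_iff_le_centralizer.1 hc) hw
    exact Subgroup.mem_centralizer_iff.1 h e he
  -- `E₁` normalizes `W`
  have hE₁W : ∀ e ∈ E₁, ∀ w ∈ ⁅V, E₁⁆, e * w * e⁻¹ ∈ ⁅V, E₁⁆ := by
    intro e he w hw
    have h := (Subgroup.commutator_comm V E₁ ▸ le_normalizer_commutator_left E₁ V) he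
    exact (Subgroup.mem_normalizer_iff.1 h w).1 hw
  -- generators lie in the stability group
  have hgen : ⁅E₁, E₂⁆ ≤ chainStabilizer V ⁅V, E₁⁆ := by
    rw [Subgroup.commutator_le]
    intro e₁ he₁ e₂ he₂
    have he₁i : e₁⁻¹ ∈ E₁ := E₁.inv_mem he₁
    have he₂i : e₂⁻¹ ∈ E₂ := E₂.inv_mem he₂
    refine ⟨?_, ?_⟩
    · rw [Subgroup.mem_centralizer_iff]
      intro w hw
      -- `[e₁, e₂] w [e₁, e₂]⁻¹ = w`
      have hw1 : e₁⁻¹ * w * e₁⁻¹⁻¹ ∈ ⁅V, E₁⁆ := hE₁W _ he₁i w hw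
      have h1 := hE₂W e₂⁻¹ he₂i w hw
      have h2 := hE₂W e₂ he₂ _ hw1
      rw [commutatorElement_def]
      calc w * (e₁ * e₂ * e₁⁻¹ * e₂⁻¹) = w * e₁ * e₂ * e₁⁻¹ * e₂⁻¹ := by group
        _ = e₁ * (e₁⁻¹ * w * e₁⁻¹⁻¹) * e₂ * e₁⁻¹ * e₂⁻¹ := by group
        _ = e₁ * (e₂ * (e₁⁻¹ * w * e₁⁻¹⁻¹)) * e₁⁻¹ * e₂⁻¹ := by rw [h2]; group
        _ = e₁ * e₂ * e₁⁻¹ * (w * e₂⁻¹) := by group
        _ = e₁ * e₂ * e₁⁻¹ * (e₂⁻¹ * w) := by rw [h1]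
        _ = e₁ * e₂ * e₁⁻¹ * e₂⁻¹ * w := by group
    · intro v hv
      -- `[e₁, e₂] v [e₁, e₂]⁻¹ v⁻¹ ∈ W`
      have hv1 : e₂⁻¹ * v * e₂⁻¹⁻¹ ∈ V := (Subgroup.mem_normalizer_iff.1 (hE₂V he₂i) v).1 hv
      -- `w₁ = e₁⁻¹ v₁ e₁ v₁⁻¹ ∈ W`
      have hw1 : e₁⁻¹ * (e₂⁻¹ * v * e₂⁻¹⁻¹) * e₁⁻¹⁻¹ * (e₂⁻¹ * v * e₂⁻¹⁻¹)⁻¹ ∈ ⁅V, E₁⁆ := by
        have := Subgroup.commutator_mem_commutator he₁i hv1
        rw [Subgroup.commutator_comm]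
        simpa [commutatorElement_def] using this
      have hw2 : e₁ * v * e₁⁻¹ * v⁻¹ ∈ ⁅V, E₁⁆ := by
        have := Subgroup.commutator_mem_commutator he₁ hv
        rw [Subgroup.commutator_comm]
        simpa [commutatorElement_def] using this
      have h2 := hE₂W e₂ he₂ _ hw1
      have h3 := hE₁W e₁ he₁ _ hw1
      have key : ⁅e₁, e₂⁆ * v * ⁅e₁, e₂⁆⁻¹ * v⁻¹ =
          (e₁ * (e₁⁻¹ * (e₂⁻¹ * v * e₂⁻¹⁻¹) * e₁⁻¹⁻¹ * (e₂⁻¹ * v * e₂⁻¹⁻¹)⁻¹) * e₁⁻¹) *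
            (e₁ * v * e₁⁻¹ * v⁻¹) := by
        rw [commutatorElement_def]
        calc e₁ * e₂ * e₁⁻¹ * e₂⁻¹ * v * (e₁ * e₂ * e₁⁻¹ * e₂⁻¹)⁻¹ * v⁻¹
            = e₁ * (e₂ * (e₁⁻¹ * (e₂⁻¹ * v * e₂⁻¹⁻¹) * e₁⁻¹⁻¹ * (e₂⁻¹ * v * e₂⁻¹⁻¹)⁻¹)) *
                (e₂⁻¹ * v * e₂⁻¹⁻¹) * e₂⁻¹ * e₁⁻¹ * v⁻¹ := by group
          _ = e₁ * ((e₁⁻¹ * (e₂⁻¹ * v * e₂⁻¹⁻¹) * e₁⁻¹⁻¹ * (e₂⁻¹ * v * e₂⁻¹⁻¹)⁻¹) * e₂) *
                (e₂⁻¹ * v * e₂⁻¹⁻¹) * e₂⁻¹ * e₁⁻¹ * v⁻¹ := by rw [h2]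
          _ = _ := by group
      rw [key]
      exact Subgroup.mul_mem _ h3 hw2
  -- elements of `[E₁, E₂]` have order dividing `p`
  have hDp : ∀ d ∈ ⁅E₁, E₂⁆, d ^ p = 1 := by
    intro d hd
    have hdT := hgen hd
    have hcent : d ^ p ∈ H ⊓ Subgroup.centralizer (V : Set G) := by
      refine ⟨H.pow_mem (hDH hd) p, ?_⟩
      show d ^ p ∈ Subgroup.centralizer (V : Set G)
      rw [Subgroup.mem_centralizer_iff]
      intro v hv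
      have h1 := chainStabilizer_pow hdT hv p
      have h2 : (d * v * d⁻¹ * v⁻¹) ^ p = 1 := hV.2 _ (hWV (hdT.2 v hv))
      rw [h2, one_mul] at h1
      calc v * d ^ p = (d ^ p * v * (d ^ p)⁻¹) * d ^ p := by rw [h1]
        _ = d ^ p * v := by group
    rw [hf, Subgroup.mem_bot] at hcent
    exact hcent
  -- work in `H`
  have hJ : (E₁.subgroupOf H ⊔ E₂.subgroupOf H).IsSubnormal :=
    isSubnormal_sup_aux _ H rfl _ _ hs₁ hs₂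
  have hDn : (⁅E₁.subgroupOf H, E₂.subgroupOf H⁆.subgroupOf
      (E₁.subgroupOf H ⊔ E₂.subgroupOf H)).Normal := by
    have hle : ⁅E₁.subgroupOf H, E₂.subgroupOf H⁆ ≤ E₁.subgroupOf H ⊔ E₂.subgroupOf H := by
      rw [Subgroup.commutator_le]
      intro a ha b hb
      have ha' : a ∈ E₁.subgroupOf H ⊔ E₂.subgroupOf H := (le_sup_left : E₁.subgroupOf H ≤ _) ha
      have hb' : b ∈ E₁.subgroupOf H ⊔ E₂.subgroupOf H := (le_sup_right : E₂.subgroupOf H ≤ _) hb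
      exact Subgroup.mul_mem _ (Subgroup.mul_mem _ (Subgroup.mul_mem _ ha' hb')
        (Subgroup.inv_mem _ ha')) (Subgroup.inv_mem _ hb')
    rw [Subgroup.normal_subgroupOf_iff_le_normalizer hle]
    apply sup_le
    · exact le_normalizer_commutator_left _ _
    · rw [Subgroup.commutator_comm]
      exact le_normalizer_commutator_left _ _
  have hDsn : (⁅E₁.subgroupOf H, E₂.subgroupOf H⁆).IsSubnormal := by
    have hle : ⁅E₁.subgroupOf H, E₂.subgroupOf H⁆ ≤ E₁.subgroupOf H ⊔ E₂.subgroupOf H := by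
      rw [Subgroup.commutator_le]
      intro a ha b hb
      have ha' : a ∈ E₁.subgroupOf H ⊔ E₂.subgroupOf H := (le_sup_left : E₁.subgroupOf H ≤ _) ha
      have hb' : b ∈ E₁.subgroupOf H ⊔ E₂.subgroupOf H := (le_sup_right : E₂.subgroupOf H ≤ _) hb
      exact Subgroup.mul_mem _ (Subgroup.mul_mem _ (Subgroup.mul_mem _ ha' hb')
        (Subgroup.inv_mem _ ha')) (Subgroup.inv_mem _ hb')
    exact Subgroup.IsSubnormal.trans hle hDn.isSubnormal hJ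
  have hmap : (⁅E₁.subgroupOf H, E₂.subgroupOf H⁆).map H.subtype = ⁅E₁, E₂⁆ := by
    rw [Subgroup.map_commutator, Subgroup.subgroupOf_map_subtype, Subgroup.subgroupOf_map_subtype,
      inf_eq_left.2 h₁, inf_eq_left.2 h₂]
  have hDp' : IsPGroup p ↥(⁅E₁.subgroupOf H, E₂.subgroupOf H⁆) := by
    intro d
    refine ⟨1, ?_⟩
    rw [pow_one]
    apply Subtype.ext
    apply Subtype.ext
    have hd : ((d : H) : G) ∈ ⁅E₁, E₂⁆ := by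
      rw [← hmap]; exact ⟨d.1, d.2, rfl⟩
    simpa using hDp _ hd
  rw [← hmap]
  exact Subgroup.map_mono (le_pCore_of_isSubnormal hDsn hDp')

end Cfsg.Agent.Helper1
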