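import Mathlib
import Cfsg.Prelude.Def_PLocal
import Cfsg.Agent.Helper1.SubnormalCommPCore
import Cfsg.Agent.Helper4.SubnormalPRad

set_option autoImplicit false

/-!
Conjugates, relative subnormality and chain stabilizers: tools for subnormal subgroups acting
irreducibly on their commutator modules.
-/

namespace Cfsg.Agent.Helper1.SubIrr

open scoped commutatorElement

open Cfsg.Agent.Helper1

universe u

variable {G : Type u} [Group G]

/-- The conjugate `g A g⁻¹`. -/
def cj (g : G) (A : Subgroup G) : Subgroup G := A.map (MulAut.conj g).toMonoidHom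

theorem mem_cj {g x : G} {A : Subgroup G} : x ∈ cj g A ↔ g⁻¹ * x * g ∈ A := by
  constructor
  · rintro ⟨a, ha, rfl⟩
    have : g⁻¹ * ((MulAut.conj g).toMonoidHom a) * g = a := by
      simp [MulAut.conj_apply]; group
    rw [this]; exact ha
  · intro h
    refine ⟨g⁻¹ * x * g, h, ?_⟩
    simp [MulAut.conj_apply]; group

theorem conj_mem_cj {g a : G} {A : Subgroup G} (ha : a ∈ A) : g * a * g⁻¹ ∈ cj g A :=
  ⟨a, ha, by simp [MulAut.conj_apply]⟩

theorem cj_one (A : Subgroup G) : cj 1 A = A := by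
  ext x; rw [mem_cj]; simp

theorem cj_mul (g h : G) (A : Subgroup G) : cj (g * h) A = cj g (cj h A) := by
  ext x
  rw [mem_cj, mem_cj, mem_cj]
  have : (g * h)⁻¹ * x * (g * h) = h⁻¹ * (g⁻¹ * x * g) * h := by group
  rw [this]

theorem cj_inv_cj (g : G) (A : Subgroup G) : cj g⁻¹ (cj g A) = A := by
  rw [← cj_mul, inv_mul_cancel, cj_one]

theorem cj_cj_inv (g : G) (A : Subgroup G) : cj g (cj g⁻¹ A) = A := by
  rw [← cj_mul, mul_inv_cancel, cj_one]

theorem cj_mono (g : G) {A B : Subgroup G} (h : A ≤ B) : cj g A ≤ cj g B :=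
  Subgroup.map_mono h

theorem cj_injective (g : G) {A B : Subgroup G} (h : cj g A = cj g B) : A = B := by
  have := congrArg (cj g⁻¹) h
  rwa [cj_inv_cj, cj_inv_cj] at this

theorem cj_commutator (g : G) (A B : Subgroup G) : cj g ⁅A, B⁆ = ⁅cj g A, cj g B⁆ :=
  Subgroup.map_commutator A B _

theorem cj_bot (g : G) : cj g (⊥ : Subgroup G) = ⊥ := Subgroup.map_bot _

theorem cj_inf (g : G) (A B : Subgroup G) : cj g (A ⊓ B) = cj g A ⊓ cj g B :=
  Subgroup.map_inf A B _ (MulAut.conj g).injective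

theorem cj_eq_self {g : G} {A : Subgroup G} (hg : g ∈ Subgroup.normalizer (A : Set G)) :
    cj g A = A := by
  ext x
  rw [mem_cj]
  have h := (Subgroup.mem_normalizer_iff.1 (Subgroup.inv_mem _ hg) x)
  rw [inv_inv] at h
  exact h.symm

theorem mem_normalizer_of_cj_eq {g : G} {A : Subgroup G} (h : cj g A = A) :
    g ∈ Subgroup.normalizer (A : Set G) := by
  rw [Subgroup.mem_normalizer_iff]
  intro x
  constructor
  · intro hx
    rw [← h]; exact conj_mem_cj hx
  · intro hx
    rw [← h, mem_cj] at hx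
    have : g⁻¹ * (g * x * g⁻¹) * g = x := by group
    rwa [this] at hx

theorem card_cj (g : G) (A : Subgroup G) : Nat.card (cj g A) = Nat.card A :=
  Subgroup.card_map_of_injective (MulAut.conj g).injective

theorem cj_le_of_mem {g : G} {A E : Subgroup G} (hAE : A ≤ E) (hg : g ∈ E) : cj g A ≤ E := by
  rintro _ ⟨a, ha, rfl⟩
  simp only [MulEquiv.coe_toMonoidHom, MulAut.conj_apply]
  exact E.mul_mem (E.mul_mem hg (hAE ha)) (E.inv_mem hg)

theorem cj_le_normalizer (g : G) {A B : Subgroup G}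
    (h : A ≤ Subgroup.normalizer (B : Set G)) :
    cj g A ≤ Subgroup.normalizer ((cj g B : Subgroup G) : Set G) := by
  intro x hx
  rw [mem_cj] at hx
  apply mem_normalizer_of_cj_eq
  have h1 := cj_eq_self (h hx)
  have h2 : x = g * (g⁻¹ * x * g) * g⁻¹ := by group
  rw [h2, cj_mul, cj_mul, cj_inv_cj, h1]

theorem cj_le_centralizer (g : G) {A B : Subgroup G}
    (h : A ≤ Subgroup.centralizer (B : Set G)) :
    cj g A ≤ Subgroup.centralizer ((cj g B : Subgroup G) : Set G) := by
  rw [← Subgroup.commutator_eq_bot_iff_le_centralizer] at h ⊢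
  rw [← cj_commutator, h, cj_bot]

/-- Relative subnormality. -/
def SN (A E : Subgroup G) : Prop := (A.subgroupOf E).IsSubnormal

theorem SN.of_le {A E F : Subgroup G} (h : SN A E) (hFE : F ≤ E) : SN A F := by
  have h1 := Subgroup.IsSubnormal.comap (Subgroup.inclusion hFE) h
  have h2 : (A.subgroupOf E).comap (Subgroup.inclusion hFE) = A.subgroupOf F := by
    ext x
    rw [Subgroup.mem_comap, Subgroup.mem_subgroupOf, Subgroup.mem_subgroupOf]
    rfl
  rw [h2] at h1
  exact h1

theorem SN.trans {A E F : Subgroup G} (hAF : A ≤ F) (hFE : F ≤ E) (h1 : SN A F)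
    (h2 : SN F E) : SN A E := by
  have hle : A.subgroupOf E ≤ F.subgroupOf E := by
    intro x hx
    rw [Subgroup.mem_subgroupOf] at hx ⊢
    exact hAF hx
  refine Subgroup.IsSubnormal.trans hle ?_ h2
  let φ : ↥(F.subgroupOf E) →* ↥F :=
    { toFun := fun x => ⟨((x : ↥E) : G), Subgroup.mem_subgroupOf.1 x.2⟩
      map_one' := rfl
      map_mul' := fun _ _ => rfl }
  have h3 := Subgroup.IsSubnormal.comap φ h1
  have h4 : (A.subgroupOf F).comap φ = (A.subgroupOf E).subgroupOf (F.subgroupOf E) := by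
    ext x
    rw [Subgroup.mem_comap, Subgroup.mem_subgroupOf, Subgroup.mem_subgroupOf,
      Subgroup.mem_subgroupOf]
    rfl
  rw [h4] at h3
  exact h3

theorem SN.conj {A E : Subgroup G} (h : SN A E) {g : G} (hg : g ∈ E) : SN (cj g A) E := by
  have h1 := Subgroup.IsSubnormal.map
    (f := (MulAut.conj (⟨g, hg⟩ : ↥E)).toMonoidHom) (MulAut.conj (⟨g, hg⟩ : ↥E)).surjective h
  have h2 : (A.subgroupOf E).map (MulAut.conj (⟨g, hg⟩ : ↥E)).toMonoidHom =
      (cj g A).subgroupOf E := by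
    ext y
    rw [Subgroup.mem_subgroupOf, mem_cj]
    constructor
    · rintro ⟨a, ha, rfl⟩
      rw [SetLike.mem_coe, Subgroup.mem_subgroupOf] at ha
      have : g⁻¹ * (((MulAut.conj (⟨g, hg⟩ : ↥E)).toMonoidHom a : ↥E) : G) * g = (a : G) := by
        simp [MulAut.conj_apply]; group
      rw [this]; exact ha
    · intro hy
      refine ⟨⟨g, hg⟩⁻¹ * y * ⟨g, hg⟩, ?_, ?_⟩
      · rw [SetLike.mem_coe, Subgroup.mem_subgroupOf]
        exact hy
      · simp [MulAut.conj_apply]; group
  unfold SN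
  rw [← h2]
  exact h1

theorem SN.sup [Finite G] {A B E : Subgroup G} (hA : A ≤ E) (hB : B ≤ E) (h1 : SN A E)
    (h2 : SN B E) : SN (A ⊔ B) E := by
  unfold SN
  rw [Subgroup.subgroupOf_sup hA hB]
  exact isSubnormal_sup_aux _ ↥E rfl _ _ h1 h2

theorem SN.of_normal {A E : Subgroup G} (hAE : A ≤ E)
    (hn : E ≤ Subgroup.normalizer (A : Set G)) : SN A E :=
  ((Subgroup.normal_subgroupOf_iff_le_normalizer hAE).2 hn).isSubnormal

/-- No nontrivial subnormal `p`-subgroups. -/
def NoSubP (p : ℕ) (E : Subgroup G) : Prop :=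
  ∀ P : Subgroup G, P ≤ E → IsPGroup p P → SN P E → P = ⊥

theorem NoSubP.of_sn {p : ℕ} {E F : Subgroup G} (h : NoSubP p E) (hFE : F ≤ E) (hF : SN F E) :
    NoSubP p F :=
  fun P hPF hP hsn => h P (hPF.trans hFE) hP (SN.trans hPF hFE hsn hF)

theorem noSubP_of_pCore_eq_bot {p : ℕ} [Fact p.Prime] {E : Subgroup G}
    (h : Cfsg.pCore p ↥E = ⊥) : NoSubP p E := by
  intro P hPE hP hsn
  have h1 := Cfsg.Agent.Helper4.SubnormalPRad.le_pCore_of_isSubnormal p hsn (hP.comap_subtype)
  rw [h, le_bot_iff, Subgroup.subgroupOf_eq_bot] at h1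
  exact (disjoint_iff.1 h1) ▸ (inf_eq_left.2 hPE).symm

theorem NoSubP.pCore_eq_bot {p : ℕ} [Fact p.Prime] {E : Subgroup G} (h : NoSubP p E) :
    Cfsg.pCore p ↥E = ⊥ := by
  have h1 : (Cfsg.pCore p ↥E).map E.subtype = ⊥ := by
    apply h _ (Subgroup.map_subtype_le _)
      ((Cfsg.Agent.Helper1.pCore_isPGroup p).map _)
    unfold SN
    rw [Subgroup.subgroupOf, Subgroup.comap_map_eq_self_of_injective E.subtype_injective]
    haveI := Cfsg.Agent.Helper4.SubnormalPRad.pCore_char p ↥E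
    exact (Subgroup.normal_of_characteristic (Cfsg.pCore p ↥E)).isSubnormal
  rwa [Subgroup.map_eq_bot_iff_of_injective _ E.subtype_injective] at h1

/-- A faithful subgroup of the stability group of `1 ≤ W ≤ V` is a `p`-group. -/
theorem isPGroup_of_le_chainStabilizer {p : ℕ} [Fact p.Prime] {V W K : Subgroup G}
    (hV : Cfsg.IsElementaryAbelian p V) (hWV : W ≤ V) (hK : K ≤ chainStabilizer V W)
    (hf : K ⊓ Subgroup.centralizer (V : Set G) = ⊥) : IsPGroup p K := by
  have hDp : ∀ d ∈ K, d ^ p = 1 := by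
    intro d hd
    have hdT := hK hd
    have hcent : d ^ p ∈ K ⊓ Subgroup.centralizer (V : Set G) := by
      refine ⟨K.pow_mem hd p, ?_⟩
      show d ^ p ∈ Subgroup.centralizer (V : Set G)
      rw [Subgroup.mem_centralizer_iff]
      intro v hv
      have h1 := chainStabilizer_pow hdT hv p
      have h2 : (d * v * d⁻¹ * v⁻¹) ^ p = 1 := hV.2 _ (hWV (hdT.2 v hv))
      rw [h2, one_mul] at h1
      calc v * d ^ p = (d ^ p * v * (d ^ p)⁻¹) * d ^ p := by rw [h1]
        _ = d ^ p * v := by group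
    rw [hf, Subgroup.mem_bot] at hcent
    exact hcent
  intro d
  refine ⟨1, ?_⟩
  rw [pow_one]
  apply Subtype.ext
  rw [Subgroup.coe_pow, Subgroup.coe_one]
  exact hDp d d.2

end Cfsg.Agent.Helper1.SubIrr
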