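import Mathlib
import Cfsg.Prelude.Def_PLocal
import Cfsg.Agent.Helper1.SubIrr1
import Cfsg.Agent.Helper1.FFact1
import Cfsg.Agent.Helper1.PQLemma

set_option autoImplicit false

/-!
Two subnormal subgroups acting irreducibly on their (incomparable) commutator modules: the
hypotheses, first consequences, and the inductive statement for pairs of conjugates.
-/

namespace Cfsg.Agent.Helper1.SubIrr

open scoped commutatorElement

open Cfsg.Agent.Helper1 Cfsg.Agent.Helper1.FFact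

universe u

variable {G : Type u} [Group G]

/-- The hypotheses of the theorem, in a form stable under passing to subnormal subgroups. -/
structure Hy (p : ℕ) (V E E₁ E₂ : Subgroup G) : Prop where
  hEV : E ≤ Subgroup.normalizer (V : Set G)
  hf : E ⊓ Subgroup.centralizer (V : Set G) = ⊥
  hgen : E = E₁ ⊔ E₂
  hs₁ : SN E₁ E
  hs₂ : SN E₂ E
  hOp : NoSubP p E
  hirr₁ : ∀ U : Subgroup G, U ≤ ⁅V, E₁⁆ → E₁ ≤ Subgroup.normalizer (U : Set G) →
    U = ⊥ ∨ U = ⁅V, E₁⁆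
  hirr₂ : ∀ U : Subgroup G, U ≤ ⁅V, E₂⁆ → E₂ ≤ Subgroup.normalizer (U : Set G) →
    U = ⊥ ∨ U = ⁅V, E₂⁆
  h12 : ¬ ⁅V, E₁⁆ ≤ ⁅V, E₂⁆
  h21 : ¬ ⁅V, E₂⁆ ≤ ⁅V, E₁⁆
  hc₁ : 2 < Nat.card E₁
  hc₂ : 2 < Nat.card E₂

namespace Hy

variable {p : ℕ} {V E E₁ E₂ : Subgroup G}

theorem symm (h : Hy p V E E₁ E₂) : Hy p V E E₂ E₁ :=
  ⟨h.hEV, h.hf, by rw [sup_comm]; exact h.hgen, h.hs₂, h.hs₁, h.hOp, h.hirr₂, h.hirr₁, h.h21,
    h.h12, h.hc₂, h.hc₁⟩

theorem le₁ (h : Hy p V E E₁ E₂) : E₁ ≤ E := by rw [h.hgen]; exact le_sup_left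

theorem le₂ (h : Hy p V E E₁ E₂) : E₂ ≤ E := by rw [h.hgen]; exact le_sup_right

theorem comm_le (h : Hy p V E E₁ E₂) : ⁅V, E₁⁆ ≤ V :=
  Subgroup.le_normalizer_iff_commutator_le_left.1 (h.le₁.trans h.hEV)

theorem le_normalizer_comm (_h : Hy p V E E₁ E₂) :
    E₁ ≤ Subgroup.normalizer ((⁅V, E₁⁆ : Subgroup G) : Set G) :=
  Subgroup.normalizer_commutator_ge_right V E₁

/-- `E₁` does not centralize `[V, E₁]`. -/
theorem not_le_centralizer [Fact p.Prime] (hV : Cfsg.IsElementaryAbelian p V)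
    (h : Hy p V E E₁ E₂) :
    ¬ E₁ ≤ Subgroup.centralizer ((⁅V, E₁⁆ : Subgroup G) : Set G) := by
  intro hc
  have hK : E₁ ≤ chainStabilizer V ⁅V, E₁⁆ := by
    intro e he
    refine ⟨hc he, fun v hv => ?_⟩
    have h1 : ⁅e, v⁆ ∈ ⁅E₁, V⁆ := Subgroup.commutator_mem_commutator he hv
    rw [Subgroup.commutator_comm, commutatorElement_def] at h1
    exact h1
  have hf : E₁ ⊓ Subgroup.centralizer (V : Set G) = ⊥ := by
    rw [eq_bot_iff, ← h.hf]; exact inf_le_inf_right _ h.le₁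
  have hp := isPGroup_of_le_chainStabilizer hV h.comm_le hK hf
  have h1 := h.hOp E₁ h.le₁ hp h.hs₁
  have h2 := h.hc₁
  rw [h1, Subgroup.card_bot] at h2
  omega

/-- `C_{[V, E₁]}(E₁) = 1`. -/
theorem inf_centralizer_eq_bot [Fact p.Prime] (hV : Cfsg.IsElementaryAbelian p V)
    (h : Hy p V E E₁ E₂) :
    ⁅V, E₁⁆ ⊓ Subgroup.centralizer (E₁ : Set G) = ⊥ := by
  have hn : E₁ ≤ Subgroup.normalizer ((⁅V, E₁⁆ ⊓ Subgroup.centralizer (E₁ : Set G) :
      Subgroup G) : Set G) :=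
    le_normalizer_inf h.le_normalizer_comm (le_normalizer_centralizer Subgroup.le_normalizer)
  rcases h.hirr₁ _ inf_le_left hn with h1 | h1
  · exact h1
  · exfalso
    apply h.not_le_centralizer hV
    rw [Subgroup.le_centralizer_iff]
    rw [← h1]; exact inf_le_right

theorem ne_self (h : Hy p V E E₁ E₂) : E₁ ≠ E := by
  intro heq
  apply h.h21
  apply Subgroup.commutator_mono le_rfl
  rw [heq]; exact h.le₂

/-- All conjugates of `E₁` lie in a proper subgroup. -/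
theorem exists_proper (h : Hy p V E E₁ E₂) :
    ∃ K : Subgroup G, K ≤ E ∧ K ≠ E ∧ ∀ g ∈ E, cj g E₁ ≤ K := by
  have hne : E₁.subgroupOf E ≠ ⊤ := by
    intro htop
    rw [Subgroup.subgroupOf_eq_top] at htop
    exact h.ne_self (le_antisymm h.le₁ htop)
  obtain ⟨K, hKn, hEK, hKtop⟩ :=
    Subgroup.IsSubnormal.exists_normal_and_le_and_lt_top_of_ne h.hs₁ hne
  refine ⟨K.map E.subtype, Subgroup.map_subtype_le _, ?_, ?_⟩
  · intro heq
    apply hKtop.ne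
    rw [eq_top_iff]
    intro e _
    have he : (e : G) ∈ K.map E.subtype := by rw [heq]; exact e.2
    obtain ⟨k, hk, hke⟩ := he
    have : k = e := Subtype.ext hke
    rw [← this]; exact hk
  · intro g hg x hx
    rw [mem_cj] at hx
    have hxE : g⁻¹ * x * g ∈ E := h.le₁ hx
    have h1 : (⟨g⁻¹ * x * g, hxE⟩ : ↥E) ∈ K := hEK (Subgroup.mem_subgroupOf.2 hx)
    have h2 := hKn.conj_mem _ h1 ⟨g, hg⟩
    refine ⟨_, h2, ?_⟩
    simp only [Subgroup.coe_subtype, Subgroup.coe_mul, Subgroup.coe_inv]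
    group

/-- The inductive statement applied to two conjugates of `E₁` with different commutators. -/
theorem conj_pair [Finite G] [Fact p.Prime] (h : Hy p V E E₁ E₂)
    (IH : ∀ F D D' : Subgroup G, Nat.card F < Nat.card E → Hy p V F D D' → ⁅⁅V, D⁆, D'⁆ = ⊥)
    {g g' : G} (hg : g ∈ E) (hg' : g' ∈ E) (hne : cj g ⁅V, E₁⁆ ≠ cj g' ⁅V, E₁⁆) :
    ⁅cj g ⁅V, E₁⁆, cj g' E₁⁆ = ⊥ := by
  have hcjW : ∀ k ∈ E, cj k ⁅V, E₁⁆ = ⁅V, cj k E₁⁆ := by
    intro k hk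
    rw [cj_commutator, cj_eq_self (h.hEV hk)]
  obtain ⟨K, hKE, hKne, hK⟩ := h.exists_proper
  set D := cj g E₁ with hD
  set D' := cj g' E₁ with hD'
  have hDE : D ≤ E := cj_le_of_mem h.le₁ hg
  have hD'E : D' ≤ E := cj_le_of_mem h.le₁ hg'
  have hFE : D ⊔ D' ≤ E := sup_le hDE hD'E
  have hFK : D ⊔ D' ≤ K := sup_le (hK g hg) (hK g' hg')
  have hcard : Nat.card ↥(D ⊔ D') < Nat.card ↥E := by
    by_contra hge
    push Not at hge
    apply hKne
    exact Subgroup.eq_of_le_of_card_ge hKE (hge.trans (Subgroup.card_le_of_le hFK))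
  have hirr : ∀ k ∈ E, ∀ U : Subgroup G, U ≤ ⁅V, cj k E₁⁆ →
      cj k E₁ ≤ Subgroup.normalizer (U : Set G) → U = ⊥ ∨ U = ⁅V, cj k E₁⁆ := by
    intro k hk U hU hn
    have h1 : cj k⁻¹ U ≤ ⁅V, E₁⁆ := by
      have := cj_mono k⁻¹ hU
      rwa [← hcjW k hk, cj_inv_cj] at this
    have h2 : E₁ ≤ Subgroup.normalizer ((cj k⁻¹ U : Subgroup G) : Set G) := by
      have := cj_le_normalizer k⁻¹ hn
      rwa [cj_inv_cj] at this
    rcases h.hirr₁ _ h1 h2 with h3 | h3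
    · left
      have := congrArg (cj k) h3
      rwa [cj_cj_inv, cj_bot] at this
    · right
      have := congrArg (cj k) h3
      rwa [cj_cj_inv, hcjW k hk] at this
  have hnle : ∀ k k' : G, k ∈ E → k' ∈ E → cj k ⁅V, E₁⁆ ≠ cj k' ⁅V, E₁⁆ →
      ¬ ⁅V, cj k E₁⁆ ≤ ⁅V, cj k' E₁⁆ := by
    intro k k' hk hk' hne' hle
    apply hne'
    rw [← hcjW k hk, ← hcjW k' hk'] at hle
    apply Subgroup.eq_of_le_of_card_ge hle
    rw [card_cj, card_cj]
  have hF : Hy p V (D ⊔ D') D D' :=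
    { hEV := hFE.trans h.hEV
      hf := by rw [eq_bot_iff, ← h.hf]; exact inf_le_inf_right _ hFE
      hgen := rfl
      hs₁ := (h.hs₁.conj hg).of_le hFE
      hs₂ := (h.hs₁.conj hg').of_le hFE
      hOp := h.hOp.of_sn hFE (SN.sup hDE hD'E (h.hs₁.conj hg) (h.hs₁.conj hg'))
      hirr₁ := hirr g hg
      hirr₂ := hirr g' hg'
      h12 := hnle g g' hg hg' hne
      h21 := hnle g' g hg' hg hne.symm
      hc₁ := by rw [hD, card_cj]; exact h.hc₁
      hc₂ := by rw [hD', card_cj]; exact h.hc₁ }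
  have := IH _ _ _ hcard hF
  rwa [← hcjW g hg] at this

end Hy

end Cfsg.Agent.Helper1.SubIrr
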