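import Mathlib
import Cfsg.Prelude.Def_PLocal
import Cfsg.Agent.Helper1.SubIrr2
import Cfsg.Agent.Helper2.Signalizer1

set_option autoImplicit false

/-!
Two subnormal subgroups acting irreducibly on their (incomparable) commutator modules: an element
of `E₂` moving `[V, E₁]`.
-/

namespace Cfsg.Agent.Helper1.SubIrr

open scoped commutatorElement

open Cfsg.Agent.Helper1 Cfsg.Agent.Helper1.FFact

universe u

variable {G : Type u} [Group G]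

namespace Hy

variable {p : ℕ} {V E E₁ E₂ : Subgroup G}

/-- If `E₂` normalizes `[V, E₁]` then it centralizes it. -/
theorem comm_eq_bot_of_le_normalizer (h : Hy p V E E₁ E₂)
    (hx : E₂ ≤ Subgroup.normalizer ((⁅V, E₁⁆ : Subgroup G) : Set G)) :
    ⁅⁅V, E₁⁆, E₂⁆ = ⊥ := by
  have h1 : ⁅⁅V, E₁⁆, E₂⁆ ≤ ⁅V, E₁⁆ ⊓ ⁅V, E₂⁆ :=
    le_inf (Subgroup.le_normalizer_iff_commutator_le_left.1 hx)
      (Subgroup.commutator_mono h.comm_le le_rfl)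
  have hn : E₂ ≤ Subgroup.normalizer ((⁅V, E₁⁆ ⊓ ⁅V, E₂⁆ : Subgroup G) : Set G) :=
    le_normalizer_inf hx h.symm.le_normalizer_comm
  rcases h.hirr₂ _ inf_le_right hn with h2 | h2
  · rw [eq_bot_iff, ← h2]; exact h1
  · exfalso
    apply h.h21
    rw [← h2]; exact inf_le_left

variable [Finite G] [hp : Fact p.Prime]

/-- the intersection of `[V, E₁]` with a different conjugate is trivial -/
theorem inf_cj_eq_bot (hV : Cfsg.IsElementaryAbelian p V) (h : Hy p V E E₁ E₂)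
    (IH : ∀ F D D' : Subgroup G, Nat.card F < Nat.card E → Hy p V F D D' → ⁅⁅V, D⁆, D'⁆ = ⊥)
    {z : G} (hz : z ∈ E) (hzn : z ∉ Subgroup.normalizer ((⁅V, E₁⁆ : Subgroup G) : Set G)) :
    ⁅V, E₁⁆ ⊓ cj z ⁅V, E₁⁆ = ⊥ := by
  have hne : cj z ⁅V, E₁⁆ ≠ cj 1 ⁅V, E₁⁆ := by
    rw [cj_one]
    intro heq
    exact hzn (mem_normalizer_of_cj_eq heq)
  have h1 := h.conj_pair IH hz E.one_mem hne
  rw [cj_one, Subgroup.commutator_eq_bot_iff_le_centralizer] at h1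
  rw [eq_bot_iff, ← h.inf_centralizer_eq_bot hV]
  exact le_inf inf_le_left (inf_le_right.trans h1)

/-- `w ↦ [w, z]` is injective on `[V, E₁]` when `z` moves `[V, E₁]`. -/
theorem comm_injective (hV : Cfsg.IsElementaryAbelian p V) (h : Hy p V E E₁ E₂)
    (IH : ∀ F D D' : Subgroup G, Nat.card F < Nat.card E → Hy p V F D D' → ⁅⁅V, D⁆, D'⁆ = ⊥)
    {z : G} (hz : z ∈ E) (hzn : z ∉ Subgroup.normalizer ((⁅V, E₁⁆ : Subgroup G) : Set G))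
    {w w' : G} (hw : w ∈ ⁅V, E₁⁆) (hw' : w' ∈ ⁅V, E₁⁆) (heq : ⁅w, z⁆ = ⁅w', z⁆) : w = w' := by
  have hinf := h.inf_cj_eq_bot hV IH hz hzn
  have h1 : z * (w'⁻¹ * w) * z⁻¹ = w'⁻¹ * w := by
    rw [commutatorElement_def, commutatorElement_def] at heq
    have h2 : w * z * w⁻¹ = w' * z * w'⁻¹ := by
      have := congrArg (· * z) heq
      simpa using this
    have h3 : w'⁻¹ * w * z = z * (w'⁻¹ * w) := by
      calc w'⁻¹ * w * z = w'⁻¹ * (w * z * w⁻¹) * w := by group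
        _ = w'⁻¹ * (w' * z * w'⁻¹) * w := by rw [h2]
        _ = z * (w'⁻¹ * w) := by group
    rw [← h3]; group
  have hu : w'⁻¹ * w ∈ ⁅V, E₁⁆ := Subgroup.mul_mem _ (Subgroup.inv_mem _ hw') hw
  have hu' : w'⁻¹ * w ∈ cj z ⁅V, E₁⁆ := by
    rw [← h1]; exact conj_mem_cj hu
  have : w'⁻¹ * w ∈ ⁅V, E₁⁆ ⊓ cj z ⁅V, E₁⁆ := ⟨hu, hu'⟩
  rw [hinf, Subgroup.mem_bot] at this
  calc w = w' * (w'⁻¹ * w) := by group
    _ = w' := by rw [this, mul_one]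

theorem card_le_of_moves (hV : Cfsg.IsElementaryAbelian p V) (h : Hy p V E E₁ E₂)
    (IH : ∀ F D D' : Subgroup G, Nat.card F < Nat.card E → Hy p V F D D' → ⁅⁅V, D⁆, D'⁆ = ⊥)
    {z : G} (hz : z ∈ E₂) (hzn : z ∉ Subgroup.normalizer ((⁅V, E₁⁆ : Subgroup G) : Set G)) :
    Nat.card ↥(⁅V, E₁⁆) ≤ Nat.card ↥(⁅V, E₂⁆) := by
  let f : ↥(⁅V, E₁⁆) → ↥(⁅V, E₂⁆) := fun w =>
    ⟨⁅(w : G), z⁆, Subgroup.commutator_mem_commutator (h.comm_le w.2) hz⟩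
  apply Nat.card_le_card_of_injective f
  intro w w' hww'
  apply Subtype.ext
  exact h.comm_injective hV IH (h.le₂ hz) hzn w.2 w'.2 (congrArg Subtype.val hww')

theorem comm_surjective (hV : Cfsg.IsElementaryAbelian p V) (h : Hy p V E E₁ E₂)
    (IH : ∀ F D D' : Subgroup G, Nat.card F < Nat.card E → Hy p V F D D' → ⁅⁅V, D⁆, D'⁆ = ⊥)
    (hcard : Nat.card ↥(⁅V, E₂⁆) ≤ Nat.card ↥(⁅V, E₁⁆))
    {z : G} (hz : z ∈ E₂) (hzn : z ∉ Subgroup.normalizer ((⁅V, E₁⁆ : Subgroup G) : Set G))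
    {u : G} (hu : u ∈ ⁅V, E₂⁆) : ∃ w ∈ ⁅V, E₁⁆, u = ⁅w, z⁆ := by
  let f : ↥(⁅V, E₁⁆) → ↥(⁅V, E₂⁆) := fun w =>
    ⟨⁅(w : G), z⁆, Subgroup.commutator_mem_commutator (h.comm_le w.2) hz⟩
  have hinj : Function.Injective f := by
    intro w w' hww'
    apply Subtype.ext
    exact h.comm_injective hV IH (h.le₂ hz) hzn w.2 w'.2 (congrArg Subtype.val hww')
  have hbij := hinj.bijective_of_nat_card_le hcard
  obtain ⟨w, hw⟩ := hbij.2 ⟨u, hu⟩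
  exact ⟨w, w.2, (congrArg Subtype.val hw).symm⟩

end Hy

end Cfsg.Agent.Helper1.SubIrr
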