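import Mathlib
import Cfsg.Prelude.Def_PLocal
import Cfsg.Agent.Helper1.SubIrr3
import Cfsg.Agent.Helper1.FFact3

set_option autoImplicit false

/-!
Two subnormal subgroups acting irreducibly on their (incomparable) commutator modules commute.
-/

namespace Cfsg.Agent.Helper1.SubIrr

open scoped commutatorElement

open Cfsg.Agent.Helper1 Cfsg.Agent.Helper1.FFact

universe u

variable {G : Type u} [Group G]

namespace Hy

variable {p : ℕ} {V E E₁ E₂ : Subgroup G}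

variable [Finite G] [hp : Fact p.Prime]

set_option maxHeartbeats 3200000 in
/-- `E₂` normalizes `[V, E₁]`. -/
theorem le_normalizer (hV : Cfsg.IsElementaryAbelian p V) (h : Hy p V E E₁ E₂)
    (IH : ∀ F D D' : Subgroup G, Nat.card F < Nat.card E → Hy p V F D D' → ⁅⁅V, D⁆, D'⁆ = ⊥) :
    E₂ ≤ Subgroup.normalizer ((⁅V, E₁⁆ : Subgroup G) : Set G) := by
  by_contra hx
  obtain ⟨x, hxE₂, hxn⟩ : ∃ x ∈ E₂, x ∉ Subgroup.normalizer ((⁅V, E₁⁆ : Subgroup G) : Set G) := by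
    by_contra hcon
    push Not at hcon
    exact hx hcon
  by_cases hy : E₁ ≤ Subgroup.normalizer ((⁅V, E₂⁆ : Subgroup G) : Set G)
  · have h1 := h.symm.comm_eq_bot_of_le_normalizer hy
    have h2 := commutator_le_pCore_of_subnormal V E hV h.hEV h.hf E₂ E₁ h.le₂ h.le₁ h.hs₂ h.hs₁ h1
    rw [h.hOp.pCore_eq_bot, Subgroup.map_bot, le_bot_iff] at h2
    have h3 : E₂ ≤ Subgroup.centralizer (E₁ : Set G) :=
      Subgroup.commutator_eq_bot_iff_le_centralizer.1 h2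
    apply hx
    exact le_normalizer_commutator (h.le₂.trans h.hEV)
      (h3.trans (Subgroup.centralizer_le_normalizer _))
  obtain ⟨y, hyE₁, hyn⟩ : ∃ y ∈ E₁, y ∉ Subgroup.normalizer ((⁅V, E₂⁆ : Subgroup G) : Set G) := by
    by_contra hcon
    push Not at hcon
    exact hy hcon
  set W₁ := ⁅V, E₁⁆ with hW₁
  set W₂ := ⁅V, E₂⁆ with hW₂
  have hW₁V : W₁ ≤ V := h.comm_le
  have hW₂V : W₂ ≤ V := h.symm.comm_le
  have hc12 : Nat.card ↥W₁ ≤ Nat.card ↥W₂ := h.card_le_of_moves hV IH hxE₂ hxn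
  have hc21 : Nat.card ↥W₂ ≤ Nat.card ↥W₁ := h.symm.card_le_of_moves hV IH hyE₁ hyn
  have hsurj : ∀ z ∈ E₂, z ∉ Subgroup.normalizer (W₁ : Set G) → ∀ u ∈ W₂,
      ∃ w ∈ W₁, u = ⁅w, z⁆ := fun z hz hzn u hu => h.comm_surjective hV IH hc21 hz hzn hu
  have hxE : x ∈ E := h.le₂ hxE₂
  have hcjx : cj x W₁ ≠ W₁ := fun heq => hxn (mem_normalizer_of_cj_eq heq)
  -- the orbit of `W₁` under `E₂` is `{W₁, x W₁ x⁻¹}`
  have horbit : ∀ z ∈ E₂, cj z W₁ = W₁ ∨ cj z W₁ = cj x W₁ := by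
    intro z hz
    by_contra hcon
    push Not at hcon
    obtain ⟨hz1, hz2⟩ := hcon
    have hzE : z ∈ E := h.le₂ hz
    have hzn : z ∉ Subgroup.normalizer (W₁ : Set G) := fun hzn => hz1 (cj_eq_self hzn)
    have c1 : W₁ ≤ Subgroup.centralizer ((cj z E₁ : Subgroup G) : Set G) := by
      have := h.conj_pair IH E.one_mem hzE (by rw [cj_one]; exact hz1.symm)
      rw [cj_one] at this
      exact Subgroup.commutator_eq_bot_iff_le_centralizer.1 this
    have c2 : cj x W₁ ≤ Subgroup.centralizer ((cj z E₁ : Subgroup G) : Set G) := by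
      have := h.conj_pair IH hxE hzE hz2.symm
      exact Subgroup.commutator_eq_bot_iff_le_centralizer.1 this
    have c3 : W₂ ≤ Subgroup.centralizer ((cj z E₁ : Subgroup G) : Set G) := by
      intro u hu
      obtain ⟨w, hw, rfl⟩ := hsurj x hxE₂ hxn u hu
      have h1 : ⁅w, x⁆ = w * (x * w⁻¹ * x⁻¹) := by rw [commutatorElement_def]; group
      rw [h1]
      exact Subgroup.mul_mem _ (c1 hw) (c2 (conj_mem_cj (W₁.inv_mem hw)))
    have c4 : cj z W₁ ≤ Subgroup.centralizer ((cj z E₁ : Subgroup G) : Set G) := by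
      rintro _ ⟨w, hw, rfl⟩
      simp only [MulEquiv.coe_toMonoidHom, MulAut.conj_apply]
      have h1 : ⁅w, z⁆ ∈ W₂ := Subgroup.commutator_mem_commutator (hW₁V hw) hz
      have h2 : z * w * z⁻¹ = (w⁻¹ * ⁅w, z⁆)⁻¹ := by rw [commutatorElement_def]; group
      rw [h2]
      exact Subgroup.inv_mem _ (Subgroup.mul_mem _ (Subgroup.inv_mem _ (c1 hw)) (c3 h1))
    have c5 : W₁ ≤ Subgroup.centralizer (E₁ : Set G) := by
      have := cj_le_centralizer z⁻¹ c4
      rwa [cj_inv_cj, cj_inv_cj] at this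
    exact h.not_le_centralizer hV (Subgroup.le_centralizer_iff.1 c5)
  -- the kernel of the action on the orbit
  set S := E₂ ⊓ Subgroup.normalizer (W₁ : Set G) ⊓
    Subgroup.normalizer ((cj x W₁ : Subgroup G) : Set G) with hS
  have hS1 : ∀ z ∈ E₂, cj z W₁ = W₁ → z ∈ S := by
    intro z hz hzW
    refine ⟨⟨hz, mem_normalizer_of_cj_eq hzW⟩, ?_⟩
    apply mem_normalizer_of_cj_eq
    rcases horbit (z * x) (E₂.mul_mem hz hxE₂) with h1 | h1
    · exfalso
      rw [cj_mul] at h1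
      exact hcjx (cj_injective z (h1.trans hzW.symm))
    · rw [cj_mul] at h1
      exact h1
  have hS2 : ∀ z ∈ E₂, z ∈ S ∨ x⁻¹ * z ∈ S := by
    intro z hz
    rcases horbit z hz with h1 | h1
    · exact Or.inl (hS1 z hz h1)
    · right
      apply hS1 _ (E₂.mul_mem (E₂.inv_mem hxE₂) hz)
      rw [cj_mul, h1, cj_inv_cj]
  have hSE₂ : S ≤ E₂ := inf_le_left.trans inf_le_left
  have hSn : E₂ ≤ Subgroup.normalizer (S : Set G) := by
    apply Cfsg.Agent.Helper2.le_normalizer_of_conj_mem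
    intro e he z hz
    apply hS1 _ (E₂.mul_mem (E₂.mul_mem he (hSE₂ hz)) (E₂.inv_mem he))
    have hzW₁ : cj z W₁ = W₁ := cj_eq_self hz.1.2
    have hzW₁' : cj z (cj x W₁) = cj x W₁ := cj_eq_self hz.2
    rw [cj_mul, cj_mul]
    rcases horbit e⁻¹ (E₂.inv_mem he) with h1 | h1
    · rw [h1, hzW₁]
      have := congrArg (cj e) h1
      rw [cj_cj_inv] at this
      exact this.symm
    · rw [h1, hzW₁']
      have := congrArg (cj e) h1
      rw [cj_cj_inv] at this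
      exact this.symm
  -- `S` centralizes `W₂`
  have hinf := h.inf_cj_eq_bot hV IH hxE hxn
  have hdecomp : ∀ u ∈ W₂, ∃ w ∈ W₁, u = w * (x * w⁻¹ * x⁻¹) := by
    intro u hu
    obtain ⟨w, hw, rfl⟩ := hsurj x hxE₂ hxn u hu
    exact ⟨w, hw, by rw [commutatorElement_def]; group⟩
  have i1 : W₁ ⊓ W₂ = ⊥ := by
    rw [eq_bot_iff]
    rintro u ⟨hu1, hu2⟩
    obtain ⟨w, hw, rfl⟩ := hdecomp u hu2
    have h1 : x * w⁻¹ * x⁻¹ ∈ W₁ ⊓ cj x W₁ := by
      refine ⟨?_, conj_mem_cj (W₁.inv_mem hw)⟩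
      have : x * w⁻¹ * x⁻¹ = w⁻¹ * (w * (x * w⁻¹ * x⁻¹)) := by group
      rw [this]; exact W₁.mul_mem (W₁.inv_mem hw) hu1
    rw [hinf, Subgroup.mem_bot] at h1
    have h2 : w = 1 := by
      have : w⁻¹ = x⁻¹ * (x * w⁻¹ * x⁻¹) * x := by group
      rw [h1] at this
      simpa using this
    rw [Subgroup.mem_bot, h2]; group
  have i2 : cj x W₁ ⊓ W₂ = ⊥ := by
    rw [eq_bot_iff]
    rintro u ⟨hu1, hu2⟩
    obtain ⟨w, hw, rfl⟩ := hdecomp u hu2
    have h1 : w ∈ W₁ ⊓ cj x W₁ := by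
      refine ⟨hw, ?_⟩
      have : w = (w * (x * w⁻¹ * x⁻¹)) * (x * w * x⁻¹) := by group
      rw [this]; exact Subgroup.mul_mem _ hu1 (conj_mem_cj hw)
    rw [hinf, Subgroup.mem_bot] at h1
    rw [Subgroup.mem_bot, h1]; group
  have hcent : ∀ z ∈ S, ∀ (T : Subgroup G), T ≤ V → z ∈ Subgroup.normalizer (T : Set G) →
      T ⊓ W₂ = ⊥ → ∀ t ∈ T, z * t = t * z := by
    intro z hz T hTV hzT hTW t ht
    have h1 : ⁅t, z⁆ ∈ W₂ := Subgroup.commutator_mem_commutator (hTV ht) (hSE₂ hz)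
    have h2 : ⁅t, z⁆ ∈ T := by
      rw [commutatorElement_def]
      have : t * z * t⁻¹ * z⁻¹ = t * (z * t⁻¹ * z⁻¹) := by group
      rw [this]
      exact T.mul_mem ht ((Subgroup.mem_normalizer_iff.1 hzT _).1 (T.inv_mem ht))
    have h3 : ⁅t, z⁆ ∈ T ⊓ W₂ := ⟨h2, h1⟩
    rw [hTW, Subgroup.mem_bot, commutatorElement_eq_one_iff_mul_comm] at h3
    exact h3.symm
  have hSW₂ : S ≤ Subgroup.centralizer (W₂ : Set G) := by
    intro z hz
    rw [Subgroup.mem_centralizer_iff]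
    intro u hu
    obtain ⟨w, hw, rfl⟩ := hdecomp u hu
    have h1 := hcent z hz W₁ hW₁V hz.1.2 i1 w hw
    have hcjV : cj x W₁ ≤ V := by
      have := cj_mono x hW₁V
      rwa [cj_eq_self (h.hEV hxE)] at this
    have h2 := hcent z hz (cj x W₁) hcjV hz.2 i2 _ (conj_mem_cj (W₁.inv_mem hw))
    calc w * (x * w⁻¹ * x⁻¹) * z = w * ((x * w⁻¹ * x⁻¹) * z) := by group
      _ = w * (z * (x * w⁻¹ * x⁻¹)) := by rw [h2]
      _ = (w * z) * (x * w⁻¹ * x⁻¹) := by group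
      _ = (z * w) * (x * w⁻¹ * x⁻¹) := by rw [h1]
      _ = z * (w * (x * w⁻¹ * x⁻¹)) := by group
  have hSK : S ≤ chainStabilizer V W₂ := by
    intro z hz
    refine ⟨hSW₂ hz, fun v hv => ?_⟩
    have h1 : ⁅z, v⁆ ∈ ⁅E₂, V⁆ := Subgroup.commutator_mem_commutator (hSE₂ hz) hv
    rw [Subgroup.commutator_comm, commutatorElement_def] at h1
    exact h1
  have hSf : S ⊓ Subgroup.centralizer (V : Set G) = ⊥ := by
    rw [eq_bot_iff, ← h.hf]; exact inf_le_inf_right _ (hSE₂.trans h.le₂)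
  have hSp : IsPGroup p S := isPGroup_of_le_chainStabilizer hV hW₂V hSK hSf
  have hSsn : SN S E := SN.trans hSE₂ h.le₂ (SN.of_normal hSE₂ hSn) h.hs₂
  have hSbot : S = ⊥ := h.hOp S (hSE₂.trans h.le₂) hSp hSsn
  have hE₂ : ∀ z ∈ E₂, z = 1 ∨ z = x := by
    intro z hz
    rcases hS2 z hz with h1 | h1
    · left
      rwa [hSbot, Subgroup.mem_bot] at h1
    · right
      rw [hSbot, Subgroup.mem_bot] at h1
      calc z = x * (x⁻¹ * z) := by group
        _ = x := by rw [h1, mul_one]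
  have hcard : Nat.card ↥E₂ ≤ 2 := by
    have hsub : (E₂ : Set G) ⊆ {1, x} := by
      intro z hz
      rcases hE₂ z hz with h1 | h1
      · rw [h1]; exact Set.mem_insert _ _
      · rw [h1]; exact Set.mem_insert_of_mem _ rfl
    have h1 : (E₂ : Set G).ncard ≤ ({1, x} : Set G).ncard :=
      Set.ncard_le_ncard hsub (Set.toFinite _)
    have h2 : ({1, x} : Set G).ncard ≤ 2 := by
      refine (Set.ncard_insert_le 1 {x}).trans ?_
      rw [Set.ncard_singleton]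
    have h3 : Nat.card ↥E₂ = (E₂ : Set G).ncard := Nat.card_coe_set_eq (E₂ : Set G)
    omega
  have := h.hc₂
  omega

end Hy

end Cfsg.Agent.Helper1.SubIrr
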