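import Mathlib
import Cfsg.Prelude.Def_PLocal
import Cfsg.Agent.Helper1.SubIrr4

set_option autoImplicit false

/-!
Two subnormal subgroups acting irreducibly on their (incomparable) commutator modules generate
their direct product (S0615).
-/

namespace Cfsg.Agent.Helper1.SubIrr

open scoped commutatorElement

open Cfsg.Agent.Helper1 Cfsg.Agent.Helper1.FFact

universe u

variable {G : Type u} [Group G]

theorem key_aux [Finite G] {p : ℕ} [Fact p.Prime] {V : Subgroup G}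
    (hV : Cfsg.IsElementaryAbelian p V) :
    ∀ n : ℕ, ∀ E E₁ E₂ : Subgroup G, Nat.card E = n → Hy p V E E₁ E₂ → ⁅⁅V, E₁⁆, E₂⁆ = ⊥ := by
  intro n
  induction n using Nat.strong_induction_on with
  | _ n ih =>
  intro E E₁ E₂ hn h
  have IH : ∀ F D D' : Subgroup G, Nat.card F < Nat.card E → Hy p V F D D' →
      ⁅⁅V, D⁆, D'⁆ = ⊥ := fun F D D' hlt hF => ih _ (hn ▸ hlt) F D D' rfl hF
  exact h.comm_eq_bot_of_le_normalizer (h.le_normalizer hV IH)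

/-- S0615. -/
theorem main [Finite G] {p : ℕ} [Fact p.Prime] (V E E₁ E₂ : Subgroup G)
    (hV : Cfsg.IsElementaryAbelian p V) (hEV : E ≤ Subgroup.normalizer (V : Set G))
    (hf : E ⊓ Subgroup.centralizer (V : Set G) = ⊥) (hgen : E = E₁ ⊔ E₂)
    (hs₁ : (E₁.subgroupOf E).IsSubnormal) (hs₂ : (E₂.subgroupOf E).IsSubnormal)
    (hOp : Cfsg.pCore p ↥E = ⊥)
    (hirr₁ : ∀ U : Subgroup G, U ≤ ⁅V, E₁⁆ → E₁ ≤ Subgroup.normalizer (U : Set G) →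
      U = ⊥ ∨ U = ⁅V, E₁⁆)
    (hirr₂ : ∀ U : Subgroup G, U ≤ ⁅V, E₂⁆ → E₂ ≤ Subgroup.normalizer (U : Set G) →
      U = ⊥ ∨ U = ⁅V, E₂⁆)
    (h12 : ¬ ⁅V, E₁⁆ ≤ ⁅V, E₂⁆) (h21 : ¬ ⁅V, E₂⁆ ≤ ⁅V, E₁⁆) (hc₁ : 2 < Nat.card E₁)
    (hc₂ : 2 < Nat.card E₂) :
    ⁅E₁, E₂⁆ = ⊥ ∧ E₁ ⊓ E₂ = ⊥ ∧ ⁅V, E₁⁆ ⊓ ⁅V, E₂⁆ = ⊥ ∧ ⁅V, E⁆ = ⁅V, E₁⁆ ⊔ ⁅V, E₂⁆ := by
  have h : Hy p V E E₁ E₂ :=
    ⟨hEV, hf, hgen, hs₁, hs₂, noSubP_of_pCore_eq_bot hOp, hirr₁, hirr₂, h12, h21, hc₁, hc₂⟩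
  have k1 := key_aux hV _ E E₁ E₂ rfl h
  have k2 := key_aux hV _ E E₂ E₁ rfl h.symm
  have c1 : ⁅E₁, E₂⁆ = ⊥ := by
    have := commutator_le_pCore_of_subnormal V E hV hEV hf E₁ E₂ h.le₁ h.le₂ hs₁ hs₂ k1
    rwa [hOp, Subgroup.map_bot, le_bot_iff] at this
  have c3 : ⁅V, E₁⁆ ⊓ ⁅V, E₂⁆ = ⊥ := by
    have hE₁W₂ : E₁ ≤ Subgroup.normalizer ((⁅V, E₂⁆ : Subgroup G) : Set G) :=
      (Subgroup.le_centralizer_iff.1
        (Subgroup.commutator_eq_bot_iff_le_centralizer.1 k2)).trans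
        (Subgroup.centralizer_le_normalizer _)
    rcases hirr₁ _ inf_le_left (le_normalizer_inf h.le_normalizer_comm hE₁W₂) with h1 | h1
    · exact h1
    · exfalso
      apply h12
      rw [← h1]; exact inf_le_right
  have c2 : E₁ ⊓ E₂ = ⊥ := by
    rw [eq_bot_iff, ← hf]
    rintro x ⟨hx1, hx2⟩
    refine ⟨h.le₁ hx1, ?_⟩
    show x ∈ Subgroup.centralizer (V : Set G)
    rw [Subgroup.mem_centralizer_iff]
    intro v hv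
    have h1 : ⁅v, x⁆ ∈ ⁅V, E₁⁆ ⊓ ⁅V, E₂⁆ :=
      ⟨Subgroup.commutator_mem_commutator hv hx1, Subgroup.commutator_mem_commutator hv hx2⟩
    rw [c3, Subgroup.mem_bot, commutatorElement_eq_one_iff_mul_comm] at h1
    exact h1
  refine ⟨c1, c2, c3, ?_⟩
  rw [hgen]
  exact commutator_sup (h.le₁.trans hEV) (h.le₂.trans hEV)

end Cfsg.Agent.Helper1.SubIrr
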