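import Mathlib
import Cfsg.Prelude.Def_SolvableStructure

/-!
# S3033, part A: the hypothesis `HypQ` and its inheritance

`HypQ G`: for distinct primes `p, q`, a `p`-element `x` and a `q`-element `g`,
`q ^ 2 ∤ |⟨x, g x g⁻¹⟩|`.
-/

namespace Cfsg.Agent.Helper1.SupQ

universe u v

variable {G : Type u} [Group G]

/-- the hypothesis of S3033 -/
def HypQ (G : Type u) [Group G] : Prop :=
  ∀ (p q : ℕ), p.Prime → q.Prime → p ≠ q → ∀ (x g : G), (∃ a : ℕ, orderOf x = p ^ a) →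
    (∃ b : ℕ, orderOf g = q ^ b) →
      ¬ q ^ 2 ∣ Nat.card ↥(Subgroup.zpowers x ⊔ Subgroup.zpowers (g * x * g⁻¹))

/-- lifting an element of prime power order through a surjection of finite groups -/
theorem exists_prime_pow_lift [Finite G] {G' : Type v} [Group G'] (f : G →* G')
    (hf : Function.Surjective f) {q : ℕ} (hq : q.Prime) (y : G')
    (hy : ∃ b : ℕ, orderOf y = q ^ b) :
    ∃ x : G, f x = y ∧ ∃ b : ℕ, orderOf x = q ^ b := by
  obtain ⟨b, hb⟩ := hy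
  obtain ⟨x₀, rfl⟩ := hf y
  have hm0 : orderOf x₀ ≠ 0 := (orderOf_pos x₀).ne'
  obtain ⟨e, m', hm', hm⟩ := Nat.exists_eq_pow_mul_and_not_dvd hm0 q hq.ne_one
  have hcop : Nat.Coprime m' (q ^ b) := by
    apply Nat.Coprime.pow_right
    exact ((Nat.Prime.coprime_iff_not_dvd hq).2 hm').symm
  -- u with m' * u ≡ 1 mod q^b
  obtain ⟨u, hu⟩ : ∃ u : ℕ, m' * u ≡ 1 [MOD q ^ b] := by
    obtain ⟨u, -, hu⟩ := Nat.exists_mul_mod_eq_of_coprime 1 hcop (pow_pos hq.pos b).ne'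
    exact ⟨u, hu⟩
  refine ⟨x₀ ^ (m' * u), ?_, ?_⟩
  · rw [map_pow]
    have h1 : (f x₀) ^ (m' * u) = (f x₀) ^ 1 := by
      rw [pow_eq_pow_iff_modEq, hb]
      exact hu
    rw [h1, pow_one]
  · have h1 : (x₀ ^ (m' * u)) ^ (q ^ e) = 1 := by
      rw [← pow_mul]
      have : m' * u * q ^ e = orderOf x₀ * u := by rw [hm]; ring
      rw [this, pow_mul, pow_orderOf_eq_one, one_pow]
    have h2 := orderOf_dvd_of_pow_eq_one h1
    obtain ⟨j, -, hj⟩ := (Nat.dvd_prime_pow hq).1 h2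
    exact ⟨j, hj⟩

theorem HypQ.subgroup (h : HypQ G) (H : Subgroup G) : HypQ H := by
  intro p q hp hq hpq x g hx hg hdvd
  have hx' : ∃ a : ℕ, orderOf (x : G) = p ^ a := by
    rw [Subgroup.orderOf_coe]; exact hx
  have hg' : ∃ b : ℕ, orderOf (g : G) = q ^ b := by
    rw [Subgroup.orderOf_coe]; exact hg
  apply h p q hp hq hpq (x : G) (g : G) hx' hg'
  have h1 : (Subgroup.zpowers x ⊔ Subgroup.zpowers (g * x * g⁻¹)).map H.subtype =
      Subgroup.zpowers (x : G) ⊔ Subgroup.zpowers ((g : G) * x * (g : G)⁻¹) := by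
    rw [Subgroup.map_sup, MonoidHom.map_zpowers, MonoidHom.map_zpowers]
    simp
  rw [← h1, Subgroup.card_map_of_injective H.subtype_injective]
  exact hdvd

theorem HypQ.quotient [Finite G] (h : HypQ G) (N : Subgroup G) [N.Normal] : HypQ (G ⧸ N) := by
  intro p q hp hq hpq x g hx hg hdvd
  obtain ⟨x₀, rfl, hx₀⟩ := exists_prime_pow_lift (QuotientGroup.mk' N)
    (QuotientGroup.mk'_surjective N) hp x hx
  obtain ⟨g₀, rfl, hg₀⟩ := exists_prime_pow_lift (QuotientGroup.mk' N)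
    (QuotientGroup.mk'_surjective N) hq g hg
  apply h p q hp hq hpq x₀ g₀ hx₀ hg₀
  have h1 : (Subgroup.zpowers x₀ ⊔ Subgroup.zpowers (g₀ * x₀ * g₀⁻¹)).map (QuotientGroup.mk' N) =
      Subgroup.zpowers ((QuotientGroup.mk' N) x₀) ⊔
        Subgroup.zpowers ((QuotientGroup.mk' N) g₀ * (QuotientGroup.mk' N) x₀ *
          ((QuotientGroup.mk' N) g₀)⁻¹) := by
    rw [Subgroup.map_sup, MonoidHom.map_zpowers, MonoidHom.map_zpowers]
    simp
  rw [← h1] at hdvd
  exact hdvd.trans (Subgroup.card_map_dvd _ _)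

theorem HypQ.of_mulEquiv {G' : Type v} [Group G'] (h : HypQ G) (e : G ≃* G') : HypQ G' := by
  intro p q hp hq hpq x g hx hg hdvd
  have hx' : ∃ a : ℕ, orderOf (e.symm x) = p ^ a := by
    rw [MulEquiv.orderOf_eq]; exact hx
  have hg' : ∃ b : ℕ, orderOf (e.symm g) = q ^ b := by
    rw [MulEquiv.orderOf_eq]; exact hg
  apply h p q hp hq hpq (e.symm x) (e.symm g) hx' hg'
  have h1 : (Subgroup.zpowers (e.symm x) ⊔
      Subgroup.zpowers (e.symm g * e.symm x * (e.symm g)⁻¹)).map e.toMonoidHom =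
      Subgroup.zpowers x ⊔ Subgroup.zpowers (g * x * g⁻¹) := by
    rw [Subgroup.map_sup, MonoidHom.map_zpowers, MonoidHom.map_zpowers]
    simp
  rw [← h1, Subgroup.card_map_of_injective (f := e.toMonoidHom) e.injective] at hdvd
  exact hdvd

end Cfsg.Agent.Helper1.SupQ
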