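import Mathlib
import Cfsg.Prelude.Def_SolvableStructure
import Cfsg.Agent.Helper1.Supersolvable3
import Cfsg.Agent.Helper1.Hall

set_option autoImplicit false

/-!
Supersolvable groups satisfy the converse of Lagrange's theorem.
-/

namespace Cfsg.Agent.Helper1

universe u

theorem hasSubgroupOfEveryOrder_of_supersolvable : ∀ (k : ℕ) (G : Type u) [Group G] [Finite G],
    Nat.card G = k → Cfsg.IsSupersolvable G → Cfsg.HasSubgroupOfEveryOrder G := by
  intro k
  induction k using Nat.strong_induction_on with
  | _ k ih =>
  intro G _ _ hk hG d hd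
  by_cases hnt : Nontrivial G
  · obtain ⟨N, hNn, hNp⟩ := exists_normal_prime_card hG
    have hNne : N ≠ ⊥ := ne_bot_of_prime_card hNp
    have hQlt : Nat.card (G ⧸ N) < k := hk ▸ card_quotient_lt N hNne
    have hQ := ih _ hQlt (G ⧸ N) rfl (isSupersolvable_quotient hG N)
    have hcardG : Nat.card G = Nat.card (G ⧸ N) * Nat.card N :=
      Subgroup.card_eq_card_quotient_mul_card_subgroup N
    set p := Nat.card N with hp
    by_cases hpd : p ∣ d
    · obtain ⟨e, rfl⟩ := hpd
      have he : e ∣ Nat.card (G ⧸ N) := by
        have hd' : p * e ∣ p * Nat.card (G ⧸ N) := by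
          rw [mul_comm p (Nat.card (G ⧸ N)), ← hcardG]; exact hd
        exact Nat.dvd_of_mul_dvd_mul_left hNp.pos hd'
      obtain ⟨H', hH'⟩ := hQ e he
      refine ⟨H'.comap (QuotientGroup.mk' N), ?_⟩
      rw [card_comap_mk', hH', mul_comm]
    · have hcop : Nat.Coprime d p := ((Nat.Prime.coprime_iff_not_dvd hNp).2 hpd).symm
      have hdQ : d ∣ Nat.card (G ⧸ N) := by
        rw [hcardG] at hd
        exact hcop.dvd_of_dvd_mul_right hd
      obtain ⟨H', hH'⟩ := hQ d hdQ
      set K := H'.comap (QuotientGroup.mk' N) with hK
      have hKcard : Nat.card K = d * p := by rw [hK, card_comap_mk', hH']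
      by_cases hKtop : K = ⊤
      · -- `N` is a normal Hall subgroup
        have hGd : Nat.card G = d * p := by rw [← hKcard, hKtop, Subgroup.card_top]
        have hidx : N.index = d := by
          have := N.index_mul_card
          rw [hGd, ← hp] at this
          exact Nat.eq_of_mul_eq_mul_right hNp.pos this
        have hcop' : Nat.Coprime (Nat.card N) N.index := by rw [hidx]; exact hcop.symm
        obtain ⟨H, hH⟩ := Subgroup.exists_right_complement'_of_coprime hcop'
        refine ⟨H, ?_⟩
        have := hH.card_mul_card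
        rw [hGd, ← hp, mul_comm] at this
        exact Nat.eq_of_mul_eq_mul_right hNp.pos this
      · have hKlt : Nat.card K < k := by
          rw [← hk]
          have hlt : K < ⊤ := lt_top_iff_ne_top.2 hKtop
          have := card_lt_card_of_lt hlt
          rwa [Subgroup.card_top] at this
        have hKs := ih _ hKlt K rfl (isSupersolvable_subgroup hG K)
        obtain ⟨H0, hH0⟩ := hKs d (by rw [hKcard]; exact Dvd.intro _ rfl)
        exact ⟨H0.map K.subtype, by
          rw [Subgroup.card_map_of_injective K.subtype_injective, hH0]⟩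
  · rw [not_nontrivial_iff_subsingleton] at hnt
    refine ⟨⊥, ?_⟩
    rw [Subgroup.card_bot]
    have : Nat.card G = 1 := Nat.card_unique
    rw [this] at hd
    exact (Nat.dvd_one.1 hd).symm

end Cfsg.Agent.Helper1
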