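import Mathlib
import Cfsg.Prelude.Def_SolvableStructure
import Cfsg.Agent.Helper1.Basic
import Cfsg.Agent.Helper1.Coprime
import Cfsg.Agent.Helper1.Hall
import Cfsg.Agent.Helper1.CoreFree
import Cfsg.Agent.Helper1.CLT
import Cfsg.Agent.Helper1.Supersolvable2
import Cfsg.Agent.Helper1.Supersolvable5
import Cfsg.Agent.Helper1.Supersolvable7
import Cfsg.Agent.Helper1.Carter
import Cfsg.Agent.Helper1.ComplSystem

set_option autoImplicit false

/-!
Supersolvable Hall subgroups of the same order are conjugate.
-/

namespace Cfsg.Agent.Helper1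

open scoped Pointwise

universe u

variable {G : Type u} [Group G]

theorem normal_sylow_max_prime_of_supersolvable [Finite G] (hG : Cfsg.IsSupersolvable G) (p : ℕ)
    [Fact p.Prime] (hdvd : p ∣ Nat.card G) (hmax : ∀ q : ℕ, q.Prime → q ∣ Nat.card G → q ≤ p)
    (P : Sylow p G) : (P : Subgroup G).Normal :=
  normal_sylow_of_clt _ G rfl
    (fun H => hasSubgroupOfEveryOrder_of_supersolvable _ H rfl (isSupersolvable_subgroup hG H))
    p hdvd hmax P

/-- the normal Sylow subgroup for the largest prime of a supersolvable Hall subgroup -/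
theorem exists_normal_sylow_of_supersolvable_hall [Finite G] (H : Subgroup G)
    (hH : Cfsg.IsSupersolvable H) (hHall : (Nat.card H).Coprime H.index) (p : ℕ)
    [hp : Fact p.Prime] (hdvd : p ∣ Nat.card H)
    (hmax : ∀ q : ℕ, q.Prime → q ∣ Nat.card H → q ≤ p) :
    ∃ P : Sylow p G, (P : Subgroup G) ≤ H ∧ H ≤ Subgroup.normalizer ((P : Subgroup G) : Set G) := by
  obtain ⟨P'⟩ : Nonempty (Sylow p H) := inferInstance
  have hP'n : (P' : Subgroup H).Normal :=
    normal_sylow_max_prime_of_supersolvable hH p hdvd hmax P'
  set P := (P' : Subgroup H).map H.subtype with hP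
  have hPH : P ≤ H := Subgroup.map_subtype_le _
  have hPsub : P.subgroupOf H = (P' : Subgroup H) :=
    Subgroup.comap_map_eq_self_of_injective H.subtype_injective _
  have hHP : H ≤ Subgroup.normalizer (P : Set G) := by
    rw [← Subgroup.normal_subgroupOf_iff_le_normalizer hPH, hPsub]; exact hP'n
  have hqidx : ¬ p ∣ H.index := by
    intro hd
    have := Nat.eq_one_of_dvd_coprimes hHall hdvd hd
    exact hp.out.one_lt.ne' this
  have hPcard : Nat.card P = p ^ (Nat.card G).factorization p := by
    rw [hP, Subgroup.card_map_of_injective H.subtype_injective, P'.card_eq_multiplicity,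
      ← H.card_mul_index,
      Nat.factorization_mul Nat.card_pos.ne' Subgroup.index_ne_zero_of_finite,
      Finsupp.add_apply, Nat.factorization_eq_zero_of_not_dvd hqidx, add_zero]
  refine ⟨Sylow.ofCard P hPcard, ?_, ?_⟩
  · rw [Sylow.coe_ofCard]; exact hPH
  · rw [Sylow.coe_ofCard]; exact hHP

theorem supersolvable_hall_conj_aux : ∀ (n : ℕ) (G : Type u) [Group G] [Finite G]
    (H K : Subgroup G), Cfsg.IsSupersolvable H → Cfsg.IsSupersolvable K →
    Nat.card H = Nat.card K → (Nat.card H).Coprime H.index → Nat.card H ≤ n →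
    ∃ x : G, MulAut.conj x • H = K := by
  intro n
  induction n with
  | zero =>
    intro G _ _ H K _ _ _ _ h
    have := Nat.card_pos (α := H)
    omega
  | succ n ih =>
    intro G _ _ H K hH hK hcard hHall hn
    by_cases h1 : Nat.card H = 1
    · have hHbot : H = ⊥ := Subgroup.card_eq_one.1 h1
      have hKbot : K = ⊥ := Subgroup.card_eq_one.1 (hcard ▸ h1)
      refine ⟨1, ?_⟩
      rw [map_one, one_smul, hHbot, hKbot]
    obtain ⟨p, hp, hpd, hmax⟩ := exists_max_prime_dvd (Nat.card_pos (α := H)).ne' h1
    haveI := Fact.mk hp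
    have hKHall : (Nat.card K).Coprime K.index := by
      have h2 : K.index = H.index := by
        have h3 := H.card_mul_index
        have h4 := K.card_mul_index
        rw [← hcard] at h4
        exact Nat.eq_of_mul_eq_mul_left Nat.card_pos (h4.trans h3.symm)
      rw [← hcard, h2]; exact hHall
    obtain ⟨PH, hPHH, hHPH⟩ := exists_normal_sylow_of_supersolvable_hall H hH hHall p hpd hmax
    obtain ⟨PK, hPKK, hKPK⟩ := exists_normal_sylow_of_supersolvable_hall K hK hKHall p
      (hcard ▸ hpd) (fun q hq hqd => hmax q hq (hcard ▸ hqd))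
    obtain ⟨g, hg⟩ := MulAction.exists_smul_eq G PH PK
    have hg' : MulAut.conj g • (PH : Subgroup G) = (PK : Subgroup G) := by
      rw [← hg]; rfl
    set H₁ := MulAut.conj g • H with hH₁
    suffices hsuff : ∃ y : G, MulAut.conj y • H₁ = K by
      obtain ⟨y, hy⟩ := hsuff
      refine ⟨y * g, ?_⟩
      rw [map_mul, mul_smul]; exact hy
    set P := (PK : Subgroup G) with hP
    have hPH₁ : P ≤ H₁ := by
      rw [← hg']; exact Subgroup.pointwise_smul_le_pointwise_smul_iff.2 hPHH
    set N := Subgroup.normalizer (P : Set G) with hN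
    have hH₁N : H₁ ≤ N := by
      rw [hN, ← hg', normalizer_conj_smul]
      exact Subgroup.pointwise_smul_le_pointwise_smul_iff.2 hHPH
    have hKN : K ≤ N := hKPK
    have hPN : P ≤ N := Subgroup.le_normalizer
    set P' := P.subgroupOf N with hP'
    haveI hP'n : P'.Normal := Subgroup.normal_in_normalizer
    set HN := H₁.subgroupOf N with hHN
    set KN := K.subgroupOf N with hKN'
    have hP'HN : P' ≤ HN := by
      intro x hx
      exact Subgroup.mem_subgroupOf.2 (hPH₁ (Subgroup.mem_subgroupOf.1 hx))
    have hP'KN : P' ≤ KN := by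
      intro x hx
      exact Subgroup.mem_subgroupOf.2 (hPKK (Subgroup.mem_subgroupOf.1 hx))
    set mk := QuotientGroup.mk' P' with hmk
    have hcardH₁ : Nat.card H₁ = Nat.card H := card_conj_smul g H
    have hcardHN : Nat.card HN = Nat.card H := by
      rw [hHN, card_subgroupOf_of_le hH₁N, hcardH₁]
    have hcardKN : Nat.card KN = Nat.card H := by
      rw [hKN', card_subgroupOf_of_le hKN, hcard]
    have hcardP' : 1 < Nat.card P' := by
      rw [hP', card_subgroupOf_of_le hPN, hP, PK.card_eq_multiplicity]
      apply Nat.one_lt_pow _ hp.one_lt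
      have : p ∣ Nat.card G := hpd.trans (Subgroup.card_subgroup_dvd_card H)
      exact (hp.factorization_pos_of_dvd Nat.card_pos.ne' this).ne'
    have hmulH := card_map_mk'_mul_card P' HN hP'HN
    have hmulK := card_map_mk'_mul_card P' KN hP'KN
    -- hypotheses for the induction
    have hbarcard : Nat.card (HN.map mk) = Nat.card (KN.map mk) := by
      have h2 : Nat.card (HN.map mk) * Nat.card P' = Nat.card (KN.map mk) * Nat.card P' := by
        rw [hmulH, hmulK, hcardHN, hcardKN]
      exact Nat.eq_of_mul_eq_mul_right Nat.card_pos h2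
    have hbarlt : Nat.card (HN.map mk) ≤ n := by
      have h2 : Nat.card (HN.map mk) * Nat.card P' = Nat.card H := by rw [hmulH, hcardHN]
      have h3 : 0 < Nat.card (HN.map mk) := Nat.card_pos
      have : Nat.card (HN.map mk) < Nat.card H := by nlinarith
      omega
    have hbarH : Cfsg.IsSupersolvable (HN.map mk) := by
      have e1 : Cfsg.IsSupersolvable H₁ :=
        isSupersolvable_of_surjective hH (Subgroup.equivSMul (MulAut.conj g) H).toMonoidHom
          (Subgroup.equivSMul (MulAut.conj g) H).surjective
      have e2 : Cfsg.IsSupersolvable HN :=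
        isSupersolvable_of_surjective e1 (Subgroup.subgroupOfEquivOfLe hH₁N).symm.toMonoidHom
          (Subgroup.subgroupOfEquivOfLe hH₁N).symm.surjective
      exact isSupersolvable_of_surjective e2 (mk.subgroupMap HN) (mk.subgroupMap_surjective HN)
    have hbarK : Cfsg.IsSupersolvable (KN.map mk) := by
      have e2 : Cfsg.IsSupersolvable KN :=
        isSupersolvable_of_surjective hK (Subgroup.subgroupOfEquivOfLe hKN).symm.toMonoidHom
          (Subgroup.subgroupOfEquivOfLe hKN).symm.surjective
      exact isSupersolvable_of_surjective e2 (mk.subgroupMap KN) (mk.subgroupMap_surjective KN)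
    have hbarHall : (Nat.card (HN.map mk)).Coprime (HN.map mk).index := by
      have h2 : (HN.map mk).index = HN.index := by
        rw [Subgroup.index_map, mk.range_eq_top_of_surjective (QuotientGroup.mk'_surjective P'),
          Subgroup.index_top, mul_one, hmk, QuotientGroup.ker_mk', sup_eq_left.2 hP'HN]
      have h3 : HN.index ∣ H.index := by
        have h4 : HN.index ∣ H₁.index := Subgroup.relIndex_dvd_index_of_le hH₁N
        rwa [hH₁, index_conj_smul] at h4
      have h5 : Nat.card (HN.map mk) ∣ Nat.card H := by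
        rw [← hcardHN]; exact Dvd.intro _ hmulH
      rw [h2]
      exact Nat.Coprime.coprime_dvd_left h5 (Nat.Coprime.coprime_dvd_right h3 hHall)
    obtain ⟨xbar, hxbar⟩ := ih (N ⧸ P') (HN.map mk) (KN.map mk) hbarH hbarK hbarcard hbarHall
      hbarlt
    obtain ⟨x, rfl⟩ := QuotientGroup.mk'_surjective P' xbar
    rw [← hmk, ← map_conj_smul] at hxbar
    have h6 := congrArg (Subgroup.comap mk) hxbar
    rw [hmk, QuotientGroup.comap_map_mk', QuotientGroup.comap_map_mk',
      sup_eq_right.2 hP'KN] at h6
    have hP'x : P' ≤ MulAut.conj x • HN := by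
      have h7 : MulAut.conj x • P' = P' := conj_smul_normal P' x
      rw [← h7]; exact Subgroup.pointwise_smul_le_pointwise_smul_iff.2 hP'HN
    rw [sup_eq_right.2 hP'x] at h6
    exact ⟨(x : G), conj_smul_of_subgroupOf hH₁N hKN x h6⟩

theorem supersolvable_hall_conj [Finite G] (H K : Subgroup G) (hH : Cfsg.IsSupersolvable H)
    (hK : Cfsg.IsSupersolvable K) (hcard : Nat.card H = Nat.card K)
    (hHall : (Nat.card H).Coprime H.index) : ∃ x : G, MulAut.conj x • H = K :=
  supersolvable_hall_conj_aux (Nat.card H) G H K hH hK hcard hHall le_rfl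

end Cfsg.Agent.Helper1
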