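import Mathlib
import Cfsg.Prelude.Def_SolvableStructure
import Cfsg.Prelude.Def_Transfer
import Cfsg.Agent.Helper1.PNilpBasic
import Cfsg.Agent.Helper1.SupersolvableHall
import Cfsg.Agent.Helper1.Supersolvable3
import Cfsg.Agent.Helper1.MinNonPNilp
import Cfsg.Agent.Helper1.Schmidt
import Cfsg.Agent.S0046

/-!
# S3033, part B: supersolvable groups are solvable and `p`-nilpotent for the smallest prime;
a group all of whose proper subgroups are supersolvable is solvable.
-/

namespace Cfsg.Agent.Helper1.SupQ

open Cfsg.Agent.Helper1

universe u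

theorem isSolvable_of_supersolvable : ∀ (n : ℕ) (G : Type u) [Group G] [Finite G],
    Nat.card G = n → Cfsg.IsSupersolvable G → Group.IsSolvable G := by
  intro n
  induction n using Nat.strong_induction_on with
  | _ n ih =>
    intro G _ _ hn hG
    rcases subsingleton_or_nontrivial G with hsub | hnt
    · infer_instance
    · obtain ⟨P, hPn, hP⟩ := exists_normal_prime_card hG
      have hPne : P ≠ ⊥ := ne_bot_of_prime_card hP
      have hlt : Nat.card (G ⧸ P) < n := hn ▸ card_quotient_lt P hPne
      have hq : Group.IsSolvable (G ⧸ P) :=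
        ih _ hlt (G ⧸ P) rfl (isSupersolvable_quotient hG P)
      haveI : IsCyclic P := isCyclic_of_prime_card (p := Nat.card P) (hp := ⟨hP⟩) rfl
      have hPs : Group.IsSolvable P :=
        Group.isSolvable_of_comm (fun a b => (IsCyclic.commGroup (α := P)).mul_comm a b)
      exact Group.isSolvable_of_ker_le_range P.subtype (QuotientGroup.mk' P)
        (by rw [QuotientGroup.ker_mk', Subgroup.range_subtype])

theorem hasNormalPComplement_of_supersolvable : ∀ (n : ℕ) (G : Type u) [Group G] [Finite G],
    Nat.card G = n → Cfsg.IsSupersolvable G → ∀ (p : ℕ) [Fact p.Prime],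
    (∀ q : ℕ, q.Prime → q ∣ Nat.card G → p ≤ q) → Cfsg.HasNormalPComplement p G := by
  intro n
  induction n using Nat.strong_induction_on with
  | _ n ih =>
    intro G _ _ hn hG p hp hmin
    by_cases h1 : Nat.card G = 1
    · apply hasNormalPComplement_of_isPGroup
      rw [IsPGroup.iff_card]
      exact ⟨0, by rw [h1, pow_zero]⟩
    · obtain ⟨r, hrp', hrd, hrmax⟩ := exists_max_prime_dvd (Nat.card_pos.ne') h1
      have hr : r.Prime ∧ r ∣ Nat.card G := ⟨hrp', hrd⟩
      haveI : Fact r.Prime := ⟨hr.1⟩
      obtain ⟨R⟩ : Nonempty (Sylow r G) := inferInstance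
      haveI hRn : (R : Subgroup G).Normal :=
        normal_sylow_max_prime_of_supersolvable hG r hr.2 hrmax R
      by_cases hrp : r = p
      · subst hrp
        apply hasNormalPComplement_of_isPGroup
        rw [IsPGroup.iff_card]
        have h2 : ∀ q : ℕ, q.Prime → q ∣ Nat.card G → q = r := fun q hq hqd =>
          le_antisymm (hrmax q hq hqd) (hmin q hq hqd)
        exact ⟨_, Nat.eq_prime_pow_of_unique_prime_dvd Nat.card_pos.ne'
          (fun {d} hd hdd => h2 d hd hdd)⟩
      · have hRne : (R : Subgroup G) ≠ ⊥ := by
          intro h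
          have := R.card_eq_multiplicity
          rw [h, Subgroup.card_bot] at this
          have h3 : (Nat.card G).factorization r = 0 := by
            by_contra h0
            have : 1 < r ^ (Nat.card G).factorization r :=
              Nat.one_lt_pow h0 hr.1.one_lt
            omega
          have := (hr.1.dvd_iff_one_le_factorization Nat.card_pos.ne').1 hr.2
          omega
        have hlt : Nat.card (G ⧸ (R : Subgroup G)) < n := hn ▸ card_quotient_lt _ hRne
        have hq := ih _ hlt (G ⧸ (R : Subgroup G)) rfl (isSupersolvable_quotient hG _) p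
          (fun q hq hqd => hmin q hq (hqd.trans
            (Subgroup.card_quotient_dvd_card (R : Subgroup G))))
        apply hasNormalPComplement_of_ker_coprime (QuotientGroup.mk' (R : Subgroup G))
          (QuotientGroup.mk'_surjective _) _ hq
        rw [QuotientGroup.ker_mk']
        obtain ⟨k, hk⟩ := IsPGroup.iff_card.1 R.2
        rw [hk]
        apply Nat.Coprime.pow_left
        exact (Nat.coprime_primes hr.1 hp.out).2 hrp

/-- a finite group all of whose proper subgroups are supersolvable is solvable -/
theorem isSolvable_of_proper_supersolvable {G : Type u} [Group G] [Finite G]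
    (h : ∀ H : Subgroup G, H ≠ ⊤ → Cfsg.IsSupersolvable H) : Group.IsSolvable G := by
  by_cases h1 : Nat.card G = 1
  · haveI : Subsingleton G := (Nat.card_eq_one_iff_unique.1 h1).1
    infer_instance
  · set p := (Nat.card G).minFac with hp_def
    have hpp : p.Prime := Nat.minFac_prime h1
    haveI : Fact p.Prime := ⟨hpp⟩
    have hpd : p ∣ Nat.card G := Nat.minFac_dvd _
    have hsub : ∀ H : Subgroup G, H ≠ ⊤ → Cfsg.HasNormalPComplement p H := by
      intro H hH
      apply hasNormalPComplement_of_supersolvable _ H rfl (h H hH) p
      intro q hq hqd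
      exact Nat.minFac_le_of_dvd hq.two_le (hqd.trans (Subgroup.card_subgroup_dvd_card H))
    by_cases hG : Cfsg.HasNormalPComplement p G
    · obtain ⟨M, hMn, hcop, k, hk⟩ := hasNormalPComplement_iff_exists.1 hG
      have hMtop : M ≠ ⊤ := by
        rintro rfl
        rw [Subgroup.card_top] at hcop
        exact (Nat.Prime.coprime_iff_not_dvd hpp).1 hcop.symm hpd
      have hMs : Group.IsSolvable M := isSolvable_of_supersolvable _ M rfl (h M hMtop)
      have hQ : IsPGroup p (G ⧸ M) := by
        rw [IsPGroup.iff_card]
        exact ⟨k, by rw [← Subgroup.index_eq_card]; exact hk⟩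
      haveI : Group.IsNilpotent (G ⧸ M) := hQ.isNilpotent
      have hQs : Group.IsSolvable (G ⧸ M) := inferInstance
      exact Group.isSolvable_of_ker_le_range M.subtype (QuotientGroup.mk' M)
        (by rw [QuotientGroup.ker_mk', Subgroup.range_subtype])
    · have h3 := (min_non_pnilpotent hG hsub).1
      exact Cfsg.Agent.S0046.result (fun M hM => h3 M hM.1)

end Cfsg.Agent.Helper1.SupQ
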