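import Mathlib
import Cfsg.Agent.Helper1.SupQA
import Cfsg.Agent.Helper1.AbelianAct

/-!
# S3033, part C: the action of elements of prime power order on a normal elementary
abelian `p`-subgroup under `HypQ`.
-/

namespace Cfsg.Agent.Helper1.SupQ

open Cfsg.Agent.Helper1

universe u

variable {G : Type u} [Group G]

section basic

variable {p : ℕ} [hp : Fact p.Prime] {N : Subgroup G}

include hp in
theorem orderOf_eq_of_exp (hNe : ∀ a ∈ N, a ^ p = 1) {n : G} (hn : n ∈ N) (hn1 : n ≠ 1) :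
    orderOf n = p :=
  orderOf_eq_prime (hNe n hn) hn1

include hp in
theorem zpow_eq_one_iff_of_exp (hNe : ∀ a ∈ N, a ^ p = 1) {n : G} (hn : n ∈ N) (hn1 : n ≠ 1)
    (k : ℤ) : n ^ k = 1 ↔ (p : ℤ) ∣ k := by
  rw [← orderOf_eq_of_exp hNe hn hn1, orderOf_dvd_iff_zpow_eq_one]

include hp in
theorem zpow_congr_of_exp (hNe : ∀ a ∈ N, a ^ p = 1) {n : G} (hn : n ∈ N) {k l : ℤ}
    (h : k ≡ l [ZMOD p]) : n ^ k = n ^ l := by
  by_cases hn1 : n = 1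
  · rw [hn1, one_zpow, one_zpow]
  · rw [zpow_eq_zpow_iff_modEq, orderOf_eq_of_exp hNe hn hn1]
    exact h

include hp in
theorem modEq_of_zpow_eq (hNe : ∀ a ∈ N, a ^ p = 1) {n : G} (hn : n ∈ N) (hn1 : n ≠ 1) {k l : ℤ}
    (h : n ^ k = n ^ l) : k ≡ l [ZMOD p] := by
  rw [zpow_eq_zpow_iff_modEq, orderOf_eq_of_exp hNe hn hn1] at h
  exact h

theorem conj_zpow' (g u : G) (k : ℤ) : g * u ^ k * g⁻¹ = (g * u * g⁻¹) ^ k := by
  simp

theorem conj_pow' (g u : G) (k : ℕ) : g * u ^ k * g⁻¹ = (g * u * g⁻¹) ^ k := by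
  simp

theorem mem_normalizer_of_conj_le_fin {A : Subgroup G} [Finite A] {g : G}
    (h : ∀ y ∈ A, g * y * g⁻¹ ∈ A) : g ∈ Subgroup.normalizer (A : Set G) := by
  classical
  have hmap : A.map (MulAut.conj g).toMonoidHom ≤ A := by
    rintro _ ⟨y, hy, rfl⟩
    exact h y hy
  have hcard : Nat.card (A.map (MulAut.conj g).toMonoidHom) = Nat.card A :=
    Subgroup.card_map_of_injective (MulAut.conj g).injective
  have heq : A.map (MulAut.conj g).toMonoidHom = A :=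
    Subgroup.eq_of_le_of_card_ge hmap (by rw [hcard])
  rw [Subgroup.mem_normalizer_iff]
  intro y
  constructor
  · exact h y
  · intro hy
    rw [← heq] at hy
    obtain ⟨w, hw, hwy⟩ := hy
    have h2 : g * w * g⁻¹ = g * y * g⁻¹ := hwy
    have h3 : w = y := mul_left_cancel (mul_right_cancel h2)
    rwa [← h3]

include hp in
/-- two distinct subgroups of order `p` inside `N` meet trivially -/
theorem zpowers_inf_zpowers_eq_bot [Finite G] (hNe : ∀ a ∈ N, a ^ p = 1) {u u₀ : G} (hu : u ∈ N)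
    (hu₀ : u₀ ∈ N) (hu₀1 : u₀ ≠ 1) (hmem : u ∉ Subgroup.zpowers u₀) :
    Subgroup.zpowers u ⊓ Subgroup.zpowers u₀ = ⊥ := by
  have hu1 : u ≠ 1 := fun h => hmem (h ▸ Subgroup.one_mem _)
  have hc : Nat.card (Subgroup.zpowers u) = p := by
    rw [Nat.card_zpowers, orderOf_eq_of_exp hNe hu hu1]
  have hc₀ : Nat.card (Subgroup.zpowers u₀) = p := by
    rw [Nat.card_zpowers, orderOf_eq_of_exp hNe hu₀ hu₀1]
  have hd : Nat.card (Subgroup.zpowers u ⊓ Subgroup.zpowers u₀ : Subgroup G) ∣ p := by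
    rw [← hc₀]; exact Subgroup.card_dvd_of_le inf_le_right
  rcases (Nat.dvd_prime hp.out).1 hd with h1 | h1
  · exact Subgroup.card_eq_one.1 h1
  · exfalso
    have e1 : Subgroup.zpowers u ⊓ Subgroup.zpowers u₀ = Subgroup.zpowers u₀ :=
      Subgroup.eq_of_le_of_card_ge inf_le_right (by rw [h1, hc₀])
    have e2 : Subgroup.zpowers u₀ ≤ Subgroup.zpowers u := by rw [← e1]; exact inf_le_left
    have e3 : Subgroup.zpowers u₀ = Subgroup.zpowers u :=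
      Subgroup.eq_of_le_of_card_ge e2 (by rw [hc, hc₀])
    exact hmem (e3 ▸ Subgroup.mem_zpowers u)

include hp in
/-- L2: if every element of `U ≤ N` is an eigenvector of `g`, then `g` acts as a scalar on `U`. -/
theorem scalar_of_all_eig [Finite G] (hNc : ∀ a ∈ N, ∀ b ∈ N, a * b = b * a)
    (hNe : ∀ a ∈ N, a ^ p = 1) (U : Subgroup G) (hUN : U ≤ N) (g : G)
    (h : ∀ u ∈ U, ∃ k : ℤ, g * u * g⁻¹ = u ^ k) : ∃ k : ℤ, ∀ u ∈ U, g * u * g⁻¹ = u ^ k := by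
  by_cases hU : U = ⊥
  · refine ⟨1, fun u hu => ?_⟩
    rw [hU, Subgroup.mem_bot] at hu
    subst hu
    simp
  obtain ⟨⟨u₀, hu₀⟩, hu₀1⟩ := (Subgroup.ne_bot_iff_exists_ne_one.1 hU)
  have hu₀1' : u₀ ≠ 1 := fun h => hu₀1 (Subtype.ext h)
  obtain ⟨k₀, hk₀⟩ := h u₀ hu₀
  refine ⟨k₀, fun u hu => ?_⟩
  by_cases hmem : u ∈ Subgroup.zpowers u₀
  · obtain ⟨i, rfl⟩ := Subgroup.mem_zpowers_iff.1 hmem
    rw [conj_zpow', hk₀, ← zpow_mul, ← zpow_mul, mul_comm]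
  · obtain ⟨k₁, hk₁⟩ := h u hu
    obtain ⟨k₂, hk₂⟩ := h (u * u₀) (U.mul_mem hu hu₀)
    have hu1 : u ≠ 1 := fun h => hmem (h ▸ Subgroup.one_mem _)
    have hcomm : Commute u u₀ := hNc u (hUN hu) u₀ (hUN hu₀)
    have e1 : u ^ k₁ * u₀ ^ k₀ = u ^ k₂ * u₀ ^ k₂ := by
      rw [← hk₁, ← hk₀, ← hcomm.mul_zpow, ← hk₂]; group
    have e2 : u ^ (k₁ - k₂) = u₀ ^ (k₂ - k₀) := by
      rw [zpow_sub, zpow_sub]
      have hc2 : Commute (u ^ k₂) (u ^ k₁) := (Commute.refl u).zpow_zpow _ _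
      calc u ^ k₁ * (u ^ k₂)⁻¹ = (u ^ k₂)⁻¹ * (u ^ k₁ * u₀ ^ k₀) * (u₀ ^ k₀)⁻¹ := by
            have : (u ^ k₂)⁻¹ * u ^ k₁ = u ^ k₁ * (u ^ k₂)⁻¹ := by
              rw [← zpow_neg, ← zpow_add, ← zpow_add, add_comm]
            rw [mul_assoc, mul_assoc, mul_inv_cancel, mul_one, this]
        _ = (u ^ k₂)⁻¹ * (u ^ k₂ * u₀ ^ k₂) * (u₀ ^ k₀)⁻¹ := by rw [e1]
        _ = u₀ ^ k₂ * (u₀ ^ k₀)⁻¹ := by group
    have hw : u ^ (k₁ - k₂) ∈ Subgroup.zpowers u ⊓ Subgroup.zpowers u₀ :=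
      ⟨Subgroup.zpow_mem_zpowers u _, e2 ▸ Subgroup.zpow_mem_zpowers u₀ _⟩
    rw [zpowers_inf_zpowers_eq_bot hNe (hUN hu) (hUN hu₀) hu₀1' hmem, Subgroup.mem_bot] at hw
    have hw₀ : u₀ ^ (k₂ - k₀) = 1 := by rw [← e2, hw]
    have d1 := (zpow_eq_one_iff_of_exp hNe (hUN hu) hu1 _).1 hw
    have d2 := (zpow_eq_one_iff_of_exp hNe (hUN hu₀) hu₀1' _).1 hw₀
    rw [hk₁]
    apply zpow_congr_of_exp hNe (hUN hu)
    have : (p : ℤ) ∣ k₁ - k₀ := by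
      have := dvd_add d1 d2
      rwa [sub_add_sub_cancel] at this
    exact (Int.modEq_of_dvd (by rw [← neg_sub]; exact (dvd_neg.2 this))).symm.symm

end basic

end Cfsg.Agent.Helper1.SupQ
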