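import Mathlib
import Cfsg.Agent.Helper1.SupQC

/-!
# S3033, part D: eigenvector lemma from `HypQ`, the commutator image, the decomposition.
-/

namespace Cfsg.Agent.Helper1.SupQ

open Cfsg.Agent.Helper1

universe u

variable {G : Type u} [Group G]

variable {p : ℕ} [hp : Fact p.Prime] {N : Subgroup G}

include hp in
/-- L1: under `HypQ`, for a `q`-element `x` (`q ≠ p`) and `n ∈ N`, the commutator
`n x n⁻¹ x⁻¹` is an eigenvector of `x`. -/
theorem eig_of_hypQ [Finite G] [hNn : N.Normal] (hQ : HypQ G)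
    (hNe : ∀ a ∈ N, a ^ p = 1) {q : ℕ} (hq : q.Prime) (hqp : q ≠ p) (x : G)
    (hx : ∃ b : ℕ, orderOf x = q ^ b) {n : G} (hn : n ∈ N) :
    ∃ k : ℤ, x * (n * x * n⁻¹ * x⁻¹) * x⁻¹ = (n * x * n⁻¹ * x⁻¹) ^ k := by
  set c := n * x * n⁻¹ * x⁻¹ with hc
  have hcN : c ∈ N := by
    have h1 : x * n⁻¹ * x⁻¹ ∈ N := hNn.conj_mem _ (N.inv_mem hn) x
    have : c = n * (x * n⁻¹ * x⁻¹) := by rw [hc]; group
    rw [this]
    exact N.mul_mem hn h1
  by_cases hc1 : c = 1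
  · exact ⟨1, by rw [hc1]; simp⟩
  have hn' : ∃ b : ℕ, orderOf n = p ^ b := by
    by_cases hn1 : n = 1
    · exact ⟨0, by rw [hn1, orderOf_one, pow_zero]⟩
    · exact ⟨1, by rw [orderOf_eq_of_exp hNe hn hn1, pow_one]⟩
  have hH := hQ q p hq hp.out hqp x n hx hn'
  set H := Subgroup.zpowers x ⊔ Subgroup.zpowers (n * x * n⁻¹) with hHdef
  have hxH : x ∈ H := Subgroup.mem_sup_left (Subgroup.mem_zpowers x)
  have hcH : c ∈ H := by
    have h1 : n * x * n⁻¹ ∈ H := Subgroup.mem_sup_right (Subgroup.mem_zpowers _)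
    have : c = (n * x * n⁻¹) * x⁻¹ := by rw [hc]
    rw [this]
    exact H.mul_mem h1 (H.inv_mem hxH)
  have hxcH : x * c * x⁻¹ ∈ H := H.mul_mem (H.mul_mem hxH hcH) (H.inv_mem hxH)
  have hxcN : x * c * x⁻¹ ∈ N := hNn.conj_mem _ hcN x
  set D := Subgroup.zpowers c ⊔ Subgroup.zpowers (x * c * x⁻¹) with hDdef
  have hDN : D ≤ N := sup_le (by rwa [Subgroup.zpowers_le]) (by rwa [Subgroup.zpowers_le])
  have hDH : D ≤ H := sup_le (by rwa [Subgroup.zpowers_le]) (by rwa [Subgroup.zpowers_le])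
  have hNp : IsPGroup p N := fun ⟨a, ha⟩ => ⟨1, by
    apply Subtype.ext
    simp only [pow_one, SubmonoidClass.mk_pow, OneMemClass.coe_one]
    exact hNe a ha⟩
  obtain ⟨j, hj⟩ := IsPGroup.iff_card.1 (hNp.to_le hDN)
  have hj1 : j ≤ 1 := by
    by_contra hcon
    push Not at hcon
    apply hH
    have : p ^ 2 ∣ Nat.card D := by
      rw [hj]; exact pow_dvd_pow p hcon
    exact this.trans (Subgroup.card_dvd_of_le hDH)
  have hcard_c : Nat.card (Subgroup.zpowers c) = p := by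
    rw [Nat.card_zpowers, orderOf_eq_of_exp hNe hcN hc1]
  have hle : Subgroup.zpowers c ≤ D := le_sup_left
  have hDc : Subgroup.zpowers c = D := by
    apply Subgroup.eq_of_le_of_card_ge hle
    rw [hj, hcard_c]
    calc p ^ j ≤ p ^ 1 := Nat.pow_le_pow_right hp.out.pos hj1
      _ = p := pow_one p
  have hmem : x * c * x⁻¹ ∈ Subgroup.zpowers c := by
    rw [hDc]; exact Subgroup.mem_sup_right (Subgroup.mem_zpowers _)
  obtain ⟨k, hk⟩ := Subgroup.mem_zpowers_iff.1 hmem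
  exact ⟨k, hk.symm⟩

/-- the set of commutators `n x n⁻¹ x⁻¹`, `n ∈ N`, as a subgroup -/
def commImage (N : Subgroup G) [hNn : N.Normal] (hNc : ∀ a ∈ N, ∀ b ∈ N, a * b = b * a) (x : G) :
    Subgroup G where
  carrier := {c | ∃ n ∈ N, c = n * x * n⁻¹ * x⁻¹}
  one_mem' := ⟨1, N.one_mem, by group⟩
  mul_mem' := by
    rintro _ _ ⟨a, ha, rfl⟩ ⟨b, hb, rfl⟩
    refine ⟨a * b, N.mul_mem ha hb, ?_⟩
    have h1 : x * a⁻¹ * x⁻¹ ∈ N := hNn.conj_mem _ (N.inv_mem ha) x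
    have h2 : x * b⁻¹ * x⁻¹ ∈ N := hNn.conj_mem _ (N.inv_mem hb) x
    have h3 : b * (x * b⁻¹ * x⁻¹) ∈ N := N.mul_mem hb h2
    have e := hNc _ h1 _ h3
    calc a * x * a⁻¹ * x⁻¹ * (b * x * b⁻¹ * x⁻¹)
        = a * ((x * a⁻¹ * x⁻¹) * (b * (x * b⁻¹ * x⁻¹))) := by group
      _ = a * ((b * (x * b⁻¹ * x⁻¹)) * (x * a⁻¹ * x⁻¹)) := by rw [e]
      _ = a * b * x * (a * b)⁻¹ * x⁻¹ := by group
  inv_mem' := by
    rintro _ ⟨a, ha, rfl⟩
    refine ⟨a⁻¹, N.inv_mem ha, ?_⟩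
    have h1 : x * a⁻¹ * x⁻¹ ∈ N := hNn.conj_mem _ (N.inv_mem ha) x
    have e := hNc _ h1 _ ha
    calc (a * x * a⁻¹ * x⁻¹)⁻¹ = ((x * a⁻¹ * x⁻¹) * a)⁻¹ := by
          rw [e]; group
      _ = a⁻¹ * x * a⁻¹⁻¹ * x⁻¹ := by group

theorem mem_commImage [hNn : N.Normal] (hNc : ∀ a ∈ N, ∀ b ∈ N, a * b = b * a) (x c : G) :
    c ∈ commImage N hNc x ↔ ∃ n ∈ N, c = n * x * n⁻¹ * x⁻¹ := Iff.rfl

theorem commImage_le [hNn : N.Normal] (hNc : ∀ a ∈ N, ∀ b ∈ N, a * b = b * a) (x : G) :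
    commImage N hNc x ≤ N := by
  rintro _ ⟨n, hn, rfl⟩
  have h1 : x * n⁻¹ * x⁻¹ ∈ N := hNn.conj_mem _ (N.inv_mem hn) x
  have : n * x * n⁻¹ * x⁻¹ = n * (x * n⁻¹ * x⁻¹) := by group
  rw [this]
  exact N.mul_mem hn h1

theorem conj_mem_commImage [hNn : N.Normal] (hNc : ∀ a ∈ N, ∀ b ∈ N, a * b = b * a) (x : G)
    {c : G} (hc : c ∈ commImage N hNc x) : x * c * x⁻¹ ∈ commImage N hNc x := by
  obtain ⟨n, hn, rfl⟩ := hc
  exact ⟨x * n * x⁻¹, hNn.conj_mem _ hn x, by group⟩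

theorem commutator_le_commImage [Finite G] [hNn : N.Normal]
    (hNc : ∀ a ∈ N, ∀ b ∈ N, a * b = b * a) (x : G) :
    ⁅N, Subgroup.zpowers x⁆ ≤ commImage N hNc x := by
  rw [Subgroup.commutator_le]
  intro n hn a ha
  rw [← mem_powers_iff_mem_zpowers] at ha
  obtain ⟨j, rfl⟩ := ha
  induction j with
  | zero => simp
  | succ j ih =>
    have h1 : x ^ j * (n * x * n⁻¹ * x⁻¹) * (x ^ j)⁻¹ ∈ commImage N hNc x := by
      have : ∀ (i : ℕ) (c : G), c ∈ commImage N hNc x →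
          x ^ i * c * (x ^ i)⁻¹ ∈ commImage N hNc x := by
        intro i
        induction i with
        | zero => intro c hc; simpa using hc
        | succ i ihi =>
          intro c hc
          have := conj_mem_commImage hNc x (ihi c hc)
          have e : x ^ (i + 1) * c * (x ^ (i + 1))⁻¹ = x * (x ^ i * c * (x ^ i)⁻¹) * x⁻¹ := by
            rw [pow_succ']; group
          rw [e]; exact this
      exact this j _ ⟨n, hn, rfl⟩
    rw [commutatorElement_def] at ih ⊢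
    have e : n * x ^ (j + 1) * n⁻¹ * (x ^ (j + 1))⁻¹ =
        (n * x ^ j * n⁻¹ * (x ^ j)⁻¹) * (x ^ j * (n * x * n⁻¹ * x⁻¹) * (x ^ j)⁻¹) := by
      rw [pow_succ]; group
    rw [e]
    exact (commImage N hNc x).mul_mem ih h1

include hp in
/-- the structure of the action of a `q`-element on `N` -/
theorem struct_q [Finite G] [hNn : N.Normal] (hQ : HypQ G)
    (hNc : ∀ a ∈ N, ∀ b ∈ N, a * b = b * a) (hNe : ∀ a ∈ N, a ^ p = 1) {q : ℕ} (hq : q.Prime)
    (hqp : q ≠ p) (x : G) (hx : ∃ b : ℕ, orderOf x = q ^ b) :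
    (∃ l : ℤ, ∀ c ∈ commImage N hNc x, x * c * x⁻¹ = c ^ l) ∧
    (∀ c ∈ commImage N hNc x, x * c * x⁻¹ = c → c = 1) ∧
    (∀ n ∈ N, ∃ a ∈ N, x * a * x⁻¹ = a ∧ ∃ c ∈ commImage N hNc x, n = a * c) := by
  haveI : IsMulCommutative N := ⟨⟨fun a b => Subtype.ext (hNc a a.2 b b.2)⟩⟩
  have hNp : IsPGroup p N := fun ⟨a, ha⟩ => ⟨1, by
    apply Subtype.ext
    simp only [pow_one, SubmonoidClass.mk_pow, OneMemClass.coe_one]
    exact hNe a ha⟩
  have hnorm : Subgroup.zpowers x ≤ Subgroup.normalizer (N : Set G) := by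
    rw [Subgroup.normalizer_eq_top_iff.2 hNn]; exact le_top
  have hcop : (Nat.card (Subgroup.zpowers x)).Coprime (Nat.card N) := by
    obtain ⟨b, hb⟩ := hx
    obtain ⟨k, hk⟩ := IsPGroup.iff_card.1 hNp
    rw [Nat.card_zpowers, hb, hk]
    exact Nat.Coprime.pow _ _ ((Nat.coprime_primes hq hp.out).2 hqp)
  obtain ⟨hinf, hsup⟩ := abelian_coprime_decomp (Subgroup.zpowers x) N hnorm hcop
  have hcomm_eq : commImage N hNc x ≤ ⁅N, Subgroup.zpowers x⁆ := by
    rintro _ ⟨n, hn, rfl⟩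
    have := Subgroup.commutator_mem_commutator hn (Subgroup.mem_zpowers x)
    rwa [commutatorElement_def] at this
  refine ⟨?_, ?_, ?_⟩
  · exact scalar_of_all_eig hNc hNe _ (commImage_le hNc x) x (by
      rintro _ ⟨n, hn, rfl⟩
      exact eig_of_hypQ hQ hNe hq hqp x hx hn)
  · intro c hc hfix
    have h1 : c ∈ (N ⊓ Subgroup.centralizer (Subgroup.zpowers x : Set G)) ⊓ ⁅N, Subgroup.zpowers x⁆ := by
      refine ⟨⟨commImage_le hNc x hc, ?_⟩, hcomm_eq hc⟩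
      show c ∈ Subgroup.centralizer (Subgroup.zpowers x : Set G)
      rw [Subgroup.mem_centralizer_iff]
      intro a ha
      obtain ⟨i, rfl⟩ := Subgroup.mem_zpowers_iff.1 ha
      have hcx : Commute x c := by
        have : x * c = c * x := by
          calc x * c = x * c * x⁻¹ * x := by group
            _ = c * x := by rw [hfix]
        exact this
      exact (hcx.zpow_left i).eq
    rw [hinf, Subgroup.mem_bot] at h1
    exact h1
  · intro n hn
    have hn' : n ∈ (N ⊓ Subgroup.centralizer (Subgroup.zpowers x : Set G)) ⊔ ⁅N, Subgroup.zpowers x⁆ := by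
      rw [hsup]; exact hn
    have hnz : ⁅N, Subgroup.zpowers x⁆ ≤ Subgroup.normalizer
        ((N ⊓ Subgroup.centralizer (Subgroup.zpowers x : Set G) : Subgroup G) : Set G) := by
      intro c hc
      have hcN : c ∈ N := Subgroup.commutator_le_left N _ hc
      apply mem_normalizer_of_conj_le_fin
      intro y hy
      have : c * y * c⁻¹ = y := by
        have := hNc c hcN y hy.1
        rw [this]; group
      rw [this]; exact hy
    obtain ⟨a, ha, c, hc, rfl⟩ := mem_sup_of_le_normalizer hnz hn'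
    refine ⟨a, ha.1, ?_, c, commutator_le_commImage hNc x hc, rfl⟩
    have := Subgroup.mem_centralizer_iff.1 ha.2 x (Subgroup.mem_zpowers x)
    rw [this]; group

end Cfsg.Agent.Helper1.SupQ
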