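import Mathlib
import Cfsg.Agent.Helper1.SupQD

/-!
# S3033, part E: representatives of prime power order; the lemmas (P) and (Q).
-/

namespace Cfsg.Agent.Helper1.SupQ

open Cfsg.Agent.Helper1

universe u

variable {G : Type u} [Group G]

variable {p : ℕ} [hp : Fact p.Prime] {N : Subgroup G}

/-- an element whose `q ^ e`-th power centralizes `N` acts on `N` like some `q`-element -/
theorem exists_q_rep [Finite G] [hNn : N.Normal] {q : ℕ} (hq : q.Prime) (g : G) (e : ℕ)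
    (hg : ∀ n ∈ N, g ^ (q ^ e) * n * (g ^ (q ^ e))⁻¹ = n) :
    ∃ y : G, (∃ b : ℕ, orderOf y = q ^ b) ∧ ∀ n ∈ N, y * n * y⁻¹ = g * n * g⁻¹ := by
  set C := Subgroup.centralizer (N : Set G) with hC
  have hgC : g ^ (q ^ e) ∈ C := by
    rw [hC, Subgroup.mem_centralizer_iff]
    intro n hn
    have := hg n hn
    calc n * g ^ (q ^ e) = (g ^ (q ^ e) * n * (g ^ (q ^ e))⁻¹) * g ^ (q ^ e) := by rw [this]
      _ = g ^ (q ^ e) * n := by group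
  have h1 : ((QuotientGroup.mk' C) g) ^ (q ^ e) = 1 := by
    rw [← map_pow]
    exact (QuotientGroup.eq_one_iff _).2 hgC
  have h2 := orderOf_dvd_of_pow_eq_one h1
  obtain ⟨j, -, hj⟩ := (Nat.dvd_prime_pow hq).1 h2
  obtain ⟨y, hy, hyo⟩ := exists_prime_pow_lift (QuotientGroup.mk' C)
    (QuotientGroup.mk'_surjective C) hq _ ⟨j, hj⟩
  refine ⟨y, hyo, fun n hn => ?_⟩
  have h3 : g⁻¹ * y ∈ C := by
    have := QuotientGroup.eq.1 hy.symm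
    exact this
  have h4 := Subgroup.mem_centralizer_iff.1 h3 n hn
  calc y * n * y⁻¹ = g * ((g⁻¹ * y) * n) * (g⁻¹ * y)⁻¹ * g⁻¹ := by group
    _ = g * (n * (g⁻¹ * y)) * (g⁻¹ * y)⁻¹ * g⁻¹ := by rw [h4]
    _ = g * n * g⁻¹ := by group

/-- uniqueness of decompositions -/
theorem decomp_unique {A B : Subgroup G} (hAB : A ⊓ B = ⊥) {a a' b b' : G} (ha : a ∈ A)
    (ha' : a' ∈ A) (hb : b ∈ B) (hb' : b' ∈ B) (h : a * b = a' * b') : a = a' ∧ b = b' := by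
  have h1 : a'⁻¹ * a = b' * b⁻¹ := by
    calc a'⁻¹ * a = a'⁻¹ * (a * b) * b⁻¹ := by group
      _ = a'⁻¹ * (a' * b') * b⁻¹ := by rw [h]
      _ = b' * b⁻¹ := by group
  have h2 : a'⁻¹ * a ∈ A ⊓ B :=
    ⟨A.mul_mem (A.inv_mem ha') ha, h1 ▸ B.mul_mem hb' (B.inv_mem hb)⟩
  rw [hAB, Subgroup.mem_bot] at h2
  have h3 : a = a' := by
    have := congrArg (fun t => a' * t) h2
    simpa using this
  refine ⟨h3, ?_⟩
  subst h3
  exact mul_left_cancel h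

include hp in
/-- (P): a `q`-element acting as `α` on `A` and `β` on `B` (`N = A × B`, both nontrivial) has
`α ≡ 1`, `β ≡ 1` or `α ≡ β` modulo `p`. -/
theorem lemma_P [Finite G] [hNn : N.Normal] (hQ : HypQ G)
    (hNc : ∀ a ∈ N, ∀ b ∈ N, a * b = b * a) (hNe : ∀ a ∈ N, a ^ p = 1) {q : ℕ} (hq : q.Prime)
    (hqp : q ≠ p) (y : G) (hy : ∃ b : ℕ, orderOf y = q ^ b) (A B : Subgroup G) (hA : A ≤ N)
    (hB : B ≤ N) (hA1 : A ≠ ⊥) (hB1 : B ≠ ⊥) (hAB : A ⊓ B = ⊥)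
    (hdec : ∀ n ∈ N, ∃ a ∈ A, ∃ b ∈ B, n = a * b) (α β : ℤ)
    (hα : ∀ a ∈ A, y * a * y⁻¹ = a ^ α) (hβ : ∀ b ∈ B, y * b * y⁻¹ = b ^ β) :
    α ≡ 1 [ZMOD p] ∨ β ≡ 1 [ZMOD p] ∨ α ≡ β [ZMOD p] := by
  by_contra hcon
  push Not at hcon
  obtain ⟨h1, h2, h3⟩ := hcon
  obtain ⟨⟨l, hl⟩, -, hdecy⟩ := struct_q hQ hNc hNe hq hqp y hy
  -- the centralizer of y in N is trivial
  have hfix : ∀ v ∈ N, y * v * y⁻¹ = v → v = 1 := by
    intro v hv hvf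
    obtain ⟨a, ha, b, hb, rfl⟩ := hdec v hv
    have e1 : y * (a * b) * y⁻¹ = a ^ α * b ^ β := by
      rw [← hα a ha, ← hβ b hb]; group
    rw [hvf] at e1
    obtain ⟨e2, e3⟩ := decomp_unique hAB ha (A.zpow_mem ha α) hb (B.zpow_mem hb β) e1
    have ha1 : a = 1 := by
      by_contra hne
      apply h1
      have : a ^ α = a ^ (1 : ℤ) := by rw [zpow_one]; exact e2.symm
      exact modEq_of_zpow_eq hNe (hA ha) hne this
    have hb1 : b = 1 := by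
      by_contra hne
      apply h2
      have : b ^ β = b ^ (1 : ℤ) := by rw [zpow_one]; exact e3.symm
      exact modEq_of_zpow_eq hNe (hB hb) hne this
    rw [ha1, hb1, mul_one]
  -- so y acts as the scalar l on N
  have hsc : ∀ n ∈ N, y * n * y⁻¹ = n ^ l := by
    intro n hn
    obtain ⟨a, ha, haf, c, hc, rfl⟩ := hdecy n hn
    have := hfix a ha haf
    subst this
    rw [one_mul]
    exact hl c hc
  obtain ⟨⟨a, ha⟩, ha1⟩ := Subgroup.ne_bot_iff_exists_ne_one.1 hA1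
  obtain ⟨⟨b, hb⟩, hb1⟩ := Subgroup.ne_bot_iff_exists_ne_one.1 hB1
  have ha1' : a ≠ 1 := fun h => ha1 (Subtype.ext h)
  have hb1' : b ≠ 1 := fun h => hb1 (Subtype.ext h)
  have e1 : α ≡ l [ZMOD p] :=
    modEq_of_zpow_eq hNe (hA ha) ha1' ((hα a ha).symm.trans (hsc a (hA ha)))
  have e2 : β ≡ l [ZMOD p] :=
    modEq_of_zpow_eq hNe (hB hb) hb1' ((hβ b hb).symm.trans (hsc b (hB hb)))
  exact h3 (e1.trans e2.symm)

include hp in
/-- (Q): a `q`-element swapping `A` and `B` has its square centralizing `A`. -/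
theorem lemma_Q [Finite G] [hNn : N.Normal] (hQ : HypQ G)
    (hNc : ∀ a ∈ N, ∀ b ∈ N, a * b = b * a) (hNe : ∀ a ∈ N, a ^ p = 1) {q : ℕ} (hq : q.Prime)
    (hqp : q ≠ p) (y : G) (hy : ∃ b : ℕ, orderOf y = q ^ b) (A B : Subgroup G) (hA : A ≤ N)
    (hB : B ≤ N) (hAB : A ⊓ B = ⊥)
    (hyA : ∀ a ∈ A, y * a * y⁻¹ ∈ B) (hyB : ∀ b ∈ B, y * b * y⁻¹ ∈ A) :
    ∀ a ∈ A, y * (y * a * y⁻¹) * y⁻¹ = a := by
  intro a ha
  by_cases ha1 : a = 1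
  · subst ha1; group
  set b := y * a * y⁻¹ with hb
  have hbB : b ∈ B := hyA a ha
  set a' := y * b * y⁻¹ with ha'
  have ha'A : a' ∈ A := hyB b hbB
  have hb1 : b ≠ 1 := by
    intro h
    apply ha1
    have : a = y⁻¹ * b * y := by rw [hb]; group
    rw [this, h]; group
  obtain ⟨μ, hμ⟩ := eig_of_hypQ hQ hNe hq hqp y hy (hA ha)
  have hc : a * y * a⁻¹ * y⁻¹ = a * b⁻¹ := by rw [hb]; group
  rw [hc] at hμ
  have hcomm : Commute a b⁻¹ := hNc a (hA ha) b⁻¹ (N.inv_mem (hB hbB))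
  have e1 : y * (a * b⁻¹) * y⁻¹ = b * a'⁻¹ := by rw [ha', hb]; group
  rw [e1, hcomm.mul_zpow] at hμ
  -- b * a'⁻¹ = a^μ * b⁻¹^μ ; rewrite as a'⁻¹ * b = a^μ * (b⁻¹)^μ
  have hcomm2 : b * a'⁻¹ = a'⁻¹ * b := hNc b (hB hbB) a'⁻¹ (N.inv_mem (hA ha'A))
  rw [hcomm2] at hμ
  obtain ⟨e2, e3⟩ := decomp_unique hAB (A.inv_mem ha'A) (A.zpow_mem ha μ) hbB
    (B.zpow_mem (B.inv_mem hbB) μ) hμ
  -- e3 : b = b⁻¹ ^ μ, so μ ≡ -1
  have e4 : b ^ (1 : ℤ) = b ^ (-μ) := by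
    rw [zpow_one, zpow_neg, ← inv_zpow]; exact e3
  have hμ1 : (1 : ℤ) ≡ -μ [ZMOD p] := modEq_of_zpow_eq hNe (hB hbB) hb1 e4
  -- e2 : a'⁻¹ = a ^ μ
  have e5 : a' = a ^ (-μ) := by
    rw [zpow_neg, ← e2, inv_inv]
  rw [e5, ← zpow_congr_of_exp hNe (hA ha) hμ1, zpow_one]

end Cfsg.Agent.Helper1.SupQ
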