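import Mathlib
import Cfsg.Agent.Helper1.SupQE
import Cfsg.Agent.Helper1.Supersolvable3
import Cfsg.Agent.Helper1.Supersolvable2

/-!
# S3033, part F: the scalar subgroup and the first steps.
-/

namespace Cfsg.Agent.Helper1.SupQ

open Cfsg.Agent.Helper1

universe u

variable {G : Type u} [Group G]

variable {p : ℕ} [hp : Fact p.Prime] {N : Subgroup G}

/-- the elements of `G` normalizing every cyclic subgroup of `N` -/
def scalarSubgroup (N : Subgroup G) : Subgroup G :=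
  ⨅ n : N, Subgroup.normalizer ((Subgroup.zpowers (n : G) : Subgroup G) : Set G)

theorem mem_scalarSubgroup_iff [Finite G] (g : G) :
    g ∈ scalarSubgroup N ↔ ∀ n ∈ N, g * n * g⁻¹ ∈ Subgroup.zpowers n := by
  unfold scalarSubgroup
  rw [Subgroup.mem_iInf]
  constructor
  · intro h n hn
    exact (Subgroup.mem_normalizer_iff.1 (h ⟨n, hn⟩) n).1 (Subgroup.mem_zpowers n)
  · intro h n
    apply mem_normalizer_of_conj_le_fin
    intro y hy
    obtain ⟨i, rfl⟩ := Subgroup.mem_zpowers_iff.1 hy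
    rw [conj_zpow']
    exact Subgroup.zpow_mem _ (h n n.2) i

theorem scalarSubgroup_normal [Finite G] [hNn : N.Normal] : (scalarSubgroup N).Normal := by
  constructor
  intro g hg h
  rw [mem_scalarSubgroup_iff] at hg ⊢
  intro n hn
  have hm : h⁻¹ * n * h ∈ N := by
    have := hNn.conj_mem n hn h⁻¹
    simpa using this
  obtain ⟨i, hi⟩ := Subgroup.mem_zpowers_iff.1 (hg _ hm)
  rw [Subgroup.mem_zpowers_iff]
  refine ⟨i, ?_⟩
  have e : h * g * h⁻¹ * n * (h * g * h⁻¹)⁻¹ = h * (g * (h⁻¹ * n * h) * g⁻¹) * h⁻¹ := by group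
  rw [e, ← hi, conj_zpow']
  congr 1
  group

theorem le_scalarSubgroup [Finite G] (hNc : ∀ a ∈ N, ∀ b ∈ N, a * b = b * a) :
    N ≤ scalarSubgroup N := by
  intro g hg
  rw [mem_scalarSubgroup_iff]
  intro n hn
  rw [hNc g hg n hn, mul_inv_cancel_right]
  exact Subgroup.mem_zpowers n

theorem mem_scalarSubgroup_of_centralizes [Finite G] {g : G} (h : ∀ n ∈ N, g * n * g⁻¹ = n) :
    g ∈ scalarSubgroup N := by
  rw [mem_scalarSubgroup_iff]
  intro n hn
  rw [h n hn]
  exact Subgroup.mem_zpowers n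

include hp in
theorem exists_scalar [Finite G] (hNc : ∀ a ∈ N, ∀ b ∈ N, a * b = b * a)
    (hNe : ∀ a ∈ N, a ^ p = 1) {g : G} (hg : g ∈ scalarSubgroup N) :
    ∃ k : ℤ, ∀ n ∈ N, g * n * g⁻¹ = n ^ k := by
  rw [mem_scalarSubgroup_iff] at hg
  apply scalar_of_all_eig hNc hNe N le_rfl g
  intro u hu
  obtain ⟨k, hk⟩ := Subgroup.mem_zpowers_iff.1 (hg u hu)
  exact ⟨k, hk.symm⟩

/-- Step 1: if every element is a scalar, `N` is cyclic -/
theorem cyclic_of_scalar_eq_top [Finite G] [hNn : N.Normal] (hN1 : N ≠ ⊥)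
    (hmin : ∀ K : Subgroup G, K.Normal → K ≤ N → K = ⊥ ∨ K = N)
    (hS : scalarSubgroup N = ⊤) : ∃ n₀ : G, N = Subgroup.zpowers n₀ := by
  obtain ⟨⟨n₀, hn₀⟩, hn₀1⟩ := Subgroup.ne_bot_iff_exists_ne_one.1 hN1
  have hn₀1' : n₀ ≠ 1 := fun h => hn₀1 (Subtype.ext h)
  refine ⟨n₀, ?_⟩
  have hnormal : (Subgroup.zpowers n₀).Normal := by
    constructor
    intro y hy g
    have hg : g ∈ scalarSubgroup N := by rw [hS]; exact Subgroup.mem_top g
    rw [mem_scalarSubgroup_iff] at hg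
    obtain ⟨i, rfl⟩ := Subgroup.mem_zpowers_iff.1 hy
    rw [conj_zpow']
    exact Subgroup.zpow_mem _ (hg n₀ hn₀) i
  rcases hmin _ hnormal (by rwa [Subgroup.zpowers_le]) with h | h
  · exfalso
    apply hn₀1'
    have : n₀ ∈ Subgroup.zpowers n₀ := Subgroup.mem_zpowers n₀
    rw [h, Subgroup.mem_bot] at this
    exact this
  · exact h.symm

/-- Step 2: a `q`-element outside the scalar subgroup, normal modulo it -/
theorem exists_nonscalar [Finite G] [hNn : N.Normal]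
    (hNc : ∀ a ∈ N, ∀ b ∈ N, a * b = b * a)
    (hGN : Cfsg.IsSupersolvable (G ⧸ N)) (hS : scalarSubgroup N ≠ ⊤) :
    ∃ (q : ℕ) (x : G), q.Prime ∧ (∃ b : ℕ, orderOf x = q ^ b) ∧ x ∉ scalarSubgroup N ∧
      ∀ g : G, ∃ i : ℕ, ∃ s ∈ scalarSubgroup N, g * x * g⁻¹ = x ^ i * s := by
  set S := scalarSubgroup N with hSdef
  haveI hSn : S.Normal := scalarSubgroup_normal
  have hNS : N ≤ S := le_scalarSubgroup hNc
  have hsup : Cfsg.IsSupersolvable (G ⧸ S) := by
    apply isSupersolvable_of_surjective hGN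
      (QuotientGroup.map N S (MonoidHom.id G) (by simpa using hNS))
    intro y
    obtain ⟨g, rfl⟩ := QuotientGroup.mk_surjective y
    exact ⟨QuotientGroup.mk g, rfl⟩
  haveI : Nontrivial (G ⧸ S) := by
    rw [← not_subsingleton_iff_nontrivial]
    intro hsub
    apply hS
    rw [eq_top_iff]
    intro g _
    have : (QuotientGroup.mk g : G ⧸ S) = 1 := Subsingleton.elim _ _
    exact (QuotientGroup.eq_one_iff g).1 this
  obtain ⟨A, hAn, hAp⟩ := exists_normal_prime_card hsup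
  have hAne : A ≠ ⊥ := ne_bot_of_prime_card hAp
  obtain ⟨⟨a, ha⟩, ha1⟩ := Subgroup.ne_bot_iff_exists_ne_one.1 hAne
  have ha1' : a ≠ 1 := fun h => ha1 (Subtype.ext h)
  set q := Nat.card A with hq
  have hoa : orderOf a = q := by
    have h1 : orderOf a ∣ q := by
      have := orderOf_dvd_natCard (⟨a, ha⟩ : A)
      rwa [Subgroup.orderOf_mk] at this
    rcases (Nat.dvd_prime hAp).1 h1 with h | h
    · exact absurd (orderOf_eq_one_iff.1 h) ha1'
    · exact h
  have hzA : Subgroup.zpowers a = A := by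
    apply Subgroup.eq_of_le_of_card_ge (by rwa [Subgroup.zpowers_le])
    rw [Nat.card_zpowers, hoa]
  obtain ⟨x, hxa, hxo⟩ := exists_prime_pow_lift (QuotientGroup.mk' S)
    (QuotientGroup.mk'_surjective S) hAp a ⟨1, by rw [hoa, pow_one]⟩
  refine ⟨q, x, hAp, hxo, ?_, ?_⟩
  · intro hx
    apply ha1'
    rw [← hxa]
    exact (QuotientGroup.eq_one_iff x).2 hx
  · intro g
    have h1 : (QuotientGroup.mk' S) (g * x * g⁻¹) ∈ A := by
      rw [map_mul, map_mul, map_inv, hxa]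
      exact hAn.conj_mem a ha _
    rw [← hzA, ← mem_powers_iff_mem_zpowers] at h1
    obtain ⟨i, hi⟩ := h1
    refine ⟨i, (x ^ i)⁻¹ * (g * x * g⁻¹), ?_, by group⟩
    have h2 : (QuotientGroup.mk' S) (x ^ i) = (QuotientGroup.mk' S) (g * x * g⁻¹) := by
      rw [map_pow, hxa]; exact hi
    exact QuotientGroup.eq.1 h2

end Cfsg.Agent.Helper1.SupQ
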