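import Mathlib
import Cfsg.Agent.Helper1.SupQF

/-!
# S3033, part G: Step 3 (no `p`-element case).
-/

namespace Cfsg.Agent.Helper1.SupQ

open Cfsg.Agent.Helper1

universe u

variable {G : Type u} [Group G]

variable {p : ℕ} [hp : Fact p.Prime] {N : Subgroup G}

theorem pow_act {A : Subgroup G} {g : G} {α : ℤ} (h : ∀ a ∈ A, g * a * g⁻¹ = a ^ α) :
    ∀ (m : ℕ), ∀ a ∈ A, g ^ m * a * (g ^ m)⁻¹ = a ^ (α ^ m) := by
  intro m
  induction m with
  | zero => intro a _; simp
  | succ m ih =>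
    intro a ha
    have e : g ^ (m + 1) * a * (g ^ (m + 1))⁻¹ = g * (g ^ m * a * (g ^ m)⁻¹) * g⁻¹ := by
      rw [pow_succ']; group
    rw [e, ih a ha, conj_zpow', h a ha, ← zpow_mul, pow_succ']

include hp in
theorem isPGroup_of_exp (hNe : ∀ a ∈ N, a ^ p = 1) : IsPGroup p N := fun ⟨a, ha⟩ => ⟨1, by
  apply Subtype.ext
  simp only [pow_one, SubmonoidClass.mk_pow, OneMemClass.coe_one]
  exact hNe a ha⟩

include hp in
/-- a `p`-element fixes a nonidentity element of the nontrivial normal `p`-subgroup `N` -/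
theorem exists_fixed_of_pElement [Finite G] [hNn : N.Normal] (hNe : ∀ a ∈ N, a ^ p = 1)
    (hN1 : N ≠ ⊥) (x : G) (hx : ∃ b : ℕ, orderOf x = p ^ b) :
    ∃ n ∈ N, n ≠ 1 ∧ x * n * x⁻¹ = n := by
  classical
  set P := Subgroup.zpowers x with hP
  have hPp : IsPGroup p P := by
    obtain ⟨b, hb⟩ := hx
    apply IsPGroup.of_card (n := b)
    rw [Nat.card_zpowers, hb]
  letI : MulAction P N := MulAction.compHom N ((MulAut.conjNormal (H := N)).comp P.subtype)
  have hact : ∀ (a : P) (n : N), ((a • n : N) : G) = (a : G) * n * (a : G)⁻¹ := fun a n => rfl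
  have hpd : p ∣ Nat.card N := by
    obtain ⟨k, hk⟩ := IsPGroup.iff_card.1 (isPGroup_of_exp hNe)
    have hk0 : k ≠ 0 := by
      rintro rfl
      rw [pow_zero] at hk
      exact hN1 (Subgroup.card_eq_one.1 hk)
    rw [hk]
    exact dvd_pow_self p hk0
  have h1 : (1 : N) ∈ MulAction.fixedPoints P N := by
    intro a
    apply Subtype.ext
    rw [hact]
    simp
  obtain ⟨n, hn, hn1⟩ := hPp.exists_fixed_point_of_prime_dvd_card_of_fixed_point N hpd h1
  refine ⟨n, n.2, fun h => hn1 (Subtype.ext h.symm), ?_⟩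
  have := hn ⟨x, Subgroup.mem_zpowers x⟩
  have h2 := congrArg Subtype.val this
  rw [hact] at h2
  exact h2

include hp in
/-- Step 3 -/
theorem no_p_nonscalar [Finite G] [hNn : N.Normal] (hNc : ∀ a ∈ N, ∀ b ∈ N, a * b = b * a)
    (hNe : ∀ a ∈ N, a ^ p = 1) (hN1 : N ≠ ⊥)
    (hmin : ∀ K : Subgroup G, K.Normal → K ≤ N → K = ⊥ ∨ K = N) (x : G)
    (hx : ∃ b : ℕ, orderOf x = p ^ b)
    (hconj : ∀ g : G, ∃ i : ℕ, ∃ s ∈ scalarSubgroup N, g * x * g⁻¹ = x ^ i * s) :
    x ∈ scalarSubgroup N := by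
  obtain ⟨n₁, hn₁, hn₁1, hfix⟩ := exists_fixed_of_pElement hNe hN1 x hx
  obtain ⟨b, hb⟩ := hx
  -- x fixes every conjugate of n₁
  have hall : ∀ g : G, x * (g⁻¹ * n₁ * g) * x⁻¹ = g⁻¹ * n₁ * g := by
    intro g
    obtain ⟨i, s, hs, hgx⟩ := hconj g
    rw [mem_scalarSubgroup_iff] at hs
    obtain ⟨k, hk⟩ := Subgroup.mem_zpowers_iff.1 (hs n₁ hn₁)
    have hxi : ∀ i : ℕ, x ^ i * n₁ * (x ^ i)⁻¹ = n₁ := by
      intro i
      have hc : Commute x n₁ := by
        have : x * n₁ = n₁ * x := by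
          calc x * n₁ = x * n₁ * x⁻¹ * x := by group
            _ = n₁ * x := by rw [hfix]
        exact this
      have := (hc.pow_left i).eq
      rw [this]; group
    set v := g⁻¹ * n₁ * g with hv
    have hvN : v ∈ N := by
      have := hNn.conj_mem n₁ hn₁ g⁻¹
      simpa [hv] using this
    have hv1 : v ≠ 1 := by
      intro h
      apply hn₁1
      have : n₁ = g * v * g⁻¹ := by rw [hv]; group
      rw [this, h]; group
    have e1 : x * v * x⁻¹ = v ^ k := by
      have : x * v * x⁻¹ = g⁻¹ * ((g * x * g⁻¹) * n₁ * (g * x * g⁻¹)⁻¹) * g := by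
        rw [hv]; group
      rw [this, hgx]
      have : x ^ i * s * n₁ * (x ^ i * s)⁻¹ = x ^ i * (s * n₁ * s⁻¹) * (x ^ i)⁻¹ := by group
      rw [this, ← hk, conj_zpow', hxi i, hv]
      have := conj_zpow' g⁻¹ n₁ k
      rw [inv_inv] at this
      exact this
    -- iterate
    have e2 := pow_act (A := Subgroup.zpowers v) (g := x) (α := k) (by
      intro a ha
      obtain ⟨j, rfl⟩ := Subgroup.mem_zpowers_iff.1 ha
      rw [conj_zpow', e1, ← zpow_mul, ← zpow_mul, mul_comm]) (p ^ b) v (Subgroup.mem_zpowers v)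
    have hx1 : x ^ (p ^ b) = 1 := by rw [← hb]; exact pow_orderOf_eq_one x
    rw [hx1] at e2
    simp only [one_mul, inv_one, mul_one] at e2
    have e3 : v ^ (1 : ℤ) = v ^ (k ^ (p ^ b)) := by rw [zpow_one]; exact e2
    have e4 : (1 : ℤ) ≡ k ^ (p ^ b) [ZMOD p] := modEq_of_zpow_eq hNe hvN hv1 e3
    have e5 : k ≡ 1 [ZMOD p] := by
      rw [← ZMod.intCast_eq_intCast_iff] at e4 ⊢
      push_cast at e4 ⊢
      rw [ZMod.pow_card_pow] at e4
      exact e4.symm
    rw [e1, zpow_congr_of_exp hNe hvN e5, zpow_one]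
  -- x centralizes N
  apply mem_scalarSubgroup_of_centralizes
  have hcl : Subgroup.normalClosure ({n₁} : Set G) = N := by
    have hle : Subgroup.normalClosure ({n₁} : Set G) ≤ N :=
      Subgroup.normalClosure_le_normal (by simpa using hn₁)
    rcases hmin _ Subgroup.normalClosure_normal hle with h | h
    · exfalso
      apply hn₁1
      have : n₁ ∈ Subgroup.normalClosure ({n₁} : Set G) :=
        Subgroup.subset_normalClosure (Set.mem_singleton n₁)
      rw [h, Subgroup.mem_bot] at this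
      exact this
    · exact h
  have hcent : N ≤ Subgroup.centralizer ({x} : Set G) := by
    rw [← hcl, Subgroup.normalClosure, Subgroup.closure_le]
    intro y hy
    rw [Group.mem_conjugatesOfSet_iff] at hy
    obtain ⟨a, ha, hay⟩ := hy
    rw [Set.mem_singleton_iff] at ha
    subst ha
    rw [isConj_iff] at hay
    obtain ⟨c, rfl⟩ := hay
    rw [SetLike.mem_coe, Subgroup.mem_centralizer_iff]
    intro z hz
    rw [Set.mem_singleton_iff] at hz
    subst hz
    have := hall c⁻¹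
    rw [inv_inv] at this
    calc z * (c * a * c⁻¹) = (z * (c * a * c⁻¹) * z⁻¹) * z := by group
      _ = (c * a * c⁻¹) * z := by rw [this]
  intro n hn
  have := Subgroup.mem_centralizer_iff.1 (hcent hn) x (Set.mem_singleton x)
  rw [this]; group

end Cfsg.Agent.Helper1.SupQ
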