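import Mathlib
import Cfsg.Agent.Helper1.SupQG

/-!
# S3033, part H: helper lemmas for Step 4.
-/

namespace Cfsg.Agent.Helper1.SupQ

open Cfsg.Agent.Helper1

universe u

variable {G : Type u} [Group G]

variable {p : ℕ} [hp : Fact p.Prime] {N : Subgroup G}

theorem mul_act {A : Subgroup G} {g h : G} {α α' : ℤ} (hg : ∀ a ∈ A, g * a * g⁻¹ = a ^ α)
    (hh : ∀ a ∈ A, h * a * h⁻¹ = a ^ α') : ∀ a ∈ A, (g * h) * a * (g * h)⁻¹ = a ^ (α * α') := by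
  intro a ha
  have e : g * h * a * (g * h)⁻¹ = g * (h * a * h⁻¹) * g⁻¹ := by group
  rw [e, hh a ha, conj_zpow', hg a ha, ← zpow_mul]

include hp in
/-- application of (P) to an arbitrary element acting diagonally with eigenvalues of `q`-power
order -/
theorem P_apply [Finite G] [hNn : N.Normal] (hQ : HypQ G)
    (hNc : ∀ a ∈ N, ∀ b ∈ N, a * b = b * a) (hNe : ∀ a ∈ N, a ^ p = 1) {q : ℕ} (hq : q.Prime)
    (hqp : q ≠ p) (A B : Subgroup G) (hA : A ≤ N)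
    (hB : B ≤ N) (hA1 : A ≠ ⊥) (hB1 : B ≠ ⊥) (hAB : A ⊓ B = ⊥)
    (hdec : ∀ n ∈ N, ∃ a ∈ A, ∃ b ∈ B, n = a * b) (g₀ : G) (α β : ℤ)
    (hα : ∀ a ∈ A, g₀ * a * g₀⁻¹ = a ^ α) (hβ : ∀ b ∈ B, g₀ * b * g₀⁻¹ = b ^ β) (e : ℕ)
    (hαq : α ^ (q ^ e) ≡ 1 [ZMOD p]) (hβq : β ^ (q ^ e) ≡ 1 [ZMOD p]) :
    α ≡ 1 [ZMOD p] ∨ β ≡ 1 [ZMOD p] ∨ α ≡ β [ZMOD p] := by
  have htriv : ∀ n ∈ N, g₀ ^ (q ^ e) * n * (g₀ ^ (q ^ e))⁻¹ = n := by
    intro n hn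
    obtain ⟨a, ha, b, hb, rfl⟩ := hdec n hn
    have e1 := pow_act hα (q ^ e) a ha
    have e2 := pow_act hβ (q ^ e) b hb
    rw [zpow_congr_of_exp hNe (hA ha) hαq, zpow_one] at e1
    rw [zpow_congr_of_exp hNe (hB hb) hβq, zpow_one] at e2
    calc g₀ ^ (q ^ e) * (a * b) * (g₀ ^ (q ^ e))⁻¹
        = (g₀ ^ (q ^ e) * a * (g₀ ^ (q ^ e))⁻¹) * (g₀ ^ (q ^ e) * b * (g₀ ^ (q ^ e))⁻¹) := by
          group
      _ = a * b := by rw [e1, e2]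
  obtain ⟨y, hy, hyact⟩ := exists_q_rep hq g₀ e htriv
  exact lemma_P hQ hNc hNe hq hqp y hy A B hA hB hA1 hB1 hAB hdec α β
    (fun a ha => (hyact a (hA ha)).trans (hα a ha))
    (fun b hb => (hyact b (hB hb)).trans (hβ b hb))

/-- odd powers of an element swapping `A` and `B` swap `A` and `B` -/
theorem swap_pow_odd {A B : Subgroup G} {g : G} (hgA : ∀ a ∈ A, g * a * g⁻¹ ∈ B)
    (hgB : ∀ b ∈ B, g * b * g⁻¹ ∈ A) (j : ℕ) :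
    (∀ a ∈ A, g ^ (2 * j + 1) * a * (g ^ (2 * j + 1))⁻¹ ∈ B) ∧
      (∀ b ∈ B, g ^ (2 * j + 1) * b * (g ^ (2 * j + 1))⁻¹ ∈ A) := by
  induction j with
  | zero => simpa using ⟨hgA, hgB⟩
  | succ j ih =>
    have e : ∀ c : G, g ^ (2 * (j + 1) + 1) * c * (g ^ (2 * (j + 1) + 1))⁻¹ =
        g * (g * (g ^ (2 * j + 1) * c * (g ^ (2 * j + 1))⁻¹) * g⁻¹) * g⁻¹ := by
      intro c
      have : 2 * (j + 1) + 1 = (2 * j + 1) + 1 + 1 := by ring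
      rw [this, pow_succ', pow_succ']; group
    constructor
    · intro a ha
      rw [e]
      exact hgA _ (hgB _ (ih.1 a ha))
    · intro b hb
      rw [e]
      exact hgB _ (hgA _ (ih.2 b hb))

/-- a `2`-power-order odd power of `g` -/
theorem exists_two_part [Finite G] (g : G) :
    ∃ (t j : ℕ), (∃ b : ℕ, orderOf (g ^ (2 * j + 1)) = 2 ^ b) ∧ t = 2 * j + 1 := by
  have hm0 : orderOf g ≠ 0 := (orderOf_pos g).ne'
  obtain ⟨e, t, ht, hm⟩ := Nat.exists_eq_pow_mul_and_not_dvd hm0 2 (by norm_num)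
  have hodd : t % 2 = 1 := by omega
  refine ⟨t, t / 2, ?_, by omega⟩
  have ht' : 2 * (t / 2) + 1 = t := by omega
  rw [ht']
  have h1 : (g ^ t) ^ (2 ^ e) = 1 := by
    rw [← pow_mul, mul_comm, ← hm, pow_orderOf_eq_one]
  obtain ⟨b, -, hb⟩ := (Nat.dvd_prime_pow Nat.prime_two).1 (orderOf_dvd_of_pow_eq_one h1)
  exact ⟨b, hb⟩

end Cfsg.Agent.Helper1.SupQ
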