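import Mathlib
import Cfsg.Agent.Helper1.SupQH

/-!
# S3033, part I: Step 4 (a `q`-element, `q ≠ p`, nonscalar but normal modulo scalars).
-/

namespace Cfsg.Agent.Helper1.SupQ

open Cfsg.Agent.Helper1

universe u

variable {G : Type u} [Group G]

variable {p : ℕ} [hp : Fact p.Prime] {N : Subgroup G}

include hp in
theorem eq_one_of_eq_inv (hNe : ∀ a ∈ N, a ^ p = 1) (hp2 : p ≠ 2) {n : G} (hn : n ∈ N)
    (h : n = n⁻¹) : n = 1 := by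
  by_contra hn1
  have h2 : n ^ (2 : ℤ) = 1 := by
    have : n ^ (2 : ℤ) = n * n := by
      rw [show (2 : ℤ) = ((2 : ℕ) : ℤ) by norm_num, zpow_natCast, pow_two]
    rw [this]
    nth_rewrite 2 [h]
    exact mul_inv_cancel n
  have h3 := (zpow_eq_one_iff_of_exp hNe hn hn1 2).1 h2
  have h4 : p ∣ 2 := by
    have : ((p : ℕ) : ℤ) ∣ ((2 : ℕ) : ℤ) := by simpa using h3
    exact Int.natCast_dvd_natCast.1 this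
  exact hp2 ((Nat.prime_dvd_prime_iff_eq hp.out Nat.prime_two).1 h4)

include hp in
/-- the last part of Step 4 -/
theorem final_contra [Finite G] [hNn : N.Normal] (hQ : HypQ G)
    (hNc : ∀ a ∈ N, ∀ b ∈ N, a * b = b * a) (hNe : ∀ a ∈ N, a ^ p = 1) (hp2 : p ≠ 2)
    (A B : Subgroup G) (hA : A ≤ N) (hB : B ≤ N) (hA1 : A ≠ ⊥) (hAB : A ⊓ B = ⊥)
    (hdec : ∀ n ∈ N, ∃ a ∈ A, ∃ b ∈ B, n = a * b) (x : G) (l : ℤ)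
    (hxA : ∀ a ∈ A, x * a * x⁻¹ = a) (hxB : ∀ b ∈ B, x * b * x⁻¹ = b ^ l)
    (hl2 : l * l ≡ 1 [ZMOD p]) (hl1 : ¬ l ≡ 1 [ZMOD p]) (g : G)
    (hgA : ∀ a ∈ A, g * a * g⁻¹ ∈ B) (hgB : ∀ b ∈ B, g * b * g⁻¹ ∈ A) : False := by
  obtain ⟨t, j, hm, -⟩ := exists_two_part g
  set m := g ^ (2 * j + 1) with hmdef
  obtain ⟨hmA, hmB⟩ := swap_pow_odd hgA hgB j
  have h2p : (2 : ℕ) ≠ p := fun h => hp2 h.symm
  have hBA : B ⊓ A = ⊥ := by rw [inf_comm]; exact hAB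
  have hm2A := lemma_Q hQ hNc hNe Nat.prime_two h2p m hm A B hA hB hAB hmA hmB
  have hm2B := lemma_Q hQ hNc hNe Nat.prime_two h2p m hm B A hB hA hBA hmB hmA
  set w₀ := x * m with hw₀
  have hwA : ∀ a ∈ A, w₀ * a * w₀⁻¹ ∈ B := by
    intro a ha
    have e : w₀ * a * w₀⁻¹ = x * (m * a * m⁻¹) * x⁻¹ := by rw [hw₀]; group
    rw [e, hxB _ (hmA a ha)]
    exact B.zpow_mem (hmA a ha) l
  have hwB : ∀ b ∈ B, w₀ * b * w₀⁻¹ ∈ A := by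
    intro b hb
    have e : w₀ * b * w₀⁻¹ = x * (m * b * m⁻¹) * x⁻¹ := by rw [hw₀]; group
    rw [e, hxA _ (hmB b hb)]
    exact hmB b hb
  have hw2A : ∀ a ∈ A, w₀ * (w₀ * a * w₀⁻¹) * w₀⁻¹ = a ^ l := by
    intro a ha
    have e : w₀ * (w₀ * a * w₀⁻¹) * w₀⁻¹ =
        x * (m * (x * (m * a * m⁻¹) * x⁻¹) * m⁻¹) * x⁻¹ := by rw [hw₀]; group
    rw [e, hxB _ (hmA a ha), conj_zpow', hm2A a ha, hxA _ (A.zpow_mem ha l)]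
  have hw2B : ∀ b ∈ B, w₀ * (w₀ * b * w₀⁻¹) * w₀⁻¹ = b ^ l := by
    intro b hb
    have e : w₀ * (w₀ * b * w₀⁻¹) * w₀⁻¹ =
        x * (m * (x * (m * b * m⁻¹) * x⁻¹) * m⁻¹) * x⁻¹ := by rw [hw₀]; group
    rw [e, hxA _ (hmB b hb), hm2B b hb, hxB b hb]
  have hw4 : ∀ n ∈ N, w₀ ^ (2 ^ 2) * n * (w₀ ^ (2 ^ 2))⁻¹ = n := by
    intro n hn
    obtain ⟨a, ha, b, hb, rfl⟩ := hdec n hn
    have e : w₀ ^ (2 ^ 2) * (a * b) * (w₀ ^ (2 ^ 2))⁻¹ =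
        (w₀ * (w₀ * (w₀ * (w₀ * a * w₀⁻¹) * w₀⁻¹) * w₀⁻¹) * w₀⁻¹) *
        (w₀ * (w₀ * (w₀ * (w₀ * b * w₀⁻¹) * w₀⁻¹) * w₀⁻¹) * w₀⁻¹) := by
      have : (2 : ℕ) ^ 2 = 0 + 1 + 1 + 1 + 1 := by norm_num
      rw [this, pow_succ, pow_succ, pow_succ, pow_succ, pow_zero]
      group
    rw [e, hw2A a ha, hw2A _ (A.zpow_mem ha l), hw2B b hb, hw2B _ (B.zpow_mem hb l),
      ← zpow_mul, ← zpow_mul, zpow_congr_of_exp hNe (hA ha) hl2,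
      zpow_congr_of_exp hNe (hB hb) hl2, zpow_one, zpow_one]
  obtain ⟨w, hw, hwact⟩ := exists_q_rep Nat.prime_two w₀ 2 hw4
  have hwA' : ∀ a ∈ A, w * a * w⁻¹ ∈ B := fun a ha => by
    rw [hwact a (hA ha)]; exact hwA a ha
  have hwB' : ∀ b ∈ B, w * b * w⁻¹ ∈ A := fun b hb => by
    rw [hwact b (hB hb)]; exact hwB b hb
  have hfin := lemma_Q hQ hNc hNe Nat.prime_two h2p w hw A B hA hB hAB hwA' hwB'
  obtain ⟨⟨a, ha⟩, ha1⟩ := Subgroup.ne_bot_iff_exists_ne_one.1 hA1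
  have ha1' : a ≠ 1 := fun h => ha1 (Subtype.ext h)
  have e1 := hfin a ha
  rw [hwact a (hA ha), hwact _ (hB (hwA a ha)), hw2A a ha] at e1
  apply hl1
  have : a ^ l = a ^ (1 : ℤ) := by rw [zpow_one]; exact e1
  exact modEq_of_zpow_eq hNe (hA ha) ha1' this

include hp in
/-- the conjugating element swaps the two eigenspaces -/
theorem swap_of_eigs [hNn : N.Normal]
    (hNc : ∀ a ∈ N, ∀ b ∈ N, a * b = b * a) (hNe : ∀ a ∈ N, a ^ p = 1) (hp2 : p ≠ 2)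
    (A B : Subgroup G) (hA : A ≤ N) (hB : B ≤ N) (hAB : A ⊓ B = ⊥)
    (hdec : ∀ n ∈ N, ∃ a ∈ A, ∃ b ∈ B, n = a * b) (x g : G) (l κ β : ℤ)
    (hxA : ∀ a ∈ A, x * a * x⁻¹ = a) (hxB : ∀ b ∈ B, x * b * x⁻¹ = b ^ l)
    (hκ : ∀ a ∈ A, (g * x * g⁻¹) * a * (g * x * g⁻¹)⁻¹ = a ^ κ)
    (hβ : ∀ b ∈ B, (g * x * g⁻¹) * b * (g * x * g⁻¹)⁻¹ = b ^ β)
    (hl : l ≡ -1 [ZMOD p]) (hκ1 : κ ≡ -1 [ZMOD p]) (hβ1 : β ≡ 1 [ZMOD p]) :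
    (∀ a ∈ A, g * a * g⁻¹ ∈ B) ∧ (∀ b ∈ B, g * b * g⁻¹ ∈ A) := by
  constructor
  · intro a ha
    have hN' : g * a * g⁻¹ ∈ N := hNn.conj_mem a (hA ha) g
    obtain ⟨a₁, ha₁, b₁, hb₁, hab⟩ := hdec _ hN'
    have e1 : (g * x * g⁻¹) * (g * a * g⁻¹) * (g * x * g⁻¹)⁻¹ = g * a * g⁻¹ := by
      have e : (g * x * g⁻¹) * (g * a * g⁻¹) * (g * x * g⁻¹)⁻¹ = g * (x * a * x⁻¹) * g⁻¹ := by
        group
      rw [e, hxA a ha]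
    rw [hab] at e1
    have e2 : (g * x * g⁻¹) * (a₁ * b₁) * (g * x * g⁻¹)⁻¹ = a₁⁻¹ * b₁ := by
      have e : (g * x * g⁻¹) * (a₁ * b₁) * (g * x * g⁻¹)⁻¹ =
          ((g * x * g⁻¹) * a₁ * (g * x * g⁻¹)⁻¹) * ((g * x * g⁻¹) * b₁ * (g * x * g⁻¹)⁻¹) := by
        group
      rw [e, hκ a₁ ha₁, hβ b₁ hb₁, zpow_congr_of_exp hNe (hA ha₁) hκ1,
        zpow_congr_of_exp hNe (hB hb₁) hβ1, zpow_one, zpow_neg, zpow_one]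
    rw [e2] at e1
    obtain ⟨e3, -⟩ := decomp_unique hAB (A.inv_mem ha₁) ha₁ hb₁ hb₁ e1
    have := eq_one_of_eq_inv hNe hp2 (hA ha₁) e3.symm
    rw [hab, this, one_mul]
    exact hb₁
  · intro b hb
    have hN' : g * b * g⁻¹ ∈ N := hNn.conj_mem b (hB hb) g
    obtain ⟨a₁, ha₁, b₁, hb₁, hab⟩ := hdec _ hN'
    have e1 : (g * x * g⁻¹) * (g * b * g⁻¹) * (g * x * g⁻¹)⁻¹ = (g * b * g⁻¹)⁻¹ := by
      have e : (g * x * g⁻¹) * (g * b * g⁻¹) * (g * x * g⁻¹)⁻¹ = g * (x * b * x⁻¹) * g⁻¹ := by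
        group
      rw [e, hxB b hb, zpow_congr_of_exp hNe (hB hb) hl, zpow_neg, zpow_one]
      group
    rw [hab] at e1
    have e2 : (g * x * g⁻¹) * (a₁ * b₁) * (g * x * g⁻¹)⁻¹ = a₁⁻¹ * b₁ := by
      have e : (g * x * g⁻¹) * (a₁ * b₁) * (g * x * g⁻¹)⁻¹ =
          ((g * x * g⁻¹) * a₁ * (g * x * g⁻¹)⁻¹) * ((g * x * g⁻¹) * b₁ * (g * x * g⁻¹)⁻¹) := by
        group
      rw [e, hκ a₁ ha₁, hβ b₁ hb₁, zpow_congr_of_exp hNe (hA ha₁) hκ1,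
        zpow_congr_of_exp hNe (hB hb₁) hβ1, zpow_one, zpow_neg, zpow_one]
    rw [e2] at e1
    have e3 : (a₁ * b₁)⁻¹ = a₁⁻¹ * b₁⁻¹ := by
      rw [mul_inv_rev]
      exact hNc _ (N.inv_mem (hB hb₁)) _ (N.inv_mem (hA ha₁))
    rw [e3] at e1
    obtain ⟨-, e4⟩ := decomp_unique hAB (A.inv_mem ha₁) (A.inv_mem ha₁) hb₁ (B.inv_mem hb₁) e1
    have := eq_one_of_eq_inv hNe hp2 (hB hb₁) e4
    rw [hab, this, mul_one]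
    exact ha₁

end Cfsg.Agent.Helper1.SupQ
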