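import Mathlib
import Cfsg.Agent.Helper1.SupQI

/-!
# S3033, part J: Step 4 assembled.
-/

namespace Cfsg.Agent.Helper1.SupQ

open Cfsg.Agent.Helper1

universe u

variable {G : Type u} [Group G]

variable {p : ℕ} [hp : Fact p.Prime] {N : Subgroup G}

include hp in
/-- Step 4 -/
theorem step4 [Finite G] [hNn : N.Normal] (hQ : HypQ G)
    (hNc : ∀ a ∈ N, ∀ b ∈ N, a * b = b * a) (hNe : ∀ a ∈ N, a ^ p = 1) (hN1 : N ≠ ⊥)
    (hmin : ∀ K : Subgroup G, K.Normal → K ≤ N → K = ⊥ ∨ K = N) {q : ℕ} (hq : q.Prime)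
    (hqp : q ≠ p) (x : G) (hx : ∃ b : ℕ, orderOf x = q ^ b) (hxS : x ∉ scalarSubgroup N)
    (hconj : ∀ g : G, ∃ i : ℕ, ∃ s ∈ scalarSubgroup N, g * x * g⁻¹ = x ^ i * s) : False := by
  obtain ⟨⟨l, hl⟩, hfixB, hdecx⟩ := struct_q hQ hNc hNe hq hqp x hx
  set B := commImage N hNc x with hBdef
  set A : Subgroup G := N ⊓ Subgroup.centralizer ({x} : Set G) with hAdef
  have hA : A ≤ N := inf_le_left
  have hB : B ≤ N := commImage_le hNc x
  have hxA : ∀ a ∈ A, x * a * x⁻¹ = a := by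
    intro a ha
    have := Subgroup.mem_centralizer_iff.1 ha.2 x (Set.mem_singleton x)
    rw [this]; group
  have hmemA : ∀ a ∈ N, x * a * x⁻¹ = a → a ∈ A := by
    intro a ha hfix
    refine ⟨ha, ?_⟩
    show a ∈ Subgroup.centralizer ({x} : Set G)
    rw [Subgroup.mem_centralizer_iff]
    intro z hz
    rw [Set.mem_singleton_iff] at hz
    subst hz
    calc z * a = (z * a * z⁻¹) * z := by group
      _ = a * z := by rw [hfix]
  have hAB : A ⊓ B = ⊥ := by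
    rw [eq_bot_iff]
    intro c hc
    rw [Subgroup.mem_bot]
    exact hfixB c hc.2 (hxA c hc.1)
  have hdec : ∀ n ∈ N, ∃ a ∈ A, ∃ b ∈ B, n = a * b := by
    intro n hn
    obtain ⟨a, ha, hfix, c, hc, rfl⟩ := hdecx n hn
    exact ⟨a, hmemA a ha hfix, c, hc, rfl⟩
  have hA1 : A ≠ ⊥ := by
    intro hAbot
    apply hxS
    rw [mem_scalarSubgroup_iff]
    intro n hn
    obtain ⟨a, ha, b, hb, rfl⟩ := hdec n hn
    rw [hAbot, Subgroup.mem_bot] at ha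
    subst ha
    rw [one_mul, hl b hb]
    exact Subgroup.zpow_mem_zpowers b l
  have hB1 : B ≠ ⊥ := by
    intro hBbot
    apply hxS
    apply mem_scalarSubgroup_of_centralizes
    intro n hn
    obtain ⟨a, ha, b, hb, rfl⟩ := hdec n hn
    rw [hBbot, Subgroup.mem_bot] at hb
    subst hb
    rw [mul_one]; exact hxA a ha
  obtain ⟨⟨a₀, ha₀⟩, ha₀1⟩ := Subgroup.ne_bot_iff_exists_ne_one.1 hA1
  have ha₀1' : a₀ ≠ 1 := fun h => ha₀1 (Subtype.ext h)
  obtain ⟨⟨b₀, hb₀⟩, hb₀1⟩ := Subgroup.ne_bot_iff_exists_ne_one.1 hB1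
  have hb₀1' : b₀ ≠ 1 := fun h => hb₀1 (Subtype.ext h)
  have hl1 : ¬ l ≡ 1 [ZMOD p] := by
    intro h
    apply hb₀1'
    apply hfixB b₀ hb₀
    rw [hl b₀ hb₀, zpow_congr_of_exp hNe (hB hb₀) h, zpow_one]
  -- A is not normal
  have hAnn : ¬ A.Normal := by
    intro hAn
    rcases hmin A hAn hA with h | h
    · exact hA1 h
    · apply hB1
      rw [eq_bot_iff, ← hAB]
      exact le_inf (h ▸ hB) le_rfl
  have hex : ∃ g : G, ∃ v ∈ A, g * v * g⁻¹ ∉ A := by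
    by_contra hcon
    push Not at hcon
    exact hAnn ⟨fun n hn g => hcon g n hn⟩
  obtain ⟨g, v, hv, hgv⟩ := hex
  obtain ⟨i, s, hs, hgx⟩ := hconj g
  obtain ⟨κ, hκ⟩ := exists_scalar hNc hNe hs
  have hx'A : ∀ a ∈ A, (g * x * g⁻¹) * a * (g * x * g⁻¹)⁻¹ = a ^ κ := by
    intro a ha
    have e : (g * x * g⁻¹) * a * (g * x * g⁻¹)⁻¹ = x ^ i * (s * a * s⁻¹) * (x ^ i)⁻¹ := by
      rw [hgx]; group
    rw [e, hκ a (hA ha)]
    have := pow_act (A := A) (g := x) (α := 1)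
      (by intro a ha; rw [zpow_one]; exact hxA a ha) i (a ^ κ) (A.zpow_mem ha κ)
    rw [this, one_pow, zpow_one]
  have hx'B : ∀ b ∈ B, (g * x * g⁻¹) * b * (g * x * g⁻¹)⁻¹ = b ^ (l ^ i * κ) := by
    intro b hb
    have e : (g * x * g⁻¹) * b * (g * x * g⁻¹)⁻¹ = x ^ i * (s * b * s⁻¹) * (x ^ i)⁻¹ := by
      rw [hgx]; group
    rw [e, hκ b (hB hb)]
    have := pow_act (A := B) (g := x) (α := l) hl i (b ^ κ) (B.zpow_mem hb κ)
    rw [this, ← zpow_mul, mul_comm]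
  set β := l ^ i * κ with hβdef
  have hgvN : g * v * g⁻¹ ∈ N := hNn.conj_mem v (hA hv) g
  obtain ⟨a₁, ha₁, b₁, hb₁, hab⟩ := hdec _ hgvN
  have hb₁1 : b₁ ≠ 1 := by
    intro h
    apply hgv
    rw [hab, h, mul_one]; exact ha₁
  have hfixgv : (g * x * g⁻¹) * (g * v * g⁻¹) * (g * x * g⁻¹)⁻¹ = g * v * g⁻¹ := by
    have e : (g * x * g⁻¹) * (g * v * g⁻¹) * (g * x * g⁻¹)⁻¹ = g * (x * v * x⁻¹) * g⁻¹ := by
      group
    rw [e, hxA v hv]
  have hβ1 : β ≡ 1 [ZMOD p] := by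
    rw [hab] at hfixgv
    have e : (g * x * g⁻¹) * (a₁ * b₁) * (g * x * g⁻¹)⁻¹ = a₁ ^ κ * b₁ ^ β := by
      rw [← hx'A a₁ ha₁, ← hx'B b₁ hb₁]; group
    rw [e] at hfixgv
    obtain ⟨-, e3⟩ := decomp_unique hAB (A.zpow_mem ha₁ κ) ha₁ (B.zpow_mem hb₁ β) hb₁ hfixgv
    have : b₁ ^ β = b₁ ^ (1 : ℤ) := by rw [zpow_one]; exact e3
    exact modEq_of_zpow_eq hNe (hB hb₁) hb₁1 this
  have hκ1 : ¬ κ ≡ 1 [ZMOD p] := by
    intro h
    apply hxS
    apply mem_scalarSubgroup_of_centralizes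
    have hx'N : ∀ n ∈ N, (g * x * g⁻¹) * n * (g * x * g⁻¹)⁻¹ = n := by
      intro n hn
      obtain ⟨a, ha, b, hb, rfl⟩ := hdec n hn
      have e : (g * x * g⁻¹) * (a * b) * (g * x * g⁻¹)⁻¹ =
          ((g * x * g⁻¹) * a * (g * x * g⁻¹)⁻¹) * ((g * x * g⁻¹) * b * (g * x * g⁻¹)⁻¹) := by
        group
      rw [e, hx'A a ha, hx'B b hb, zpow_congr_of_exp hNe (hA ha) h,
        zpow_congr_of_exp hNe (hB hb) hβ1, zpow_one, zpow_one]
    intro n hn
    have hn' : g * n * g⁻¹ ∈ N := hNn.conj_mem n hn g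
    have h1 := hx'N _ hn'
    have e : (g * x * g⁻¹) * (g * n * g⁻¹) * (g * x * g⁻¹)⁻¹ = g * (x * n * x⁻¹) * g⁻¹ := by
      group
    rw [e] at h1
    calc x * n * x⁻¹ = g⁻¹ * (g * (x * n * x⁻¹) * g⁻¹) * g := by group
      _ = g⁻¹ * (g * n * g⁻¹) * g := by rw [h1]
      _ = n := by group
  have hκp : ¬ (p : ℤ) ∣ κ := by
    intro h
    apply ha₀1'
    have e1 := hκ a₀ (hA ha₀)
    have h0 : a₀ ^ κ = 1 := by
      obtain ⟨c, rfl⟩ := h
      rw [zpow_mul, zpow_natCast, hNe a₀ (hA ha₀), one_zpow]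
    rw [h0] at e1
    calc a₀ = s⁻¹ * (s * a₀ * s⁻¹) * s := by group
      _ = 1 := by rw [e1]; group
  obtain ⟨e₀, he₀⟩ := hx
  have hxq : x ^ (q ^ e₀) = 1 := by rw [← he₀]; exact pow_orderOf_eq_one x
  have hx'q : (g * x * g⁻¹) ^ (q ^ e₀) = 1 := by
    rw [← conj_pow', hxq]; group
  have hlq : l ^ (q ^ e₀) ≡ 1 [ZMOD p] := by
    have e := pow_act hl (q ^ e₀) b₀ hb₀
    rw [hxq] at e
    simp only [one_mul, inv_one, mul_one] at e
    have : b₀ ^ (l ^ (q ^ e₀)) = b₀ ^ (1 : ℤ) := by rw [zpow_one]; exact e.symm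
    exact modEq_of_zpow_eq hNe (hB hb₀) hb₀1' this
  have hκq : κ ^ (q ^ e₀) ≡ 1 [ZMOD p] := by
    have e := pow_act hx'A (q ^ e₀) a₀ ha₀
    rw [hx'q] at e
    simp only [one_mul, inv_one, mul_one] at e
    have : a₀ ^ (κ ^ (q ^ e₀)) = a₀ ^ (1 : ℤ) := by rw [zpow_one]; exact e.symm
    exact modEq_of_zpow_eq hNe (hA ha₀) ha₀1' this
  have hβq : β ^ (q ^ e₀) ≡ 1 [ZMOD p] := by
    have := hβ1.pow (q ^ e₀)
    rwa [one_pow] at this
  have hxA' : ∀ a ∈ A, x * a * x⁻¹ = a ^ (1 : ℤ) := fun a ha => by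
    rw [zpow_one]; exact hxA a ha
  have h1 := P_apply hQ hNc hNe hq hqp A B hA hB hA1 hB1 hAB hdec (x * (g * x * g⁻¹))
    (1 * κ) (l * β) (mul_act hxA' hx'A) (mul_act hl hx'B) e₀
    (by rw [one_mul]; exact hκq)
    (by rw [mul_pow]; simpa using hlq.mul hβq)
  have hlβ : l * β ≡ l [ZMOD p] := by
    have := hβ1.mul_left l
    rwa [mul_one] at this
  have hκl : κ ≡ l [ZMOD p] := by
    rcases h1 with h | h | h
    · rw [one_mul] at h; exact absurd h hκ1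
    · exact absurd (hlβ.symm.trans h) hl1
    · rw [one_mul] at h; exact h.trans hlβ
  have h2 := P_apply hQ hNc hNe hq hqp A B hA hB hA1 hB1 hAB hdec
    (x * (g * x * g⁻¹) * (g * x * g⁻¹))
    (1 * κ * κ) (l * β * β) (mul_act (mul_act hxA' hx'A) hx'A)
    (mul_act (mul_act hl hx'B) hx'B) e₀
    (by rw [one_mul, mul_pow]; simpa using hκq.mul hκq)
    (by rw [mul_pow, mul_pow]; simpa using (hlq.mul hβq).mul hβq)
  have hlββ : l * β * β ≡ l [ZMOD p] := by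
    have := hlβ.mul hβ1
    rwa [mul_one] at this
  have hκ2 : κ * κ ≡ 1 [ZMOD p] := by
    rcases h2 with h | h | h
    · rw [one_mul] at h; exact h
    · exact absurd (hlββ.symm.trans h) hl1
    · exfalso
      rw [one_mul] at h
      have h3 : κ * κ ≡ κ [ZMOD p] := (h.trans hlββ).trans hκl.symm
      have h4 : (p : ℤ) ∣ κ * (κ - 1) := by
        have := Int.modEq_iff_dvd.1 h3.symm
        convert this using 1; ring
      rcases Int.Prime.dvd_mul' hp.out h4 with h5 | h5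
      · exact hκp h5
      · exact hκ1 (Int.modEq_iff_dvd.2 h5).symm
  have hκm1 : κ ≡ -1 [ZMOD p] := by
    have h4 : (p : ℤ) ∣ (κ - 1) * (κ + 1) := by
      have := Int.modEq_iff_dvd.1 hκ2.symm
      convert this using 1; ring
    rcases Int.Prime.dvd_mul' hp.out h4 with h | h
    · exact absurd (Int.modEq_iff_dvd.2 h).symm hκ1
    · have : (-1 : ℤ) ≡ κ [ZMOD p] := Int.modEq_iff_dvd.2 (by simpa using h)
      exact this.symm
  have hlm1 : l ≡ -1 [ZMOD p] := hκl.symm.trans hκm1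
  have hp2 : p ≠ 2 := by
    intro h2
    apply hκ1
    have : (-1 : ℤ) ≡ 1 [ZMOD p] := by
      rw [h2]; decide
    exact hκm1.trans this
  obtain ⟨hgA, hgB⟩ := swap_of_eigs hNc hNe hp2 A B hA hB hAB hdec x g l κ β hxA hl hx'A hx'B
    hlm1 hκm1 hβ1
  have hl2 : l * l ≡ 1 [ZMOD p] := by simpa using hlm1.mul hlm1
  exact final_contra hQ hNc hNe hp2 A B hA hB hA1 hAB hdec x l hxA hl hl2 hl1 g hgA hgB

include hp in
/-- a minimal normal subgroup of a group with `HypQ`, with supersolvable quotient, is cyclic -/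
theorem minimal_normal_cyclic [Finite G] [hNn : N.Normal] (hQ : HypQ G)
    (hNc : ∀ a ∈ N, ∀ b ∈ N, a * b = b * a) (hNe : ∀ a ∈ N, a ^ p = 1) (hN1 : N ≠ ⊥)
    (hmin : ∀ K : Subgroup G, K.Normal → K ≤ N → K = ⊥ ∨ K = N)
    (hGN : Cfsg.IsSupersolvable (G ⧸ N)) : ∃ n₀ : G, N = Subgroup.zpowers n₀ := by
  by_cases hS : scalarSubgroup N = ⊤
  · exact cyclic_of_scalar_eq_top hN1 hmin hS
  · exfalso
    obtain ⟨q, x, hq, hx, hxS, hconj⟩ := exists_nonscalar hNc hGN hS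
    by_cases hqp : q = p
    · subst hqp
      exact hxS (no_p_nonscalar hNc hNe hN1 hmin x hx hconj)
    · exact step4 hQ hNc hNe hN1 hmin hq hqp x hx hxS hconj

end Cfsg.Agent.Helper1.SupQ
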