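import Mathlib
import Cfsg.Agent.Helper1.SupQJ
import Cfsg.Agent.Helper1.SupQB
import Cfsg.Agent.Helper1.CoreFree
import Cfsg.Agent.Helper1.EPPO
import Cfsg.Agent.Helper1.Supersolvable6

/-!
# S3033, part K: the main theorem.
-/

namespace Cfsg.Agent.Helper1.SupQ

open Cfsg.Agent.Helper1

universe u

/-- a finite group with `HypQ` is supersolvable -/
theorem isSupersolvable_of_hypQ : ∀ (n : ℕ) (G : Type u) [Group G] [Finite G],
    Nat.card G = n → HypQ G → Cfsg.IsSupersolvable G := by
  intro n
  induction n using Nat.strong_induction_on with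
  | _ n ih =>
    intro G _ _ hn hQ
    by_cases hG1 : Subsingleton G
    · exact isSupersolvable_of_subsingleton
    rw [not_subsingleton_iff_nontrivial] at hG1
    -- proper subgroups are supersolvable
    have hsub : ∀ H : Subgroup G, H ≠ ⊤ → Cfsg.IsSupersolvable H := by
      intro H hH
      have hlt : Nat.card H < n := by
        rw [← hn]
        exact lt_of_le_of_ne (Subgroup.card_le_card_group H)
          (fun h => hH (Subgroup.card_eq_iff_eq_top H |>.1 h))
      exact ih _ hlt H rfl (hQ.subgroup H)
    haveI hsol : Group.IsSolvable G := isSolvable_of_proper_supersolvable hsub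
    obtain ⟨p, hp, N, hNn, hN1, hNp, hNc, hmin⟩ := exists_minimal_normal_abelian G
    haveI := hp
    haveI := hNn
    have hNe := minimal_normal_abelian_pow_eq_one N hN1 hNp hNc hmin
    have hNc' : ∀ a ∈ N, ∀ b ∈ N, a * b = b * a := by
      intro a ha b hb
      have := hNc.is_comm.comm (⟨a, ha⟩ : N) ⟨b, hb⟩
      exact congrArg Subtype.val this
    have hGN : Cfsg.IsSupersolvable (G ⧸ N) := by
      have hlt : Nat.card (G ⧸ N) < n := by
        rw [← hn]; exact card_quotient_lt N hN1
      exact ih _ hlt (G ⧸ N) rfl (hQ.quotient N)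
    obtain ⟨n₀, hn₀⟩ := minimal_normal_cyclic hQ hNc' hNe hN1 hmin hGN
    haveI : IsCyclic N := by
      rw [hn₀]
      infer_instance
    exact isSupersolvable_of_cyclic_normal N hGN

end Cfsg.Agent.Helper1.SupQ
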