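import Mathlib
import Cfsg.Prelude.Def_SolvableStructure
import Cfsg.Agent.Helper1.Supersolvable5
import Cfsg.Agent.Helper1.Supersolvable6
import Cfsg.Agent.Helper1.Hall

set_option autoImplicit false

/-!
Abelian groups are supersolvable; a solvable group times a suitable abelian group is CLT.
-/

namespace Cfsg.Agent.Helper1

universe u v

theorem isSupersolvable_of_commGroup : ∀ (k : ℕ) (A : Type u) [CommGroup A] [Finite A],
    Nat.card A = k → Cfsg.IsSupersolvable A := by
  intro k
  induction k using Nat.strong_induction_on with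
  | _ k ih =>
  intro A _ _ hk
  by_cases hnt : Nontrivial A
  · obtain ⟨g, hg⟩ := exists_ne (1 : A)
    have hNne : Subgroup.zpowers g ≠ ⊥ := by
      intro h
      apply hg
      have : g ∈ Subgroup.zpowers g := Subgroup.mem_zpowers g
      rwa [h, Subgroup.mem_bot] at this
    have hlt : Nat.card (A ⧸ Subgroup.zpowers g) < k := hk ▸ card_quotient_lt _ hNne
    apply isSupersolvable_of_cyclic_normal (Subgroup.zpowers g)
    exact ih _ hlt (A ⧸ Subgroup.zpowers g) rfl
  · rw [not_nontrivial_iff_subsingleton] at hnt
    exact isSupersolvable_of_subsingleton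

theorem exists_hall_split (g a d : ℕ) (hg : g ≠ 0) (ha : a ≠ 0) (hd : d ∣ g * a)
    (hA : ∀ p : ℕ, p.Prime → p ∣ a → p ∣ g)
    (hexp : ∀ p : ℕ, p.Prime → p ∣ g → a.factorization p + 1 = g.factorization p) :
    ∃ m n : ℕ, g = m * n ∧ m.Coprime n ∧ m ∣ d ∧ d / m ∣ a := by
  classical
  have hga : g * a ≠ 0 := Nat.mul_ne_zero hg ha
  have hd0 : d ≠ 0 := fun h => hga (Nat.eq_zero_of_zero_dvd (h ▸ hd))
  set f : ℕ →₀ ℕ := g.factorization.filter (fun p => g.factorization p ≤ d.factorization p)
    with hf
  have hfapp : ∀ p, f p = if g.factorization p ≤ d.factorization p then g.factorization p else 0 :=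
    fun p => Finsupp.filter_apply _ _ _
  have hfle : f ≤ g.factorization := by
    intro p
    rw [hfapp]
    split_ifs <;> simp
  set m := f.prod (· ^ ·) with hm
  have hmf : m.factorization = f := Nat.factorization_prod_pow_eq_self_of_le_factorization hfle
  have hmg : m ∣ g := Nat.prod_pow_dvd_of_le_factorization hfle
  have hm0 : m ≠ 0 := fun h => hg (Nat.eq_zero_of_zero_dvd (h ▸ hmg))
  have hn0 : g / m ≠ 0 := by
    intro h
    have := Nat.div_mul_cancel hmg
    rw [h, zero_mul] at this
    exact hg this.symm
  have hmd : m ∣ d := by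
    rw [← Nat.factorization_le_iff_dvd hm0 hd0, hmf]
    intro p
    rw [hfapp]
    split_ifs with h
    · exact h
    · exact Nat.zero_le _
  refine ⟨m, g / m, (Nat.mul_div_cancel' hmg).symm, ?_, hmd, ?_⟩
  · apply Nat.coprime_of_dvd
    intro k hk hkm hkn
    have h1 : 0 < m.factorization k := hk.factorization_pos_of_dvd hm0 hkm
    have h2 : 0 < (g / m).factorization k := hk.factorization_pos_of_dvd hn0 hkn
    rw [Nat.factorization_div hmg, Finsupp.tsub_apply, hmf] at h2
    rw [hmf, hfapp] at h1
    rw [hfapp] at h2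
    split_ifs at h1 h2 with h
    · omega
    · omega
  · have hdm0 : d / m ≠ 0 := by
      intro h
      have := Nat.div_mul_cancel hmd
      rw [h, zero_mul] at this
      exact hd0 this.symm
    rw [← Nat.factorization_le_iff_dvd hdm0 ha, Nat.factorization_div hmd, hmf]
    intro p
    rw [Finsupp.tsub_apply, hfapp]
    by_cases hp : p.Prime
    · have hdle : d.factorization p ≤ g.factorization p + a.factorization p := by
        have := (Nat.factorization_le_iff_dvd hd0 hga).2 hd p
        rwa [Nat.factorization_mul hg ha, Finsupp.add_apply] at this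
      by_cases hpg : p ∣ g
      · have := hexp p hp hpg
        split_ifs with h <;> omega
      · have h1 : g.factorization p = 0 := Nat.factorization_eq_zero_of_not_dvd hpg
        have h2 : a.factorization p = 0 :=
          Nat.factorization_eq_zero_of_not_dvd (fun h => hpg (hA p hp h))
        split_ifs with h <;> omega
    · have : d.factorization p = 0 := Nat.factorization_eq_zero_of_not_prime _ hp
      rw [this]
      simp

theorem hasSubgroupOfEveryOrder_prod_abelian {G : Type u} {A : Type v} [Group G] [CommGroup A]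
    [Finite G] [Finite A] [Group.IsSolvable G]
    (hA : ∀ p : ℕ, p.Prime → p ∣ Nat.card A → p ∣ Nat.card G)
    (hexp : ∀ p : ℕ, p.Prime → p ∣ Nat.card G →
      (Nat.card A).factorization p + 1 = (Nat.card G).factorization p) :
    Cfsg.HasSubgroupOfEveryOrder (G × A) := by
  intro d hd
  rw [Nat.card_prod] at hd
  obtain ⟨m, n, hmn, hcop, hmd, hda⟩ := exists_hall_split (Nat.card G) (Nat.card A) d
    Nat.card_pos.ne' Nat.card_pos.ne' hd hA hexp
  obtain ⟨H, hH, -⟩ := ((hallProp_of_solvable _ G rfl) m n hmn hcop).2 ⊥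
    (by rw [Subgroup.card_bot]; exact Nat.coprime_one_left _)
  obtain ⟨B, hB⟩ := hasSubgroupOfEveryOrder_of_supersolvable _ A rfl
    (isSupersolvable_of_commGroup _ A rfl) (d / m) hda
  refine ⟨H.prod B, ?_⟩
  rw [Nat.card_congr (Subgroup.prodEquiv H B).toEquiv, Nat.card_prod, hH, hB,
    Nat.mul_div_cancel' hmd]

end Cfsg.Agent.Helper1
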