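import Mathlib
import Cfsg.Prelude.Def_FusionSystem

/-!
# The stabiliser of a chain `1 ≤ Z ≤ P` in `Aut(P)`
-/

set_option autoImplicit false

namespace Cfsg.Agent.Helper1.SuzFus

variable {Ω : Type*} [Group Ω]

/-- The automorphisms of `P` acting trivially on `Z` and on `P / Z`. -/
def chainStab (Z P : Subgroup Ω) (hZP : Z ≤ P) : Subgroup (MulAut P) where
  carrier := {α | (∀ x : P, ((α x : P) : Ω) * (x : Ω)⁻¹ ∈ Z) ∧ ∀ x : P, (x : Ω) ∈ Z → α x = x}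
  one_mem' := by
    refine ⟨fun x => ?_, fun x _ => rfl⟩
    simp
  mul_mem' := by
    rintro α β ⟨hα1, hα2⟩ ⟨hβ1, hβ2⟩
    refine ⟨fun x => ?_, fun x hx => ?_⟩
    · have hz := hβ1 x
      set z : P := ⟨((β x : P) : Ω) * (x : Ω)⁻¹, hZP hz⟩ with hzdef
      have e1 : β x = z * x := by
        apply Subtype.ext
        show ((β x : P) : Ω) = ((β x : P) : Ω) * (x : Ω)⁻¹ * (x : Ω)
        group
      have e2 : (α * β) x = z * α x := by
        show α (β x) = z * α x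
        rw [e1, map_mul, hα2 z hz]
      rw [e2]
      have : ((z * α x : P) : Ω) * (x : Ω)⁻¹ = (z : Ω) * (((α x : P) : Ω) * (x : Ω)⁻¹) := by
        show (z : Ω) * ((α x : P) : Ω) * (x : Ω)⁻¹ = _
        group
      rw [this]
      exact Z.mul_mem hz (hα1 x)
    · show α (β x) = x
      rw [hβ2 x hx, hα2 x hx]
  inv_mem' := by
    rintro α ⟨hα1, hα2⟩
    refine ⟨fun x => ?_, fun x hx => ?_⟩
    · have := hα1 (α⁻¹ x)
      rw [MulAut.apply_inv_self] at this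
      have h2 := Z.inv_mem this
      have e : ((x : Ω) * ((α⁻¹ x : P) : Ω)⁻¹)⁻¹ = ((α⁻¹ x : P) : Ω) * (x : Ω)⁻¹ := by group
      rwa [e] at h2
    · have := hα2 x hx
      calc α⁻¹ x = α⁻¹ (α x) := by rw [this]
        _ = x := MulAut.inv_apply_self _ _ _

theorem mem_chainStab {Z P : Subgroup Ω} {hZP : Z ≤ P} {α : MulAut P} :
    α ∈ chainStab Z P hZP ↔
      (∀ x : P, ((α x : P) : Ω) * (x : Ω)⁻¹ ∈ Z) ∧ ∀ x : P, (x : Ω) ∈ Z → α x = x := Iff.rfl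

theorem chainStab_sq {Z P : Subgroup Ω} {hZP : Z ≤ P} (hZ2 : ∀ z ∈ Z, z * z = 1) {α : MulAut P}
    (hα : α ∈ chainStab Z P hZP) : α * α = 1 := by
  obtain ⟨h1, h2⟩ := hα
  ext x
  have hz := h1 x
  set z : P := ⟨((α x : P) : Ω) * (x : Ω)⁻¹, hZP hz⟩ with hzdef
  have e1 : α x = z * x := by
    apply Subtype.ext
    show ((α x : P) : Ω) = ((α x : P) : Ω) * (x : Ω)⁻¹ * (x : Ω)
    group
  show ((α (α x) : P) : Ω) = x
  have e2 : α (α x) = z * (z * x) := by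
    conv_lhs => rw [e1, map_mul, h2 z hz, e1]
  rw [e2]
  show (z : Ω) * ((z : Ω) * (x : Ω)) = x
  rw [← mul_assoc, hZ2 _ hz, one_mul]

theorem chainStab_isPGroup {Z P : Subgroup Ω} {hZP : Z ≤ P} (hZ2 : ∀ z ∈ Z, z * z = 1) :
    IsPGroup 2 (chainStab Z P hZP) := by
  intro α
  refine ⟨1, ?_⟩
  apply Subtype.ext
  have := chainStab_sq hZ2 α.2
  rw [pow_one, pow_two]
  exact this

theorem chainStab_conj {Z P : Subgroup Ω} {hZP : Z ≤ P} (a : MulAut P)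
    (ha : ∀ x : P, (x : Ω) ∈ Z → ((a x : P) : Ω) ∈ Z)
    (ha' : ∀ x : P, (x : Ω) ∈ Z → ((a⁻¹ x : P) : Ω) ∈ Z)
    {β : MulAut P} (hβ : β ∈ chainStab Z P hZP) : a * β * a⁻¹ ∈ chainStab Z P hZP := by
  obtain ⟨h1, h2⟩ := hβ
  refine ⟨fun x => ?_, fun x hx => ?_⟩
  · have hz := h1 (a⁻¹ x)
    set z : P := ⟨((β (a⁻¹ x) : P) : Ω) * ((a⁻¹ x : P) : Ω)⁻¹, hZP hz⟩ with hzdef
    have e1 : β (a⁻¹ x) = z * a⁻¹ x := by
      apply Subtype.ext
      show ((β (a⁻¹ x) : P) : Ω) = ((β (a⁻¹ x) : P) : Ω) * ((a⁻¹ x : P) : Ω)⁻¹ * ((a⁻¹ x : P) : Ω)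
      group
    have e2 : (a * β * a⁻¹) x = a z * x := by
      show a (β (a⁻¹ x)) = a z * x
      rw [e1, map_mul, MulAut.apply_inv_self]
    rw [e2]
    have : ((a z * x : P) : Ω) * (x : Ω)⁻¹ = ((a z : P) : Ω) := by
      show ((a z : P) : Ω) * (x : Ω) * (x : Ω)⁻¹ = _
      group
    rw [this]
    exact ha z hz
  · show a (β (a⁻¹ x)) = x
    rw [h2 _ (ha' x hx), MulAut.apply_inv_self]

end Cfsg.Agent.Helper1.SuzFus
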