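import Mathlib
import Cfsg.Agent.Helper1.SuzTF

/-!
# Suzuki 2-groups of order `q²` are of type A: the isomorphism
-/

set_option autoImplicit false

universe u v

namespace Cfsg.Agent.Helper1.SuzT

open Cfsg.Agent.Helper3.SuzA

variable {K : Type v} [CommGroup K] {P : Type u} [Group P] [MulDistribMulAction K P]

namespace Reg

/-- The commutator `p' p p'⁻¹ p⁻¹`. -/
def cm (p' p : P) : P := p' * p * p'⁻¹ * p⁻¹

theorem sq_mul_eq (p p' : P) (hc : cm p' p ∈ Subgroup.center P) :
    (p * p') * (p * p') = cm p' p * ((p * p) * (p' * p')) := by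
  have h1 : (p * p') * (p * p') = p * cm p' p * p⁻¹ * ((p * p) * (p' * p')) := by
    unfold cm; group
  rw [h1]
  have := Subgroup.mem_center_iff.mp hc p
  rw [this]
  group

theorem cm_mul (p' p1 p2 : P) (hc : cm p' p2 ∈ Subgroup.center P) :
    cm p' (p1 * p2) = cm p' p1 * cm p' p2 := by
  have hcomm : p1⁻¹ * cm p' p2 = cm p' p2 * p1⁻¹ := Subgroup.mem_center_iff.mp hc p1⁻¹
  calc cm p' (p1 * p2) = p' * p1 * p'⁻¹ * (cm p' p2 * p1⁻¹) := by unfold cm; group
    _ = p' * p1 * p'⁻¹ * (p1⁻¹ * cm p' p2) := by rw [hcomm]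
    _ = cm p' p1 * cm p' p2 := by unfold cm; group

variable {F : Type} [Field F]

theorem Coords.α_one (c : Coords F P) : c.α 1 = 0 := (c.α_ker 1).mpr (one_mem _)

theorem Coords.α_inv (c : Coords F P) (p : P) : c.α p⁻¹ = - c.α p := by
  have := c.α_mul p p⁻¹
  rw [mul_inv_cancel, c.α_one] at this
  exact eq_neg_of_add_eq_zero_right this.symm

theorem Coords.cm_mem (c : Coords F P) (p' p : P) : cm p' p ∈ Subgroup.center P := by
  rw [← c.α_ker]
  unfold cm
  rw [c.α_mul, c.α_mul, c.α_mul, c.α_inv, c.α_inv]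
  ring

theorem Coords.β_one (c : Coords F P) : c.β 1 = 0 := by
  have := c.β_mul 1 1 (one_mem _) (one_mem _)
  rw [one_mul] at this
  exact left_eq_add.mp this

section main

variable [CharP F 2] [Finite P]

theorem Coords.β_cm (c : Coords F P) (h : Reg K P)
    (hcard : Nat.card P = Nat.card (Subgroup.center P) ^ 2) (p' p : P) :
    c.β (cm p' p) = c.a * ((c.α p + c.α p') ^ c.k + c.α p ^ c.k + c.α p' ^ c.k) := by
  have h1 := sq_mul_eq p p' (c.cm_mem p' p)
  have hp := h.sq_mem_center hcard p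
  have hp' := h.sq_mem_center hcard p'
  have h2 : c.β ((p * p') * (p * p')) = c.β (cm p' p) + (c.β (p * p) + c.β (p' * p')) := by
    rw [h1, c.β_mul _ _ (c.cm_mem p' p) ((Subgroup.center P).mul_mem hp hp'), c.β_mul _ _ hp hp']
  rw [c.sq, c.sq, c.sq, c.α_mul] at h2
  have : c.β (cm p' p) = c.a * (c.α p + c.α p') ^ c.k - (c.a * c.α p ^ c.k + c.a * c.α p' ^ c.k) := by
    rw [h2]; ring
  rw [this, CharTwo.sub_eq_add]
  ring

theorem exists_typeA_of_coords [Fintype F] (h : Reg K P)
    (hna : ∃ x y : P, x * y ≠ y * x) (hcardF : Fintype.card F = Nat.card (Subgroup.center P))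
    (hcard : Nat.card P = Nat.card (Subgroup.center P) ^ 2) (c : Coords F P) :
    ∃ φ : F ≃+* F, φ ≠ RingEquiv.refl F ∧ Odd (orderOf φ) ∧
      Nonempty (P ≃* Cfsg.suzukiTypeA F (φ : F →+* F)) := by
  classical
  -- biadditivity of the polar form
  have hadd : ∀ x x' y : F, (x + x' + y) ^ c.k + (x + x') ^ c.k + y ^ c.k =
      ((x + y) ^ c.k + x ^ c.k + y ^ c.k) + ((x' + y) ^ c.k + x' ^ c.k + y ^ c.k) := by
    intro x x' y
    obtain ⟨p1, rfl⟩ := c.α_surj x
    obtain ⟨p2, rfl⟩ := c.α_surj x'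
    obtain ⟨p', rfl⟩ := c.α_surj y
    have h1 := cm_mul p' p1 p2 (c.cm_mem p' p2)
    have h2 := congrArg c.β h1
    rw [c.β_mul _ _ (c.cm_mem _ _) (c.cm_mem _ _), c.β_cm h hcard, c.β_cm h hcard, c.β_cm h hcard,
      c.α_mul, ← mul_add] at h2
    exact mul_left_cancel₀ c.a_ne h2
  have hne : ∃ x y : F, (x + y) ^ c.k + x ^ c.k + y ^ c.k ≠ 0 := by
    obtain ⟨x, y, hxy⟩ := hna
    refine ⟨c.α y, c.α x, ?_⟩
    intro h0
    have h1 := c.β_cm h hcard x y
    rw [h0, mul_zero] at h1
    have h2 := c.β_inj _ (c.cm_mem x y) h1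
    apply hxy
    unfold cm at h2
    have : x * y = (x * y * x⁻¹ * y⁻¹) * (y * x) := by group
    rw [this, h2, one_mul]
  obtain ⟨σ, τ, hστ, hfac⟩ := exists_factor c.k c.k_pos hadd hne
  let θ : F ≃+* F := σ⁻¹ * τ
  have hθ : ∀ x, θ x = σ.symm (τ x) := fun x => rfl
  let β' : P → F := fun z => σ.symm (c.a⁻¹ * c.β z)
  have hβ'sq : ∀ p, β' (p * p) = c.α p * θ (c.α p) := by
    intro p
    simp only [β']
    rw [c.sq, ← mul_assoc, inv_mul_cancel₀ c.a_ne, one_mul, hfac, map_mul, RingEquiv.symm_apply_apply,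
      hθ]
  have hβ'mul : ∀ z z', z ∈ Subgroup.center P → z' ∈ Subgroup.center P → β' (z * z') = β' z + β' z' := by
    intro z z' hz hz'
    simp only [β']
    rw [c.β_mul z z' hz hz', mul_add, map_add]
  have hβ'inj : ∀ z, z ∈ Subgroup.center P → β' z = 0 → z = 1 := by
    intro z hz h0
    simp only [β'] at h0
    rw [map_eq_zero_iff _ σ.symm.injective] at h0
    rcases mul_eq_zero.mp h0 with h1 | h1
    · exact absurd h1 (inv_ne_zero c.a_ne)
    · exact c.β_inj z hz h1
  have hθne : θ ≠ RingEquiv.refl F := by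
    intro hh
    apply hστ
    have : σ⁻¹ * τ = 1 := hh
    rw [inv_mul_eq_one] at this
    exact this
  have hodd : Odd (orderOf θ) := by
    apply odd_orderOf_of_injective
    intro x y hx hy hxy
    obtain ⟨p, rfl⟩ := c.α_surj x
    obtain ⟨p', rfl⟩ := c.α_surj y
    have hp : p ∉ Subgroup.center P := fun hh => hx ((c.α_ker p).mpr hh)
    have hp' : p' ∉ Subgroup.center P := fun hh => hy ((c.α_ker p').mpr hh)
    apply c.inj p p' hp hp'
    rw [← hβ'sq, ← hβ'sq] at hxy
    have hpz := h.sq_mem_center hcard p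
    have hpz' := h.sq_mem_center hcard p'
    have h1 : β' ((p * p) * (p' * p')) = 0 := by
      rw [hβ'mul _ _ hpz hpz', hxy]
      exact CharTwo.add_self_eq_zero _
    have h2 := hβ'inj _ ((Subgroup.center P).mul_mem hpz hpz') h1
    have h3 : (p' * p') * (p' * p') = 1 := h.cen2 _ hpz'
    calc p * p = (p * p) * (p' * p') * (p' * p') := by rw [mul_assoc, h3, mul_one]
      _ = p' * p' := by rw [h2, one_mul]
  refine ⟨θ, hθne, hodd, ?_⟩
  -- the isomorphism
  let πP : P →* Multiplicative F :=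
    { toFun := fun p => Multiplicative.ofAdd (c.α p)
      map_one' := by rw [c.α_one]; rfl
      map_mul' := fun p p' => by rw [c.α_mul]; rfl }
  have hπP : ∀ p, πP p = 1 ↔ p ∈ Subgroup.center P := by
    intro p
    rw [← c.α_ker]
    constructor
    · intro hh; exact Multiplicative.ofAdd.injective hh
    · intro hh; show Multiplicative.ofAdd (c.α p) = 1; rw [hh]; rfl
  have hdata : SqData πP (projA (θ : F →+* F)) (fun p => elA (θ : F →+* F) 0 (β' p)) := by
    refine ⟨?_, ?_, ?_, ?_, ?_, ?_, ?_, ?_, ?_⟩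
    · intro v
      obtain ⟨p, hp⟩ := c.α_surj (Multiplicative.toAdd v)
      exact ⟨p, by show Multiplicative.ofAdd (c.α p) = v; rw [hp]; rfl⟩
    · intro v
      exact ⟨elA _ (Multiplicative.toAdd v) 0, by rw [projA_elA]; rfl⟩
    · intro z hz p
      exact (Subgroup.mem_center_iff.mp ((hπP z).mp hz) p).symm
    · intro w hw m
      obtain ⟨x, y, rfl⟩ := exists_elA _ w
      obtain ⟨x', y', rfl⟩ := exists_elA _ m
      rw [projA_elA] at hw
      have hx : x = 0 := Multiplicative.ofAdd.injective hw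
      subst hx
      rw [elA_mul, elA_mul]
      congr 1
      · ring
      · simp; ring
    · intro p
      rw [hπP]; exact h.sq_mem_center hcard p
    · intro z _
      rw [projA_elA]; rfl
    · intro z z' hz hz'
      rw [hβ'mul z z' ((hπP z).mp hz) ((hπP z').mp hz'), elA_mul]
      congr 1
      · ring
      · simp
    · intro z hz h1
      rw [← elA_zero] at h1
      exact hβ'inj z ((hπP z).mp hz) (elA_inj _ h1).2
    · intro p m hpm
      obtain ⟨x, y, rfl⟩ := exists_elA _ m
      rw [projA_elA] at hpm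
      have hx : c.α p = x := Multiplicative.ofAdd.injective hpm
      subst hx
      rw [elA_mul, hβ'sq]
      congr 1
      · exact (CharTwo.add_self_eq_zero _).symm
      · rw [CharTwo.add_self_eq_zero, zero_add, mul_comm]
        rfl
  have hcardM : Nat.card P = Nat.card (Cfsg.suzukiTypeA F (θ : F →+* F)) := by
    rw [card_suzukiTypeA, hcard, ← hcardF, Nat.card_eq_fintype_card]
  exact hdata.exists_mulEquiv hcardM

end main

end Reg

end Cfsg.Agent.Helper1.SuzT
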