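import Mathlib

/-!
Piece ARITH for S2221 (helper8's blueprint, msg 3633): sums of distinct powers of two.
-/

namespace Cfsg.Agent.Helper8.SylAlt

theorem arith_split_fs (s : Finset ℕ) :
    ∑ k ∈ s, 2 ^ k = (if 0 ∈ s then 1 else 0) + (if 1 ∈ s then 2 else 0)
      + 4 * ∑ k ∈ s.filter (2 ≤ ·), 2 ^ (k - 2) := by
  have h : ∀ k ∈ s, 2 ^ k = (if k = 0 then 1 else 0) + (if k = 1 then 2 else 0)
      + (if 2 ≤ k then 4 * 2 ^ (k - 2) else 0) := by
    intro k _
    rcases Nat.lt_or_ge k 2 with hk | hk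
    · interval_cases k <;> simp
    · have hk' : k = (k - 2) + 2 := by omega
      rw [if_neg (by omega), if_neg (by omega), if_pos hk]
      conv_lhs => rw [hk', pow_add]
      ring
  rw [Finset.sum_congr rfl h, Finset.sum_add_distrib, Finset.sum_add_distrib,
    Finset.sum_ite_eq', Finset.sum_ite_eq', Finset.mul_sum, Finset.sum_filter]

theorem arith_mod_fs (s : Finset ℕ) :
    ((∑ k ∈ s, 2 ^ k) % 4 = 2 ∨ (∑ k ∈ s, 2 ^ k) % 4 = 3) ↔ 1 ∈ s := by
  rw [arith_split_fs]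
  obtain ⟨R, hR⟩ : ∃ R, R = ∑ k ∈ s.filter (2 ≤ ·), 2 ^ (k - 2) := ⟨_, rfl⟩
  rw [← hR]
  by_cases h0 : 0 ∈ s <;> by_cases h1 : 1 ∈ s <;>
    simp only [h0, h1, if_true, if_false, iff_true, iff_false] <;> omega

theorem arith_div_fs (s : Finset ℕ) :
    4 * ((∑ k ∈ s, 2 ^ k) / 4) = ∑ k ∈ s.filter (2 ≤ ·), 2 ^ k := by
  have h2 : ∑ k ∈ s.filter (2 ≤ ·), 2 ^ k = 4 * ∑ k ∈ s.filter (2 ≤ ·), 2 ^ (k - 2) := by
    rw [Finset.mul_sum]
    apply Finset.sum_congr rfl
    intro k hk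
    have hk2 : 2 ≤ k := (Finset.mem_filter.mp hk).2
    have hk' : k = (k - 2) + 2 := by omega
    conv_lhs => rw [hk', pow_add]
    ring
  rw [arith_split_fs, h2]
  obtain ⟨R, hR⟩ : ∃ R, R = ∑ k ∈ s.filter (2 ≤ ·), 2 ^ (k - 2) := ⟨_, rfl⟩
  rw [← hR]
  split_ifs <;> omega

theorem pow_two_sum_iff_fs (s : Finset ℕ) :
    (∃ r : ℕ, ∑ k ∈ s, 2 ^ k = 2 ^ r) ↔ ∃ a, s = {a} := by
  constructor
  · rintro ⟨r, hr⟩
    have hne : s.Nonempty := by
      rw [Finset.nonempty_iff_ne_empty]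
      rintro rfl
      rw [Finset.sum_empty] at hr
      exact absurd hr.symm (by positivity)
    obtain ⟨K, hK⟩ : ∃ K, K = s.max' hne := ⟨_, rfl⟩
    refine ⟨K, ?_⟩
    have hKs : K ∈ s := hK ▸ Finset.max'_mem s hne
    have hsum : ∑ k ∈ s, 2 ^ k = 2 ^ K + ∑ k ∈ s.erase K, 2 ^ k :=
      (Finset.add_sum_erase s _ hKs).symm
    have hlt : ∑ k ∈ s.erase K, 2 ^ k < 2 ^ K := by
      apply Nat.geomSum_lt (le_refl 2)
      intro k hk
      have h1 := Finset.le_max' s k (Finset.mem_of_mem_erase hk)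
      have h2 := Finset.ne_of_mem_erase hk
      rw [← hK] at h1
      omega
    by_contra hcon
    have hne2 : (s.erase K).Nonempty := by
      rw [Finset.nonempty_iff_ne_empty]
      intro he
      apply hcon
      ext k
      rw [Finset.mem_singleton]
      constructor
      · intro hk
        by_contra hkK
        have : k ∈ s.erase K := Finset.mem_erase.mpr ⟨hkK, hk⟩
        rw [he] at this
        exact absurd this (Finset.notMem_empty k)
      · rintro rfl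
        exact hKs
    obtain ⟨k0, hk0⟩ := hne2
    have hpos : 0 < ∑ k ∈ s.erase K, 2 ^ k :=
      calc 0 < 2 ^ k0 := by positivity
        _ ≤ _ := Finset.single_le_sum (f := fun k => 2 ^ k) (fun _ _ => Nat.zero_le _) hk0
    have h1 : 2 ^ K < 2 ^ r := by omega
    have h2 : 2 ^ r < 2 ^ (K + 1) := by rw [pow_succ]; omega
    have h3 : K < r := (Nat.pow_lt_pow_iff_right (by norm_num)).mp h1
    have h4 : r < K + 1 := (Nat.pow_lt_pow_iff_right (by norm_num)).mp h2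
    omega
  · rintro ⟨a, rfl⟩
    exact ⟨a, by simp⟩

theorem arith_mod {ι : Type*} [Fintype ι] (e : ι → ℕ) (he : Function.Injective e) (n : ℕ)
    (hn : n = ∑ i, 2 ^ e i) : (n % 4 = 2 ∨ n % 4 = 3) ↔ ∃ i, e i = 1 := by
  classical
  have hs : n = ∑ k ∈ Finset.univ.image e, 2 ^ k := by
    rw [hn, Finset.sum_image (fun a _ b _ h => he h)]
  rw [hs, arith_mod_fs]
  simp

theorem arith_pow {ι : Type*} [Fintype ι] (e : ι → ℕ) (he : Function.Injective e) (n : ℕ)
    (hn : n = ∑ i, 2 ^ e i) : (∃ r : ℕ, 4 * (n / 4) = 2 ^ r) ↔ ∃! i, 2 ≤ e i := by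
  classical
  have hs : n = ∑ k ∈ Finset.univ.image e, 2 ^ k := by
    rw [hn, Finset.sum_image (fun a _ b _ h => he h)]
  rw [hs, arith_div_fs, pow_two_sum_iff_fs]
  constructor
  · rintro ⟨a, ha⟩
    have haf : a ∈ (Finset.univ.image e).filter (2 ≤ ·) := by rw [ha]; exact Finset.mem_singleton_self a
    obtain ⟨hai, ha2⟩ := Finset.mem_filter.mp haf
    obtain ⟨i, -, rfl⟩ := Finset.mem_image.mp hai
    refine ⟨i, ha2, ?_⟩
    intro i' hi'
    have : e i' ∈ (Finset.univ.image e).filter (2 ≤ ·) :=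
      Finset.mem_filter.mpr ⟨Finset.mem_image_of_mem e (Finset.mem_univ i'), hi'⟩
    rw [ha, Finset.mem_singleton] at this
    exact he this
  · rintro ⟨i, hi, huniq⟩
    refine ⟨e i, ?_⟩
    ext k
    rw [Finset.mem_filter, Finset.mem_image, Finset.mem_singleton]
    constructor
    · rintro ⟨⟨i', -, rfl⟩, hk⟩
      rw [huniq i' hk]
    · rintro rfl
      exact ⟨⟨i, Finset.mem_univ i, rfl⟩, hi⟩

end Cfsg.Agent.Helper8.SylAlt
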