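import Cfsg.Agent.Helper8.SylAltG
import Cfsg.Prelude.Def_TwoFusion

/-!
Piece CONV for S2221 (helper8's blueprint, msg 3653): two orbits of size at least 4 and an orbit
of size 2 give a direct decomposition of `Q ⊓ A`.
-/

namespace Cfsg.Agent.Helper8.SylAlt

open Equiv Classical

variable {Ω : Type*} [Fintype Ω] [DecidableEq Ω]

theorem conv_exists_ne {X : Set Ω} (h : 2 ≤ Nat.card ↥X) {ω : Ω} (hω : ω ∈ X) :
    ∃ a ∈ X, a ≠ ω := by
  have hnt : Nontrivial ↥X := Finite.one_lt_card_iff_nontrivial.mp (by omega)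
  obtain ⟨b, hb⟩ := exists_ne (⟨ω, hω⟩ : ↥X)
  exact ⟨b.1, b.2, fun h' => hb (Subtype.ext h')⟩

theorem conv_two_set {X : Set Ω} {c d : Ω} (hc : c ∈ X) (hd : d ∈ X) (hcd : c ≠ d)
    (hX : Nat.card ↥X = 2) : X = {c, d} := by
  symm
  apply Set.eq_of_subset_of_ncard_le
  · intro a ha
    simp only [Set.mem_insert_iff, Set.mem_singleton_iff] at ha
    rcases ha with rfl | rfl
    · exact hc
    · exact hd
  · rw [Set.ncard_pair hcd, ← Nat.card_coe_set_eq, hX]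
  · exact Set.toFinite X

theorem conv_pair_cases {c d : Ω} (hcd : c ≠ d) {g : Perm Ω}
    (hg : g ∈ presSub ({c, d} : Set Ω)) :
    (g c = c ∧ g d = d) ∨ (g c = d ∧ g d = c) := by
  have h1 : g c ∈ ({c, d} : Set Ω) := (hg c).mpr (by simp)
  have h2 : g d ∈ ({c, d} : Set Ω) := (hg d).mpr (by simp)
  simp only [Set.mem_insert_iff, Set.mem_singleton_iff] at h1 h2
  rcases h1 with h1 | h1 <;> rcases h2 with h2 | h2
  · exact absurd (g.injective (h1.trans h2.symm)) hcd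
  · exact Or.inl ⟨h1, h2⟩
  · exact Or.inr ⟨h1, h2⟩
  · exact absurd (g.injective (h1.trans h2.symm)) hcd

/-- abstract form of the converse construction. -/
theorem conv_core (Q : Sylow 2 (Perm Ω)) (X₁ Op X₂ : Set Ω)
    (hX₁ : (Q : Subgroup (Perm Ω)) ≤ presSub X₁) (hOp : (Q : Subgroup (Perm Ω)) ≤ presSub Op)
    (hd1 : Disjoint X₁ Op) (hd2 : Disjoint X₂ X₁) (hd3 : Disjoint X₂ Op)
    (hcard : Nat.card ↥Op = 2)
    (c d : Ω) (hc : c ∈ Op) (hd : d ∈ Op) (hcd : c ≠ d) (hτ : swap c d ∈ Q)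
    (c₁ d₁ : Ω) (hc₁ : c₁ ∈ X₁) (hd₁ : d₁ ∈ X₁) (hcd₁ : c₁ ≠ d₁) (hτ₁ : swap c₁ d₁ ∈ Q)
    (c₂ d₂ : Ω) (hc₂ : c₂ ∈ X₂) (hd₂ : d₂ ∈ X₂) (hcd₂ : c₂ ≠ d₂) (hτ₂ : swap c₂ d₂ ∈ Q) :
    ∃ S T : Subgroup (Perm Ω), S ≠ ⊥ ∧ T ≠ ⊥ ∧
      Cfsg.IsInternalDirectProduct S T ((Q : Subgroup (Perm Ω)) ⊓ alternatingGroup Ω) := by
  have hOp2 : Op = {c, d} := conv_two_set hc hd hcd hcard
  have hX₁c : (Q : Subgroup (Perm Ω)) ≤ presSub X₁ᶜ := fun y hy => mem_presSub_compl (hX₁ hy)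
  -- the transposition τ
  have hτsupp : ∀ a, a ∉ Op → swap c d a = a := by
    intro a ha
    apply Equiv.swap_apply_of_ne_of_ne
    · rintro rfl; exact ha hc
    · rintro rfl; exact ha hd
  have hτsign : Perm.sign (swap c d) = -1 := Perm.sign_swap hcd
  have hτsq : swap c d * swap c d = 1 := Equiv.swap_mul_self c d
  have hnotOp_of_X₁ : ∀ a, a ∈ X₁ → a ∉ Op := fun a ha h' => Set.disjoint_left.mp hd1 ha h'
  have hnotX₁_of_X₂ : ∀ a, a ∈ X₂ → a ∉ X₁ := fun a ha h' => Set.disjoint_left.mp hd2 ha h'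
  have hnotOp_of_X₂ : ∀ a, a ∈ X₂ → a ∉ Op := fun a ha h' => Set.disjoint_left.mp hd3 ha h'
  refine ⟨supp (Q : Subgroup (Perm Ω)) (X₁ ∪ Op) ⊓ alternatingGroup Ω,
    supp (Q : Subgroup (Perm Ω)) X₁ᶜ ⊓ alternatingGroup Ω, ?_, ?_, ?_, ?_, ?_, ?_, ?_⟩
  · -- S ≠ ⊥
    intro hbot
    have hmem : swap c₁ d₁ * swap c d ∈
        supp (Q : Subgroup (Perm Ω)) (X₁ ∪ Op) ⊓ alternatingGroup Ω := by
      refine ⟨⟨mul_mem hτ₁ hτ, ?_⟩, ?_⟩
      · intro a ha
        have ha1 : a ∉ X₁ := fun h' => ha (Or.inl h')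
        have ha2 : a ∉ Op := fun h' => ha (Or.inr h')
        rw [Perm.mul_apply, hτsupp a ha2]
        apply Equiv.swap_apply_of_ne_of_ne
        · rintro rfl; exact ha1 hc₁
        · rintro rfl; exact ha1 hd₁
      · show _ ∈ alternatingGroup Ω
        rw [Perm.mem_alternatingGroup, Perm.sign_mul, Perm.sign_swap hcd₁, hτsign]
        decide
    rw [hbot, Subgroup.mem_bot] at hmem
    have h := congrArg (fun g : Perm Ω => g c₁) hmem
    simp only [Perm.mul_apply, Perm.one_apply] at h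
    rw [hτsupp c₁ (hnotOp_of_X₁ c₁ hc₁), Equiv.swap_apply_left] at h
    exact hcd₁ h.symm
  · -- T ≠ ⊥
    intro hbot
    have hmem : swap c₂ d₂ * swap c d ∈
        supp (Q : Subgroup (Perm Ω)) X₁ᶜ ⊓ alternatingGroup Ω := by
      refine ⟨⟨mul_mem hτ₂ hτ, ?_⟩, ?_⟩
      · intro a ha
        have ha1 : a ∈ X₁ := by
          by_contra h'
          exact ha h'
        rw [Perm.mul_apply, hτsupp a (hnotOp_of_X₁ a ha1)]
        apply Equiv.swap_apply_of_ne_of_ne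
        · rintro rfl; exact hnotX₁_of_X₂ _ hc₂ ha1
        · rintro rfl; exact hnotX₁_of_X₂ _ hd₂ ha1
      · show _ ∈ alternatingGroup Ω
        rw [Perm.mem_alternatingGroup, Perm.sign_mul, Perm.sign_swap hcd₂, hτsign]
        decide
    rw [hbot, Subgroup.mem_bot] at hmem
    have h := congrArg (fun g : Perm Ω => g c₂) hmem
    simp only [Perm.mul_apply, Perm.one_apply] at h
    rw [hτsupp c₂ (hnotOp_of_X₂ c₂ hc₂), Equiv.swap_apply_left] at h
    exact hcd₂ h.symm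
  · -- S ≤ Q ⊓ A
    intro g hg
    exact ⟨hg.1.1, hg.2⟩
  · intro g hg
    exact ⟨hg.1.1, hg.2⟩
  · -- commute
    intro s hs t ht
    have hsQ : s ∈ (Q : Subgroup (Perm Ω)) := hs.1.1
    have htQ : t ∈ (Q : Subgroup (Perm Ω)) := ht.1.1
    have hss : ∀ a, a ∉ X₁ ∪ Op → s a = a := hs.1.2
    have hts : ∀ a, a ∈ X₁ → t a = a := fun a ha => ht.1.2 a (fun h' => h' ha)
    ext a
    rw [Perm.mul_apply, Perm.mul_apply]
    by_cases ha1 : a ∈ X₁
    · rw [hts a ha1, hts (s a) ((hX₁ hsQ a).mpr ha1)]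
    · by_cases ha2 : a ∈ Op
      · have hs' : s ∈ presSub ({c, d} : Set Ω) := hOp2 ▸ hOp hsQ
        have ht' : t ∈ presSub ({c, d} : Set Ω) := hOp2 ▸ hOp htQ
        have hacd : a = c ∨ a = d := by
          rw [hOp2] at ha2
          simpa using ha2
        rcases conv_pair_cases hcd hs' with ⟨e1, e2⟩ | ⟨e1, e2⟩ <;>
          rcases conv_pair_cases hcd ht' with ⟨f1, f2⟩ | ⟨f1, f2⟩ <;>
          rcases hacd with rfl | rfl <;> simp [e1, e2, f1, f2]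
      · have hta1 : t a ∉ X₁ := fun h' => ha1 ((hX₁ htQ a).mp h')
        have hta2 : t a ∉ Op := fun h' => ha2 ((hOp htQ a).mp h')
        rw [hss a (fun h' => h'.elim ha1 ha2), hss (t a) (fun h' => h'.elim hta1 hta2)]
  · -- S ⊓ T = ⊥
    rw [Subgroup.eq_bot_iff_forall]
    intro g hg
    obtain ⟨⟨⟨-, hg1⟩, hgA⟩, ⟨⟨-, hg2⟩, -⟩⟩ := hg
    have hsupp : ∀ a, a ∉ Op → g a = a := by
      intro a ha
      by_cases ha1 : a ∈ X₁
      · exact hg2 a (fun h' => h' ha1)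
      · exact hg1 a (fun h' => h'.elim ha1 ha)
    rcases (two_set_perm hcard hsupp).1 with h | h
    · exact h
    · have hgA' : Perm.sign g = 1 := Perm.mem_alternatingGroup.mp hgA
      rw [hgA'] at h
      exact absurd h (by decide)
  · -- S ⊔ T = Q ⊓ A
    apply le_antisymm
    · apply sup_le
      · intro g hg
        exact ⟨hg.1.1, hg.2⟩
      · intro g hg
        exact ⟨hg.1.1, hg.2⟩
    · intro y hy
      have hyQ : y ∈ (Q : Subgroup (Perm Ω)) := hy.1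
      have hyA : Perm.sign y = 1 := Perm.mem_alternatingGroup.mp hy.2
      have hdec : cut X₁ y * cut X₁ᶜ y = y := cut_mul_cut_compl (hX₁ hyQ)
      have hsign : Perm.sign (cut X₁ y) * Perm.sign (cut X₁ᶜ y) = 1 := by
        rw [← sign_eq_cut_mul_cut_compl (hX₁ hyQ), hyA]
      have hx1Q : cut X₁ y ∈ (Q : Subgroup (Perm Ω)) := cut_mem_sylow Q hX₁ hyQ
      have hx2Q : cut X₁ᶜ y ∈ (Q : Subgroup (Perm Ω)) := cut_mem_sylow Q hX₁c hyQ
      have hx1s : ∀ a, a ∉ X₁ → cut X₁ y a = a := fun a ha => cut_apply_not_mem ha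
      have hx2s : ∀ a, a ∈ X₁ → cut X₁ᶜ y a = a :=
        fun a ha => cut_apply_not_mem (fun h' => h' ha)
      rcases Int.units_eq_one_or (Perm.sign (cut X₁ y)) with h1 | h1
      · have h2 : Perm.sign (cut X₁ᶜ y) = 1 := by rwa [h1, one_mul] at hsign
        rw [← hdec]
        apply Subgroup.mul_mem_sup
        · refine ⟨⟨hx1Q, fun a ha => hx1s a (fun h' => ha (Or.inl h'))⟩, ?_⟩
          exact Perm.mem_alternatingGroup.mpr h1
        · refine ⟨⟨hx2Q, fun a ha => hx2s a (by by_contra h'; exact ha h')⟩, ?_⟩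
          exact Perm.mem_alternatingGroup.mpr h2
      · have h2 : Perm.sign (cut X₁ᶜ y) = -1 := by
          rw [h1] at hsign
          rcases Int.units_eq_one_or (Perm.sign (cut X₁ᶜ y)) with h | h
          · rw [h] at hsign; exact absurd hsign (by decide)
          · exact h
        have hy' : y = (cut X₁ y * swap c d) * (swap c d * cut X₁ᶜ y) := by
          rw [mul_assoc, ← mul_assoc (swap c d), hτsq, one_mul, hdec]
        rw [hy']
        apply Subgroup.mul_mem_sup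
        · refine ⟨⟨mul_mem hx1Q hτ, ?_⟩, ?_⟩
          · intro a ha
            have ha1 : a ∉ X₁ := fun h' => ha (Or.inl h')
            have ha2 : a ∉ Op := fun h' => ha (Or.inr h')
            rw [Perm.mul_apply, hτsupp a ha2, hx1s a ha1]
          · show _ ∈ alternatingGroup Ω
            rw [Perm.mem_alternatingGroup, Perm.sign_mul, h1, hτsign]
            decide
        · refine ⟨⟨mul_mem hτ hx2Q, ?_⟩, ?_⟩
          · intro a ha
            have ha1 : a ∈ X₁ := by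
              by_contra h'
              exact ha h'
            rw [Perm.mul_apply, hx2s a ha1, hτsupp a (hnotOp_of_X₁ a ha1)]
          · show _ ∈ alternatingGroup Ω
            rw [Perm.mem_alternatingGroup, Perm.sign_mul, h2, hτsign]
            decide

theorem decomp_of_two_big (Q : Sylow 2 (Perm Ω)) (ωp ω₁ ω₂ : Ω)
    (hp : Nat.card ↥(orb (Q : Subgroup (Perm Ω)) ωp) = 2)
    (h1 : 4 ≤ Nat.card ↥(orb (Q : Subgroup (Perm Ω)) ω₁))
    (h2 : 4 ≤ Nat.card ↥(orb (Q : Subgroup (Perm Ω)) ω₂))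
    (hne : orb (Q : Subgroup (Perm Ω)) ω₁ ≠ orb (Q : Subgroup (Perm Ω)) ω₂) :
    ∃ S T : Subgroup (Perm Ω), S ≠ ⊥ ∧ T ≠ ⊥ ∧
      Cfsg.IsInternalDirectProduct S T ((Q : Subgroup (Perm Ω)) ⊓ alternatingGroup Ω) := by
  -- disjointness of the three orbits
  have hd1 : Disjoint (orb (Q : Subgroup (Perm Ω)) ω₁) (orb (Q : Subgroup (Perm Ω)) ωp) := by
    rcases orb_disjoint_or_eq (Q : Subgroup (Perm Ω)) ω₁ ωp with h | h
    · rw [h] at h1; omega
    · exact h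
  have hd2 : Disjoint (orb (Q : Subgroup (Perm Ω)) ω₂) (orb (Q : Subgroup (Perm Ω)) ω₁) := by
    rcases orb_disjoint_or_eq (Q : Subgroup (Perm Ω)) ω₂ ω₁ with h | h
    · exact absurd h.symm hne
    · exact h
  have hd3 : Disjoint (orb (Q : Subgroup (Perm Ω)) ω₂) (orb (Q : Subgroup (Perm Ω)) ωp) := by
    rcases orb_disjoint_or_eq (Q : Subgroup (Perm Ω)) ω₂ ωp with h | h
    · rw [h] at h2; omega
    · exact h
  obtain ⟨ap, hap, hapne⟩ := conv_exists_ne (by omega : 2 ≤ Nat.card ↥(orb (Q : Subgroup (Perm Ω)) ωp))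
    (self_mem_orb (Q : Subgroup (Perm Ω)) ωp)
  obtain ⟨a₁, ha₁, ha₁ne⟩ := conv_exists_ne (by omega : 2 ≤ Nat.card ↥(orb (Q : Subgroup (Perm Ω)) ω₁))
    (self_mem_orb (Q : Subgroup (Perm Ω)) ω₁)
  obtain ⟨a₂, ha₂, ha₂ne⟩ := conv_exists_ne (by omega : 2 ≤ Nat.card ↥(orb (Q : Subgroup (Perm Ω)) ω₂))
    (self_mem_orb (Q : Subgroup (Perm Ω)) ω₂)
  obtain ⟨c, d, hc, hd, hcd, hτ⟩ := exists_swap_mem Q hap hapne
  obtain ⟨c₁, d₁, hc₁, hd₁, hcd₁, hτ₁⟩ := exists_swap_mem Q ha₁ ha₁ne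
  obtain ⟨c₂, d₂, hc₂, hd₂, hcd₂, hτ₂⟩ := exists_swap_mem Q ha₂ ha₂ne
  exact conv_core Q _ _ _ (le_presSub_orb _ ω₁) (le_presSub_orb _ ωp) hd1 hd2 hd3 hp
    c d hc hd hcd hτ c₁ d₁ hc₁ hd₁ hcd₁ hτ₁ c₂ d₂ hc₂ hd₂ hcd₂ hτ₂

end Cfsg.Agent.Helper8.SylAlt
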