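import Mathlib
import Cfsg.Prelude.Def_TwoFusion

/-!
Piece GLUE for S2221 (helper8's blueprint, msg 3641).
-/

namespace Cfsg.Agent.Helper8.SylAlt

open Equiv

theorem exists_sylow_perm (n : ℕ) (P : Sylow 2 (alternatingGroup (Fin n))) :
    ∃ Q : Sylow 2 (Perm (Fin n)),
      (P : Subgroup (alternatingGroup (Fin n))).map (alternatingGroup (Fin n)).subtype =
        (Q : Subgroup (Perm (Fin n))) ⊓ alternatingGroup (Fin n) := by
  have hP' : IsPGroup 2 ((P : Subgroup (alternatingGroup (Fin n))).map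
      (alternatingGroup (Fin n)).subtype) := P.isPGroup'.map _
  obtain ⟨Q, hQ⟩ := hP'.exists_le_sylow
  refine ⟨Q, ?_⟩
  have hle : (P : Subgroup (alternatingGroup (Fin n))).map (alternatingGroup (Fin n)).subtype ≤
      (Q : Subgroup (Perm (Fin n))) ⊓ alternatingGroup (Fin n) := by
    refine le_inf hQ ?_
    rintro _ ⟨x, -, rfl⟩
    exact x.2
  have hpg : IsPGroup 2 (((Q : Subgroup (Perm (Fin n))) ⊓ alternatingGroup (Fin n)).subgroupOf
      (alternatingGroup (Fin n))) := by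
    have h1 : IsPGroup 2 ((Q : Subgroup (Perm (Fin n))) ⊓ alternatingGroup (Fin n) : Subgroup _) :=
      Q.isPGroup'.to_le inf_le_left
    exact h1.comap_of_injective _ (Subgroup.subtype_injective _)
  have hPle : (P : Subgroup (alternatingGroup (Fin n))) ≤
      ((Q : Subgroup (Perm (Fin n))) ⊓ alternatingGroup (Fin n)).subgroupOf
        (alternatingGroup (Fin n)) := by
    rw [Subgroup.subgroupOf, ← Subgroup.map_le_iff_le_comap]
    exact hle
  have heq := P.is_maximal' hpg hPle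
  rw [← heq]
  exact Subgroup.map_subgroupOf_eq_of_le inf_le_right

theorem isInternalDirectProduct_map_iff {G H : Type*} [Group G] [Group H] (f : G →* H)
    (hf : Function.Injective f) (S₁ S₂ P : Subgroup G) :
    Cfsg.IsInternalDirectProduct (S₁.map f) (S₂.map f) (P.map f) ↔
      Cfsg.IsInternalDirectProduct S₁ S₂ P := by
  unfold Cfsg.IsInternalDirectProduct
  rw [Subgroup.map_le_map_iff_of_injective hf, Subgroup.map_le_map_iff_of_injective hf,
    ← Subgroup.map_inf _ _ f hf, ← Subgroup.map_sup, (Subgroup.map_injective hf).eq_iff,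
    Subgroup.map_eq_bot_iff_of_injective _ hf]
  constructor
  · rintro ⟨h1, h2, h3, h4, h5⟩
    refine ⟨h1, h2, ?_, h4, h5⟩
    intro a ha b hb
    apply hf
    rw [map_mul, map_mul]
    exact h3 _ (Subgroup.mem_map_of_mem f ha) _ (Subgroup.mem_map_of_mem f hb)
  · rintro ⟨h1, h2, h3, h4, h5⟩
    refine ⟨h1, h2, ?_, h4, h5⟩
    rintro _ ⟨a, ha, rfl⟩ _ ⟨b, hb, rfl⟩
    rw [← map_mul, ← map_mul, h3 a ha b hb]

theorem decomp_iff_map {G : Type*} [Group G] (A : Subgroup G) (P : Subgroup A) :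
    (∃ S₁ S₂ : Subgroup A, S₁ ≠ ⊥ ∧ S₂ ≠ ⊥ ∧ Cfsg.IsInternalDirectProduct S₁ S₂ P) ↔
    (∃ S₁ S₂ : Subgroup G, S₁ ≠ ⊥ ∧ S₂ ≠ ⊥ ∧
      Cfsg.IsInternalDirectProduct S₁ S₂ (P.map A.subtype)) := by
  have hinj : Function.Injective A.subtype := Subgroup.subtype_injective A
  constructor
  · rintro ⟨S₁, S₂, h1, h2, h⟩
    refine ⟨S₁.map A.subtype, S₂.map A.subtype, ?_, ?_, ?_⟩
    · rwa [Ne, Subgroup.map_eq_bot_iff_of_injective _ hinj]
    · rwa [Ne, Subgroup.map_eq_bot_iff_of_injective _ hinj]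
    · exact (isInternalDirectProduct_map_iff A.subtype hinj S₁ S₂ P).mpr h
  · rintro ⟨T₁, T₂, h1, h2, h⟩
    have hPA : P.map A.subtype ≤ A := by
      rintro _ ⟨x, -, rfl⟩
      exact x.2
    have hT1 : (T₁.subgroupOf A).map A.subtype = T₁ :=
      Subgroup.map_subgroupOf_eq_of_le (h.1.trans hPA)
    have hT2 : (T₂.subgroupOf A).map A.subtype = T₂ :=
      Subgroup.map_subgroupOf_eq_of_le (h.2.1.trans hPA)
    refine ⟨T₁.subgroupOf A, T₂.subgroupOf A, ?_, ?_, ?_⟩
    · intro hb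
      rw [hb, Subgroup.map_bot] at hT1
      exact h1 hT1.symm
    · intro hb
      rw [hb, Subgroup.map_bot] at hT2
      exact h2 hT2.symm
    · rw [← isInternalDirectProduct_map_iff A.subtype hinj, hT1, hT2]
      exact h

end Cfsg.Agent.Helper8.SylAlt
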