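import Mathlib
import Cfsg.Prelude.Def_TwoFusion

/-!
Piece V4 for S2221 (helper8's blueprint, msg 3641).
-/

namespace Cfsg.Agent.Helper8.SylAlt

open Equiv

set_option maxRecDepth 100000 in
theorem even_sq_perm5 : ∀ x : Perm (Fin 5), Perm.sign x = 1 → x ^ 8 = 1 → x ^ 2 = 1 := by
  decide +kernel

set_option maxRecDepth 100000 in
theorem even_sq_perm4 : ∀ x : Perm (Fin 4), Perm.sign x = 1 → x ^ 8 = 1 → x ^ 2 = 1 := by
  decide +kernel

theorem fact24 : (Nat.factorization 24) 2 = 3 := by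
  rw [Nat.factorization_def _ Nat.prime_two]
  decide +kernel

theorem fact120 : (Nat.factorization 120) 2 = 3 := by
  rw [Nat.factorization_def _ Nat.prime_two]
  decide +kernel

/-- A subgroup of order 4 and exponent 2 is an internal direct product of two nontrivial
subgroups. -/
theorem decomp_of_exp_two {G : Type*} [Group G] (P : Subgroup G) (hexp : ∀ x ∈ P, x ^ 2 = 1)
    (hcard : Nat.card P = 4) :
    ∃ S₁ S₂ : Subgroup G, S₁ ≠ ⊥ ∧ S₂ ≠ ⊥ ∧ Cfsg.IsInternalDirectProduct S₁ S₂ P := by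
  haveI : Finite P := Nat.finite_of_card_ne_zero (by omega)
  -- commutativity
  have hcomm : ∀ x ∈ P, ∀ y ∈ P, x * y = y * x := by
    intro x hx y hy
    have h1 := hexp _ (P.mul_mem hx hy)
    have h2 := hexp x hx
    have h3 := hexp y hy
    have hxi : x⁻¹ = x := by
      rw [inv_eq_iff_mul_eq_one, ← sq, h2]
    have hyi : y⁻¹ = y := by
      rw [inv_eq_iff_mul_eq_one, ← sq, h3]
    have h4 : (x * y)⁻¹ = x * y := by
      rw [inv_eq_iff_mul_eq_one, ← sq, h1]
    rw [← h4, mul_inv_rev, hxi, hyi]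
  -- an element a ≠ 1
  have hPbot : P ≠ ⊥ := by
    rintro rfl
    rw [Subgroup.card_bot] at hcard
    omega
  obtain ⟨a, haP, ha1⟩ := (Subgroup.ne_bot_iff_exists_ne_one.mp hPbot |> fun ⟨a, ha⟩ =>
    (⟨a.1, a.2, fun h => ha (Subtype.ext h)⟩ : ∃ a : G, a ∈ P ∧ a ≠ 1))
  have hoa : orderOf a = 2 := orderOf_eq_prime (hexp a haP) ha1
  have hS1P : Subgroup.zpowers a ≤ P := by
    rw [Subgroup.zpowers_le]; exact haP
  have hc1 : Nat.card (Subgroup.zpowers a) = 2 := by rw [Nat.card_zpowers, hoa]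
  -- an element b ∉ ⟨a⟩
  have hb : ∃ b ∈ P, b ∉ Subgroup.zpowers a := by
    by_contra hcon
    push Not at hcon
    have : P ≤ Subgroup.zpowers a := fun x hx => hcon x hx
    have := le_antisymm this hS1P
    rw [this] at hcard
    omega
  obtain ⟨b, hbP, hbS⟩ := hb
  have hb1 : b ≠ 1 := by
    rintro rfl
    exact hbS (Subgroup.one_mem _)
  have hob : orderOf b = 2 := orderOf_eq_prime (hexp b hbP) hb1
  have hS2P : Subgroup.zpowers b ≤ P := by
    rw [Subgroup.zpowers_le]; exact hbP
  have hc2 : Nat.card (Subgroup.zpowers b) = 2 := by rw [Nat.card_zpowers, hob]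
  refine ⟨Subgroup.zpowers a, Subgroup.zpowers b, ?_, ?_, hS1P, hS2P, ?_, ?_, ?_⟩
  · rw [Ne, Subgroup.zpowers_eq_bot]; exact ha1
  · rw [Ne, Subgroup.zpowers_eq_bot]; exact hb1
  · intro x hx y hy
    exact hcomm x (hS1P hx) y (hS2P hy)
  · -- intersection trivial
    haveI : Finite (Subgroup.zpowers a) := Nat.finite_of_card_ne_zero (by omega)
    haveI : Finite (Subgroup.zpowers b) := Nat.finite_of_card_ne_zero (by omega)
    have hdvd : Nat.card (Subgroup.zpowers a ⊓ Subgroup.zpowers b : Subgroup G) ∣ 2 := by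
      rw [← hc1]; exact Subgroup.card_dvd_of_le inf_le_left
    rcases (Nat.dvd_prime Nat.prime_two).mp hdvd with h | h
    · exact Subgroup.card_eq_one.mp h
    · exfalso
      have h1 : (Subgroup.zpowers a ⊓ Subgroup.zpowers b : Subgroup G) = Subgroup.zpowers a :=
        Subgroup.eq_of_le_of_card_ge inf_le_left (by rw [h, hc1])
      have h2 : (Subgroup.zpowers a ⊓ Subgroup.zpowers b : Subgroup G) = Subgroup.zpowers b :=
        Subgroup.eq_of_le_of_card_ge inf_le_right (by rw [h, hc2])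
      apply hbS
      rw [← h1, h2]
      exact Subgroup.mem_zpowers b
  · -- join is everything
    have hle : Subgroup.zpowers a ⊔ Subgroup.zpowers b ≤ P := sup_le hS1P hS2P
    haveI : Finite (Subgroup.zpowers a ⊔ Subgroup.zpowers b : Subgroup G) :=
      Finite.of_injective (Subgroup.inclusion hle) (Subgroup.inclusion_injective hle)
    have hd1 : Nat.card (Subgroup.zpowers a ⊔ Subgroup.zpowers b : Subgroup G) ∣ 4 := by
      rw [← hcard]; exact Subgroup.card_dvd_of_le hle
    have hd2 : 2 ∣ Nat.card (Subgroup.zpowers a ⊔ Subgroup.zpowers b : Subgroup G) := by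
      rw [← hc1]; exact Subgroup.card_dvd_of_le le_sup_left
    have hne2 : Nat.card (Subgroup.zpowers a ⊔ Subgroup.zpowers b : Subgroup G) ≠ 2 := by
      intro h
      have h1 : Subgroup.zpowers a = (Subgroup.zpowers a ⊔ Subgroup.zpowers b : Subgroup G) :=
        Subgroup.eq_of_le_of_card_ge le_sup_left (by rw [h, hc1])
      apply hbS
      rw [h1]
      exact (le_sup_right : Subgroup.zpowers b ≤ _) (Subgroup.mem_zpowers b)
    have h4 : Nat.card (Subgroup.zpowers a ⊔ Subgroup.zpowers b : Subgroup G) = 4 := by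
      have hle4 : Nat.card (Subgroup.zpowers a ⊔ Subgroup.zpowers b : Subgroup G) ≤ 4 :=
        Nat.le_of_dvd (by norm_num) hd1
      obtain ⟨c, hc⟩ := hd2
      obtain ⟨N, hN⟩ : ∃ N, N = Nat.card (Subgroup.zpowers a ⊔ Subgroup.zpowers b : Subgroup G) :=
        ⟨_, rfl⟩
      rw [← hN] at hd1 hne2 hle4 hc ⊢
      interval_cases N <;> omega
    exact Subgroup.eq_of_le_of_card_ge hle (by rw [h4, hcard])

theorem decomp_small_perm (n : ℕ) (hn : n = 4 ∨ n = 5) (Q : Sylow 2 (Perm (Fin n))) :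
    ∃ S₁ S₂ : Subgroup (Perm (Fin n)), S₁ ≠ ⊥ ∧ S₂ ≠ ⊥ ∧
      Cfsg.IsInternalDirectProduct S₁ S₂
        ((Q : Subgroup (Perm (Fin n))) ⊓ alternatingGroup (Fin n)) := by
  haveI : Nontrivial (Fin n) := by
    rcases hn with rfl | rfl <;> infer_instance
  -- |Q| = 8
  have hQ8 : Nat.card (Q : Subgroup (Perm (Fin n))) = 8 := by
    rw [Sylow.card_eq_multiplicity, Nat.card_perm, Nat.card_eq_fintype_card, Fintype.card_fin]
    rcases hn with rfl | rfl
    · rw [show Nat.factorial 4 = 24 from rfl, fact24]; norm_num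
    · rw [show Nat.factorial 5 = 120 from rfl, fact120]; norm_num
  have hGcard : Nat.card (Perm (Fin n)) = 24 ∨ Nat.card (Perm (Fin n)) = 120 := by
    rw [Nat.card_perm, Nat.card_eq_fintype_card, Fintype.card_fin]
    rcases hn with rfl | rfl
    · left; rfl
    · right; rfl
  -- exponent 2
  have hexp : ∀ x ∈ (Q : Subgroup (Perm (Fin n))) ⊓ alternatingGroup (Fin n), x ^ 2 = 1 := by
    intro x hx
    have hxQ : x ∈ (Q : Subgroup (Perm (Fin n))) := hx.1
    have hxA : Perm.sign x = 1 := Perm.mem_alternatingGroup.mp hx.2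
    have hx8 : x ^ 8 = 1 := by
      have h := pow_card_eq_one' (G := (Q : Subgroup (Perm (Fin n)))) (x := ⟨x, hxQ⟩)
      rw [hQ8] at h
      have := congrArg Subtype.val h
      simpa using this
    rcases hn with rfl | rfl
    · exact even_sq_perm4 x hxA hx8
    · exact even_sq_perm5 x hxA hx8
  -- |Q ⊓ A| = 4
  have hcard : Nat.card ((Q : Subgroup (Perm (Fin n))) ⊓ alternatingGroup (Fin n) : Subgroup _)
      = 4 := by
    have hA2 : (alternatingGroup (Fin n)).index = 2 := alternatingGroup.index_eq_two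
    have hi := Subgroup.index_inf_le (H := (Q : Subgroup (Perm (Fin n))))
      (K := alternatingGroup (Fin n))
    rw [hA2] at hi
    have h1 := Subgroup.card_mul_index (Q : Subgroup (Perm (Fin n)))
    have h2 := Subgroup.card_mul_index
      ((Q : Subgroup (Perm (Fin n))) ⊓ alternatingGroup (Fin n) : Subgroup _)
    have h3 : Nat.card ((Q : Subgroup (Perm (Fin n))) ⊓ alternatingGroup (Fin n) : Subgroup _) ∣
        8 := by
      rw [← hQ8]; exact Subgroup.card_dvd_of_le inf_le_left
    have h4 : Nat.card ((Q : Subgroup (Perm (Fin n))) ⊓ alternatingGroup (Fin n) : Subgroup _) ∣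
        Nat.card (alternatingGroup (Fin n)) := Subgroup.card_dvd_of_le inf_le_right
    have h5 : 2 * Nat.card (alternatingGroup (Fin n)) = Nat.card (Perm (Fin n)) :=
      two_mul_nat_card_alternatingGroup
    obtain ⟨N, hN⟩ : ∃ N, N = Nat.card
      ((Q : Subgroup (Perm (Fin n))) ⊓ alternatingGroup (Fin n) : Subgroup _) := ⟨_, rfl⟩
    obtain ⟨I, hI⟩ : ∃ I, I = ((Q : Subgroup (Perm (Fin n))) ⊓
      alternatingGroup (Fin n) : Subgroup _).index := ⟨_, rfl⟩
    obtain ⟨J, hJ⟩ : ∃ J, J = (Q : Subgroup (Perm (Fin n))).index := ⟨_, rfl⟩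
    obtain ⟨M, hM⟩ : ∃ M, M = Nat.card (alternatingGroup (Fin n)) := ⟨_, rfl⟩
    rw [← hN] at h2 h3 h4 ⊢
    rw [← hI] at h2 hi
    rw [← hJ] at h1 hi
    rw [← hM] at h4 h5
    rw [hQ8] at h1
    have hN8 : N ≤ 8 := Nat.le_of_dvd (by norm_num) h3
    rcases hGcard with hG | hG <;> rw [hG] at h1 h2 h5
    · have hJ3 : J = 3 := by omega
      have hM12 : M = 12 := by omega
      subst hJ3 hM12
      interval_cases N <;> first | omega | (exfalso; revert h4; decide) | (exfalso; revert h3; decide)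
    · have hJ3 : J = 15 := by omega
      have hM12 : M = 60 := by omega
      subst hJ3 hM12
      interval_cases N <;> first | omega | (exfalso; revert h4; decide) | (exfalso; revert h3; decide)
  exact decomp_of_exp_two _ hexp hcard

end Cfsg.Agent.Helper8.SylAlt
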