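import Mathlib
import Cfsg.Agent.Helper1.SylEf
import Cfsg.Agent.S0245

set_option autoImplicit false

/-!
Sylow `2`-subgroups of `Sp_{2n}(q)`, `q` odd, have elementary abelian abelianization.
-/

namespace Cfsg.Agent.Helper1.SylE

open Cfsg.Agent.Helper4.SpWreath

universe u

variable {F : Type u} [Field F]

theorem sylow_sp_EProp [Fintype F] (hq : Odd (Fintype.card F)) (n : ℕ)
    (S : Sylow 2 (Matrix.symplecticGroup (Fin n) F)) :
    EProp ↥(S : Subgroup (Matrix.symplecticGroup (Fin n) F)) := by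
  classical
  haveI : Fact (Nat.Prime 2) := ⟨Nat.prime_two⟩
  have hq3 : 3 ≤ Fintype.card F := by
    have h1 : 1 < Fintype.card F := Fintype.one_lt_card
    obtain ⟨k, hk⟩ := hq
    omega
  obtain ⟨B, iB1, iB2, hBp, hBE, hBc, τ, hτ, hp⟩ := exists_base_rep (F := F) hq
  obtain ⟨P, iP1, iP2, hPE, hPc, Z, iZ, τ', hτ', hp', hZ⟩ :=
    claim (F := F) n B iB1 iB2 (Fin 1) inferInstance inferInstance τ hτ hp hBE
  have hZn : Fintype.card Z = Fintype.card (Fin n) := by
    rw [hZ]; simp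
  obtain ⟨τ'', hτ'', hp''⟩ := reindex_step Z (Fin n) (Fintype.equivOfCardEq hZn) τ' hτ' hp'
  obtain ⟨f, hf⟩ := to_symplectic (Fin n) τ'' hτ'' hp''
  -- the image
  have e : P ≃* f.range := MonoidHom.ofInjective hf
  have hRE : EProp ↥f.range := hPE.of_mulEquiv e
  have hRc : Nat.card ↥f.range = Nat.card B ^ n * 2 ^ (padicValNat 2 n.factorial) := by
    rw [← hPc]; exact Nat.card_congr e.symm.toEquiv
  obtain ⟨b, hb⟩ := IsPGroup.iff_card.1 hBp
  have hRp : IsPGroup 2 ↥f.range := by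
    apply IsPGroup.of_card (n := b * n + padicValNat 2 n.factorial)
    rw [hRc, hb, ← pow_mul, ← pow_add]
  obtain ⟨S', hS'⟩ := hRp.exists_le_sylow
  -- orders
  have hSp : Nat.card (Matrix.symplecticGroup (Fin n) F) = (Fintype.card F) ^ (n ^ 2) *
      ∏ i ∈ Finset.range n, ((Fintype.card F) ^ (2 * (i + 1)) - 1) :=
    Cfsg.Agent.S0245.result rfl n
  have hS'c : Nat.card ↥(S' : Subgroup (Matrix.symplecticGroup (Fin n) F)) =
      2 ^ (n * padicValNat 2 (Fintype.card F ^ 2 - 1) + padicValNat 2 n.factorial) := by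
    rw [Sylow.card_eq_multiplicity, Nat.factorization_def _ Nat.prime_two, hSp,
      padicValNat_card_sp hq hq3 n]
  have hle : Nat.card ↥(S' : Subgroup (Matrix.symplecticGroup (Fin n) F)) ≤
      Nat.card ↥f.range := by
    rw [hS'c, hRc, pow_add, mul_comm n, pow_mul]
    exact Nat.mul_le_mul_right _ (Nat.pow_le_pow_left hBc n)
  have heq : f.range = (S' : Subgroup (Matrix.symplecticGroup (Fin n) F)) :=
    Subgroup.eq_of_le_of_card_ge hS' hle
  have hS'E : EProp ↥(S' : Subgroup (Matrix.symplecticGroup (Fin n) F)) := heq ▸ hRE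
  exact hS'E.of_mulEquiv (Sylow.equiv S' S)

end Cfsg.Agent.Helper1.SylE
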