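import Mathlib
import Cfsg.Agent.Helper1.SylGh

set_option autoImplicit false

/-!
The base group for `q ≡ 3 mod 4`: a `2`-subgroup of `GL₂(q)` of full order satisfying the strong
invariant.
-/

namespace Cfsg.Agent.Helper1.SylG

open Cfsg.Agent.Helper1.SylE Module Matrix

universe u

variable {F : Type u} [Field F] [Fintype F]

theorem pm_one_of_pow (hb : padicValNat 2 (Fintype.card F - 1) = 1) (N : F) (k : ℕ)
    (h : N ^ (2 ^ k) = 1) : N = 1 ∨ N = -1 := by
  classical
  haveI : Fact (Nat.Prime 2) := ⟨Nat.prime_two⟩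
  have hN0 : N ≠ 0 := by
    rintro rfl
    rw [zero_pow (by positivity)] at h
    exact zero_ne_one h
  have h1 : (Units.mk0 N hN0) ^ (2 ^ k) = 1 := by
    apply Units.ext
    simpa using h
  have h2 : orderOf (Units.mk0 N hN0) ∣ 2 ^ k := orderOf_dvd_of_pow_eq_one h1
  obtain ⟨i, -, hi⟩ := (Nat.dvd_prime_pow Nat.prime_two).1 h2
  have h3 : orderOf (Units.mk0 N hN0) ∣ Fintype.card F - 1 := by
    rw [← Fintype.card_units]
    exact orderOf_dvd_card
  have hq1 : Fintype.card F - 1 ≠ 0 := by
    have : 1 < Fintype.card F := Fintype.one_lt_card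
    omega
  rw [hi] at h3
  have h4 : i ≤ 1 := by
    rw [← hb]; exact (padicValNat_dvd_iff_le hq1).1 h3
  have h5 : (Units.mk0 N hN0) ^ 2 = 1 := by
    apply orderOf_dvd_iff_pow_eq_one.1
    rw [hi]
    exact pow_dvd_pow 2 h4 |>.trans (by norm_num)
  have h6 : N * N = 1 := by
    have := congrArg Units.val h5
    simpa [pow_two] using this
  exact mul_self_eq_one_iff.1 h6

theorem exists_base3 (hq : Odd (Fintype.card F)) (hq4 : Fintype.card F % 4 = 3) :
    ∃ D : Subgroup (GL (Fin 2) F), IsPGroup 2 D ∧ Good (stdRep D) ∧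
      2 ^ (padicValNat 2 (Fintype.card F ^ 2 - 1) + padicValNat 2 (Fintype.card F - 1)) ≤
        Nat.card D := by
  classical
  have h2 : (2 : F) ≠ 0 := two_ne_zero_of_odd hq
  have hb : padicValNat 2 (Fintype.card F - 1) = 1 := padicValNat_two_of_mod_four (by omega)
  have hns : ∀ t : F, t ^ 2 + 1 ≠ 0 := by
    intro t ht
    have hsq : IsSquare (-1 : F) := ⟨t, by linear_combination (-1 : F) * ht⟩
    exact (FiniteField.isSquare_neg_one_iff.1 hsq) hq4
  have hj0 : (0 : F) ^ 2 + 1 ^ 2 ≠ 0 := by norm_num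
  obtain ⟨D, hDp, hDE, hDc, hrD⟩ := exists_semidihedral_like (torus F) torus_comm rG
    (by
      apply Units.ext
      rw [Units.val_mul, rG_val, rM_mul_rM, Units.val_one])
    (by
      rintro ⟨x, y, hxy⟩
      rw [rG_val] at hxy
      have h00 := congrFun (congrFun hxy 0) 0
      have h11 := congrFun (congrFun hxy 1) 1
      simp [rM, cM] at h00 h11
      apply h2
      first
        | linear_combination h00 - h11
        | linear_combination h11 - h00)
    (by
      rintro c ⟨x, y, hc⟩
      exact ⟨x, -y, by rw [Units.val_mul, Units.val_mul, rG_val, hc, rM_conj]⟩)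
    (-1)
    (by
      intro g
      apply Units.ext
      simp)
    (cG 0 1 hj0) ⟨0, 1, rfl⟩
    (by
      apply Units.ext
      rw [Units.val_pow_eq_pow_val, cG_val, Units.val_one]
      have e : (4 : ℕ) = 2 * 2 := rfl
      rw [e, pow_mul, pow_two (cM 0 1), cM_mul, pow_two, cM_mul, ← cM_one]
      congr 1 <;> ring)
    (by
      apply Units.ext
      rw [Units.val_mul, Units.val_mul, Units.val_mul, cG_val, rG_val, Units.val_neg,
        Units.val_one]
      exact jM_rM)
    (by
      rintro c ⟨x, y, hc⟩ ⟨k, hk⟩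
      have hN : (x ^ 2 + y ^ 2) ^ (2 ^ k) = 1 := by
        have := congrArg (fun g : GL (Fin 2) F => (g : Matrix (Fin 2) (Fin 2) F).det) hk
        simp only [Units.val_pow_eq_pow_val, Matrix.det_pow, Units.val_one, Matrix.det_one,
          hc, det_cM] at this
        exact this
      rcases pm_one_of_pow hb _ k hN with h | h
      · left
        apply Units.ext
        rw [Units.val_mul, Units.val_mul, rG_val, hc, cM_rM_cM, h, one_smul]
      · right
        apply Units.ext
        rw [Units.val_mul, Units.val_mul, Units.val_mul, rG_val, hc, cM_rM_cM, h, Units.val_neg,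
          Units.val_one, neg_one_smul, neg_one_mul])
  rw [card_torus hns] at hDc
  have hcard : 2 ^ (padicValNat 2 (Fintype.card F ^ 2 - 1) +
      padicValNat 2 (Fintype.card F - 1)) ≤ Nat.card D := by
    rw [hb, pow_succ, mul_comm]; exact hDc
  refine ⟨D, hDp, ?_, hcard⟩
  refine { toGood2 := base_Good2 hq D hDp hcard, e1 := hDE, neg := ?_, pm := ?_ }
  · refine ⟨⟨rG, hrD⟩, ?_⟩
    rw [det_stdRep]
    exact det_rM
  · intro x
    rw [det_stdRep]
    obtain ⟨k, hk⟩ := hDp x
    have hN : ((x : GL (Fin 2) F) : Matrix (Fin 2) (Fin 2) F).det ^ (2 ^ k) = 1 := by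
      have := congrArg (fun g : D => ((g : GL (Fin 2) F) : Matrix (Fin 2) (Fin 2) F).det) hk
      simp only [Subgroup.coe_pow, Units.val_pow_eq_pow_val, Matrix.det_pow, Subgroup.coe_one,
        Units.val_one, Matrix.det_one] at this
      exact this
    exact pm_one_of_pow hb _ k hN

end Cfsg.Agent.Helper1.SylG
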