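import Mathlib
import Cfsg.Agent.Helper1.SylGi

set_option autoImplicit false

/-!
Sylow `2`-subgroups of `SL_n(q)`, `q` odd: elementary abelianization in the cases
`n` odd with `q ≡ 3 mod 4`, `n` even with `q ≡ 3 mod 4`, and `n` a power of two.
-/

namespace Cfsg.Agent.Helper1.SylG

open Cfsg.Agent.Helper1.SylE Module Matrix

universe u

variable {F : Type u} [Field F] [Fintype F]

theorem q3_of_odd (hq : Odd (Fintype.card F)) : 3 ≤ Fintype.card F := by
  have h1 : 1 < Fintype.card F := Fintype.one_lt_card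
  obtain ⟨k, hk⟩ := hq
  omega

theorem v2_factorial_two_pow (j : ℕ) : padicValNat 2 (2 ^ j).factorial + 1 = 2 ^ j := by
  haveI : Fact (Nat.Prime 2) := ⟨Nat.prime_two⟩
  induction j with
  | zero => simp
  | succ j ih =>
    have e : 2 ^ (j + 1) = 2 * 2 ^ j := by rw [pow_succ]; ring
    rw [e, padicValNat_factorial_mul (p := 2) (2 ^ j)]
    omega

/-- the even-dimensional conclusion -/
theorem final_SL_even (hq : Odd (Fintype.card F)) (m : ℕ) (hm : 1 ≤ m)
    {P' : Type*} [Group P'] [Finite P'] (hP' : IsPGroup 2 P')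
    {U' : Type*} [AddCommGroup U'] [Module F U'] [FiniteDimensional F U']
    (τ' : P' →* Module.End F U') (hG : Good2 τ') (hfr : finrank F U' = 2 * m)
    (hcard : 2 ^ (m * (padicValNat 2 (Fintype.card F ^ 2 - 1) +
      padicValNat 2 (Fintype.card F - 1)) + padicValNat 2 m.factorial) ≤ Nat.card P')
    (S : Sylow 2 (Matrix.SpecialLinearGroup (Fin (2 * m)) F)) :
    EProp ↥(S : Subgroup (Matrix.SpecialLinearGroup (Fin (2 * m)) F)) := by
  obtain ⟨f, hf⟩ := exists_toSL τ' hG.inj (2 * m) hfr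
  refine sylow_EProp_of_injective (hP'.to_subgroup _) hG.e3 f hf ?_ S
  have h1 := card_le_detKer hP' τ'
  have h2 := padicValNat_card_SL hq (2 * m) (by omega)
  rw [sum_V_even hq (q3_of_odd hq)] at h2
  have h3 := le_trans hcard h1
  rw [← h2, pow_add] at h3
  exact Nat.le_of_mul_le_mul_right h3 (by positivity)

/-- `SL_{2m}(q)`, `q ≡ 3 mod 4` -/
theorem sylow_SL_even_three (hq : Odd (Fintype.card F)) (hq4 : 4 ∣ Fintype.card F + 1) (m : ℕ)
    (hm : 1 ≤ m) (S : Sylow 2 (Matrix.SpecialLinearGroup (Fin (2 * m)) F)) :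
    EProp ↥(S : Subgroup (Matrix.SpecialLinearGroup (Fin (2 * m)) F)) := by
  classical
  have h2 : (2 : F) ≠ 0 := two_ne_zero_of_odd hq
  obtain ⟨D, hDp, hDG, hDc⟩ := exists_base3 hq (by omega)
  obtain ⟨P', i1, i2, U', i3, i4, i5, τ', hG', hfr', hcP'⟩ :=
    claimGL h2 m hm D inferInstance inferInstance (Fin 2 → F) inferInstance inferInstance
      inferInstance inferInstance (stdRep D) hDG (by simp)
  obtain ⟨d, hd⟩ := IsPGroup.iff_card.1 hDp
  have hP' : IsPGroup 2 P' := by
    apply IsPGroup.of_card (n := d * m + padicValNat 2 m.factorial)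
    rw [hcP', hd, ← pow_mul, ← pow_add]
  refine final_SL_even hq m hm hP' τ' hG'.toGood2 ?_ ?_ S
  · rw [hfr']; simp [mul_comm]
  · rw [hcP', pow_add, mul_comm m, pow_mul]
    exact Nat.mul_le_mul_right _ (Nat.pow_le_pow_left hDc m)

/-- `SL_{2m}(q)`, `m` a power of two -/
theorem sylow_SL_even_pow (hq : Odd (Fintype.card F)) (j : ℕ)
    (S : Sylow 2 (Matrix.SpecialLinearGroup (Fin (2 * 2 ^ j)) F)) :
    EProp ↥(S : Subgroup (Matrix.SpecialLinearGroup (Fin (2 * 2 ^ j)) F)) := by
  classical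
  haveI : Fact (Nat.Prime 2) := ⟨Nat.prime_two⟩
  have h2 : (2 : F) ≠ 0 := two_ne_zero_of_odd hq
  obtain ⟨B, -⟩ := (IsPGroup.of_bot : IsPGroup 2 (⊥ : Subgroup (GL (Fin 2) F))).exists_le_sylow
  have hBc : Nat.card (B : Subgroup (GL (Fin 2) F)) =
      2 ^ (padicValNat 2 (Fintype.card F ^ 2 - 1) + padicValNat 2 (Fintype.card F - 1)) := by
    rw [Sylow.card_eq_multiplicity, Nat.factorization_def _ Nat.prime_two, padicValNat_card_GL hq,
      Finset.sum_range_succ, Finset.sum_range_one]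
    simp only [zero_add, pow_one]
    rw [add_comm]
  have hBG := base_Good2 hq (B : Subgroup (GL (Fin 2) F)) B.2 hBc.ge
  obtain ⟨P', i1, i2, U', i3, i4, i5, τ', hG', hfr', hcP'⟩ :=
    claimPow h2 j (B : Subgroup (GL (Fin 2) F)) inferInstance inferInstance (Fin 2 → F)
      inferInstance inferInstance inferInstance inferInstance
      (stdRep (B : Subgroup (GL (Fin 2) F))) hBG (by simp)
  have hP' : IsPGroup 2 P' := by
    have h1 : Nat.card P' ∣ 2 ^ ((padicValNat 2 (Fintype.card F ^ 2 - 1) +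
        padicValNat 2 (Fintype.card F - 1)) * 2 ^ j + 2 ^ j) := by
      rw [pow_add, pow_mul, ← hBc, ← hcP']
      exact Dvd.intro _ rfl
    obtain ⟨i, -, hi⟩ := (Nat.dvd_prime_pow Nat.prime_two).1 h1
    exact IsPGroup.of_card hi
  refine final_SL_even hq (2 ^ j) (Nat.one_le_two_pow) hP' τ' hG' ?_ ?_ S
  · rw [hfr']; simp [mul_comm]
  · apply Nat.le_of_mul_le_mul_right (c := 2) _ (by norm_num)
    rw [hcP', hBc, pow_add, mul_assoc, ← pow_succ, v2_factorial_two_pow, mul_comm (2 ^ j), pow_mul]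

/-- `SL_{2m+1}(q)`, `q ≡ 3 mod 4` -/
theorem sylow_SL_odd_three (hq : Odd (Fintype.card F)) (hq4 : 4 ∣ Fintype.card F + 1) (m : ℕ)
    (hm : 1 ≤ m) (S : Sylow 2 (Matrix.SpecialLinearGroup (Fin (2 * m + 1)) F)) :
    EProp ↥(S : Subgroup (Matrix.SpecialLinearGroup (Fin (2 * m + 1)) F)) := by
  classical
  have h2 : (2 : F) ≠ 0 := two_ne_zero_of_odd hq
  obtain ⟨D, hDp, hDG, hDc⟩ := exists_base3 hq (by omega)
  obtain ⟨P', i1, i2, U', i3, i4, i5, τ', hG', hfr', hcP'⟩ :=
    claimGL h2 m hm D inferInstance inferInstance (Fin 2 → F) inferInstance inferInstance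
      inferInstance inferInstance (stdRep D) hDG (by simp)
  obtain ⟨d, hd⟩ := IsPGroup.iff_card.1 hDp
  have hP' : IsPGroup 2 P' := by
    apply IsPGroup.of_card (n := d * m + padicValNat 2 m.factorial)
    rw [hcP', hd, ← pow_mul, ← pow_add]
  -- the representation `g ↦ diag(g, det g⁻¹)`
  let ρ : P' →* Module.End F (U' × F) :=
    { toFun := fun g => (τ' g).prodMap ((LinearMap.det (τ' g))⁻¹ • (LinearMap.id : F →ₗ[F] F))
      map_one' := by
        rw [map_one, map_one, inv_one, one_smul]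
        rfl
      map_mul' := by
        intro x y
        rw [map_mul, map_mul, mul_inv]
        refine LinearMap.ext fun v => ?_
        simp [LinearMap.prodMap_apply, mul_smul, mul_comm] }
  have hρ : Function.Injective ρ := by
    intro x y hxy
    apply hG'.inj
    refine LinearMap.ext fun u => ?_
    have := LinearMap.congr_fun hxy (u, 0)
    exact congrArg Prod.fst this
  have hρdet : ∀ g : P', LinearMap.det (ρ g) = 1 := by
    intro g
    show LinearMap.det ((τ' g).prodMap ((LinearMap.det (τ' g))⁻¹ • (LinearMap.id : F →ₗ[F] F))) = 1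
    rw [LinearMap.det_prodMap, LinearMap.det_smul, Module.finrank_self, pow_one, LinearMap.det_id,
      mul_one, mul_inv_cancel₀ (det_ne_zero τ' g)]
  have hfrρ : finrank F (U' × F) = 2 * m + 1 := by
    rw [Module.finrank_prod, hfr', Module.finrank_self]; simp [mul_comm]
  obtain ⟨f, hf⟩ := exists_toSL ρ hρ (2 * m + 1) hfrρ
  let incl : P' →* detKer ρ :=
    { toFun := fun g => ⟨g, (mem_detKer ρ g).2 (hρdet g)⟩
      map_one' := rfl
      map_mul' := fun _ _ => rfl }
  have hincl : Function.Injective incl := by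
    intro x y hxy
    exact congrArg Subtype.val hxy
  refine sylow_EProp_of_injective hP' hG'.e1 (f.comp incl) (hf.comp hincl) ?_ S
  have h3 := padicValNat_card_SL hq (2 * m + 1) (by omega)
  rw [sum_V_odd hq (q3_of_odd hq)] at h3
  have h4 : padicValNat 2 (Nat.card (Matrix.SpecialLinearGroup (Fin (2 * m + 1)) F)) =
      m * (padicValNat 2 (Fintype.card F ^ 2 - 1) + padicValNat 2 (Fintype.card F - 1)) +
        padicValNat 2 m.factorial := by omega
  rw [h4, hcP', pow_add, mul_comm m, pow_mul]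
  exact Nat.mul_le_mul_right _ (Nat.pow_le_pow_left hDc m)

end Cfsg.Agent.Helper1.SylG
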