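import Mathlib
import Cfsg.Agent.Helper1.SZ
import Cfsg.Agent.Helper1.Supersolvable3

set_option autoImplicit false

/-!
A finite solvable group is the ordered product of arbitrary Sylow subgroups, one for each prime.
-/

namespace Cfsg.Agent.Helper1

open scoped Pointwise

universe u

variable {G : Type u} [Group G]

theorem normal_mul_set_comm (N : Subgroup G) [hN : N.Normal] (A : Set G) :
    (N : Set G) * A = A * (N : Set G) := by
  ext x
  constructor
  · rintro ⟨n, hn, a, ha, rfl⟩
    exact ⟨a, ha, a⁻¹ * n * a, hN.conj_mem' n hn a, by group⟩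
  · rintro ⟨a, ha, n, hn, rfl⟩
    exact ⟨a * n * a⁻¹, hN.conj_mem n hn a, a, ha, by group⟩

theorem normal_mul_list_prod_comm (N : Subgroup G) [N.Normal] :
    ∀ (t : ℕ) (A : Fin t → Set G),
      (N : Set G) * (List.ofFn A).prod = (List.ofFn A).prod * (N : Set G) := by
  intro t A
  exact normal_mul_set_comm N _

theorem list_prod_mul_normal (N : Subgroup G) [N.Normal] :
    ∀ (t : ℕ) (A : Fin t → Set G) (j : Fin t), A j * (N : Set G) = A j →
      (List.ofFn A).prod * (N : Set G) = (List.ofFn A).prod := by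
  intro t
  induction t with
  | zero => intro A j; exact j.elim0
  | succ t ih =>
    intro A j hj
    rw [List.ofFn_succ, List.prod_cons]
    induction j using Fin.cases with
    | zero =>
      rw [mul_assoc, ← normal_mul_set_comm N, ← mul_assoc, hj]
    | succ j' =>
      rw [mul_assoc, ih (fun i => A i.succ) j' hj]

theorem prod_sylow_eq_univ : ∀ (k : ℕ) (G : Type u) [Group G] [Finite G] [Group.IsSolvable G],
    Nat.card G = k → ∀ (t : ℕ) (p : Fin t → ℕ) (_ : ∀ i, (p i).Prime)
    (_ : ∀ q : ℕ, q.Prime → q ∣ Nat.card G → ∃ i, p i = q) (S : (i : Fin t) → Sylow (p i) G),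
    ∀ g : G, g ∈ (List.ofFn (fun i => ((S i : Subgroup G) : Set G))).prod := by
  intro k
  induction k using Nat.strong_induction_on with
  | _ k ih =>
  intro G _ _ _ hk t p hp hall S g
  by_cases hnt : Nontrivial G
  · obtain ⟨q, hq, N, hNn, hNne, hNq, -, -⟩ := exists_normal_pgroup_of_solvable G
    have hQlt : Nat.card (G ⧸ N) < k := hk ▸ card_quotient_lt N hNne
    have hcardG : Nat.card G = Nat.card (G ⧸ N) * Nat.card N :=
      Subgroup.card_eq_card_quotient_mul_card_subgroup N
    have hsurj := QuotientGroup.mk'_surjective N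
    have hQsolv : Group.IsSolvable (G ⧸ N) := Group.isSolvable_of_surjective hsurj
    have hallQ : ∀ r : ℕ, r.Prime → r ∣ Nat.card (G ⧸ N) → ∃ i, p i = r := by
      intro r hr hrQ
      exact hall r hr (hcardG ▸ Dvd.dvd.mul_right hrQ _)
    let S' : (i : Fin t) → Sylow (p i) (G ⧸ N) := fun i =>
      @Sylow.mapSurjective (p i) G _ _ (G ⧸ N) _ (QuotientGroup.mk' N) hsurj ⟨hp i⟩ (S i)
    have h1 := ih _ hQlt (G ⧸ N) rfl t p hp hallQ S' (QuotientGroup.mk' N g)
    have himg : (List.ofFn (fun i => ((S' i : Subgroup (G ⧸ N)) : Set (G ⧸ N)))).prod =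
        (QuotientGroup.mk' N) '' (List.ofFn (fun i => ((S i : Subgroup G) : Set G))).prod := by
      rw [Set.image_list_prod, List.map_ofFn]
      congr 1
    rw [himg] at h1
    obtain ⟨x, hx, hxg⟩ := h1
    -- `g = x * n`
    have hn : x⁻¹ * g ∈ N := by
      rw [← QuotientGroup.eq_one_iff, ← QuotientGroup.mk'_apply, map_mul, map_inv, hxg,
        inv_mul_cancel]
    -- `N ≤ S j`
    have hqN : q ∣ Nat.card N := by
      obtain ⟨e, he0, he⟩ := (hNq.nontrivial_iff_card).1 ((Subgroup.nontrivial_iff_ne_bot N).2 hNne)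
      rw [he]; exact dvd_pow_self q he0.ne'
    obtain ⟨j, hj⟩ := hall q hq.out (hqN.trans (Subgroup.card_subgroup_dvd_card N))
    have hNS : N ≤ (S j : Subgroup G) := by
      subst hj
      exact hNq.le_sylow_of_normal (S j)
    have hSN : ((S j : Subgroup G) : Set G) * (N : Set G) = ((S j : Subgroup G) : Set G) := by
      apply Set.Subset.antisymm
      · rintro _ ⟨a, ha, n, hn, rfl⟩
        exact (S j : Subgroup G).mul_mem ha (hNS hn)
      · intro a ha
        exact ⟨a, ha, 1, N.one_mem, mul_one a⟩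
    rw [← list_prod_mul_normal N t (fun i => ((S i : Subgroup G) : Set G)) j hSN]
    exact ⟨x, hx, x⁻¹ * g, hn, by group⟩
  · rw [not_nontrivial_iff_subsingleton] at hnt
    have hg : g = 1 := Subsingleton.elim _ _
    rw [hg, Set.mem_prod_list_ofFn]
    refine ⟨fun i => ⟨1, (S i : Subgroup G).one_mem⟩, ?_⟩
    simp

theorem exists_ofFn_prod_sylow {G : Type u} [Group G] [Finite G] [Group.IsSolvable G] (t : ℕ)
    (p : Fin t → ℕ) (hp : ∀ i, (p i).Prime)
    (hall : ∀ q : ℕ, q.Prime → q ∣ Nat.card G → ∃ i, p i = q) (S : (i : Fin t) → Sylow (p i) G) :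
    ∀ g : G, ∃ s : (i : Fin t) → G, (∀ i, s i ∈ (S i : Subgroup G)) ∧ g = (List.ofFn s).prod := by
  intro g
  have h := prod_sylow_eq_univ _ G rfl t p hp hall S g
  rw [Set.mem_prod_list_ofFn] at h
  obtain ⟨f, hf⟩ := h
  exact ⟨fun i => (f i : G), fun i => (f i).2, hf.symm⟩

end Cfsg.Agent.Helper1
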