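import Mathlib
import Cfsg.Agent.Helper2.SymTF
import Cfsg.Agent.Helper1.SLOJ
import Cfsg.Agent.Helper1.SLOM

set_option autoImplicit false
set_option linter.unusedSectionVars false
set_option linter.unusedVariables false

/-!
Row S6000, piece E2 (for helper2): elements of `SL_4(F)` with scalar square are `SL`-conjugate into
any subgroup containing the scalars, `B2g = diag(1,1,-1,-1)` and `S0g = diag(-1,1,1,1)` (helper1).
-/

namespace Cfsg.Agent.Helper1.SymE

open Matrix Polynomial Cfsg Cfsg.Geo Cfsg.Agent.Helper2.SymT Cfsg.Agent.Helper1.SLO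

variable {F : Type*} [Field F] [Fintype F] [DecidableEq F]

/-- semisimple elements of `GL_n` with the same characteristic polynomial are conjugate by an
element of determinant one. -/
theorem conj_into {n : ℕ} (hn : 1 ≤ n) (x y : GL (Fin n) F) (h h' : F[X])
    (hsq : Squarefree h) (hsq' : Squarefree h')
    (hxh : aeval (x : Matrix (Fin n) (Fin n) F) h = 0)
    (hyh : aeval (y : Matrix (Fin n) (Fin n) F) h' = 0)
    (hchar : (x : Matrix (Fin n) (Fin n) F).charpoly = (y : Matrix (Fin n) (Fin n) F).charpoly) :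
    ∃ g ∈ specialLinear (Fin n) F, g⁻¹ * x * g = y := by
  obtain ⟨P, hP⟩ := Cfsg.Agent.Helper8.SemiS.exists_conj_of_charpoly_eq
    (x : Matrix (Fin n) (Fin n) F) (y : Matrix (Fin n) (Fin n) F) h h' hsq hsq' hxh hyh hchar
  have hPdet : (P : Matrix (Fin n) (Fin n) F).det ≠ 0 :=
    ((Matrix.isUnit_iff_isUnit_det (P : Matrix (Fin n) (Fin n) F)).mp ⟨P, rfl⟩).ne_zero
  obtain ⟨t, ht1, ht2⟩ := Cfsg.Agent.Helper8.SemiS.exists_centralizer_det hn
    (x : Matrix (Fin n) (Fin n) F) h hsq hxh (P : Matrix (Fin n) (Fin n) F).det hPdet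
  have htx : t * x = x * t := by
    apply Units.ext
    rw [Units.val_mul, Units.val_mul]
    exact ht1
  refine ⟨t * P⁻¹, ?_, ?_⟩
  · rw [mem_specialLinear_iff, Units.val_mul, Matrix.det_mul, ht2]
    have h1 : (P : Matrix (Fin n) (Fin n) F).det *
        ((P⁻¹ : GL (Fin n) F) : Matrix (Fin n) (Fin n) F).det = 1 := by
      rw [← Matrix.det_mul, ← Units.val_mul, mul_inv_cancel, Units.val_one, Matrix.det_one]
    exact h1
  · have e : (t * P⁻¹)⁻¹ * x * (t * P⁻¹) = P * x * P⁻¹ := by
      have : (t * P⁻¹)⁻¹ * x * (t * P⁻¹) = P * (t⁻¹ * (x * t)) * P⁻¹ := by group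
      rw [this, ← htx]
      group
    rw [e]
    apply Units.ext
    rw [Units.val_mul, Units.val_mul]
    exact hP

/-- a matrix with square `μ² • 1` is killed by `(X - μ)(X + μ)`. -/
theorem aeval_pair {n : ℕ} (A : Matrix (Fin n) (Fin n) F) (μ : F) (hne : μ ≠ -μ)
    (hA : A * A = (μ * μ) • (1 : Matrix (Fin n) (Fin n) F)) :
    aeval A (∏ ν ∈ ({μ, -μ} : Finset F), (X - C ν)) = 0 := by
  rw [Finset.prod_pair hne, map_mul, map_sub, map_sub, aeval_X, aeval_C, aeval_C, map_neg,
    sub_neg_eq_add,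
    ← (Algebra.commute_algebraMap_right μ A).mul_self_sub_mul_self_eq', hA, ← map_mul,
    Algebra.algebraMap_eq_smul_one, sub_self]

theorem squarefree_pair (μ : F) (hne : μ ≠ -μ) :
    Squarefree (∏ ν ∈ ({μ, -μ} : Finset F), (X - C ν) : F[X]) := by
  apply Polynomial.Separable.squarefree
  rw [Polynomial.separable_prod_X_sub_C_iff']
  intro a _ b _ hab
  exact hab

/-- the characteristic polynomial by the number of eigenvalues `μ`. -/
theorem prod_of_pair {n : ℕ} (μ : F) (ν : Fin n → F) (hν : ∀ i, ν i ∈ ({μ, -μ} : Finset F)) :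
    ∏ i, (X - C (ν i)) = (X - C μ) ^ (Finset.univ.filter (fun i => ν i = μ)).card
      * (X + C μ) ^ (n - (Finset.univ.filter (fun i => ν i = μ)).card) := by
  classical
  rw [← Finset.prod_filter_mul_prod_filter_not Finset.univ (fun i => ν i = μ)]
  congr 1
  · rw [Finset.prod_congr rfl (fun i hi => by rw [(Finset.mem_filter.mp hi).2]), Finset.prod_const]
  · have hc := Finset.card_filter_add_card_filter_not (s := (Finset.univ : Finset (Fin n)))
      (fun i => ν i = μ)
    rw [Finset.card_univ, Fintype.card_fin] at hc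
    have : n - (Finset.univ.filter (fun i => ν i = μ)).card
        = (Finset.univ.filter (fun i => ¬ ν i = μ)).card := by omega
    rw [this, Finset.prod_congr rfl (fun i hi => ?_), Finset.prod_const]
    have h1 := (Finset.mem_filter.mp hi).2
    have h2 := hν i
    rw [Finset.mem_insert, Finset.mem_singleton] at h2
    rcases h2 with h2 | h2
    · exact absurd h2 h1
    · rw [h2, map_neg, sub_neg_eq_add]

omit [DecidableEq F] in
/-- **Piece E2 of S6000.** -/
theorem elus_two (h2 : (2 : F) ≠ 0) (i : F) (hi : i ^ 2 = -1)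
    (N : Subgroup (GL (Fin 4) F)) (hsc : ∀ c : Fˣ, scg c ∈ N)
    (hB2 : (B2g : GL (Fin 4) F) ∈ N) (hS0 : (S0g : GL (Fin 4) F) ∈ N)
    (x : GL (Fin 4) F) (hx : x ∈ Cfsg.Geo.specialLinear (Fin 4) F)
    (hx2 : ∃ z : F, ((x ^ 2 : GL (Fin 4) F) : Matrix (Fin 4) (Fin 4) F) = z • (1 : Matrix (Fin 4) (Fin 4) F))
    (hns : ∀ z : F, (x : Matrix (Fin 4) (Fin 4) F) ≠ z • (1 : Matrix (Fin 4) (Fin 4) F)) :
    ∃ g ∈ Cfsg.Geo.specialLinear (Fin 4) F, g⁻¹ * x * g ∈ N := by
  classical
  obtain ⟨z, hz⟩ := hx2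
  have hxx : (x : Matrix (Fin 4) (Fin 4) F) * (x : Matrix (Fin 4) (Fin 4) F)
      = z • (1 : Matrix (Fin 4) (Fin 4) F) := by
    rw [← hz, pow_two, Units.val_mul]
  have hz0 : z ≠ 0 := by
    rintro rfl
    rw [zero_smul] at hz
    exact (x ^ 2).isUnit.ne_zero hz
  by_cases hsqz : ∃ μ, μ ^ 2 = z
  · obtain ⟨μ, hμ⟩ := hsqz
    have hμ0 : μ ≠ 0 := by
      rintro rfl
      apply hz0
      rw [← hμ]
      ring
    have hne : μ ≠ -μ := by
      intro h
      have : 2 * μ = 0 := by linear_combination h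
      rcases mul_eq_zero.mp this with h' | h'
      · exact h2 h'
      · exact hμ0 h'
    have hxx' : (x : Matrix (Fin 4) (Fin 4) F) * (x : Matrix (Fin 4) (Fin 4) F)
        = (μ * μ) • (1 : Matrix (Fin 4) (Fin 4) F) := by rw [hxx, ← hμ, pow_two]
    have hkx := aeval_pair (x : Matrix (Fin 4) (Fin 4) F) μ hne hxx'
    obtain ⟨ν, hν, hchar⟩ := exists_diag_charpoly (x : Matrix (Fin 4) (Fin 4) F) {μ, -μ} hkx
    rw [prod_of_pair μ ν hν] at hchar
    have ha4 : (Finset.univ.filter (fun i => ν i = μ)).card ≤ 4 := by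
      have := Finset.card_filter_le (Finset.univ : Finset (Fin 4)) (fun i => ν i = μ)
      simpa using this
    generalize (Finset.univ.filter (fun i => ν i = μ)).card = a at hchar ha4
    have key : ∀ (y : GL (Fin 4) F) (d : Fin 4 → F), y ∈ N →
        (y : Matrix (Fin 4) (Fin 4) F) = diagonal d → (∀ j, d j * d j = μ * μ) →
        ∏ j, (X - C (d j)) = (X - C μ) ^ a * (X + C μ) ^ (4 - a) →
        ∃ g ∈ specialLinear (Fin 4) F, g⁻¹ * x * g ∈ N := by
      intro y d hyN hyd hdd hprod
      have hyy : (y : Matrix (Fin 4) (Fin 4) F) * (y : Matrix (Fin 4) (Fin 4) F)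
          = (μ * μ) • (1 : Matrix (Fin 4) (Fin 4) F) := by
        rw [hyd, Matrix.diagonal_mul_diagonal, Matrix.smul_one_eq_diagonal]
        congr 1
        funext j
        exact hdd j
      obtain ⟨g, hg, hgx⟩ := conj_into (by norm_num) x y _ _ (squarefree_pair μ hne)
        (squarefree_pair μ hne) hkx (aeval_pair (y : Matrix (Fin 4) (Fin 4) F) μ hne hyy)
        (by rw [hchar, hyd, Matrix.charpoly_diagonal, hprod])
      exact ⟨g, hg, hgx ▸ hyN⟩
    interval_cases a
    · refine key (scg (Units.mk0 (-μ) (neg_ne_zero.mpr hμ0))) (fun _ => -μ) (hsc _) ?_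
        (fun _ => by ring) ?_
      · rw [scg_val, Units.val_mk0, Matrix.smul_one_eq_diagonal]
      · simp [map_neg]
    · refine key (scg (Units.mk0 (-μ) (neg_ne_zero.mpr hμ0)) * S0g) ![μ, -μ, -μ, -μ]
        (N.mul_mem (hsc _) hS0) ?_ ?_ ?_
      · rw [Units.val_mul, scg_val, S0g_val, Units.val_mk0, Matrix.smul_mul, Matrix.one_mul]
        ext j k
        fin_cases j <;> fin_cases k <;> simp [S0m]
      · intro j
        fin_cases j <;> simp
      · simp [Fin.prod_univ_four, map_neg]
        ring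
    · refine key (scg (Units.mk0 μ hμ0) * B2g) ![μ, μ, -μ, -μ]
        (N.mul_mem (hsc _) hB2) ?_ ?_ ?_
      · rw [Units.val_mul, scg_val, B2g_val, Units.val_mk0, Matrix.smul_mul, Matrix.one_mul]
        ext j k
        fin_cases j <;> fin_cases k <;> simp [B2m]
      · intro j
        fin_cases j <;> simp
      · simp [Fin.prod_univ_four, map_neg]
        ring
    · refine key (scg (Units.mk0 μ hμ0) * S0g) ![-μ, μ, μ, μ]
        (N.mul_mem (hsc _) hS0) ?_ ?_ ?_
      · rw [Units.val_mul, scg_val, S0g_val, Units.val_mk0, Matrix.smul_mul, Matrix.one_mul]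
        ext j k
        fin_cases j <;> fin_cases k <;> simp [S0m]
      · intro j
        fin_cases j <;> simp
      · simp [Fin.prod_univ_four, map_neg]
        ring
    · refine key (scg (Units.mk0 μ hμ0)) (fun _ => μ) (hsc _) ?_ (fun _ => rfl) ?_
      · rw [scg_val, Units.val_mk0, Matrix.smul_one_eq_diagonal]
      · simp
  · exfalso
    push Not at hsqz
    obtain ⟨a, ha, hchar⟩ := charpoly_of_sq_nonsquare (x : Matrix (Fin 4) (Fin 4) F) z
      (by rw [pow_two]; exact hxx) h2 hz0 hsqz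
    have ha2 : a = 2 := by omega
    subst ha2
    have hdet : (x : Matrix (Fin 4) (Fin 4) F).det = z ^ 2 := by
      rw [Matrix.det_eq_sign_charpoly_coeff, hchar, Polynomial.coeff_zero_eq_eval_zero]
      simp
      norm_num
    have hdet1 : (x : Matrix (Fin 4) (Fin 4) F).det = 1 := (mem_specialLinear_iff x).mp hx
    rw [hdet1] at hdet
    have : (z - 1) * (z + 1) = 0 := by linear_combination -hdet
    rcases mul_eq_zero.mp this with h | h
    · exact hsqz 1 (by rw [one_pow]; exact (sub_eq_zero.mp h).symm)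
    · exact hsqz i (by rw [hi]; linear_combination -h)

end Cfsg.Agent.Helper1.SymE
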