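import Mathlib
import Cfsg.Agent.Helper1.SymE2
import Cfsg.Agent.Helper8.SemiSExpo

set_option autoImplicit false
set_option linter.unusedSectionVars false
set_option linter.unusedVariables false

/-!
Row S6000, piece E3 (for helper2): elements of `SL_4(F)` with scalar cube, when `X² + X + 1` has no
root and every element is a cube, are `SL`-conjugate into any subgroup containing the scalars,
`P3g` and an element killed by `X² + X + 1` (helper1).
-/

namespace Cfsg.Agent.Helper1.SymE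

open Matrix Polynomial Cfsg Cfsg.Geo Cfsg.Agent.Helper2.SymT Cfsg.Agent.Helper1.SLO

variable {F : Type*} [Field F]

/-- the quadratic factor of `X³ - μ³`. -/
noncomputable def psi (μ : F) : F[X] := C 1 * X ^ 2 + C μ * X + C (μ ^ 2)

theorem psi_monic (μ : F) : (psi μ).Monic := leadingCoeff_quadratic one_ne_zero

theorem psi_natDegree (μ : F) : (psi μ).natDegree = 2 := natDegree_quadratic one_ne_zero

theorem psi_irreducible (hirr : ∀ w : F, w ^ 2 + w + 1 ≠ 0) (μ : F) (hμ0 : μ ≠ 0) :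
    Irreducible (psi μ) := by
  rw [(psi_monic μ).irreducible_iff_roots_eq_zero_of_degree_le_three (by rw [psi_natDegree])
    (by rw [psi_natDegree]; norm_num), Multiset.eq_zero_iff_forall_notMem]
  intro w hw
  rw [mem_roots (psi_monic μ).ne_zero, IsRoot, psi] at hw
  simp only [eval_add, eval_mul, eval_C, eval_pow, eval_X, one_mul] at hw
  apply hirr (w / μ)
  field_simp
  linear_combination hw

theorem factor_cube (μ : F) : (X ^ 3 - C (μ ^ 3) : F[X]) = (X - C μ) * psi μ := by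
  rw [psi]
  simp only [map_pow, map_one]
  ring

theorem squarefree_cube (h3 : (3 : F) ≠ 0) (z : F) (hz0 : z ≠ 0) :
    Squarefree (X ^ 3 - C z : F[X]) :=
  (separable_X_pow_sub_C z (by exact_mod_cast h3) hz0).squarefree

theorem aeval_cube {n : ℕ} (A : Matrix (Fin n) (Fin n) F) (z : F)
    (hA : A ^ 3 = z • (1 : Matrix (Fin n) (Fin n) F)) : aeval A (X ^ 3 - C z : F[X]) = 0 := by
  rw [map_sub, map_pow, aeval_X, aeval_C, hA, Algebra.algebraMap_eq_smul_one, sub_self]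

/-- the characteristic polynomial of a matrix with cube `μ³`. -/
theorem charpoly_of_cube (h3 : (3 : F) ≠ 0) (hirr : ∀ w : F, w ^ 2 + w + 1 ≠ 0) {n : ℕ}
    (A : Matrix (Fin n) (Fin n) F) (μ : F) (hμ0 : μ ≠ 0)
    (hA : A ^ 3 = (μ ^ 3) • (1 : Matrix (Fin n) (Fin n) F)) :
    ∃ a b : ℕ, A.charpoly = (X - C μ) ^ a * psi μ ^ b ∧ a + 2 * b = n := by
  have hQh : ∀ P : F[X], P.Monic → Irreducible P → P ∣ (X ^ 3 - C (μ ^ 3) : F[X]) →
      ∃ j, P = ![X - C μ, psi μ] j := by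
    intro P hPm hPi hdvd
    rw [factor_cube] at hdvd
    rcases (hPi.prime.dvd_mul).mp hdvd with h | h
    · exact ⟨0, eq_of_monic_of_associated hPm (monic_X_sub_C μ)
        (hPi.associated_of_dvd (irreducible_X_sub_C μ) h)⟩
    · exact ⟨1, eq_of_monic_of_associated hPm (psi_monic μ)
        (hPi.associated_of_dvd (psi_irreducible hirr μ hμ0) h)⟩
  have hQ : ∀ j, (![X - C μ, psi μ] j).Monic := by
    intro j
    fin_cases j
    · exact monic_X_sub_C μ
    · exact psi_monic μ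
  obtain ⟨e, he1, he2⟩ := Cfsg.Agent.Helper8.SemiS.expo_of_killed ![X - C μ, psi μ]
    (X ^ 3 - C (μ ^ 3)) (squarefree_cube h3 _ (pow_ne_zero 3 hμ0)) hQh hQ A (aeval_cube A _ hA)
  refine ⟨e 0, e 1, ?_, ?_⟩
  · simpa [Fin.prod_univ_two] using he1
  · simp [Fin.sum_univ_two, psi_natDegree] at he2
    omega

/-- the characteristic polynomial of a matrix killed by `psi μ`. -/
theorem charpoly_of_psi (hirr : ∀ w : F, w ^ 2 + w + 1 ≠ 0) {n : ℕ}
    (A : Matrix (Fin n) (Fin n) F) (μ : F) (hμ0 : μ ≠ 0) (hA : aeval A (psi μ) = 0) :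
    ∃ b : ℕ, A.charpoly = psi μ ^ b ∧ 2 * b = n := by
  have hirr' := psi_irreducible hirr μ hμ0
  obtain ⟨e, he1, he2⟩ := Cfsg.Agent.Helper8.SemiS.expo_of_killed (fun _ : Unit => psi μ)
    (psi μ) hirr'.squarefree
    (fun P hP hPi hdvd => ⟨(), eq_of_monic_of_associated hP (psi_monic μ)
      (hPi.associated_of_dvd hirr' hdvd)⟩) (fun _ => psi_monic μ) A hA
  refine ⟨e PUnit.unit, ?_, ?_⟩
  · simpa using he1
  · simp [psi_natDegree] at he2
    omega

theorem aeval_psi {n : ℕ} (M : Matrix (Fin n) (Fin n) F) (μ : F) :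
    aeval M (psi μ) = M * M + μ • M + (μ * μ) • (1 : Matrix (Fin n) (Fin n) F) := by
  rw [psi]
  simp only [map_add, map_mul, aeval_X, aeval_C, Algebra.algebraMap_eq_smul_one, one_smul,
    Matrix.one_mul, smul_mul_assoc, pow_two, smul_smul]

theorem charpoly_P3 (μ : F) :
    (μ • (P3m : Matrix (Fin 4) (Fin 4) F)).charpoly = (X - C μ) ^ 2 * psi μ ^ 1 := by
  rw [Matrix.charpoly, Matrix.det_succ_row_zero, psi]
  simp [Fin.sum_univ_succ, Matrix.det_fin_three, charmatrix_apply, P3m, Fin.succAbove,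
    Matrix.submatrix]
  ring

theorem P3m_cube : (P3m : Matrix (Fin 4) (Fin 4) F) ^ 3 = 1 := by
  rw [pow_succ, pow_two]
  ext i j
  fin_cases i <;> fin_cases j <;> simp [P3m, Matrix.mul_apply, Fin.sum_univ_four]

/-- **Piece E3 of S6000.** -/
theorem elus_three [Fintype F] (h3 : (3 : F) ≠ 0)
    (hirr : ∀ w : F, w ^ 2 + w + 1 ≠ 0) (hcube : ∀ z : F, ∃ μ : F, μ ^ 3 = z)
    (N : Subgroup (GL (Fin 4) F)) (hsc : ∀ c : Fˣ, scg c ∈ N)
    (t₁ : GL (Fin 4) F) (ht₁N : t₁ ∈ N)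
    (ht₁ : (t₁ : Matrix (Fin 4) (Fin 4) F) * (t₁ : Matrix (Fin 4) (Fin 4) F) + (t₁ : Matrix (Fin 4) (Fin 4) F) + 1 = 0)
    (hP3 : (P3g : GL (Fin 4) F) ∈ N)
    (x : GL (Fin 4) F) (hx : x ∈ Cfsg.Geo.specialLinear (Fin 4) F)
    (hx3 : ∃ z : F, ((x ^ 3 : GL (Fin 4) F) : Matrix (Fin 4) (Fin 4) F) = z • (1 : Matrix (Fin 4) (Fin 4) F))
    (hns : ∀ z : F, (x : Matrix (Fin 4) (Fin 4) F) ≠ z • (1 : Matrix (Fin 4) (Fin 4) F)) :
    ∃ g ∈ Cfsg.Geo.specialLinear (Fin 4) F, g⁻¹ * x * g ∈ N := by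
  classical
  obtain ⟨z, hz⟩ := hx3
  have hz0 : z ≠ 0 := by
    rintro rfl
    rw [zero_smul] at hz
    exact (x ^ 3).isUnit.ne_zero hz
  obtain ⟨μ, hμ⟩ := hcube z
  have hμ0 : μ ≠ 0 := by
    rintro rfl
    apply hz0
    rw [← hμ]
    ring
  subst hμ
  have hx3' : (x : Matrix (Fin 4) (Fin 4) F) ^ 3 = (μ ^ 3) • (1 : Matrix (Fin 4) (Fin 4) F) := by
    rw [← Units.val_pow_eq_pow_val]
    exact hz
  obtain ⟨a, b, hchar, hab⟩ := charpoly_of_cube h3 hirr (x : Matrix (Fin 4) (Fin 4) F) μ hμ0 hx3'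
  have hsq := squarefree_cube h3 (μ ^ 3) (pow_ne_zero 3 hμ0)
  have key : ∀ y : GL (Fin 4) F, y ∈ N →
      (y : Matrix (Fin 4) (Fin 4) F) ^ 3 = (μ ^ 3) • (1 : Matrix (Fin 4) (Fin 4) F) →
      (y : Matrix (Fin 4) (Fin 4) F).charpoly = (X - C μ) ^ a * psi μ ^ b →
      ∃ g ∈ specialLinear (Fin 4) F, g⁻¹ * x * g ∈ N := by
    intro y hyN hy3 hyc
    obtain ⟨g, hg, hgx⟩ := conj_into (by norm_num) x y _ _ hsq hsq (aeval_cube _ _ hx3')
      (aeval_cube _ _ hy3) (hchar.trans hyc.symm)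
    exact ⟨g, hg, hgx ▸ hyN⟩
  have hb : b = 0 ∨ b = 1 ∨ b = 2 := by omega
  rcases hb with rfl | rfl | rfl
  · have ha : a = 4 := by omega
    subst ha
    refine key (scg (Units.mk0 μ hμ0)) (hsc _) ?_ ?_
    · rw [scg_val, Units.val_mk0, _root_.smul_pow, one_pow]
    · rw [scg_val, Units.val_mk0, Matrix.smul_one_eq_diagonal, Matrix.charpoly_diagonal]
      simp
  · have ha : a = 2 := by omega
    subst ha
    refine key (scg (Units.mk0 μ hμ0) * P3g) (N.mul_mem (hsc _) hP3) ?_ ?_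
    · rw [Units.val_mul, scg_val, P3g_val, Units.val_mk0, Matrix.smul_mul, Matrix.one_mul, _root_.smul_pow,
        P3m_cube]
    · rw [Units.val_mul, scg_val, P3g_val, Units.val_mk0, Matrix.smul_mul, Matrix.one_mul,
        charpoly_P3]
  · have ha : a = 0 := by omega
    subst ha
    have h1 : (t₁ : Matrix (Fin 4) (Fin 4) F) * (t₁ : Matrix (Fin 4) (Fin 4) F)
        = -(t₁ : Matrix (Fin 4) (Fin 4) F) - 1 := by
      have h := ht₁
      rw [add_assoc, add_eq_zero_iff_eq_neg] at h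
      rw [h]
      abel
    have hT3 : (t₁ : Matrix (Fin 4) (Fin 4) F) ^ 3 = 1 := by
      rw [pow_succ, pow_two, h1, sub_mul, neg_mul, one_mul, h1]
      abel
    refine key (scg (Units.mk0 μ hμ0) * t₁) (N.mul_mem (hsc _) ht₁N) ?_ ?_
    · rw [Units.val_mul, scg_val, Units.val_mk0, Matrix.smul_mul, Matrix.one_mul, _root_.smul_pow, hT3]
    · rw [Units.val_mul, scg_val, Units.val_mk0, Matrix.smul_mul, Matrix.one_mul]
      have hk : aeval (μ • (t₁ : Matrix (Fin 4) (Fin 4) F)) (psi μ) = 0 := by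
        rw [aeval_psi, smul_mul_smul_comm, smul_smul, ← smul_add, ← smul_add, ht₁, smul_zero]
      obtain ⟨b', hb'1, hb'2⟩ := charpoly_of_psi hirr _ μ hμ0 hk
      have : b' = 2 := by omega
      rw [hb'1, this]
      simp

end Cfsg.Agent.Helper1.SymE
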