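import Mathlib
import Cfsg.Prelude
import Cfsg.Agent.Helper2.T36h
import Cfsg.Agent.Helper1.BGVd
import Cfsg.Agent.Helper1.SylowInt
import Cfsg.Agent.Helper3.CoprimeHall
import Cfsg.Agent.Helper1.Coprime
import Cfsg.Agent.Helper1.AbelianAct
import Cfsg.Agent.Helper1.PQLemma

set_option autoImplicit false

/-!
# BG Theorem 3.6: the reduction to the minimal configuration, general lemmas
-/

namespace Cfsg.Agent.Helper1.T36Red

open Cfsg Cfsg.Agent.Helper1 Cfsg.Agent.Helper2 Cfsg.Agent.Helper3 Cfsg.Agent.Helper1.BGT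
  Cfsg.Agent.Helper1.BGV Cfsg.Agent.Helper2.T36

open scoped Pointwise commutatorElement

universe u

variable {G : Type u} [Group G] [Finite G]

/-- a subgroup of `p`-length one containing no nontrivial normal `p'`-subgroup (because a
`p`-subgroup `W` normalizing it contains its centralizer) has a unique Sylow `p`-subgroup. -/
theorem exists_sylow_of_pLengthLE_one {p : ℕ} [hp : Fact p.Prime]
    (K W : Subgroup G) (hpl : Cfsg.PLengthLE p 1 ↥K) (hWp : IsPGroup p W)
    (hWK : W ≤ Subgroup.normalizer (K : Set G)) (hKW : K ≤ Subgroup.normalizer (W : Set G))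
    (hC : K ⊓ Subgroup.centralizer (W : Set G) ≤ W) :
    ∃ O : Subgroup G, O ≤ K ∧ IsPGroup p O ∧
      Subgroup.normalizer (K : Set G) ≤ Subgroup.normalizer (O : Set G) ∧
      ∀ A : Subgroup G, A ≤ K → IsPGroup p A → A ≤ O := by
  obtain ⟨N, hN⟩ : ∃ N : Subgroup G, N = coreOf p K := ⟨_, rfl⟩
  have hNK : N ≤ K := hN ▸ coreOf_le p K
  have hNc : (Nat.card N).Coprime p := hN ▸ card_coreOf_coprime p K
  have hWN : W ≤ Subgroup.normalizer (N : Set G) :=
    hWK.trans (hN ▸ normalizer_le_normalizer_coreOf p K)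
  have hd : N ⊓ W = ⊥ := by
    apply inf_eq_bot_of_coprime_card
    obtain ⟨k, hk⟩ := IsPGroup.iff_card.mp hWp
    rw [hk]
    exact Nat.Coprime.pow_right k hNc
  have hNW : N ≤ W := by
    intro x hx
    apply hC
    refine Subgroup.mem_inf.2 ⟨hNK hx, ?_⟩
    rw [Subgroup.mem_centralizer_iff]
    intro w hw
    exact (commute_of_normalize_of_disjoint (hNK.trans hKW) hWN hd hx hw).symm
  have hN1 : N = ⊥ := by
    rw [eq_bot_iff, ← hd]
    exact le_inf le_rfl hNW
  have hO : Cfsg.pPrimeCore p ↥K = ⊥ := by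
    rw [hN] at hN1
    exact (Subgroup.map_eq_bot_iff_of_injective _ (Subgroup.subtype_injective K)).mp hN1
  refine ⟨pcoreOf p K, pCoreOf_le p K, pCoreOf_isPGroup p K,
    normalizer_le_normalizer_pcoreOf p K, ?_⟩
  intro A hAK hA a ha
  have h1 : A.subgroupOf K ≤ Cfsg.pCore p ↥K :=
    le_pCore_of_pLengthLE_one hO hpl hA.comap_subtype
  exact ⟨⟨a, hAK ha⟩, h1 (Subgroup.mem_subgroupOf.2 ha), rfl⟩

/-- the Hall `p'`-argument: if `R` acts trivially on `S / W` for an `R`-invariant Sylow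
`p`-subgroup `S` of `H = [H, R]`, then `S = W`. -/
theorem sylow_le_of_commutator_le {p : ℕ} [hp : Fact p.Prime] (H R S W : Subgroup G)
    (hRH : R ≤ Subgroup.normalizer (H : Set G)) (hcop : (Nat.card R).Coprime (Nat.card H))
    (hsol : Group.IsSolvable ↥H) (hHR : ⁅H, R⁆ = H)
    (hSH : S ≤ H) (hS : IsPGroup p S) (hSyl : ¬ p ∣ S.relIndex H)
    (hWS : W ≤ S) (hHW : H ≤ Subgroup.normalizer (W : Set G))
    (h : ⁅S, R⁆ ≤ W) : S ≤ W := by
  obtain ⟨T, ⟨hTH, hTπ, hTi⟩, hRT⟩ :=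
    Cfsg.Agent.Helper3.exists_invariant_hall R H hRH hcop hsol {ℓ | ℓ ≠ p}
  have hTc : (Nat.card T).Coprime p := by
    rw [Nat.coprime_comm, Nat.Prime.coprime_iff_not_dvd hp.out]
    intro hd
    exact hTπ p hp.out hd rfl
  obtain ⟨j, hj⟩ : ∃ j, T.relIndex H = p ^ j := by
    refine ⟨_, Nat.eq_prime_pow_of_unique_prime_dvd ?_ ?_⟩
    · exact Subgroup.index_ne_zero_of_finite
    · intro d hd hdvd
      by_contra hne
      exact hTi d hd hne hdvd
  obtain ⟨k, hk⟩ := IsPGroup.iff_card.mp hS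
  have h1 : T.relIndex H * Nat.card T = Nat.card H := relIndex_mul_card_of_le hTH
  have h2 : S.relIndex H * Nat.card S = Nat.card H := relIndex_mul_card_of_le hSH
  have hSc : (S.relIndex H).Coprime p := by
    rw [Nat.coprime_comm, Nat.Prime.coprime_iff_not_dvd hp.out]
    exact hSyl
  have h3 : T.relIndex H ∣ Nat.card S := by
    refine Nat.Coprime.dvd_of_dvd_mul_left (m := S.relIndex H) ?_ ?_
    · rw [hj]; exact Nat.Coprime.pow_left j hSc.symm
    · rw [h2, ← h1]; exact dvd_mul_right _ _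
  have h4 : Nat.card S ∣ T.relIndex H := by
    refine Nat.Coprime.dvd_of_dvd_mul_right (n := Nat.card T) ?_ ?_
    · rw [hk]; exact Nat.Coprime.pow_left k hTc.symm
    · rw [h1, ← h2]; exact dvd_mul_left _ _
  have h5 : T.relIndex H = Nat.card S := Nat.dvd_antisymm h3 h4
  have hcard : Nat.card T * Nat.card S = Nat.card H := by rw [← h1, h5, mul_comm]
  have hTS : (Nat.card T).Coprime (Nat.card S) := by rw [hk]; exact Nat.Coprime.pow_right k hTc
  have hcompl : Subgroup.IsComplement' (T.subgroupOf H) (S.subgroupOf H) := by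
    apply Subgroup.isComplement'_of_coprime
    · rw [card_subgroupOf_of_le hTH, card_subgroupOf_of_le hSH, hcard]
    · rw [card_subgroupOf_of_le hTH, card_subgroupOf_of_le hSH]; exact hTS
  have hWp : IsPGroup p W := hS.to_le hWS
  have hTW : T ≤ Subgroup.normalizer (W : Set G) := hTH.trans hHW
  have hle : H ≤ W ⊔ T := by
    rw [← hHR, Subgroup.commutator_le]
    intro x hx r hr
    obtain ⟨⟨t, s⟩, hts⟩ := hcompl.2 ⟨x, hx⟩
    have ht : (t : ↥H).1 ∈ T := Subgroup.mem_subgroupOf.1 t.2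
    have hs : (s : ↥H).1 ∈ S := Subgroup.mem_subgroupOf.1 s.2
    have hx' : x = (t : ↥H).1 * (s : ↥H).1 := by
      have := congrArg Subtype.val hts
      exact this.symm
    obtain ⟨t0, ht0⟩ : ∃ t0 : G, t0 = (t : ↥H).1 := ⟨_, rfl⟩
    obtain ⟨s0, hs0⟩ : ∃ s0 : G, s0 = (s : ↥H).1 := ⟨_, rfl⟩
    rw [← ht0] at ht hx'
    rw [← hs0] at hs hx'
    have h6 : ⁅x, r⁆ = (t0 * ⁅s0, r⁆ * t0⁻¹) * ⁅t0, r⁆ := by
      rw [hx', commutatorElement_def, commutatorElement_def, commutatorElement_def]; group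
    rw [h6]
    apply Subgroup.mul_mem
    · apply (le_sup_left : W ≤ W ⊔ T)
      exact (Subgroup.mem_normalizer_iff.1 (hTW ht) _).1
        (h (Subgroup.commutator_mem_commutator hs hr))
    · apply (le_sup_right : T ≤ W ⊔ T)
      rw [commutatorElement_def]
      have h7 : r * t0⁻¹ * r⁻¹ ∈ T :=
        (Subgroup.mem_normalizer_iff.1 (hRT hr) _).1 (T.inv_mem ht)
      have h8 : t0 * r * t0⁻¹ * r⁻¹ = t0 * (r * t0⁻¹ * r⁻¹) := by group
      rw [h8]
      exact T.mul_mem ht h7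
  have hd : T ⊓ W = ⊥ := by
    apply inf_eq_bot_of_coprime_card
    obtain ⟨i, hi⟩ := IsPGroup.iff_card.mp hWp
    rw [hi]; exact Nat.Coprime.pow_right i hTc
  have h9 : Nat.card (W ⊔ T : Subgroup G) = Nat.card T * Nat.card W :=
    card_sup_of_le_normalizer hTW hd
  have h10 : Nat.card H ∣ Nat.card T * Nat.card W := by
    rw [← h9]; exact Subgroup.card_dvd_of_le hle
  rw [← hcard] at h10
  have h11 : Nat.card S ∣ Nat.card W := Nat.dvd_of_mul_dvd_mul_left Nat.card_pos h10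
  have h12 : W = S := Subgroup.eq_of_le_of_card_ge hWS (Nat.le_of_dvd Nat.card_pos h11)
  rw [h12]

end Cfsg.Agent.Helper1.T36Red
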