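import Mathlib
import Cfsg.Prelude
import Cfsg.Agent.Helper1.T36RedA
import Cfsg.Agent.Helper1.BGPrimeActB

set_option autoImplicit false

/-!
# BG Theorem 3.6: the reduction, choice of the prime `q` and of the `q`-subgroup `Q*`
-/

namespace Cfsg.Agent.Helper1.T36Red

open Cfsg Cfsg.Agent.Helper1 Cfsg.Agent.Helper2 Cfsg.Agent.Helper3 Cfsg.Agent.Helper1.BGT
  Cfsg.Agent.Helper1.BGV Cfsg.Agent.Helper2.T36

open scoped Pointwise commutatorElement

universe u

variable {G : Type u} [Group G] [Finite G]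

/-- a nontrivial `p`-subgroup of a solvable group `K` with `O_p(K) = 1` does not centralize some
`O_q(K)`, `q ≠ p`. -/
theorem exists_prime_not_le_centralizer_pcoreOf {p : ℕ} [hp : Fact p.Prime]
    (K X : Subgroup G) (hsol : Group.IsSolvable ↥K) (hK : pcoreOf p K = ⊥) (hXK : X ≤ K)
    (hX : IsPGroup p X) (hX1 : X ≠ ⊥) :
    ∃ q : ℕ, q.Prime ∧ q ≠ p ∧
      ¬ X ≤ Subgroup.centralizer ((pcoreOf q K : Subgroup G) : Set G) := by
  by_contra hcon
  push Not at hcon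
  have h1 : X ≤ Cfsg.fittingOf K := by
    intro x hx
    apply inf_centralizer_fittingOf_le K hsol
    refine Subgroup.mem_inf.2 ⟨hXK hx, mem_centralizer_fittingOf ?_⟩
    intro r hr y hy
    by_cases hrp : r = p
    · rw [hrp, hK, Subgroup.mem_bot] at hy
      rw [hy, mul_one, one_mul]
    · exact (Subgroup.mem_centralizer_iff.1 (hcon r hr hrp hx) y hy).symm
  have h2 := le_pCoreOf_of_le_fittingOf hX h1
  rw [hK, le_bot_iff] at h2
  exact hX1 h2

/-- a Sylow `q`-subgroup of the preimage of a `q`-group maps onto it. -/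
theorem sylow_comap_map_eq {G' : Type*} [Group G'] (f : G →* G') (hf : Function.Surjective f)
    {q : ℕ} [hq : Fact q.Prime] (Mb : Subgroup G') (hMb : IsPGroup q Mb)
    (Q0 : Sylow q ↥(Mb.comap f)) :
    ((Q0 : Subgroup ↥(Mb.comap f)).map (Mb.comap f).subtype).map f = Mb := by
  have hf' : Function.Surjective (f.subgroupComap Mb) :=
    MonoidHom.subgroupComap_surjective_of_surjective f Mb hf
  have h1 : (⊤ : Subgroup ↥Mb) = ((Q0.mapSurjective hf' : Sylow q ↥Mb) : Subgroup ↥Mb) :=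
    (Q0.mapSurjective hf').is_maximal' (hMb.to_subgroup ⊤) le_top
  rw [Sylow.coe_mapSurjective] at h1
  ext y
  constructor
  · rintro ⟨x, ⟨x0, hx0, rfl⟩, rfl⟩
    exact x0.2
  · intro hy
    have h2 : (⟨y, hy⟩ : ↥Mb) ∈ (Q0 : Subgroup ↥(Mb.comap f)).map (f.subgroupComap Mb) := by
      rw [← h1]; exact Subgroup.mem_top _
    obtain ⟨x0, hx0, hx0y⟩ := h2
    refine ⟨x0.1, ⟨x0, hx0, rfl⟩, ?_⟩
    exact congrArg Subtype.val hx0y

/-- the choice of the prime `q` and of an `R`-invariant `q`-subgroup `Q*` with `G = W N_G(Q*)`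
on which `P₂` acts nontrivially modulo `W`. -/
theorem exists_q_sylow {p : ℕ} [hp : Fact p.Prime] (H R W P2 : Subgroup G)
    [hHn : H.Normal] [hWn : W.Normal] (hsolH : Group.IsSolvable ↥H)
    (hcop : (Nat.card R).Coprime (Nat.card H)) (hWH : W ≤ H) (hWp : IsPGroup p W)
    (hmax : ∀ X : Subgroup G, X ≤ H → H ≤ Subgroup.normalizer (X : Set G) → IsPGroup p X →
      X ≤ W)
    (hP2H : P2 ≤ H) (hP2 : IsPGroup p P2) (hP2W : ¬ P2 ≤ W) :
    ∃ q : ℕ, q.Prime ∧ q ≠ p ∧ ∃ Qs : Subgroup G, Qs ≤ H ∧ IsPGroup q Qs ∧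
      R ≤ Subgroup.normalizer (Qs : Set G) ∧ W ⊔ Subgroup.normalizer (Qs : Set G) = ⊤ ∧
      ∀ P : Subgroup G, P2 ≤ W ⊔ P → ¬ P ≤ Subgroup.centralizer (Qs : Set G) := by
  obtain ⟨π, hπ⟩ : ∃ π : G →* G ⧸ W, π = QuotientGroup.mk' W := ⟨_, rfl⟩
  have hπs : Function.Surjective π := hπ ▸ QuotientGroup.mk'_surjective W
  have hker : π.ker = W := hπ ▸ QuotientGroup.ker_mk' W
  obtain ⟨Hb, hHb⟩ : ∃ Hb : Subgroup (G ⧸ W), Hb = H.map π := ⟨_, rfl⟩
  haveI hHbn : Hb.Normal := hHb ▸ hHn.map π hπs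
  have hHbsol : Group.IsSolvable ↥Hb := by
    rw [hHb]
    haveI := hsolH
    exact solvable_of_surjective (π.subgroupMap_surjective H)
  have hcomapHb : Hb.comap π = H := by
    rw [hHb, Subgroup.comap_map_eq, hker, sup_eq_left.2 hWH]
  -- `O_p(H / W) = 1`
  have hOp : pcoreOf p Hb = ⊥ := by
    haveI : (pcoreOf p Hb).Normal := Cfsg.Agent.Helper1.BGPrimeAct.pcoreOf_normal p Hb
    have hYn : ((pcoreOf p Hb).comap π).Normal := inferInstance
    have hYH : (pcoreOf p Hb).comap π ≤ H := by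
      rw [← hcomapHb]; exact Subgroup.comap_mono (pCoreOf_le p Hb)
    have hYp : IsPGroup p ↥((pcoreOf p Hb).comap π) :=
      (pCoreOf_isPGroup p Hb).comap_of_ker_isPGroup π (by rw [hker]; exact hWp)
    have hYW : (pcoreOf p Hb).comap π ≤ W :=
      hmax _ hYH (by rw [Subgroup.normalizer_eq_top]; exact le_top) hYp
    rw [eq_bot_iff, ← Subgroup.map_comap_eq_self_of_surjective hπs (pcoreOf p Hb),
      Subgroup.map_le_iff_le_comap, MonoidHom.comap_bot, hker]
    exact hYW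
  have hP2b1 : P2.map π ≠ ⊥ := by
    intro h
    rw [Subgroup.map_eq_bot_iff, hker] at h
    exact hP2W h
  obtain ⟨q, hq, hqp, hnc⟩ := exists_prime_not_le_centralizer_pcoreOf Hb (P2.map π) hHbsol hOp
    (hHb ▸ Subgroup.map_mono hP2H) (hP2.map π) hP2b1
  haveI hqf : Fact q.Prime := ⟨hq⟩
  refine ⟨q, hq, hqp, ?_⟩
  haveI hMbn : (pcoreOf q Hb).Normal := Cfsg.Agent.Helper1.BGPrimeAct.pcoreOf_normal q Hb
  have hMbq : IsPGroup q ↥(pcoreOf q Hb) := pCoreOf_isPGroup q Hb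
  haveI hMn : ((pcoreOf q Hb).comap π).Normal := inferInstance
  have hMH : (pcoreOf q Hb).comap π ≤ H := by
    rw [← hcomapHb]; exact Subgroup.comap_mono (pCoreOf_le q Hb)
  have hRM : R ≤ Subgroup.normalizer (((pcoreOf q Hb).comap π : Subgroup G) : Set G) := by
    rw [Subgroup.normalizer_eq_top]; exact le_top
  have hcopM : (Nat.card R).Coprime (Nat.card ↥((pcoreOf q Hb).comap π)) :=
    hcop.coprime_dvd_right (Subgroup.card_dvd_of_le hMH)
  obtain ⟨Q0, hRQ0⟩ := exists_invariant_sylow (p := q) R ((pcoreOf q Hb).comap π) hRM hcopM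
    (Or.inr (isSolvable_of_le hMH hsolH))
  obtain ⟨Qs, hQs⟩ : ∃ Qs : Subgroup G, Qs = (Q0 : Subgroup ↥((pcoreOf q Hb).comap π)).map
    ((pcoreOf q Hb).comap π).subtype := ⟨_, rfl⟩
  have hQsmap : Qs.map π = pcoreOf q Hb := hQs ▸ sylow_comap_map_eq π hπs (pcoreOf q Hb) hMbq Q0
  have hQsM : Qs ≤ (pcoreOf q Hb).comap π := hQs ▸ Subgroup.map_subtype_le _
  have hQsq : IsPGroup q Qs := hQs ▸ Q0.2.map _
  have hM : (pcoreOf q Hb).comap π = Qs ⊔ W := by
    rw [← hQsmap, Subgroup.comap_map_eq, hker]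
  have hFr : Subgroup.normalizer (Qs : Set G) ⊔ (pcoreOf q Hb).comap π = ⊤ :=
    hQs ▸ Sylow.normalizer_sup_eq_top Q0
  refine ⟨Qs, hQsM.trans hMH, hQsq, hQs ▸ hRQ0, ?_, ?_⟩
  · rw [hM] at hFr
    rw [eq_top_iff, ← hFr]
    apply sup_le (le_sup_right)
    exact sup_le ((Subgroup.le_normalizer).trans le_sup_right) le_sup_left
  · intro P hP2P hPc
    apply hnc
    have h1 : P2.map π ≤ P.map π := by
      have := Subgroup.map_mono (f := π) hP2P
      rw [Subgroup.map_sup] at this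
      have hW0 : W.map π = ⊥ := by rw [Subgroup.map_eq_bot_iff, hker]
      rwa [hW0, bot_sup_eq] at this
    intro x hx
    obtain ⟨y, hy, rfl⟩ := h1 hx
    rw [Subgroup.mem_centralizer_iff]
    intro z hz
    rw [SetLike.mem_coe, ← hQsmap] at hz
    obtain ⟨w, hw, rfl⟩ := hz
    have := Subgroup.mem_centralizer_iff.1 (hPc hy) w hw
    rw [← map_mul, ← map_mul, this]

end Cfsg.Agent.Helper1.T36Red
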