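import Mathlib
import Cfsg.Prelude.Def_OddOrderLocal
import Cfsg.Agent.Helper1.Basic
import Cfsg.Agent.Helper1.Fitting
import Cfsg.Agent.Helper8.RMcKSZ

set_option autoImplicit false

/-!
# S4118 / S4151, Part I: a non-normal TI subgroup `H`, Hall in its normalizer, in a `π`-separable group

`(a)` `H` is a Hall subgroup of `G`; `(b)` the largest normal subgroup `O` of order prime to `|H|`;
`(c)` `G = O · N_G(H)`; `(d)` `O ⊔ H` is normal; `(e)` `C_O(h) = O ⊓ N_G(H)` for `1 ≠ h ∈ H`.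
-/

namespace Cfsg.Agent.Helper1.TIH

universe u

variable {G : Type u} [Group G]

theorem mem_normalizer_of_TI {H : Subgroup G} (hTI : Cfsg.IsTISubset (H : Set G)) {g x : G}
    (hx : x ∈ H) (hx1 : x ≠ 1) (hgx : g * x * g⁻¹ ∈ H) :
    g ∈ Subgroup.normalizer (H : Set G) := by
  by_contra hg
  exact hx1 (hTI g hg x hx hgx)

theorem normalizer_le_of_TI {H : Subgroup G} (hTI : Cfsg.IsTISubset (H : Set G)) {P : Subgroup G}
    (hPH : P ≤ H) (hP : P ≠ ⊥) :
    Subgroup.normalizer (P : Set G) ≤ Subgroup.normalizer (H : Set G) := by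
  intro g hg
  obtain ⟨x, hxP⟩ := (Subgroup.ne_bot_iff_exists_ne_one (H := P)).mp hP
  have h1 : g * (x : G) * g⁻¹ ∈ P := (Subgroup.mem_normalizer_iff.mp hg (x : G)).mp x.2
  exact mem_normalizer_of_TI hTI (hPH x.2) (fun h => hxP (Subtype.ext h)) (hPH h1)

/-- (a) a TI subgroup which is a Hall subgroup of its normalizer is a Hall subgroup. -/
theorem coprime_index_of_TI [Finite G] {H : Subgroup G} (hTI : Cfsg.IsTISubset (H : Set G))
    (hHall : (Nat.card H).Coprime (H.subgroupOf (Subgroup.normalizer (H : Set G))).index) :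
    (Nat.card H).Coprime H.index := by
  apply Nat.coprime_of_dvd'
  intro p hp hpH hpI
  exfalso
  haveI : Fact p.Prime := ⟨hp⟩
  obtain ⟨P⟩ : Nonempty (Sylow p H) := inferInstance
  obtain ⟨P', hP'⟩ : ∃ P' : Subgroup G, P' = (P : Subgroup H).map H.subtype := ⟨_, rfl⟩
  have hP'H : P' ≤ H := by rw [hP']; exact Subgroup.map_subtype_le _
  have hcardP' : Nat.card P' = Nat.card (P : Subgroup H) := by
    rw [hP']; exact Subgroup.card_map_of_injective H.subtype_injective
  obtain ⟨n, hn⟩ := IsPGroup.iff_card.mp P.isPGroup'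
  have hn' : Nat.card P' = p ^ n := by rw [hcardP', hn]
  have hPne : P' ≠ ⊥ := by
    intro h
    have h1 : Nat.card P' = 1 := by rw [h]; exact Subgroup.card_bot
    have h2 := P.dvd_card_of_dvd_card hpH
    rw [← hcardP', h1] at h2
    exact hp.one_lt.ne' (Nat.dvd_one.mp h2)
  -- `|H| = p ^ n * m` with `p ∤ m`
  have hidx : ¬ p ∣ (P : Subgroup H).index := P.not_dvd_index
  have hcH : (P : Subgroup H).index * p ^ n = Nat.card H := by
    rw [← hn]; exact Subgroup.index_mul_card _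
  -- `p ^ (n+1) ∣ |G|`
  have hdvdG : p ^ (n + 1) ∣ Nat.card G := by
    rw [← H.index_mul_card, ← hcH, pow_succ]
    obtain ⟨k, hk⟩ := hpI
    rw [hk]
    exact ⟨k * (P : Subgroup H).index, by ring⟩
  have h3 := Sylow.prime_pow_dvd_card_normalizer hdvdG hn'
  have h4 : Subgroup.normalizer (P' : Set G) ≤ Subgroup.normalizer (H : Set G) :=
    normalizer_le_of_TI hTI hP'H hPne
  have h5 : p ^ (n + 1) ∣ Nat.card (Subgroup.normalizer (H : Set G)) :=
    h3.trans (Subgroup.card_dvd_of_le h4)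
  rw [← relIndex_mul_card_of_le (Subgroup.le_normalizer (H := H)), ← hcH, pow_succ] at h5
  have h6 : p ∣ H.relIndex (Subgroup.normalizer (H : Set G)) * (P : Subgroup H).index := by
    have h7 : p ^ n * p ∣ p ^ n * (H.relIndex (Subgroup.normalizer (H : Set G)) *
        (P : Subgroup H).index) := by
      convert h5 using 1; ring
    exact (Nat.mul_dvd_mul_iff_left (pow_pos hp.pos n)).mp h7
  rcases (Nat.Prime.dvd_mul hp).mp h6 with h8 | h8
  · have h9 := Nat.Coprime.eq_one_of_dvd (Nat.Coprime.coprime_dvd_left hpH hHall) h8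
    exact hp.one_lt.ne' h9
  · exact hidx h8


/-- for `K` normal, `|K : H ⊓ K|` divides `|G : H|`. -/
theorem relIndex_dvd_index_of_normal_right [Finite G] (H K : Subgroup G) [K.Normal] :
    H.relIndex K ∣ H.index := by
  rw [← Cfsg.Agent.Helper8.RMcK.relIndex_sup_of_normal K H]
  exact Subgroup.relIndex_dvd_index_of_le le_sup_left

/-- (c) `G = O · N_G(H)`. -/
theorem sup_normalizer_eq_top [Finite G] {H : Subgroup G} (hTI : Cfsg.IsTISubset (H : Set G))
    (hHall : (Nat.card H).Coprime (H.subgroupOf (Subgroup.normalizer (H : Set G))).index)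
    (hsep : ∃ (n : ℕ) (M : Fin (n + 1) → Subgroup G), M 0 = ⊥ ∧ M (Fin.last n) = ⊤ ∧ Monotone M ∧
      (∀ i, (M i).Normal) ∧
      ∀ i : Fin n, (∀ q : ℕ, q.Prime → q ∣ (M i.castSucc).relIndex (M i.succ) → q ∣ Nat.card H) ∨
        ((M i.castSucc).relIndex (M i.succ)).Coprime (Nat.card H))
    {O : Subgroup G} (hOn : O.Normal) (hOc : (Nat.card O).Coprime (Nat.card H))
    (hOmax : ∀ K : Subgroup G, K.Normal → (Nat.card K).Coprime (Nat.card H) → K ≤ O) :
    O ⊔ Subgroup.normalizer (H : Set G) = ⊤ := by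
  classical
  by_cases hH1 : H = ⊥
  · have : Subgroup.normalizer ((H : Subgroup G) : Set G) = ⊤ := by
      rw [hH1]; exact Subgroup.normalizer_eq_top_iff.mpr inferInstance
    rw [this]; exact sup_top_eq _
  have hcop : (Nat.card H).Coprime H.index := coprime_index_of_TI hTI hHall
  obtain ⟨n, M, hM0, hMtop, hMmono, hMn, hMf⟩ := hsep
  have hHcard : Nat.card H ≠ 1 := by
    intro h
    exact hH1 (Subgroup.card_eq_one.mp h)
  -- `O ≠ ⊤`
  have hOtop : ¬ (⊤ : Subgroup G) ≤ O := by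
    intro h
    have h1 : O = ⊤ := top_le_iff.mp h
    rw [h1, Subgroup.card_top] at hOc
    have h2 : Nat.card H ∣ Nat.card G := Subgroup.card_subgroup_dvd_card H
    exact hHcard (Nat.Coprime.eq_one_of_dvd hOc.symm h2)
  -- the least `i` with `M i ≰ O`
  obtain ⟨i, hi, himin⟩ := (wellFounded_lt (α := Fin (n + 1))).has_min
    {i : Fin (n + 1) | ¬ M i ≤ O} ⟨Fin.last n, by rw [Set.mem_ofPred_eq, hMtop]; exact hOtop⟩
  have hi0 : i ≠ 0 := by
    rintro rfl
    apply hi
    rw [hM0]; exact bot_le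
  obtain ⟨j, rfl⟩ := Fin.exists_succ_eq.mpr hi0
  have hjO : M j.castSucc ≤ O := by
    by_contra h
    exact himin j.castSucc h (Fin.castSucc_lt_succ)
  haveI := hMn j.succ
  haveI := hOn
  obtain ⟨K, hK⟩ : ∃ K : Subgroup G, K = M j.succ ⊔ O := ⟨_, rfl⟩
  haveI hKn : K.Normal := by rw [hK]; exact Subgroup.sup_normal _ _
  have hOK : O ≤ K := by rw [hK]; exact le_sup_right
  -- `d = |K : O|` divides the factor
  have hd1 : O.relIndex K ∣ (M j.castSucc).relIndex (M j.succ) := by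
    rw [hK, Subgroup.relIndex_sup_right]
    exact Subgroup.relIndex_dvd_of_le_left _ hjO
  have hd2 : O.relIndex K ≠ 1 := by
    intro h
    apply hi
    exact le_sup_left.trans ((hK ▸ Subgroup.relIndex_eq_one.mp h : M j.succ ⊔ O ≤ O))
  have hcardK : O.relIndex K * Nat.card O = Nat.card K := relIndex_mul_card_of_le hOK
  have hpi : ∀ q : ℕ, q.Prime → q ∣ O.relIndex K → q ∣ Nat.card H := by
    rcases hMf j with h | h
    · intro q hq hqd
      exact h q hq (hqd.trans hd1)
    · exfalso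
      apply hi
      have h1 : (O.relIndex K).Coprime (Nat.card H) := Nat.Coprime.coprime_dvd_left hd1 h
      have h2 : (Nat.card K).Coprime (Nat.card H) := by
        rw [← hcardK]; exact Nat.Coprime.mul_left h1 hOc
      exact le_sup_left.trans (hK ▸ hOmax K hKn h2)
  obtain ⟨p, hp, hpd⟩ := Nat.exists_prime_and_dvd hd2
  haveI : Fact p.Prime := ⟨hp⟩
  have hpH : p ∣ Nat.card H := hpi p hp hpd
  have hpK : p ∣ Nat.card K := by rw [← hcardK]; exact Dvd.dvd.mul_right hpd _
  -- `|K : H ⊓ K|` is prime to `|H|`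
  have hrel : (Nat.card H).Coprime (H.relIndex K) :=
    Nat.Coprime.coprime_dvd_right (relIndex_dvd_index_of_normal_right H K) hcop
  have hpn : ¬ p ∣ H.relIndex K := by
    intro h
    exact hp.one_lt.ne' (Nat.Coprime.eq_one_of_dvd (Nat.Coprime.coprime_dvd_left hpH hrel) h)
  -- a Sylow `p`-subgroup of `H ⊓ K`
  obtain ⟨P⟩ : Nonempty (Sylow p ↥(H ⊓ K)) := inferInstance
  obtain ⟨P₀, hP₀⟩ : ∃ P₀ : Subgroup G, P₀ = (P : Subgroup ↥(H ⊓ K)).map (H ⊓ K).subtype :=
    ⟨_, rfl⟩
  have hP₀le : P₀ ≤ H ⊓ K := by rw [hP₀]; exact Subgroup.map_subtype_le _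
  have hP₀p : IsPGroup p P₀ := by rw [hP₀]; exact P.isPGroup'.map _
  have hP₀idx : P₀.relIndex (H ⊓ K) = (P : Subgroup ↥(H ⊓ K)).index := by
    rw [Subgroup.relIndex, hP₀, Subgroup.subgroupOf,
      Subgroup.comap_map_eq_self_of_injective (H ⊓ K).subtype_injective]
  have hP₀K : ¬ p ∣ P₀.relIndex K := by
    rw [← Subgroup.relIndex_mul_relIndex P₀ (H ⊓ K) K hP₀le inf_le_right, hP₀idx,
      Subgroup.inf_relIndex_right]
    exact Nat.Prime.not_dvd_mul hp P.not_dvd_index hpn
  -- as a Sylow subgroup of `K`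
  let S : Sylow p ↥K := (hP₀p.comap_subtype (K := K) : IsPGroup p (P₀.subgroupOf K)).toSylow hP₀K
  have hS : (S : Subgroup ↥K).map K.subtype = P₀ := by
    change (P₀.subgroupOf K).map K.subtype = P₀
    rw [Subgroup.subgroupOf_map_subtype, inf_eq_left]
    exact hP₀le.trans inf_le_right
  have hfrat := Sylow.normalizer_sup_eq_top S
  rw [hS] at hfrat
  have hP₀ne : P₀ ≠ ⊥ := by
    intro h
    apply hP₀K
    rw [h, Subgroup.relIndex_bot_left]
    exact hpK
  have hNle : Subgroup.normalizer (P₀ : Set G) ≤ Subgroup.normalizer (H : Set G) :=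
    normalizer_le_of_TI hTI (hP₀le.trans inf_le_left) hP₀ne
  -- `K = O (H ⊓ K)`
  have hKT : K ≤ O ⊔ (H ⊓ K) := by
    rw [← Subgroup.relIndex_eq_one]
    by_contra hne
    obtain ⟨q, hq, hqd⟩ := Nat.exists_prime_and_dvd hne
    have h1 : q ∣ O.relIndex K := hqd.trans (Subgroup.relIndex_dvd_of_le_left K le_sup_left)
    have h2 : q ∣ H.relIndex K := by
      rw [← Subgroup.inf_relIndex_right]
      exact hqd.trans (Subgroup.relIndex_dvd_of_le_left K le_sup_right)
    exact hq.one_lt.ne' (Nat.Coprime.eq_one_of_dvd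
      (Nat.Coprime.coprime_dvd_left (hpi q hq h1) hrel) h2)
  rw [eq_top_iff, ← hfrat]
  apply sup_le
  · exact hNle.trans le_sup_right
  · refine hKT.trans (sup_le le_sup_left ?_)
    exact inf_le_left.trans ((Subgroup.le_normalizer (H := H)).trans le_sup_right)

/-- (d) `O ⊔ H` is normal as soon as `G = O · N_G(H)`. -/
theorem sup_normal_of_sup_normalizer_eq_top {H O : Subgroup G} (hOn : O.Normal)
    (h : O ⊔ Subgroup.normalizer (H : Set G) = ⊤) : (O ⊔ H).Normal := by
  haveI := hOn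
  rw [← Subgroup.normalizer_eq_top_iff, eq_top_iff, ← h]
  apply sup_le
  · exact le_sup_left.trans Subgroup.le_normalizer
  · have key : ∀ g ∈ Subgroup.normalizer (H : Set G), ∀ x ∈ O ⊔ H, g * x * g⁻¹ ∈ O ⊔ H := by
      intro g hg x hx
      have h1 : (O ⊔ H).map (MulAut.conj g).toMonoidHom ≤ O ⊔ H := by
        rw [Subgroup.map_sup]
        apply sup_le_sup
        · rintro _ ⟨a, ha, rfl⟩
          exact hOn.conj_mem a ha g
        · rintro _ ⟨b, hb, rfl⟩
          exact (Subgroup.mem_normalizer_iff.mp hg b).mp hb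
      exact h1 ⟨x, hx, rfl⟩
    intro g hg
    rw [Subgroup.mem_normalizer_iff]
    intro x
    constructor
    · exact key g hg x
    · intro hx
      have := key g⁻¹ (inv_mem hg) _ hx
      simpa [mul_assoc] using this

/-- (e) an element of `O` commuting with a non-identity element of `H` normalizes `H`. -/
theorem mem_normalizer_of_commute {H : Subgroup G} (hTI : Cfsg.IsTISubset (H : Set G)) {x h : G}
    (hh : h ∈ H) (h1 : h ≠ 1) (hc : x * h = h * x) : x ∈ Subgroup.normalizer (H : Set G) := by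
  apply mem_normalizer_of_TI hTI hh h1
  rw [hc, mul_inv_cancel_right]
  exact hh

/-- (e) `O ⊓ N_G(H)` centralizes `H`. -/
theorem commute_of_mem_inf_normalizer {H O : Subgroup G} (hOn : O.Normal) (hOH : O ⊓ H = ⊥)
    {x : G} (hxO : x ∈ O) (hxN : x ∈ Subgroup.normalizer (H : Set G)) {k : G} (hk : k ∈ H) :
    x * k = k * x := by
  have h1 : x * k * x⁻¹ * k⁻¹ ∈ H :=
    mul_mem ((Subgroup.mem_normalizer_iff.mp hxN k).mp hk) (inv_mem hk)
  have h2 : x * k * x⁻¹ * k⁻¹ ∈ O := by
    have : x * k * x⁻¹ * k⁻¹ = x * (k * x⁻¹ * k⁻¹) := by group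
    rw [this]
    exact mul_mem hxO (hOn.conj_mem _ (inv_mem hxO) k)
  have h3 : x * k * x⁻¹ * k⁻¹ ∈ O ⊓ H := Subgroup.mem_inf.mpr ⟨h2, h1⟩
  rw [hOH, Subgroup.mem_bot] at h3
  have : x * k = (x * k * x⁻¹ * k⁻¹) * (k * x) := by group
  rw [this, h3, one_mul]

/-- (e) all non-identity elements of `H` have the same centralizer in `O`. -/
theorem commute_of_commute {H O : Subgroup G} (hTI : Cfsg.IsTISubset (H : Set G)) (hOn : O.Normal)
    (hOH : O ⊓ H = ⊥) {x h : G} (hxO : x ∈ O) (hh : h ∈ H) (h1 : h ≠ 1) (hc : x * h = h * x)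
    {k : G} (hk : k ∈ H) : x * k = k * x :=
  commute_of_mem_inf_normalizer hOn hOH hxO (mem_normalizer_of_commute hTI hh h1 hc) hk

/-- (e) `O` is not contained in `N_G(H)`. -/
theorem not_le_normalizer {H O : Subgroup G} (hnn : ¬ H.Normal)
    (h : O ⊔ Subgroup.normalizer (H : Set G) = ⊤) : ¬ O ≤ Subgroup.normalizer (H : Set G) := by
  intro hle
  apply hnn
  rw [← Subgroup.normalizer_eq_top_iff, ← h]
  exact (sup_eq_right.mpr hle).symm

end Cfsg.Agent.Helper1.TIH
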