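import Mathlib
import Cfsg.Agent.Helper1.Basic
import Cfsg.Agent.Helper1.GLPStep

set_option autoImplicit false

/-!
# S4118 / S4151, Part II: a group `H` acting coprimely on a solvable group `O` such that all
non-identity elements of `H` have the same centralizer `≠ O` in `O` acts fixed-point-freely on a
non-trivial abelian group.
-/

namespace Cfsg.Agent.Helper1.TIH

universe u

section conjAct

variable {L : Type u} [Group L]

/-- the conjugation action of the normalizer of `W` on `W`. -/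
def conjAct (W : Subgroup L) : ↥(Subgroup.normalizer (W : Set L)) →* MulAut ↥W where
  toFun g :=
    { toFun := fun w => ⟨(g : L) * w * (g : L)⁻¹, (Subgroup.mem_normalizer_iff.mp g.2 w).mp w.2⟩
      invFun := fun w => ⟨(g : L)⁻¹ * w * (g : L), by
        have := (Subgroup.mem_normalizer_iff.mp (inv_mem g.2) w).mp w.2
        simpa using this⟩
      left_inv := fun w => Subtype.ext (by simp [mul_assoc])
      right_inv := fun w => Subtype.ext (by simp [mul_assoc])
      map_mul' := fun a b => Subtype.ext (by simp [mul_assoc]) }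
  map_one' := by
    ext w
    simp
  map_mul' a b := by
    ext w
    simp [mul_assoc]

@[simp] theorem conjAct_apply_coe (W : Subgroup L) (g : ↥(Subgroup.normalizer (W : Set L)))
    (w : ↥W) : ((conjAct W g w : ↥W) : L) = (g : L) * w * (g : L)⁻¹ := rfl

end conjAct

section averaging

variable {L : Type u} [Group L]

open scoped commutatorElement

/-- averaging: an element of `[V, K]` (`V` abelian, normalized by the finite group `K`) centralized
by `K` has order dividing `|K|`. -/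
theorem pow_card_eq_one_of_mem_commutator {V K : Subgroup L} [Finite K]
    (hVab : ∀ x ∈ V, ∀ y ∈ V, x * y = y * x)
    (hKV : K ≤ Subgroup.normalizer (V : Set L)) {w : L} (hw : w ∈ ⁅V, K⁆)
    (hc : ∀ k ∈ K, k * w = w * k) : w ^ Nat.card K = 1 := by
  classical
  letI : Fintype ↥K := Fintype.ofFinite _
  letI : CommGroup ↥V :=
    { (inferInstance : Group ↥V) with
      mul_comm := fun a b => Subtype.ext (hVab a a.2 b b.2) }
  let c : ↥K → (↥V →* ↥V) := fun k => (conjAct V ⟨(k : L), hKV k.2⟩).toMonoidHom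
  let τ : ↥V →* ↥V := ∏ k : ↥K, c k
  have hτ : ∀ v : ↥V, τ v = ∏ k : ↥K, c k v := fun v => MonoidHom.finsetProd_apply _ _ _
  have hc_coe : ∀ (k : ↥K) (v : ↥V), ((c k v : ↥V) : L) = (k : L) * v * (k : L)⁻¹ := fun k v => rfl
  have hinv : ∀ (k₀ : ↥K) (v : ↥V), τ (c k₀ v) = τ v := by
    intro k₀ v
    rw [hτ, hτ]
    refine Fintype.prod_equiv (Equiv.mulRight k₀) _ _ ?_
    intro k
    apply Subtype.ext
    rw [hc_coe, hc_coe, hc_coe, Equiv.coe_mulRight, Subgroup.coe_mul]
    group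
  have hle : ⁅V, K⁆ ≤ (τ.ker).map V.subtype := by
    rw [Subgroup.commutator_le]
    intro v hv k hk
    refine ⟨(⟨v, hv⟩ : ↥V) * c ⟨k, hk⟩ (⟨v, hv⟩ : ↥V)⁻¹, ?_, ?_⟩
    · rw [SetLike.mem_coe, MonoidHom.mem_ker, map_mul, hinv, ← map_mul, mul_inv_cancel, map_one]
    · rw [Subgroup.subtype_apply, Subgroup.coe_mul, hc_coe, commutatorElement_def]
      simp only [Subgroup.coe_inv]
      group
  obtain ⟨w', hw', rfl⟩ := hle hw
  have h1 : τ w' = w' ^ Nat.card K := by
    rw [hτ]
    have : ∀ k : ↥K, c k w' = w' := by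
      intro k
      apply Subtype.ext
      rw [hc_coe]
      have := hc k k.2
      rw [Subgroup.subtype_apply] at this
      rw [this, mul_inv_cancel_right]
    rw [Finset.prod_congr rfl (fun k _ => this k), Finset.prod_const, Finset.card_univ,
      Nat.card_eq_fintype_card]
  rw [SetLike.mem_coe, MonoidHom.mem_ker] at hw'
  rw [Subgroup.subtype_apply, ← Subgroup.coe_pow, ← h1, hw', Subgroup.coe_one]

end averaging

section dser

variable {G : Type u} [Group G]

/-- the derived series of a subgroup, inside the ambient group. -/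
def dser (O : Subgroup G) : ℕ → Subgroup G
  | 0 => O
  | (j + 1) => ⁅dser O j, dser O j⁆

@[simp] theorem dser_zero (O : Subgroup G) : dser O 0 = O := rfl

theorem dser_succ (O : Subgroup G) (j : ℕ) : dser O (j + 1) = ⁅dser O j, dser O j⁆ := rfl

theorem dser_normal (O : Subgroup G) [hO : O.Normal] (j : ℕ) : (dser O j).Normal := by
  induction j with
  | zero => exact hO
  | succ j ih =>
    rw [dser_succ]
    haveI := ih
    exact Subgroup.commutator_normal _ _

theorem dser_succ_le (O : Subgroup G) (j : ℕ) : dser O (j + 1) ≤ dser O j := by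
  rw [dser_succ, Subgroup.commutator_le]
  intro a ha b hb
  rw [commutatorElement_def]
  exact mul_mem (mul_mem (mul_mem ha hb) (inv_mem ha)) (inv_mem hb)

theorem dser_le (O : Subgroup G) (j : ℕ) : dser O j ≤ O := by
  induction j with
  | zero => exact le_rfl
  | succ j ih => exact (dser_succ_le O j).trans ih

theorem dser_eq_map (O : Subgroup G) (j : ℕ) :
    dser O j = (derivedSeries ↥O j).map O.subtype := by
  induction j with
  | zero =>
    rw [dser_zero, derivedSeries_zero, ← MonoidHom.range_eq_map, Subgroup.range_subtype]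
  | succ j ih =>
    rw [dser_succ, derivedSeries_succ, Subgroup.map_commutator, ← ih]

theorem exists_dser_eq_bot (O : Subgroup G) [hs : Group.IsSolvable ↥O] : ∃ k, dser O k = ⊥ := by
  obtain ⟨k, hk⟩ := hs.solvable
  exact ⟨k, by rw [dser_eq_map, hk, Subgroup.map_bot]⟩

end dser

section main

variable {G : Type u} [Group G]

open scoped commutatorElement

/-- an element of `H` of prime order below a non-identity element. -/
theorem exists_prime_order_pow [Finite G] {h : G} (h1 : h ≠ 1) :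
    ∃ (p : ℕ) (m : ℕ), p.Prime ∧ orderOf (h ^ m) = p := by
  have ho : orderOf h ≠ 1 := fun h' => h1 (orderOf_eq_one_iff.mp h')
  obtain ⟨p, hp, hpd⟩ := Nat.exists_prime_and_dvd ho
  exact ⟨p, orderOf h / p, hp, orderOf_pow_orderOf_div (orderOf_pos h).ne' hpd⟩

/-- the fixed points of a non-identity element of `H` on `A/B` come from `C_A(H)`. -/
theorem fixed_mem_map [Finite G] {O H A B : Subgroup G} [B.Normal] (hAO : A ≤ O) (hBA : B ≤ A)
    (hcop : (Nat.card O).Coprime (Nat.card H))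
    (hfix : ∀ x ∈ O, ∀ h ∈ H, h ≠ 1 → x * h = h * x → ∀ k ∈ H, x * k = k * x)
    {h : G} (hh : h ∈ H) (h1 : h ≠ 1) {a : G} (ha : a ∈ A)
    (hcomm : QuotientGroup.mk' B h * QuotientGroup.mk' B a =
      QuotientGroup.mk' B a * QuotientGroup.mk' B h) :
    ∃ c ∈ A, (∀ k ∈ H, c * k = k * c) ∧ QuotientGroup.mk' B c = QuotientGroup.mk' B a := by
  obtain ⟨p, m, hp, hpo⟩ := exists_prime_order_pow h1
  haveI : Fact p.Prime := ⟨hp⟩
  obtain ⟨h', hh'⟩ : ∃ h' : G, h' = h ^ m := ⟨_, rfl⟩
  rw [← hh'] at hpo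
  have hh'H : h' ∈ H := by rw [hh']; exact pow_mem hh m
  have hh'1 : h' ≠ 1 := by
    intro h2
    rw [h2, orderOf_one] at hpo
    exact hp.one_lt.ne hpo
  have hpH : p ∣ Nat.card H := by
    rw [← hpo]; exact H.orderOf_dvd_natCard hh'H
  have hBp : (Nat.card B).Coprime p :=
    Nat.Coprime.coprime_dvd_left (Subgroup.card_dvd_of_le (hBA.trans hAO))
      (Nat.Coprime.coprime_dvd_right hpH hcop)
  have hR : IsPGroup p (Subgroup.zpowers h') := by
    apply IsPGroup.of_card (n := 1)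
    rw [Nat.card_zpowers, hpo, pow_one]
  -- every element of `⟨h'⟩` commutes with `a` modulo `B`
  have hcomm' : ∀ r ∈ Subgroup.zpowers h', a⁻¹ * r * a * r⁻¹ ∈ B := by
    intro r hr
    have h2 : Commute (QuotientGroup.mk' B h) (QuotientGroup.mk' B a) := hcomm
    obtain ⟨n, rfl⟩ := Subgroup.mem_zpowers_iff.mp hr
    have h3 : Commute (QuotientGroup.mk' B (h' ^ n)) (QuotientGroup.mk' B a) := by
      rw [hh', map_zpow, map_pow]
      exact (h2.pow_left m).zpow_left n
    rw [← QuotientGroup.ker_mk' B, MonoidHom.mem_ker]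
    simp only [map_mul, map_inv]
    rw [mul_assoc _ _ (QuotientGroup.mk' B a), h3.eq]
    group
  obtain ⟨c, hc1, hc2⟩ := Cfsg.Agent.Helper1.GLP.exists_fixed_in_coset_of_isPGroup B
    (Subgroup.zpowers h') hBp hR a (by
      intro r hr o ho
      have : a⁻¹ * (r * (a * o) * r⁻¹) = (a⁻¹ * r * a * r⁻¹) * (r * o * r⁻¹) := by group
      rw [this]
      exact mul_mem (hcomm' r hr) (Subgroup.Normal.conj_mem inferInstance o ho r))
  have hcA : c ∈ A := by
    have : c = a * (a⁻¹ * c) := by group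
    rw [this]
    exact mul_mem ha (hBA hc1)
  refine ⟨c, hcA, ?_, ?_⟩
  · apply hfix c (hAO hcA) h' hh'H hh'1
    have := hc2 h' (Subgroup.mem_zpowers h')
    calc c * h' = (h' * c * h'⁻¹) * h' := by rw [this]
      _ = h' * c := by group
  · symm
    exact QuotientGroup.eq.mpr hc1

/-- `K` normalizes `[V, K]` when it normalizes `V`. -/
theorem le_normalizer_commutator {L : Type u} [Group L] {V K : Subgroup L}
    (hKV : K ≤ Subgroup.normalizer (V : Set L)) :
    K ≤ Subgroup.normalizer ((⁅V, K⁆ : Subgroup L) : Set L) := by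
  have key : ∀ g ∈ K, ∀ x ∈ ⁅V, K⁆, g * x * g⁻¹ ∈ ⁅V, K⁆ := by
    intro g hg x hx
    have h1 : (⁅V, K⁆).map (MulAut.conj g).toMonoidHom ≤ ⁅V, K⁆ := by
      rw [Subgroup.map_commutator]
      apply Subgroup.commutator_mono
      · rintro _ ⟨v, hv, rfl⟩
        exact (Subgroup.mem_normalizer_iff.mp (hKV hg) v).mp hv
      · rintro _ ⟨k, hk, rfl⟩
        exact mul_mem (mul_mem hg hk) (inv_mem hg)
    exact h1 ⟨x, hx, rfl⟩
  intro g hg
  rw [Subgroup.mem_normalizer_iff]
  intro x
  constructor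
  · exact key g hg x
  · intro hx
    have := key g⁻¹ (inv_mem hg) _ hx
    simpa [mul_assoc] using this

/-- **Part II**: `H` acts fixed-point-freely on a non-trivial finite abelian group. -/
theorem exists_fpf_action [Finite G] {O H : Subgroup G} (hOn : O.Normal)
    (hOs : Group.IsSolvable ↥O) (hcop : (Nat.card O).Coprime (Nat.card H))
    (hfix : ∀ x ∈ O, ∀ h ∈ H, h ≠ 1 → x * h = h * x → ∀ k ∈ H, x * k = k * x)
    (hne : ∃ x ∈ O, ∃ k ∈ H, x * k ≠ k * x) :
    ∃ (W : Type u) (_ : CommGroup W) (_ : Finite W) (φ : ↥H →* MulAut W), Nontrivial W ∧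
      ∀ h : ↥H, h ≠ 1 → ∀ w : W, φ h w = w → w = 1 := by
  classical
  haveI := hOn
  obtain ⟨C, hC⟩ : ∃ C : Subgroup G, C = O ⊓ Subgroup.centralizer (H : Set G) := ⟨_, rfl⟩
  have hCmem : ∀ c : G, c ∈ C ↔ c ∈ O ∧ ∀ k ∈ H, c * k = k * c := by
    intro c
    rw [hC, Subgroup.mem_inf, Subgroup.mem_centralizer_iff]
    constructor
    · rintro ⟨h1, h2⟩
      exact ⟨h1, fun k hk => (h2 k hk).symm⟩
    · rintro ⟨h1, h2⟩
      exact ⟨h1, fun k hk => (h2 k hk).symm⟩
  -- the section
  have hj : ∃ j, ¬ dser O j ≤ (C ⊓ dser O j) ⊔ dser O (j + 1) := by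
    by_contra hall
    push Not at hall
    obtain ⟨k, hk⟩ := exists_dser_eq_bot O
    have h1 : ∀ m j, j + m = k → dser O j ≤ C := by
      intro m
      induction m with
      | zero =>
        intro j hj
        rw [add_zero] at hj
        subst hj
        rw [hk]; exact bot_le
      | succ m ih =>
        intro j hj
        have h2 := ih (j + 1) (by omega)
        exact (hall j).trans (sup_le inf_le_left h2)
    have h2 := h1 k 0 (by omega)
    obtain ⟨x, hx, k', hk', hxk⟩ := hne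
    exact hxk (((hCmem x).mp (h2 hx)).2 k' hk')
  obtain ⟨j, hj⟩ := hj
  obtain ⟨A, hA⟩ : ∃ A : Subgroup G, A = dser O j := ⟨_, rfl⟩
  obtain ⟨B, hB⟩ : ∃ B : Subgroup G, B = dser O (j + 1) := ⟨_, rfl⟩
  rw [← hA, ← hB] at hj
  haveI hAn : A.Normal := by rw [hA]; exact dser_normal O j
  haveI hBn : B.Normal := by rw [hB]; exact dser_normal O (j + 1)
  have hBA : B ≤ A := by rw [hA, hB]; exact dser_succ_le O j
  have hAO : A ≤ O := by rw [hA]; exact dser_le O j
  have hBcomm : ∀ a ∈ A, ∀ a' ∈ A, ⁅a, a'⁆ ∈ B := by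
    intro a ha a' ha'
    rw [hB, dser_succ, ← hA]
    exact Subgroup.commutator_mem_commutator ha ha'
  obtain ⟨k₀, hk₀H, hk₀1⟩ : ∃ k₀ ∈ H, k₀ ≠ 1 := by
    obtain ⟨x, hx, k', hk', hxk⟩ := hne
    refine ⟨k', hk', ?_⟩
    rintro rfl
    exact hxk (by rw [mul_one, one_mul])
  -- the quotient
  let π := QuotientGroup.mk' B
  obtain ⟨V, hV⟩ : ∃ V : Subgroup (G ⧸ B), V = A.map π := ⟨_, rfl⟩
  obtain ⟨Hb, hHb⟩ : ∃ Hb : Subgroup (G ⧸ B), Hb = H.map π := ⟨_, rfl⟩
  haveI hVn : V.Normal := by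
    rw [hV]; exact Subgroup.Normal.map hAn π (QuotientGroup.mk'_surjective B)
  have hVab : ∀ x ∈ V, ∀ y ∈ V, x * y = y * x := by
    intro x hx y hy
    rw [hV] at hx hy
    obtain ⟨a, ha, rfl⟩ := hx
    obtain ⟨a', ha', rfl⟩ := hy
    rw [← map_mul, ← map_mul]
    apply QuotientGroup.eq.mpr
    have : (a * a')⁻¹ * (a' * a) = ⁅a'⁻¹, a⁻¹⁆ := by
      rw [commutatorElement_def]; group
    rw [this]
    exact hBcomm _ (inv_mem ha') _ (inv_mem ha)
  have hHbV : Hb ≤ Subgroup.normalizer (V : Set (G ⧸ B)) := by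
    rw [Subgroup.normalizer_eq_top_iff.mpr hVn]; exact le_top
  obtain ⟨W, hW⟩ : ∃ W : Subgroup (G ⧸ B), W = ⁅V, Hb⁆ := ⟨_, rfl⟩
  have hWV : W ≤ V := by rw [hW]; exact Subgroup.commutator_le_left V Hb
  have hWn : Hb ≤ Subgroup.normalizer (W : Set (G ⧸ B)) := by
    rw [hW]; exact le_normalizer_commutator hHbV
  have hVcard : Nat.card V ∣ Nat.card O := by
    rw [hV]
    exact (Subgroup.card_map_dvd A π).trans (Subgroup.card_dvd_of_le hAO)
  have hHbcard : Nat.card Hb ∣ Nat.card H := by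
    rw [hHb]; exact Subgroup.card_map_dvd H π
  -- fixed points are centralized by `Hb`
  have hfixV : ∀ h ∈ H, h ≠ 1 → ∀ v ∈ V, π h * v = v * π h →
      ∃ c ∈ C ⊓ A, π c = v := by
    intro h hh h1 v hv hcomm
    rw [hV] at hv
    obtain ⟨a, ha, rfl⟩ := hv
    obtain ⟨c, hcA, hcH, hca⟩ := fixed_mem_map hAO hBA hcop hfix hh h1 ha hcomm
    exact ⟨c, Subgroup.mem_inf.mpr ⟨(hCmem c).mpr ⟨hAO hcA, hcH⟩, hcA⟩, hca⟩
  have hfixW : ∀ h ∈ H, h ≠ 1 → ∀ w ∈ W, π h * w = w * π h → w = 1 := by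
    intro h hh h1 w hw hcomm
    obtain ⟨c, hc, rfl⟩ := hfixV h hh h1 w (hWV hw) hcomm
    have hcc : ∀ k ∈ Hb, k * π c = π c * k := by
      intro k hk
      rw [hHb] at hk
      obtain ⟨k', hk', rfl⟩ := hk
      rw [← map_mul, ← map_mul, ((hCmem c).mp (Subgroup.mem_inf.mp hc).1).2 k' hk']
    have h2 : (π c) ^ Nat.card Hb = 1 :=
      pow_card_eq_one_of_mem_commutator hVab hHbV (hW ▸ hw) hcc
    have h3 : orderOf (π c) ∣ Nat.card H := (orderOf_dvd_of_pow_eq_one h2).trans hHbcard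
    have h4 : orderOf (π c) ∣ Nat.card O := (V.orderOf_dvd_natCard (hWV hw)).trans hVcard
    have h5 : orderOf (π c) = 1 :=
      Nat.Coprime.eq_one_of_dvd (Nat.Coprime.coprime_dvd_left h4 hcop) h3
    exact orderOf_eq_one_iff.mp h5
  -- `W` is not trivial
  have hWne : W ≠ ⊥ := by
    intro hW0
    apply hj
    intro a ha
    have h1 : π k₀ * π a = π a * π k₀ := by
      have h2 : ⁅π a, π k₀⁆ ∈ W := by
        rw [hW]
        exact Subgroup.commutator_mem_commutator (hV ▸ Subgroup.mem_map_of_mem π ha)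
          (hHb ▸ Subgroup.mem_map_of_mem π hk₀H)
      rw [hW0, Subgroup.mem_bot, commutatorElement_eq_one_iff_mul_comm] at h2
      exact h2.symm
    obtain ⟨c, hc, hca⟩ := hfixV k₀ hk₀H hk₀1 (π a) (hV ▸ Subgroup.mem_map_of_mem π ha) h1
    have h3 : c⁻¹ * a ∈ B := QuotientGroup.eq.mp hca
    have : a = c * (c⁻¹ * a) := by group
    rw [this]
    exact Subgroup.mul_mem_sup hc h3
  -- the action
  let ψ : ↥H →* ↥(Subgroup.normalizer (W : Set (G ⧸ B))) :=
    (π.comp H.subtype).codRestrict _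
      (fun h => hWn (hHb ▸ Subgroup.mem_map_of_mem π h.2))
  let φ : ↥H →* MulAut ↥W := (conjAct W).comp ψ
  letI instW : CommGroup ↥W :=
    { (inferInstance : Group ↥W) with
      mul_comm := fun a b => Subtype.ext (hVab a (hWV a.2) b (hWV b.2)) }
  refine ⟨↥W, instW, inferInstance, φ, (Subgroup.nontrivial_iff_ne_bot W).mpr hWne, ?_⟩
  intro h h1 w hw
  apply Subtype.ext
  rw [Subgroup.coe_one]
  apply hfixW (h : G) h.2 (fun h2 => h1 (Subtype.ext h2)) (w : G ⧸ B) w.2
  have h2 := congrArg (fun x : ↥W => (x : G ⧸ B)) hw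
  have h3 : π (h : G) * (w : G ⧸ B) * (π (h : G))⁻¹ = (w : G ⧸ B) := h2
  calc π (h : G) * (w : G ⧸ B) = (π (h : G) * (w : G ⧸ B) * (π (h : G))⁻¹) * π (h : G) := by group
    _ = (w : G ⧸ B) * π (h : G) := by rw [h3]

end main

end Cfsg.Agent.Helper1.TIH
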