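import Mathlib
import Cfsg.Agent.Helper6.ZasDefs
import Cfsg.Agent.Helper6.ZasGDefs

/-!
Zassenhaus project (helper6), G-side, piece G3t (helper1): `ZData` passes to subgroups (as types), `MProp` transports
along `G.subtype`; general transport lemmas for `Cover`, `threeGen` and closures of pairs.
-/

set_option autoImplicit false

namespace Cfsg.Agent.Helper1.ZasG

open Cfsg.Agent.Helper6.Zas Cfsg.Agent.Helper6.ZasG

/-- `Cover` transports along a group isomorphism of the covering groups -/
theorem cover_of_equiv {G G' : Type*} [Group G] [Group G'] {H : Subgroup G} {H' : Subgroup G'}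
    (e : ↥H' ≃* ↥H) {X : Type*} [Group X] (h : Cover H X) : Cover H' X := by
  obtain ⟨f, hf, hk⟩ := h
  refine ⟨f.comp e.toMonoidHom, hf.comp e.surjective, ?_⟩
  rw [← MonoidHom.comap_ker, Subgroup.comap_equiv_eq_map_symm',
    Subgroup.card_map_of_injective e.symm.injective]
  exact hk

/-- `Cover` of the image under an injective homomorphism -/
theorem cover_map_iff {G G' : Type*} [Group G] [Group G'] (φ : G →* G') (hφ : Function.Injective φ)
    (H : Subgroup G) {X : Type*} [Group X] : Cover (H.map φ) X ↔ Cover H X :=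
  ⟨cover_of_equiv (H.equivMapOfInjective φ hφ).symm.symm,
    cover_of_equiv (H.equivMapOfInjective φ hφ).symm⟩

/-- `Cover` transports along an isomorphism of the target -/
theorem cover_congr_right {G : Type*} [Group G] {H : Subgroup G} {X Y : Type*} [Group X] [Group Y]
    (e : X ≃* Y) (h : Cover H X) : Cover H Y := by
  obtain ⟨f, hf, hk⟩ := h
  refine ⟨e.toMonoidHom.comp f, e.surjective.comp hf, ?_⟩
  have : (e.toMonoidHom.comp f).ker = f.ker := by
    ext x
    simp [MonoidHom.mem_ker]
  rw [this]; exact hk

theorem map_closure_pair {G G' : Type*} [Group G] [Group G'] (φ : G →* G') (a b : G) :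
    (Subgroup.closure {a, b}).map φ = Subgroup.closure {φ a, φ b} := by
  rw [MonoidHom.map_closure, Set.image_pair]

theorem threeGen_map {G G' : Type*} [Group G] [Group G'] (φ : G →* G') (hφ : Function.Injective φ)
    (H : Subgroup G) : threeGen (H.map φ) = (threeGen H).map φ := by
  unfold threeGen
  rw [MonoidHom.map_closure]
  congr 1
  ext y
  constructor
  · rintro ⟨⟨x, hx, rfl⟩, h3⟩
    refine ⟨x, ⟨hx, ?_⟩, rfl⟩
    apply hφ
    rw [map_pow, h3, map_one]
  · rintro ⟨x, ⟨hx, h3⟩, rfl⟩
    exact ⟨⟨x, hx, rfl⟩, by rw [← map_pow, h3, map_one]⟩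

/-- PIECE G3t (transport of (M)) in general form -/
theorem mprop_map_iff {G G' : Type*} [Group G] [Group G'] (φ : G →* G') (hφ : Function.Injective φ)
    (H : Subgroup G) : MProp (H.map φ) ↔ MProp H := by
  unfold MProp
  rw [threeGen_map φ hφ, Subgroup.map_eq_bot_iff_of_injective _ hφ,
    Subgroup.card_map_of_injective hφ, cover_map_iff φ hφ, cover_map_iff φ hφ]

/-- PIECE G3t (transport of (M)). -/
theorem mprop_subgroup {G₀ : Type*} [Group G₀] (G : Subgroup G₀) (H : Subgroup G)
    (h : MProp (H.map G.subtype)) : MProp H :=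
  (mprop_map_iff G.subtype G.subtype_injective H).mp h

/-- PIECE G3t (transport to a subgroup, as a type). -/
theorem zdata_subgroup {G₀ : Type*} [Group G₀] (hZ : ZData G₀) (G : Subgroup G₀) : ZData G := by
  have hinj : Function.Injective G.subtype := G.subtype_injective
  have hord : ∀ x : G, orderOf (x : G₀) = orderOf x := fun x => Subgroup.orderOf_coe x
  have hcl2 : ∀ a b : G, (Subgroup.closure {a, b}).map G.subtype =
      Subgroup.closure {(a : G₀), (b : G₀)} := fun a b => map_closure_pair G.subtype a b
  have hcov2 : ∀ (a b : G) (X : Type) [Group X],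
      Cover (Subgroup.closure {(a : G₀), (b : G₀)}) X → Cover (Subgroup.closure {a, b}) X := by
    intro a b X _ h
    rw [← hcl2 a b] at h
    exact (cover_map_iff G.subtype hinj _).mp h
  have hcomm : ∀ a b : G, Commute (a : G₀) (b : G₀) → Commute a b := by
    intro a b h
    exact Subtype.ext h
  refine ⟨?_, ?_, ?_, ?_, ?_, ?_⟩
  · intro A hA
    have h1 : IsCyclic ↥(A.map G.subtype) := by
      apply hZ.comm_cyclic
      rintro _ ⟨x, hx, rfl⟩ _ ⟨y, hy, rfl⟩
      exact congrArg Subtype.val (hA x hx y hy)
    exact isCyclic_of_surjective (A.equivMapOfInjective G.subtype hinj).symm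
      (A.equivMapOfInjective G.subtype hinj).symm.surjective
  · intro A p q hp hq hA
    have h1 : IsCyclic ↥(A.map G.subtype) := by
      apply hZ.pq_cyclic _ p q hp hq
      rw [Subgroup.card_map_of_injective hinj]; exact hA
    exact isCyclic_of_surjective (A.equivMapOfInjective G.subtype hinj).symm
      (A.equivMapOfInjective G.subtype hinj).symm.surjective
  · intro s t hs ht
    apply Subtype.ext
    exact hZ.invol _ _ (by rw [hord]; exact hs) (by rw [hord]; exact ht)
  · intro a b ha hb
    rcases hZ.f1 a b (by rw [hord]; exact ha) (by rw [hord]; exact hb) with h | h | h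
    · left; exact hcomm a b h
    · right; left; exact hcov2 a b _ h
    · right; right; exact hcov2 a b _ h
  · intro x a hx ha
    rcases hZ.f2 x a (by rw [hord]; exact hx) (by rw [hord]; exact ha) with h | h | h | h | h
    · left; exact hcomm x a h
    · right; left; exact hcov2 x a _ h
    · right; right; left; exact hcov2 x a _ h
    · right; right; right; left; exact hcov2 x a _ h
    · right; right; right; right; exact hcov2 x a _ h
  · intro x₁ a₁ x₂ a₂ r a hx₁ ha₁ hx₂ ha₂ hr hr1 hr2 haL ha
    have hmem : ∀ (s : Set G) (y : G), y ∈ Subgroup.closure s →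
        (y : G₀) ∈ Subgroup.closure (G.subtype '' s) := by
      intro s y hy
      rw [← MonoidHom.map_closure]
      exact ⟨y, hy, rfl⟩
    have h1 := hmem _ _ hr1
    have h2 := hmem _ _ hr2
    have h3 := hmem _ _ haL
    rw [Set.image_pair] at h1 h2
    have e4 : G.subtype '' {x₁, a₁, x₂, a₂} = {(x₁ : G₀), (a₁ : G₀), (x₂ : G₀), (a₂ : G₀)} := by
      rw [Set.image_insert_eq, Set.image_insert_eq, Set.image_pair]
      rfl
    rw [e4] at h3
    rcases hZ.dk x₁ a₁ x₂ a₂ r a (by rw [hord]; exact hx₁) (by rw [hord]; exact ha₁)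
      (by rw [hord]; exact hx₂) (by rw [hord]; exact ha₂) (by rw [hord]; exact hr) h1 h2 h3
      (by rw [hord]; exact ha) with h | h
    · left; exact hcomm r a h
    · right; exact hcov2 r a _ h

end Cfsg.Agent.Helper1.ZasG
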