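import Mathlib
import Cfsg.Agent.Helper6.ZasDefs
import Cfsg.Agent.Helper6.ZasGDefs
import Cfsg.Agent.Helper6.ZasK1
import Cfsg.Agent.S0016

/-!
Zassenhaus project (helper6), G-side, piece G3a (helper1), part B: basic consequences of `ZData`:
a `p`-subgroup has a unique subgroup of order `p`; Sylow subgroups for odd primes are cyclic, also in quotients.
-/

set_option autoImplicit false
set_option linter.style.haveILetI false

namespace Cfsg.Agent.Helper1.ZasG

open Cfsg.Agent.Helper6.Zas Cfsg.Agent.Helper6.ZasG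

variable {Γ : Type*} [Group Γ]

/-- two commuting elements of the same prime order generate the same subgroup -/
theorem mem_zpowers_of_commute (hZ : ZData Γ) [Finite Γ] {p : ℕ} (hp : p.Prime) {c x : Γ}
    (hcx : c * x = x * c) (hc : orderOf c = p) (hx : orderOf x = p) : x ∈ Subgroup.zpowers c := by
  have hcomm : ∀ u ∈ ({c, x} : Set Γ), ∀ v ∈ ({c, x} : Set Γ), u * v = v * u := by
    intro u hu v hv
    rcases hu with rfl | rfl <;> rcases hv with rfl | rfl
    · rfl
    · exact hcx
    · exact hcx.symm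
    · rfl
  have hab : ∀ u ∈ Subgroup.closure ({c, x} : Set Γ), ∀ v ∈ Subgroup.closure ({c, x} : Set Γ),
      u * v = v * u := by
    intro u hu v hv
    have := (Subgroup.isMulCommutative_closure hcomm).is_comm.comm ⟨u, hu⟩ ⟨v, hv⟩
    exact congrArg Subtype.val this
  haveI := hZ.comm_cyclic _ hab
  have hcA : c ∈ Subgroup.closure ({c, x} : Set Γ) := Subgroup.subset_closure (by simp)
  have hxA : x ∈ Subgroup.closure ({c, x} : Set Γ) := Subgroup.subset_closure (by simp)
  have h1 : orderOf (⟨c, hcA⟩ : ↥(Subgroup.closure ({c, x} : Set Γ))) = p := by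
    rw [Subgroup.orderOf_mk, hc]
  have h2 : orderOf (⟨x, hxA⟩ : ↥(Subgroup.closure ({c, x} : Set Γ))) = p := by
    rw [Subgroup.orderOf_mk, hx]
  have := Cfsg.Agent.Helper6.ZasK.mem_zpowers_of_orderOf_eq_prime hp h1 h2
  obtain ⟨k, hk⟩ := Subgroup.mem_zpowers_iff.mp this
  rw [Subgroup.mem_zpowers_iff]
  refine ⟨k, ?_⟩
  have := congrArg (Subtype.val : ↥(Subgroup.closure ({c, x} : Set Γ)) → Γ) hk
  simpa using this

/-- in a `p`-subgroup all elements of order `p` lie in one cyclic subgroup -/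
theorem exists_central_order_p (hZ : ZData Γ) [Finite Γ] {p : ℕ} [hp : Fact p.Prime] (Q : Subgroup Γ)
    (hQ : IsPGroup p Q) (hQ1 : Q ≠ ⊥) :
    ∃ c ∈ Q, orderOf c = p ∧ ∀ x ∈ Q, orderOf x = p → x ∈ Subgroup.zpowers c := by
  haveI : Nontrivial ↥Q := (Subgroup.nontrivial_iff_ne_bot Q).mpr hQ1
  haveI := hQ.center_nontrivial
  have hZp : IsPGroup p ↥(Subgroup.center ↥Q) := hQ.to_subgroup _
  obtain ⟨n, hn⟩ := (IsPGroup.iff_card (p := p)).mp hZp
  have hn0 : n ≠ 0 := by
    intro h0
    rw [h0, pow_zero] at hn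
    have := (Nat.card_eq_one_iff_unique.mp hn).1
    exact not_subsingleton ↥(Subgroup.center ↥Q) this
  have hdvd : p ∣ Nat.card ↥(Subgroup.center ↥Q) := by
    rw [hn]; exact dvd_pow_self p hn0
  obtain ⟨c, hc⟩ := exists_prime_orderOf_dvd_card' p hdvd
  refine ⟨((c : ↥Q) : Γ), (c : ↥Q).2, ?_, ?_⟩
  · rw [Subgroup.orderOf_coe, Subgroup.orderOf_coe]; exact hc
  · intro x hx hxo
    apply mem_zpowers_of_commute hZ hp.out _ (by rw [Subgroup.orderOf_coe, Subgroup.orderOf_coe]; exact hc) hxo
    have hcc := Subgroup.mem_center_iff.mp c.2 ⟨x, hx⟩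
    have := congrArg (Subtype.val : ↥Q → Γ) hcc
    exact this.symm

/-- (B4): a `p`-subgroup has at most one subgroup of order `p` -/
theorem unique_order_p (hZ : ZData Γ) [Finite Γ] {p : ℕ} [hp : Fact p.Prime] (Q : Subgroup Γ)
    (hQ : IsPGroup p Q) (H K : Subgroup ↥Q) (hH : Nat.card H = p) (hK : Nat.card K = p) : H = K := by
  have hQ1 : Q ≠ ⊥ := by
    intro hb
    have h1 : Nat.card ↥Q = 1 := by rw [hb]; exact Subgroup.card_bot
    have h2 : Nat.card H ≤ Nat.card ↥Q := Subgroup.card_le_card_group H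
    rw [hH, h1] at h2
    exact absurd h2 (by have := hp.out.two_le; omega)
  obtain ⟨c, hcQ, hco, hall⟩ := exists_central_order_p hZ Q hQ hQ1
  -- every subgroup of order `p` of `Q` is `zpowers ⟨c, _⟩`
  have key : ∀ H : Subgroup ↥Q, Nat.card H = p → H = Subgroup.zpowers (⟨c, hcQ⟩ : ↥Q) := by
    intro H hH
    apply Subgroup.eq_of_le_of_card_ge
    · intro h hh
      by_cases h1 : h = 1
      · rw [h1]; exact Subgroup.one_mem _
      have hho : orderOf h = p := by
        have hdvd : orderOf (⟨h, hh⟩ : ↥H) ∣ p := by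
          rw [← hH]; exact orderOf_dvd_natCard _
        rcases (Nat.dvd_prime hp.out).mp hdvd with h' | h'
        · exfalso
          apply h1
          have := orderOf_eq_one_iff.mp h'
          exact congrArg Subtype.val this
        · rw [← h']; exact (Subgroup.orderOf_mk h hh).symm
      have := hall (h : Γ) h.2 (by rw [Subgroup.orderOf_coe]; exact hho)
      obtain ⟨k, hk⟩ := Subgroup.mem_zpowers_iff.mp this
      rw [Subgroup.mem_zpowers_iff]
      exact ⟨k, Subtype.ext (by simpa using hk)⟩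
    · rw [Nat.card_zpowers, Subgroup.orderOf_mk, hco, hH]
  rw [key H hH, key K hK]

/-- Sylow subgroups for odd primes are cyclic -/
theorem sylow_cyclic_of_odd (hZ : ZData Γ) [Finite Γ] {p : ℕ} [hp : Fact p.Prime] (hp2 : p ≠ 2)
    (Q : Sylow p Γ) : IsCyclic ↥(Q : Subgroup Γ) := by
  have hQp : IsPGroup p ↥(Q : Subgroup Γ) := Q.2
  rcases Cfsg.Agent.S0016.result p hQp (unique_order_p hZ (Q : Subgroup Γ) Q.2) with h | ⟨h, -⟩
  · exact h
  · exact absurd h hp2

/-- Sylow subgroups for odd primes of a quotient are cyclic -/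
theorem oddSylow_of_surjective (hZ : ZData Γ) [Finite Γ] {S : Type*} [Group S] (π : Γ →* S)
    (hπ : Function.Surjective π) (p : ℕ) [hp : Fact p.Prime] (hp2 : p ≠ 2) (P : Sylow p S) :
    IsCyclic ↥(P : Subgroup S) := by
  haveI : Finite S := Finite.of_surjective π hπ
  obtain ⟨Q⟩ : Nonempty (Sylow p Γ) := inferInstance
  haveI := sylow_cyclic_of_odd hZ hp2 Q
  -- the image of `Q`
  have h1 : IsCyclic ↥((Q.mapSurjective hπ : Sylow p S) : Subgroup S) := by
    have : ((Q.mapSurjective hπ : Sylow p S) : Subgroup S) = (Q : Subgroup Γ).map π := rfl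
    rw [this]
    exact isCyclic_of_surjective (π.subgroupMap (Q : Subgroup Γ)) (π.subgroupMap_surjective _)
  obtain ⟨g, hg⟩ := MulAction.exists_smul_eq S (Q.mapSurjective hπ) P
  rw [← hg]
  exact isCyclic_of_surjective (Sylow.equivSMul (Q.mapSurjective hπ) g)
    (Sylow.equivSMul (Q.mapSurjective hπ) g).surjective

end Cfsg.Agent.Helper1.ZasG
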