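import Mathlib
import Cfsg.Agent.Helper6.ZasDefs
import Cfsg.Agent.Helper6.ZasGDefs
import Cfsg.Agent.Helper1.ZasG3A

/-!
Zassenhaus project (helper6), G-side, piece G3a (helper1), part C: lifting and descent along a surjection
`π : Γ → S` whose kernel is generated by the central involution `z`.
-/

set_option autoImplicit false
set_option linter.style.haveILetI false

namespace Cfsg.Agent.Helper1.ZasG

open Cfsg.Agent.Helper6.Zas Cfsg.Agent.Helper6.ZasG

variable {Γ : Type*} [Group Γ] {S : Type*} [Group S]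

theorem sq_of_orderOf_two {z : Γ} (hz2 : orderOf z = 2) : z * z = 1 := by
  have := pow_orderOf_eq_one z
  rwa [hz2, pow_two] at this

theorem ne_one_of_orderOf_two {z : Γ} (hz2 : orderOf z = 2) : z ≠ 1 := by
  intro h
  rw [h, orderOf_one] at hz2
  norm_num at hz2

theorem mem_zpowers_two {z : Γ} (hz2 : orderOf z = 2) {g : Γ} :
    g ∈ Subgroup.zpowers z ↔ g = 1 ∨ g = z := by
  have hzz := sq_of_orderOf_two hz2
  constructor
  · intro h
    obtain ⟨k, rfl⟩ := Subgroup.mem_zpowers_iff.mp h
    rcases Int.even_or_odd' k with ⟨m, rfl | rfl⟩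
    · left
      rw [zpow_mul, zpow_two, hzz, one_zpow]
    · right
      rw [zpow_add, zpow_mul, zpow_two, hzz, one_zpow, one_mul, zpow_one]
  · rintro (rfl | rfl)
    · exact Subgroup.one_mem _
    · exact Subgroup.mem_zpowers _

section lift

variable (π : Γ →* S) (hπ : Function.Surjective π) {z : Γ} (hker : π.ker = Subgroup.zpowers z)
  (hz2 : orderOf z = 2) (hzc : ∀ g : Γ, g * z = z * g)

include hker hz2 in
theorem map_eq_one_iff {g : Γ} : π g = 1 ↔ g = 1 ∨ g = z := by
  rw [← MonoidHom.mem_ker, hker, mem_zpowers_two hz2]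

include hker in
theorem map_z : π z = 1 := by
  rw [← MonoidHom.mem_ker, hker]; exact Subgroup.mem_zpowers z

include hπ hker hz2 hzc in
/-- elements of order dividing 3 lift to elements of order dividing 3 -/
theorem exists_lift_three {s : S} (hs : s ^ 3 = 1) : ∃ g : Γ, π g = s ∧ g ^ 3 = 1 := by
  obtain ⟨g₀, rfl⟩ := hπ s
  have h1 : π (g₀ ^ 3) = 1 := by rw [map_pow]; exact hs
  rcases (map_eq_one_iff π hker hz2).mp h1 with h | h
  · exact ⟨g₀, rfl, h⟩
  · refine ⟨g₀ * z, by rw [map_mul, map_z π hker, mul_one], ?_⟩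
    have hc : Commute g₀ z := hzc g₀
    rw [hc.mul_pow, h]
    have hzz := sq_of_orderOf_two hz2
    calc z * z ^ 3 = (z * z) * (z * z) := by simp only [pow_succ, pow_zero, one_mul, mul_assoc]
      _ = 1 := by rw [hzz, one_mul]

include hπ hker hz2 hzc in
/-- elements of order 3 lift to elements of order 3 -/
theorem exists_lift_order_three {s : S} (hs : orderOf s = 3) :
    ∃ g : Γ, π g = s ∧ orderOf g = 3 := by
  have hs3 : s ^ 3 = 1 := by rw [← hs]; exact pow_orderOf_eq_one s
  obtain ⟨g, hg, hg3⟩ := exists_lift_three π hπ hker hz2 hzc hs3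
  refine ⟨g, hg, orderOf_eq_prime hg3 ?_⟩
  intro h1
  rw [h1, map_one] at hg
  rw [← hg, orderOf_one] at hs
  norm_num at hs

include hπ hker hz2 in
/-- involutions lift to elements of order 4 with square `z` -/
theorem exists_lift_two (hinv : ∀ s t : Γ, orderOf s = 2 → orderOf t = 2 → s = t) {t : S}
    (ht : orderOf t = 2) : ∃ x : Γ, π x = t ∧ x * x = z ∧ orderOf x = 4 := by
  obtain ⟨x, rfl⟩ := hπ t
  have ht2 : π x * π x = 1 := sq_of_orderOf_two ht
  have ht1 : π x ≠ 1 := ne_one_of_orderOf_two ht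
  have h1 : π (x * x) = 1 := by rw [map_mul]; exact ht2
  have hzz := sq_of_orderOf_two hz2
  have hxx : x * x = z := by
    rcases (map_eq_one_iff π hker hz2).mp h1 with h | h
    · exfalso
      have hx1 : x ≠ 1 := by
        intro hx; apply ht1; rw [hx, map_one]
      have hxo : orderOf x = 2 := orderOf_eq_prime (by rw [pow_two]; exact h) hx1
      have := hinv x z hxo hz2
      apply ht1
      rw [this]; exact map_z π hker
    · exact h
  refine ⟨x, rfl, hxx, ?_⟩
  have h4 : orderOf x = 2 ^ (1 + 1) := by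
    apply orderOf_eq_prime_pow
    · rw [pow_one, pow_two, hxx]; exact ne_one_of_orderOf_two hz2
    · have : x ^ 2 ^ (1 + 1) = (x * x) * (x * x) := by
        have e : (2 : ℕ) ^ (1 + 1) = 4 := by norm_num
        rw [e]
        simp only [pow_succ, pow_zero, one_mul, mul_assoc]
      rw [this, hxx, hzz]
  rw [h4]; norm_num

include hπ hker hz2 hzc in
/-- `threeGen X` is the image of `threeGen` of the full preimage -/
theorem threeGen_comap (X : Subgroup S) : threeGen X = (threeGen (X.comap π)).map π := by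
  unfold threeGen
  rw [MonoidHom.map_closure]
  congr 1
  ext s
  constructor
  · rintro ⟨hsX, hs3⟩
    obtain ⟨g, rfl, hg3⟩ := exists_lift_three π hπ hker hz2 hzc hs3
    exact ⟨g, ⟨hsX, hg3⟩, rfl⟩
  · rintro ⟨g, ⟨hgX, hg3⟩, rfl⟩
    exact ⟨hgX, by rw [← map_pow, hg3, map_one]⟩

include hker hz2 in
/-- a subgroup of order 3 maps isomorphically -/
theorem card_map_of_card_three (H : Subgroup Γ) (hH : Nat.card H = 3) : Nat.card ↥(H.map π) = 3 := by
  rw [← hH]
  symm
  apply Nat.card_congr
  refine Equiv.ofBijective (π.subgroupMap H) ⟨?_, π.subgroupMap_surjective H⟩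
  rw [← MonoidHom.ker_eq_bot_iff, eq_bot_iff]
  intro h hh
  rw [MonoidHom.mem_ker] at hh
  have h1 : π (h : Γ) = 1 := congrArg Subtype.val hh
  rw [Subgroup.mem_bot]
  rcases (map_eq_one_iff π hker hz2).mp h1 with h2 | h2
  · exact Subtype.ext h2
  · exfalso
    have hdvd : orderOf h ∣ 3 := by rw [← hH]; exact orderOf_dvd_natCard h
    rw [← Subgroup.orderOf_coe, h2, hz2] at hdvd
    norm_num at hdvd

include hker hz2 in
/-- descent: a double cover `H → X` induces an isomorphism `π(H) ≃* X` -/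
theorem equiv_of_cover (hinv : ∀ s t : Γ, orderOf s = 2 → orderOf t = 2 → s = t) [Finite Γ]
    (H : Subgroup Γ) {X : Type*} [Group X] (h : Cover H X) : Nonempty (↥(H.map π) ≃* X) := by
  obtain ⟨f, hf, hk⟩ := h
  -- an element of order 2 in the kernel
  haveI : Fact (Nat.Prime 2) := ⟨Nat.prime_two⟩
  obtain ⟨k, hk2⟩ := exists_prime_orderOf_dvd_card' (G := ↥f.ker) 2 (by rw [hk])
  have hkz : ((k : ↥H) : Γ) = z := by
    apply hinv _ _ _ hz2
    rw [Subgroup.orderOf_coe, Subgroup.orderOf_coe]; exact hk2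
  have hzH : z ∈ H := by rw [← hkz]; exact (k : ↥H).2
  have hzker : (⟨z, hzH⟩ : ↥H) ∈ f.ker := by
    have : (⟨z, hzH⟩ : ↥H) = (k : ↥H) := Subtype.ext hkz.symm
    rw [this]; exact k.2
  have hA : Subgroup.zpowers (⟨z, hzH⟩ : ↥H) = f.ker := by
    apply Subgroup.eq_of_le_of_card_ge
    · rw [Subgroup.zpowers_le]; exact hzker
    · rw [hk, Nat.card_zpowers, Subgroup.orderOf_mk, hz2]
  have hB : (π.subgroupMap H).ker = f.ker := by
    rw [← hA]
    ext h
    rw [MonoidHom.mem_ker]
    constructor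
    · intro hh
      have h1 : π (h : Γ) = 1 := congrArg Subtype.val hh
      have h2 : (h : Γ) ∈ Subgroup.zpowers z := by rw [← hker]; exact h1
      obtain ⟨n, hn⟩ := Subgroup.mem_zpowers_iff.mp h2
      rw [Subgroup.mem_zpowers_iff]
      exact ⟨n, Subtype.ext (by simpa using hn)⟩
    · intro hh
      obtain ⟨n, hn⟩ := Subgroup.mem_zpowers_iff.mp hh
      apply Subtype.ext
      show π (h : Γ) = 1
      rw [← hn]
      have : (((⟨z, hzH⟩ : ↥H) ^ n : ↥H) : Γ) = z ^ n := by simp
      rw [this, map_zpow, map_z π hker, one_zpow]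
  exact ⟨((QuotientGroup.quotientKerEquivOfSurjective (π.subgroupMap H)
    (π.subgroupMap_surjective H)).symm.trans (QuotientGroup.quotientMulEquivOfEq hB)).trans
    (QuotientGroup.quotientKerEquivOfSurjective f hf)⟩

end lift

end Cfsg.Agent.Helper1.ZasG
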