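import Mathlib
import Cfsg.Agent.Helper6.ZasDefs
import Cfsg.Agent.Helper6.ZasGDefs
import Cfsg.Agent.Helper1.ZasG3A
import Cfsg.Agent.Helper1.ZasG3B
import Cfsg.Agent.Helper1.ZasG3C

/-!
Zassenhaus project (helper6), G-side, piece G3a (helper1), part D: `SHyp` for the quotient `S = Γ / ⟨z⟩`.
-/

set_option autoImplicit false
set_option linter.style.haveILetI false

namespace Cfsg.Agent.Helper1.ZasG

open Cfsg.Agent.Helper6.Zas Cfsg.Agent.Helper6.ZasG

/-- commuting elements of orders 2 and 3 generate a group of order 6 -/
theorem card_closure_of_commute {S : Type*} [Group S] {t a : S} (h : Commute t a)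
    (ht : orderOf t = 2) (ha : orderOf a = 3) : Nat.card ↥(Subgroup.closure {t, a}) = 6 := by
  have h6 : orderOf (t * a) = 6 := by
    rw [h.orderOf_mul_eq_mul_orderOf_of_coprime (by rw [ht, ha]; norm_num), ht, ha]
  have ht2 : t ^ 2 = 1 := by rw [← ht]; exact pow_orderOf_eq_one t
  have ha3 : a ^ 3 = 1 := by rw [← ha]; exact pow_orderOf_eq_one a
  have e1 : (t * a) ^ 3 = t := by
    rw [h.mul_pow, ha3, mul_one, pow_succ, ht2, one_mul]
  have e2 : (t * a) ^ 4 = a := by
    rw [h.mul_pow]
    have : t ^ 4 = 1 := by
      have : t ^ 4 = (t ^ 2) ^ 2 := by rw [← pow_mul]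
      rw [this, ht2, one_pow]
    rw [this, one_mul, pow_succ, ha3, one_mul]
  have hcl : Subgroup.closure {t, a} = Subgroup.zpowers (t * a) := by
    apply le_antisymm
    · rw [Subgroup.closure_le]
      rintro x (rfl | rfl)
      · exact ⟨3, by simpa using e1⟩
      · exact ⟨4, by simpa using e2⟩
    · rw [Subgroup.zpowers_le]
      exact Subgroup.mul_mem _ (Subgroup.subset_closure (by simp)) (Subgroup.subset_closure (by simp))
  rw [hcl, Nat.card_zpowers, h6]

/-- PIECE G3a. -/
theorem shyp_of_quotient {Γ : Type*} [Group Γ] [Finite Γ] (hZ : ZData Γ) (z : Γ)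
    (hz2 : orderOf z = 2) (hzc : ∀ g : Γ, g * z = z * g) {S : Type*} [Group S] (π : Γ →* S)
    (hπ : Function.Surjective π) (hker : π.ker = Subgroup.zpowers z)
    (hM : ∀ H : Subgroup Γ, H ≠ ⊤ → MProp H) : SHyp S := by
  refine ⟨?_, ?_, ?_, ?_⟩
  · intro p _ hp2 P
    exact oddSylow_of_surjective hZ π hπ p hp2 P
  · intro X hX
    have hX' : X.comap π ≠ ⊤ := by
      intro h
      apply hX
      rw [eq_top_iff]
      intro s _
      obtain ⟨g, rfl⟩ := hπ s
      have : g ∈ X.comap π := by rw [h]; trivial
      exact this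
    rw [threeGen_comap π hπ hker hz2 hzc X]
    rcases hM _ hX' with h | h | h | h
    · left; rw [h, Subgroup.map_bot, Subgroup.card_bot]
    · right; left; exact card_map_of_card_three π hker hz2 _ h
    · right; right; left; exact equiv_of_cover π hker hz2 hZ.invol _ h
    · right; right; right; exact equiv_of_cover π hker hz2 hZ.invol _ h
  · intro a b ha hb
    obtain ⟨a', rfl, ha'⟩ := exists_lift_order_three π hπ hker hz2 hzc ha
    obtain ⟨b', rfl, hb'⟩ := exists_lift_order_three π hπ hker hz2 hzc hb
    rw [← map_closure_pair π a' b']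
    rcases hZ.f1 a' b' ha' hb' with h | h | h
    · left
      have hbz : b' ∈ Subgroup.zpowers a' :=
        mem_zpowers_of_commute hZ (by norm_num) h.eq ha' hb'
      have hcl : Subgroup.closure {a', b'} = Subgroup.zpowers a' := by
        apply le_antisymm
        · rw [Subgroup.closure_le]
          rintro x (rfl | rfl)
          · exact Subgroup.mem_zpowers _
          · exact hbz
        · rw [Subgroup.zpowers_le]; exact Subgroup.subset_closure (by simp)
      rw [hcl]
      apply card_map_of_card_three π hker hz2
      rw [Nat.card_zpowers, ha']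
    · right; left; exact equiv_of_cover π hker hz2 hZ.invol _ h
    · right; right; exact equiv_of_cover π hker hz2 hZ.invol _ h
  · intro t a ht ha
    obtain ⟨x, rfl, -, hx4⟩ := exists_lift_two π hπ hker hz2 hZ.invol ht
    obtain ⟨a', rfl, ha'⟩ := exists_lift_order_three π hπ hker hz2 hzc ha
    rcases hZ.f2 x a' hx4 ha' with h | h | h | h | h
    · left
      exact card_closure_of_commute (h.map π) ht ha
    · left
      rw [← map_closure_pair π x a']
      obtain ⟨e⟩ := equiv_of_cover π hker hz2 hZ.invol _ h
      rw [Nat.card_congr e.toEquiv, DihedralGroup.nat_card]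
    · right; left
      rw [← map_closure_pair π x a']
      exact equiv_of_cover π hker hz2 hZ.invol _ h
    · right; right; left
      rw [← map_closure_pair π x a']
      exact equiv_of_cover π hker hz2 hZ.invol _ h
    · right; right; right
      rw [← map_closure_pair π x a']
      exact equiv_of_cover π hker hz2 hZ.invol _ h

end Cfsg.Agent.Helper1.ZasG
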