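import Mathlib
import Cfsg.Agent.S0690
import Cfsg.Agent.Helper3.ZasRepC
import Cfsg.Agent.Helper8.ZasLJ
import Cfsg.Agent.Helper1.TIHallB

set_option autoImplicit false

/-!
# S4118 / S4151, Part II': consequences of a fixed-point-free action on an abelian group

`H` acting fixed-point-freely on a non-trivial finite abelian group `W`: (i) if `H` has no
subgroup isomorphic to `SL(2,5)` then `H` is solvable (Zassenhaus, S0690); (ii) the abelian
subgroups of `H` are cyclic.
-/

namespace Cfsg.Agent.Helper1.TIH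

universe u v

section perfect

variable {H : Type u} [Group H]

/-- a finite group without non-trivial perfect subgroups is solvable. -/
theorem isSolvable_of_forall_perfect_eq_bot [Finite H]
    (h : ∀ K : Subgroup H, ⁅K, K⁆ = K → K = ⊥) : Group.IsSolvable H := by
  by_contra hns
  have hne : ∀ n, derivedSeries H n ≠ ⊥ := by
    intro n hn
    exact hns ⟨⟨n, hn⟩⟩
  have hlt : ∀ n, derivedSeries H (n + 1) < derivedSeries H n := by
    intro n
    refine lt_of_le_of_ne ?_ ?_
    · rw [derivedSeries_succ]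
      rw [Subgroup.commutator_le]
      intro a ha b hb
      rw [commutatorElement_def]
      exact mul_mem (mul_mem (mul_mem ha hb) (inv_mem ha)) (inv_mem hb)
    · intro heq
      rw [derivedSeries_succ] at heq
      exact hne n (h _ heq)
  have hcard : ∀ n, Nat.card (derivedSeries H n) + n ≤ Nat.card H := by
    intro n
    induction n with
    | zero =>
      rw [derivedSeries_zero, Subgroup.card_top]; omega
    | succ n ih =>
      have := Cfsg.Agent.Helper1.card_lt_card_of_lt (hlt n)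
      omega
  have := hcard (Nat.card H + 1)
  omega

end perfect

section fpf

variable {H : Type u} [Group H] [Finite H] {W : Type v} [CommGroup W] [Finite W]

theorem injective_of_fpf [Nontrivial W] (φ : H →* MulAut W)
    (hfpf : ∀ h : H, h ≠ 1 → ∀ w : W, φ h w = w → w = 1) : Function.Injective φ := by
  rw [injective_iff_map_eq_one]
  intro h hh
  by_contra h1
  obtain ⟨w, hw⟩ := exists_ne (1 : W)
  exact hw (hfpf h h1 w (by rw [hh]; rfl))

/-- (i) Zassenhaus: no `SL(2,5)` inside `H` forces `H` solvable. -/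
theorem isSolvable_of_fpf [Nontrivial W] (φ : H →* MulAut W)
    (hfpf : ∀ h : H, h ≠ 1 → ∀ w : W, φ h w = w → w = 1)
    (hno : ∀ K : Subgroup H, ¬ Nonempty (K ≃* Matrix.SpecialLinearGroup (Fin 2) (ZMod 5))) :
    Group.IsSolvable H := by
  apply isSolvable_of_forall_perfect_eq_bot
  intro K hK
  by_contra hne
  have hinj := injective_of_fpf φ hfpf
  obtain ⟨G₀, hG₀⟩ : ∃ G₀ : Subgroup (MulAut W), G₀ = K.map φ := ⟨_, rfl⟩
  have h1 : ∀ ψ ∈ G₀, ψ ≠ 1 → ∀ k : W, ψ k = k → k = 1 := by
    rw [hG₀]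
    rintro _ ⟨k, hk, rfl⟩ hψ w hw
    exact hfpf k (fun h => hψ (by rw [h, map_one])) w hw
  have h2 : commutator ↥G₀ = ⊤ := by
    have h3 : ⁅G₀, G₀⁆ = G₀ := by rw [hG₀, ← Subgroup.map_commutator, hK]
    rw [commutator_def]
    apply Subgroup.map_injective G₀.subtype_injective
    rw [Subgroup.map_commutator, ← MonoidHom.range_eq_map, Subgroup.range_subtype, h3]
  have h3 : G₀ ≠ ⊥ := by
    intro h
    apply hne
    rw [hG₀, Subgroup.map_eq_bot_iff_of_injective K hinj] at h
    exact h
  obtain ⟨e⟩ := Cfsg.Agent.S0690.result G₀ h1 h2 h3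
  exact hno K ⟨(K.equivMapOfInjective φ hinj).trans (hG₀ ▸ e)⟩

/-- (ii) abelian subgroups of `H` are cyclic. -/
theorem isCyclic_of_fpf [Nontrivial W] (φ : H →* MulAut W)
    (hfpf : ∀ h : H, h ≠ 1 → ∀ w : W, φ h w = w → w = 1)
    (A : Subgroup H) (hA : ∀ x ∈ A, ∀ y ∈ A, x * y = y * x) : IsCyclic A := by
  have hinj := injective_of_fpf φ hfpf
  have h1 : ∀ ψ ∈ φ.range, ψ ≠ 1 → ∀ k : W, ψ k = k → k = 1 := by
    rintro _ ⟨k, rfl⟩ hψ w hw
    exact hfpf k (fun h => hψ (by rw [h, map_one])) w hw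
  haveI : Finite ↥φ.range := Finite.of_surjective φ.rangeRestrict φ.rangeRestrict_surjective
  obtain ⟨E, _, _, V, _, _, _, _, ρ, hfp, heig⟩ :=
    Cfsg.Agent.Helper3.ZasRep.exists_fpf_rep_comm φ.range inferInstance h1
  have hZ : Cfsg.Agent.Helper6.Zas.ZData ↥φ.range :=
    Cfsg.Agent.Helper8.ZasL.zdata_of_fpf ρ hfp heig
  have h2 := hZ.comm_cyclic (A.map φ.rangeRestrict) (by
    rintro _ ⟨x, hx, rfl⟩ _ ⟨y, hy, rfl⟩
    rw [← map_mul, ← map_mul, hA x hx y hy])
  have hinj' : Function.Injective φ.rangeRestrict :=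
    MonoidHom.rangeRestrict_injective_iff.mpr hinj
  exact isCyclic_of_surjective (A.equivMapOfInjective _ hinj').symm.toMonoidHom
    (MulEquiv.surjective _)

end fpf

end Cfsg.Agent.Helper1.TIH
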