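import Mathlib
import Cfsg.Agent.Helper1.TIHallB
import Cfsg.Agent.Helper1.Fitting
import Cfsg.Agent.Helper1.Fitting2
import Cfsg.Agent.Helper4.CyclicCentB
import Cfsg.Agent.Helper4.FC2A
import Cfsg.Agent.Helper4.FC2C

set_option autoImplicit false

/-!
# S4118, Part III: groups of automorphisms of order prime to `|H|` of a solvable group `H` all of
whose abelian subgroups are cyclic

If `D` normalizes `H`, `(|D|, |H|) = 1`, `H` is solvable and all abelian subgroups of `H` are
cyclic, then `[D, D]` centralizes `H`.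
-/

namespace Cfsg.Agent.Helper1.TIH

universe u

open scoped commutatorElement

section actHom

variable {Γ : Type u} [Group Γ]

/-- the conjugation action of a subgroup `D` of the normalizer of `T` on `T`. -/
def actHom (T D : Subgroup Γ) (hDT : D ≤ Subgroup.normalizer (T : Set Γ)) : ↥D →* MulAut ↥T :=
  (conjAct T).comp (Subgroup.inclusion hDT)

theorem actHom_apply_coe {T D : Subgroup Γ} (hDT : D ≤ Subgroup.normalizer (T : Set Γ)) (d : ↥D)
    (t : ↥T) : ((actHom T D hDT d t : ↥T) : Γ) = (d : Γ) * t * (d : Γ)⁻¹ := rfl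

theorem commute_of_actHom_eq_one {T D : Subgroup Γ} (hDT : D ≤ Subgroup.normalizer (T : Set Γ))
    {d : ↥D} (h : actHom T D hDT d = 1) {t : Γ} (ht : t ∈ T) : (d : Γ) * t = t * (d : Γ) := by
  have h1 : ((actHom T D hDT d ⟨t, ht⟩ : ↥T) : Γ) = t := by rw [h]; rfl
  rw [actHom_apply_coe] at h1
  exact mul_inv_eq_iff_eq_mul.mp h1

/-- if the image of `D` in `Aut T` is commutative then `[D, D]` centralizes `T`. -/
theorem commutator_le_centralizer_of_comm {T D : Subgroup Γ}
    (hDT : D ≤ Subgroup.normalizer (T : Set Γ))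
    (hcomm : ∀ a b : ↥D, actHom T D hDT a * actHom T D hDT b = actHom T D hDT b * actHom T D hDT a) :
    ⁅D, D⁆ ≤ Subgroup.centralizer (T : Set Γ) := by
  rw [Subgroup.commutator_le]
  intro a ha b hb
  rw [Subgroup.mem_centralizer_iff]
  intro t ht
  have h1 : actHom T D hDT ⁅(⟨a, ha⟩ : ↥D), ⟨b, hb⟩⁆ = 1 := by
    rw [map_commutatorElement, commutatorElement_eq_one_iff_mul_comm]
    exact hcomm _ _
  exact (commute_of_actHom_eq_one hDT h1 ht).symm

/-- the cyclic case. -/
theorem commutator_le_centralizer_of_isCyclic {T D : Subgroup Γ}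
    (hDT : D ≤ Subgroup.normalizer (T : Set Γ)) (hT : IsCyclic ↥T) :
    ⁅D, D⁆ ≤ Subgroup.centralizer (T : Set Γ) := by
  apply commutator_le_centralizer_of_comm hDT
  intro a b
  apply (IsCyclic.mulAutMulEquiv ↥T).injective
  rw [map_mul, map_mul, mul_comm]

end actHom

section quaternion

variable {Γ : Type u} [Group Γ]

/-- generalized quaternion of order at least 16: odd-order groups act trivially. -/
theorem le_centralizer_of_quaternion {T D : Subgroup Γ} [Finite D]
    (hDT : D ≤ Subgroup.normalizer (T : Set Γ)) (hD : Odd (Nat.card D)) {n : ℕ} (hn : 2 ≤ n)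
    (e : ↥T ≃* QuaternionGroup (2 ^ n)) : D ≤ Subgroup.centralizer (T : Set Γ) := by
  intro d hd
  rw [Subgroup.mem_centralizer_iff]
  intro t ht
  have h1 : (MulAut.congr e (actHom T D hDT ⟨d, hd⟩)) ^ Nat.card D = 1 := by
    rw [← map_pow, ← map_pow, pow_card_eq_one', map_one, map_one]
  have h2 := Cfsg.Agent.Helper4.FC2.aut_quaternion_odd hn hD _ h1
  have h3 : actHom T D hDT ⟨d, hd⟩ = 1 := by
    apply (MulAut.congr e).injective
    rw [h2, map_one]
  exact (commute_of_actHom_eq_one hDT h3 ht).symm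

/-- the inner automorphism group of `Q₈` has order at least 4 (and a power of 2). -/
theorem card_inn_q8 :
    4 ≤ Nat.card (MulAut.conj : QuaternionGroup 2 →* MulAut (QuaternionGroup 2)).range ∧
    Nat.card (MulAut.conj : QuaternionGroup 2 →* MulAut (QuaternionGroup 2)).range ∣ 8 := by
  have hcard : Nat.card (QuaternionGroup 2) = 8 := by
    rw [Nat.card_eq_fintype_card, QuaternionGroup.card]
  have hker : Nat.card (MulAut.conj : QuaternionGroup 2 →* MulAut (QuaternionGroup 2)).ker ≤ 2 := by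
    classical
    let Z : Finset (QuaternionGroup 2) := {QuaternionGroup.a 0, QuaternionGroup.a 2}
    have hsub : ∀ x ∈ (MulAut.conj : QuaternionGroup 2 →* MulAut (QuaternionGroup 2)).ker,
        x ∈ Z := by
      intro x hx
      rw [MonoidHom.mem_ker] at hx
      have h1 : ∀ y : QuaternionGroup 2, x * y = y * x := by
        intro y
        have h2 : MulAut.conj x y = y := by rw [hx]; rfl
        rw [MulAut.conj_apply] at h2
        exact mul_inv_eq_iff_eq_mul.mp h2
      rcases Cfsg.Agent.Helper4.FC2.q8_center x h1 with h | h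
      · rw [h]; simp [Z]
      · rw [h]; simp [Z]
    have h1 := Nat.card_le_card_of_injective
      (fun x : ↥(MulAut.conj : QuaternionGroup 2 →* MulAut (QuaternionGroup 2)).ker =>
        (⟨(x : QuaternionGroup 2), hsub x x.2⟩ : {y : QuaternionGroup 2 // y ∈ Z}))
      (fun a b h => Subtype.ext (congrArg (fun z : {y : QuaternionGroup 2 // y ∈ Z} => (z : QuaternionGroup 2)) h))
    have h2 : Nat.card {y : QuaternionGroup 2 // y ∈ Z} = 2 := by
      rw [Nat.card_eq_fintype_card, Fintype.card_coe]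
      decide
    omega
  have h1 := Subgroup.card_mul_index
    (MulAut.conj : QuaternionGroup 2 →* MulAut (QuaternionGroup 2)).ker
  rw [Subgroup.index_ker, hcard] at h1
  constructor
  · by_contra hlt
    push Not at hlt
    have : Nat.card (MulAut.conj : QuaternionGroup 2 →* MulAut (QuaternionGroup 2)).ker *
        Nat.card (MulAut.conj : QuaternionGroup 2 →* MulAut (QuaternionGroup 2)).range ≤ 2 * 3 :=
      Nat.mul_le_mul hker (by omega)
    omega
  · exact Dvd.intro_left _ h1

/-- a subgroup of odd order of `Aut Q₈` is commutative. -/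
theorem comm_of_odd_q8 (S : Subgroup (MulAut (QuaternionGroup 2))) (hS : Odd (Nat.card S)) :
    ∀ x ∈ S, ∀ y ∈ S, x * y = y * x := by
  haveI : Finite (MulAut (QuaternionGroup 2)) :=
    Finite.of_injective (fun φ : MulAut (QuaternionGroup 2) =>
      (φ : QuaternionGroup 2 → QuaternionGroup 2)) (fun _ _ h => DFunLike.ext' h)
  obtain ⟨hI4, hI8⟩ := card_inn_q8
  have hcop : (Nat.card S).Coprime
      (Nat.card (MulAut.conj : QuaternionGroup 2 →* MulAut (QuaternionGroup 2)).range) := by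
    apply Nat.Coprime.coprime_dvd_right hI8
    have : (Nat.card S).Coprime 2 := Nat.coprime_two_right.mpr hS
    exact Nat.Coprime.pow_right 3 this
  have hdisj := Subgroup.disjoint_of_coprime_natCard hcop
  have hinj := Subgroup.mul_injective_of_disjoint hdisj
  have h1 := Nat.card_le_card_of_injective _ hinj
  rw [Nat.card_prod] at h1
  have h2 := Cfsg.Agent.Helper4.FC2.card_mulAut_q8_le
  have h3 : Nat.card S ≤ 6 := by
    by_contra hlt
    push Not at hlt
    have : 7 * 4 ≤ Nat.card S *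
        Nat.card (MulAut.conj : QuaternionGroup 2 →* MulAut (QuaternionGroup 2)).range :=
      Nat.mul_le_mul hlt hI4
    omega
  have hpos : 0 < Nat.card S := Nat.card_pos
  -- `S` is cyclic
  have hcyc : IsCyclic ↥S := by
    obtain ⟨k, hk⟩ := hS
    have hk3 : k ≤ 2 := by omega
    interval_cases k
    · haveI : Subsingleton ↥S := (Nat.card_eq_one_iff_unique.mp (by omega)).1
      infer_instance
    · haveI : Fact (Nat.Prime 3) := ⟨Nat.prime_three⟩
      exact isCyclic_of_prime_card (p := 3) (by omega)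
    · haveI : Fact (Nat.Prime 5) := ⟨Nat.prime_five⟩
      exact isCyclic_of_prime_card (p := 5) (by omega)
  intro x hx y hy
  have h4 := (IsCyclic.commGroup (α := ↥S)).mul_comm (⟨x, hx⟩ : ↥S) ⟨y, hy⟩
  exact congrArg Subtype.val h4

/-- quaternion of order 8: `[D, D]` acts trivially when `|D|` is odd. -/
theorem commutator_le_centralizer_of_q8 {T D : Subgroup Γ} [Finite D]
    (hDT : D ≤ Subgroup.normalizer (T : Set Γ)) (hD : Odd (Nat.card D))
    (e : ↥T ≃* QuaternionGroup 2) : ⁅D, D⁆ ≤ Subgroup.centralizer (T : Set Γ) := by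
  apply commutator_le_centralizer_of_comm hDT
  intro a b
  obtain ⟨f, hf⟩ : ∃ f : ↥D →* MulAut (QuaternionGroup 2),
      f = (MulAut.congr e).toMonoidHom.comp (actHom T D hDT) := ⟨_, rfl⟩
  have hodd : Odd (Nat.card f.range) := by
    have h1 : Nat.card f.range ∣ Nat.card D := Subgroup.card_range_dvd f
    exact Odd.of_dvd_nat hD h1
  have h2 := comm_of_odd_q8 f.range hodd (f a) ⟨a, rfl⟩ (f b) ⟨b, rfl⟩
  apply (MulAut.congr e).injective
  rw [map_mul, map_mul]
  have h3 : ∀ c : ↥D, MulAut.congr e (actHom T D hDT c) = f c := by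
    intro c; rw [hf]; rfl
  rw [h3, h3]
  exact h2

end quaternion

section pgroup

variable {Γ : Type u} [Group Γ]

theorem commutator_self_le (D : Subgroup Γ) : ⁅D, D⁆ ≤ D := by
  rw [Subgroup.commutator_le]
  intro a ha b hb
  rw [commutatorElement_def]
  exact mul_mem (mul_mem (mul_mem ha hb) (inv_mem ha)) (inv_mem hb)

/-- a `p`-subgroup `T` of `H` normalized by `D`: `[D, D]` centralizes `T`. -/
theorem commutator_le_centralizer_of_isPGroup [Finite Γ] {H T D : Subgroup Γ} (p : ℕ)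
    [hp : Fact p.Prime] (hTH : T ≤ H) (hT : IsPGroup p T)
    (hDT : D ≤ Subgroup.normalizer (T : Set Γ)) (hcop : (Nat.card D).Coprime (Nat.card H))
    (hab : ∀ A : Subgroup Γ, A ≤ H → (∀ x ∈ A, ∀ y ∈ A, x * y = y * x) → IsCyclic A) :
    ⁅D, D⁆ ≤ Subgroup.centralizer (T : Set Γ) := by
  have hAC : Cfsg.Agent.Helper4.AbelianSubgroupsCyclic ↥T := by
    intro A hA
    have h1 : IsCyclic ↥(A.map T.subtype) := by
      apply hab
      · exact (Subgroup.map_subtype_le A).trans hTH
      · rintro _ ⟨x, hx, rfl⟩ _ ⟨y, hy, rfl⟩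
        rw [← map_mul, ← map_mul]
        congr 1
        exact congrArg Subtype.val (hA.is_comm.comm (⟨x, hx⟩ : ↥A) ⟨y, hy⟩)
    exact isCyclic_of_surjective (A.equivMapOfInjective _ T.subtype_injective).symm.toMonoidHom
      (MulEquiv.surjective _)
  rcases Cfsg.Agent.Helper4.cyclic_or_quaternion_of_abelianSubgroupsCyclic p hT hAC with
    hc | ⟨rfl, n, ⟨e⟩⟩
  · exact commutator_le_centralizer_of_isCyclic hDT hc
  · have hcardT : Nat.card ↥T = 4 * 2 ^ n := by
      rw [Nat.card_congr e.toEquiv, Nat.card_eq_fintype_card, QuaternionGroup.card]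
    have h2H : 2 ∣ Nat.card H := by
      have h1 : Nat.card ↥T ∣ Nat.card H := Subgroup.card_dvd_of_le hTH
      rw [hcardT] at h1
      exact (Dvd.intro (2 * 2 ^ n) (by ring)).trans h1
    have hD : Odd (Nat.card D) :=
      Nat.coprime_two_right.mp (Nat.Coprime.coprime_dvd_right h2H hcop)
    rcases n with _ | _ | n
    · have e' : ↥T ≃* QuaternionGroup 1 := e
      haveI := QuaternionGroup.quaternionGroup_one_isCyclic
      have hc : IsCyclic ↥T := isCyclic_of_surjective e'.symm.toMonoidHom e'.symm.surjective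
      exact commutator_le_centralizer_of_isCyclic hDT hc
    · have e' : ↥T ≃* QuaternionGroup 2 := e
      exact commutator_le_centralizer_of_q8 hDT hD e'
    · exact (commutator_self_le D).trans
        (le_centralizer_of_quaternion hDT hD (n := n + 1 + 1) (by omega) e)

end pgroup

section main

variable {Γ : Type u} [Group Γ]

theorem le_normalizer_of_conj_mem {T S : Subgroup Γ}
    (h : ∀ g ∈ S, ∀ x ∈ T, g * x * g⁻¹ ∈ T) : S ≤ Subgroup.normalizer (T : Set Γ) := by
  intro g hg
  rw [Subgroup.mem_normalizer_iff]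
  intro x
  constructor
  · exact h g hg x
  · intro hx
    have := h g⁻¹ (inv_mem hg) _ hx
    simpa [mul_assoc] using this

/-- the image in `Γ` of the `p`-core of `H`. -/
def pCoreOf (p : ℕ) (H : Subgroup Γ) : Subgroup Γ := (Cfsg.pCore p ↥H).map H.subtype

theorem pCoreOf_le (p : ℕ) (H : Subgroup Γ) : pCoreOf p H ≤ H := Subgroup.map_subtype_le _

theorem pCoreOf_isPGroup (p : ℕ) [Fact p.Prime] (H : Subgroup Γ) : IsPGroup p (pCoreOf p H) :=
  (Cfsg.Agent.Helper1.pCore_isPGroup p).map _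

theorem normalizer_le_normalizer_pCoreOf (p : ℕ) [Fact p.Prime] (H : Subgroup Γ) :
    Subgroup.normalizer (H : Set Γ) ≤ Subgroup.normalizer ((pCoreOf p H : Subgroup Γ) : Set Γ) := by
  apply le_normalizer_of_conj_mem
  rintro g hg _ ⟨y, hy, rfl⟩
  have h1 : (Cfsg.pCore p ↥H).map (conjAct H ⟨g, hg⟩).toMonoidHom ≤ Cfsg.pCore p ↥H := by
    apply Cfsg.Agent.Helper1.le_pCore
    · exact Subgroup.Normal.map inferInstance _ (conjAct H ⟨g, hg⟩).surjective
    · exact (Cfsg.Agent.Helper1.pCore_isPGroup p).map _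
  exact ⟨conjAct H ⟨g, hg⟩ y, h1 ⟨y, hy, rfl⟩, rfl⟩

/-- the image in `Γ` of the Fitting subgroup of `H` is the join of the `pCoreOf p H`. -/
theorem map_fittingSubgroup_eq [Finite Γ] (H : Subgroup Γ) :
    (Cfsg.fittingSubgroup ↥H).map H.subtype = ⨆ p : Nat.Primes, pCoreOf (p : ℕ) H := by
  rw [Cfsg.Agent.Helper1.fittingSubgroup_eq_fitJoin, Cfsg.Agent.Helper1.fitJoin, Subgroup.map_iSup]
  rfl

/-- **Part III**: `[D, D]` centralizes `H`. -/
theorem commutator_le_centralizer [Finite Γ] {H D : Subgroup Γ}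
    (hDH : D ≤ Subgroup.normalizer (H : Set Γ)) (hcop : (Nat.card D).Coprime (Nat.card H))
    (hsol : Group.IsSolvable ↥H)
    (hab : ∀ A : Subgroup Γ, A ≤ H → (∀ x ∈ A, ∀ y ∈ A, x * y = y * x) → IsCyclic A) :
    ⁅D, D⁆ ≤ Subgroup.centralizer (H : Set Γ) := by
  obtain ⟨E, hE⟩ : ∃ E : Subgroup Γ, E = ⁅D, D⁆ := ⟨_, rfl⟩
  rw [← hE]
  have hED : E ≤ D := by rw [hE]; exact commutator_self_le D
  obtain ⟨F, hF⟩ : ∃ F : Subgroup Γ, F = (Cfsg.fittingSubgroup ↥H).map H.subtype := ⟨_, rfl⟩
  have hFH : F ≤ H := by rw [hF]; exact Subgroup.map_subtype_le _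
  -- `E` centralizes `F`
  have hEF : F ≤ Subgroup.centralizer (E : Set Γ) := by
    rw [hF, map_fittingSubgroup_eq]
    apply iSup_le
    intro p
    haveI : Fact (p : ℕ).Prime := ⟨p.2⟩
    rw [Subgroup.le_centralizer_iff, hE]
    exact commutator_le_centralizer_of_isPGroup (p : ℕ) (pCoreOf_le _ H) (pCoreOf_isPGroup _ H)
      (hDH.trans (normalizer_le_normalizer_pCoreOf _ H)) hcop hab
  -- `C_H(F) ≤ F`
  have hCF : ∀ x ∈ H, x ∈ Subgroup.centralizer (F : Set Γ) → x ∈ F := by
    intro x hx hxc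
    have h1 : (⟨x, hx⟩ : ↥H) ∈ Subgroup.centralizer (Cfsg.fittingSubgroup ↥H : Set ↥H) := by
      rw [Subgroup.mem_centralizer_iff]
      intro y hy
      apply Subtype.ext
      rw [Subgroup.coe_mul, Subgroup.coe_mul]
      exact Subgroup.mem_centralizer_iff.mp hxc (y : Γ) (hF ▸ Subgroup.mem_map_of_mem _ hy)
    have h2 := Cfsg.Agent.Helper1.centralizer_fittingSubgroup_le h1
    rw [hF]
    exact ⟨⟨x, hx⟩, h2, rfl⟩
  -- `F` is normal in `H`
  have hFn : ⁅F, H⁆ ≤ F := by
    rw [Subgroup.commutator_le]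
    rintro _ hf h hh
    rw [hF] at hf ⊢
    obtain ⟨f, hf, rfl⟩ := hf
    refine ⟨⁅f, ⟨h, hh⟩⁆, ?_, rfl⟩
    rw [commutatorElement_def]
    have hn : (Cfsg.fittingSubgroup ↥H).Normal := inferInstance
    have h1 := hn.conj_mem f⁻¹ (inv_mem hf) ⟨h, hh⟩
    have : f * ⟨h, hh⟩ * f⁻¹ * (⟨h, hh⟩ : ↥H)⁻¹ = f * (⟨h, hh⟩ * f⁻¹ * (⟨h, hh⟩ : ↥H)⁻¹) := by
      group
    rw [this]
    exact mul_mem hf h1
  -- three subgroups
  have h1 : ⁅⁅E, F⁆, H⁆ = ⊥ := by
    have : ⁅E, F⁆ = ⊥ := by
      rw [Subgroup.commutator_eq_bot_iff_le_centralizer, Subgroup.le_centralizer_iff]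
      exact hEF
    rw [this, Subgroup.commutator_bot_left]
  have h2 : ⁅⁅F, H⁆, E⁆ = ⊥ := by
    rw [eq_bot_iff]
    refine (Subgroup.commutator_mono hFn le_rfl).trans ?_
    rw [le_bot_iff, Subgroup.commutator_eq_bot_iff_le_centralizer]
    exact hEF
  have h3 : ⁅⁅H, E⁆, F⁆ = ⊥ := Subgroup.commutator_commutator_eq_bot_of_rotate h1 h2
  rw [Subgroup.commutator_eq_bot_iff_le_centralizer] at h3
  have hYH : ⁅H, E⁆ ≤ H := by
    rw [Subgroup.commutator_le]
    intro h hh e he
    rw [commutatorElement_def]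
    have h4 : e * h⁻¹ * e⁻¹ ∈ H :=
      (Subgroup.mem_normalizer_iff.mp (hDH (hED he)) h⁻¹).mp (inv_mem hh)
    have : h * e * h⁻¹ * e⁻¹ = h * (e * h⁻¹ * e⁻¹) := by group
    rw [this]
    exact mul_mem hh h4
  have hYF : ⁅H, E⁆ ≤ F := fun y hy => hCF y (hYH hy) (h3 hy)
  -- the coprime action argument
  intro e he
  rw [Subgroup.mem_centralizer_iff]
  intro x hx
  obtain ⟨y, hy⟩ : ∃ y : Γ, y = x⁻¹ * e * x * e⁻¹ := ⟨_, rfl⟩
  have hyY : y ∈ ⁅H, E⁆ := by
    have : y = ⁅x⁻¹, e⁆ := by rw [hy, commutatorElement_def, inv_inv]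
    rw [this]
    exact Subgroup.commutator_mem_commutator (inv_mem hx) he
  have hye : e * y = y * e :=
    (Subgroup.mem_centralizer_iff.mp (hEF (hYF hyY)) e he)
  have hconj : e * x * e⁻¹ = x * y := by rw [hy]; group
  have hpow : ∀ m : ℕ, e ^ m * x * (e ^ m)⁻¹ = x * y ^ m := by
    intro m
    induction m with
    | zero => simp
    | succ m ih =>
      have hyem : e * y ^ m * e⁻¹ = y ^ m := by
        have : Commute e (y ^ m) := (show Commute e y from hye).pow_right m
        rw [this.eq, mul_inv_cancel_right]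
      calc e ^ (m + 1) * x * (e ^ (m + 1))⁻¹
          = e * (e ^ m * x * (e ^ m)⁻¹) * e⁻¹ := by rw [pow_succ']; group
        _ = e * (x * y ^ m) * e⁻¹ := by rw [ih]
        _ = (e * x * e⁻¹) * (e * y ^ m * e⁻¹) := by group
        _ = x * y * y ^ m := by rw [hconj, hyem]
        _ = x * y ^ (m + 1) := by rw [pow_succ', mul_assoc]
  have he1 : e ^ Nat.card D = 1 := by
    have := pow_card_eq_one' (G := ↥D) (x := ⟨e, hED he⟩)
    exact congrArg Subtype.val this
  have hy1 : y ^ Nat.card D = 1 := by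
    have := hpow (Nat.card D)
    rw [he1, one_mul, inv_one, mul_one] at this
    exact (mul_eq_left.mp this.symm)
  have hy2 : y ^ Nat.card H = 1 := by
    have := pow_card_eq_one' (G := ↥H) (x := ⟨y, hYH hyY⟩)
    exact congrArg Subtype.val this
  have hy0 : y = 1 := by
    have h5 : orderOf y ∣ Nat.card D := orderOf_dvd_of_pow_eq_one hy1
    have h6 : orderOf y ∣ Nat.card H := orderOf_dvd_of_pow_eq_one hy2
    exact orderOf_eq_one_iff.mp (Nat.Coprime.eq_one_of_dvd (Nat.Coprime.coprime_dvd_left h5 hcop) h6)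
  rw [hy0, mul_one] at hconj
  calc x * e = (e * x * e⁻¹) * e := by rw [hconj]
    _ = e * x := by group

end main

end Cfsg.Agent.Helper1.TIH
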