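import Mathlib
import Cfsg.Agent.Helper1.Frobenius

set_option autoImplicit false

/-!
# The automorphism group of `Q₈` has order dividing 24
-/

namespace Cfsg.Agent.Helper1.ZNF

open QuaternionGroup

/-- a non-abelian subgroup of a group of order 8 is everything -/
theorem eq_top_of_noncomm_of_card_eight {Q : Type*} [Group Q] [Finite Q] (hQ : Nat.card Q = 8)
    (S : Subgroup Q) (u v : Q) (hu : u ∈ S) (hv : v ∈ S) (huv : u * v ≠ v * u) : S = ⊤ := by
  haveI : Fact (Nat.Prime 2) := ⟨Nat.prime_two⟩
  have hdvd : Nat.card S ∣ 8 := hQ ▸ S.card_subgroup_dvd_card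
  have hpos : 0 < Nat.card S := Nat.card_pos
  have hle : Nat.card S ≤ 8 := Nat.le_of_dvd (by norm_num) hdvd
  have hcomm_false : IsMulCommutative S → False := by
    intro h
    exact huv (congrArg Subtype.val (h.is_comm.comm ⟨u, hu⟩ ⟨v, hv⟩))
  have hcases : Nat.card S = 1 ∨ Nat.card S = 2 ∨ Nat.card S = 4 ∨ Nat.card S = 8 := by
    interval_cases h : Nat.card S <;> simp_all <;> omega
  rcases hcases with h | h | h | h
  · exfalso
    apply hcomm_false
    haveI : Subsingleton S := (Nat.card_eq_one_iff_unique.1 h).1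
    exact ⟨⟨fun a b => Subsingleton.elim _ _⟩⟩
  · exfalso
    apply hcomm_false
    haveI : Fact (Nat.card S).Prime := ⟨by rw [h]; exact Nat.prime_two⟩
    haveI := isCyclic_of_prime_card (α := S) rfl
    exact ⟨⟨fun a b => IsCyclic.commGroup.mul_comm a b⟩⟩
  · exfalso
    apply hcomm_false
    exact IsPGroup.isMulCommutative_of_card_eq_prime_sq (p := 2) (by rw [h]; norm_num)
  · exact (Subgroup.card_eq_iff_eq_top S).1 (by rw [h, hQ])

theorem card_quaternion_two : Nat.card (QuaternionGroup 2) = 8 := by
  rw [Nat.card_eq_fintype_card, QuaternionGroup.card]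

/-- the set of non-commuting pairs of `Q₈` has 24 elements -/
theorem card_noncomm_pairs :
    Fintype.card {q : QuaternionGroup 2 × QuaternionGroup 2 // q.1 * q.2 ≠ q.2 * q.1} = 24 := by
  decide

/-- the non-commuting pairs of `Q₈`, as a set with an action of the automorphism group -/
def noncommPairs : SubMulAction (MulAut (QuaternionGroup 2))
    (QuaternionGroup 2 × QuaternionGroup 2) where
  carrier := {q | q.1 * q.2 ≠ q.2 * q.1}
  smul_mem' := by
    intro φ q hq h
    apply hq
    have h1 : φ q.1 * φ q.2 = φ q.2 * φ q.1 := h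
    rw [← map_mul, ← map_mul] at h1
    exact φ.injective h1

theorem card_mulAut_quaternion_dvd : Nat.card (MulAut (QuaternionGroup 2)) ∣ 24 := by
  classical
  haveI : Finite (MulAut (QuaternionGroup 2)) := inferInstance
  have h24 : Nat.card ↥noncommPairs = 24 := by
    rw [← card_noncomm_pairs, ← Nat.card_eq_fintype_card]
    rfl
  rw [← h24]
  apply Cfsg.Agent.Helper1.card_dvd_of_free
  rintro ⟨⟨u, v⟩, huv⟩
  rw [eq_bot_iff]
  intro φ hφ
  rw [MulAction.mem_stabilizer_iff] at hφ
  have h1 : (φ • (⟨(u, v), huv⟩ : ↥noncommPairs) : ↥noncommPairs).1 = (u, v) := by rw [hφ]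
  have hu : φ u = u := congrArg Prod.fst h1
  have hv : φ v = v := congrArg Prod.snd h1
  set F : Subgroup (QuaternionGroup 2) :=
    (φ.toMonoidHom).eqLocus (MonoidHom.id (QuaternionGroup 2)) with hF
  have hFtop : F = ⊤ :=
    eq_top_of_noncomm_of_card_eight card_quaternion_two F u v hu hv huv
  rw [Subgroup.mem_bot]
  ext g
  have : g ∈ F := by rw [hFtop]; trivial
  exact this

/-- the centralizer of a normal `Q₈` has index dividing 24 -/
theorem index_centralizer_dvd {G : Type*} [Group G] [Finite G] (N : Subgroup G) [hN : N.Normal]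
    (e : N ≃* QuaternionGroup 2) : (Subgroup.centralizer (N : Set G)).index ∣ 24 := by
  set f : G →* MulAut N := MulAut.conjNormal with hf
  have hker : f.ker = Subgroup.centralizer (N : Set G) := by
    ext g
    rw [MonoidHom.mem_ker, Subgroup.mem_centralizer_iff]
    constructor
    · intro hg n hn
      have h1 : f g ⟨n, hn⟩ = ⟨n, hn⟩ := by rw [hg]; rfl
      have h2 : g * n * g⁻¹ = n := by
        have := congrArg Subtype.val h1
        simpa [hf, MulAut.conjNormal_apply] using this
      calc n * g = (g * n * g⁻¹) * g := by rw [h2]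
        _ = g * n := by group
    · intro hg
      ext n
      have h1 := hg n n.2
      simp only [hf, MulAut.conjNormal_apply, MulAut.one_apply]
      rw [← h1, mul_inv_cancel_right]
  rw [← hker, Subgroup.index_ker]
  have h1 : Nat.card f.range ∣ Nat.card (MulAut N) := Subgroup.card_subgroup_dvd_card _
  have h2 : Nat.card (MulAut N) = Nat.card (MulAut (QuaternionGroup 2)) :=
    Nat.card_congr (MulAut.congr e).toEquiv
  rw [h2] at h1
  exact h1.trans card_mulAut_quaternion_dvd

end Cfsg.Agent.Helper1.ZNF
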