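import Mathlib
import Cfsg.Agent.Helper1.Frobenius

set_option autoImplicit false

/-!
# Linear algebra for a quaternion group acting freely on a vector space over `ZMod p`
-/

namespace Cfsg.Agent.Helper1.ZNF

variable {p : ℕ} [hp : Fact p.Prime] {V : Type*} [AddCommGroup V] [Module (ZMod p) V] [Finite V]

/-- an involution acting freely is `-1` -/
theorem invol_eq_neg {A : Type*} [Group A] (φ : A →* (V ≃ₗ[ZMod p] V))
    (hfree : ∀ a : A, ∀ v : V, v ≠ 0 → φ a v = v → a = 1) (t : A) (ht1 : t ≠ 1)
    (htt : t * t = 1) (v : V) : φ t v = -v := by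
  by_contra hne
  have hw : φ t v + v ≠ 0 := by
    intro h
    exact hne (eq_neg_of_add_eq_zero_left h)
  apply ht1
  apply hfree t (φ t v + v) hw
  rw [map_add]
  have h1 : φ t (φ t v) = v := by
    have : φ (t * t) v = v := by rw [htt, map_one]; rfl
    rwa [map_mul] at this
  rw [h1, add_comm]

/-- a group acting linearly and freely on the non-zero vectors: its order divides `|W| - 1` for
every invariant subspace `W` -/
theorem card_dvd_card_sub_one {A : Type*} [Group A] [Finite A] (φ : A →* (V ≃ₗ[ZMod p] V))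
    (hfree : ∀ a : A, ∀ v : V, v ≠ 0 → φ a v = v → a = 1) (W : Submodule (ZMod p) V)
    (hW : ∀ a : A, ∀ w ∈ W, φ a w ∈ W) : Nat.card A ∣ Nat.card W - 1 := by
  classical
  letI : MulAction A {w : W // w ≠ 0} :=
    { smul := fun a w => ⟨⟨φ a (w.1 : V), hW a _ w.1.2⟩, by
        intro h
        apply w.2
        have h1 : φ a (w.1 : V) = 0 := congrArg Subtype.val h
        have h2 : (w.1 : V) = 0 := (LinearEquiv.map_eq_zero_iff _).1 h1
        exact Subtype.ext h2⟩
      one_smul := by
        intro w
        apply Subtype.ext; apply Subtype.ext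
        show φ 1 (w.1 : V) = (w.1 : V)
        rw [map_one]; rfl
      mul_smul := by
        intro a b w
        apply Subtype.ext; apply Subtype.ext
        show φ (a * b) (w.1 : V) = φ a (φ b (w.1 : V))
        rw [map_mul]; rfl }
  have hcard : Nat.card {w : W // w ≠ 0} = Nat.card W - 1 := by
    haveI := Fintype.ofFinite W
    rw [Nat.card_eq_fintype_card, Nat.card_eq_fintype_card, Fintype.card_subtype_compl,
      Fintype.card_subtype_eq]
  rw [← hcard]
  apply Cfsg.Agent.Helper1.card_dvd_of_free
  intro w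
  rw [eq_bot_iff]
  intro a ha
  rw [MulAction.mem_stabilizer_iff] at ha
  have h1 : φ a (w.1 : V) = (w.1 : V) := by
    have := congrArg (fun u : {w : W // w ≠ 0} => ((u.1 : W) : V)) ha
    exact this
  have h2 : (w.1 : V) ≠ 0 := fun h => w.2 (Subtype.ext h)
  rw [Subgroup.mem_bot]
  exact hfree a _ h2 h1

/-- If `E² = 1` and an invertible `K` anticommutes with `E` (odd characteristic), then
`|V| = |ker (E - 1)|²`. -/
theorem card_eq_sq_of_anticommute (hp2 : p ≠ 2) (E : V →ₗ[ZMod p] V) (K : V ≃ₗ[ZMod p] V)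
    (hE : ∀ v, E (E v) = v) (hKE : ∀ v, K (E v) = -E (K v)) :
    Nat.card V = Nat.card (LinearMap.ker (E - LinearMap.id)) ^ 2 := by
  classical
  set Wp := LinearMap.ker (E - LinearMap.id) with hWp
  set Wm := LinearMap.ker (E + LinearMap.id) with hWm
  have memp : ∀ v : V, v ∈ Wp ↔ E v = v := by
    intro v
    rw [hWp, LinearMap.mem_ker, LinearMap.sub_apply, LinearMap.id_apply, sub_eq_zero]
  have memm : ∀ v : V, v ∈ Wm ↔ E v = -v := by
    intro v
    rw [hWm, LinearMap.mem_ker, LinearMap.add_apply, LinearMap.id_apply, add_eq_zero_iff_eq_neg]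
  have h2 : (2 : ZMod p) ≠ 0 := by
    intro h
    have h3 : ((2 : ℕ) : ZMod p) = 0 := by exact_mod_cast h
    rw [ZMod.natCast_eq_zero_iff] at h3
    have := (Nat.prime_dvd_prime_iff_eq hp.out Nat.prime_two).1 h3
    exact hp2 this
  -- `K` exchanges the two eigenspaces
  have hKp : ∀ v ∈ Wp, K v ∈ Wm := by
    intro v hv
    rw [memm]
    have := hKE v
    rw [(memp v).1 hv] at this
    exact (neg_eq_iff_eq_neg.2 this).symm
  have hKm : ∀ v ∈ Wm, K v ∈ Wp := by
    intro v hv
    rw [memp]
    have := hKE v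
    rw [(memm v).1 hv, map_neg] at this
    rw [neg_eq_iff_eq_neg] at this
    rw [← neg_neg (E (K v)), ← this]
  have hc1 : Nat.card Wp ≤ Nat.card Wm := by
    apply Nat.card_le_card_of_injective (fun v : Wp => (⟨K v.1, hKp v.1 v.2⟩ : Wm))
    intro a b hab
    have : K a.1 = K b.1 := congrArg Subtype.val hab
    exact Subtype.ext (K.injective this)
  have hc2 : Nat.card Wm ≤ Nat.card Wp := by
    apply Nat.card_le_card_of_injective (fun v : Wm => (⟨K v.1, hKm v.1 v.2⟩ : Wp))
    intro a b hab
    have : K a.1 = K b.1 := congrArg Subtype.val hab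
    exact Subtype.ext (K.injective this)
  have hc : Nat.card Wm = Nat.card Wp := le_antisymm hc2 hc1
  -- the decomposition
  have hinv : (2 : ZMod p)⁻¹ * 2 = 1 := inv_mul_cancel₀ h2
  have htwo : ∀ v : V, (2 : ZMod p)⁻¹ • (v + v) = v := by
    intro v
    rw [← two_smul (ZMod p) v, smul_smul, hinv, one_smul]
  let f : V → Wp × Wm := fun v =>
    (⟨(2 : ZMod p)⁻¹ • (v + E v), by
        rw [memp, map_smul, map_add, hE, add_comm]⟩,
      ⟨(2 : ZMod p)⁻¹ • (v - E v), by
        rw [memm, map_smul, map_sub, hE, ← smul_neg, neg_sub]⟩)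
  have hf : Function.Bijective f := by
    constructor
    · intro a b hab
      have h1 : (2 : ZMod p)⁻¹ • (a + E a) = (2 : ZMod p)⁻¹ • (b + E b) :=
        congrArg (fun t : Wp × Wm => (t.1 : V)) hab
      have h3 : (2 : ZMod p)⁻¹ • (a - E a) = (2 : ZMod p)⁻¹ • (b - E b) :=
        congrArg (fun t : Wp × Wm => (t.2 : V)) hab
      have h4 := congrArg₂ (· + ·) h1 h3
      simp only [← smul_add] at h4
      have e1 : a + E a + (a - E a) = a + a := by abel
      have e2 : b + E b + (b - E b) = b + b := by abel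
      rw [e1, e2, htwo, htwo] at h4
      exact h4
    · rintro ⟨u, w⟩
      refine ⟨(u : V) + (w : V), ?_⟩
      have hu := (memp _).1 u.2
      have hw := (memm _).1 w.2
      apply Prod.ext
      · apply Subtype.ext
        show (2 : ZMod p)⁻¹ • ((u : V) + (w : V) + E ((u : V) + (w : V))) = (u : V)
        rw [map_add, hu, hw]
        have : (u : V) + (w : V) + ((u : V) + -(w : V)) = (u : V) + (u : V) := by abel
        rw [this, htwo]
      · apply Subtype.ext
        show (2 : ZMod p)⁻¹ • ((u : V) + (w : V) - E ((u : V) + (w : V))) = (w : V)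
        rw [map_add, hu, hw]
        have : (u : V) + (w : V) - ((u : V) + -(w : V)) = (w : V) + (w : V) := by abel
        rw [this, htwo]
  rw [Nat.card_congr (Equiv.ofBijective f hf), Nat.card_prod, hc, sq]

end Cfsg.Agent.Helper1.ZNF
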