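import Mathlib
import Cfsg.Agent.Helper1.TIHallA
import Cfsg.Agent.Helper1.TIHallC
import Cfsg.Agent.Helper1.TIHallD
import Cfsg.Agent.Helper5.Z89D

set_option autoImplicit false

/-!
# S4118, Part IV: assembly
-/

namespace Cfsg.Agent.Helper1.TIH

universe u

variable {G : Type u} [Group G]

open scoped commutatorElement

/-- Schur–Zassenhaus in the normalizer: a complement `Q` of `H` in `N_G(H)`. -/
theorem exists_complement_in_normalizer [Finite G] (H : Subgroup G)
    (hHall : (Nat.card H).Coprime (H.subgroupOf (Subgroup.normalizer (H : Set G))).index) :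
    ∃ Q : Subgroup G, Q ≤ Subgroup.normalizer (H : Set G) ∧ Q ⊓ H = ⊥ ∧
      Q ⊔ H = Subgroup.normalizer (H : Set G) ∧ (Nat.card Q).Coprime (Nat.card H) := by
  haveI : (H.subgroupOf (Subgroup.normalizer (H : Set G))).Normal := Subgroup.normal_in_normalizer
  have hcard : Nat.card (H.subgroupOf (Subgroup.normalizer (H : Set G))) = Nat.card H :=
    card_subgroupOf_of_le Subgroup.le_normalizer
  obtain ⟨Q', hQ'⟩ := Subgroup.exists_left_complement'_of_coprime
    (N := H.subgroupOf (Subgroup.normalizer (H : Set G))) (by rw [hcard]; exact hHall)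
  refine ⟨Q'.map (Subgroup.normalizer (H : Set G)).subtype, Subgroup.map_subtype_le _, ?_, ?_, ?_⟩
  · apply inf_eq_bot_of_coprime_card
    rw [Subgroup.card_map_of_injective (Subgroup.subtype_injective _), ← hQ'.index_eq_card]
    exact hHall.symm
  · have h1 := congrArg (Subgroup.map (Subgroup.normalizer (H : Set G)).subtype) hQ'.sup_eq_top
    rw [Subgroup.map_sup, Subgroup.subgroupOf_map_subtype, ← MonoidHom.range_eq_map,
      Subgroup.range_subtype, inf_eq_left.mpr Subgroup.le_normalizer] at h1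
    exact h1
  · rw [Subgroup.card_map_of_injective (Subgroup.subtype_injective _), ← hQ'.index_eq_card]
    exact hHall.symm

/-- `O ⊔ H` is solvable when `O` (normal) and `H` are. -/
theorem isSolvable_sup_of_normal (O H : Subgroup G) [O.Normal] (hO : Group.IsSolvable ↥O)
    (hH : Group.IsSolvable ↥H) : Group.IsSolvable ↥(H ⊔ O) := by
  rw [Group.isSolvable_iff_subgroup_quotient (O.subgroupOf (H ⊔ O))]
  constructor
  · exact Group.isSolvable_of_surjective
      (f := (Subgroup.subgroupOfEquivOfLe (le_sup_right : O ≤ H ⊔ O)).symm.toMonoidHom)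
      (MulEquiv.surjective _)
  · have e := QuotientGroup.quotientInfEquivProdNormalQuotient H O
    exact Group.isSolvable_of_surjective (f := e.toMonoidHom) e.surjective

/-- if `G = R Q` with `R` normal and `[Q, Q] ≤ R` then `G / R` is commutative. -/
theorem quotient_comm_of_sup_eq_top {R Q : Subgroup G} [R.Normal] (h : R ⊔ Q = ⊤)
    (hQ : ⁅Q, Q⁆ ≤ R) : ∀ a b : G ⧸ R, a * b = b * a := by
  have h1 : Q.map (QuotientGroup.mk' R) = ⊤ := by
    have := congrArg (Subgroup.map (QuotientGroup.mk' R)) h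
    rw [Subgroup.map_sup, Subgroup.map_top_of_surjective _ (QuotientGroup.mk'_surjective R)] at this
    rw [← this, (Subgroup.map_eq_bot_iff R).mpr (by rw [QuotientGroup.ker_mk']), bot_sup_eq]
  intro a b
  have ha : a ∈ Q.map (QuotientGroup.mk' R) := by rw [h1]; trivial
  have hb : b ∈ Q.map (QuotientGroup.mk' R) := by rw [h1]; trivial
  obtain ⟨x, hx, rfl⟩ := ha
  obtain ⟨y, hy, rfl⟩ := hb
  rw [← map_mul, ← map_mul]
  apply QuotientGroup.eq.mpr
  have : (x * y)⁻¹ * (y * x) = ⁅y⁻¹, x⁻¹⁆ := by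
    rw [commutatorElement_def]; group
  rw [this]
  exact hQ (Subgroup.commutator_mem_commutator (inv_mem hy) (inv_mem hx))

/-- `O ⊔ E` is normal when `G = O S` with `O` normal and `S` normalizing `E`. -/
theorem sup_normal_of_le_normalizer {O E S : Subgroup G} (hOn : O.Normal) (hS : O ⊔ S = ⊤)
    (hSE : S ≤ Subgroup.normalizer (E : Set G)) : (O ⊔ E).Normal := by
  haveI := hOn
  rw [← Subgroup.normalizer_eq_top_iff, eq_top_iff, ← hS]
  apply sup_le
  · exact le_sup_left.trans Subgroup.le_normalizer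
  · apply le_normalizer_of_conj_mem
    intro g hg x hx
    have h1 : (O ⊔ E).map (MulAut.conj g).toMonoidHom ≤ O ⊔ E := by
      rw [Subgroup.map_sup]
      apply sup_le_sup
      · rintro _ ⟨a, ha, rfl⟩
        exact hOn.conj_mem a ha g
      · rintro _ ⟨b, hb, rfl⟩
        exact (Subgroup.mem_normalizer_iff.mp (hSE hg) b).mp hb
    exact h1 ⟨x, hx, rfl⟩

/-- **S4118**. -/
theorem main_S4118 [Finite G] (H : Subgroup G)
    (hTI : Cfsg.IsTISubset (H : Set G)) (hnn : ¬ H.Normal)
    (hHall : (Nat.card H).Coprime (H.subgroupOf (Subgroup.normalizer (H : Set G))).index)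
    (hsep : ∃ (n : ℕ) (M : Fin (n + 1) → Subgroup G), M 0 = ⊥ ∧ M (Fin.last n) = ⊤ ∧ Monotone M ∧
      (∀ i, (M i).Normal) ∧
      ∀ i : Fin n, (∀ q : ℕ, q.Prime → q ∣ (M i.castSucc).relIndex (M i.succ) → q ∣ Nat.card H) ∨
        ((M i.castSucc).relIndex (M i.succ)).Coprime (Nat.card H))
    (O : Subgroup G)
    (hO : O = sSup {K : Subgroup G | K.Normal ∧ (Nat.card K).Coprime (Nat.card H)}) :
    O ⊔ Subgroup.normalizer (H : Set G) = ⊤ ∧ (O ⊔ H).Normal ∧
    (Group.IsSolvable G ↔ Group.IsSolvable O ∧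
      ∀ K : Subgroup G, K ≤ H →
        ¬ Nonempty (K ≃* Matrix.SpecialLinearGroup (Fin 2) (ZMod 5))) := by
  have hOn : O.Normal := by rw [hO]; exact Subgroup.sSup_normal _ (fun _ h => h.1)
  have hOc : (Nat.card O).Coprime (Nat.card H) := by
    rw [hO]; exact Cfsg.Agent.Helper1.sSup_normal_coprime _ _ (fun _ h => h)
  have hOmax : ∀ K : Subgroup G, K.Normal → (Nat.card K).Coprime (Nat.card H) → K ≤ O := by
    intro K h1 h2
    rw [hO]; exact le_sSup ⟨h1, h2⟩
  have hsup := sup_normalizer_eq_top hTI hHall hsep hOn hOc hOmax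
  have hnorm := sup_normal_of_sup_normalizer_eq_top hOn hsup
  refine ⟨hsup, hnorm, ?_, ?_⟩
  · intro hG
    refine ⟨inferInstance, ?_⟩
    rintro K - ⟨e⟩
    exact Cfsg.Agent.Helper5.Z89.not_solvable_SL25
      (Group.isSolvable_of_surjective (f := e.toMonoidHom) e.surjective)
  · rintro ⟨hOs, hno⟩
    haveI := hOn
    have hOH : O ⊓ H = ⊥ := inf_eq_bot_of_coprime_card hOc
    have hfix : ∀ x ∈ O, ∀ h ∈ H, h ≠ 1 → x * h = h * x → ∀ k ∈ H, x * k = k * x :=
      fun x hx h hh h1 hc k hk => commute_of_commute hTI hOn hOH hx hh h1 hc hk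
    have hne : ∃ x ∈ O, ∃ k ∈ H, x * k ≠ k * x := by
      obtain ⟨x, hxO, hxN⟩ := SetLike.not_le_iff_exists.mp (not_le_normalizer hnn hsup)
      refine ⟨x, hxO, ?_⟩
      by_contra hall
      push Not at hall
      apply hxN
      apply Subgroup.centralizer_le_normalizer
      rw [Subgroup.mem_centralizer_iff]
      intro k hk
      exact (hall k hk).symm
    obtain ⟨W, instW, instF, φ, hnt, hfpf⟩ := exists_fpf_action hOn hOs hOc hfix hne
    have hHs : Group.IsSolvable ↥H := by
      apply isSolvable_of_fpf φ hfpf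
      rintro K ⟨e⟩
      exact hno (K.map H.subtype) (Subgroup.map_subtype_le K)
        ⟨(K.equivMapOfInjective _ H.subtype_injective).symm.trans e⟩
    have hab : ∀ A : Subgroup G, A ≤ H → (∀ x ∈ A, ∀ y ∈ A, x * y = y * x) → IsCyclic A := by
      intro A hAH hA
      have h1 : IsCyclic ↥(A.subgroupOf H) := by
        apply isCyclic_of_fpf φ hfpf
        intro x hx y hy
        apply Subtype.ext
        rw [Subgroup.coe_mul, Subgroup.coe_mul]
        exact hA _ (Subgroup.mem_subgroupOf.mp hx) _ (Subgroup.mem_subgroupOf.mp hy)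
      exact isCyclic_of_surjective (Subgroup.subgroupOfEquivOfLe hAH).toMonoidHom
        (MulEquiv.surjective _)
    obtain ⟨Q, hQN, hQH, hQsup, hQc⟩ := exists_complement_in_normalizer H hHall
    have hE : ⁅Q, Q⁆ ≤ Subgroup.centralizer (H : Set G) :=
      commutator_le_centralizer hQN hQc hHs hab
    obtain ⟨E, hEdef⟩ : ∃ E : Subgroup G, E = ⁅Q, Q⁆ := ⟨_, rfl⟩
    rw [← hEdef] at hE
    have hEQ : E ≤ Q := by rw [hEdef]; exact commutator_self_le Q
    -- `N_G(H)` normalizes `E`
    have hNE : Subgroup.normalizer (H : Set G) ≤ Subgroup.normalizer (E : Set G) := by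
      rw [← hQsup]
      apply sup_le
      · rw [hEdef]
        exact le_normalizer_commutator Subgroup.le_normalizer
      · exact (Subgroup.le_centralizer_iff.mp hE).trans (Subgroup.centralizer_le_normalizer _)
    have hOEn : (O ⊔ E).Normal := sup_normal_of_le_normalizer hOn hsup hNE
    have hOEc : (Nat.card ↥(O ⊔ E)).Coprime (Nat.card H) := by
      rw [sup_comm]
      apply Nat.Coprime.coprime_dvd_left (Cfsg.Agent.Helper1.card_sup_dvd E O)
      exact Nat.Coprime.mul_left
        (Nat.Coprime.coprime_dvd_left (Subgroup.card_dvd_of_le hEQ) hQc) hOc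
    have hEO : E ≤ O := le_sup_right.trans (hOmax _ hOEn hOEc)
    -- the quotient by `R = H ⊔ O`
    haveI hRn : (H ⊔ O).Normal := by rw [sup_comm]; exact hnorm
    have hRQ : (H ⊔ O) ⊔ Q = ⊤ := by
      rw [← hsup, ← hQsup]
      apply le_antisymm
      · exact sup_le (sup_le (le_sup_right.trans le_sup_right) le_sup_left)
          (le_sup_left.trans le_sup_right)
      · exact sup_le (le_sup_right.trans le_sup_left)
          (sup_le le_sup_right (le_sup_left.trans le_sup_left))
    have hcomm := quotient_comm_of_sup_eq_top hRQ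
      ((hEdef ▸ hEO : ⁅Q, Q⁆ ≤ O).trans le_sup_right)
    rw [Group.isSolvable_iff_subgroup_quotient (H ⊔ O)]
    exact ⟨isSolvable_sup_of_normal O H hOs hHs, Group.isSolvable_of_comm hcomm⟩

end Cfsg.Agent.Helper1.TIH
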