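import Mathlib
import Cfsg.Agent.Helper1.TIHallE
import Cfsg.Agent.S4117
import Cfsg.Agent.Helper4.CyclicCentB

set_option autoImplicit false

/-!
# S4151: assembly (on top of S4117: coprime action on a group with cyclic Sylow subgroups)
-/

namespace Cfsg.Agent.Helper1.TIH

universe u

variable {G : Type u} [Group G]

open scoped commutatorElement

theorem card_sup_dvd_of_le_normalizer [Finite G] {X Y : Subgroup G}
    (h : Y ≤ Subgroup.normalizer (X : Set G)) :
    Nat.card ↥(X ⊔ Y) ∣ Nat.card X * Nat.card Y := by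
  have hXL : X ≤ X ⊔ Y := le_sup_left
  have hYL : Y ≤ X ⊔ Y := le_sup_right
  haveI : (X.subgroupOf (X ⊔ Y)).Normal :=
    (Subgroup.normal_subgroupOf_iff_le_normalizer hXL).2 (sup_le Subgroup.le_normalizer h)
  have h2 : Y.subgroupOf (X ⊔ Y) ⊔ X.subgroupOf (X ⊔ Y) = ⊤ := by
    rw [← Subgroup.subgroupOf_sup hYL hXL, sup_comm, Subgroup.subgroupOf_self]
  have h3 := Cfsg.Agent.Helper1.card_sup_dvd (Y.subgroupOf (X ⊔ Y)) (X.subgroupOf (X ⊔ Y))
  rw [h2, Subgroup.card_top, card_subgroupOf_of_le hYL, card_subgroupOf_of_le hXL, mul_comm] at h3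
  exact h3

theorem le_normalizer_sup {S A B : Subgroup G} (hA : S ≤ Subgroup.normalizer (A : Set G))
    (hB : S ≤ Subgroup.normalizer (B : Set G)) :
    S ≤ Subgroup.normalizer ((A ⊔ B : Subgroup G) : Set G) := by
  apply le_normalizer_of_conj_mem
  intro g hg x hx
  have h1 : (A ⊔ B).map (MulAut.conj g).toMonoidHom ≤ A ⊔ B := by
    rw [Subgroup.map_sup]
    apply sup_le_sup
    · rintro _ ⟨a, ha, rfl⟩
      exact (Subgroup.mem_normalizer_iff.mp (hA hg) a).mp ha
    · rintro _ ⟨b, hb, rfl⟩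
      exact (Subgroup.mem_normalizer_iff.mp (hB hg) b).mp hb
  exact h1 ⟨x, hx, rfl⟩

/-- the order of a complement `Q` of `H` in `N_G(H)` is prime to `|H|`. -/
theorem coprime_card_of_complement [Finite G] {H Q : Subgroup G}
    (hHall : (Nat.card H).Coprime (H.subgroupOf (Subgroup.normalizer (H : Set G))).index)
    (hQ : Q ≤ Subgroup.normalizer (H : Set G)) (hQH : Q ⊓ H = ⊥) :
    (Nat.card Q).Coprime (Nat.card H) := by
  haveI : (H.subgroupOf (Subgroup.normalizer (H : Set G))).Normal := Subgroup.normal_in_normalizer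
  have h1 : Nat.card Q = H.relIndex Q := by
    rw [← Subgroup.inf_relIndex_right, inf_comm, hQH, Subgroup.relIndex_bot_left]
  have h2 : H.relIndex Q ∣ (H.subgroupOf (Subgroup.normalizer (H : Set G))).index := by
    rw [← Subgroup.relIndex_subgroupOf hQ]
    exact Subgroup.relIndex_dvd_index_of_normal _ _
  rw [h1]
  exact (Nat.Coprime.coprime_dvd_right h2 hHall).symm

/-- S4117 for a subgroup `Q` normalizing `H`, all inside `G`: `H = Y ⋊ C_H(Q)` with `Y = [H, Q]`
normal in `H Q` and `(|Y|, |C_H(Q)|) = 1`. -/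
theorem exists_normal_hall_decomp [Finite G] {H Q : Subgroup G}
    (hQ : Q ≤ Subgroup.normalizer (H : Set G)) (hcop : (Nat.card Q).Coprime (Nat.card H))
    (hcyc : ∀ (p : ℕ) [Fact p.Prime] (P : Sylow p ↥H), IsCyclic (P : Subgroup ↥H)) :
    ∃ Y : Subgroup G, Y ≤ H ∧ H ≤ Subgroup.normalizer (Y : Set G) ∧
      Q ≤ Subgroup.normalizer (Y : Set G) ∧ (∀ h ∈ H, ∀ q ∈ Q, h * q * h⁻¹ * q⁻¹ ∈ Y) ∧
      Y ⊔ (H ⊓ Subgroup.centralizer (Q : Set G)) = H ∧
      (Nat.card Y).Coprime (Nat.card ↥(H ⊓ Subgroup.centralizer (Q : Set G))) := by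
  classical
  letI inst : MulDistribMulAction ↥Q ↥H := MulDistribMulAction.compHom ↥H (actHom H Q hQ)
  have hsmul : ∀ (q : ↥Q) (h : ↥H), ((q • h : ↥H) : G) = (q : G) * h * (q : G)⁻¹ := fun q h => rfl
  obtain ⟨h1, -, h3, h4, h5⟩ := Cfsg.Agent.S4117.result (G := ↥H) (A := ↥Q) hcop hcyc
  obtain ⟨S, hS⟩ : ∃ S : Set ↥H, S = {y : ↥H | ∃ (a : ↥Q) (g : ↥H), y = g⁻¹ * a • g} := ⟨_, rfl⟩
  obtain ⟨Nc, hNc⟩ : ∃ Nc : Subgroup ↥H, Nc = Subgroup.closure S := ⟨_, rfl⟩
  obtain ⟨C, hC⟩ : ∃ C : Subgroup ↥H, C = FixedPoints.subgroup ↥Q ↥H := ⟨_, rfl⟩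
  have hCset : (MulAction.fixedPoints ↥Q ↥H : Set ↥H) = (C : Set ↥H) := by rw [hC]; rfl
  rw [← hS, ← hNc] at h3 h4 h5
  rw [hCset] at h1 h4 h5
  rw [Subgroup.closure_eq] at h5
  haveI := h3
  -- `C` maps onto `C_H(Q)`
  have hCmap : C.map H.subtype = H ⊓ Subgroup.centralizer (Q : Set G) := by
    ext x
    constructor
    · rintro ⟨h, hh, rfl⟩
      refine Subgroup.mem_inf.mpr ⟨h.2, ?_⟩
      rw [Subgroup.mem_centralizer_iff]
      intro q hq
      have h6 : (⟨q, hq⟩ : ↥Q) • h = h := by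
        rw [hC] at hh
        exact hh ⟨q, hq⟩
      have h7 := congrArg Subtype.val h6
      rw [hsmul] at h7
      exact mul_inv_eq_iff_eq_mul.mp h7
    · intro hx
      obtain ⟨hxH, hxC⟩ := Subgroup.mem_inf.mp hx
      refine ⟨⟨x, hxH⟩, ?_, rfl⟩
      rw [hC]
      intro q
      apply Subtype.ext
      rw [hsmul]
      have := Subgroup.mem_centralizer_iff.mp hxC (q : G) q.2
      rw [this, mul_inv_cancel_right]
  have hcardC : Nat.card ↥(H ⊓ Subgroup.centralizer (Q : Set G)) = Nat.card C := by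
    rw [← hCmap]; exact Subgroup.card_map_of_injective H.subtype_injective
  -- orders
  have hdisj : C ⊓ Nc = ⊥ := by
    rw [eq_bot_iff]
    intro x hx
    have : x ∈ (Nc : Set ↥H) ∩ (C : Set ↥H) := ⟨hx.2, hx.1⟩
    rw [h4] at this
    exact this
  have hcardH : Nat.card C * Nat.card Nc = Nat.card ↥H := by
    rw [← card_sup_of_disjoint_normal C Nc hdisj, sup_comm, h5, Subgroup.card_top]
  have hcopCN : (Nat.card C).Coprime (Nat.card Nc) := by
    have h6 : Nat.card ↥H / Nat.card C = Nat.card Nc := by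
      rw [← hcardH]
      exact Nat.mul_div_cancel_left _ Nat.card_pos
    have h7 : Nat.card (C : Set ↥H) = Nat.card C := rfl
    rw [h7, h6] at h1
    exact h1
  refine ⟨Nc.map H.subtype, Subgroup.map_subtype_le _, ?_, ?_, ?_, ?_, ?_⟩
  · apply le_normalizer_of_conj_mem
    rintro h hh _ ⟨y, hy, rfl⟩
    exact ⟨⟨h, hh⟩ * y * ⟨h, hh⟩⁻¹, h3.conj_mem y hy ⟨h, hh⟩, rfl⟩
  · apply le_normalizer_of_conj_mem
    rintro q hq _ ⟨y, hy, rfl⟩
    refine ⟨(⟨q, hq⟩ : ↥Q) • y, ?_, rfl⟩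
    have h6 : Nc.map (MulDistribMulAction.toMonoidHom ↥H (⟨q, hq⟩ : ↥Q)) ≤ Nc := by
      rw [hNc, MonoidHom.map_closure]
      apply Subgroup.closure_mono
      rintro _ ⟨z, hz, rfl⟩
      rw [hS] at hz ⊢
      obtain ⟨a, g, rfl⟩ := hz
      refine ⟨⟨q, hq⟩ * a * ⟨q, hq⟩⁻¹, (⟨q, hq⟩ : ↥Q) • g, ?_⟩
      rw [MulDistribMulAction.toMonoidHom_apply, smul_mul', smul_inv', mul_smul, mul_smul,
        inv_smul_smul]
    exact h6 ⟨y, hy, rfl⟩
  · intro h hh q hq
    refine ⟨(⟨h, hh⟩ : ↥H)⁻¹⁻¹ * (⟨q, hq⟩ : ↥Q) • (⟨h, hh⟩ : ↥H)⁻¹, ?_, ?_⟩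
    · rw [SetLike.mem_coe, hNc]
      apply Subgroup.subset_closure
      rw [hS]
      exact ⟨⟨q, hq⟩, (⟨h, hh⟩ : ↥H)⁻¹, rfl⟩
    · rw [Subgroup.subtype_apply, Subgroup.coe_mul, hsmul]
      simp only [inv_inv, Subgroup.coe_inv]
      group
  · rw [← hCmap, ← Subgroup.map_sup, h5, ← MonoidHom.range_eq_map, Subgroup.range_subtype]
  · rw [hcardC, Subgroup.card_map_of_injective H.subtype_injective]
    exact hcopCN.symm

/-- **S4151**, modulo Step 1 (abelian `p`-subgroups of `H` are cyclic). -/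
theorem main_S4151_of [Finite G] (H : Subgroup G)
    (hTI : Cfsg.IsTISubset (H : Set G))
    (hHall : (Nat.card H).Coprime (H.subgroupOf (Subgroup.normalizer (H : Set G))).index)
    (hsep : ∃ (n : ℕ) (M : Fin (n + 1) → Subgroup G), M 0 = ⊥ ∧ M (Fin.last n) = ⊤ ∧ Monotone M ∧
      (∀ i, (M i).Normal) ∧
      ∀ i : Fin n, (∀ q : ℕ, q.Prime → q ∣ (M i.castSucc).relIndex (M i.succ) → q ∣ Nat.card H) ∨
        ((M i.castSucc).relIndex (M i.succ)).Coprime (Nat.card H))
    (hstep1 : ∀ (p : ℕ) [Fact p.Prime] (A : Subgroup G), A ≤ H → IsPGroup p A →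
      (∀ x ∈ A, ∀ y ∈ A, x * y = y * x) → IsCyclic A)
    (h2 : ∀ P : Sylow 2 H, IsMulCommutative (P : Subgroup H))
    (Q : Subgroup G) (hQ : Q ≤ Subgroup.normalizer (H : Set G)) (hQH : Q ⊓ H = ⊥)
    (hQH' : Q ⊔ H = Subgroup.normalizer (H : Set G)) :
    (Nat.card ↥(H ⊓ Subgroup.centralizer (Q : Set G))).Coprime
      (H ⊓ Subgroup.centralizer (Q : Set G)).index ∧
    ∃ N : Subgroup G, N.Normal ∧ N.IsComplement' (H ⊓ Subgroup.centralizer (Q : Set G)) := by
  obtain ⟨O, hO⟩ : ∃ O : Subgroup G,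
      O = sSup {K : Subgroup G | K.Normal ∧ (Nat.card K).Coprime (Nat.card H)} := ⟨_, rfl⟩
  have hOn : O.Normal := by rw [hO]; exact Subgroup.sSup_normal _ (fun _ h => h.1)
  have hOc : (Nat.card O).Coprime (Nat.card H) := by
    rw [hO]; exact Cfsg.Agent.Helper1.sSup_normal_coprime _ _ (fun _ h => h)
  have hOmax : ∀ K : Subgroup G, K.Normal → (Nat.card K).Coprime (Nat.card H) → K ≤ O := by
    intro K h1 h2
    rw [hO]; exact le_sSup ⟨h1, h2⟩
  have hsup := sup_normalizer_eq_top hTI hHall hsep hOn hOc hOmax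
  have hQc : (Nat.card Q).Coprime (Nat.card H) := coprime_card_of_complement hHall hQ hQH
  -- Sylow subgroups of `H` are cyclic
  have hcyc : ∀ (p : ℕ) [Fact p.Prime] (P : Sylow p ↥H), IsCyclic (P : Subgroup ↥H) := by
    intro p _ P
    have key : ∀ A : Subgroup ↥(P : Subgroup ↥H), (∀ x ∈ A, ∀ y ∈ A, x * y = y * x) →
        IsCyclic A := by
      intro A hA
      have h3 : IsCyclic ↥((A.map (P : Subgroup ↥H).subtype).map H.subtype) := by
        apply hstep1 p
        · exact Subgroup.map_subtype_le _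
        · exact ((P.isPGroup'.to_subgroup A).map _).map _
        · rintro _ ⟨_, ⟨x, hx, rfl⟩, rfl⟩ _ ⟨_, ⟨y, hy, rfl⟩, rfl⟩
          rw [← map_mul, ← map_mul, ← map_mul, ← map_mul, hA x hx y hy]
      have e1 := A.equivMapOfInjective _ (P : Subgroup ↥H).subtype_injective
      have e2 := (A.map (P : Subgroup ↥H).subtype).equivMapOfInjective _ H.subtype_injective
      exact isCyclic_of_surjective (e1.trans e2).symm.toMonoidHom (MulEquiv.surjective _)
    have hAC : Cfsg.Agent.Helper4.AbelianSubgroupsCyclic ↥(P : Subgroup ↥H) := by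
      intro A hA
      exact key A (fun x hx y hy =>
        congrArg Subtype.val (hA.is_comm.comm (⟨x, hx⟩ : ↥A) ⟨y, hy⟩))
    rcases Cfsg.Agent.Helper4.cyclic_or_quaternion_of_abelianSubgroupsCyclic p P.isPGroup' hAC
      with hc | ⟨rfl, -⟩
    · exact hc
    · have h3 := h2 P
      have h4 := key ⊤ (fun x _ y _ => h3.is_comm.comm x y)
      exact isCyclic_of_surjective (Subgroup.topEquiv (G := ↥(P : Subgroup ↥H))).toMonoidHom
        (MulEquiv.surjective _)
  obtain ⟨Y, hYH, hHY, hQY, hcommY, hYB, hYBc⟩ := exists_normal_hall_decomp hQ hQc hcyc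
  obtain ⟨B, hB⟩ : ∃ B : Subgroup G, B = H ⊓ Subgroup.centralizer (Q : Set G) := ⟨_, rfl⟩
  rw [← hB] at hYB hYBc ⊢
  have hBH : B ≤ H := by rw [hB]; exact inf_le_left
  -- `N₁ = Y Q` is normal in `N_G(H)`
  have hN₁ : Subgroup.normalizer (H : Set G) ≤
      Subgroup.normalizer ((Y ⊔ Q : Subgroup G) : Set G) := by
    rw [← hQH']
    apply sup_le
    · exact le_normalizer_sup hQY Subgroup.le_normalizer
    · apply le_normalizer_of_conj_mem
      intro h hh x hx
      have h1 : (Y ⊔ Q).map (MulAut.conj h).toMonoidHom ≤ Y ⊔ Q := by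
        rw [Subgroup.map_sup]
        apply sup_le
        · rintro _ ⟨a, ha, rfl⟩
          exact le_sup_left (a := Y) ((Subgroup.mem_normalizer_iff.mp (hHY hh) a).mp ha)
        · rintro _ ⟨q, hq, rfl⟩
          have : (MulAut.conj h).toMonoidHom q = (h * q * h⁻¹ * q⁻¹) * q := by
            simp [MulAut.conj_apply]
          rw [this]
          exact mul_mem (le_sup_left (a := Y) (hcommY h hh q hq)) (le_sup_right (a := Y) hq)
      exact h1 ⟨x, hx, rfl⟩
  obtain ⟨M, hM⟩ : ∃ M : Subgroup G, M = O ⊔ (Y ⊔ Q) := ⟨_, rfl⟩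
  have hMn : M.Normal := by rw [hM]; exact sup_normal_of_le_normalizer hOn hsup hN₁
  haveI := hOn
  have hMc : (Nat.card M).Coprime (Nat.card B) := by
    have hBdvd : Nat.card B ∣ Nat.card H := Subgroup.card_dvd_of_le hBH
    have h1 : Nat.card M ∣ Nat.card ↥(Y ⊔ Q) * Nat.card O := by
      rw [hM, sup_comm]; exact Cfsg.Agent.Helper1.card_sup_dvd _ _
    have h2 : Nat.card ↥(Y ⊔ Q) ∣ Nat.card Y * Nat.card Q := card_sup_dvd_of_le_normalizer hQY
    apply Nat.Coprime.coprime_dvd_left h1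
    apply Nat.Coprime.mul_left
    · apply Nat.Coprime.coprime_dvd_left h2
      exact Nat.Coprime.mul_left hYBc (Nat.Coprime.coprime_dvd_right hBdvd hQc)
    · exact Nat.Coprime.coprime_dvd_right hBdvd hOc
  have hMB : M ⊔ B = ⊤ := by
    rw [eq_top_iff, ← hsup, ← hQH', ← hYB, hM]
    apply sup_le
    · exact le_sup_left.trans le_sup_left
    · apply sup_le
      · exact (le_sup_right.trans le_sup_right).trans le_sup_left
      · apply sup_le
        · exact (le_sup_left.trans le_sup_right).trans le_sup_left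
        · exact le_sup_right
  have hcompl : M.IsComplement' B := by
    apply Subgroup.isComplement'_of_disjoint_and_mul_eq_univ
    · exact Subgroup.disjoint_of_coprime_natCard hMc
    · haveI := hMn
      rw [← Subgroup.normal_mul, hMB, Subgroup.coe_top]
  refine ⟨?_, M, hMn, hcompl⟩
  rw [hcompl.index_eq_card]
  exact hMc.symm

end Cfsg.Agent.Helper1.TIH
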