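import Mathlib
import Cfsg.Agent.Helper1.TIHallC
import Cfsg.Agent.Helper1.TIHallD

set_option autoImplicit false

/-!
# S4151, Step 1: abelian `p`-subgroups of `H` are cyclic (no solvability of `O` needed)
-/

namespace Cfsg.Agent.Helper1.TIH

universe u

variable {G : Type u} [Group G]

open scoped Pointwise

/-- a `p`-subgroup `A` normalizing the normal subgroup `O` of order prime to `p` normalizes a Sylow
`r`-subgroup of `O`. -/
theorem exists_invariant_sylow [Finite G] {O A : Subgroup G} (hOn : O.Normal) (p r : ℕ)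
    [Fact p.Prime] [Fact r.Prime] (hAp : IsPGroup p A) (hcop : (Nat.card O).Coprime p) :
    ∃ R : Sylow r ↥O, A ≤ Subgroup.normalizer
      (((R : Subgroup ↥O).map O.subtype : Subgroup G) : Set G) := by
  classical
  haveI := hOn
  letI inst : MulDistribMulAction ↥A ↥O :=
    MulDistribMulAction.compHom ↥O ((MulAut.conjNormal (H := O)).comp A.subtype)
  have hsmul : ∀ (a : ↥A) (y : ↥O), ((a • y : ↥O) : G) = (a : G) * y * (a : G)⁻¹ := fun a y => rfl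
  have hnd : ¬ p ∣ Nat.card (Sylow r ↥O) := by
    intro h
    obtain ⟨R⟩ : Nonempty (Sylow r ↥O) := inferInstance
    have h1 : p ∣ Nat.card ↥O :=
      (h.trans R.card_dvd_index).trans (Subgroup.index_dvd_card _)
    exact (Fact.out : p.Prime).one_lt.ne' (Nat.Coprime.eq_one_of_dvd hcop.symm h1)
  obtain ⟨R, hR⟩ := hAp.nonempty_fixed_point_of_prime_not_dvd_card (Sylow r ↥O) hnd
  refine ⟨R, ?_⟩
  apply le_normalizer_of_conj_mem
  rintro a ha _ ⟨y, hy, rfl⟩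
  have h1 : (⟨a, ha⟩ : ↥A) • R = R := hR ⟨a, ha⟩
  have h2 : (⟨a, ha⟩ : ↥A) • y ∈ (R : Subgroup ↥O) := by
    have h3 : (⟨a, ha⟩ : ↥A) • y ∈ (⟨a, ha⟩ : ↥A) • (R : Subgroup ↥O) :=
      Subgroup.smul_mem_pointwise_smul y _ _ hy
    rw [← Sylow.pointwise_smul_def, h1] at h3
    exact h3
  exact ⟨(⟨a, ha⟩ : ↥A) • y, h2, rfl⟩

/-- **Step 1**: abelian `p`-subgroups of `H` are cyclic. -/
theorem isCyclic_of_abelian_pgroup [Finite G] {O H : Subgroup G} (hOn : O.Normal)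
    (hcop : (Nat.card O).Coprime (Nat.card H))
    (hfix : ∀ x ∈ O, ∀ h ∈ H, h ≠ 1 → x * h = h * x → ∀ k ∈ H, x * k = k * x)
    (hne : ∃ x ∈ O, ∃ k ∈ H, x * k ≠ k * x)
    (p : ℕ) [hp : Fact p.Prime] (A : Subgroup G) (hAH : A ≤ H) (hAp : IsPGroup p A)
    (hA : ∀ x ∈ A, ∀ y ∈ A, x * y = y * x) : IsCyclic A := by
  classical
  by_cases hA1 : A = ⊥
  · subst hA1
    exact isCyclic_of_subsingleton
  obtain ⟨a₀, ha₀A, ha₀1⟩ : ∃ a₀ ∈ A, a₀ ≠ 1 := by
    obtain ⟨a, ha⟩ := (Subgroup.ne_bot_iff_exists_ne_one (H := A)).mp hA1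
    exact ⟨a, a.2, fun h => ha (Subtype.ext h)⟩
  have hpA : p ∣ Nat.card A := by
    obtain ⟨n, hn⟩ := IsPGroup.iff_card.mp hAp
    rcases Nat.eq_zero_or_pos n with rfl | hn0
    · exfalso
      rw [pow_zero] at hn
      exact hA1 (Subgroup.card_eq_one.mp hn)
    · rw [hn]; exact dvd_pow_self p hn0.ne'
  have hpH : p ∣ Nat.card H := hpA.trans (Subgroup.card_dvd_of_le hAH)
  have hcopp : (Nat.card O).Coprime p := Nat.Coprime.coprime_dvd_right hpH hcop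
  -- `C = C_O(H) < O`
  obtain ⟨C, hC⟩ : ∃ C : Subgroup G, C = O ⊓ Subgroup.centralizer (H : Set G) := ⟨_, rfl⟩
  have hCmem : ∀ c : G, c ∈ C ↔ c ∈ O ∧ ∀ k ∈ H, c * k = k * c := by
    intro c
    rw [hC, Subgroup.mem_inf, Subgroup.mem_centralizer_iff]
    constructor
    · rintro ⟨h1, h2⟩
      exact ⟨h1, fun k hk => (h2 k hk).symm⟩
    · rintro ⟨h1, h2⟩
      exact ⟨h1, fun k hk => (h2 k hk).symm⟩
  have hCO : C ≤ O := by rw [hC]; exact inf_le_left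
  have hCne : C.relIndex O ≠ 1 := by
    intro h
    have h1 : O ≤ C := Subgroup.relIndex_eq_one.mp h
    obtain ⟨x, hx, k, hk, hxk⟩ := hne
    exact hxk (((hCmem x).mp (h1 hx)).2 k hk)
  obtain ⟨r, hr, hrd⟩ := Nat.exists_prime_and_dvd hCne
  haveI : Fact r.Prime := ⟨hr⟩
  obtain ⟨R, hRA⟩ := exists_invariant_sylow hOn p r hAp hcopp
  obtain ⟨R₀, hR₀⟩ : ∃ R₀ : Subgroup G, R₀ = (R : Subgroup ↥O).map O.subtype := ⟨_, rfl⟩
  rw [← hR₀] at hRA
  have hR₀O : R₀ ≤ O := by rw [hR₀]; exact Subgroup.map_subtype_le _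
  have hR₀r : IsPGroup r R₀ := by rw [hR₀]; exact R.isPGroup'.map _
  -- `R₀ ≰ C`
  have hR₀C : ¬ R₀ ≤ C := by
    intro hle
    have h1 : R₀.relIndex O = (R : Subgroup ↥O).index := by
      rw [Subgroup.relIndex, hR₀, Subgroup.subgroupOf,
        Subgroup.comap_map_eq_self_of_injective O.subtype_injective]
    have h2 : ¬ r ∣ R₀.relIndex O := by rw [h1]; exact R.not_dvd_index
    apply h2
    rw [← Subgroup.relIndex_mul_relIndex R₀ C O hle hCO]
    exact Dvd.dvd.mul_left hrd _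
  obtain ⟨x₀, hx₀R, hx₀C⟩ := SetLike.not_le_iff_exists.mp hR₀C
  -- inside `Γ = N_G(R₀)`
  obtain ⟨Γ, hΓ⟩ : ∃ Γ : Subgroup G, Γ = Subgroup.normalizer (R₀ : Set G) := ⟨_, rfl⟩
  have hR₀Γ : R₀ ≤ Γ := by rw [hΓ]; exact Subgroup.le_normalizer
  have hAΓ : A ≤ Γ := by rw [hΓ]; exact hRA
  have hOn' : (R₀.subgroupOf Γ).Normal := by rw [hΓ]; exact Subgroup.normal_in_normalizer
  have hOs' : Group.IsSolvable ↥(R₀.subgroupOf Γ) := by
    have h1 : IsPGroup r ↥(R₀.subgroupOf Γ) := hR₀r.comap_subtype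
    haveI := h1.isNilpotent
    infer_instance
  have hcop' : (Nat.card ↥(R₀.subgroupOf Γ)).Coprime (Nat.card ↥(A.subgroupOf Γ)) := by
    rw [card_subgroupOf_of_le hR₀Γ, card_subgroupOf_of_le hAΓ]
    exact Nat.Coprime.coprime_dvd_left (Subgroup.card_dvd_of_le hR₀O)
      (Nat.Coprime.coprime_dvd_right (Subgroup.card_dvd_of_le hAH) hcop)
  have hfix' : ∀ x ∈ R₀.subgroupOf Γ, ∀ h ∈ A.subgroupOf Γ, h ≠ 1 → x * h = h * x →
      ∀ k ∈ A.subgroupOf Γ, x * k = k * x := by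
    intro x hx h hh h1 hc k hk
    apply Subtype.ext
    rw [Subgroup.coe_mul, Subgroup.coe_mul]
    apply hfix (x : G) (hR₀O (Subgroup.mem_subgroupOf.mp hx)) (h : G)
      (hAH (Subgroup.mem_subgroupOf.mp hh)) (fun h2 => h1 (Subtype.ext h2))
    · have := congrArg Subtype.val hc
      rwa [Subgroup.coe_mul, Subgroup.coe_mul] at this
    · exact hAH (Subgroup.mem_subgroupOf.mp hk)
  have hne' : ∃ x ∈ R₀.subgroupOf Γ, ∃ k ∈ A.subgroupOf Γ, x * k ≠ k * x := by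
    refine ⟨⟨x₀, hR₀Γ hx₀R⟩, Subgroup.mem_subgroupOf.mpr hx₀R, ⟨a₀, hAΓ ha₀A⟩,
      Subgroup.mem_subgroupOf.mpr ha₀A, ?_⟩
    intro hc
    apply hx₀C
    rw [hCmem]
    refine ⟨hR₀O hx₀R, ?_⟩
    apply hfix x₀ (hR₀O hx₀R) a₀ (hAH ha₀A) ha₀1
    have := congrArg Subtype.val hc
    rwa [Subgroup.coe_mul, Subgroup.coe_mul] at this
  obtain ⟨W, instW, instF, φ, hnt, hfpf⟩ := exists_fpf_action hOn' hOs' hcop' hfix' hne'
  have h1 : IsCyclic ↥(⊤ : Subgroup ↥(A.subgroupOf Γ)) := by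
    apply isCyclic_of_fpf φ hfpf
    intro x _ y _
    apply Subtype.ext
    apply Subtype.ext
    simp only [Subgroup.coe_mul]
    exact hA _ (Subgroup.mem_subgroupOf.mp x.2) _ (Subgroup.mem_subgroupOf.mp y.2)
  have h2 : IsCyclic ↥(A.subgroupOf Γ) :=
    isCyclic_of_surjective (Subgroup.topEquiv (G := ↥(A.subgroupOf Γ))).toMonoidHom
      (MulEquiv.surjective _)
  exact isCyclic_of_surjective (Subgroup.subgroupOfEquivOfLe hAΓ).toMonoidHom
    (MulEquiv.surjective _)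

end Cfsg.Agent.Helper1.TIH
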