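import Mathlib
import Cfsg.Agent.Helper1.TIHallF
import Cfsg.Agent.Helper1.TIHallG

set_option autoImplicit false

/-!
# S4151: final statement
-/

namespace Cfsg.Agent.Helper1.TIH

universe u

variable {G : Type u} [Group G]

/-- **S4151**. -/
theorem main_S4151 [Finite G] (H : Subgroup G)
    (hTI : Cfsg.IsTISubset (H : Set G)) (hnn : ¬ H.Normal)
    (hHall : (Nat.card H).Coprime (H.subgroupOf (Subgroup.normalizer (H : Set G))).index)
    (hsep : ∃ (n : ℕ) (M : Fin (n + 1) → Subgroup G), M 0 = ⊥ ∧ M (Fin.last n) = ⊤ ∧ Monotone M ∧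
      (∀ i, (M i).Normal) ∧
      ∀ i : Fin n, (∀ q : ℕ, q.Prime → q ∣ (M i.castSucc).relIndex (M i.succ) → q ∣ Nat.card H) ∨
        ((M i.castSucc).relIndex (M i.succ)).Coprime (Nat.card H))
    (h2 : ∀ P : Sylow 2 H, IsMulCommutative (P : Subgroup H))
    (Q : Subgroup G) (hQ : Q ≤ Subgroup.normalizer (H : Set G)) (hQH : Q ⊓ H = ⊥)
    (hQH' : Q ⊔ H = Subgroup.normalizer (H : Set G)) :
    (Nat.card ↥(H ⊓ Subgroup.centralizer (Q : Set G))).Coprime
      (H ⊓ Subgroup.centralizer (Q : Set G)).index ∧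
    ∃ N : Subgroup G, N.Normal ∧ N.IsComplement' (H ⊓ Subgroup.centralizer (Q : Set G)) := by
  obtain ⟨O, hO⟩ : ∃ O : Subgroup G,
      O = sSup {K : Subgroup G | K.Normal ∧ (Nat.card K).Coprime (Nat.card H)} := ⟨_, rfl⟩
  have hOn : O.Normal := by rw [hO]; exact Subgroup.sSup_normal _ (fun _ h => h.1)
  have hOc : (Nat.card O).Coprime (Nat.card H) := by
    rw [hO]; exact Cfsg.Agent.Helper1.sSup_normal_coprime _ _ (fun _ h => h)
  have hOmax : ∀ K : Subgroup G, K.Normal → (Nat.card K).Coprime (Nat.card H) → K ≤ O := by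
    intro K h1 h2
    rw [hO]; exact le_sSup ⟨h1, h2⟩
  have hsup := sup_normalizer_eq_top hTI hHall hsep hOn hOc hOmax
  have hOH : O ⊓ H = ⊥ := inf_eq_bot_of_coprime_card hOc
  have hfix : ∀ x ∈ O, ∀ h ∈ H, h ≠ 1 → x * h = h * x → ∀ k ∈ H, x * k = k * x :=
    fun x hx h hh h1 hc k hk => commute_of_commute hTI hOn hOH hx hh h1 hc hk
  have hne : ∃ x ∈ O, ∃ k ∈ H, x * k ≠ k * x := by
    obtain ⟨x, hxO, hxN⟩ := SetLike.not_le_iff_exists.mp (not_le_normalizer hnn hsup)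
    refine ⟨x, hxO, ?_⟩
    by_contra hall
    push Not at hall
    apply hxN
    apply Subgroup.centralizer_le_normalizer
    rw [Subgroup.mem_centralizer_iff]
    intro k hk
    exact (hall k hk).symm
  exact main_S4151_of H hTI hHall hsep
    (fun p _ A hAH hAp hA => isCyclic_of_abelian_pgroup hOn hOc hfix hne p A hAH hAp hA)
    h2 Q hQ hQH hQH'

end Cfsg.Agent.Helper1.TIH
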