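import Mathlib
import Cfsg.Prelude.Def_PLocal
import Cfsg.Agent.Lead.Replacement2
import Cfsg.Agent.Helper1.PQLemma

set_option autoImplicit false

/-!
From an abelian offender to a quadratically acting best offender (Timmesfeld replacement).
-/

namespace Cfsg.Agent.Helper1

namespace TN

open scoped Pointwise commutatorElement
open Cfsg.Agent.Lead.Repl

universe u

variable {G : Type u} [Group G]

/-- Timmesfeld replacement, nontriviality clause, for a `p`-group `A`. -/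
theorem timmesfeld_nontrivial_pgroup [Finite G] {p : ℕ} [hp : Fact p.Prime] {V A : Subgroup G}
    (hVc : ∀ x ∈ V, ∀ y ∈ V, x * y = y * x) (hVp : IsPGroup p V)
    (hAV : A ≤ Subgroup.normalizer (V : Set G))
    (hab : ⁅A, A⁆ ≤ Subgroup.centralizer (V : Set G)) (hAp : IsPGroup p A)
    (hbest : ∀ D : Subgroup G, D ≤ A → f V D ≤ f V A) (U : Subgroup G) (hU : U ≤ V)
    (hne : ⁅V, A⁆ ≠ ⊥) :
    ⁅V, A ⊓ Subgroup.centralizer ((⁅U, A⁆ : Subgroup G) : Set G)⁆ ≠ ⊥ := by
  intro hbot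
  have hcent := Subgroup.commutator_eq_bot_iff_le_centralizer.1 hbot
  have h := (timmesfeld hVc hAV hab hbest U hU).2
  have hcvV : cv V (A ⊓ Subgroup.centralizer ((⁅U, A⁆ : Subgroup G) : Set G)) = V := by
    unfold cv
    exact inf_eq_left.2 hcent
  rw [hcvV] at h
  have hVA : ⁅V, A⁆ ≤ V := Subgroup.le_normalizer_iff_commutator_le_left.1 hAV
  have hUA : ⁅U, A⁆ ≤ ⁅V, A⁆ := Subgroup.commutator_mono hU le_rfl
  have hnorm : cv V A ≤ Subgroup.normalizer ((⁅U, A⁆ : Subgroup G) : Set G) := by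
    refine le_trans ?_ (Subgroup.centralizer_le_normalizer _)
    intro x hx
    rw [Subgroup.mem_centralizer_iff]
    intro y hy
    exact hVc y (hVA (hUA hy)) x (cv_le V A hx)
  have hX : ⁅V, A⁆ ≤ ⁅⁅V, A⁆, A⁆ := by
    rw [Subgroup.commutator_le]
    intro v hv a ha
    have hv' : v ∈ ⁅U, A⁆ ⊔ cv V A := h ▸ hv
    obtain ⟨w, hw, c, hc, rfl⟩ := Cfsg.Agent.Helper1.mem_sup_of_le_normalizer hnorm hv'
    have h1 : ⁅c, a⁆ = 1 := by
      rw [commutatorElement_eq_one_iff_mul_comm]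
      exact ((mem_cv.1 hc).2 a ha).symm
    rw [commutatorElement_mul_left_eq_conj_mul, h1, mul_one, mul_inv_cancel, one_mul]
    exact Subgroup.commutator_mem_commutator (hUA hw) ha
  have hlt := commutator_lt_of_isPGroup (hVp.to_le hVA) hAp
    (Subgroup.normalizer_commutator_ge_right V A) hne
  exact absurd hX (not_le_of_gt hlt)

/-- Quadratic action on a group of exponent `p` has exponent `p`. -/
theorem pow_mem_centralizer_of_quadratic {p : ℕ} {V : Subgroup G}
    (hVc : ∀ x ∈ V, ∀ y ∈ V, x * y = y * x) (hVp : ∀ v ∈ V, v ^ p = 1) {d : G}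
    (hdV : ∀ v ∈ V, d * v * d⁻¹ ∈ V)
    (hq : ∀ v ∈ V, d * ⁅v, d⁆ = ⁅v, d⁆ * d) : d ^ p ∈ Subgroup.centralizer (V : Set G) := by
  rw [Subgroup.mem_centralizer_iff]
  intro v hv
  -- `d v d⁻¹ = c⁻¹ v` with `c = [v, d]` centralized by `d`
  obtain ⟨c, hc⟩ : ∃ c, c = ⁅v, d⁆ := ⟨_, rfl⟩
  have hcV : c ∈ V := by
    rw [hc, commutatorElement_def]
    have h1 := hdV v⁻¹ (V.inv_mem hv)
    have : v * d * v⁻¹ * d⁻¹ = v * (d * v⁻¹ * d⁻¹) := by group
    rw [this]
    exact V.mul_mem hv h1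
  have hdc : d * c = c * d := by rw [hc]; exact hq v hv
  have hconj : d * v * d⁻¹ = c⁻¹ * v := by
    have h1 : d * v * d⁻¹ = (v * d * v⁻¹ * d⁻¹)⁻¹ * v := by group
    rw [h1, ← commutatorElement_def, ← hc]
  have hk : ∀ k : ℕ, d ^ k * v * (d ^ k)⁻¹ = (c⁻¹) ^ k * v := by
    intro k
    induction k with
    | zero => simp
    | succ k ih =>
      have hdci : d * (c⁻¹) ^ k = (c⁻¹) ^ k * d := by
        have : Commute d c := hdc
        exact (this.inv_right.pow_right k).eq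
      calc d ^ (k + 1) * v * (d ^ (k + 1))⁻¹ = d * (d ^ k * v * (d ^ k)⁻¹) * d⁻¹ := by
            rw [pow_succ']; group
        _ = d * ((c⁻¹) ^ k * v) * d⁻¹ := by rw [ih]
        _ = (d * (c⁻¹) ^ k) * v * d⁻¹ := by group
        _ = (c⁻¹) ^ k * (d * v * d⁻¹) := by rw [hdci]; group
        _ = (c⁻¹) ^ k * (c⁻¹ * v) := by rw [hconj]
        _ = (c⁻¹) ^ (k + 1) * v := by rw [pow_succ]; group
  have hp := hk p
  rw [inv_pow, hVp c hcV, inv_one, one_mul] at hp
  calc v * d ^ p = (d ^ p * v * (d ^ p)⁻¹) * d ^ p := by rw [hp]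
    _ = d ^ p * v := by group

/-- From an abelian offender to a best offender acting nontrivially. -/
theorem exists_best_offender [Finite G] {p : ℕ} [hp : Fact p.Prime] {V A : Subgroup G}
    (hVc : ∀ x ∈ V, ∀ y ∈ V, x * y = y * x) (hVp : ∀ v ∈ V, v ^ p = 1)
    (hAV : A ≤ Subgroup.normalizer (V : Set G))
    (hAc : ∀ x ∈ A, ∀ y ∈ A, x * y = y * x) (hAp : IsPGroup p A)
    (hoff : Nat.card (A ⊓ Subgroup.centralizer (V : Set G) : Subgroup G) * Nat.card V ≤
      Nat.card A * Nat.card (V ⊓ Subgroup.centralizer (A : Set G) : Subgroup G))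
    (hAC : ¬ A ≤ Subgroup.centralizer (V : Set G)) :
    ∃ D : Subgroup G, D ≤ A ∧ Cfsg.IsBestOffenderOn p V D ∧
      ¬ D ≤ Subgroup.centralizer (V : Set G) := by
  have hVpg : IsPGroup p V := by
    intro v
    refine ⟨1, ?_⟩
    rw [pow_one]
    exact Subtype.ext (hVp v v.2)
  -- a maximizer of `f` among the subgroups of `A` acting nontrivially
  obtain ⟨D, hDA, hDC, hDmax⟩ : ∃ D : Subgroup G, D ≤ A ∧
      ¬ D ≤ Subgroup.centralizer (V : Set G) ∧ ∀ D' : Subgroup G, D' ≤ A → f V D' ≤ f V D := by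
    obtain ⟨D₀, hD₀A, hD₀max⟩ := Set.exists_max_image {D : Subgroup G | D ≤ A} (f V)
      (Set.toFinite _) ⟨A, (le_rfl : A ≤ A)⟩
    by_cases hD₀C : D₀ ≤ Subgroup.centralizer (V : Set G)
    · refine ⟨A, le_rfl, hAC, ?_⟩
      intro D' hD'
      refine (hD₀max D' hD').trans ?_
      have h1 : f V D₀ ≤ Nat.card (A ⊓ Subgroup.centralizer (V : Set G) : Subgroup G) *
          Nat.card V := by
        unfold f
        apply Nat.mul_le_mul
        · exact Subgroup.card_le_of_le (le_inf hD₀A hD₀C)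
        · exact Subgroup.card_le_of_le (cv_le V D₀)
      exact h1.trans hoff
    · exact ⟨D₀, hD₀A, hD₀C, hD₀max⟩
  have hDV : D ≤ Subgroup.normalizer (V : Set G) := hDA.trans hAV
  have hDc : ∀ x ∈ D, ∀ y ∈ D, x * y = y * x := fun x hx y hy => hAc x (hDA hx) y (hDA hy)
  have hDab : ⁅D, D⁆ ≤ Subgroup.centralizer (V : Set G) := by
    have : ⁅D, D⁆ = ⊥ := by
      rw [Subgroup.commutator_eq_bot_iff_le_centralizer]
      intro x hx
      rw [Subgroup.mem_centralizer_iff]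
      intro y hy
      exact hDc y hy x hx
    rw [this]; exact bot_le
  have hDp : IsPGroup p D := hAp.to_le hDA
  have hbest : ∀ D' : Subgroup G, D' ≤ D → f V D' ≤ f V D := fun D' h => hDmax D' (h.trans hDA)
  have hne : ⁅V, D⁆ ≠ ⊥ := by
    intro h
    apply hDC
    rw [Subgroup.commutator_eq_bot_iff_le_centralizer, Subgroup.le_centralizer_iff] at h
    exact h
  obtain ⟨Ds, hDs⟩ : ∃ Ds, Ds = D ⊓ Subgroup.centralizer ((⁅V, D⁆ : Subgroup G) : Set G) :=
    ⟨_, rfl⟩
  have hT := timmesfeld hVc hDV hDab hbest V le_rfl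
  have hNT := timmesfeld_nontrivial_pgroup hVc hVpg hDV hDab hDp hbest V le_rfl hne
  rw [← hDs] at hT hNT
  have hDsD : Ds ≤ D := hDs ▸ inf_le_left
  refine ⟨Ds, hDsD.trans hDA, ⟨?_, ?_, ?_⟩, ?_⟩
  · intro B hB
    have h1 := hbest B (hB.trans hDsD)
    have h2 := hT.1
    unfold f cv at h1 h2
    rw [h2]; exact h1
  · exact (Subgroup.commutator_mono hDsD hDsD).trans hDab
  · intro d hd
    have hdD : d ∈ D := hDsD hd
    have hdC : d ∈ Subgroup.centralizer ((⁅V, D⁆ : Subgroup G) : Set G) := by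
      rw [hDs] at hd; exact hd.2
    apply pow_mem_centralizer_of_quadratic hVc hVp
    · intro v hv
      exact (Subgroup.mem_normalizer_iff.1 (hDV hdD) v).1 hv
    · intro v hv
      exact (Subgroup.mem_centralizer_iff.1 hdC _ (Subgroup.commutator_mem_commutator hv hdD)).symm
  · intro h
    apply hNT
    rw [Subgroup.commutator_eq_bot_iff_le_centralizer, Subgroup.le_centralizer_iff]
    exact h

end TN

end Cfsg.Agent.Helper1
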