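import Mathlib
import Cfsg.Prelude.Def_PLocal
import Cfsg.Prelude.Def_LocalEven
import Cfsg.Agent.Helper1.HolHyp
import Cfsg.Agent.Helper1.TNe

set_option autoImplicit false

/-!
A nontrivially acting best offender on a normal elementary abelian `2`-subgroup `V` of a
`2`-solvable group with `O_2(G / C_G(V)) = 1` and `C_G(V)` a `2`-group yields a section `S₄`.
-/

namespace Cfsg.Agent.Helper1

namespace TN

open scoped Pointwise commutatorElement
open Cfsg.Agent.Helper1.Hol Cfsg.Agent.Helper1.FFact SemidirectProduct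

universe u

variable {G : Type u} [Group G]

set_option maxHeartbeats 1600000 in
theorem involves_S4_of_best_offender [Finite G] (V : Subgroup G) [hVn : V.Normal]
    (hV : Cfsg.IsElementaryAbelian 2 V) (hsep : Cfsg.IsPSolvable 2 G)
    (hOp : ∀ D : Subgroup G, D.Normal → Subgroup.centralizer (V : Set G) ≤ D →
      (∃ k : ℕ, (Subgroup.centralizer (V : Set G)).relIndex D = 2 ^ k) →
      D = Subgroup.centralizer (V : Set G))
    (hC2 : IsPGroup 2 (Subgroup.centralizer (V : Set G)))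
    (D : Subgroup G) (hD : Cfsg.IsBestOffenderOn 2 V D)
    (hDC : ¬ D ≤ Subgroup.centralizer (V : Set G)) :
    Cfsg.Involves (Equiv.Perm (Fin 4)) G := by
  haveI : Fact (Nat.Prime 2) := ⟨Nat.prime_two⟩
  have h := hyp_map V hV hsep hOp ⊤
  obtain ⟨H, hH⟩ : ∃ H, H = (⊤ : Subgroup G).map (psi V) := ⟨_, rfl⟩
  rw [← hH] at h
  have hHrange : H = (psi V).range := by rw [hH, MonoidHom.range_eq_map]
  obtain ⟨A', hA'⟩ : ∃ A', A' = D.map (psi V) := ⟨_, rfl⟩
  have hA'H : A' ≤ H := by rw [hA', hH]; exact Subgroup.map_mono le_top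
  have hA'b : Cfsg.IsBestOffenderOn 2 (VV V) A' := hA' ▸ isBestOffenderOn_map V hD
  have hA'1 : A' ≠ ⊥ := by
    intro hb
    apply hDC
    intro d hd
    rw [← mem_ker_psi_iff, MonoidHom.mem_ker]
    have : psi V d ∈ A' := hA' ▸ Subgroup.mem_map_of_mem _ hd
    rw [hb, Subgroup.mem_bot] at this
    exact this
  obtain ⟨A₁, hA₁A', hmin⟩ := h.exists_minBest_le hA'H hA'b hA'1
  have hA₁H : A₁ ≤ H := hA₁A'.trans hA'H
  have hTrv := h.isTrv_of_isMinBest hA₁H hmin
  obtain ⟨-, ⟨e⟩, hcard4, -, -, -, hfaith, -⟩ := h.E_structure hA₁H hTrv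
  obtain ⟨E, hE⟩ : ∃ E, E = ⁅ppc 2 H, A₁⁆ ⊔ A₁ := ⟨_, rfl⟩
  rw [← hE] at hcard4 hfaith
  have hEcard : Nat.card E = 6 := by
    rw [hE, Nat.card_congr e.toEquiv]
    exact FFact.card_SL2_two
  have hEH : E ≤ H := by
    rw [hE]
    refine sup_le ?_ hA₁H
    have hAQ : A₁ ≤ Subgroup.normalizer (ppc 2 H : Set (HolG V)) :=
      hA₁H.trans (le_normalizer_ppc 2 H)
    exact (Subgroup.le_normalizer_iff_commutator_le_left.1 hAQ).trans (ppc_le 2 H)
  obtain ⟨U', hU'⟩ : ∃ U', U' = ⁅VV V, E⁆ := ⟨_, rfl⟩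
  rw [← hU'] at hcard4 hfaith
  have hU'VV : U' ≤ VV V := by
    rw [hU']
    apply Subgroup.le_normalizer_iff_commutator_le_left.1
    rw [Subgroup.normalizer_eq_top]; exact le_top
  have hEU' : E ≤ Subgroup.normalizer (U' : Set (HolG V)) := by
    rw [hU']; exact Subgroup.normalizer_commutator_ge_right (VV V) E
  -- pull back
  obtain ⟨E₀, hE₀⟩ : ∃ E₀, E₀ = E.comap (psi V) := ⟨_, rfl⟩
  obtain ⟨U₀, hU₀⟩ : ∃ U₀ : Subgroup V, U₀ = U'.comap (inl : ↥V →* HolG V) := ⟨_, rfl⟩
  obtain ⟨U, hU⟩ : ∃ U, U = U₀.map V.subtype := ⟨_, rfl⟩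
  have hUV : U ≤ V := hU ▸ Subgroup.map_subtype_le _
  have hVC : V ≤ Subgroup.centralizer (V : Set G) := by
    intro v hv
    rw [Subgroup.mem_centralizer_iff]
    intro w hw
    have := hV.1.is_comm.comm ⟨w, hw⟩ ⟨v, hv⟩
    exact congrArg Subtype.val this
  have hkerE₀ : Subgroup.centralizer (V : Set G) ≤ E₀ := by
    intro g hg
    rw [hE₀, Subgroup.mem_comap]
    rw [← mem_ker_psi_iff, MonoidHom.mem_ker] at hg
    rw [hg]; exact E.one_mem
  have hUE₀ : U ≤ E₀ := hUV.trans (hVC.trans hkerE₀)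
  have hU4 : Nat.card U = 4 := by
    rw [hU, Subgroup.card_map_of_injective V.subtype_injective]
    have h1 : U₀.map (inl : ↥V →* HolG V) = U' := by
      rw [hU₀, Subgroup.map_comap_eq, inf_eq_right]
      exact hU'VV
    have h2 : Nat.card (U₀.map (inl : ↥V →* HolG V)) = Nat.card U₀ :=
      Subgroup.card_map_of_injective inl_injective
    rw [← h2, h1, hcard4]
    norm_num
  have hU2 : ∀ u ∈ U, u * u = 1 := by
    intro u hu
    have := hV.2 u (hUV hu)
    rwa [pow_two] at this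
  have hmemU : ∀ v : V, (v : G) ∈ U ↔ (inl v : HolG V) ∈ U' := by
    intro v
    rw [hU, hU₀]
    constructor
    · rintro ⟨w, hw, hwv⟩
      have : w = v := Subtype.ext hwv
      rw [← this]; exact hw
    · intro hv
      exact ⟨v, hv, rfl⟩
  have hconj : ∀ g ∈ E₀, ∀ u ∈ U, g * u * g⁻¹ ∈ U := by
    intro g hg u hu
    have huV : u ∈ V := hUV hu
    have h1 : (inl (⟨u, huV⟩ : V) : HolG V) ∈ U' := (hmemU ⟨u, huV⟩).1 hu
    have h2 : psi V g ∈ E := by rw [hE₀] at hg; exact hg
    have h3 := (Subgroup.mem_normalizer_iff.1 (hEU' h2) _).1 h1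
    rw [psi_conj] at h3
    have h4 := (hmemU _).2 h3
    simpa [MulAut.conjNormal_apply] using h4
  have hEU : E₀ ≤ Subgroup.normalizer (U : Set G) := by
    intro g hg
    rw [Subgroup.mem_normalizer_iff]
    intro u
    constructor
    · exact hconj g hg u
    · intro hu
      have := hconj g⁻¹ (E₀.inv_mem hg) _ hu
      have e : g⁻¹ * (g * u * g⁻¹) * g⁻¹⁻¹ = u := by group
      rwa [e] at this
  have hinf : E₀ ⊓ Subgroup.centralizer (U : Set G) = Subgroup.centralizer (V : Set G) := by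
    apply le_antisymm
    · rintro g ⟨hgE, hgC⟩
      rw [← mem_ker_psi_iff, MonoidHom.mem_ker]
      have h2 : psi V g ∈ E := by rw [hE₀] at hgE; exact hgE
      have h3 : psi V g ∈ Subgroup.centralizer (U' : Set (HolG V)) := by
        rw [Subgroup.mem_centralizer_iff]
        intro w hw
        obtain ⟨v, rfl⟩ := hU'VV hw
        have hvU : (v : G) ∈ U := (hmemU v).2 hw
        have h4 : psi V g * inl v * (psi V g)⁻¹ = inl v := by
          rw [psi_conj]
          congr 1
          apply Subtype.ext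
          rw [MulAut.conjNormal_apply]
          have := Subgroup.mem_centralizer_iff.1 hgC (v : G) hvU
          calc g * (v : G) * g⁻¹ = ((v : G) * g) * g⁻¹ := by rw [this]
            _ = v := by group
        calc inl v * psi V g = (psi V g * inl v * (psi V g)⁻¹) * psi V g := by rw [h4]
          _ = psi V g * inl v := by group
      have h5 : psi V g ∈ E ⊓ Subgroup.centralizer (U' : Set (HolG V)) := ⟨h2, h3⟩
      rw [hfaith, Subgroup.mem_bot] at h5
      exact h5
    · intro g hg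
      refine ⟨hkerE₀ hg, ?_⟩
      exact Subgroup.centralizer_le (SetLike.coe_subset_coe.2 hUV) hg
  have hidx : Nat.card E₀ = 6 * Nat.card (E₀ ⊓ Subgroup.centralizer (U : Set G) : Subgroup G) := by
    rw [hinf]
    have h1 := card_map_mul_card_inf_ker (psi V) E₀
    have h2 : E₀.map (psi V) = E := by
      rw [hE₀, Subgroup.map_comap_eq, inf_eq_right, ← hHrange]
      exact hEH
    have h3 : E₀ ⊓ (psi V).ker = Subgroup.centralizer (V : Set G) := by
      rw [ker_psi, inf_eq_right]; exact hkerE₀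
    rw [h2, h3, hEcard] at h1
    exact h1.symm
  exact involves_S4_of_section U E₀ hUE₀ hU4 hU2 hEU (hinf ▸ hC2) hidx

end TN

end Cfsg.Agent.Helper1
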