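import Mathlib
import Cfsg.Prelude.Def_PLocal
import Cfsg.Prelude.Def_LocalEven
import Cfsg.Agent.Helper1.TNa
import Cfsg.Agent.Helper1.TNf
import Cfsg.Agent.Helper1.AbelianAct

set_option autoImplicit false

/-!
The minimal configuration of Thompson's normal `p`-complement theorem: `V = Ω₁(Z(O_p(G)))`,
`C_G(V) = O_p(G)`, and a best offender on `V` acting nontrivially.
-/

namespace Cfsg.Agent.Helper1

namespace TN

open scoped Pointwise commutatorElement
open ThompsonRed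
open Cfsg.Agent.Lead.ZJ Cfsg.Agent.Lead.Repl

universe u

variable {G : Type u} [Group G]

/-- `Ω₁(Z(Q))` as a subgroup of `G`. -/
def omZ (p : ℕ) (Q : Subgroup G) : Subgroup G where
  carrier := {v | v ∈ Q ∧ v ∈ Subgroup.centralizer (Q : Set G) ∧ v ^ p = 1}
  one_mem' := ⟨Q.one_mem, Subgroup.one_mem _, one_pow p⟩
  mul_mem' := by
    rintro a b ⟨ha1, ha2, ha3⟩ ⟨hb1, hb2, hb3⟩
    refine ⟨Q.mul_mem ha1 hb1, Subgroup.mul_mem _ ha2 hb2, ?_⟩
    have hc : Commute a b := (Subgroup.mem_centralizer_iff.1 ha2 b hb1).symm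
    rw [hc.mul_pow, ha3, hb3, one_mul]
  inv_mem' := by
    rintro a ⟨ha1, ha2, ha3⟩
    exact ⟨Q.inv_mem ha1, Subgroup.inv_mem _ ha2, by rw [inv_pow, ha3, inv_one]⟩

theorem mem_omZ {p : ℕ} {Q : Subgroup G} {v : G} :
    v ∈ omZ p Q ↔ v ∈ Q ∧ v ∈ Subgroup.centralizer (Q : Set G) ∧ v ^ p = 1 := Iff.rfl

theorem omZ_le (p : ℕ) (Q : Subgroup G) : omZ p Q ≤ Q := fun _ h => h.1

theorem omZ_le_centralizer (p : ℕ) (Q : Subgroup G) :
    omZ p Q ≤ Subgroup.centralizer (Q : Set G) := fun _ h => h.2.1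

theorem omZ_comm (p : ℕ) (Q : Subgroup G) : ∀ x ∈ omZ p Q, ∀ y ∈ omZ p Q, x * y = y * x :=
  fun x hx y hy => (Subgroup.mem_centralizer_iff.1 hx.2.1 y hy.1).symm

instance omZ_normal (p : ℕ) (Q : Subgroup G) [hQ : Q.Normal] : (omZ p Q).Normal := by
  refine ⟨fun v hv g => ?_⟩
  haveI : (Subgroup.centralizer (Q : Set G)).Normal := inferInstance
  refine ⟨hQ.conj_mem v hv.1 g, Subgroup.Normal.conj_mem inferInstance v hv.2.1 g, ?_⟩
  rw [conj_pow, hv.2.2]; group

theorem omZ_isElementaryAbelian (p : ℕ) (Q : Subgroup G) :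
    Cfsg.IsElementaryAbelian p (omZ p Q) := by
  refine ⟨⟨⟨fun x y => Subtype.ext (omZ_comm p Q x x.2 y y.2)⟩⟩, fun a ha => ha.2.2⟩

section struct

variable [Finite G] {p : ℕ} [hp : Fact p.Prime]

/-- `C_G(Ω₁(Z(O_p(G)))) = O_p(G)` in the minimal configuration. -/
theorem centralizer_omZ (P : Sylow p G) (hyp : Hyp p jaFunctor centerFunctor G P)
    (hS : Struct p G P) :
    Subgroup.centralizer (omZ p (Cfsg.pCore p G) : Set G) = Cfsg.pCore p G := by
  obtain ⟨Q, hQ⟩ : ∃ Q, Q = Cfsg.pCore p G := ⟨_, rfl⟩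
  rw [← hQ]
  haveI hQn : Q.Normal := by rw [hQ]; infer_instance
  have hQp : IsPGroup p Q := hQ ▸ pCore_isPGroup p
  have hQP : Q ≤ P := hQ ▸ pCore_le_sylow P
  have hcent : Subgroup.centralizer (Q : Set G) ≤ Q := hQ ▸ hS.cent_le
  have hCZ := struct_centralizer_center hS hyp
  obtain ⟨V, hV⟩ : ∃ V, V = omZ p Q := ⟨_, rfl⟩
  rw [← hV]
  haveI hVn : V.Normal := by rw [hV]; infer_instance
  obtain ⟨C, hC⟩ : ∃ C, C = Subgroup.centralizer (V : Set G) := ⟨_, rfl⟩
  rw [← hC]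
  haveI hCn : C.Normal := by rw [hC]; infer_instance
  obtain ⟨ZQ, hZQ⟩ : ∃ ZQ, ZQ = Q ⊓ Subgroup.centralizer (Q : Set G) := ⟨_, rfl⟩
  haveI hZQn : ZQ.Normal := by rw [hZQ]; infer_instance
  have hZQp : IsPGroup p ZQ := hQp.to_le (hZQ ▸ inf_le_left)
  haveI hZQc : IsMulCommutative ZQ := by
    refine ⟨⟨fun x y => Subtype.ext ?_⟩⟩
    have hx : (x : G) ∈ Q ⊓ Subgroup.centralizer (Q : Set G) := hZQ ▸ x.2
    have hy : (y : G) ∈ Q ⊓ Subgroup.centralizer (Q : Set G) := hZQ ▸ y.2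
    exact (Subgroup.mem_centralizer_iff.1 hx.2 y hy.1).symm
  have hZP : (P : Subgroup G) ⊓ Subgroup.centralizer ((P : Subgroup G) : Set G) ≤ ZQ := by
    intro z hz
    have hzCQ : z ∈ Subgroup.centralizer (Q : Set G) :=
      Subgroup.centralizer_le (SetLike.coe_subset_coe.2 hQP) hz.2
    rw [hZQ]
    exact ⟨hcent hzCQ, hzCQ⟩
  apply le_antisymm
  · -- `C` is a `p`-group
    have hCp : IsPGroup p C := by
      intro g
      obtain ⟨k, m, hm, hkm⟩ := Nat.exists_eq_pow_mul_and_not_dvd (orderOf_pos (g : G)).ne' p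
        hp.out.ne_one
      refine ⟨k, ?_⟩
      obtain ⟨y, hy⟩ : ∃ y : G, y = (g : G) ^ (p ^ k) := ⟨_, rfl⟩
      have hyC : y ∈ C := by rw [hy]; exact C.pow_mem g.2 _
      have hym : y ^ m = 1 := by
        rw [hy, ← pow_mul, ← hkm, pow_orderOf_eq_one]
      have hmcop : m.Coprime p := (Nat.Coprime.symm ((Nat.Prime.coprime_iff_not_dvd hp.out).2 hm))
      obtain ⟨A, hA⟩ : ∃ A, A = Subgroup.zpowers y := ⟨_, rfl⟩
      have hAcard : Nat.card A ∣ m := by
        rw [hA, Nat.card_zpowers]; exact orderOf_dvd_of_pow_eq_one hym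
      obtain ⟨j, hj⟩ := IsPGroup.iff_card.1 hZQp
      have hcop : (Nat.card A).Coprime (Nat.card ZQ) := by
        rw [hj]
        exact Nat.Coprime.pow_right j (Nat.Coprime.coprime_dvd_left hAcard hmcop)
      have hAN : A ≤ Subgroup.normalizer (ZQ : Set G) := by
        rw [Subgroup.normalizer_eq_top]; exact le_top
      have hdec := (abelian_coprime_decomp A ZQ hAN hcop).1
      have hcomm : ⁅ZQ, A⁆ = ⊥ := by
        by_contra hne
        have hle : ⁅ZQ, A⁆ ≤ ZQ := Subgroup.le_normalizer_iff_commutator_le_left.1 hAN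
        have hXp : IsPGroup p (⁅ZQ, A⁆ : Subgroup G) := hZQp.to_le hle
        obtain ⟨i, hi⟩ := IsPGroup.iff_card.1 hXp
        have hi0 : i ≠ 0 := by
          rintro rfl
          rw [pow_zero] at hi
          exact hne (Subgroup.card_eq_one.1 hi)
        have hdvd : p ∣ Nat.card (⁅ZQ, A⁆ : Subgroup G) := by rw [hi]; exact dvd_pow_self p hi0
        obtain ⟨z, hz⟩ := exists_prime_orderOf_dvd_card' p hdvd
        have hzp : (z : G) ^ p = 1 := by
          have : z ^ p = 1 := by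
            have h := pow_orderOf_eq_one z
            rwa [hz] at h
          exact_mod_cast congrArg Subtype.val this
        have hzZQ : (z : G) ∈ ZQ := hle z.2
        have hzV : (z : G) ∈ V := by
          rw [hV, mem_omZ]
          have : (z : G) ∈ Q ⊓ Subgroup.centralizer (Q : Set G) := hZQ ▸ hzZQ
          exact ⟨this.1, this.2, hzp⟩
        have hzA : (z : G) ∈ Subgroup.centralizer (A : Set G) := by
          rw [Subgroup.mem_centralizer_iff]
          intro w hw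
          rw [hA] at hw
          obtain ⟨n, rfl⟩ := Subgroup.mem_zpowers_iff.1 hw
          have h1 : Commute y (z : G) := by
            rw [hC] at hyC
            exact (Subgroup.mem_centralizer_iff.1 hyC (z : G) hzV).symm
          exact (h1.zpow_left n).eq
        have hzbot : (z : G) ∈ (ZQ ⊓ Subgroup.centralizer (A : Set G)) ⊓ ⁅ZQ, A⁆ :=
          ⟨⟨hzZQ, hzA⟩, z.2⟩
        rw [hdec, Subgroup.mem_bot] at hzbot
        have hz1 : z = 1 := Subtype.ext hzbot
        rw [hz1, orderOf_one] at hz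
        exact hp.out.one_lt.ne hz
      -- `y` centralizes `Z(P)`, so `y ∈ P`
      have hyP : y ∈ (P : Subgroup G) := by
        rw [← hCZ, Subgroup.mem_centralizer_iff]
        intro z hz
        have hzZQ : z ∈ ZQ := hZP hz
        have h1 : ⁅z, y⁆ ∈ ⁅ZQ, A⁆ :=
          Subgroup.commutator_mem_commutator hzZQ (hA ▸ Subgroup.mem_zpowers y)
        rw [hcomm, Subgroup.mem_bot, commutatorElement_eq_one_iff_mul_comm] at h1
        exact h1
      obtain ⟨a, ha⟩ := P.2 ⟨y, hyP⟩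
      have ha' : y ^ (p ^ a) = 1 := by
        have := congrArg Subtype.val ha
        simpa using this
      have h1 : orderOf y ∣ p ^ a := orderOf_dvd_of_pow_eq_one ha'
      have h2 : orderOf y ∣ m := orderOf_dvd_of_pow_eq_one hym
      have h3 : orderOf y = 1 :=
        Nat.eq_one_of_dvd_coprimes (Nat.Coprime.pow_left a hmcop.symm) h1 h2
      rw [orderOf_eq_one_iff] at h3
      apply Subtype.ext
      rw [Subgroup.coe_pow, ← hy, h3]; rfl
    rw [hQ]
    exact le_pCore hCn hCp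
  · rw [hC, Subgroup.le_centralizer_iff, hV]
    exact omZ_le_centralizer p Q

/-- In the minimal configuration some abelian subgroup of `P` of largest order is not contained in
`O_p(G)`. -/
theorem exists_fam_not_le (P : Sylow p G) (hyp : Hyp p jaFunctor centerFunctor G P)
    (hS : Struct p G P) :
    ∃ A ∈ (goodAb G).fam (P : Subgroup G), ¬ A ≤ Cfsg.pCore p G := by
  by_contra hcon
  push Not at hcon
  have hQP : Cfsg.pCore p G ≤ P := pCore_le_sylow P
  have hJQ : Cfsg.thompsonSubgroupAOf (P : Subgroup G) ≤ Cfsg.pCore p G := by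
    rw [thompsonSubgroupAOf_eq_sSup]
    exact sSup_le hcon
  have h1 := thompsonSubgroupAOf_eq_of_le hQP hJQ
  have h2 := jaFunctor.normalizer_le (Cfsg.pCore p G)
  rw [jaFunctor_of, h1, struct_normalizer_ja hS hyp, Subgroup.normalizer_eq_top] at h2
  have htop : (P : Subgroup G) = ⊤ := eq_top_iff.2 h2
  exact hS.not_nilp (hasNormalPComplement_of_sylow_eq_top P htop)

/-- In the minimal configuration there is a best offender on `V = Ω₁(Z(O_p(G)))` acting
nontrivially. -/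
theorem exists_best_offender_struct (P : Sylow p G) (hyp : Hyp p jaFunctor centerFunctor G P)
    (hS : Struct p G P) :
    ∃ D : Subgroup G, Cfsg.IsBestOffenderOn p (omZ p (Cfsg.pCore p G)) D ∧
      ¬ D ≤ Subgroup.centralizer (omZ p (Cfsg.pCore p G) : Set G) := by
  have hCV := centralizer_omZ P hyp hS
  obtain ⟨A, hA, hAQ⟩ := exists_fam_not_le P hyp hS
  obtain ⟨Q, hQ⟩ : ∃ Q, Q = Cfsg.pCore p G := ⟨_, rfl⟩
  rw [← hQ] at hCV hAQ ⊢
  haveI hQn : Q.Normal := by rw [hQ]; infer_instance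
  have hQP : Q ≤ P := hQ ▸ pCore_le_sylow P
  obtain ⟨V, hV⟩ : ∃ V, V = omZ p Q := ⟨_, rfl⟩
  rw [← hV] at hCV ⊢
  haveI hVn : V.Normal := by rw [hV]; infer_instance
  have hVc : ∀ x ∈ V, ∀ y ∈ V, x * y = y * x := hV ▸ omZ_comm p Q
  have hVp : ∀ v ∈ V, v ^ p = 1 := fun v hv => (hV ▸ hv : v ∈ omZ p Q).2.2
  have hVQ : V ≤ Q := hV ▸ omZ_le p Q
  have hVCQ : V ≤ Subgroup.centralizer (Q : Set G) := hV ▸ omZ_le_centralizer p Q
  have hAV : A ≤ Subgroup.normalizer (V : Set G) := by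
    rw [Subgroup.normalizer_eq_top]; exact le_top
  have hAp : IsPGroup p A := P.2.to_le hA.1
  have hoff : Nat.card (A ⊓ Subgroup.centralizer (V : Set G) : Subgroup G) * Nat.card V ≤
      Nat.card A * Nat.card (V ⊓ Subgroup.centralizer (A : Set G) : Subgroup G) := by
    rw [hCV]
    have hBc : ∀ x ∈ (A ⊓ Q) ⊔ V, ∀ y ∈ (A ⊓ Q) ⊔ V, x * y = y * x := by
      apply comm_sup
      · intro x hx y hy
        exact hA.2.1 x hx.1 y hy.1
      · exact hVc
      · intro x hx y hy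
        exact Subgroup.mem_centralizer_iff.1 (hVCQ hy) x hx.2
    have hBP : (A ⊓ Q) ⊔ V ≤ (P : Subgroup G) :=
      sup_le (inf_le_left.trans hA.1) (hVQ.trans hQP)
    have h1 := hA.2.2 _ hBP hBc
    have h2 := card_mul_le (A ⊓ Q) V
    have h3 : Nat.card ((A ⊓ Q) ⊓ V : Subgroup G) ≤
        Nat.card (V ⊓ Subgroup.centralizer (A : Set G) : Subgroup G) := by
      apply Subgroup.card_le_of_le
      rintro x ⟨⟨hxA, -⟩, hxV⟩
      refine Subgroup.mem_inf.2 ⟨hxV, ?_⟩
      rw [Subgroup.mem_centralizer_iff]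
      intro a ha
      exact hA.2.1 a ha x hxA
    calc Nat.card (A ⊓ Q : Subgroup G) * Nat.card V
        ≤ Nat.card ((A ⊓ Q) ⊔ V : Subgroup G) * Nat.card ((A ⊓ Q) ⊓ V : Subgroup G) := h2
      _ ≤ Nat.card A * Nat.card (V ⊓ Subgroup.centralizer (A : Set G) : Subgroup G) :=
        Nat.mul_le_mul h1 h3
  obtain ⟨D, -, hDb, hDC⟩ := exists_best_offender hVc hVp hAV hA.2.1 hAp hoff (by rw [hCV]; exact hAQ)
  exact ⟨D, hDb, hDC⟩

end struct

end TN

end Cfsg.Agent.Helper1
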