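import Mathlib
import Cfsg.Prelude.Def_PLocal
import Cfsg.Prelude.Def_LocalEven
import Cfsg.Agent.Helper1.TNg
import Cfsg.Agent.Helper1.TNh

set_option autoImplicit false

/-!
Thompson's normal `p`-complement theorem for `J(S)` generated by the abelian subgroups of largest
order, for odd `p` or `S₄`-free groups.
-/

namespace Cfsg.Agent.Helper1

namespace TN

open scoped Pointwise commutatorElement
open ThompsonRed

universe u

/-- The final contradiction for `p = 2`: `S₄` is involved. -/
theorem final_even (G : Type u) [Group G] [Finite G] (P : Sylow 2 G)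
    (hyp : Hyp 2 jaFunctor centerFunctor G P) (hS : Struct 2 G P) :
    Cfsg.Involves (Equiv.Perm (Fin 4)) G := by
  haveI : Fact (Nat.Prime 2) := ⟨Nat.prime_two⟩
  obtain ⟨D, hDb, hDC⟩ := exists_best_offender_struct P hyp hS
  have hCV := centralizer_omZ P hyp hS
  obtain ⟨K, hKn, hUK, hKK, hcop, hidx⟩ := hS.exK
  haveI := hKn
  have hsep : Cfsg.IsPSolvable 2 G :=
    isPSolvable_of_chain (Cfsg.pCore 2 G) K hUK (IsPGroup.iff_card.1 (pCore_isPGroup 2)) hcop hidx
  refine involves_S4_of_best_offender (omZ 2 (Cfsg.pCore 2 G)) (omZ_isElementaryAbelian 2 _) hsep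
    ?_ ?_ D hDb hDC
  · intro D' hD'n hle hk
    rw [hCV] at hle hk ⊢
    obtain ⟨k, hk⟩ := hk
    apply le_antisymm _ hle
    apply le_pCore hD'n
    obtain ⟨a, ha⟩ := IsPGroup.iff_card.1 (pCore_isPGroup 2 (G := G))
    apply IsPGroup.of_card (n := k + a)
    rw [← relIndex_mul_card_of_le hle, hk, ha, pow_add]
  · rw [hCV]; exact pCore_isPGroup 2

variable {p : ℕ}

/-- Passing the hypothesis to a `p`-local subgroup. -/
theorem hyp_loc {G : Type u} [Group G] [Finite G] [hp : Fact p.Prime] (F₁ F₂ : CharFunctor.{u})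
    (hne1 : ∀ (R : Type u) [Group R] [Finite R], IsPGroup p R → Nontrivial R → F₁.W R ≠ ⊥)
    (hne2 : ∀ (R : Type u) [Group R] [Finite R], IsPGroup p R → Nontrivial R → F₂.W R ≠ ⊥)
    (P' : Sylow p G) (Q : Subgroup G) (hQp : IsPGroup p Q) (hQ1 : Q ≠ ⊥)
    (R : Sylow p ↥(Subgroup.normalizer (Q : Set G)))
    (hRP' : (R : Subgroup ↥(Subgroup.normalizer (Q : Set G))).map
        (Subgroup.normalizer (Q : Set G)).subtype ≤ P')
    (h : Hyp p F₁ F₂ G P')
    (hT : (R : Subgroup ↥(Subgroup.normalizer (Q : Set G))).map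
          (Subgroup.normalizer (Q : Set G)).subtype ≠ P' →
        ∀ T : Subgroup G, IsPGroup p T → T ≠ ⊥ →
          (P' : Subgroup G) ⊓ Subgroup.normalizer
            (((R : Subgroup ↥(Subgroup.normalizer (Q : Set G))).map
              (Subgroup.normalizer (Q : Set G)).subtype : Subgroup G) : Set G) ≤
            Subgroup.normalizer (T : Set G) →
          Cfsg.HasNormalPComplement p ↥(Subgroup.normalizer (T : Set G))) :
    Hyp p F₁ F₂ ↥(Subgroup.normalizer (Q : Set G)) R := by
  obtain ⟨N, hN⟩ : ∃ N, N = Subgroup.normalizer (Q : Set G) := ⟨_, rfl⟩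
  subst hN
  obtain ⟨R', hR'⟩ : ∃ R', R' = (R : Subgroup ↥(Subgroup.normalizer (Q : Set G))).map
      (Subgroup.normalizer (Q : Set G)).subtype := ⟨_, rfl⟩
  rw [← hR'] at hRP' hT
  have hR'p : IsPGroup p R' := hR' ▸ R.2.map _
  have hQR' : Q ≤ R' := by
    have h1 : IsPGroup p (Q.subgroupOf (Subgroup.normalizer (Q : Set G))) :=
      hQp.comap_of_injective _ (Subgroup.subtype_injective _)
    haveI : (Q.subgroupOf (Subgroup.normalizer (Q : Set G))).Normal :=
      Subgroup.normal_in_normalizer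
    have h2 : Q.subgroupOf (Subgroup.normalizer (Q : Set G)) ≤ R := h1.le_sylow_of_normal R
    intro x hx
    have hxN : x ∈ Subgroup.normalizer (Q : Set G) := Subgroup.le_normalizer hx
    rw [hR']
    exact ⟨⟨x, hxN⟩, h2 (by rw [Subgroup.mem_subgroupOf]; exact hx), rfl⟩
  have hR'1 : R' ≠ ⊥ := by
    intro h0
    apply hQ1
    rw [eq_bot_iff, ← h0]
    exact hQR'
  have key : ∀ F : CharFunctor.{u},
      (∀ (R : Type u) [Group R] [Finite R], IsPGroup p R → Nontrivial R → F.W R ≠ ⊥) →
      R' ≠ P' →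
      Cfsg.HasNormalPComplement p ↥(Subgroup.normalizer (F.of R' : Set G)) := by
    intro F hne hRP
    exact hT hRP (F.of R') (hR'p.to_le (F.of_le R')) (of_ne_bot F hne hR'p hR'1)
      (inf_le_right.trans (F.normalizer_le R'))
  apply hyp_of_local
  · rw [← hR']
    by_cases hRP : R' = P'
    · rw [hRP]; exact h.1
    · exact key F₁ hne1 hRP
  · rw [← hR']
    by_cases hRP : R' = P'
    · rw [hRP]; exact h.2
    · exact hasNormalPComplement_of_le (Subgroup.centralizer_le_normalizer _) (key F₂ hne2 hRP)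

/-- Thompson's normal `p`-complement theorem for the abelian version of `J`. -/
theorem thompson_ja [hp : Fact p.Prime] (G : Type u) [Group G] [Finite G] (P : Sylow p G)
    (h : p ≠ 2 ∨ ¬ Cfsg.Involves (Equiv.Perm (Fin 4)) G)
    (hC : Cfsg.HasNormalPComplement p (Subgroup.centralizer (((P : Subgroup G) ⊓
      Subgroup.centralizer (P : Set G)) : Set G)))
    (hN : Cfsg.HasNormalPComplement p
      (Subgroup.normalizer (Cfsg.thompsonSubgroupAOf (P : Subgroup G) : Set G))) :
    Cfsg.HasNormalPComplement p G := by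
  have hne1 : ∀ (R : Type u) [Group R] [Finite R], IsPGroup p R → Nontrivial R →
      jaFunctor.W R ≠ ⊥ := fun R _ _ h1 h2 => jaFunctor_ne_bot R h1 h2
  have hne2 : ∀ (R : Type u) [Group R] [Finite R], IsPGroup p R → Nontrivial R →
      centerFunctor.W R ≠ ⊥ := fun R _ _ h1 h2 => centerFunctor_ne_bot R h1 h2
  refine ThompsonRedAbs.reduction_abs (p := p)
    (fun G _ P => Hyp p jaFunctor centerFunctor G P ∧
      (p ≠ 2 ∨ ¬ Cfsg.Involves (Equiv.Perm (Fin 4)) G)) ?_ ?_ ?_ ?_ ?_ ?_ G P
    ⟨⟨by rw [jaFunctor_of]; exact hN, by rw [centerFunctor_of]; exact hC⟩, h⟩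
  · intro G _ _ P g h
    exact ⟨hyp_conj g h.1, h.2⟩
  · intro G _ _ K _ hK P h
    refine ⟨hyp_quot K hK P.2 h.1, ?_⟩
    rcases h.2 with h2 | h2
    · exact Or.inl h2
    · right
      intro hi
      exact h2 (QuadFree.involves_of_surjective (QuotientGroup.mk' K)
        (QuotientGroup.mk'_surjective K) hi)
  · intro G _ _ P H hPH h
    refine ⟨hyp_sub hPH h.1, ?_⟩
    rcases h.2 with h2 | h2
    · exact Or.inl h2
    · right
      intro hi
      exact h2 (QuadFree.involves_of_injective H.subtype H.subtype_injective hi)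
  · intro G _ _ P' Q hQp hQ1 R hRP' h hT
    refine ⟨hyp_loc jaFunctor centerFunctor hne1 hne2 P' Q hQp hQ1 R hRP' h.1 hT, ?_⟩
    rcases h.2 with h2 | h2
    · exact Or.inl h2
    · right
      intro hi
      exact h2 (QuadFree.involves_of_injective (Subgroup.normalizer (Q : Set G)).subtype
        (Subgroup.subtype_injective _) hi)
  · intro G _ _ P h hG hPU hloc
    refine ⟨hyp_quotU hne1 hne2 (Cfsg.pCore p G) (pCore_isPGroup p) P.2 hPU hloc, ?_⟩
    rcases h.2 with h2 | h2
    · exact Or.inl h2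
    · right
      intro hi
      exact h2 (QuadFree.involves_of_surjective (QuotientGroup.mk' (Cfsg.pCore p G))
        (QuotientGroup.mk'_surjective _) hi)
  · intro G _ _ P h hS
    by_cases hp2 : p = 2
    · subst hp2
      rcases h.2 with h2 | h2
      · exact h2 rfl
      · exact h2 (final_even G P h.1 hS)
    · exact final_odd hp2 G P h.1 hS

end TN

end Cfsg.Agent.Helper1
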