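import Mathlib
import Cfsg.Agent.Helper2.GenHyper
import Cfsg.Agent.Helper4.CopAutC

/-!
# Two commuting automorphisms of order three of a 2-group

If `σ, τ` are commuting automorphisms of a finite 2-group `Q` with `σ³ = τ³ = 1`, then `Q` is
generated by the fixed points of `σ`, `τ`, `στ`, `στ²`; we record the consequence for a third
automorphism fixing all of these.  Proof: transport of `Helper2.le_iSup_hyperplane_centralizers`
through the holomorph.
-/

set_option autoImplicit false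

namespace Cfsg.Agent.Helper1.TTS

open SemidirectProduct

theorem fix_of_sq {Q : Type*} [Group Q] (β : MulAut Q) (hβ : β ^ 3 = 1) (q : Q)
    (h : (β * β) q = q) : β q = q := by
  have h1 : β (β (β q)) = q := by
    have := congrArg (fun f : MulAut Q => f q) hβ
    simpa [pow_succ, MulAut.mul_apply] using this
  have h2 : β (β q) = q := h
  rw [h2] at h1
  exact h1

theorem mem_closure_pair_comm {G : Type*} [Group G] {σ τ : G} (hc : Commute σ τ) {α : G}
    (hα : α ∈ Subgroup.closure ({σ, τ} : Set G)) : ∃ m n : ℤ, α = σ ^ m * τ ^ n := by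
  induction hα using Subgroup.closure_induction with
  | mem x hx =>
    rcases hx with rfl | hx
    · exact ⟨1, 0, by simp⟩
    · rw [Set.mem_singleton_iff] at hx
      subst hx
      exact ⟨0, 1, by simp⟩
  | one => exact ⟨0, 0, by simp⟩
  | mul x y _ _ hx hy =>
    obtain ⟨m, n, rfl⟩ := hx
    obtain ⟨m', n', rfl⟩ := hy
    refine ⟨m + m', n + n', ?_⟩
    have h1 : Commute (τ ^ n) (σ ^ m') := (hc.zpow_zpow m' n).symm
    calc σ ^ m * τ ^ n * (σ ^ m' * τ ^ n') = σ ^ m * (τ ^ n * σ ^ m') * τ ^ n' := by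
          simp only [mul_assoc]
      _ = σ ^ m * (σ ^ m' * τ ^ n) * τ ^ n' := by rw [h1.eq]
      _ = σ ^ (m + m') * τ ^ (n + n') := by rw [zpow_add, zpow_add]; simp only [mul_assoc]
  | inv x _ hx =>
    obtain ⟨m, n, rfl⟩ := hx
    refine ⟨-m, -n, ?_⟩
    have h1 : Commute (σ ^ (-m)) (τ ^ (-n)) := hc.zpow_zpow _ _
    rw [mul_inv_rev, ← zpow_neg, ← zpow_neg, h1.eq]

/-- the elements of the group generated by two commuting elements of order dividing three -/
theorem mem_closure_pair_three {G : Type*} [Group G] {σ τ : G} (hc : Commute σ τ)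
    (hσ : σ ^ 3 = 1) (hτ : τ ^ 3 = 1) {α : G}
    (hα : α ∈ Subgroup.closure ({σ, τ} : Set G)) :
    α = 1 ∨ α = σ ∨ α = σ * σ ∨ α = τ ∨ α = τ * τ ∨ α = σ * τ ∨ α = (σ * τ) * (σ * τ) ∨
      α = σ * τ * τ ∨ α = (σ * τ * τ) * (σ * τ * τ) := by
  obtain ⟨m, n, rfl⟩ := mem_closure_pair_comm hc hα
  rw [zpow_eq_zpow_emod' m hσ, zpow_eq_zpow_emod' n hτ]
  have hm0 := Int.emod_nonneg m (by norm_num : ((3 : ℕ) : ℤ) ≠ 0)
  have hm1 := Int.emod_lt_of_pos m (by norm_num : (0 : ℤ) < ((3 : ℕ) : ℤ))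
  have hn0 := Int.emod_nonneg n (by norm_num : ((3 : ℕ) : ℤ) ≠ 0)
  have hn1 := Int.emod_lt_of_pos n (by norm_num : (0 : ℤ) < ((3 : ℕ) : ℤ))
  generalize m % ((3 : ℕ) : ℤ) = i at hm0 hm1
  generalize n % ((3 : ℕ) : ℤ) = j at hn0 hn1
  have hτ4 : τ * τ * τ = 1 := by rw [← hτ, pow_succ, pow_two]
  have hστ : σ * τ = τ * σ := hc.eq
  push_cast at hm1 hn1
  interval_cases i <;> interval_cases j
  · left; simp
  · right; right; right; left; simp
  · right; right; right; right; left; simp [pow_two]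
  · right; left; simp
  · right; right; right; right; right; left; simp
  · right; right; right; right; right; right; right; left; simp [pow_two, mul_assoc]
  · right; right; left; simp [pow_two]
  · -- σ²τ = (σττ)(σττ)
    right; right; right; right; right; right; right; right
    simp only [zpow_two, zpow_one]
    calc σ * σ * τ = σ * σ * τ * (τ * τ * τ) := by rw [hτ4, mul_one]
      _ = σ * τ * τ * (σ * τ * τ) := by
        have e1 : τ * τ * σ = σ * τ * τ := by
          rw [mul_assoc, ← hστ, ← mul_assoc, ← hστ]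
        calc σ * σ * τ * (τ * τ * τ) = σ * (σ * τ * τ) * (τ * τ) := by simp only [mul_assoc]
          _ = σ * (τ * τ * σ) * (τ * τ) := by rw [e1]
          _ = σ * τ * τ * (σ * τ * τ) := by simp only [mul_assoc]
  · right; right; right; right; right; right; left
    simp only [zpow_two]
    calc σ * σ * (τ * τ) = σ * (σ * τ) * τ := by simp only [mul_assoc]
      _ = σ * (τ * σ) * τ := by rw [hστ]
      _ = σ * τ * (σ * τ) := by simp only [mul_assoc]

theorem gen_aut {Q : Type*} [Group Q] [Finite Q] (hQ : IsPGroup 2 Q) (σ τ δ : MulAut Q)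
    (hσ : σ ^ 3 = 1) (hτ : τ ^ 3 = 1) (hc : σ * τ = τ * σ)
    (h : ∀ q : Q, (σ q = q ∨ τ q = q ∨ (σ * τ) q = q ∨ (σ * τ * τ) q = q) → δ q = q) :
    ∀ q : Q, δ q = q := by
  classical
  by_cases h1 : σ = 1
  · intro q; exact h q (Or.inl (by rw [h1]; rfl))
  by_cases h2 : τ = 1
  · intro q; exact h q (Or.inr (Or.inl (by rw [h2]; rfl)))
  by_cases h3 : σ * τ = 1
  · intro q; exact h q (Or.inr (Or.inr (Or.inl (by rw [h3]; rfl))))
  by_cases h4 : σ * τ * τ = 1
  · intro q; exact h q (Or.inr (Or.inr (Or.inr (by rw [h4]; rfl))))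
  have hcomm : Commute σ τ := hc
  have hστ : (σ * τ) ^ 3 = 1 := by rw [hcomm.mul_pow, hσ, hτ, one_mul]
  have hσττ : (σ * τ * τ) ^ 3 = 1 := by
    have : Commute (σ * τ) τ := hcomm.mul_left (Commute.refl τ)
    rw [this.mul_pow, hστ, hτ, one_mul]
  -- every nontrivial element of the group generated has its fixed points fixed by δ
  have key : ∀ α ∈ Subgroup.closure ({σ, τ} : Set (MulAut Q)), α ≠ 1 → ∀ q, α q = q → δ q = q := by
    intro α hα hα1 q hq
    rcases mem_closure_pair_three hcomm hσ hτ hα with rfl | rfl | rfl | rfl | rfl | rfl | rfl |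
      rfl | rfl
    · exact absurd rfl hα1
    · exact h q (Or.inl hq)
    · exact h q (Or.inl (fix_of_sq σ hσ q hq))
    · exact h q (Or.inr (Or.inl hq))
    · exact h q (Or.inr (Or.inl (fix_of_sq τ hτ q hq)))
    · exact h q (Or.inr (Or.inr (Or.inl hq)))
    · exact h q (Or.inr (Or.inr (Or.inl (fix_of_sq _ hστ q hq))))
    · exact h q (Or.inr (Or.inr (Or.inr hq)))
    · exact h q (Or.inr (Or.inr (Or.inr (fix_of_sq _ hσττ q hq))))
  haveI : Fact (Nat.Prime 3) := ⟨Nat.prime_three⟩
  haveI : Fact (Nat.Prime 2) := ⟨Nat.prime_two⟩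
  let φ : MulAut Q →* MulAut Q := MonoidHom.id _
  haveI : Finite (Q ⋊[φ] MulAut Q) := Cfsg.Agent.Helper4.CopAut.finite_sdp φ
  let X : Subgroup (Q ⋊[φ] MulAut Q) := (inl : Q →* Q ⋊[φ] MulAut Q).range
  let A0 : Subgroup (MulAut Q) := Subgroup.closure {σ, τ}
  let A : Subgroup (Q ⋊[φ] MulAut Q) := A0.map inr
  have hXn : X.Normal := Cfsg.Agent.Helper4.CopAut.KK_normal φ
  have hσA0 : σ ∈ A0 := Subgroup.subset_closure (by simp)
  have hτA0 : τ ∈ A0 := Subgroup.subset_closure (by simp)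
  -- A0 is commutative
  have hA0c : ∀ α ∈ A0, ∀ β ∈ A0, α * β = β * α := by
    have hle : A0 ≤ Subgroup.centralizer (A0 : Set (MulAut Q)) := by
      show Subgroup.closure {σ, τ} ≤ Subgroup.centralizer ((Subgroup.closure {σ, τ} : Subgroup (MulAut Q)) : Set (MulAut Q))
      rw [Subgroup.centralizer_closure, Subgroup.closure_le]
      intro x hx
      simp only [SetLike.mem_coe, Subgroup.mem_centralizer_iff]
      intro g hg
      have hxg : Commute g x := by
        rcases hx with rfl | hx <;> rcases hg with rfl | hg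
        · exact Commute.refl _
        · rw [Set.mem_singleton_iff] at hg; subst hg; exact hcomm.symm
        · rw [Set.mem_singleton_iff] at hx; subst hx; exact hcomm
        · rw [Set.mem_singleton_iff] at hx hg; subst hx; subst hg; exact Commute.refl _
      exact hxg.eq
    intro α hα β hβ
    have := hle hβ
    rw [Subgroup.mem_centralizer_iff] at this
    exact this α hα
  have hA : Cfsg.IsElementaryAbelian 3 A := by
    refine ⟨⟨⟨?_⟩⟩, ?_⟩
    · rintro ⟨_, α, hα, rfl⟩ ⟨_, β, hβ, rfl⟩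
      apply Subtype.ext
      show (inr α : Q ⋊[φ] MulAut Q) * inr β = inr β * inr α
      rw [← map_mul, ← map_mul, hA0c α hα β hβ]
    · rintro _ ⟨α, hα, rfl⟩
      rw [← map_pow]
      obtain ⟨m, n, rfl⟩ := mem_closure_pair_comm hcomm hα
      rw [(hcomm.zpow_zpow m n).mul_pow]
      have e1 : (σ ^ m) ^ 3 = 1 := by
        rw [← zpow_natCast, ← zpow_mul, mul_comm, zpow_mul, zpow_natCast, hσ, one_zpow]
      have e2 : (τ ^ n) ^ 3 = 1 := by
        rw [← zpow_natCast, ← zpow_mul, mul_comm, zpow_mul, zpow_natCast, hτ, one_zpow]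
      rw [e1, e2, one_mul, map_one]
  have hX3 : ¬ 3 ∣ Nat.card X := by
    have hc : Nat.card X = Nat.card Q := Cfsg.Agent.Helper4.CopAut.card_KK φ
    rw [hc]
    obtain ⟨k, hk⟩ := IsPGroup.iff_card.mp hQ
    rw [hk]
    intro hdiv
    have := (Nat.Prime.dvd_of_dvd_pow Nat.prime_three hdiv)
    omega
  have hAX : A ≤ Subgroup.normalizer (X : Set (Q ⋊[φ] MulAut Q)) := by
    rw [Subgroup.normalizer_eq_top_iff.2 hXn]; exact le_top
  have hgen := Cfsg.Agent.Helper2.le_iSup_hyperplane_centralizers 3 (Nat.card A) A X rfl hA hX3 hAX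
  -- the order of A exceeds 3
  have hAcard : 3 < Nat.card A := by
    by_contra hle
    rw [not_lt] at hle
    have ho : orderOf (inr σ : Q ⋊[φ] MulAut Q) = 3 := by
      rw [orderOf_injective (inr : MulAut Q →* Q ⋊[φ] MulAut Q) inr_injective]
      exact orderOf_eq_prime hσ h1
    have hzle : Subgroup.zpowers (inr σ : Q ⋊[φ] MulAut Q) ≤ A :=
      Subgroup.zpowers_le.mpr (Subgroup.mem_map_of_mem _ hσA0)
    have heq : Subgroup.zpowers (inr σ : Q ⋊[φ] MulAut Q) = A := by
      apply Subgroup.eq_of_le_of_card_ge hzle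
      rw [Nat.card_zpowers, ho]; exact hle
    have hτA : (inr τ : Q ⋊[φ] MulAut Q) ∈ A := Subgroup.mem_map_of_mem _ hτA0
    rw [← heq] at hτA
    obtain ⟨k, hk⟩ := Subgroup.mem_zpowers_iff.mp hτA
    rw [← map_zpow] at hk
    have hk' : σ ^ k = τ := inr_injective hk
    rw [zpow_eq_zpow_emod' k hσ] at hk'
    have hk0 := Int.emod_nonneg k (by norm_num : ((3 : ℕ) : ℤ) ≠ 0)
    have hk1 := Int.emod_lt_of_pos k (by norm_num : (0 : ℤ) < ((3 : ℕ) : ℤ))
    generalize k % ((3 : ℕ) : ℤ) = i at hk0 hk1 hk'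
    push_cast at hk1
    interval_cases i
    · apply h2; rw [← hk']; simp
    · apply h4
      rw [← hk', zpow_one, ← hσ, pow_succ, pow_two]
    · apply h3
      rw [← hk', zpow_two, ← hσ, pow_succ, pow_two, mul_assoc]
  -- conclusion
  have hXle : X ≤ Subgroup.centralizer ({(inr δ : Q ⋊[φ] MulAut Q)} : Set (Q ⋊[φ] MulAut Q)) := by
    refine le_trans hgen (iSup_le ?_)
    rintro ⟨B, hBA, hBi⟩ x ⟨hxX, hxB⟩
    have hBne : B ≠ ⊥ := by
      rintro rfl
      rw [Subgroup.relIndex_bot_left] at hBi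
      omega
    obtain ⟨b, hbB, hb1⟩ := B.bot_or_exists_ne_one.resolve_left hBne
    obtain ⟨α, hα, rfl⟩ := hBA hbB
    obtain ⟨q, rfl⟩ := hxX
    have hα1 : α ≠ 1 := by
      rintro rfl
      exact hb1 (map_one _)
    have hcomm' := (Subgroup.mem_centralizer_iff.mp hxB) (inr α) hbB
    have hfix : α q = q := by
      have e := Cfsg.Agent.Helper4.CopAut.inr_conj_inl φ α q
      rw [hcomm', mul_inv_cancel_right] at e
      exact (inl_injective e).symm
    have hδ := key α hα hα1 q hfix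
    rw [Subgroup.mem_centralizer_singleton_iff]
    have e := Cfsg.Agent.Helper4.CopAut.inr_conj_inl φ δ q
    have e' : φ δ q = δ q := rfl
    rw [e', hδ] at e
    calc (inl q : Q ⋊[φ] MulAut Q) * inr δ = (inr δ * inl q * (inr δ)⁻¹) * inr δ := by rw [e]
      _ = inr δ * inl q := by group
  intro q
  have hq : (inl q : Q ⋊[φ] MulAut Q) ∈ X := ⟨q, rfl⟩
  have h5 := hXle hq
  rw [Subgroup.mem_centralizer_singleton_iff] at h5
  have e := Cfsg.Agent.Helper4.CopAut.inr_conj_inl φ δ q
  rw [← h5, mul_inv_cancel_right] at e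
  exact (inl_injective e).symm

/-- conjugation by a normalizing element, as an automorphism of a subgroup -/
def conjAut {H : Type*} [Group H] (X : Subgroup H) (g : H)
    (hg : ∀ x ∈ X, g * x * g⁻¹ ∈ X) (hg' : ∀ x ∈ X, g⁻¹ * x * g ∈ X) : MulAut X where
  toFun x := ⟨g * x * g⁻¹, hg x x.2⟩
  invFun x := ⟨g⁻¹ * x * g, hg' x x.2⟩
  left_inv x := by ext; simp [mul_assoc]
  right_inv x := by ext; simp [mul_assoc]
  map_mul' x y := by ext; simp [mul_assoc]

theorem conjAut_apply {H : Type*} [Group H] (X : Subgroup H) (g : H)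
    (hg : ∀ x ∈ X, g * x * g⁻¹ ∈ X) (hg' : ∀ x ∈ X, g⁻¹ * x * g ∈ X) (x : X) :
    ((conjAut X g hg hg' x : X) : H) = g * x * g⁻¹ := rfl

/-- The ambient form: `s, t` normalize the 2-subgroup `X`, have order dividing three and commute
in their action on `X`; if `d` centralizes the fixed points on `X` of `s`, `t`, `st`, `st²`, then
`d` centralizes `X`. -/
theorem gen_amb {H : Type*} [Group H] [Finite H] (X : Subgroup H) (hX : IsPGroup 2 X)
    (s t d : H)
    (hs : ∀ x ∈ X, s * x * s⁻¹ ∈ X) (hs' : ∀ x ∈ X, s⁻¹ * x * s ∈ X)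
    (ht : ∀ x ∈ X, t * x * t⁻¹ ∈ X) (ht' : ∀ x ∈ X, t⁻¹ * x * t ∈ X)
    (hd : ∀ x ∈ X, d * x * d⁻¹ ∈ X) (hd' : ∀ x ∈ X, d⁻¹ * x * d ∈ X)
    (hs3 : s ^ 3 = 1) (ht3 : t ^ 3 = 1)
    (hst : ∀ x ∈ X, s * (t * x * t⁻¹) * s⁻¹ = t * (s * x * s⁻¹) * t⁻¹)
    (h : ∀ x ∈ X, (s * x * s⁻¹ = x ∨ t * x * t⁻¹ = x ∨ s * (t * x * t⁻¹) * s⁻¹ = x ∨
      s * (t * (t * x * t⁻¹) * t⁻¹) * s⁻¹ = x) → d * x * d⁻¹ = x) :
    ∀ x ∈ X, d * x * d⁻¹ = x := by
  have hcube : ∀ (g : H) (x : H), g ^ 3 = 1 → g * (g * (g * x * g⁻¹) * g⁻¹) * g⁻¹ = x := by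
    intro g x hg
    have e3 : g * g * g = 1 := by rw [← hg, pow_succ, pow_two]
    have e : g * (g * (g * x * g⁻¹) * g⁻¹) * g⁻¹ = (g * g * g) * x * (g * g * g)⁻¹ := by group
    rw [e, e3]; simp
  have key := gen_aut hX (conjAut X s hs hs') (conjAut X t ht ht') (conjAut X d hd hd') ?_ ?_ ?_ ?_
  · intro x hx
    have := key ⟨x, hx⟩
    exact congrArg Subtype.val this
  · ext x
    simp only [pow_succ, pow_zero, one_mul, MulAut.mul_apply, MulAut.one_apply, conjAut_apply]
    exact hcube s x hs3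
  · ext x
    simp only [pow_succ, pow_zero, one_mul, MulAut.mul_apply, MulAut.one_apply, conjAut_apply]
    exact hcube t x ht3
  · ext x
    simp only [MulAut.mul_apply, conjAut_apply]
    exact hst x x.2
  · intro q hq
    apply Subtype.ext
    rw [conjAut_apply]
    apply h q q.2
    rcases hq with hq | hq | hq | hq
    · left
      have := congrArg Subtype.val hq
      simpa only [conjAut_apply] using this
    · right; left
      have := congrArg Subtype.val hq
      simpa only [conjAut_apply] using this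
    · right; right; left
      have := congrArg Subtype.val hq
      simpa only [MulAut.mul_apply, conjAut_apply] using this
    · right; right; right
      have := congrArg Subtype.val hq
      simpa only [MulAut.mul_apply, conjAut_apply] using this

end Cfsg.Agent.Helper1.TTS
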