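import Mathlib
import Cfsg.Agent.Helper1.TTSa

/-!
# A 3-group generated by elements inverted by an involution, acting on a 2-group

Setting: a finite group `H`, a 2-subgroup `Q`, a 3-subgroup `P` normalizing `Q`, an involution
`d` normalizing both, with `P` generated by the elements `x d x⁻¹ d⁻¹` (`x ∈ P`), each of which
has order dividing three, and such that `d` centralizes the fixed points on `Q` of every
non-identity element of `P` that it inverts, while `d` does not centralize `Q`.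
-/

set_option autoImplicit false

namespace Cfsg.Agent.Helper1.TTS

variable {H : Type*} [Group H] [Finite H]

/-- the hypotheses -/
structure Cfg (Q P : Subgroup H) (d : H) : Prop where
  hQ : IsPGroup 2 Q
  hP : IsPGroup 3 P
  d2 : d * d = 1
  dP : ∀ x ∈ P, d * x * d⁻¹ ∈ P
  dQ : ∀ q ∈ Q, d * q * d⁻¹ ∈ Q
  PQ : ∀ x ∈ P, ∀ q ∈ Q, x * q * x⁻¹ ∈ Q
  cube : ∀ x ∈ P, (x * d * x⁻¹ * d⁻¹) ^ 3 = 1
  gen : P ≤ Subgroup.closure {y | ∃ x ∈ P, y = x * d * x⁻¹ * d⁻¹}
  star : ∀ y ∈ P, y ≠ 1 → d * y * d⁻¹ = y⁻¹ → ∀ q ∈ Q, y * q * y⁻¹ = q → d * q * d⁻¹ = q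
  hd : ¬ ∀ q ∈ Q, d * q * d⁻¹ = q

/-- elements of `P` inverted by `d` -/
def Inv (P : Subgroup H) (d y : H) : Prop := y ∈ P ∧ d * y * d⁻¹ = y⁻¹

variable {Q P : Subgroup H} {d : H}

namespace Cfg

theorem dinv (c : Cfg Q P d) : d⁻¹ = d := inv_eq_of_mul_eq_one_left c.d2

theorem dd (c : Cfg Q P d) (r : H) : d * (d * r) = r := by
  rw [← mul_assoc, c.d2, one_mul]

theorem eq_one_of_sq (c : Cfg Q P d) {u : H} (hu : u ∈ P) (h : u * u = 1) : u = 1 := by
  obtain ⟨k, hk⟩ := c.hP ⟨u, hu⟩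
  have hk' : u ^ (3 ^ k) = 1 := by
    have := congrArg Subtype.val hk
    simpa using this
  have h2 : u ^ 2 = 1 := by rw [pow_two]; exact h
  have hd1 := orderOf_dvd_of_pow_eq_one hk'
  have hd2 := orderOf_dvd_of_pow_eq_one h2
  have hcop : Nat.Coprime 2 (3 ^ k) := Nat.Coprime.pow_right k (by norm_num)
  exact orderOf_eq_one_iff.mp (Nat.eq_one_of_dvd_coprimes hcop hd2 hd1)

theorem w_inv (c : Cfg Q P d) {x : H} (hx : x ∈ P) : Inv P d (x * d * x⁻¹ * d⁻¹) := by
  constructor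
  · have : x * d * x⁻¹ * d⁻¹ = x * (d * x⁻¹ * d⁻¹) := by group
    rw [this]
    exact P.mul_mem hx (c.dP _ (P.inv_mem hx))
  · rw [eq_inv_iff_mul_eq_one, c.dinv]
    simp only [mul_assoc, c.dd, inv_mul_cancel_left, mul_inv_cancel_left, c.d2, mul_one]

theorem Inv.inv (_c : Cfg Q P d) {y : H} (hy : Inv P d y) : Inv P d y⁻¹ := by
  refine ⟨P.inv_mem hy.1, ?_⟩
  rw [← conj_inv, hy.2]

theorem Inv.one : Inv P d (1 : H) := ⟨P.one_mem, by simp⟩

theorem Inv.mul_of_comm {a b : H} (ha : Inv P d a) (hb : Inv P d b) (hab : a * b = b * a) :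
    Inv P d (a * b) := by
  refine ⟨P.mul_mem ha.1 hb.1, ?_⟩
  rw [← conj_mul, ha.2, hb.2, hab, mul_inv_rev]

theorem inv_cube (c : Cfg Q P d) {y : H} (hy : Inv P d y) : y ^ 3 = 1 := by
  have h1 := c.cube y hy.1
  have e : y * d * y⁻¹ * d⁻¹ = y * y := by
    have : y * d * y⁻¹ * d⁻¹ = y * (d * y * d⁻¹)⁻¹ := by group
    rw [this, hy.2, inv_inv]
  rw [e] at h1
  have h6 : y ^ 6 = 1 := by
    have : y ^ 6 = (y * y) ^ 3 := by rw [← pow_two, ← pow_mul]
    rw [this, h1]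
  obtain ⟨k, hk⟩ := c.hP ⟨y, hy.1⟩
  have hk' : y ^ (3 ^ k) = 1 := by
    have := congrArg Subtype.val hk
    simpa using this
  have hd1 := orderOf_dvd_of_pow_eq_one hk'
  have hd2 := orderOf_dvd_of_pow_eq_one h6
  obtain ⟨j, _, hj⟩ := (Nat.dvd_prime_pow Nat.prime_three).mp hd1
  rw [hj] at hd2
  have hj1 : j ≤ 1 := by
    by_contra hlt
    rw [not_le] at hlt
    have h9 : 3 ^ 2 ∣ 3 ^ j := pow_dvd_pow 3 hlt
    have := dvd_trans h9 hd2
    omega
  apply orderOf_dvd_iff_pow_eq_one.mp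
  rw [hj]
  interval_cases j <;> norm_num

theorem gen_inv (c : Cfg Q P d) : P = Subgroup.closure {y | Inv P d y} := by
  apply le_antisymm
  · refine le_trans c.gen (Subgroup.closure_mono ?_)
    rintro y ⟨x, hx, rfl⟩
    exact c.w_inv hx
  · rw [Subgroup.closure_le]
    intro y hy
    exact hy.1

/-- a `d`-invariant subgroup of `P` without inverted elements is centralized by `d` -/
theorem cent_of_no_inv (c : Cfg Q P d) (X : Subgroup H) (hXP : X ≤ P)
    (hXd : ∀ x ∈ X, d * x * d⁻¹ ∈ X) (hno : ∀ y ∈ X, Inv P d y → y = 1) :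
    ∀ x ∈ X, d * x * d⁻¹ = x := by
  intro x hx
  have hw : x * d * x⁻¹ * d⁻¹ ∈ X := by
    have : x * d * x⁻¹ * d⁻¹ = x * (d * x⁻¹ * d⁻¹) := by group
    rw [this]
    exact X.mul_mem hx (hXd _ (X.inv_mem hx))
  have h1 := hno _ hw (c.w_inv (hXP hx))
  have h2 : x * (d * x * d⁻¹)⁻¹ = 1 := by
    rw [← h1]; group
  rw [mul_inv_eq_one] at h2
  exact h2.symm

/-- two commuting inverted elements generate a cyclic group -/
theorem no_comm (c : Cfg Q P d) {a b : H} (ha : Inv P d a) (hb : Inv P d b)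
    (hab : a * b = b * a) (ha1 : a ≠ 1) (hbz : b ∉ Subgroup.zpowers a) : False := by
  apply c.hd
  have ha3 := c.inv_cube ha
  have hb3 := c.inv_cube hb
  have hb1 : b ≠ 1 := by
    rintro rfl
    exact hbz (Subgroup.one_mem _)
  have hab1 : a * b ≠ 1 := by
    intro h
    apply hbz
    have : b = a⁻¹ := (inv_eq_of_mul_eq_one_right h).symm
    rw [this]
    exact Subgroup.inv_mem _ (Subgroup.mem_zpowers a)
  have hbb : b * b = b⁻¹ := by
    have : b * b * b = 1 := by rw [← hb3, pow_succ, pow_two]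
    exact (inv_eq_of_mul_eq_one_left this).symm
  have habb1 : a * b * b ≠ 1 := by
    intro h
    apply hbz
    rw [mul_assoc, hbb] at h
    have : a = b := by
      have := mul_inv_eq_one.mp h
      exact this
    rw [← this]
    exact Subgroup.mem_zpowers a
  have hInvab : Inv P d (a * b) := Inv.mul_of_comm ha hb hab
  have hInvabb : Inv P d (a * b * b) := by
    apply Inv.mul_of_comm hInvab hb
    rw [hab, mul_assoc, hab]
  refine gen_amb Q c.hQ a b d (c.PQ a ha.1) ?_ (c.PQ b hb.1) ?_ c.dQ ?_ ha3 hb3 ?_ ?_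
  · intro x hx
    have := c.PQ a⁻¹ (P.inv_mem ha.1) x hx
    rwa [inv_inv] at this
  · intro x hx
    have := c.PQ b⁻¹ (P.inv_mem hb.1) x hx
    rwa [inv_inv] at this
  · intro x hx
    have := c.dQ x hx
    rw [c.dinv] at this ⊢
    exact this
  · intro x _
    have e1 : a * (b * x * b⁻¹) * a⁻¹ = (a * b) * x * (a * b)⁻¹ := by group
    have e2 : b * (a * x * a⁻¹) * b⁻¹ = (b * a) * x * (b * a)⁻¹ := by group
    rw [e1, e2, hab]
  · intro x hx hfix
    rcases hfix with h | h | h | h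
    · exact c.star a ha.1 ha1 ha.2 x hx h
    · exact c.star b hb.1 hb1 hb.2 x hx h
    · have e1 : a * (b * x * b⁻¹) * a⁻¹ = (a * b) * x * (a * b)⁻¹ := by group
      rw [e1] at h
      exact c.star _ hInvab.1 hab1 hInvab.2 x hx h
    · have e1 : a * (b * (b * x * b⁻¹) * b⁻¹) * a⁻¹ = (a * b * b) * x * (a * b * b)⁻¹ := by group
      rw [e1] at h
      exact c.star _ hInvabb.1 habb1 hInvabb.2 x hx h

/-- Case A: a central inverted element. -/
theorem caseA (c : Cfg Q P d) {ζ : H} (hζ : Inv P d ζ) (hζ1 : ζ ≠ 1)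
    (hζc : ∀ x ∈ P, ζ * x = x * ζ) : P = Subgroup.zpowers ζ := by
  apply le_antisymm
  · conv_lhs => rw [c.gen_inv]
    rw [Subgroup.closure_le]
    intro y hy
    by_contra hyz
    exact c.no_comm hζ hy (hζc y hy.1) hζ1 hyz
  · exact Subgroup.zpowers_le.mpr hζ.1

end Cfg

end Cfsg.Agent.Helper1.TTS
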