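import Mathlib
import Cfsg.Agent.Helper1.TTSb

/-!
# Case B: no central inverted element

The centre `ZP P` of `P` and the second centre `Z2 P`, as subgroups of the ambient group; the
existence of an inverted element of the second centre outside the centre.
-/

set_option autoImplicit false

namespace Cfsg.Agent.Helper1.TTS

variable {H : Type*} [Group H] [Finite H]

/-- the centre of `P`, as a subgroup of `H` -/
def ZP (P : Subgroup H) : Subgroup H := P ⊓ Subgroup.centralizer (P : Set H)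

theorem mem_ZP {P : Subgroup H} {ζ : H} : ζ ∈ ZP P ↔ ζ ∈ P ∧ ∀ x ∈ P, x * ζ = ζ * x := by
  rw [ZP, Subgroup.mem_inf, Subgroup.mem_centralizer_iff]
  rfl

theorem ZP_conj_eq {P : Subgroup H} {ζ g : H} (hζ : ζ ∈ ZP P) (hg : g ∈ P) :
    g * ζ * g⁻¹ = ζ := by
  rw [(mem_ZP.mp hζ).2 g hg, mul_inv_cancel_right]

/-- the second centre of `P`, as a subgroup of `H` -/
def Z2 (P : Subgroup H) : Subgroup H where
  carrier := {x | x ∈ P ∧ ∀ g ∈ P, g * x * g⁻¹ * x⁻¹ ∈ ZP P}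
  one_mem' := ⟨P.one_mem, fun g _ => by simp⟩
  mul_mem' := by
    rintro x y ⟨hx, hx'⟩ ⟨hy, hy'⟩
    refine ⟨P.mul_mem hx hy, fun g hg => ?_⟩
    have e : g * (x * y) * g⁻¹ * (x * y)⁻¹ =
        (g * x * g⁻¹ * x⁻¹) * (x * (g * y * g⁻¹ * y⁻¹) * x⁻¹) := by group
    rw [e, ZP_conj_eq (hy' g hg) hx]
    exact (ZP P).mul_mem (hx' g hg) (hy' g hg)
  inv_mem' := by
    rintro x ⟨hx, hx'⟩
    refine ⟨P.inv_mem hx, fun g hg => ?_⟩
    have e : g * x⁻¹ * g⁻¹ * x⁻¹⁻¹ = x⁻¹ * (g * x * g⁻¹ * x⁻¹)⁻¹ * x⁻¹⁻¹ := by group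
    rw [e, ZP_conj_eq ((ZP P).inv_mem (hx' g hg)) (P.inv_mem hx)]
    exact (ZP P).inv_mem (hx' g hg)

theorem mem_Z2 {P : Subgroup H} {x : H} :
    x ∈ Z2 P ↔ x ∈ P ∧ ∀ g ∈ P, g * x * g⁻¹ * x⁻¹ ∈ ZP P := Iff.rfl

variable {Q P : Subgroup H} {d : H}

namespace Cfg

theorem conj_inv_mem (c : Cfg Q P d) {x : H} (hx : x ∈ P) : d⁻¹ * x * d ∈ P := by
  have := c.dP x hx
  rw [c.dinv] at this ⊢
  exact this

theorem ZP_conj (c : Cfg Q P d) {ζ : H} (hζ : ζ ∈ ZP P) : d * ζ * d⁻¹ ∈ ZP P := by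
  rw [mem_ZP]
  refine ⟨c.dP ζ (mem_ZP.mp hζ).1, fun x hx => ?_⟩
  have h := (mem_ZP.mp hζ).2 (d⁻¹ * x * d) (c.conj_inv_mem hx)
  calc x * (d * ζ * d⁻¹) = d * ((d⁻¹ * x * d) * ζ) * d⁻¹ := by group
    _ = d * (ζ * (d⁻¹ * x * d)) * d⁻¹ := by rw [h]
    _ = d * ζ * d⁻¹ * x := by group

theorem Z2_conj (c : Cfg Q P d) {x : H} (hx : x ∈ Z2 P) : d * x * d⁻¹ ∈ Z2 P := by
  refine ⟨c.dP x hx.1, fun g hg => ?_⟩
  have h := c.ZP_conj (hx.2 (d⁻¹ * g * d) (c.conj_inv_mem hg))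
  have e : g * (d * x * d⁻¹) * g⁻¹ * (d * x * d⁻¹)⁻¹ =
      d * ((d⁻¹ * g * d) * x * (d⁻¹ * g * d)⁻¹ * x⁻¹) * d⁻¹ := by group
  rw [e]
  exact h

/-- the hypothesis of Case B -/
def NoCentralInv (P : Subgroup H) (d : H) : Prop :=
  ∀ ζ, Inv P d ζ → (∀ x ∈ P, ζ * x = x * ζ) → ζ = 1

theorem ZP_fixed (c : Cfg Q P d) (hB : NoCentralInv P d) : ∀ ζ ∈ ZP P, d * ζ * d⁻¹ = ζ :=
  c.cent_of_no_inv (ZP P) inf_le_left (fun _ hx => c.ZP_conj hx)
    (fun y hy hinv => hB y hinv (fun x hx => ((mem_ZP.mp hy).2 x hx).symm))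

/-- an element of `P` fixed by `d` that is central modulo the centre is central -/
theorem mem_ZP_of_fixed (c : Cfg Q P d) (hB : NoCentralInv P d) {c0 : H} (hc0 : c0 ∈ P)
    (hfix : d * c0 * d⁻¹ = c0) (hZ2 : ∀ g ∈ P, g * c0 * g⁻¹ * c0⁻¹ ∈ ZP P) : c0 ∈ ZP P := by
  rw [mem_ZP]
  refine ⟨hc0, ?_⟩
  have hle : P ≤ Subgroup.centralizer ({c0} : Set H) := by
    conv_lhs => rw [c.gen_inv]
    rw [Subgroup.closure_le]
    intro y hy
    rw [SetLike.mem_coe, Subgroup.mem_centralizer_singleton_iff]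
    have hu := hZ2 y hy.1
    have hfu := c.ZP_fixed hB _ hu
    have hconj : d * (y * c0 * y⁻¹ * c0⁻¹) * d⁻¹ =
        (d * y * d⁻¹) * (d * c0 * d⁻¹) * (d * y * d⁻¹)⁻¹ * (d * c0 * d⁻¹)⁻¹ := by group
    rw [hy.2, hfix, hfu] at hconj
    have e2 : y⁻¹ * c0 * y⁻¹⁻¹ * c0⁻¹ = y⁻¹ * (y * c0 * y⁻¹ * c0⁻¹)⁻¹ * y⁻¹⁻¹ := by group
    rw [e2, ZP_conj_eq ((ZP P).inv_mem hu) (P.inv_mem hy.1)] at hconj
    have hsq : (y * c0 * y⁻¹ * c0⁻¹) * (y * c0 * y⁻¹ * c0⁻¹) = 1 := by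
      nth_rewrite 2 [hconj]
      exact mul_inv_cancel _
    have h1 := c.eq_one_of_sq (mem_ZP.mp hu).1 hsq
    have h2 : y * c0 * (c0 * y)⁻¹ = 1 := by rw [← h1]; group
    rw [mul_inv_eq_one] at h2
    exact h2
  intro x hx
  have := hle hx
  rw [Subgroup.mem_centralizer_singleton_iff] at this
  exact this

/-- if `P` is not abelian its second centre is larger than its centre -/
theorem exists_Z2 (c : Cfg Q P d) (hne : ¬ P ≤ ZP P) : ∃ m ∈ Z2 P, m ∉ ZP P := by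
  by_contra hcon
  have hcon' : ∀ m ∈ Z2 P, m ∈ ZP P := by
    intro m hm
    by_contra h
    exact hcon ⟨m, hm, h⟩
  haveI : Fact (Nat.Prime 3) := ⟨Nat.prime_three⟩
  haveI : Group.IsNilpotent P := c.hP.isNilpotent
  have hcen : ∀ x : P, (x : H) ∈ ZP P → x ∈ Subgroup.center P := by
    intro x hx
    rw [Subgroup.mem_center_iff]
    intro y
    apply Subtype.ext
    exact (mem_ZP.mp hx).2 y y.2
  have hucs : ∀ n, Subgroup.upperCentralSeries P (n + 1) ≤ Subgroup.center P := by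
    intro n
    induction n with
    | zero => rw [zero_add, Subgroup.upperCentralSeries_one]
    | succ n ih =>
      intro x hx
      rw [Subgroup.mem_upperCentralSeries_succ_iff] at hx
      apply hcen
      apply hcon'
      refine ⟨x.2, fun g hg => ?_⟩
      have h1 := (Subgroup.center P).inv_mem (ih (hx ⟨g, hg⟩))
      rw [Subgroup.mem_center_iff] at h1
      rw [mem_ZP]
      have e : g * (x : H) * g⁻¹ * (x : H)⁻¹ =
          ((x * ⟨g, hg⟩ * x⁻¹ * (⟨g, hg⟩ : P)⁻¹)⁻¹ : P) := by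
        simp only [Subgroup.coe_inv, Subgroup.coe_mul]
        group
      rw [e]
      refine ⟨Subtype.property _, fun y hy => ?_⟩
      have := h1 ⟨y, hy⟩
      exact congrArg Subtype.val this
  obtain ⟨n, hn⟩ := Group.IsNilpotent.nilpotent P
  apply hne
  intro x hx
  rw [mem_ZP]
  refine ⟨hx, fun y hy => ?_⟩
  rcases n with _ | n
  · rw [Subgroup.upperCentralSeries_zero] at hn
    have h1 : (⟨x, hx⟩ : P) ∈ (⊥ : Subgroup P) := by rw [hn]; trivial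
    rw [Subgroup.mem_bot] at h1
    have : x = 1 := congrArg Subtype.val h1
    rw [this, mul_one, one_mul]
  · have h1 : (⟨x, hx⟩ : P) ∈ Subgroup.center P := by
      apply hucs n
      rw [hn]; trivial
    rw [Subgroup.mem_center_iff] at h1
    have := h1 ⟨y, hy⟩
    exact congrArg Subtype.val this

/-- an inverted element of the second centre outside the centre -/
theorem exists_t (c : Cfg Q P d) (hB : NoCentralInv P d) (hne : ¬ P ≤ ZP P) :
    ∃ t, t ∈ Z2 P ∧ Inv P d t ∧ t ∉ ZP P := by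
  by_contra hcon
  have h1 : ∀ y ∈ Z2 P, Inv P d y → y = 1 := by
    intro y hy hinv
    have hyZ : y ∈ ZP P := by
      by_contra h
      exact hcon ⟨y, hy, hinv, h⟩
    exact hB y hinv (fun x hx => ((mem_ZP.mp hyZ).2 x hx).symm)
  have h2 := c.cent_of_no_inv (Z2 P) (fun x hx => hx.1) (fun _ hx => c.Z2_conj hx) h1
  obtain ⟨m, hm, hmZ⟩ := c.exists_Z2 hne
  exact hmZ (c.mem_ZP_of_fixed hB hm.1 (h2 m hm) hm.2)

end Cfg

end Cfsg.Agent.Helper1.TTS
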