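import Mathlib
import Cfsg.Agent.Helper1.TTSc

/-!
# Case B: the commutator map with an inverted element of the second centre
-/

set_option autoImplicit false

namespace Cfsg.Agent.Helper1.TTS

variable {H : Type*} [Group H] [Finite H] {Q P : Subgroup H} {d t : H}

/-- an inverted element of the second centre outside the centre -/
structure TDat (P : Subgroup H) (d t : H) : Prop where
  tZ2 : t ∈ Z2 P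
  tInv : Inv P d t
  tnZ : t ∉ ZP P

namespace Cfg

theorem z_mem (ht : t ∈ Z2 P) {x : H} (hx : x ∈ P) : x * t * x⁻¹ * t⁻¹ ∈ ZP P := ht.2 x hx

theorem z_mul (ht : t ∈ Z2 P) {x y : H} (hx : x ∈ P) (hy : y ∈ P) :
    (x * y) * t * (x * y)⁻¹ * t⁻¹ = (x * t * x⁻¹ * t⁻¹) * (y * t * y⁻¹ * t⁻¹) := by
  have e : (x * y) * t * (x * y)⁻¹ * t⁻¹ =
      x * (y * t * y⁻¹ * t⁻¹) * x⁻¹ * (x * t * x⁻¹ * t⁻¹) := by group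
  rw [e, ZP_conj_eq (z_mem ht hy) hx]
  exact ((mem_ZP.mp (z_mem ht hy)).2 _ (mem_ZP.mp (z_mem ht hx)).1).symm

theorem z_inv (ht : t ∈ Z2 P) {x : H} (hx : x ∈ P) :
    x⁻¹ * t * x⁻¹⁻¹ * t⁻¹ = (x * t * x⁻¹ * t⁻¹)⁻¹ := by
  have h := z_mul ht hx (P.inv_mem hx)
  rw [mul_inv_cancel] at h
  have h1 : (1 : H) * t * 1⁻¹ * t⁻¹ = 1 := by simp
  rw [h1] at h
  exact eq_inv_of_mul_eq_one_right h.symm

theorem z_cube (ht : t ∈ Z2 P) (ht3 : t ^ 3 = 1) {x : H} (hx : x ∈ P) :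
    (x * t * x⁻¹ * t⁻¹) ^ 3 = 1 := by
  have hζ := z_mem ht hx
  have h1 : x * t * x⁻¹ = (x * t * x⁻¹ * t⁻¹) * t := by simp
  have h2 : (x * t * x⁻¹) ^ 3 = 1 := by rw [conj_pow, ht3]; simp
  have hcomm : Commute (x * t * x⁻¹ * t⁻¹) t := ((mem_ZP.mp hζ).2 t ht.1).symm
  rw [h1, hcomm.mul_pow, ht3, mul_one] at h2
  exact h2

theorem z_of_fixed (c : Cfg Q P d) (hB : NoCentralInv P d) (ht : TDat P d t) {c0 : H}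
    (hc0 : c0 ∈ P) (hfix : d * c0 * d⁻¹ = c0) : c0 * t * c0⁻¹ * t⁻¹ = 1 := by
  have hζ := z_mem ht.tZ2 hc0
  have hfζ := c.ZP_fixed hB _ hζ
  have hconj : d * (c0 * t * c0⁻¹ * t⁻¹) * d⁻¹ =
      (d * c0 * d⁻¹) * (d * t * d⁻¹) * (d * c0 * d⁻¹)⁻¹ * (d * t * d⁻¹)⁻¹ := by group
  rw [hfix, ht.tInv.2, hfζ] at hconj
  have e2 : c0 * t⁻¹ * c0⁻¹ * t⁻¹⁻¹ = t⁻¹ * (c0 * t * c0⁻¹ * t⁻¹)⁻¹ * t⁻¹⁻¹ := by group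
  rw [e2, ZP_conj_eq ((ZP P).inv_mem hζ) (P.inv_mem ht.tInv.1)] at hconj
  have hsq : (c0 * t * c0⁻¹ * t⁻¹) * (c0 * t * c0⁻¹ * t⁻¹) = 1 := by
    nth_rewrite 2 [hconj]
    exact mul_inv_cancel _
  exact c.eq_one_of_sq (mem_ZP.mp hζ).1 hsq

theorem conj_t (c : Cfg Q P d) (ht : TDat P d t) : d⁻¹ * t * d = t⁻¹ := by
  have := ht.tInv.2
  rw [c.dinv] at this ⊢
  exact this

theorem z_w (c : Cfg Q P d) (hB : NoCentralInv P d) (ht : TDat P d t) {x : H} (hx : x ∈ P) :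
    (x * d * x⁻¹ * d⁻¹) * t * (x * d * x⁻¹ * d⁻¹)⁻¹ * t⁻¹ =
      (x * t * x⁻¹ * t⁻¹) * (x * t * x⁻¹ * t⁻¹) := by
  have hζ := z_mem ht.tZ2 hx
  have hy' : d * x⁻¹ * d⁻¹ ∈ P := c.dP _ (P.inv_mem hx)
  have e0 : x * d * x⁻¹ * d⁻¹ = x * (d * x⁻¹ * d⁻¹) := by group
  rw [e0, z_mul ht.tZ2 hx hy']
  congr 1
  have e1 : (d * x⁻¹ * d⁻¹) * t * (d * x⁻¹ * d⁻¹)⁻¹ * t⁻¹ =
      d * (x⁻¹ * (d⁻¹ * t * d) * x * (d⁻¹ * t * d)⁻¹) * d⁻¹ := by group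
  rw [e1, c.conj_t ht]
  have e3 : x⁻¹ * t⁻¹ * x * t⁻¹⁻¹ =
      t⁻¹ * (x⁻¹ * (x * t * x⁻¹ * t⁻¹) * x⁻¹⁻¹) * t⁻¹⁻¹ := by group
  rw [e3, ZP_conj_eq hζ (P.inv_mem hx), ZP_conj_eq hζ (P.inv_mem ht.tInv.1)]
  exact c.ZP_fixed hB _ hζ

end Cfg

end Cfsg.Agent.Helper1.TTS
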