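import Mathlib
import Cfsg.Agent.Helper1.TTSd

/-!
# Case B: `d` centralizes the fixed points of the values of the commutator map
-/

set_option autoImplicit false

namespace Cfsg.Agent.Helper1.TTS

variable {H : Type*} [Group H] [Finite H] {Q P : Subgroup H} {d t : H}

namespace Cfg

theorem z_t (t : H) : t * t * t⁻¹ * t⁻¹ = 1 := by group

theorem ttt {t : H} (ht3 : t ^ 3 = 1) : t * t * t = 1 := by rw [← ht3, pow_succ, pow_two]

/-- the sub-claim for an inverted element `s` -/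
theorem subclaim_inv (c : Cfg Q P d) (hB : NoCentralInv P d) (ht : TDat P d t) {s : H}
    (hs : Inv P d s) (hne : s * t * s⁻¹ * t⁻¹ ≠ 1) :
    ∀ q ∈ Q, (s * t * s⁻¹ * t⁻¹) * q * (s * t * s⁻¹ * t⁻¹)⁻¹ = q → d * q * d⁻¹ = q := by
  intro q hqQ hq
  have hζ := z_mem ht.tZ2 hs.1
  obtain ⟨ζ, hζdef⟩ : ∃ ζ, ζ = s * t * s⁻¹ * t⁻¹ := ⟨_, rfl⟩
  rw [← hζdef] at hne hq hζ
  have hs3 := c.inv_cube hs
  have ht3 := c.inv_cube ht.tInv
  have htP := ht.tInv.1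
  have hs1 : s ≠ 1 := by
    rintro rfl
    apply hne
    rw [hζdef]
    simp
  have ht1 : t ≠ 1 := by
    rintro rfl
    exact ht.tnZ (ZP P).one_mem
  let X : Subgroup H := Q ⊓ Subgroup.centralizer ({ζ} : Set H)
  have hX2 : IsPGroup 2 X := c.hQ.to_le inf_le_left
  have hXmem : ∀ y, y ∈ X ↔ y ∈ Q ∧ y * ζ = ζ * y := by
    intro y
    rw [Subgroup.mem_inf, Subgroup.mem_centralizer_singleton_iff]
  have hfixX : ∀ y ∈ X, ζ * y * ζ⁻¹ = y := by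
    intro y hy
    have := ((hXmem y).mp hy).2
    rw [← this, mul_inv_cancel_right]
  have hqX : q ∈ X := by
    rw [hXmem]
    refine ⟨hqQ, ?_⟩
    calc q * ζ = (ζ * q * ζ⁻¹) * ζ := by rw [hq]
      _ = ζ * q := by group
  have hXP : ∀ g ∈ P, ∀ y ∈ X, g * y * g⁻¹ ∈ X := by
    intro g hg y hy
    rw [hXmem] at hy ⊢
    refine ⟨c.PQ g hg y hy.1, ?_⟩
    have h1 := hy.2
    have h2 := ZP_conj_eq hζ (P.inv_mem hg)
    rw [inv_inv] at h2
    calc g * y * g⁻¹ * ζ = g * (y * (g⁻¹ * ζ * g)) * g⁻¹ := by group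
      _ = g * (ζ * y) * g⁻¹ := by rw [h2, h1]
      _ = (g * ζ * g⁻¹) * (g * y * g⁻¹) := by group
      _ = ζ * (g * y * g⁻¹) := by rw [ZP_conj_eq hζ hg]
  have hXP' : ∀ g ∈ P, ∀ y ∈ X, g⁻¹ * y * g ∈ X := by
    intro g hg y hy
    have := hXP g⁻¹ (P.inv_mem hg) y hy
    rwa [inv_inv] at this
  have hdζ := c.ZP_fixed hB _ hζ
  have hXd : ∀ y ∈ X, d * y * d⁻¹ ∈ X := by
    intro y hy
    rw [hXmem] at hy ⊢
    refine ⟨c.dQ y hy.1, ?_⟩
    have h1 := hy.2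
    calc d * y * d⁻¹ * ζ = d * y * d⁻¹ * (d * ζ * d⁻¹) := by rw [hdζ]
      _ = d * (y * ζ) * d⁻¹ := by group
      _ = d * (ζ * y) * d⁻¹ := by rw [h1]
      _ = (d * ζ * d⁻¹) * (d * y * d⁻¹) := by group
      _ = ζ * (d * y * d⁻¹) := by rw [hdζ]
  have hXd' : ∀ y ∈ X, d⁻¹ * y * d ∈ X := by
    intro y hy
    have := hXd y hy
    rw [c.dinv] at this ⊢
    exact this
  -- the two actions commute on X
  have hst : ∀ y ∈ X, s * (t * y * t⁻¹) * s⁻¹ = t * (s * y * s⁻¹) * t⁻¹ := by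
    intro y hy
    have e1 : s * (t * y * t⁻¹) * s⁻¹ =
        (s * t * s⁻¹ * t⁻¹) * (t * (s * y * s⁻¹) * t⁻¹) * (s * t * s⁻¹ * t⁻¹)⁻¹ := by group
    rw [e1, ← hζdef]
    exact hfixX _ (hXP t htP _ (hXP s hs.1 y hy))
  -- values of the commutator map
  have hzst : (s * t) * t * (s * t)⁻¹ * t⁻¹ = ζ := by
    rw [z_mul ht.tZ2 hs.1 htP, z_t, mul_one, hζdef]
  have hzstt : (s * t * t) * t * (s * t * t)⁻¹ * t⁻¹ = ζ := by
    rw [z_mul ht.tZ2 (P.mul_mem hs.1 htP) htP, hzst, z_t, mul_one]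
  have hζζ : ζ * ζ ≠ 1 := by
    intro h
    exact hne (c.eq_one_of_sq (mem_ZP.mp hζ).1 h)
  -- the inverted elements acting as (στ)² and (στ²)²
  have hstP : s * t ∈ P := P.mul_mem hs.1 htP
  have hsttP : s * t * t ∈ P := P.mul_mem hstP htP
  have hy1 := c.w_inv hstP
  have hy2 := c.w_inv hsttP
  have hy1ne : (s * t) * d * (s * t)⁻¹ * d⁻¹ ≠ 1 := by
    intro h
    have := c.z_w hB ht hstP
    rw [h, hzst] at this
    apply hζζ
    rw [← this]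
    simp
  have hy2ne : (s * t * t) * d * (s * t * t)⁻¹ * d⁻¹ ≠ 1 := by
    intro h
    have := c.z_w hB ht hsttP
    rw [h, hzstt] at this
    apply hζζ
    rw [← this]
    simp
  have ey1 : (s * t) * d * (s * t)⁻¹ * d⁻¹ = s * t * t * s := by
    have : (s * t) * d * (s * t)⁻¹ * d⁻¹ = s * t * (d * t * d⁻¹)⁻¹ * (d * s * d⁻¹)⁻¹ := by group
    rw [this, ht.tInv.2, hs.2, inv_inv, inv_inv]
  have ey2 : (s * t * t) * d * (s * t * t)⁻¹ * d⁻¹ = s * t * s := by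
    have : (s * t * t) * d * (s * t * t)⁻¹ * d⁻¹ =
        s * t * t * (d * t * d⁻¹)⁻¹ * (d * t * d⁻¹)⁻¹ * (d * s * d⁻¹)⁻¹ := by group
    rw [this, ht.tInv.2, hs.2, inv_inv, inv_inv]
    have : s * t * t * t * t * s = s * (t * t * t) * t * s := by group
    rw [this, ttt ht3, mul_one]
  rw [ey1] at hy1 hy1ne
  rw [ey2] at hy2 hy2ne
  have htinv : t⁻¹ = t * t := (inv_eq_of_mul_eq_one_left (ttt ht3))
  refine gen_amb X hX2 s t d (hXP s hs.1) (hXP' s hs.1) (hXP t htP) (hXP' t htP) hXd hXd'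
    hs3 ht3 hst ?_ q hqX
  intro y hy hfix
  rcases hfix with h | h | h | h
  · exact c.star s hs.1 hs1 hs.2 y ((hXmem y).mp hy).1 h
  · exact c.star t htP ht1 ht.tInv.2 y ((hXmem y).mp hy).1 h
  · -- fixed by στ, hence by σττσ
    apply c.star _ hy1.1 hy1ne hy1.2 y ((hXmem y).mp hy).1
    have e : (s * t * t * s) * y * (s * t * t * s)⁻¹ =
        s * (t * (t * (s * y * s⁻¹) * t⁻¹) * t⁻¹) * s⁻¹ := by group
    rw [e, ← hst y hy, h, h]
  · -- fixed by στ², hence by στσ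
    apply c.star _ hy2.1 hy2ne hy2.2 y ((hXmem y).mp hy).1
    have e : (s * t * s) * y * (s * t * s)⁻¹ = s * (t * (s * y * s⁻¹) * t⁻¹) * s⁻¹ := by group
    rw [e, ← hst y hy]
    -- r = t y t⁻¹
    have hr : t * y * t⁻¹ ∈ X := hXP t htP y hy
    have h1 : t * (s * (t * y * t⁻¹) * s⁻¹) * t⁻¹ = y := by rw [← hst _ hr]; exact h
    have h2 : s * (t * y * t⁻¹) * s⁻¹ = t⁻¹ * y * t := by
      calc s * (t * y * t⁻¹) * s⁻¹ = t⁻¹ * (t * (s * (t * y * t⁻¹) * s⁻¹) * t⁻¹) * t := by group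
        _ = t⁻¹ * y * t := by rw [h1]
    have h3 : t⁻¹ * y * t = t * (t * y * t⁻¹) * t⁻¹ := by
      have : t * (t * y * t⁻¹) * t⁻¹ = (t * t) * y * (t * t)⁻¹ := by group
      rw [this, ← htinv, inv_inv]
    rw [h2, h3]
    exact h
  done

end Cfg

end Cfsg.Agent.Helper1.TTS
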