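import Mathlib
import Cfsg.Agent.Helper1.TTSe

/-!
# Case B: the structure of `P`, and the main structure theorem
-/

set_option autoImplicit false

namespace Cfsg.Agent.Helper1.TTS

variable {H : Type*} [Group H] [Finite H] {Q P : Subgroup H} {d t : H}

namespace Cfg

theorem dQ' (c : Cfg Q P d) : ∀ x ∈ Q, d⁻¹ * x * d ∈ Q := by
  intro x hx
  have := c.dQ x hx
  rw [c.dinv] at this ⊢
  exact this

theorem PQ' (c : Cfg Q P d) {g : H} (hg : g ∈ P) : ∀ x ∈ Q, g⁻¹ * x * g ∈ Q := by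
  intro x hx
  have := c.PQ g⁻¹ (P.inv_mem hg) x hx
  rwa [inv_inv] at this

/-- the sub-claim -/
theorem subclaim (c : Cfg Q P d) (hB : NoCentralInv P d) (ht : TDat P d t) {x : H} (hx : x ∈ P)
    (hne : x * t * x⁻¹ * t⁻¹ ≠ 1) :
    ∀ q ∈ Q, (x * t * x⁻¹ * t⁻¹) * q * (x * t * x⁻¹ * t⁻¹)⁻¹ = q → d * q * d⁻¹ = q := by
  intro q hqQ hq
  have hs := c.w_inv hx
  have hzs := c.z_w hB ht hx
  have hζ := z_mem ht.tZ2 hx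
  have hne' : (x * d * x⁻¹ * d⁻¹) * t * (x * d * x⁻¹ * d⁻¹)⁻¹ * t⁻¹ ≠ 1 := by
    rw [hzs]
    intro h
    exact hne (c.eq_one_of_sq (mem_ZP.mp hζ).1 h)
  apply c.subclaim_inv hB ht hs hne' q hqQ
  rw [hzs]
  have e : ((x * t * x⁻¹ * t⁻¹) * (x * t * x⁻¹ * t⁻¹)) * q *
      ((x * t * x⁻¹ * t⁻¹) * (x * t * x⁻¹ * t⁻¹))⁻¹ =
      (x * t * x⁻¹ * t⁻¹) * ((x * t * x⁻¹ * t⁻¹) * q * (x * t * x⁻¹ * t⁻¹)⁻¹) *
        (x * t * x⁻¹ * t⁻¹)⁻¹ := by group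
  rw [e, hq, hq]

/-- the values of the commutator map form a cyclic group -/
theorem R_cyclic (c : Cfg Q P d) (hB : NoCentralInv P d) (ht : TDat P d t) {x1 x2 : H}
    (hx1 : x1 ∈ P) (hx2 : x2 ∈ P) (hne : x1 * t * x1⁻¹ * t⁻¹ ≠ 1) :
    x2 * t * x2⁻¹ * t⁻¹ ∈ Subgroup.zpowers (x1 * t * x1⁻¹ * t⁻¹) := by
  by_contra hnot
  apply c.hd
  have ht3 := c.inv_cube ht.tInv
  have h1 := z_mem ht.tZ2 hx1
  have h2 := z_mem ht.tZ2 hx2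
  have h13 := z_cube ht.tZ2 ht3 hx1
  have h23 := z_cube ht.tZ2 ht3 hx2
  have h12 := z_mul ht.tZ2 hx1 hx2
  have hx12 : x1 * x2 ∈ P := P.mul_mem hx1 hx2
  have hx122 : x1 * x2 * x2 ∈ P := P.mul_mem hx12 hx2
  have h122 := z_mul ht.tZ2 hx12 hx2
  rw [h12] at h122
  obtain ⟨ζ1, hζ1⟩ : ∃ ζ1, ζ1 = x1 * t * x1⁻¹ * t⁻¹ := ⟨_, rfl⟩
  obtain ⟨ζ2, hζ2⟩ : ∃ ζ2, ζ2 = x2 * t * x2⁻¹ * t⁻¹ := ⟨_, rfl⟩
  rw [← hζ1, ← hζ2] at h12 h122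
  rw [← hζ1] at hne h1 h13 hnot
  rw [← hζ2] at h2 h23 hnot
  have hcomm : ζ1 * ζ2 = ζ2 * ζ1 := (mem_ZP.mp h2).2 ζ1 (mem_ZP.mp h1).1
  have h1P := (mem_ZP.mp h1).1
  have h2P := (mem_ZP.mp h2).1
  have hζ2ne : ζ2 ≠ 1 := by
    rintro rfl
    exact hnot (Subgroup.one_mem _)
  have h12ne : ζ1 * ζ2 ≠ 1 := by
    intro h
    apply hnot
    have : ζ2 = ζ1⁻¹ := (inv_eq_of_mul_eq_one_right h).symm
    rw [this]
    exact Subgroup.inv_mem _ (Subgroup.mem_zpowers ζ1)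
  have h22 : ζ2 * ζ2 = ζ2⁻¹ := (inv_eq_of_mul_eq_one_left (ttt h23)).symm
  have h122ne : ζ1 * ζ2 * ζ2 ≠ 1 := by
    intro h
    apply hnot
    rw [mul_assoc, h22] at h
    have : ζ1 = ζ2 := mul_inv_eq_one.mp h
    rw [← this]
    exact Subgroup.mem_zpowers ζ1
  refine gen_amb Q c.hQ ζ1 ζ2 d (c.PQ ζ1 h1P) (c.PQ' h1P) (c.PQ ζ2 h2P) (c.PQ' h2P) c.dQ c.dQ'
    h13 h23 ?_ ?_
  · intro x _
    have e1 : ζ1 * (ζ2 * x * ζ2⁻¹) * ζ1⁻¹ = (ζ1 * ζ2) * x * (ζ1 * ζ2)⁻¹ := by group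
    have e2 : ζ2 * (ζ1 * x * ζ1⁻¹) * ζ2⁻¹ = (ζ2 * ζ1) * x * (ζ2 * ζ1)⁻¹ := by group
    rw [e1, e2, hcomm]
  · intro x hx hfix
    rcases hfix with h | h | h | h
    · rw [hζ1] at h hne
      exact c.subclaim hB ht hx1 hne x hx h
    · rw [hζ2] at h hζ2ne
      exact c.subclaim hB ht hx2 hζ2ne x hx h
    · have e1 : ζ1 * (ζ2 * x * ζ2⁻¹) * ζ1⁻¹ = (ζ1 * ζ2) * x * (ζ1 * ζ2)⁻¹ := by group
      rw [e1, ← h12] at h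
      rw [← h12] at h12ne
      exact c.subclaim hB ht hx12 h12ne x hx h
    · have e1 : ζ1 * (ζ2 * (ζ2 * x * ζ2⁻¹) * ζ2⁻¹) * ζ1⁻¹ =
          (ζ1 * ζ2 * ζ2) * x * (ζ1 * ζ2 * ζ2)⁻¹ := by group
      rw [e1, ← h122] at h
      rw [← h122] at h122ne
      exact c.subclaim hB ht hx122 h122ne x hx h

theorem exists_a (c : Cfg Q P d) (ht : TDat P d t) :
    ∃ a, Inv P d a ∧ a * t * a⁻¹ * t⁻¹ ≠ 1 := by
  by_contra hcon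
  apply ht.tnZ
  rw [mem_ZP]
  refine ⟨ht.tInv.1, ?_⟩
  have hle : P ≤ Subgroup.centralizer ({t} : Set H) := by
    conv_lhs => rw [c.gen_inv]
    rw [Subgroup.closure_le]
    intro y hy
    rw [SetLike.mem_coe, Subgroup.mem_centralizer_singleton_iff]
    by_contra h
    apply hcon
    refine ⟨y, hy, ?_⟩
    intro h1
    apply h
    have : y * t * (t * y)⁻¹ = 1 := by rw [← h1]; group
    exact mul_inv_eq_one.mp this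
  intro x hx
  exact Subgroup.mem_centralizer_singleton_iff.mp (hle hx)

/-- the decomposition of an element of `P` into an inverted and a fixed part -/
theorem decomp (c : Cfg Q P d) {g : H} (hg : g ∈ P) :
    ∃ s1 c0, Inv P d s1 ∧ c0 ∈ P ∧ d * c0 * d⁻¹ = c0 ∧ g = s1 * c0 ∧
      s1 = (g * d * g⁻¹ * d⁻¹) * (g * d * g⁻¹ * d⁻¹) := by
  have hs0 := c.w_inv hg
  obtain ⟨s0, hs0def⟩ : ∃ s0, s0 = g * d * g⁻¹ * d⁻¹ := ⟨_, rfl⟩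
  rw [← hs0def] at hs0 ⊢
  have hs03 := ttt (c.inv_cube hs0)
  have hs1 : Inv P d (s0 * s0) := Inv.mul_of_comm hs0 hs0 rfl
  have hinv : (s0 * s0)⁻¹ = s0 := inv_eq_of_mul_eq_one_right hs03
  refine ⟨s0 * s0, (s0 * s0)⁻¹ * g, hs1, P.mul_mem (P.inv_mem hs1.1) hg, ?_, by group, rfl⟩
  have e1 : d * ((s0 * s0)⁻¹ * g) * d⁻¹ = (d * (s0 * s0) * d⁻¹)⁻¹ * (d * g * d⁻¹) := by group
  have e2 : d * g * d⁻¹ = s0⁻¹ * g := by rw [hs0def]; group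
  rw [e1, hs1.2, inv_inv, e2, hinv]
  group

end Cfg

end Cfsg.Agent.Helper1.TTS
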