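import Mathlib
import Cfsg.Agent.Helper1.TTSf

/-!
# The structure theorem
-/

set_option autoImplicit false

namespace Cfsg.Agent.Helper1.TTS

variable {H : Type*} [Group H] [Finite H] {Q P : Subgroup H} {d t : H}

namespace Cfg

/-- every inverted element lies in the subgroup generated by `a` and `t` -/
theorem mem_S (c : Cfg Q P d) (hB : NoCentralInv P d) (ht : TDat P d t) {a : H}
    (ha : Inv P d a) (hane : a * t * a⁻¹ * t⁻¹ ≠ 1) {b : H} (hb : Inv P d b) :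
    b ∈ Subgroup.closure ({a, t} : Set H) := by
  obtain ⟨S, hS⟩ : ∃ S, S = Subgroup.closure ({a, t} : Set H) := ⟨_, rfl⟩
  rw [← hS]
  have haS : a ∈ S := by rw [hS]; exact Subgroup.subset_closure (by simp)
  have htS : t ∈ S := by rw [hS]; exact Subgroup.subset_closure (by simp)
  have ht3 := c.inv_cube ht.tInv
  have htP := ht.tInv.1
  have ht1 : t ≠ 1 := by
    rintro rfl
    exact ht.tnZ (ZP P).one_mem
  have hzb := c.R_cyclic hB ht ha.1 hb.1 hane
  have hza3 := z_cube ht.tZ2 ht3 ha.1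
  -- an element of S ∩ P with the same value
  obtain ⟨a', ha'S, ha'P, hza'⟩ : ∃ a', a' ∈ S ∧ a' ∈ P ∧
      a' * t * a'⁻¹ * t⁻¹ = b * t * b⁻¹ * t⁻¹ := by
    obtain ⟨k, hk⟩ := Subgroup.mem_zpowers_iff.mp hzb
    rw [zpow_eq_zpow_emod' k hza3] at hk
    have hk0 := Int.emod_nonneg k (by norm_num : ((3 : ℕ) : ℤ) ≠ 0)
    have hk1 := Int.emod_lt_of_pos k (by norm_num : (0 : ℤ) < ((3 : ℕ) : ℤ))
    generalize k % ((3 : ℕ) : ℤ) = i at hk0 hk1 hk
    push_cast at hk1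
    interval_cases i
    · refine ⟨1, S.one_mem, P.one_mem, ?_⟩
      rw [← hk]; simp
    · refine ⟨a, haS, ha.1, ?_⟩
      rw [← hk, zpow_one]
    · refine ⟨a * a, S.mul_mem haS haS, P.mul_mem ha.1 ha.1, ?_⟩
      rw [← hk, z_mul ht.tZ2 ha.1 ha.1, zpow_two]
  -- g = a'⁻¹ b commutes with t
  obtain ⟨g, hgdef⟩ : ∃ g, g = a'⁻¹ * b := ⟨_, rfl⟩
  have hgP : g ∈ P := by rw [hgdef]; exact P.mul_mem (P.inv_mem ha'P) hb.1
  have hzg : g * t * g⁻¹ * t⁻¹ = 1 := by
    rw [hgdef, z_mul ht.tZ2 (P.inv_mem ha'P) hb.1, z_inv ht.tZ2 ha'P, hza', inv_mul_cancel]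
  have hgt : g * t = t * g := by
    have : g * t * (t * g)⁻¹ = 1 := by rw [← hzg]; group
    exact mul_inv_eq_one.mp this
  -- the inverted part of g commutes with t
  have hdgt : (d * g⁻¹ * d⁻¹) * t = t * (d * g⁻¹ * d⁻¹) := by
    have h1 : g⁻¹ * t⁻¹ = t⁻¹ * g⁻¹ := by
      have := congrArg (fun x => x⁻¹) hgt
      simp only [mul_inv_rev] at this
      exact this.symm
    calc (d * g⁻¹ * d⁻¹) * t = d * (g⁻¹ * (d⁻¹ * t * d)) * d⁻¹ := by group
      _ = d * (g⁻¹ * t⁻¹) * d⁻¹ := by rw [c.conj_t ht]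
      _ = d * (t⁻¹ * g⁻¹) * d⁻¹ := by rw [h1]
      _ = (d * t * d⁻¹)⁻¹ * (d * g⁻¹ * d⁻¹) := by group
      _ = t * (d * g⁻¹ * d⁻¹) := by rw [ht.tInv.2, inv_inv]
  have hs0 := c.w_inv hgP
  have hs0t : t * (g * d * g⁻¹ * d⁻¹) = (g * d * g⁻¹ * d⁻¹) * t := by
    have e : g * d * g⁻¹ * d⁻¹ = g * (d * g⁻¹ * d⁻¹) := by group
    rw [e]
    calc t * (g * (d * g⁻¹ * d⁻¹)) = (t * g) * (d * g⁻¹ * d⁻¹) := by group
      _ = (g * t) * (d * g⁻¹ * d⁻¹) := by rw [hgt]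
      _ = g * (t * (d * g⁻¹ * d⁻¹)) := by group
      _ = g * ((d * g⁻¹ * d⁻¹) * t) := by rw [hdgt]
      _ = g * (d * g⁻¹ * d⁻¹) * t := by group
  have hs0z : g * d * g⁻¹ * d⁻¹ ∈ Subgroup.zpowers t := by
    by_contra hnot
    exact c.no_comm ht.tInv hs0 hs0t ht1 hnot
  have hzle : Subgroup.zpowers t ≤ S := Subgroup.zpowers_le.mpr htS
  obtain ⟨s1, c0, hs1, hc0P, hc0fix, hgeq, hs1def⟩ := c.decomp hgP
  have hs1S : s1 ∈ S := by
    rw [hs1def]
    exact S.mul_mem (hzle hs0z) (hzle hs0z)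
  -- b = u * c0 with u = a' * s1
  have hbeq : b = (a' * s1) * c0 := by
    rw [mul_assoc, ← hgeq, hgdef]; group
  have huP : a' * s1 ∈ P := P.mul_mem ha'P hs1.1
  have huS : a' * s1 ∈ S := S.mul_mem ha'S hs1S
  -- S is d-invariant
  have hSd : ∀ x ∈ S, d * x * d⁻¹ ∈ S := by
    intro x hx
    rw [hS] at hx
    induction hx using Subgroup.closure_induction with
    | mem x hx =>
      rcases hx with rfl | hx
      · rw [ha.2]; exact S.inv_mem haS
      · rw [Set.mem_singleton_iff] at hx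
        subst hx
        rw [ht.tInv.2]; exact S.inv_mem htS
    | one => simp [S.one_mem]
    | mul x y _ _ hx hy =>
      rw [← conj_mul]; exact S.mul_mem hx hy
    | inv x _ hx =>
      rw [← conj_inv]; exact S.inv_mem hx
  obtain ⟨s3, c1, hs3, hc1P, hc1fix, hueq, hs3def⟩ := c.decomp huP
  have hs3S : s3 ∈ S := by
    have hw : (a' * s1) * d * (a' * s1)⁻¹ * d⁻¹ ∈ S := by
      have e : (a' * s1) * d * (a' * s1)⁻¹ * d⁻¹ = (a' * s1) * (d * (a' * s1)⁻¹ * d⁻¹) := by group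
      rw [e]
      exact S.mul_mem huS (hSd _ (S.inv_mem huS))
    rw [hs3def]
    exact S.mul_mem hw hw
  -- b = s3 * c' with c' fixed
  have hc'P : c1 * c0 ∈ P := P.mul_mem hc1P hc0P
  have hc'fix : d * (c1 * c0) * d⁻¹ = c1 * c0 := by
    rw [← conj_mul, hc1fix, hc0fix]
  have hb2 : b = s3 * (c1 * c0) := by
    rw [hbeq, hueq, mul_assoc]
  obtain ⟨c', hc'def⟩ : ∃ c', c' = c1 * c0 := ⟨_, rfl⟩
  rw [← hc'def] at hc'P hc'fix hb2
  -- conjugation by s3⁻¹ inverts c'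
  have hk : s3⁻¹ * c' * s3 = c'⁻¹ := by
    have h1 := hb.2
    rw [hb2, ← conj_mul, hs3.2, hc'fix, mul_inv_rev] at h1
    calc s3⁻¹ * c' * s3 = (c'⁻¹ * s3⁻¹) * s3 := by rw [h1]
      _ = c'⁻¹ := by group
  have hs33 := ttt (c.inv_cube hs3)
  have hk3 : c' = c'⁻¹ := by
    have e : s3⁻¹ * (s3⁻¹ * (s3⁻¹ * c' * s3) * s3) * s3 = (s3 * s3 * s3)⁻¹ * c' * (s3 * s3 * s3) := by
      group
    rw [hs33, hk] at e
    have e2 : s3⁻¹ * c'⁻¹ * s3 = (s3⁻¹ * c' * s3)⁻¹ := by group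
    rw [e2, hk, inv_inv, hk] at e
    simpa using e.symm
  have hc'1 : c' = 1 := by
    apply c.eq_one_of_sq hc'P
    nth_rewrite 2 [hk3]
    exact mul_inv_cancel _
  rw [hb2, hc'1, mul_one]
  exact hs3S

/-- **The structure theorem.** -/
theorem main (c : Cfg Q P d) :
    P = ⊥ ∨ (∃ ζ, Inv P d ζ ∧ ζ ≠ 1 ∧ P = Subgroup.zpowers ζ) ∨
      (∃ a t, Inv P d a ∧ Inv P d t ∧ a * t ≠ t * a ∧ P = Subgroup.closure {a, t}) := by
  by_cases hB : NoCentralInv P d
  · by_cases hne : P ≤ ZP P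
    · left
      rw [c.gen_inv, Subgroup.closure_eq_bot_iff]
      intro y hy
      have := hB y hy (fun x hx => ((mem_ZP.mp (hne hy.1)).2 x hx).symm)
      rw [this]
      exact Set.mem_singleton _
    · right; right
      obtain ⟨t, ht2, hti, htz⟩ := c.exists_t hB hne
      have ht : TDat P d t := ⟨ht2, hti, htz⟩
      obtain ⟨a, ha, hane⟩ := c.exists_a ht
      refine ⟨a, t, ha, hti, ?_, ?_⟩
      · intro h
        apply hane
        rw [h]; group
      · apply le_antisymm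
        · conv_lhs => rw [c.gen_inv]
          rw [Subgroup.closure_le]
          intro b hb
          exact c.mem_S hB ht ha hane hb
        · rw [Subgroup.closure_le]
          intro x hx
          rcases hx with rfl | hx
          · exact ha.1
          · rw [Set.mem_singleton_iff] at hx
            subst hx
            exact hti.1
  · right; left
    unfold NoCentralInv at hB
    simp only [not_forall] at hB
    obtain ⟨ζ, hζ, hζc, hζ1⟩ := hB
    exact ⟨ζ, hζ, hζ1, c.caseA hζ hζ1 hζc⟩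

end Cfg

end Cfsg.Agent.Helper1.TTS
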