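import Mathlib
import Cfsg.Agent.Helper3.CosetCert

/-!
# The group `⟨d, e, f | d², e², f², (de)³, (df)³, (ef)³, (d·fef)³⟩` has order at most 54

A verified coset enumeration, and the consequence that two groups of order 54 generated by three
involutions subject to these relations are isomorphic.
-/

set_option autoImplicit false

namespace Cfsg.Agent.Helper1.TTS.Pres

open Cfsg.Agent.Helper3.CosetCert

def actTab : List (List ℕ) :=
  [[1, 2, 3],
   [0, 4, 7],
   [6, 0, 10],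
   [9, 12, 0],
   [5, 1, 19],
   [4, 6, 35],
   [2, 5, 20],
   [8, 13, 1],
   [7, 31, 9],
   [3, 29, 8],
   [22, 11, 2],
   [18, 10, 12],
   [28, 3, 11],
   [41, 7, 14],
   [15, 19, 13],
   [14, 48, 16],
   [40, 17, 15],
   [27, 16, 18],
   [11, 47, 17],
   [37, 14, 4],
   [21, 23, 6],
   [20, 34, 22],
   [10, 46, 21],
   [38, 20, 24],
   [25, 35, 23],
   [24, 52, 26],
   [39, 27, 25],
   [17, 26, 28],
   [12, 30, 27],
   [30, 9, 43],
   [29, 28, 52],
   [42, 8, 32],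
   [33, 43, 31],
   [32, 51, 34],
   [50, 21, 33],
   [36, 24, 5],
   [35, 45, 37],
   [19, 49, 36],
   [23, 50, 39],
   [26, 40, 38],
   [16, 39, 41],
   [13, 42, 40],
   [31, 41, 50],
   [44, 32, 29],
   [43, 53, 45],
   [52, 36, 44],
   [47, 22, 51],
   [46, 18, 48],
   [49, 15, 47],
   [48, 37, 53],
   [34, 38, 42],
   [53, 33, 46],
   [45, 25, 30],
   [51, 44, 49]]

def wordTab : List (List (Fin 3)) :=
  [[],
   [0],
   [1],
   [2],
   [0, 1],
   [0, 1, 0],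
   [1, 0],
   [0, 2],
   [0, 2, 0],
   [2, 0],
   [1, 2],
   [1, 2, 1],
   [2, 1],
   [0, 2, 1],
   [0, 1, 2, 1],
   [0, 1, 2, 1, 0],
   [0, 1, 2, 1, 0, 2],
   [1, 2, 1, 0, 2],
   [1, 2, 1, 0],
   [0, 1, 2],
   [1, 0, 2],
   [1, 0, 2, 0],
   [1, 2, 0],
   [1, 0, 2, 1],
   [0, 1, 0, 2, 1],
   [0, 1, 0, 2, 1, 0],
   [2, 1, 0, 2, 1],
   [2, 1, 0, 2],
   [2, 1, 0],
   [2, 0, 1],
   [2, 0, 1, 0],
   [0, 2, 0, 1],
   [0, 2, 0, 1, 2],
   [0, 2, 0, 1, 2, 0],
   [1, 0, 2, 0, 1],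
   [0, 1, 0, 2],
   [0, 1, 0, 2, 0],
   [0, 1, 2, 0],
   [1, 0, 2, 1, 0],
   [0, 2, 1, 0, 2, 1],
   [0, 2, 1, 0, 2],
   [0, 2, 1, 0],
   [0, 2, 0, 1, 0],
   [2, 0, 1, 2],
   [2, 0, 1, 2, 0],
   [0, 1, 0, 2, 0, 1],
   [1, 2, 0, 1],
   [1, 2, 0, 1, 0],
   [0, 1, 2, 0, 1, 0],
   [0, 1, 2, 0, 1],
   [0, 2, 0, 1, 0, 2],
   [1, 2, 0, 1, 2],
   [2, 0, 1, 0, 2],
   [0, 1, 2, 0, 1, 2]]

def cert : List (Fin 54 × List (Fin 3) × Fin 3 × List (Fin 3)) :=
  [(0, [0], 0, []),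
   (0, [1], 1, []),
   (0, [2], 2, []),
   (1, [1], 1, []),
   (1, [2], 2, []),
   (2, [0], 0, []),
   (2, [2], 2, []),
   (3, [0], 0, []),
   (3, [1], 1, []),
   (4, [0], 0, []),
   (4, [2], 2, []),
   (4, [0], 1, [0, 1, 0, 1]),
   (5, [1], 1, []),
   (5, [2], 2, []),
   (6, [2], 2, []),
   (7, [0], 0, []),
   (7, [1], 1, []),
   (7, [0], 2, [0, 2, 0, 2]),
   (8, [1], 1, []),
   (8, [2], 2, []),
   (9, [1], 1, []),
   (10, [0], 0, []),
   (10, [1], 1, []),
   (10, [1], 2, [1, 2, 1, 2]),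
   (11, [0], 0, []),
   (11, [2], 2, []),
   (12, [0], 0, []),
   (13, [0], 0, []),
   (13, [1, 2, 1, 2, 1], 2, []),
   (14, [0], 0, []),
   (14, [], 1, [1]),
   (14, [2], 2, []),
   (15, [2], 2, []),
   (15, [0, 1, 0, 1, 0], 1, []),
   (15, [0, 2, 0, 2], 0, [2]),
   (15, [0, 2, 1, 2, 0, 2, 1, 2, 0, 2], 1, [2]),
   (16, [], 0, [0]),
   (16, [], 1, [1]),
   (16, [0], 2, [0, 2, 0, 2]),
   (17, [], 2, [2]),
   (18, [0, 1, 0, 1, 0], 1, []),
   (18, [0, 2, 0, 2], 0, [2]),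
   (19, [0], 0, []),
   (20, [0], 0, []),
   (20, [1], 1, []),
   (20, [0], 2, [0, 2, 0, 2]),
   (21, [1], 1, []),
   (21, [2], 2, []),
   (22, [1], 1, []),
   (22, [0, 2, 1, 2, 0, 2, 1, 2, 0], 2, [1, 2]),
   (23, [0], 0, []),
   (23, [1, 2, 1, 2, 1], 2, []),
   (24, [0], 0, []),
   (24, [], 1, [1]),
   (24, [2], 2, []),
   (25, [0, 2, 1, 2, 0, 2, 1, 2, 0, 2, 1], 2, []),
   (26, [], 1, [1]),
   (26, [2], 2, []),
   (27, [0], 0, []),
   (27, [], 2, [2]),
   (27, [0, 1, 0, 1], 0, [1]),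
   (28, [0, 1, 0, 1, 0], 1, []),
   (29, [0], 0, []),
   (29, [2], 2, []),
   (29, [1, 2, 1, 2], 1, [2]),
   (30, [1], 1, []),
   (30, [2], 2, []),
   (30, [1, 2, 1, 2], 1, [2]),
   (31, [0], 0, []),
   (31, [2], 2, []),
   (31, [0], 1, [0, 1, 0, 1]),
   (31, [1, 2, 1, 2], 1, [2]),
   (32, [0], 0, []),
   (33, [2], 2, []),
   (33, [0, 2, 0, 2], 0, [2]),
   (34, [], 0, [0]),
   (34, [0], 1, [0, 1, 0, 1]),
   (34, [0], 2, [0, 2, 0, 2]),
   (34, [1, 2, 1, 2], 1, [2]),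
   (35, [0], 0, []),
   (35, [0], 2, [0, 2, 0, 2]),
   (36, [1], 1, []),
   (36, [2], 2, []),
   (36, [0, 1, 0, 1], 0, [1]),
   (37, [1], 1, []),
   (37, [0, 2, 1, 2, 0, 2, 1, 2, 0], 2, [1, 2]),
   (38, [], 1, [1]),
   (38, [1, 2, 1, 2, 1], 2, []),
   (39, [0], 0, []),
   (39, [], 1, [1]),
   (39, [2], 2, []),
   (39, [1, 2], 1, [2, 1, 2]),
   (42, [0, 2, 1, 2, 0, 2], 1, [2, 0, 2, 1, 2]),
   (43, [0], 0, []),
   (43, [0, 2], 0, [2, 0, 2]),
   (44, [2], 2, []),
   (45, [1, 2, 1, 2], 1, [2]),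
   (46, [0], 0, []),
   (46, [2], 2, []),
   (46, [1, 2, 1, 2], 1, [2]),
   (46, [0], 2, [1, 2, 0, 2, 1, 2, 0, 2, 1, 2]),
   (47, [1], 1, []),
   (47, [2], 2, []),
   (47, [1, 2, 1, 2], 1, [2]),
   (48, [], 0, [0]),
   (48, [0, 2], 0, [2, 0, 2]),
   (49, [2], 2, []),
   (49, [0, 2, 0, 2], 0, [2]),
   (49, [1, 2, 1, 2], 1, [2])]

/-- The table as a function. -/
def act : Fin 54 → Fin 3 → Fin 54 := fun ω s =>
  ⟨((actTab.getD ω.val []).getD s.val 0) % 54, Nat.mod_lt _ (by norm_num)⟩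

/-- The spanning tree words. -/
def word : Fin 54 → List (Fin 3) := fun ω => wordTab.getD ω.val []

/-- The relators as words. -/
def R : List (List (Fin 3)) :=
  [[0, 0], [1, 1], [2, 2], [0, 1, 0, 1, 0, 1], [0, 2, 0, 2, 0, 2], [1, 2, 1, 2, 1, 2],
   [0, 2, 1, 2, 0, 2, 1, 2, 0, 2, 1, 2]]

set_option maxRecDepth 100000 in
theorem cert_ok : ∀ e : Fin 54 × Fin 3, e ∈ run act R (treeEdges act word) cert := by
  decide +kernel

/-- three involutions subject to the relations, generating the group -/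
structure Gen3 {X : Type*} [Group X] (d e f : X) : Prop where
  hd : d * d = 1
  he : e * e = 1
  hf : f * f = 1
  hde : (d * e) ^ 3 = 1
  hdf : (d * f) ^ 3 = 1
  hef : (e * f) ^ 3 = 1
  hdfef : (d * (f * e * f)) ^ 3 = 1
  hgen : Subgroup.closure ({d, e, f} : Set X) = ⊤

theorem card_le {X : Type*} [Group X] {d e f : X} (h : Gen3 d e f) :
    Finite X ∧ Nat.card X ≤ 54 := by
  have hgen : Subgroup.closure (Set.range (![d, e, f] : Fin 3 → X)) = ⊤ := by
    rw [eq_top_iff, ← h.hgen]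
    apply Subgroup.closure_mono
    intro x hx
    rcases hx with rfl | rfl | hx
    · exact ⟨0, rfl⟩
    · exact ⟨1, rfl⟩
    · rw [Set.mem_singleton_iff] at hx
      subst hx
      exact ⟨2, rfl⟩
  have hR : ∀ r ∈ R, prodL (![d, e, f] : Fin 3 → X) r = 1 := by
    intro r hr
    simp only [R, List.mem_cons, List.not_mem_nil, or_false] at hr
    rcases hr with rfl | rfl | rfl | rfl | rfl | rfl | rfl
    · simpa [prodL] using h.hd
    · simpa [prodL] using h.he
    · simpa [prodL] using h.hf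
    · have := h.hde
      simpa [prodL, pow_succ, mul_assoc] using this
    · have := h.hdf
      simpa [prodL, pow_succ, mul_assoc] using this
    · have := h.hef
      simpa [prodL, pow_succ, mul_assoc] using this
    · have := h.hdfef
      simpa [prodL, pow_succ, mul_assoc] using this
  exact card_le_of_cert (![d, e, f] : Fin 3 → X) hgen act word 0 (by decide) R hR cert cert_ok

/-- The relators of the presentation. -/
abbrev rels : Set (FreeGroup (Fin 3)) :=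
  {FreeGroup.of (0 : Fin 3) * FreeGroup.of 0, FreeGroup.of (1 : Fin 3) * FreeGroup.of 1,
    FreeGroup.of (2 : Fin 3) * FreeGroup.of 2,
    (FreeGroup.of (0 : Fin 3) * FreeGroup.of 1) ^ 3, (FreeGroup.of (0 : Fin 3) * FreeGroup.of 2) ^ 3,
    (FreeGroup.of (1 : Fin 3) * FreeGroup.of 2) ^ 3,
    (FreeGroup.of (0 : Fin 3) * (FreeGroup.of 2 * FreeGroup.of 1 * FreeGroup.of 2)) ^ 3}

/-- the presented group -/
abbrev Γ := PresentedGroup rels

theorem gen3_Γ : Gen3 (PresentedGroup.of (0 : Fin 3) : Γ) (PresentedGroup.of 1)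
    (PresentedGroup.of 2) := by
  have key : ∀ r ∈ rels, PresentedGroup.mk rels r = 1 := fun r hr =>
    PresentedGroup.one_of_mem hr
  refine ⟨?_, ?_, ?_, ?_, ?_, ?_, ?_, ?_⟩
  · have := key (FreeGroup.of (0 : Fin 3) * FreeGroup.of 0) (by simp [rels])
    simpa [PresentedGroup.of] using this
  · have := key (FreeGroup.of (1 : Fin 3) * FreeGroup.of 1) (by simp [rels])
    simpa [PresentedGroup.of] using this
  · have := key (FreeGroup.of (2 : Fin 3) * FreeGroup.of 2) (by simp [rels])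
    simpa [PresentedGroup.of] using this
  · have := key ((FreeGroup.of (0 : Fin 3) * FreeGroup.of 1) ^ 3) (by simp [rels])
    simpa [PresentedGroup.of] using this
  · have := key ((FreeGroup.of (0 : Fin 3) * FreeGroup.of 2) ^ 3) (by simp [rels])
    simpa [PresentedGroup.of] using this
  · have := key ((FreeGroup.of (1 : Fin 3) * FreeGroup.of 2) ^ 3) (by simp [rels])
    simpa [PresentedGroup.of] using this
  · have := key ((FreeGroup.of (0 : Fin 3) * (FreeGroup.of 2 * FreeGroup.of 1 * FreeGroup.of 2)) ^ 3)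
      (by simp [rels])
    simpa [PresentedGroup.of] using this
  · have h := PresentedGroup.closure_range_of rels
    rw [eq_top_iff, ← h]
    apply Subgroup.closure_mono
    rintro _ ⟨i, rfl⟩
    fin_cases i
    · left; rfl
    · right; left; rfl
    · right; right; rfl

/-- a group of order 54 generated by three such involutions is the presented group -/
theorem iso_Γ {X : Type*} [Group X] {d e f : X} (h : Gen3 d e f) (hc : Nat.card X = 54) :
    Nonempty (Γ ≃* X) := by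
  have hrel : ∀ r ∈ rels, FreeGroup.lift (![d, e, f] : Fin 3 → X) r = 1 := by
    intro r hr
    simp only [rels, Set.mem_insert_iff, Set.mem_singleton_iff] at hr
    rcases hr with rfl | rfl | rfl | rfl | rfl | rfl | rfl
    · simpa using h.hd
    · simpa using h.he
    · simpa using h.hf
    · simpa using h.hde
    · simpa using h.hdf
    · simpa using h.hef
    · simpa using h.hdfef
  let ψ : Γ →* X := PresentedGroup.toGroup hrel
  have hψ : ∀ i : Fin 3, ψ (PresentedGroup.of i) = (![d, e, f] : Fin 3 → X) i := fun i =>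
    PresentedGroup.toGroup.of hrel
  have hsurj : Function.Surjective ψ := by
    rw [← MonoidHom.range_eq_top, eq_top_iff, ← h.hgen, Subgroup.closure_le]
    intro x hx
    rcases hx with rfl | rfl | hx
    · exact ⟨PresentedGroup.of 0, hψ 0⟩
    · exact ⟨PresentedGroup.of 1, hψ 1⟩
    · rw [Set.mem_singleton_iff] at hx
      subst hx
      exact ⟨PresentedGroup.of 2, hψ 2⟩
  obtain ⟨hfin, hle⟩ := card_le gen3_Γ
  have hbij : Function.Bijective ψ :=
    Function.Surjective.bijective_of_nat_card_le hsurj (by rw [hc]; exact hle)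
  exact ⟨MulEquiv.ofBijective ψ hbij⟩

theorem iso_of_card {X Y : Type*} [Group X] [Group Y] {d e f : X} (h : Gen3 d e f)
    (hc : Nat.card X = 54) {d' e' f' : Y} (h' : Gen3 d' e' f') (hc' : Nat.card Y = 54) :
    Nonempty (X ≃* Y) := by
  obtain ⟨e1⟩ := iso_Γ h hc
  obtain ⟨e2⟩ := iso_Γ h' hc'
  exact ⟨e1.symm.trans e2⟩

end Cfsg.Agent.Helper1.TTS.Pres
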