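import Mathlib
import Cfsg.Agent.S0827
import Cfsg.Agent.Helper1.TTSh

/-!
# The commutator subgroup of `SU_3(2)` has order 54 and is generated by three involutions
subject to the relations of `Cfsg.Agent.Helper1.TTS.Pres.Gen3`.
-/

set_option autoImplicit false

namespace Cfsg.Agent.Helper1.TTS.USide

open Cfsg Cfsg.Agent.S0827 Cfsg.Agent.Helper7.U32
open scoped commutatorElement

/-- a group whose order divides 54, containing an involution and two non-commuting elements of
order three, has order 54 -/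
theorem card_eq_54 {T : Type*} [Group T] (hdiv : Nat.card T ∣ 54) (d a t : T) (hd1 : d ≠ 1)
    (hd : d * d = 1) (ha : a ^ 3 = 1) (ht : t ^ 3 = 1) (hat : a * t ≠ t * a) :
    Nat.card T = 54 := by
  haveI : Finite T := Nat.finite_of_card_ne_zero (fun h => by rw [h] at hdiv; omega)
  have h2 : 2 ∣ Nat.card T := by
    have : orderOf d = 2 := orderOf_eq_prime (by rw [pow_two]; exact hd) hd1
    rw [← this]; exact orderOf_dvd_natCard d
  haveI : Fact (Nat.Prime 3) := ⟨by norm_num⟩
  obtain ⟨P⟩ : Nonempty (Sylow 3 T) := inferInstance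
  have hmul := Subgroup.card_mul_index (P : Subgroup T)
  have hcop : ¬ 3 ∣ (P : Subgroup T).index := P.not_dvd_index
  obtain ⟨n, hn⟩ := (IsPGroup.iff_card.mp P.isPGroup')
  by_contra hne
  have hidx : (P : Subgroup T).index = 2 ∧ n ≤ 2 := by
    have hmem : Nat.card T ∈ Nat.divisors 54 := Nat.mem_divisors.mpr ⟨hdiv, by norm_num⟩
    have hD : Nat.divisors 54 = {1, 2, 3, 6, 9, 18, 27, 54} := by decide
    rw [hD] at hmem
    simp only [Finset.mem_insert, Finset.mem_singleton] at hmem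
    have hn2 : n ≤ 2 := by
      by_contra hn3
      have h27 : 3 ^ 3 ≤ 3 ^ n := Nat.pow_le_pow_right (by norm_num) (by omega)
      have hle : Nat.card (P : Subgroup T) ≤ Nat.card T := by
        rw [← hmul]
        exact Nat.le_mul_of_pos_right _ (Nat.pos_of_ne_zero (fun h => hcop (by rw [h]; exact dvd_zero 3)))
      rw [hn] at hle
      rcases hmem with h | h | h | h | h | h | h | h <;> rw [h] at hle h2 <;> omega
    refine ⟨?_, hn2⟩
    rw [hn] at hmul
    rcases hmem with h | h | h | h | h | h | h | h <;> rw [h] at hmul h2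
    · omega
    · interval_cases n <;> omega
    · omega
    · interval_cases n <;> omega
    · omega
    · interval_cases n <;> omega
    · omega
    · exact absurd h hne
  obtain ⟨hidx, hn2⟩ := hidx
  have key : ∀ x : T, x ^ 3 = 1 → x ∈ (P : Subgroup T) := by
    intro x hx
    have h1 := Subgroup.sq_mem_of_index_two hidx (x * x)
    have h4 : (x * x) ^ 2 = x := by
      calc (x * x) ^ 2 = x ^ 3 * x := by simp only [pow_two, pow_three', mul_assoc]
      _ = x := by rw [hx, one_mul]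
    rwa [h4] at h1
  have hcomm : ∀ x y : (P : Subgroup T), x * y = y * x := by
    interval_cases n
    · haveI : Subsingleton (P : Subgroup T) :=
        (Nat.card_eq_one_iff_unique.mp (by simpa using hn)).1
      intro x y; rw [Subsingleton.elim x y]
    · haveI := isCyclic_of_prime_card (α := (P : Subgroup T)) (p := 3) (by simpa using hn)
      intro x y
      exact (IsCyclic.isMulCommutative (α := (P : Subgroup T))).is_comm.comm x y
    · intro x y
      exact (IsPGroup.isMulCommutative_of_card_eq_prime_sq (G := (P : Subgroup T)) (p := 3)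
        (by simpa using hn)).is_comm.comm x y
  have := hcomm ⟨a, key a ha⟩ ⟨t, key t ht⟩
  exact hat (congrArg Subtype.val this)

/-- an involution -/
def dT : T9 := (⟨0, 0⟩, ⟨0, 0⟩, ⟨0, 1⟩, ⟨0, 0⟩, ⟨1, 0⟩, ⟨0, 0⟩, ⟨1, 1⟩, ⟨0, 0⟩, ⟨0, 0⟩)
/-- a commutator factor -/
def gdT : T9 := (⟨0, 1⟩, ⟨1, 0⟩, ⟨0, 1⟩, ⟨0, 1⟩, ⟨1, 1⟩, ⟨1, 1⟩, ⟨1, 1⟩, ⟨1, 1⟩, ⟨0, 1⟩)
/-- a commutator factor -/
def hdT : T9 := (⟨0, 1⟩, ⟨1, 1⟩, ⟨0, 1⟩, ⟨1, 1⟩, ⟨1, 1⟩, ⟨1, 0⟩, ⟨1, 1⟩, ⟨0, 1⟩, ⟨0, 1⟩)

/-- an involution -/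
def eT : T9 := (⟨0, 0⟩, ⟨1, 1⟩, ⟨0, 0⟩, ⟨0, 1⟩, ⟨0, 0⟩, ⟨0, 0⟩, ⟨0, 0⟩, ⟨0, 0⟩, ⟨1, 0⟩)
/-- a commutator factor -/
def geT : T9 := (⟨1, 1⟩, ⟨1, 0⟩, ⟨1, 0⟩, ⟨1, 1⟩, ⟨1, 1⟩, ⟨0, 1⟩, ⟨1, 0⟩, ⟨1, 1⟩, ⟨1, 0⟩)
/-- a commutator factor -/
def heT : T9 := (⟨1, 1⟩, ⟨1, 0⟩, ⟨0, 1⟩, ⟨1, 1⟩, ⟨1, 1⟩, ⟨1, 1⟩, ⟨1, 1⟩, ⟨0, 1⟩, ⟨1, 0⟩)

/-- an involution -/
def fT : T9 := (⟨0, 0⟩, ⟨0, 1⟩, ⟨0, 0⟩, ⟨1, 1⟩, ⟨0, 0⟩, ⟨0, 0⟩, ⟨0, 0⟩, ⟨0, 0⟩, ⟨1, 0⟩)
/-- a commutator factor -/
def gfT : T9 := (⟨1, 1⟩, ⟨1, 1⟩, ⟨1, 1⟩, ⟨1, 0⟩, ⟨1, 1⟩, ⟨0, 1⟩, ⟨0, 1⟩, ⟨1, 1⟩, ⟨1, 0⟩)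
/-- a commutator factor -/
def hfT : T9 := (⟨0, 1⟩, ⟨0, 1⟩, ⟨1, 1⟩, ⟨1, 1⟩, ⟨0, 1⟩, ⟨0, 1⟩, ⟨1, 1⟩, ⟨1, 0⟩, ⟨1, 1⟩)

theorem dT_mem : dT ∈ keys := by decide +kernel
theorem gdT_mem : gdT ∈ keys := by decide +kernel
theorem hdT_mem : hdT ∈ keys := by decide +kernel
theorem eT_mem : eT ∈ keys := by decide +kernel
theorem geT_mem : geT ∈ keys := by decide +kernel
theorem heT_mem : heT ∈ keys := by decide +kernel
theorem fT_mem : fT ∈ keys := by decide +kernel
theorem gfT_mem : gfT ∈ keys := by decide +kernel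
theorem hfT_mem : hfT ∈ keys := by decide +kernel

/-- the group element -/
def dG : G := toG dT dT_mem
/-- the group element -/
def gdG : G := toG gdT gdT_mem
/-- the group element -/
def hdG : G := toG hdT hdT_mem
/-- the group element -/
def eG : G := toG eT eT_mem
/-- the group element -/
def geG : G := toG geT geT_mem
/-- the group element -/
def heG : G := toG heT heT_mem
/-- the group element -/
def fG : G := toG fT fT_mem
/-- the group element -/
def gfG : G := toG gfT gfT_mem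
/-- the group element -/
def hfG : G := toG hfT hfT_mem

theorem G_ext {g h : G} (he : enc g.1.1 = enc h.1.1) : g = h :=
  Subtype.ext (Subtype.ext (enc_injective he))

theorem enc_toG (x : T9) (hx : x ∈ keys) : enc (toG x hx).1.1 = x := rfl

theorem enc_one_G : enc (1 : G).1.1 = one9 := enc_one

theorem dG_sq : dG * dG = 1 := by
  apply G_ext
  rw [enc_mul_val, enc_one_G]
  show mulT9 dT dT = one9
  decide +kernel

theorem eG_sq : eG * eG = 1 := by
  apply G_ext
  rw [enc_mul_val, enc_one_G]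
  show mulT9 eT eT = one9
  decide +kernel

theorem fG_sq : fG * fG = 1 := by
  apply G_ext
  rw [enc_mul_val, enc_one_G]
  show mulT9 fT fT = one9
  decide +kernel

theorem cube_of {x : G} (y : T9) (hy : enc x.1.1 = y) (h : mulT9 (mulT9 y y) y = one9) :
    x ^ 3 = 1 := by
  apply G_ext
  rw [pow_three', enc_mul_val, enc_mul_val, enc_one_G, hy]
  exact h

theorem de_cube : (dG * eG) ^ 3 = 1 :=
  cube_of (mulT9 dT eT) (enc_mul_val _ _) (by decide +kernel)

theorem df_cube : (dG * fG) ^ 3 = 1 :=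
  cube_of (mulT9 dT fT) (enc_mul_val _ _) (by decide +kernel)

theorem ef_cube : (eG * fG) ^ 3 = 1 :=
  cube_of (mulT9 eT fT) (enc_mul_val _ _) (by decide +kernel)

theorem dfef_cube : (dG * (fG * eG * fG)) ^ 3 = 1 :=
  cube_of (mulT9 dT (mulT9 (mulT9 fT eT) fT))
    (by rw [enc_mul_val, enc_mul_val, enc_mul_val]; rfl) (by decide +kernel)

theorem dG_ne_one : dG ≠ 1 := by
  intro h
  have := congrArg (fun g : G => enc g.1.1) h
  simp only [enc_one_G] at this
  revert this
  show ¬ dT = one9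
  decide +kernel

theorem not_comm : (dG * eG) * (dG * fG) ≠ (dG * fG) * (dG * eG) := by
  intro h
  have := congrArg (fun g : G => enc g.1.1) h
  simp only [enc_mul_val] at this
  revert this
  show ¬ mulT9 (mulT9 dT eT) (mulT9 dT fT) = mulT9 (mulT9 dT fT) (mulT9 dT eT)
  decide +kernel

theorem mem_comm_of {X : Type*} [Group X] {x g h : X} (hx : x * (h * g) = g * h) :
    x ∈ commutator X := by
  have h1 : x = ⁅g, h⁆ := by
    rw [commutatorElement_def]
    calc x = x * (h * g) * (h * g)⁻¹ := by group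
    _ = g * h * (h * g)⁻¹ := by rw [hx]
    _ = g * h * g⁻¹ * h⁻¹ := by group
  rw [h1, commutator_def]
  exact Subgroup.commutator_mem_commutator (Subgroup.mem_top _) (Subgroup.mem_top _)

theorem dG_mem : dG ∈ commutator G := by
  refine mem_comm_of (g := gdG) (h := hdG) ?_
  apply G_ext
  rw [enc_mul_val, enc_mul_val, enc_mul_val]
  show mulT9 dT (mulT9 hdT gdT) = mulT9 gdT hdT
  decide +kernel

theorem eG_mem : eG ∈ commutator G := by
  refine mem_comm_of (g := geG) (h := heG) ?_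
  apply G_ext
  rw [enc_mul_val, enc_mul_val, enc_mul_val]
  show mulT9 eT (mulT9 heT geT) = mulT9 geT heT
  decide +kernel

theorem fG_mem : fG ∈ commutator G := by
  refine mem_comm_of (g := gfG) (h := hfG) ?_
  apply G_ext
  rw [enc_mul_val, enc_mul_val, enc_mul_val]
  show mulT9 fT (mulT9 hfT gfT) = mulT9 gfT hfT
  decide +kernel

/-- the quotient map of the quaternion group onto the four-group -/
def chi' : QuaternionGroup 2 → Multiplicative (ZMod 2 × ZMod 2)
  | .a i => Multiplicative.ofAdd (((i.val % 2 : ℕ) : ZMod 2), 0)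
  | .xa i => Multiplicative.ofAdd (((i.val % 2 : ℕ) : ZMod 2), 1)

/-- the quotient map of the quaternion group onto the four-group -/
def chi : QuaternionGroup 2 →* Multiplicative (ZMod 2 × ZMod 2) where
  toFun := chi'
  map_one' := by decide
  map_mul' := by decide

theorem chi_surj : Function.Surjective chi := by decide

theorem cardA : Nat.card (Multiplicative (ZMod 2 × ZMod 2)) = 4 := by
  rw [Nat.card_eq_fintype_card]; rfl

/-- the composite homomorphism onto the four-group -/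
def fhom : G →* Multiplicative (ZMod 2 × ZMod 2) := chi.comp psi

theorem fhom_surj : Function.Surjective fhom := chi_surj.comp psi_surjective

theorem card_ker : Nat.card fhom.ker = 54 := by
  have h1 := Subgroup.card_mul_index fhom.ker
  rw [Subgroup.index_ker, MonoidHom.range_eq_top.mpr fhom_surj, Subgroup.card_top, cardA,
    card_G] at h1
  omega

theorem comm_le_ker : commutator G ≤ fhom.ker :=
  Abelianization.commutator_subset_ker fhom

/-- the three involutions in the commutator subgroup -/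
def dS : commutator G := ⟨dG, dG_mem⟩
/-- the three involutions in the commutator subgroup -/
def eS : commutator G := ⟨eG, eG_mem⟩
/-- the three involutions in the commutator subgroup -/
def fS : commutator G := ⟨fG, fG_mem⟩

/-- the subgroup generated by the three involutions -/
def TT : Subgroup G := Subgroup.closure {dG, eG, fG}

theorem TT_le : TT ≤ commutator G := by
  unfold TT
  rw [Subgroup.closure_le]
  intro x hx
  rcases hx with rfl | rfl | hx
  · exact dG_mem
  · exact eG_mem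
  · rw [Set.mem_singleton_iff] at hx
    subst hx
    exact fG_mem

theorem card_TT : Nat.card TT = 54 := by
  have hd : dG ∈ TT := Subgroup.subset_closure (by simp)
  have he : eG ∈ TT := Subgroup.subset_closure (by simp)
  have hf : fG ∈ TT := Subgroup.subset_closure (by simp)
  have hdiv : Nat.card TT ∣ 54 := by
    rw [← card_ker]
    exact Subgroup.card_dvd_of_le (TT_le.trans comm_le_ker)
  refine card_eq_54 hdiv ⟨dG, hd⟩ (⟨dG, hd⟩ * ⟨eG, he⟩) (⟨dG, hd⟩ * ⟨fG, hf⟩) ?_ ?_ ?_ ?_ ?_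
  · intro h
    exact dG_ne_one (congrArg Subtype.val h)
  · exact Subtype.ext dG_sq
  · exact Subtype.ext de_cube
  · exact Subtype.ext df_cube
  · intro h
    exact not_comm (congrArg Subtype.val h)

theorem TT_eq : TT = commutator G := by
  have hfin : Finite G := Nat.finite_of_card_ne_zero (by rw [card_G]; norm_num)
  apply Subgroup.eq_of_le_of_card_ge TT_le
  rw [card_TT, ← card_ker]
  exact Subgroup.card_le_of_le comm_le_ker

theorem card_comm : Nat.card (commutator G) = 54 := by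
  rw [← TT_eq, card_TT]

theorem closure_subtype_top {X : Type*} [Group X] (S : Subgroup X) (d e f : X) (hd : d ∈ S)
    (he : e ∈ S) (hf : f ∈ S) (h : Subgroup.closure {d, e, f} = S) :
    Subgroup.closure ({⟨d, hd⟩, ⟨e, he⟩, ⟨f, hf⟩} : Set S) = ⊤ := by
  have hmap : (Subgroup.closure ({⟨d, hd⟩, ⟨e, he⟩, ⟨f, hf⟩} : Set S)).map S.subtype = S := by
    rw [MonoidHom.map_closure, Set.image_insert_eq, Set.image_insert_eq, Set.image_singleton]
    exact h
  rw [eq_top_iff]
  intro x _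
  have hx : S.subtype x ∈ (Subgroup.closure ({⟨d, hd⟩, ⟨e, he⟩, ⟨f, hf⟩} : Set S)).map
      S.subtype := by
    rw [hmap]; exact x.2
  obtain ⟨y, hy, hyx⟩ := Subgroup.mem_map.mp hx
  have : y = x := Subtype.ext hyx
  rw [← this]; exact hy

theorem gen3 : Pres.Gen3 dS eS fS := by
  refine ⟨Subtype.ext dG_sq, Subtype.ext eG_sq, Subtype.ext fG_sq, Subtype.ext de_cube,
    Subtype.ext df_cube, Subtype.ext ef_cube, Subtype.ext dfef_cube, ?_⟩
  exact closure_subtype_top (commutator G) dG eG fG dG_mem eG_mem fG_mem TT_eq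

/-- a group of order 54 generated by three involutions subject to the relations is isomorphic to
the commutator subgroup of the special unitary group -/
theorem iso_comm {X : Type*} [Group X] {d e f : X} (h : Pres.Gen3 d e f)
    (hc : Nat.card X = 54) : Nonempty (X ≃* ↥(commutator ↥(Cfsg.SU 3 K4 2))) :=
  Pres.iso_of_card h hc gen3 card_comm

end Cfsg.Agent.Helper1.TTS.USide
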