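import Mathlib
import Cfsg.Agent.Lead.ThreeTransW
import Cfsg.Agent.Helper1.Cores

/-!
# Three-transposition classes in a group whose quotient by `O₂` has a normal Sylow 3-subgroup
of 2-power index: first reductions
-/

set_option autoImplicit false

namespace Cfsg.Agent.Helper1.TTS.Asm

open Cfsg.Agent.Lead.TTW

theorem central_of_comm {X : Type*} [Group X] (S : Set X) (hS : Subgroup.closure S = ⊤)
    (hc : ∀ x ∈ S, ∀ y ∈ S, x * y = y * x) : ∀ g : X, ∀ x ∈ S, g * x = x * g := by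
  intro g x hx
  have hle : Subgroup.closure S ≤ Subgroup.centralizer {x} := by
    rw [Subgroup.closure_le]
    intro y hy
    rw [SetLike.mem_coe, Subgroup.mem_centralizer_singleton_iff]
    exact hc y hy x hx
  have : g ∈ Subgroup.centralizer {x} := hle (hS ▸ Subgroup.mem_top g)
  exact Subgroup.mem_centralizer_singleton_iff.mp this

theorem comm_of_two {X : Type*} [Group X] (h2 : IsPGroup 2 X) {x y : X} (hx : x * x = 1)
    (hy : y * y = 1) (h : (x * y) ^ 2 = 1 ∨ (x * y) ^ 3 = 1) : x * y = y * x := by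
  have hxi : x⁻¹ = x := inv_eq_of_mul_eq_one_left hx
  have hyi : y⁻¹ = y := inv_eq_of_mul_eq_one_left hy
  have h2' : (x * y) ^ 2 = 1 := by
    rcases h with h | h
    · exact h
    · obtain ⟨k, hk⟩ := h2 (x * y)
      have hd1 := orderOf_dvd_of_pow_eq_one hk
      have hd2 := orderOf_dvd_of_pow_eq_one h
      have hcop : Nat.Coprime 3 (2 ^ k) := Nat.Coprime.pow_right k (by norm_num)
      have : x * y = 1 := orderOf_eq_one_iff.mp (Nat.eq_one_of_dvd_coprimes hcop hd2 hd1)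
      rw [this, one_pow]
  have h3 : x * y = (x * y)⁻¹ := by
    rw [eq_inv_iff_mul_eq_one, ← pow_two]; exact h2'
  calc x * y = (x * y)⁻¹ := h3
  _ = y * x := by rw [mul_inv_rev, hxi, hyi]

variable {H : Type*} [Group H] [Finite H]

/-- any two members of a class are conjugate -/
theorem class_conj {E : Set H} (hE : Cfsg.IsThreeTranspositionClass E) {x y : H} (hx : x ∈ E)
    (hy : y ∈ E) : ∃ g : H, y = g * x * g⁻¹ := by
  obtain ⟨d, _, hDeq⟩ := hE.2.1
  rw [hDeq] at hx hy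
  obtain ⟨a, ha⟩ := isConj_iff.mp (hx : IsConj d x)
  obtain ⟨b, hb⟩ := isConj_iff.mp (hy : IsConj d y)
  refine ⟨b * a⁻¹, ?_⟩
  rw [← hb, ← ha]; group

/-- the class avoids `O₂` when it has two members -/
theorem not_mem_pCore {E : Set H} (hE : Cfsg.IsThreeTranspositionClass E)
    (hE2 : ∃ a ∈ E, ∃ b ∈ E, a ≠ b) : ∀ e ∈ E, e ∉ Cfsg.pCore 2 H := by
  intro d hd hdQ
  have tt := tt3_of_class hE
  have hgen : Subgroup.closure E = ⊤ := hE.2.2
  have hsub : E ⊆ Cfsg.pCore 2 H := by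
    intro e he
    obtain ⟨g, rfl⟩ := class_conj hE hd he
    exact (Cfsg.pCore_normal 2 H).conj_mem d hdQ g
  have htop : Cfsg.pCore 2 H = ⊤ := by
    rw [eq_top_iff, ← hgen, Subgroup.closure_le]
    exact hsub
  haveI : Fact (Nat.Prime 2) := ⟨Nat.prime_two⟩
  have h2Q : IsPGroup 2 (Cfsg.pCore 2 H) := Cfsg.Agent.Helper1.pCore_isPGroup 2
  have h2H : IsPGroup 2 H := by
    intro g
    obtain ⟨k, hk⟩ := h2Q ⟨g, htop ▸ Subgroup.mem_top g⟩
    refine ⟨k, ?_⟩
    have := congrArg Subtype.val hk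
    simpa using this
  have hcomm : ∀ x ∈ E, ∀ y ∈ E, x * y = y * x := by
    intro x hx y hy
    exact comm_of_two h2H (tt.sq x hx) (tt.sq y hy) (hE.1.2 x hx y hy)
  have hcen := central_of_comm E hgen hcomm
  obtain ⟨a, ha, b, hb, hab⟩ := hE2
  obtain ⟨g, hg⟩ := class_conj hE ha hb
  apply hab
  rw [hg, hcen g a ha, mul_inv_cancel_right]

/-- commuting members of the class are congruent modulo `O₂`, and the quotient by `O₂` has
order twice a power of three -/
theorem stepB {E : Set H} (hE : Cfsg.IsThreeTranspositionClass E)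
    (hE2 : ∃ a ∈ E, ∃ b ∈ E, a ≠ b)
    (h232 : ∃ P : Sylow 3 (H ⧸ Cfsg.pCore 2 H), (P : Subgroup (H ⧸ Cfsg.pCore 2 H)).Normal ∧
      ∃ k : ℕ, (P : Subgroup (H ⧸ Cfsg.pCore 2 H)).index = 2 ^ k) :
    (∀ x ∈ E, ∀ y ∈ E, Commute x y → x⁻¹ * y ∈ Cfsg.pCore 2 H) ∧
      ∃ b : ℕ, Nat.card (H ⧸ Cfsg.pCore 2 H) = 2 * 3 ^ b := by
  have tt := tt3_of_class hE
  have hgen : Subgroup.closure E = ⊤ := hE.2.2
  have hnQ := not_mem_pCore hE hE2
  obtain ⟨Pb, hPn, k, hk⟩ := h232
  haveI := hPn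
  obtain ⟨A, hA⟩ : ∃ A : Subgroup (H ⧸ Cfsg.pCore 2 H), A = (Pb : Subgroup (H ⧸ Cfsg.pCore 2 H)) :=
    ⟨_, rfl⟩
  haveI hAn : A.Normal := by rw [hA]; exact hPn
  have hA3 : IsPGroup 3 A := by rw [hA]; exact Pb.isPGroup'
  have hAidx : A.index = 2 ^ k := by rw [hA]; exact hk
  let ρ : H →* (H ⧸ Cfsg.pCore 2 H) ⧸ A :=
    (QuotientGroup.mk' A).comp (QuotientGroup.mk' (Cfsg.pCore 2 H))
  have hρsurj : Function.Surjective ρ :=
    (QuotientGroup.mk'_surjective A).comp (QuotientGroup.mk'_surjective _)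
  have h2A : IsPGroup 2 ((H ⧸ Cfsg.pCore 2 H) ⧸ A) := by
    apply IsPGroup.of_card (n := k)
    rw [← hAidx]; rfl
  -- images of members of the class commute
  have hcommρ : ∀ x ∈ ρ '' E, ∀ y ∈ ρ '' E, x * y = y * x := by
    rintro _ ⟨x, hx, rfl⟩ _ ⟨y, hy, rfl⟩
    apply comm_of_two h2A
    · rw [← map_mul, tt.sq x hx, map_one]
    · rw [← map_mul, tt.sq y hy, map_one]
    · rcases hE.1.2 x hx y hy with h | h
      · left; rw [← map_mul, ← map_pow, h, map_one]
      · right; rw [← map_mul, ← map_pow, h, map_one]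
  have hgenρ : Subgroup.closure (ρ '' E) = ⊤ := by
    rw [← MonoidHom.map_closure, hgen, Subgroup.map_top_of_surjective ρ hρsurj]
  have hcen := central_of_comm (ρ '' E) hgenρ hcommρ
  -- all members of the class have the same image
  have hsame : ∀ x ∈ E, ∀ y ∈ E, ρ x = ρ y := by
    intro x hx y hy
    obtain ⟨g, rfl⟩ := class_conj hE hx hy
    rw [map_mul, map_mul, map_inv, hcen (ρ g) (ρ x) ⟨x, hx, rfl⟩, mul_inv_cancel_right]
  -- membership in A
  have hρ1 : ∀ z : H, ρ z = 1 ↔ (QuotientGroup.mk' (Cfsg.pCore 2 H) z) ∈ A := by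
    intro z
    show (QuotientGroup.mk' A) ((QuotientGroup.mk' (Cfsg.pCore 2 H)) z) = 1 ↔ _
    rw [QuotientGroup.mk'_apply, QuotientGroup.eq_one_iff]
  have hAsq : ∀ z : H, (QuotientGroup.mk' (Cfsg.pCore 2 H) z) ∈ A → z * z ∈ Cfsg.pCore 2 H →
      z ∈ Cfsg.pCore 2 H := by
    intro z hz hzz
    have h1 : (QuotientGroup.mk' (Cfsg.pCore 2 H) z) * (QuotientGroup.mk' (Cfsg.pCore 2 H) z) = 1 := by
      rw [← map_mul, QuotientGroup.mk'_apply, QuotientGroup.eq_one_iff]
      exact hzz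
    have := eq_one_of_sq_of_three hA3 hz h1
    rwa [QuotientGroup.mk'_apply, QuotientGroup.eq_one_iff] at this
  refine ⟨?_, ?_⟩
  · intro x hx y hy hc
    apply hAsq
    · rw [← hρ1, map_mul, map_inv, hsame x hx y hy, inv_mul_cancel]
    · have hxi : x⁻¹ = x := tt.inv hx
      have : x⁻¹ * y * (x⁻¹ * y) = 1 := by
        rw [hxi]
        calc x * y * (x * y) = x * (y * x) * y := by group
        _ = x * (x * y) * y := by rw [hc.eq]
        _ = (x * x) * (y * y) := by group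
        _ = 1 := by rw [tt.sq x hx, tt.sq y hy, one_mul]
      rw [this]; exact Subgroup.one_mem _
  · obtain ⟨d, hd, -⟩ := hE.2.1
    -- the quotient by A is generated by the image of d
    have hAtop : (⊤ : Subgroup ((H ⧸ Cfsg.pCore 2 H) ⧸ A)) = Subgroup.zpowers (ρ d) := by
      apply le_antisymm
      · rw [← hgenρ, Subgroup.closure_le]
        rintro _ ⟨x, hx, rfl⟩
        rw [hsame x hx d hd]
        exact Subgroup.mem_zpowers _
      · exact le_top
    have hρd1 : ρ d ≠ 1 := by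
      intro h1
      rw [hρ1] at h1
      apply hnQ d hd
      apply hAsq d h1
      rw [tt.sq d hd]; exact Subgroup.one_mem _
    have hord : orderOf (ρ d) = 2 := by
      apply orderOf_eq_prime
      · rw [pow_two, ← map_mul, tt.sq d hd, map_one]
      · exact hρd1
    have hidx2 : A.index = 2 := by
      have h1 : A.index = Nat.card ((H ⧸ Cfsg.pCore 2 H) ⧸ A) := rfl
      rw [h1, ← Subgroup.card_top, hAtop, Nat.card_zpowers, hord]
    obtain ⟨b, hb⟩ := IsPGroup.iff_card.mp hA3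
    refine ⟨b, ?_⟩
    rw [← Subgroup.card_mul_index A, hidx2, hb, mul_comm]

end Cfsg.Agent.Helper1.TTS.Asm
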