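import Mathlib
import Cfsg.Agent.Helper1.TTSj
import Cfsg.Agent.Helper1.TTSg
import Cfsg.Agent.S1265

/-!
# Three-transposition classes: the configuration `Cfg` from the class
-/

set_option autoImplicit false

namespace Cfsg.Agent.Helper1.TTS.Asm

open Cfsg.Agent.Lead.TTW

variable {H : Type*} [Group H] [Finite H]

theorem conj_closure (S : Set H) (g : H)
    (hn : ∀ s ∈ S, g * s * g⁻¹ ∈ Subgroup.closure S) :
    ∀ a ∈ Subgroup.closure S, g * a * g⁻¹ ∈ Subgroup.closure S := by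
  intro a ha
  induction ha using Subgroup.closure_induction with
  | mem y hy => exact hn y hy
  | one => rw [mul_one, mul_inv_cancel]; exact Subgroup.one_mem _
  | mul p q _ _ hp hq =>
    have : g * (p * q) * g⁻¹ = (g * p * g⁻¹) * (g * q * g⁻¹) := by group
    rw [this]; exact Subgroup.mul_mem _ hp hq
  | inv p _ hp =>
    have : g * p⁻¹ * g⁻¹ = (g * p * g⁻¹)⁻¹ := by group
    rw [this]; exact Subgroup.inv_mem _ hp

theorem mem_normalizer_of_conj {N : Subgroup H} {g : H} (h1 : ∀ n ∈ N, g * n * g⁻¹ ∈ N)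
    (h2 : ∀ n ∈ N, g⁻¹ * n * g ∈ N) : g ∈ Subgroup.normalizer (N : Set H) := by
  rw [Subgroup.mem_normalizer_iff]
  intro n
  constructor
  · exact h1 n
  · intro h
    have := h2 _ h
    have e : g⁻¹ * (g * n * g⁻¹) * g = n := by group
    rwa [e] at this

/-- the hypotheses -/
structure Ctx (E : Set H) (P : Subgroup H) (d : H) : Prop where
  tt : TT3 E
  hd : d ∈ E
  gen : Subgroup.closure E = ⊤
  conj : ∀ e ∈ E, ∃ g : H, e = g * d * g⁻¹
  nQ : ∀ e ∈ E, e ∉ Cfsg.pCore 2 H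
  hP : IsPGroup 3 P
  dP : d ∈ Subgroup.normalizer (P : Set H)
  sup : Subgroup.zpowers d ⊔ P ⊔ Cfsg.pCore 2 H = ⊤
  hF : Cfsg.generalizedFittingSubgroup H = Cfsg.pCore 2 H

variable {E : Set H} {P : Subgroup H} {d : H}

namespace Ctx

theorem d2 (c : Ctx E P d) : d * d = 1 := c.tt.sq d c.hd

theorem dinv (c : Ctx E P d) : d⁻¹ = d := c.tt.inv c.hd

theorem dP' (c : Ctx E P d) : ∀ x ∈ P, d * x * d⁻¹ ∈ P := fun x hx =>
  (Subgroup.mem_normalizer_iff.mp c.dP x).mp hx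

theorem hQ (_c : Ctx E P d) : IsPGroup 2 (Cfsg.pCore 2 H) := by
  haveI : Fact (Nat.Prime 2) := ⟨Nat.prime_two⟩
  exact Cfsg.Agent.Helper1.pCore_isPGroup 2

theorem disj (c : Ctx E P d) {x : H} (hx : x ∈ P) (hxQ : x ∈ Cfsg.pCore 2 H) : x = 1 := by
  haveI : Fact (Nat.Prime 2) := ⟨Nat.prime_two⟩
  haveI : Fact (Nat.Prime 3) := ⟨Nat.prime_three⟩
  have hdis := IsPGroup.disjoint_of_ne 2 3 (by norm_num) _ _ c.hQ c.hP
  exact (Subgroup.disjoint_def.mp hdis) hxQ hx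

theorem cube3 (c : Ctx E P d) {x y : H} (hx : x ∈ E) (hy : y ∈ E) (hxy : x * y ∈ P) :
    (x * y) ^ 3 = 1 := by
  by_cases hc : Commute x y
  · have h1 : x * y * (x * y) = 1 := by
      calc x * y * (x * y) = x * (y * x) * y := by group
      _ = x * (x * y) * y := by rw [hc.eq]
      _ = (x * x) * (y * y) := by group
      _ = 1 := by rw [c.tt.sq x hx, c.tt.sq y hy, one_mul]
    rw [eq_one_of_sq_of_three c.hP hxy h1, one_pow]
  · exact c.tt.cube x hx y hy hc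

theorem w_mem (c : Ctx E P d) {x : H} (hx : x ∈ P) : x * d * x⁻¹ * d⁻¹ ∈ P := by
  have : x * d * x⁻¹ * d⁻¹ = x * (d * x⁻¹ * d⁻¹) := by group
  rw [this]
  exact P.mul_mem hx (c.dP' _ (P.inv_mem hx))

theorem cube (c : Ctx E P d) {x : H} (hx : x ∈ P) : (x * d * x⁻¹ * d⁻¹) ^ 3 = 1 := by
  have h1 : x * d * x⁻¹ * d⁻¹ = (x * d * x⁻¹) * d := by rw [c.dinv]
  have h2 := c.w_mem hx
  rw [h1] at h2 ⊢
  exact c.cube3 (c.tt.conj x d c.hd) c.hd h2

/-- the set of generators -/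
def W (P : Subgroup H) (d : H) : Set H := {y | ∃ x ∈ P, y = x * d * x⁻¹ * d⁻¹}

theorem P0_le (c : Ctx E P d) : Subgroup.closure (W P d) ≤ P := by
  rw [Subgroup.closure_le]
  rintro _ ⟨x, hx, rfl⟩
  exact c.w_mem hx

theorem P0_conjP (_c : Ctx E P d) {y : H} (hy : y ∈ P) :
    ∀ z ∈ Subgroup.closure (W P d), y * z * y⁻¹ ∈ Subgroup.closure (W P d) := by
  apply conj_closure
  rintro _ ⟨x, hx, rfl⟩
  have e : y * (x * d * x⁻¹ * d⁻¹) * y⁻¹ =
      ((y * x) * d * (y * x)⁻¹ * d⁻¹) * (y * d * y⁻¹ * d⁻¹)⁻¹ := by group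
  rw [e]
  exact Subgroup.mul_mem _ (Subgroup.subset_closure ⟨y * x, P.mul_mem hy hx, rfl⟩)
    (Subgroup.inv_mem _ (Subgroup.subset_closure ⟨y, hy, rfl⟩))

theorem P0_conjd (c : Ctx E P d) :
    ∀ z ∈ Subgroup.closure (W P d), d * z * d⁻¹ ∈ Subgroup.closure (W P d) := by
  apply conj_closure
  rintro _ ⟨x, hx, rfl⟩
  have e : d * (x * d * x⁻¹ * d⁻¹) * d⁻¹ = (x * d * x⁻¹ * d⁻¹)⁻¹ := by
    have dd : ∀ r : H, d * (d * r) = r := fun r => by rw [← mul_assoc, c.d2, one_mul]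
    rw [eq_inv_iff_mul_eq_one, c.dinv]
    simp only [mul_assoc, dd, inv_mul_cancel_left, mul_inv_cancel_left, c.d2, mul_one]
  rw [e]
  exact Subgroup.inv_mem _ (Subgroup.subset_closure ⟨x, hx, rfl⟩)

end Ctx

end Cfsg.Agent.Helper1.TTS.Asm
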