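import Mathlib
import Cfsg.Agent.Helper1.TTSk

/-!
# Three-transposition classes: generation of the Sylow 3-subgroup by commutators with `d`
-/

set_option autoImplicit false

namespace Cfsg.Agent.Helper1.TTS.Asm

open Cfsg.Agent.Lead.TTW

variable {H : Type*} [Group H] [Finite H] {E : Set H} {P : Subgroup H} {d : H}

namespace Ctx

/-- the subgroup `P₀ O₂` -/
def NN (P : Subgroup H) (d : H) : Subgroup H := Subgroup.closure (W P d) ⊔ Cfsg.pCore 2 H

theorem good_of (g : H)
    (h : ∀ z ∈ Subgroup.closure (W P d), g * z * g⁻¹ ∈ NN P d) :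
    ∀ n ∈ NN P d, g * n * g⁻¹ ∈ NN P d := by
  have hle : NN P d ≤ (NN P d).comap (MulAut.conj g).toMonoidHom := by
    unfold NN
    apply sup_le
    · intro z hz
      rw [Subgroup.mem_comap]
      exact h z hz
    · intro q hq
      rw [Subgroup.mem_comap]
      exact Subgroup.mem_sup_right ((Cfsg.pCore_normal 2 H).conj_mem q hq g)
  intro n hn
  exact hle hn

theorem good_d (c : Ctx E P d) : ∀ n ∈ NN P d, d * n * d⁻¹ ∈ NN P d :=
  good_of d (fun z hz => Subgroup.mem_sup_left (c.P0_conjd z hz))

theorem good_P (c : Ctx E P d) {y : H} (hy : y ∈ P) : ∀ n ∈ NN P d, y * n * y⁻¹ ∈ NN P d :=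
  good_of y (fun z hz => Subgroup.mem_sup_left (c.P0_conjP hy z hz))

theorem good_Q (_c : Ctx E P d) {q : H} (hq : q ∈ Cfsg.pCore 2 H) :
    ∀ n ∈ NN P d, q * n * q⁻¹ ∈ NN P d := by
  apply good_of
  intro z hz
  have e : q * z * q⁻¹ = z * ((z⁻¹ * q * z) * q⁻¹) := by group
  rw [e]
  apply Subgroup.mul_mem _ (Subgroup.mem_sup_left hz)
  apply Subgroup.mem_sup_right
  apply Subgroup.mul_mem _ _ (Subgroup.inv_mem _ hq)
  have := (Cfsg.pCore_normal 2 H).conj_mem q hq z⁻¹
  rwa [inv_inv] at this

theorem NN_normal (c : Ctx E P d) : (NN P d).Normal := by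
  rw [← Subgroup.normalizer_eq_top_iff, eq_top_iff, ← c.sup]
  apply sup_le (sup_le _ _) _
  · rw [Subgroup.zpowers_le]
    apply mem_normalizer_of_conj c.good_d
    intro n hn
    have := c.good_d n hn
    rwa [c.dinv] at this ⊢
  · intro y hy
    apply mem_normalizer_of_conj (c.good_P hy)
    intro n hn
    have := c.good_P (P.inv_mem hy) n hn
    rwa [inv_inv] at this
  · intro q hq
    apply mem_normalizer_of_conj (c.good_Q hq)
    intro n hn
    have := c.good_Q (Subgroup.inv_mem _ hq) n hn
    rwa [inv_inv] at this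

theorem P_le_NN (c : Ctx E P d) : P ≤ NN P d := by
  haveI := c.NN_normal
  -- everything commutes with d modulo NN
  have hC : ∀ g : H, QuotientGroup.mk' (NN P d) g * QuotientGroup.mk' (NN P d) d =
      QuotientGroup.mk' (NN P d) d * QuotientGroup.mk' (NN P d) g := by
    have hle : (⊤ : Subgroup H) ≤ (Subgroup.centralizer {QuotientGroup.mk' (NN P d) d}).comap
        (QuotientGroup.mk' (NN P d)) := by
      rw [← c.sup]
      apply sup_le (sup_le _ _) _
      · rw [Subgroup.zpowers_le, Subgroup.mem_comap, Subgroup.mem_centralizer_singleton_iff]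
      · intro x hx
        rw [Subgroup.mem_comap, Subgroup.mem_centralizer_singleton_iff, ← map_mul, ← map_mul,
          eq_comm, QuotientGroup.mk'_apply, QuotientGroup.mk'_apply, QuotientGroup.eq]
        apply Subgroup.mem_sup_left
        apply Subgroup.subset_closure
        refine ⟨x⁻¹, P.inv_mem hx, ?_⟩
        rw [c.dinv, inv_inv, mul_inv_rev, c.dinv]
        group
      · intro q hq
        have hq1 : QuotientGroup.mk' (NN P d) q = 1 := by
          rw [QuotientGroup.mk'_apply, QuotientGroup.eq_one_iff]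
          exact Subgroup.mem_sup_right hq
        rw [Subgroup.mem_comap, Subgroup.mem_centralizer_singleton_iff, hq1, one_mul, mul_one]
    intro g
    have := hle (Subgroup.mem_top g)
    rwa [Subgroup.mem_comap, Subgroup.mem_centralizer_singleton_iff] at this
  -- the quotient is generated by the image of d
  have hsurj : Function.Surjective (QuotientGroup.mk' (NN P d)) := QuotientGroup.mk'_surjective _
  have htop : (⊤ : Subgroup (H ⧸ NN P d)) ≤ Subgroup.zpowers (QuotientGroup.mk' (NN P d) d) := by
    rw [← Subgroup.map_top_of_surjective _ hsurj, ← c.gen, MonoidHom.map_closure,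
      Subgroup.closure_le]
    rintro _ ⟨e, he, rfl⟩
    obtain ⟨g, rfl⟩ := c.conj e he
    rw [map_mul, map_mul, map_inv, hC g, mul_inv_cancel_right]
    exact Subgroup.mem_zpowers _
  intro x hx
  have hmem := htop (Subgroup.mem_top (QuotientGroup.mk' (NN P d) x))
  obtain ⟨i, hi⟩ := Subgroup.mem_zpowers_iff.mp hmem
  have hsq : QuotientGroup.mk' (NN P d) x * QuotientGroup.mk' (NN P d) x = 1 := by
    rw [← hi, ← zpow_add, ← two_mul, zpow_mul, zpow_two, ← map_mul, c.d2, map_one, one_zpow]
  have h3 : IsPGroup 3 (P.map (QuotientGroup.mk' (NN P d))) := c.hP.map _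
  have := eq_one_of_sq_of_three h3 (Subgroup.mem_map_of_mem _ hx) hsq
  rwa [QuotientGroup.mk'_apply, QuotientGroup.eq_one_iff] at this

/-- `P` is generated by the commutators with `d` -/
theorem gen' (c : Ctx E P d) : P ≤ Subgroup.closure (W P d) := by
  intro x hx
  have hxN := c.P_le_NN hx
  unfold NN at hxN
  obtain ⟨p, hp, q, hq, rfl⟩ := Subgroup.mem_sup_of_normal_right.mp hxN
  have hpP := c.P0_le hp
  have hqP : q ∈ P := by
    have := P.mul_mem (P.inv_mem hpP) hx
    rwa [inv_mul_cancel_left] at this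
  rw [c.disj hqP hq, mul_one]
  exact hp

end Ctx

end Cfsg.Agent.Helper1.TTS.Asm
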