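import Mathlib
import Cfsg.Agent.Helper1.TTSl

/-!
# Three-transposition classes: the configuration `Cfg`
-/

set_option autoImplicit false

namespace Cfsg.Agent.Helper1.TTS.Asm

open Cfsg.Agent.Lead.TTW

variable {H : Type*} [Group H] [Finite H] {E : Set H} {P : Subgroup H} {d : H}

namespace Ctx

theorem eq_one_of_cube_of_two (c : Ctx E P d) {x : H} (hx : x ∈ Cfsg.pCore 2 H)
    (h3 : x ^ 3 = 1) : x = 1 := by
  obtain ⟨k, hk⟩ := c.hQ ⟨x, hx⟩
  have hk' : x ^ (2 ^ k) = 1 := by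
    have := congrArg Subtype.val hk
    simpa using this
  have hd1 := orderOf_dvd_of_pow_eq_one hk'
  have hd2 := orderOf_dvd_of_pow_eq_one h3
  have hcop : Nat.Coprime 3 (2 ^ k) := Nat.Coprime.pow_right k (by norm_num)
  exact orderOf_eq_one_iff.mp (Nat.eq_one_of_dvd_coprimes hcop hd2 hd1)

theorem tt_or (c : Ctx E P d) {x y : H} (hx : x ∈ E) (hy : y ∈ E) :
    (x * y) ^ 2 = 1 ∨ (x * y) ^ 3 = 1 := by
  by_cases hc : Commute x y
  · left
    rw [pow_two]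
    calc x * y * (x * y) = x * (y * x) * y := by group
    _ = x * (x * y) * y := by rw [hc.eq]
    _ = (x * x) * (y * y) := by group
    _ = 1 := by rw [c.tt.sq x hx, c.tt.sq y hy, one_mul]
  · right
    exact c.tt.cube x hx y hy hc

theorem star (c : Ctx E P d) : ∀ y ∈ P, y ≠ 1 → d * y * d⁻¹ = y⁻¹ →
    ∀ q ∈ Cfsg.pCore 2 H, y * q * y⁻¹ = q → d * q * d⁻¹ = q := by
  intro y hy hy1 hdy q hq hyq
  have hdy' : d⁻¹ * y * d = y⁻¹ := by
    have := hdy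
    rw [c.dinv] at this ⊢
    exact this
  have hu : d⁻¹ * (y * y) * d = (y * y)⁻¹ := by
    calc d⁻¹ * (y * y) * d = (d⁻¹ * y * d) * (d⁻¹ * y * d) := by group
    _ = y⁻¹ * y⁻¹ := by rw [hdy']
    _ = (y * y)⁻¹ := by group
  have h1 : y⁻¹ * q * y = q := by
    calc y⁻¹ * q * y = y⁻¹ * (y * q * y⁻¹) * y := by rw [hyq]
    _ = q := by group
  have huq : (y * y)⁻¹ * q * ((y * y)⁻¹)⁻¹ = q := by
    calc (y * y)⁻¹ * q * ((y * y)⁻¹)⁻¹ = y⁻¹ * (y⁻¹ * q * y) * y := by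
          simp only [mul_inv_rev, inv_inv, mul_assoc]
    _ = q := by rw [h1, h1]
  have huq' : (y * y) * q * (y * y)⁻¹ = q := by
    calc (y * y) * q * (y * y)⁻¹ = y * (y * q * y⁻¹) * y⁻¹ := by group
    _ = q := by rw [hyq, hyq]
  have hconj : (y * y) * (d * q * d⁻¹) * (y * y)⁻¹ = d * q * d⁻¹ := by
    calc (y * y) * (d * q * d⁻¹) * (y * y)⁻¹
        = d * ((d⁻¹ * (y * y) * d) * q * (d⁻¹ * (y * y) * d)⁻¹) * d⁻¹ := by group
    _ = d * q * d⁻¹ := by rw [hu, huq]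
  -- the two members of the class
  have he1 : y * d * y⁻¹ ∈ E := c.tt.conj y d c.hd
  have he2 : q * d * q⁻¹ ∈ E := c.tt.conj q d c.hd
  have hue : y * d * y⁻¹ * d = y * y := by
    have h2 : d * y⁻¹ * d⁻¹ = y := by rw [← conj_inv, hdy, inv_inv]
    calc y * d * y⁻¹ * d = y * (d * y⁻¹ * d⁻¹) := by rw [c.dinv]; group
    _ = y * y := by rw [h2]
  have hqe : d * (q * d * q⁻¹) = d * q * d⁻¹ * q⁻¹ := by rw [c.dinv]; group
  have hprod : (y * d * y⁻¹) * (q * d * q⁻¹) = (y * y) * (d * q * d⁻¹ * q⁻¹) := by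
    rw [← hue, ← hqe]
    have dd : ∀ r : H, d * (d * r) = r := fun r => by rw [← mul_assoc, c.d2, one_mul]
    simp only [mul_assoc, dd]
  have hq' : d * q * d⁻¹ * q⁻¹ ∈ Cfsg.pCore 2 H :=
    Subgroup.mul_mem _ ((Cfsg.pCore_normal 2 H).conj_mem q hq d) (Subgroup.inv_mem _ hq)
  have hcomm : Commute (y * y) (d * q * d⁻¹ * q⁻¹) := by
    have : (y * y) * (d * q * d⁻¹ * q⁻¹) * (y * y)⁻¹ = d * q * d⁻¹ * q⁻¹ := by
      calc (y * y) * (d * q * d⁻¹ * q⁻¹) * (y * y)⁻¹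
          = ((y * y) * (d * q * d⁻¹) * (y * y)⁻¹) * ((y * y) * q * (y * y)⁻¹)⁻¹ := by group
      _ = d * q * d⁻¹ * q⁻¹ := by rw [hconj, huq']
    show (y * y) * (d * q * d⁻¹ * q⁻¹) = (d * q * d⁻¹ * q⁻¹) * (y * y)
    calc (y * y) * (d * q * d⁻¹ * q⁻¹)
        = ((y * y) * (d * q * d⁻¹ * q⁻¹) * (y * y)⁻¹) * (y * y) := by group
    _ = (d * q * d⁻¹ * q⁻¹) * (y * y) := by rw [this]
  have hyyP : y * y ∈ P := P.mul_mem hy hy
  have hu3 : (y * y) ^ 3 = 1 := by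
    have := c.cube3 he1 c.hd (by rw [hue]; exact hyyP)
    rwa [hue] at this
  have hq1 : d * q * d⁻¹ * q⁻¹ = 1 := by
    rcases c.tt_or he1 he2 with h | h
    · exfalso
      rw [hprod, hcomm.mul_pow] at h
      have h2 : (y * y) ^ 2 ∈ Cfsg.pCore 2 H := by
        have : (y * y) ^ 2 = ((d * q * d⁻¹ * q⁻¹) ^ 2)⁻¹ := eq_inv_of_mul_eq_one_left h
        rw [this]
        exact Subgroup.inv_mem _ (Subgroup.pow_mem _ hq' 2)
      have h3 : (y * y) ^ 2 = 1 := c.disj (P.pow_mem hyyP 2) h2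
      have h4 : y * y = 1 := by
        calc y * y = (y * y) ^ 3 * ((y * y) ^ 2)⁻¹ := by group
        _ = 1 := by rw [hu3, h3, inv_one, one_mul]
      exact hy1 (eq_one_of_sq_of_three c.hP hy h4)
    · rw [hprod, hcomm.mul_pow, hu3, one_mul] at h
      exact c.eq_one_of_cube_of_two hq' h
  calc d * q * d⁻¹ = (d * q * d⁻¹ * q⁻¹) * q := by group
  _ = q := by rw [hq1, one_mul]

theorem hd' (c : Ctx E P d) : ¬ ∀ q ∈ Cfsg.pCore 2 H, d * q * d⁻¹ = q := by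
  intro h
  apply c.nQ d c.hd
  rw [← c.hF]
  apply Cfsg.Agent.S1265.result
  rw [Subgroup.mem_centralizer_iff]
  intro q hq
  rw [SetLike.mem_coe, c.hF] at hq
  have := h q hq
  calc q * d = (d * q * d⁻¹) * d := by rw [this]
  _ = d * q := by group

theorem cfg (c : Ctx E P d) : Cfg (Cfsg.pCore 2 H) P d where
  hQ := c.hQ
  hP := c.hP
  d2 := c.d2
  dP := c.dP'
  dQ := fun q hq => (Cfsg.pCore_normal 2 H).conj_mem q hq d
  PQ := fun x _ q hq => (Cfsg.pCore_normal 2 H).conj_mem q hq x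
  cube := fun _ hx => c.cube hx
  gen := c.gen'
  star := c.star
  hd := c.hd'

end Ctx

end Cfsg.Agent.Helper1.TTS.Asm
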