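import Mathlib
import Cfsg.Agent.Helper1.TTSm
import Cfsg.Agent.Helper1.TTSi
import Cfsg.Agent.Helper1.AbJe

/-!
# Three-transposition classes: the two conclusions
-/

set_option autoImplicit false

namespace Cfsg.Agent.Helper1.TTS.Asm

open Cfsg.Agent.Lead.TTW

theorem comm_of_pow_le {T : Type*} [Group T] {n : ℕ} (hn : Nat.card T = 3 ^ n) (hn2 : n ≤ 2) :
    ∀ x y : T, x * y = y * x := by
  haveI : Fact (Nat.Prime 3) := ⟨by norm_num⟩
  interval_cases n
  · haveI : Subsingleton T := (Nat.card_eq_one_iff_unique.mp (by simpa using hn)).1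
    intro x y; rw [Subsingleton.elim x y]
  · haveI := isCyclic_of_prime_card (α := T) (p := 3) (by simpa using hn)
    intro x y
    exact (IsCyclic.isMulCommutative (α := T)).is_comm.comm x y
  · intro x y
    exact (IsPGroup.isMulCommutative_of_card_eq_prime_sq (G := T) (p := 3)
      (by simpa using hn)).is_comm.comm x y

/-- the existential form of the conclusion -/
theorem exists_field_iso {X : Type*} [Group X] {d e f : X} (h : Pres.Gen3 d e f)
    (hc : Nat.card X = 54) :
    ∃ (F : Type) (_ : Field F) (_ : Fintype F), Fintype.card F = 4 ∧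
      Nonempty (X ≃* ↥(commutator ↥(Cfsg.SU 3 F 2))) :=
  ⟨Cfsg.Agent.Helper7.U32.K4, inferInstance, inferInstance,
    by rw [Cfsg.Agent.S0827.card_K4]; norm_num, USide.iso_comm h hc⟩

variable {H : Type*} [Group H] [Finite H] {E : Set H} {d : H}

namespace Ctx

/-- the order of the Sylow 3-subgroup -/
theorem card_P (P : Sylow 3 H) (c : Ctx E (P : Subgroup H) d) {b : ℕ}
    (hb : Nat.card (H ⧸ Cfsg.pCore 2 H) = 2 * 3 ^ b) :
    Nat.card (P : Subgroup H) = 3 ^ b := by
  haveI : Fact (Nat.Prime 2) := ⟨Nat.prime_two⟩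
  haveI : Fact (Nat.Prime 3) := ⟨Nat.prime_three⟩
  have h1 := Subgroup.card_eq_card_quotient_mul_card_subgroup (Cfsg.pCore 2 H)
  obtain ⟨m, hm⟩ := IsPGroup.iff_card.mp c.hQ
  obtain ⟨a, ha⟩ := IsPGroup.iff_card.mp c.hP
  have hmul := Subgroup.card_mul_index (P : Subgroup H)
  have hcop : ¬ 3 ∣ (P : Subgroup H).index := P.not_dvd_index
  rw [hb, hm] at h1
  rw [ha, h1] at hmul
  rw [ha]
  have hc3 : Nat.Coprime 3 (2 * 2 ^ m) := by
    rw [← pow_succ']
    exact Nat.Coprime.pow_right _ (by norm_num)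
  apply Nat.dvd_antisymm
  · have h2 : 3 ^ a ∣ 3 ^ b * (2 * 2 ^ m) := by
      have : 3 ^ b * (2 * 2 ^ m) = 2 * 3 ^ b * 2 ^ m := by ring
      rw [this, ← hmul]
      exact dvd_mul_right _ _
    exact (Nat.Coprime.pow_left a hc3).dvd_of_dvd_mul_right h2
  · have h2 : 3 ^ b ∣ 3 ^ a * (P : Subgroup H).index := by
      rw [hmul]
      exact Dvd.intro_left (2) (by ring) |>.trans (dvd_mul_right _ _)
    have hc4 : Nat.Coprime 3 (P : Subgroup H).index :=
      (Nat.Prime.coprime_iff_not_dvd Nat.prime_three).mpr hcop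
    exact (Nat.Coprime.pow_left b hc4).dvd_of_dvd_mul_right h2

end Ctx

end Cfsg.Agent.Helper1.TTS.Asm
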