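import Mathlib
import Cfsg.Agent.Helper1.TTSn

/-!
# Three-transposition classes: the conclusion
-/

set_option autoImplicit false

namespace Cfsg.Agent.Helper1.TTS.Asm

open Cfsg.Agent.Lead.TTW

variable {H : Type*} [Group H] [Finite H] {E : Set H} {d : H}

namespace Ctx

theorem de_eq {P : Subgroup H} (c : Ctx E P d) {a : H} (ha : Inv P d a) (ha3 : a ^ 3 = 1) :
    d * (a * d * a⁻¹) = a := by
  have h3' : a * a * a = 1 := by rw [← pow_three']; exact ha3
  calc d * (a * d * a⁻¹) = (d * a * d⁻¹) * a⁻¹ := by rw [c.dinv]; group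
  _ = a⁻¹ * a⁻¹ := by rw [ha.2]
  _ = a⁻¹ * a⁻¹ * (a * a * a) := by rw [h3', mul_one]
  _ = a := by group

theorem concl (P : Sylow 3 H) (c : Ctx E (P : Subgroup H) d) {b : ℕ}
    (hb : Nat.card (H ⧸ Cfsg.pCore 2 H) = 2 * 3 ^ b) :
    Nonempty (H ⧸ Cfsg.pCore 2 H ≃* Equiv.Perm (Fin 3)) ∨
      ∃ (F : Type) (_ : Field F) (_ : Fintype F), Fintype.card F = 4 ∧
        Nonempty (H ⧸ Cfsg.pCore 2 H ≃* ↥(commutator ↥(Cfsg.SU 3 F 2))) := by
  haveI : Fact (Nat.Prime 2) := ⟨Nat.prime_two⟩
  haveI : Fact (Nat.Prime 3) := ⟨Nat.prime_three⟩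
  have hP := c.card_P P hb
  obtain ⟨π, hπ⟩ : ∃ π : H →* H ⧸ Cfsg.pCore 2 H, π = QuotientGroup.mk' (Cfsg.pCore 2 H) :=
    ⟨_, rfl⟩
  have hπ1 : ∀ x : H, π x = 1 ↔ x ∈ Cfsg.pCore 2 H := by
    intro x
    rw [hπ, QuotientGroup.mk'_apply, QuotientGroup.eq_one_iff]
  rcases c.cfg.main with h0 | ⟨ζ, hζ, hζ1, hPζ⟩ | ⟨a, t, ha, ht, hat, hPat⟩
  · -- P = ⊥
    exfalso
    have h1 : Nat.card (P : Subgroup H) = 1 := by rw [h0]; exact Subgroup.card_bot
    rw [h1] at hP
    have hb2 : Nat.card (H ⧸ Cfsg.pCore 2 H) = 2 := by rw [hb, ← hP]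
    obtain ⟨m, hm⟩ := IsPGroup.iff_card.mp c.hQ
    have hH := Subgroup.card_eq_card_quotient_mul_card_subgroup (Cfsg.pCore 2 H)
    rw [hb2, hm] at hH
    have h2top : IsPGroup 2 (⊤ : Subgroup H) := by
      apply IsPGroup.of_card (n := m + 1)
      rw [Subgroup.card_top, hH, pow_succ']
    have : (⊤ : Subgroup H) ≤ Cfsg.pCore 2 H := Cfsg.Agent.Helper1.le_pCore inferInstance h2top
    exact c.nQ d c.hd (this (Subgroup.mem_top d))
  · left
    have hζ3 : ζ ^ 3 = 1 := c.cfg.inv_cube hζ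
    have hord : orderOf ζ = 3 := orderOf_eq_prime hζ3 hζ1
    have hP3 : Nat.card (P : Subgroup H) = 3 := by rw [hPζ, Nat.card_zpowers, hord]
    have h6 : Nat.card (H ⧸ Cfsg.pCore 2 H) = 6 := by rw [hb, ← hP, hP3]
    have hd2 : orderOf (π d) = 2 := by
      apply orderOf_eq_prime
      · rw [pow_two, ← map_mul, c.d2, map_one]
      · intro h
        exact c.nQ d c.hd ((hπ1 d).mp h)
    refine Cfsg.Agent.Helper1.AbJ.s3_of_card_six_of_not_commute h6 (π d) (π ζ) hd2 ?_
    intro hcomm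
    have h1 : π (ζ⁻¹) = π ζ := by
      rw [← hζ.2, map_mul, map_mul, hcomm, map_inv, mul_inv_cancel_right]
    have h2 : π (ζ * ζ) = 1 := by
      rw [map_mul]
      nth_rewrite 1 [← h1]
      rw [map_inv, inv_mul_cancel]
    have h3 : ζ * ζ = 1 := c.disj (P.mul_mem hζ.1 hζ.1) ((hπ1 _).mp h2)
    exact hζ1 (eq_one_of_sq_of_three c.hP hζ.1 h3)
  · right
    have ha3 : a ^ 3 = 1 := c.cfg.inv_cube ha
    have ht3 : t ^ 3 = 1 := c.cfg.inv_cube ht
    obtain ⟨e, he_def⟩ : ∃ e, e = a * d * a⁻¹ := ⟨_, rfl⟩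
    obtain ⟨f, hf_def⟩ : ∃ f, f = t * d * t⁻¹ := ⟨_, rfl⟩
    have heE : e ∈ E := by rw [he_def]; exact c.tt.conj a d c.hd
    have hfE : f ∈ E := by rw [hf_def]; exact c.tt.conj t d c.hd
    have hde : d * e = a := by rw [he_def]; exact c.de_eq ha ha3
    have hdf : d * f = t := by rw [hf_def]; exact c.de_eq ht ht3
    have hed : e * d = a⁻¹ := by rw [← hde, mul_inv_rev, c.tt.inv heE, c.dinv]
    have hef : e * f = a⁻¹ * t := by
      calc e * f = e * (d * d) * f := by rw [c.d2, mul_one]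
      _ = (e * d) * (d * f) := by group
      _ = a⁻¹ * t := by rw [hed, hdf]
    have hfef : f * e * f ∈ E := by
      have := c.tt.conj f e heE
      rwa [c.tt.inv hfE] at this
    have hdfef : d * (f * e * f) = t * (a⁻¹ * t) := by
      calc d * (f * e * f) = (d * f) * (e * f) := by group
      _ = t * (a⁻¹ * t) := by rw [hdf, hef]
    have hatP : a⁻¹ * t ∈ (P : Subgroup H) := Subgroup.mul_mem _ (Subgroup.inv_mem _ ha.1) ht.1
    have hg : Pres.Gen3 (π d) (π e) (π f) := by
      refine ⟨?_, ?_, ?_, ?_, ?_, ?_, ?_, ?_⟩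
      · rw [← map_mul, c.d2, map_one]
      · rw [← map_mul, c.tt.sq e heE, map_one]
      · rw [← map_mul, c.tt.sq f hfE, map_one]
      · rw [← map_mul, ← map_pow, hde, ha3, map_one]
      · rw [← map_mul, ← map_pow, hdf, ht3, map_one]
      · rw [← map_mul, ← map_pow, c.cube3 heE hfE (by rw [hef]; exact hatP), map_one]
      · rw [← map_mul, ← map_mul, ← map_mul, ← map_pow,
          c.cube3 c.hd hfef (by rw [hdfef]; exact Subgroup.mul_mem _ ht.1 hatP), map_one]
      · have hdm : d ∈ Subgroup.closure ({d, e, f} : Set H) :=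
          Subgroup.subset_closure (by simp)
        have hem : e ∈ Subgroup.closure ({d, e, f} : Set H) :=
          Subgroup.subset_closure (by simp)
        have hfm : f ∈ Subgroup.closure ({d, e, f} : Set H) :=
          Subgroup.subset_closure (by simp)
        have hK : Subgroup.zpowers d ⊔ (P : Subgroup H) ≤
            Subgroup.closure ({d, e, f} : Set H) := by
          apply sup_le
          · rw [Subgroup.zpowers_le]; exact hdm
          · rw [hPat, Subgroup.closure_le]
            intro x hx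
            rcases hx with hx | hx
            · rw [hx, ← hde]; exact Subgroup.mul_mem _ hdm hem
            · rw [Set.mem_singleton_iff] at hx
              rw [hx, ← hdf]; exact Subgroup.mul_mem _ hdm hfm
        have hsurj : Function.Surjective π := by
          rw [hπ]; exact QuotientGroup.mk'_surjective _
        have hQbot : (Cfsg.pCore 2 H).map π = ⊥ := by
          rw [hπ]; exact QuotientGroup.map_mk'_self _
        have htop : (Subgroup.closure ({d, e, f} : Set H)).map π = ⊤ := by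
          rw [eq_top_iff, ← Subgroup.map_top_of_surjective π hsurj, ← c.sup, Subgroup.map_sup,
            hQbot, sup_bot_eq]
          exact Subgroup.map_mono hK
        rw [← htop, MonoidHom.map_closure, Set.image_insert_eq, Set.image_insert_eq,
          Set.image_singleton]
    obtain ⟨_, hle⟩ := Pres.card_le hg
    have hb3 : 3 ≤ b := by
      by_contra hlt
      have hcomm := comm_of_pow_le hP (by omega)
      have := hcomm ⟨a, ha.1⟩ ⟨t, ht.1⟩
      exact hat (congrArg Subtype.val this)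
    have hb3' : b ≤ 3 := by
      by_contra hgt
      have : 3 ^ 4 ≤ 3 ^ b := Nat.pow_le_pow_right (by norm_num) (by omega)
      rw [hb] at hle
      omega
    have hb_eq : b = 3 := by omega
    have h54 : Nat.card (H ⧸ Cfsg.pCore 2 H) = 54 := by rw [hb, hb_eq]; norm_num
    exact exists_field_iso hg h54

end Ctx

end Cfsg.Agent.Helper1.TTS.Asm
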