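import Mathlib
import Cfsg.Agent.Helper1.Coprime
import Cfsg.Agent.Helper1.PaQ
import Cfsg.Agent.Helper4.SubnormalPRad

set_option autoImplicit false

/-!
The elementary heart of the Thompson–Wielandt theorem (Wielandt's lemma): for two distinct
"self-normalizing-for-normal-subgroups" subgroups `A`, `B` with `O_p(A) ≠ 1`, the second core
`T = core_A (core_A (A ⊓ B) ⊓ core_B (A ⊓ B))` is a `p`-group.
-/

namespace Cfsg.Agent.Helper1.TW

universe u

variable {G : Type u} [Group G]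

/-- The core of `H` in `M`, as a subgroup of the ambient group. -/
def coreIn (M H : Subgroup G) : Subgroup G := ((H.subgroupOf M).normalCore).map M.subtype

theorem mem_coreIn {M H : Subgroup G} {x : G} :
    x ∈ coreIn M H ↔ x ∈ M ∧ ∀ m ∈ M, m * x * m⁻¹ ∈ H := by
  unfold coreIn
  constructor
  · rintro ⟨y, hy, rfl⟩
    refine ⟨y.2, fun m hm => ?_⟩
    have h1 : (⟨m, hm⟩ : ↥M) * y * (⟨m, hm⟩ : ↥M)⁻¹ ∈ H.subgroupOf M := hy ⟨m, hm⟩
    rw [Subgroup.mem_subgroupOf] at h1
    simpa using h1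
  · rintro ⟨hxM, hx⟩
    refine ⟨⟨x, hxM⟩, ?_, rfl⟩
    intro b
    show b * ⟨x, hxM⟩ * b⁻¹ ∈ H.subgroupOf M
    rw [Subgroup.mem_subgroupOf]
    simpa using hx b b.2

theorem coreIn_le_left (M H : Subgroup G) : coreIn M H ≤ M := fun _ hx => (mem_coreIn.1 hx).1

theorem coreIn_le_right (M H : Subgroup G) : coreIn M H ≤ H := by
  intro x hx
  have := (mem_coreIn.1 hx).2 1 M.one_mem
  simpa using this

theorem le_normalizer_coreIn (M H : Subgroup G) :
    M ≤ Subgroup.normalizer (coreIn M H : Set G) := by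
  intro m hm
  rw [Subgroup.mem_normalizer_iff]
  intro x
  constructor
  · intro hx
    obtain ⟨hxM, hx'⟩ := mem_coreIn.1 hx
    refine mem_coreIn.2 ⟨M.mul_mem (M.mul_mem hm hxM) (M.inv_mem hm), fun n hn => ?_⟩
    have := hx' (n * m) (M.mul_mem hn hm)
    have e : n * m * x * (n * m)⁻¹ = n * (m * x * m⁻¹) * n⁻¹ := by group
    rwa [e] at this
  · intro hx
    obtain ⟨hxM, hx'⟩ := mem_coreIn.1 hx
    have hxM' : x ∈ M := by
      have : x = m⁻¹ * (m * x * m⁻¹) * m := by group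
      rw [this]
      exact M.mul_mem (M.mul_mem (M.inv_mem hm) hxM) hm
    refine mem_coreIn.2 ⟨hxM', fun n hn => ?_⟩
    have := hx' (n * m⁻¹) (M.mul_mem hn (M.inv_mem hm))
    have e : n * m⁻¹ * (m * x * m⁻¹) * (n * m⁻¹)⁻¹ = n * x * n⁻¹ := by group
    rwa [e] at this

theorem conj_mem_coreIn {M H : Subgroup G} {m x : G} (hm : m ∈ M) (hx : x ∈ coreIn M H) :
    m * x * m⁻¹ ∈ coreIn M H :=
  (Subgroup.mem_normalizer_iff.1 (le_normalizer_coreIn M H hm) x).1 hx

theorem le_coreIn {M H N : Subgroup G} (hNM : N ≤ M) (hNH : N ≤ H)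
    (hn : M ≤ Subgroup.normalizer (N : Set G)) : N ≤ coreIn M H := by
  intro x hx
  refine mem_coreIn.2 ⟨hNM hx, fun m hm => hNH ?_⟩
  exact (Subgroup.mem_normalizer_iff.1 (hn hm) x).1 hx

theorem coreIn_mono_right {M H H' : Subgroup G} (h : H ≤ H') : coreIn M H ≤ coreIn M H' := by
  intro x hx
  obtain ⟨h1, h2⟩ := mem_coreIn.1 hx
  exact mem_coreIn.2 ⟨h1, fun m hm => h (h2 m hm)⟩

/-- The subgroup generated by the `p'`-elements of `H`. -/
def pRes (p : ℕ) (H : Subgroup G) : Subgroup G :=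
  Subgroup.closure {x | x ∈ H ∧ (orderOf x).Coprime p}

theorem pRes_le (p : ℕ) (H : Subgroup G) : pRes p H ≤ H := by
  unfold pRes
  rw [Subgroup.closure_le]
  exact fun x hx => hx.1

theorem orderOf_conj' (g x : G) : orderOf (g * x * g⁻¹) = orderOf x :=
  (MulAut.conj g).orderOf_eq x

theorem normalizer_le_normalizer_pRes (p : ℕ) (H : Subgroup G) :
    Subgroup.normalizer (H : Set G) ≤ Subgroup.normalizer (pRes p H : Set G) := by
  have key : ∀ g ∈ Subgroup.normalizer (H : Set G), ∀ y ∈ pRes p H, g * y * g⁻¹ ∈ pRes p H := by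
    intro g hg y hy
    unfold pRes at hy ⊢
    induction hy using Subgroup.closure_induction with
    | mem u hu =>
      apply Subgroup.subset_closure
      refine ⟨(Subgroup.mem_normalizer_iff.1 hg u).1 hu.1, ?_⟩
      rw [orderOf_conj']
      exact hu.2
    | one => simp
    | mul a b _ _ ha hb =>
      have e : g * (a * b) * g⁻¹ = (g * a * g⁻¹) * (g * b * g⁻¹) := by group
      rw [e]
      exact Subgroup.mul_mem _ ha hb
    | inv a _ ha =>
      have e : g * a⁻¹ * g⁻¹ = (g * a * g⁻¹)⁻¹ := by group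
      rw [e]
      exact Subgroup.inv_mem _ ha
  intro g hg
  rw [Subgroup.mem_normalizer_iff]
  intro y
  constructor
  · exact key g hg y
  · intro hy
    have := key g⁻¹ (Subgroup.inv_mem _ hg) _ hy
    have e : g⁻¹ * (g * y * g⁻¹) * g⁻¹⁻¹ = y := by group
    rwa [e] at this

theorem isPGroup_of_pRes_eq_bot [Finite G] {p : ℕ} [hp : Fact p.Prime] {H : Subgroup G}
    (h : pRes p H = ⊥) : IsPGroup p H := by
  intro x
  obtain ⟨e, n', hn', hn⟩ := Nat.exists_eq_pow_mul_and_not_dvd (orderOf_pos (x : G)).ne' p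
    hp.out.ne_one
  refine ⟨e, ?_⟩
  have h1 : ((x : G) ^ p ^ e) ∈ pRes p H := by
    apply Subgroup.subset_closure
    refine ⟨H.pow_mem x.2 _, ?_⟩
    have hpe : p ^ e ≠ 0 := pow_ne_zero _ hp.out.ne_zero
    rw [orderOf_pow' _ hpe, hn]
    have hg : (p ^ e * n').gcd (p ^ e) = p ^ e := Nat.gcd_eq_right (Dvd.intro _ rfl)
    rw [hg, Nat.mul_div_cancel_left _ (pow_pos hp.out.pos e)]
    exact (Nat.Coprime.symm ((Nat.Prime.coprime_iff_not_dvd hp.out).2 hn'))
  rw [h, Subgroup.mem_bot] at h1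
  apply Subtype.ext
  rw [Subgroup.coe_pow, Subgroup.coe_one]
  exact h1

/-- The key computation: if `c` normalizes `T` and `u ∈ T` then `(u c)^n ∈ T c^n`. -/
theorem mul_pow_mem_of_normalizer {T : Subgroup G} {u c : G} (hu : u ∈ T)
    (hc : c ∈ Subgroup.normalizer (T : Set G)) (n : ℕ) : (u * c) ^ n * (c ^ n)⁻¹ ∈ T := by
  induction n with
  | zero => simp
  | succ n ih =>
    have hcn : c ^ n ∈ Subgroup.normalizer (T : Set G) := Subgroup.pow_mem _ hc n
    have h2 : c ^ n * u * (c ^ n)⁻¹ ∈ T := (Subgroup.mem_normalizer_iff.1 hcn u).1 hu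
    have e : (u * c) ^ (n + 1) * (c ^ (n + 1))⁻¹ =
        ((u * c) ^ n * (c ^ n)⁻¹) * (c ^ n * u * (c ^ n)⁻¹) := by
      rw [pow_succ, pow_succ]
      group
    rw [e]
    exact T.mul_mem ih h2

/-- Key lemma: if conjugation by `h` moves the elements of `T` only by elements of a `p`-group
normalizing `T`, then conjugation by `h` maps `O^p(T)` into itself. -/
theorem conj_mem_pRes {p : ℕ} [Fact p.Prime] {T L Q : Subgroup G}
    (hLT : L ≤ Subgroup.normalizer (T : Set G)) (hQ : IsPGroup p Q) (h : G)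
    (hyp : ∀ u ∈ T, u⁻¹ * h⁻¹ * u * h ∈ Q ⊓ L) :
    ∀ y ∈ pRes p T, h⁻¹ * y * h ∈ pRes p T := by
  intro y hy
  unfold pRes at hy ⊢
  induction hy using Subgroup.closure_induction with
  | mem u hu =>
    obtain ⟨huT, hcop⟩ := hu
    set c := u⁻¹ * h⁻¹ * u * h with hc
    have hcQL := hyp u huT
    have hv : h⁻¹ * u * h = u * c := by rw [hc]; group
    obtain ⟨k, hk⟩ := hQ ⟨c, hcQL.1⟩
    have hck : c ^ p ^ k = 1 := by
      have := congrArg Subtype.val hk
      simpa using this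
    have hpow := mul_pow_mem_of_normalizer huT (hLT hcQL.2) (p ^ k)
    rw [hck, inv_one, mul_one, ← hv] at hpow
    have hord : orderOf (h⁻¹ * u * h) = orderOf u := by
      have := orderOf_conj' h⁻¹ u
      rwa [inv_inv] at this
    have hcop' : (p ^ k).Coprime (orderOf (h⁻¹ * u * h)) := by
      rw [hord]
      exact (Nat.Coprime.pow_right k hcop).symm
    obtain ⟨m, hm⟩ := exists_pow_eq_self_of_coprime hcop'
    have hmem : h⁻¹ * u * h ∈ T := by
      rw [← hm]
      exact T.pow_mem hpow m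
    apply Subgroup.subset_closure
    exact ⟨hmem, by rw [hord]; exact hcop⟩
  | one => simp
  | mul a b _ _ ha hb =>
    have e : h⁻¹ * (a * b) * h = (h⁻¹ * a * h) * (h⁻¹ * b * h) := by group
    rw [e]
    exact Subgroup.mul_mem _ ha hb
  | inv a _ ha =>
    have e : h⁻¹ * a⁻¹ * h = (h⁻¹ * a * h)⁻¹ := by group
    rw [e]
    exact Subgroup.inv_mem _ ha

/-- Normalizer version of the key lemma. -/
theorem mem_normalizer_pRes [Finite G] {p : ℕ} [hp : Fact p.Prime] {T L Q : Subgroup G}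
    (hLT : L ≤ Subgroup.normalizer (T : Set G)) (hQ : IsPGroup p Q) (h : G)
    (hyp : ∀ u ∈ T, u⁻¹ * h * u * h⁻¹ ∈ Q ⊓ L) :
    h ∈ Subgroup.normalizer (pRes p T : Set G) := by
  apply Cfsg.Agent.Helper4.SubnormalPRad.mem_normalizer_of_conj_mem'
  intro y hy
  have := conj_mem_pRes hLT hQ h⁻¹ (by simpa using hyp) y hy
  simpa using this

end Cfsg.Agent.Helper1.TW
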