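import Mathlib
import Cfsg.Agent.Helper1.TWa

set_option autoImplicit false

/-!
Wielandt's lemma, abstract form.
-/

namespace Cfsg.Agent.Helper1.TW

universe u

variable {G : Type u} [Group G]

theorem conj_mem_of_le_normalizer {B Q : Subgroup G} (h : B ≤ Subgroup.normalizer (Q : Set G))
    {b x : G} (hb : b ∈ B) (hx : x ∈ Q) : b * x * b⁻¹ ∈ Q :=
  (Subgroup.mem_normalizer_iff.1 (h hb) x).1 hx

theorem conj_mem_of_le_normalizer' {B Q : Subgroup G} (h : B ≤ Subgroup.normalizer (Q : Set G))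
    {b x : G} (hb : b ∈ B) (hx : x ∈ Q) : b⁻¹ * x * b ∈ Q := by
  have := conj_mem_of_le_normalizer h (B.inv_mem hb) hx
  simpa using this

/-- **Wielandt's lemma** (abstract form). -/
theorem isPGroup_coreIn_coreIn [Finite G] {p : ℕ} [Fact p.Prime] (A B : Subgroup G) (hAB : A ≠ B)
    (hNA : ∀ H : Subgroup G, H ≠ ⊥ → H ≤ A → A ≤ Subgroup.normalizer (H : Set G) →
      Subgroup.normalizer (H : Set G) ≤ A)
    (hNB : ∀ H : Subgroup G, H ≠ ⊥ → H ≤ B → B ≤ Subgroup.normalizer (H : Set G) →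
      Subgroup.normalizer (H : Set G) ≤ B)
    (QA QB : Subgroup G) (hQA : QA ≤ A) (hQB : QB ≤ B) (hpA : IsPGroup p QA)
    (hpB : IsPGroup p QB)
    (hnA : A ≤ Subgroup.normalizer (QA : Set G)) (hnB : B ≤ Subgroup.normalizer (QB : Set G))
    (hQAne : QA ≠ ⊥) (hcard : Nat.card QA = Nat.card QB)
    (hmax : ∀ R : Subgroup G, R ≤ coreIn B (A ⊓ B) → IsPGroup p R →
      coreIn B (A ⊓ B) ≤ Subgroup.normalizer (R : Set G) → R ≤ QB) :
    IsPGroup p (coreIn A (coreIn A (A ⊓ B) ⊓ coreIn B (A ⊓ B))) := by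
  set D := A ⊓ B with hD
  set K := coreIn A D with hK
  set L := coreIn B D with hL
  set T := coreIn A (K ⊓ L) with hT
  set Y := pRes p T with hY
  by_contra hnp
  have hYne : Y ≠ ⊥ := fun h => hnp (isPGroup_of_pRes_eq_bot h)
  have hTA : T ≤ A := coreIn_le_left _ _
  have hTL : T ≤ L := (coreIn_le_right _ _).trans inf_le_right
  have hLD : L ≤ D := coreIn_le_right _ _
  have hLA : L ≤ A := hLD.trans inf_le_left
  have hLB : L ≤ B := coreIn_le_left _ _
  have hAT : A ≤ Subgroup.normalizer (T : Set G) := le_normalizer_coreIn _ _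
  have hLT : L ≤ Subgroup.normalizer (T : Set G) := hLA.trans hAT
  have hAY : A ≤ Subgroup.normalizer (Y : Set G) := hAT.trans (normalizer_le_normalizer_pRes p T)
  have hYA : Y ≤ A := (pRes_le p T).trans hTA
  have hNY : Subgroup.normalizer (Y : Set G) ≤ A := hNA Y hYne hYA hAY
  have hBL : B ≤ Subgroup.normalizer (L : Set G) := le_normalizer_coreIn _ _
  -- Step 1: `QB ≤ A`
  have hQBA : QB ≤ A := by
    intro h hh
    apply hNY
    apply mem_normalizer_pRes hLT hpB h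
    intro u hu
    have huB : u ∈ B := hLB (hTL hu)
    refine ⟨?_, ?_⟩
    · have h1 : u⁻¹ * h * u ∈ QB := by
        have := conj_mem_of_le_normalizer' hnB huB hh
        exact this
      exact QB.mul_mem h1 (QB.inv_mem hh)
    · have h1 : h * u * h⁻¹ ∈ L := conj_mem_of_le_normalizer hBL (hQB hh) (hTL hu)
      have e : u⁻¹ * h * u * h⁻¹ = u⁻¹ * (h * u * h⁻¹) := by group
      rw [e]
      exact L.mul_mem (L.inv_mem (hTL hu)) h1
  have hQBD : QB ≤ D := le_inf hQBA hQB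
  -- `QA ⊓ L ≤ QB`
  have hQAL : QA ⊓ L ≤ QB := by
    apply hmax (QA ⊓ L) inf_le_right (hpA.to_le inf_le_left)
    intro l hl
    rw [Subgroup.mem_normalizer_iff]
    intro x
    have hlnA := Subgroup.mem_normalizer_iff.1 (hnA (hLA hl)) x
    have hlnL := Subgroup.mem_normalizer_iff.1 (Subgroup.le_normalizer (H := L) hl) x
    constructor
    · rintro ⟨h1, h2⟩
      exact ⟨hlnA.1 h1, hlnL.1 h2⟩
    · rintro ⟨h1, h2⟩
      exact ⟨hlnA.2 h1, hlnL.2 h2⟩
  -- Step 2/3: `QA ⊓ D ≤ QB`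
  have hQAD : QA ⊓ D ≤ QB := by
    rintro z ⟨hzQ, hzD⟩
    have hzB : z ∈ B := hzD.2
    have hzL : z ∈ L := by
      rw [hL, mem_coreIn]
      refine ⟨hzB, fun β hβ => ?_⟩
      refine ⟨?_, B.mul_mem (B.mul_mem hβ hzB) (B.inv_mem hβ)⟩
      apply hNY
      apply mem_normalizer_pRes hLT hpB (β * z * β⁻¹)
      intro u hu
      set l := β⁻¹ * u * β with hl
      have hlL : l ∈ L := conj_mem_of_le_normalizer' hBL hβ (hTL hu)
      set w := l⁻¹ * z * l * z⁻¹ with hw
      have hwQA : w ∈ QA := by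
        have h1 : l⁻¹ * z * l ∈ QA := conj_mem_of_le_normalizer' hnA (hLA hlL) hzQ
        exact QA.mul_mem h1 (QA.inv_mem hzQ)
      have hwL : w ∈ L := by
        have h1 : z * l * z⁻¹ ∈ L := conj_mem_of_le_normalizer hBL hzB hlL
        have e : w = l⁻¹ * (z * l * z⁻¹) := by rw [hw]; group
        rw [e]
        exact L.mul_mem (L.inv_mem hlL) h1
      have hwQB : w ∈ QB := hQAL ⟨hwQA, hwL⟩
      have e : u⁻¹ * (β * z * β⁻¹) * u * (β * z * β⁻¹)⁻¹ = β * w * β⁻¹ := by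
        rw [hw, hl]; group
      rw [e]
      exact ⟨conj_mem_of_le_normalizer hnB hβ hwQB, conj_mem_of_le_normalizer hBL hβ hwL⟩
    exact hQAL ⟨hzQ, hzL⟩
  -- Step 4
  have hQBne : QB ≠ ⊥ := by
    intro h
    apply hQAne
    rw [h] at hcard
    have h1 : Nat.card (⊥ : Subgroup G) = 1 := Subgroup.card_bot
    rw [h1] at hcard
    exact Subgroup.card_eq_one.1 hcard
  have hQBnQA : QB ≤ Subgroup.normalizer (QA : Set G) := hQBA.trans hnA
  set P := QA ⊔ QB with hP
  have hPp : IsPGroup p P := IsPGroup.to_sup_of_normal_left' hpA hpB hQBnQA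
  have hPA : P ≤ A := sup_le hQA hQBA
  have hlt : QB < P := by
    refine lt_of_le_of_ne le_sup_right ?_
    intro heq
    have hle : QA ≤ QB := by rw [heq]; exact le_sup_left
    have hEq : QA = QB := Subgroup.eq_of_le_of_card_ge hle (le_of_eq hcard.symm)
    have h1 : Subgroup.normalizer (QA : Set G) ≤ A := hNA QA hQAne hQA hnA
    have h2 : Subgroup.normalizer (QB : Set G) ≤ B := hNB QB hQBne hQB hnB
    apply hAB
    apply le_antisymm
    · rw [hEq] at hnA; exact hnA.trans h2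
    · rw [← hEq] at hnB; exact hnB.trans h1
  obtain ⟨n, hnP, hnN, hnQB⟩ := Cfsg.Agent.Helper1.exists_mem_normalizer_not_mem hPp hlt
  have hnB' : n ∈ B := hNB QB hQBne hQB hnB hnN
  have hnA' : n ∈ A := hPA hnP
  obtain ⟨x, hx, y, hy, hxy⟩ := Cfsg.Agent.Helper1.mem_sup_of_le_normalizer hQBnQA hnP
  have hxD : x ∈ D := by
    have e : x = n * y⁻¹ := by rw [hxy]; group
    rw [e]
    exact D.mul_mem ⟨hnA', hnB'⟩ (D.inv_mem (hQBD hy))
  apply hnQB
  rw [hxy]
  exact QB.mul_mem (hQAD ⟨hx, hxD⟩) hy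

end Cfsg.Agent.Helper1.TW
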