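import Mathlib
import Cfsg.Agent.Helper1.TWb
import Cfsg.Agent.Helper1.Schmidt
import Cfsg.Agent.Helper4.PCore

set_option autoImplicit false

/-!
Wielandt's lemma for two conjugate core-free maximal subgroups.
-/

namespace Cfsg.Agent.Helper1.TW

universe u

variable {G : Type u} [Group G]

/-- In a core-free maximal subgroup `A`, every nontrivial subgroup normalized by `A` has normalizer
`A`. -/
theorem normalizer_le_of_isCoatom {A : Subgroup G} (hA : IsCoatom A) (hcore : A.normalCore = ⊥)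
    (H : Subgroup G) (hH : H ≠ ⊥) (hHA : H ≤ A) (hn : A ≤ Subgroup.normalizer (H : Set G)) :
    Subgroup.normalizer (H : Set G) ≤ A := by
  rcases (hA.le_iff.1 hn) with h | h
  · exfalso
    have hN : H.Normal := Subgroup.normalizer_eq_top_iff.1 h
    have : H ≤ A.normalCore := Subgroup.normal_le_normalCore.2 hHA
    rw [hcore, le_bot_iff] at this
    exact hH this
  · exact le_of_eq h

theorem isCoatom_map_conj {A : Subgroup G} (hA : IsCoatom A) (g : G) :
    IsCoatom (A.map (MulAut.conj g).toMonoidHom) := by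
  have := Cfsg.Agent.Helper1.isCoatom_conj_smul hA g
  rwa [Subgroup.pointwise_smul_def] at this

theorem normalCore_map_conj {A : Subgroup G} (hcore : A.normalCore = ⊥) (g : G) :
    (A.map (MulAut.conj g).toMonoidHom).normalCore = ⊥ := by
  rw [eq_bot_iff, ← hcore]
  intro x hx c
  have h1 := hx (g * c)
  obtain ⟨a, ha, hax⟩ := h1
  have h2 : g * a * g⁻¹ = g * c * x * (g * c)⁻¹ := by simpa using hax
  have h3 : a = c * x * c⁻¹ := by
    have : a = g⁻¹ * (g * a * g⁻¹) * g := by group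
    rw [this, h2]; group
  rw [← h3]
  exact ha

theorem map_conj_inv {A B : Subgroup G} (g : G) (hB : B = A.map (MulAut.conj g).toMonoidHom) :
    A = B.map (MulAut.conj g⁻¹).toMonoidHom := by
  rw [hB, Subgroup.map_map]
  have : (MulAut.conj g⁻¹).toMonoidHom.comp (MulAut.conj g).toMonoidHom = MonoidHom.id G := by
    ext x
    simp only [MonoidHom.coe_comp, MulEquiv.coe_toMonoidHom, Function.comp_apply,
      MulAut.conj_apply, MonoidHom.id_apply]
    group
  rw [this, Subgroup.map_id]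

/-- `O_p(A)` as a subgroup of the ambient group. -/
def opIn (p : ℕ) (A : Subgroup G) : Subgroup G := (Cfsg.pCore p ↥A).map A.subtype

theorem opIn_le (p : ℕ) (A : Subgroup G) : opIn p A ≤ A := Subgroup.map_subtype_le _

theorem opIn_isPGroup (p : ℕ) [Fact p.Prime] (A : Subgroup G) : IsPGroup p (opIn p A) :=
  (Cfsg.Agent.Helper4.pCore_isPGroup).map _

theorem le_normalizer_opIn (p : ℕ) (A : Subgroup G) :
    A ≤ Subgroup.normalizer (opIn p A : Set G) := by
  intro a ha
  rw [Subgroup.mem_normalizer_iff]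
  have hN : (Cfsg.pCore p ↥A).Normal := Cfsg.Agent.Helper4.pCore_normal
  intro x
  constructor
  · rintro ⟨y, hy, rfl⟩
    exact ⟨⟨a, ha⟩ * y * ⟨a, ha⟩⁻¹, hN.conj_mem y hy ⟨a, ha⟩, rfl⟩
  · rintro ⟨y, hy, hyx⟩
    refine ⟨⟨a, ha⟩⁻¹ * y * ⟨a, ha⟩, ?_, ?_⟩
    · have := hN.conj_mem y hy ⟨a, ha⟩⁻¹
      simpa using this
    · have h1 : (y : G) = a * x * a⁻¹ := hyx
      simp only [Subgroup.subtype_apply, Subgroup.coe_mul, Subgroup.coe_inv, h1]
      group

theorem opIn_eq_bot_iff (p : ℕ) (A : Subgroup G) : opIn p A = ⊥ ↔ Cfsg.pCore p ↥A = ⊥ :=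
  Subgroup.map_eq_bot_iff_of_injective _ A.subtype_injective

theorem card_opIn (p : ℕ) (A : Subgroup G) : Nat.card (opIn p A) = Nat.card (Cfsg.pCore p ↥A) :=
  Subgroup.card_subtype _ _

theorem pCore_map_le' {p : ℕ} {X : Type*} {Y : Type*} [Group X] [Group Y] (e : X ≃* Y) :
    (Cfsg.pCore p X).map e.toMonoidHom ≤ Cfsg.pCore p Y := by
  unfold Cfsg.pCore
  rw [Subgroup.map_le_iff_le_comap]
  apply sSup_le
  intro N hN
  rw [← Subgroup.map_le_iff_le_comap]
  apply le_sSup
  exact ⟨hN.1.map e.toMonoidHom e.surjective, hN.2.map _⟩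

theorem pCore_map_mulEquiv' {p : ℕ} {X : Type*} {Y : Type*} [Group X] [Group Y] (e : X ≃* Y) :
    (Cfsg.pCore p X).map e.toMonoidHom = Cfsg.pCore p Y := by
  apply le_antisymm (pCore_map_le' e)
  intro y hy
  have h1 := pCore_map_le' e.symm (Subgroup.mem_map_of_mem e.symm.toMonoidHom hy)
  exact ⟨e.symm y, h1, e.apply_symm_apply y⟩

theorem card_pCore_congr {p : ℕ} {X : Type*} {Y : Type*} [Group X] [Group Y] (e : X ≃* Y) :
    Nat.card (Cfsg.pCore p X) = Nat.card (Cfsg.pCore p Y) := by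
  rw [← pCore_map_mulEquiv' e]
  exact (Subgroup.card_map_of_injective e.injective).symm

theorem pCore_eq_bot_congr {p : ℕ} {X : Type*} {Y : Type*} [Group X] [Group Y] (e : X ≃* Y)
    (h : Cfsg.pCore p X = ⊥) : Cfsg.pCore p Y = ⊥ := by
  rw [← pCore_map_mulEquiv' e, h, Subgroup.map_bot]

/-- the isomorphism between `A` and its conjugate -/
noncomputable def conjEquiv (A : Subgroup G) (g : G) :
    ↥A ≃* ↥(A.map (MulAut.conj g).toMonoidHom) :=
  A.equivMapOfInjective _ (MulAut.conj g).injective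

/-- A subnormal-of-defect-two `p`-subgroup lies in `O_p`. -/
theorem le_opIn_of_normal_normal (p : ℕ) [Fact p.Prime] {B L R : Subgroup G} (hLB : L ≤ B)
    (hBL : B ≤ Subgroup.normalizer (L : Set G)) (hRL : R ≤ L)
    (hLR : L ≤ Subgroup.normalizer (R : Set G)) (hR : IsPGroup p R) : R ≤ opIn p B := by
  have hLn : (L.subgroupOf B).Normal := (Subgroup.normal_subgroupOf_iff_le_normalizer hLB).2 hBL
  have hle : R.subgroupOf B ≤ L.subgroupOf B := by
    intro x hx
    rw [Subgroup.mem_subgroupOf] at hx ⊢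
    exact hRL hx
  have hnorm : L.subgroupOf B ≤ Subgroup.normalizer ((R.subgroupOf B : Subgroup ↥B) : Set ↥B) := by
    intro l hl
    rw [Subgroup.mem_subgroupOf] at hl
    rw [Subgroup.mem_normalizer_iff]
    intro x
    have := Subgroup.mem_normalizer_iff.1 (hLR hl) (x : G)
    rw [Subgroup.mem_subgroupOf, Subgroup.mem_subgroupOf]
    simpa using this
  have hsub : (R.subgroupOf B).IsSubnormal :=
    Subgroup.IsSubnormal.step _ _ hle hLn.isSubnormal
      ((Subgroup.normal_subgroupOf_iff_le_normalizer hle).2 hnorm)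
  have hp : IsPGroup p (R.subgroupOf B) := by
    intro x
    obtain ⟨k, hk⟩ := hR ⟨(x : G), Subgroup.mem_subgroupOf.1 x.2⟩
    refine ⟨k, ?_⟩
    have h1 := congrArg Subtype.val hk
    apply Subtype.ext
    apply Subtype.ext
    simpa using h1
  have h2 := Cfsg.Agent.Helper4.SubnormalPRad.le_pCore_of_isSubnormal p hsub hp
  intro x hx
  have hxB : x ∈ B := hLB (hRL hx)
  exact ⟨⟨x, hxB⟩, h2 (Subgroup.mem_subgroupOf.2 hx), rfl⟩

/-- **Wielandt's lemma**: for two distinct conjugate core-free maximal subgroups `A`, `B` and a prime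
`p` with `O_p(A) ≠ 1`, the second core `T` is a `p`-group. -/
theorem isPGroup_T [Finite G] {p : ℕ} [Fact p.Prime] {A B : Subgroup G} (hA : IsCoatom A)
    (hcore : A.normalCore = ⊥) (g : G) (hB : B = A.map (MulAut.conj g).toMonoidHom) (hne : A ≠ B)
    (hp : Cfsg.pCore p ↥A ≠ ⊥) :
    IsPGroup p (coreIn A (coreIn A (A ⊓ B) ⊓ coreIn B (A ⊓ B))) := by
  have hBc : IsCoatom B := by rw [hB]; exact isCoatom_map_conj hA g
  have hBcore : B.normalCore = ⊥ := by rw [hB]; exact normalCore_map_conj hcore g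
  have hcard : Nat.card (opIn p A) = Nat.card (opIn p B) := by
    rw [card_opIn, card_opIn]
    subst hB
    exact card_pCore_congr (conjEquiv A g)
  apply isPGroup_coreIn_coreIn A B hne (normalizer_le_of_isCoatom hA hcore)
    (normalizer_le_of_isCoatom hBc hBcore) (opIn p A) (opIn p B) (opIn_le p A) (opIn_le p B)
    (opIn_isPGroup p A) (opIn_isPGroup p B) (le_normalizer_opIn p A) (le_normalizer_opIn p B)
    (fun h => hp ((opIn_eq_bot_iff p A).1 h)) hcard
  intro R hRL hRp hLR
  exact le_opIn_of_normal_normal p (coreIn_le_left _ _) (le_normalizer_coreIn _ _) hRL hLR hRp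

end Cfsg.Agent.Helper1.TW
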