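import Mathlib
import Cfsg.Agent.Helper1.TWc
import Cfsg.Agent.Helper1.Fitting
import Cfsg.Agent.Helper2.Component
import Cfsg.Agent.Helper2.Layer4
import Cfsg.Agent.Helper2.Layer3
import Cfsg.Agent.Helper5.AxB
import Cfsg.Agent.Helper2.BenderA
import Cfsg.Agent.Helper4.FittingChar

set_option autoImplicit false

/-!
Thompson–Wielandt: layers.
-/

namespace Cfsg.Agent.Helper1.TW

open Cfsg.Agent.Helper2

open scoped commutatorElement

universe u

variable {G : Type u} [Group G]

theorem fitting_eq_bot_of_pCore [Finite G] (h : ∀ q : ℕ, q.Prime → Cfsg.pCore q G = ⊥) :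
    Cfsg.fittingSubgroup G = ⊥ := by
  rw [Cfsg.Agent.Helper1.fittingSubgroup_eq_fitJoin, eq_bot_iff]
  unfold Cfsg.Agent.Helper1.fitJoin
  apply iSup_le
  intro q
  rw [h q q.2]

theorem fitting_eq_pCore_of_pCore [Finite G] {p : ℕ} (hp : p.Prime)
    (h : ∀ q : ℕ, q.Prime → q ≠ p → Cfsg.pCore q G = ⊥) :
    Cfsg.fittingSubgroup G = Cfsg.pCore p G := by
  rw [Cfsg.Agent.Helper1.fittingSubgroup_eq_fitJoin]
  unfold Cfsg.Agent.Helper1.fitJoin
  apply le_antisymm
  · apply iSup_le
    intro q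
    by_cases hq : (q : ℕ) = p
    · rw [hq]
    · rw [h q q.2 hq]; exact bot_le
  · exact le_iSup (fun q : Nat.Primes => Cfsg.pCore (q : ℕ) G) ⟨p, hp⟩

/-- A perfect finite group has no proper normal subgroup containing all `p'`-elements. -/
theorem eq_top_of_perfect_of_pprime_mem {X : Type*} [Group X] [Finite X] {p : ℕ}
    [hp : Fact p.Prime] [hperf : Group.IsPerfect X] (N : Subgroup X) [N.Normal]
    (h : ∀ x : X, (orderOf x).Coprime p → x ∈ N) : N = ⊤ := by
  have hpg : IsPGroup p (X ⧸ N) := by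
    intro y
    obtain ⟨x, rfl⟩ := QuotientGroup.mk_surjective y
    obtain ⟨e, n', hn', hn⟩ := Nat.exists_eq_pow_mul_and_not_dvd (orderOf_pos x).ne' p
      hp.out.ne_one
    refine ⟨e, ?_⟩
    rw [← QuotientGroup.mk_pow, QuotientGroup.eq_one_iff]
    apply h
    have hpe : p ^ e ≠ 0 := pow_ne_zero _ hp.out.ne_zero
    rw [orderOf_pow' _ hpe, hn]
    have hg : (p ^ e * n').gcd (p ^ e) = p ^ e := Nat.gcd_eq_right (Dvd.intro _ rfl)
    rw [hg, Nat.mul_div_cancel_left _ (pow_pos hp.out.pos e)]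
    exact (Nat.Coprime.symm ((Nat.Prime.coprime_iff_not_dvd hp.out).2 hn'))
  haveI hnil : Group.IsNilpotent (X ⧸ N) := hpg.isNilpotent
  haveI hsol : Group.IsSolvable (X ⧸ N) := IsNilpotent.to_isSolvable
  haveI hperf' : Group.IsPerfect (X ⧸ N) :=
    Group.IsPerfect.ofSurjective (f := QuotientGroup.mk' N) (QuotientGroup.mk'_surjective N)
  obtain ⟨n, hn⟩ := (Group.isSolvable_def (X ⧸ N)).1 hsol
  have hall : ∀ k, derivedSeries (X ⧸ N) k = ⊤ := by
    intro k
    induction k with
    | zero => rfl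
    | succ k ih =>
      rw [derivedSeries_succ, ih]
      exact hperf'.commutator_eq_top
  rw [hall n] at hn
  rw [eq_top_iff]
  intro x _
  rw [← QuotientGroup.eq_one_iff (N := N) x]
  have : ((x : X ⧸ N)) ∈ (⊤ : Subgroup (X ⧸ N)) := Subgroup.mem_top _
  rw [hn, Subgroup.mem_bot] at this
  exact this

/-- If `T ≠ 1` is normal in `A`, contained in a normal subgroup `L ≤ A` of `B`, then `E(B) ≤ A`. -/
theorem map_layer_le_of_normal [Finite G] {A B L T : Subgroup G}
    (hNT : Subgroup.normalizer (T : Set G) ≤ A) (hLB : L ≤ B) (hLA : L ≤ A)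
    (hBL : B ≤ Subgroup.normalizer (L : Set G)) (hTL : T ≤ L) :
    (Cfsg.layer ↥B).map B.subtype ≤ A := by
  unfold Cfsg.layer
  rw [(Subgroup.gc_map_comap B.subtype).l_sSup]
  apply iSup₂_le
  intro C hC
  have hLn : (L.subgroupOf B).Normal := (Subgroup.normal_subgroupOf_iff_le_normalizer hLB).2 hBL
  rcases component_le_or_commutator_eq_bot C (L.subgroupOf B) hC
    (by rw [Subgroup.normalizer_eq_top]; exact le_top) with h | h
  · rintro _ ⟨c, hc, rfl⟩
    exact hLA (Subgroup.mem_subgroupOf.1 (h hc))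
  · rintro _ ⟨c, hc, rfl⟩
    apply hNT
    apply Subgroup.centralizer_le_normalizer
    rw [Subgroup.mem_centralizer_iff]
    intro t ht
    rw [Subgroup.commutator_eq_bot_iff_le_centralizer] at h
    have htL : (⟨t, hLB (hTL ht)⟩ : ↥B) ∈ L.subgroupOf B := Subgroup.mem_subgroupOf.2 (hTL ht)
    have h5 := (Subgroup.mem_centralizer_iff.1 (h hc)) _ htL
    exact congrArg Subtype.val h5

/-- Transfer of components between `M` and `N` when `E(M) ≤ N`, `E(N) ≤ M`, and no component of
`M` centralizes `E(N)` (adapted from `Helper2.Bender.comp_transfer`). -/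
theorem comp_transfer_layer [Finite G] (M N : Subgroup G)
    (h1 : (Cfsg.layer ↥M).map M.subtype ≤ N)
    (h2 : (Cfsg.layer ↥N).map N.subtype ≤ M)
    (K : Subgroup ↥M) (hK : Cfsg.IsComponent K)
    (hno : ¬ (∀ a ∈ K.map M.subtype, ∀ b ∈ (Cfsg.layer ↥N).map N.subtype, a * b = b * a)) :
    ∃ L : Subgroup ↥N, Cfsg.IsComponent L ∧ L.map N.subtype = K.map M.subtype := by
  classical
  set K' := K.map M.subtype with hK'
  have hK'M : K' ≤ M := Subgroup.map_subtype_le _
  have hK'E : K' ≤ (Cfsg.layer ↥M).map M.subtype := Subgroup.map_mono (component_le_layer hK)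
  have hK'N : K' ≤ N := hK'E.trans h1
  set I := M ⊓ N with hI
  have hK'I : K' ≤ I := le_inf hK'M hK'N
  set EN := Cfsg.layer ↥N with hEN
  set X := EN.map N.subtype with hX
  have hXN : X ≤ N := Subgroup.map_subtype_le _
  have hXI : X ≤ I := le_inf h2 hXN
  have eK : ↥K ≃* ↥K' := K.equivMapOfInjective M.subtype M.subtype_injective
  let ιM : ↥I →* ↥M := Subgroup.inclusion inf_le_left
  set KI := K.comap ιM with hKI
  have hKIsub : KI = K'.subgroupOf I := by
    ext x
    rw [hKI, Subgroup.mem_comap, Subgroup.mem_subgroupOf, hK', Subgroup.mem_map]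
    constructor
    · intro h
      exact ⟨ιM x, h, rfl⟩
    · rintro ⟨y, hy, hyx⟩
      have : y = ιM x := Subtype.ext hyx
      rw [← this]; exact hy
  have hKIsn : KI.IsSubnormal := hK.1.comap ιM
  have eKI : ↥KI ≃* ↥K' := by
    rw [hKIsub]
    exact Subgroup.subgroupOfEquivOfLe hK'I
  have hKIcomp : Cfsg.IsComponent KI :=
    ⟨hKIsn, isQuasisimple_of_mulEquiv (eK.trans eKI.symm) hK.2⟩
  set XI := X.subgroupOf I with hXIdef
  haveI hXIn : XI.Normal := by
    rw [hXIdef]
    apply (Subgroup.normal_subgroupOf_iff_le_normalizer hXI).2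
    exact inf_le_right.trans (Cfsg.Agent.Helper2.Bender.le_normalizer_map_subtype N EN)
  rcases component_le_or_commutator_eq_bot KI XI hKIcomp
    (by rw [Subgroup.normalizer_eq_top]; exact le_top) with hle | hbot
  · have hK'X : K' ≤ X := by
      intro x hx
      have h3 : (⟨x, hK'I hx⟩ : ↥I) ∈ KI := by
        rw [hKIsub, Subgroup.mem_subgroupOf]; exact hx
      have h4 := hle h3
      rw [hXIdef, Subgroup.mem_subgroupOf] at h4
      exact h4
    have hφmem : ∀ x : ↥EN, ((x : ↥N) : G) ∈ I := fun x => hXI ⟨(x : ↥N), x.2, rfl⟩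
    let φ : ↥EN →* ↥I :=
      { toFun := fun x => ⟨((x : ↥N) : G), hφmem x⟩
        map_one' := rfl
        map_mul' := fun _ _ => rfl }
    set L₀ := KI.comap φ with hL₀
    have hL₀sn : L₀.IsSubnormal := hKIsn.comap φ
    set L := L₀.map EN.subtype with hL
    have hENn : EN.Normal := inferInstance
    have hLsn : L.IsSubnormal := hL₀sn.trans' hENn.isSubnormal
    have hLmap : L.map N.subtype = K' := by
      ext g
      constructor
      · rintro ⟨_, ⟨x, hx, rfl⟩, rfl⟩
        have h3 : φ x ∈ KI := hx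
        rw [hKIsub, Subgroup.mem_subgroupOf] at h3
        exact h3
      · intro hg
        have hgX : g ∈ X := hK'X hg
        obtain ⟨y, hy, rfl⟩ := hgX
        refine ⟨y, ⟨⟨y, hy⟩, ?_, rfl⟩, rfl⟩
        show φ ⟨y, hy⟩ ∈ KI
        rw [hKIsub, Subgroup.mem_subgroupOf]
        exact hg
    have eL : ↥L ≃* ↥K' :=
      (L.equivMapOfInjective N.subtype N.subtype_injective).trans (MulEquiv.subgroupCongr hLmap)
    exact ⟨L, ⟨hLsn, isQuasisimple_of_mulEquiv (eK.trans eL.symm) hK.2⟩, hLmap⟩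
  · exfalso
    apply hno
    intro a ha b hb
    rw [Subgroup.commutator_eq_bot_iff_le_centralizer] at hbot
    have h3 : (⟨a, hK'I ha⟩ : ↥I) ∈ KI := by
      rw [hKIsub, Subgroup.mem_subgroupOf]; exact ha
    have h4 : (⟨b, hXI hb⟩ : ↥I) ∈ XI := by
      rw [hXIdef, Subgroup.mem_subgroupOf]; exact hb
    have h5 := (Subgroup.mem_centralizer_iff.1 (hbot h3)) _ h4
    exact (congrArg Subtype.val h5).symm

theorem map_layer_le_map_layer [Finite G] (M N : Subgroup G)
    (h1 : (Cfsg.layer ↥M).map M.subtype ≤ N)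
    (h2 : (Cfsg.layer ↥N).map N.subtype ≤ M)
    (hno : ∀ K : Subgroup ↥M, Cfsg.IsComponent K →
      ¬ (∀ a ∈ K.map M.subtype, ∀ b ∈ (Cfsg.layer ↥N).map N.subtype, a * b = b * a)) :
    (Cfsg.layer ↥M).map M.subtype ≤ (Cfsg.layer ↥N).map N.subtype := by
  unfold Cfsg.layer
  rw [(Subgroup.gc_map_comap M.subtype).l_sSup]
  apply iSup₂_le
  intro K hK
  obtain ⟨L, hL, hLK⟩ := comp_transfer_layer M N h1 h2 K hK (hno K hK)
  rw [← hLK]
  exact Subgroup.map_mono (le_sSup hL)

/-- A component of `A` cannot centralize `E(B)` when a nontrivial `p`-subgroup `T ≤ O_p(A) ⊓ O_p(B)`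
has `N_G(T) ≤ A` and `F(B) = O_p(B)`. -/
theorem not_component_centralizes [Finite G] {p : ℕ} [Fact p.Prime] {A B T : Subgroup G}
    (hNT : Subgroup.normalizer (T : Set G) ≤ A)
    (hTA : T ≤ opIn p A) (hTB : T ≤ opIn p B)
    (hFB : Cfsg.fittingSubgroup ↥B = Cfsg.pCore p ↥B)
    (hEB : (Cfsg.layer ↥A).map A.subtype ≤ B)
    (K : Subgroup ↥A) (hK : Cfsg.IsComponent K)
    (hcomm : ∀ a ∈ K.map A.subtype, ∀ b ∈ (Cfsg.layer ↥B).map B.subtype, a * b = b * a) :
    False := by
  classical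
  set K' := K.map A.subtype with hK'
  have hK'A : K' ≤ A := Subgroup.map_subtype_le _
  have hK'B : K' ≤ B := (Subgroup.map_mono (component_le_layer hK)).trans hEB
  have hTp : IsPGroup p T := (opIn_isPGroup p B).to_le hTB
  set QB := opIn p B with hQB
  have hQBp : IsPGroup p QB := opIn_isPGroup p B
  have hBQB : B ≤ Subgroup.normalizer (QB : Set G) := le_normalizer_opIn p B
  -- (i) `K'` centralizes `T`
  have hKT : ∀ k ∈ K', ∀ t ∈ T, k * t = t * k := by
    rintro _ ⟨k, hk, rfl⟩ t ht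
    obtain ⟨t', ht', rfl⟩ := hTA ht
    have h1 : k * t' = t' * k :=
      layer_commute_fitting (component_le_layer hK hk)
        (Cfsg.Agent.Helper4.pCore_le_fittingSubgroup p ht')
    exact congrArg Subtype.val h1
  have hKcT : K' ≤ Subgroup.centralizer (T : Set G) := by
    intro k hk
    rw [Subgroup.mem_centralizer_iff]
    intro t ht
    exact (hKT k hk t ht).symm
  -- (ii)
  set Q₁ := QB ⊓ Subgroup.centralizer (T : Set G) with hQ₁
  have hQ₁A : Q₁ ≤ A := inf_le_right.trans ((Subgroup.centralizer_le_normalizer _).trans hNT)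
  -- (iii) `K'` centralizes `Q₁`
  have hconj : ∀ k ∈ K', ∀ x ∈ Q₁, k * x * k⁻¹ ∈ Q₁ := by
    intro k hk x hx
    refine ⟨conj_mem_of_le_normalizer hBQB (hK'B hk) hx.1, ?_⟩
    exact Subgroup.mul_mem _ (Subgroup.mul_mem _ (hKcT hk) hx.2) (Subgroup.inv_mem _ (hKcT hk))
  have hnorm : K ≤ Subgroup.normalizer ((Q₁.subgroupOf A : Subgroup ↥A) : Set ↥A) := by
    intro k hk
    apply Cfsg.Agent.Helper4.SubnormalPRad.mem_normalizer_of_conj_mem'
    intro x hx
    rw [Subgroup.mem_subgroupOf] at hx ⊢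
    have := hconj (k : G) ⟨k, hk, rfl⟩ (x : G) hx
    simpa using this
  have hKQ1 : ∀ k ∈ K', ∀ r ∈ Q₁, k * r = r * k := by
    rcases component_le_or_commutator_eq_bot K (Q₁.subgroupOf A) hK hnorm with h | h
    · exfalso
      apply component_not_solvable hK
      have hK'QB : K' ≤ QB := by
        rintro _ ⟨k, hk, rfl⟩
        exact (Subgroup.mem_subgroupOf.1 (h hk)).1
      have hKp : IsPGroup p ↥K :=
        IsPGroup.of_injective hQBp
          ((Subgroup.inclusion hK'QB).comp
            (K.equivMapOfInjective A.subtype A.subtype_injective).toMonoidHom)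
          ((Subgroup.inclusion_injective hK'QB).comp (MulEquiv.injective _))
      haveI : Group.IsNilpotent ↥K := hKp.isNilpotent
      exact IsNilpotent.to_isSolvable
    · rintro _ ⟨k, hk, rfl⟩ r hr
      rw [Subgroup.commutator_eq_bot_iff_le_centralizer] at h
      have hrA : (⟨r, hQ₁A hr⟩ : ↥A) ∈ Q₁.subgroupOf A := Subgroup.mem_subgroupOf.2 hr
      have h5 := (Subgroup.mem_centralizer_iff.1 (h hk)) _ hrA
      exact (congrArg Subtype.val h5).symm
  -- (iv) `p'`-elements of `K'` centralize `QB`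
  have hpp : ∀ c ∈ K', (orderOf c).Coprime p → ∀ r ∈ QB, c * r = r * c := by
    intro c hc hcop
    apply Cfsg.Agent.Helper5.thompson_AxB T hTp c hcop (hKcT hc) QB hQBp (hBQB (hK'B hc))
      (hTB.trans Subgroup.le_normalizer)
    intro r hr hrT
    exact hKQ1 c hc r ⟨hr, hrT⟩
  -- (v) `K'` centralizes `QB`
  have hKQB : ∀ k ∈ K', ∀ r ∈ QB, k * r = r * k := by
    let φ : ↥K →* G := A.subtype.comp K.subtype
    let N : Subgroup ↥K := (Subgroup.centralizer (QB : Set G)).comap φ
    have hφK : ∀ k : ↥K, φ k ∈ K' := fun k => ⟨(k : ↥A), k.2, rfl⟩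
    haveI hNn : N.Normal := by
      constructor
      intro n hn g
      show φ (g * n * g⁻¹) ∈ Subgroup.centralizer (QB : Set G)
      rw [Subgroup.mem_centralizer_iff]
      intro r hr
      have hn' : φ n ∈ Subgroup.centralizer (QB : Set G) := hn
      have hgB : φ g ∈ B := hK'B (hφK g)
      have hr' : (φ g)⁻¹ * r * φ g ∈ QB := conj_mem_of_le_normalizer' hBQB hgB hr
      have h1 := Subgroup.mem_centralizer_iff.1 hn' _ hr'
      rw [map_mul, map_mul, map_inv]
      calc r * (φ g * φ n * (φ g)⁻¹) = φ g * (((φ g)⁻¹ * r * φ g) * φ n) * (φ g)⁻¹ := by group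
        _ = φ g * (φ n * ((φ g)⁻¹ * r * φ g)) * (φ g)⁻¹ := by rw [h1]
        _ = φ g * φ n * (φ g)⁻¹ * r := by group
    haveI : Group.IsPerfect ↥K := hK.2.1
    have hNtop : N = ⊤ := by
      apply eq_top_of_perfect_of_pprime_mem (p := p) N
      intro x hx
      show φ x ∈ Subgroup.centralizer (QB : Set G)
      rw [Subgroup.mem_centralizer_iff]
      intro r hr
      have hord : orderOf (φ x) = orderOf x := by
        apply orderOf_injective φ
        exact A.subtype_injective.comp K.subtype_injective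
      exact (hpp (φ x) (hφK x) (by rw [hord]; exact hx) r hr).symm
    rintro _ ⟨k, hk, rfl⟩ r hr
    have h1 : (⟨k, hk⟩ : ↥K) ∈ N := by rw [hNtop]; exact Subgroup.mem_top _
    have h2 : φ ⟨k, hk⟩ ∈ Subgroup.centralizer (QB : Set G) := h1
    exact (Subgroup.mem_centralizer_iff.1 h2 r hr).symm
  -- (vi)
  set FsB := Cfsg.generalizedFittingSubgroup ↥B with hFsB
  set X := FsB.map B.subtype with hX
  have hcX : ∀ a ∈ K', ∀ b ∈ X, a * b = b * a := by
    intro a ha
    have hle : FsB ≤ (Subgroup.centralizer ({a} : Set G)).subgroupOf B := by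
      rw [hFsB]
      unfold Cfsg.generalizedFittingSubgroup
      apply sup_le
      · intro b hb
        rw [Subgroup.mem_subgroupOf, Subgroup.mem_centralizer_iff]
        intro y hy
        rw [Set.mem_singleton_iff] at hy
        rw [hy]
        exact hcomm a ha b ⟨b, hb, rfl⟩
      · rw [hFB]
        intro b hb
        rw [Subgroup.mem_subgroupOf, Subgroup.mem_centralizer_iff]
        intro y hy
        rw [Set.mem_singleton_iff] at hy
        rw [hy]
        exact hKQB a ha b ⟨b, hb, rfl⟩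
    rintro _ ⟨b, hb, rfl⟩
    have := hle hb
    rw [Subgroup.mem_subgroupOf, Subgroup.mem_centralizer_iff] at this
    exact this a rfl
  have hK'X : K' ≤ X := by
    intro a ha
    have h3 : (⟨a, hK'B ha⟩ : ↥B) ∈ Subgroup.centralizer (FsB : Set ↥B) := by
      rw [Subgroup.mem_centralizer_iff]
      intro b hb
      apply Subtype.ext
      exact (hcX a ha (b : G) ⟨b, hb, rfl⟩).symm
    have h4 := centralizer_generalizedFittingSubgroup_le h3
    exact ⟨⟨a, hK'B ha⟩, h4, rfl⟩
  apply component_not_commutative hK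
  intro a ha b hb
  apply Subtype.ext
  have ha' : (a : G) ∈ K' := ⟨a, ha, rfl⟩
  have hb' : (b : G) ∈ K' := ⟨b, hb, rfl⟩
  exact hcX _ ha' _ (hK'X hb')

end Cfsg.Agent.Helper1.TW
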