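import Mathlib
import Cfsg.Agent.Helper1.TWd
import Cfsg.Agent.Helper1.PrimPairA
import Cfsg.Agent.Helper2.Layer8
import Cfsg.Agent.Helper2.Layer2
import Cfsg.Agent.Helper5.FEAction

set_option autoImplicit false

/-!
The Thompson–Wielandt theorem for two conjugate core-free maximal subgroups.
-/

namespace Cfsg.Agent.Helper1.TW

open Cfsg.Agent.Helper2

open scoped commutatorElement

universe u

variable {G : Type u} [Group G]

theorem genFitting_map_equiv' {X : Type*} {Y : Type*} [Group X] [Group Y] (e : X ≃* Y) :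
    (Cfsg.generalizedFittingSubgroup X).map e.toMonoidHom = Cfsg.generalizedFittingSubgroup Y := by
  unfold Cfsg.generalizedFittingSubgroup
  rw [Subgroup.map_sup, Cfsg.Agent.Helper5.layer_map_equiv e, fittingSubgroup_map_equiv e]

/-- If `F*(X)` is a `p`-group then `F*(X) = O_p(X)`. -/
theorem genFitting_eq_pCore_of_isPGroup {X : Type*} [Group X] [Finite X] {p : ℕ} [Fact p.Prime]
    (h : IsPGroup p ↥(Cfsg.generalizedFittingSubgroup X)) :
    Cfsg.generalizedFittingSubgroup X = Cfsg.pCore p X :=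
  le_antisymm (Cfsg.Agent.Helper4.le_pCore _ inferInstance h)
    (Cfsg.Agent.Helper1.PrimPair.char_p_of_isPGroup h).2

/-- `F*` of a normal subgroup `K` of `A` is a `p`-group when `F*(A)` is. -/
theorem genFitting_eq_pCore_of_normal [Finite G] {p : ℕ} [Fact p.Prime] {A K : Subgroup G}
    (hKA : K ≤ A) (hn : A ≤ Subgroup.normalizer (K : Set G))
    (hA : Cfsg.generalizedFittingSubgroup ↥A = Cfsg.pCore p ↥A) :
    Cfsg.generalizedFittingSubgroup ↥K = Cfsg.pCore p ↥K := by
  apply genFitting_eq_pCore_of_isPGroup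
  haveI hK'n : (K.subgroupOf A).Normal := (Subgroup.normal_subgroupOf_iff_le_normalizer hKA).2 hn
  have h1 := genFitting_inf_normal (K.subgroupOf A)
  have h2 : IsPGroup p ↥((Cfsg.generalizedFittingSubgroup ↥(K.subgroupOf A)).map
      (K.subgroupOf A).subtype) := by
    rw [← h1, hA]
    exact (Cfsg.Agent.Helper4.pCore_isPGroup).to_le inf_le_left
  have h3 : IsPGroup p ↥(Cfsg.generalizedFittingSubgroup ↥(K.subgroupOf A)) :=
    IsPGroup.of_injective h2
      ((Cfsg.generalizedFittingSubgroup ↥(K.subgroupOf A)).equivMapOfInjective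
        (K.subgroupOf A).subtype (Subgroup.subtype_injective _)).toMonoidHom
      (MulEquiv.injective _)
  let e : ↥(K.subgroupOf A) ≃* ↥K := Subgroup.subgroupOfEquivOfLe hKA
  rw [← genFitting_map_equiv' e]
  exact h3.map _

theorem isPrimPair_of_normalizer {A B : Subgroup G}
    (hNA : ∀ H : Subgroup G, H ≠ ⊥ → H ≤ A → A ≤ Subgroup.normalizer (H : Set G) →
      Subgroup.normalizer (H : Set G) ≤ A)
    (hNB : ∀ H : Subgroup G, H ≠ ⊥ → H ≤ B → B ≤ Subgroup.normalizer (H : Set G) →
      Subgroup.normalizer (H : Set G) ≤ B) :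
    Cfsg.Agent.Helper1.PrimPair.IsPrimPair A B := by
  intro H hH hHle
  refine ⟨fun hA => ?_, fun hB => ?_⟩
  · have h1 := hNA H hH (hHle.trans inf_le_left) hA
    apply le_antisymm
    · exact le_inf (inf_le_right.trans h1) inf_le_left
    · exact le_inf inf_le_right (inf_le_left.trans hA)
  · have h1 := hNB H hH (hHle.trans inf_le_right) hB
    apply le_antisymm
    · exact le_inf inf_le_left (inf_le_right.trans h1)
    · exact le_inf inf_le_left (inf_le_right.trans hB)

theorem eq_bot_of_genFitting_eq_bot [Finite G] (X : Subgroup G)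
    (hF : Cfsg.generalizedFittingSubgroup ↥X = ⊥) : X = ⊥ := by
  have h3 := centralizer_generalizedFittingSubgroup_le (G := ↥X)
  rw [hF] at h3
  rw [eq_bot_iff]
  intro x hx
  have h4 : (⟨x, hx⟩ : ↥X) ∈ Subgroup.centralizer (((⊥ : Subgroup ↥X)) : Set ↥X) := by
    rw [Subgroup.mem_centralizer_iff]
    intro y hy
    rw [Subgroup.coe_bot, Set.mem_singleton_iff] at hy
    rw [hy, one_mul, mul_one]
  have h5 := h3 h4
  rw [Subgroup.mem_bot] at h5
  rw [Subgroup.mem_bot]
  exact congrArg Subtype.val h5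

end Cfsg.Agent.Helper1.TW
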