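import Mathlib
import Cfsg.Agent.Helper1.TWe

set_option autoImplicit false

/-!
The Thompson–Wielandt theorem: main statement.
-/

namespace Cfsg.Agent.Helper1.TW

open Cfsg.Agent.Helper2

open scoped commutatorElement

universe u

variable {G : Type u} [Group G]

/-- One half of the layer comparison. -/
theorem map_layer_le_aux [Finite G] {p : ℕ} [Fact p.Prime] {A B L T : Subgroup G}
    (hNA : ∀ H : Subgroup G, H ≠ ⊥ → H ≤ A → A ≤ Subgroup.normalizer (H : Set G) →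
      Subgroup.normalizer (H : Set G) ≤ A)
    (hLB : L ≤ B) (hBL : B ≤ Subgroup.normalizer (L : Set G))
    (hTA : T ≤ A) (hAT : A ≤ Subgroup.normalizer (T : Set G)) (hTL : T ≤ L)
    (hLT : L ≤ Subgroup.normalizer (T : Set G)) (hTne : T ≠ ⊥) (hTp : IsPGroup p T)
    (hFB : Cfsg.fittingSubgroup ↥B = Cfsg.pCore p ↥B)
    (hEA : (Cfsg.layer ↥A).map A.subtype ≤ B) (hEB : (Cfsg.layer ↥B).map B.subtype ≤ A) :
    (Cfsg.layer ↥A).map A.subtype ≤ (Cfsg.layer ↥B).map B.subtype := by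
  have hNT : Subgroup.normalizer (T : Set G) ≤ A := hNA T hTne hTA hAT
  have hTopA : T ≤ opIn p A :=
    le_opIn_of_normal_normal p le_rfl Subgroup.le_normalizer hTA hAT hTp
  have hTopB : T ≤ opIn p B := le_opIn_of_normal_normal p hLB hBL hTL hLT hTp
  exact map_layer_le_map_layer A B hEA hEB
    (fun K hK => not_component_centralizes hNT hTopA hTopB hFB hEA K hK)

/-- **Thompson–Wielandt theorem.** -/
theorem thompson_wielandt [Finite G] {A B : Subgroup G} (hA : IsCoatom A)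
    (hcore : A.normalCore = ⊥) (g : G) (hB : B = A.map (MulAut.conj g).toMonoidHom) (hne : A ≠ B)
    (hT : coreIn A (coreIn A (A ⊓ B) ⊓ coreIn B (A ⊓ B)) ≠ ⊥)
    (hS : coreIn B (coreIn A (A ⊓ B) ⊓ coreIn B (A ⊓ B)) ≠ ⊥) :
    ∃ p : ℕ, p.Prime ∧
      IsPGroup p ↥(coreIn A (coreIn A (A ⊓ B) ⊓ coreIn B (A ⊓ B)) ⊔
        coreIn B (coreIn A (A ⊓ B) ⊓ coreIn B (A ⊓ B))) ∧
      Cfsg.generalizedFittingSubgroup ↥A = Cfsg.pCore p ↥A ∧
      Cfsg.generalizedFittingSubgroup ↥(coreIn A (A ⊓ B)) = Cfsg.pCore p ↥(coreIn A (A ⊓ B)) ∧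
      Cfsg.generalizedFittingSubgroup ↥B = Cfsg.pCore p ↥B ∧
      Cfsg.generalizedFittingSubgroup ↥(coreIn B (A ⊓ B)) = Cfsg.pCore p ↥(coreIn B (A ⊓ B)) := by
  classical
  have hBc : IsCoatom B := by rw [hB]; exact isCoatom_map_conj hA g
  have hBcore : B.normalCore = ⊥ := by rw [hB]; exact normalCore_map_conj hcore g
  have hA' : A = B.map (MulAut.conj g⁻¹).toMonoidHom := map_conj_inv g hB
  have hNA := normalizer_le_of_isCoatom hA hcore
  have hNB := normalizer_le_of_isCoatom hBc hBcore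
  set D := A ⊓ B with hD
  set K := coreIn A D with hK
  set L := coreIn B D with hL
  set T := coreIn A (K ⊓ L) with hTdef
  set S := coreIn B (K ⊓ L) with hSdef
  have hKA : K ≤ A := coreIn_le_left _ _
  have hKB : K ≤ B := (coreIn_le_right _ _).trans inf_le_right
  have hLB : L ≤ B := coreIn_le_left _ _
  have hLA : L ≤ A := (coreIn_le_right _ _).trans inf_le_left
  have hAK : A ≤ Subgroup.normalizer (K : Set G) := le_normalizer_coreIn _ _
  have hBL : B ≤ Subgroup.normalizer (L : Set G) := le_normalizer_coreIn _ _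
  have hTA : T ≤ A := coreIn_le_left _ _
  have hSB : S ≤ B := coreIn_le_left _ _
  have hTL : T ≤ L := (coreIn_le_right _ _).trans inf_le_right
  have hSK : S ≤ K := (coreIn_le_right _ _).trans inf_le_left
  have hAT : A ≤ Subgroup.normalizer (T : Set G) := le_normalizer_coreIn _ _
  have hBS : B ≤ Subgroup.normalizer (S : Set G) := le_normalizer_coreIn _ _
  have hLT : L ≤ Subgroup.normalizer (T : Set G) := hLA.trans hAT
  have hKS : K ≤ Subgroup.normalizer (S : Set G) := hKB.trans hBS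
  have hNT : Subgroup.normalizer (T : Set G) ≤ A := hNA T hT hTA hAT
  have hNS : Subgroup.normalizer (S : Set G) ≤ B := hNB S hS hSB hBS
  -- layers
  have hEB : (Cfsg.layer ↥B).map B.subtype ≤ A := map_layer_le_of_normal hNT hLB hLA hBL hTL
  have hEA : (Cfsg.layer ↥A).map A.subtype ≤ B := map_layer_le_of_normal hNS hKA hKB hAK hSK
  -- the isomorphism `A ≃* B`
  have hiso : Nonempty (↥A ≃* ↥B) := by
    subst hB
    exact ⟨conjEquiv A g⟩
  obtain ⟨eAB⟩ := hiso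
  -- a prime `p` with `O_p(A) ≠ 1`
  have hex : ∃ p : ℕ, p.Prime ∧ Cfsg.pCore p ↥A ≠ ⊥ := by
    by_contra hcon
    push Not at hcon
    have hFA : Cfsg.fittingSubgroup ↥A = ⊥ := fitting_eq_bot_of_pCore hcon
    have hFB : Cfsg.fittingSubgroup ↥B = ⊥ :=
      fitting_eq_bot_of_pCore (fun q hq => pCore_eq_bot_congr eAB (hcon q hq))
    have hFsA : Cfsg.generalizedFittingSubgroup ↥A = Cfsg.layer ↥A := by
      unfold Cfsg.generalizedFittingSubgroup
      rw [hFA, sup_bot_eq]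
    have hFsB : Cfsg.generalizedFittingSubgroup ↥B = Cfsg.layer ↥B := by
      unfold Cfsg.generalizedFittingSubgroup
      rw [hFB, sup_bot_eq]
    obtain ⟨p, hp, hpA, -⟩ := Cfsg.Agent.Helper1.PrimPair.main' A B
      (isPrimPair_of_normalizer hNA hNB) hne (by rw [hFsA]; exact hEA) (by rw [hFsB]; exact hEB)
    haveI : Fact p.Prime := ⟨hp⟩
    have h1 := genFitting_eq_pCore_of_isPGroup hpA
    rw [hcon p hp] at h1
    have hAbot : A = ⊥ := eq_bot_of_genFitting_eq_bot A h1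
    apply hT
    rw [eq_bot_iff, ← hAbot]
    exact hTA
  obtain ⟨p, hp, hpA⟩ := hex
  haveI : Fact p.Prime := ⟨hp⟩
  have hpB : Cfsg.pCore p ↥B ≠ ⊥ := fun h => hpA (pCore_eq_bot_congr eAB.symm h)
  have hTp : IsPGroup p T := isPGroup_T hA hcore g hB hne hpA
  have hSp : IsPGroup p S := by
    have := isPGroup_T hBc hBcore g⁻¹ hA' hne.symm hpB
    rw [inf_comm B A, inf_comm (coreIn B (A ⊓ B)) (coreIn A (A ⊓ B))] at this
    exact this
  -- other primes
  have hqA : ∀ q : ℕ, q.Prime → q ≠ p → Cfsg.pCore q ↥A = ⊥ := by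
    intro q hq hqp
    by_contra hne'
    haveI : Fact q.Prime := ⟨hq⟩
    have hTq : IsPGroup q T := isPGroup_T hA hcore g hB hne hne'
    have := IsPGroup.disjoint_of_ne p q (Ne.symm hqp) T T hTp hTq
    exact hT (disjoint_self.1 this)
  have hqB : ∀ q : ℕ, q.Prime → q ≠ p → Cfsg.pCore q ↥B = ⊥ :=
    fun q hq hqp => pCore_eq_bot_congr eAB (hqA q hq hqp)
  have hFA : Cfsg.fittingSubgroup ↥A = Cfsg.pCore p ↥A := fitting_eq_pCore_of_pCore hp hqA
  have hFB : Cfsg.fittingSubgroup ↥B = Cfsg.pCore p ↥B := fitting_eq_pCore_of_pCore hp hqB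
  -- layers are trivial
  have hle1 : (Cfsg.layer ↥A).map A.subtype ≤ (Cfsg.layer ↥B).map B.subtype :=
    map_layer_le_aux hNA hLB hBL hTA hAT hTL hLT hT hTp hFB hEA hEB
  have hle2 : (Cfsg.layer ↥B).map B.subtype ≤ (Cfsg.layer ↥A).map A.subtype :=
    map_layer_le_aux hNB hKA hAK hSB hBS hSK hKS hS hSp hFA hEB hEA
  have hEeq : (Cfsg.layer ↥A).map A.subtype = (Cfsg.layer ↥B).map B.subtype :=
    le_antisymm hle1 hle2
  have hEAbot : (Cfsg.layer ↥A).map A.subtype = ⊥ := by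
    by_contra hne'
    have hAn : A ≤ Subgroup.normalizer (((Cfsg.layer ↥A).map A.subtype : Subgroup G) : Set G) :=
      Cfsg.Agent.Helper2.Bender.le_normalizer_map_subtype A (Cfsg.layer ↥A)
    have hBn : B ≤ Subgroup.normalizer (((Cfsg.layer ↥A).map A.subtype : Subgroup G) : Set G) := by
      rw [hEeq]
      exact Cfsg.Agent.Helper2.Bender.le_normalizer_map_subtype B (Cfsg.layer ↥B)
    have h1 := hNA _ hne' (Subgroup.map_subtype_le _) hAn
    have hBA : B ≤ A := hBn.trans h1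
    rcases hBc.le_iff.1 hBA with h | h
    · exact hA.1 h
    · exact hne h
  have hLayA : Cfsg.layer ↥A = ⊥ :=
    (Subgroup.map_eq_bot_iff_of_injective _ A.subtype_injective).1 hEAbot
  have hLayB : Cfsg.layer ↥B = ⊥ := by
    rw [hEeq] at hEAbot
    exact (Subgroup.map_eq_bot_iff_of_injective _ B.subtype_injective).1 hEAbot
  have hFsA : Cfsg.generalizedFittingSubgroup ↥A = Cfsg.pCore p ↥A := by
    unfold Cfsg.generalizedFittingSubgroup
    rw [hLayA, bot_sup_eq, hFA]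
  have hFsB : Cfsg.generalizedFittingSubgroup ↥B = Cfsg.pCore p ↥B := by
    unfold Cfsg.generalizedFittingSubgroup
    rw [hLayB, bot_sup_eq, hFB]
  refine ⟨p, hp, ?_, hFsA, genFitting_eq_pCore_of_normal hKA hAK hFsA, hFsB,
    genFitting_eq_pCore_of_normal hLB hBL hFsB⟩
  exact IsPGroup.to_sup_of_normal_left' hTp hSp ((hSK.trans hKA).trans hAT)

/-- The Thompson–Wielandt theorem in the form with the two descending core sequences. -/
theorem thompson_wielandt_seq [Finite G] (M₁ M₂ : Subgroup G) (hmax : IsCoatom M₁) (g : G)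
    (hconj : M₂ = M₁.map (MulAut.conj g).toMonoidHom) (hne : M₁ ≠ M₂) (hcore : M₁.normalCore = ⊥)
    (A B : ℕ → Subgroup G) (hA0 : A 0 = M₁) (hB0 : B 0 = M₂)
    (hA : ∀ i, A (i + 1) = ((A i ⊓ B i).subgroupOf M₁).normalCore.map M₁.subtype)
    (hB : ∀ i, B (i + 1) = ((A i ⊓ B i).subgroupOf M₂).normalCore.map M₂.subtype)
    (hA2 : A 2 ≠ ⊥) (hB2 : B 2 ≠ ⊥) :
    ∃ p : ℕ, p.Prime ∧ IsPGroup p ↥(A 2 ⊔ B 2) ∧
      Cfsg.generalizedFittingSubgroup ↥M₁ = Cfsg.pCore p ↥M₁ ∧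
      Cfsg.generalizedFittingSubgroup ↥(A 1) = Cfsg.pCore p ↥(A 1) ∧
      Cfsg.generalizedFittingSubgroup ↥M₂ = Cfsg.pCore p ↥M₂ ∧
      Cfsg.generalizedFittingSubgroup ↥(B 1) = Cfsg.pCore p ↥(B 1) := by
  have h1A : A 1 = coreIn M₁ (M₁ ⊓ M₂) := by rw [hA 0, hA0, hB0]; rfl
  have h1B : B 1 = coreIn M₂ (M₁ ⊓ M₂) := by rw [hB 0, hA0, hB0]; rfl
  have h2A : A 2 = coreIn M₁ (coreIn M₁ (M₁ ⊓ M₂) ⊓ coreIn M₂ (M₁ ⊓ M₂)) := by
    rw [hA 1, h1A, h1B]; rfl
  have h2B : B 2 = coreIn M₂ (coreIn M₁ (M₁ ⊓ M₂) ⊓ coreIn M₂ (M₁ ⊓ M₂)) := by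
    rw [hB 1, h1A, h1B]; rfl
  rw [h2A] at hA2
  rw [h2B] at hB2
  rw [h1A, h1B, h2A, h2B]
  exact thompson_wielandt hmax hcore g hconj hne hA2 hB2

end Cfsg.Agent.Helper1.TW
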