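import Mathlib
import Cfsg.Agent.Helper1.TWf

set_option autoImplicit false

/-!
Index bounds for iterated cores (towards Wielandt's bound `d! ((d-1)!)^d`).
-/

namespace Cfsg.Agent.Helper1.TW

open scoped Nat

variable {G : Type*} [Group G]

/-- If `K` normalizes `N` and `X ≤ K` then `|X : X ∩ N|` divides `|K : K ∩ N|`. -/
theorem relIndex_dvd_relIndex_of_le_normalizer {N X K : Subgroup G} (hXK : X ≤ K)
    (hK : K ≤ Subgroup.normalizer (N : Set G)) : N.relIndex X ∣ N.relIndex K := by
  haveI : (N.subgroupOf K).Normal := Subgroup.normal_subgroupOf_of_le_normalizer hK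
  have := Subgroup.relIndex_dvd_index_of_normal (N.subgroupOf K) (X.subgroupOf K)
  rwa [Subgroup.relIndex_subgroupOf hXK] at this

theorem coreIn_subgroupOf (B D : Subgroup G) :
    (coreIn B D).subgroupOf B = (D.subgroupOf B).normalCore := by
  unfold coreIn
  ext x
  rw [Subgroup.mem_subgroupOf]
  constructor
  · rintro ⟨y, hy, hxy⟩
    have : y = x := Subtype.ext hxy
    rwa [← this]
  · intro hx
    exact ⟨x, hx, rfl⟩

theorem relIndex_coreIn_dvd_factorial [Finite G] (B D : Subgroup G) :
    (coreIn B D).relIndex B ∣ (D.relIndex B)! := by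
  unfold Subgroup.relIndex
  rw [coreIn_subgroupOf]
  set H := D.subgroupOf B
  rw [Subgroup.normalCore_eq_ker, Subgroup.index_ker, Subgroup.index_eq_card, ← Nat.card_perm]
  exact Subgroup.card_subgroup_dvd_card (MulAction.toPermHom ↥B (↥B ⧸ H)).range

/-- `|D : core_B D|` divides `(|B : D| - 1)!`. -/
theorem relIndex_coreIn_dvd_factorial_pred [Finite G] {B D : Subgroup G} (hDB : D ≤ B) :
    (coreIn B D).relIndex D ∣ (D.relIndex B - 1)! := by
  have h1 := relIndex_coreIn_dvd_factorial B D
  have h2 : (coreIn B D).relIndex D * D.relIndex B = (coreIn B D).relIndex B :=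
    Subgroup.relIndex_mul_relIndex _ _ _ (coreIn_le_right B D) hDB
  have hpos : D.relIndex B ≠ 0 := Subgroup.index_ne_zero_of_finite
  rw [← h2, ← Nat.mul_factorial_pred hpos, mul_comm] at h1
  exact Nat.dvd_of_mul_dvd_mul_left (Nat.pos_of_ne_zero hpos) h1

/-- The relative index of a finite intersection of subgroups normalized by `K` divides the
product of the relative indices. -/
theorem relIndex_iInf_dvd_prod {ι : Type*} (s : Finset ι) (N : ι → Subgroup G) (K : Subgroup G)
    (hN : ∀ i ∈ s, K ≤ Subgroup.normalizer (N i : Set G)) :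
    (⨅ i ∈ s, N i).relIndex K ∣ ∏ i ∈ s, (N i).relIndex K := by
  classical
  induction s using Finset.induction_on with
  | empty => simp
  | insert j s hj ih =>
    rw [Finset.iInf_insert, Finset.prod_insert hj]
    rw [← Subgroup.relIndex_inf_mul_relIndex]
    refine Nat.mul_dvd_mul ?_ (ih fun i hi => hN i (Finset.mem_insert_of_mem hi))
    exact relIndex_dvd_relIndex_of_le_normalizer inf_le_right (hN j (Finset.mem_insert_self j s))

end Cfsg.Agent.Helper1.TW
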