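import Mathlib
import Cfsg.Agent.Helper1.TWg

set_option autoImplicit false

/-!
Wielandt's index bound `d! ((d-1)!)^d` for the second core in a transitive permutation group.
-/

namespace Cfsg.Agent.Helper1.TW

open scoped Nat
open MulAction

variable {G : Type*} [Group G] {Ω : Type*} [MulAction G Ω]

theorem stabilizer_subgroup_eq (A : Subgroup G) (c : Ω) :
    stabilizer ↥A c = (stabilizer G c).subgroupOf A := by
  ext x
  rw [Subgroup.mem_subgroupOf, mem_stabilizer_iff, mem_stabilizer_iff]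
  rfl

theorem relIndex_stabilizer_eq (A : Subgroup G) (c : Ω) :
    (stabilizer G c).relIndex A = Nat.card (orbit ↥A c) := by
  unfold Subgroup.relIndex
  rw [← stabilizer_subgroup_eq, index_stabilizer, Nat.card_coe_set_eq]

/-- The kernel of the action of `G_c` on the `G_c`-orbit of `a`. -/
def Lpt (G : Type*) [Group G] {Ω : Type*} [MulAction G Ω] (a c : Ω) : Subgroup G :=
  coreIn (stabilizer G c) (stabilizer G a ⊓ stabilizer G c)

theorem conj_mem_Lpt {a c : Ω} {α x : G} (hα : α ∈ stabilizer G a) (hx : x ∈ Lpt G a c) :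
    α * x * α⁻¹ ∈ Lpt G a (α • c) := by
  unfold Lpt at hx ⊢
  obtain ⟨hxc, hx'⟩ := mem_coreIn.1 hx
  have h1 : α * x * α⁻¹ ∈ stabilizer G (α • c) := by
    rw [stabilizer_smul_eq_stabilizer_map_conj]
    exact ⟨x, hxc, rfl⟩
  refine mem_coreIn.2 ⟨h1, fun m hm => ?_⟩
  have hm' : α⁻¹ * m * α ∈ stabilizer G c := by
    rw [stabilizer_smul_eq_stabilizer_map_conj] at hm
    obtain ⟨y, hy, rfl⟩ := hm
    have : α⁻¹ * (MulAut.conj α).toMonoidHom y * α = y := by
      simp [MulAut.conj_apply]; group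
    rwa [this]
  have h2 := hx' _ hm'
  have e : m * (α * x * α⁻¹) * m⁻¹ = α * ((α⁻¹ * m * α) * x * (α⁻¹ * m * α)⁻¹) * α⁻¹ := by group
  refine ⟨?_, ?_⟩
  · rw [e]
    exact Subgroup.mul_mem _ (Subgroup.mul_mem _ hα h2.1) (Subgroup.inv_mem _ hα)
  · exact Subgroup.mul_mem _ (Subgroup.mul_mem _ hm h1) (Subgroup.inv_mem _ hm)

theorem coreIn_le_stabilizer_of_mem_orbit {a b c : Ω} (hc : c ∈ orbit ↥(stabilizer G a) b) :
    coreIn (stabilizer G a) (stabilizer G a ⊓ stabilizer G b) ≤ stabilizer G c := by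
  obtain ⟨α, rfl⟩ := hc
  intro x hx
  obtain ⟨hxa, hx'⟩ := mem_coreIn.1 hx
  have h0 : (α : G)⁻¹ * x * ((α : G)⁻¹)⁻¹ ∈ stabilizer G b :=
    (hx' (α : G)⁻¹ (Subgroup.inv_mem _ α.2)).2
  have h : ((α : G)⁻¹ * x * ((α : G)⁻¹)⁻¹) • b = b := h0
  show x • ((α : G) • b) = (α : G) • b
  have e : x • ((α : G) • b) = (α : G) • (((α : G)⁻¹ * x * ((α : G)⁻¹)⁻¹) • b) := by
    rw [smul_smul, smul_smul]
    congr 1
    group
  rw [e, h]

theorem card_stabilizer_eq [IsPretransitive G Ω] (a c : Ω) :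
    Nat.card (stabilizer G c) = Nat.card (stabilizer G a) := by
  obtain ⟨g, hg⟩ := exists_smul_eq G a c
  exact (Nat.card_congr (stabilizerEquivStabilizer (hg.symm)).toEquiv).symm

theorem relIndex_inf_stabilizer_eq [Finite G] [IsPretransitive G Ω] (a c : Ω) :
    (stabilizer G a ⊓ stabilizer G c).relIndex (stabilizer G c) =
      (stabilizer G a ⊓ stabilizer G c).relIndex (stabilizer G a) := by
  have h1 : Nat.card ↥(stabilizer G a ⊓ stabilizer G c) *
      (stabilizer G a ⊓ stabilizer G c).relIndex (stabilizer G c) = Nat.card (stabilizer G c) := by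
    have := Subgroup.card_mul_index ((stabilizer G a ⊓ stabilizer G c).subgroupOf (stabilizer G c))
    rw [← this]
    congr 1
    exact Nat.card_congr (Subgroup.subgroupOfEquivOfLe inf_le_right).toEquiv.symm
  have h2 : Nat.card ↥(stabilizer G a ⊓ stabilizer G c) *
      (stabilizer G a ⊓ stabilizer G c).relIndex (stabilizer G a) = Nat.card (stabilizer G a) := by
    have := Subgroup.card_mul_index ((stabilizer G a ⊓ stabilizer G c).subgroupOf (stabilizer G a))
    rw [← this]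
    congr 1
    exact Nat.card_congr (Subgroup.subgroupOfEquivOfLe inf_le_left).toEquiv.symm
  rw [card_stabilizer_eq a c, ← h2] at h1
  exact Nat.eq_of_mul_eq_mul_left Nat.card_pos h1

/-- Wielandt's index bound. -/
theorem relIndex_T_dvd [Finite G] [Finite Ω] [IsPretransitive G Ω] (a b : Ω) (d : ℕ)
    (hd : Nat.card (orbit ↥(stabilizer G a) b) = d) :
    (coreIn (stabilizer G a) (coreIn (stabilizer G a) (stabilizer G a ⊓ stabilizer G b) ⊓
      coreIn (stabilizer G b) (stabilizer G a ⊓ stabilizer G b))).relIndex (stabilizer G a) ∣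
      d ! * ((d - 1)!) ^ d := by
  classical
  set A := stabilizer G a with hA
  set B := stabilizer G b with hB
  set K := coreIn A (A ⊓ B) with hK
  set L := coreIn B (A ⊓ B) with hL
  have hLpt : L = Lpt G a b := rfl
  have hKA : K ≤ A := coreIn_le_left _ _
  set s : Finset Ω := (Set.toFinite (orbit ↥A b)).toFinset with hs
  have hscard : s.card = d := by
    rw [hs, ← Set.ncard_eq_toFinset_card, ← Nat.card_coe_set_eq]
    exact hd
  have hmem : ∀ c, c ∈ s ↔ c ∈ orbit ↥A b := fun c => Set.Finite.mem_toFinset _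
  set T' := K ⊓ ⨅ c ∈ s, Lpt G a c with hT'
  -- T' ≤ T
  have hT'T : T' ≤ coreIn A (K ⊓ L) := by
    intro x hx
    have hxK : x ∈ K := hx.1
    have hxL : ∀ c ∈ s, x ∈ Lpt G a c := by
      intro c hc
      have h1 : x ∈ ⨅ c ∈ s, Lpt G a c := hx.2
      have h2 : (⨅ c ∈ s, Lpt G a c) ≤ Lpt G a c := iInf₂_le c hc
      exact h2 h1
    refine mem_coreIn.2 ⟨hKA hxK, fun α hα => ⟨conj_mem_coreIn hα hxK, ?_⟩⟩
    rw [hLpt]
    have hc : α⁻¹ • b ∈ s := by
      rw [hmem]
      exact ⟨⟨α⁻¹, Subgroup.inv_mem _ hα⟩, rfl⟩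
    have h3 := conj_mem_Lpt hα (hxL _ hc)
    rwa [smul_inv_smul] at h3
  -- index bounds
  have hdA : ∀ c ∈ s, (A ⊓ stabilizer G c).relIndex A = d := by
    intro c hc
    rw [Subgroup.inf_relIndex_left, relIndex_stabilizer_eq, ← hd]
    rw [hmem] at hc
    rw [orbit_eq_iff.2 hc]
  have hb : b ∈ s := by
    rw [hmem]
    exact mem_orbit_self b
  have hKd : K.relIndex A ∣ d ! := by
    have := relIndex_coreIn_dvd_factorial A (A ⊓ B)
    rwa [hdA b hb] at this
  have hLc : ∀ c ∈ s, (Lpt G a c).relIndex K ∣ (d - 1)! := by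
    intro c hc
    have h1 : K ≤ A ⊓ stabilizer G c :=
      le_inf hKA (coreIn_le_stabilizer_of_mem_orbit ((hmem c).1 hc))
    have h2 : A ⊓ stabilizer G c ≤ Subgroup.normalizer (Lpt G a c : Set G) :=
      inf_le_right.trans (le_normalizer_coreIn _ _)
    have h3 : (Lpt G a c).relIndex K ∣ (Lpt G a c).relIndex (A ⊓ stabilizer G c) :=
      relIndex_dvd_relIndex_of_le_normalizer h1 h2
    have h4 : (Lpt G a c).relIndex (A ⊓ stabilizer G c) ∣
        ((A ⊓ stabilizer G c).relIndex (stabilizer G c) - 1)! :=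
      relIndex_coreIn_dvd_factorial_pred inf_le_right
    rw [relIndex_inf_stabilizer_eq, hdA c hc] at h4
    exact h3.trans h4
  have hN : ∀ c ∈ s, K ≤ Subgroup.normalizer (Lpt G a c : Set G) := by
    intro c hc
    exact (coreIn_le_stabilizer_of_mem_orbit ((hmem c).1 hc)).trans (le_normalizer_coreIn _ _)
  have hprod : (⨅ c ∈ s, Lpt G a c).relIndex K ∣ ((d - 1)!) ^ d := by
    refine (relIndex_iInf_dvd_prod s (fun c => Lpt G a c) K hN).trans ?_
    have h5 : ((d - 1)!) ^ d = ∏ _c ∈ s, (d - 1)! := by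
      rw [Finset.prod_const, hscard]
    rw [h5]
    exact Finset.prod_dvd_prod_of_dvd _ _ hLc
  have hT'K : T'.relIndex K ∣ ((d - 1)!) ^ d := by
    rw [hT', Subgroup.inf_relIndex_left]
    exact hprod
  have hT'A : T'.relIndex A ∣ d ! * ((d - 1)!) ^ d := by
    rw [← Subgroup.relIndex_mul_relIndex T' K A inf_le_left hKA, mul_comm]
    exact Nat.mul_dvd_mul hKd hT'K
  exact (Subgroup.relIndex_dvd_of_le_left A hT'T).trans hT'A

end Cfsg.Agent.Helper1.TW
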