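import Mathlib
import Cfsg.Agent.Helper1.TWh

set_option autoImplicit false

/-!
Wielandt's bound towards the Sims conjecture, and the non-constrained case.
-/

namespace Cfsg.Agent.Helper1.TW

open scoped Nat
open MulAction

variable {G : Type*} [Group G] {Ω : Type*} [MulAction G Ω]

theorem card_orbit_le_one_of_fixed (A : Subgroup G) (b : Ω) (h : ∀ α ∈ A, α • b = b) :
    Nat.card (orbit ↥A b) ≤ 1 := by
  haveI : Subsingleton (orbit ↥A b) := by
    constructor
    rintro ⟨x, α, rfl⟩ ⟨y, β, rfl⟩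
    apply Subtype.ext
    show (α : G) • b = (β : G) • b
    rw [h _ α.2, h _ β.2]
  exact Finite.card_le_one_iff_subsingleton.2 inferInstance

theorem prim_setup [Finite G] [FaithfulSMul G Ω] [Finite Ω] (hprim : IsPreprimitive G Ω)
    (a b : Ω) (d : ℕ) (hd : Nat.card (orbit ↥(stabilizer G a) b) = d) (h2 : 2 ≤ d) :
    IsCoatom (stabilizer G a) ∧ (stabilizer G a).normalCore = ⊥ ∧
      (∃ g : G, stabilizer G b = (stabilizer G a).map (MulAut.conj g).toMonoidHom) ∧
      stabilizer G a ≠ stabilizer G b := by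
  haveI := hprim
  haveI : IsPretransitive G Ω := hprim.toIsPretransitive
  have hab : a ≠ b := by
    intro hab
    have := card_orbit_le_one_of_fixed (stabilizer G a) b (fun α hα => by rw [← hab]; exact hα)
    omega
  haveI : Nontrivial Ω := ⟨a, b, hab⟩
  refine ⟨IsPreprimitive.isCoatom_stabilizer_of_isPreprimitive (G := G) a, ?_, ?_, ?_⟩
  · rw [Subgroup.eq_bot_iff_forall]
    intro x hx
    apply FaithfulSMul.eq_of_smul_eq_smul (α := Ω)
    intro c
    obtain ⟨g, rfl⟩ := exists_smul_eq G a c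
    have h1 : g⁻¹ * x * g⁻¹⁻¹ ∈ stabilizer G a := hx g⁻¹
    have h1' : (g⁻¹ * x * g⁻¹⁻¹) • a = a := h1
    rw [one_smul]
    have e : x • g • a = g • ((g⁻¹ * x * g⁻¹⁻¹) • a) := by
      rw [smul_smul, smul_smul]
      congr 1
      group
    rw [e, h1']
  · obtain ⟨g, hg⟩ := exists_smul_eq G a b
    exact ⟨g, by rw [← hg, stabilizer_smul_eq_stabilizer_map_conj]⟩
  · intro hAB
    have := card_orbit_le_one_of_fixed (stabilizer G a) b (fun α hα => by
      rw [hAB] at hα; exact hα)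
    omega

theorem card_orbit_swap [Finite G] [IsPretransitive G Ω] (a b : Ω) :
    Nat.card (orbit ↥(stabilizer G b) a) = Nat.card (orbit ↥(stabilizer G a) b) := by
  rw [← relIndex_stabilizer_eq, ← relIndex_stabilizer_eq,
    ← Subgroup.inf_relIndex_right, ← Subgroup.inf_relIndex_left (stabilizer G a)]
  exact relIndex_inf_stabilizer_eq a b

theorem relIndex_S_dvd [Finite G] [Finite Ω] [IsPretransitive G Ω] (a b : Ω) (d : ℕ)
    (hd : Nat.card (orbit ↥(stabilizer G a) b) = d) :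
    (coreIn (stabilizer G b) (coreIn (stabilizer G a) (stabilizer G a ⊓ stabilizer G b) ⊓
      coreIn (stabilizer G b) (stabilizer G a ⊓ stabilizer G b))).relIndex (stabilizer G b) ∣
      d ! * ((d - 1)!) ^ d := by
  have h := relIndex_T_dvd b a d ((card_orbit_swap a b).trans hd)
  rwa [inf_comm (stabilizer G b) (stabilizer G a), inf_comm (coreIn (stabilizer G b) _)] at h

/-- Wielandt's bound. -/
theorem wielandt_bound [Finite G] [FaithfulSMul G Ω] [Finite Ω] (hprim : IsPreprimitive G Ω)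
    (a b : Ω) (d : ℕ) (hd : Nat.card (orbit ↥(stabilizer G a) b) = d) (h2 : 2 ≤ d) :
    ∃ p : ℕ, p.Prime ∧ ∃ P : Subgroup ↥(stabilizer G a), P.Normal ∧ IsPGroup p P ∧
      (∀ g : P, ((g : ↥(stabilizer G a)) : G) • b = b) ∧
      P.index ∣ d ! * ((d - 1)!) ^ d := by
  haveI : IsPretransitive G Ω := hprim.toIsPretransitive
  obtain ⟨hco, hcore, ⟨g, hg⟩, hne⟩ := prim_setup hprim a b d hd h2
  have hT := relIndex_T_dvd a b d hd
  have hS := relIndex_S_dvd a b d hd
  set A := stabilizer G a with hA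
  set B := stabilizer G b with hB
  have hbot : ∀ (_ : Nat.card ↥A ∣ d ! * ((d - 1)!) ^ d),
      ∃ p : ℕ, p.Prime ∧ ∃ P : Subgroup ↥A, P.Normal ∧ IsPGroup p P ∧
      (∀ g : P, ((g : ↥A) : G) • b = b) ∧ P.index ∣ d ! * ((d - 1)!) ^ d := by
    intro h
    refine ⟨2, Nat.prime_two, ⊥, inferInstance, IsPGroup.of_bot, ?_, ?_⟩
    · rintro ⟨x, hx⟩
      rw [Subgroup.mem_bot] at hx
      subst hx
      simp
    · rwa [Subgroup.index_bot]
  by_cases hT0 : coreIn A (coreIn A (A ⊓ B) ⊓ coreIn B (A ⊓ B)) = ⊥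
  · rw [hT0, Subgroup.relIndex_bot_left] at hT
    exact hbot hT
  by_cases hS0 : coreIn B (coreIn A (A ⊓ B) ⊓ coreIn B (A ⊓ B)) = ⊥
  · rw [hS0, Subgroup.relIndex_bot_left, card_stabilizer_eq a b] at hS
    exact hbot hS
  obtain ⟨p, hp, hpg, -⟩ := thompson_wielandt hco hcore g hg hne hT0 hS0
  refine ⟨p, hp, ((coreIn A (A ⊓ B) ⊓ coreIn B (A ⊓ B)).subgroupOf A).normalCore,
    inferInstance, ?_, ?_, ?_⟩
  · have h1 : IsPGroup p ↥(coreIn A (coreIn A (A ⊓ B) ⊓ coreIn B (A ⊓ B))) :=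
      hpg.to_le le_sup_left
    exact IsPGroup.of_equiv h1 (Subgroup.equivMapOfInjective _ A.subtype
      A.subtype_injective).symm
  · rintro ⟨x, hx⟩
    have h1 : (x : G) ∈ coreIn A (coreIn A (A ⊓ B) ⊓ coreIn B (A ⊓ B)) := ⟨x, hx, rfl⟩
    have h2 : (x : G) ∈ B :=
      coreIn_le_left _ _ ((coreIn_le_right _ _ h1).2)
    exact h2
  · rw [← coreIn_subgroupOf]
    exact hT

/-- The non-constrained case: the stabilizer has order dividing `d! ((d-1)!)^d`. -/
theorem card_stabilizer_dvd_of_not_constrained [Finite G] [FaithfulSMul G Ω] [Finite Ω]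
    (hprim : IsPreprimitive G Ω)
    (a b : Ω) (d : ℕ) (hd : Nat.card (orbit ↥(stabilizer G a) b) = d) (h2 : 2 ≤ d)
    (hnc : ∀ p : ℕ, p.Prime → Cfsg.generalizedFittingSubgroup ↥(stabilizer G a) ≠
      Cfsg.pCore p ↥(stabilizer G a)) :
    Nat.card ↥(stabilizer G a) ∣ d ! * ((d - 1)!) ^ d := by
  haveI : IsPretransitive G Ω := hprim.toIsPretransitive
  obtain ⟨hco, hcore, ⟨g, hg⟩, hne⟩ := prim_setup hprim a b d hd h2
  have hT := relIndex_T_dvd a b d hd
  have hS := relIndex_S_dvd a b d hd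
  set A := stabilizer G a with hA
  set B := stabilizer G b with hB
  by_cases hT0 : coreIn A (coreIn A (A ⊓ B) ⊓ coreIn B (A ⊓ B)) = ⊥
  · rwa [hT0, Subgroup.relIndex_bot_left] at hT
  by_cases hS0 : coreIn B (coreIn A (A ⊓ B) ⊓ coreIn B (A ⊓ B)) = ⊥
  · rwa [hS0, Subgroup.relIndex_bot_left, card_stabilizer_eq a b] at hS
  obtain ⟨p, hp, -, hF, -⟩ := thompson_wielandt hco hcore g hg hne hT0 hS0
  exact absurd hF (hnc p hp)

end Cfsg.Agent.Helper1.TW
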