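import Mathlib
import Cfsg.Agent.Helper1.TWi

set_option autoImplicit false

/-!
Knapp-type consequence: if the two-point stabilizer induces a group with trivial Fitting subgroup on
the suborbit, then the two-point stabilizer has trivial Fitting subgroup.
-/

namespace Cfsg.Agent.Helper1.TW

open scoped Nat
open MulAction

universe u

variable {G : Type u} [Group G]

theorem inf_le_normalizer_inf {X Y D : Subgroup G} (hX : D ≤ Subgroup.normalizer (X : Set G))
    (hY : D ≤ Subgroup.normalizer (Y : Set G)) : D ≤ Subgroup.normalizer ((X ⊓ Y : Subgroup G) : Set G) := by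
  intro l hl
  rw [Subgroup.mem_normalizer_iff]
  intro x
  have h1 := Subgroup.mem_normalizer_iff.1 (hX hl) x
  have h2 := Subgroup.mem_normalizer_iff.1 (hY hl) x
  constructor
  · rintro ⟨h3, h4⟩
    exact ⟨h1.1 h3, h2.1 h4⟩
  · rintro ⟨h3, h4⟩
    exact ⟨h1.2 h3, h2.2 h4⟩

/-- If `O_p(A ∩ B)` lies in the core of `A ∩ B` in `A`, it is trivial. -/
theorem opIn_inf_eq_bot [Finite G] {p : ℕ} [Fact p.Prime] {A B : Subgroup G} (hA : IsCoatom A)
    (hcore : A.normalCore = ⊥) (g : G) (hB : B = A.map (MulAut.conj g).toMonoidHom) (hne : A ≠ B)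
    (hVK : opIn p (A ⊓ B) ≤ coreIn A (A ⊓ B)) : opIn p (A ⊓ B) = ⊥ := by
  have hBc : IsCoatom B := by rw [hB]; exact isCoatom_map_conj hA g
  have hcard : Nat.card (opIn p A) = Nat.card (opIn p B) := by
    rw [card_opIn, card_opIn]
    subst hB
    exact card_pCore_congr (conjEquiv A g)
  set D := A ⊓ B with hD
  set K := coreIn A D with hK
  set V := opIn p D with hV
  set QA := opIn p A with hQA
  set QB := opIn p B with hQB
  set V' := QA ⊓ K with hV'
  have hKA : K ≤ A := coreIn_le_left _ _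
  have hKD : K ≤ D := coreIn_le_right _ _
  have hAK : A ≤ Subgroup.normalizer (K : Set G) := le_normalizer_coreIn _ _
  have hDV : D ≤ Subgroup.normalizer (V : Set G) := le_normalizer_opIn p D
  have h1 : V ≤ QA :=
    le_opIn_of_normal_normal p hKA hAK hVK (hKD.trans hDV) (opIn_isPGroup p D)
  have h2 : V ≤ V' := le_inf h1 hVK
  have hAQA : A ≤ Subgroup.normalizer (QA : Set G) := le_normalizer_opIn p A
  have hBQB : B ≤ Subgroup.normalizer (QB : Set G) := le_normalizer_opIn p B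
  have h3 : QB ⊓ A ≤ V := by
    apply le_opIn_of_normal_normal p (le_refl D) Subgroup.le_normalizer
      (le_inf inf_le_right (inf_le_left.trans (opIn_le p B)))
    · exact inf_le_normalizer_inf (inf_le_right.trans hBQB)
        (inf_le_left.trans Subgroup.le_normalizer)
    · exact (opIn_isPGroup p B).to_le inf_le_left
  by_contra hVne
  have hV'ne : V' ≠ ⊥ := by
    intro h
    rw [h, le_bot_iff] at h2
    exact hVne h2
  have h4 : A ≤ Subgroup.normalizer (V' : Set G) := inf_le_normalizer_inf hAQA hAK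
  have hV'A : V' ≤ A := inf_le_right.trans hKA
  have h5 : Subgroup.normalizer (V' : Set G) ≤ A :=
    normalizer_le_of_isCoatom hA hcore V' hV'ne hV'A h4
  have hV'B : V' ≤ B := (inf_le_right.trans hKD).trans inf_le_right
  have hV'nQB : V' ≤ Subgroup.normalizer (QB : Set G) := hV'B.trans hBQB
  have hV'p : IsPGroup p V' := (opIn_isPGroup p A).to_le inf_le_left
  set P := QB ⊔ V' with hP
  have hPp : IsPGroup p P := IsPGroup.to_sup_of_normal_left' (opIn_isPGroup p B) hV'p hV'nQB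
  have hPV' : P = V' := by
    by_contra hPne
    have hlt : V' < P := lt_of_le_of_ne le_sup_right (Ne.symm hPne)
    obtain ⟨n, hnP, hnN, hnV'⟩ := Cfsg.Agent.Helper1.exists_mem_normalizer_not_mem hPp hlt
    have hnA : n ∈ A := h5 hnN
    obtain ⟨q, hq, v, hv, hqv⟩ := Cfsg.Agent.Helper1.mem_sup_of_le_normalizer hV'nQB hnP
    have hqA : q ∈ A := by
      have e : q = n * v⁻¹ := by rw [hqv]; group
      rw [e]
      exact A.mul_mem hnA (A.inv_mem (hV'A hv))
    apply hnV'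
    rw [hqv]
    exact V'.mul_mem (h2 (h3 ⟨hq, hqA⟩)) hv
  have hQBV' : QB ≤ V' := by rw [← hPV']; exact le_sup_left
  have hQBQA : QB ≤ QA := hQBV'.trans inf_le_left
  have hEq : QB = QA := Subgroup.eq_of_le_of_card_ge hQBQA (le_of_eq hcard)
  have hQAne : QA ≠ ⊥ := by
    intro h
    apply hV'ne
    rw [hV', h, bot_inf_eq]
  have h6 : Subgroup.normalizer (QA : Set G) ≤ A :=
    normalizer_le_of_isCoatom hA hcore QA hQAne (opIn_le p A) hAQA
  have hBA : B ≤ A := by
    rw [hEq] at hBQB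
    exact hBQB.trans h6
  rcases hBc.le_iff.1 hBA with h | h
  · exact hA.1 h
  · exact hne h

variable {Ω : Type*} [MulAction G Ω]

/-- If the group induced by `G_{ab}` on the suborbit `G_a • b` has trivial Fitting subgroup, then
`O_p(G_{ab})` acts trivially on the suborbit. -/
theorem opIn_le_coreIn_of_fitting [Finite G] [Finite Ω] (a b : Ω) (p : ℕ) [Fact p.Prime]
    (hF : Cfsg.fittingSubgroup ↥(((stabilizer G b).subgroupOf (stabilizer G a)).map
      (MulAction.toPermHom ↥(stabilizer G a) ↥(orbit ↥(stabilizer G a) b))) = ⊥) :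
    opIn p (stabilizer G a ⊓ stabilizer G b) ≤
      coreIn (stabilizer G a) (stabilizer G a ⊓ stabilizer G b) := by
  set A := stabilizer G a with hA
  set B := stabilizer G b with hB
  set D := A ⊓ B with hD
  set V := opIn p D with hV
  set ff := MulAction.toPermHom ↥A ↥(orbit ↥A b) with hffdef
  set X := (B.subgroupOf A).map ff with hX
  set V₁ := (V.subgroupOf A).map ff with hV₁
  have hVD : V ≤ D := opIn_le p D
  have hDV : D ≤ Subgroup.normalizer (V : Set G) := le_normalizer_opIn p D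
  have hV₁X : V₁ ≤ X := by
    apply Subgroup.map_mono
    intro x hx
    rw [Subgroup.mem_subgroupOf] at hx ⊢
    exact (hVD hx).2
  have hVp : IsPGroup p V := opIn_isPGroup p D
  have hV₁p : IsPGroup p V₁ := (hVp.comap_subtype).map ff
  have hV₂p : IsPGroup p (V₁.subgroupOf X) := hV₁p.comap_subtype
  have hV₂n : (V₁.subgroupOf X).Normal := by
    constructor
    rintro ⟨n, hnX⟩ hn ⟨y, hyX⟩
    rw [Subgroup.mem_subgroupOf] at hn ⊢
    obtain ⟨u, hu, hun⟩ := hn
    obtain ⟨β, hβ, hβy⟩ := hyX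
    have hu : (u : G) ∈ V := Subgroup.mem_subgroupOf.1 hu
    have hβ : (β : G) ∈ B := Subgroup.mem_subgroupOf.1 hβ
    refine ⟨β * u * β⁻¹, ?_, ?_⟩
    · apply Subgroup.mem_subgroupOf.2
      have : ((β * u * β⁻¹ : ↥A) : G) = (β : G) * (u : G) * (β : G)⁻¹ := by simp
      rw [this]
      exact conj_mem_of_le_normalizer hDV ⟨β.2, hβ⟩ hu
    · change ff (β * u * β⁻¹) = y * n * y⁻¹
      have hun' : ff u = n := hun
      rw [map_mul, map_mul, map_inv, hβy, hun']
  have hV₂ : V₁.subgroupOf X = ⊥ := by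
    rw [eq_bot_iff, ← hF]
    apply le_sSup
    exact ⟨hV₂n, hV₂p.isNilpotent⟩
  have hV₁bot : V₁ = ⊥ := by
    rw [Subgroup.subgroupOf_eq_bot, disjoint_iff, inf_of_le_left hV₁X] at hV₂
    exact hV₂
  intro v hv
  have hvA : v ∈ A := (hVD hv).1
  refine mem_coreIn.2 ⟨hvA, fun m hm => ⟨A.mul_mem (A.mul_mem hm hvA) (A.inv_mem hm), ?_⟩⟩
  have h1 : ff ⟨v, hvA⟩ ∈ V₁ := ⟨⟨v, hvA⟩, Subgroup.mem_subgroupOf.2 hv, rfl⟩
  rw [hV₁bot, Subgroup.mem_bot] at h1
  have hc : m⁻¹ • b ∈ orbit ↥A b := ⟨⟨m⁻¹, A.inv_mem hm⟩, rfl⟩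
  have h2 : ff ⟨v, hvA⟩ ⟨m⁻¹ • b, hc⟩ = ⟨m⁻¹ • b, hc⟩ := by rw [h1]; rfl
  have h3 : v • (m⁻¹ • b) = m⁻¹ • b := congrArg Subtype.val h2
  show (m * v * m⁻¹) • b = b
  rw [mul_smul, mul_smul, h3, smul_inv_smul]

/-- If the group induced by `G_{ab}` on the suborbit `G_a • b` (of length `d ≥ 2`) has trivial
Fitting subgroup, then `F(G_{ab}) = 1` and `|G_a|` divides `d! ((d-1)!)^d`. -/
theorem fitting_two_point_stabilizer [Finite G] [FaithfulSMul G Ω] [Finite Ω]
    (hprim : IsPreprimitive G Ω)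
    (a b : Ω) (d : ℕ) (hd : Nat.card (orbit ↥(stabilizer G a) b) = d) (h2 : 2 ≤ d)
    (hF : Cfsg.fittingSubgroup ↥(((stabilizer G b).subgroupOf (stabilizer G a)).map
      (MulAction.toPermHom ↥(stabilizer G a) ↥(orbit ↥(stabilizer G a) b))) = ⊥) :
    Cfsg.fittingSubgroup ↥(stabilizer G a ⊓ stabilizer G b) = ⊥ ∧
      Nat.card ↥(stabilizer G a) ∣ d ! * ((d - 1)!) ^ d := by
  haveI : IsPretransitive G Ω := hprim.toIsPretransitive
  obtain ⟨hco, hcore, ⟨g, hg⟩, hne⟩ := prim_setup hprim a b d hd h2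
  have hT := relIndex_T_dvd a b d hd
  have hS := relIndex_S_dvd a b d hd
  have hV : ∀ p : ℕ, p.Prime → opIn p (stabilizer G a ⊓ stabilizer G b) = ⊥ := by
    intro p hp
    haveI : Fact p.Prime := ⟨hp⟩
    exact opIn_inf_eq_bot hco hcore g hg hne (opIn_le_coreIn_of_fitting a b p hF)
  set A := stabilizer G a with hA
  set B := stabilizer G b with hB
  refine ⟨fitting_eq_bot_of_pCore fun q hq => (opIn_eq_bot_iff q (A ⊓ B)).1 (hV q hq), ?_⟩
  by_cases hT0 : coreIn A (coreIn A (A ⊓ B) ⊓ coreIn B (A ⊓ B)) = ⊥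
  · rwa [hT0, Subgroup.relIndex_bot_left] at hT
  by_cases hS0 : coreIn B (coreIn A (A ⊓ B) ⊓ coreIn B (A ⊓ B)) = ⊥
  · rwa [hS0, Subgroup.relIndex_bot_left, card_stabilizer_eq a b] at hS
  exfalso
  obtain ⟨p, hp, -, -, hFK, -⟩ := thompson_wielandt hco hcore g hg hne hT0 hS0
  haveI : Fact p.Prime := ⟨hp⟩
  set K := coreIn A (A ⊓ B) with hK
  have hKD : K ≤ A ⊓ B := coreIn_le_right _ _
  have hDK : A ⊓ B ≤ Subgroup.normalizer (K : Set G) :=
    inf_le_left.trans (le_normalizer_coreIn _ _)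
  have h1 : opIn p K ≤ opIn p (A ⊓ B) :=
    le_opIn_of_normal_normal p hKD hDK (opIn_le p K) (le_normalizer_opIn p K) (opIn_isPGroup p K)
  rw [hV p hp, le_bot_iff, opIn_eq_bot_iff] at h1
  rw [h1] at hFK
  have hK0 : K = ⊥ := eq_bot_of_genFitting_eq_bot K hFK
  apply hT0
  rw [eq_bot_iff]
  calc coreIn A (K ⊓ coreIn B (A ⊓ B)) ≤ K ⊓ coreIn B (A ⊓ B) := coreIn_le_right _ _
    _ ≤ K := inf_le_left
    _ = ⊥ := hK0

end Cfsg.Agent.Helper1.TW
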