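import Mathlib
import Cfsg.Agent.Helper4.TPBase
import Cfsg.Agent.Lead.AschOmB

set_option autoImplicit false

/-!
# S5704 (F4): `Ω(Q)` is not contained in the Kronecker subgroup (helper1)

In the model `V = (Fin n₁ × Fin n₂ → F)` with a quadratic form `Q₂` vanishing on pure tensors and
polar form `c • f₁ ⊗ f₂` on pure tensors: a suitable Siegel transformation sends a pure tensor to a
vector that is not a pure tensor, whereas a Kronecker product matrix preserves pure tensors.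
-/

namespace Cfsg.Agent.Helper1.TensOmProp

open Module Matrix Cfsg.Geo Cfsg.Agent.Helper4.TP
open scoped Kronecker

variable {F : Type*} [Field F]

/-- the functional `w ↦ f w y` of a bilinear form. -/
def lf {n : ℕ} {f : (Fin n → F) → (Fin n → F) → F} (hf : IsBilinearForm f) (y : Fin n → F) :
    Module.Dual F (Fin n → F) :=
  IsLinearMap.mk' (fun w => f w y)
    ⟨fun a b => hf.add_left a b y, fun a b => by rw [hf.smul_left a b y, smul_eq_mul]⟩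

theorem lf_apply {n : ℕ} {f : (Fin n → F) → (Fin n → F) → F} (hf : IsBilinearForm f)
    (y w : Fin n → F) : lf hf y w = f w y := rfl

theorem exists_single_ne_zero {n : ℕ} (hn : 1 ≤ n) : ∃ w : Fin n → F, w ≠ 0 := by
  refine ⟨Pi.single (⟨0, hn⟩ : Fin n) (1 : F), fun h => ?_⟩
  have h1 := congrFun h ⟨0, hn⟩
  rw [Pi.single_eq_same, Pi.zero_apply] at h1
  exact one_ne_zero h1

/-- in dimension at least three, two linear conditions have a nonzero common solution. -/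
theorem exists_perp_two {n : ℕ} (hn : 3 ≤ n) {f : (Fin n → F) → (Fin n → F) → F}
    (hf : IsBilinearForm f) (y₁ y₂ : Fin n → F) :
    ∃ w : Fin n → F, w ≠ 0 ∧ f w y₁ = 0 ∧ f w y₂ = 0 := by
  obtain ⟨φ, hφ⟩ : ∃ φ : (Fin n → F) →ₗ[F] (Fin 2 → F),
      φ = LinearMap.pi ![lf hf y₁, lf hf y₂] := ⟨_, rfl⟩
  have hker : LinearMap.ker φ ≠ ⊥ := by
    apply LinearMap.ker_ne_bot_of_finrank_lt
    rw [Module.finrank_fin_fun, Module.finrank_fin_fun]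
    omega
  obtain ⟨w, hw, hw0⟩ := Submodule.exists_mem_ne_zero_of_ne_bot hker
  rw [LinearMap.mem_ker] at hw
  refine ⟨w, hw0, ?_, ?_⟩
  · have h := congrFun hw 0
    rw [hφ, LinearMap.pi_apply] at h
    exact h
  · have h := congrFun hw 1
    rw [hφ, LinearMap.pi_apply] at h
    exact h

theorem not_le_kronecker [Fintype F] {n₁ n₂ : ℕ} (h1 : 2 ≤ n₁) (h2 : 3 ≤ n₂)
    (Q₂ : (Fin n₁ × Fin n₂ → F) → F) (hQ₂ : Cfsg.Geo.IsNondegenerateQuadraticForm Q₂)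
    (f₁ : (Fin n₁ → F) → (Fin n₁ → F) → F) (f₂ : (Fin n₂ → F) → (Fin n₂ → F) → F)
    (hf₁ : Cfsg.Geo.IsSymplecticForm f₁) (hf₂ : Cfsg.Geo.IsSymplecticForm f₂) {c : F} (hc : c ≠ 0)
    (hpure : ∀ u w, Q₂ (Cfsg.Agent.Helper4.TP.tmul u w) = 0)
    (hpol : ∀ u w u' w', QuadraticMap.polar Q₂ (Cfsg.Agent.Helper4.TP.tmul u w)
      (Cfsg.Agent.Helper4.TP.tmul u' w') = c * (f₁ u u' * f₂ w w')) :
    ¬ Cfsg.Geo.omegaGL Q₂ ≤ Cfsg.Geo.kroneckerSubgroup n₁ n₂ F := by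
  intro hle
  have hb₁ := hf₁.bilinear
  have hb₂ := hf₂.bilinear
  -- the vectors
  obtain ⟨u₁, hu₁⟩ := exists_single_ne_zero (F := F) (n := n₁) (by omega)
  obtain ⟨u₂, hu₁₂⟩ := (hf₁.nondegenerate u₁ hu₁).2
  obtain ⟨w₁, hw₁⟩ := exists_single_ne_zero (F := F) (n := n₂) (by omega)
  obtain ⟨w', hμ⟩ := (hf₂.nondegenerate w₁ hw₁).2
  obtain ⟨w₂, hw₂, hw₂₁, hw₂'⟩ := exists_perp_two h2 hb₂ w₁ w'
  obtain ⟨w'', hν⟩ := (hf₂.nondegenerate w₂ hw₂).2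
  have hw₁₂ : f₂ w₁ w₂ = 0 := by rw [hf₂.skew, hw₂₁, neg_zero]
  have hw'₂ : f₂ w' w₂ = 0 := by rw [hf₂.skew, hw₂', neg_zero]
  -- the Siegel element
  have h5 : 5 ≤ Fintype.card (Fin n₁ × Fin n₂) := by
    rw [Fintype.card_prod, Fintype.card_fin, Fintype.card_fin]
    have := Nat.mul_le_mul h1 h2
    omega
  have hx : Q₂ (tmul u₂ w') = 0 := hpure _ _
  have hxy : QuadraticMap.polar Q₂ (tmul u₂ w') (tmul u₂ w₂) = 0 := by
    rw [hpol, hf₁.alternating, zero_mul, mul_zero]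
  obtain ⟨g, hg, hgx⟩ := Cfsg.Agent.Lead.AschOm.siegel_mem_omegaGL h5 Q₂ hQ₂ (tmul u₂ w') (tmul u₂ w₂) hx hxy
  obtain ⟨a, b, hab⟩ := hle hg
  have hz := hgx (tmul u₁ w₁)
  rw [hab, kronecker_mulVec_tmul, hpol, hpol, hpure, hw₁₂] at hz
  obtain ⟨A, hA⟩ : ∃ A : Fin n₁ → F, A = (a : Matrix (Fin n₁) (Fin n₁) F) *ᵥ u₁ := ⟨_, rfl⟩
  obtain ⟨B, hB⟩ : ∃ B : Fin n₂ → F, B = (b : Matrix (Fin n₂) (Fin n₂) F) *ᵥ w₁ := ⟨_, rfl⟩
  rw [← hA, ← hB] at hz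
  obtain ⟨l, hl⟩ : ∃ l : F, l = c * (f₁ u₁ u₂ * f₂ w₁ w') := ⟨_, rfl⟩
  have hl0 : l ≠ 0 := by
    rw [hl]
    exact mul_ne_zero hc (mul_ne_zero hu₁₂ hμ)
  rw [← hl] at hz
  have hz' : tmul A B = tmul u₁ w₁ - l • tmul u₂ w₂ := by
    rw [hz]
    simp
  -- contractions
  have hcon : ∀ β : Module.Dual F (Fin n₂ → F), β B • A = β w₁ • u₁ - l • (β w₂ • u₂) := by
    intro β
    have h := congrArg (con β) hz'
    rw [map_sub, map_smul, con_tmul, con_tmul, con_tmul] at h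
    exact h
  have e1 := hcon (lf hb₂ w')
  have e2 := hcon (lf hb₂ w'')
  rw [lf_apply, lf_apply, lf_apply, hw₂', zero_smul, smul_zero, sub_zero] at e1
  rw [lf_apply, lf_apply, lf_apply] at e2
  -- evaluate `f₁`
  have e3 : f₁ (f₂ B w' • A) (f₂ B w'' • A) = 0 := by
    rw [hb₁.smul_left, hb₁.smul_right, hf₁.alternating, mul_zero, mul_zero]
  have e4 : f₂ w₁ w'' • u₁ - l • (f₂ w₂ w'' • u₂)
      = f₂ w₁ w'' • u₁ + (-(l * f₂ w₂ w'')) • u₂ := by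
    rw [neg_smul, smul_smul, sub_eq_add_neg]
  rw [e1, e2, e4, hb₁.smul_left, hb₁.add_right, hb₁.smul_right, hb₁.smul_right, hf₁.alternating] at e3
  have e5 : f₂ w₁ w' * (l * f₂ w₂ w'' * f₁ u₁ u₂) = 0 := by linear_combination -e3
  exact mul_ne_zero hμ (mul_ne_zero (mul_ne_zero hl0 hν) hu₁₂) e5

end Cfsg.Agent.Helper1.TensOmProp
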