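import Mathlib
import Cfsg.Agent.Helper8.SiegelGroup

set_option autoImplicit false

/-!
# S5704 (F-root): `t_v(c) ⊗ 1` is a product of Siegel transformations (helper1)

Abstract setting: a bilinear `t : U → W → V`, a quadratic form `Q` on `V` vanishing on the pure
tensors with polar form `f₁ ⊗ f₂` on pure tensors, `f₁, f₂` alternating, `f₂` nondegenerate.
Then the symplectic transvection `u ↦ u + c f₁(u, v) v` tensor the identity is induced (on pure
tensors) by an element of the Siegel group of `Q`.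
-/

namespace Cfsg.Agent.Helper1.TensOmRoot

open Module Cfsg.Agent.Helper8.OrthOrder Cfsg.Agent.Helper8.Siegel Cfsg.Agent.Helper8.SiegelGroup

variable {F : Type*} [Field F] {U W V : Type*} [AddCommGroup U] [Module F U]
  [AddCommGroup W] [Module F W] [AddCommGroup V] [Module F V]

/-- the rank-two map `w ↦ f₂(w, z₀) w₀ - f₂(w, w₀) z₀`. -/
noncomputable def piS (f₂ : LinearMap.BilinForm F W) (w₀ z₀ : W) : W →ₗ[F] W :=
  (LinearMap.flip f₂ z₀).smulRight w₀ - (LinearMap.flip f₂ w₀).smulRight z₀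

theorem piS_apply (f₂ : LinearMap.BilinForm F W) (w₀ z₀ w : W) :
    piS f₂ w₀ z₀ w = f₂ w z₀ • w₀ - f₂ w w₀ • z₀ := rfl

/-- one Siegel step. -/
theorem siegel_step (t : U →ₗ[F] W →ₗ[F] V) (Q : QuadraticForm F V)
    (f₁ : LinearMap.BilinForm F U) (f₂ : LinearMap.BilinForm F W)
    (alt₁ : ∀ u, f₁ u u = 0) (pure : ∀ u w, Q (t u w) = 0)
    (pol : ∀ u w u' w', QuadraticMap.polar Q (t u w) (t u' w') = f₁ u u' * f₂ w w')
    (v : U) (c : F) (w₀ z₀ : W) :
    siegG Q (t v w₀) (c • t v z₀) ∈ SG Q ∧ ∀ u w,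
      ((siegG Q (t v w₀) (c • t v z₀) : ↥(Isom Q)) : V ≃ₗ[F] V) (t u w)
        = t u w + (c * f₁ u v) • t v (piS f₂ w₀ z₀ w) := by
  have hx : Q (t v w₀) = 0 := pure v w₀
  have hxy : QuadraticMap.polar Q (t v w₀) (c • t v z₀) = 0 := by
    rw [QuadraticMap.polar_smul_right, pol, alt₁, zero_mul, smul_zero]
  refine ⟨siegG_mem_SG Q hx hxy, fun u w => ?_⟩
  rw [siegG_val, siegE_apply Q hx hxy, sieg_apply, QuadraticMap.polar_smul_right, pol, pol,
    QuadraticMap.map_smul, pure, piS_apply, map_sub, map_smul, map_smul]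
  simp only [smul_eq_mul, mul_zero, zero_mul, zero_smul, sub_zero]
  module

theorem exists_SG_rootA [FiniteDimensional F W]
    (t : U →ₗ[F] W →ₗ[F] V) (Q : QuadraticForm F V) (f₁ : LinearMap.BilinForm F U)
    (f₂ : LinearMap.BilinForm F W)
    (alt₁ : ∀ u, f₁ u u = 0) (alt₂ : ∀ w, f₂ w w = 0) (nd₂ : ∀ w, (∀ y, f₂ w y = 0) → w = 0)
    (pure : ∀ u w, Q (t u w) = 0)
    (pol : ∀ u w u' w', QuadraticMap.polar Q (t u w) (t u' w') = f₁ u u' * f₂ w w') (v : U) (c : F) :
    ∃ g ∈ Cfsg.Agent.Helper8.SiegelGroup.SG Q, ∀ u w,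
      ((g : ↥(Cfsg.Agent.Helper8.OrthOrder.Isom Q)) : V ≃ₗ[F] V) (t u w)
        = t (u + (c * f₁ u v) • v) w := by
  have skew : ∀ x y, f₂ x y = - f₂ y x := by
    intro x y
    have h := alt₂ (x + y)
    simp only [map_add, LinearMap.add_apply, alt₂, zero_add, add_zero] at h
    linear_combination h
  -- the induction over nondegenerate subspaces of `W`
  have key : ∀ n : ℕ, ∀ K : Submodule F W, finrank F K = n →
      (∀ x ∈ K, (∀ y ∈ K, f₂ x y = 0) → x = 0) →
      ∃ g ∈ SG Q, ∃ π : W →ₗ[F] W,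
        (∀ u w, ((g : ↥(Isom Q)) : V ≃ₗ[F] V) (t u w) = t u w + (c * f₁ u v) • t v (π w)) ∧
        (∀ w ∈ K, π w = w) ∧ (∀ w, (∀ y ∈ K, f₂ w y = 0) → π w = 0) := by
    intro n
    induction n using Nat.strong_induction_on with
    | _ n ih =>
      intro K hKn hKnd
      by_cases hK0 : K = ⊥
      · refine ⟨1, (SG Q).one_mem, 0, fun u w => ?_, fun w hw => ?_, fun w _ => rfl⟩
        · rw [LinearMap.zero_apply, map_zero, smul_zero, add_zero]
          rfl
        · rw [hK0, Submodule.mem_bot] at hw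
          rw [hw, map_zero]
      · obtain ⟨w₀, hw₀K, hw₀⟩ := Submodule.exists_mem_ne_zero_of_ne_bot hK0
        have hex : ∃ y ∈ K, f₂ w₀ y ≠ 0 := by
          by_contra hcon
          push Not at hcon
          exact hw₀ (hKnd w₀ hw₀K hcon)
        obtain ⟨y₀, hy₀K, hy₀⟩ := hex
        obtain ⟨z₀, hz₀⟩ : ∃ z₀ : W, z₀ = (f₂ w₀ y₀)⁻¹ • y₀ := ⟨_, rfl⟩
        have hz₀K : z₀ ∈ K := by rw [hz₀]; exact K.smul_mem _ hy₀K
        have hwz : f₂ w₀ z₀ = 1 := by
          rw [hz₀, map_smul, smul_eq_mul, inv_mul_cancel₀ hy₀]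
        have hzw : f₂ z₀ w₀ = -1 := by rw [skew, hwz]
        obtain ⟨K', hK'⟩ : ∃ K' : Submodule F W,
            K' = K ⊓ LinearMap.ker (LinearMap.flip f₂ w₀) ⊓ LinearMap.ker (LinearMap.flip f₂ z₀) :=
          ⟨_, rfl⟩
        have memK' : ∀ x, x ∈ K' ↔ x ∈ K ∧ f₂ x w₀ = 0 ∧ f₂ x z₀ = 0 := by
          intro x
          rw [hK', Submodule.mem_inf, Submodule.mem_inf, LinearMap.mem_ker, LinearMap.mem_ker,
            LinearMap.flip_apply, LinearMap.flip_apply, and_assoc]
        have hK'K : K' ≤ K := fun x hx => ((memK' x).mp hx).1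
        have hlt : K' < K := by
          refine lt_of_le_of_ne hK'K ?_
          intro heq
          have h1 : w₀ ∈ K' := by rw [heq]; exact hw₀K
          have h2 := ((memK' w₀).mp h1).2.2
          rw [hwz] at h2
          exact one_ne_zero h2
        have hrk : finrank F K' < n := by
          rw [← hKn]
          exact Submodule.finrank_lt_finrank_of_lt hlt
        -- the projection of `K` onto `K'`
        have hproj : ∀ y ∈ K, y - piS f₂ w₀ z₀ y ∈ K' := by
          intro y hy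
          rw [memK', piS_apply]
          refine ⟨K.sub_mem hy (K.sub_mem (K.smul_mem _ hw₀K) (K.smul_mem _ hz₀K)), ?_, ?_⟩
          · rw [map_sub, map_sub, map_smul, map_smul, LinearMap.sub_apply, LinearMap.sub_apply,
              LinearMap.smul_apply, LinearMap.smul_apply, alt₂, hzw]
            simp
          · rw [map_sub, map_sub, map_smul, map_smul, LinearMap.sub_apply, LinearMap.sub_apply,
              LinearMap.smul_apply, LinearMap.smul_apply, alt₂, hwz]
            simp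
        have hK'nd : ∀ x ∈ K', (∀ y ∈ K', f₂ x y = 0) → x = 0 := by
          intro x hx hxy
          obtain ⟨hxK, hxw, hxz⟩ := (memK' x).mp hx
          refine hKnd x hxK (fun y hy => ?_)
          have h1 := hxy _ (hproj y hy)
          rw [piS_apply, map_sub, map_sub, map_smul, map_smul, hxw, hxz] at h1
          simpa using h1
        obtain ⟨g', hg', π', hgπ', hπ'K, hπ'perp⟩ := ih _ hrk K' rfl hK'nd
        obtain ⟨hs, hsact⟩ := siegel_step t Q f₁ f₂ alt₁ pure pol v c w₀ z₀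
        refine ⟨g' * siegG Q (t v w₀) (c • t v z₀), (SG Q).mul_mem hg' hs,
          π' + piS f₂ w₀ z₀, fun u w => ?_, fun w hw => ?_, fun w hw => ?_⟩
        · rw [Subgroup.coe_mul, LinearEquiv.mul_apply, hsact, map_add, map_smul, hgπ', hgπ', alt₁,
            mul_zero, zero_smul, add_zero, LinearMap.add_apply, map_add, smul_add, add_assoc]
        · -- `π' w = w - piS w`
          have h1 : π' (w - piS f₂ w₀ z₀ w) = w - piS f₂ w₀ z₀ w := hπ'K _ (hproj w hw)
          have h2 : π' (piS f₂ w₀ z₀ w) = 0 := by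
            apply hπ'perp
            intro y hy
            obtain ⟨_, hyw, hyz⟩ := (memK' y).mp hy
            rw [piS_apply, map_sub, map_smul, map_smul, LinearMap.sub_apply,
              LinearMap.smul_apply, LinearMap.smul_apply, skew w₀ y, skew z₀ y, hyw, hyz]
            simp
          rw [map_sub, h2, sub_zero] at h1
          rw [LinearMap.add_apply, h1, sub_add_cancel]
        · have h1 : π' w = 0 := hπ'perp w (fun y hy => hw y (hK'K hy))
          rw [LinearMap.add_apply, h1, piS_apply, hw z₀ hz₀K, hw w₀ hw₀K]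
          simp
  obtain ⟨g, hg, π, hgπ, hπ, -⟩ := key _ ⊤ rfl (fun x _ hx => nd₂ x (fun y => hx y trivial))
  refine ⟨g, hg, fun u w => ?_⟩
  rw [hgπ, hπ w trivial, map_add, map_smul, LinearMap.add_apply, LinearMap.smul_apply]

/-- the flipped version: `1 ⊗ t_z(c)` is a product of Siegel transformations. -/
theorem exists_SG_rootB [FiniteDimensional F U]
    (t : U →ₗ[F] W →ₗ[F] V) (Q : QuadraticForm F V) (f₁ : LinearMap.BilinForm F U)
    (f₂ : LinearMap.BilinForm F W)
    (alt₁ : ∀ u, f₁ u u = 0) (alt₂ : ∀ w, f₂ w w = 0) (nd₁ : ∀ u, (∀ y, f₁ u y = 0) → u = 0)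
    (pure : ∀ u w, Q (t u w) = 0)
    (pol : ∀ u w u' w', QuadraticMap.polar Q (t u w) (t u' w') = f₁ u u' * f₂ w w') (z : W) (c : F) :
    ∃ g ∈ Cfsg.Agent.Helper8.SiegelGroup.SG Q, ∀ u w,
      ((g : ↥(Cfsg.Agent.Helper8.OrthOrder.Isom Q)) : V ≃ₗ[F] V) (t u w)
        = t u (w + (c * f₂ w z) • z) := by
  obtain ⟨g, hg, h⟩ := exists_SG_rootA (LinearMap.flip t) Q f₂ f₁ alt₂ alt₁ nd₁
    (fun w u => by rw [LinearMap.flip_apply]; exact pure u w)
    (fun w u w' u' => by rw [LinearMap.flip_apply, LinearMap.flip_apply, pol, mul_comm]) z c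
  refine ⟨g, hg, fun u w => ?_⟩
  have h1 := h w u
  rw [LinearMap.flip_apply, LinearMap.flip_apply] at h1
  exact h1

end Cfsg.Agent.Helper1.TensOmRoot
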