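import Mathlib
import Cfsg.Agent.Helper8.TensSA

set_option autoImplicit false
set_option linter.unusedSectionVars false
set_option linter.unusedVariables false

/-!
# S5704 Leaf D (R3a): the rank count (helper1)

If `z` acts on `U ⊗ w₀^⊥` modulo `U ⊗ w₀` as `1 ⊗ B₀` and `rank (z - 1) = dim U`, then
`(B₀ - 1) w₀^⊥` has dimension at most one modulo `w₀`.
-/

namespace Cfsg.Agent.Helper1.TensSDRank

open Module Cfsg.Agent.Helper8.Tens

variable {F : Type*} [Field F] {U W V : Type*} [AddCommGroup U] [Module F U]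
  [AddCommGroup W] [Module F W] [AddCommGroup V] [Module F V]
  {t : U →ₗ[F] W →ₗ[F] V} {f₂ : LinearMap.BilinForm F W}
  [FiniteDimensional F U] [FiniteDimensional F W] [FiniteDimensional F V]

/-- three vectors without a nontrivial linear relation admit dual functionals. -/
theorem exists_duals {d₁ d₂ w₀ : W}
    (hind : ∀ a b c : F, a • d₁ + b • d₂ + c • w₀ = 0 → a = 0 ∧ b = 0 ∧ c = 0) :
    ∃ l₁ l₂ : Module.Dual F W, l₁ d₁ = 1 ∧ l₁ d₂ = 0 ∧ l₁ w₀ = 0 ∧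
      l₂ d₁ = 0 ∧ l₂ d₂ = 1 ∧ l₂ w₀ = 0 := by
  obtain ⟨Φ, hΦ⟩ : ∃ Φ : (Fin 3 → F) →ₗ[F] W,
      Φ = (LinearMap.proj 0 : (Fin 3 → F) →ₗ[F] F).smulRight d₁
        + (LinearMap.proj 1 : (Fin 3 → F) →ₗ[F] F).smulRight d₂
        + (LinearMap.proj 2 : (Fin 3 → F) →ₗ[F] F).smulRight w₀ := ⟨_, rfl⟩
  have hΦa : ∀ g : Fin 3 → F, Φ g = g 0 • d₁ + g 1 • d₂ + g 2 • w₀ := by
    intro g
    rw [hΦ]
    rfl
  have hker : LinearMap.ker Φ = ⊥ := by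
    rw [LinearMap.ker_eq_bot']
    intro g hg
    rw [hΦa] at hg
    obtain ⟨h0, h1, h2⟩ := hind _ _ _ hg
    ext i
    fin_cases i
    · exact h0
    · exact h1
    · exact h2
  obtain ⟨ψ, hψ⟩ := LinearMap.exists_leftInverse_of_injective Φ hker
  have hψa : ∀ g, ψ (Φ g) = g := fun g => LinearMap.congr_fun hψ g
  have e1 : Φ ![1, 0, 0] = d₁ := by
    rw [hΦa]
    simp
  have e2 : Φ ![0, 1, 0] = d₂ := by
    rw [hΦa]
    simp
  have e3 : Φ ![0, 0, 1] = w₀ := by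
    rw [hΦa]
    simp
  refine ⟨(LinearMap.proj 0 : (Fin 3 → F) →ₗ[F] F) ∘ₗ ψ,
    (LinearMap.proj 1 : (Fin 3 → F) →ₗ[F] F) ∘ₗ ψ, ?_, ?_, ?_, ?_, ?_, ?_⟩
  · rw [LinearMap.comp_apply, ← e1, hψa]; rfl
  · rw [LinearMap.comp_apply, ← e2, hψa]; rfl
  · rw [LinearMap.comp_apply, ← e3, hψa]; rfl
  · rw [LinearMap.comp_apply, ← e1, hψa]; rfl
  · rw [LinearMap.comp_apply, ← e2, hψa]; rfl
  · rw [LinearMap.comp_apply, ← e3, hψa]; rfl

theorem dep_of_rank (ht : IsTensorProduct t) (hU : 1 ≤ finrank F U) {z : V ≃ₗ[F] V}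
    (hr : finrank F ↥(disp z) = finrank F U) {w₀ : W} (hw₀ : w₀ ≠ 0) {B₀ : W →ₗ[F] W}
    (hC1 : ∀ u w, f₂ w w₀ = 0 → z (t u w) - t u (B₀ w) ∈ fib t w₀)
    {w₁ w₂ : W} (h1 : f₂ w₁ w₀ = 0) (h2 : f₂ w₂ w₀ = 0) :
    ∃ a b c : F, (a, b, c) ≠ (0, 0, 0) ∧ a • (B₀ w₁ - w₁) + b • (B₀ w₂ - w₂) + c • w₀ = 0 := by
  by_contra hcon
  push Not at hcon
  have hind : ∀ a b c : F, a • (B₀ w₁ - w₁) + b • (B₀ w₂ - w₂) + c • w₀ = 0 →
      a = 0 ∧ b = 0 ∧ c = 0 := by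
    intro a b c habc
    by_contra hne
    refine hcon a b c (fun h => hne ?_) habc
    rw [Prod.mk.injEq, Prod.mk.injEq] at h
    exact h
  obtain ⟨l₁, l₂, h11, h12, h10, h21, h22, h20⟩ := exists_duals hind
  -- the map `U × U → disp z`
  obtain ⟨φ, hφ⟩ : ∃ φ : (U × U) →ₗ[F] V,
      φ = ((z : V →ₗ[F] V) - 1) ∘ₗ ((t.flip w₁) ∘ₗ LinearMap.fst F U U
        + (t.flip w₂) ∘ₗ LinearMap.snd F U U) := ⟨_, rfl⟩
  have hφa : ∀ p : U × U, φ p = z (t p.1 w₁ + t p.2 w₂) - (t p.1 w₁ + t p.2 w₂) := by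
    intro p
    rw [hφ]
    rfl
  have hev : ∀ (l : Module.Dual F W), l w₀ = 0 → ∀ p : U × U,
      ev ht l (φ p) = l (B₀ w₁ - w₁) • p.1 + l (B₀ w₂ - w₂) • p.2 := by
    intro l hl p
    have e : φ p = (z (t p.1 w₁) - t p.1 (B₀ w₁)) + (z (t p.2 w₂) - t p.2 (B₀ w₂))
        + t p.1 (B₀ w₁ - w₁) + t p.2 (B₀ w₂ - w₂) := by
      rw [hφa, map_add, map_sub, map_sub]
      abel
    rw [e, map_add, map_add, map_add, ev_eq_zero_of_mem_fib ht hl (hC1 _ _ h1),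
      ev_eq_zero_of_mem_fib ht hl (hC1 _ _ h2), ev_t, ev_t, zero_add, zero_add]
  have hinj : Function.Injective φ := by
    rw [← LinearMap.ker_eq_bot, LinearMap.ker_eq_bot']
    intro p hp
    have q1 := hev l₁ h10 p
    have q2 := hev l₂ h20 p
    rw [hp, map_zero, h11, h12, one_smul, zero_smul, add_zero] at q1
    rw [hp, map_zero, h21, h22, one_smul, zero_smul, zero_add] at q2
    exact Prod.ext q1.symm q2.symm
  have hrange : LinearMap.range φ ≤ disp z := by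
    rintro v ⟨p, rfl⟩
    rw [mem_disp]
    exact ⟨t p.1 w₁ + t p.2 w₂, (hφa p).symm⟩
  have hfr := LinearMap.finrank_range_of_inj hinj
  have hle := Submodule.finrank_mono hrange
  rw [hfr, Module.finrank_prod, hr] at hle
  omega

end Cfsg.Agent.Helper1.TensSDRank
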