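import Cfsg.Agent.Helper8.TensSG

set_option autoImplicit false
set_option linter.unusedSectionVars false
set_option linter.unusedVariables false

/-! S5704 Leaf F (F-e) (helper1): moving the elements `θ = 1 + κ (u ∨ u') ⊗ (w ∧ z)` by root
elements of the two factors. -/

namespace Cfsg.Agent.Helper8.Tens

open Module Cfsg.Agent.Helper7.ExtF Cfsg.Agent.Helper8.OrthOrder Cfsg.Agent.Helper3.TensOm
  Cfsg.Agent.Helper8.SiegelGroup

variable {F : Type*} [Field F] {U W V : Type*} [AddCommGroup U] [Module F U]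
  [AddCommGroup W] [Module F W] [AddCommGroup V] [Module F V]
  {t : U →ₗ[F] W →ₗ[F] V} {Q : QuadraticForm F V} {f₁ : LinearMap.BilinForm F U}
  {f₂ : LinearMap.BilinForm F W} {M : Subgroup ↥(Isom Q)}

theorem theta_swap (ht : IsTensorProduct t) (halt₁ : ∀ u, f₁ u u = 0) (halt₂ : ∀ w, f₂ w w = 0)
    {u u' : U} {w z : W} (hu : f₁ u u' = 0) (hw : f₂ w z = 0) (hw' : f₂ z w = 0) (κ : F) :
    theta ht halt₁ halt₂ hu hw κ = theta ht halt₁ halt₂ hu hw' (-κ) := by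
  apply equiv_ext_pure ht
  intro e x
  have e1 : av f₂ z w x = - av f₂ w z x := by
    rw [av_apply, av_apply, neg_sub]
  rw [theta_t, theta_t, e1, map_neg, smul_neg, neg_smul, neg_neg]

/-- conjugating `θ(u, u₁; w, z)` by a root element of the first factor. -/
theorem theta_conj_U (ht : IsTensorProduct t) (halt₁ : ∀ u, f₁ u u = 0)
    (halt₂ : ∀ w, f₂ w w = 0) {u u₁ u₂ : U} {w z : W} (hu₁ : f₁ u u₁ = 0) (hu₂ : f₁ u u₂ = 0)
    (hw : f₂ w z = 0) {c : F} (hc : c * f₁ u₁ u₂ = 1) (κ : F) :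
    theta ht halt₁ halt₂ hu₂ hw κ
      = yA ht f₁ halt₁ u₂ c * theta ht halt₁ halt₂ hu₁ hw κ * (yA ht f₁ halt₁ u₂ c)⁻¹
        * theta ht halt₁ halt₂ hu₁ hw (-κ) := by
  apply equiv_ext_pure ht
  intro e x
  have hDD : av f₂ w z (av f₂ w z x) = 0 := by
    have := LinearMap.congr_fun (av_sq halt₂ hw) x
    simpa using this
  have hconj : ∀ e : U, Tv f₁ u₂ c (sv f₁ u u₁ (Tv f₁ u₂ (-c) e))
      = sv f₁ u u₁ e + sv f₁ u u₂ e := by
    intro e
    have h1 := LinearMap.congr_fun (Tv_conj_sv halt₁ u₂ c u u₁) e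
    rw [Module.End.mul_apply, Module.End.mul_apply] at h1
    rw [h1, Tv_apply, Tv_apply, hu₂, mul_zero, zero_smul, add_zero, hc, one_smul, sv_apply,
      sv_apply, sv_apply, map_add, add_smul, smul_add]
    abel
  rw [LinearEquiv.mul_apply, LinearEquiv.mul_apply, LinearEquiv.mul_apply, theta_t, theta_t,
    map_add, map_smul, yA_inv_t, yA_inv_t, map_add, map_smul, theta_t, theta_t, hDD, map_zero,
    smul_zero, add_zero, map_add, map_add, map_smul, map_smul, yA_t', yA_t', yA_t',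
    Tv_Tv_neg halt₁, Tv_Tv_neg halt₁, hconj, map_add, LinearMap.add_apply]
  module

/-- conjugating `θ(u, u'; w, z)` by a root element of the second factor. -/
theorem theta_conj_W (ht : IsTensorProduct t) (halt₁ : ∀ u, f₁ u u = 0)
    (halt₂ : ∀ w, f₂ w w = 0) {u u' : U} {w w' z : W} (hu : f₁ u u' = 0)
    (hw : f₂ w z = 0) (hw' : f₂ w' z = 0) {c : F} (hc : c * f₂ w w' = 1) (κ : F) :
    theta ht halt₁ halt₂ hu hw' κ
      = yB ht f₂ halt₂ w' c * theta ht halt₁ halt₂ hu hw κ * (yB ht f₂ halt₂ w' c)⁻¹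
        * theta ht halt₁ halt₂ hu hw (-κ) := by
  apply equiv_ext_pure ht
  intro e x
  have hSS : ∀ e : U, sv f₁ u u' (sv f₁ u u' e) = 0 := by
    intro e
    have := LinearMap.congr_fun (sv_sq halt₁ hu) e
    simpa using this
  have hzw' : f₂ z w' = 0 := alt_perp_symm f₂ halt₂ hw'
  have hconj : ∀ x : W, Tv f₂ w' c (av f₂ w z (Tv f₂ w' (-c) x))
      = av f₂ w z x + av f₂ w' z x := by
    intro x
    have h1 := LinearMap.congr_fun (Tv_conj_av halt₂ w' c w z) x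
    rw [Module.End.mul_apply, Module.End.mul_apply] at h1
    rw [h1, Tv_apply, Tv_apply, hzw', mul_zero, zero_smul, add_zero, hc, one_smul, av_apply,
      av_apply, av_apply, map_add, add_smul, smul_add]
    abel
  rw [LinearEquiv.mul_apply, LinearEquiv.mul_apply, LinearEquiv.mul_apply, theta_t, theta_t,
    map_add, map_smul, yB_inv_t, yB_inv_t, map_add, map_smul, theta_t, theta_t, hSS, map_zero,
    LinearMap.zero_apply, smul_zero, add_zero, map_add, map_add, map_smul, map_smul, yB_t',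
    yB_t', yB_t', Tv_Tv_neg halt₂, Tv_Tv_neg halt₂, hconj, map_add]
  module

theorem theta_move_U (ht : IsTensorProduct t) (h : Hyp t Q f₁ f₂ M) {u u₁ u₂ : U} {w z : W}
    (hu₁ : f₁ u u₁ = 0) (hu₂ : f₁ u u₂ = 0) (hw : f₂ w z = 0) (h12 : f₁ u₁ u₂ ≠ 0)
    (hθ : ∀ κ, theta ht h.alt₁ h.alt₂ hu₁ hw κ ∈ XM M) :
    ∀ κ, theta ht h.alt₁ h.alt₂ hu₂ hw κ ∈ XM M := by
  intro κ
  rw [theta_conj_U ht h.alt₁ h.alt₂ hu₁ hu₂ hw (inv_mul_cancel₀ h12) κ]
  have hy := yA_mem ht h u₂ (f₁ u₁ u₂)⁻¹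
  exact (XM M).mul_mem ((XM M).mul_mem ((XM M).mul_mem hy (hθ κ)) ((XM M).inv_mem hy)) (hθ (-κ))

theorem theta_move_W (ht : IsTensorProduct t) (h : Hyp t Q f₁ f₂ M) {u u' : U} {w w' z : W}
    (hu : f₁ u u' = 0) (hw : f₂ w z = 0) (hw' : f₂ w' z = 0) (hww' : f₂ w w' ≠ 0)
    (hθ : ∀ κ, theta ht h.alt₁ h.alt₂ hu hw κ ∈ XM M) :
    ∀ κ, theta ht h.alt₁ h.alt₂ hu hw' κ ∈ XM M := by
  intro κ
  rw [theta_conj_W ht h.alt₁ h.alt₂ hu hw hw' (inv_mul_cancel₀ hww') κ]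
  have hy := yB_mem ht h w' (f₂ w w')⁻¹
  exact (XM M).mul_mem ((XM M).mul_mem ((XM M).mul_mem hy (hθ κ)) ((XM M).inv_mem hy)) (hθ (-κ))

end Cfsg.Agent.Helper8.Tens
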