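import Cfsg.Agent.Helper8.TensSG

set_option autoImplicit false
set_option linter.unusedSectionVars false
set_option linter.unusedVariables false

/-! S5704 Leaf F (F-a) (helper1, independent attempt): a component `C` with `f₁ (C u) u ≠ 0`
(over a field with more than two elements) gives a Siegel element, hence `SG Q ≤ M`. -/

namespace Cfsg.Agent.Helper1.TensSMuC

open Module Cfsg.Agent.Helper7.ExtF Cfsg.Agent.Helper8.OrthOrder Cfsg.Agent.Helper3.TensOm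
  Cfsg.Agent.Helper8.SiegelGroup Cfsg.Agent.Helper8.Siegel Cfsg.Agent.Helper8.ExtO
  Cfsg.Agent.Helper8.Tens

variable {F : Type*} [Field F] {U W V : Type*} [AddCommGroup U] [Module F U]
  [AddCommGroup W] [Module F W] [AddCommGroup V] [Module F V]
  {t : U →ₗ[F] W →ₗ[F] V} {Q : QuadraticForm F V} {f₁ : LinearMap.BilinForm F U}
  {f₂ : LinearMap.BilinForm F W} {M : Subgroup ↥(Isom Q)}

/-- the explicit elements `Xi` lie in the radical. -/
theorem Xi_inRS (ht : IsTensorProduct t) (halt₂ : ∀ w, f₂ w w = 0) (C C' : Module.End F U)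
    {w₀ z : W} (hz : f₂ z w₀ = 0) (c : F) : InRS t f₂ w₀ (Xi ht halt₂ C C' hz c) := by
  have hz' : f₂ w₀ z = 0 := alt_perp_symm f₂ halt₂ hz
  refine ⟨fun u => ?_, fun u x hx => ?_⟩
  · rw [Xi_t, hz', halt₂]
    simp
  · rw [Xi_t, hx]
    simp only [zero_smul, add_zero, add_sub_cancel_left]
    exact (fib t w₀).smul_mem _ ((fib t w₀).smul_mem _ (t_mem_fib _ _))

/-- the component of `Xi` at a vector `x ⊥ w₀`. -/
theorem Xi_t_perp (ht : IsTensorProduct t) (halt₂ : ∀ w, f₂ w w = 0) (C C' : Module.End F U)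
    {w₀ z : W} (hz : f₂ z w₀ = 0) (c : F) (e : U) {x : W} (hx : f₂ x w₀ = 0) :
    Xi ht halt₂ C C' hz c (t e x) = t e x + t (((c * f₂ x z) • C) e) w₀ := by
  rw [Xi_t, hx]
  simp only [zero_smul, add_zero, LinearMap.smul_apply]
  rw [smul_smul, LinearMap.map_smul₂]

/-- the inverse of an element of the radical on `t e x`, `x ⊥ w₀`. -/
theorem inv_of_comp {w₀ x : W} {q : V ≃ₗ[F] V} (hq : InRS t f₂ w₀ q) {C : Module.End F U}
    (hC : ∀ e, q (t e x) = t e x + t (C e) w₀) (e : U) :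
    q⁻¹ (t e x) = t e x - t (C e) w₀ := by
  have h1 : q (t e x - t (C e) w₀) = t e x := by
    rw [map_sub, hC, hq.1]; abel
  rw [← h1, inv_apply_self, h1]

/-- the last step: the elements `Xi` with component `κ P u u` are Siegel transformations. -/
theorem Xi_eq_siegG (ht : IsTensorProduct t) (h : Hyp t Q f₁ f₂ M) (u : U) {w₀ z' : W}
    (hz' : f₂ z' w₀ = 0) (κ c : F) :
    Xi ht h.alt₂ (κ • P f₁ u u) (-(κ • P f₁ u u)) hz' c
      = ((siegG Q (t u w₀) ((c * κ) • t u z') : ↥(Isom Q)) : V ≃ₗ[F] V) := by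
  have hx : Q (t u w₀) = 0 := h.pure u w₀
  have hxy : QuadraticMap.polar Q (t u w₀) ((c * κ) • t u z') = 0 := by
    rw [QuadraticMap.polar_smul_right, h.pol, h.alt₁, zero_mul, smul_zero]
  apply equiv_ext_pure ht
  intro e x
  rw [Xi_t, siegG_val, siegE_apply Q hx hxy, sieg_apply, QuadraticMap.polar_smul_right, h.pol,
    h.pol, QuadraticMap.map_smul, h.pure]
  simp only [LinearMap.smul_apply, LinearMap.neg_apply, P_apply, map_smul, map_neg, h.alt₁,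
    smul_eq_mul, mul_zero, zero_mul, zero_smul, smul_zero, neg_zero, add_zero, sub_zero,
    map_zero, LinearMap.zero_apply]
  module

theorem SG_le_of_mu' [FiniteDimensional F U] (ht : IsTensorProduct t) (h : Hyp t Q f₁ f₂ M)
    (hF : ∃ c : F, c ≠ 0 ∧ c ≠ 1) {w₀ z : W} (hw₀ : w₀ ≠ 0) {q : V ≃ₗ[F] V} (hqM : q ∈ XM M)
    (hq : InRS t f₂ w₀ q) (hz : f₂ z w₀ = 0) (hzw : ∀ a : F, z ≠ a • w₀)
    {C C' : Module.End F U} (hC : ∀ u, q (t u z) = t u z + t (C u) w₀) (hadj : IsAdj f₁ C C')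
    {u : U} (hμ : f₁ (C u) u ≠ 0) : SG Q ≤ M := by
  obtain ⟨c, hc0, hc1⟩ := hF
  have hu : u ≠ 0 := by
    rintro rfl
    apply hμ
    simp
  -- the commutators with the root elements of the first factor
  obtain ⟨D, hD⟩ : ∃ D : F → Module.End F U,
      D = fun c => Tv f₁ u c * C * Tv f₁ u (-c) - C := ⟨_, rfl⟩
  have hstep : ∀ a : F, ∃ qa : V ≃ₗ[F] V, qa ∈ XM M ∧ InRS t f₂ w₀ qa ∧
      ∀ e, qa (t e z) = t e z + t (D a e) w₀ := by
    intro a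
    obtain ⟨h1, h2, h3⟩ := conj_step ht h hqM hq hz hC u a
    refine ⟨_, h1, h2, fun e => ?_⟩
    rw [h3, hD]
  have hXi : ∀ a : F, ∃ D' : Module.End F U, ∀ κ, Xi ht h.alt₂ (D a) D' hz κ ∈ XM M := by
    intro a
    obtain ⟨qa, h1, h2, h3⟩ := hstep a
    obtain ⟨D', hD'⟩ := exists_adj h.alt₁ h.nd₁ (D a)
    exact ⟨D', fun κ => Xi_mem ht h h1 h2 hz h3 hD' κ⟩
  obtain ⟨Dc', hDc'⟩ := hXi c
  obtain ⟨D1', hD1'⟩ := hXi 1
  -- the second vector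
  obtain ⟨z', hw₀z', hzz'⟩ := exists_perp_not_perp f₂ h.nd₂ hw₀ hzw
  have hz' : f₂ z' w₀ = 0 := alt_perp_symm f₂ h.alt₂ hw₀z'
  have hz'z : f₂ z' z ≠ 0 := by
    rw [alt_skew f₂ h.alt₂]
    exact neg_ne_zero.mpr hzz'
  -- the element `q₃`
  obtain ⟨rc, hrc⟩ : ∃ rc : V ≃ₗ[F] V, rc = Xi ht h.alt₂ (D c) Dc' hz 1 := ⟨_, rfl⟩
  obtain ⟨r1, hr1⟩ : ∃ r1 : V ≃ₗ[F] V, r1 = Xi ht h.alt₂ (D 1) D1' hz c := ⟨_, rfl⟩
  have hrcM : rc ∈ XM M := by rw [hrc]; exact hDc' 1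
  have hr1M : r1 ∈ XM M := by rw [hr1]; exact hD1' c
  have hrcR : InRS t f₂ w₀ rc := by rw [hrc]; exact Xi_inRS ht h.alt₂ _ _ hz 1
  have hr1R : InRS t f₂ w₀ r1 := by rw [hr1]; exact Xi_inRS ht h.alt₂ _ _ hz c
  have hrc_t : ∀ e, rc (t e z') = t e z' + t (((1 * f₂ z' z) • D c) e) w₀ := by
    intro e
    rw [hrc, Xi_t_perp ht h.alt₂ _ _ hz 1 e hz']
  have hr1_t : ∀ e, r1 (t e z') = t e z' + t (((c * f₂ z' z) • D 1) e) w₀ := by
    intro e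
    rw [hr1, Xi_t_perp ht h.alt₂ _ _ hz c e hz']
  obtain ⟨μ, hμd⟩ : ∃ μ : F, μ = f₁ (C u) u := ⟨_, rfl⟩
  obtain ⟨κ, hκ⟩ : ∃ κ : F, κ = f₂ z' z * (c * (1 - c) * μ) := ⟨_, rfl⟩
  have hκ0 : κ ≠ 0 := by
    rw [hκ, hμd]
    exact mul_ne_zero hz'z (mul_ne_zero (mul_ne_zero hc0 (sub_ne_zero.mpr (Ne.symm hc1))) hμ)
  have hDdiff : ∀ e, ((1 * f₂ z' z) • D c) e - ((c * f₂ z' z) • D 1) e = (κ • P f₁ u u) e := by
    intro e
    rw [hD, hκ, hμd]
    simp only [LinearMap.sub_apply, Module.End.mul_apply, Tv_apply, map_add, map_smul,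
      LinearMap.smul_apply, P_apply, LinearMap.add_apply, map_neg, neg_mul, neg_smul, map_sub,
      smul_eq_mul, one_mul, mul_one]
    module
  have hq3M : rc * r1⁻¹ ∈ XM M := (XM M).mul_mem hrcM ((XM M).inv_mem hr1M)
  have hq3R : InRS t f₂ w₀ (rc * r1⁻¹) := hrcR.mul hr1R.inv
  have hq3_t : ∀ e, (rc * r1⁻¹) (t e z') = t e z' + t ((κ • P f₁ u u) e) w₀ := by
    intro e
    rw [LinearEquiv.mul_apply, inv_of_comp hr1R hr1_t, map_sub, hrc_t, hrcR.1, ← hDdiff, map_sub,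
      LinearMap.sub_apply]
    abel
  have hadj3 : IsAdj f₁ (κ • P f₁ u u) (-(κ • P f₁ u u)) := by
    have := (isAdj_P h.alt₁ u u).smul κ
    rwa [smul_neg] at this
  have hXi3 : ∀ c'', Xi ht h.alt₂ (κ • P f₁ u u) (-(κ • P f₁ u u)) hz' c'' ∈ XM M :=
    fun c'' => Xi_mem ht h hq3M hq3R hz' hq3_t hadj3 c''
  -- the seed
  have hseed : t u z' ∈ AS Q M (t u w₀) := by
    refine ⟨by rw [h.pol, h.alt₁, zero_mul], fun c₀ => ?_⟩
    have h1 := hXi3 (c₀ * κ⁻¹)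
    rw [Xi_eq_siegG ht h u hz' κ (c₀ * κ⁻¹), mul_assoc, inv_mul_cancel₀ hκ0, mul_one] at h1
    obtain ⟨h2, h3⟩ := mem_XM.mp h1
    exact h3
  refine h.SG_le_of_seedII hu hw₀ (fun a ha => hzz' ?_) hseed
  rw [ha, map_smul, smul_eq_mul, hz, mul_zero]

end Cfsg.Agent.Helper1.TensSMuC
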