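import Cfsg.Agent.Helper8.QuadForm

set_option autoImplicit false
set_option linter.unusedSectionVars false
set_option linter.unusedVariables false
set_option linter.style.haveILetI false
set_option linter.unusedSimpArgs false

/-! S5666, leaf SEED (helper1), part A: a set of vectors of a nondegenerate symmetric bilinear
space over a finite field of odd order which is closed under scalars, reflections and a restricted
addition, and which contains a nonzero vector, is everything (dimension at least three, the pair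
(3,3) excluded). -/

namespace Cfsg.Agent.Helper1.TensSpSeed

open Module Cfsg.Agent.Helper8.QuadForm

section generic

variable {F : Type*} [Field F] {M N : Type*} [AddCommGroup M] [Module F M]
  [AddCommGroup N] [Module F N]

theorem exists_ne_of_nd {f : LinearMap.BilinForm F M} (nd : ∀ w, (∀ y, f w y = 0) → w = 0)
    {a : M} (ha : a ≠ 0) : ∃ z, f a z ≠ 0 := by
  by_contra hcon
  push Not at hcon
  exact ha (nd a hcon)

theorem exists_two (l₁ l₂ : M →ₗ[F] N) (h₁ : ∃ m, l₁ m ≠ 0) (h₂ : ∃ m, l₂ m ≠ 0) :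
    ∃ m, l₁ m ≠ 0 ∧ l₂ m ≠ 0 := by
  obtain ⟨a, ha⟩ := h₁
  obtain ⟨b, hb⟩ := h₂
  by_cases c1 : l₂ a = 0
  · by_cases c2 : l₁ b = 0
    · refine ⟨a + b, ?_, ?_⟩
      · rw [map_add, c2, add_zero]; exact ha
      · rw [map_add, c1, zero_add]; exact hb
    · exact ⟨b, c2, hb⟩
  · exact ⟨a, ha, c1⟩

theorem exists_three (h2 : (2 : F) ≠ 0) (l₁ l₂ : M →ₗ[F] N) (h₁ : ∃ m, l₁ m ≠ 0)
    (h₂ : ∃ m, l₂ m ≠ 0) (h₃ : ∃ m, l₁ m + l₂ m ≠ 0) :
    ∃ m, l₁ m ≠ 0 ∧ l₂ m ≠ 0 ∧ l₁ m + l₂ m ≠ 0 := by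
  have two_ne : ∀ n : N, n ≠ 0 → n + n ≠ 0 := by
    intro n hn h
    rw [← two_smul F n] at h
    exact hn ((smul_eq_zero.mp h).resolve_left h2)
  obtain ⟨m, hm1, hm2⟩ := exists_two l₁ l₂ h₁ h₂
  by_cases hs : l₁ m + l₂ m = 0
  swap
  · exact ⟨m, hm1, hm2, hs⟩
  have h₃' : ∃ m, (l₁ + l₂) m ≠ 0 := by
    obtain ⟨m₃, h3⟩ := h₃
    exact ⟨m₃, by rw [LinearMap.add_apply]; exact h3⟩
  obtain ⟨m', hm1', hm3'⟩ := exists_two l₁ (l₁ + l₂) h₁ h₃'
  rw [LinearMap.add_apply] at hm3'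
  by_cases hk : l₂ m' = 0
  swap
  · exact ⟨m', hm1', hk, hm3'⟩
  by_cases hc : l₁ m + l₁ m' = 0
  · refine ⟨m - m', ?_, ?_, ?_⟩
    · intro h
      rw [map_sub] at h
      apply two_ne (l₁ m) hm1
      have e : l₁ m + l₁ m = (l₁ m - l₁ m') + (l₁ m + l₁ m') := by abel
      rw [e, h, hc, add_zero]
    · rw [map_sub, hk, sub_zero]; exact hm2
    · intro h
      rw [map_sub, map_sub, hk, sub_zero] at h
      apply hm1'
      have e : l₁ m' = (l₁ m + l₂ m) - (l₁ m - l₁ m' + l₂ m) := by abel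
      rw [e, h, hs, sub_zero]
  · refine ⟨m + m', ?_, ?_, ?_⟩
    · rw [map_add]; exact hc
    · rw [map_add, hk, add_zero]; exact hm2
    · intro h
      rw [map_add, map_add, hk, add_zero] at h
      apply hm1'
      have e : l₁ m' = (l₁ m + l₁ m' + l₂ m) - (l₁ m + l₂ m) := by abel
      rw [e, h, hs, sub_zero]

theorem exists_ne4 [Finite F] (hq : 5 ≤ Nat.card F) (a b c d : F) :
    ∃ x : F, x ≠ a ∧ x ≠ b ∧ x ≠ c ∧ x ≠ d := by
  classical
  haveI := Fintype.ofFinite F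
  by_contra hcon
  push Not at hcon
  have hsub : (Finset.univ : Finset F) ⊆ {a, b, c, d} := by
    intro x _
    by_cases h1 : x = a
    · simp [h1]
    by_cases h2 : x = b
    · simp [h2]
    by_cases h3 : x = c
    · simp [h3]
    have := hcon x h1 h2 h3
    simp [this]
  have h1 := Finset.card_le_card hsub
  have h2 : ({a, b, c, d} : Finset F).card ≤ 4 := Finset.card_le_four
  rw [Finset.card_univ, ← Nat.card_eq_fintype_card] at h1
  omega

theorem card_ge_five [Finite F] (h2 : (2 : F) ≠ 0) (h3 : Nat.card F ≠ 3) : 5 ≤ Nat.card F := by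
  classical
  haveI := Fintype.ofFinite F
  have h1 : 1 < Nat.card F := Finite.one_lt_card
  have hc : ((Nat.card F : ℕ) : F) = 0 := by
    rw [Nat.card_eq_fintype_card]; exact Nat.cast_card_eq_zero F
  by_contra hlt
  have hcases : Nat.card F = 2 ∨ Nat.card F = 4 := by omega
  rcases hcases with e | e
  · rw [e] at hc
    apply h2
    simpa only [Nat.cast_ofNat] using hc
  · rw [e] at hc
    have h4 : (4 : F) = 0 := by simpa only [Nat.cast_ofNat] using hc
    have h22 : (2 : F) * 2 = 0 := by rw [← h4]; norm_num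
    exact h2 (mul_self_eq_zero.mp h22)

end generic

variable {F : Type*} [Field F] {W : Type*} [AddCommGroup W] [Module F W]
  {f : LinearMap.BilinForm F W}

/-- the closure properties. -/
structure WC (f : LinearMap.BilinForm F W) (𝒲 : Set W) : Prop where
  zero : (0 : W) ∈ 𝒲
  smul : ∀ (a : F), ∀ w ∈ 𝒲, a • w ∈ 𝒲
  refl : ∀ y, f y y ≠ 0 → ∀ w ∈ 𝒲, w - (2 * f w y / f y y) • y ∈ 𝒲
  add3 : ∀ w₁ ∈ 𝒲, ∀ w₂ ∈ 𝒲, ∀ w₃ ∈ 𝒲, f w₁ w₂ ≠ 0 → f w₃ w₂ ≠ 0 → f (w₁ + w₃) w₂ ≠ 0 →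
    w₁ + w₃ ∈ 𝒲

theorem WC.move {𝒲 : Set W} (h : WC f 𝒲) (sym : ∀ w w', f w w' = f w' w) {a a' : W}
    (ha : a ∈ 𝒲) (hN : f a a = f a' a') (hy : f (a - a') (a - a') ≠ 0) : a' ∈ 𝒲 := by
  have key : 2 * f a (a - a') / f (a - a') (a - a') = 1 := by
    rw [div_eq_one_iff_eq hy]
    simp only [map_sub, LinearMap.sub_apply]
    rw [sym a' a]
    linear_combination hN
  have := h.refl (a - a') hy a ha
  rw [key, one_smul, sub_sub_cancel] at this
  exact this

theorem WC.move_nonsing {𝒲 : Set W} (h : WC f 𝒲) (sym : ∀ w w', f w w' = f w' w)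
    (h2 : (2 : F) ≠ 0) {a a' : W} (ha : a ∈ 𝒲) (hN : f a a = f a' a') (hne : f a a ≠ 0) :
    a' ∈ 𝒲 := by
  by_cases hy : f (a - a') (a - a') = 0
  · have h4 : f (a + a') (a + a') = 4 * f a a - f (a - a') (a - a') := by
      simp only [map_add, map_sub, LinearMap.add_apply, LinearMap.sub_apply]
      rw [sym a' a]
      linear_combination (-2 : F) * hN
    rw [hy, sub_zero] at h4
    have h4' : f (a - -a') (a - -a') ≠ 0 := by
      rw [sub_neg_eq_add, h4]
      have e4 : (4 : F) = 2 * 2 := by norm_num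
      rw [e4]
      exact mul_ne_zero (mul_ne_zero h2 h2) hne
    have hN' : f a a = f (-a') (-a') := by
      simp only [map_neg, LinearMap.neg_apply, neg_neg]
      exact hN
    have m1 := h.move sym ha hN' h4'
    have m2 := h.smul (-1) _ m1
    rwa [neg_one_smul, neg_neg] at m2
  · exact h.move sym ha hN hy

theorem WC.move_sing {𝒲 : Set W} (h : WC f 𝒲) (sym : ∀ w w', f w w' = f w' w)
    (h2 : (2 : F) ≠ 0) {a a' : W} (ha : a ∈ 𝒲) (hNa : f a a = 0) (hNa' : f a' a' = 0)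
    (hne : f a a' ≠ 0) : a' ∈ 𝒲 := by
  apply h.move sym ha (by rw [hNa, hNa'])
  have e : f (a - a') (a - a') = -(2 * f a a') := by
    simp only [map_sub, LinearMap.sub_apply]
    rw [sym a' a, hNa, hNa']
    ring
  rw [e]
  exact neg_ne_zero.mpr (mul_ne_zero h2 hne)

theorem WC.sing_all {𝒲 : Set W} (h : WC f 𝒲) (sym : ∀ w w', f w w' = f w' w)
    (nd : ∀ w, (∀ y, f w y = 0) → w = 0) (h2 : (2 : F) ≠ 0) {a : W} (ha : a ∈ 𝒲) (ha0 : a ≠ 0)
    (hNa : f a a = 0) {a' : W} (hNa' : f a' a' = 0) : a' ∈ 𝒲 := by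
  by_cases ha' : a' = 0
  · rw [ha']; exact h.zero
  by_cases hne : f a a' = 0
  · obtain ⟨z, hz1, hz2⟩ := exists_two (f a) (f a') (exists_ne_of_nd nd ha0)
      (exists_ne_of_nd nd ha')
    obtain ⟨c, hc⟩ : ∃ c, c = f z z / (2 * f a z) := ⟨_, rfl⟩
    have hcz : c * (2 * f a z) = f z z := by
      rw [hc]; exact div_mul_cancel₀ _ (mul_ne_zero h2 hz1)
    have e1 : f a (z - c • a) = f a z := by
      rw [map_sub, map_smul, hNa, smul_zero, sub_zero]
    have e2 : f a' (z - c • a) = f a' z := by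
      rw [map_sub, map_smul, sym a' a, hne, smul_zero, sub_zero]
    have e3 : f (z - c • a) (z - c • a) = 0 := by
      simp only [map_sub, map_smul, LinearMap.sub_apply, LinearMap.smul_apply, smul_eq_mul]
      rw [sym z a, hNa]
      linear_combination (-1 : F) * hcz
    have m1 : z - c • a ∈ 𝒲 := h.move_sing sym h2 ha hNa e3 (by rw [e1]; exact hz1)
    exact h.move_sing sym h2 m1 e3 hNa' (by rw [sym, e2]; exact hz2)
  · exact h.move_sing sym h2 ha hNa hNa' hne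

/-- the quadratic form `w ↦ f w w`. -/
noncomputable def qf (f : LinearMap.BilinForm F W) : QuadraticForm F W :=
  LinearMap.BilinMap.toQuadraticMap f

theorem qf_apply (w : W) : qf f w = f w w := LinearMap.BilinMap.toQuadraticMap_apply f w

theorem polar_qf (sym : ∀ w w', f w w' = f w' w) (x y : W) :
    QuadraticMap.polar (qf f) x y = 2 * f x y := by
  unfold qf
  rw [LinearMap.BilinMap.polar_toQuadraticMap, sym y x, two_mul]

theorem nondeg_qf (sym : ∀ w w', f w w' = f w' w) (nd : ∀ w, (∀ y, f w y = 0) → w = 0)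
    (h2 : (2 : F) ≠ 0) : Nondeg (qf f) := by
  intro v hv
  apply nd
  intro w
  have := hv w
  rw [polar_qf sym] at this
  exact (mul_eq_zero.mp this).resolve_left h2

theorem exists_perp_norm [Finite F] [FiniteDimensional F W] (sym : ∀ w w', f w w' = f w' w)
    (nd : ∀ w, (∀ y, f w y = 0) → w = 0) (h2 : (2 : F) ≠ 0) (hb : 3 ≤ finrank F W)
    {w₁ : W} (hw₁ : f w₁ w₁ ≠ 0) (β : F) : ∃ y, f y w₁ = 0 ∧ f y y = β := by
  have hQ := nondeg_qf sym nd h2
  have hpol : QuadraticMap.polar (qf f) w₁ w₁ ≠ 0 := by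
    rw [polar_qf sym]; exact mul_ne_zero h2 hw₁
  have hnd := (nondeg_comp_subtype_iff (qf f) (perpVec (qf f) w₁)).mpr
    (perpVec_nondeg (qf f) hQ hpol)
  have hfr := finrank_perpVec (qf f) hpol
  obtain ⟨v, hv⟩ := exists_repr ((qf f).comp (perpVec (qf f) w₁).subtype) hnd (by omega) β
  refine ⟨v.1, ?_, ?_⟩
  · have := (mem_perpVec (qf f) w₁ v.1).mp v.2
    rw [polar_qf sym] at this
    rw [sym]
    exact (mul_eq_zero.mp this).resolve_left h2
  · exact hv

theorem exists_perp_sing_pair [Finite F] [FiniteDimensional F W]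
    (sym : ∀ w w', f w w' = f w' w) (nd : ∀ w, (∀ y, f w y = 0) → w = 0) (h2 : (2 : F) ≠ 0)
    (hb : 4 ≤ finrank F W) {w₀ : W} (hw₀ : f w₀ w₀ ≠ 0) (c : F) :
    ∃ y₁ y₃, f y₁ w₀ = 0 ∧ f y₃ w₀ = 0 ∧ f y₁ y₁ = 0 ∧ f y₃ y₃ = 0 ∧ f y₁ y₃ = c := by
  have hQ := nondeg_qf sym nd h2
  have hpol : QuadraticMap.polar (qf f) w₀ w₀ ≠ 0 := by
    rw [polar_qf sym]; exact mul_ne_zero h2 hw₀
  have hnd := (nondeg_comp_subtype_iff (qf f) (perpVec (qf f) w₀)).mpr
    (perpVec_nondeg (qf f) hQ hpol)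
  have hfr := finrank_perpVec (qf f) hpol
  obtain ⟨e, he0, he⟩ := exists_singular ((qf f).comp (perpVec (qf f) w₀).subtype) (by omega)
  obtain ⟨e', he', hee'⟩ := exists_hyperbolic_pair _ hnd he0 he
  have perp : ∀ v : perpVec (qf f) w₀, f v.1 w₀ = 0 := by
    intro v
    have := (mem_perpVec (qf f) w₀ v.1).mp v.2
    rw [polar_qf sym] at this
    rw [sym]
    exact (mul_eq_zero.mp this).resolve_left h2
  have he1 : f e.1 e.1 = 0 := he
  have he'1 : f e'.1 e'.1 = 0 := he'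
  have hp : 2 * f e.1 e'.1 = 1 := by
    rw [polar_comp_subtype, polar_qf sym] at hee'
    exact hee'
  refine ⟨e.1, (2 * c) • e'.1, perp e, ?_, he1, ?_, ?_⟩
  · rw [map_smul, LinearMap.smul_apply, perp e', smul_zero]
  · simp only [map_smul, LinearMap.smul_apply, he'1, smul_zero]
  · rw [map_smul, smul_eq_mul]; linear_combination c * hp

theorem exists_hyp_triple [FiniteDimensional F W] (sym : ∀ w w', f w w' = f w' w)
    (nd : ∀ w, (∀ y, f w y = 0) → w = 0) (h2 : (2 : F) ≠ 0) (hb : 3 ≤ finrank F W)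
    {e : W} (he0 : e ≠ 0) (he : f e e = 0) :
    ∃ e' y, f e' e' = 0 ∧ f e e' = 1 ∧ f y e = 0 ∧ f y e' = 0 ∧ f y y ≠ 0 := by
  have hQ := nondeg_qf sym nd h2
  have heQ : qf f e = 0 := by rw [qf_apply]; exact he
  obtain ⟨e'', he'', hee''⟩ := exists_hyperbolic_pair (qf f) hQ he0 heQ
  have hndP := perpPair_nondeg (qf f) hQ heQ he'' hee''
  have hfr := finrank_perpPair (qf f) heQ he'' hee''
  have hpos : 0 < finrank F (perpPair (qf f) e e'') := by omega
  obtain ⟨z, hz⟩ := (Module.finrank_pos_iff_exists_ne_zero (R := F)).mp hpos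
  have perp : ∀ v ∈ perpPair (qf f) e e'', f v e = 0 ∧ f v e'' = 0 := by
    intro v hv
    rw [mem_perpPair, polar_qf sym, polar_qf sym] at hv
    refine ⟨?_, ?_⟩
    · rw [sym]; exact (mul_eq_zero.mp hv.1).resolve_left h2
    · rw [sym]; exact (mul_eq_zero.mp hv.2).resolve_left h2
  have hex : ∃ y ∈ perpPair (qf f) e e'', f y y ≠ 0 := by
    by_contra hcon
    push Not at hcon
    have hz0 : (z : W) = 0 := by
      apply hndP z.1 z.2
      intro w' hw'
      rw [polar_qf sym]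
      have h1 := hcon _ (Submodule.add_mem _ z.2 hw')
      have h2' := hcon _ z.2
      have h3 := hcon _ hw'
      simp only [map_add, LinearMap.add_apply] at h1
      rw [sym w' z.1, h2', h3] at h1
      linear_combination h1
    exact hz (Subtype.ext hz0)
  obtain ⟨y, hy, hyn⟩ := hex
  have hp : 2 * f e e'' = 1 := by rw [polar_qf sym] at hee''; exact hee''
  have he''N : f e'' e'' = 0 := by rw [← qf_apply (f := f) e'']; exact he''
  refine ⟨(2 : F) • e'', y, ?_, ?_, (perp y hy).1, ?_, hyn⟩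
  · simp only [map_smul, LinearMap.smul_apply, he''N, smul_zero]
  · rw [map_smul, smul_eq_mul]; exact hp
  · rw [map_smul, smul_eq_mul, (perp y hy).2, mul_zero]

theorem WC.lemR [Finite F] [FiniteDimensional F W] {𝒲 : Set W} (h : WC f 𝒲)
    (sym : ∀ w w', f w w' = f w' w) (nd : ∀ w, (∀ y, f w y = 0) → w = 0) (h2 : (2 : F) ≠ 0)
    (hb : 3 ≤ finrank F W) {w₁ : W} (hw₁ : w₁ ∈ 𝒲) (hα : f w₁ w₁ ≠ 0) {ν : F} (hν0 : ν ≠ 0)
    (hν2 : ν ≠ 2 * f w₁ w₁) : ∀ w, f w w = ν → w ∈ 𝒲 := by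
  have h2α : 2 * f w₁ w₁ ≠ 0 := mul_ne_zero h2 hα
  obtain ⟨s, hs⟩ : ∃ s, s = ν / (2 * f w₁ w₁) - 1 := ⟨_, rfl⟩
  have hs1 : (1 + s) * (2 * f w₁ w₁) = ν := by
    have e : ν / (2 * f w₁ w₁) * (2 * f w₁ w₁) = ν := div_mul_cancel₀ _ h2α
    rw [hs]; linear_combination e
  have hs0 : s ≠ 0 := by
    intro h0
    rw [h0, add_zero, one_mul] at hs1
    exact hν2 hs1.symm
  have hs1' : 1 + s ≠ 0 := by
    intro h0
    rw [h0, zero_mul] at hs1
    exact hν0 hs1.symm
  obtain ⟨y, hy1, hy2⟩ := exists_perp_norm sym nd h2 hb hα (f w₁ w₁ * (1 - s * s))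
  have hw₃N : f (s • w₁ + y) (s • w₁ + y) = f w₁ w₁ := by
    simp only [map_add, map_smul, LinearMap.add_apply, LinearMap.smul_apply, smul_eq_mul]
    rw [sym w₁ y, hy1, hy2]
    ring
  have hw₃ : s • w₁ + y ∈ 𝒲 := h.move_nonsing sym h2 hw₁ hw₃N.symm hα
  have c2 : f (s • w₁ + y) w₁ = s * f w₁ w₁ := by
    simp only [map_add, map_smul, LinearMap.add_apply, LinearMap.smul_apply, smul_eq_mul, hy1,
      add_zero]
  have hsum : w₁ + (s • w₁ + y) ∈ 𝒲 := by
    apply h.add3 w₁ hw₁ w₁ hw₁ _ hw₃ hα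
    · rw [c2]; exact mul_ne_zero hs0 hα
    · rw [map_add, LinearMap.add_apply, c2]
      have e : f w₁ w₁ + s * f w₁ w₁ = (1 + s) * f w₁ w₁ := by ring
      rw [e]; exact mul_ne_zero hs1' hα
  have hsumN : f (w₁ + (s • w₁ + y)) (w₁ + (s • w₁ + y)) = ν := by
    simp only [map_add, map_smul, LinearMap.add_apply, LinearMap.smul_apply, smul_eq_mul]
    rw [sym w₁ y, hy1, hy2]
    linear_combination hs1
  intro w hw
  exact h.move_nonsing sym h2 hsum (by rw [hsumN, hw]) (by rw [hsumN]; exact hν0)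

theorem WC.sing_of_five [Finite F] [FiniteDimensional F W] {𝒲 : Set W} (h : WC f 𝒲)
    (sym : ∀ w w', f w w' = f w' w) (nd : ∀ w, (∀ y, f w y = 0) → w = 0) (h2 : (2 : F) ≠ 0)
    (hb : 3 ≤ finrank F W) (hq : 5 ≤ Nat.card F) {w₀ : W} (hw₀ : w₀ ∈ 𝒲) (hα : f w₀ w₀ ≠ 0) :
    ∃ a ∈ 𝒲, a ≠ 0 ∧ f a a = 0 := by
  obtain ⟨s, hs0, hsa, hsb, hsc⟩ := exists_ne4 hq (0 : F) (-1) (-(2 : F)⁻¹) (-((3 : F) * (2 : F)⁻¹))
  have h1s : 1 + s ≠ 0 := by
    intro h0; apply hsa; linear_combination h0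
  have h12 : 1 + 2 * s ≠ 0 := by
    intro h0
    apply hsb
    have e : 2 * s = 2 * (-(2 : F)⁻¹) := by
      rw [mul_neg, mul_inv_cancel₀ h2]; linear_combination h0
    exact mul_left_cancel₀ h2 e
  have h32 : 3 + 2 * s ≠ 0 := by
    intro h0
    apply hsc
    have e : 2 * s = 2 * (-((3 : F) * (2 : F)⁻¹)) := by
      rw [mul_neg, mul_comm (3 : F) (2 : F)⁻¹, ← mul_assoc, mul_inv_cancel₀ h2, one_mul]
      linear_combination h0
    exact mul_left_cancel₀ h2 e
  obtain ⟨y, hy1, hy2⟩ := exists_perp_norm sym nd h2 hb hα (-(f w₀ w₀ * ((1 + s) * (1 + s))))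
  have hN3 : f (s • w₀ + y) (s • w₀ + y) = -(f w₀ w₀ * (1 + 2 * s)) := by
    simp only [map_add, map_smul, LinearMap.add_apply, LinearMap.smul_apply, smul_eq_mul]
    rw [sym w₀ y, hy1, hy2]
    ring
  have hw₃ : s • w₀ + y ∈ 𝒲 := by
    refine h.lemR sym nd h2 hb hw₀ hα (ν := -(f w₀ w₀ * (1 + 2 * s))) ?_ ?_ _ hN3
    · exact neg_ne_zero.mpr (mul_ne_zero hα h12)
    · intro h0
      have e : f w₀ w₀ * (3 + 2 * s) = 0 := by linear_combination (-1 : F) * h0
      rcases mul_eq_zero.mp e with e1 | e1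
      · exact hα e1
      · exact h32 e1
  have c2 : f (s • w₀ + y) w₀ = s * f w₀ w₀ := by
    simp only [map_add, map_smul, LinearMap.add_apply, LinearMap.smul_apply, smul_eq_mul, hy1,
      add_zero]
  have c3 : f (w₀ + (s • w₀ + y)) w₀ = (1 + s) * f w₀ w₀ := by
    rw [map_add, LinearMap.add_apply, c2]; ring
  have hsum : w₀ + (s • w₀ + y) ∈ 𝒲 := by
    apply h.add3 w₀ hw₀ w₀ hw₀ _ hw₃ hα
    · rw [c2]; exact mul_ne_zero hs0 hα
    · rw [c3]; exact mul_ne_zero h1s hα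
  refine ⟨_, hsum, ?_, ?_⟩
  · intro h0
    have e : f (w₀ + (s • w₀ + y)) w₀ = 0 := by rw [h0, map_zero, LinearMap.zero_apply]
    rw [c3] at e
    exact mul_ne_zero h1s hα e
  · simp only [map_add, map_smul, LinearMap.add_apply, LinearMap.smul_apply, smul_eq_mul]
    rw [sym w₀ y, hy1, hy2]
    ring

theorem WC.sing_of_four [Finite F] [FiniteDimensional F W] {𝒲 : Set W} (h : WC f 𝒲)
    (sym : ∀ w w', f w w' = f w' w) (nd : ∀ w, (∀ y, f w y = 0) → w = 0) (h2 : (2 : F) ≠ 0)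
    (hb : 4 ≤ finrank F W) {w₀ : W} (hw₀ : w₀ ∈ 𝒲) (hα : f w₀ w₀ ≠ 0) :
    ∃ a ∈ 𝒲, a ≠ 0 ∧ f a a = 0 := by
  obtain ⟨y₁, y₃, p1, p3, n1, n3, h13⟩ :=
    exists_perp_sing_pair sym nd h2 hb hα (-(2 * f w₀ w₀))
  have N1 : f (w₀ + y₁) (w₀ + y₁) = f w₀ w₀ := by
    simp only [map_add, LinearMap.add_apply]
    rw [sym w₀ y₁, p1, n1]; ring
  have N3 : f (w₀ + y₃) (w₀ + y₃) = f w₀ w₀ := by
    simp only [map_add, LinearMap.add_apply]
    rw [sym w₀ y₃, p3, n3]; ring
  have m1 : w₀ + y₁ ∈ 𝒲 := h.move_nonsing sym h2 hw₀ N1.symm hα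
  have m3 : w₀ + y₃ ∈ 𝒲 := h.move_nonsing sym h2 hw₀ N3.symm hα
  have c1 : f (w₀ + y₁) w₀ = f w₀ w₀ := by rw [map_add, LinearMap.add_apply, p1, add_zero]
  have c3 : f (w₀ + y₃) w₀ = f w₀ w₀ := by rw [map_add, LinearMap.add_apply, p3, add_zero]
  have c13 : f (w₀ + y₁ + (w₀ + y₃)) w₀ = 2 * f w₀ w₀ := by
    rw [map_add, LinearMap.add_apply, c1, c3, two_mul]
  have hsum : (w₀ + y₁) + (w₀ + y₃) ∈ 𝒲 :=
    h.add3 _ m1 _ hw₀ _ m3 (by rw [c1]; exact hα) (by rw [c3]; exact hα)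
      (by rw [c13]; exact mul_ne_zero h2 hα)
  refine ⟨_, hsum, ?_, ?_⟩
  · intro h0
    have e : f (w₀ + y₁ + (w₀ + y₃)) w₀ = 0 := by rw [h0, map_zero, LinearMap.zero_apply]
    rw [c13] at e
    exact mul_ne_zero h2 hα e
  · simp only [map_add, LinearMap.add_apply]
    rw [sym w₀ y₁, sym w₀ y₃, sym y₃ y₁, p1, p3, n1, n3, h13]
    ring

theorem WC.all_of_sing [FiniteDimensional F W] {𝒲 : Set W} (h : WC f 𝒲)
    (sym : ∀ w w', f w w' = f w' w) (nd : ∀ w, (∀ y, f w y = 0) → w = 0) (h2 : (2 : F) ≠ 0)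
    (hb : 3 ≤ finrank F W) {e : W} (he : e ∈ 𝒲) (he0 : e ≠ 0) (heN : f e e = 0) :
    ∀ w, w ∈ 𝒲 := by
  have hsing : ∀ a', f a' a' = 0 → a' ∈ 𝒲 := fun a' ha' =>
    h.sing_all sym nd h2 he he0 heN ha'
  obtain ⟨e', y, he'N, hee', hye, hye', hyN⟩ := exists_hyp_triple sym nd h2 hb he0 heN
  have he'e : f e' e = 1 := by rw [sym]; exact hee'
  have hey : f e y = 0 := by rw [sym]; exact hye
  have he'y : f e' y = 0 := by rw [sym]; exact hye'
  obtain ⟨k, hk⟩ : ∃ k : F, 2 * k = 1 := ⟨2⁻¹, mul_inv_cancel₀ h2⟩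
  have hk0 : k ≠ 0 := by
    intro h0; rw [h0, mul_zero] at hk; exact zero_ne_one hk
  have gN : f (e - (f y y * k) • e' + y) (e - (f y y * k) • e' + y) = 0 := by
    simp only [map_add, map_sub, map_smul, LinearMap.add_apply, LinearMap.sub_apply,
      LinearMap.smul_apply, smul_eq_mul, heN, he'N, hee', he'e, hey, hye, he'y, hye']
    linear_combination (-(f y y)) * hk
  have hg : e - (f y y * k) • e' + y ∈ 𝒲 := hsing _ gN
  have he' : ∀ c : F, c • e' ∈ 𝒲 := fun c => h.smul c _ (hsing _ he'N)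
  have vN : ∀ ν : F, f (e + (ν * k) • e') (e + (ν * k) • e') = ν := by
    intro ν
    simp only [map_add, map_smul, LinearMap.add_apply, LinearMap.smul_apply, smul_eq_mul, heN,
      he'N, hee', he'e]
    linear_combination ν * hk
  have step1 : ∀ ν : F, ν ≠ 0 → ν ≠ f y y → ∀ w, f w w = ν → w ∈ 𝒲 := by
    intro ν hν0 hνμ w hw
    have hv : e + (ν * k) • e' ∈ 𝒲 := by
      apply h.add3 e he _ hg _ (he' _)
      · simp only [map_add, map_sub, map_smul, LinearMap.add_apply, LinearMap.sub_apply,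
          LinearMap.smul_apply, smul_eq_mul, heN, hee', hey]
        intro h0
        apply mul_ne_zero hyN hk0
        linear_combination (-1 : F) * h0
      · simp only [map_add, map_sub, map_smul, LinearMap.add_apply, LinearMap.sub_apply,
          LinearMap.smul_apply, smul_eq_mul, he'N, he'e, he'y]
        intro h0
        apply mul_ne_zero hν0 hk0
        linear_combination h0
      · simp only [map_add, map_sub, map_smul, LinearMap.add_apply, LinearMap.sub_apply,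
          LinearMap.smul_apply, smul_eq_mul, heN, he'N, hee', he'e, hey, he'y]
        intro h0
        apply mul_ne_zero (sub_ne_zero.mpr hνμ) hk0
        linear_combination h0
    exact h.move_nonsing sym h2 hv (by rw [vN, hw]) (by rw [vN]; exact hν0)
  have w2N : f (e + (f y y * k) • e' + y) (e + (f y y * k) • e' + y) = 2 * f y y := by
    simp only [map_add, map_smul, LinearMap.add_apply, LinearMap.smul_apply, smul_eq_mul, heN,
      he'N, hee', he'e, hey, hye, he'y, hye']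
    linear_combination (f y y) * hk
  have hw2 : e + (f y y * k) • e' + y ∈ 𝒲 := by
    apply step1 (2 * f y y) (mul_ne_zero h2 hyN) _ _ w2N
    intro h0
    apply hyN
    linear_combination h0
  have step2 : ∀ w, f w w = f y y → w ∈ 𝒲 := by
    intro w hw
    have hv : e + (f y y * k) • e' ∈ 𝒲 := by
      apply h.add3 e he _ hw2 _ (he' _)
      · simp only [map_add, map_smul, LinearMap.add_apply, LinearMap.smul_apply, smul_eq_mul,
          heN, hee', hey]
        intro h0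
        apply mul_ne_zero hyN hk0
        linear_combination h0
      · simp only [map_add, map_smul, LinearMap.add_apply, LinearMap.smul_apply, smul_eq_mul,
          he'N, he'e, he'y]
        intro h0
        apply mul_ne_zero hyN hk0
        linear_combination h0
      · simp only [map_add, map_smul, LinearMap.add_apply, LinearMap.smul_apply, smul_eq_mul,
          heN, he'N, hee', he'e, hey, he'y]
        intro h0
        apply hyN
        linear_combination h0 - (f y y) * hk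
    exact h.move_nonsing sym h2 hv (by rw [vN, hw]) (by rw [vN]; exact hyN)
  intro w
  by_cases c0 : f w w = 0
  · exact hsing w c0
  by_cases c1 : f w w = f y y
  · exact step2 w c1
  · exact step1 (f w w) c0 c1 w rfl

/-- **the geometric core**: a closed set with a nonzero member is everything. -/
theorem WC.eq_univ [Finite F] [FiniteDimensional F W] {𝒲 : Set W} (h : WC f 𝒲)
    (sym : ∀ w w', f w w' = f w' w) (nd : ∀ w, (∀ y, f w y = 0) → w = 0) (h2 : (2 : F) ≠ 0)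
    (hb : 3 ≤ finrank F W) (hex : ¬ (Nat.card F = 3 ∧ finrank F W = 3)) {w₀ : W}
    (hw₀ : w₀ ∈ 𝒲) (hw₀0 : w₀ ≠ 0) : ∀ w, w ∈ 𝒲 := by
  by_cases hN : f w₀ w₀ = 0
  · exact h.all_of_sing sym nd h2 hb hw₀ hw₀0 hN
  · have hex' : ∃ a ∈ 𝒲, a ≠ 0 ∧ f a a = 0 := by
      by_cases hb4 : 4 ≤ finrank F W
      · exact h.sing_of_four sym nd h2 hb4 hw₀ hN
      · have hq : 5 ≤ Nat.card F := card_ge_five h2 (fun h3 => hex ⟨h3, by omega⟩)
        exact h.sing_of_five sym nd h2 hb hq hw₀ hN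
    obtain ⟨a, ha, ha0, haN⟩ := hex'
    exact h.all_of_sing sym nd h2 hb ha ha0 haN

end Cfsg.Agent.Helper1.TensSpSeed
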