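import Cfsg.Agent.Helper1.TensSpSeedA

set_option autoImplicit false
set_option linter.unusedSectionVars false
set_option linter.unusedVariables false
set_option linter.unusedSimpArgs false

/-! S5666, leaf SEED (helper1), part B: the tensor part.  A set `S` of vectors of `V = U ⊗ W`
(alternating `f₁` on `U`, symmetric `f₂` on `W`, `B` their product) containing `0`, closed under
scalars and under `s + x` for non-orthogonal `s, x ∈ S`, invariant under the transvections of `U`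
and the reflections of `W`, and containing one nonzero pure tensor, is all of `V`. -/

namespace Cfsg.Agent.Helper1.TensSpSeed

open Module

variable {F : Type*} [Field F] {U W V : Type*} [AddCommGroup U] [Module F U]
  [AddCommGroup W] [Module F W] [AddCommGroup V] [Module F V]
  {t : U →ₗ[F] W →ₗ[F] V}

theorem skew_of_alt {f₁ : LinearMap.BilinForm F U} (alt₁ : ∀ u, f₁ u u = 0) (u u' : U) :
    f₁ u u' = - f₁ u' u := by
  have h := alt₁ (u + u')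
  simp only [map_add, LinearMap.add_apply, alt₁] at h
  linear_combination h

/-- the set of `w` all of whose pure tensors lie in `S`. -/
def Wset (t : U →ₗ[F] W →ₗ[F] V) (S : Set V) : Set W := {w | ∀ u, t u w ∈ S}

theorem mem_Wset {S : Set V} {w : W} : w ∈ Wset t S ↔ ∀ u, t u w ∈ S := Iff.rfl

theorem moveU {f₁ : LinearMap.BilinForm F U} (alt₁ : ∀ u, f₁ u u = 0) (S : Set V)
    (hA : ∀ (e : U) (c : F), ∃ g : V →ₗ[F] V,
      (∀ u w, g (t u w) = t (u + (c * f₁ u e) • e) w) ∧ ∀ v ∈ S, g v ∈ S)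
    {u u' : U} {w : W} (h : t u w ∈ S) (hne : f₁ u u' ≠ 0) : t u' w ∈ S := by
  obtain ⟨g, hg, hgS⟩ := hA (u' - u) (f₁ u u')⁻¹
  have h1 := hgS _ h
  rw [hg] at h1
  have e : u + ((f₁ u u')⁻¹ * f₁ u (u' - u)) • (u' - u) = u' := by
    rw [map_sub, alt₁, sub_zero, inv_mul_cancel₀ hne, one_smul]
    abel
  rwa [e] at h1

theorem allU {f₁ : LinearMap.BilinForm F U} (alt₁ : ∀ u, f₁ u u = 0)
    (nd₁ : ∀ u, (∀ y, f₁ u y = 0) → u = 0) (S : Set V) (h0 : (0 : V) ∈ S)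
    (hA : ∀ (e : U) (c : F), ∃ g : V →ₗ[F] V,
      (∀ u w, g (t u w) = t (u + (c * f₁ u e) • e) w) ∧ ∀ v ∈ S, g v ∈ S)
    {u : U} {w : W} (h : t u w ∈ S) (hu : u ≠ 0) (u' : U) : t u' w ∈ S := by
  by_cases hu' : u' = 0
  · rw [hu', map_zero, LinearMap.zero_apply]; exact h0
  by_cases hne : f₁ u u' = 0
  · obtain ⟨z, hz1, hz2⟩ := exists_two (f₁ u) (f₁ u') (exists_ne_of_nd nd₁ hu)
      (exists_ne_of_nd nd₁ hu')
    have m1 := moveU alt₁ S hA h hz1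
    apply moveU alt₁ S hA m1
    rw [skew_of_alt alt₁]
    exact neg_ne_zero.mpr hz2
  · exact moveU alt₁ S hA h hne

theorem wc_of_S (B : LinearMap.BilinForm F V) (f₁ : LinearMap.BilinForm F U)
    (f₂ : LinearMap.BilinForm F W) (alt₁ : ∀ u, f₁ u u = 0)
    (nd₁ : ∀ u, (∀ y, f₁ u y = 0) → u = 0) (sym₂ : ∀ w w', f₂ w w' = f₂ w' w)
    (hB : ∀ u w u' w', B (t u w) (t u' w') = f₁ u u' * f₂ w w')
    (S : Set V) (h0 : (0 : V) ∈ S) (hsmul : ∀ (a : F), ∀ v ∈ S, a • v ∈ S)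
    (hadd : ∀ s ∈ S, ∀ x ∈ S, B s x ≠ 0 → s + x ∈ S)
    (hA : ∀ (e : U) (c : F), ∃ g : V →ₗ[F] V,
      (∀ u w, g (t u w) = t (u + (c * f₁ u e) • e) w) ∧ ∀ v ∈ S, g v ∈ S)
    (hR : ∀ y : W, f₂ y y ≠ 0 → ∃ g : V →ₗ[F] V,
      (∀ u w, g (t u w) = t u (w - (2 * f₂ w y / f₂ y y) • y)) ∧ ∀ v ∈ S, g v ∈ S)
    {u₀ : U} (hu₀ : u₀ ≠ 0) : WC f₂ (Wset t S) where
  zero := mem_Wset.mpr (fun u => by rw [map_zero]; exact h0)
  smul := fun a w hw => mem_Wset.mpr (fun u => by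
    rw [map_smul]; exact hsmul a _ (mem_Wset.mp hw u))
  refl := fun y hy w hw => mem_Wset.mpr (fun u => by
    obtain ⟨g, hg, hgS⟩ := hR y hy
    have h1 := hgS _ (mem_Wset.mp hw u)
    rwa [hg] at h1)
  add3 := by
    intro w₁ hw₁ w₂ hw₂ w₃ hw₃ c1 c2 c3
    obtain ⟨z, hz⟩ := exists_ne_of_nd nd₁ hu₀
    obtain ⟨u₂, hu₂⟩ : ∃ u₂, u₂ = (f₁ u₀ z)⁻¹ • z := ⟨_, rfl⟩
    have h12 : f₁ u₀ u₂ = 1 := by
      rw [hu₂, map_smul, smul_eq_mul, inv_mul_cancel₀ hz]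
    have h21 : f₁ u₂ u₀ = -1 := by rw [skew_of_alt alt₁, h12]
    have s1 : t u₀ w₁ + t u₂ w₂ ∈ S := by
      apply hadd _ (mem_Wset.mp hw₁ u₀) _ (mem_Wset.mp hw₂ u₂)
      rw [hB, h12, one_mul]; exact c1
    have s2 : t u₀ w₁ + t u₂ w₂ + t u₀ w₃ ∈ S := by
      apply hadd _ s1 _ (mem_Wset.mp hw₃ u₀)
      have e : B (t u₀ w₁ + t u₂ w₂) (t u₀ w₃) = -(f₂ w₃ w₂) := by
        simp only [map_add, LinearMap.add_apply, hB, alt₁, h21]
        rw [sym₂ w₂ w₃]; ring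
      rw [e]; exact neg_ne_zero.mpr c2
    have hm : t (-u₂) w₂ ∈ S := mem_Wset.mp hw₂ (-u₂)
    have s3 : t u₀ w₁ + t u₂ w₂ + t u₀ w₃ + t (-u₂) w₂ ∈ S := by
      apply hadd _ s2 _ hm
      have e : B (t u₀ w₁ + t u₂ w₂ + t u₀ w₃) (t (-u₂) w₂) = -(f₂ (w₁ + w₃) w₂) := by
        simp only [map_add, LinearMap.add_apply, hB, map_neg, LinearMap.neg_apply, alt₁, h12]
        ring
      rw [e]; exact neg_ne_zero.mpr c3
    have e : t u₀ w₁ + t u₂ w₂ + t u₀ w₃ + t (-u₂) w₂ = t u₀ (w₁ + w₃) := by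
      rw [map_neg, LinearMap.neg_apply, map_add]; abel
    rw [e] at s3
    exact mem_Wset.mpr (fun u => allU alt₁ nd₁ S h0 hA s3 hu₀ u)

theorem exists_pure_ne (ht : IsTensorProduct t) (B : LinearMap.BilinForm F V)
    (ndB : ∀ v, (∀ v', B v v' = 0) → v = 0) {z : V} (hz : z ≠ 0) :
    ∃ u' w', B z (t u' w') ≠ 0 := by
  by_contra hcon
  push Not at hcon
  apply hz
  apply ndB
  intro v'
  exact ht.inductionOn v' (by rw [map_zero]) hcon
    (fun x y hx hy => by rw [map_add, hx, hy, add_zero])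

theorem add_pure_mem (ht : IsTensorProduct t) (B : LinearMap.BilinForm F V)
    (f₁ : LinearMap.BilinForm F U) (f₂ : LinearMap.BilinForm F W) (alt₁ : ∀ u, f₁ u u = 0)
    (sym₂ : ∀ w w', f₂ w w' = f₂ w' w)
    (hB : ∀ u w u' w', B (t u w) (t u' w') = f₁ u u' * f₂ w w')
    (ndB : ∀ v, (∀ v', B v v' = 0) → v = 0) (h2 : (2 : F) ≠ 0)
    (S : Set V) (h0 : (0 : V) ∈ S) (hadd : ∀ s ∈ S, ∀ x ∈ S, B s x ≠ 0 → s + x ∈ S)
    (hpure : ∀ u w, t u w ∈ S) {v : V} (hv : v ∈ S) (u : U) (w : W) : v + t u w ∈ S := by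
  by_cases hv0 : v = 0
  · rw [hv0, zero_add]; exact hpure u w
  by_cases hx0 : t u w = 0
  · rw [hx0, add_zero]; exact hv
  by_cases hs0 : v + t u w = 0
  · rw [hs0]; exact h0
  by_cases hBvx : B v (t u w) = 0
  swap
  · exact hadd v hv _ (hpure u w) hBvx
  obtain ⟨l₁, hl₁⟩ : ∃ l₁ : U →ₗ[F] W →ₗ[F] F, l₁ = t.compr₂ (B v) := ⟨_, rfl⟩
  obtain ⟨l₂, hl₂⟩ : ∃ l₂ : U →ₗ[F] W →ₗ[F] F, l₂ = t.compr₂ (B (t u w)) := ⟨_, rfl⟩
  have a₁ : ∀ a b, l₁ a b = B v (t a b) := by intro a b; rw [hl₁]; rfl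
  have a₂ : ∀ a b, l₂ a b = B (t u w) (t a b) := by intro a b; rw [hl₂]; rfl
  have h₁ : ∃ m, l₁ m ≠ 0 := by
    obtain ⟨u', w', h⟩ := exists_pure_ne ht B ndB hv0
    refine ⟨u', fun e => h ?_⟩
    rw [← a₁, e]; rfl
  have h₂ : ∃ m, l₂ m ≠ 0 := by
    obtain ⟨u', w', h⟩ := exists_pure_ne ht B ndB hx0
    refine ⟨u', fun e => h ?_⟩
    rw [← a₂, e]; rfl
  have h₃ : ∃ m, l₁ m + l₂ m ≠ 0 := by
    obtain ⟨u', w', h⟩ := exists_pure_ne ht B ndB hs0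
    refine ⟨u', fun e => h ?_⟩
    rw [map_add, LinearMap.add_apply, ← a₁, ← a₂, ← LinearMap.add_apply, e]; rfl
  obtain ⟨u', p1, p2, p3⟩ := exists_three h2 l₁ l₂ h₁ h₂ h₃
  have q₁ : ∃ m, l₁ u' m ≠ 0 := by
    by_contra hcon
    push Not at hcon
    exact p1 (LinearMap.ext hcon)
  have q₂ : ∃ m, l₂ u' m ≠ 0 := by
    by_contra hcon
    push Not at hcon
    exact p2 (LinearMap.ext hcon)
  have q₃ : ∃ m, l₁ u' m + l₂ u' m ≠ 0 := by
    by_contra hcon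
    push Not at hcon
    exact p3 (LinearMap.ext (fun m => by rw [LinearMap.add_apply]; exact hcon m))
  obtain ⟨w', b1, b2, b3⟩ := exists_three h2 (l₁ u') (l₂ u') q₁ q₂ q₃
  rw [a₁] at b1
  rw [a₂] at b2
  rw [a₁, a₂] at b3
  have hyy : B (t u' w') (t u' w') = 0 := by rw [hB, alt₁, zero_mul]
  have hyx : B (t u' w') (t u w) = -B (t u w) (t u' w') := by
    rw [hB, hB, skew_of_alt alt₁ u' u, sym₂ w' w]; ring
  have s1 : v + t u' w' ∈ S := hadd v hv _ (hpure u' w') b1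
  have s2 : v + t u' w' + t u w ∈ S := by
    apply hadd _ s1 _ (hpure u w)
    rw [map_add, LinearMap.add_apply, hBvx, zero_add, hyx]
    exact neg_ne_zero.mpr b2
  have hny : -(t u' w') ∈ S := by
    have h1 := hpure (-u') w'
    rwa [map_neg, LinearMap.neg_apply] at h1
  have s3 : v + t u' w' + t u w + -(t u' w') ∈ S := by
    apply hadd _ s2 _ hny
    have e : B (v + t u' w' + t u w) (-(t u' w')) =
        -(B v (t u' w') + B (t u w) (t u' w')) := by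
      simp only [map_add, map_neg, LinearMap.add_apply]
      rw [hyy]; ring
    rw [e]; exact neg_ne_zero.mpr b3
  have e : v + t u' w' + t u w + -(t u' w') = v + t u w := by abel
  rw [e] at s3
  exact s3

/-- **SEED, closure form.** -/
theorem seed_top [Finite F] [FiniteDimensional F U] [FiniteDimensional F W]
    (ht : IsTensorProduct t) (B : LinearMap.BilinForm F V) (f₁ : LinearMap.BilinForm F U)
    (f₂ : LinearMap.BilinForm F W)
    (alt₁ : ∀ u, f₁ u u = 0) (nd₁ : ∀ u, (∀ y, f₁ u y = 0) → u = 0)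
    (sym₂ : ∀ w w', f₂ w w' = f₂ w' w) (nd₂ : ∀ w, (∀ y, f₂ w y = 0) → w = 0)
    (hB : ∀ u w u' w', B (t u w) (t u' w') = f₁ u u' * f₂ w w')
    (ndB : ∀ v, (∀ v', B v v' = 0) → v = 0)
    (h2 : (2 : F) ≠ 0) (hb : 3 ≤ finrank F W) (hex : ¬ (Nat.card F = 3 ∧ finrank F W = 3))
    (S : Set V) (h0 : (0 : V) ∈ S) (hsmul : ∀ (a : F), ∀ v ∈ S, a • v ∈ S)
    (hadd : ∀ s ∈ S, ∀ x ∈ S, B s x ≠ 0 → s + x ∈ S)
    (hA : ∀ (e : U) (c : F), ∃ g : V →ₗ[F] V,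
      (∀ u w, g (t u w) = t (u + (c * f₁ u e) • e) w) ∧ ∀ v ∈ S, g v ∈ S)
    (hR : ∀ y : W, f₂ y y ≠ 0 → ∃ g : V →ₗ[F] V,
      (∀ u w, g (t u w) = t u (w - (2 * f₂ w y / f₂ y y) • y)) ∧ ∀ v ∈ S, g v ∈ S)
    {u₀ : U} {w₀ : W} (hu₀ : u₀ ≠ 0) (hw₀ : w₀ ≠ 0) (hseed : t u₀ w₀ ∈ S) : ∀ v, v ∈ S := by
  have hWC := wc_of_S B f₁ f₂ alt₁ nd₁ sym₂ hB S h0 hsmul hadd hA hR hu₀
  have hw₀W : w₀ ∈ Wset t S := mem_Wset.mpr (fun u => allU alt₁ nd₁ S h0 hA hseed hu₀ u)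
  have hall := hWC.eq_univ sym₂ nd₂ h2 hb hex hw₀W hw₀
  have hpure : ∀ u w, t u w ∈ S := fun u w => mem_Wset.mp (hall w) u
  have hP : ∀ x : V, ∀ v ∈ S, v + x ∈ S := by
    intro x
    refine ht.inductionOn x ?_ ?_ ?_
    · intro v hv; rw [add_zero]; exact hv
    · intro u w v hv
      exact add_pure_mem ht B f₁ f₂ alt₁ sym₂ hB ndB h2 S h0 hadd hpure hv u w
    · intro x y hx hy v hv
      rw [← add_assoc]
      exact hy _ (hx v hv)
  intro v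
  have h1 := hP v 0 h0
  rwa [zero_add] at h1

end Cfsg.Agent.Helper1.TensSpSeed
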