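import Cfsg.Agent.Helper1.TensSpSeedB
import Cfsg.Agent.Helper5.TensSpSeedBridge

set_option autoImplicit false
set_option linter.unusedSectionVars false
set_option linter.unusedVariables false

/-! S5666, leaf SEED (helper1), part C: the `Hyp`-form (helper6's stub `seed`), obtained from the
closure form `seed_top` through helper5's bridge `seed_of_top`. -/

namespace Cfsg.Agent.Helper6.SpO

open Module Cfsg.Agent.Helper8.Tens

variable {F : Type*} [Field F] {U W V : Type*} [AddCommGroup U] [Module F U]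
  [AddCommGroup W] [Module F W] [AddCommGroup V] [Module F V]
  {t : U →ₗ[F] W →ₗ[F] V} {B : LinearMap.BilinForm F V} {f₁ : LinearMap.BilinForm F U}
  {f₂ : LinearMap.BilinForm F W} {X : Subgroup (V ≃ₗ[F] V)}

/-- **SEED**: a pure transvection root group in `X` forces every symplectic transvection into `X`. -/
theorem seed [Finite F] [FiniteDimensional F U] [FiniteDimensional F W]
    (ht : IsTensorProduct t) (h : Hyp t B f₁ f₂ X) (ha : 2 ≤ finrank F U) (hb : 3 ≤ finrank F W)
    (hex : ¬ (Nat.card F = 3 ∧ finrank F W = 3)) (hTv : HasPureTv t B h.altB X) :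
    ∀ (v : V) (c : F), Tv B h.altB v c ∈ X :=
  Cfsg.Agent.Helper5.TensSpFin.seed_of_top h
    (fun S h0 hsmul hadd hA hR _ _ hu hw hs =>
      Cfsg.Agent.Helper1.TensSpSeed.seed_top ht B f₁ f₂ h.alt₁ h.nd₁ h.symm₂ h.nd₂ h.pol h.ndB
        h.two hb hex S h0 hsmul hadd hA hR hu hw hs) hTv

end Cfsg.Agent.Helper6.SpO
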