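import Mathlib
import Cfsg.Agent.Helper1.Basic
import Cfsg.Agent.Helper1.Coprime
import Cfsg.Agent.Helper1.MinNormal

set_option autoImplicit false

/-!
More transfer lemmas; factorizations.
-/

namespace Cfsg.Agent.Helper1

open scoped Pointwise commutatorElement

universe u

variable {G : Type u} [Group G]

/-- conjugates of factors of a factorized group. -/
theorem factorization_conj (H K A B : Subgroup G)
    (hHK : ∀ g : G, ∃ h ∈ H, ∃ k ∈ K, g = h * k) (hA : ∃ x : G, A = MulAut.conj x • H)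
    (hB : ∃ y : G, B = MulAut.conj y • K) :
    (∀ g : G, ∃ a ∈ A, ∃ b ∈ B, g = a * b) ∧
      ∃ g : G, A = MulAut.conj g • H ∧ B = MulAut.conj g • K := by
  obtain ⟨x, rfl⟩ := hA
  obtain ⟨y, rfl⟩ := hB
  obtain ⟨h, hh, k, hk, hxy⟩ := hHK (x⁻¹ * y)
  have hg1 : MulAut.conj (x * h) • H = MulAut.conj x • H := by
    rw [map_mul, mul_smul, Subgroup.conj_smul_eq_self_of_mem hh]
  have hxh : x * h = y * k⁻¹ := by
    have : y = x * (x⁻¹ * y) := by group
    rw [this, hxy]; group
  have hg2 : MulAut.conj (x * h) • K = MulAut.conj y • K := by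
    rw [hxh, map_mul, mul_smul, Subgroup.conj_smul_eq_self_of_mem (K.inv_mem hk)]
  have hsecond : ∃ g : G, MulAut.conj x • H = MulAut.conj g • H ∧
      MulAut.conj y • K = MulAut.conj g • K := ⟨x * h, hg1.symm, hg2.symm⟩
  refine ⟨?_, hsecond⟩
  intro g'
  set g := x * h with hgdef
  obtain ⟨h', hh', k', hk', he⟩ := hHK (g⁻¹ * g' * g)
  refine ⟨g * h' * g⁻¹, ?_, g * k' * g⁻¹, ?_, ?_⟩
  · rw [← hg1]; exact conj_mem_conj_smul hh'
  · rw [← hg2]; exact conj_mem_conj_smul hk'
  · have : g' = g * (g⁻¹ * g' * g) * g⁻¹ := by group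
    rw [this, he]; group

/-- `P/P'` has a normal complement iff the focal subgroup is `P'`. -/
theorem focal_eq_commutator_iff [Finite G] {p : ℕ} [Fact p.Prime] (P : Sylow p G) :
    (∃ N : Subgroup G, N.Normal ∧ N ⊓ (P : Subgroup G) = ⁅(P : Subgroup G), (P : Subgroup G)⁆ ∧
      N ⊔ (P : Subgroup G) = ⊤) ↔
      commutator G ⊓ (P : Subgroup G) = ⁅(P : Subgroup G), (P : Subgroup G)⁆ := by
  constructor
  · rintro ⟨N, hN, hinf, hsup⟩
    have hP'N : ⁅(P : Subgroup G), (P : Subgroup G)⁆ ≤ N := hinf ▸ inf_le_left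
    have hG'N : commutator G ≤ N := by
      rw [commutator_def, Subgroup.commutator_le]
      intro g₁ _ g₂ _
      have h1 : g₁ ∈ N ⊔ (P : Subgroup G) := hsup ▸ Subgroup.mem_top g₁
      have h2 : g₂ ∈ N ⊔ (P : Subgroup G) := hsup ▸ Subgroup.mem_top g₂
      obtain ⟨n₁, hn₁, p₁, hp₁, rfl⟩ := mem_sup_of_le_normalizer (le_normalizer_of_normal (P : Subgroup G) N) h1
      obtain ⟨n₂, hn₂, p₂, hp₂, rfl⟩ := mem_sup_of_le_normalizer (le_normalizer_of_normal (P : Subgroup G) N) h2
      rw [← QuotientGroup.eq_one_iff]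
      show (QuotientGroup.mk' N) ⁅n₁ * p₁, n₂ * p₂⁆ = 1
      rw [map_commutatorElement]
      have e1 : (QuotientGroup.mk' N) (n₁ * p₁) = (QuotientGroup.mk' N) p₁ := by
        rw [map_mul, QuotientGroup.mk'_apply, (QuotientGroup.eq_one_iff n₁).2 hn₁, one_mul]
      have e2 : (QuotientGroup.mk' N) (n₂ * p₂) = (QuotientGroup.mk' N) p₂ := by
        rw [map_mul, QuotientGroup.mk'_apply, (QuotientGroup.eq_one_iff n₂).2 hn₂, one_mul]
      rw [e1, e2, ← map_commutatorElement, QuotientGroup.mk'_apply, QuotientGroup.eq_one_iff]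
      exact hP'N (Subgroup.commutator_mem_commutator hp₁ hp₂)
    apply le_antisymm
    · rw [← hinf]; exact inf_le_inf_right _ hG'N
    · exact le_inf (Subgroup.commutator_mono le_top le_top) (Subgroup.commutator_le_self _)
  · intro h
    refine ⟨(P : Subgroup G).transferFocal.ker, inferInstance, ?_, ?_⟩
    · rw [Subgroup.ker_transferFocal_inf_eq_focalSubgroup, ← Subgroup.commutator_inf_eq_focalSubgroup, h]
    · rw [eq_top_iff]
      intro g _
      obtain ⟨y, hy⟩ := Subgroup.focalSubgroupOf.pow_index_surjective P ((P : Subgroup G).transferFocal g)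
      obtain ⟨x, rfl⟩ := QuotientGroup.mk'_surjective _ y
      have hx : (P : Subgroup G).transferFocal (x : G) = (P : Subgroup G).transferFocal g := by
        rw [Subgroup.transferFocal_eq_pow]; exact hy
      have hker : g * (x : G)⁻¹ ∈ (P : Subgroup G).transferFocal.ker := by
        rw [MonoidHom.mem_ker, map_mul, map_inv, hx, mul_inv_cancel]
      have : g = (g * (x : G)⁻¹) * x := by group
      rw [this]
      exact Subgroup.mul_mem _ (Subgroup.mem_sup_left hker) (Subgroup.mem_sup_right x.2)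

end Cfsg.Agent.Helper1
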