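import Mathlib
import Cfsg.Prelude.Def_Solvable
import Cfsg.Agent.Helper1.Basic
import Cfsg.Agent.Helper1.FPF2
import Cfsg.Agent.Helper1.FPFSub
import Cfsg.Agent.Helper1.Frobenius2
import Cfsg.Agent.Helper1.Frobenius3
import Cfsg.Agent.Helper1.FrobKernelNilp
import Cfsg.Agent.Helper1.FrobComplSylow
import Cfsg.Agent.Helper1.FrobEven
import Cfsg.Agent.Helper1.FrobConj
import Cfsg.Agent.Helper6.FrobThm

set_option autoImplicit false

/-!
2-Frobenius groups.
-/

namespace Cfsg.Agent.Helper1.TwoFrobenius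

open Cfsg.Agent.Helper1

open scoped Pointwise IsMulCommutative

universe u v

section norm

variable {A : Type u} [Group A] {V : Type v} [CommGroup V]

/-- A Frobenius-type group `Q ⋊ ⟨y⟩` with `Q` containing a fixed-point-free element cannot have
`y` fixed-point-free (weak-hypothesis version of `IsFPF.pow_card_eq_one_of_frobenius`). -/
theorem pow_card_eq_one_of_frobenius' (φ : A →* MulAut V) (Q : Subgroup A)
    [Fintype Q] (y : A) (r : ℕ) (hr : 0 < r) (hy : y ^ r = 1)
    (hfy : ∀ w : V, φ y w = w → w = 1)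
    (hfQ : ∃ b : Q, ∀ w : V, φ (b : A) w = w → w = 1)
    (hnorm : ∀ x ∈ Q, y * x * y⁻¹ ∈ Q)
    (hcent : ∀ j, 0 < j → j < r → ∀ x ∈ Q, y ^ j * x = x * y ^ j → x = 1) (w : V) :
    w ^ (Fintype.card Q) = 1 := by
  have hnormj : ∀ j : ℕ, ∀ x ∈ Q, y ^ j * x * (y ^ j)⁻¹ ∈ Q := by
    intro j
    induction j with
    | zero => intro x hx; simpa using hx
    | succ j ih =>
      intro x hx
      have := hnorm _ (ih x hx)
      have e : y ^ (j + 1) * x * (y ^ (j + 1))⁻¹ = y * (y ^ j * x * (y ^ j)⁻¹) * y⁻¹ := by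
        rw [pow_succ']; group
      rw [e]; exact this
  have hP : ∏ x : Q, cycNorm φ ((x : A) * y * (x : A)⁻¹) r w = 1 := by
    apply Finset.prod_eq_one
    intro x _
    have hc : ((x : A) * y * (x : A)⁻¹) ^ r = 1 := by
      rw [conj_pow, hy, mul_one, mul_inv_cancel]
    have h1 := cycNorm_fixed φ ((x : A) * y * (x : A)⁻¹) r hc w
    set u := cycNorm φ ((x : A) * y * (x : A)⁻¹) r w with hu
    -- `y` fixes `φ x⁻¹ u`
    have h2 : φ y (φ (x : A)⁻¹ u) = φ (x : A)⁻¹ u := by
      have h3 : φ ((x : A) * y * (x : A)⁻¹) u = φ (x : A) (φ y (φ (x : A)⁻¹ u)) := by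
        rw [map_mul, map_mul]; rfl
      rw [h3] at h1
      have h4 := congrArg (φ (x : A)⁻¹) h1
      rw [← MulAut.mul_apply, ← map_mul, inv_mul_cancel, map_one, MulAut.one_apply] at h4
      exact h4
    have h5 := hfy _ h2
    have h6 := congrArg (φ (x : A)) h5
    rw [← MulAut.mul_apply, ← map_mul, mul_inv_cancel, map_one, MulAut.one_apply, map_one] at h6
    exact h6
  unfold cycNorm at hP
  rw [Finset.prod_comm] at hP
  rw [Finset.prod_eq_single 0] at hP
  · simpa using hP
  · intro j hj hj0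
    have hjr : j < r := Finset.mem_range.1 hj
    let θ : Q → Q := fun x => ⟨(x : A) * (y ^ j * (x : A)⁻¹ * (y ^ j)⁻¹),
      Q.mul_mem x.2 (hnormj j _ (Q.inv_mem x.2))⟩
    have hθinj : Function.Injective θ := by
      intro x x' hxx
      have h1 : (x : A) * (y ^ j * (x : A)⁻¹ * (y ^ j)⁻¹) =
          (x' : A) * (y ^ j * (x' : A)⁻¹ * (y ^ j)⁻¹) := congrArg Subtype.val hxx
      have e1 : (x : A) * y ^ j * (x : A)⁻¹ = (x' : A) * y ^ j * (x' : A)⁻¹ := by
        have := congrArg (fun t => t * y ^ j) h1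
        simpa [mul_assoc] using this
      have h2 : y ^ j * ((x' : A)⁻¹ * x) = ((x' : A)⁻¹ * x) * y ^ j := by
        calc y ^ j * ((x' : A)⁻¹ * x)
            = (x' : A)⁻¹ * ((x' : A) * y ^ j * (x' : A)⁻¹) * x := by group
          _ = (x' : A)⁻¹ * ((x : A) * y ^ j * (x : A)⁻¹) * x := by rw [e1]
          _ = ((x' : A)⁻¹ * x) * y ^ j := by group
      have h3 := hcent j (Nat.pos_of_ne_zero hj0) hjr _ (Q.mul_mem (Q.inv_mem x'.2) x.2) h2
      apply Subtype.ext
      have : (x : A) = x' * ((x' : A)⁻¹ * x) := by group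
      rw [this, h3, mul_one]
    have hθbij : Function.Bijective θ := Finite.injective_iff_bijective.1 hθinj
    have hrew : ∀ x : Q, φ (((x : A) * y * (x : A)⁻¹) ^ j) w = φ ((θ x : Q) : A) (φ (y ^ j) w) := by
      intro x
      rw [conj_pow]
      have : (x : A) * y ^ j * (x : A)⁻¹ = ((θ x : Q) : A) * y ^ j := by
        show (x : A) * y ^ j * (x : A)⁻¹ = (x : A) * (y ^ j * (x : A)⁻¹ * (y ^ j)⁻¹) * y ^ j
        group
      rw [this, map_mul]; rfl
    simp only [hrew]
    rw [hθbij.prod_comp (fun x' : Q => φ (x' : A) (φ (y ^ j) w))]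
    obtain ⟨b, hb⟩ := hfQ
    exact hb _ (subNorm_fixed φ Q b _)
  · intro h
    exact absurd (Finset.mem_range.2 hr) h

end norm

variable {G : Type u} [Group G]

/-- fixed points of the complement of a Frobenius-type group acting on an abelian group on which
the kernel acts fixed-point-freely -/
theorem exists_fixed_of_frobenius_action [Finite G] (V B₀ : Subgroup G) [IsMulCommutative V]
    (y : G) (q : ℕ) (hq : 0 < q) (hyq : y ^ q = 1)
    (hBV : B₀ ≤ Subgroup.normalizer (V : Set G)) (hyV : y ∈ Subgroup.normalizer (V : Set G))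
    (hyB : ∀ b ∈ B₀, y * b * y⁻¹ ∈ B₀)
    (hfpfB : ∃ b ∈ B₀, V ⊓ Subgroup.centralizer {b} = ⊥)
    (hcent : ∀ j, 0 < j → j < q → ∀ b ∈ B₀, y ^ j * b = b * y ^ j → b = 1)
    (hcop : (Nat.card B₀).Coprime (Nat.card V)) (hV : V ≠ ⊥) :
    V ⊓ Subgroup.centralizer {y} ≠ ⊥ := by
  classical
  intro hcon
  apply hV
  apply eq_bot_of_forall_eq_one
  intro w
  set Nm := Subgroup.normalizer (V : Set G) with hNm
  set φ : Nm →* MulAut V := conjHom Nm V le_rfl with hφ
  set Q : Subgroup Nm := B₀.subgroupOf Nm with hQ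
  haveI : Fintype Q := Fintype.ofFinite Q
  have hfix : ∀ (a : Nm), V ⊓ Subgroup.centralizer {(a : G)} = ⊥ → ∀ w : V, φ a w = w → w = 1 := by
    intro a ha w hw
    have h1 : (a : G) * w * (a : G)⁻¹ = w := by
      rw [← conjHom_coe Nm V le_rfl a w, hw]
    have h2 : (w : G) ∈ V ⊓ Subgroup.centralizer {(a : G)} := by
      refine ⟨w.2, ?_⟩
      show (w : G) ∈ Subgroup.centralizer {(a : G)}
      rw [Subgroup.mem_centralizer_singleton_iff]
      have := congrArg (· * (a : G)) h1
      have h3 : (a : G) * (w : G) = (w : G) * (a : G) := by simpa [mul_assoc] using this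
      exact h3.symm
    rw [ha, Subgroup.mem_bot] at h2
    exact Subtype.ext h2
  have key := pow_card_eq_one_of_frobenius' φ Q ⟨y, hyV⟩ q hq (Subtype.ext (by simpa using hyq))
    (hfix ⟨y, hyV⟩ hcon)
    (by
      obtain ⟨b, hb, hbf⟩ := hfpfB
      exact ⟨⟨⟨b, hBV hb⟩, by rw [hQ, Subgroup.mem_subgroupOf]; exact hb⟩, hfix ⟨b, hBV hb⟩ hbf⟩)
    (by
      intro x hx
      rw [hQ, Subgroup.mem_subgroupOf] at hx ⊢
      exact hyB _ hx)
    (by
      intro j hj0 hjq x hx hcomm
      rw [hQ, Subgroup.mem_subgroupOf] at hx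
      have h1 : y ^ j * (x : G) = (x : G) * y ^ j := by
        have := congrArg Subtype.val hcomm
        simpa using this
      exact Subtype.ext (hcent j hj0 hjq _ hx h1))
    w
  have hcardQ : Fintype.card Q = Nat.card B₀ := by
    rw [← Nat.card_eq_fintype_card, hQ, card_subgroupOf_of_le hBV]
  rw [hcardQ] at key
  have h1 : orderOf w ∣ Nat.card B₀ := orderOf_dvd_of_pow_eq_one key
  have h2 : orderOf w ∣ Nat.card V := orderOf_dvd_natCard w
  exact orderOf_eq_one_iff.1 (Nat.eq_one_of_dvd_coprimes hcop h1 h2)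

/-- basic data of a Frobenius group given by a complement and a normal subgroup equal to the
kernel -/
theorem frobenius_data [Finite G] (C N : Subgroup G) [hN : N.Normal]
    (hC : Cfsg.IsFrobeniusComplement C) (hker : Cfsg.frobeniusKernel C = (N : Set G)) :
    Subgroup.IsComplement' N C ∧ N ≠ ⊥ ∧
      (∀ c ∈ C, c ≠ 1 → N ⊓ Subgroup.centralizer {c} = ⊥) ∧
      (Nat.card C).Coprime (Nat.card N) ∧ Group.IsNilpotent N := by
  obtain ⟨N', hN'set, hN'n, hN'nil⟩ := frobenius_kernel_nilpotent C hC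
  obtain ⟨N'', hN''set, -, hN''c⟩ := Cfsg.Agent.Helper6.frobenius_kernel_theorem C hC
  have e1 : N' = N := SetLike.coe_injective (hN'set.trans hker)
  have e2 : N'' = N := SetLike.coe_injective (hN''set.trans hker)
  subst e1
  rw [e2] at hN''c
  have hNne : N' ≠ ⊥ := frobenius_kernel_ne_bot hC hN''c
  refine ⟨hN''c, hNne, ?_, ?_, hN'nil⟩
  · exact (frobenius_iff_fpf N' C hN''c hNne hC.1).1 hC
  · have h1 := frobenius_coprime C hC
    rwa [hN''c.index_eq_card] at h1

/-- in a Frobenius group the centralizer of a non-identity element of the kernel lies in the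
kernel -/
theorem mem_kernel_of_commute [Finite G] (C N : Subgroup G)
    (hC : Cfsg.IsFrobeniusComplement C) (hker : Cfsg.frobeniusKernel C = (N : Set G))
    {n x : G} (hn : n ∈ N) (hn1 : n ≠ 1) (hx : x * n = n * x) : x ∈ N := by
  by_contra hxN
  have hxk : x ∉ Cfsg.frobeniusKernel C := by rw [hker]; exact hxN
  have hnk : n ∈ Cfsg.frobeniusKernel C := by rw [hker]; exact hn
  have hx1 : x ≠ 1 := by
    rintro rfl
    exact hxN N.one_mem
  have hxg : ∃ g : G, x ∈ MulAut.conj g • C := by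
    by_contra hcon
    push Not at hcon
    exact hxk (Or.inr hcon)
  obtain ⟨g, hg⟩ := hxg
  have hng : n ∉ MulAut.conj g • C := by
    rcases hnk with h | h
    · exact absurd h hn1
    · exact h g
  have hCg := frobenius_conj C hC g
  have hTI := hCg.2.2 n hng
  have hmem : x ∈ (MulAut.conj g • C) ⊓ (MulAut.conj n • (MulAut.conj g • C)) := by
    refine ⟨hg, ?_⟩
    show x ∈ MulAut.conj n • (MulAut.conj g • C)
    rw [mem_conj_smul]
    have : n⁻¹ * x * n = x := by
      rw [mul_assoc, hx, ← mul_assoc, inv_mul_cancel, one_mul]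
    rw [this]
    exact hg
  rw [hTI, Subgroup.mem_bot] at hmem
  exact hx1 hmem

end Cfsg.Agent.Helper1.TwoFrobenius
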