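import Mathlib
import Cfsg.Prelude.Def_Solvable
import Cfsg.Agent.Helper1.TwoFrobenius

set_option autoImplicit false

/-!
2-Frobenius groups: the element of order `pq` across the two outer layers.
-/

namespace Cfsg.Agent.Helper1.TwoFrobenius

open Cfsg.Agent.Helper1

open scoped Pointwise IsMulCommutative

universe u

variable {G : Type u} [Group G]

/-- from a nontrivial `p`-element commuting with `y` get one of order `p` -/
theorem exists_orderOf_eq_prime_of_commute [Finite G] {p : ℕ} [hp : Fact p.Prime] {v y : G}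
    (hv1 : v ≠ 1) (hvp : ∃ k : ℕ, v ^ p ^ k = 1) (hvy : v * y = y * v) :
    ∃ x : G, orderOf x = p ∧ x * y = y * x := by
  obtain ⟨k, hk⟩ := hvp
  obtain ⟨j, hj⟩ := (Nat.dvd_prime_pow hp.out).1 (orderOf_dvd_of_pow_eq_one hk)
  obtain ⟨j, rfl⟩ : ∃ i, j = i + 1 := by
    rcases j with _ | i
    · have h0 : orderOf v = 1 := by rw [hj.2, pow_zero]
      exact absurd (orderOf_eq_one_iff.1 h0) hv1
    · exact ⟨i, rfl⟩
  refine ⟨v ^ p ^ j, ?_, ?_⟩
  · rw [orderOf_pow' v (pow_ne_zero j hp.out.ne_zero), hj.2,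
      Nat.gcd_eq_right (pow_dvd_pow p (Nat.le_succ j)), pow_succ,
      Nat.mul_div_cancel_left _ (pow_pos hp.out.pos j)]
  · have hc : Commute v y := hvy
    exact (hc.pow_left (p ^ j)).eq

/-- an element of an `r`-subgroup lying in a subgroup of order prime to `r` is trivial -/
theorem eq_one_of_mem_pGroup_of_not_dvd [Finite G] {r : ℕ} [hr : Fact r.Prime]
    {S K : Subgroup G} (hS : IsPGroup r S) (hK : ¬ r ∣ Nat.card K) {x : G} (hxS : x ∈ S)
    (hxK : x ∈ K) : x = 1 := by
  obtain ⟨n, hn⟩ := hS ⟨x, hxS⟩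
  have hn' : x ^ r ^ n = 1 := by
    have := congrArg Subtype.val hn
    simpa using this
  have h1 : orderOf x ∣ r ^ n := orderOf_dvd_of_pow_eq_one hn'
  have h2 : orderOf x ∣ Nat.card K := by
    have := orderOf_dvd_natCard (⟨x, hxK⟩ : ↥K)
    rwa [← orderOf_injective K.subtype K.subtype_injective] at this
  have h3 : (Nat.card K).Coprime (r ^ n) :=
    Nat.Coprime.pow_right n ((Nat.Prime.coprime_iff_not_dvd hr.out).2 hK).symm
  exact orderOf_eq_one_iff.1 (Nat.eq_one_of_dvd_coprimes h3 h2 h1)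

theorem exists_commuting_of_order_p [Finite G] (H K : Subgroup G) [hHn : H.Normal]
    [hKn : K.Normal] (hHK : H ≤ K) (hHnil : Group.IsNilpotent H)
    (hfpfK : ∀ b h : G, h ∈ H → h ≠ 1 → b ∈ K → b * h = h * b → b ∈ H)
    (hfpfQ : ∀ g b : G, b ∈ K → b ∉ H → g * b = b * g → g ∈ K)
    {p q r : ℕ} [hp : Fact p.Prime] [hq : Fact q.Prime] [hr : Fact r.Prime]
    (hpH : p ∣ Nat.card H) (hrK : r ∣ Nat.card K) (hrH : ¬ r ∣ Nat.card H)
    (hqK : ¬ q ∣ Nat.card K) (y : G) (hy : orderOf y = q) :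
    ∃ x : G, orderOf x = p ∧ x * y = y * x := by
  classical
  have hrp : r ≠ p := by
    rintro rfl
    exact hrH hpH
  -- the Sylow `p`-subgroup of `H` and its centre
  obtain ⟨Ps⟩ : Nonempty (Sylow p ↥H) := inferInstance
  haveI : (Ps : Subgroup ↥H).Normal := inferInstance
  haveI : (Ps : Subgroup ↥H).Characteristic := Sylow.characteristic_of_normal Ps inferInstance
  set P : Subgroup G := (Ps : Subgroup ↥H).map H.subtype with hP
  haveI hPn : P.Normal := ConjAct.normal_of_characteristic_of_normal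
  have hPp : IsPGroup p ↥P := Ps.2.map _
  have hPH : P ≤ H := Subgroup.map_subtype_le _
  have hPne : P ≠ ⊥ := by
    intro hbot
    have h1 : Nat.card P = Nat.card (Ps : Subgroup ↥H) :=
      (Nat.card_congr ((Ps : Subgroup ↥H).equivMapOfInjective H.subtype
        H.subtype_injective).toEquiv).symm
    rw [hbot, Subgroup.card_bot] at h1
    have h2 : p ∣ Nat.card (Ps : Subgroup ↥H) := Ps.dvd_card_of_dvd_card hpH
    rw [← h1] at h2
    exact hp.out.one_lt.ne' (Nat.dvd_one.1 h2)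
  haveI : Nontrivial ↥P := (Subgroup.nontrivial_iff_ne_bot P).2 hPne
  haveI : (Subgroup.center ↥P).Characteristic := inferInstance
  set V : Subgroup G := (Subgroup.center ↥P).map P.subtype with hV
  haveI hVn : V.Normal := ConjAct.normal_of_characteristic_of_normal
  have hVP : V ≤ P := Subgroup.map_subtype_le _
  have hVp : IsPGroup p ↥V := hPp.to_le hVP
  have hVne : V ≠ ⊥ := by
    intro hbot
    have h1 := (IsPGroup.bot_lt_center hPp).ne'
    apply h1
    rw [eq_bot_iff]
    intro z hz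
    have : (z : G) ∈ V := ⟨z, hz, rfl⟩
    rw [hbot, Subgroup.mem_bot] at this
    rw [Subgroup.mem_bot]
    exact Subtype.ext this
  haveI hVc : IsMulCommutative ↥V := by
    refine ⟨⟨?_⟩⟩
    rintro ⟨_, a, ha, rfl⟩ ⟨_, b, hb, rfl⟩
    apply Subtype.ext
    have := Subgroup.mem_center_iff.1 ha b
    have h5 := congrArg (fun z : ↥P => (z : G)) this
    simpa using h5.symm
  -- a Sylow `r`-subgroup of `K` normalized by `y`
  set αy : MulAut ↥K := MulAut.conjNormal y with hαy
  have hαq : αy ^ q = 1 := by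
    rw [hαy, ← map_pow, ← hy, pow_orderOf_eq_one, map_one]
  set S : Subgroup (MulAut ↥K) := Subgroup.zpowers αy with hS
  have hSq : IsPGroup q ↥S := by
    rintro ⟨g, hg⟩
    obtain ⟨i, rfl⟩ := Subgroup.mem_zpowers_iff.1 hg
    refine ⟨1, ?_⟩
    apply Subtype.ext
    rw [pow_one, Subgroup.coe_pow, Subgroup.coe_one]
    show (αy ^ i) ^ q = 1
    rw [← zpow_natCast, ← zpow_mul, mul_comm, zpow_mul, zpow_natCast, hαq, one_zpow]
  have hndvd : ¬ q ∣ Nat.card (Sylow r ↥K) := by
    obtain ⟨R⟩ : Nonempty (Sylow r ↥K) := inferInstance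
    intro hdvd
    exact hqK ((hdvd.trans R.card_dvd_index).trans (Subgroup.index_dvd_card _))
  obtain ⟨R₀, hR₀⟩ := hSq.nonempty_fixed_point_of_prime_not_dvd_card (Sylow r ↥K) hndvd
  have hR₀y : ∀ x ∈ (R₀ : Subgroup ↥K), αy x ∈ (R₀ : Subgroup ↥K) := by
    intro x hx
    have h1 : (⟨αy, Subgroup.mem_zpowers αy⟩ : ↥S) • R₀ = R₀ := hR₀ _
    have h2 : αy • (R₀ : Subgroup ↥K) = (R₀ : Subgroup ↥K) := by
      have := congrArg (fun Q : Sylow r ↥K => (Q : Subgroup ↥K)) h1
      exact this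
    have h3 : αy • x ∈ αy • (R₀ : Subgroup ↥K) := Subgroup.smul_mem_pointwise_smul x αy _ hx
    rw [h2] at h3
    exact h3
  set B₀ : Subgroup G := (R₀ : Subgroup ↥K).map K.subtype with hB₀
  have hB₀K : B₀ ≤ K := Subgroup.map_subtype_le _
  have hB₀r : IsPGroup r ↥B₀ := R₀.2.map _
  have hB₀card : Nat.card B₀ = Nat.card (R₀ : Subgroup ↥K) :=
    (Nat.card_congr ((R₀ : Subgroup ↥K).equivMapOfInjective K.subtype
      K.subtype_injective).toEquiv).symm
  have hB₀ne : B₀ ≠ ⊥ := by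
    intro hbot
    rw [hbot, Subgroup.card_bot] at hB₀card
    have h2 : r ∣ Nat.card (R₀ : Subgroup ↥K) := R₀.dvd_card_of_dvd_card hrK
    rw [← hB₀card] at h2
    exact hr.out.one_lt.ne' (Nat.dvd_one.1 h2)
  have hB₀H : ∀ b ∈ B₀, b ∈ H → b = 1 := by
    intro b hb hbH
    exact eq_one_of_mem_pGroup_of_not_dvd hB₀r hrH hb hbH
  obtain ⟨b₁, hb₁ne⟩ := (Subgroup.ne_bot_iff_exists_ne_one).1 hB₀ne
  -- apply the fixed point lemma
  have key := exists_fixed_of_frobenius_action V B₀ y q hq.out.pos (hy ▸ pow_orderOf_eq_one y)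
    (by rw [Subgroup.normalizer_eq_top]; exact le_top)
    (by rw [Subgroup.normalizer_eq_top]; exact Subgroup.mem_top y)
    (by
      rintro _ ⟨x, hx, rfl⟩
      exact ⟨αy x, hR₀y x hx, rfl⟩)
    (by
      refine ⟨b₁, b₁.2, ?_⟩
      · rw [eq_bot_iff]
        intro v hv
        rw [Subgroup.mem_bot]
        by_contra hv1
        have hvH : v ∈ H := hPH (hVP hv.1)
        have hcomm : (b₁ : G) * v = v * (b₁ : G) :=
          (Subgroup.mem_centralizer_singleton_iff.1 hv.2).symm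
        have := hfpfK (b₁ : G) v hvH hv1 (hB₀K b₁.2) hcomm
        exact hb₁ne (Subtype.ext (hB₀H _ b₁.2 this)))
    (by
      intro j hj0 hjq b hb hcomm
      by_contra hb1
      have hbH : b ∉ H := fun h => hb1 (hB₀H b hb h)
      have hyj : y ^ j ∈ K := hfpfQ (y ^ j) b (hB₀K hb) hbH hcomm
      -- then `q ∣ |K|`
      have hord : orderOf (y ^ j) = q := by
        rw [orderOf_pow' y (Nat.pos_iff_ne_zero.1 hj0), hy]
        have hcop : Nat.gcd q j = 1 := by
          rw [Nat.Prime.coprime_iff_not_dvd hq.out |>.2]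
          intro hd
          exact absurd (Nat.le_of_dvd hj0 hd) (not_le.2 hjq)
        rw [hcop, Nat.div_one]
      have h2 : orderOf (y ^ j) ∣ Nat.card K := by
        have := orderOf_dvd_natCard (⟨y ^ j, hyj⟩ : ↥K)
        rwa [← orderOf_injective K.subtype K.subtype_injective] at this
      rw [hord] at h2
      exact hqK h2)
    (by
      obtain ⟨a, ha⟩ := IsPGroup.iff_card.1 hB₀r
      obtain ⟨c, hc⟩ := IsPGroup.iff_card.1 hVp
      rw [ha, hc]
      exact Nat.Coprime.pow _ _ ((Nat.coprime_primes hr.out hp.out).2 hrp))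
    hVne
  obtain ⟨v, hv1⟩ := (Subgroup.ne_bot_iff_exists_ne_one).1 key
  have hv1' : (v : G) ≠ 1 := fun h => hv1 (Subtype.ext h)
  have hvV : (v : G) ∈ V := v.2.1
  have hvy : (v : G) * y = y * (v : G) := by
    have := Subgroup.mem_centralizer_singleton_iff.1 v.2.2
    exact this
  have hvp : ∃ k : ℕ, (v : G) ^ p ^ k = 1 := by
    obtain ⟨k, hk⟩ := hVp ⟨v, hvV⟩
    refine ⟨k, ?_⟩
    have := congrArg Subtype.val hk
    simpa using this
  exact exists_orderOf_eq_prime_of_commute hv1' hvp hvy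

end Cfsg.Agent.Helper1.TwoFrobenius
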