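import Mathlib
import Cfsg.Prelude.Def_Solvable
import Cfsg.Agent.Helper1.TwoFrobenius2

set_option autoImplicit false

/-!
2-Frobenius groups: generic lemmas on complements with nilpotent / cyclic structure.
-/

namespace Cfsg.Agent.Helper1.TwoFrobenius

open Cfsg.Agent.Helper1

open scoped Pointwise IsMulCommutative

universe u

variable {G : Type u} [Group G]

/-- a nilpotent Frobenius complement of odd order is cyclic -/
theorem isCyclic_of_odd_nilpotent_complement [Finite G] (N C : Subgroup G) [N.Normal]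
    (hN : N ≠ ⊥) (hfpf : ∀ c ∈ C, c ≠ 1 → N ⊓ Subgroup.centralizer {c} = ⊥)
    (hodd : Odd (Nat.card C)) (hnil : Group.IsNilpotent C) : IsCyclic C := by
  haveI : IsZGroup C := by
    constructor
    intro p hp P
    haveI := Fact.mk hp
    rcases frobenius_complement_sylow N C hN hfpf p P with h | ⟨n, ⟨e⟩⟩
    · exact h
    · exfalso
      haveI : NeZero (2 ^ n) := ⟨pow_ne_zero n two_ne_zero⟩
      have h1 : Nat.card P = 4 * 2 ^ n := by
        rw [Nat.card_congr e.toEquiv, Nat.card_eq_fintype_card, QuaternionGroup.card]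
      have h2 : 2 ∣ Nat.card P := by
        rw [h1]; exact Dvd.dvd.mul_right (by norm_num) _
      have h3 : 2 ∣ Nat.card C := h2.trans (Subgroup.card_subgroup_dvd_card _)
      exact (Nat.not_even_iff_odd.2 hodd) (even_iff_two_dvd.2 h3)
  infer_instance

/-- the kernel of a fixed-point-free action cannot have a unique involution -/
theorem false_of_unique_involution (N C : Subgroup G) [hNn : N.Normal]
    (hfpf : ∀ c ∈ C, c ≠ 1 → N ⊓ Subgroup.centralizer {c} = ⊥) (hC : C ≠ ⊥)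
    (s : G) (hs : s ∈ N) (hs2 : orderOf s = 2)
    (huniq : ∀ t ∈ N, orderOf t = 2 → t = s) : False := by
  obtain ⟨c, hc1⟩ := (Subgroup.ne_bot_iff_exists_ne_one).1 hC
  have hc1' : (c : G) ≠ 1 := fun h => hc1 (Subtype.ext h)
  have ht : (c : G) * s * (c : G)⁻¹ ∈ N := hNn.conj_mem s hs c
  have ho : orderOf ((c : G) * s * (c : G)⁻¹) = 2 := by
    have := MulEquiv.orderOf_eq (MulAut.conj (c : G)) s
    rw [MulAut.conj_apply] at this
    rw [this, hs2]
  have h1 := huniq _ ht ho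
  have h2 : s ∈ N ⊓ Subgroup.centralizer {(c : G)} := by
    refine ⟨hs, ?_⟩
    show s ∈ Subgroup.centralizer {(c : G)}
    rw [Subgroup.mem_centralizer_singleton_iff]
    have := congrArg (· * (c : G)) h1
    have h4 : (c : G) * s = s * (c : G) := by simpa [mul_assoc] using this
    exact h4.symm
  rw [hfpf c c.2 hc1', Subgroup.mem_bot] at h2
  rw [h2, orderOf_one] at hs2
  omega

/-- a group acting fixed-point-freely on a cyclic group is commutative -/
theorem isMulCommutative_of_fpf_on_cyclic (N C : Subgroup G) [hNn : N.Normal]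
    (hfpf : ∀ c ∈ C, c ≠ 1 → N ⊓ Subgroup.centralizer {c} = ⊥) (hN : N ≠ ⊥)
    (hNc : IsCyclic N) : IsMulCommutative C := by
  obtain ⟨z, hz⟩ := hNc.exists_generator
  have hz1 : (z : G) ≠ 1 := by
    intro h
    apply hN
    rw [eq_bot_iff]
    intro x hx
    obtain ⟨i, hi⟩ := Subgroup.mem_zpowers_iff.1 (hz ⟨x, hx⟩)
    have h3 : (z : G) ^ i = x := by
      have := congrArg Subtype.val hi
      simpa using this
    rw [Subgroup.mem_bot, ← h3, h, one_zpow]
  have hconj : ∀ c : G, ∃ a : ℤ, c * (z : G) * c⁻¹ = (z : G) ^ a := by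
    intro c
    have h1 : c * (z : G) * c⁻¹ ∈ N := hNn.conj_mem z z.2 c
    obtain ⟨i, hi⟩ := Subgroup.mem_zpowers_iff.1 (hz ⟨_, h1⟩)
    refine ⟨i, ?_⟩
    have := congrArg Subtype.val hi
    simpa using this.symm
  have hconj2 : ∀ c₁ c₂ : G, (c₁ * c₂) * (z : G) * (c₁ * c₂)⁻¹ = (c₂ * c₁) * (z : G) * (c₂ * c₁)⁻¹ := by
    intro c₁ c₂
    obtain ⟨a, ha⟩ := hconj c₁
    obtain ⟨b, hb⟩ := hconj c₂
    have e1 : (c₁ * c₂) * (z : G) * (c₁ * c₂)⁻¹ = c₁ * (c₂ * (z : G) * c₂⁻¹) * c₁⁻¹ := by group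
    have e2 : (c₂ * c₁) * (z : G) * (c₂ * c₁)⁻¹ = c₂ * (c₁ * (z : G) * c₁⁻¹) * c₂⁻¹ := by group
    have e3 : ∀ (c : G) (w : G) (i : ℤ), c * w ^ i * c⁻¹ = (c * w * c⁻¹) ^ i := by
      intro c w i
      exact (conj_zpow (a := c) (b := w) (i := i)).symm
    rw [e1, e2, hb, ha, e3, e3, ha, hb, ← zpow_mul, ← zpow_mul, mul_comm]
  refine ⟨⟨?_⟩⟩
  intro c₁ c₂
  by_contra hne
  set d : G := ((c₂ : G) * c₁)⁻¹ * ((c₁ : G) * c₂) with hd
  have hdC : d ∈ C := C.mul_mem (C.inv_mem (C.mul_mem c₂.2 c₁.2)) (C.mul_mem c₁.2 c₂.2)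
  have hd1 : d ≠ 1 := by
    intro h
    apply hne
    apply Subtype.ext
    have h2 : (c₁ : G) * c₂ = (c₂ : G) * c₁ := by
      have := congrArg (fun t => ((c₂ : G) * c₁) * t) h
      simpa [hd, mul_assoc] using this
    simpa using h2
  have hzc : (z : G) ∈ N ⊓ Subgroup.centralizer {d} := by
    refine ⟨z.2, ?_⟩
    show (z : G) ∈ Subgroup.centralizer {d}
    rw [Subgroup.mem_centralizer_singleton_iff]
    have h1 := hconj2 (c₁ : G) (c₂ : G)
    have h2 : d * (z : G) * d⁻¹ = (z : G) := by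
      calc d * (z : G) * d⁻¹
          = ((c₂ : G) * c₁)⁻¹ * (((c₁ : G) * c₂) * (z : G) * ((c₁ : G) * c₂)⁻¹) * ((c₂ : G) * c₁) := by
            rw [hd]; group
        _ = (z : G) := by rw [h1]; group
    have := congrArg (· * d) h2
    have h4 : d * (z : G) = (z : G) * d := by simpa [mul_assoc] using this
    exact h4.symm
  rw [hfpf d hdC hd1, Subgroup.mem_bot] at hzc
  exact hz1 hzc

end Cfsg.Agent.Helper1.TwoFrobenius
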