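import Mathlib
import Cfsg.Prelude.Def_Solvable
import Cfsg.Agent.Helper1.TwoFrobenius3

set_option autoImplicit false

/-!
2-Frobenius groups: structure.
-/

namespace Cfsg.Agent.Helper1.TwoFrobenius

open Cfsg.Agent.Helper1

open scoped Pointwise IsMulCommutative

universe u

variable {G : Type u} [Group G]

set_option maxHeartbeats 800000 in
theorem two_frobenius_structure [Finite G] (H K : Subgroup G) [hHn : H.Normal] [hKn : K.Normal]
    (hle : H ≤ K)
    (C : Subgroup ↥K) (hC : Cfsg.IsFrobeniusComplement C)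
    (hker : Cfsg.frobeniusKernel C = (H.subgroupOf K : Set ↥K))
    (C' : Subgroup (G ⧸ H)) (hC' : Cfsg.IsFrobeniusComplement C')
    (hker' : Cfsg.frobeniusKernel C' = (K.map (QuotientGroup.mk' H) : Set (G ⧸ H))) :
    Odd (Nat.card C) ∧ IsCyclic C ∧ Nat.card (↥K ⧸ H.subgroupOf K) = Nat.card C ∧
      IsCyclic (G ⧸ K) ∧ Nat.card (G ⧸ K) = Nat.card C' ∧ Group.IsSolvable G ∧
      (Nat.card C).Coprime (Nat.card H) ∧ (Nat.card C).Coprime (Nat.card C') ∧
      Nat.card K = Nat.card H * Nat.card C ∧ Group.IsNilpotent H := by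
  classical
  set NK := H.subgroupOf K with hNK
  set Kb := K.map (QuotientGroup.mk' H) with hKb
  haveI : NK.Normal := Subgroup.normal_subgroupOf
  haveI hKbn : Kb.Normal := hKn.map _ (QuotientGroup.mk'_surjective H)
  obtain ⟨hcompl, hNKne, hfpf, hcop, hNKnil⟩ := frobenius_data C NK hC hker
  obtain ⟨hcompl', hKbne, hfpf', hcop', hKbnil⟩ := frobenius_data C' Kb hC' hker'
  -- the isomorphism C ≃* Kb
  have hmemKb : ∀ c : C, (((QuotientGroup.mk' H).comp K.subtype).comp C.subtype) c ∈ Kb :=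
    fun c => ⟨_, (c : ↥K).2, rfl⟩
  set ψ : C →* Kb :=
    (((QuotientGroup.mk' H).comp K.subtype).comp C.subtype).codRestrict Kb hmemKb with hψ
  have hψinj : Function.Injective ψ := by
    rw [injective_iff_map_eq_one]
    intro c hc
    have h1 : (QuotientGroup.mk' H) ((c : ↥K) : G) = 1 := congrArg Subtype.val hc
    rw [QuotientGroup.mk'_apply, QuotientGroup.eq_one_iff] at h1
    have h2 : (c : ↥K) ∈ NK ⊓ C := ⟨Subgroup.mem_subgroupOf.2 h1, c.2⟩
    rw [hcompl.disjoint.eq_bot, Subgroup.mem_bot] at h2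
    exact Subtype.ext h2
  have hdecomp : ∀ k : ↥K, ∃ n ∈ NK, ∃ c ∈ C, n * c = k := by
    intro k
    obtain ⟨⟨n, c⟩, hnc⟩ := hcompl.2 k
    exact ⟨n, n.2, c, c.2, hnc⟩
  have hmkNK : ∀ n ∈ NK, (QuotientGroup.mk' H) ((n : ↥K) : G) = 1 := by
    intro n hn
    rw [QuotientGroup.mk'_apply, QuotientGroup.eq_one_iff]
    rwa [hNK, Subgroup.mem_subgroupOf] at hn
  have hψsurj : Function.Surjective ψ := by
    rintro ⟨_, k, hk, rfl⟩
    obtain ⟨n, hn, c, hc, hnc⟩ := hdecomp ⟨k, hk⟩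
    refine ⟨⟨c, hc⟩, ?_⟩
    apply Subtype.ext
    show (QuotientGroup.mk' H) ((c : ↥K) : G) = (QuotientGroup.mk' H) k
    have h1 : ((n : ↥K) : G) * ((c : ↥K) : G) = k := by
      have := congrArg Subtype.val hnc
      simpa using this
    rw [← h1, map_mul, hmkNK n hn, one_mul]
  set e : C ≃* Kb := MulEquiv.ofBijective ψ ⟨hψinj, hψsurj⟩ with he
  have hcardCKb : Nat.card C = Nat.card Kb := Nat.card_congr e.toEquiv
  have hindex : Nat.card (↥K ⧸ NK) = Nat.card C := by
    rw [← Subgroup.index_eq_card, hcompl.symm.index_eq_card]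
  -- odd
  have hodd : Odd (Nat.card C) := by
    rw [← Nat.not_even_iff_odd, even_iff_two_dvd]
    intro h2
    obtain ⟨⟨s, hsC, hs2, huniq, -⟩, -⟩ := frobenius_even_complement NK C hNKne hfpf h2
    apply false_of_unique_involution Kb C' hfpf' hC'.1 ((e ⟨s, hsC⟩ : Kb) : G ⧸ H) (e ⟨s, hsC⟩).2
    · rw [Subgroup.orderOf_coe, MulEquiv.orderOf_eq, ← Subgroup.orderOf_coe]; exact hs2
    · intro t ht ht2
      have h3 : orderOf (e.symm ⟨t, ht⟩ : C) = 2 := by
        rw [MulEquiv.orderOf_eq, ← Subgroup.orderOf_coe]; exact ht2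
      have h4 : ((e.symm ⟨t, ht⟩ : C) : ↥K) = s :=
        huniq _ (e.symm ⟨t, ht⟩).2 (by rw [Subgroup.orderOf_coe]; exact h3)
      have h5 : e.symm ⟨t, ht⟩ = ⟨s, hsC⟩ := Subtype.ext h4
      have h6 : (⟨t, ht⟩ : Kb) = e ⟨s, hsC⟩ := by rw [← h5, MulEquiv.apply_symm_apply]
      exact congrArg Subtype.val h6
  -- cyclic
  have hCnil : Group.IsNilpotent C := by
    haveI := hKbnil
    exact Group.nilpotent_of_mulEquiv e.symm
  have hCcyc : IsCyclic C := isCyclic_of_odd_nilpotent_complement NK C hNKne hfpf hodd hCnil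
  have hKbcyc : IsCyclic Kb := isCyclic_of_surjective e e.surjective
  have hC'comm : IsMulCommutative C' :=
    isMulCommutative_of_fpf_on_cyclic Kb C' hfpf' hKbne hKbcyc
  haveI : IsMulCommutative Kb := IsCyclic.isMulCommutative
  have hC'cyc : IsCyclic C' := isCyclic_of_fpf_of_comm C' Kb hKbne
    (by rw [Subgroup.normalizer_eq_top]; exact le_top) hfpf' hC'comm
  -- `G ⧸ K`
  set ρ : G ⧸ H →* G ⧸ K := QuotientGroup.map H K (MonoidHom.id G) (by simpa using hle) with hρ
  have hρmk : ∀ g : G, ρ (QuotientGroup.mk g) = QuotientGroup.mk g := fun g => rfl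
  have hρKb : ∀ x ∈ Kb, ρ x = 1 := by
    rintro _ ⟨k, hk, rfl⟩
    show ρ (QuotientGroup.mk k) = 1
    rw [hρmk, QuotientGroup.eq_one_iff]; exact hk
  have hρker : ∀ x, ρ x = 1 → x ∈ Kb := by
    intro x hx
    obtain ⟨g, rfl⟩ := QuotientGroup.mk_surjective x
    rw [hρmk, QuotientGroup.eq_one_iff] at hx
    exact ⟨g, hx, rfl⟩
  set ρC : C' →* G ⧸ K := ρ.comp C'.subtype with hρC
  have hρCsurj : Function.Surjective ρC := by
    intro y
    obtain ⟨g, rfl⟩ := QuotientGroup.mk_surjective y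
    obtain ⟨⟨n, c⟩, hnc⟩ := hcompl'.2 (QuotientGroup.mk g : G ⧸ H)
    refine ⟨c, ?_⟩
    show ρ (c : G ⧸ H) = _
    have h1 : ρ ((n : G ⧸ H) * (c : G ⧸ H)) = ρ (QuotientGroup.mk g) := congrArg ρ hnc
    rw [map_mul, hρKb _ n.2, one_mul] at h1
    exact h1
  have hρCinj : Function.Injective ρC := by
    rw [injective_iff_map_eq_one]
    intro c hc
    have h2 : (c : G ⧸ H) ∈ Kb ⊓ C' := ⟨hρker _ hc, c.2⟩
    rw [hcompl'.disjoint.eq_bot, Subgroup.mem_bot] at h2
    exact Subtype.ext h2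
  have hGKcyc : IsCyclic (G ⧸ K) := isCyclic_of_surjective ρC hρCsurj
  have hGKcard : Nat.card (G ⧸ K) = Nat.card C' :=
    (Nat.card_congr (Equiv.ofBijective ρC ⟨hρCinj, hρCsurj⟩)).symm
  -- solvable
  have hKsolv : Group.IsSolvable ↥K := by
    haveI : Group.IsSolvable NK := by haveI := hNKnil; infer_instance
    haveI : IsCyclic (↥K ⧸ NK) := by
      refine isCyclic_of_surjective ((QuotientGroup.mk' NK).comp C.subtype) ?_
      intro y
      obtain ⟨k, rfl⟩ := QuotientGroup.mk_surjective y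
      obtain ⟨n, hn, c, hc, hnc⟩ := hdecomp k
      refine ⟨⟨c, hc⟩, ?_⟩
      show (QuotientGroup.mk c : ↥K ⧸ NK) = QuotientGroup.mk k
      rw [QuotientGroup.eq, ← hnc]
      have : c⁻¹ * (n * c) = c⁻¹ * n * c⁻¹⁻¹ := by group
      rw [this]
      exact Subgroup.Normal.conj_mem inferInstance n hn c⁻¹
    haveI : Group.IsSolvable (↥K ⧸ NK) := by
      letI := IsCyclic.commGroup (α := ↥K ⧸ NK)
      infer_instance
    exact Group.isSolvable_of_ker_le_range NK.subtype (QuotientGroup.mk' NK)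
      (by rw [QuotientGroup.ker_mk', Subgroup.range_subtype])
  have hGsolv : Group.IsSolvable G := by
    haveI := hKsolv
    haveI : Group.IsSolvable (G ⧸ K) := by
      letI := IsCyclic.commGroup (α := G ⧸ K)
      infer_instance
    exact Group.isSolvable_of_ker_le_range K.subtype (QuotientGroup.mk' K)
      (by rw [QuotientGroup.ker_mk', Subgroup.range_subtype])
  have hcardNK : Nat.card NK = Nat.card H := card_subgroupOf_of_le hle
  have hHnil : Group.IsNilpotent H := by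
    haveI := hNKnil
    exact Group.nilpotent_of_mulEquiv (Subgroup.subgroupOfEquivOfLe hle)
  refine ⟨hodd, hCcyc, hindex, hGKcyc, hGKcard, hGsolv, ?_, ?_, ?_, hHnil⟩
  · rw [← hcardNK]; exact hcop
  · rw [hcardCKb]; exact hcop'.symm
  · rw [← hcardNK]; exact hcompl.card_mul_card.symm

end Cfsg.Agent.Helper1.TwoFrobenius
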