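import Mathlib
import Cfsg.Prelude.Def_Solvable
import Cfsg.Agent.Helper1.TwoFrobenius4
import Cfsg.Agent.Helper1.NilpCoprime

set_option autoImplicit false

/-!
2-Frobenius groups: the prime graph.
-/

namespace Cfsg.Agent.Helper1.TwoFrobenius

open Cfsg.Agent.Helper1

open scoped Pointwise IsMulCommutative

universe u

variable {G : Type u} [Group G]

theorem mem_of_coprime_orderOf_index [Finite G] (N : Subgroup G) [N.Normal] (x : G)
    (h : (orderOf x).Coprime (Nat.card (G ⧸ N))) : x ∈ N := by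
  have h1 : orderOf (QuotientGroup.mk' N x) ∣ orderOf x := orderOf_map_dvd _ x
  have h2 : orderOf (QuotientGroup.mk' N x) ∣ Nat.card (G ⧸ N) := orderOf_dvd_natCard _
  have h3 := Nat.eq_one_of_dvd_coprimes h h1 h2
  rw [orderOf_eq_one_iff, QuotientGroup.mk'_apply, QuotientGroup.eq_one_iff] at h3
  exact h3

theorem exists_orderOf_eq_of_dvd_orderOf (g : G) (d : ℕ) (hd : d ∣ orderOf g)
    (hpos : 0 < orderOf g) : ∃ x : G, orderOf x = d := by
  obtain ⟨n, hn⟩ := hd
  have hd0 : 0 < d := by
    rcases Nat.eq_zero_or_pos d with h | h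
    · rw [h, zero_mul] at hn; omega
    · exact h
  have hn0 : n ≠ 0 := by
    rintro rfl
    rw [mul_zero] at hn; omega
  refine ⟨g ^ n, ?_⟩
  rw [orderOf_pow_of_dvd hn0 ⟨d, by rw [hn, mul_comm]⟩, hn, Nat.mul_div_cancel _ (Nat.pos_of_ne_zero hn0)]

theorem exists_orderOf_eq_of_dvd_card_cyclic [Finite G] [IsCyclic G] (d : ℕ)
    (hd : d ∣ Nat.card G) : ∃ x : G, orderOf x = d := by
  obtain ⟨g, hg⟩ := IsCyclic.exists_ofOrder_eq_natCard (α := G)
  exact exists_orderOf_eq_of_dvd_orderOf g d (hg ▸ hd) (hg ▸ Nat.card_pos)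

theorem orderOf_pow_prime_mul {p q : ℕ} (hp : 0 < p) (hq : 0 < q) (g : G)
    (hg : orderOf g = p * q) : orderOf (g ^ q) = p := by
  rw [orderOf_pow_of_dvd hq.ne' ⟨p, by rw [hg, mul_comm]⟩, hg, Nat.mul_div_cancel _ hq]

set_option maxHeartbeats 800000 in
theorem two_frobenius_prime_graph [Finite G] (H K : Subgroup G) [hHn : H.Normal] [hKn : K.Normal]
    (hle : H ≤ K)
    (C : Subgroup ↥K) (hC : Cfsg.IsFrobeniusComplement C)
    (hker : Cfsg.frobeniusKernel C = (H.subgroupOf K : Set ↥K))
    (C' : Subgroup (G ⧸ H)) (hC' : Cfsg.IsFrobeniusComplement C')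
    (hker' : Cfsg.frobeniusKernel C' = (K.map (QuotientGroup.mk' H) : Set (G ⧸ H)))
    (p q : ℕ) (hp : p.Prime) (hq : q.Prime) (hpq : p ≠ q) (hpG : p ∣ Nat.card G)
    (hqG : q ∣ Nat.card G) :
    (∃ g : G, orderOf g = p * q) ↔ (p ∣ Nat.card C ↔ q ∣ Nat.card C) := by
  classical
  obtain ⟨hodd, hCcyc, hindex, hGKcyc, hGKcard, -, hcopH, hcopC', hcardK, hHnil⟩ :=
    two_frobenius_structure H K hle C hC hker C' hC' hker'
  have hfpfK : ∀ b h : G, h ∈ H → h ≠ 1 → b ∈ K → b * h = h * b → b ∈ H := by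
    intro b h hh hh1 hb hbh
    have := mem_kernel_of_commute C (H.subgroupOf K) hC hker (n := ⟨h, hle hh⟩) (x := ⟨b, hb⟩)
      (Subgroup.mem_subgroupOf.2 hh) (fun h0 => hh1 (congrArg Subtype.val h0)) (Subtype.ext hbh)
    exact Subgroup.mem_subgroupOf.1 this
  have hfpfQ : ∀ g b : G, b ∈ K → b ∉ H → g * b = b * g → g ∈ K := by
    intro g b hb hbH hgb
    have := mem_kernel_of_commute C' (K.map (QuotientGroup.mk' H)) hC' hker'
      (n := (QuotientGroup.mk b : G ⧸ H)) (x := (QuotientGroup.mk g : G ⧸ H)) ⟨b, hb, rfl⟩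
      (by rw [Ne, QuotientGroup.eq_one_iff]; exact hbH)
      (by rw [← QuotientGroup.mk_mul, ← QuotientGroup.mk_mul, hgb])
    obtain ⟨k, hk, hkg⟩ := this
    have h1 : k⁻¹ * g ∈ H := QuotientGroup.eq.1 hkg
    have : g = k * (k⁻¹ * g) := by group
    rw [this]; exact K.mul_mem hk (hle h1)
  have hcardG : Nat.card G = Nat.card H * Nat.card C * Nat.card C' := by
    rw [← hcardK, ← hGKcard, ← Subgroup.index_eq_card, Subgroup.card_mul_index]
  -- forward direction
  have hL : ∀ p q : ℕ, p.Prime → q.Prime → p ≠ q → ∀ g : G, orderOf g = p * q →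
      p ∣ Nat.card C → q ∣ Nat.card C := by
    intro p q hp hq hpq g hg hpm
    by_contra hqm
    have ha : orderOf (g ^ q) = p := orderOf_pow_prime_mul hp.pos hq.pos g hg
    have hb : orderOf (g ^ p) = q := orderOf_pow_prime_mul hq.pos hp.pos g (by rw [hg, mul_comm])
    have hpH : ¬ p ∣ Nat.card H := fun h =>
      hp.one_lt.ne' (Nat.eq_one_of_dvd_coprimes hcopH hpm h)
    have hpC' : ¬ p ∣ Nat.card C' := fun h =>
      hp.one_lt.ne' (Nat.eq_one_of_dvd_coprimes hcopC' hpm h)
    have haK : g ^ q ∈ K := by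
      apply mem_of_coprime_orderOf_index
      rw [ha, hGKcard]
      exact (Nat.Prime.coprime_iff_not_dvd hp).2 hpC'
    have haH : g ^ q ∉ H := by
      intro h
      have := orderOf_dvd_natCard (⟨g ^ q, h⟩ : ↥H)
      rw [← Subgroup.orderOf_coe] at this
      simp only at this
      rw [ha] at this
      exact hpH this
    have hcomm : g ^ p * g ^ q = g ^ q * g ^ p := by
      rw [← pow_add, ← pow_add, add_comm]
    have hbK : g ^ p ∈ K := hfpfQ _ _ haK haH hcomm
    have hbH : g ^ p ∈ H := by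
      have h1 := mem_of_coprime_orderOf_index (H.subgroupOf K) (⟨g ^ p, hbK⟩ : ↥K) (by
        rw [hindex, ← Subgroup.orderOf_coe]
        simp only
        rw [hb]
        exact (Nat.Prime.coprime_iff_not_dvd hq).2 hqm)
      exact Subgroup.mem_subgroupOf.1 h1
    have hb1 : g ^ p ≠ 1 := by
      intro h
      rw [h, orderOf_one] at hb
      exact hq.one_lt.ne' hb.symm
    exact haH (hfpfK _ _ hbH hb1 haK hcomm.symm)
  have hCne : Nat.card C ≠ 1 := fun h => hC.1 (Subgroup.card_eq_one.1 h)
  constructor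
  · rintro ⟨g, hg⟩
    exact ⟨hL p q hp hq hpq g hg, hL q p hq hp hpq.symm g (by rw [hg, mul_comm])⟩
  · intro hiff
    have hcop : Nat.Coprime p q := (Nat.coprime_primes hp hq).2 hpq
    haveI := Fact.mk hp
    haveI := Fact.mk hq
    by_cases hpm : p ∣ Nat.card C
    · -- both divide `m`
      have hqm := hiff.1 hpm
      obtain ⟨x, hx⟩ := exists_orderOf_eq_of_dvd_card_cyclic (G := C) (p * q)
        (hcop.mul_dvd_of_dvd_of_dvd hpm hqm)
      refine ⟨((x : ↥K) : G), ?_⟩
      rw [Subgroup.orderOf_coe, Subgroup.orderOf_coe, hx]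
    · have hqm : ¬ q ∣ Nat.card C := fun h => hpm (hiff.2 h)
      -- a mixed pair
      have hmixed : ∀ p q : ℕ, p.Prime → q.Prime → p ≠ q → p ∣ Nat.card H → ¬ q ∣ Nat.card H →
          ¬ q ∣ Nat.card C → q ∣ Nat.card G → ∃ g : G, orderOf g = p * q := by
        intro p q hp hq hpq hpH hqH hqm hqG
        haveI := Fact.mk hp
        haveI := Fact.mk hq
        obtain ⟨r, hr, hrm⟩ := Nat.exists_prime_and_dvd hCne
        haveI := Fact.mk hr
        obtain ⟨y, hy⟩ := exists_prime_orderOf_dvd_card' q hqG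
        have hrK : r ∣ Nat.card K := by rw [hcardK]; exact Dvd.dvd.mul_left hrm _
        have hrH : ¬ r ∣ Nat.card H := fun h =>
          hr.one_lt.ne' (Nat.eq_one_of_dvd_coprimes hcopH hrm h)
        have hqK : ¬ q ∣ Nat.card K := by
          rw [hcardK]
          intro h
          rcases (Nat.Prime.dvd_mul hq).1 h with h | h
          · exact hqH h
          · exact hqm h
        obtain ⟨x, hx, hxy⟩ := exists_commuting_of_order_p H K hle hHnil hfpfK hfpfQ
          (p := p) (q := q) (r := r) hpH hrK hrH hqK y hy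
        refine ⟨x * y, ?_⟩
        have hc : Commute x y := hxy
        rw [hc.orderOf_mul_eq_mul_orderOf_of_coprime (by
          rw [hx, hy]; exact (Nat.coprime_primes hp hq).2 hpq), hx, hy]
      by_cases hpH : p ∣ Nat.card H
      · by_cases hqH : q ∣ Nat.card H
        · -- both in `H`
          obtain ⟨x, hx⟩ := exists_prime_orderOf_dvd_card' (G := ↥H) p hpH
          obtain ⟨y, hy⟩ := exists_prime_orderOf_dvd_card' (G := ↥H) q hqH
          haveI := hHnil
          have hc : Commute x y := commute_of_coprime_orderOf x y (by rw [hx, hy]; exact hcop)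
          refine ⟨((x * y : ↥H) : G), ?_⟩
          rw [Subgroup.orderOf_coe, hc.orderOf_mul_eq_mul_orderOf_of_coprime (by
            rw [hx, hy]; exact hcop), hx, hy]
        · exact hmixed p q hp hq hpq hpH hqH hqm hqG
      · by_cases hqH : q ∣ Nat.card H
        · obtain ⟨g, hg⟩ := hmixed q p hq hp hpq.symm hqH hpH hpm hpG
          exact ⟨g, by rw [hg, mul_comm]⟩
        · -- both divide `|G/K|`
          have hdiv : ∀ s : ℕ, s.Prime → s ∣ Nat.card G → ¬ s ∣ Nat.card C → ¬ s ∣ Nat.card H →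
              s ∣ Nat.card (G ⧸ K) := by
            intro s hs hsG hsC hsH
            rw [hcardG] at hsG
            rw [hGKcard]
            rcases (Nat.Prime.dvd_mul hs).1 hsG with h | h
            · rcases (Nat.Prime.dvd_mul hs).1 h with h | h
              · exact absurd h hsH
              · exact absurd h hsC
            · exact h
          have h1 := hdiv p hp hpG hpm hpH
          have h2 := hdiv q hq hqG hqm hqH
          obtain ⟨ybar, hybar⟩ := exists_orderOf_eq_of_dvd_card_cyclic (G := G ⧸ K) (p * q)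
            (hcop.mul_dvd_of_dvd_of_dvd h1 h2)
          obtain ⟨g, rfl⟩ := QuotientGroup.mk_surjective ybar
          have h3 : p * q ∣ orderOf g := by
            rw [← hybar]
            exact orderOf_map_dvd (QuotientGroup.mk' K) g
          exact exists_orderOf_eq_of_dvd_orderOf g (p * q) h3 (orderOf_pos g)

end Cfsg.Agent.Helper1.TwoFrobenius
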