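import Mathlib
import Cfsg.Agent.Helper2.PConstrained4
import Cfsg.Agent.Helper2.CharPLocal2

/-!
# Odd-order subgroups normalized by a large 2-subgroup in a group of characteristic 2
(helper lemmas for S3246)
-/

set_option autoImplicit false

namespace Cfsg.Agent.Helper1.TwoLoc

open Cfsg.Agent.Helper1 Cfsg.Agent.Helper2 Cfsg.Agent.Helper5

/-- `p`-constrained with trivial `p'`-core means characteristic `p`. -/
theorem hasCharP_of_constrained {M : Type*} [Group M] [Finite M] (p : ℕ) [hp : Fact p.Prime]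
    (h1 : Cfsg.IsPConstrained p M) (h2 : Cfsg.pPrimeCore p M = ⊥) : HasCharP p M := by
  rw [isPConstrained_iff, pLayer_eq_bot_iff_hasCharP] at h1
  let e : M ⧸ Cfsg.pPrimeCore p M ≃* M :=
    (QuotientGroup.quotientMulEquivOfEq h2).trans QuotientGroup.quotientBot
  exact h1.of_equiv e

/-- characteristic `p` implies `p`-constrained. -/
theorem constrained_of_hasCharP {M : Type*} [Group M] [Finite M] (p : ℕ) [hp : Fact p.Prime]
    (h : HasCharP p M) : Cfsg.IsPConstrained p M := by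
  rw [isPConstrained_iff, pLayer_eq_bot_iff_hasCharP]
  have h2 := pPrimeCore_eq_bot_of_hasCharP p h
  let e : M ⧸ Cfsg.pPrimeCore p M ≃* M :=
    (QuotientGroup.quotientMulEquivOfEq h2).trans QuotientGroup.quotientBot
  exact h.of_equiv e.symm

variable {G : Type*} [Group G]

theorem mul_mem_of_relIndex_le_two [Finite G] {Q₀ Q : Subgroup G}
    (h : Q₀.relIndex Q ≤ 2) {a b : G} (ha : a ∈ Q) (hb : b ∈ Q)
    (hab : a ∈ Q₀ ↔ b ∈ Q₀) : a * b ∈ Q₀ := by
  have h0 : Q₀.relIndex Q ≠ 0 := by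
    haveI := Subgroup.isFiniteRelIndex_of_finiteIndex (H := Q₀) (K := Q)
    exact Subgroup.relIndex_ne_zero
  have h12 : Q₀.relIndex Q = 1 ∨ Q₀.relIndex Q = 2 := by omega
  rcases h12 with h1 | h2
  · exact (Subgroup.relIndex_eq_one.1 h1) (Q.mul_mem ha hb)
  · have h3 : (Q₀.subgroupOf Q).index = 2 := h2
    have := Subgroup.mul_mem_iff_of_index_two h3 (a := ⟨a, ha⟩) (b := ⟨b, hb⟩)
    have h4 : (⟨a, ha⟩ : ↥Q) * ⟨b, hb⟩ ∈ Q₀.subgroupOf Q := by
      rw [this]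
      simp only [Subgroup.mem_subgroupOf]
      exact hab
    simpa [Subgroup.mem_subgroupOf] using h4

/-- Key lemma: `M` of characteristic 2, `R ≤ M` a 2-subgroup of index at most 2 in a Sylow
2-subgroup of `G`, `Y ≤ M` of odd order normalized by `R`. Then `Y = 1`. -/
theorem eq_bot_of_hasCharP [Finite G] (S : Sylow 2 G) (M R Y : Subgroup G)
    (hM : HasCharP 2 ↥M) (hRS : R ≤ S) (hcard : Nat.card (S : Subgroup G) ≤ 2 * Nat.card R)
    (hRM : R ≤ M) (hYM : Y ≤ M) (hY : Odd (Nat.card Y))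
    (hRY : R ≤ Subgroup.normalizer (Y : Set G)) : Y = ⊥ := by
  haveI : Fact (Nat.Prime 2) := ⟨Nat.prime_two⟩
  set Q : Subgroup G := (Cfsg.pCore 2 ↥M).map M.subtype with hQ
  have hQM : Q ≤ M := Subgroup.map_subtype_le _
  have hQp : IsPGroup 2 ↥Q := (isPGroup_pCore 2).map _
  have hRp : IsPGroup 2 ↥R := S.2.to_le hRS
  -- `M` normalizes `Q`
  have hMQ : ∀ m ∈ M, ∀ q ∈ Q, m * q * m⁻¹ ∈ Q := by
    rintro m hm _ ⟨q, hq, rfl⟩
    have hn : (Cfsg.pCore 2 ↥M).Normal := inferInstance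
    exact ⟨⟨m, hm⟩ * q * ⟨m, hm⟩⁻¹, hn.conj_mem q hq ⟨m, hm⟩, rfl⟩
  have hMQn : M ≤ Subgroup.normalizer (Q : Set G) := by
    rw [Subgroup.le_normalizer_iff]
    exact hMQ
  -- `P = Q ⊔ R` is a 2-group
  have hPp : IsPGroup 2 ↥(Q ⊔ R) := IsPGroup.to_sup_of_normal_left' hQp hRp (hRM.trans hMQn)
  have hPcard : Nat.card ↥(Q ⊔ R) ≤ Nat.card (S : Subgroup G) := by
    obtain ⟨S', hS'⟩ := hPp.exists_le_sylow
    have h1 : Nat.card ↥(Q ⊔ R) ≤ Nat.card (S' : Subgroup G) :=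
      Nat.le_of_dvd Nat.card_pos (Subgroup.card_dvd_of_le hS')
    rw [Sylow.card_eq_multiplicity] at h1 ⊢
    exact h1
  -- index of `Q ⊓ R` in `Q`
  set Q₀ : Subgroup G := Q ⊓ R with hQ₀
  have hidx : Q₀.relIndex Q ≤ 2 := by
    have h1 : Q₀.relIndex Q = R.relIndex Q := by
      rw [hQ₀, inf_comm]; exact Subgroup.inf_relIndex_right R Q
    have h2 : R.relIndex Q ≤ R.relIndex (Q ⊔ R) :=
      Subgroup.relIndex_le_of_le_right le_sup_left (by
        haveI := Subgroup.isFiniteRelIndex_of_finiteIndex (H := R) (K := Q ⊔ R)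
        exact Subgroup.relIndex_ne_zero)
    have h3 : Nat.card R * R.relIndex (Q ⊔ R) = Nat.card ↥(Q ⊔ R) := by
      have := Subgroup.relIndex_mul_relIndex ⊥ R (Q ⊔ R) bot_le le_sup_right
      rwa [Subgroup.relIndex_bot_left, Subgroup.relIndex_bot_left] at this
    have h4 : Nat.card R * R.relIndex (Q ⊔ R) ≤ Nat.card R * 2 := by
      rw [h3]; linarith
    have h5 : R.relIndex (Q ⊔ R) ≤ 2 := Nat.le_of_mul_le_mul_left h4 Nat.card_pos
    rw [h1]; exact h2.trans h5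
  -- `Q ⊓ Y = ⊥`
  have hQY : Q ⊓ Y = ⊥ := by
    apply Disjoint.eq_bot
    apply Subgroup.disjoint_of_coprime_natCard
    obtain ⟨k, hk⟩ := IsPGroup.iff_card.1 hQp
    rw [hk]
    apply Nat.Coprime.pow_left
    rw [Nat.coprime_comm]
    exact Nat.coprime_two_right.2 hY
  -- `Y` centralizes `Q₀`
  have hcent0 : ∀ y ∈ Y, ∀ q ∈ Q₀, y * q = q * y := by
    intro y hy q hq
    have hqQ : q ∈ Q := hq.1
    have hqR : q ∈ R := hq.2
    have h1 : q * y * q⁻¹ * y⁻¹ ∈ Y := by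
      have := (Subgroup.le_normalizer_iff.1 hRY) q hqR y hy
      exact Y.mul_mem this (Y.inv_mem hy)
    have h2 : q * y * q⁻¹ * y⁻¹ ∈ Q := by
      have := hMQ y (hYM hy) q⁻¹ (Q.inv_mem hqQ)
      have e : q * y * q⁻¹ * y⁻¹ = q * (y * q⁻¹ * y⁻¹) := by group
      rw [e]
      exact Q.mul_mem hqQ this
    have h3 : q * y * q⁻¹ * y⁻¹ ∈ Q ⊓ Y := ⟨h2, h1⟩
    rw [hQY, Subgroup.mem_bot] at h3
    calc y * q = (q * y * q⁻¹ * y⁻¹)⁻¹ * (q * y) := by group
      _ = q * y := by rw [h3]; group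
  -- elements of `Y` have odd order
  have hodd : ∀ y ∈ Y, (orderOf y).Coprime 2 := by
    intro y hy
    have h1 : orderOf y ∣ Nat.card Y := Subgroup.orderOf_dvd_natCard _ hy
    exact Nat.Coprime.coprime_dvd_left h1 (Nat.coprime_two_right.2 hY)
  -- `Y` centralizes `Q`
  have hcent : ∀ y ∈ Y, ∀ q ∈ Q, y * q = q * y := by
    intro y hy q hq
    have hyq : y * q * y⁻¹ ∈ Q := hMQ y (hYM hy) q hq
    have hr : q⁻¹ * (y * q * y⁻¹) ∈ Q₀ := by
      apply mul_mem_of_relIndex_le_two hidx (Q.inv_mem hq) hyq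
      rw [inv_mem_iff]
      constructor
      · intro h
        have := hcent0 y hy q h
        have e : y * q * y⁻¹ = q := by rw [this]; group
        rw [e]; exact h
      · intro h
        have := hcent0 y⁻¹ (Y.inv_mem hy) _ h
        have e : q = y⁻¹ * (y * q * y⁻¹) * y := by group
        rw [e, this]
        have e2 : y * q * y⁻¹ * y⁻¹ * y = y * q * y⁻¹ := by group
        rw [e2]; exact h
    apply stability_elt (p := 2) y q (hodd y hy)
    · obtain ⟨k, hk⟩ := hQp ⟨_, hr.1⟩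
      refine ⟨k, ?_⟩
      have := congrArg Subtype.val hk
      simpa using this
    · exact hcent0 y hy _ hr
  -- so `Y ≤ Q`
  rw [eq_bot_iff]
  intro y hy
  have hyM : y ∈ M := hYM hy
  have h1 : (⟨y, hyM⟩ : ↥M) ∈ Subgroup.centralizer ((Cfsg.pCore 2 ↥M : Subgroup ↥M) : Set ↥M) := by
    rw [Subgroup.mem_centralizer_iff]
    intro q hq
    apply Subtype.ext
    have := hcent y hy (q : G) ⟨q, hq, rfl⟩
    simpa using this.symm
  have h2 : (⟨y, hyM⟩ : ↥M) ∈ Cfsg.pCore 2 ↥M := hM h1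
  have h3 : y ∈ Q := ⟨⟨y, hyM⟩, h2, rfl⟩
  have h4 : y ∈ Q ⊓ Y := ⟨h3, hy⟩
  rw [hQY] at h4
  exact h4

end Cfsg.Agent.Helper1.TwoLoc
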