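import Mathlib
import Cfsg.Agent.Helper1.TwoLocA
import Cfsg.Prelude.Def_OddOrderLocal

/-!
# A four-group with large centralizers in a Sylow 2-subgroup having a noncyclic SCN
(helper lemmas for S3246)
-/

set_option autoImplicit false

namespace Cfsg.Agent.Helper1.TwoLoc

variable {G : Type*} [Group G]

/-- a nontrivial normal subgroup of a finite `p`-group meets the centre nontrivially -/
theorem normal_inf_center_ne_bot_aux {Q : Type*} [Group Q] [Finite Q] {p : ℕ} [hp : Fact p.Prime]
    (hQ : IsPGroup p Q) (M : Subgroup Q) [hM : M.Normal] (hMne : M ≠ ⊥) :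
    ∃ b ∈ M, b ≠ 1 ∧ ∀ g : Q, g * b = b * g := by
  have hQ' : IsPGroup p (ConjAct Q) := hQ
  have hcard : p ∣ Nat.card M := by
    obtain ⟨k, hk⟩ := (hQ.to_subgroup M).exists_card_eq
    have hk0 : k ≠ 0 := by
      rintro rfl
      rw [pow_zero] at hk
      exact hMne (Subgroup.card_eq_one.1 hk)
    rw [hk]
    exact dvd_pow_self p hk0
  have h1 : (1 : M) ∈ MulAction.fixedPoints (ConjAct Q) M := by
    intro g
    exact smul_one g
  obtain ⟨b, hb, hne⟩ := hQ'.exists_fixed_point_of_prime_dvd_card_of_fixed_point M hcard h1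
  refine ⟨(b : Q), b.2, ?_, ?_⟩
  · intro h
    apply hne
    exact (Subtype.ext h).symm
  · intro g
    have h2 := hb (ConjAct.toConjAct g)
    have h3 := congrArg Subtype.val h2
    rw [ConjAct.Subgroup.val_conj_smul, ConjAct.smul_def, ConjAct.ofConjAct_toConjAct] at h3
    calc g * b = g * b * g⁻¹ * g := by group
      _ = b * g := by rw [h3]

theorem mem_zpowers_of_sq_eq_one {a x : G} (ha : a ^ 2 = 1) (hx : x ∈ Subgroup.zpowers a) :
    x = 1 ∨ x = a := by
  obtain ⟨k, rfl⟩ := Subgroup.mem_zpowers_iff.1 hx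
  have h1 : a ^ k = a ^ (k % 2) := by
    conv_lhs => rw [← Int.mul_ediv_add_emod k 2]
    rw [zpow_add, zpow_mul]
    have : a ^ (2 : ℤ) = 1 := by
      rw [← ha]; exact zpow_natCast a 2
    rw [this, one_zpow, one_mul]
  rcases Int.emod_two_eq_zero_or_one k with h | h
  · left; rw [h1, h, zpow_zero]
  · right; rw [h1, h, zpow_one]

/-- In a finite 2-group `P` with a normal subgroup `V` of exponent 2 and order `> 2`, there are
a central involution `z ∈ V` and an involution `e ∈ V`, `e ≠ z`, whose centralizer has index at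
most 2. -/
theorem exists_pair_aux {P : Type*} [Group P] [Finite P] (hP : IsPGroup 2 P) (V : Subgroup P)
    [hVn : V.Normal] (hV2 : ∀ v ∈ V, v ^ 2 = 1) (hVcard : 2 < Nat.card V) :
    ∃ z e : P, z ∈ V ∧ e ∈ V ∧ z ≠ 1 ∧ e ≠ 1 ∧ e ≠ z ∧ (∀ g : P, g * z = z * g) ∧
      Nat.card P ≤ 2 * Nat.card (Subgroup.centralizer ({e} : Set P)) := by
  haveI : Fact (Nat.Prime 2) := ⟨Nat.prime_two⟩
  have hVne : V ≠ ⊥ := by
    intro h
    rw [h, Subgroup.card_bot] at hVcard
    omega
  obtain ⟨z, hzV, hz1, hzc⟩ := normal_inf_center_ne_bot_aux hP V hVne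
  have hz2 : z ^ 2 = 1 := hV2 z hzV
  set Z₀ : Subgroup P := Subgroup.zpowers z with hZ₀
  haveI hZn : Z₀.Normal := by
    constructor
    intro n hn g
    rcases mem_zpowers_of_sq_eq_one hz2 hn with rfl | rfl
    · simp
    · have : g * n * g⁻¹ = n := by rw [hzc g]; group
      rw [this]; exact hn
  have hZcard : Nat.card Z₀ ≤ 2 := by
    rw [hZ₀, Nat.card_zpowers]
    exact Nat.le_of_dvd (by norm_num) (orderOf_dvd_of_pow_eq_one hz2)
  set π := QuotientGroup.mk' Z₀ with hπ
  have hπs : Function.Surjective π := QuotientGroup.mk'_surjective _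
  haveI hVbn : (V.map π).Normal := hVn.map π hπs
  have hVbne : V.map π ≠ ⊥ := by
    intro h
    have h1 : V ≤ Z₀ := by
      intro v hv
      have : π v ∈ V.map π := ⟨v, hv, rfl⟩
      rw [h, Subgroup.mem_bot] at this
      rw [hπ, QuotientGroup.mk'_apply, QuotientGroup.eq_one_iff] at this
      exact this
    have := Nat.le_of_dvd Nat.card_pos (Subgroup.card_dvd_of_le h1)
    omega
  have hPb : IsPGroup 2 (P ⧸ Z₀) := hP.to_quotient Z₀
  obtain ⟨eb, hebV, heb1, hebc⟩ := normal_inf_center_ne_bot_aux hPb (V.map π) hVbne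
  obtain ⟨e, heV, rfl⟩ := hebV
  have heZ : e ∉ Z₀ := by
    intro h
    apply heb1
    rw [hπ, QuotientGroup.mk'_apply, QuotientGroup.eq_one_iff]
    exact h
  have he1 : e ≠ 1 := by
    rintro rfl
    exact heZ (Subgroup.one_mem _)
  have hez : e ≠ z := by
    rintro rfl
    exact heZ (Subgroup.mem_zpowers _)
  -- conjugates of `e`
  have hconj : ∀ g : P, g * e * g⁻¹ = e ∨ g * e * g⁻¹ = z * e := by
    intro g
    have h1 : π (g * e * g⁻¹ * e⁻¹) = 1 := by
      have := hebc (π g)
      rw [map_mul, map_mul, map_mul, map_inv, map_inv, this]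
      group
    rw [hπ, QuotientGroup.mk'_apply, QuotientGroup.eq_one_iff] at h1
    rcases mem_zpowers_of_sq_eq_one hz2 h1 with h | h
    · left
      calc g * e * g⁻¹ = g * e * g⁻¹ * e⁻¹ * e := by group
        _ = e := by rw [h, one_mul]
    · right
      calc g * e * g⁻¹ = g * e * g⁻¹ * e⁻¹ * e := by group
        _ = z * e := by rw [h]
  refine ⟨z, e, hzV, heV, hz1, he1, hez, hzc, ?_⟩
  set C := Subgroup.centralizer ({e} : Set P) with hC
  have hmemC : ∀ g : P, g ∈ C ↔ g * e * g⁻¹ = e := by
    intro g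
    rw [hC, Subgroup.mem_centralizer_singleton_iff]
    constructor
    · intro h; rw [h]; group
    · intro h
      calc g * e = g * e * g⁻¹ * g := by group
        _ = e * g := by rw [h]
  have hidx : C.index = 1 ∨ C.index = 2 := by
    by_cases htop : C = ⊤
    · left; rw [htop]; exact Subgroup.index_top
    · right
      obtain ⟨a, -, haC⟩ := SetLike.exists_of_lt (lt_top_iff_ne_top.2 htop)
      rw [Subgroup.index_eq_two_iff]
      refine ⟨a, fun b => ?_⟩
      have ha' : a * e * a⁻¹ = z * e := by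
        rcases hconj a with h | h
        · exact absurd ((hmemC a).2 h) haC
        · exact h
      by_cases hb : b ∈ C
      · refine Or.inr ⟨hb, ?_⟩
        intro hba
        apply haC
        have : a = b⁻¹ * (b * a) := by group
        rw [this]
        exact C.mul_mem (C.inv_mem hb) hba
      · refine Or.inl ⟨?_, hb⟩
        have hb' : b * e * b⁻¹ = z * e := by
          rcases hconj b with h | h
          · exact absurd ((hmemC b).2 h) hb
          · exact h
        rw [hmemC]
        have e1 : b * a * e * (b * a)⁻¹ = b * (a * e * a⁻¹) * b⁻¹ := by group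
        rw [e1, ha']
        have e2 : b * (z * e) * b⁻¹ = (b * z) * e * b⁻¹ := by group
        rw [e2, hzc b]
        have e3 : z * b * e * b⁻¹ = z * (b * e * b⁻¹) := by group
        rw [e3, hb', ← mul_assoc]
        have : z * z = 1 := by rw [← pow_two]; exact hz2
        rw [this, one_mul]
  have hcard := C.index_mul_card
  rcases hidx with h | h
  · rw [h] at hcard; omega
  · rw [h] at hcard; omega

end Cfsg.Agent.Helper1.TwoLoc
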