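import Mathlib
import Cfsg.Agent.Helper1.TwoLocB
import Cfsg.Agent.S3734
import Cfsg.Prelude.Def_OddOrderLocal
import Cfsg.Prelude.Def_CaseTheorems

/-!
# S3246, part (a): a Sylow 2-subgroup normalizes no nontrivial subgroup of odd order
-/

set_option autoImplicit false

namespace Cfsg.Agent.Helper1.TwoLoc

open Cfsg.Agent.Helper5

variable {G : Type*} [Group G] [Finite G]

/-- From a noncyclic SCN of a Sylow 2-subgroup `S` we get commuting involutions `z ≠ e` of `S`
and a subgroup `R` of index at most 2 in `S` centralizing both. -/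
theorem exists_pair (S : Sylow 2 G) (A : Subgroup G) (hA : Cfsg.IsSCN (S : Subgroup G) A)
    (hA3 : ¬ Cfsg.PRankLE 2 2 ↥A) :
    ∃ (z e : G) (R : Subgroup G), z ∈ (S : Subgroup G) ∧ e ∈ (S : Subgroup G) ∧ z ≠ 1 ∧ e ≠ 1 ∧
      e ≠ z ∧ z ^ 2 = 1 ∧ e ^ 2 = 1 ∧ z * e = e * z ∧ R ≤ (S : Subgroup G) ∧
      Nat.card (S : Subgroup G) ≤ 2 * Nat.card R ∧
      R ≤ Subgroup.centralizer ({z} : Set G) ∧ R ≤ Subgroup.centralizer ({e} : Set G) := by
  obtain ⟨hAS, hSA, hSCA⟩ := hA
  -- `A` is abelian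
  have hAab : ∀ a ∈ A, ∀ b ∈ A, a * b = b * a := by
    intro a ha b hb
    have hb' : b ∈ (S : Subgroup G) ⊓ Subgroup.centralizer (A : Set G) := by rw [hSCA]; exact hb
    exact (Subgroup.mem_centralizer_iff.1 hb'.2 a ha)
  -- the subgroup `V = Ω₁(A)` of `S`
  let V : Subgroup ↥(S : Subgroup G) :=
    { carrier := {x | (x : G) ∈ A ∧ x ^ 2 = 1}
      one_mem' := ⟨A.one_mem, one_pow 2⟩
      mul_mem' := by
        rintro x y ⟨hx, hx2⟩ ⟨hy, hy2⟩
        refine ⟨A.mul_mem hx hy, ?_⟩
        have hc : x * y = y * x := Subtype.ext (hAab _ hx _ hy)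
        have : Commute x y := hc
        rw [this.mul_pow, hx2, hy2, one_mul]
      inv_mem' := by
        rintro x ⟨hx, hx2⟩
        exact ⟨A.inv_mem hx, by rw [inv_pow, hx2, inv_one]⟩ }
  have hVmem : ∀ x : ↥(S : Subgroup G), x ∈ V ↔ ((x : G) ∈ A ∧ x ^ 2 = 1) := fun x => Iff.rfl
  haveI hVn : V.Normal := by
    constructor
    rintro n ⟨hn, hn2⟩ g
    refine ⟨?_, ?_⟩
    · have := (Subgroup.le_normalizer_iff.1 hSA) (g : G) g.2 (n : G) hn
      simpa using this
    · rw [conj_pow, hn2]; group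
  have hV2 : ∀ v ∈ V, v ^ 2 = 1 := fun v hv => hv.2
  have hVcard : 2 < Nat.card V := by
    unfold Cfsg.PRankLE at hA3
    push Not at hA3
    obtain ⟨B, hBc, hB2, hBcard⟩ := hA3
    let φ : ↥B → ↥V := fun b => ⟨⟨((b : ↥A) : G), hAS (b : ↥A).2⟩, by
      refine ⟨(b : ↥A).2, ?_⟩
      apply Subtype.ext
      have := congrArg Subtype.val (hB2 (b : ↥A) b.2)
      simpa using this⟩
    have hφ : Function.Injective φ := by
      intro b1 b2 h
      have h1 := congrArg (fun v : ↥V => ((v : ↥(S : Subgroup G)) : G)) h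
      exact Subtype.ext (Subtype.ext h1)
    have := Nat.card_le_card_of_injective φ hφ
    have h4 : (2:ℕ) ^ 2 = 4 := by norm_num
    omega
  obtain ⟨z', e', hzV, heV, hz1, he1, hez, hzc, hcard⟩ := exists_pair_aux S.2 V hV2 hVcard
  refine ⟨(z' : G), (e' : G), (Subgroup.centralizer ({e'} : Set ↥(S : Subgroup G))).map
    (S : Subgroup G).subtype, z'.2, e'.2, ?_, ?_, ?_, ?_, ?_, ?_, Subgroup.map_subtype_le _, ?_, ?_, ?_⟩
  · intro h; exact hz1 (Subtype.ext h)
  · intro h; exact he1 (Subtype.ext h)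
  · intro h; exact hez (Subtype.ext h)
  · have := congrArg Subtype.val (hV2 z' hzV)
    simpa using this
  · have := congrArg Subtype.val (hV2 e' heV)
    simpa using this
  · have := congrArg Subtype.val (hzc e')
    simpa using this.symm
  · rw [Subgroup.card_map_of_injective (Subgroup.subtype_injective _)]
    exact hcard
  · rintro _ ⟨c, -, rfl⟩
    rw [Subgroup.mem_centralizer_singleton_iff]
    have := congrArg Subtype.val (hzc c)
    simpa using this
  · rintro _ ⟨c, hc, rfl⟩
    rw [Subgroup.mem_centralizer_singleton_iff]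
    rw [SetLike.mem_coe, Subgroup.mem_centralizer_singleton_iff] at hc
    have := congrArg Subtype.val hc
    simpa using this

/-- `X ⊓ C(f) = 1` for an odd-order `X` normalized by `S`, when `C(f)` lies in a subgroup of
characteristic 2 and a subgroup `R` of index `≤ 2` in `S` centralizes `f`. -/
theorem inf_centralizer_eq_bot (S : Sylow 2 G) (f : G) (R M X : Subgroup G)
    (hM : HasCharP 2 ↥M) (hfM : Subgroup.centralizer ({f} : Set G) ≤ M)
    (hRS : R ≤ S) (hcard : Nat.card (S : Subgroup G) ≤ 2 * Nat.card R)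
    (hRf : R ≤ Subgroup.centralizer ({f} : Set G)) (hX : Odd (Nat.card X))
    (hSX : (S : Subgroup G) ≤ Subgroup.normalizer (X : Set G)) :
    X ⊓ Subgroup.centralizer ({f} : Set G) = ⊥ := by
  apply eq_bot_of_hasCharP S M R _ hM hRS hcard (hRf.trans hfM) (inf_le_right.trans hfM)
  · exact Odd.of_dvd_nat hX (Subgroup.card_dvd_of_le inf_le_left)
  · rw [Subgroup.le_normalizer_iff]
    intro r hr y hy
    refine ⟨?_, ?_⟩
    · exact (Subgroup.le_normalizer_iff.1 hSX) r (hRS hr) y hy.1
    · have hrC := hRf hr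
      exact Subgroup.mul_mem _ (Subgroup.mul_mem _ hrC hy.2) (Subgroup.inv_mem _ hrC)

/-- A subgroup centralizing `z` and `e` centralizes every element of `⟨z, e⟩`. -/
theorem le_centralizer_of_mem_closure (z e f : G) (R : Subgroup G)
    (hRz : R ≤ Subgroup.centralizer ({z} : Set G)) (hRe : R ≤ Subgroup.centralizer ({e} : Set G))
    (hf : f ∈ Subgroup.closure ({z, e} : Set G)) : R ≤ Subgroup.centralizer ({f} : Set G) := by
  have h1 : Subgroup.closure ({z, e} : Set G) ≤ Subgroup.centralizer (R : Set G) := by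
    rw [Subgroup.closure_le]
    rintro x (rfl | rfl)
    · rw [SetLike.mem_coe, Subgroup.mem_centralizer_iff]
      intro r hr
      exact (Subgroup.mem_centralizer_singleton_iff.1 (hRz hr))
    · rw [SetLike.mem_coe, Subgroup.mem_centralizer_iff]
      intro r hr
      exact (Subgroup.mem_centralizer_singleton_iff.1 (hRe hr))
  intro r hr
  rw [Subgroup.mem_centralizer_singleton_iff]
  exact (Subgroup.mem_centralizer_iff.1 (h1 hf) r hr)

/-- Generation argument: if `X ⊓ C(f) = 1` for every nonidentity `f` of the four-group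
`⟨z, e⟩`, then `X = 1`. -/
theorem eq_bot_of_four (z e : G) (X P : Subgroup G) (hP : IsPGroup 2 ↥P) (hzP : z ∈ P) (heP : e ∈ P)
    (hz1 : z ≠ 1) (he1 : e ≠ 1) (hez : e ≠ z) (hz2 : z ^ 2 = 1)
    (he2 : e ^ 2 = 1) (hc : z * e = e * z) (hX : Odd (Nat.card X))
    (hPX : P ≤ Subgroup.normalizer (X : Set G))
    (h : ∀ f ∈ Subgroup.closure ({z, e} : Set G), f ≠ 1 → f ^ 2 = 1 →
      X ⊓ Subgroup.centralizer ({f} : Set G) = ⊥) : X = ⊥ := by
  set E : Subgroup G := Subgroup.closure ({z, e} : Set G) with hE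
  have hzE : z ∈ E := Subgroup.subset_closure (by simp)
  have heE : e ∈ E := Subgroup.subset_closure (by simp)
  have hEP : E ≤ P := by
    rw [hE, Subgroup.closure_le]
    rintro x (rfl | rfl)
    · exact hzP
    · exact heP
  -- `E` is commutative of exponent 2
  have h1 : E ≤ Subgroup.centralizer ({z, e} : Set G) := by
    rw [hE, Subgroup.closure_le]
    rintro x (rfl | rfl)
    · rw [SetLike.mem_coe, Subgroup.mem_centralizer_iff]
      rintro g (rfl | rfl)
      · rfl
      · exact hc.symm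
    · rw [SetLike.mem_coe, Subgroup.mem_centralizer_iff]
      rintro g (rfl | rfl)
      · exact hc
      · rfl
  have hcomm : ∀ x ∈ E, ∀ y ∈ E, x * y = y * x := by
    have h3 : E ≤ Subgroup.centralizer (E : Set G) := by
      conv_lhs => rw [hE]
      rw [Subgroup.closure_le]
      intro g hg
      rw [SetLike.mem_coe, Subgroup.mem_centralizer_iff]
      intro x hx
      exact (Subgroup.mem_centralizer_iff.1 (h1 hx) g hg).symm
    intro x hx y hy
    exact (Subgroup.mem_centralizer_iff.1 (h3 hy) x hx)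
  have hsq : ∀ x ∈ E, x ^ 2 = 1 := by
    intro x hx
    induction hx using Subgroup.closure_induction with
    | mem x hx =>
      rcases hx with rfl | rfl
      · exact hz2
      · exact he2
    | one => simp
    | mul x y hx hy ihx ihy =>
      have : Commute x y := hcomm x hx y hy
      rw [this.mul_pow, ihx, ihy, one_mul]
    | inv x _ ih => rw [inv_pow, ih, inv_one]
  haveI hEc : IsMulCommutative ↥E := ⟨⟨fun a b => Subtype.ext (hcomm a.1 a.2 b.1 b.2)⟩⟩
  have hcop : (Nat.card E).Coprime (Nat.card X) := by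
    obtain ⟨k, hk⟩ := IsPGroup.iff_card.1 (hP.to_le hEP)
    rw [hk]
    apply Nat.Coprime.pow_left
    exact Nat.coprime_two_left.2 hX
  have hgen := (Cfsg.Agent.S3734.result E X hEc (hEP.trans hPX) hcop).1
  rw [← hgen, eq_bot_iff]
  apply iSup₂_le
  rintro B ⟨hBE, a, haE, hBa⟩
  have hBne : B ≠ ⊥ := by
    rintro rfl
    rw [bot_sup_eq] at hBa
    have ha2 : a ^ 2 = 1 := hsq a haE
    have hz' : z ∈ Subgroup.zpowers a := by rw [hBa]; exact hzE
    have he' : e ∈ Subgroup.zpowers a := by rw [hBa]; exact heE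
    rcases mem_zpowers_of_sq_eq_one ha2 hz' with h | h
    · exact hz1 h
    · rcases mem_zpowers_of_sq_eq_one ha2 he' with h' | h'
      · exact he1 h'
      · exact hez (h'.trans h.symm)
  obtain ⟨⟨f, hfB⟩, hf1'⟩ := (Subgroup.ne_bot_iff_exists_ne_one).1 hBne
  have hf1 : f ≠ 1 := fun hh => hf1' (Subtype.ext hh)
  have hX0 := h f (hBE hfB) hf1 (hsq f (hBE hfB))
  rw [← hX0]
  apply inf_le_inf_left
  apply Subgroup.centralizer_le
  intro g hg
  rw [Set.mem_singleton_iff] at hg
  rw [hg]; exact hfB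

end Cfsg.Agent.Helper1.TwoLoc
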