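import Mathlib
import Cfsg.Prelude.Def_OddOrderLocal
import Cfsg.Agent.Helper1.Basic
import Cfsg.Agent.Helper1.Coprime
import Cfsg.Agent.Helper1.AbelianSylow2

set_option autoImplicit false

namespace Cfsg.Agent.Helper1

open Cfsg
open scoped commutatorElement

universe u

variable {G : Type u} [Group G]

theorem coprime_of_disjoint_of_isCyclic_sup [Finite G] (X Y : Subgroup G)
    (hc : IsCyclic ↥(X ⊔ Y)) (h : X ⊓ Y = ⊥) : (Nat.card X).Coprime (Nat.card Y) := by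
  apply Nat.coprime_of_dvd
  intro p hp hpX hpY
  have hpF : Fact p.Prime := ⟨hp⟩
  obtain ⟨x, hx⟩ := exists_prime_orderOf_dvd_card' p hpX
  obtain ⟨y, hy⟩ := exists_prime_orderOf_dvd_card' p hpY
  have hxW : (x : G) ∈ X ⊔ Y := (le_sup_left : X ≤ X ⊔ Y) x.2
  have hyW : (y : G) ∈ X ⊔ Y := (le_sup_right : Y ≤ X ⊔ Y) y.2
  have hx' : orderOf (⟨x, hxW⟩ : ↥(X ⊔ Y)) = p := by
    rw [Subgroup.orderOf_mk, Subgroup.orderOf_coe, hx]
  have hy' : orderOf (⟨y, hyW⟩ : ↥(X ⊔ Y)) = p := by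
    rw [Subgroup.orderOf_mk, Subgroup.orderOf_coe, hy]
  have hmem := mem_zpowers_of_orderOf_eq_prime hp hx' hy'
  obtain ⟨k, hk⟩ := Subgroup.mem_zpowers_iff.1 hmem
  have hk' : (y : G) ^ k = x := by
    have := congrArg Subtype.val hk
    simpa using this
  have hxY : (x : G) ∈ Y := hk' ▸ Subgroup.zpow_mem _ y.2 k
  have hx1 : (x : G) ∈ X ⊓ Y := Subgroup.mem_inf.2 ⟨x.2, hxY⟩
  rw [h, Subgroup.mem_bot] at hx1
  have : x = 1 := Subtype.ext hx1
  rw [this, orderOf_one] at hx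
  exact hp.one_lt.ne hx

theorem commute_of_mem_isCyclic {W : Subgroup G} (hc : IsCyclic ↥W) {a b : G} (ha : a ∈ W)
    (hb : b ∈ W) : a * b = b * a := by
  let _ := IsCyclic.commGroup (α := ↥W)
  have := mul_comm (⟨a, ha⟩ : ↥W) ⟨b, hb⟩
  exact congrArg Subtype.val this

theorem typeP_W₂_unique [Finite G] (W₁ W₂ S U W₂' : Subgroup G) (hW : Cfsg.IsSelfNormalizingCyclic W₁ W₂)
    (hSW : Cfsg.IsComplIn ⁅S, S⁆ W₁ S) (hW₂S : W₂ ≤ S) (hP : Cfsg.IsTypePWith S W₁ U W₂') :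
    W₂' = W₂ := by
  obtain ⟨hW₁ne, hW₂ne, hdisj, hcomm, hcyc, hnorm⟩ := hW
  obtain ⟨-, hW₂'ne, hdisj', hcomm', hcyc', -⟩ := hP.selfNormalizing
  have hcop : (Nat.card W₁).Coprime (Nat.card W₂) := coprime_of_disjoint_of_isCyclic_sup W₁ W₂ hcyc hdisj
  obtain ⟨x, hx1⟩ := (Subgroup.ne_bot_iff_exists_ne_one).1 hW₁ne
  obtain ⟨y₀, hy₀1⟩ := (Subgroup.ne_bot_iff_exists_ne_one).1 hW₂ne
  have hx1' : (x : G) ≠ 1 := fun h => hx1 (Subtype.ext h)
  have hy₀1' : (y₀ : G) ≠ 1 := fun h => hy₀1 (Subtype.ext h)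
  have hcent := hP.W₂_centralizer x x.2 hx1'
  -- decomposition of elements of W₂
  have hdec : ∀ y ∈ W₂, ∃ s ∈ W₂', ∃ w ∈ W₁, y = s * w ∧ s * w = w * s := by
    intro y hy
    obtain ⟨s, hs, w, hw, hysw⟩ := hSW.2.2.2 y (hW₂S hy)
    have hs' : s = y * w⁻¹ := by rw [hysw]; group
    have hsx : s ∈ Subgroup.centralizer ({(x : G)} : Set G) := by
      rw [Subgroup.mem_centralizer_iff]
      intro g hg
      rw [Set.mem_singleton_iff] at hg
      subst hg
      have h1 : (x : G) * y = y * x := hcomm x x.2 y hy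
      have h2 : (x : G) * w⁻¹ = w⁻¹ * x :=
        commute_of_mem_isCyclic hcyc ((le_sup_left : W₁ ≤ _) x.2)
          ((le_sup_left : W₁ ≤ _) (W₁.inv_mem hw))
      rw [hs', ← mul_assoc, h1, mul_assoc, h2, mul_assoc]
    have hsW₂' : s ∈ W₂' := by
      rw [← hcent]; exact Subgroup.mem_inf.2 ⟨hs, hsx⟩
    exact ⟨s, hsW₂', w, hw, hysw, (hcomm' w hw s hsW₂').symm⟩
  have hle1 : W₂ ≤ W₂' := by
    intro y hy
    obtain ⟨s, hs, w, hw, rfl, hsw⟩ := hdec y hy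
    have hpow : (s * w) ^ Nat.card W₂ = 1 := by
      have h0 : (⟨s * w, hy⟩ : W₂) ^ Nat.card W₂ = 1 := pow_card_eq_one'
      have h1 := congrArg Subtype.val h0
      rw [Subgroup.coe_pow, Subgroup.coe_one] at h1
      exact h1
    rw [(show Commute s w from hsw).mul_pow] at hpow
    have hw2 : w ^ Nat.card W₂ ∈ W₁ ⊓ W₂' := by
      refine Subgroup.mem_inf.2 ⟨W₁.pow_mem hw _, ?_⟩
      have : w ^ Nat.card W₂ = (s ^ Nat.card W₂)⁻¹ := eq_inv_of_mul_eq_one_right hpow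
      rw [this]
      exact W₂'.inv_mem (W₂'.pow_mem hs _)
    rw [hdisj', Subgroup.mem_bot] at hw2
    have hw1 : w ^ Nat.card W₁ = 1 := by
      have h0 : (⟨w, hw⟩ : W₁) ^ Nat.card W₁ = 1 := pow_card_eq_one'
      have h1 := congrArg Subtype.val h0
      rw [Subgroup.coe_pow, Subgroup.coe_one] at h1
      exact h1
    have hord1 : orderOf w ∣ Nat.card W₁ := orderOf_dvd_of_pow_eq_one hw1
    have hord2 : orderOf w ∣ Nat.card W₂ := orderOf_dvd_of_pow_eq_one hw2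
    have : orderOf w = 1 := Nat.eq_one_of_dvd_coprimes hcop hord1 hord2
    rw [orderOf_eq_one_iff] at this
    rw [this, mul_one]
    exact hs
  have hle2 : W₂' ≤ W₁ ⊔ W₂ := by
    intro z hz
    have hxy : ({(x : G) * y₀} : Set G) ⊆ (↑(W₁ ⊔ W₂) : Set G) \ (↑W₁ ∪ ↑W₂) := by
      intro g hg
      rw [Set.mem_singleton_iff] at hg
      subst hg
      refine ⟨Subgroup.mul_mem _ ((le_sup_left : W₁ ≤ _) x.2) ((le_sup_right : W₂ ≤ _) y₀.2), ?_⟩
      rintro (h | h)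
      · have : (y₀ : G) ∈ W₁ ⊓ W₂ := by
          refine Subgroup.mem_inf.2 ⟨?_, y₀.2⟩
          have e : (y₀ : G) = (x : G)⁻¹ * (x * y₀) := by group
          rw [e]; exact W₁.mul_mem (W₁.inv_mem x.2) h
        rw [hdisj, Subgroup.mem_bot] at this
        exact hy₀1' this
      · have : (x : G) ∈ W₁ ⊓ W₂ := by
          refine Subgroup.mem_inf.2 ⟨x.2, ?_⟩
          have e : (x : G) = (x * y₀) * (y₀ : G)⁻¹ := by group
          rw [e]; exact W₂.mul_mem h (W₂.inv_mem y₀.2)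
        rw [hdisj, Subgroup.mem_bot] at this
        exact hx1' this
    have hN := hnorm _ hxy (Set.singleton_nonempty _)
    rw [← hN, Subgroup.normalizer_singleton, Subgroup.mem_centralizer_iff]
    have hzx : z * x = x * z := (hcomm' x x.2 z hz).symm
    have hzy : z * y₀ = y₀ * z :=
      commute_of_mem_isCyclic hcyc' ((le_sup_right : W₂' ≤ _) hz)
        ((le_sup_right : W₂' ≤ _) (hle1 y₀.2))
    intro g hg
    rw [Set.mem_singleton_iff] at hg
    subst hg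
    rw [mul_assoc, ← hzy, ← mul_assoc, ← hzx, mul_assoc]
  apply le_antisymm _ hle1
  intro z hz
  have hnormW : W₂ ≤ Subgroup.normalizer (W₁ : Set G) := by
    intro y hy
    apply Subgroup.centralizer_le_normalizer
    rw [Subgroup.mem_centralizer_iff]
    intro a ha
    exact hcomm a ha y hy
  obtain ⟨w, hw, y, hy, rfl⟩ := mem_sup_of_le_normalizer hnormW (hle2 hz)
  have hwz : w ∈ W₁ ⊓ W₂' := by
    refine Subgroup.mem_inf.2 ⟨hw, ?_⟩
    have e : w = (w * y) * y⁻¹ := by group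
    rw [e]; exact W₂'.mul_mem hz (W₂'.inv_mem (hle1 hy))
  rw [hdisj', Subgroup.mem_bot] at hwz
  rw [hwz, one_mul]
  exact hy

end Cfsg.Agent.Helper1
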