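import Mathlib
import Cfsg.Agent.Helper9.S4ObsE
import Cfsg.Agent.Helper9.U4Transport
import Cfsg.Agent.Helper8.GUOrder
import Cfsg.Agent.Helper1.SLOG

set_option autoImplicit false
set_option linter.unusedSectionVars false
set_option linter.unusedVariables false

/-!
Row S6001, piece U-BAD, cases (c), (d) (for helper9): explicit diagonal elements of `SU_4(p)` of
order 3 and 5 which are not conjugate into the normalizer of `R` (helper1).
-/

namespace Cfsg.Agent.Helper1.U4Bad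

open Matrix Cfsg Cfsg.Agent.Helper9.S4 Cfsg.Agent.Helper9.U4 Cfsg.Agent.Helper8.GUOrder
  Cfsg.Agent.Helper7.Herm

variable {F : Type*} [Field F]

/-- an element of `SU_4` of order `r` whose trace data is impossible in `N` contradicts `GoodU`. -/
theorem not_good_of_trace {q r : ℕ} (N : Subgroup (GL (Fin 4) F)) (x : GL (Fin 4) F)
    (hx : x ∈ GU 4 F q ⊓ Geo.specialLinear (Fin 4) F) (hxr : x ^ r = 1)
    (hns : ∀ z : F, (x : Matrix (Fin 4) (Fin 4) F) ≠ z • (1 : Matrix (Fin 4) (Fin 4) F))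
    (hbad : ∀ y ∈ N, y ^ r = 1 →
      (∀ c : F, (y : Matrix (Fin 4) (Fin 4) F) ≠ c • (1 : Matrix (Fin 4) (Fin 4) F)) →
      Matrix.trace (y : Matrix (Fin 4) (Fin 4) F) = Matrix.trace (x : Matrix (Fin 4) (Fin 4) F) →
      Matrix.trace ((y⁻¹ : GL (Fin 4) F) : Matrix (Fin 4) (Fin 4) F)
        = Matrix.trace ((x⁻¹ : GL (Fin 4) F) : Matrix (Fin 4) (Fin 4) F) → False) :
    ¬ GoodU q r N := by
  intro hgood
  obtain ⟨g, hg, hgN⟩ := hgood x hx ⟨1, by rw [hxr, Units.val_one, one_smul]⟩ hns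
  refine hbad _ hgN ?_ ?_ ?_ ?_
  · have h1 : (g⁻¹ * x * g) ^ r = g⁻¹ * x ^ r * g := by
      have := conj_pow (a := g⁻¹) (b := x) (i := r)
      rw [inv_inv] at this
      exact this
    rw [h1, hxr, mul_one, inv_mul_cancel]
  · intro c hc
    apply hns c
    have := conj_scalar4 g⁻¹ _ c hc
    rw [inv_inv] at this
    rw [← this]
    congr 1
    group
  · rw [Units.val_mul, Units.val_mul, Matrix.trace_units_conj']
  · have : (g⁻¹ * x * g)⁻¹ = g⁻¹ * x⁻¹ * g := by group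
    rw [this, Units.val_mul, Units.val_mul, Matrix.trace_units_conj']

/-- an element of prime order `r` in a finite field with `r ∣ |F| - 1`. -/
theorem exists_root_of_unity [Fintype F] (r : ℕ) [hr : Fact r.Prime] (h : r ∣ Fintype.card F - 1) :
    ∃ ζ : F, ζ ≠ 1 ∧ ζ ^ r = 1 := by
  classical
  have h' : r ∣ Fintype.card Fˣ := by rw [Fintype.card_units]; exact h
  obtain ⟨u, hu⟩ := exists_prime_orderOf_dvd_card r h'
  refine ⟨(u : F), ?_, ?_⟩
  · intro h1
    have : u = 1 := Units.ext h1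
    rw [this, orderOf_one] at hu
    exact hr.out.ne_one hu.symm
  · rw [← Units.val_pow_eq_pow_val, ← hu, pow_orderOf_eq_one, Units.val_one]

theorem charP_of_card_sq [Fintype F] {p : ℕ} [hp : Fact p.Prime] (hF : Fintype.card F = p ^ 2) :
    CharP F p := by
  obtain ⟨p', hp'⟩ := CharP.exists F
  obtain ⟨n, hpp, hn⟩ := FiniteField.card F p'
  have hdvd : p' ∣ p ^ 2 := by
    rw [← hF, hn]
    exact dvd_pow_self p' n.ne_zero
  have := (Nat.prime_dvd_prime_iff_eq hpp hp.out).mp (hpp.dvd_of_dvd_pow hdvd)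
  rw [← this]
  exact hp'

/-- a diagonal matrix with invertible entries, as an element of `GL_4`. -/
def diagU (d : Fin 4 → Fˣ) : GL (Fin 4) F :=
  ⟨Matrix.diagonal (fun i => (d i : F)), Matrix.diagonal (fun i => (((d i)⁻¹ : Fˣ) : F)),
    by
      rw [Matrix.diagonal_mul_diagonal, ← Matrix.diagonal_one]
      congr 1
      funext i
      exact Units.mul_inv (d i),
    by
      rw [Matrix.diagonal_mul_diagonal, ← Matrix.diagonal_one]
      congr 1
      funext i
      exact Units.inv_mul (d i)⟩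

theorem diagU_val (d : Fin 4 → Fˣ) :
    ((diagU d : GL (Fin 4) F) : Matrix (Fin 4) (Fin 4) F) = Matrix.diagonal (fun i => (d i : F)) := rfl

theorem diagU_inv_val (d : Fin 4 → Fˣ) :
    (((diagU d)⁻¹ : GL (Fin 4) F) : Matrix (Fin 4) (Fin 4) F)
      = Matrix.diagonal (fun i => (((d i)⁻¹ : Fˣ) : F)) := rfl

theorem diagU_pow (d : Fin 4 → Fˣ) (k : ℕ) (hd : ∀ i, (d i : F) ^ k = 1) : diagU d ^ k = 1 := by
  apply Units.ext
  rw [Units.val_pow_eq_pow_val, diagU_val, Matrix.diagonal_pow, Units.val_one, ← Matrix.diagonal_one]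
  congr 1
  funext i
  exact hd i

theorem diagU_mem_SL (d : Fin 4 → Fˣ) (hd : ∏ i, (d i : F) = 1) :
    diagU d ∈ Geo.specialLinear (Fin 4) F := by
  rw [Cfsg.Agent.Helper1.SLO.mem_specialLinear_iff, diagU_val, Matrix.det_diagonal]
  exact hd

theorem diagU_mem_GU [Fintype F] {q : ℕ} (hF : Fintype.card F = q ^ 2) (d : Fin 4 → Fˣ)
    (hd : ∀ i, (d i : F) * (d i : F) ^ q = 1) : diagU d ∈ GU 4 F q := by
  rw [mem_GU_iff hF, diagU_val, Matrix.diagonal_transpose,
    Matrix.diagonal_map (f := fun x : F => x ^ q) (zero_pow (by have := one_le_q hF; omega)),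
    Matrix.diagonal_mul_diagonal,
    ← Matrix.diagonal_one]
  congr 1
  funext i
  exact hd i

theorem diagU_not_scalar (d : Fin 4 → Fˣ) (i j : Fin 4) (hij : (d i : F) ≠ (d j : F)) (z : F) :
    ((diagU d : GL (Fin 4) F) : Matrix (Fin 4) (Fin 4) F) ≠ z • (1 : Matrix (Fin 4) (Fin 4) F) := by
  intro h
  apply hij
  have h1 := congrFun (congrFun h i) i
  have h2 := congrFun (congrFun h j) j
  rw [diagU_val, Matrix.diagonal_apply_eq, Matrix.smul_apply, Matrix.one_apply_eq, smul_eq_mul,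
    mul_one] at h1 h2
  rw [h1, h2]

theorem natCast_ne_zero_of_lt {p : ℕ} [CharP F p] (n : ℕ) (hn0 : 0 < n) (hn : n < p) :
    ((n : ℕ) : F) ≠ 0 := by
  intro h
  have := (CharP.cast_eq_zero_iff F p n).mp h
  have := Nat.le_of_dvd hn0 this
  omega

/-- **U-BAD (c).** -/
theorem not_good_three_of_mod [Fintype F] {p : ℕ} [Fact p.Prime]
    (hF : Fintype.card F = p ^ 2) (hp3 : p % 3 = 2) (h2 : (2 : F) ≠ 0)
    (R : Subgroup (GL (Fin 4) F)) (D : S4Data R) :
    ¬ GoodU p 3 (Cfsg.Geo.subgroupNormalizer R) := by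
  haveI : Fact (Nat.Prime 3) := ⟨by norm_num⟩
  have h3dvd : 3 ∣ Fintype.card F - 1 := by
    rw [hF]
    have h1 : p ^ 2 % 3 = 1 := by rw [Nat.pow_mod, hp3]
    have h2 : 1 ≤ p ^ 2 := Nat.one_le_pow _ _ (Fact.out : p.Prime).pos
    omega
  obtain ⟨ω, hω1, hω3⟩ := exists_root_of_unity 3 h3dvd
  have hω0 : ω ≠ 0 := by
    rintro rfl
    simp at hω3
  have hωp : ω * ω ^ p = 1 := by
    obtain ⟨k, hk⟩ : 3 ∣ p + 1 := by omega
    rw [← pow_succ', hk, pow_mul, hω3, one_pow]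
  have hrel : ω ^ 2 + ω + 1 = 0 := by
    have : (ω - 1) * (ω ^ 2 + ω + 1) = 0 := by linear_combination hω3
    rcases mul_eq_zero.mp this with h | h
    · exact absurd (sub_eq_zero.mp h) hω1
    · exact h
  have h3 : (3 : F) ≠ 0 := by
    intro h3
    apply hω1
    have : (ω - 1) ^ 3 = 0 := by linear_combination hω3 - ω * (ω - 1) * h3
    exact sub_eq_zero.mp (pow_eq_zero_iff (by norm_num) |>.mp this)
  have hinv : ω⁻¹ = ω ^ 2 := by
    rw [inv_eq_iff_eq_inv, ← one_div, eq_div_iff (pow_ne_zero 2 hω0)]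
    linear_combination hω3
  obtain ⟨d, hd⟩ : ∃ d : Fin 4 → Fˣ, d = ![1, Units.mk0 ω hω0, Units.mk0 ω hω0, Units.mk0 ω hω0] :=
    ⟨_, rfl⟩
  refine not_good_of_trace _ (diagU d) ⟨diagU_mem_GU hF d ?_, diagU_mem_SL d ?_⟩ (diagU_pow d 3 ?_)
    (diagU_not_scalar d 0 1 ?_) ?_
  · intro i
    rw [hd]
    fin_cases i <;> simp [hωp]
  · rw [hd, Fin.prod_univ_four]
    simp
    linear_combination hω3
  · intro i
    rw [hd]
    fin_cases i <;> simp [hω3]
  · rw [hd]
    simp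
    exact hω1.symm
  · intro y hyN hy3 hyns ht ht'
    have htr := D.trace_of_pow_three h2 hyN (z := 1) (by rw [hy3, Units.val_one, one_smul]) hyns
    rw [ht, ht', diagU_val, diagU_inv_val, Matrix.trace_diagonal, Matrix.trace_diagonal,
      Fin.sum_univ_four, Fin.sum_univ_four, hd] at htr
    simp only [Matrix.cons_val_zero, Matrix.cons_val_one, Matrix.cons_val, Units.val_one,
      Units.val_mk0, inv_one, Units.val_inv_eq_inv_val, hinv] at htr
    have h7 : (1 + ω + ω + ω) * (1 + ω ^ 2 + ω ^ 2 + ω ^ 2) = 7 := by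
      linear_combination (9 : F) * hω3 + 3 * hrel
    rw [h7] at htr
    rcases htr with h | h
    · have : (2 : F) * 3 = 0 := by linear_combination h
      rcases mul_eq_zero.mp this with h' | h'
      · exact h2 h'
      · exact h3 h'
    · exact h3 (by linear_combination h)

/-- **U-BAD (d).** -/
theorem not_good_five_of_mod_four [Fintype F] {p : ℕ} [Fact p.Prime]
    (hF : Fintype.card F = p ^ 2) (hp5 : p % 5 = 4) (h2 : (2 : F) ≠ 0)
    (R : Subgroup (GL (Fin 4) F)) (D : S4Data R) :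
    ¬ GoodU p 5 (Cfsg.Geo.subgroupNormalizer R) := by
  haveI : Fact (Nat.Prime 5) := ⟨by norm_num⟩
  haveI := charP_of_card_sq hF
  have hp : p.Prime := Fact.out
  have hp5' : 5 < p := by
    have := hp.two_le
    by_contra hlt
    have : p ≤ 5 := by omega
    interval_cases p
    · norm_num at hp5
    · norm_num at hp5
    · norm_num at hp
    · norm_num at hp5
  have h3 : (3 : F) ≠ 0 := by
    have := natCast_ne_zero_of_lt (F := F) (p := p) 3 (by norm_num) (by omega)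
    exact_mod_cast this
  have h5 : (5 : F) ≠ 0 := by
    have := natCast_ne_zero_of_lt (F := F) (p := p) 5 (by norm_num) (by omega)
    exact_mod_cast this
  have h5dvd : 5 ∣ Fintype.card F - 1 := by
    rw [hF]
    have h1 : p ^ 2 % 5 = 1 := by rw [Nat.pow_mod, hp5]
    have h2 : 1 ≤ p ^ 2 := Nat.one_le_pow _ _ hp.pos
    omega
  obtain ⟨ζ, hζ1, hζ5⟩ := exists_root_of_unity 5 h5dvd
  have hζ0 : ζ ≠ 0 := by
    rintro rfl
    simp at hζ5
  have hζp : ζ * ζ ^ p = 1 := by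
    obtain ⟨k, hk⟩ : 5 ∣ p + 1 := by omega
    rw [← pow_succ', hk, pow_mul, hζ5, one_pow]
  have hcyc : 1 + ζ + ζ ^ 2 + ζ ^ 3 + ζ ^ 4 = 0 := by
    have : (ζ - 1) * (1 + ζ + ζ ^ 2 + ζ ^ 3 + ζ ^ 4) = 0 := by linear_combination hζ5
    rcases mul_eq_zero.mp this with h | h
    · exact absurd (sub_eq_zero.mp h) hζ1
    · exact h
  have hinv : ζ⁻¹ = ζ ^ 4 := by
    rw [inv_eq_iff_eq_inv, ← one_div, eq_div_iff (pow_ne_zero 4 hζ0)]
    linear_combination hζ5
  have hinv2 : (ζ ^ 2)⁻¹ = ζ ^ 3 := by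
    rw [inv_eq_iff_eq_inv, ← one_div, eq_div_iff (pow_ne_zero 3 hζ0)]
    linear_combination hζ5
  obtain ⟨d, hd⟩ : ∃ d : Fin 4 → Fˣ,
      d = ![Units.mk0 (ζ ^ 2) (pow_ne_zero 2 hζ0), Units.mk0 ζ hζ0, Units.mk0 ζ hζ0, Units.mk0 ζ hζ0] :=
    ⟨_, rfl⟩
  refine not_good_of_trace _ (diagU d) ⟨diagU_mem_GU hF d ?_, diagU_mem_SL d ?_⟩ (diagU_pow d 5 ?_)
    (diagU_not_scalar d 0 1 ?_) ?_
  · intro i
    rw [hd]
    fin_cases i
    · simp
      rw [← pow_mul, mul_comm 2 p, pow_mul, ← mul_pow, hζp, one_pow]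
    · simp [hζp]
    · simp [hζp]
    · simp [hζp]
  · rw [hd, Fin.prod_univ_four]
    simp
    linear_combination hζ5
  · intro i
    rw [hd]
    fin_cases i
    · simp
      rw [← pow_mul, mul_comm, pow_mul, hζ5, one_pow]
    · simp [hζ5]
    · simp [hζ5]
    · simp [hζ5]
  · rw [hd]
    simp
    intro h
    apply hζ1
    have : ζ * (ζ - 1) = 0 := by linear_combination h
    rcases mul_eq_zero.mp this with h' | h'
    · exact absurd h' hζ0
    · exact sub_eq_zero.mp h'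
  · intro y hyN hy5 hyns ht ht'
    have htr := D.trace_of_pow_five h2 hyN (z := 1) (by rw [hy5, Units.val_one, one_smul]) hyns
    rw [ht, ht', diagU_val, diagU_inv_val, Matrix.trace_diagonal, Matrix.trace_diagonal,
      Fin.sum_univ_four, Fin.sum_univ_four, hd] at htr
    simp only [Matrix.cons_val_zero, Matrix.cons_val_one, Matrix.cons_val,
      Units.val_mk0, Units.val_inv_eq_inv_val, hinv, hinv2] at htr
    have hh : (3 : F) * (ζ ^ 4 + ζ + 3) = 0 := by
      linear_combination htr - (10 + 3 * ζ) * hζ5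
    have hh' : ζ ^ 4 + ζ + 3 = 0 := (mul_eq_zero.mp hh).resolve_left h3
    apply h5
    linear_combination hcyc + (2 + ζ ^ 3) * hζ5 - (ζ ^ 4 + ζ + 3) * hh' + 5 * hh'

end Cfsg.Agent.Helper1.U4Bad
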