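import Mathlib
import Cfsg.Agent.Helper1.U4BadA

set_option autoImplicit false
set_option linter.unusedSectionVars false
set_option linter.unusedVariables false

/-!
Row S6001, piece U-BAD, case (e) (for helper9): a hyperbolic rotation of order 5 in `SU_4(p)`,
`p ≡ 1 mod 5`, which is not conjugate into the normalizer of `R` (helper1).
-/

namespace Cfsg.Agent.Helper1.U4Bad

open Matrix Cfsg Cfsg.Agent.Helper9.S4 Cfsg.Agent.Helper9.U4 Cfsg.Agent.Helper8.GUOrder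
  Cfsg.Agent.Helper7.Herm

variable {F : Type*} [Field F]

/-- the base change matrix with columns `e₀ + a e₁`, `e₀ - a e₁`, `e₂`, `e₃`. -/
def Bm (a : F) : Matrix (Fin 4) (Fin 4) F := !![1, 1, 0, 0; a, -a, 0, 0; 0, 0, 1, 0; 0, 0, 0, 1]

/-- the inverse of `Bm a`, when `a * a' = -1`. -/
def Bm' (a' : F) : Matrix (Fin 4) (Fin 4) F :=
  !![1 / 2, -(a' / 2), 0, 0; 1 / 2, a' / 2, 0, 0; 0, 0, 1, 0; 0, 0, 0, 1]

theorem Bm_mul (h2 : (2 : F) ≠ 0) {a a' : F} (ha : a * a' = -1) : Bm a * Bm' a' = 1 := by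
  ext i j
  fin_cases i <;> fin_cases j <;>
    simp [Bm, Bm', Matrix.mul_apply, Fin.sum_univ_four] <;> (try field_simp) <;> (try ring1)
  linear_combination (-2 : F) * ha

theorem Bm'_mul (h2 : (2 : F) ≠ 0) {a a' : F} (ha : a * a' = -1) : Bm' a' * Bm a = 1 := by
  ext i j
  fin_cases i <;> fin_cases j <;>
    simp [Bm, Bm', Matrix.mul_apply, Fin.sum_univ_four] <;> (try field_simp) <;> (try ring1)
  · linear_combination -ha
  · linear_combination ha
  · linear_combination ha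
  · linear_combination -ha

/-- the rotation matrix. -/
def Xm (a a' c s : F) : Matrix (Fin 4) (Fin 4) F :=
  !![c, -(s * a'), 0, 0; a * s, c, 0, 0; 0, 0, 1, 0; 0, 0, 0, 1]

theorem diag_eq (u v : F) : Matrix.diagonal ![u, v, 1, 1]
    = !![u, 0, 0, 0; 0, v, 0, 0; 0, 0, 1, 0; 0, 0, 0, (1 : F)] := by
  ext i j
  fin_cases i <;> fin_cases j <;> simp

theorem Bm_diag_mul (h2 : (2 : F) ≠ 0) {a a' : F} (ha : a * a' = -1) (u v : F) :
    Bm a * Matrix.diagonal ![u, v, 1, 1] * Bm' a' = Xm a a' ((u + v) / 2) ((u - v) / 2) := by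
  rw [diag_eq]
  ext i j
  fin_cases i <;> fin_cases j <;>
    simp [Bm, Bm', Xm, Matrix.mul_apply, Fin.sum_univ_four] <;>
    (try field_simp) <;> (try ring1)
  linear_combination (-(u + v)) * ha

theorem Xm_map [Fintype F] {p : ℕ} (hF : Fintype.card F = p ^ 2) {a a' c s : F} (ha' : a' = a ^ p)
    (hc : c ^ p = c) (hs : s ^ p = s) :
    (Xm a a' c s).map (· ^ p) = Xm a' a c s := by
  have hp0 : p ≠ 0 := by have := one_le_q hF; omega
  have haa : a' ^ p = a := by rw [ha', pow_q_pow_q hF]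
  ext i j
  fin_cases i <;> fin_cases j <;>
    simp [Xm, Matrix.map_apply, hc, hs, hp0, mul_pow, neg_pow_q hF, haa, ← ha']

theorem Xm_gram {a a' c s : F} (ha : a * a' = -1) (hcs : c * c - s * s = 1) :
    (Xm a a' c s)ᵀ * Xm a' a c s = 1 := by
  ext i j
  fin_cases i <;> fin_cases j <;>
    simp [Xm, Matrix.mul_apply, Fin.sum_univ_four] <;> (try ring1)
  · linear_combination hcs + s * s * ha
  · linear_combination hcs + s * s * ha

theorem Xm_not_scalar {a a' c s : F} (ha : a * a' = -1) (hs : s ≠ 0) (z : F) :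
    Xm a a' c s ≠ z • (1 : Matrix (Fin 4) (Fin 4) F) := by
  intro h
  have h1 := congrFun (congrFun h 1) 0
  simp [Xm] at h1
  rcases h1 with h1 | h1
  · rw [h1, zero_mul] at ha
    exact one_ne_zero (neg_eq_zero.mp ha.symm)
  · exact hs h1

/-- **U-BAD (e).** -/
theorem not_good_five_of_mod_one [Fintype F] {p : ℕ} [Fact p.Prime]
    (hF : Fintype.card F = p ^ 2) (hp5 : p % 5 = 1) (h2 : (2 : F) ≠ 0)
    (R : Subgroup (GL (Fin 4) F)) (D : S4Data R) :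
    ¬ GoodU p 5 (Cfsg.Geo.subgroupNormalizer R) := by
  haveI : Fact (Nat.Prime 5) := ⟨by norm_num⟩
  have hp : p.Prime := Fact.out
  have h5dvd : 5 ∣ Fintype.card F - 1 := by
    rw [hF]
    have h1 : p ^ 2 % 5 = 1 := by rw [Nat.pow_mod, hp5]
    have h2 : 1 ≤ p ^ 2 := Nat.one_le_pow _ _ hp.pos
    omega
  obtain ⟨ζ, hζ1, hζ5⟩ := exists_root_of_unity 5 h5dvd
  have hζ0 : ζ ≠ 0 := by
    rintro rfl
    simp at hζ5
  have hζp : ζ ^ p = ζ := by
    obtain ⟨k, hk⟩ : ∃ k, p = 5 * k + 1 := ⟨p / 5, by omega⟩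
    rw [hk, pow_succ, pow_mul, hζ5, one_pow, one_mul]
  have h5 : (5 : F) ≠ 0 := by
    intro h5
    apply hζ1
    have : (ζ - 1) ^ 5 = 0 := by
      linear_combination hζ5 - (ζ ^ 4 - 2 * ζ ^ 3 + 2 * ζ ^ 2 - ζ) * h5
    exact sub_eq_zero.mp (pow_eq_zero_iff (by norm_num) |>.mp this)
  have hcyc : 1 + ζ + ζ ^ 2 + ζ ^ 3 + ζ ^ 4 = 0 := by
    have : (ζ - 1) * (1 + ζ + ζ ^ 2 + ζ ^ 3 + ζ ^ 4) = 0 := by linear_combination hζ5
    rcases mul_eq_zero.mp this with h | h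
    · exact absurd (sub_eq_zero.mp h) hζ1
    · exact h
  have hinv : ζ⁻¹ = ζ ^ 4 := by
    rw [inv_eq_iff_eq_inv, ← one_div, eq_div_iff (pow_ne_zero 4 hζ0)]
    linear_combination hζ5
  have hinv4 : (ζ ^ 4)⁻¹ = ζ := by rw [← hinv, inv_inv]
  obtain ⟨a, ha⟩ := exists_norm hF (c := (-1 : F)) (neg_ne_zero.mpr one_ne_zero) (neg_one_pow_q hF)
  obtain ⟨a', ha'⟩ : ∃ a' : F, a' = a ^ p := ⟨_, rfl⟩
  rw [← ha'] at ha
  have h2p : (2 : F) ^ p = 2 := by
    have := add_pow_q hF (1 : F) 1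
    rw [one_pow, one_add_one_eq_two] at this
    exact this
  have hζ4p : (ζ ^ 4) ^ p = ζ ^ 4 := by rw [← pow_mul, mul_comm, pow_mul, hζp]
  obtain ⟨c, hc⟩ : ∃ c : F, c = (ζ + ζ ^ 4) / 2 := ⟨_, rfl⟩
  obtain ⟨s, hs⟩ : ∃ s : F, s = (ζ - ζ ^ 4) / 2 := ⟨_, rfl⟩
  have hcp : c ^ p = c := by rw [hc, div_pow, add_pow_q hF, hζp, hζ4p, h2p]
  have hsp : s ^ p = s := by rw [hs, div_pow, sub_pow_q hF, hζp, hζ4p, h2p]
  have hcs : c * c - s * s = 1 := by
    rw [hc, hs]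
    field_simp
    linear_combination (4 : F) * hζ5
  have hs0 : s ≠ 0 := by
    intro h0
    rw [hs, div_eq_zero_iff] at h0
    have h1 : ζ = ζ ^ 4 := by
      rcases h0 with h0 | h0
      · exact sub_eq_zero.mp h0
      · exact absurd h0 h2
    have h3 : ζ ^ 2 = 1 := by linear_combination hζ5 + ζ * h1
    apply hζ1
    linear_combination h1 + (ζ ^ 2 + 1) * h3
  -- the elements
  obtain ⟨B, hB⟩ : ∃ B : GL (Fin 4) F, B = ⟨Bm a, Bm' a', Bm_mul h2 ha, Bm'_mul h2 ha⟩ := ⟨_, rfl⟩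
  obtain ⟨d, hd⟩ : ∃ d : Fin 4 → Fˣ,
      d = ![Units.mk0 ζ hζ0, Units.mk0 (ζ ^ 4) (pow_ne_zero 4 hζ0), 1, 1] := ⟨_, rfl⟩
  have hdval : (fun i => ((d i : Fˣ) : F)) = ![ζ, ζ ^ 4, 1, 1] := by
    funext i
    rw [hd]
    fin_cases i <;> rfl
  have hdinv : (fun i => (((d i)⁻¹ : Fˣ) : F)) = ![ζ ^ 4, ζ, 1, 1] := by
    funext i
    rw [hd]
    fin_cases i <;> simp [hinv, hinv4]
  obtain ⟨x, hx⟩ : ∃ x : GL (Fin 4) F, x = B * diagU d * B⁻¹ := ⟨_, rfl⟩
  have hxval : (x : Matrix (Fin 4) (Fin 4) F) = Xm a a' c s := by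
    rw [hx, Units.val_mul, Units.val_mul, diagU_val, hdval, hB, hc, hs]
    exact Bm_diag_mul h2 ha ζ (ζ ^ 4)
  have hxinv : x⁻¹ = B * (diagU d)⁻¹ * B⁻¹ := by rw [hx]; group
  have htr1 : Matrix.trace (x : Matrix (Fin 4) (Fin 4) F) = ζ + ζ ^ 4 + 1 + 1 := by
    rw [hx, Units.val_mul, Units.val_mul, Matrix.trace_units_conj, diagU_val, hdval,
      Matrix.trace_diagonal, Fin.sum_univ_four]
    rfl
  have htr2 : Matrix.trace ((x⁻¹ : GL (Fin 4) F) : Matrix (Fin 4) (Fin 4) F) = ζ ^ 4 + ζ + 1 + 1 := by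
    rw [hxinv, Units.val_mul, Units.val_mul, Matrix.trace_units_conj, diagU_inv_val, hdinv,
      Matrix.trace_diagonal, Fin.sum_univ_four]
    rfl
  have hxGU : x ∈ GU 4 F p := by
    rw [mem_GU_iff hF, hxval, Xm_map hF ha' hcp hsp, Xm_gram ha hcs]
  have hxSL : x ∈ Geo.specialLinear (Fin 4) F := by
    have h1 : diagU d ∈ Geo.specialLinear (Fin 4) F := by
      apply diagU_mem_SL
      rw [Fin.prod_univ_four, hd]
      simp
      linear_combination hζ5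
    have := conj_mem_SL4 B⁻¹ (diagU d) h1
    rwa [inv_inv, ← hx] at this
  have hx5 : x ^ 5 = 1 := by
    have h1 : diagU d ^ 5 = 1 := by
      apply diagU_pow
      intro i
      rw [hd]
      fin_cases i
      · simpa using hζ5
      · simp
        rw [← pow_mul, mul_comm, pow_mul, hζ5, one_pow]
      · simp
      · simp
    rw [hx, conj_pow, h1, mul_one, mul_inv_cancel]
  refine not_good_of_trace _ x ⟨hxGU, hxSL⟩ hx5 (fun z => by rw [hxval]; exact Xm_not_scalar ha hs0 z) ?_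
  intro y hyN hy5 hyns ht ht'
  have htr := D.trace_of_pow_five h2 hyN (z := 1) (by rw [hy5, Units.val_one, one_smul]) hyns
  rw [ht, ht', htr1, htr2] at htr
  have hE : (ζ + ζ ^ 4) ^ 2 + (ζ + ζ ^ 4) - 1 = 0 := by
    linear_combination hcyc + (2 + ζ ^ 3) * hζ5
  have hT : 3 * (ζ + ζ ^ 4) + 4 = 0 := by linear_combination htr - hE
  apply h5
  linear_combination (3 * (ζ + ζ ^ 4) + 4 - 5) * hT - 9 * hE

end Cfsg.Agent.Helper1.U4Bad
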