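import Mathlib
import Cfsg.Agent.Helper2.SymTE
import Cfsg.Agent.Helper8.GUOrder

set_option autoImplicit false
set_option linter.unusedSectionVars false
set_option linter.unusedVariables false

/-!
Row S6001, piece U-NF (for helper9): a unitary frame for four unitary matrices satisfying helper2's
relations `Hyp` (helper1).
-/

namespace Cfsg.Agent.Helper1.U4NF

open Matrix Cfsg Cfsg.Agent.Helper2.SymT Cfsg.Agent.Helper7.Herm Cfsg.Agent.Helper8.GUOrder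

variable {F : Type*} [Field F] [Fintype F] {q : ℕ}

theorem herm_zero_right (hF : Fintype.card F = q ^ 2) {n : ℕ} (u : Fin n → F) :
    hermForm n F q u 0 = 0 := by
  unfold hermForm
  apply Finset.sum_eq_zero
  intro i _
  rw [Pi.zero_apply, zero_pow (by have := one_le_q hF; omega), mul_zero]

theorem herm_neg_right (hF : Fintype.card F = q ^ 2) {n : ℕ} (u w : Fin n → F) :
    hermForm n F q u (-w) = -hermForm n F q u w := by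
  have h := hermForm_add_right hF u w (-w)
  rw [add_neg_cancel, herm_zero_right hF] at h
  linear_combination -h

theorem herm_symm_zero (hF : Fintype.card F = q ^ 2) {n : ℕ} {u w : Fin n → F}
    (h : hermForm n F q u w = 0) : hermForm n F q w u = 0 := by
  rw [hermForm_swap hF, h, zero_pow (by have := one_le_q hF; omega)]

theorem herm_nondeg (hF : Fintype.card F = q ^ 2) {n : ℕ} (u : Fin n → F)
    (h : ∀ w, hermForm n F q u w = 0) : u = 0 := by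
  funext i
  have := h (Pi.single i 1)
  unfold hermForm at this
  rw [Finset.sum_eq_single i] at this
  · simpa using this
  · intro j _ hji
    rw [Pi.single_eq_of_ne hji, zero_pow (by have := one_le_q hF; omega), mul_zero]
  · intro hi
    exact absurd (Finset.mem_univ i) hi

/-- eigenvectors of a unitary matrix for the eigenvalues `1` and `-1` are orthogonal. -/
theorem herm_perp (hF : Fintype.card F = q ^ 2) (h2 : (2 : F) ≠ 0) {n : ℕ}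
    (B : Matrix (Fin n) (Fin n) F)
    (hB : ∀ u w, hermForm n F q (B *ᵥ u) (B *ᵥ w) = hermForm n F q u w)
    {u w : Fin n → F} (hu : B *ᵥ u = u) (hw : B *ᵥ w = -w) : hermForm n F q u w = 0 := by
  have h := hB u w
  rw [hu, hw, herm_neg_right hF] at h
  have : 2 * hermForm n F q u w = 0 := by linear_combination -h
  exact (mul_eq_zero.mp this).resolve_left h2

section frame

variable {B₁ C₁ B₂ C₂ : Matrix (Fin 4) (Fin 4) F}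

/-- the joint eigenvalues of `B₁, B₂` on the frame vectors. -/
theorem frame_eigen (h : Hyp B₁ C₁ B₂ C₂) {v : Fin 4 → F} (h1 : B₁ *ᵥ v = v) (h2' : B₂ *ᵥ v = v) :
    B₁ *ᵥ (C₁ *ᵥ v) = -(C₁ *ᵥ v) ∧ B₂ *ᵥ (C₁ *ᵥ v) = C₁ *ᵥ v ∧
    B₁ *ᵥ (C₂ *ᵥ v) = C₂ *ᵥ v ∧ B₂ *ᵥ (C₂ *ᵥ v) = -(C₂ *ᵥ v) ∧
    B₁ *ᵥ (C₁ *ᵥ (C₂ *ᵥ v)) = -(C₁ *ᵥ (C₂ *ᵥ v)) ∧
    B₂ *ᵥ (C₁ *ᵥ (C₂ *ᵥ v)) = -(C₁ *ᵥ (C₂ *ᵥ v)) := by
  have e11 : B₁ *ᵥ (C₁ *ᵥ v) = -(C₁ *ᵥ v) := by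
    rw [mulVec_mulVec, h.b1c1, neg_mulVec, ← mulVec_mulVec, h1]
  have e21 : B₂ *ᵥ (C₁ *ᵥ v) = C₁ *ᵥ v := by
    rw [mulVec_mulVec, ← h.c1b2, ← mulVec_mulVec, h2']
  have e12 : B₁ *ᵥ (C₂ *ᵥ v) = C₂ *ᵥ v := by
    rw [mulVec_mulVec, h.b1c2, ← mulVec_mulVec, h1]
  have e22 : B₂ *ᵥ (C₂ *ᵥ v) = -(C₂ *ᵥ v) := by
    rw [mulVec_mulVec, h.b2c2, neg_mulVec, ← mulVec_mulVec, h2']
  refine ⟨e11, e21, e12, e22, ?_, ?_⟩
  · rw [mulVec_mulVec (C₂ *ᵥ v) B₁ C₁, h.b1c1, neg_mulVec, ← mulVec_mulVec (C₂ *ᵥ v) C₁ B₁, e12]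
  · rw [mulVec_mulVec (C₂ *ᵥ v) B₂ C₁, ← h.c1b2, ← mulVec_mulVec (C₂ *ᵥ v) C₁ B₂, e22, mulVec_neg]

/-- the frame vectors are pairwise orthogonal. -/
theorem frame_perp (hF : Fintype.card F = q ^ 2) (h2 : (2 : F) ≠ 0) (h : Hyp B₁ C₁ B₂ C₂)
    (uB₁ : ∀ u w, hermForm 4 F q (B₁ *ᵥ u) (B₁ *ᵥ w) = hermForm 4 F q u w)
    (uB₂ : ∀ u w, hermForm 4 F q (B₂ *ᵥ u) (B₂ *ᵥ w) = hermForm 4 F q u w)
    {v : Fin 4 → F} (h1 : B₁ *ᵥ v = v) (h2' : B₂ *ᵥ v = v) (j k : Fin 4) (hjk : j ≠ k) :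
    hermForm 4 F q (![v, C₁ *ᵥ v, C₂ *ᵥ v, C₁ *ᵥ (C₂ *ᵥ v)] j)
      (![v, C₁ *ᵥ v, C₂ *ᵥ v, C₁ *ᵥ (C₂ *ᵥ v)] k) = 0 := by
  obtain ⟨e11, e21, e12, e22, e13, e23⟩ := frame_eigen h h1 h2'
  have p01 : hermForm 4 F q v (C₁ *ᵥ v) = 0 := herm_perp hF h2 B₁ uB₁ h1 e11
  have p02 : hermForm 4 F q v (C₂ *ᵥ v) = 0 := herm_perp hF h2 B₂ uB₂ h2' e22
  have p03 : hermForm 4 F q v (C₁ *ᵥ (C₂ *ᵥ v)) = 0 := herm_perp hF h2 B₁ uB₁ h1 e13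
  have p21 : hermForm 4 F q (C₂ *ᵥ v) (C₁ *ᵥ v) = 0 := herm_perp hF h2 B₁ uB₁ e12 e11
  have p13 : hermForm 4 F q (C₁ *ᵥ v) (C₁ *ᵥ (C₂ *ᵥ v)) = 0 := herm_perp hF h2 B₂ uB₂ e21 e23
  have p23 : hermForm 4 F q (C₂ *ᵥ v) (C₁ *ᵥ (C₂ *ᵥ v)) = 0 := herm_perp hF h2 B₁ uB₁ e12 e13
  fin_cases j <;> fin_cases k
  · exact absurd rfl hjk
  · exact p01
  · exact p02
  · exact p03
  · exact herm_symm_zero hF p01
  · exact absurd rfl hjk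
  · exact herm_symm_zero hF p21
  · exact p13
  · exact herm_symm_zero hF p02
  · exact p21
  · exact absurd rfl hjk
  · exact p23
  · exact herm_symm_zero hF p03
  · exact herm_symm_zero hF p13
  · exact herm_symm_zero hF p23
  · exact absurd rfl hjk

/-- the frame vectors have the same norm. -/
theorem frame_norm
    (uC₁ : ∀ u w, hermForm 4 F q (C₁ *ᵥ u) (C₁ *ᵥ w) = hermForm 4 F q u w)
    (uC₂ : ∀ u w, hermForm 4 F q (C₂ *ᵥ u) (C₂ *ᵥ w) = hermForm 4 F q u w)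
    (v : Fin 4 → F) (j : Fin 4) :
    hermForm 4 F q (![v, C₁ *ᵥ v, C₂ *ᵥ v, C₁ *ᵥ (C₂ *ᵥ v)] j)
      (![v, C₁ *ᵥ v, C₂ *ᵥ v, C₁ *ᵥ (C₂ *ᵥ v)] j) = hermForm 4 F q v v := by
  fin_cases j
  · rfl
  · exact uC₁ v v
  · exact uC₂ v v
  · exact (uC₁ _ _).trans (uC₂ v v)

/-- the Gram matrix of the frame. -/
theorem frame_gram (C₁ C₂ : Matrix (Fin 4) (Fin 4) F) (v : Fin 4 → F) (j k : Fin 4) :
    ((frameMat C₁ C₂ v)ᵀ * (frameMat C₁ C₂ v).map (· ^ q)) j k =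
      hermForm 4 F q (![v, C₁ *ᵥ v, C₂ *ᵥ v, C₁ *ᵥ (C₂ *ᵥ v)] j)
        (![v, C₁ *ᵥ v, C₂ *ᵥ v, C₁ *ᵥ (C₂ *ᵥ v)] k) := by
  rw [Matrix.mul_apply]
  rfl

/-- a fixed vector of `B₁, B₂` is not isotropic. -/
theorem norm_ne_zero (hF : Fintype.card F = q ^ 2) (h2 : (2 : F) ≠ 0) (h : Hyp B₁ C₁ B₂ C₂)
    (uB₁ : ∀ u w, hermForm 4 F q (B₁ *ᵥ u) (B₁ *ᵥ w) = hermForm 4 F q u w)
    (uB₂ : ∀ u w, hermForm 4 F q (B₂ *ᵥ u) (B₂ *ᵥ w) = hermForm 4 F q u w)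
    {v : Fin 4 → F} (hv : v ≠ 0) (h1 : B₁ *ᵥ v = v) (h2' : B₂ *ᵥ v = v) :
    hermForm 4 F q v v ≠ 0 := by
  intro h0
  apply hv
  apply herm_nondeg hF
  intro w
  have hu := h.frame_isUnit h2 hv h1 h2'
  obtain ⟨a, rfl⟩ : ∃ a, frameMat C₁ C₂ v *ᵥ a = w := by
    refine ⟨(hu.unit⁻¹ : (Matrix (Fin 4) (Fin 4) F)ˣ).val *ᵥ w, ?_⟩
    rw [mulVec_mulVec]
    have : frameMat C₁ C₂ v * (hu.unit⁻¹ : (Matrix (Fin 4) (Fin 4) F)ˣ).val = 1 := by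
      have := hu.unit.mul_inv
      rwa [IsUnit.unit_spec] at this
    rw [this, one_mulVec]
  rw [frameMat_mulVec]
  have p1 := frame_perp hF h2 h uB₁ uB₂ h1 h2' 0 1 (by decide)
  have p2 := frame_perp hF h2 h uB₁ uB₂ h1 h2' 0 2 (by decide)
  have p3 := frame_perp hF h2 h uB₁ uB₂ h1 h2' 0 3 (by decide)
  simp only [Matrix.cons_val_zero, Matrix.cons_val_one, Matrix.cons_val] at p1 p2 p3
  rw [hermForm_add_right hF, hermForm_add_right hF, hermForm_add_right hF, hermForm_smul_right,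
    hermForm_smul_right, hermForm_smul_right, hermForm_smul_right, h0, p1, p2, p3]
  ring

end frame

end Cfsg.Agent.Helper1.U4NF
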