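import Mathlib
import Cfsg.Agent.Helper1.U4NFA

set_option autoImplicit false
set_option linter.unusedSectionVars false
set_option linter.unusedVariables false

/-!
Row S6001, piece U-NF (for helper9): the unitary normal form of `4 ∘ 2^{1+4}` in `GU_4(q)` (helper1).
-/

namespace Cfsg.Agent.Helper1.U4NF

open Matrix Cfsg Cfsg.Agent.Helper2.SymT Cfsg.Agent.Helper7.Herm Cfsg.Agent.Helper8.GUOrder

variable {F : Type*} [Field F] [Fintype F] {q : ℕ}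

theorem conj_mul_conj (P : GL (Fin 4) F) (A B : Matrix (Fin 4) (Fin 4) F) :
    (P : Matrix (Fin 4) (Fin 4) F) * A * ((P⁻¹ : GL (Fin 4) F) : Matrix (Fin 4) (Fin 4) F) *
      ((P : Matrix (Fin 4) (Fin 4) F) * B * ((P⁻¹ : GL (Fin 4) F) : Matrix (Fin 4) (Fin 4) F))
      = (P : Matrix (Fin 4) (Fin 4) F) * (A * B) * ((P⁻¹ : GL (Fin 4) F) : Matrix (Fin 4) (Fin 4) F) := by
  simp only [Matrix.mul_assoc, Units.inv_mul_cancel_left]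

theorem conj_one (P : GL (Fin 4) F) :
    (P : Matrix (Fin 4) (Fin 4) F) * 1 * ((P⁻¹ : GL (Fin 4) F) : Matrix (Fin 4) (Fin 4) F) = 1 := by
  rw [Matrix.mul_one, Units.mul_inv]

theorem conj_neg (P : GL (Fin 4) F) (A : Matrix (Fin 4) (Fin 4) F) :
    (P : Matrix (Fin 4) (Fin 4) F) * (-A) * ((P⁻¹ : GL (Fin 4) F) : Matrix (Fin 4) (Fin 4) F)
      = -((P : Matrix (Fin 4) (Fin 4) F) * A * ((P⁻¹ : GL (Fin 4) F) : Matrix (Fin 4) (Fin 4) F)) := by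
  rw [Matrix.mul_neg, Matrix.neg_mul]

/-- helper2's relations are invariant under conjugation. -/
theorem hyp_conj (P : GL (Fin 4) F) {B₁ C₁ B₂ C₂ : Matrix (Fin 4) (Fin 4) F} (h : Hyp B₁ C₁ B₂ C₂) :
    Hyp ((P : Matrix (Fin 4) (Fin 4) F) * B₁ * ((P⁻¹ : GL (Fin 4) F) : Matrix (Fin 4) (Fin 4) F))
      ((P : Matrix (Fin 4) (Fin 4) F) * C₁ * ((P⁻¹ : GL (Fin 4) F) : Matrix (Fin 4) (Fin 4) F))
      ((P : Matrix (Fin 4) (Fin 4) F) * B₂ * ((P⁻¹ : GL (Fin 4) F) : Matrix (Fin 4) (Fin 4) F))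
      ((P : Matrix (Fin 4) (Fin 4) F) * C₂ * ((P⁻¹ : GL (Fin 4) F) : Matrix (Fin 4) (Fin 4) F)) := by
  refine ⟨?_, ?_, ?_, ?_, ?_, ?_, ?_, ?_, ?_, ?_⟩
  · rw [conj_mul_conj, h.b1, conj_one]
  · rw [conj_mul_conj, h.c1, conj_one]
  · rw [conj_mul_conj, h.b2, conj_one]
  · rw [conj_mul_conj, h.c2, conj_one]
  · rw [conj_mul_conj, conj_mul_conj, h.b1c1, conj_neg]
  · rw [conj_mul_conj, conj_mul_conj, h.b2c2, conj_neg]
  · rw [conj_mul_conj, conj_mul_conj, h.b1b2]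
  · rw [conj_mul_conj, conj_mul_conj, h.b1c2]
  · rw [conj_mul_conj, conj_mul_conj, h.c1b2]
  · rw [conj_mul_conj, conj_mul_conj, h.c1c2]

/-- a common fixed vector of norm one. -/
theorem exists_unit_fix (hF : Fintype.card F = q ^ 2) (h2 : (2 : F) ≠ 0)
    {B₁ C₁ B₂ C₂ : Matrix (Fin 4) (Fin 4) F} (h : Hyp B₁ C₁ B₂ C₂)
    (uB₁ : ∀ u w, hermForm 4 F q (B₁ *ᵥ u) (B₁ *ᵥ w) = hermForm 4 F q u w)
    (uB₂ : ∀ u w, hermForm 4 F q (B₂ *ᵥ u) (B₂ *ᵥ w) = hermForm 4 F q u w) :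
    ∃ v : Fin 4 → F, v ≠ 0 ∧ B₁ *ᵥ v = v ∧ B₂ *ᵥ v = v ∧ hermForm 4 F q v v = 1 := by
  obtain ⟨v, hv, h1, h2'⟩ := h.exists_fix h2
  have hc := norm_ne_zero hF h2 h uB₁ uB₂ hv h1 h2'
  obtain ⟨l, hl⟩ := exists_norm hF hc (hermForm_swap hF v v).symm
  have hl0 : l ≠ 0 := by
    rintro rfl
    apply hc
    rw [← hl, zero_mul]
  have hlq0 : l ^ q ≠ 0 := pow_ne_zero q hl0
  refine ⟨l⁻¹ • v, smul_ne_zero (inv_ne_zero hl0) hv, ?_, ?_, ?_⟩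
  · rw [mulVec_smul, h1]
  · rw [mulVec_smul, h2']
  · rw [hermForm_smul_left, hermForm_smul_right, ← hl, inv_pow]
    field_simp

/-- **Piece U-NF of S6001.** -/
theorem unitary_normal_form
    (hF : Fintype.card F = q ^ 2) (h2 : (2 : F) ≠ 0)
    (R : Subgroup (GL (Fin 4) F)) [Finite R] (hRU : R ≤ Cfsg.GU 4 F q)
    (hcard : Nat.card R = 64) (hZ : Nat.card (Subgroup.center R) = 4)
    (hexp : ∀ g ∈ R, g ^ 4 = 1)
    (hchar : ∀ A : Subgroup R, A.Characteristic → IsMulCommutative A → IsCyclic A)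
    (hcent : ∀ M : Matrix (Fin 4) (Fin 4) F,
      (∀ g ∈ R, M * (g : Matrix (Fin 4) (Fin 4) F) = (g : Matrix (Fin 4) (Fin 4) F) * M) →
        ∃ c : F, M = c • (1 : Matrix (Fin 4) (Fin 4) F)) :
    ∃ (i : F) (hi : i ^ 2 = -1) (Q : GL (Fin 4) F), Q ∈ Cfsg.GU 4 F q ∧
      ∀ g, g ∈ R ↔ Q⁻¹ * g * Q ∈ R0 i hi := by
  obtain ⟨i, hi, P, hP⟩ := normal_form h2 R hcard hZ hexp hchar hcent
  refine ⟨i, hi, ?_⟩
  have hmemR : ∀ y ∈ R0 i hi, P * y * P⁻¹ ∈ R := by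
    intro y hy
    rw [hP]
    have : P⁻¹ * (P * y * P⁻¹) * P = y := by group
    rw [this]
    exact hy
  obtain ⟨b₁, hb₁⟩ : ∃ b : GL (Fin 4) F, b = P * B1g * P⁻¹ := ⟨_, rfl⟩
  obtain ⟨c₁, hc₁⟩ : ∃ b : GL (Fin 4) F, b = P * C1g * P⁻¹ := ⟨_, rfl⟩
  obtain ⟨b₂, hb₂⟩ : ∃ b : GL (Fin 4) F, b = P * B2g * P⁻¹ := ⟨_, rfl⟩
  obtain ⟨c₂, hc₂⟩ : ∃ b : GL (Fin 4) F, b = P * C2g * P⁻¹ := ⟨_, rfl⟩
  have mb₁ : b₁ ∈ R := by rw [hb₁]; exact hmemR _ (B1g_mem i hi)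
  have mc₁ : c₁ ∈ R := by rw [hc₁]; exact hmemR _ (C1g_mem i hi)
  have mb₂ : b₂ ∈ R := by rw [hb₂]; exact hmemR _ (B2g_mem i hi)
  have mc₂ : c₂ ∈ R := by rw [hc₂]; exact hmemR _ (C2g_mem i hi)
  have vb₁ : (b₁ : Matrix (Fin 4) (Fin 4) F) = (P : Matrix (Fin 4) (Fin 4) F) * B1m *
      ((P⁻¹ : GL (Fin 4) F) : Matrix (Fin 4) (Fin 4) F) := by
    rw [hb₁, Units.val_mul, Units.val_mul, B1g_val]
  have vc₁ : (c₁ : Matrix (Fin 4) (Fin 4) F) = (P : Matrix (Fin 4) (Fin 4) F) * C1m *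
      ((P⁻¹ : GL (Fin 4) F) : Matrix (Fin 4) (Fin 4) F) := by
    rw [hc₁, Units.val_mul, Units.val_mul, C1g_val]
  have vb₂ : (b₂ : Matrix (Fin 4) (Fin 4) F) = (P : Matrix (Fin 4) (Fin 4) F) * B2m *
      ((P⁻¹ : GL (Fin 4) F) : Matrix (Fin 4) (Fin 4) F) := by
    rw [hb₂, Units.val_mul, Units.val_mul, B2g_val]
  have vc₂ : (c₂ : Matrix (Fin 4) (Fin 4) F) = (P : Matrix (Fin 4) (Fin 4) F) * C2m *
      ((P⁻¹ : GL (Fin 4) F) : Matrix (Fin 4) (Fin 4) F) := by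
    rw [hc₂, Units.val_mul, Units.val_mul, C2g_val]
  have hyp : Hyp (b₁ : Matrix (Fin 4) (Fin 4) F) (c₁ : Matrix (Fin 4) (Fin 4) F)
      (b₂ : Matrix (Fin 4) (Fin 4) F) (c₂ : Matrix (Fin 4) (Fin 4) F) := by
    rw [vb₁, vc₁, vb₂, vc₂]
    exact hyp_conj P hyp_std
  have uB₁ : ∀ u w, hermForm 4 F q ((b₁ : Matrix (Fin 4) (Fin 4) F) *ᵥ u)
      ((b₁ : Matrix (Fin 4) (Fin 4) F) *ᵥ w) = hermForm 4 F q u w := fun u w => hRU mb₁ u w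
  have uC₁ : ∀ u w, hermForm 4 F q ((c₁ : Matrix (Fin 4) (Fin 4) F) *ᵥ u)
      ((c₁ : Matrix (Fin 4) (Fin 4) F) *ᵥ w) = hermForm 4 F q u w := fun u w => hRU mc₁ u w
  have uB₂ : ∀ u w, hermForm 4 F q ((b₂ : Matrix (Fin 4) (Fin 4) F) *ᵥ u)
      ((b₂ : Matrix (Fin 4) (Fin 4) F) *ᵥ w) = hermForm 4 F q u w := fun u w => hRU mb₂ u w
  have uC₂ : ∀ u w, hermForm 4 F q ((c₂ : Matrix (Fin 4) (Fin 4) F) *ᵥ u)
      ((c₂ : Matrix (Fin 4) (Fin 4) F) *ᵥ w) = hermForm 4 F q u w := fun u w => hRU mc₂ u w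
  obtain ⟨v, hv, h1, h2', hn⟩ := exists_unit_fix hF h2 hyp uB₁ uB₂
  have hu := hyp.frame_isUnit h2 hv h1 h2'
  obtain ⟨Q, hQ⟩ : ∃ Q : GL (Fin 4) F, (Q : Matrix (Fin 4) (Fin 4) F) =
      frameMat (c₁ : Matrix (Fin 4) (Fin 4) F) (c₂ : Matrix (Fin 4) (Fin 4) F) v :=
    ⟨hu.unit, hu.unit_spec⟩
  have hQU : Q ∈ Cfsg.GU 4 F q := by
    rw [mem_GU_iff hF, hQ]
    ext j k
    rw [frame_gram]
    by_cases hjk : j = k
    · subst hjk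
      rw [frame_norm uC₁ uC₂, hn, Matrix.one_apply_eq]
    · rw [frame_perp hF h2 hyp uB₁ uB₂ h1 h2' j k hjk, Matrix.one_apply_ne hjk]
  obtain ⟨r1, r2, r3, r4⟩ := hyp.frame_rel h1 h2'
  rw [← hQ] at r1 r2 r3 r4
  have e1 : b₁ * Q = Q * B1g := Units.ext (by rw [Units.val_mul, Units.val_mul, B1g_val]; exact r1)
  have e2 : c₁ * Q = Q * C1g := Units.ext (by rw [Units.val_mul, Units.val_mul, C1g_val]; exact r2)
  have e3 : b₂ * Q = Q * B2g := Units.ext (by rw [Units.val_mul, Units.val_mul, B2g_val]; exact r3)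
  have e4 : c₂ * Q = Q * C2g := Units.ext (by rw [Units.val_mul, Units.val_mul, C2g_val]; exact r4)
  -- `W = Q⁻¹ P` centralizes `R0`
  have hW : ∀ (y b : GL (Fin 4) F), b = P * y * P⁻¹ → b * Q = Q * y →
      (Q⁻¹ * P) * y = y * (Q⁻¹ * P) := by
    intro y b hb he
    calc (Q⁻¹ * P) * y = Q⁻¹ * ((P * y * P⁻¹) * Q) * (Q⁻¹ * P) := by group
      _ = Q⁻¹ * (Q * y) * (Q⁻¹ * P) := by rw [← hb, he]
      _ = y * (Q⁻¹ * P) := by group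
  have hcen : R0 i hi ≤ Subgroup.centralizer ({Q⁻¹ * P} : Set (GL (Fin 4) F)) := by
    unfold R0
    rw [Subgroup.closure_le]
    intro y hy
    rw [SetLike.mem_coe, Subgroup.mem_centralizer_iff]
    intro w hw
    rw [Set.mem_singleton_iff] at hw
    subst hw
    rcases hy with rfl | rfl | rfl | rfl | rfl
    · exact (scg_comm _ _).symm
    · exact hW _ _ hb₁ e1
    · exact hW _ _ hc₁ e2
    · exact hW _ _ hb₂ e3
    · exact hW _ _ hc₂ e4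
  have hcen' : ∀ y ∈ R0 i hi, (Q⁻¹ * P) * y = y * (Q⁻¹ * P) := by
    intro y hy
    exact (Subgroup.mem_centralizer_iff.mp (hcen hy)) _ rfl
  refine ⟨Q, hQU, fun g => ⟨fun hg => ?_, fun hg => ?_⟩⟩
  · have hy := (hP g).mp hg
    have : Q⁻¹ * g * Q = (Q⁻¹ * P) * (P⁻¹ * g * P) * (Q⁻¹ * P)⁻¹ := by group
    rw [this, hcen' _ hy, mul_assoc, mul_inv_cancel, mul_one]
    exact hy
  · rw [hP]
    have e : P⁻¹ * g * P = (Q⁻¹ * P)⁻¹ * ((Q⁻¹ * g * Q) * (Q⁻¹ * P)) := by group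
    rw [e, ← hcen' _ hg, ← mul_assoc, inv_mul_cancel, one_mul]
    exact hg

end Cfsg.Agent.Helper1.U4NF
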