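import Mathlib

set_option autoImplicit false

/-!
Chevalley–Warning core for the Vaughan-Lee breadth theorem: a matrix of linear forms over `ZMod p`
in more variables than its size, which is the identity at a coordinate vector, is invertible at
some vector outside the coordinate line.
-/

namespace Cfsg.Agent.Helper1.VL

open MvPolynomial

variable {p : ℕ} [hp : Fact p.Prime]

section cw

variable {ι κ : Type*} [Fintype ι] [DecidableEq ι] [Fintype κ] [DecidableEq κ]

/-- the matrix of linear forms `∑ i, B i * X i` -/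
noncomputable def polyMat (B : ι → Matrix κ κ (ZMod p)) : Matrix κ κ (MvPolynomial ι (ZMod p)) :=
  Matrix.of fun a b => ∑ i, C (B i a b) * X i

theorem polyMat_apply (B : ι → Matrix κ κ (ZMod p)) (a b : κ) :
    polyMat B a b = ∑ i, C (B i a b) * X i := rfl

theorem totalDegree_polyMat_le (B : ι → Matrix κ κ (ZMod p)) (a b : κ) :
    (polyMat B a b).totalDegree ≤ 1 := by
  rw [polyMat_apply]
  apply totalDegree_finsetSum_le
  intro i _
  refine (totalDegree_mul _ _).trans ?_
  rw [totalDegree_C, totalDegree_X, zero_add]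

theorem totalDegree_det_polyMat_le (B : ι → Matrix κ κ (ZMod p)) :
    (polyMat B).det.totalDegree ≤ Fintype.card κ := by
  rw [Matrix.det_apply]
  apply totalDegree_finsetSum_le
  intro σ _
  have h1 : (∏ i, polyMat B (σ i) i).totalDegree ≤ Fintype.card κ := by
    refine (totalDegree_finsetProd _ _).trans ?_
    calc ∑ i, (polyMat B (σ i) i).totalDegree ≤ ∑ _i : κ, 1 :=
          Finset.sum_le_sum fun i _ => totalDegree_polyMat_le B _ _
      _ = Fintype.card κ := by simp
  rcases Int.units_eq_one_or (Equiv.Perm.sign σ) with h | h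
  · rw [h, one_smul]; exact h1
  · rw [h, Units.neg_smul, one_smul, totalDegree_neg]; exact h1

theorem eval_det_polyMat (B : ι → Matrix κ κ (ZMod p)) (v : ι → ZMod p) :
    eval v (polyMat B).det = (∑ i, v i • B i).det := by
  rw [RingHom.map_det]
  congr 1
  ext a b
  rw [RingHom.mapMatrix_apply, Matrix.map_apply, polyMat_apply, map_sum, Matrix.sum_apply]
  refine Finset.sum_congr rfl fun i _ => ?_
  rw [map_mul, eval_C, eval_X, Matrix.smul_apply, smul_eq_mul, mul_comm]

omit [DecidableEq κ] in
theorem sum_pow_eq_neg_one (k : ℕ) (hk : 0 < k) (hdvd : (p - 1) ∣ k) :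
    ∑ c : ZMod p, c ^ k = -1 := by
  classical
  have h1 : ∀ c : ZMod p, c ^ k = 1 - if c = 0 then 1 else 0 := by
    intro c
    split_ifs with hc
    · rw [hc, zero_pow hk.ne', sub_self]
    · obtain ⟨d, rfl⟩ := hdvd
      rw [pow_mul, ZMod.pow_card_sub_one_eq_one hc, one_pow, sub_zero]
  rw [Finset.sum_congr rfl fun c _ => h1 c, Finset.sum_sub_distrib, Finset.sum_const,
    Finset.sum_ite_eq' Finset.univ (0 : ZMod p)]
  simp

/-- **Chevalley–Warning core.** -/
theorem cw_core [Nonempty κ] (hκ : Fintype.card κ < Fintype.card ι) (i₀ : ι)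
    (B : ι → Matrix κ κ (ZMod p)) (hB : B i₀ = 1) :
    ∃ v : ι → ZMod p, (∃ i, i ≠ i₀ ∧ v i ≠ 0) ∧ (∑ i, v i • B i).det ≠ 0 := by
  classical
  by_contra hcon
  push Not at hcon
  have hp2 : 2 ≤ p := hp.out.two_le
  set m := Fintype.card κ with hm
  have hm1 : 1 ≤ m := Fintype.card_pos
  -- choice of the exponent `j`
  set r := (m - 1) % (p - 1) with hr
  have hrlt : r < p - 1 := Nat.mod_lt _ (by omega)
  set j := p - 2 - r with hj
  have hdm := Nat.div_add_mod (m - 1) (p - 1)
  rw [← hr] at hdm
  set d := (m - 1) / (p - 1) with hd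
  have hk : m + j = (p - 1) * (d + 1) := by
    rw [mul_add, mul_one]
    generalize (p - 1) * d = Q at hdm
    omega
  have hkpos : 0 < m + j := by omega
  set f : MvPolynomial ι (ZMod p) := (polyMat B).det * X i₀ ^ j with hf
  have hdeg : f.totalDegree < (Fintype.card (ZMod p) - 1) * Fintype.card ι := by
    rw [ZMod.card]
    have h1 : f.totalDegree ≤ m + j := by
      refine (totalDegree_mul _ _).trans ?_
      rw [totalDegree_X_pow]
      exact Nat.add_le_add_right (totalDegree_det_polyMat_le B) _
    have h2 : (p - 1) * (m + 1) ≤ (p - 1) * Fintype.card ι := Nat.mul_le_mul_left _ hκ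
    have h3 : 1 * m ≤ (p - 1) * m := Nat.mul_le_mul_right _ (by omega)
    have h4 : (p - 1) * d ≤ m - 1 := by omega
    rw [mul_add, mul_one] at h2 hk
    omega
  have hsum := MvPolynomial.sum_eval_eq_zero f hdeg
  have heval : ∀ v : ι → ZMod p, eval v f = (∑ i, v i • B i).det * v i₀ ^ j := by
    intro v
    rw [hf, map_mul, eval_det_polyMat, map_pow, eval_X]
  have hzero : ∀ v : ι → ZMod p, v ∉ Finset.univ.image (fun c : ZMod p => (Pi.single i₀ c : ι → ZMod p)) →
      eval v f = 0 := by
    intro v hv
    rw [heval]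
    have : ∃ i, i ≠ i₀ ∧ v i ≠ 0 := by
      by_contra hne
      push Not at hne
      apply hv
      rw [Finset.mem_image]
      refine ⟨v i₀, Finset.mem_univ _, ?_⟩
      funext i
      by_cases hi : i = i₀
      · rw [hi, Pi.single_eq_same]
      · rw [Pi.single_eq_of_ne hi, hne i hi]
    rw [hcon v this, zero_mul]
  rw [← Finset.sum_subset (Finset.subset_univ _) (fun v _ hv => hzero v hv),
    Finset.sum_image (fun a _ b _ h => Pi.single_injective i₀ h)] at hsum
  have hterm : ∀ c : ZMod p, eval (Pi.single i₀ c : ι → ZMod p) f = c ^ (m + j) := by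
    intro c
    rw [heval, Pi.single_eq_same]
    have : ∑ i, (Pi.single i₀ c : ι → ZMod p) i • B i = c • (1 : Matrix κ κ (ZMod p)) := by
      rw [Finset.sum_eq_single i₀]
      · rw [Pi.single_eq_same, hB]
      · intro i _ hi
        rw [Pi.single_eq_of_ne hi, zero_smul]
      · intro h; exact absurd (Finset.mem_univ _) h
    rw [this, Matrix.det_smul, Matrix.det_one, mul_one, ← hm, pow_add]
  rw [Finset.sum_congr rfl fun c _ => hterm c, sum_pow_eq_neg_one (m + j) hkpos ⟨d + 1, hk⟩] at hsum
  exact one_ne_zero (neg_eq_zero.mp hsum)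

end cw

end Cfsg.Agent.Helper1.VL
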