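import Mathlib
import Cfsg.Agent.Helper1.Hall
import Cfsg.Agent.Helper1.NormalEA2
import Cfsg.Agent.Helper5.PGroupCenter

set_option autoImplicit false

/-!
Additive characters `G → ZMod p` (for the Vaughan-Lee breadth theorem) and invariant characters of
normal sections of `p`-groups.
-/

namespace Cfsg.Agent.Helper1.VL

open scoped commutatorElement

universe u

variable {G : Type u} [Group G] {p : ℕ}

/-- the `ZMod p`-space of additive characters `G → ZMod p` -/
def charSpace (G : Type u) [Group G] (p : ℕ) : Submodule (ZMod p) (G → ZMod p) where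
  carrier := {f | ∀ a b, f (a * b) = f a + f b}
  add_mem' := by
    intro f g hf hg a b
    show f (a * b) + g (a * b) = (f a + g a) + (f b + g b)
    rw [hf, hg]; abel
  zero_mem' := by
    intro a b
    show (0 : ZMod p) = 0 + 0
    rw [add_zero]
  smul_mem' := by
    intro c f hf a b
    show c * f (a * b) = c * f a + c * f b
    rw [hf, mul_add]

theorem mem_charSpace {f : G → ZMod p} :
    f ∈ charSpace G p ↔ ∀ a b, f (a * b) = f a + f b := Iff.rfl

section basic

variable {f : G → ZMod p} (hf : f ∈ charSpace G p)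

include hf

theorem char_one : f 1 = 0 := by
  have := hf 1 1
  rw [mul_one] at this
  exact left_eq_add.1 this

theorem char_inv (a : G) : f a⁻¹ = - f a := by
  have := hf a a⁻¹
  rw [mul_inv_cancel, char_one hf] at this
  exact eq_neg_of_add_eq_zero_right this.symm

theorem char_pow (a : G) (n : ℕ) : f (a ^ n) = (n : ZMod p) * f a := by
  induction n with
  | zero => rw [pow_zero, char_one hf, Nat.cast_zero, zero_mul]
  | succ n ih => rw [pow_succ, hf, ih, Nat.cast_succ, add_mul, one_mul]

theorem char_conj (g a : G) : f (g * a * g⁻¹) = f a := by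
  rw [hf, hf, char_inv hf]; ring

theorem char_commutator (a b : G) : f ⁅a, b⁆ = 0 := by
  rw [commutatorElement_def, hf, hf, hf, char_inv hf, char_inv hf]; ring

/-- the underlying homomorphism -/
def charHom : G →* Multiplicative (ZMod p) where
  toFun g := Multiplicative.ofAdd (f g)
  map_one' := by rw [char_one hf]; rfl
  map_mul' a b := by rw [hf a b]; rfl

/-- the kernel of a character -/
def charKer : Subgroup G := (charHom hf).ker

theorem mem_charKer {g : G} : g ∈ charKer hf ↔ f g = 0 := by
  rw [charKer, MonoidHom.mem_ker]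
  show Multiplicative.ofAdd (f g) = 1 ↔ f g = 0
  rw [ofAdd_eq_one]

instance charKer_normal : (charKer hf).Normal := by
  unfold charKer; infer_instance

theorem char_surj [hp : Fact p.Prime] {g₀ : G} (h0 : f g₀ ≠ 0) (t : ZMod p) : ∃ g, f g = t := by
  refine ⟨g₀ ^ (t * (f g₀)⁻¹).val, ?_⟩
  rw [char_pow hf, ZMod.natCast_zmod_val, mul_assoc, inv_mul_cancel₀ h0, mul_one]

theorem index_charKer [hp : Fact p.Prime] {g₀ : G} (h0 : f g₀ ≠ 0) : (charKer hf).index = p := by
  rw [charKer, Subgroup.index_ker]
  have hsurj : Function.Surjective (charHom hf) := by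
    intro t
    obtain ⟨g, hg⟩ := char_surj hf h0 (Multiplicative.toAdd t)
    exact ⟨g, by show Multiplicative.ofAdd (f g) = t; rw [hg]; rfl⟩
  rw [MonoidHom.range_eq_top.2 hsurj, Subgroup.card_top]
  simp only [Nat.card_eq_fintype_card, Fintype.card_multiplicative, ZMod.card]

/-- a character with `f g₀ = 1` determines all characters vanishing on its kernel -/
theorem char_eq_smul_of_ker_le [hp : Fact p.Prime] {f' : G → ZMod p} (hf' : f' ∈ charSpace G p)
    {g₀ : G} (h1 : f g₀ = 1) (hle : ∀ g, f g = 0 → f' g = 0) : f' = f' g₀ • f := by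
  funext y
  show f' y = f' g₀ * f y
  have h2 : f (y * (g₀ ^ (f y).val)⁻¹) = 0 := by
    rw [hf, char_inv hf, char_pow hf, h1, mul_one, ZMod.natCast_zmod_val, add_neg_cancel]
  have h3 := hle _ h2
  rw [hf', char_inv hf', char_pow hf', ZMod.natCast_zmod_val] at h3
  rw [mul_comm]
  exact add_neg_eq_zero.1 h3

end basic

/-- a normal subgroup of index `p` is the kernel of a character -/
theorem exists_char_of_index [hp : Fact p.Prime] (N : Subgroup G) [hN : N.Normal]
    (hidx : N.index = p) : ∃ f ∈ charSpace G p, ∀ g, f g = 0 ↔ g ∈ N := by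
  have h1 : Nat.card (G ⧸ N) = p := by rw [← Subgroup.index_eq_card]; exact hidx
  have h2 : Nat.card (Multiplicative (ZMod p)) = p := by
    simp only [Nat.card_eq_fintype_card, Fintype.card_multiplicative, ZMod.card]
  let e : (G ⧸ N) ≃* Multiplicative (ZMod p) := mulEquivOfPrimeCardEq h1 h2
  refine ⟨fun g => Multiplicative.toAdd (e (QuotientGroup.mk' N g)), ?_, ?_⟩
  · intro a b
    show Multiplicative.toAdd (e (QuotientGroup.mk' N (a * b))) = _
    rw [map_mul, map_mul, toAdd_mul]
  · intro g
    show Multiplicative.toAdd (e (QuotientGroup.mk' N g)) = 0 ↔ g ∈ N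
    rw [toAdd_eq_zero, EmbeddingLike.map_eq_one_iff, QuotientGroup.mk'_apply,
      QuotientGroup.eq_one_iff]

/-- **Invariant characters of normal sections.** In a finite `p`-group, if `B < A` are normal
subgroups, there is a `G`-invariant additive map `A → ZMod p` vanishing on `B` but not on `A`. -/
theorem exists_invariant_char [Finite G] [hp : Fact p.Prime] (hG : IsPGroup p G)
    (A B : Subgroup G) [hA : A.Normal] [hB : B.Normal] (hBA : B ≤ A) (hne : B ≠ A) :
    ∃ w : G → ZMod p, (∀ a ∈ A, ∀ b ∈ A, w (a * b) = w a + w b) ∧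
      (∀ g, ∀ c ∈ A, w (g * c * g⁻¹) = w c) ∧ (∀ b ∈ B, w b = 0) ∧ ∃ a ∈ A, w a ≠ 0 := by
  classical
  -- a normal subgroup `N` with `B ≤ N ≤ A` of index `p` in `A`
  set S : Subgroup (G ⧸ B) := A.map (QuotientGroup.mk' B) with hS
  haveI hSn : S.Normal := hA.map _ (QuotientGroup.mk'_surjective B)
  have hSne : S ≠ ⊥ := by
    intro h
    have h1 : A ≤ B := by
      have := (Subgroup.map_eq_bot_iff A).1 h
      rwa [QuotientGroup.ker_mk'] at this
    exact hne (le_antisymm hBA h1)
  obtain ⟨M', hM'n, hM'S, hcard⟩ :=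
    Cfsg.Agent.Helper1.exists_normal_index_p_in_normal (hG.to_quotient B) S hSne
  set N : Subgroup G := M'.comap (QuotientGroup.mk' B) with hN
  haveI hNn : N.Normal := hM'n.comap _
  have hBN : B ≤ N := by
    intro b hb
    rw [hN, Subgroup.mem_comap, QuotientGroup.mk'_apply, (QuotientGroup.eq_one_iff b).2 hb]
    exact M'.one_mem
  have hNA : N ≤ A := by
    have h1 : N ≤ S.comap (QuotientGroup.mk' B) := Subgroup.comap_mono hM'S
    rwa [hS, Subgroup.comap_map_eq, QuotientGroup.ker_mk', sup_of_le_left hBA] at h1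
  have hrel : N.relIndex A = p := by
    have h1 : Nat.card N = Nat.card M' * Nat.card B := Cfsg.Agent.Helper1.card_comap_mk' B M'
    have h2 : Nat.card S * Nat.card B = Nat.card A := Cfsg.Agent.Helper1.card_map_mk'_mul_card B A hBA
    have h3 := Cfsg.Agent.Helper1.relIndex_mul_card_of_le hNA
    rw [← h2, hcard, h1, mul_assoc] at h3
    exact Nat.eq_of_mul_eq_mul_right (Nat.mul_pos Nat.card_pos Nat.card_pos) h3
  -- `A / N` is central in `G / N`
  have hcent : ∀ a ∈ A, ∀ g : G, ⁅g, a⁆ ∈ N := by
    set A' : Subgroup (G ⧸ N) := A.map (QuotientGroup.mk' N) with hA'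
    haveI hA'n : A'.Normal := hA.map _ (QuotientGroup.mk'_surjective N)
    have hA'card : Nat.card A' = p := by
      have h2 := Cfsg.Agent.Helper1.card_map_mk'_mul_card N A hNA
      have h3 := Cfsg.Agent.Helper1.relIndex_mul_card_of_le hNA
      rw [hrel, ← h2] at h3
      exact (Nat.eq_of_mul_eq_mul_right Nat.card_pos h3).symm
    have hA'ne : A' ≠ ⊥ := by
      intro h
      rw [h, Subgroup.card_bot] at hA'card
      exact hp.out.one_lt.ne hA'card
    obtain ⟨x, hxA', hx1, hxc⟩ :=
      Cfsg.Agent.Helper5.exists_ne_one_mem_center_of_normal (hG.to_quotient N) A' hA'ne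
    haveI : Fact (Nat.card A').Prime := ⟨by rw [hA'card]; exact hp.out⟩
    have hgen : Subgroup.zpowers (⟨x, hxA'⟩ : A') = ⊤ :=
      zpowers_eq_top_of_prime_card (G := A') (p := Nat.card A') rfl
        (fun h => hx1 (congrArg Subtype.val h))
    have hA'c : ∀ y ∈ A', ∀ t : G ⧸ N, t * y = y * t := by
      intro y hy t
      have : (⟨y, hy⟩ : A') ∈ Subgroup.zpowers (⟨x, hxA'⟩ : A') := by rw [hgen]; exact Subgroup.mem_top _
      obtain ⟨k, hk⟩ := Subgroup.mem_zpowers_iff.1 this
      have hk' : x ^ k = y := by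
        have := congrArg Subtype.val hk
        simpa using this
      rw [← hk']
      exact ((Commute.zpow_right (hxc t) k)).eq
    intro a ha g
    rw [← QuotientGroup.eq_one_iff, ← QuotientGroup.mk'_apply, map_commutatorElement]
    rw [commutatorElement_eq_one_iff_mul_comm]
    exact hA'c _ (Subgroup.mem_map_of_mem _ ha) _
  -- the character of `A` with kernel `N`
  haveI hNAn : (N.subgroupOf A).Normal := by infer_instance
  obtain ⟨χ, hχ, hχker⟩ := exists_char_of_index (p := p) (N.subgroupOf A) hrel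
  refine ⟨fun g => if h : g ∈ A then χ ⟨g, h⟩ else 0, ?_, ?_, ?_, ?_⟩
  · intro a ha b hb
    simp only [dif_pos ha, dif_pos hb, dif_pos (A.mul_mem ha hb)]
    exact hχ ⟨a, ha⟩ ⟨b, hb⟩
  · intro g c hc
    have hconj : g * c * g⁻¹ ∈ A := hA.conj_mem c hc g
    simp only [dif_pos hc, dif_pos hconj]
    have hcomm : ⁅g, c⁆ ∈ A := hNA (hcent c hc g)
    have h1 : (⟨g * c * g⁻¹, hconj⟩ : A) = ⟨⁅g, c⁆, hcomm⟩ * ⟨c, hc⟩ := by
      apply Subtype.ext
      show g * c * g⁻¹ = ⁅g, c⁆ * c
      rw [commutatorElement_def]; group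
    rw [h1, hχ]
    have h2 : χ ⟨⁅g, c⁆, hcomm⟩ = 0 := by
      rw [hχker, Subgroup.mem_subgroupOf]
      exact hcent c hc g
    rw [h2, zero_add]
  · intro b hb
    simp only [dif_pos (hBA hb)]
    rw [hχker, Subgroup.mem_subgroupOf]
    exact hBN hb
  · by_contra hcon
    push Not at hcon
    have h1 : A ≤ N := by
      intro a ha
      have h2 := hcon a ha
      simp only [dif_pos ha] at h2
      rw [hχker, Subgroup.mem_subgroupOf] at h2
      exact h2
    have h3 : N.relIndex A = 1 := Subgroup.relIndex_eq_one.2 h1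
    rw [hrel] at h3
    exact hp.out.one_lt.ne' h3

end Cfsg.Agent.Helper1.VL
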