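import Mathlib
import Cfsg.Agent.Helper1.VLChar

set_option autoImplicit false

/-!
Commutator forms `(x, y) ↦ ω ⁅x, y⁆` for `G`-invariant characters `ω` of `G'`, and their comparison
with wedge products `λ ∧ μ` of characters of `G` (for the Vaughan-Lee breadth theorem).
-/

namespace Cfsg.Agent.Helper1.VL

open scoped commutatorElement

universe u

variable {G : Type u} [Group G] {p : ℕ}

/-- `λ ∧ μ` as a function of two group elements -/
def wedgeFun (f g : G → ZMod p) : G → G → ZMod p := fun x y => f x * g y - f y * g x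

theorem wedgeFun_apply (f g : G → ZMod p) (x y : G) : wedgeFun f g x y = f x * g y - f y * g x := rfl

/-- the wedge product of characters, as a bilinear map -/
def wedge : charSpace G p →ₗ[ZMod p] charSpace G p →ₗ[ZMod p] (G → G → ZMod p) :=
  LinearMap.mk₂ (ZMod p) (fun f g => wedgeFun f.1 g.1)
    (by
      intro f f' g; funext x y
      show (f.1 + f'.1) x * g.1 y - (f.1 + f'.1) y * g.1 x =
        (f.1 x * g.1 y - f.1 y * g.1 x) + (f'.1 x * g.1 y - f'.1 y * g.1 x)
      simp only [Pi.add_apply]; ring)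
    (by
      intro c f g; funext x y
      show (c • f.1) x * g.1 y - (c • f.1) y * g.1 x = c * (f.1 x * g.1 y - f.1 y * g.1 x)
      simp only [Pi.smul_apply, smul_eq_mul]; ring)
    (by
      intro f g g'; funext x y
      show f.1 x * (g.1 + g'.1) y - f.1 y * (g.1 + g'.1) x =
        (f.1 x * g.1 y - f.1 y * g.1 x) + (f.1 x * g'.1 y - f.1 y * g'.1 x)
      simp only [Pi.add_apply]; ring)
    (by
      intro c f g; funext x y
      show f.1 x * (c • g.1) y - f.1 y * (c • g.1) x = c * (f.1 x * g.1 y - f.1 y * g.1 x)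
      simp only [Pi.smul_apply, smul_eq_mul]; ring)

theorem wedge_apply (f g : charSpace G p) (x y : G) :
    wedge f g x y = f.1 x * g.1 y - f.1 y * g.1 x := rfl

theorem wedge_self (f : charSpace G p) : wedge f f = 0 := by
  funext x y
  rw [wedge_apply]
  show f.1 x * f.1 y - f.1 y * f.1 x = 0
  ring

/-- `w` is additive on `A` and invariant under conjugation -/
def IsInvChar (A : Subgroup G) (w : G → ZMod p) : Prop :=
  (∀ a ∈ A, ∀ b ∈ A, w (a * b) = w a + w b) ∧ ∀ g, ∀ c ∈ A, w (g * c * g⁻¹) = w c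

namespace IsInvChar

variable {A : Subgroup G} {w : G → ZMod p} (hw : IsInvChar A w)

include hw

theorem map_one : w 1 = 0 := by
  have := hw.1 1 A.one_mem 1 A.one_mem
  rw [mul_one] at this
  exact left_eq_add.1 this

theorem map_inv {a : G} (ha : a ∈ A) : w a⁻¹ = - w a := by
  have := hw.1 a ha a⁻¹ (A.inv_mem ha)
  rw [mul_inv_cancel, hw.map_one] at this
  exact eq_neg_of_add_eq_zero_right this.symm

/-- if `w` vanishes on a generating set of `A`, it vanishes on `A` -/
theorem eq_zero_of_closure {S : Set G} (hS : A = Subgroup.closure S) (h0 : ∀ s ∈ S, w s = 0)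
    {a : G} (ha : a ∈ A) : w a = 0 := by
  have ha' : a ∈ Subgroup.closure S := hS ▸ ha
  induction ha' using Subgroup.closure_induction with
  | mem x hx => exact h0 x hx
  | one => exact hw.map_one
  | mul x y hx hy ihx ihy =>
    have hxA : x ∈ A := hS ▸ hx
    have hyA : y ∈ A := hS ▸ hy
    rw [hw.1 x hxA y hyA, ihx hxA, ihy hyA, add_zero]
  | inv x hx ih =>
    have hxA : x ∈ A := hS ▸ hx
    rw [hw.map_inv hxA, ih hxA, neg_zero]

end IsInvChar

/-- the space of commutator forms `(x, y) ↦ ω ⁅x, y⁆` -/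
def omegaSpace (G : Type u) [Group G] (p : ℕ) : Submodule (ZMod p) (G → G → ZMod p) where
  carrier := {F | ∃ w : G → ZMod p, IsInvChar (commutator G) w ∧ ∀ x y, F x y = w ⁅x, y⁆}
  add_mem' := by
    rintro F F' ⟨w, hw, hF⟩ ⟨w', hw', hF'⟩
    refine ⟨w + w', ⟨?_, ?_⟩, ?_⟩
    · intro a ha b hb
      show w (a * b) + w' (a * b) = (w a + w' a) + (w b + w' b)
      rw [hw.1 a ha b hb, hw'.1 a ha b hb]; abel
    · intro g c hc
      show w (g * c * g⁻¹) + w' (g * c * g⁻¹) = w c + w' c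
      rw [hw.2 g c hc, hw'.2 g c hc]
    · intro x y
      show F x y + F' x y = w ⁅x, y⁆ + w' ⁅x, y⁆
      rw [hF, hF']
  zero_mem' := by
    refine ⟨0, ⟨?_, ?_⟩, ?_⟩
    · intro a _ b _; show (0 : ZMod p) = 0 + 0; rw [add_zero]
    · intro g c _; rfl
    · intro x y; rfl
  smul_mem' := by
    rintro c F ⟨w, hw, hF⟩
    refine ⟨c • w, ⟨?_, ?_⟩, ?_⟩
    · intro a ha b hb
      show c * w (a * b) = c * w a + c * w b
      rw [hw.1 a ha b hb, mul_add]
    · intro g a ha
      show c * w (g * a * g⁻¹) = c * w a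
      rw [hw.2 g a ha]
    · intro x y
      show c * F x y = c * w ⁅x, y⁆
      rw [hF]

theorem mem_omegaSpace {F : G → G → ZMod p} :
    F ∈ omegaSpace G p ↔
      ∃ w : G → ZMod p, IsInvChar (commutator G) w ∧ ∀ x y, F x y = w ⁅x, y⁆ := Iff.rfl

theorem omega_comm_eq_zero {F : G → G → ZMod p} (hF : F ∈ omegaSpace G p) {x y : G}
    (hxy : x * y = y * x) : F x y = 0 := by
  obtain ⟨w, hw, hF⟩ := hF
  rw [hF, commutatorElement_eq_one_iff_mul_comm.2 hxy, hw.map_one]

theorem commutator_mem (x y : G) : ⁅x, y⁆ ∈ commutator G := by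
  rw [commutator_eq_closure]
  exact Subgroup.subset_closure ⟨x, y, rfl⟩

section form

variable {w : G → ZMod p} (hw : IsInvChar (commutator G) w)

include hw

theorem form_left (y : G) : (fun x => w ⁅x, y⁆) ∈ charSpace G p := by
  intro x x'
  show w ⁅x * x', y⁆ = w ⁅x, y⁆ + w ⁅x', y⁆
  have h : ⁅x * x', y⁆ = x * ⁅x', y⁆ * x⁻¹ * ⁅x, y⁆ := by
    simp only [commutatorElement_def]; group
  have hn : (commutator G).Normal := inferInstance
  rw [h, hw.1 _ (hn.conj_mem _ (commutator_mem x' y) x) _ (commutator_mem x y),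
    hw.2 x _ (commutator_mem x' y), add_comm]

theorem form_right (x : G) : (fun y => w ⁅x, y⁆) ∈ charSpace G p := by
  intro y y'
  show w ⁅x, y * y'⁆ = w ⁅x, y⁆ + w ⁅x, y'⁆
  have h : ⁅x, y * y'⁆ = ⁅x, y⁆ * (y * ⁅x, y'⁆ * y⁻¹) := by
    simp only [commutatorElement_def]; group
  have hn : (commutator G).Normal := inferInstance
  rw [h, hw.1 _ (commutator_mem x y) _ (hn.conj_mem _ (commutator_mem x y') y),
    hw.2 y _ (commutator_mem x y')]

theorem form_self (x : G) : w ⁅x, x⁆ = 0 := by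
  rw [commutatorElement_self, hw.map_one]

theorem form_swap (x y : G) : w ⁅x, y⁆ = - w ⁅y, x⁆ := by
  rw [← commutatorElement_inv y x, hw.map_inv (commutator_mem y x)]

/-- decomposition of a commutator form vanishing on the kernel of a character `l` -/
theorem form_decomp [hp : Fact p.Prime] {l : G → ZMod p} (hl : l ∈ charSpace G p) {g₀ : G}
    (h1 : l g₀ = 1) (hker : ∀ x y, l x = 0 → l y = 0 → w ⁅x, y⁆ = 0) (x y : G) :
    w ⁅x, y⁆ = l x * w ⁅g₀, y⁆ - l y * w ⁅g₀, x⁆ := by
  set u := (g₀ ^ (l x).val)⁻¹ with hu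
  set v := (g₀ ^ (l y).val)⁻¹ with hv
  have hxu : l (x * u) = 0 := by
    rw [hl, hu, char_inv hl, char_pow hl, h1, mul_one, ZMod.natCast_zmod_val, add_neg_cancel]
  have hyv : l (y * v) = 0 := by
    rw [hl, hv, char_inv hl, char_pow hl, h1, mul_one, ZMod.natCast_zmod_val, add_neg_cancel]
  have h0 := hker _ _ hxu hyv
  have hL := form_left hw
  have hR := form_right hw
  -- expand
  have e1 : w ⁅x * u, y * v⁆ = w ⁅x, y * v⁆ + w ⁅u, y * v⁆ := hL (y * v) x u
  have e2 : w ⁅x, y * v⁆ = w ⁅x, y⁆ + w ⁅x, v⁆ := hR x y v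
  have e3 : w ⁅u, y * v⁆ = w ⁅u, y⁆ + w ⁅u, v⁆ := hR u y v
  have e4 : w ⁅x, v⁆ = - ((l y) * w ⁅x, g₀⁆) := by
    have := char_inv (hR x) (g₀ ^ (l y).val)
    rw [char_pow (hR x), ZMod.natCast_zmod_val] at this
    exact this
  have e5 : w ⁅u, y⁆ = - ((l x) * w ⁅g₀, y⁆) := by
    have := char_inv (hL y) (g₀ ^ (l x).val)
    rw [char_pow (hL y), ZMod.natCast_zmod_val] at this
    exact this
  have e6 : w ⁅u, v⁆ = 0 := by
    have h2 : w ⁅u, v⁆ = - ((l y) * w ⁅u, g₀⁆) := by
      have := char_inv (hR u) (g₀ ^ (l y).val)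
      rw [char_pow (hR u), ZMod.natCast_zmod_val] at this
      exact this
    have h3 : w ⁅u, g₀⁆ = - ((l x) * w ⁅g₀, g₀⁆) := by
      have := char_inv (hL g₀) (g₀ ^ (l x).val)
      rw [char_pow (hL g₀), ZMod.natCast_zmod_val] at this
      exact this
    rw [h2, h3, form_self hw, mul_zero, neg_zero, mul_zero, neg_zero]
  have e7 : w ⁅x, g₀⁆ = - w ⁅g₀, x⁆ := form_swap hw x g₀
  rw [e1, e2, e3, e4, e5, e6, e7] at h0
  linear_combination h0

end form

/-- **Decomposition.** If the kernel `H` of the character `l` has `H' ≠ G'`, then `l ∧ μ` is a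
commutator form for some `μ` outside `span {l}`. -/
theorem exists_wedge_mem [Finite G] [hp : Fact p.Prime] (hG : IsPGroup p G) (l : charSpace G p)
    {g₀ : G} (h1 : l.1 g₀ = 1) (hne : ⁅charKer l.2, charKer l.2⁆ ≠ commutator G) :
    ∃ μ : charSpace G p, μ ∉ Submodule.span (ZMod p) {l} ∧ wedge l μ ∈ omegaSpace G p := by
  have hle : ⁅charKer l.2, charKer l.2⁆ ≤ commutator G := by
    rw [commutator_def]; exact Subgroup.commutator_mono le_top le_top
  haveI : (⁅charKer l.2, charKer l.2⁆ : Subgroup G).Normal := Subgroup.commutator_normal _ _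
  obtain ⟨w, hadd, hinv, hB, a, ha, hwa⟩ :=
    exists_invariant_char hG (commutator G) ⁅charKer l.2, charKer l.2⁆ hle hne
  have hw : IsInvChar (commutator G) w := ⟨hadd, hinv⟩
  have hker : ∀ x y, l.1 x = 0 → l.1 y = 0 → w ⁅x, y⁆ = 0 := by
    intro x y hx hy
    apply hB
    exact Subgroup.commutator_mem_commutator ((mem_charKer l.2).2 hx) ((mem_charKer l.2).2 hy)
  have hdec := form_decomp hw l.2 h1 hker
  refine ⟨⟨fun y => w ⁅g₀, y⁆, form_right hw g₀⟩, ?_, ?_⟩
  · intro hspan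
    obtain ⟨c, hc⟩ := Submodule.mem_span_singleton.1 hspan
    have hc' : ∀ y, w ⁅g₀, y⁆ = c * l.1 y := by
      intro y
      have := congrArg (fun f : charSpace G p => f.1 y) hc
      exact this.symm
    apply hwa
    refine hw.eq_zero_of_closure (commutator_eq_closure G) ?_ ha
    rintro _ ⟨x, y, rfl⟩
    rw [hdec x y, hc', hc']; ring
  · refine ⟨w, hw, ?_⟩
    intro x y
    rw [wedge_apply]
    exact (hdec x y).symm

/-- **Goodness.** If the kernel `H` of the character `l` has `H' = G'`, then `l ∧ μ` is a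
commutator form only for `μ ∈ span {l}`. -/
theorem mem_span_of_wedge_mem (l : charSpace G p) {g₀ : G} (h1 : l.1 g₀ = 1)
    (heq : ⁅charKer l.2, charKer l.2⁆ = commutator G) (μ : charSpace G p)
    (hμ : wedge l μ ∈ omegaSpace G p) : μ ∈ Submodule.span (ZMod p) {l} := by
  obtain ⟨w, hw, hF⟩ := hμ
  have h0 : ∀ a ∈ commutator G, w a = 0 := by
    intro a ha
    refine hw.eq_zero_of_closure (heq.symm.trans (Subgroup.commutator_def _ _)) ?_ ha
    rintro _ ⟨x, hx, y, hy, rfl⟩
    rw [← hF, wedge_apply, (mem_charKer l.2).1 hx, (mem_charKer l.2).1 hy]; ring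
  rw [Submodule.mem_span_singleton]
  refine ⟨μ.1 g₀, ?_⟩
  apply Subtype.ext
  funext y
  show μ.1 g₀ * l.1 y = μ.1 y
  have h2 := hF g₀ y
  rw [wedge_apply, h1, h0 _ (commutator_mem g₀ y)] at h2
  linear_combination -h2

end Cfsg.Agent.Helper1.VL
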