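import Mathlib
import Cfsg.Agent.Helper1.Hall

set_option autoImplicit false

/-!
The index lemma for the Vaughan-Lee breadth theorem: if `H ⊴ G` and `G = H⟨x⟩` then
`|G'| ≤ |H'| · |G : C_G(x)|`.
-/

namespace Cfsg.Agent.Helper1.VL

open scoped commutatorElement

universe u

section comm

variable {K : Type u} [Group K]

/-- a group generated by an abelian subgroup and an element commuting with it is abelian -/
theorem comm_of_sup_zpowers_eq_top (A : Subgroup K) (y : K)
    (hA : ∀ a ∈ A, ∀ b ∈ A, a * b = b * a) (hy : ∀ a ∈ A, a * y = y * a)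
    (htop : A ⊔ Subgroup.zpowers y = ⊤) (s t : K) : s * t = t * s := by
  -- everything commutes with `y`
  have h1 : ∀ t : K, t * y = y * t := by
    intro t
    have hle : A ⊔ Subgroup.zpowers y ≤ Subgroup.centralizer ({y} : Set K) := by
      refine sup_le ?_ ?_
      · intro a ha
        rw [Subgroup.mem_centralizer_singleton_iff]
        exact hy a ha
      · rw [Subgroup.zpowers_le, Subgroup.mem_centralizer_singleton_iff]
    have : t ∈ Subgroup.centralizer ({y} : Set K) := hle (htop ▸ Subgroup.mem_top t)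
    exact Subgroup.mem_centralizer_singleton_iff.1 this
  -- everything commutes with `A`
  have h2 : ∀ a ∈ A, ∀ t : K, t * a = a * t := by
    intro a ha t
    have hle : A ⊔ Subgroup.zpowers y ≤ Subgroup.centralizer ({a} : Set K) := by
      refine sup_le ?_ ?_
      · intro b hb
        rw [Subgroup.mem_centralizer_singleton_iff]
        exact hA b hb a ha
      · rw [Subgroup.zpowers_le, Subgroup.mem_centralizer_singleton_iff]
        exact (hy a ha).symm
    have : t ∈ Subgroup.centralizer ({a} : Set K) := hle (htop ▸ Subgroup.mem_top t)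
    exact Subgroup.mem_centralizer_singleton_iff.1 this
  have hle : A ⊔ Subgroup.zpowers y ≤ Subgroup.centralizer ({t} : Set K) := by
    refine sup_le ?_ ?_
    · intro a ha
      rw [Subgroup.mem_centralizer_singleton_iff]
      exact (h2 a ha t).symm
    · rw [Subgroup.zpowers_le, Subgroup.mem_centralizer_singleton_iff]
      exact (h1 t).symm
  have : s ∈ Subgroup.centralizer ({t} : Set K) := hle (htop ▸ Subgroup.mem_top s)
  exact Subgroup.mem_centralizer_singleton_iff.1 this

theorem comm_mem_of_normal {A : Subgroup K} [hAn : A.Normal] {a : K} (ha : a ∈ A) (y : K) :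
    ⁅a, y⁆ ∈ A := by
  have h : ⁅a, y⁆ = a * (y * a⁻¹ * y⁻¹) := by
    simp only [commutatorElement_def]; group
  rw [h]
  exact A.mul_mem ha (hAn.conj_mem _ (A.inv_mem ha) y)

/-- the subgroup `{⁅a, y⁆ | a ∈ A}` for an abelian normal subgroup `A` -/
def commRange (A : Subgroup K) [hAn : A.Normal] (hA : ∀ a ∈ A, ∀ b ∈ A, a * b = b * a) (y : K) :
    Subgroup K where
  carrier := {z | ∃ a ∈ A, ⁅a, y⁆ = z}
  one_mem' := ⟨1, A.one_mem, commutatorElement_one_left y⟩
  mul_mem' := by
    rintro _ _ ⟨a, ha, rfl⟩ ⟨b, hb, rfl⟩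
    refine ⟨a * b, A.mul_mem ha hb, ?_⟩
    have hby : ⁅b, y⁆ ∈ A := comm_mem_of_normal hb y
    have hay : ⁅a, y⁆ ∈ A := comm_mem_of_normal ha y
    have h : ⁅a * b, y⁆ = a * ⁅b, y⁆ * a⁻¹ * ⁅a, y⁆ := by
      simp only [commutatorElement_def]; group
    rw [h, hA a ha _ hby, mul_inv_cancel_right, hA _ hby _ hay]
  inv_mem' := by
    rintro _ ⟨a, ha, rfl⟩
    refine ⟨a⁻¹, A.inv_mem ha, ?_⟩
    have hay : ⁅a, y⁆ ∈ A := comm_mem_of_normal ha y
    have h : ⁅a⁻¹, y⁆ = a⁻¹ * ⁅a, y⁆⁻¹ * a := by
      simp only [commutatorElement_def]; group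
    rw [h, ← hA _ (A.inv_mem hay) _ (A.inv_mem ha), mul_assoc, inv_mul_cancel, mul_one]

theorem mem_commRange {A : Subgroup K} [hAn : A.Normal] {hA : ∀ a ∈ A, ∀ b ∈ A, a * b = b * a}
    {y z : K} : z ∈ commRange A hA y ↔ ∃ a ∈ A, ⁅a, y⁆ = z := Iff.rfl

theorem commRange_le (A : Subgroup K) [hAn : A.Normal] (hA : ∀ a ∈ A, ∀ b ∈ A, a * b = b * a)
    (y : K) : commRange A hA y ≤ A := by
  rintro _ ⟨a, ha, rfl⟩
  exact comm_mem_of_normal ha y

theorem commRange_normal (A : Subgroup K) [hAn : A.Normal] (hA : ∀ a ∈ A, ∀ b ∈ A, a * b = b * a)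
    (y : K) (htop : A ⊔ Subgroup.zpowers y = ⊤) : (commRange A hA y).Normal := by
  rw [← Subgroup.normalizer_eq_top_iff, eq_top_iff, ← htop]
  refine sup_le ?_ ?_
  · intro a ha
    rw [Subgroup.mem_normalizer_iff]
    intro z
    constructor
    · intro hz
      have hzA := commRange_le A hA y hz
      rw [hA a ha z hzA, mul_inv_cancel_right]; exact hz
    · intro hz
      have hzA : z ∈ A := by
        have := hAn.conj_mem _ (commRange_le A hA y hz) a⁻¹
        rw [inv_inv] at this
        have h2 : a⁻¹ * (a * z * a⁻¹) * a = z := by group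
        rwa [h2] at this
      rw [hA a ha z hzA, mul_inv_cancel_right] at hz; exact hz
  · rw [Subgroup.zpowers_le, Subgroup.mem_normalizer_iff]
    intro z
    constructor
    · rintro ⟨a, ha, rfl⟩
      refine ⟨y * a * y⁻¹, hAn.conj_mem a ha y, ?_⟩
      simp only [commutatorElement_def]; group
    · rintro ⟨a, ha, h⟩
      refine ⟨y⁻¹ * a * y, ?_, ?_⟩
      · have := hAn.conj_mem a ha y⁻¹
        rwa [inv_inv] at this
      · have h2 : z = y⁻¹ * (y * z * y⁻¹) * y := by group
        rw [h2, ← h]
        simp only [commutatorElement_def]; group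

/-- if `Q = A⟨y⟩` with `A` abelian normal, every element of `Q'` is a commutator `⁅a, y⁆`. -/
theorem commutator_le_commRange (A : Subgroup K) [hAn : A.Normal]
    (hA : ∀ a ∈ A, ∀ b ∈ A, a * b = b * a) (y : K) (htop : A ⊔ Subgroup.zpowers y = ⊤) :
    commutator K ≤ commRange A hA y := by
  haveI := commRange_normal A hA y htop
  rw [← Subgroup.Normal.quotient_commutative_iff_commutator_le]
  set π := QuotientGroup.mk' (commRange A hA y) with hπ
  have hcomm := comm_of_sup_zpowers_eq_top (A.map π) (π y) ?_ ?_ ?_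
  · exact ⟨⟨hcomm⟩⟩
  · rintro _ ⟨a, ha, rfl⟩ _ ⟨b, hb, rfl⟩
    rw [← map_mul, ← map_mul, hA a ha b hb]
  · rintro _ ⟨a, ha, rfl⟩
    rw [← commutatorElement_eq_one_iff_mul_comm, ← map_commutatorElement,
      hπ, QuotientGroup.mk'_apply, QuotientGroup.eq_one_iff]
    exact ⟨a, ha, rfl⟩
  · rw [← MonoidHom.map_zpowers, ← Subgroup.map_sup, htop,
      Subgroup.map_top_of_surjective _ (QuotientGroup.mk'_surjective _)]

end comm

section index

variable {G : Type u} [Group G]

/-- **Index lemma.** If `H ⊴ G` and `G = H⟨x⟩`, then `|G'| ≤ |H'| · |G : C_G(x)|`. -/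
theorem card_commutator_le [Finite G] (H : Subgroup G) [hHn : H.Normal] (x : G)
    (htop : H ⊔ Subgroup.zpowers x = ⊤) :
    Nat.card (commutator G) ≤
      Nat.card (⁅H, H⁆ : Subgroup G) * (Subgroup.centralizer ({x} : Set G)).index := by
  set N : Subgroup G := ⁅H, H⁆ with hN
  haveI hNn : N.Normal := Subgroup.commutator_normal H H
  set π := QuotientGroup.mk' N with hπ
  set A : Subgroup (G ⧸ N) := H.map π with hAdef
  haveI hAn : A.Normal := hHn.map _ (QuotientGroup.mk'_surjective N)
  have hA : ∀ a ∈ A, ∀ b ∈ A, a * b = b * a := by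
    rintro _ ⟨a, ha, rfl⟩ _ ⟨b, hb, rfl⟩
    rw [← commutatorElement_eq_one_iff_mul_comm, ← map_commutatorElement, hπ,
      QuotientGroup.mk'_apply, QuotientGroup.eq_one_iff]
    exact Subgroup.commutator_mem_commutator ha hb
  have htop' : A ⊔ Subgroup.zpowers (π x) = ⊤ := by
    rw [← MonoidHom.map_zpowers, ← Subgroup.map_sup, htop,
      Subgroup.map_top_of_surjective _ (QuotientGroup.mk'_surjective _)]
  have hle := commutator_le_commRange A hA (π x) htop'
  have hNG : N ≤ commutator G := by
    rw [commutator_def]; exact Subgroup.commutator_mono le_top le_top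
  have hcard := Cfsg.Agent.Helper1.card_map_mk'_mul_card N (commutator G) hNG
  have hmap : (commutator G).map π = commutator (G ⧸ N) := by
    rw [map_commutator_eq, MonoidHom.range_eq_top.2 (QuotientGroup.mk'_surjective N),
      commutator_def]
  have hbound : Nat.card (commutator (G ⧸ N)) ≤ (Subgroup.centralizer ({x} : Set G)).index := by
    have hex : ∀ z : commutator (G ⧸ N), ∃ g : G, π ⁅g, x⁆ = z := by
      intro z
      obtain ⟨a, ⟨h, hh, rfl⟩, hz⟩ := hle z.2
      exact ⟨h, by rw [map_commutatorElement]; exact hz⟩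
    choose g hg using hex
    have hinj : Function.Injective (fun z : commutator (G ⧸ N) =>
        (QuotientGroup.mk (g z) : G ⧸ Subgroup.centralizer ({x} : Set G))) := by
      intro z z' h
      have h1 : (g z)⁻¹ * g z' ∈ Subgroup.centralizer ({x} : Set G) := QuotientGroup.eq.1 h
      rw [Subgroup.mem_centralizer_singleton_iff] at h1
      apply Subtype.ext
      rw [← hg z, ← hg z']
      congr 1
      set k := (g z)⁻¹ * g z' with hk
      have hz' : g z' = g z * k := by rw [hk]; group
      have hkx : k * x * k⁻¹ = x := by rw [h1, mul_inv_cancel_right]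
      rw [hz']
      calc ⁅g z, x⁆ = g z * (k * x * k⁻¹) * (g z)⁻¹ * x⁻¹ := by rw [hkx, commutatorElement_def]
        _ = ⁅g z * k, x⁆ := by simp only [commutatorElement_def]; group
    have := Nat.card_le_card_of_injective _ hinj
    rwa [← Subgroup.index_eq_card] at this
  calc Nat.card (commutator G) = Nat.card ((commutator G).map π) * Nat.card N := hcard.symm
    _ = Nat.card (commutator (G ⧸ N)) * Nat.card N := by rw [hmap]
    _ ≤ (Subgroup.centralizer ({x} : Set G)).index * Nat.card N :=
        Nat.mul_le_mul_right _ hbound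
    _ = Nat.card N * (Subgroup.centralizer ({x} : Set G)).index := mul_comm _ _

end index

section sub

variable {G : Type u} [Group G]

theorem centralizer_subtype (H : Subgroup G) (y : H) :
    Subgroup.centralizer ({y} : Set H) =
      (Subgroup.centralizer ({(y : G)} : Set G)).subgroupOf H := by
  ext z
  rw [Subgroup.mem_centralizer_singleton_iff, Subgroup.mem_subgroupOf,
    Subgroup.mem_centralizer_singleton_iff]
  constructor
  · intro h; exact congrArg Subtype.val h
  · intro h; exact Subtype.ext h

theorem index_centralizer_sub_le [Finite G] (H : Subgroup G) (y : H) :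
    (Subgroup.centralizer ({y} : Set H)).index ≤
      (Subgroup.centralizer ({(y : G)} : Set G)).index := by
  rw [centralizer_subtype]
  show (Subgroup.centralizer ({(y : G)} : Set G)).relIndex H ≤ _
  rw [← Subgroup.relIndex_top_right (Subgroup.centralizer ({(y : G)} : Set G))]
  refine Subgroup.relIndex_le_of_le_right le_top ?_
  rw [Subgroup.relIndex_top_right]
  exact Subgroup.index_ne_zero_of_finite

theorem index_centralizer_sub_mul (H : Subgroup G) (y : H)
    (hle : Subgroup.centralizer ({(y : G)} : Set G) ≤ H) :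
    (Subgroup.centralizer ({y} : Set H)).index * H.index =
      (Subgroup.centralizer ({(y : G)} : Set G)).index := by
  rw [centralizer_subtype]
  exact Subgroup.relIndex_mul_index hle

theorem eq_of_le_of_index_eq [Finite G] {H K : Subgroup G} (hle : H ≤ K)
    (h : H.index = K.index) : H = K := by
  have h1 := Subgroup.relIndex_mul_index hle
  have h2 : H.relIndex K = 1 := by
    have hK : 0 < K.index := Nat.pos_of_ne_zero Subgroup.index_ne_zero_of_finite
    rw [h] at h1
    have : H.relIndex K * K.index = 1 * K.index := by rw [h1, one_mul]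
    exact Nat.eq_of_mul_eq_mul_right hK this
  exact le_antisymm hle (Subgroup.relIndex_eq_one.1 h2)

theorem sup_eq_top_of_index_prime [Finite G] {p : ℕ} (hp : p.Prime) {H K : Subgroup G}
    (hH : H.index = p) (hK : ¬ K ≤ H) : H ⊔ K = ⊤ := by
  have h1 : (H ⊔ K).index ∣ p := hH ▸ Subgroup.index_dvd_of_le (le_sup_left : H ≤ H ⊔ K)
  rcases (Nat.dvd_prime hp).1 h1 with h | h
  · exact Subgroup.index_eq_one.1 h
  · exfalso
    apply hK
    have := eq_of_le_of_index_eq (le_sup_left : H ≤ H ⊔ K) (by rw [hH, h])
    rw [this]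
    exact le_sup_right

theorem card_commutator_subtype (H : Subgroup G) :
    Nat.card (commutator H) = Nat.card (⁅H, H⁆ : Subgroup G) := by
  rw [← Subgroup.map_subtype_commutator]
  exact (Subgroup.card_map_of_injective H.subtype_injective).symm

end sub

end Cfsg.Agent.Helper1.VL
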