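import Mathlib
import Cfsg.Agent.Helper1.VLCW

set_option autoImplicit false

/-!
Abstract "Λ-lemma" for the Vaughan-Lee breadth theorem.  For an alternating bilinear map `Ψ` on a
finite dimensional `ZMod p`-space `X` and a subspace `W` of the target, call `l` *good* if
`Ψ l μ ∈ W` only for `μ ∈ span {l}`.  If `l₀` is good and `X` is not spanned by `l₀`, then there is
a good `l` outside `span {l₀}`.
-/

namespace Cfsg.Agent.Helper1.VL

variable {p : ℕ} [hp : Fact p.Prime]

theorem lambda_lemma {X A : Type*} [AddCommGroup X] [Module (ZMod p) X] [Module.Finite (ZMod p) X]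
    [AddCommGroup A] [Module (ZMod p) A]
    (Ψ : X →ₗ[ZMod p] X →ₗ[ZMod p] A) (hΨ : ∀ x, Ψ x x = 0) (W : Submodule (ZMod p) A)
    (l₀ : X) (hl₀ : ∀ μ, Ψ l₀ μ ∈ W → μ ∈ Submodule.span (ZMod p) {l₀})
    (hdim : ∃ ν : X, ν ∉ Submodule.span (ZMod p) {l₀}) :
    ∃ l : X, l ∉ Submodule.span (ZMod p) {l₀} ∧
      ∀ μ, Ψ l μ ∈ W → μ ∈ Submodule.span (ZMod p) {l} := by
  classical
  set S : Submodule (ZMod p) X := Submodule.span (ZMod p) {l₀} with hS
  obtain ⟨Y, hY⟩ := Submodule.exists_isCompl S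
  have hdisj : ∀ x, x ∈ S → x ∈ Y → x = 0 := by
    intro x hxS hxY
    have : x ∈ S ⊓ Y := ⟨hxS, hxY⟩
    rw [hY.inf_eq_bot] at this
    exact (Submodule.mem_bot _).1 this
  have hdecomp : ∀ x : X, ∃ a : ZMod p, ∃ y ∈ Y, x = a • l₀ + y := by
    intro x
    have hx : x ∈ S ⊔ Y := by rw [hY.sup_eq_top]; exact Submodule.mem_top
    obtain ⟨s, hs, y, hy, rfl⟩ := Submodule.mem_sup.1 hx
    obtain ⟨a, rfl⟩ := Submodule.mem_span_singleton.1 hs
    exact ⟨a, y, hy, rfl⟩
  set q := W.mkQ with hq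
  -- injectivity of `Ψ l₀` on `Y` modulo `W`
  set f₀ : Y →ₗ[ZMod p] (A ⧸ W) := (q ∘ₗ Ψ l₀) ∘ₗ Y.subtype with hf₀
  have hf₀inj : LinearMap.ker f₀ = ⊥ := by
    rw [LinearMap.ker_eq_bot']
    intro y hy
    have h1 : Ψ l₀ (y : X) ∈ W := by
      have : q (Ψ l₀ (y : X)) = 0 := hy
      rwa [hq, Submodule.mkQ_apply, Submodule.Quotient.mk_eq_zero] at this
    have h2 := hdisj _ (hl₀ _ h1) y.2
    exact Subtype.ext h2
  obtain ⟨g, hg⟩ := f₀.exists_leftInverse_of_injective hf₀inj
  -- the linear family of endomorphisms of `Y`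
  let T : X →ₗ[ZMod p] (Y →ₗ[ZMod p] Y) :=
    { toFun := fun l => g ∘ₗ (q ∘ₗ Ψ l) ∘ₗ Y.subtype
      map_add' := by
        intro l l'
        ext y
        simp
      map_smul' := by
        intro c l
        ext y
        simp }
  have hT : ∀ l (y : Y), T l y = g (q (Ψ l (y : X))) := fun l y => rfl
  have hT0 : T l₀ = LinearMap.id := by
    ext y
    rw [hT]
    have := LinearMap.congr_fun hg y
    simp only [LinearMap.comp_apply, LinearMap.id_apply] at this
    rw [LinearMap.id_apply]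
    exact congrArg Subtype.val this
  -- a basis of `Y`
  set b := Module.finBasis (ZMod p) Y with hb
  have hYne : 0 < Module.finrank (ZMod p) Y := by
    obtain ⟨ν, hν⟩ := hdim
    obtain ⟨a, y, hy, rfl⟩ := hdecomp ν
    have hy0 : y ≠ 0 := by
      rintro rfl
      apply hν
      rw [add_zero]
      exact Submodule.smul_mem _ _ (Submodule.mem_span_singleton_self _)
    rw [Module.finrank_pos_iff_exists_ne_zero]
    exact ⟨⟨y, hy⟩, fun h => hy0 (congrArg Subtype.val h)⟩
  haveI : Nonempty (Fin (Module.finrank (ZMod p) Y)) := ⟨⟨0, hYne⟩⟩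
  let e : Option (Fin (Module.finrank (ZMod p) Y)) → X := fun i => Option.elim i l₀ (fun j => (b j : X))
  let B : Option (Fin (Module.finrank (ZMod p) Y)) → Matrix (Fin (Module.finrank (ZMod p) Y))
      (Fin (Module.finrank (ZMod p) Y)) (ZMod p) := fun i => LinearMap.toMatrix b b (T (e i))
  have hB0 : B none = 1 := by
    show LinearMap.toMatrix b b (T l₀) = 1
    rw [hT0, LinearMap.toMatrix_id]
  have hcard : Fintype.card (Fin (Module.finrank (ZMod p) Y)) <
      Fintype.card (Option (Fin (Module.finrank (ZMod p) Y))) := by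
    rw [Fintype.card_option]; omega
  obtain ⟨v, ⟨i, hi, hvi⟩, hdet⟩ := cw_core hcard none B hB0
  set l : X := ∑ i, v i • e i with hl
  have hBl : ∑ i, v i • B i = LinearMap.toMatrix b b (T l) := by
    rw [hl, map_sum, map_sum]
    refine Finset.sum_congr rfl fun i _ => ?_
    rw [map_smul, map_smul]
  rw [hBl, LinearMap.det_toMatrix] at hdet
  have hinj : LinearMap.ker (T l) = ⊥ := by
    by_contra h
    exact hdet (LinearMap.det_eq_zero_iff_ker_ne_bot.2 h)
  have hinj' : ∀ y ∈ Y, Ψ l y ∈ W → y = 0 := by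
    intro y hy hW
    have h1 : T l ⟨y, hy⟩ = 0 := by
      rw [hT]
      have : q (Ψ l y) = 0 := by
        rw [hq, Submodule.mkQ_apply, Submodule.Quotient.mk_eq_zero]; exact hW
      show g (q (Ψ l y)) = 0
      rw [this, map_zero]
    have h2 : (⟨y, hy⟩ : Y) ∈ LinearMap.ker (T l) := h1
    rw [hinj, Submodule.mem_bot] at h2
    exact congrArg Subtype.val h2
  -- `l = v none • l₀ + y₁`
  set y₁ : Y := ∑ j, v (some j) • b j with hy₁
  have hl' : l = v none • l₀ + (y₁ : X) := by
    rw [hl, Fintype.sum_option, hy₁]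
    simp only [e, Option.elim]
    congr 1
    rw [Submodule.coe_sum]
    rfl
  have hlS : l ∉ S := by
    intro hlS
    have h1 : (y₁ : X) ∈ S := by
      have : (y₁ : X) = l - v none • l₀ := by rw [hl']; abel
      rw [this]
      exact Submodule.sub_mem _ hlS (Submodule.smul_mem _ _ (Submodule.mem_span_singleton_self _))
    have h2 : y₁ = 0 := Subtype.ext (hdisj _ h1 y₁.2)
    have h3 := Fintype.linearIndependent_iff.1 b.linearIndependent (fun j => v (some j)) h2
    cases i with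
    | none => exact hi rfl
    | some j => exact hvi (h3 j)
  refine ⟨l, hlS, ?_⟩
  have hlY : l ∉ Y := by
    intro hlY
    have h1 := hinj' l hlY (by rw [hΨ]; exact W.zero_mem)
    apply hlS
    rw [h1]; exact S.zero_mem
  have ha0 : v none ≠ 0 := by
    intro h0
    apply hlY
    rw [hl', h0, zero_smul, zero_add]
    exact y₁.2
  intro μ hμ
  obtain ⟨c, y, hy, rfl⟩ := hdecomp μ
  set t := c * (v none)⁻¹ with ht
  have hl₀eq : l₀ = (v none)⁻¹ • (l - (y₁ : X)) := by
    rw [hl', add_sub_cancel_right, smul_smul, inv_mul_cancel₀ ha0, one_smul]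
  have hμeq : c • l₀ + y = t • l + (y - t • (y₁ : X)) := by
    rw [hl₀eq, smul_smul, ← ht, smul_sub]; abel
  have hyY : y - t • (y₁ : X) ∈ Y := Submodule.sub_mem _ hy (Submodule.smul_mem _ _ y₁.2)
  have h1 : Ψ l (y - t • (y₁ : X)) ∈ W := by
    have : Ψ l (c • l₀ + y) = Ψ l (y - t • (y₁ : X)) := by
      rw [hμeq, map_add, map_smul, hΨ, smul_zero, zero_add]
    rw [← this]; exact hμ
  have h2 := hinj' _ hyY h1
  rw [hμeq, h2, add_zero]
  exact Submodule.smul_mem _ _ (Submodule.mem_span_singleton_self _)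

end Cfsg.Agent.Helper1.VL
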