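import Mathlib
import Cfsg.Agent.Helper1.VLLambda
import Cfsg.Agent.Helper1.VLForm
import Cfsg.Agent.Helper1.VLIndex

set_option autoImplicit false

/-!
Vaughan-Lee's breadth theorem: a finite `p`-group all of whose conjugacy classes have at most
`p ^ b` elements has `|G'| ≤ p ^ (b (b + 1) / 2)`.

The proof is by induction on `|G|` of the following statement `Θ(c)`: if `M` is a subgroup of index
`p` and all `x ∉ M` have `|G : C_G(x)| ≤ p ^ c`, then `|G'| ≤ p ^ (c (c + 1) / 2)`.
* If `M' < G'`, a commutator form gives a maximal subgroup `H ≠ M` with `C_G(y) ≤ H` for all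
  `y ∈ H \ M`, so that `(H, H ∩ M)` satisfies `Θ(c - 1)`; the index lemma finishes.
* If `M' = G'`, the Λ-lemma (Chevalley–Warning) gives a maximal subgroup `H ≠ M` with `H' = G'`,
  and `(H, H ∩ M)` satisfies `Θ(c)`.
-/

namespace Cfsg.Agent.Helper1.VL

open scoped commutatorElement

universe u

variable {p : ℕ} [hp : Fact p.Prime]

section prelim

variable {G : Type u} [Group G]

/-- A proper subgroup of a finite `p`-group lies in a normal subgroup of index `p`. -/
theorem exists_normal_index_p_of_ne_top [Finite G] (hP : IsPGroup p G) {H : Subgroup G}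
    (hH : H ≠ ⊤) : ∃ U₁ : Subgroup G, H ≤ U₁ ∧ U₁.Normal ∧ U₁.index = p := by
  obtain ⟨a, ha⟩ := IsPGroup.iff_card.mp hP
  obtain ⟨n, hn⟩ := IsPGroup.iff_card.mp (hP.to_subgroup H)
  have hlt : Nat.card H < Nat.card G :=
    lt_of_le_of_ne (Subgroup.card_le_card_group H)
      (fun h => hH ((Subgroup.card_eq_iff_eq_top H).mp h))
  rw [ha, hn] at hlt
  have hna : n < a := (Nat.pow_lt_pow_iff_right hp.out.one_lt).mp hlt
  have hdvd : p ^ (a - 1) ∣ Nat.card G := by
    rw [ha]; exact pow_dvd_pow p (Nat.sub_le a 1)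
  obtain ⟨K, hK, hHK⟩ := Sylow.exists_subgroup_card_pow_prime_le p hdvd H hn (by omega)
  have hidx : K.index = p := by
    have h1 := Subgroup.card_mul_index K
    rw [hK, ha] at h1
    have h2 : p ^ a = p ^ (a - 1) * p := by
      rw [← pow_succ]; congr 1; omega
    rw [h2] at h1
    exact Nat.eq_of_mul_eq_mul_left (pow_pos hp.out.pos _) h1
  refine ⟨K, hHK, ?_, hidx⟩
  apply Subgroup.normal_of_index_eq_minFac_card
  rw [hidx, ha, Nat.Prime.pow_minFac hp.out (by omega)]

theorem normal_of_index_p [Finite G] (hG : IsPGroup p G) {M : Subgroup G} (hM : M.index = p) :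
    M.Normal := by
  obtain ⟨a, ha⟩ := IsPGroup.iff_card.mp hG
  apply Subgroup.normal_of_index_eq_minFac_card
  have ha0 : a ≠ 0 := by
    rintro rfl
    have h1 := M.index_dvd_card
    rw [ha, pow_zero, hM] at h1
    exact hp.out.one_lt.ne' (Nat.dvd_one.1 h1)
  rw [hM, ha, Nat.Prime.pow_minFac hp.out ha0]

/-- a subgroup of index `p` is the kernel of a character taking the value `1` -/
theorem exists_char_data (M : Subgroup G) [M.Normal] (hM : M.index = p) :
    ∃ (l : charSpace G p) (g₀ : G), l.1 g₀ = 1 ∧ charKer l.2 = M := by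
  obtain ⟨f, hf, hker⟩ := exists_char_of_index M hM
  have hMtop : M ≠ ⊤ := by
    rintro rfl
    rw [Subgroup.index_top] at hM
    exact hp.out.one_lt.ne hM
  obtain ⟨x₀, hx₀⟩ : ∃ x₀, x₀ ∉ M := by
    by_contra h
    push Not at h
    exact hMtop (eq_top_iff.2 fun x _ => h x)
  have hfx : f x₀ ≠ 0 := fun h => hx₀ ((hker x₀).1 h)
  obtain ⟨g₀, hg₀⟩ := char_surj hf hfx 1
  refine ⟨⟨f, hf⟩, g₀, hg₀, ?_⟩
  ext g
  rw [mem_charKer, hker]

/-- a nonzero character takes the value `1` and its kernel has index `p` -/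
theorem char_ker_data (l : charSpace G p) (hl : l ≠ 0) :
    ∃ g₀ : G, l.1 g₀ = 1 ∧ (charKer l.2).index = p := by
  obtain ⟨g, hg⟩ : ∃ g, l.1 g ≠ 0 := by
    by_contra h
    push Not at h
    apply hl
    apply Subtype.ext
    funext g
    exact h g
  obtain ⟨g₀, hg₀⟩ := char_surj l.2 hg 1
  exact ⟨g₀, hg₀, index_charKer l.2 hg⟩

theorem mem_span_of_ker_le (l l' : charSpace G p) {g₀ : G} (h1 : l.1 g₀ = 1)
    (hle : charKer l.2 ≤ charKer l'.2) : l' ∈ Submodule.span (ZMod p) {l} := by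
  have h := char_eq_smul_of_ker_le l.2 l'.2 h1
    (fun g hg => (mem_charKer l'.2).1 (hle ((mem_charKer l.2).2 hg)))
  rw [Submodule.mem_span_singleton]
  exact ⟨l'.1 g₀, Subtype.ext h.symm⟩

/-- **Case B**: if `M' = G'`, there is another maximal subgroup `H` with `H' = G'`. -/
theorem exists_commutator_eq [Finite G] (hG : IsPGroup p G) (M H₂ : Subgroup G) [M.Normal]
    [H₂.Normal] (hM : M.index = p) (hH₂ : H₂.index = p) (hne : H₂ ≠ M)
    (hB : ⁅M, M⁆ = commutator G) :
    ∃ H : Subgroup G, H.Normal ∧ H.index = p ∧ H ≠ M ∧ ⁅H, H⁆ = commutator G := by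
  obtain ⟨l₀, g₀, h1, hker₀⟩ := exists_char_data M hM
  obtain ⟨ν, g₂, h2, hker₂⟩ := exists_char_data H₂ hH₂
  have hgood₀ : ∀ μ, wedge l₀ μ ∈ omegaSpace G p → μ ∈ Submodule.span (ZMod p) {l₀} :=
    mem_span_of_wedge_mem l₀ h1 (by rw [hker₀]; exact hB)
  have hdim : ∃ ν : charSpace G p, ν ∉ Submodule.span (ZMod p) {l₀} := by
    refine ⟨ν, fun hν => ?_⟩
    obtain ⟨c, hc⟩ := Submodule.mem_span_singleton.1 hν
    have hle : M ≤ H₂ := by
      intro g hg
      rw [← hker₂, mem_charKer]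
      have h3 : ν.1 g = c * l₀.1 g := (congrArg (fun f : charSpace G p => f.1 g) hc).symm
      have h4 : l₀.1 g = 0 := (mem_charKer l₀.2).1 (by rw [hker₀]; exact hg)
      rw [h3, h4, mul_zero]
    exact hne (eq_of_le_of_index_eq hle (by rw [hM, hH₂])).symm
  have hws : ∀ x : charSpace G p, wedge x x = 0 := wedge_self
  obtain ⟨l, hl, hgood⟩ := lambda_lemma wedge hws (omegaSpace G p) l₀ hgood₀ hdim
  have hl0 : l ≠ 0 := by
    rintro rfl
    exact hl (Submodule.zero_mem _)
  obtain ⟨g₁, hg₁, hidx⟩ := char_ker_data l hl0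
  refine ⟨charKer l.2, inferInstance, hidx, ?_, ?_⟩
  · intro hEq
    exact hl (mem_span_of_ker_le l₀ l h1 (by rw [hker₀, hEq]))
  · by_contra hne'
    obtain ⟨μ, hμ, hw⟩ := exists_wedge_mem hG l hg₁ hne'
    exact hμ (hgood μ hw)

/-- **Case A**: if `M' ≠ G'`, there is another maximal subgroup `H` containing the centralizers
of all its elements outside `M`. -/
theorem exists_centralizer_le [Finite G] (hG : IsPGroup p G) (M : Subgroup G) [M.Normal]
    (hM : M.index = p) (hA : ⁅M, M⁆ ≠ commutator G) :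
    ∃ H : Subgroup G, H.Normal ∧ H.index = p ∧ H ≠ M ∧
      ∀ y ∈ H, y ∉ M → Subgroup.centralizer ({y} : Set G) ≤ H := by
  obtain ⟨l₀, g₀, h1, hker₀⟩ := exists_char_data M hM
  obtain ⟨μ, hμ, hw⟩ := exists_wedge_mem hG l₀ h1 (by rw [hker₀]; exact hA)
  have hμ0 : μ ≠ 0 := by
    rintro rfl
    exact hμ (Submodule.zero_mem _)
  obtain ⟨g₁, hg₁, hidx⟩ := char_ker_data μ hμ0
  refine ⟨charKer μ.2, inferInstance, hidx, ?_, ?_⟩
  · intro hEq
    exact hμ (mem_span_of_ker_le l₀ μ h1 (by rw [hker₀, hEq]))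
  · intro y hy hyM g hg
    rw [Subgroup.mem_centralizer_singleton_iff] at hg
    have h0 := omega_comm_eq_zero hw (x := y) (y := g) hg.symm
    rw [wedge_apply, (mem_charKer μ.2).1 hy, mul_zero, sub_zero] at h0
    have hy0 : l₀.1 y ≠ 0 := fun h => hyM (by rw [← hker₀]; exact (mem_charKer l₀.2).2 h)
    exact (mem_charKer μ.2).2 ((mul_eq_zero.1 h0).resolve_left hy0)

end prelim

/-- The inductive statement `Θ(c)`. -/
theorem theta (p : ℕ) [hp : Fact p.Prime] :
    ∀ (n : ℕ) (G : Type u) [Group G] [Finite G], Nat.card G = n → IsPGroup p G →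
      ∀ (M : Subgroup G) (c : ℕ), M.index = p →
        (∀ x : G, x ∉ M → (Subgroup.centralizer ({x} : Set G)).index ≤ p ^ c) →
        Nat.card (commutator G) ≤ p ^ (c * (c + 1) / 2) := by
  intro n
  induction n using Nat.strong_induction_on with
  | _ n ih =>
  intro G _ _ hcard hG M c hM hbr
  haveI hMn : M.Normal := normal_of_index_p hG hM
  by_cases hG' : commutator G = ⊥
  · rw [hG', Subgroup.card_bot]
    exact Nat.one_le_pow _ _ hp.out.pos
  have hMtop : M ≠ ⊤ := by
    rintro rfl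
    rw [Subgroup.index_top] at hM
    exact hp.out.one_lt.ne hM
  obtain ⟨x₀, hx₀⟩ : ∃ x₀, x₀ ∉ M := by
    by_contra h
    push Not at h
    exact hMtop (eq_top_iff.2 fun x _ => h x)
  have hz : Subgroup.zpowers x₀ ≠ ⊤ := by
    intro h
    apply hG'
    rw [commutator_eq_bot_iff]
    refine ⟨⟨fun s t => ?_⟩⟩
    refine comm_of_sup_zpowers_eq_top ⊥ x₀ ?_ ?_ (by rw [bot_sup_eq, h]) s t
    · intro a ha b hb
      rw [Subgroup.mem_bot] at ha hb
      rw [ha, hb]
    · intro a ha
      rw [Subgroup.mem_bot] at ha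
      rw [ha, one_mul, mul_one]
  obtain ⟨H₂, hxH₂, hH₂n, hH₂idx⟩ := exists_normal_index_p_of_ne_top hG hz
  have hH₂M : H₂ ≠ M := by
    rintro rfl
    exact hx₀ (hxH₂ (Subgroup.mem_zpowers x₀))
  -- the induction step for a maximal subgroup `H ≠ M`
  have step : ∀ (H : Subgroup G) (c' : ℕ), H.index = p → H ≠ M →
      (∀ y : H, (y : G) ∉ M → (Subgroup.centralizer ({y} : Set H)).index ≤ p ^ c') →
      Nat.card (⁅H, H⁆ : Subgroup G) ≤ p ^ (c' * (c' + 1) / 2) := by
    intro H c' hHidx hHM hbrH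
    have hlt : Nat.card H < n := by
      have h1 := Subgroup.card_mul_index H
      rw [hHidx, hcard] at h1
      have h2 : 0 < Nat.card H := Nat.card_pos
      have h3 := hp.out.two_le
      nlinarith
    have hMH : ¬ H ≤ M := fun hle => hHM (eq_of_le_of_index_eq hle (by rw [hHidx, hM]))
    have hsup : M ⊔ H = ⊤ := sup_eq_top_of_index_prime hp.out hM hMH
    have hidx' : (M.subgroupOf H).index = p := by
      show M.relIndex H = p
      rw [← Subgroup.relIndex_sup_left, hsup, Subgroup.relIndex_top_right, hM]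
    have := ih (Nat.card H) hlt H rfl (hG.to_subgroup H) (M.subgroupOf H) c' hidx'
      (fun y hy => hbrH y (by rwa [Subgroup.mem_subgroupOf] at hy))
    rwa [card_commutator_subtype] at this
  by_cases hB : ⁅M, M⁆ = commutator G
  · -- Case B
    obtain ⟨H, hHn, hHidx, hHM, hHeq⟩ := exists_commutator_eq hG M H₂ hM hH₂idx hH₂M hB
    rw [← hHeq]
    exact step H c hHidx hHM (fun y hy => (index_centralizer_sub_le H y).trans (hbr y hy))
  · -- Case A
    obtain ⟨H, hHn, hHidx, hHM, hcent⟩ := exists_centralizer_le hG M hM hB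
    have hMH : ¬ H ≤ M := fun hle => hHM (eq_of_le_of_index_eq hle (by rw [hHidx, hM]))
    obtain ⟨a, haH, haM⟩ := SetLike.not_le_iff_exists.1 hMH
    have hHMle : ¬ M ≤ H := fun hle => hHM (eq_of_le_of_index_eq hle (by rw [hHidx, hM])).symm
    obtain ⟨b, hbM, hbH⟩ := SetLike.not_le_iff_exists.1 hHMle
    have hc1 : 1 ≤ c := by
      by_contra hc0
      have hc00 : c = 0 := by omega
      subst hc00
      have h1 := hbr a haM
      have h2 := index_centralizer_sub_mul H ⟨a, haH⟩ (hcent a haH haM)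
      rw [hHidx] at h2
      have h3 : 0 < (Subgroup.centralizer ({(⟨a, haH⟩ : H)} : Set H)).index :=
        Nat.pos_of_ne_zero Subgroup.index_ne_zero_of_finite
      have h4 := hp.out.two_le
      rw [pow_zero] at h1
      have h5 : (Subgroup.centralizer ({(⟨a, haH⟩ : H)} : Set H)).index * p ≤ 1 := by
        rw [h2]; exact h1
      nlinarith
    obtain ⟨k, rfl⟩ : ∃ k, c = k + 1 := ⟨c - 1, by omega⟩
    have hH' : Nat.card (⁅H, H⁆ : Subgroup G) ≤ p ^ (k * (k + 1) / 2) := by
      refine step H k hHidx hHM (fun y hy => ?_)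
      have h2 := index_centralizer_sub_mul H y (hcent y y.2 hy)
      rw [hHidx] at h2
      have h3 := hbr y hy
      rw [← h2, pow_succ] at h3
      exact Nat.le_of_mul_le_mul_right h3 hp.out.pos
    have hxH : a * b ∉ H := fun h => hbH (by
      have := H.mul_mem (H.inv_mem haH) h
      rwa [inv_mul_cancel_left] at this)
    have hxM : a * b ∉ M := fun h => haM (by
      have := M.mul_mem h (M.inv_mem hbM)
      rwa [mul_inv_cancel_right] at this)
    have htop : H ⊔ Subgroup.zpowers (a * b) = ⊤ :=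
      sup_eq_top_of_index_prime hp.out hHidx (fun hle => hxH (hle (Subgroup.mem_zpowers _)))
    have h4 := card_commutator_le H (a * b) htop
    have harith : k * (k + 1) / 2 + (k + 1) = (k + 1) * (k + 1 + 1) / 2 := by
      have : (k + 1) * (k + 1 + 1) = k * (k + 1) + (k + 1) * 2 := by ring
      rw [this, Nat.add_mul_div_right _ _ (by norm_num : 0 < 2)]
    calc Nat.card (commutator G)
        ≤ Nat.card (⁅H, H⁆ : Subgroup G) * (Subgroup.centralizer ({a * b} : Set G)).index := h4
      _ ≤ p ^ (k * (k + 1) / 2) * p ^ (k + 1) := Nat.mul_le_mul hH' (hbr _ hxM)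
      _ = p ^ ((k + 1) * (k + 1 + 1) / 2) := by rw [← pow_add, harith]

/-- **Vaughan-Lee's theorem.** -/
theorem vaughan_lee {G : Type u} [Group G] [Finite G] (hG : IsPGroup p G) (b : ℕ)
    (hb : ∀ x : G, (Subgroup.centralizer ({x} : Set G)).index ≤ p ^ b) :
    Nat.card (commutator G) ≤ p ^ (b * (b + 1) / 2) := by
  by_cases hG' : commutator G = ⊥
  · rw [hG', Subgroup.card_bot]
    exact Nat.one_le_pow _ _ hp.out.pos
  have hne : (⊥ : Subgroup G) ≠ ⊤ := by
    intro h
    apply hG'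
    exact le_bot_iff.1 (h ▸ le_top)
  obtain ⟨M, -, hMn, hMidx⟩ := exists_normal_index_p_of_ne_top hG hne
  exact theta p _ G rfl hG M b hMidx (fun x _ => hb x)

end Cfsg.Agent.Helper1.VL
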