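import Mathlib
import Cfsg.Prelude.Def_PLocal
import Cfsg.Agent.Helper1.StableNormalClosure
import Cfsg.Agent.Helper1.Quadratic
import Cfsg.Agent.Helper1.Quadratic2
import Cfsg.Agent.Helper1.ThompsonFactorQuot
import Cfsg.Agent.Lead.ZJ

set_option autoImplicit false

/-!
Stellmacher's characteristic subgroup `W(S)` (the stable normal closure of `Ω₁(Z(S))`):
no element of `S` acts quadratically and nontrivially on `W(S)`.
-/

namespace Cfsg.Agent.Helper1.WStable

open scoped Pointwise commutatorElement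

open Cfsg.Agent.Helper1

section quad

variable {G : Type*} [Group G]

/-- elementwise quadratic action of `a` on `V` -/
def QuadOn (V : Subgroup G) (a : G) : Prop := ∀ v ∈ V, ⁅⁅v, a⁆, a⁆ = 1

theorem quadOn_of_commutator {V : Subgroup G} {a : G}
    (h : ⁅⁅V, Subgroup.zpowers a⁆, Subgroup.zpowers a⁆ = ⊥) : QuadOn V a := by
  intro v hv
  have h1 : ⁅⁅v, a⁆, a⁆ ∈ ⁅⁅V, Subgroup.zpowers a⁆, Subgroup.zpowers a⁆ :=
    Subgroup.commutator_mem_commutator
      (Subgroup.commutator_mem_commutator hv (Subgroup.mem_zpowers a)) (Subgroup.mem_zpowers a)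
  rw [h, Subgroup.mem_bot] at h1
  exact h1

/-- `⁅a ^ n, v⁆ = ⁅a, v⁆ ^ n` when `⁅a, v⁆` commutes with `a` -/
theorem commutator_pow_left {a v : G} (hca : Commute ⁅a, v⁆ a) (n : ℕ) :
    ⁅a ^ n, v⁆ = ⁅a, v⁆ ^ n := by
  have h := conj_pow_of_commute hca n
  rw [commutatorElement_def, h]
  group

theorem commute_of_quadOn {V : Subgroup G} [hV : V.Normal] {a : G} (h : QuadOn V a) {v : G}
    (hv : v ∈ V) : Commute ⁅a, v⁆ a := by
  have h1 := h v hv
  have h2 : Commute ⁅v, a⁆ a := by
    rw [commutatorElement_eq_one_iff_commute] at h1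
    exact h1
  have h3 : ⁅a, v⁆ = ⁅v, a⁆⁻¹ := (commutatorElement_inv v a).symm
  rw [h3]
  exact h2.inv_left

theorem commutator_of_quadOn {V : Subgroup G} [hV : V.Normal] {a : G} (h : QuadOn V a) :
    ⁅⁅V, Subgroup.zpowers a⁆, Subgroup.zpowers a⁆ = ⊥ := by
  rw [Subgroup.commutator_eq_bot_iff_le_centralizer, Subgroup.commutator_le]
  intro v hv w hw
  rw [mem_centralizer_zpowers_iff]
  obtain ⟨k, rfl⟩ := Subgroup.mem_zpowers_iff.1 hw
  -- it suffices that `⁅a ^ k, v⁆` commutes with `a`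
  have key : Commute ⁅a ^ k, v⁆ a := by
    obtain ⟨n, rfl | rfl⟩ := Int.eq_nat_or_neg k
    · rw [zpow_natCast, commutator_pow_left (commute_of_quadOn h hv)]
      exact (commute_of_quadOn h hv).pow_left n
    · rw [zpow_neg, zpow_natCast]
      -- `v' = a⁻ⁿ v aⁿ`
      have hv' : (a ^ n)⁻¹ * v * (a ^ n) ∈ V := by
        have := hV.conj_mem v hv (a ^ n)⁻¹
        rwa [inv_inv] at this
      have hc := commute_of_quadOn h hv'
      have e2 := conj_pow_of_commute hc n
      have e3 : ⁅(a ^ n)⁻¹, v⁆ = (⁅a, (a ^ n)⁻¹ * v * (a ^ n)⁆ ^ n)⁻¹ := by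
        calc ⁅(a ^ n)⁻¹, v⁆ = ((a ^ n)⁻¹ * v * (a ^ n)) *
              (a ^ n * ((a ^ n)⁻¹ * v * (a ^ n)) * (a ^ n)⁻¹)⁻¹ := by
              rw [commutatorElement_def]; group
          _ = ((a ^ n)⁻¹ * v * (a ^ n)) *
              (⁅a, (a ^ n)⁻¹ * v * (a ^ n)⁆ ^ n * ((a ^ n)⁻¹ * v * (a ^ n)))⁻¹ := by rw [e2]
          _ = (⁅a, (a ^ n)⁻¹ * v * (a ^ n)⁆ ^ n)⁻¹ := by group
      rw [e3]
      exact (hc.pow_left n).inv_left
  have e : ⁅v, a ^ k⁆ = ⁅a ^ k, v⁆⁻¹ := (commutatorElement_inv (a ^ k) v).symm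
  rw [e]
  exact (key.inv_left).eq.symm

theorem quadOn_congr {V : Subgroup G} [hV : V.Normal] {t y : G}
    (h : ∀ v ∈ V, t * v * t⁻¹ = y * v * y⁻¹) (hy : QuadOn V y) : QuadOn V t := by
  have key : ∀ v ∈ V, ⁅v, t⁆ = ⁅v, y⁆ := by
    intro v hv
    have := h v⁻¹ (V.inv_mem hv)
    calc ⁅v, t⁆ = v * (t * v⁻¹ * t⁻¹) := by rw [commutatorElement_def]; group
      _ = v * (y * v⁻¹ * y⁻¹) := by rw [this]
      _ = ⁅v, y⁆ := by rw [commutatorElement_def]; group
  intro v hv
  have hw : ⁅v, y⁆ ∈ V := by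
    rw [commutatorElement_def]
    have h1 : y * v⁻¹ * y⁻¹ ∈ V := hV.conj_mem _ (V.inv_mem hv) y
    have : v * y * v⁻¹ * y⁻¹ = v * (y * v⁻¹ * y⁻¹) := by group
    rw [this]
    exact V.mul_mem hv h1
  rw [key v hv, key _ hw]
  exact hy v hv

theorem quadOn_conj {V : Subgroup G} [hV : V.Normal] {a : G} (h : QuadOn V a) (g : G) :
    QuadOn V (g⁻¹ * a * g) := by
  intro v hv
  have hv' : g * v * g⁻¹ ∈ V := hV.conj_mem v hv g
  have h1 := h _ hv'
  have h2 := congrArg (MulAut.conj g⁻¹) h1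
  rw [map_one, map_commutatorElement, map_commutatorElement] at h2
  have e1 : (MulAut.conj g⁻¹) (g * v * g⁻¹) = v := by
    rw [MulAut.conj_apply]; group
  have e2 : (MulAut.conj g⁻¹) a = g⁻¹ * a * g := by
    rw [MulAut.conj_apply, inv_inv]
  rw [e1, e2] at h2
  exact h2

theorem commutator_zpowers_eq_bot_iff {U : Subgroup G} {s : G} :
    ⁅U, Subgroup.zpowers s⁆ = ⊥ ↔ ∀ u ∈ U, s * u = u * s := by
  rw [Subgroup.commutator_eq_bot_iff_le_centralizer]
  constructor
  · intro h u hu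
    exact mem_centralizer_zpowers_iff.1 (h hu)
  · intro h u hu
    exact mem_centralizer_zpowers_iff.2 (h u hu)

end quad

universe u

section fam

variable {S : Type u} [Group S]

/-- the family defining the stable normal closure -/
def fam (p : ℕ) (S : Type u) [Group S] : Set (Subgroup S) :=
  {W | Cfsg.omegaOne p (Subgroup.center S) ≤ W ∧
    ∀ (H : Type u) [Group H] (τ : S →* H), Cfsg.IsStableEmbedding p τ → (W.map τ).Normal}

theorem stableNormalClosure_eq (p : ℕ) : Cfsg.stableNormalClosure p S = sInf (fam p S) := rfl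

theorem omegaCenterThompson_mem_fam [Finite S] (p : ℕ) : Cfsg.omegaCenterThompson p S ∈ fam p S :=
  ⟨omegaOne_center_le_omegaCenterThompson p,
    fun _ _ τ hτ => omegaCenterThompson_map_normal p τ hτ⟩

theorem stableNormalClosure_mem_fam [Finite S] (p : ℕ) :
    Cfsg.stableNormalClosure p S ∈ fam p S := by
  refine ⟨omegaOne_center_le_stableNormalClosure p, ?_⟩
  intro H _ τ hτ
  have hinj : Function.Injective τ := hτ.1
  constructor
  rintro _ ⟨w, hw, rfl⟩ h
  have hΩ := omegaCenterThompson_mem_fam (S := S) p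
  have hw0 : w ∈ Cfsg.omegaCenterThompson p S := stableNormalClosure_le_omegaCenterThompson p hw
  haveI := hΩ.2 H τ hτ
  obtain ⟨w', -, hw'⟩ : h * τ w * h⁻¹ ∈ (Cfsg.omegaCenterThompson p S).map τ :=
    Subgroup.Normal.conj_mem inferInstance _ (Subgroup.mem_map_of_mem τ hw0) h
  refine ⟨w', ?_, hw'⟩
  rw [stableNormalClosure_eq]
  apply Subgroup.mem_sInf.2
  intro W' hW'
  have hwW' : w ∈ W' := by
    have : Cfsg.stableNormalClosure p S ≤ W' := sInf_le hW'
    exact this hw
  haveI := hW'.2 H τ hτ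
  obtain ⟨w'', hw''W, hw''⟩ : h * τ w * h⁻¹ ∈ W'.map τ :=
    Subgroup.Normal.conj_mem inferInstance _ (Subgroup.mem_map_of_mem τ hwW') h
  have : w'' = w' := hinj (hw''.trans hw'.symm)
  rw [← this]
  exact hw''W

end fam

section main

variable {S : Type u} [Group S]

/-- no quadratic, nontrivial action -/
def NQ (U : Subgroup S) : Prop :=
  ∀ x : S, ⁅⁅U, Subgroup.zpowers x⁆, Subgroup.zpowers x⁆ = ⊥ → ⁅U, Subgroup.zpowers x⁆ = ⊥

theorem NQ_sSup (𝒰 : Set (Subgroup S)) (h : ∀ U ∈ 𝒰, NQ U) : NQ (sSup 𝒰) := by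
  intro x hx
  rw [Subgroup.commutator_eq_bot_iff_le_centralizer]
  apply sSup_le
  intro U hU
  rw [← Subgroup.commutator_eq_bot_iff_le_centralizer]
  apply h U hU x
  rw [eq_bot_iff, ← hx]
  exact Subgroup.commutator_mono (Subgroup.commutator_mono (le_sSup hU) le_rfl) le_rfl

/-- the key step: normal closures under stable embeddings preserve `NQ` -/
theorem NQ_comap_normalClosure [Finite S] {p : ℕ} [hp : Fact p.Prime] {W' : Subgroup S}
    (hW' : NQ W') (hW'le : W' ≤ Cfsg.stableNormalClosure p S)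
    (H : Type u) [Group H] (τ : S →* H) (hτ : Cfsg.IsStableEmbedding p τ) :
    NQ ((Subgroup.normalClosure ((W'.map τ : Subgroup H) : Set H)).comap τ) ∧
      (Subgroup.normalClosure ((W'.map τ : Subgroup H) : Set H)).comap τ ≤
        Cfsg.stableNormalClosure p S ∧
      ((Subgroup.normalClosure ((W'.map τ : Subgroup H) : Set H)).comap τ).map τ =
        Subgroup.normalClosure ((W'.map τ : Subgroup H) : Set H) := by
  obtain ⟨hinj, hfin, ⟨P, hP⟩, hcent, hJ, hstab⟩ := id hτ
  haveI := hfin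
  set W := Cfsg.stableNormalClosure p S with hW
  set N := Subgroup.normalClosure ((W'.map τ : Subgroup H) : Set H) with hN
  haveI hWn : (W.map τ).Normal := (stableNormalClosure_mem_fam p).2 H τ hτ
  have hNW : N ≤ W.map τ := Subgroup.normalClosure_le_normal (Subgroup.map_mono hW'le)
  have hNrange : N ≤ τ.range := hNW.trans (Subgroup.map_le_range τ W)
  have hmap : (N.comap τ).map τ = N := Subgroup.map_comap_eq_self hNrange
  have hW'N : W'.map τ ≤ N := Subgroup.le_normalClosure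
  have hVW : N.comap τ ≤ W := by
    intro x hx
    obtain ⟨w, hw, hwx⟩ := hNW (Subgroup.mem_comap.1 hx)
    rw [← hinj hwx]; exact hw
  refine ⟨?_, hVW, hmap⟩
  intro x hx
  set a := τ x with ha
  -- the action of `a` on `N` is quadratic
  have hNa : ⁅⁅N, Subgroup.zpowers a⁆, Subgroup.zpowers a⁆ = ⊥ := by
    have h1 := congrArg (Subgroup.map τ) hx
    rw [Subgroup.map_commutator, Subgroup.map_commutator, hmap, MonoidHom.map_zpowers,
      Subgroup.map_bot] at h1
    exact h1
  have hstabN : Cfsg.IsPStableOn p N :=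
    hstab N (hNW.trans (Subgroup.map_mono (stableNormalClosure_le_omegaCenterThompson p)))
  have hqa : QuadOn N a := quadOn_of_commutator hNa
  -- it suffices that `a` commutes with every element of `N`
  suffices hsuff : ∀ n ∈ N, a * n = n * a by
    rw [commutator_zpowers_eq_bot_iff]
    intro v hv
    apply hinj
    rw [map_mul, map_mul]
    exact hsuff _ (Subgroup.mem_comap.1 hv)
  have hcl : N ≤ Subgroup.centralizer ({a} : Set H) := by
    rw [hN, Subgroup.normalClosure]
    rw [Subgroup.closure_le]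
    intro z hz
    obtain ⟨u, hu, hconj⟩ := Group.mem_conjugatesOfSet_iff.1 hz
    obtain ⟨h, rfl⟩ := isConj_iff.1 hconj
    obtain ⟨w, hw, rfl⟩ := hu
    rw [SetLike.mem_coe, Subgroup.mem_centralizer_iff]
    rintro _ rfl
    -- `y = h⁻¹ a h`
    set y := h⁻¹ * a * h with hy
    have hqy : QuadOn N y := quadOn_conj hqa h
    have hyq : ⁅⁅N, Subgroup.zpowers y⁆, Subgroup.zpowers y⁆ = ⊥ := commutator_of_quadOn hqy
    have hyst : y ∈ Cfsg.Agent.Lead.ZJ.stab p N := hstabN y hyq
    have hysup := Cfsg.Agent.Lead.ZJ.stab_le_sup N P hyst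
    have hcoe : y ∈ ((Subgroup.centralizer (N : Set H) ⊔
        ((P : Subgroup H) ⊓ Cfsg.Agent.Lead.ZJ.stab p N) : Subgroup H) : Set H) := hysup
    rw [Subgroup.normal_mul] at hcoe
    obtain ⟨c, hc, t, ht, hct⟩ := Set.mem_mul.1 hcoe
    have htP : t ∈ τ.range := by
      rw [← hP]; exact ht.1
    obtain ⟨s, rfl⟩ := htP
    have hcN : ∀ n ∈ N, c * n = n * c := fun n hn =>
      (Subgroup.mem_centralizer_iff.1 hc n hn).symm
    have htv : ∀ v ∈ N, τ s * v * (τ s)⁻¹ = y * v * y⁻¹ := by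
      intro v hv
      have hv' : τ s * v * (τ s)⁻¹ ∈ N := Subgroup.Normal.conj_mem inferInstance v hv (τ s)
      rw [← hct]
      have := hcN _ hv'
      calc τ s * v * (τ s)⁻¹ = (c * (τ s * v * (τ s)⁻¹)) * c⁻¹ := by rw [this]; group
        _ = c * τ s * v * (c * τ s)⁻¹ := by group
    have hqt : QuadOn N (τ s) := quadOn_congr htv hqy
    have htq : ⁅⁅N, Subgroup.zpowers (τ s)⁆, Subgroup.zpowers (τ s)⁆ = ⊥ :=
      commutator_of_quadOn hqt
    have hsq : ⁅⁅W', Subgroup.zpowers s⁆, Subgroup.zpowers s⁆ = ⊥ := by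
      have h1 : ⁅⁅W'.map τ, Subgroup.zpowers (τ s)⁆, Subgroup.zpowers (τ s)⁆ = ⊥ := by
        rw [eq_bot_iff, ← htq]
        exact Subgroup.commutator_mono (Subgroup.commutator_mono hW'N le_rfl) le_rfl
      rw [← MonoidHom.map_zpowers, ← Subgroup.map_commutator, ← Subgroup.map_commutator,
        Subgroup.map_eq_bot_iff_of_injective _ hinj] at h1
      exact h1
    have hsw := commutator_zpowers_eq_bot_iff.1 (hW' s hsq) w hw
    have htw : τ s * τ w = τ w * τ s := by rw [← map_mul, ← map_mul, hsw]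
    have hyw : y * τ w = τ w * y := by
      rw [← hct]
      have h1 := hcN (τ w) (hW'N ⟨w, hw, rfl⟩)
      calc c * τ s * τ w = c * (τ s * τ w) := by group
        _ = c * (τ w * τ s) := by rw [htw]
        _ = (c * τ w) * τ s := by group
        _ = τ w * c * τ s := by rw [h1]
        _ = τ w * (c * τ s) := by group
    -- conjugate back
    calc a * (h * τ w * h⁻¹) = h * (y * τ w) * h⁻¹ := by rw [hy]; group
      _ = h * (τ w * y) * h⁻¹ := by rw [hyw]
      _ = h * τ w * h⁻¹ * a := by rw [hy]; group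
  intro n hn
  exact (Subgroup.mem_centralizer_iff.1 (hcl hn) a rfl)

/-- **No element of `S` acts quadratically and nontrivially on `W(S)`.** -/
theorem stable_NQ [Finite S] (p : ℕ) [hp : Fact p.Prime] : NQ (Cfsg.stableNormalClosure p S) := by
  set W := Cfsg.stableNormalClosure p S with hW
  set 𝒰 : Set (Subgroup S) := {U | U ≤ W ∧ NQ U} with h𝒰
  set W' := sSup 𝒰 with hW'
  have hW'le : W' ≤ W := sSup_le fun U hU => hU.1
  have hNQ : NQ W' := NQ_sSup 𝒰 fun U hU => hU.2
  have hmem : W' ∈ fam p S := by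
    refine ⟨?_, ?_⟩
    · apply le_sSup
      refine ⟨omegaOne_center_le_stableNormalClosure p, ?_⟩
      intro x _
      rw [Subgroup.commutator_eq_bot_iff_le_centralizer]
      exact (omegaOne_le p (Subgroup.center S)).trans (Subgroup.center_le_centralizer _)
    · intro H _ τ hτ
      obtain ⟨h1, h2, h3⟩ := NQ_comap_normalClosure hNQ hW'le H τ hτ
      have h4 : (Subgroup.normalClosure ((W'.map τ : Subgroup H) : Set H)).comap τ ≤ W' :=
        le_sSup ⟨h2, h1⟩
      have h5 : Subgroup.normalClosure ((W'.map τ : Subgroup H) : Set H) = W'.map τ := by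
        apply le_antisymm
        · rw [← h3]; exact Subgroup.map_mono h4
        · exact Subgroup.le_normalClosure
      rw [← h5]
      exact Subgroup.normalClosure_normal
  have hle : W ≤ W' := sInf_le hmem
  have : W = W' := le_antisymm hle hW'le
  rw [this]
  exact hNQ

end main

end Cfsg.Agent.Helper1.WStable
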