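import Mathlib
import Cfsg.Prelude.Def_PLocal
import Cfsg.Agent.Helper1.WStable
import Cfsg.Agent.Helper1.ThompsonNPC
import Cfsg.Agent.Helper1.AutPlumbing
import Cfsg.Agent.Helper4.PElementFiber

set_option autoImplicit false

/-!
The analogue of Glauberman's ZJ-theorem for Stellmacher's subgroup `W(S)`: preparation.
-/

namespace Cfsg.Agent.Helper1.WStable

open scoped Pointwise commutatorElement

open Cfsg.Agent.Helper1

universe u

section core

variable {S H : Type u} [Group S] [Group H]

/-- Under `p`-stability on the normal closure `N` of (the image of) a subgroup `W'` with the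
`NQ` property, every element acting quadratically on `N` centralizes `N`. -/
theorem centralizes_normalClosure_of_quadOn [Finite H] {p : ℕ} [Fact p.Prime]
    (τ : S →* H) (hinj : Function.Injective τ) (P : Sylow p H)
    (hP : (P : Subgroup H) = τ.range) {W' : Subgroup S} (hW' : NQ W')
    (hst : Cfsg.IsPStableOn p (Subgroup.normalClosure ((W'.map τ : Subgroup H) : Set H)))
    (a : H) (hqa : QuadOn (Subgroup.normalClosure ((W'.map τ : Subgroup H) : Set H)) a) :
    ∀ n ∈ Subgroup.normalClosure ((W'.map τ : Subgroup H) : Set H), a * n = n * a := by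
  set N := Subgroup.normalClosure ((W'.map τ : Subgroup H) : Set H) with hN
  have hW'N : W'.map τ ≤ N := Subgroup.le_normalClosure
  have hcl : N ≤ Subgroup.centralizer ({a} : Set H) := by
    rw [hN, Subgroup.normalClosure]
    rw [Subgroup.closure_le]
    intro z hz
    obtain ⟨u, hu, hconj⟩ := Group.mem_conjugatesOfSet_iff.1 hz
    obtain ⟨h, rfl⟩ := isConj_iff.1 hconj
    obtain ⟨w, hw, rfl⟩ := hu
    rw [SetLike.mem_coe, Subgroup.mem_centralizer_iff]
    intro b hb
    have hb' : b = a := hb
    rw [hb']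
    set y := h⁻¹ * a * h with hy
    have hqy : QuadOn N y := quadOn_conj hqa h
    have hyq : ⁅⁅N, Subgroup.zpowers y⁆, Subgroup.zpowers y⁆ = ⊥ := commutator_of_quadOn hqy
    have hyst : y ∈ Cfsg.Agent.Lead.ZJ.stab p N := hst y hyq
    have hysup := Cfsg.Agent.Lead.ZJ.stab_le_sup N P hyst
    have hcoe : y ∈ ((Subgroup.centralizer (N : Set H) ⊔
        ((P : Subgroup H) ⊓ Cfsg.Agent.Lead.ZJ.stab p N) : Subgroup H) : Set H) := hysup
    rw [Subgroup.normal_mul] at hcoe
    obtain ⟨c, hc, t, ht, hct⟩ := Set.mem_mul.1 hcoe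
    have htP : t ∈ τ.range := by
      rw [← hP]; exact ht.1
    obtain ⟨s, rfl⟩ := htP
    have hcN : ∀ n ∈ N, c * n = n * c := fun n hn =>
      (Subgroup.mem_centralizer_iff.1 hc n hn).symm
    have htv : ∀ v ∈ N, τ s * v * (τ s)⁻¹ = y * v * y⁻¹ := by
      intro v hv
      have hv' : τ s * v * (τ s)⁻¹ ∈ N := Subgroup.Normal.conj_mem inferInstance v hv (τ s)
      rw [← hct]
      have := hcN _ hv'
      calc τ s * v * (τ s)⁻¹ = (c * (τ s * v * (τ s)⁻¹)) * c⁻¹ := by rw [this]; group
        _ = c * τ s * v * (c * τ s)⁻¹ := by group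
    have hqt : QuadOn N (τ s) := quadOn_congr htv hqy
    have htq : ⁅⁅N, Subgroup.zpowers (τ s)⁆, Subgroup.zpowers (τ s)⁆ = ⊥ :=
      commutator_of_quadOn hqt
    have hsq : ⁅⁅W', Subgroup.zpowers s⁆, Subgroup.zpowers s⁆ = ⊥ := by
      have h1 : ⁅⁅W'.map τ, Subgroup.zpowers (τ s)⁆, Subgroup.zpowers (τ s)⁆ = ⊥ := by
        rw [eq_bot_iff, ← htq]
        exact Subgroup.commutator_mono (Subgroup.commutator_mono hW'N le_rfl) le_rfl
      rw [← MonoidHom.map_zpowers, ← Subgroup.map_commutator, ← Subgroup.map_commutator,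
        Subgroup.map_eq_bot_iff_of_injective _ hinj] at h1
      exact h1
    have hsw := commutator_zpowers_eq_bot_iff.1 (hW' s hsq) w hw
    have htw : τ s * τ w = τ w * τ s := by rw [← map_mul, ← map_mul, hsw]
    have hyw : y * τ w = τ w * y := by
      rw [← hct]
      have h1 := hcN (τ w) (hW'N ⟨w, hw, rfl⟩)
      calc c * τ s * τ w = c * (τ s * τ w) := by group
        _ = c * (τ w * τ s) := by rw [htw]
        _ = (c * τ w) * τ s := by group
        _ = τ w * c * τ s := by rw [h1]
        _ = τ w * (c * τ s) := by group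
    calc a * (h * τ w * h⁻¹) = h * (y * τ w) * h⁻¹ := by rw [hy]; group
      _ = h * (τ w * y) * h⁻¹ := by rw [hyw]
      _ = h * τ w * h⁻¹ * a := by rw [hy]; group
  intro n hn
  exact (Subgroup.mem_centralizer_iff.1 (hcl hn) a rfl)

end core

section incl

variable {G : Type*} [Group G]

theorem map_inclusion_eq {A B : Subgroup G} (h : A ≤ B) (T : Subgroup A) :
    T.map (Subgroup.inclusion h) = (T.map A.subtype).subgroupOf B := by
  ext x
  constructor
  · rintro ⟨t, ht, rfl⟩
    rw [Subgroup.mem_subgroupOf]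
    exact ⟨t, ht, rfl⟩
  · intro hx
    rw [Subgroup.mem_subgroupOf] at hx
    obtain ⟨t, ht, htx⟩ := hx
    exact ⟨t, ht, Subtype.ext htx⟩

end incl

section zj

variable {G : Type u} [Group G]

/-- `W(S)` viewed inside `G`. -/
noncomputable def wOf (p : ℕ) (S : Subgroup G) : Subgroup G :=
  (Cfsg.stableNormalClosure p ↥S).map S.subtype

theorem wOf_le (p : ℕ) (S : Subgroup G) : wOf p S ≤ S := Subgroup.map_subtype_le _

theorem sylow_le_normalizer_thompson {p : ℕ} (S : Subgroup G) :
    S ≤ Subgroup.normalizer (Cfsg.thompsonSubgroupOf p S : Set G) := by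
  have h := (ThompsonRed.jFunctor p).normalizer_le S
  rw [ThompsonRed.jFunctor_of] at h
  exact Subgroup.le_normalizer.trans h

/-- The inclusion of a Sylow subgroup into `N_G(J(S))` is a stable embedding. -/
theorem isStableEmbedding_inclusion [Finite G] {p : ℕ} [hp : Fact p.Prime]
    (hst : Cfsg.IsActionPStable p G)
    (hc : Subgroup.centralizer (Cfsg.pCore p G : Set G) ≤ Cfsg.pCore p G) (S : Sylow p G) :
    Cfsg.IsStableEmbedding p
      (Subgroup.inclusion (sylow_le_normalizer_thompson (p := p) (S : Subgroup G))) := by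
  set G₀ := Subgroup.normalizer (Cfsg.thompsonSubgroupOf p (S : Subgroup G) : Set G) with hG₀
  have hle : (S : Subgroup G) ≤ G₀ := sylow_le_normalizer_thompson (S : Subgroup G)
  refine ⟨Subgroup.inclusion_injective hle, inferInstance, ⟨S.subtype hle, ?_⟩, ?_, ?_, ?_⟩
  · rw [Sylow.coe_subtype, Subgroup.inclusion_range]
  · -- `O_p(G₀)` contains its centralizer
    have hQS : Cfsg.pCore p G ≤ (S : Subgroup G) := pCore_le_sylow S
    have hQG₀ : Cfsg.pCore p G ≤ G₀ := hQS.trans hle
    have hQn : ((Cfsg.pCore p G).subgroupOf G₀).Normal := inferInstance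
    have hQp : IsPGroup p ((Cfsg.pCore p G).subgroupOf G₀) :=
      (pCore_isPGroup p).comap_of_injective G₀.subtype G₀.subtype_injective
    have hQle : (Cfsg.pCore p G).subgroupOf G₀ ≤ Cfsg.pCore p ↥G₀ := le_pCore hQn hQp
    intro x hx
    apply hQle
    rw [Subgroup.mem_subgroupOf]
    apply hc
    rw [Subgroup.mem_centralizer_iff]
    intro q hq
    have h1 := Subgroup.mem_centralizer_iff.1 hx ⟨q, hQG₀ hq⟩
      (hQle (by rw [Subgroup.mem_subgroupOf]; exact hq))
    exact congrArg Subtype.val h1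
  · rw [map_inclusion_eq]
    exact Subgroup.normal_in_normalizer
  · intro V hVn hV
    apply hst.2.2 S V
    have h1 := Subgroup.map_mono (f := G₀.subtype) hV
    rw [Subgroup.map_map] at h1
    exact h1

/-- `W(S)` is normal in `N_G(J(S))`. -/
theorem normalizer_thompson_le_normalizer_wOf [Finite G] {p : ℕ} [hp : Fact p.Prime]
    (hst : Cfsg.IsActionPStable p G)
    (hc : Subgroup.centralizer (Cfsg.pCore p G : Set G) ≤ Cfsg.pCore p G) (S : Sylow p G) :
    Subgroup.normalizer (Cfsg.thompsonSubgroupOf p (S : Subgroup G) : Set G) ≤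
      Subgroup.normalizer (wOf p (S : Subgroup G) : Set G) := by
  have hle := sylow_le_normalizer_thompson (p := p) (S : Subgroup G)
  have h1 := (stableNormalClosure_mem_fam (S := ↥(S : Subgroup G)) p).2 _ _
    (isStableEmbedding_inclusion hst hc S)
  rw [map_inclusion_eq] at h1
  exact (Subgroup.normal_subgroupOf_iff_le_normalizer ((wOf_le p _).trans hle)).1 h1

/-- The functor `R ↦ W(R)`. -/
def wFunctor (p : ℕ) : ThompsonRed.CharFunctor.{u} where
  W := fun R _ => Cfsg.stableNormalClosure p R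
  map_equiv := fun e => stableNormalClosure_map_equiv p e

theorem wFunctor_of (p : ℕ) (S : Subgroup G) : (wFunctor p).of S = wOf p S := rfl

theorem le_normalizer_wOf (p : ℕ) (S : Subgroup G) :
    S ≤ Subgroup.normalizer (wOf p S : Set G) := by
  have h := (wFunctor p).normalizer_le S
  rw [wFunctor_of] at h
  exact Subgroup.le_normalizer.trans h

theorem stableNormalClosure_isElementaryAbelian {R : Type u} [Group R] [Finite R] (p : ℕ) :
    Cfsg.IsElementaryAbelian p (Cfsg.stableNormalClosure p R) := by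
  obtain ⟨A, hA⟩ := maxElementaryAbelianSubgroups_nonempty (G := R) p
  have h1 : Cfsg.stableNormalClosure p R ≤ A := by
    refine (stableNormalClosure_le_omegaCenterThompson p).trans ?_
    rw [← (sInf_maxEA p).1]
    exact sInf_le hA
  exact IsElementaryAbelian_of_le hA.1 h1

theorem wOf_isElementaryAbelian [Finite G] (p : ℕ) (S : Subgroup G) :
    Cfsg.IsElementaryAbelian p (wOf p S) :=
  IsElementaryAbelian_map (stableNormalClosure_isElementaryAbelian p) _

/-- The kernel of the action on `O_p(G)/Φ(O_p(G))` is a `p`-group. -/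
theorem isPGroup_sectionKernel [Finite G] {p : ℕ} [hp : Fact p.Prime]
    (hc : Subgroup.centralizer (Cfsg.pCore p G : Set G) ≤ Cfsg.pCore p G) :
    IsPGroup p (Cfsg.sectionKernel (Cfsg.pCore p G)
      ((frattini ↥(Cfsg.pCore p G)).map (Cfsg.pCore p G).subtype)) := by
  set Q := Cfsg.pCore p G with hQ
  set Φ := (frattini ↥Q).map Q.subtype with hΦ
  set K := Cfsg.sectionKernel Q Φ with hK
  have hQp : IsPGroup p Q := pCore_isPGroup p
  -- elements of `K` of order prime to `p` are trivial
  have key : ∀ g ∈ K, (orderOf g).Coprime p → g = 1 := by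
    intro g hg hcop
    set a : MulAut ↥Q := MulAut.conjNormal g with ha
    have hao : orderOf a ∣ orderOf g := by
      apply orderOf_dvd_of_pow_eq_one
      rw [ha, ← map_pow, pow_orderOf_eq_one, map_one]
    have hacop : (orderOf a).Coprime p := Nat.Coprime.coprime_dvd_left hao hcop
    have hfr : ∀ x : ↥Q, x⁻¹ * a x ∈ frattini ↥Q := by
      intro x
      have hg' : (QuotientGroup.mk' Φ g) ∈ Subgroup.centralizer
          ((Q.map (QuotientGroup.mk' Φ) : Subgroup (G ⧸ Φ)) : Set (G ⧸ Φ)) := hg
      have h1 := Subgroup.mem_centralizer_iff.1 hg' (QuotientGroup.mk' Φ (x : G))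
        (Subgroup.mem_map_of_mem _ x.2)
      have h2 : (x : G)⁻¹ * (g * (x : G) * g⁻¹) ∈ Φ := by
        rw [← QuotientGroup.eq_one_iff]
        have e : ((((x : G)⁻¹ * (g * (x : G) * g⁻¹) : G)) : G ⧸ Φ) =
            (QuotientGroup.mk' Φ (x : G))⁻¹ * (QuotientGroup.mk' Φ g * QuotientGroup.mk' Φ (x : G)) *
              (QuotientGroup.mk' Φ g)⁻¹ := by
          simp only [QuotientGroup.mk'_apply, QuotientGroup.mk_mul, QuotientGroup.mk_inv]
          group
        rw [e, ← h1]
        group
      obtain ⟨f, hf, hfe⟩ := h2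
      have : x⁻¹ * a x = f := by
        apply Subtype.ext
        rw [Subgroup.coe_mul, Subgroup.coe_inv, ha, MulAut.conjNormal_apply]
        exact hfe.symm
      rw [this]
      exact hf
    have ha1 := AutPlumbing.eq_one_of_trivial_mod_frattini hQp a hacop hfr
    have hgc : g ∈ Subgroup.centralizer (Q : Set G) := by
      rw [Subgroup.mem_centralizer_iff]
      intro x hx
      have h1 : a ⟨x, hx⟩ = ⟨x, hx⟩ := by rw [ha1]; rfl
      have h2 := congrArg Subtype.val h1
      rw [ha, MulAut.conjNormal_apply] at h2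
      calc x * g = (g * x * g⁻¹) * g := by rw [h2]
        _ = g * x := by group
    have hgQ : g ∈ Q := hc hgc
    obtain ⟨k, hk⟩ := hQp ⟨g, hgQ⟩
    have hk' : g ^ (p ^ k) = 1 := congrArg Subtype.val hk
    have h1 : orderOf g ∣ p ^ k := orderOf_dvd_of_pow_eq_one hk'
    have h2 : orderOf g = 1 := Nat.Coprime.eq_one_of_dvd (Nat.Coprime.pow_right k hcop) h1
    exact orderOf_eq_one_iff.1 h2
  intro g
  obtain ⟨j, m, hm, hjm⟩ := Nat.exists_eq_pow_mul_and_not_dvd (orderOf_pos (g : G)).ne' p
    hp.out.ne_one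
  refine ⟨j, ?_⟩
  apply Subtype.ext
  rw [Subgroup.coe_pow, Subgroup.coe_one]
  apply key _ (K.pow_mem g.2 _)
  have h1 : orderOf ((g : G) ^ p ^ j) = m := by
    rw [orderOf_pow' _ (pow_ne_zero j hp.out.ne_zero), hjm, Nat.gcd_eq_right (Dvd.intro _ rfl),
      Nat.mul_div_cancel_left _ (pow_pos hp.out.pos j)]
  rw [h1]
  exact (Nat.Prime.coprime_iff_not_dvd hp.out).2 hm |>.symm

end zj

end Cfsg.Agent.Helper1.WStable
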