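import Mathlib
import Cfsg.Prelude.Def_PLocal
import Cfsg.Agent.Helper1.WStable2

set_option autoImplicit false

/-!
The analogue of Glauberman's ZJ-theorem for Stellmacher's subgroup `W(S)`.
-/

namespace Cfsg.Agent.Helper1.WStable

open scoped Pointwise commutatorElement

open Cfsg.Agent.Helper1

universe u

variable {G : Type u} [Group G]

/-- `W(S) ≤ O_p(G)` in an action-`p`-stable group with `C_G(O_p(G)) ≤ O_p(G)`. -/
theorem wOf_le_pCore [Finite G] {p : ℕ} [hp : Fact p.Prime]
    (hst : Cfsg.IsActionPStable p G)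
    (hc : Subgroup.centralizer (Cfsg.pCore p G : Set G) ≤ Cfsg.pCore p G) (S : Sylow p G) :
    wOf p (S : Subgroup G) ≤ Cfsg.pCore p G := by
  set Q := Cfsg.pCore p G with hQ
  set W := wOf p (S : Subgroup G) with hW
  have hWea := wOf_isElementaryAbelian p (S : Subgroup G)
  have hQS : Q ≤ (S : Subgroup G) := pCore_le_sylow S
  intro a ha
  have hq : ⁅⁅Q, Subgroup.zpowers a⁆, Subgroup.zpowers a⁆ ≤
      (frattini ↥Q).map Q.subtype := by
    have h1 : ⁅Q, Subgroup.zpowers a⁆ ≤ W := by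
      rw [Subgroup.commutator_le]
      intro q hq z hz
      have hzW : z ∈ W := (Subgroup.zpowers_le.2 ha) hz
      have hqn := le_normalizer_wOf p (S : Subgroup G) (hQS hq)
      have h2 : q * z * q⁻¹ ∈ W := (Subgroup.mem_normalizer_iff.1 hqn z).1 hzW
      rw [commutatorElement_def]
      exact W.mul_mem h2 (W.inv_mem hzW)
    have h2 : ⁅W, Subgroup.zpowers a⁆ = ⊥ := by
      rw [commutator_zpowers_eq_bot_iff]
      intro u hu
      exact isElementaryAbelian_commute hWea ha hu
    have h3 : ⁅⁅Q, Subgroup.zpowers a⁆, Subgroup.zpowers a⁆ = ⊥ := by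
      rw [eq_bot_iff, ← h2]
      exact Subgroup.commutator_mono h1 le_rfl
    rw [h3]; exact bot_le
  obtain ⟨D, hDn, hKD, ⟨k, hk⟩, haD⟩ := hst.2.1 a hq
  have hKp := isPGroup_sectionKernel (p := p) hc
  obtain ⟨j, hj⟩ := IsPGroup.iff_card.1 hKp
  have hDcard : Nat.card D = p ^ (k + j) := by
    rw [← relIndex_mul_card_of_le hKD, hk, hj, pow_add]
  have hDp : IsPGroup p D := IsPGroup.of_card hDcard
  exact le_pCore hDn hDp haD

/-- Conjugates of `W(S)` centralize `W(S)`. -/
theorem conj_wOf_commute [Finite G] {p : ℕ} [hp : Fact p.Prime]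
    (hst : Cfsg.IsActionPStable p G)
    (hc : Subgroup.centralizer (Cfsg.pCore p G : Set G) ≤ Cfsg.pCore p G) (S : Sylow p G)
    (g : G) {w v : G} (hw : w ∈ wOf p (S : Subgroup G)) (hv : v ∈ wOf p (S : Subgroup G)) :
    (g * w * g⁻¹) * v = v * (g * w * g⁻¹) := by
  set Q := Cfsg.pCore p G with hQ
  set W := wOf p (S : Subgroup G) with hW
  have hWea := wOf_isElementaryAbelian p (S : Subgroup G)
  have hWQ : W ≤ Q := wOf_le_pCore hst hc S
  have hQS : Q ≤ (S : Subgroup G) := pCore_le_sylow S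
  have hQn : Q.Normal := inferInstance
  set y := g * w * g⁻¹ with hy
  have hyQ : y ∈ Q := hQn.conj_mem w (hWQ hw) g
  have hyS : y ∈ (S : Subgroup G) := hQS hyQ
  -- the action of `y` on `W(S)` is quadratic
  have hquadG : ∀ v' ∈ W, ⁅⁅v', y⁆, y⁆ = 1 := by
    intro v' hv'
    set q := g⁻¹ * v' * g with hq
    have hqQ : q ∈ Q := by
      have := hQn.conj_mem v' (hWQ hv') g⁻¹
      rwa [inv_inv] at this
    have hqn := le_normalizer_wOf p (S : Subgroup G) (hQS hqQ)
    have hqw : q * w * q⁻¹ ∈ W := (Subgroup.mem_normalizer_iff.1 hqn w).1 hw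
    set w₁ := q * w * q⁻¹ * w⁻¹ with hw₁
    have hw₁W : w₁ ∈ W := W.mul_mem hqw (W.inv_mem hw)
    have e1 : ⁅v', y⁆ = g * w₁ * g⁻¹ := by
      rw [commutatorElement_def, hy, hw₁, hq]; group
    have hcomm : w₁ * w = w * w₁ := isElementaryAbelian_commute hWea hw₁W hw
    rw [e1, commutatorElement_def, hy]
    calc g * w₁ * g⁻¹ * (g * w * g⁻¹) * (g * w₁ * g⁻¹)⁻¹ * (g * w * g⁻¹)⁻¹
        = g * ((w₁ * w) * w₁⁻¹ * w⁻¹) * g⁻¹ := by group
      _ = g * ((w * w₁) * w₁⁻¹ * w⁻¹) * g⁻¹ := by rw [hcomm]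
      _ = 1 := by group
  set ys : ↥(S : Subgroup G) := ⟨y, hyS⟩ with hys
  haveI : (Cfsg.stableNormalClosure p ↥(S : Subgroup G)).Characteristic :=
    stableNormalClosure_characteristic p
  have hquadS : QuadOn (Cfsg.stableNormalClosure p ↥(S : Subgroup G)) ys := by
    intro v' hv'
    apply Subtype.ext
    have h1 := hquadG (v' : G) (Subgroup.mem_map_of_mem _ hv')
    have h2 : ((⁅⁅v', ys⁆, ys⁆ : ↥(S : Subgroup G)) : G) = ⁅⁅(v' : G), y⁆, y⁆ := by
      have := map_commutatorElement (S : Subgroup G).subtype ⁅v', ys⁆ ys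
      rw [map_commutatorElement] at this
      exact this
    rw [h2, h1]
    rfl
  have h3 := stable_NQ (S := ↥(S : Subgroup G)) p ys (commutator_of_quadOn hquadS)
  obtain ⟨v', hv', rfl⟩ := hv
  have h4 := commutator_zpowers_eq_bot_iff.1 h3 v' hv'
  exact congrArg Subtype.val h4

/-- The normal closure of `W(S)` in `G`. -/
noncomputable def wClosure (p : ℕ) (S : Subgroup G) : Subgroup G :=
  Subgroup.normalClosure ((wOf p S : Subgroup G) : Set G)

instance wClosure_normal (p : ℕ) (S : Subgroup G) : (wClosure p S).Normal :=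
  Subgroup.normalClosure_normal

theorem wOf_le_wClosure (p : ℕ) (S : Subgroup G) : wOf p S ≤ wClosure p S :=
  Subgroup.le_normalClosure

theorem wClosure_isElementaryAbelian [Finite G] {p : ℕ} [hp : Fact p.Prime]
    (hst : Cfsg.IsActionPStable p G)
    (hc : Subgroup.centralizer (Cfsg.pCore p G : Set G) ≤ Cfsg.pCore p G) (S : Sylow p G) :
    Cfsg.IsElementaryAbelian p (wClosure p (S : Subgroup G)) := by
  set W := wOf p (S : Subgroup G) with hW
  have hWea := wOf_isElementaryAbelian p (S : Subgroup G)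
  have hcomm : ∀ x ∈ Group.conjugatesOfSet (W : Set G), ∀ y ∈ Group.conjugatesOfSet (W : Set G),
      x * y = y * x := by
    intro x hx y hy
    obtain ⟨w₁, hw₁, hc₁⟩ := Group.mem_conjugatesOfSet_iff.1 hx
    obtain ⟨g₁, rfl⟩ := isConj_iff.1 hc₁
    obtain ⟨w₂, hw₂, hc₂⟩ := Group.mem_conjugatesOfSet_iff.1 hy
    obtain ⟨g₂, rfl⟩ := isConj_iff.1 hc₂
    have h := conj_wOf_commute hst hc S (g₂⁻¹ * g₁) hw₁ hw₂
    calc g₁ * w₁ * g₁⁻¹ * (g₂ * w₂ * g₂⁻¹)
        = g₂ * ((g₂⁻¹ * g₁) * w₁ * (g₂⁻¹ * g₁)⁻¹ * w₂) * g₂⁻¹ := by group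
      _ = g₂ * (w₂ * ((g₂⁻¹ * g₁) * w₁ * (g₂⁻¹ * g₁)⁻¹)) * g₂⁻¹ := by rw [h]
      _ = g₂ * w₂ * g₂⁻¹ * (g₁ * w₁ * g₁⁻¹) := by group
  have hmc : IsMulCommutative ↥(wClosure p (S : Subgroup G)) :=
    Subgroup.isMulCommutative_closure hcomm
  refine ⟨hmc, ?_⟩
  intro a ha
  unfold wClosure Subgroup.normalClosure at ha
  induction ha using Subgroup.closure_induction with
  | mem x hx =>
    obtain ⟨w₁, hw₁, hc₁⟩ := Group.mem_conjugatesOfSet_iff.1 hx
    obtain ⟨g₁, rfl⟩ := isConj_iff.1 hc₁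
    rw [conj_pow, hWea.2 w₁ hw₁]
    group
  | one => exact one_pow p
  | mul x y hx hy ihx ihy =>
    have hxy : x * y = y * x := by
      have := hmc.is_comm.comm (⟨x, hx⟩ : ↥(wClosure p (S : Subgroup G))) ⟨y, hy⟩
      exact congrArg Subtype.val this
    rw [(Commute.mul_pow hxy p), ihx, ihy, one_mul]
  | inv x hx ihx => rw [inv_pow, ihx, inv_one]

/-- Every element acting quadratically on the normal closure of `W(S)` centralizes it. -/
theorem centralizes_wClosure_of_quad [Finite G] {p : ℕ} [hp : Fact p.Prime]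
    (hst : Cfsg.IsActionPStable p G)
    (hc : Subgroup.centralizer (Cfsg.pCore p G : Set G) ≤ Cfsg.pCore p G) (S : Sylow p G)
    (B : Subgroup G)
    (hB : ⁅⁅wClosure p (S : Subgroup G), B⁆, B⁆ = ⊥) :
    B ≤ Subgroup.centralizer (wClosure p (S : Subgroup G) : Set G) := by
  intro a ha
  have hq : ⁅⁅wClosure p (S : Subgroup G), Subgroup.zpowers a⁆, Subgroup.zpowers a⁆ = ⊥ := by
    rw [eq_bot_iff, ← hB]
    have hz : Subgroup.zpowers a ≤ B := Subgroup.zpowers_le.2 ha
    exact Subgroup.commutator_mono (Subgroup.commutator_mono le_rfl hz) hz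
  have hstU : Cfsg.IsPStableOn p (wClosure p (S : Subgroup G)) :=
    hst.1 _ (wClosure_isElementaryAbelian hst hc S)
  have h := centralizes_normalClosure_of_quadOn (S : Subgroup G).subtype
    (S : Subgroup G).subtype_injective S (by rw [Subgroup.range_subtype])
    (stable_NQ (S := ↥(S : Subgroup G)) p) hstU a (quadOn_of_commutator hq)
  rw [Subgroup.mem_centralizer_iff]
  intro n hn
  exact (h n hn).symm

/-- **The analogue of the ZJ-theorem for `W(S)`.** -/
theorem wOf_normal [Finite G] {p : ℕ} [hp : Fact p.Prime]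
    (hst : Cfsg.IsActionPStable p G)
    (hc : Subgroup.centralizer (Cfsg.pCore p G : Set G) ≤ Cfsg.pCore p G) (S : Sylow p G) :
    (wOf p (S : Subgroup G)).Normal := by
  set U := wClosure p (S : Subgroup G) with hU
  set C := Subgroup.centralizer (U : Set G) with hC
  have hUea := wClosure_isElementaryAbelian hst hc S
  -- every elementary abelian subgroup of largest order centralizes `U`
  have hA : ∀ A ∈ Cfsg.maxElementaryAbelianSubgroups p G, A ≤ C := by
    intro A hA
    by_contra hcon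
    have hne : ⁅U, A⁆ ≠ ⊥ := by
      intro h
      apply hcon
      rw [Subgroup.commutator_comm, Subgroup.commutator_eq_bot_iff_le_centralizer] at h
      exact h
    obtain ⟨_, hquad, hnt⟩ := Cfsg.Agent.Lead.Repl.thompson_replacement U hUea A hA
    have h2 := centralizes_wClosure_of_quad hst hc S _ hquad
    apply hnt hne
    rw [Subgroup.commutator_comm, Subgroup.commutator_eq_bot_iff_le_centralizer]
    exact h2
  -- `J(S) ≤ C`
  have hJ : Cfsg.thompsonSubgroupOf p (S : Subgroup G) ≤ C := by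
    have h1 : Cfsg.thompsonSubgroupOf p (S : Subgroup G) ≤ Cfsg.thompsonSubgroup p G := by
      rw [thompsonSubgroup_eq_iSup_sylow (p := p)]
      exact le_iSup (fun S : Sylow p G => Cfsg.thompsonSubgroupOf p (S : Subgroup G)) S
    exact h1.trans (sSup_le hA)
  -- Frattini argument
  have hJS : Cfsg.thompsonSubgroupOf p (S : Subgroup G) ≤ (S : Subgroup G) :=
    Subgroup.map_subtype_le _
  set T := (S : Subgroup G) ⊓ C with hT
  have hTcard : Nat.card T = p ^ (Nat.card C).factorization p :=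
    Cfsg.Agent.Helper4.card_sylow_inf_normal' p S C
  have hTC : T ≤ C := inf_le_right
  set PT : Sylow p C := Sylow.ofCard (T.subgroupOf C) (by
    rw [card_subgroupOf_of_le hTC]; exact hTcard) with hPT
  have hfr := Sylow.normalizer_sup_eq_top PT
  have hPTmap : (PT : Subgroup C).map C.subtype = T := by
    rw [hPT, Sylow.coe_ofCard, Subgroup.subgroupOf_map_subtype, inf_eq_left.2 hTC]
  rw [hPTmap] at hfr
  have hJT : Cfsg.thompsonSubgroupOf p T = Cfsg.thompsonSubgroupOf p (S : Subgroup G) :=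
    ThompsonRed.thompsonSubgroupOf_eq_of_le_of_le inf_le_left (le_inf hJS hJ)
  have hNT : Subgroup.normalizer (T : Set G) ≤
      Subgroup.normalizer (Cfsg.thompsonSubgroupOf p (S : Subgroup G) : Set G) := by
    have h := (ThompsonRed.jFunctor p).normalizer_le T
    rw [ThompsonRed.jFunctor_of, hJT] at h
    exact h
  have hN₀ := normalizer_thompson_le_normalizer_wOf hst hc S
  have hCW : C ≤ Subgroup.normalizer (wOf p (S : Subgroup G) : Set G) := by
    refine le_trans ?_ (Subgroup.centralizer_le_normalizer _)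
    exact Subgroup.centralizer_le (SetLike.coe_subset_coe.2 (wOf_le_wClosure p _))
  rw [← Subgroup.normalizer_eq_top_iff, eq_top_iff, ← hfr]
  exact sup_le (hNT.trans hN₀) hCW

end Cfsg.Agent.Helper1.WStable
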