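import Mathlib
import Cfsg.Prelude.Def_PLocal
import Cfsg.Agent.Helper1.WStable3
import Cfsg.Agent.Helper1.GlaubermanNPC
import Cfsg.Agent.Helper1.ThompsonFactorQuot
import Cfsg.Agent.Helper1.StableNormalClosure
import Cfsg.Agent.Helper4.HallHigman
import Cfsg.Agent.Helper4.PSolvable
import Cfsg.Agent.S0625
import Cfsg.Agent.S0626

set_option autoImplicit false

/-!
Consequences of the `W(S)`-theorem: the factorization `G = O_{p'}(G) N_G(W(S))` in `p`-separable
groups with `p ≥ 5`, and Thompson's normal `p`-complement theorem in the `W(S)` form.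
-/

namespace Cfsg.Agent.Helper1.WStable

open scoped Pointwise commutatorElement

open Cfsg.Agent.Helper1

universe u

variable {G : Type u} [Group G]

theorem w_factorization [Finite G] {p : ℕ} [hpf : Fact p.Prime] (hp : 5 ≤ p)
    (hsep : Cfsg.IsPSolvable p G) (P : Sylow p G) :
    Cfsg.pPrimeCore p G ⊔ Subgroup.normalizer (wOf p (P : Subgroup G) : Set G) = ⊤ := by
  have hKcop : (Nat.card (Cfsg.pPrimeCore p G)).Coprime p := card_pPrimeCore_coprime p
  have hπs : Function.Surjective (QuotientGroup.mk' (Cfsg.pPrimeCore p G)) :=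
    QuotientGroup.mk'_surjective _
  have hKb : Cfsg.pPrimeCore p (G ⧸ Cfsg.pPrimeCore p G) = ⊥ := pPrimeCore_quotient_pPrimeCore p
  have hsep' : Cfsg.IsPSolvable p (G ⧸ Cfsg.pPrimeCore p G) :=
    Cfsg.Agent.Helper4.isPSolvable_quotient hsep _
  have hst' : Cfsg.IsActionPStable p (G ⧸ Cfsg.pPrimeCore p G) :=
    Cfsg.Agent.S0625.result hp hsep'
  have hcent : Subgroup.centralizer (Cfsg.pCore p (G ⧸ Cfsg.pPrimeCore p G) :
      Set (G ⧸ Cfsg.pPrimeCore p G)) ≤ Cfsg.pCore p (G ⧸ Cfsg.pPrimeCore p G) :=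
    Cfsg.Agent.Helper4.centralizer_pCore_le_of_isPSolvable hsep' hKb
  have hnorm := wOf_normal hst' hcent (P.mapSurjective hπs)
  rw [Sylow.coe_mapSurjective] at hnorm
  have hdisj : (P : Subgroup G) ⊓ (QuotientGroup.mk' (Cfsg.pPrimeCore p G)).ker = ⊥ := by
    rw [QuotientGroup.ker_mk']
    apply inf_eq_bot_of_coprime_card
    obtain ⟨k, hk⟩ := IsPGroup.iff_card.1 P.2
    rw [hk]; exact (Nat.Coprime.pow_right k hKcop).symm
  have hmap : wOf p ((P : Subgroup G).map (QuotientGroup.mk' (Cfsg.pPrimeCore p G))) =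
      (wOf p (P : Subgroup G)).map (QuotientGroup.mk' (Cfsg.pPrimeCore p G)) := by
    rw [← wFunctor_of, ← wFunctor_of]
    exact (wFunctor p).of_map _ _ hdisj
  rw [hmap] at hnorm
  have hZp : IsPGroup p (wOf p (P : Subgroup G)) := P.2.to_le (wOf_le p _)
  rw [eq_top_iff]
  intro g _
  have hg : (QuotientGroup.mk' (Cfsg.pPrimeCore p G)) g ∈ Subgroup.normalizer
      (((wOf p (P : Subgroup G)).map
        (QuotientGroup.mk' (Cfsg.pPrimeCore p G)) : Subgroup (G ⧸ Cfsg.pPrimeCore p G)) :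
        Set (G ⧸ Cfsg.pPrimeCore p G)) := by
    rw [Subgroup.normalizer_eq_top_iff.2 hnorm]; exact Subgroup.mem_top _
  obtain ⟨n, hn, hng⟩ := normalizer_map_mk'_le (Cfsg.pPrimeCore p G) _ hZp hKcop hg
  have h1 : g * n⁻¹ ∈ Cfsg.pPrimeCore p G := by
    rw [← QuotientGroup.eq_one_iff, QuotientGroup.mk_mul, QuotientGroup.mk_inv]
    have : (QuotientGroup.mk n : G ⧸ Cfsg.pPrimeCore p G) = QuotientGroup.mk g := hng
    rw [this, mul_inv_cancel]
  have : g = (g * n⁻¹) * n := by group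
  rw [this]
  exact Subgroup.mul_mem_sup h1 hn

/-- In a minimal counterexample to a Thompson-type normal `p`-complement theorem (`p` odd), the
Sylow `2`-subgroups are abelian. -/
theorem sylow2_commutative_of_struct [Finite G] {p : ℕ} [hp : Fact p.Prime] (hp2 : p ≠ 2)
    {P : Subgroup G} (hS : ThompsonRed.Struct p G P) (T : Sylow 2 G) :
    IsMulCommutative T := by
  obtain ⟨K, hKn, hOK, hKK, hcop, k, hk⟩ := hS.exK
  haveI := hKn
  have h2p : Nat.Coprime 2 p := by
    rw [Nat.coprime_primes Nat.prime_two hp.out]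
    exact fun h => hp2 h.symm
  -- `T ≤ K`
  have hTK : (T : Subgroup G) ≤ K := by
    intro x hx
    obtain ⟨a, ha⟩ := (T.2 ⟨x, hx⟩)
    have hxa : x ^ 2 ^ a = 1 := by
      have := congrArg Subtype.val ha
      simpa using this
    have h1 : (QuotientGroup.mk x : G ⧸ K) ^ 2 ^ a = 1 := by
      rw [← QuotientGroup.mk_pow, hxa]; rfl
    have h2 : (QuotientGroup.mk x : G ⧸ K) ^ p ^ k = 1 := by
      have hc : Nat.card (G ⧸ K) = p ^ k := by rw [← hk]; rfl
      rw [← hc]; exact pow_card_eq_one'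
    have h3 : orderOf (QuotientGroup.mk x : G ⧸ K) ∣ Nat.gcd (2 ^ a) (p ^ k) :=
      Nat.dvd_gcd (orderOf_dvd_of_pow_eq_one h1) (orderOf_dvd_of_pow_eq_one h2)
    have h4 : Nat.gcd (2 ^ a) (p ^ k) = 1 := Nat.Coprime.pow a k h2p
    rw [h4, Nat.dvd_one, orderOf_eq_one_iff, QuotientGroup.eq_one_iff] at h3
    exact h3
  -- `[T, T] ≤ T ∩ O_p(G) = 1`
  have h5 : ⁅(T : Subgroup G), (T : Subgroup G)⁆ ≤ (T : Subgroup G) ⊓ Cfsg.pCore p G := by
    refine le_inf ?_ ((Subgroup.commutator_mono hTK hTK).trans hKK)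
    rw [Subgroup.commutator_le]
    intro a ha b hb
    exact (T : Subgroup G).mul_mem ((T : Subgroup G).mul_mem ((T : Subgroup G).mul_mem ha hb)
      ((T : Subgroup G).inv_mem ha)) ((T : Subgroup G).inv_mem hb)
  have h6 : (T : Subgroup G) ⊓ Cfsg.pCore p G = ⊥ := by
    apply inf_eq_bot_of_coprime_card
    obtain ⟨a, ha⟩ := IsPGroup.iff_card.1 T.2
    obtain ⟨b, hb⟩ := IsPGroup.iff_card.1 (pCore_isPGroup p (G := G))
    rw [ha, hb]
    exact Nat.Coprime.pow a b h2p
  rw [h6, le_bot_iff, Subgroup.commutator_eq_bot_iff_le_centralizer] at h5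
  refine ⟨⟨fun a b => Subtype.ext ?_⟩⟩
  have := h5 a.2 b b.2
  exact this.symm

/-- Thompson's normal `p`-complement theorem in the `W(S)` form. -/
theorem w_npc {p : ℕ} [hp : Fact p.Prime] (hp2 : p ≠ 2) (G : Type u) [Group G] [Finite G]
    (P : Sylow p G)
    (hN : Cfsg.HasNormalPComplement p
      ↥(Subgroup.normalizer (wOf p (P : Subgroup G) : Set G))) :
    Cfsg.HasNormalPComplement p G := by
  have hne : ∀ (R : Type u) [Group R] [Finite R], IsPGroup p R → Nontrivial R →
      (wFunctor p).W R ≠ ⊥ := by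
    intro R _ _ hR hnt
    haveI := hnt
    exact stableNormalClosure_ne_bot hR
  refine ThompsonRed.reduction (F₁ := wFunctor p) (F₂ := wFunctor p) hne hne ?_ G P ?_
  · intro G _ _ P hyp hS
    have hab : ∀ T : Sylow 2 G, IsMulCommutative T := sylow2_commutative_of_struct hp2 hS
    have hst : Cfsg.IsActionPStable p G := Cfsg.Agent.S0626.result hp2 hab
    haveI hnormal : (wOf p (P : Subgroup G)).Normal := wOf_normal hst hS.cent_le P
    have hnorm : Subgroup.normalizer (wOf p (P : Subgroup G) : Set G) = ⊤ :=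
      Subgroup.normalizer_eq_top _
    apply hS.not_nilp
    have h1 := hyp.1
    rw [wFunctor_of, hnorm] at h1
    exact hasNormalPComplement_of_mulEquiv Subgroup.topEquiv h1
  · rw [ThompsonRed.Hyp, wFunctor_of]
    refine ⟨hN, ?_⟩
    have hle : Subgroup.centralizer (wOf p (P : Subgroup G) : Set G) ≤
        Subgroup.normalizer (wOf p (P : Subgroup G) : Set G) :=
      Subgroup.centralizer_le_normalizer _
    exact hasNormalPComplement_of_le hle hN

end Cfsg.Agent.Helper1.WStable
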