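import Cfsg.Agent.Lead.WardGen
import Cfsg.Agent.Lead.FpqTa

/-!
S3796 (Ward), Part H1: the case `[T, a] = 1`, `[Q, a] = Q`, `Q` abelian.
-/

set_option autoImplicit false
set_option linter.style.haveILetI false
set_option linter.unusedSectionVars false

namespace Cfsg.Agent.Helper1.Ward

open scoped BigOperators commutatorElement
open Classical
open Cfsg.Agent.Lead.S3F Cfsg.Agent.Lead.Fpq Cfsg.Agent.Lead.Ward

variable {k : Type*} [Field k] {Γ : Type*} [Group Γ] [Fintype Γ]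
  {W : Type*} [AddCommGroup W] [Module k W] (ρ : Representation k Γ W)
  {p : ℕ} {𝔸 Q T : Subgroup Γ} {a u : Γ} {s t : ℕ}

/-- `a ≠ 1` when `[Q, a] = Q ≠ 1`. -/
theorem a_ne_one (pr : Pair 𝔸 Q T s t) (hQa : ⁅Q, Subgroup.zpowers a⁆ = Q) : a ≠ 1 := by
  intro h
  apply pr.Q_ne_bot
  rw [← hQa, h, Subgroup.zpowers_one_eq_bot, Subgroup.commutator_bot_right]

/-- **Part H1.** -/
theorem false_ward_abelian (g : ElemGen p 𝔸 a u) (hpk : (p : k) ≠ 0) (hfix : NoFixA ρ 𝔸)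
    (pr : Pair 𝔸 Q T s t) (hQc : ∀ x ∈ Q, ∀ y ∈ Q, x * y = y * x)
    (hQk : (Fintype.card Q : k) ≠ 0)
    [HasEnoughRootsOfUnity k (Monoid.exponent Q)] (hfaith : ∀ x ∈ Q, ρ x = 1 → x = 1)
    (hCW : ∀ w : W, (∀ e ∈ Q, ρ e w = w) → w = 0) (hTa : ∀ x ∈ T, a * x = x * a)
    (hQa : ⁅Q, Subgroup.zpowers a⁆ = Q)
    (hTfree : ∀ y ∈ 𝔸, y ∉ Subgroup.zpowers a → ∀ x ∈ T, y * x * y⁻¹ = x → x = 1)
    (htp : t ≠ p) : False := by
  have hp := g.hp
  have ha1 : a ≠ 1 := a_ne_one pr hQa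
  -- no weight is fixed by `a`
  have hmove : ∀ χ : Q →* kˣ, IsWt ρ Q χ → a ∉ charStab Q χ := by
    intro χ hχ hf
    have h1 : Subgroup.zpowers a ≤ charStab Q χ := Subgroup.zpowers_le.2 hf
    exact not_isWt_of_char_eq_one ρ Q hCW χ
      (char_eq_one_of_le_charStab Q _ χ h1 hQa) hχ
  -- every weight is fixed by an element outside `⟨a⟩`
  have hstab : ∀ χ : Q →* kˣ, IsWt ρ Q χ →
      ∃ y ∈ 𝔸, y ∉ Subgroup.zpowers a ∧ y ∈ charStab Q χ := by
    intro χ hχ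
    rcases stab_cases ρ g hpk hfix Q hQk pr.AQ χ hχ with h1 | ⟨y, hyA, hy1, hyS, -, -⟩
    · exact absurd (h1 g.a_mem) (hmove χ hχ)
    · refine ⟨y, hyA, ?_, hyS⟩
      intro hya
      have h2 := g.mem_zpowers_of_mem_zpowers hya hy1
      exact hmove χ hχ (Subgroup.zpowers_le.2 hyS h2)
  obtain ⟨lam, hlam⟩ := exists_isWt ρ Q hQc hQk hfaith pr.Q_ne_bot
  obtain ⟨y, hyA, hya, hyS⟩ := hstab lam hlam
  have g' : ElemGen p 𝔸 a y := g.of_mem g.a_mem hyA ha1 hya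
  have hyT : y ∈ Subgroup.normalizer (T : Set Γ) := pr.AT hyA
  have hyp : y ^ p = 1 := g.pow_mem y hyA
  -- the key: `y⁻¹ x⁻¹ y x` fixes `lam`
  have hkey : ∀ x ∈ T, y⁻¹ * x⁻¹ * y * x ∈ charStab Q lam := by
    intro x hx
    have hxQ := pr.TQ hx
    obtain ⟨y', hy'A, hy'a, hy'S⟩ := hstab _ (isWt_conj ρ Q x hxQ lam hlam)
    obtain ⟨i, j, -, -, rfl⟩ := g'.exists_pow hy'A
    have hjp : ¬ p ∣ j := by
      intro hdvd
      apply hy'a
      rw [pow_eq_one_of_dvd y hyp j hdvd, mul_one]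
      exact Subgroup.pow_mem _ (Subgroup.mem_zpowers a) i
    obtain ⟨j', hj'⟩ := exists_pow_pow_eq hp y hyp j hjp
    have hc : Commute (a ^ i) (y ^ j) := Commute.pow_pow (show Commute a y from g'.comm) i j
    have h1 : (a ^ i * y ^ j) ^ j' = a ^ (i * j') * y := by
      rw [hc.mul_pow, ← pow_mul, hj']
    have h2 : a ^ (i * j') * y ∈ charStab Q (conjChar Q x hxQ lam) := by
      rw [← h1]; exact Subgroup.pow_mem _ hy'S j'
    have h3 := charStab_conj_inv Q hxQ h2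
    obtain ⟨φ, hφ⟩ : ∃ φ, φ = a ^ (i * j') := ⟨_, rfl⟩
    rw [← hφ] at h3
    have hφF : φ ∈ Subgroup.zpowers a := by
      rw [hφ]; exact Subgroup.pow_mem _ (Subgroup.mem_zpowers a) _
    have he : y⁻¹ * (x⁻¹ * (φ * y) * x) ∈ charStab Q lam :=
      Subgroup.mul_mem _ (Subgroup.inv_mem _ hyS) h3
    obtain ⟨v, hv⟩ : ∃ v, v = y⁻¹ * x⁻¹ * y * x := ⟨_, rfl⟩
    have hvT : v ∈ T := by
      rw [hv]
      have := conj_mem_of_mem_normalizer' (Subgroup.inv_mem _ hyT) (T.inv_mem hx)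
      rw [inv_inv] at this
      exact T.mul_mem this hx
    have c1 : φ * x = x * φ := commute_zpowers (hTa x hx) hφF
    have c2 : φ * y = y * φ :=
      g.comm_mem φ (Subgroup.zpowers_le.2 g.a_mem hφF) y hyA
    have hid : y⁻¹ * (x⁻¹ * (φ * y) * x) = v * φ := by
      calc y⁻¹ * (x⁻¹ * (φ * y) * x) = y⁻¹ * (x⁻¹ * (y * φ) * x) := by rw [c2]
        _ = y⁻¹ * x⁻¹ * y * (φ * x) := by group
        _ = y⁻¹ * x⁻¹ * y * (x * φ) := by rw [c1]
        _ = v * φ := by rw [hv]; group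
    rw [hid] at he
    have hcomm : Commute v φ := (commute_zpowers (hTa v hvT) hφF).symm
    have hpow : (v * φ) ^ p = v ^ p := by
      rw [hcomm.mul_pow, pow_eq_one_of_mem_zpowers g.ap hφF, mul_one]
    have h4 : v ^ p ∈ charStab Q lam := by
      rw [← hpow]; exact Subgroup.pow_mem _ he p
    rw [← hv]
    exact mem_of_pow_mem_of_isPGroup pr.ht hp htp T _ pr.Tt hvT h4
  -- hence `T` fixes `lam`
  have hTS : T ≤ charStab Q lam := by
    intro z hz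
    have hhi : ∀ x ∈ T, y⁻¹ * x * y⁻¹⁻¹ ∈ T := fun x hx =>
      conj_mem_of_mem_normalizer' (Subgroup.inv_mem _ hyT) hx
    have hfree : ∀ x ∈ T, y⁻¹ * x * y⁻¹⁻¹ = x → x = 1 := by
      intro x hx h1
      apply hTfree y hyA hya x hx
      rw [inv_inv] at h1
      calc y * x * y⁻¹ = y * (y⁻¹ * x * y) * y⁻¹ := by rw [h1]
        _ = x := by group
    obtain ⟨x, hx, hxe⟩ := exists_eq_inv_mul_conj T y⁻¹ hhi hfree z⁻¹ (T.inv_mem hz)
    have h5 : z = y⁻¹ * x⁻¹ * y * x := by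
      have : z = (z⁻¹)⁻¹ := (inv_inv z).symm
      rw [this, hxe]; group
    rw [h5]
    exact hkey x hx
  exact not_isWt_of_char_eq_one ρ Q hCW lam
    (char_eq_one_of_le_charStab Q T lam hTS pr.comm_eq) hlam

end Cfsg.Agent.Helper1.Ward
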