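import Cfsg.Agent.Lead.WardGen
import Cfsg.Agent.Lead.FpqTn
import Cfsg.Agent.Helper1.FermatX

/-!
S3796 (Ward), Part H2: the case `[T, a] = 1`, `[Q, a] = Q`, `Q` non-abelian.
-/

set_option autoImplicit false
set_option linter.style.haveILetI false
set_option linter.unusedSectionVars false

namespace Cfsg.Agent.Helper1.Ward

open scoped BigOperators commutatorElement
open Classical
open Cfsg.Agent.Lead.S3F Cfsg.Agent.Lead.Fpq Cfsg.Agent.Lead.Ward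

variable {k : Type*} [Field k] {Γ : Type*} [Group Γ] [Fintype Γ]
  {W : Type*} [AddCommGroup W] [Module k W] (ρ : Representation k Γ W)
  {p : ℕ} {𝔸 Q T : Subgroup Γ} {a u : Γ} {s t : ℕ}

/-- `C_Q(a) ≤ Z(Q)` for a minimal pair with `[T, a] = 1` and `[Q, a] = Q`. -/
theorem cent_a_central (g : ElemGen p 𝔸 a u) (pr : Pair 𝔸 Q T s t)
    (hTa : ∀ x ∈ T, a * x = x * a) (hQa : ⁅Q, Subgroup.zpowers a⁆ = Q) :
    ∀ c ∈ Q, a * c = c * a → ∀ x ∈ Q, c * x = x * c := by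
  obtain ⟨C, hC⟩ : ∃ C : Subgroup Γ, C = centIn Q (Subgroup.zpowers a) := ⟨_, rfl⟩
  have hCQ : C ≤ Q := by rw [hC]; exact fun _ hx => hx.1
  have hCne : C ≠ Q := by
    intro h
    apply pr.Q_ne_bot
    rw [← hQa, Subgroup.commutator_eq_bot_iff_le_centralizer]
    intro x hx
    rw [Subgroup.mem_centralizer_iff]
    intro n hn
    have h1 : x ∈ C := by rw [h]; exact hx
    rw [hC] at h1
    exact (h1.2 n hn).symm
  have hAC : 𝔸 ≤ Subgroup.normalizer (C : Set Γ) := by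
    intro b hb
    rw [hC]
    exact mem_normalizer_of_conj_mem _ _
      (fun x hx => conj_mem_centIn Q _ (pr.AQ hb) (g.le_normalizer_zpowers g.a_mem hb) hx)
  have hTZa : T ≤ Subgroup.normalizer ((Subgroup.zpowers a : Subgroup Γ) : Set Γ) := by
    have h1 : T ≤ Subgroup.centralizer ((Subgroup.zpowers a : Subgroup Γ) : Set Γ) := by
      intro x hx
      rw [Subgroup.mem_centralizer_iff]
      intro z hz
      exact commute_zpowers (hTa x hx) hz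
    exact h1.trans (Subgroup.centralizer_le_normalizer _)
  have hTC : T ≤ Subgroup.normalizer (C : Set Γ) := by
    intro b hb
    rw [hC]
    exact mem_normalizer_of_conj_mem _ _
      (fun x hx => conj_mem_centIn Q _ (pr.TQ hb) (hTZa hb) hx)
  have hcent := pr.Qmin C hCQ hCne hAC hTC
  -- three subgroups
  have h1 : ⁅(⁅Q, C⁆ : Subgroup Γ), T⁆ = ⊥ := by
    rw [Subgroup.commutator_eq_bot_iff_le_centralizer]
    intro y hy
    rw [Subgroup.mem_centralizer_iff]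
    intro x hx
    have hle : ⁅Q, C⁆ ≤ ⁅Q, Q⁆ := Subgroup.commutator_mono le_rfl hCQ
    exact pr.cent_derived x hx y (hle hy)
  have h2 : ⁅(⁅C, T⁆ : Subgroup Γ), Q⁆ = ⊥ := by
    have : ⁅(C : Subgroup Γ), T⁆ = ⊥ := by
      rw [Subgroup.commutator_eq_bot_iff_le_centralizer]
      intro y hy
      rw [Subgroup.mem_centralizer_iff]
      intro x hx
      exact hcent x hx y hy
    rw [this]
    exact Subgroup.commutator_bot_left Q
  have h3 : ⁅(⁅T, Q⁆ : Subgroup Γ), C⁆ = ⊥ :=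
    Subgroup.commutator_commutator_eq_bot_of_rotate h1 h2
  rw [Subgroup.commutator_comm T Q, pr.comm_eq,
    Subgroup.commutator_eq_bot_iff_le_centralizer] at h3
  intro c hc hac x hx
  have hcC : c ∈ C := by
    rw [hC]
    refine ⟨hc, fun n hn => ?_⟩
    exact (commute_zpowers hac hn).symm
  have h4 := h3 hx
  rw [Subgroup.mem_centralizer_iff] at h4
  exact h4 c hcC

/-- **Part H2**, without the exceptional hypothesis. -/
theorem false_ward_nonabelian' [IsAlgClosed k] [Module.Finite k W] (g : ElemGen p 𝔸 a u)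
    (hpk : (p : k) ≠ 0) (hfix : NoFixA ρ 𝔸) (pr : Pair 𝔸 Q T s t)
    (hna : ∃ x ∈ Q, ∃ y ∈ Q, x * y ≠ y * x)
    (hZk : (Fintype.card (centIn Q Q) : k) ≠ 0)
    [HasEnoughRootsOfUnity k (Monoid.exponent (centIn Q Q))]
    (hfaith : ∀ x ∈ Q, ρ x = 1 → x = 1)
    (hCW : ∀ w : W, (∀ e ∈ centIn Q Q, ρ e w = w) → w = 0)
    (hgenZ : ⁅centIn Q Q, 𝔸⁆ = centIn Q Q) (hTa : ∀ x ∈ T, a * x = x * a)
    (hQa : ⁅Q, Subgroup.zpowers a⁆ = Q)
    (hTfree : ∀ y ∈ 𝔸, y ∉ Subgroup.zpowers a → ∀ x ∈ T, y * x * y⁻¹ = x → x = 1)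
    (hsp : s ≠ p) (htp : t ≠ p) (hsk : (s : k) ≠ 0)
    (hR : ∀ (y : Γ) (M : Submodule k W), y ∈ 𝔸 → y ^ p = 1 →
      (∀ x ∈ T, y * x * y⁻¹ = x → x = 1) →
      (∀ g ∈ Q, ∀ w ∈ M, ρ g w ∈ M) → (∀ x ∈ T, ∀ w ∈ M, ρ x w ∈ M) → (∀ w ∈ M, ρ y w ∈ M) →
      (∀ w ∈ M, ρ y w = w → w = 0) →
      (∀ g ∈ Q, ∀ h ∈ Q, ∃ c : k, ∀ w ∈ M, ρ (g * h * g⁻¹ * h⁻¹) w = c • w) →
      ∀ x ∈ T, ∀ g ∈ Q, ∀ w ∈ M, ρ (x * g * x⁻¹ * g⁻¹) w = w) : False := by
  have hp := g.hp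
  have hZQ : centIn Q Q ≤ Q := fun _ hz => hz.1
  have hZc := Pair.center_comm Q
  have hAZ := pr.A_le_normalizer_center
  have hfaithZ : ∀ x ∈ centIn Q Q, ρ x = 1 → x = 1 := fun x hx => hfaith x (hZQ hx)
  -- the weight spaces are invariant under `Q` and `T`
  have hMQ : ∀ μ : centIn Q Q →* kˣ, ∀ g ∈ Q, ∀ w ∈ wtSpace ρ (centIn Q Q) μ,
      ρ g w ∈ wtSpace ρ (centIn Q Q) μ := by
    intro μ g hg w hw
    apply rho_mem_wtSpace_of_mem_charStab ρ _ μ g _ w hw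
    apply mem_charStab_of_commute
    intro n hn
    exact (hn.2 g hg).symm
  have hMT : ∀ μ : centIn Q Q →* kˣ, ∀ x ∈ T, ∀ w ∈ wtSpace ρ (centIn Q Q) μ,
      ρ x w ∈ wtSpace ρ (centIn Q Q) μ := by
    intro μ x hx w hw
    apply rho_mem_wtSpace_of_mem_charStab ρ _ μ x _ w hw
    apply mem_charStab_of_commute
    intro n hn
    exact pr.cent_center hna x hx n hn
  -- every weight is stabilized by `a`, which has no fixed vectors on the weight space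
  have hall : ∀ μ : centIn Q Q →* kˣ, IsWt ρ (centIn Q Q) μ →
      a ∈ charStab (centIn Q Q) μ ∧ ∀ w ∈ wtSpace ρ (centIn Q Q) μ, ρ a w = w → w = 0 := by
    intro μ hμ
    rcases stab_cases ρ g hpk hfix (centIn Q Q) hZk hAZ μ hμ with h1 | ⟨y, hyA, hy1, hyS, -, hfixy⟩
    · exact absurd hμ (not_isWt_of_char_eq_one ρ _ hCW μ
        (char_eq_one_of_le_charStab _ 𝔸 μ h1 hgenZ))
    · by_cases hya : y ∈ Subgroup.zpowers a
      · have h2 := g.mem_zpowers_of_mem_zpowers hya hy1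
        refine ⟨Subgroup.zpowers_le.2 hyS h2, ?_⟩
        intro w hw haw
        apply hfixy w hw
        obtain ⟨n, rfl⟩ := (mem_powers_iff_mem_zpowers_of_pow hp.pos g.ap).2 hya
        exact rho_pow_fixed ρ a w haw n
      · exfalso
        have hMy : ∀ w ∈ wtSpace ρ (centIn Q Q) μ, ρ y w ∈ wtSpace ρ (centIn Q Q) μ :=
          fun w hw => rho_mem_wtSpace_of_mem_charStab ρ _ μ _ hyS w hw
        have hsc : ∀ g ∈ Q, ∀ h ∈ Q, ∃ c : k, ∀ w ∈ wtSpace ρ (centIn Q Q) μ,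
            ρ (g * h * g⁻¹ * h⁻¹) w = c • w := by
          intro x hx z hz
          have hc : x * z * x⁻¹ * z⁻¹ ∈ centIn Q Q := by
            apply pr.derived_le_center
            have := Subgroup.commutator_mem_commutator hx hz
            rwa [commutatorElement_def] at this
          exact ⟨((μ ⟨_, hc⟩ : kˣ) : k), fun w hw => hw ⟨_, hc⟩⟩
        have key := hR y (wtSpace ρ (centIn Q Q) μ) hyA (g.pow_mem y hyA) (hTfree y hyA hya)
          (hMQ μ) (hMT μ) hMy hfixy hsc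
        have hle := le_fixer_of_comm ρ (wtSpace ρ (centIn Q Q) μ) Q T pr.comm_eq key
        exact false_of_le_fixer ρ _ Q hZQ hCW μ hμ hle
  -- `a` centralizes `Z(Q)`
  have haZ0 : ∀ n ∈ centIn Q Q, a * n = n * a :=
    commute_of_forall_mem_charStab ρ (centIn Q Q) hZc hZk hfaithZ (fun χ hχ => (hall χ hχ).1)
  -- `a` has no fixed vectors
  have hafix : ∀ w : W, ρ a w = w → w = 0 := by
    intro w hw
    apply eq_zero_of_wtProj_eq_zero ρ (centIn Q Q) hZc hZk w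
    intro χ
    by_contra h0
    have hmem : wtProj ρ (centIn Q Q) χ w ∈ wtSpace ρ (centIn Q Q) χ :=
      wtProj_apply_mem ρ (centIn Q Q) χ w
    have hχ : IsWt ρ (centIn Q Q) χ := ⟨_, hmem, h0⟩
    obtain ⟨⟨ha1, ha2⟩, hfx⟩ := hall χ hχ
    apply h0
    apply hfx _ hmem
    have h1 := rho_mul_wtProj_conj ρ (centIn Q Q) a ha1 χ
    rw [ha2] at h1
    have h2 := LinearMap.congr_fun h1 w
    rw [Module.End.mul_apply, Module.End.mul_apply, hw] at h2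
    exact h2
  -- the exceptional lemma
  have hclass : ∀ x ∈ Q, ∀ h ∈ Q, ∀ z ∈ Q,
      (x * h * x⁻¹ * h⁻¹) * z = z * (x * h * x⁻¹ * h⁻¹) := by
    intro x hx h hh z hz
    have hc : x * h * x⁻¹ * h⁻¹ ∈ centIn Q Q := by
      apply pr.derived_le_center
      have := Subgroup.commutator_mem_commutator hx hh
      rwa [commutatorElement_def] at this
    exact hc.2 z hz
  have key := Cfsg.Agent.Helper1.FermatX.comm_central_of_fpf ρ hp pr.hs pr.ht hsp htp hpk hsk Q T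
    pr.Qs pr.Tt a g.ap pr.TQ (pr.AQ g.a_mem) hTa hclass
    (fun z hz hzc => haZ0 z ⟨hz, hzc⟩)
    (fun z hz hzc y hy => pr.cent_center hna y hy z ⟨hz, hzc⟩)
    (cent_a_central g pr hTa hQa) hfaith hafix
  -- `Q = [Q, T]` is abelian
  have hle : ⁅Q, T⁆ ≤ centIn Q Q := by
    rw [Subgroup.commutator_le]
    intro x hx y hy
    have h1 : ⁅x, y⁆ = (y * x * y⁻¹ * x⁻¹)⁻¹ := by
      rw [commutatorElement_def]; group
    rw [h1]
    apply Subgroup.inv_mem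
    refine ⟨?_, fun n hn => key y hy x hx n hn⟩
    exact Q.mul_mem (conj_mem_of_mem_normalizer' (pr.TQ hy) hx) (Q.inv_mem hx)
  rw [pr.comm_eq] at hle
  obtain ⟨x, hx, y, hy, hxy⟩ := hna
  exact hxy ((hle hx).2 y hy)

/-- **Part H2**, with the signature of the plan (the hypothesis `hE` is not used). -/
theorem false_ward_nonabelian [IsAlgClosed k] [Module.Finite k W] (g : ElemGen p 𝔸 a u)
    (hpk : (p : k) ≠ 0) (hfix : NoFixA ρ 𝔸) (pr : Pair 𝔸 Q T s t)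
    (hna : ∃ x ∈ Q, ∃ y ∈ Q, x * y ≠ y * x)
    (hZk : (Fintype.card (centIn Q Q) : k) ≠ 0)
    [HasEnoughRootsOfUnity k (Monoid.exponent (centIn Q Q))]
    (hfaith : ∀ x ∈ Q, ρ x = 1 → x = 1)
    (hCW : ∀ w : W, (∀ e ∈ centIn Q Q, ρ e w = w) → w = 0)
    (hgenZ : ⁅centIn Q Q, 𝔸⁆ = centIn Q Q) (hTa : ∀ x ∈ T, a * x = x * a)
    (hQa : ⁅Q, Subgroup.zpowers a⁆ = Q)
    (hTfree : ∀ y ∈ 𝔸, y ∉ Subgroup.zpowers a → ∀ x ∈ T, y * x * y⁻¹ = x → x = 1)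
    (hsp : s ≠ p) (htp : t ≠ p) (hsk : (s : k) ≠ 0)
    (hR : ∀ (y : Γ) (M : Submodule k W), y ∈ 𝔸 → y ^ p = 1 →
      (∀ x ∈ T, y * x * y⁻¹ = x → x = 1) →
      (∀ g ∈ Q, ∀ w ∈ M, ρ g w ∈ M) → (∀ x ∈ T, ∀ w ∈ M, ρ x w ∈ M) → (∀ w ∈ M, ρ y w ∈ M) →
      (∀ w ∈ M, ρ y w = w → w = 0) →
      (∀ g ∈ Q, ∀ h ∈ Q, ∃ c : k, ∀ w ∈ M, ρ (g * h * g⁻¹ * h⁻¹) w = c • w) →
      ∀ x ∈ T, ∀ g ∈ Q, ∀ w ∈ M, ρ (x * g * x⁻¹ * g⁻¹) w = w)
    (_hE : s = 2 → (∃ n : ℕ, p = 2 ^ n + 1) → ∀ μ : centIn Q Q →* kˣ, IsWt ρ (centIn Q Q) μ →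
      a ∈ charStab (centIn Q Q) μ → (∀ w ∈ wtSpace ρ (centIn Q Q) μ, ρ a w = w → w = 0) →
      False) : False :=
  false_ward_nonabelian' ρ g hpk hfix pr hna hZk hfaith hCW hgenZ hTa hQa hTfree hsp htp hsk hR

end Cfsg.Agent.Helper1.Ward
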