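import Mathlib
import Cfsg.Prelude.Def_Transfer
import Cfsg.Agent.Helper1.Basic
import Cfsg.Agent.Helper1.Coprime
import Cfsg.Agent.Helper1.Fusion

set_option autoImplicit false

/-!
Weakly closed subgroups.
-/

namespace Cfsg.Agent.Helper1

open scoped Pointwise

universe u

variable {G : Type u} [Group G]

theorem weaklyClosed_iff_normal_in_sylows [Finite G] {p : ℕ} [Fact p.Prime] (P : Sylow p G)
    (Z : Subgroup G) (hZP : Z ≤ (P : Subgroup G))
    (hZN : Subgroup.normalizer (P : Set G) ≤ Subgroup.normalizer (Z : Set G)) :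
    Cfsg.IsWeaklyClosed Z P ↔
      ∀ R : Sylow p G, Z ≤ (R : Subgroup G) → (R : Subgroup G) ≤ Subgroup.normalizer (Z : Set G) := by
  have hPN : (P : Subgroup G) ≤ Subgroup.normalizer (Z : Set G) :=
    (Subgroup.le_normalizer (H := (P : Subgroup G))).trans hZN
  constructor
  · intro hW R hZR
    obtain ⟨g, hg⟩ := MulAction.exists_smul_eq G P R
    have hR : (R : Subgroup G) = MulAut.conj g • (P : Subgroup G) := by
      rw [← hg, Sylow.coe_subgroup_smul]
    have h1 : Z.map (MulAut.conj g⁻¹).toMonoidHom ≤ (P : Subgroup G) := by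
      rintro _ ⟨z, hz, rfl⟩
      have hzR := hZR hz
      rw [hR, mem_conj_smul] at hzR
      simpa [MulAut.conj_apply] using hzR
    have h2 := hW.2 g⁻¹ h1
    rw [← conj_smul_eq_map] at h2
    have hgN : g ∈ Subgroup.normalizer (Z : Set G) := by
      have := mem_normalizer_of_conj_smul_eq h2
      simpa using Subgroup.inv_mem _ this
    intro r hr
    rw [hR, mem_conj_smul] at hr
    have h3 := hPN hr
    have : r = g * (g⁻¹ * r * g) * g⁻¹ := by group
    rw [this]
    exact Subgroup.mul_mem _ (Subgroup.mul_mem _ hgN h3) (Subgroup.inv_mem _ hgN)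
  · intro hall
    refine ⟨hZP, fun g hg => ?_⟩
    rw [← conj_smul_eq_map] at hg ⊢
    -- `Z ≤ g⁻¹ • P`
    have hZR : Z ≤ ((g⁻¹ • P : Sylow p G) : Subgroup G) := by
      intro z hz
      rw [Sylow.coe_subgroup_smul, mem_conj_smul]
      have := hg (conj_mem_conj_smul (g := g) hz)
      simpa using this
    have hRN := hall (g⁻¹ • P) hZR
    obtain ⟨c, hc, hc'⟩ := sylow_conj_in_subgroup (Subgroup.normalizer (Z : Set G)) P (g⁻¹ • P)
      hPN hRN
    rw [Sylow.coe_subgroup_smul] at hc'
    -- `g c` normalizes `P`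
    have h4 : MulAut.conj (g * c) • (P : Subgroup G) = (P : Subgroup G) := by
      rw [map_mul, mul_smul, hc', ← mul_smul, ← map_mul, mul_inv_cancel, map_one, one_smul]
    have h5 : g * c ∈ Subgroup.normalizer (Z : Set G) :=
      hZN (mem_normalizer_of_conj_smul_eq h4)
    have h6 : g ∈ Subgroup.normalizer (Z : Set G) := by
      have : g = (g * c) * c⁻¹ := by group
      rw [this]
      exact Subgroup.mul_mem _ h5 (Subgroup.inv_mem _ hc)
    exact conj_smul_eq_of_mem_normalizer h6

end Cfsg.Agent.Helper1
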