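import Mathlib
import Cfsg.Agent.Helper1.RelSubnormal
import Cfsg.Agent.Helper5.SubnormalClosure

set_option autoImplicit false

/-!
Matsuyama-type lemma: if `⟨(Z^g)^Y⟩` is a `p`-group for all `g`, then `Y` normalises the weak
closure of `Z` in some Sylow `p`-subgroup.
-/

namespace Cfsg.Agent.Helper1

open scoped Pointwise

universe u

variable {G : Type u} [Group G] [Finite G]

theorem weak_closure_normalized (p : ℕ) [Fact p.Prime] (Z Y : Subgroup G)
    (h : ∀ g : G, IsPGroup p ↥(⨆ y ∈ Y, MulAut.conj (y * g) • Z)) :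
    ∃ P : Sylow p G, Y ≤ Subgroup.normalizer
      ((⨆ g ∈ {g : G | MulAut.conj g • Z ≤ (P : Subgroup G)}, MulAut.conj g • Z : Subgroup G) :
        Set G) := by
  -- the family of conjugates of `Z` inside a subgroup
  let Fam : Subgroup G → Set (Subgroup G) := fun Q => {B | (∃ g : G, B = MulAut.conj g • Z) ∧ B ≤ Q}
  have hFam_mono : ∀ {Q Q' : Subgroup G}, Q ≤ Q' → Fam Q ⊆ Fam Q' :=
    fun hQ B hB => ⟨hB.1, hB.2.trans hQ⟩
  let 𝒬 : Set (Subgroup G) := {Q | IsPGroup p Q ∧ Q = sSup (Fam Q) ∧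
    Y ≤ Subgroup.normalizer (Q : Set G)}
  have hbot : (⊥ : Subgroup G) ∈ 𝒬 := by
    refine ⟨IsPGroup.of_bot, ?_, ?_⟩
    · symm
      rw [eq_bot_iff]
      exact sSup_le (fun B hB => hB.2)
    · rw [Subgroup.normalizer_eq_top]; exact le_top
  obtain ⟨Q, -, hQmax⟩ := (Set.toFinite 𝒬).exists_le_maximal hbot
  obtain ⟨hQp, hQW, hQY⟩ : Q ∈ 𝒬 := hQmax.prop
  obtain ⟨P, hQP⟩ := hQp.exists_le_sylow
  refine ⟨P, ?_⟩
  have hform : (⨆ g ∈ {g : G | MulAut.conj g • Z ≤ (P : Subgroup G)}, MulAut.conj g • Z :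
      Subgroup G) = sSup (Fam P) := by
    apply le_antisymm
    · exact iSup₂_le (fun g hg => le_sSup ⟨⟨g, rfl⟩, hg⟩)
    · apply sSup_le
      rintro B ⟨⟨g, rfl⟩, hg⟩
      exact le_iSup₂ (f := fun g (_ : g ∈ {g : G | MulAut.conj g • Z ≤ (P : Subgroup G)}) =>
        MulAut.conj g • Z) g hg
  rw [hform]
  suffices hPQ : sSup (Fam P) = Q by rw [hPQ]; exact hQY
  by_contra hne
  have hss : Fam Q ⊂ Fam P := by
    refine lt_of_le_of_ne (hFam_mono hQP) ?_
    intro heq
    apply hne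
    rw [← heq, ← hQW]
  have : Group.IsNilpotent (P : Subgroup G) := P.2.isNilpotent
  obtain ⟨X, hXP, hXQ, hXN⟩ := subnormal_family_normalizes_join_rel (P : Subgroup G)
    (Fam P) (Fam Q)
    (fun B hB => ⟨hB.2, Cfsg.Agent.Helper5.isSubnormal_of_isNilpotent _⟩)
    (by
      rintro B ⟨⟨g, rfl⟩, hg⟩ x hx
      refine ⟨⟨x * g, by rw [map_mul, mul_smul]⟩, ?_⟩
      intro t ht
      rw [mem_conj_smul] at ht
      have := (P : Subgroup G).mul_mem ((P : Subgroup G).mul_mem hx (hg ht))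
        ((P : Subgroup G).inv_mem hx)
      simpa [mul_assoc] using this)
    hss
  rw [← hQW] at hXN
  obtain ⟨⟨g, rfl⟩, hgP⟩ := hXP
  set T : Subgroup G := ⨆ y ∈ Y, MulAut.conj (y * g) • Z with hT
  have hTp : IsPGroup p T := h g
  have hTN : T ≤ Subgroup.normalizer (Q : Set G) := by
    rw [hT]
    apply iSup₂_le
    intro y hy t ht
    rw [map_mul, mul_smul, mem_conj_smul] at ht
    have h1 := hXN ht
    have h2 := hQY hy
    have := (Subgroup.normalizer (Q : Set G)).mul_mem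
      ((Subgroup.normalizer (Q : Set G)).mul_mem h2 h1)
      ((Subgroup.normalizer (Q : Set G)).inv_mem h2)
    simpa [mul_assoc] using this
  have hXT : MulAut.conj g • Z ≤ T := by
    have := le_iSup₂ (f := fun y (_ : y ∈ Y) => MulAut.conj (y * g) • Z) 1 Y.one_mem
    rw [one_mul] at this
    exact this
  have hYT : Y ≤ Subgroup.normalizer (T : Set G) := by
    apply le_normalizer_of_forall_conj_mem
    intro y' hy' t ht
    have hle : T ≤ MulAut.conj y'⁻¹ • T := by
      rw [hT]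
      apply iSup₂_le
      intro y hy t ht
      rw [mem_conj_smul]
      simp only [inv_inv]
      have h1 : y' * t * y'⁻¹ ∈ MulAut.conj (y' * y * g) • Z := by
        rw [mul_assoc, map_mul, mul_smul]
        exact conj_mem_conj_smul ht
      exact le_iSup₂ (f := fun y (_ : y ∈ Y) => MulAut.conj (y * g) • Z) (y' * y)
        (Y.mul_mem hy' hy) h1
    have := hle ht
    rw [mem_conj_smul] at this
    simpa using this
  have hQ1 : Q ⊔ T ∈ 𝒬 := by
    refine ⟨IsPGroup.to_sup_of_normal_left' hQp hTp hTN, ?_, ?_⟩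
    · apply le_antisymm
      · apply sup_le
        · conv_lhs => rw [hQW]
          exact sSup_le_sSup (hFam_mono le_sup_left)
        · rw [hT]
          apply iSup₂_le
          intro y hy
          apply le_sSup
          refine ⟨⟨y * g, rfl⟩, le_trans ?_ le_sup_right⟩
          exact le_iSup₂ (f := fun y (_ : y ∈ Y) => MulAut.conj (y * g) • Z) y hy
      · exact sSup_le (fun B hB => hB.2)
    · intro y hy
      exact mem_normalizer_sup (hQY hy) (hYT hy)
  have hle : Q ⊔ T ≤ Q := hQmax.2 hQ1 le_sup_left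
  exact hXQ ⟨⟨g, rfl⟩, hXT.trans (le_sup_right.trans hle)⟩

end Cfsg.Agent.Helper1
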