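import Mathlib
import Cfsg.Agent.Helper1.Basic
import Cfsg.Agent.Helper1.Coprime
import Cfsg.Agent.Helper1.SZ

set_option autoImplicit false

/-!
A factorization criterion for solvability (Wielandt).
-/

namespace Cfsg.Agent.Helper1

open scoped Pointwise

universe u

/-- If `G = H₁ H₂`, `p ∤ |G : H₂|` and `N` is a nontrivial `p`-subgroup normalized by `H₁`,
then the normal closure of `N` lies in `H₂`. -/
theorem normalClosure_le_of_factorization {G : Type u} [Group G] [Finite G]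
    (H₁ H₂ : Subgroup G) (h12 : ∀ g : G, ∃ x ∈ H₁, ∃ y ∈ H₂, g = x * y) (p : ℕ) [hp : Fact p.Prime]
    (hidx : ¬ p ∣ H₂.index) (N : Subgroup G) (hN : IsPGroup p N)
    (hNH : H₁ ≤ Subgroup.normalizer (N : Set G)) :
    Subgroup.normalClosure (N : Set G) ≤ H₂ := by
  -- a Sylow p-subgroup of G inside H₂
  obtain ⟨P₂⟩ : Nonempty (Sylow p H₂) := inferInstance
  have hP₂card : Nat.card ((P₂ : Subgroup H₂).map H₂.subtype) =
      p ^ (Nat.card G).factorization p := by
    rw [Subgroup.card_map_of_injective H₂.subtype_injective, P₂.card_eq_multiplicity,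
      ← H₂.card_mul_index, Nat.factorization_mul Nat.card_pos.ne' Subgroup.index_ne_zero_of_finite,
      Finsupp.add_apply, Nat.factorization_eq_zero_of_not_dvd hidx, add_zero]
  set P₂' : Sylow p G := Sylow.ofCard _ hP₂card with hP₂'
  have hP₂'le : (P₂' : Subgroup G) ≤ H₂ := by
    rw [hP₂', Sylow.coe_ofCard]; exact Subgroup.map_subtype_le _
  obtain ⟨P, hNP⟩ := hN.exists_le_sylow
  obtain ⟨g, hg⟩ := MulAction.exists_smul_eq G P₂' P
  obtain ⟨x, hx, y, hy, rfl⟩ := h12 g
  have hNle : N ≤ H₂ := by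
    have h1 : N ≤ MulAut.conj (x * y) • (P₂' : Subgroup G) := by
      rw [← Sylow.coe_subgroup_smul, hg]; exact hNP
    have h2 : MulAut.conj x⁻¹ • N ≤ MulAut.conj x⁻¹ • MulAut.conj (x * y) • (P₂' : Subgroup G) := by
      intro z hz
      rw [mem_conj_smul] at hz ⊢
      exact h1 hz
    rw [conj_smul_eq_of_mem_normalizer (hNH (H₁.inv_mem hx)), ← mul_smul, ← map_mul,
      inv_mul_cancel_left] at h2
    refine h2.trans ?_
    intro z hz
    rw [mem_conj_smul] at hz
    have := hP₂'le hz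
    have h3 : z = y * (y⁻¹ * z * y) * y⁻¹ := by group
    rw [h3]
    exact H₂.mul_mem (H₂.mul_mem hy this) (H₂.inv_mem hy)
  rw [Subgroup.normalClosure, Subgroup.closure_le]
  intro z hz
  obtain ⟨n, hn, hconj⟩ := Group.mem_conjugatesOfSet_iff.1 hz
  obtain ⟨c, rfl⟩ := isConj_iff.1 hconj
  obtain ⟨x', hx', y', hy', hc⟩ := h12 c⁻¹
  have hc' : c = y'⁻¹ * x'⁻¹ := by
    have : c = (c⁻¹)⁻¹ := (inv_inv c).symm
    rw [this, hc]; group
  have h4 : x'⁻¹ * n * (x'⁻¹)⁻¹ ∈ N :=
    (Subgroup.mem_normalizer_iff.1 (hNH (H₁.inv_mem hx')) n).1 hn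
  have h5 : c * n * c⁻¹ = y'⁻¹ * (x'⁻¹ * n * (x'⁻¹)⁻¹) * y' := by rw [hc']; group
  rw [SetLike.mem_coe, h5]
  exact H₂.mul_mem (H₂.mul_mem (H₂.inv_mem hy') (hNle h4)) hy'

theorem isSolvable_of_three_factorization : ∀ (k : ℕ) (G : Type u) [Group G] [Finite G],
    Nat.card G = k → ∀ (H₁ H₂ H₃ : Subgroup G), Group.IsSolvable H₁ → Group.IsSolvable H₂ →
    Group.IsSolvable H₃ → (∀ g : G, ∃ x ∈ H₁, ∃ y ∈ H₂, g = x * y) →
    (∀ g : G, ∃ x ∈ H₁, ∃ y ∈ H₃, g = x * y) → H₂.index.Coprime H₃.index →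
    Group.IsSolvable G := by
  intro k
  induction k using Nat.strong_induction_on with
  | _ k ih =>
  intro G _ _ hk H₁ H₂ H₃ h₁ h₂ h₃ h12 h13 hcop
  by_cases hH₁ : H₁ = ⊥
  · -- G = H₂
    have htop : H₂ = ⊤ := by
      rw [eq_top_iff]
      intro g _
      obtain ⟨x, hx, y, hy, rfl⟩ := h12 g
      rw [hH₁, Subgroup.mem_bot] at hx
      rw [hx, one_mul]; exact hy
    have : Group.IsSolvable (⊤ : Subgroup G) := htop ▸ h₂
    exact Group.isSolvable_of_isSolvable_injective
      (f := (Subgroup.topEquiv (G := G)).symm.toMonoidHom) (Subgroup.topEquiv.symm.injective)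
  · have hnt : Nontrivial H₁ := (Subgroup.nontrivial_iff_ne_bot _).2 hH₁
    obtain ⟨p, hp, M, hMn, hMne, hMp, -, -⟩ := exists_normal_pgroup_of_solvable H₁
    set N := M.map H₁.subtype with hN
    have hNp : IsPGroup p N := hMp.map _
    have hNne : N ≠ ⊥ := by
      intro h
      apply hMne
      rw [hN, Subgroup.map_eq_bot_iff_of_injective _ H₁.subtype_injective] at h
      exact h
    have hNH : H₁ ≤ Subgroup.normalizer (N : Set G) := by
      intro x hx
      rw [Subgroup.mem_normalizer_iff]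
      intro z
      constructor
      · rintro ⟨m, hm, rfl⟩
        exact ⟨⟨x, hx⟩ * m * ⟨x, hx⟩⁻¹, hMn.conj_mem m hm _, by simp⟩
      · intro hz
        obtain ⟨m, hm, hmz⟩ := hz
        have h1 := hMn.conj_mem m hm (⟨x, hx⟩⁻¹ : H₁)
        refine ⟨⟨x, hx⟩⁻¹ * m * (⟨x, hx⟩⁻¹ : H₁)⁻¹, h1, ?_⟩
        have : H₁.subtype m = x * z * x⁻¹ := hmz
        simp only [Subgroup.subtype_apply] at this
        simp only [Subgroup.subtype_apply, Subgroup.coe_mul, Subgroup.coe_inv, inv_inv, this]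
        group
    -- a nontrivial normal solvable subgroup K
    have hK : ∃ K : Subgroup G, K.Normal ∧ K ≠ ⊥ ∧ Group.IsSolvable K := by
      have hor : ¬ p ∣ H₂.index ∨ ¬ p ∣ H₃.index := by
        by_contra hcon
        push Not at hcon
        have := Nat.dvd_gcd hcon.1 hcon.2
        rw [hcop.gcd_eq_one] at this
        exact hp.out.one_lt.ne' (Nat.dvd_one.1 this)
      have hKne : Subgroup.normalClosure (N : Set G) ≠ ⊥ := by
        intro h
        apply hNne
        rw [eq_bot_iff, ← h]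
        exact Subgroup.le_normalClosure
      rcases hor with h | h
      · exact ⟨_, Subgroup.normalClosure_normal, hKne, isSolvable_of_le
          (normalClosure_le_of_factorization H₁ H₂ h12 p h N hNp hNH) h₂⟩
      · exact ⟨_, Subgroup.normalClosure_normal, hKne, isSolvable_of_le
          (normalClosure_le_of_factorization H₁ H₃ h13 p h N hNp hNH) h₃⟩
    obtain ⟨K, hKn, hKne, hKs⟩ := hK
    have hlt : Nat.card (G ⧸ K) < k := by
      rw [← hk, ← Subgroup.index_eq_card, ← K.card_mul_index]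
      have h1 : 1 < Nat.card K := by
        rw [Nat.one_lt_iff_ne_zero_and_ne_one]
        exact ⟨Nat.card_pos.ne', fun h1 => hKne (Subgroup.card_eq_one.1 h1)⟩
      have h2 : 0 < K.index := Nat.pos_of_ne_zero Subgroup.index_ne_zero_of_finite
      nlinarith
    have hsolvmap : ∀ H : Subgroup G, Group.IsSolvable H →
        Group.IsSolvable (H.map (QuotientGroup.mk' K)) := fun H hH =>
      Group.isSolvable_of_surjective ((QuotientGroup.mk' K).subgroupMap_surjective H)
    have hfact : ∀ H H' : Subgroup G, (∀ g : G, ∃ x ∈ H, ∃ y ∈ H', g = x * y) →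
        ∀ g : G ⧸ K, ∃ x ∈ H.map (QuotientGroup.mk' K), ∃ y ∈ H'.map (QuotientGroup.mk' K),
          g = x * y := by
      intro H H' hHH' g
      obtain ⟨g, rfl⟩ := QuotientGroup.mk'_surjective K g
      obtain ⟨x, hx, y, hy, rfl⟩ := hHH' g
      exact ⟨_, ⟨x, hx, rfl⟩, _, ⟨y, hy, rfl⟩, map_mul _ _ _⟩
    have hcop' : (H₂.map (QuotientGroup.mk' K)).index.Coprime
        (H₃.map (QuotientGroup.mk' K)).index :=
      Nat.Coprime.coprime_dvd_left (H₂.index_map_dvd (QuotientGroup.mk'_surjective K))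
        (Nat.Coprime.coprime_dvd_right (H₃.index_map_dvd (QuotientGroup.mk'_surjective K)) hcop)
    have hQ : Group.IsSolvable (G ⧸ K) :=
      ih _ hlt (G ⧸ K) rfl _ _ _ (hsolvmap H₁ h₁) (hsolvmap H₂ h₂) (hsolvmap H₃ h₃)
        (hfact H₁ H₂ h12) (hfact H₁ H₃ h13) hcop'
    exact Group.isSolvable_of_ker_le_range K.subtype (QuotientGroup.mk' K)
      (by rw [QuotientGroup.ker_mk', Subgroup.range_subtype])

end Cfsg.Agent.Helper1
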