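import Mathlib
import Cfsg.Agent.Helper1.RelSubnormal

set_option autoImplicit false

/-!
Wielandt's zipper lemma.
-/

namespace Cfsg.Agent.Helper1

open scoped Pointwise

universe u

variable {G : Type u} [Group G] [Finite G]

theorem zipper_aux (A : Subgroup G) (U : Set (Subgroup G))
    (S : Subgroup G → Set (Subgroup G))
    (hS : ∀ V B : Subgroup G, B ∈ S V ↔ (∃ g : G, B = MulAut.conj g • A) ∧ B ≤ V ∧
      (B.subgroupOf V).IsSubnormal)
    (h2 : ∀ V ∈ U, ∀ W ∈ U, ∀ B ∈ S W, B ≤ V → B ∈ S V)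
    (V W M : Subgroup G) (hV : Maximal (· ∈ U) V) (hM : Maximal (· ∈ U) M)
    (hN : Subgroup.normalizer ((sSup (S V ∩ S W) : Subgroup G) : Set G) ≤ M)
    (hmax : ∀ V', Maximal (· ∈ U) V' → V' ≠ M → (S V' ∩ S M).ncard ≤ (S V ∩ S W).ncard) :
    V = M := by
  by_contra hVM
  have hconjV : ∀ B ∈ S V, ∀ v ∈ V, MulAut.conj v • B ∈ S V := by
    intro B hB v hv
    obtain ⟨⟨g, rfl⟩, hBV, hBsn⟩ := (hS V B).1 hB
    have hvV : MulAut.conj v • V = V :=
      conj_smul_eq_of_mem_normalizer (Subgroup.le_normalizer hv)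
    refine (hS V _).2 ⟨⟨v * g, ?_⟩, ?_, ?_⟩
    · rw [map_mul, mul_smul]
    · rw [← hvV]
      intro x hx
      rw [mem_conj_smul] at hx ⊢
      exact hBV hx
    · have := relSubnormal_conj v hBsn
      rwa [hvV] at this
  by_cases hSig : S V ∩ S W = S V
  · -- `V` normalises the join
    have hVN : V ≤ Subgroup.normalizer ((sSup (S V ∩ S W) : Subgroup G) : Set G) := by
      rw [hSig]
      apply le_normalizer_of_forall_conj_mem
      intro v hv w hw
      have hle : sSup (S V) ≤ MulAut.conj v⁻¹ • sSup (S V) := by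
        apply sSup_le
        intro B hB
        have hB' := hconjV B hB v hv
        intro b hb
        rw [mem_conj_smul]
        simp only [inv_inv]
        exact le_sSup hB' (conj_mem_conj_smul hb)
      have := hle hw
      rw [mem_conj_smul] at this
      simpa using this
    exact hVM (le_antisymm (hVN.trans hN) (hV.2 hM.1 (hVN.trans hN)))
  · have hss : S V ∩ S W ⊂ S V :=
      lt_of_le_of_ne Set.inter_subset_left hSig
    obtain ⟨B, hBS, hBn, hBN⟩ := subnormal_family_normalizes_join_rel V (S V) (S V ∩ S W)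
      (fun B hB => ((hS V B).1 hB).2) hconjV hss
    have hBM : B ∈ S M := h2 M hM.1 V hV.1 B hBS (hBN.trans hN)
    have hsub : S V ∩ S W ⊂ S V ∩ S M := by
      refine ⟨?_, ?_⟩
      · intro B' hB'
        refine ⟨hB'.1, h2 M hM.1 V hV.1 B' hB'.1 ?_⟩
        exact (le_sSup hB').trans (Subgroup.le_normalizer.trans hN)
      · intro hle
        exact hBn (hle ⟨hBS, hBM⟩)
    have := Set.ncard_lt_ncard hsub (Set.toFinite _)
    have := hmax V hV hVM
    omega

theorem zipper (A : Subgroup G) (U : Set (Subgroup G)) (hU : U.Nonempty)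
    (S : Subgroup G → Set (Subgroup G))
    (hS : ∀ V B : Subgroup G, B ∈ S V ↔ (∃ g : G, B = MulAut.conj g • A) ∧ B ≤ V ∧
      (B.subgroupOf V).IsSubnormal)
    (h2 : ∀ V ∈ U, ∀ W ∈ U, ∀ B ∈ S W, B ≤ V → B ∈ S V)
    (h3 : ∀ V ∈ U, ∀ W ∈ U, ∃ X ∈ U,
      Subgroup.normalizer ((sSup (S V ∩ S W) : Subgroup G) : Set G) ≤ X) :
    ∃ M ∈ U, ∀ V ∈ U, V ≤ M := by
  by_contra hno
  push Not at hno
  have hfin : U.Finite := Set.toFinite U
  -- the type of pairs of distinct maximal members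
  let P := {p : Subgroup G × Subgroup G // Maximal (· ∈ U) p.1 ∧ Maximal (· ∈ U) p.2 ∧ p.1 ≠ p.2}
  have hPne : Nonempty P := by
    obtain ⟨V₀, hV₀⟩ := hU
    obtain ⟨M₀, -, hM₀⟩ := hfin.exists_le_maximal hV₀
    obtain ⟨V₁, hV₁, hV₁M⟩ := hno M₀ hM₀.1
    obtain ⟨M₁, hVM₁, hM₁⟩ := hfin.exists_le_maximal hV₁
    refine ⟨⟨(M₀, M₁), hM₀, hM₁, ?_⟩⟩
    intro h
    apply hV₁M
    show V₁ ≤ M₀
    rw [show M₀ = M₁ from h]
    exact hVM₁
  obtain ⟨⟨⟨V, W⟩, hV, hW, hVW⟩, hmax⟩ :=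
    Finite.exists_max (fun p : P => (S p.1.1 ∩ S p.1.2).ncard)
  simp only at hV hW hVW
  have hmax' : ∀ V' W', Maximal (· ∈ U) V' → Maximal (· ∈ U) W' → V' ≠ W' →
      (S V' ∩ S W').ncard ≤ (S V ∩ S W).ncard := by
    intro V' W' hV' hW' hne
    exact hmax ⟨(V', W'), hV', hW', hne⟩
  obtain ⟨X, hXU, hXN⟩ := h3 V hV.1 W hW.1
  obtain ⟨M, hXM, hM⟩ := hfin.exists_le_maximal hXU
  have hN : Subgroup.normalizer ((sSup (S V ∩ S W) : Subgroup G) : Set G) ≤ M := hXN.trans hXM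
  have e1 : V = M := zipper_aux A U S hS h2 V W M hV hM hN
    (fun V' hV' hne => hmax' V' M hV' hM hne)
  have e2 : W = M := by
    apply zipper_aux A U S hS h2 W V M hW hM
    · rwa [Set.inter_comm]
    · intro V' hV' hne
      rw [Set.inter_comm (S W)]
      exact hmax' V' M hV' hM hne
  exact hVW (e1.trans e2.symm)

end Cfsg.Agent.Helper1
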