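import Mathlib
import Cfsg.Agent.Helper1.Zipper

set_option autoImplicit false

/-!
Wielandt's subnormality criterion : `A ⊴⊴ ⟨A, A^g⟩` for all `g` implies `A ⊴⊴ G`.
-/

namespace Cfsg.Agent.Helper1

open scoped Pointwise

universe u

theorem conj_smul_sup {G : Type u} [Group G] (g : G) (H K : Subgroup G) :
    MulAut.conj g • (H ⊔ K) = MulAut.conj g • H ⊔ MulAut.conj g • K := by
  rw [conj_smul_eq_map, conj_smul_eq_map, conj_smul_eq_map, Subgroup.map_sup]

theorem wielandt_crit_aux : ∀ (n : ℕ) (G : Type u) [Group G] [Finite G], Nat.card G = n →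
    ∀ A : Subgroup G, (∀ g : G, (A.subgroupOf (A ⊔ MulAut.conj g • A)).IsSubnormal) →
      A.IsSubnormal := by
  intro n
  induction n using Nat.strong_induction_on with
  | _ n ih =>
  intro G _ _ hn A h
  by_cases hAtop : A = ⊤
  · rw [hAtop]; exact Subgroup.IsSubnormal.top
  by_contra hnot
  -- Claim 1
  have claim1 : ∀ V B : Subgroup G, V ≠ ⊤ → B ≤ V →
      (∀ g : G, (B.subgroupOf (B ⊔ MulAut.conj g • B)).IsSubnormal) →
      (B.subgroupOf V).IsSubnormal := by
    intro V B hV hBV hB
    have hlt : Nat.card V < n := by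
      rw [← hn, ← Subgroup.card_top (G := G)]
      exact card_lt_card_of_lt (lt_top_iff_ne_top.2 hV)
    apply ih _ hlt V rfl
    intro v
    rw [← isSubnormal_subgroupOf_map_iff V.subtype V.subtype_injective, Subgroup.map_sup,
      map_conj_smul, Subgroup.map_subgroupOf_eq_of_le hBV]
    exact hB v
  -- Claim 2
  have claim2 : ∀ g x : G, ((MulAut.conj g • A).subgroupOf
      (MulAut.conj g • A ⊔ MulAut.conj x • MulAut.conj g • A)).IsSubnormal := by
    intro g x
    have h1 := relSubnormal_conj g (h (g⁻¹ * x * g))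
    rw [conj_smul_sup, ← mul_smul, ← map_mul] at h1
    rw [← mul_smul, ← map_mul]
    have : g * (g⁻¹ * x * g) = x * g := by group
    rwa [this] at h1
  let U : Set (Subgroup G) := {V | A ≤ V ∧ V ≠ ⊤}
  let S : Subgroup G → Set (Subgroup G) := fun V =>
    {B | (∃ g : G, B = MulAut.conj g • A) ∧ B ≤ V ∧ (B.subgroupOf V).IsSubnormal}
  have hAS : ∀ V ∈ U, A ∈ S V := by
    intro V hV
    exact ⟨⟨1, by simp⟩, hV.1, claim1 V A hV.2 hV.1 h⟩
  have hz := zipper A U ⟨A, le_refl A, hAtop⟩ S (fun V B => Iff.rfl)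
    (by
      intro V hV W hW B hB hBV
      obtain ⟨⟨g, rfl⟩, -, -⟩ := hB
      exact ⟨⟨g, rfl⟩, hBV, claim1 V _ hV.2 hBV (claim2 g)⟩)
    (by
      intro V hV W hW
      have hAX : A ≤ sSup (S V ∩ S W) := le_sSup ⟨hAS V hV, hAS W hW⟩
      have hXV : sSup (S V ∩ S W) ≤ V := sSup_le (fun B hB => hB.1.2.1)
      by_cases hN : Subgroup.normalizer ((sSup (S V ∩ S W) : Subgroup G) : Set G) = ⊤
      · exfalso
        apply hnot
        have hXn : (sSup (S V ∩ S W) : Subgroup G).Normal :=
          Subgroup.normalizer_eq_top_iff.1 hN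
        exact isSubnormal_of_relSubnormal hAX
          (relSubnormal_mono hXV hV.1 (hAS V hV).2.2) hXn.isSubnormal
      · exact ⟨_, ⟨hAX.trans Subgroup.le_normalizer, hN⟩, le_refl _⟩)
  obtain ⟨M, hMU, hM⟩ := hz
  have hconjM : ∀ g : G, MulAut.conj g • A ≤ M := by
    intro g
    by_cases hK : A ⊔ MulAut.conj g • A = ⊤
    · exfalso
      apply hnot
      have := h g
      rw [hK] at this
      exact isSubnormal_of_relSubnormal le_top this Subgroup.IsSubnormal.top
    · exact le_sup_right.trans (hM _ ⟨le_sup_left, hK⟩)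
  have hNM : Subgroup.normalClosure (A : Set G) ≤ M := by
    rw [Subgroup.normalClosure, Subgroup.closure_le]
    intro a ha
    rw [Group.mem_conjugatesOfSet_iff] at ha
    obtain ⟨b, hb, hba⟩ := ha
    rw [isConj_iff] at hba
    obtain ⟨c, rfl⟩ := hba
    exact hconjM c (conj_mem_conj_smul hb)
  have hNtop : Subgroup.normalClosure (A : Set G) ≠ ⊤ := by
    intro htop
    rw [htop] at hNM
    exact hMU.2 (top_le_iff.1 hNM)
  apply hnot
  exact isSubnormal_of_relSubnormal Subgroup.le_normalClosure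
    (claim1 _ A hNtop Subgroup.le_normalClosure h)
    (Subgroup.normalClosure_normal).isSubnormal

end Cfsg.Agent.Helper1
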