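import Mathlib
import Cfsg.Agent.Helper7.SpCPB
import Cfsg.Agent.S0270

set_option autoImplicit false
set_option linter.unusedSectionVars false
set_option linter.unusedVariables false

/-!
Conjugacy in `Sp_4(q)` (as `Cfsg.spGL 2 F`) of non-central involutions (helper1, piece A1 of S6002).
General tools: conjugacy from a common model on symplectic bases.
-/

namespace Cfsg.Agent.Helper1.XS

open Matrix Cfsg Cfsg.Agent.Helper7.Symp Cfsg.Agent.Helper7.SpCP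

variable {F : Type*} [Field F]

theorem sympForm_neg_left {m : ℕ} (u v : Fin m ⊕ Fin m → F) :
    sympForm m F (-u) v = -sympForm m F u v := by
  rw [sympForm_swap, sympForm_neg_right, sympForm_swap v u, neg_neg]

theorem sympForm_zero_left' {m : ℕ} (v : Fin m ⊕ Fin m → F) : sympForm m F 0 v = 0 := by
  unfold sympForm; rw [zero_dotProduct]

theorem sympForm_zero_right' {m : ℕ} (v : Fin m ⊕ Fin m → F) : sympForm m F v 0 = 0 := by
  rw [sympForm_swap, sympForm_zero_left', neg_zero]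

/-- two elements with a common model on symplectic bases are conjugate in `spGL`. -/
theorem conj_of_model {d : ℕ} (x y : GL (Fin d ⊕ Fin d) F)
    (M M' : symplecticGroup (Fin d) F) (C : Matrix (Fin d ⊕ Fin d) (Fin d ⊕ Fin d) F)
    (h : (x : Matrix (Fin d ⊕ Fin d) (Fin d ⊕ Fin d) F) * (M : Matrix (Fin d ⊕ Fin d) (Fin d ⊕ Fin d) F)
      = (M : Matrix (Fin d ⊕ Fin d) (Fin d ⊕ Fin d) F) * C)
    (h' : (y : Matrix (Fin d ⊕ Fin d) (Fin d ⊕ Fin d) F) * (M' : Matrix (Fin d ⊕ Fin d) (Fin d ⊕ Fin d) F)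
      = (M' : Matrix (Fin d ⊕ Fin d) (Fin d ⊕ Fin d) F) * C) :
    ∃ g ∈ Cfsg.spGL d F, g⁻¹ * x * g = y := by
  obtain ⟨P, hP⟩ : ∃ P : GL (Fin d ⊕ Fin d) F,
      P = ((Cfsg.Agent.S0270.toSpGLHom d F M : ↥(Cfsg.spGL d F)) : GL (Fin d ⊕ Fin d) F) := ⟨_, rfl⟩
  obtain ⟨P', hP'⟩ : ∃ P' : GL (Fin d ⊕ Fin d) F,
      P' = ((Cfsg.Agent.S0270.toSpGLHom d F M' : ↥(Cfsg.spGL d F)) : GL (Fin d ⊕ Fin d) F) := ⟨_, rfl⟩
  have hPm : P ∈ Cfsg.spGL d F := by rw [hP]; exact (Cfsg.Agent.S0270.toSpGLHom d F M).2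
  have hP'm : P' ∈ Cfsg.spGL d F := by rw [hP']; exact (Cfsg.Agent.S0270.toSpGLHom d F M').2
  have hPv : (P : Matrix (Fin d ⊕ Fin d) (Fin d ⊕ Fin d) F) = M := by rw [hP]; rfl
  have hP'v : (P' : Matrix (Fin d ⊕ Fin d) (Fin d ⊕ Fin d) F) = M' := by rw [hP']; rfl
  have e1 : P⁻¹ * x * P = P'⁻¹ * y * P' := by
    apply Units.ext
    have a1 : ((P⁻¹ * x * P : GL (Fin d ⊕ Fin d) F) : Matrix (Fin d ⊕ Fin d) (Fin d ⊕ Fin d) F) = C := by
      rw [Units.val_mul, Units.val_mul, Matrix.mul_assoc, hPv, h, ← hPv, ← Matrix.mul_assoc,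
        Units.inv_mul, Matrix.one_mul]
    have a2 : ((P'⁻¹ * y * P' : GL (Fin d ⊕ Fin d) F) : Matrix (Fin d ⊕ Fin d) (Fin d ⊕ Fin d) F) = C := by
      rw [Units.val_mul, Units.val_mul, Matrix.mul_assoc, hP'v, h', ← hP'v, ← Matrix.mul_assoc,
        Units.inv_mul, Matrix.one_mul]
    rw [a1, a2]
  refine ⟨P * P'⁻¹, Subgroup.mul_mem _ hPm (Subgroup.inv_mem _ hP'm), ?_⟩
  calc (P * P'⁻¹)⁻¹ * x * (P * P'⁻¹) = P' * (P⁻¹ * x * P) * P'⁻¹ := by group
    _ = P' * (P'⁻¹ * y * P') * P'⁻¹ := by rw [e1]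
    _ = y := by group

/-- the product of a matrix with the matrix of a symplectic basis, by columns. -/
theorem mul_sbas_apply {d : ℕ} (X : Matrix (Fin d ⊕ Fin d) (Fin d ⊕ Fin d) F) (ef : SBas d F)
    (r c : Fin d ⊕ Fin d) :
    (X * ((sbasEquiv.symm ef : symplecticGroup (Fin d) F) : Matrix (Fin d ⊕ Fin d) (Fin d ⊕ Fin d) F)) r c
      = (X *ᵥ (Sum.elim ef.1.2 ef.1.1 c)) r := by
  rw [Matrix.mul_apply]
  rfl

theorem sbas_apply {d : ℕ} (ef : SBas d F) (r c : Fin d ⊕ Fin d) :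
    ((sbasEquiv.symm ef : symplecticGroup (Fin d) F) : Matrix (Fin d ⊕ Fin d) (Fin d ⊕ Fin d) F) r c
      = Sum.elim ef.1.2 ef.1.1 c r := rfl

theorem eq_one_of_mulVec {n : Type*} [Fintype n] [DecidableEq n] (X : Matrix n n F) (c : F)
    (h : ∀ v, X *ᵥ v = c • v) : X = c • (1 : Matrix n n F) := by
  ext i j
  have := congrFun (h (Pi.single j 1)) i
  rw [mulVec_single_one] at this
  rw [Matrix.smul_apply, Matrix.one_apply]
  simpa [Pi.single_apply, eq_comm] using this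

/-- partner of an eigenvector inside its eigenspace. -/
theorem exists_partner (h2 : (2 : F) ≠ 0) {m : ℕ} (X : Matrix (Fin m ⊕ Fin m) (Fin m ⊕ Fin m) F)
    (hX : ∀ u v, sympForm m F (X *ᵥ u) (X *ᵥ v) = sympForm m F u v)
    (hX2 : ∀ v, X *ᵥ (X *ᵥ v) = v) (ε : F) (hε : ε * ε = 1) {u : Fin m ⊕ Fin m → F} (hu : u ≠ 0)
    (hXu : X *ᵥ u = ε • u) : ∃ w, X *ᵥ w = ε • w ∧ sympForm m F u w = 1 := by
  obtain ⟨w₀, hw₀⟩ := exists_sympForm_ne_zero hu
  have h1 : sympForm m F u (X *ᵥ w₀) = ε * sympForm m F u w₀ := by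
    rw [← hX u (X *ᵥ w₀), hX2, hXu, sympForm_smul_left]
  have h3 : (2 * sympForm m F u w₀) ≠ 0 := mul_ne_zero h2 hw₀
  refine ⟨(2 * sympForm m F u w₀)⁻¹ • (w₀ + ε • X *ᵥ w₀), ?_, ?_⟩
  · rw [mulVec_smul, mulVec_add, mulVec_smul, hX2, smul_comm ε, smul_add ε, smul_smul ε ε, hε, one_smul,
      add_comm (X *ᵥ w₀)]
  · rw [sympForm_smul_right, sympForm_add_right, sympForm_smul_right, h1, ← mul_assoc, hε, one_mul,
      ← two_mul, inv_mul_cancel₀ h3]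

theorem perp_of_eigen (h2 : (2 : F) ≠ 0) {m : ℕ} (X : Matrix (Fin m ⊕ Fin m) (Fin m ⊕ Fin m) F)
    (hX : ∀ u v, sympForm m F (X *ᵥ u) (X *ᵥ v) = sympForm m F u v)
    {u v : Fin m ⊕ Fin m → F} (hu : X *ᵥ u = u) (hv : X *ᵥ v = -v) : sympForm m F u v = 0 := by
  have h := hX u v
  rw [hu, hv, sympForm_neg_right] at h
  have : 2 * sympForm m F u v = 0 := by linear_combination -h
  exact (mul_eq_zero.mp this).resolve_left h2

/-- the eigenvalues of the model involution. -/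
def dd (F : Type*) [Field F] : Fin 2 ⊕ Fin 2 → F := Sum.elim ![1, -1] ![1, -1]

/-- a non-central symplectic involution in dimension four has a symplectic basis of eigenvectors. -/
theorem exists_sbas_of_sq_one (h2 : (2 : F) ≠ 0) (X : Matrix (Fin 2 ⊕ Fin 2) (Fin 2 ⊕ Fin 2) F)
    (hX : ∀ u v, sympForm 2 F (X *ᵥ u) (X *ᵥ v) = sympForm 2 F u v)
    (hX2 : X * X = 1) (h1 : X ≠ 1) (h1' : X ≠ -1) :
    ∃ ef : SBas 2 F, ∀ c, X *ᵥ (Sum.elim ef.1.2 ef.1.1 c) = dd F c • Sum.elim ef.1.2 ef.1.1 c := by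
  have hXX : ∀ v, X *ᵥ (X *ᵥ v) = v := by
    intro v
    rw [mulVec_mulVec, hX2, one_mulVec]
  -- eigenvectors
  obtain ⟨e₁, he₁0, he₁⟩ : ∃ e₁ : Fin 2 ⊕ Fin 2 → F, e₁ ≠ 0 ∧ X *ᵥ e₁ = e₁ := by
    by_contra hcon
    push Not at hcon
    apply h1'
    have := eq_one_of_mulVec X (-1) (fun v => by
      by_contra hv
      have h0 : v + X *ᵥ v ≠ 0 := by
        intro h0
        apply hv
        rw [neg_one_smul]
        exact eq_neg_of_add_eq_zero_right h0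
      exact hcon _ h0 (by rw [mulVec_add, hXX, add_comm]))
    rw [this, neg_one_smul]
  obtain ⟨e₂, he₂0, he₂⟩ : ∃ e₂ : Fin 2 ⊕ Fin 2 → F, e₂ ≠ 0 ∧ X *ᵥ e₂ = -e₂ := by
    by_contra hcon
    push Not at hcon
    apply h1
    have := eq_one_of_mulVec X 1 (fun v => by
      by_contra hv
      have h0 : v - X *ᵥ v ≠ 0 := by
        intro h0
        apply hv
        rw [one_smul]
        exact (sub_eq_zero.mp h0).symm
      exact hcon _ h0 (by rw [mulVec_sub, hXX, neg_sub]))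
    rw [this, one_smul]
  obtain ⟨f₁, hf₁, hef₁⟩ := exists_partner h2 X hX hXX 1 (one_mul 1) he₁0 (by rw [he₁, one_smul])
  obtain ⟨f₂, hf₂, hef₂⟩ := exists_partner h2 X hX hXX (-1) (by ring) he₂0 (by rw [he₂, neg_one_smul])
  rw [one_smul] at hf₁
  rw [neg_one_smul] at hf₂
  have p1 := perp_of_eigen h2 X hX he₁ he₂
  have p2 := perp_of_eigen h2 X hX he₁ hf₂
  have p3 := perp_of_eigen h2 X hX hf₁ he₂
  have p4 := perp_of_eigen h2 X hX hf₁ hf₂
  refine ⟨⟨(![e₁, e₂], ![f₁, f₂]), ?_, ?_, ?_⟩, ?_⟩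
  · intro i j
    fin_cases i <;> fin_cases j
    · exact sympForm_self _
    · exact p1
    · show sympForm 2 F e₂ e₁ = 0
      rw [sympForm_swap, p1, neg_zero]
    · exact sympForm_self _
  · intro i j
    fin_cases i <;> fin_cases j
    · exact sympForm_self _
    · exact p4
    · show sympForm 2 F f₂ f₁ = 0
      rw [sympForm_swap, p4, neg_zero]
    · exact sympForm_self _
  · intro i j
    fin_cases i <;> fin_cases j
    · exact hef₁
    · exact p2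
    · show sympForm 2 F e₂ f₁ = _
      rw [sympForm_swap, p3, neg_zero]
      rfl
    · exact hef₂
  · intro c
    rcases c with i | i <;> fin_cases i
    · show X *ᵥ f₁ = (1 : F) • f₁
      rw [hf₁, one_smul]
    · show X *ᵥ f₂ = (-1 : F) • f₂
      rw [hf₂, neg_one_smul]
    · show X *ᵥ e₁ = (1 : F) • e₁
      rw [he₁, one_smul]
    · show X *ᵥ e₂ = (-1 : F) • e₂
      rw [he₂, neg_one_smul]

/-- **Piece A1.** Non-central involutions of `Sp_4(q)`, `q` odd, are conjugate. -/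
theorem conj_of_sq_one (h2 : (2 : F) ≠ 0) {x y : GL (Fin 2 ⊕ Fin 2) F}
    (hx : x ∈ Cfsg.spGL 2 F) (hy : y ∈ Cfsg.spGL 2 F)
    (hx2 : x * x = 1) (hy2 : y * y = 1) (hx1 : x ≠ 1) (hx1' : x ≠ -1) (hy1 : y ≠ 1) (hy1' : y ≠ -1) :
    ∃ g ∈ Cfsg.spGL 2 F, g⁻¹ * x * g = y := by
  have key : ∀ z : GL (Fin 2 ⊕ Fin 2) F, z ∈ Cfsg.spGL 2 F → z * z = 1 → z ≠ 1 → z ≠ -1 →
      ∃ M : symplecticGroup (Fin 2) F,
        (z : Matrix (Fin 2 ⊕ Fin 2) (Fin 2 ⊕ Fin 2) F) * (M : Matrix (Fin 2 ⊕ Fin 2) (Fin 2 ⊕ Fin 2) F)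
          = (M : Matrix (Fin 2 ⊕ Fin 2) (Fin 2 ⊕ Fin 2) F) * Matrix.diagonal (dd F) := by
    intro z hz hz2 hz1 hz1'
    obtain ⟨ef, hef⟩ := exists_sbas_of_sq_one h2 (z : Matrix (Fin 2 ⊕ Fin 2) (Fin 2 ⊕ Fin 2) F)
      (fun u v => hz u v)
      (by rw [← Units.val_mul, hz2, Units.val_one])
      (fun h => hz1 (Units.ext (by rw [h, Units.val_one])))
      (fun h => hz1' (Units.ext (by rw [h, Units.val_neg, Units.val_one])))
    refine ⟨sbasEquiv.symm ef, ?_⟩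
    ext r c
    rw [mul_sbas_apply, hef c, Matrix.mul_diagonal, sbas_apply, Pi.smul_apply, smul_eq_mul, mul_comm]
  obtain ⟨M, hM⟩ := key x hx hx2 hx1 hx1'
  obtain ⟨M', hM'⟩ := key y hy hy2 hy1 hy1'
  exact conj_of_model x y M M' _ hM hM'

end Cfsg.Agent.Helper1.XS
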