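import Mathlib
import Cfsg.Agent.Helper1.XSConjA

set_option autoImplicit false
set_option linter.unusedSectionVars false
set_option linter.unusedVariables false

/-!
Conjugacy in `Sp_4(q)` (as `Cfsg.spGL 2 F`), `q` odd, of the elements of square `-1`
(helper1, piece A2 of S6002).
-/

namespace Cfsg.Agent.Helper1.XS

open Matrix Module Cfsg Cfsg.Agent.Helper7.Symp Cfsg.Agent.Helper7.SpCP

variable {F : Type*} [Field F]

section general

variable {m : ℕ} (X : Matrix (Fin m ⊕ Fin m) (Fin m ⊕ Fin m) F)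
  (hX : ∀ u v, sympForm m F (X *ᵥ u) (X *ᵥ v) = sympForm m F u v)
  (hX2 : ∀ v, X *ᵥ (X *ᵥ v) = -v)

include hX hX2

/-- the form `(u, w) ↦ f (X u) w` is symmetric. -/
theorem symm_of_sq_neg (u w : Fin m ⊕ Fin m → F) :
    sympForm m F (X *ᵥ u) w = sympForm m F (X *ᵥ w) u := by
  rw [← hX (X *ᵥ u) w, hX2, sympForm_neg_left, sympForm_swap (X *ᵥ w) u]

theorem qf_add (u w : Fin m ⊕ Fin m → F) :
    sympForm m F (X *ᵥ (u + w)) (u + w) = sympForm m F (X *ᵥ u) u + sympForm m F (X *ᵥ w) w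
      + 2 * sympForm m F (X *ᵥ u) w := by
  rw [mulVec_add, sympForm_add_left, sympForm_add_right, sympForm_add_right,
    symm_of_sq_neg X hX hX2 w u]
  ring

theorem qf_comb (s t : F) (v : Fin m ⊕ Fin m → F) :
    sympForm m F (X *ᵥ (s • v + t • X *ᵥ v)) (s • v + t • X *ᵥ v)
      = (s ^ 2 + t ^ 2) * sympForm m F (X *ᵥ v) v := by
  rw [mulVec_add, mulVec_smul, mulVec_smul, hX2]
  simp only [sympForm_add_left, sympForm_add_right, sympForm_smul_left, sympForm_smul_right,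
    sympForm_self, sympForm_neg_left]
  rw [sympForm_swap v (X *ᵥ v)]
  ring

theorem mulVec_ne_zero_of_sq_neg {v : Fin m ⊕ Fin m → F} (hv : v ≠ 0) : X *ᵥ v ≠ 0 := by
  intro h
  have := hX2 v
  rw [h, mulVec_zero] at this
  exact hv (neg_eq_zero.mp this.symm)

/-- in an invariant nondegenerate nonzero subspace there is a vector with `f (X w) w ≠ 0`. -/
theorem exists_qf_ne (h2 : (2 : F) ≠ 0) (W : Submodule F (Fin m ⊕ Fin m → F))
    (hW : ∀ w ∈ W, X *ᵥ w ∈ W)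
    (hnd : ∀ w ∈ W, w ≠ 0 → ∃ w' ∈ W, sympForm m F w w' ≠ 0)
    (hW0 : ∃ w ∈ W, w ≠ 0) : ∃ w ∈ W, sympForm m F (X *ᵥ w) w ≠ 0 := by
  obtain ⟨w, hwW, hw0⟩ := hW0
  obtain ⟨w', hw'W, hw'⟩ := hnd _ (hW w hwW) (mulVec_ne_zero_of_sq_neg X hX hX2 hw0)
  by_contra hcon
  push Not at hcon
  have h := qf_add X hX hX2 w w'
  rw [hcon _ hwW, hcon _ hw'W, hcon _ (W.add_mem hwW hw'W)] at h
  have : 2 * sympForm m F (X *ᵥ w) w' = 0 := by linear_combination -h
  exact hw' ((mul_eq_zero.mp this).resolve_left h2)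

/-- rescaling to value one. -/
theorem exists_qf_eq_one [Fintype F] (hodd : Odd (Fintype.card F))
    (W : Submodule F (Fin m ⊕ Fin m → F)) (hW : ∀ w ∈ W, X *ᵥ w ∈ W)
    {w : Fin m ⊕ Fin m → F} (hwW : w ∈ W) (hw : sympForm m F (X *ᵥ w) w ≠ 0) :
    ∃ w' ∈ W, sympForm m F (X *ᵥ w') w' = 1 := by
  have hcard : Fintype.card F % 2 = 1 := Nat.odd_iff.mp hodd
  obtain ⟨s, t, hst⟩ : ∃ s t : F, s ^ 2 + t ^ 2 = (sympForm m F (X *ᵥ w) w)⁻¹ := by
    have hf : (Polynomial.C (1 : F) * Polynomial.X ^ 2 + Polynomial.C 0 * Polynomial.X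
        + Polynomial.C (-(sympForm m F (X *ᵥ w) w)⁻¹) : Polynomial F).degree = 2 :=
      Polynomial.degree_quadratic one_ne_zero
    have hg : (Polynomial.C (1 : F) * Polynomial.X ^ 2 + Polynomial.C 0 * Polynomial.X
        + Polynomial.C 0 : Polynomial F).degree = 2 :=
      Polynomial.degree_quadratic one_ne_zero
    obtain ⟨s, t, h⟩ := FiniteField.exists_root_sum_quadratic hf hg hcard
    refine ⟨s, t, ?_⟩
    simp only [Polynomial.eval_add, Polynomial.eval_mul, Polynomial.eval_C, Polynomial.eval_pow,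
      Polynomial.eval_X, zero_mul, add_zero, one_mul] at h
    linear_combination h
  refine ⟨s • w + t • X *ᵥ w, W.add_mem (W.smul_mem _ hwW) (W.smul_mem _ (hW w hwW)), ?_⟩
  rw [qf_comb X hX hX2, hst, inv_mul_cancel₀ hw]

end general

/-- the orthogonal complement of a pair, as a submodule. -/
def perpPair {m : ℕ} (e f : Fin m ⊕ Fin m → F) : Submodule F (Fin m ⊕ Fin m → F) where
  carrier := {w | sympForm m F w e = 0 ∧ sympForm m F w f = 0}
  add_mem' := by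
    intro a b ha hb
    exact ⟨by rw [sympForm_add_left, ha.1, hb.1, add_zero],
      by rw [sympForm_add_left, ha.2, hb.2, add_zero]⟩
  zero_mem' := ⟨sympForm_zero_left' _, sympForm_zero_left' _⟩
  smul_mem' := by
    intro c a ha
    exact ⟨by rw [sympForm_smul_left, ha.1, mul_zero], by rw [sympForm_smul_left, ha.2, mul_zero]⟩

theorem mem_perpPair {m : ℕ} (e f w : Fin m ⊕ Fin m → F) :
    w ∈ perpPair e f ↔ sympForm m F w e = 0 ∧ sympForm m F w f = 0 := Iff.rfl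

theorem two_ne_zero_of_odd_card [Fintype F] (hodd : Odd (Fintype.card F)) : (2 : F) ≠ 0 := by
  intro h
  have hd : ringChar F ∣ 2 := (ringChar.spec F 2).mp (by exact_mod_cast h)
  have hc : ringChar F = 2 := by
    rcases (Nat.dvd_prime Nat.prime_two).mp hd with h1 | h1
    · exact absurd h1 (CharP.ringChar_ne_one)
    · exact h1
  have := FiniteField.even_card_iff_char_two.mp hc
  have h3 := Nat.odd_iff.mp hodd
  omega

theorem mul_J_apply_inl {d : ℕ} (M : Matrix (Fin d ⊕ Fin d) (Fin d ⊕ Fin d) F) (r : Fin d ⊕ Fin d)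
    (j : Fin d) : (M * J (Fin d) F) r (Sum.inl j) = M r (Sum.inr j) := by
  simp [Matrix.mul_apply, J, Matrix.one_apply]

theorem mul_J_apply_inr {d : ℕ} (M : Matrix (Fin d ⊕ Fin d) (Fin d ⊕ Fin d) F) (r : Fin d ⊕ Fin d)
    (j : Fin d) : (M * J (Fin d) F) r (Sum.inr j) = -M r (Sum.inl j) := by
  simp [Matrix.mul_apply, J, Matrix.one_apply]

/-- a symplectic element of square `-1` in dimension four has a symplectic basis `(e, f)` with
`X f_j = e_j`, `X e_j = -f_j`. -/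
theorem exists_sbas_of_sq_neg_one [Fintype F] (hodd : Odd (Fintype.card F))
    (X : Matrix (Fin 2 ⊕ Fin 2) (Fin 2 ⊕ Fin 2) F)
    (hX : ∀ u v, sympForm 2 F (X *ᵥ u) (X *ᵥ v) = sympForm 2 F u v)
    (hX2 : X * X = -1) :
    ∃ ef : SBas 2 F, (∀ j, X *ᵥ ef.1.2 j = ef.1.1 j) ∧ (∀ j, X *ᵥ ef.1.1 j = -ef.1.2 j) := by
  have h2 : (2 : F) ≠ 0 := two_ne_zero_of_odd_card hodd
  have hXX : ∀ v, X *ᵥ (X *ᵥ v) = -v := by
    intro v
    rw [mulVec_mulVec, hX2, neg_mulVec, one_mulVec]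
  -- the first pair
  obtain ⟨w₁, -, hw₁⟩ := exists_qf_ne X hX hXX h2 ⊤ (fun _ _ => Submodule.mem_top)
    (fun w _ hw => by
      obtain ⟨y, hy⟩ := exists_sympForm_ne_zero hw
      exact ⟨y, Submodule.mem_top, hy⟩)
    ⟨Pi.single (Sum.inl 0) 1, Submodule.mem_top, by
      intro h
      have := congrFun h (Sum.inl 0)
      simp at this⟩
  obtain ⟨f₁, -, hf₁⟩ := exists_qf_eq_one X hX hXX hodd ⊤ (fun _ _ => Submodule.mem_top)
    Submodule.mem_top hw₁
  obtain ⟨e₁, he₁⟩ : ∃ e₁, e₁ = X *ᵥ f₁ := ⟨_, rfl⟩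
  rw [← he₁] at hf₁
  have hfe : sympForm 2 F f₁ e₁ = -1 := by rw [sympForm_swap, hf₁]
  -- the complement
  have hWinv : ∀ w ∈ perpPair e₁ f₁, X *ᵥ w ∈ perpPair e₁ f₁ := by
    rintro w ⟨hwe, hwf⟩
    refine ⟨?_, ?_⟩
    · rw [he₁, hX, hwf]
    · rw [← hX (X *ᵥ w) f₁, hXX, sympForm_neg_left, ← he₁, hwe, neg_zero]
  have hproj : ∀ v, v - sympForm 2 F v f₁ • e₁ + sympForm 2 F v e₁ • f₁ ∈ perpPair e₁ f₁ := by
    intro v
    refine ⟨?_, ?_⟩
    · simp only [sympForm_add_left, sympForm_sub_left, sympForm_smul_left, sympForm_self, hfe]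
      ring
    · simp only [sympForm_add_left, sympForm_sub_left, sympForm_smul_left, sympForm_self, hf₁]
      ring
  have hnd : ∀ w ∈ perpPair e₁ f₁, w ≠ 0 → ∃ w' ∈ perpPair e₁ f₁, sympForm 2 F w w' ≠ 0 := by
    rintro w ⟨hwe, hwf⟩ hw0
    obtain ⟨y, hy⟩ := exists_sympForm_ne_zero hw0
    refine ⟨_, hproj y, ?_⟩
    simp only [sympForm_add_right, sympForm_sub_right, sympForm_smul_right, hwe, hwf, mul_zero,
      sub_zero, add_zero]
    exact hy
  have hW0 : ∃ w ∈ perpPair e₁ f₁, w ≠ 0 := by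
    obtain ⟨v₀, hv₀⟩ : ∃ v₀, v₀ ∉ Submodule.span F (Set.range ![e₁, f₁]) := by
      by_contra hcon
      push Not at hcon
      have htop : Submodule.span F (Set.range ![e₁, f₁]) = ⊤ := Submodule.eq_top_iff'.mpr hcon
      have h1 := finrank_range_le_card (R := F) ![e₁, f₁]
      rw [Set.finrank, htop, finrank_top, Module.finrank_fintype_fun_eq_card] at h1
      simp at h1
    refine ⟨_, hproj v₀, ?_⟩
    intro h0
    apply hv₀
    have : v₀ = sympForm 2 F v₀ f₁ • e₁ - sympForm 2 F v₀ e₁ • f₁ := by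
      linear_combination (exp := 1) h0
    rw [this]
    exact Submodule.sub_mem _ (Submodule.smul_mem _ _ (Submodule.subset_span ⟨0, rfl⟩))
      (Submodule.smul_mem _ _ (Submodule.subset_span ⟨1, rfl⟩))
  obtain ⟨w₂, hw₂W, hw₂⟩ := exists_qf_ne X hX hXX h2 _ hWinv hnd hW0
  obtain ⟨f₂, hf₂W, hf₂⟩ := exists_qf_eq_one X hX hXX hodd _ hWinv hw₂W hw₂
  have he₂W := hWinv f₂ hf₂W
  obtain ⟨e₂, he₂⟩ : ∃ e₂, e₂ = X *ᵥ f₂ := ⟨_, rfl⟩
  rw [← he₂] at hf₂ he₂W
  obtain ⟨q1, q2⟩ := hf₂W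
  obtain ⟨q3, q4⟩ := he₂W
  refine ⟨⟨(![e₁, e₂], ![f₁, f₂]), ?_, ?_, ?_⟩, ?_, ?_⟩
  · intro i j
    fin_cases i <;> fin_cases j
    · exact sympForm_self _
    · show sympForm 2 F e₁ e₂ = 0
      rw [sympForm_swap, q3, neg_zero]
    · exact q3
    · exact sympForm_self _
  · intro i j
    fin_cases i <;> fin_cases j
    · exact sympForm_self _
    · show sympForm 2 F f₁ f₂ = 0
      rw [sympForm_swap, q2, neg_zero]
    · exact q2
    · exact sympForm_self _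
  · intro i j
    fin_cases i <;> fin_cases j
    · exact hf₁
    · show sympForm 2 F e₁ f₂ = _
      rw [sympForm_swap, q1, neg_zero]
      rfl
    · exact q4
    · exact hf₂
  · intro j
    fin_cases j
    · exact he₁.symm
    · exact he₂.symm
  · intro j
    fin_cases j
    · show X *ᵥ e₁ = -f₁
      rw [he₁, hXX]
    · show X *ᵥ e₂ = -f₂
      rw [he₂, hXX]

/-- **Piece A2.** Elements of `Sp_4(q)`, `q` odd, of square `-1` are conjugate. -/
theorem conj_of_sq_neg_one [Fintype F] (hodd : Odd (Fintype.card F)) {x y : GL (Fin 2 ⊕ Fin 2) F}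
    (hx : x ∈ Cfsg.spGL 2 F) (hy : y ∈ Cfsg.spGL 2 F) (hx2 : x * x = -1) (hy2 : y * y = -1) :
    ∃ g ∈ Cfsg.spGL 2 F, g⁻¹ * x * g = y := by
  have key : ∀ z : GL (Fin 2 ⊕ Fin 2) F, z ∈ Cfsg.spGL 2 F → z * z = -1 →
      ∃ M : symplecticGroup (Fin 2) F,
        (z : Matrix (Fin 2 ⊕ Fin 2) (Fin 2 ⊕ Fin 2) F) * (M : Matrix (Fin 2 ⊕ Fin 2) (Fin 2 ⊕ Fin 2) F)
          = (M : Matrix (Fin 2 ⊕ Fin 2) (Fin 2 ⊕ Fin 2) F) * J (Fin 2) F := by
    intro z hz hz2
    obtain ⟨ef, hef1, hef2⟩ := exists_sbas_of_sq_neg_one hodd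
      (z : Matrix (Fin 2 ⊕ Fin 2) (Fin 2 ⊕ Fin 2) F) (fun u v => hz u v)
      (by rw [← Units.val_mul, hz2, Units.val_neg, Units.val_one])
    refine ⟨sbasEquiv.symm ef, ?_⟩
    ext r c
    rcases c with j | j
    · rw [mul_sbas_apply, mul_J_apply_inl, sbas_apply]
      show ((z : Matrix (Fin 2 ⊕ Fin 2) (Fin 2 ⊕ Fin 2) F) *ᵥ ef.1.2 j) r = ef.1.1 j r
      rw [hef1]
    · rw [mul_sbas_apply, mul_J_apply_inr, sbas_apply]
      show ((z : Matrix (Fin 2 ⊕ Fin 2) (Fin 2 ⊕ Fin 2) F) *ᵥ ef.1.1 j) r = -ef.1.2 j r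
      rw [hef2]
      rfl
  obtain ⟨M, hM⟩ := key x hx hx2
  obtain ⟨M', hM'⟩ := key y hy hy2
  exact conj_of_model x y M M' _ hM hM'

end Cfsg.Agent.Helper1.XS
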