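import Mathlib
import Cfsg.Agent.Helper1.HallWielandt

set_option autoImplicit false

/-!
Yoshida's theorem, the wreath-product quotient.
-/

namespace Cfsg.Agent.Helper1

open scoped commutatorElement

universe u

/-- a nilpotent endomorphism `D` of a finite `p`-group with `D^m x ≠ 1` forces order `≥ p^(m+1)` -/
theorem card_ge_of_nilpotent_endo {p : ℕ} [hp : Fact p.Prime] :
    ∀ (m : ℕ) (B : Type u) [Group B] [Finite B], IsPGroup p B → ∀ D : B →* B,
      (∃ n, ∀ b, D^[n] b = 1) → ∀ x : B, D^[m] x ≠ 1 → p ^ (m + 1) ≤ Nat.card B := by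
  intro m
  induction m with
  | zero =>
    intro B _ _ hB D _ x hx
    rw [Function.iterate_zero, id] at hx
    rcases hB.card_eq_or_dvd with h1 | h1
    · exfalso
      apply hx
      haveI : Subsingleton B := (Nat.card_eq_one_iff_unique.1 h1).1
      exact Subsingleton.elim _ _
    · simpa using Nat.le_of_dvd Nat.card_pos h1
  | succ m ih =>
    intro B _ _ hB D hnil x hx
    classical
    obtain ⟨n, hn⟩ := hnil
    let D' : D.range →* D.range :=
      MonoidHom.codRestrict (D.comp D.range.subtype) D.range (fun b => ⟨(b : B), rfl⟩)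
    have hD' : ∀ (j : ℕ) (b : D.range), ((D'^[j] b : D.range) : B) = D^[j] (b : B) := by
      intro j
      induction j with
      | zero => intro b; rfl
      | succ j ihj =>
        intro b
        rw [Function.iterate_succ_apply', Function.iterate_succ_apply', ← ihj]
        rfl
    have h1 : p ^ (m + 1) ≤ Nat.card D.range := by
      refine ih D.range (hB.to_subgroup D.range) D'
        ⟨n, fun b => Subtype.ext (by rw [hD']; exact hn _)⟩ ⟨D x, x, rfl⟩ ?_
      intro h
      apply hx
      have h2 := congrArg Subtype.val h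
      rw [hD'] at h2
      rw [Function.iterate_succ_apply]
      exact h2
    have hker : p ≤ Nat.card D.ker := by
      have hex : ∃ n₀, D^[n₀] x = 1 := ⟨n, hn x⟩
      have hn₀1 : D^[Nat.find hex] x = 1 := Nat.find_spec hex
      have hn₀pos : Nat.find hex ≠ 0 := by
        intro h0
        rw [h0, Function.iterate_zero, id] at hn₀1
        apply hx
        rw [hn₀1]
        exact iterate_map_one D _
      obtain ⟨n₁, hn₁⟩ := Nat.exists_eq_succ_of_ne_zero hn₀pos
      have hy : D^[n₁] x ≠ 1 := Nat.find_min hex (by omega)
      have hyk : D^[n₁] x ∈ D.ker := by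
        rw [MonoidHom.mem_ker]
        have h3 : D (D^[n₁] x) = D^[n₁ + 1] x := (Function.iterate_succ_apply' D n₁ x).symm
        rw [h3, ← Nat.succ_eq_add_one, ← hn₁]
        exact hn₀1
      rcases (hB.to_subgroup D.ker).card_eq_or_dvd with h2 | h2
      · exfalso
        apply hy
        haveI : Subsingleton D.ker := (Nat.card_eq_one_iff_unique.1 h2).1
        exact congrArg Subtype.val (Subsingleton.elim (⟨_, hyk⟩ : D.ker) 1)
      · exact Nat.le_of_dvd Nat.card_pos h2
    have hcard : Nat.card D.ker * Nat.card D.range = Nat.card B := by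
      rw [← Subgroup.index_ker]
      exact Subgroup.card_mul_index _
    calc p ^ (m + 1 + 1) = p * p ^ (m + 1) := by ring
      _ ≤ Nat.card D.ker * Nat.card D.range := Nat.mul_le_mul hker h1
      _ = Nat.card B := hcard

theorem factorization_card_perm_fin_sq {p : ℕ} [hp : Fact p.Prime] :
    (Nat.card (Equiv.Perm (Fin (p ^ 2)))).factorization p = p + 1 := by
  rw [Nat.card_eq_fintype_card, Fintype.card_perm, Fintype.card_fin,
    Nat.factorization_def _ hp.out, pow_two, padicValNat_factorial_mul]
  have h1 : padicValNat p (Nat.factorial p) = 1 := by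
    have h2 := padicValNat_factorial_mul (p := p) 1
    rw [mul_one] at h2
    rw [h2]
    simp
  rw [h1]
  ring

theorem mk_engel_iterate {U : Type*} [Group U] {Q : Type*} [Group Q] (f : U →* Q) (z : U) :
    ∀ (n : ℕ) (y : U), f ((fun y : U => y⁻¹ * z⁻¹ * y * z)^[n] y) =
      (fun y : Q => y⁻¹ * (f z)⁻¹ * y * f z)^[n] (f y) := by
  intro n
  induction n with
  | zero => intro y; rfl
  | succ n ih =>
    intro y
    rw [Function.iterate_succ_apply', Function.iterate_succ_apply', ← ih]
    simp only [map_mul, map_inv]

end Cfsg.Agent.Helper1
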