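import Mathlib
import Cfsg.Agent.Helper1.YoshidaA

set_option autoImplicit false

/-!
Yoshida's theorem, the wreath-product quotient: construction.
-/

namespace Cfsg.Agent.Helper1

open scoped commutatorElement

universe u

set_option maxHeartbeats 1600000 in
theorem exists_wreath_quotient {p : ℕ} [hp : Fact p.Prime] {U : Type u} [Group U] [Finite U]
    (hU : IsPGroup p U) (S₀ : Subgroup U) [hSn : S₀.Normal] (hSidx : S₀.index = p) (k z : U)
    (hk : k ∈ S₀) (ρ : S₀ →* Multiplicative (ZMod p)) (c : S₀)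
    (hc : (c : U) = (fun y : U => y⁻¹ * z⁻¹ * y * z)^[p - 1] k) (hρ : ρ c ≠ 1) :
    ∃ (P : Sylow p (Equiv.Perm (Fin (p ^ 2))))
      (f : U →* (P : Subgroup (Equiv.Perm (Fin (p ^ 2))))), Function.Surjective f := by
  classical
  set L : Subgroup S₀ := ρ.ker with hL
  set L' : Subgroup U := L.map S₀.subtype with hL'
  set M : Subgroup U := L'.normalCore with hM
  haveI hMn : M.Normal := Subgroup.normalCore_normal L'
  have hML' : M ≤ L' := Subgroup.normalCore_le L'
  have hL'S : L' ≤ S₀ := Subgroup.map_subtype_le L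
  have hMS : M ≤ S₀ := hML'.trans hL'S
  have hcardA : Nat.card (Multiplicative (ZMod p)) = p := by
    rw [Nat.card_eq_fintype_card, Fintype.card_multiplicative, ZMod.card]
  have hρrange : ρ.range = ⊤ := by
    haveI : Fact (Nat.card (Multiplicative (ZMod p))).Prime := ⟨by rw [hcardA]; exact hp.out⟩
    rcases Subgroup.eq_bot_or_eq_top_of_prime_card ρ.range with h1 | h1
    · exfalso
      apply hρ
      have : ρ c ∈ ρ.range := ⟨c, rfl⟩
      rw [h1, Subgroup.mem_bot] at this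
      exact this
    · exact h1
  have hLidx : L.index = p := by
    rw [hL, Subgroup.index_ker, hρrange, Subgroup.card_top, hcardA]
  have hL'idx : L'.index = p ^ 2 := by
    rw [hL', Subgroup.index_map_subtype, hLidx, hSidx, pow_two]
  have hcM : (c : U) ∉ M := by
    intro h
    obtain ⟨s, hs, hsc⟩ := hML' h
    have h1 : s = c := Subtype.ext hsc
    rw [h1] at hs
    exact hρ (MonoidHom.mem_ker.1 hs)
  have hcomm : ⁅S₀, S₀⁆ ≤ M := by
    haveI : (⁅S₀, S₀⁆).Normal := Subgroup.commutator_normal S₀ S₀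
    rw [hM, Subgroup.normal_le_normalCore, ← Subgroup.map_subtype_commutator]
    apply Subgroup.map_mono
    exact Abelianization.commutator_subset_ker ρ
  set mk : U →* U ⧸ M := QuotientGroup.mk' M with hmk
  have hmksurj : Function.Surjective mk := QuotientGroup.mk'_surjective M
  set Sb : Subgroup (U ⧸ M) := S₀.map mk with hSb
  haveI hSbn : Sb.Normal := hSn.map mk hmksurj
  have hSbcomm : ∀ a ∈ Sb, ∀ b ∈ Sb, a * b = b * a := by
    rintro _ ⟨a, ha, rfl⟩ _ ⟨b, hb, rfl⟩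
    rw [← map_mul, ← map_mul, hmk, QuotientGroup.mk'_apply, QuotientGroup.mk'_apply]
    apply QuotientGroup.eq.2
    have h1 : (a * b)⁻¹ * (b * a) = ⁅b⁻¹, a⁻¹⁆ := by
      rw [commutatorElement_def]; group
    rw [h1]
    exact hcomm (Subgroup.commutator_mem_commutator (S₀.inv_mem hb) (S₀.inv_mem ha))
  set zb : U ⧸ M := mk z with hzb
  have hmemD : ∀ s : Sb, (s : U ⧸ M)⁻¹ * zb⁻¹ * (s : U ⧸ M) * zb ∈ Sb := by
    intro s
    have h1 : zb⁻¹ * (s : U ⧸ M) * zb ∈ Sb := by
      have := hSbn.conj_mem (s : U ⧸ M) s.2 zb⁻¹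
      simpa using this
    have h2 := Sb.mul_mem (Sb.inv_mem s.2) h1
    simpa [mul_assoc] using h2
  let D : Sb →* Sb :=
    { toFun := fun s => ⟨(s : U ⧸ M)⁻¹ * zb⁻¹ * (s : U ⧸ M) * zb, hmemD s⟩
      map_one' := by
        apply Subtype.ext
        simp
      map_mul' := by
        intro a b
        apply Subtype.ext
        show ((a : U ⧸ M) * (b : U ⧸ M))⁻¹ * zb⁻¹ * ((a : U ⧸ M) * (b : U ⧸ M)) * zb =
          ((a : U ⧸ M)⁻¹ * zb⁻¹ * (a : U ⧸ M) * zb) * ((b : U ⧸ M)⁻¹ * zb⁻¹ * (b : U ⧸ M) * zb)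
        have h1 := hSbcomm _ (Sb.inv_mem b.2) _ (hmemD a)
        calc ((a : U ⧸ M) * (b : U ⧸ M))⁻¹ * zb⁻¹ * ((a : U ⧸ M) * (b : U ⧸ M)) * zb
            = (b : U ⧸ M)⁻¹ * ((a : U ⧸ M)⁻¹ * zb⁻¹ * (a : U ⧸ M) * zb) *
                (zb⁻¹ * (b : U ⧸ M) * zb) := by group
          _ = ((a : U ⧸ M)⁻¹ * zb⁻¹ * (a : U ⧸ M) * zb) * (b : U ⧸ M)⁻¹ *
                (zb⁻¹ * (b : U ⧸ M) * zb) := by rw [h1]
          _ = _ := by group }
  have hDcoe : ∀ (j : ℕ) (s : Sb), ((D^[j] s : Sb) : U ⧸ M) =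
      (fun y : U ⧸ M => y⁻¹ * zb⁻¹ * y * zb)^[j] (s : U ⧸ M) := by
    intro j
    induction j with
    | zero => intro s; rfl
    | succ j ihj =>
      intro s
      rw [Function.iterate_succ_apply', Function.iterate_succ_apply', ← ihj]
      rfl
  have hQp : IsPGroup p (U ⧸ M) := hU.to_quotient M
  have hDnil : ∃ n, ∀ b, D^[n] b = 1 := by
    haveI : Group.IsNilpotent (U ⧸ M) := hQp.isNilpotent
    obtain ⟨n, hn⟩ := Subgroup.nilpotent_iff_lowerCentralSeries.1 (inferInstance : Group.IsNilpotent (U ⧸ M))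
    refine ⟨n, fun b => Subtype.ext ?_⟩
    rw [hDcoe]
    have h1 := engel_mem_lowerCentralSeries (⊤ : Subgroup (U ⧸ M)) (b : U ⧸ M) zb
      (Subgroup.mem_top _) (Subgroup.mem_top _) n
    rw [hn, Subgroup.mem_bot] at h1
    exact h1
  let kb : Sb := ⟨mk k, Subgroup.mem_map_of_mem mk hk⟩
  have hkb : D^[p - 1] kb ≠ 1 := by
    intro h
    have h1 := congrArg Subtype.val h
    rw [hDcoe] at h1
    have h2 : mk (c : U) = 1 := by
      rw [hc, mk_engel_iterate]
      exact h1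
    exact hcM ((QuotientGroup.eq_one_iff _).1 h2)
  have hSbcard : p ^ p ≤ Nat.card Sb := by
    have h1 := card_ge_of_nilpotent_endo (p := p) (p - 1) Sb (hQp.to_subgroup Sb) D hDnil kb hkb
    rwa [Nat.sub_add_cancel hp.out.one_lt.le] at h1
  have hSbidx : Sb.index = p := by
    rw [hSb, Subgroup.index_map_eq _ hmksurj (by rw [hmk, QuotientGroup.ker_mk']; exact hMS), hSidx]
  have hQcard : p ^ (p + 1) ≤ Nat.card (U ⧸ M) := by
    rw [← Subgroup.card_mul_index Sb, hSbidx, pow_succ]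
    exact Nat.mul_le_mul_right p hSbcard
  -- the permutation representation
  let φ : U →* Equiv.Perm (U ⧸ L') := MulAction.toPermHom U (U ⧸ L')
  have hφker : φ.ker = M := (Subgroup.normalCore_eq_ker L').symm
  have hcardquot : Nat.card (U ⧸ L') = p ^ 2 := by rw [← Subgroup.index_eq_card, hL'idx]
  letI : Fintype (U ⧸ L') := Fintype.ofFinite _
  let e : (U ⧸ L') ≃ Fin (p ^ 2) :=
    Fintype.equivFinOfCardEq (by rw [← Nat.card_eq_fintype_card]; exact hcardquot)
  let φ' : U →* Equiv.Perm (Fin (p ^ 2)) := e.permCongrHom.toMonoidHom.comp φ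
  have hφ'ker : φ'.ker = M := by
    rw [← hφker]
    ext g
    rw [MonoidHom.mem_ker, MonoidHom.mem_ker]
    show e.permCongrHom (φ g) = 1 ↔ φ g = 1
    exact MulEquiv.map_eq_one_iff _
  set P₀ : Subgroup (Equiv.Perm (Fin (p ^ 2))) := φ'.range with hP₀
  have hP₀card : Nat.card P₀ = Nat.card (U ⧸ M) := by
    rw [hP₀, ← Subgroup.index_ker, hφ'ker, Subgroup.index_eq_card]
  have hP₀p : IsPGroup p P₀ := IsPGroup.of_surjective hU φ'.rangeRestrict φ'.rangeRestrict_surjective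
  obtain ⟨a, ha⟩ := IsPGroup.iff_card.1 hP₀p
  have ha1 : p + 1 ≤ a := by
    rw [hP₀card] at ha
    rw [ha] at hQcard
    exact (Nat.pow_le_pow_iff_right hp.out.one_lt).1 hQcard
  have ha2 : a ≤ p + 1 := by
    have h1 : p ^ a ∣ Nat.card (Equiv.Perm (Fin (p ^ 2))) := by
      rw [← ha]; exact Subgroup.card_subgroup_dvd_card P₀
    rw [← factorization_card_perm_fin_sq (p := p)]
    exact (Nat.Prime.pow_dvd_iff_le_factorization hp.out Nat.card_pos.ne').1 h1
  have hcardeq : Nat.card P₀ = p ^ (Nat.card (Equiv.Perm (Fin (p ^ 2)))).factorization p := by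
    rw [ha, factorization_card_perm_fin_sq]
    congr 1
    omega
  exact ⟨Sylow.ofCard P₀ hcardeq, φ'.rangeRestrict, φ'.rangeRestrict_surjective⟩

end Cfsg.Agent.Helper1
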