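import Mathlib
import Cfsg.Prelude.Def_Transfer
import Cfsg.Agent.Helper1.YoshidaB
import Cfsg.Agent.Helper1.HallWielandtE

set_option autoImplicit false

/-!
Yoshida's transfer theorem.
-/

namespace Cfsg.Agent.Helper1

open MonoidHom Subgroup MulAction
open scoped Pointwise commutatorElement

universe u

variable {G : Type u} [Group G]

set_option maxHeartbeats 1000000 in
/-- **Yoshida's theorem**: if `N_G(S)` does not control `p`-transfer then `S` has a quotient
isomorphic to `Z_p ≀ Z_p`. -/
theorem yoshida_wreath [Finite G] {p : ℕ} [hp : Fact p.Prime] (S : Sylow p G)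
    (h : (S : Subgroup G) ⊓ commutator G ≠
      (S : Subgroup G) ⊓ ⁅Subgroup.normalizer ((S : Subgroup G) : Set G),
        Subgroup.normalizer ((S : Subgroup G) : Set G)⁆) :
    ∃ (P : Sylow p (Equiv.Perm (Fin (p ^ 2))))
      (f : ↥(S : Subgroup G) →* ↥(P : Subgroup (Equiv.Perm (Fin (p ^ 2))))),
      Function.Surjective f := by
  classical
  by_contra hnot
  apply h
  have hW : Cfsg.IsWeaklyClosed (S : Subgroup G) (S : Subgroup G) := isWeaklyClosed_self _
  have hPN : (S : Subgroup G) ≤ Subgroup.normalizer ((S : Subgroup G) : Set G) :=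
    weaklyClosed_le_normalizer hW
  apply le_antisymm
  · refine le_inf inf_le_left ?_
    apply focal_le_of_pResidual_control S _ hPN
    apply tate_general S _ hPN
    intro x hx hxres μ
    refine hall_wielandt_elem' S (S : Subgroup G) hW zmod_mul_pow_eq_one ?_ (orderOf x) x hx le_rfl
      (fun Λ => hom_pResidual_eq_one zmod_mul_pow_eq_one Λ hxres) μ (hPN hx)
    intro u hu Smax hSn hSidx hkS hWS
    obtain ⟨z, hzW', hzS⟩ := SetLike.not_le_iff_exists.1 hWS
    have hzW : (z : G) ∈ (S : Subgroup G) := Subgroup.mem_subgroupOf.1 hzW'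
    refine ⟨z, hzW, hzS, ?_⟩
    intro ρ c hc
    by_contra hρ
    apply hnot
    have hUeq : zpowers u ⊔ (S : Subgroup G) = (S : Subgroup G) :=
      sup_eq_right.2 (zpowers_le.2 hu)
    have hUp : IsPGroup p ↥(zpowers u ⊔ (S : Subgroup G)) := S.2.to_le hUeq.le
    haveI := hSn
    have hc' : (c : ↥(zpowers u ⊔ (S : Subgroup G))) =
        (fun y : ↥(zpowers u ⊔ (S : Subgroup G)) => y⁻¹ * z⁻¹ * y * z)^[p - 1]
          ⟨u, le_sup_left (α := Subgroup G) (mem_zpowers u)⟩ := by
      apply Subtype.ext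
      rw [coe_engel_iterate]
      exact hc
    obtain ⟨P, f, hf⟩ := exists_wreath_quotient hUp Smax hSidx _ z hkS ρ c hc' hρ
    let ε : ↥(S : Subgroup G) ≃* ↥(zpowers u ⊔ (S : Subgroup G)) :=
      MulEquiv.subgroupCongr hUeq.symm
    exact ⟨P, f.comp ε.toMonoidHom, hf.comp ε.surjective⟩
  · refine inf_le_inf_left _ ?_
    rw [_root_.commutator_def]
    exact Subgroup.commutator_mono le_top le_top

end Cfsg.Agent.Helper1
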