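import Mathlib

set_option autoImplicit false

/-!
# Metacyclic presentations

A finite group generated by `x`, `y` with `x ^ n = 1`, `y ^ m = 1`, `x⁻¹ y x = y ^ r` and of order
`n * m` is isomorphic to the group presented by these relations.
-/

namespace Cfsg.Agent.Helper1.ZFC

universe u

/-- the relators of the metacyclic presentation -/
def rels (n m r : ℕ) : Set (FreeGroup (Fin 2)) :=
  {FreeGroup.of (0 : Fin 2) ^ n, FreeGroup.of (1 : Fin 2) ^ m,
    (FreeGroup.of (0 : Fin 2))⁻¹ * FreeGroup.of 1 * FreeGroup.of 0 * (FreeGroup.of (1 : Fin 2) ^ r)⁻¹}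

section Presented

variable (n m r : ℕ)

theorem pres_x_pow : (PresentedGroup.of (rels := rels n m r) (0 : Fin 2)) ^ n = 1 := by
  have h : FreeGroup.of (0 : Fin 2) ^ n ∈ rels n m r := by
    unfold rels; simp
  have := (PresentedGroup.one_of_mem (rels := rels n m r) h)
  simpa [PresentedGroup.of] using this

theorem pres_y_pow : (PresentedGroup.of (rels := rels n m r) (1 : Fin 2)) ^ m = 1 := by
  have h : FreeGroup.of (1 : Fin 2) ^ m ∈ rels n m r := by
    unfold rels; simp
  have := (PresentedGroup.one_of_mem (rels := rels n m r) h)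
  simpa [PresentedGroup.of] using this

theorem pres_conj : (PresentedGroup.of (rels := rels n m r) (0 : Fin 2))⁻¹ *
    PresentedGroup.of (1 : Fin 2) * PresentedGroup.of (0 : Fin 2) =
    (PresentedGroup.of (rels := rels n m r) (1 : Fin 2)) ^ r := by
  have h : (FreeGroup.of (0 : Fin 2))⁻¹ * FreeGroup.of 1 * FreeGroup.of 0 *
      (FreeGroup.of (1 : Fin 2) ^ r)⁻¹ ∈ rels n m r := by
    unfold rels; simp
  have := (PresentedGroup.one_of_mem (rels := rels n m r) h)
  rw [← mul_inv_eq_one]
  simpa [PresentedGroup.of] using this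

/-- the cyclic subgroup generated by `y` is normal in the presented group -/
theorem pres_zpowers_y_normal (hn : 0 < n) :
    (Subgroup.zpowers (PresentedGroup.of (rels := rels n m r) (1 : Fin 2))).Normal := by
  set X := PresentedGroup.of (rels := rels n m r) (0 : Fin 2) with hX
  set Y := PresentedGroup.of (rels := rels n m r) (1 : Fin 2) with hY
  set B := Subgroup.zpowers Y with hB
  -- the submonoid of elements conjugating `B` into itself
  let S : Submonoid (PresentedGroup (rels n m r)) :=
    { carrier := {g | ∀ c ∈ B, g * c * g⁻¹ ∈ B}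
      one_mem' := by intro c hc; simpa using hc
      mul_mem' := by
        intro a b ha hb c hc
        have := ha _ (hb c hc)
        simpa [mul_assoc] using this }
  have hXinv : X⁻¹ ∈ S := by
    intro c hc
    obtain ⟨k, rfl⟩ := Subgroup.mem_zpowers_iff.1 hc
    have h1 : X⁻¹ * Y ^ k * X⁻¹⁻¹ = (X⁻¹ * Y * X) ^ k := by
      rw [inv_inv]
      have := map_zpow (MulAut.conj X⁻¹) Y k
      simpa [MulAut.conj_apply] using this
    rw [h1, pres_conj]
    exact Subgroup.zpow_mem _ (Subgroup.pow_mem _ (Subgroup.mem_zpowers Y) r) k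
  have hXS : X ∈ S := by
    have h1 : X = (X⁻¹) ^ (n - 1) := by
      have h2 : X ^ n = 1 := pres_x_pow n m r
      have h3 : X ^ (n - 1) * X = 1 := by rw [← pow_succ, Nat.sub_add_cancel hn, h2]
      rw [inv_pow]
      exact (eq_inv_of_mul_eq_one_right h3)
    rw [h1]
    exact S.pow_mem hXinv _
  have hYS : Y ∈ S := by
    intro c hc
    exact B.mul_mem (B.mul_mem (Subgroup.mem_zpowers Y) hc) (B.inv_mem (Subgroup.mem_zpowers Y))
  have hYinv : Y⁻¹ ∈ S := by
    intro c hc
    exact B.mul_mem (B.mul_mem (B.inv_mem (Subgroup.mem_zpowers Y)) hc)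
      (B.inv_mem (B.inv_mem (Subgroup.mem_zpowers Y)))
  have hnorm : ∀ g : PresentedGroup (rels n m r), g ∈ S → g⁻¹ ∈ S →
      g ∈ Subgroup.normalizer (B : Set _) := by
    intro g hg hg'
    rw [Subgroup.mem_normalizer_iff]
    intro c
    constructor
    · intro hc; exact hg c hc
    · intro hc
      have := hg' _ hc
      simpa [mul_assoc] using this
  have htop : ∀ g : PresentedGroup (rels n m r), g ∈ Subgroup.normalizer (B : Set _) := by
    intro g
    apply PresentedGroup.generated_by
    intro j
    fin_cases j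
    · exact hnorm _ hXS hXinv
    · exact hnorm _ hYS hYinv
  exact Subgroup.normalizer_eq_top_iff.1 (by rw [eq_top_iff]; intro g _; exact htop g)

theorem pres_finite_card_le (hn : 0 < n) (hm : 0 < m) :
    Finite (PresentedGroup (rels n m r)) ∧ Nat.card (PresentedGroup (rels n m r)) ≤ n * m := by
  set X := PresentedGroup.of (rels := rels n m r) (0 : Fin 2) with hX
  set Y := PresentedGroup.of (rels := rels n m r) (1 : Fin 2) with hY
  set A := Subgroup.zpowers X with hA
  set B := Subgroup.zpowers Y with hB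
  haveI hBn : B.Normal := pres_zpowers_y_normal n m r hn
  have hXo : orderOf X ∣ n := orderOf_dvd_of_pow_eq_one (pres_x_pow n m r)
  have hYo : orderOf Y ∣ m := orderOf_dvd_of_pow_eq_one (pres_y_pow n m r)
  have hXpos : 0 < orderOf X := Nat.pos_of_dvd_of_pos hXo hn
  have hYpos : 0 < orderOf Y := Nat.pos_of_dvd_of_pos hYo hm
  have hAc : Nat.card A = orderOf X := Nat.card_zpowers X
  have hBc : Nat.card B = orderOf Y := Nat.card_zpowers Y
  haveI hAf : Finite A := Nat.finite_of_card_ne_zero (by rw [hAc]; exact hXpos.ne')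
  haveI hBf : Finite B := Nat.finite_of_card_ne_zero (by rw [hBc]; exact hYpos.ne')
  have htop : A ⊔ B = ⊤ := by
    rw [eq_top_iff]
    intro g _
    apply PresentedGroup.generated_by
    intro j
    fin_cases j
    · exact (le_sup_left : A ≤ A ⊔ B) (Subgroup.mem_zpowers X)
    · exact (le_sup_right : B ≤ A ⊔ B) (Subgroup.mem_zpowers Y)
  have hsurj : Function.Surjective (fun ab : A × B => (ab.1 : PresentedGroup (rels n m r)) * ab.2) := by
    intro g
    have hg : g ∈ ((A ⊔ B : Subgroup _) : Set (PresentedGroup (rels n m r))) := by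
      rw [htop]; trivial
    rw [Subgroup.mul_normal] at hg
    obtain ⟨a, ha, b, hb, rfl⟩ := Set.mem_mul.1 hg
    exact ⟨(⟨a, ha⟩, ⟨b, hb⟩), rfl⟩
  haveI hfin : Finite (PresentedGroup (rels n m r)) := Finite.of_surjective _ hsurj
  refine ⟨hfin, ?_⟩
  calc Nat.card (PresentedGroup (rels n m r)) ≤ Nat.card (A × B) :=
        Nat.card_le_card_of_surjective _ hsurj
    _ = orderOf X * orderOf Y := by rw [Nat.card_prod, hAc, hBc]
    _ ≤ n * m := Nat.mul_le_mul (Nat.le_of_dvd hn hXo) (Nat.le_of_dvd hm hYo)

end Presented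

/-- A finite group of order `n * m` generated by `x`, `y` subject to the metacyclic relations is
isomorphic to the presented group. -/
theorem nonempty_mulEquiv_presented {G : Type u} [Group G] [Finite G] (n m r : ℕ) (hn : 0 < n)
    (hm : 0 < m) (x y : G) (hx : x ^ n = 1) (hy : y ^ m = 1) (hxy : x⁻¹ * y * x = y ^ r)
    (hgen : Subgroup.closure ({x, y} : Set G) = ⊤) (hcard : Nat.card G = n * m) :
    Nonempty (G ≃* PresentedGroup (rels n m r)) := by
  have hrel : ∀ w ∈ rels n m r, FreeGroup.lift (![x, y] : Fin 2 → G) w = 1 := by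
    intro w hw
    unfold rels at hw
    rcases hw with rfl | rfl | rfl
    · simp [hx]
    · simp [hy]
    · simp only [map_mul, map_inv, map_pow, FreeGroup.lift_apply_of, Matrix.cons_val_zero,
        Matrix.cons_val_one]
      rw [hxy]; simp
  let φ : PresentedGroup (rels n m r) →* G := PresentedGroup.toGroup hrel
  have hφx : φ (PresentedGroup.of 0) = x := by
    simp [φ]
  have hφy : φ (PresentedGroup.of 1) = y := by
    simp [φ]
  have hsurj : Function.Surjective φ := by
    rw [← MonoidHom.range_eq_top, eq_top_iff, ← hgen, Subgroup.closure_le]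
    rintro g (rfl | rfl)
    · exact ⟨_, hφx⟩
    · exact ⟨_, hφy⟩
  obtain ⟨hfin, hle⟩ := pres_finite_card_le n m r hn hm
  have hbij : Function.Bijective φ :=
    hsurj.bijective_of_nat_card_le (by rw [hcard]; exact hle)
  exact ⟨(MulEquiv.ofBijective φ hbij).symm⟩

end Cfsg.Agent.Helper1.ZFC
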