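import Mathlib
import Cfsg.Agent.Helper1.ZFCa
import Cfsg.Agent.Helper1.AbelianAct
import Cfsg.Agent.Helper1.Coprime

set_option autoImplicit false

/-!
# Z-groups with cyclic subgroups of order `pq`: the metacyclic presentation
-/

namespace Cfsg.Agent.Helper1.ZFC

universe u

variable {G : Type u} [Group G]

theorem conj_pow_iter (x y : G) (r : ℕ) (h : x⁻¹ * y * x = y ^ r) (e : ℕ) :
    (x ^ e)⁻¹ * y * x ^ e = y ^ (r ^ e) := by
  induction e with
  | zero => simp
  | succ e ih =>
    have h1 : (x ^ (e + 1))⁻¹ * y * x ^ (e + 1) = x⁻¹ * ((x ^ e)⁻¹ * y * x ^ e) * x := by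
      rw [pow_succ]; group
    rw [h1, ih]
    have h2 : x⁻¹ * y ^ (r ^ e) * x = (x⁻¹ * y * x) ^ (r ^ e) := by
      have := map_pow (MulAut.conj x⁻¹) y (r ^ e)
      simpa [MulAut.conj_apply] using this
    rw [h2, h, ← pow_mul, pow_succ, mul_comm]

/-- every subgroup of a normal cyclic subgroup is normal -/
theorem normal_of_le_zpowers_normal (y : G) (h : (Subgroup.zpowers y).Normal) (K : Subgroup G)
    (hK : K ≤ Subgroup.zpowers y) : K.Normal := by
  constructor
  intro z hz g
  obtain ⟨j, rfl⟩ := Subgroup.mem_zpowers_iff.1 (hK hz)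
  obtain ⟨i, hi⟩ := Subgroup.mem_zpowers_iff.1 (h.conj_mem y (Subgroup.mem_zpowers y) g)
  have h1 : g * y ^ j * g⁻¹ = (g * y * g⁻¹) ^ j := by
    have := map_zpow (MulAut.conj g) y j
    simpa [MulAut.conj_apply] using this
  rw [h1, ← hi, ← zpow_mul, mul_comm, zpow_mul]
  exact K.zpow_mem hz i

/-- An element of prime order `p` centralizes a normal cyclic subgroup of order prime to `p`,
provided all subgroups of order `pq` are cyclic. -/
theorem commute_of_prime_order [Finite G]
    (hpq : ∀ D : Subgroup G, ∀ p q : ℕ, p.Prime → q.Prime → Nat.card D = p * q → IsCyclic D)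
    (y : G) (hYn : (Subgroup.zpowers y).Normal) (a : G) {p : ℕ} (hp : p.Prime)
    (ha : orderOf a = p) (hcop : p.Coprime (orderOf y)) : a * y = y * a := by
  classical
  set Y := Subgroup.zpowers y with hY
  set A := Subgroup.zpowers a with hA
  haveI : IsMulCommutative Y := ⟨⟨fun u v => IsCyclic.commGroup.mul_comm u v⟩⟩
  have hAc : Nat.card A = p := by rw [Nat.card_zpowers, ha]
  have hYc : Nat.card Y = orderOf y := Nat.card_zpowers y
  have hAY : A ≤ Subgroup.normalizer (Y : Set G) := by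
    rw [Subgroup.normalizer_eq_top]; exact le_top
  have hcop' : (Nat.card A).Coprime (Nat.card Y) := by rw [hAc, hYc]; exact hcop
  obtain ⟨hdec, -⟩ := abelian_coprime_decomp A Y hAY hcop'
  have hcomYA : ⁅Y, A⁆ ≤ Y := Subgroup.commutator_le_left Y A
  have hbot : ⁅Y, A⁆ = ⊥ := by
    by_contra hne
    have hcard1 : Nat.card ↥⁅Y, A⁆ ≠ 1 := fun h => hne (Subgroup.card_eq_one.1 h)
    obtain ⟨q, hq, hqd⟩ := Nat.exists_prime_and_dvd hcard1
    haveI := Fact.mk hq
    obtain ⟨z, hz⟩ := exists_prime_orderOf_dvd_card' q hqd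
    have hzo : orderOf (z : G) = q := by rw [Subgroup.orderOf_coe]; exact hz
    set Z := Subgroup.zpowers (z : G) with hZ
    have hZY : Z ≤ Y := by
      rw [hZ, Subgroup.zpowers_le]; exact hcomYA z.2
    haveI hZn : Z.Normal := normal_of_le_zpowers_normal y hYn Z hZY
    have hZc : Nat.card Z = q := by rw [Nat.card_zpowers, hzo]
    have hqm : q ∣ orderOf y := by
      rw [← hYc, ← hZc]; exact Subgroup.card_dvd_of_le hZY
    have hpq' : p.Coprime q := Nat.Coprime.coprime_dvd_right hqm hcop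
    have hAZ : A ≤ Subgroup.normalizer (Z : Set G) := by
      rw [Subgroup.normalizer_eq_top]; exact le_top
    have hdisj : A ⊓ Z = ⊥ := (Subgroup.disjoint_of_coprime_natCard (by rw [hAc, hZc]; exact hpq')).eq_bot
    have hDc : Nat.card (Z ⊔ A : Subgroup G) = p * q := by
      rw [card_sup_of_le_normalizer hAZ hdisj, hAc, hZc]
    have hDcyc := hpq (Z ⊔ A) p q hp hq hDc
    have hza : a * (z : G) = (z : G) * a := by
      have haD : a ∈ Z ⊔ A := (le_sup_right : A ≤ Z ⊔ A) (Subgroup.mem_zpowers a)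
      have hzD : (z : G) ∈ Z ⊔ A := (le_sup_left : Z ≤ Z ⊔ A) (Subgroup.mem_zpowers _)
      have := IsCyclic.commGroup.mul_comm (⟨a, haD⟩ : ↥(Z ⊔ A)) ⟨(z : G), hzD⟩
      exact congrArg Subtype.val this
    have hzC : (z : G) ∈ Subgroup.centralizer (A : Set G) := by
      rw [Subgroup.mem_centralizer_iff]
      intro h hh
      obtain ⟨k, rfl⟩ := Subgroup.mem_zpowers_iff.1 hh
      have hc : Commute a (z : G) := hza
      exact (hc.zpow_left k).eq
    have hz1 : (z : G) ∈ (Y ⊓ Subgroup.centralizer (A : Set G)) ⊓ ⁅Y, A⁆ :=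
      Subgroup.mem_inf.2 ⟨Subgroup.mem_inf.2 ⟨hcomYA z.2, hzC⟩, z.2⟩
    rw [hdec, Subgroup.mem_bot] at hz1
    rw [hz1, orderOf_one] at hzo
    exact hq.one_lt.ne hzo
  have hle := Subgroup.commutator_eq_bot_iff_le_centralizer.1 hbot
  have := Subgroup.mem_centralizer_iff.1 (hle (Subgroup.mem_zpowers y)) a (Subgroup.mem_zpowers a)
  exact this

/-- radical-quotient arithmetic: if every prime divisor of `n` divides `c` and `n = i * c`, then
`i ∣ n / rad n`. -/
theorem dvd_div_rad {n i c : ℕ} (hn : 0 < n) (hic : i * c = n)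
    (hc : ∀ p : ℕ, p.Prime → p ∣ n → p ∣ c) : i ∣ n / ∏ p ∈ n.primeFactors, p := by
  have hrad : ∏ p ∈ n.primeFactors, p ∣ c := by
    apply Finset.prod_primes_dvd
    · intro p hp; exact (Nat.prime_of_mem_primeFactors hp).prime
    · intro p hp; exact hc p (Nat.prime_of_mem_primeFactors hp) (Nat.dvd_of_mem_primeFactors hp)
  obtain ⟨u, hu⟩ := hrad
  have hradpos : 0 < ∏ p ∈ n.primeFactors, p :=
    Finset.prod_pos fun p hp => (Nat.prime_of_mem_primeFactors hp).pos
  refine ⟨u, ?_⟩
  apply Nat.div_eq_of_eq_mul_right hradpos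
  generalize (∏ p ∈ n.primeFactors, p) = R at hu ⊢
  rw [← hic, hu]; ring

/-- **Metacyclic presentation of Z-groups** in which subgroups of order `pq` are cyclic. -/
theorem zgroup_presentation [Finite G] [IsZGroup G]
    (hpq : ∀ D : Subgroup G, ∀ p q : ℕ, p.Prime → q.Prime → Nat.card D = p * q → IsCyclic D) :
    ∃ n m r : ℕ, 0 < n ∧ 0 < m ∧ Nat.Coprime (r - 1) m ∧ Nat.Coprime n m ∧ 1 ≤ r ∧
      r ^ (n / ∏ p ∈ n.primeFactors, p) % m = 1 % m ∧
      Nonempty (G ≃* PresentedGroup (rels n m r)) := by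
  classical
  set Y := commutator G with hY
  haveI hYn : Y.Normal := inferInstance
  haveI hYc : IsCyclic Y := IsZGroup.isCyclic_commutator G
  have hcop := IsZGroup.coprime_commutator_index G
  obtain ⟨H, hH⟩ := Subgroup.exists_right_complement'_of_coprime hcop
  have h1 : Abelianization G ≃* H := hH.symm.QuotientMulEquiv
  haveI hHc : IsCyclic H := isCyclic_of_surjective _ h1.surjective
  obtain ⟨y, hy⟩ := IsCyclic.exists_generator (α := Y)
  obtain ⟨x, hx⟩ := IsCyclic.exists_generator (α := H)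
  set m := Nat.card Y with hm
  set n := Nat.card H with hn
  have hmpos : 0 < m := Nat.card_pos
  have hnpos : 0 < n := Nat.card_pos
  have hyo : orderOf (y : G) = m := by
    rw [Subgroup.orderOf_coe]; exact orderOf_eq_card_of_forall_mem_zpowers hy
  have hxo : orderOf (x : G) = n := by
    rw [Subgroup.orderOf_coe]; exact orderOf_eq_card_of_forall_mem_zpowers hx
  have hYz : Subgroup.zpowers (y : G) = Y := by
    apply le_antisymm
    · rw [Subgroup.zpowers_le]; exact y.2
    · intro g hg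
      obtain ⟨k, hk⟩ := Subgroup.mem_zpowers_iff.1 (hy ⟨g, hg⟩)
      refine Subgroup.mem_zpowers_iff.2 ⟨k, ?_⟩
      have := congrArg Subtype.val hk
      simpa using this
  have hHz : Subgroup.zpowers (x : G) = H := by
    apply le_antisymm
    · rw [Subgroup.zpowers_le]; exact x.2
    · intro g hg
      obtain ⟨k, hk⟩ := Subgroup.mem_zpowers_iff.1 (hx ⟨g, hg⟩)
      refine Subgroup.mem_zpowers_iff.2 ⟨k, ?_⟩
      have := congrArg Subtype.val hk
      simpa using this
  have hYzn : (Subgroup.zpowers (y : G)).Normal := by rw [hYz]; exact hYn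
  have hnm : Nat.Coprime n m := by
    have : Y.index = n := hH.symm.index_eq_card
    rw [this] at hcop
    exact hcop.symm
  -- the exponent `r`
  have hconjY : (x : G)⁻¹ * (y : G) * (x : G) ∈ Subgroup.zpowers (y : G) := by
    have := hYzn.conj_mem (y : G) (Subgroup.mem_zpowers _) (x : G)⁻¹
    simpa using this
  rw [← (isOfFinOrder_of_finite (y : G)).mem_powers_iff_mem_zpowers] at hconjY
  obtain ⟨k, hk⟩ := (Submonoid.mem_powers_iff _ _).1 hconjY
  have hym : (y : G) ^ m = 1 := by rw [← hyo]; exact pow_orderOf_eq_one _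
  have hxn : (x : G) ^ n = 1 := by rw [← hxo]; exact pow_orderOf_eq_one _
  set r := k + m with hr
  have hxy : (x : G)⁻¹ * (y : G) * (x : G) = (y : G) ^ r := by
    rw [hr, pow_add, hym, mul_one, hk]
  have hr1 : 1 ≤ r := by omega
  have hgen : Subgroup.closure ({(x : G), (y : G)} : Set G) = ⊤ := by
    rw [eq_top_iff, ← hH.sup_eq_top, sup_le_iff]
    constructor
    · refine hYz.symm.le.trans ?_
      rw [Subgroup.zpowers_le]; exact Subgroup.subset_closure (by simp)
    · refine hHz.symm.le.trans ?_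
      rw [Subgroup.zpowers_le]; exact Subgroup.subset_closure (by simp)
  have hcard : Nat.card G = n * m := by
    rw [← hH.card_mul_card, mul_comm]
  -- coprimality of `r - 1` and `m`
  have hcop1 : Nat.Coprime (r - 1) m := by
    by_contra hnc
    obtain ⟨p, hp, hpr, hpm⟩ := Nat.Prime.not_coprime_iff_dvd.1 hnc
    set Y₁ := Subgroup.zpowers ((y : G) ^ p) with hY₁
    have hY₁Y : Y₁ ≤ Subgroup.zpowers (y : G) := by
      rw [hY₁, Subgroup.zpowers_le]; exact Subgroup.pow_mem _ (Subgroup.mem_zpowers _) p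
    haveI hY₁n : Y₁.Normal := normal_of_le_zpowers_normal (y : G) hYzn Y₁ hY₁Y
    have hcommxy : ((x : G) : G ⧸ Y₁) * ((y : G) : G ⧸ Y₁) = ((y : G) : G ⧸ Y₁) * ((x : G) : G ⧸ Y₁) := by
      have h2 : (y : G) ^ (r - 1) ∈ Y₁ := by
        obtain ⟨t, ht⟩ := hpr
        rw [ht, pow_mul]
        exact Subgroup.pow_mem _ (Subgroup.mem_zpowers _) t
      have h3 : (x : G)⁻¹ * (y : G) * (x : G) = (y : G) ^ (r - 1) * (y : G) := by
        rw [hxy, ← pow_succ, Nat.sub_add_cancel hr1]
      have h4 : (((x : G)⁻¹ * (y : G) * (x : G) : G) : G ⧸ Y₁) = ((y : G) : G ⧸ Y₁) := by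
        rw [h3, QuotientGroup.mk_mul, (QuotientGroup.eq_one_iff _).2 h2, one_mul]
      rw [QuotientGroup.mk_mul, QuotientGroup.mk_mul, QuotientGroup.mk_inv] at h4
      calc ((x : G) : G ⧸ Y₁) * ((y : G) : G ⧸ Y₁)
          = ((x : G) : G ⧸ Y₁) * ((((x : G) : G ⧸ Y₁))⁻¹ * ((y : G) : G ⧸ Y₁) * ((x : G) : G ⧸ Y₁)) := by
            rw [h4]
        _ = ((y : G) : G ⧸ Y₁) * ((x : G) : G ⧸ Y₁) := by group
    have hgen' : Subgroup.closure ({((x : G) : G ⧸ Y₁), ((y : G) : G ⧸ Y₁)} : Set (G ⧸ Y₁)) = ⊤ := by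
      have := congrArg (Subgroup.map (QuotientGroup.mk' Y₁)) hgen
      rw [MonoidHom.map_closure, Subgroup.map_top_of_surjective _ (QuotientGroup.mk'_surjective Y₁)]
        at this
      rw [← this, Set.image_pair]
      rfl
    have hcomm : IsMulCommutative (Subgroup.closure
        ({((x : G) : G ⧸ Y₁), ((y : G) : G ⧸ Y₁)} : Set (G ⧸ Y₁))) := by
      apply Subgroup.isMulCommutative_closure
      rintro a (rfl | rfl) b (rfl | rfl)
      · rfl
      · exact hcommxy
      · exact hcommxy.symm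
      · rfl
    have hab : ∀ a b : G ⧸ Y₁, a * b = b * a := by
      intro a b
      have ha : a ∈ Subgroup.closure ({((x : G) : G ⧸ Y₁), ((y : G) : G ⧸ Y₁)} : Set (G ⧸ Y₁)) := by
        rw [hgen']; trivial
      have hb : b ∈ Subgroup.closure ({((x : G) : G ⧸ Y₁), ((y : G) : G ⧸ Y₁)} : Set (G ⧸ Y₁)) := by
        rw [hgen']; trivial
      have := hcomm.is_comm.comm ⟨a, ha⟩ ⟨b, hb⟩
      exact congrArg Subtype.val this
    have hle : Y ≤ Y₁ := by
      rw [hY, commutator_def, Subgroup.commutator_le]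
      intro g₁ _ g₂ _
      rw [← QuotientGroup.eq_one_iff, commutatorElement_def]
      simp only [QuotientGroup.mk_mul, QuotientGroup.mk_inv]
      rw [hab (g₁ : G ⧸ Y₁) (g₂ : G ⧸ Y₁)]
      group
    have hc1 : Nat.card Y₁ = m / p := by
      rw [hY₁, Nat.card_zpowers, orderOf_pow' _ hp.ne_zero, hyo, Nat.gcd_eq_right hpm]
    have hc2 : m ≤ m / p := by
      rw [← hc1]
      exact Nat.card_le_card_of_injective _ (Subgroup.inclusion_injective hle)
    have hc3 : m / p < m := Nat.div_lt_self hmpos hp.one_lt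
    omega
  -- the congruence
  have hcong : r ^ (n / ∏ p ∈ n.primeFactors, p) % m = 1 % m := by
    -- every element of prime order of `H` centralizes `y`
    have hprime : ∀ p : ℕ, p.Prime → p ∣ n → (x : G) ^ (n / p) * (y : G) = (y : G) * (x : G) ^ (n / p) := by
      intro p hp hpn
      apply commute_of_prime_order hpq (y : G) hYzn _ hp
      · rw [orderOf_pow' _ (by
          have : 0 < n / p := Nat.div_pos (Nat.le_of_dvd hnpos hpn) hp.pos
          omega), hxo, Nat.gcd_eq_right (Nat.div_dvd_of_dvd hpn), Nat.div_div_self hpn hnpos.ne']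
      · rw [hyo]; exact Nat.Coprime.coprime_dvd_left hpn hnm
    -- the centralizer of `y` in `H`
    set C := (Subgroup.centralizer ({(y : G)} : Set G)).subgroupOf H with hC
    haveI hCn : C.Normal := by
      constructor
      intro c hc g
      have : g * c = c * g := IsCyclic.commGroup.mul_comm g c
      rw [this, mul_inv_cancel_right]; exact hc
    have hCdvd : ∀ p : ℕ, p.Prime → p ∣ n → p ∣ Nat.card C := by
      intro p hp hpn
      have hmem : x ^ (n / p) ∈ C := by
        rw [hC, Subgroup.mem_subgroupOf, Subgroup.mem_centralizer_iff]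
        intro g hg
        rw [Set.mem_singleton_iff] at hg
        subst hg
        have := hprime p hp hpn
        simpa using this.symm
      have hord : orderOf (x ^ (n / p)) = p := by
        have hxo' : orderOf x = n := by rw [← Subgroup.orderOf_coe]; exact hxo
        rw [orderOf_pow' _ (by
          have : 0 < n / p := Nat.div_pos (Nat.le_of_dvd hnpos hpn) hp.pos
          omega), hxo', Nat.gcd_eq_right (Nat.div_dvd_of_dvd hpn), Nat.div_div_self hpn hnpos.ne']
      have h3 : orderOf (⟨x ^ (n / p), hmem⟩ : C) = p := by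
        rw [← Subgroup.orderOf_coe]; exact hord
      rw [← h3]; exact orderOf_dvd_natCard _
    have hidx : C.index * Nat.card C = n := C.index_mul_card
    obtain ⟨u, hu⟩ := dvd_div_rad hnpos hidx hCdvd
    have hmem : x ^ (n / ∏ p ∈ n.primeFactors, p) ∈ C := by
      rw [hu, pow_mul]
      exact C.pow_mem (Subgroup.pow_index_mem C x) u
    rw [hC, Subgroup.mem_subgroupOf, Subgroup.mem_centralizer_iff] at hmem
    have hcomm := hmem (y : G) rfl
    have hiter := conj_pow_iter (x : G) (y : G) r hxy (n / ∏ p ∈ n.primeFactors, p)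
    have h5 : (y : G) ^ (r ^ (n / ∏ p ∈ n.primeFactors, p)) = (y : G) ^ 1 := by
      rw [← hiter, pow_one]
      have h6 : (y : G) * ((x : G) ^ (n / ∏ p ∈ n.primeFactors, p)) =
          ((x : G) ^ (n / ∏ p ∈ n.primeFactors, p)) * (y : G) := by
        simpa using hcomm
      rw [mul_assoc, h6, ← mul_assoc, inv_mul_cancel, one_mul]
    have := pow_eq_pow_iff_modEq.1 h5
    rw [hyo] at this
    exact this
  exact ⟨n, m, r, hnpos, hmpos, hcop1, hnm, hr1, hcong,
    nonempty_mulEquiv_presented n m r hnpos hmpos (x : G) (y : G) hxn hym hxy hgen hcard⟩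

end Cfsg.Agent.Helper1.ZFC
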