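import Mathlib
import Cfsg.Agent.Helper1.FrobComplSylow

set_option autoImplicit false

/-!
# Frobenius complements: subgroups of order `pq`, and the shape of `2`-subgroups
-/

namespace Cfsg.Agent.Helper1.ZFC

universe u v

variable {X : Type u} [Group X]

/-- `Q ∩ C` has index at most two in `Q`, for some cyclic subgroup `C`. -/
def TwoCyc (Q : Subgroup X) : Prop :=
  ∃ C : Subgroup X, IsCyclic C ∧ ∀ g ∈ Q, ∀ h ∈ Q, g ∈ C ∨ h ∈ C ∨ g⁻¹ * h ∈ C

theorem TwoCyc.mono {Q T : Subgroup X} (h : TwoCyc Q) (hT : T ≤ Q) : TwoCyc T := by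
  obtain ⟨C, hC, hQ⟩ := h
  exact ⟨C, hC, fun g hg k hk => hQ g (hT hg) k (hT hk)⟩

theorem TwoCyc.map {X' : Type v} [Group X'] (f : X →* X') {Q : Subgroup X} (h : TwoCyc Q) :
    TwoCyc (Q.map f) := by
  obtain ⟨C, hC, hQ⟩ := h
  refine ⟨C.map f, isCyclic_of_surjective (f.subgroupMap C) (f.subgroupMap_surjective C), ?_⟩
  rintro _ ⟨g, hg, rfl⟩ _ ⟨k, hk, rfl⟩
  rcases hQ g hg k hk with h1 | h1 | h1
  · exact Or.inl (Subgroup.mem_map_of_mem f h1)
  · exact Or.inr (Or.inl (Subgroup.mem_map_of_mem f h1))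
  · refine Or.inr (Or.inr ?_)
    rw [← map_inv, ← map_mul]
    exact Subgroup.mem_map_of_mem f h1

theorem twoCyc_of_isCyclic (Q : Subgroup X) [hQ : IsCyclic Q] : TwoCyc Q :=
  ⟨Q, hQ, fun _ hg _ _ => Or.inl hg⟩

theorem twoCyc_of_quaternion (S : Subgroup X) {n : ℕ} [NeZero n] (e : S ≃* QuaternionGroup n) :
    TwoCyc S := by
  haveI : NeZero (2 * n) := ⟨by have := NeZero.ne n; omega⟩
  set c : S := e.symm (QuaternionGroup.a 1) with hc
  refine ⟨(Subgroup.zpowers c).map S.subtype,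
    isCyclic_of_surjective (S.subtype.subgroupMap (Subgroup.zpowers c))
      (S.subtype.subgroupMap_surjective _), ?_⟩
  have hmemC : ∀ (s : S) (i : ZMod (2 * n)), e s = QuaternionGroup.a i →
      (s : X) ∈ (Subgroup.zpowers c).map S.subtype := by
    intro s i hs
    refine ⟨s, ?_, rfl⟩
    have h1 : s = c ^ i.val := by
      apply e.injective
      rw [map_pow, hc, MulEquiv.apply_symm_apply, QuaternionGroup.a_one_pow, hs,
        ZMod.natCast_zmod_val]
    rw [h1]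
    exact Subgroup.pow_mem _ (Subgroup.mem_zpowers c) _
  intro g hg k hk
  rcases hge : e ⟨g, hg⟩ with i | i
  · exact Or.inl (hmemC ⟨g, hg⟩ i hge)
  · rcases hke : e ⟨k, hk⟩ with j | j
    · exact Or.inr (Or.inl (hmemC ⟨k, hk⟩ j hke))
    · refine Or.inr (Or.inr ?_)
      have hmul : e ⟨g, hg⟩ * e (⟨g, hg⟩⁻¹ * ⟨k, hk⟩) = e ⟨k, hk⟩ := by
        rw [← map_mul, mul_inv_cancel_left]
      rcases hue : e (⟨g, hg⟩⁻¹ * ⟨k, hk⟩) with l | l
      · exact hmemC (⟨g, hg⟩⁻¹ * ⟨k, hk⟩) l hue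
      · rw [hge, hke, hue, QuaternionGroup.xa_mul_xa] at hmul
        cases hmul

/-- the Sylow hypothesis: cyclic or generalized quaternion -/
def SylCQ (X : Type u) [Group X] : Prop :=
  ∀ (p : ℕ) [Fact p.Prime] (P : Sylow p X),
    IsCyclic P ∨ ∃ n : ℕ, Nonempty (P ≃* QuaternionGroup (2 ^ n))

theorem SylCQ.isCyclic_of_odd [Finite X] (hsyl : SylCQ X) {p : ℕ} (hp : p.Prime) (hp2 : p ≠ 2)
    (Q : Subgroup X) (hQ : IsPGroup p Q) : IsCyclic Q := by
  haveI := Fact.mk hp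
  obtain ⟨P, hQP⟩ := hQ.exists_le_sylow
  rcases hsyl p P with h | ⟨n, ⟨e⟩⟩
  · exact Subgroup.isCyclic_of_le hQP
  · exfalso
    haveI : NeZero (2 ^ n) := ⟨by positivity⟩
    have h1 : Nat.card (P : Subgroup X) = 4 * 2 ^ n := by
      rw [Nat.card_congr e.toEquiv, Nat.card_eq_fintype_card, QuaternionGroup.card]
    obtain ⟨k, hk⟩ := IsPGroup.iff_card.1 P.2
    have h2 : 2 ∣ p ^ k := by
      rw [← hk, h1]; exact Dvd.dvd.mul_right (by norm_num) _
    have h3 : 2 ∣ p := Nat.Prime.dvd_of_dvd_pow Nat.prime_two h2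
    exact hp2 ((Nat.prime_dvd_prime_iff_eq Nat.prime_two hp).1 h3).symm

theorem SylCQ.twoCyc [Finite X] (hsyl : SylCQ X) (Q : Subgroup X) (hQ : IsPGroup 2 Q) :
    TwoCyc Q := by
  haveI := Fact.mk Nat.prime_two
  obtain ⟨P, hQP⟩ := hQ.exists_le_sylow
  rcases hsyl 2 P with h | ⟨n, ⟨e⟩⟩
  · exact (twoCyc_of_isCyclic (P : Subgroup X)).mono hQP
  · haveI : NeZero (2 ^ n) := ⟨by positivity⟩
    exact (twoCyc_of_quaternion (P : Subgroup X) e).mono hQP

/-- In a Frobenius complement, solvable subgroups of order `pq` are cyclic. -/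
theorem frobenius_complement_pq {G : Type u} [Group G] [Finite G] (K H : Subgroup G)
    [hKn : K.Normal] (hK : K ≠ ⊥)
    (hfpf : ∀ h ∈ H, h ≠ 1 → K ⊓ Subgroup.centralizer {h} = ⊥) (D : Subgroup G) (hDH : D ≤ H)
    (hDsolv : Group.IsSolvable D) {p q : ℕ} (hp : p.Prime) (hq : q.Prime)
    (hcard : Nat.card D = p * q) : IsCyclic D := by
  have hHK : H ≤ Subgroup.normalizer (K : Set G) := by
    rw [Subgroup.normalizer_eq_top]; exact le_top
  have hf := conjHom_isFPF H K hHK hfpf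
  have hcopr : ∀ r : ℕ, r.Prime → r ∣ Nat.card D → (Nat.card K).Coprime r := by
    intro r hr hrd
    haveI := Fact.mk hr
    obtain ⟨a, ha⟩ := exists_prime_orderOf_dvd_card' r hrd
    have hord : orderOf (⟨(a : G), hDH a.2⟩ : H) = r := by
      rw [← Subgroup.orderOf_coe]
      simp only
      rw [Subgroup.orderOf_coe]; exact ha
    exact hf.coprime_card _ hord
  have hcop : (Nat.card D).Coprime (Nat.card K) := by
    rw [hcard]
    exact Nat.Coprime.mul_left
      (hcopr p hp (by rw [hcard]; exact dvd_mul_right p q)).symm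
      (hcopr q hq (by rw [hcard]; exact dvd_mul_left q p)).symm
  have hDK : D ≤ Subgroup.normalizer (K : Set G) := hDH.trans hHK
  have hK1 : Nat.card K ≠ 1 := fun h => hK (Subgroup.card_eq_one.1 h)
  obtain ⟨r, hr, hrK⟩ := Nat.exists_prime_and_dvd hK1
  have hrF := Fact.mk hr
  obtain ⟨R, hR⟩ := exists_invariant_sylow (p := r) D K hDK hcop (Or.inl hDsolv)
  set R' := (R : Subgroup K).map K.subtype with hR'
  have hR'K : R' ≤ K := Subgroup.map_subtype_le _
  have hR'p : IsPGroup r R' := R.2.map _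
  have hR'ne : R' ≠ ⊥ := by
    intro h
    have h1 : (R : Subgroup K) ≠ ⊥ := R.ne_bot_of_dvd_card hrK
    apply h1
    rw [eq_bot_iff]
    intro x hx
    have : (x : G) ∈ R' := Subgroup.mem_map_of_mem _ hx
    rw [h, Subgroup.mem_bot] at this
    rw [Subgroup.mem_bot]
    exact Subtype.ext this
  set Z := R' ⊓ Subgroup.centralizer (R' : Set G) with hZ
  haveI hZc : IsMulCommutative Z := by
    constructor; constructor
    rintro ⟨x, hx⟩ ⟨y, hy⟩
    apply Subtype.ext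
    exact (Subgroup.mem_centralizer_iff.1 (Subgroup.mem_inf.1 hy).2 x (Subgroup.mem_inf.1 hx).1)
  obtain ⟨z, hzR, hz1, hzc⟩ := exists_central_ne_one hR'p.isNilpotent hR'ne
  have hZne : Z ≠ ⊥ := by
    intro h
    have : z ∈ Z := by
      refine Subgroup.mem_inf.2 ⟨hzR, ?_⟩
      rw [Subgroup.mem_centralizer_iff]
      intro y hy
      exact (hzc y hy).symm
    rw [h, Subgroup.mem_bot] at this
    exact hz1 this
  have hDZ : D ≤ Subgroup.normalizer (Z : Set G) :=
    le_normalizer_inf hR (le_normalizer_centralizer_of_le_normalizer hR)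
  have hfpfZ : ∀ d ∈ D, d ≠ 1 → Z ⊓ Subgroup.centralizer {d} = ⊥ := by
    intro d hd hd1
    rw [eq_bot_iff, ← hfpf d (hDH hd) hd1]
    exact inf_le_inf_right _ (inf_le_left.trans hR'K)
  exact isCyclic_of_fpf D Z hZne hDZ hfpfZ (Or.inr ⟨p, q, hp, hq, hcard⟩)

end Cfsg.Agent.Helper1.ZFC
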