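import Mathlib
import Cfsg.Agent.Helper1.Gaschutz

set_option autoImplicit false

/-!
# Groups with a small self-centralizing normal elementary abelian `2`-subgroup embed in `S₄`
-/

namespace Cfsg.Agent.Helper1.ZFC

universe u

variable {X : Type u} [Group X]

/-- a nontrivial normal subgroup of a finite `p`-group meets the centre nontrivially -/
theorem normal_inf_center_ne_bot' {Q : Type*} [Group Q] [Finite Q] {p : ℕ} [hp : Fact p.Prime]
    (hQ : IsPGroup p Q) (M : Subgroup Q) [hM : M.Normal] (hMne : M ≠ ⊥) :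
    ∃ b ∈ M, b ≠ 1 ∧ ∀ g : Q, g * b = b * g := by
  have hQ' : IsPGroup p (ConjAct Q) := hQ
  have hcard : p ∣ Nat.card M := by
    obtain ⟨k, hk⟩ := (hQ.to_subgroup M).exists_card_eq
    have hk0 : k ≠ 0 := by
      rintro rfl
      rw [pow_zero] at hk
      exact hMne (Subgroup.card_eq_one.1 hk)
    rw [hk]
    exact dvd_pow_self p hk0
  have h1 : (1 : M) ∈ MulAction.fixedPoints (ConjAct Q) M := by
    intro g
    exact smul_one g
  obtain ⟨b, hb, hne⟩ := hQ'.exists_fixed_point_of_prime_dvd_card_of_fixed_point M hcard h1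
  refine ⟨(b : Q), b.2, ?_, ?_⟩
  · intro h
    apply hne
    exact (Subtype.ext h).symm
  · intro g
    have h2 := hb (ConjAct.toConjAct g)
    have h3 := congrArg Subtype.val h2
    rw [ConjAct.Subgroup.val_conj_smul, ConjAct.smul_def, ConjAct.ofConjAct_toConjAct] at h3
    calc g * b = g * b * g⁻¹ * g := by group
      _ = b * g := by rw [h3]

theorem mem_zpowers_of_sq_eq_one {z w : X} (hz : z ^ 2 = 1) (hw : w ∈ Subgroup.zpowers z) :
    w = 1 ∨ w = z := by
  obtain ⟨k, rfl⟩ := Subgroup.mem_zpowers_iff.1 hw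
  rcases Int.even_or_odd' k with ⟨j, rfl | rfl⟩
  · left
    rw [zpow_mul, zpow_ofNat, hz, one_zpow]
  · right
    rw [zpow_add, zpow_mul, zpow_ofNat, hz, one_zpow, one_mul, zpow_one]

/-- In a `2`-group, a self-centralizing normal four-group of exponent two has a complement. -/
theorem exists_compl_two_group [Finite X] (V D : Subgroup X) [hVn : V.Normal] (hVD : V ≤ D)
    (hD : IsPGroup 2 D) (hcard : Nat.card V = 4) (hexp : ∀ v ∈ V, v ^ 2 = 1)
    (hcent : ∀ d ∈ D, (∀ v ∈ V, d * v = v * d) → d ∈ V) :
    ∃ A : Subgroup X, A ⊓ V = ⊥ ∧ V ⊔ A = D := by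
  classical
  haveI : Fact (Nat.Prime 2) := ⟨Nat.prime_two⟩
  -- a central involution
  have hVne : V.subgroupOf D ≠ ⊥ := by
    intro h
    have h1 : Nat.card (V.subgroupOf D) = 1 := Subgroup.card_eq_one.2 h
    rw [card_subgroupOf_of_le hVD, hcard] at h1
    omega
  haveI : (V.subgroupOf D).Normal := hVn.subgroupOf D
  obtain ⟨b, hbV, hb1, hbc⟩ := normal_inf_center_ne_bot' hD (V.subgroupOf D) hVne
  set z : X := (b : X) with hz
  have hzV : z ∈ V := Subgroup.mem_subgroupOf.1 hbV
  have hz1 : z ≠ 1 := fun h => hb1 (Subtype.ext h)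
  have hzc : ∀ d ∈ D, d * z = z * d := fun d hd => congrArg Subtype.val (hbc ⟨d, hd⟩)
  have hz2 : z ^ 2 = 1 := hexp z hzV
  have hzz : z * z = 1 := by rw [← pow_two]; exact hz2
  have hzinv : z⁻¹ = z := inv_eq_of_mul_eq_one_right hzz
  set Z := Subgroup.zpowers z with hZ
  have hZV : Z ≤ V := by rw [hZ, Subgroup.zpowers_le]; exact hzV
  have hZc : Nat.card Z = 2 := by
    rw [Nat.card_zpowers]; exact orderOf_eq_prime hz2 hz1
  have hidx : (Z.subgroupOf V).index = 2 := by
    have h1 := (Z.subgroupOf V).index_mul_card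
    rw [card_subgroupOf_of_le hZV, hZc, hcard] at h1
    omega
  have hZlt : Z < V := by
    refine lt_of_le_of_ne hZV ?_
    intro h
    rw [h, hcard] at hZc
    omega
  obtain ⟨u, huV, huZ⟩ := SetLike.exists_of_lt hZlt
  have hu2 : u * u = 1 := by rw [← pow_two]; exact hexp u huV
  have huinv : u⁻¹ = u := inv_eq_of_mul_eq_one_right hu2
  -- enumeration of `V`
  have henum : ∀ v ∈ V, v = 1 ∨ v = z ∨ v = u ∨ v = u * z := by
    intro v hv
    by_cases hvZ : v ∈ Z
    · rcases mem_zpowers_of_sq_eq_one hz2 hvZ with h | h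
      · exact Or.inl h
      · exact Or.inr (Or.inl h)
    · have h1 : (⟨u⁻¹, V.inv_mem huV⟩ : V) * ⟨v, hv⟩ ∈ Z.subgroupOf V := by
        rw [Subgroup.mul_mem_iff_of_index_two hidx]
        constructor
        · intro h
          exfalso
          apply huZ
          have : u⁻¹ ∈ Z := Subgroup.mem_subgroupOf.1 h
          simpa using Z.inv_mem this
        · intro h
          exact absurd (Subgroup.mem_subgroupOf.1 h) hvZ
      have h2 : u⁻¹ * v ∈ Z := Subgroup.mem_subgroupOf.1 h1
      rcases mem_zpowers_of_sq_eq_one hz2 h2 with h | h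
      · right; right; left
        rw [inv_mul_eq_one] at h; exact h.symm
      · right; right; right
        rw [inv_mul_eq_iff_eq_mul] at h; exact h
  have huz_ne : u * z ≠ u := by
    intro h
    apply hz1
    have := mul_left_cancel (a := u) (b := z) (c := 1) (by rw [h, mul_one])
    exact this
  -- conjugates of `u`
  have hconj : ∀ d ∈ D, d ∉ V → d * u * d⁻¹ = u * z := by
    intro d hd hdV
    have h1 : d * u * d⁻¹ ∈ V := hVn.conj_mem u huV d
    rcases henum _ h1 with h | h | h | h
    · exfalso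
      apply huZ
      have : u = 1 := by
        have := congrArg (fun w => d⁻¹ * w * d) h
        simpa [mul_assoc] using this
      rw [this]; exact Z.one_mem
    · exfalso
      apply huZ
      have h2 : u = d⁻¹ * z * d := by
        have := congrArg (fun w => d⁻¹ * w * d) h
        simpa [mul_assoc] using this
      have h3 : d⁻¹ * z * d = z := by
        have := hzc d hd
        rw [mul_assoc, ← this, ← mul_assoc, inv_mul_cancel, one_mul]
      rw [h2, h3]; exact Subgroup.mem_zpowers z
    · exfalso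
      apply hdV
      apply hcent d hd
      have hdu : d * u = u * d := by
        calc d * u = d * u * d⁻¹ * d := by group
          _ = u * d := by rw [h]
      intro v hv
      rcases henum v hv with rfl | rfl | rfl | rfl
      · simp
      · exact hzc d hd
      · exact hdu
      · rw [← mul_assoc, hdu, mul_assoc, hzc d hd, ← mul_assoc]
    · exact h
  -- the coset property
  have hcoset : ∀ d₁ ∈ D, ∀ d₂ ∈ D, d₁ ∉ V → d₂ ∉ V → d₁⁻¹ * d₂ ∈ V := by
    intro d₁ h₁ d₂ h₂ hn₁ hn₂
    by_contra hcon
    have h3 := hconj (d₁⁻¹ * d₂) (D.mul_mem (D.inv_mem h₁) h₂) hcon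
    have h4 := hconj d₁ h₁ hn₁
    have h5 := hconj d₂ h₂ hn₂
    have h6 : d₁⁻¹ * u * d₁ = u * z := by
      have h7 : u = d₁⁻¹ * (u * z) * d₁ := by
        rw [← h4]; group
      have h8 : d₁⁻¹ * z * d₁ = z := by
        have := hzc d₁ h₁
        rw [mul_assoc, ← this, ← mul_assoc, inv_mul_cancel, one_mul]
      have h9 : d₁⁻¹ * (u * z) * d₁ = (d₁⁻¹ * u * d₁) * (d₁⁻¹ * z * d₁) := by group
      rw [h9, h8] at h7
      calc d₁⁻¹ * u * d₁ = (d₁⁻¹ * u * d₁ * z) * z := by
            rw [mul_assoc (d₁⁻¹ * u * d₁) z z, hzz, mul_one]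
        _ = u * z := by rw [← h7]
    have h10 : d₁⁻¹ * d₂ * u * (d₁⁻¹ * d₂)⁻¹ = d₁⁻¹ * (d₂ * u * d₂⁻¹) * d₁ := by group
    rw [h10, h5] at h3
    have h8 : d₁⁻¹ * z * d₁ = z := by
      have := hzc d₁ h₁
      rw [mul_assoc, ← this, ← mul_assoc, inv_mul_cancel, one_mul]
    have h9 : d₁⁻¹ * (u * z) * d₁ = (d₁⁻¹ * u * d₁) * (d₁⁻¹ * z * d₁) := by group
    rw [h9, h8, h6, mul_assoc, hzz, mul_one] at h3
    exact huz_ne h3.symm
  by_cases hDV : D ≤ V
  · refine ⟨⊥, bot_inf_eq _, ?_⟩
    rw [sup_bot_eq]; exact le_antisymm hVD hDV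
  · obtain ⟨d, hdD, hdV⟩ := SetLike.not_le_iff_exists.1 hDV
    have hdinvV : d⁻¹ ∉ V := fun h => hdV (by simpa using V.inv_mem h)
    have hdd : d * d ∈ V := by
      have := hcoset d⁻¹ (D.inv_mem hdD) d hdD hdinvV hdV
      simpa using this
    have hdu := hconj d hdD hdV
    -- an involution outside `V`
    obtain ⟨t, htD, htV, htt⟩ : ∃ t ∈ D, t ∉ V ∧ t * t = 1 := by
      rcases henum _ hdd with h | h | h | h
      · exact ⟨d, hdD, hdV, h⟩
      · refine ⟨u * d, D.mul_mem (hVD huV) hdD, ?_, ?_⟩
        · intro hh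
          apply hdV
          have := V.mul_mem (V.inv_mem huV) hh
          simpa using this
        · calc u * d * (u * d) = u * (d * u * d⁻¹) * (d * d) := by group
            _ = u * (u * z) * z := by rw [hdu, h]
            _ = (u * u) * (z * z) := by group
            _ = 1 := by rw [hu2, hzz, one_mul]
      · exfalso
        have h1 : d * u * d⁻¹ = u := by
          rw [← h]; group
        rw [hdu] at h1
        exact huz_ne h1
      · exfalso
        have h1 : d * (u * z) * d⁻¹ = u * z := by
          rw [← h]; group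
        have h2 : d * (u * z) * d⁻¹ = (d * u * d⁻¹) * (d * z * d⁻¹) := by group
        have h3 : d * z * d⁻¹ = z := by
          rw [hzc d hdD, mul_assoc, mul_inv_cancel, mul_one]
        rw [h2, h3, hdu, mul_assoc, hzz, mul_one] at h1
        exact huz_ne h1.symm
    have htinv : t⁻¹ = t := inv_eq_of_mul_eq_one_right htt
    have ht2 : t ^ 2 = 1 := by rw [pow_two]; exact htt
    refine ⟨Subgroup.zpowers t, ?_, ?_⟩
    · rw [eq_bot_iff]
      intro w hw
      obtain ⟨hw1, hw2⟩ := Subgroup.mem_inf.1 hw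
      rcases mem_zpowers_of_sq_eq_one ht2 hw1 with h | h
      · rw [Subgroup.mem_bot]; exact h
      · exact absurd (h ▸ hw2) htV
    · apply le_antisymm
      · exact sup_le hVD (by rw [Subgroup.zpowers_le]; exact htD)
      · intro e he
        by_cases heV : e ∈ V
        · exact (le_sup_left : V ≤ V ⊔ Subgroup.zpowers t) heV
        · have h1 := hcoset t htD e he htV heV
          have h2 : e = t * (t⁻¹ * e) := by group
          rw [h2]
          exact Subgroup.mul_mem _ ((le_sup_right : Subgroup.zpowers t ≤ V ⊔ Subgroup.zpowers t)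
            (Subgroup.mem_zpowers t)) ((le_sup_left : V ≤ V ⊔ Subgroup.zpowers t) h1)

/-- A self-centralizing normal elementary abelian `2`-subgroup of order at most four has a
complement. -/
theorem exists_compl_small [Finite X] (V : Subgroup X) [hVn : V.Normal]
    (hcard : Nat.card V ≤ 4) (hexp : ∀ v ∈ V, v ^ 2 = 1)
    (hcent : Subgroup.centralizer (V : Set X) ≤ V) :
    ∃ Y : Subgroup X, Subgroup.IsComplement' V Y := by
  classical
  haveI : Fact (Nat.Prime 2) := ⟨Nat.prime_two⟩
  have hpos : 0 < Nat.card V := Nat.card_pos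
  have hcomm : ∀ a ∈ V, ∀ b ∈ V, a * b = b * a := by
    intro a ha b hb
    have h1 : a * a = 1 := by rw [← pow_two]; exact hexp a ha
    have h2 : b * b = 1 := by rw [← pow_two]; exact hexp b hb
    have h3 : (a * b) * (a * b) = 1 := by rw [← pow_two]; exact hexp _ (V.mul_mem ha hb)
    calc a * b = (b * b) * (a * b) * (a * a) := by rw [h1, h2, one_mul, mul_one]
      _ = b * (b * a) * (b * a) * a := by group
      _ = b * ((b * a) * (b * a)) * a := by group
      _ = b * a := by
        have h4 : (b * a) * (b * a) = 1 := by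
          have : b * a = (a * b)⁻¹ := by
            rw [mul_inv_rev, inv_eq_of_mul_eq_one_right h1, inv_eq_of_mul_eq_one_right h2]
          rw [this, ← mul_inv_rev, h3, inv_one]
        rw [h4, mul_one]
  haveI hVc : IsMulCommutative V :=
    ⟨⟨fun a b => Subtype.ext (hcomm a a.2 b b.2)⟩⟩
  by_cases h2 : Nat.card V ≤ 2
  · -- `V` is central, hence everything
    have hcen : ∀ v ∈ V, ∀ g : X, g * v = v * g := by
      intro v hv g
      by_cases hv1 : v = 1
      · rw [hv1]; simp
      · have hvo : orderOf v = 2 := orderOf_eq_prime (hexp v hv) hv1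
        have hZV : Subgroup.zpowers v ≤ V := by rw [Subgroup.zpowers_le]; exact hv
        have hZeq : Subgroup.zpowers v = V := by
          apply Subgroup.eq_of_le_of_card_ge hZV
          rw [Nat.card_zpowers, hvo]; exact h2
        have hw : g * v * g⁻¹ ∈ Subgroup.zpowers v := by
          rw [hZeq]; exact hVn.conj_mem v hv g
        rcases mem_zpowers_of_sq_eq_one (hexp v hv) hw with h | h
        · exfalso
          apply hv1
          have := congrArg (fun w => g⁻¹ * w * g) h
          simpa [mul_assoc] using this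
        · calc g * v = g * v * g⁻¹ * g := by group
            _ = v * g := by rw [h]
    have htop : V = ⊤ := by
      rw [eq_top_iff]
      intro g _
      apply hcent
      rw [Subgroup.mem_centralizer_iff]
      intro v hv
      exact (hcen v hv g).symm
    exact ⟨⊥, htop ▸ Subgroup.isComplement'_top_bot⟩
  · have h34 : Nat.card V = 3 ∨ Nat.card V = 4 := by omega
    rcases h34 with h3 | h4
    · exfalso
      haveI : Fact (Nat.Prime 3) := ⟨Nat.prime_three⟩
      obtain ⟨v, hv⟩ := exists_prime_orderOf_dvd_card' (G := V) 3 (by rw [h3])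
      have h5 : (v : X) ^ 2 = 1 := hexp v v.2
      have h6 : orderOf (v : X) = 3 := by rw [Subgroup.orderOf_coe]; exact hv
      have h7 := orderOf_dvd_of_pow_eq_one h5
      rw [h6] at h7
      omega
    · have hV2 : IsPGroup 2 V := IsPGroup.of_card (n := 2) (by rw [h4]; norm_num)
      obtain ⟨D, hVD⟩ := hV2.exists_le_sylow
      obtain ⟨A, hAV, hVA⟩ := exists_compl_two_group V (D : Subgroup X) hVD D.2 h4 hexp (by
        intro d _ hd
        apply hcent
        rw [Subgroup.mem_centralizer_iff]
        intro v hv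
        exact (hd v hv).symm)
      have hcop : (Nat.card V).Coprime (D : Subgroup X).index := by
        rw [h4, show (4 : ℕ) = 2 ^ 2 by norm_num]
        apply Nat.Coprime.pow_left
        rw [Nat.Prime.coprime_iff_not_dvd Nat.prime_two]
        exact D.not_dvd_index
      exact gaschutz_exists V (D : Subgroup X) hcop A hAV hVA

/-- **Embedding into `S₄`.** -/
theorem exists_injective_perm_four [Finite X] (V : Subgroup X) [hVn : V.Normal]
    (hcard : Nat.card V ≤ 4) (hexp : ∀ v ∈ V, v ^ 2 = 1)
    (hcent : Subgroup.centralizer (V : Set X) ≤ V) :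
    ∃ f : X →* Equiv.Perm (Fin 4), Function.Injective f := by
  classical
  obtain ⟨Y, hY⟩ := exists_compl_small V hcard hexp hcent
  have hVY : V ⊓ Y = ⊥ := hY.disjoint.eq_bot
  -- the core of `Y` is trivial
  have hcore : Y.normalCore = ⊥ := by
    set K := Y.normalCore with hK
    haveI hKn : K.Normal := Subgroup.normalCore_normal Y
    have hKY : K ≤ Y := Subgroup.normalCore_le Y
    have hKV : K ⊓ V = ⊥ := by
      rw [eq_bot_iff, ← hVY, inf_comm]
      exact inf_le_inf_left _ hKY
    have hKc : K ≤ Subgroup.centralizer (V : Set X) := by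
      intro k hk
      rw [Subgroup.mem_centralizer_iff]
      intro v hv
      have h1 : k * v * k⁻¹ * v⁻¹ ∈ K ⊓ V := by
        refine Subgroup.mem_inf.2 ⟨?_, ?_⟩
        · have := hKn.conj_mem k⁻¹ (K.inv_mem hk) v
          have h2 : k * v * k⁻¹ * v⁻¹ = k * (v * k⁻¹ * v⁻¹) := by group
          rw [h2]; exact K.mul_mem hk this
        · exact V.mul_mem (hVn.conj_mem v hv k) (V.inv_mem hv)
      rw [hKV, Subgroup.mem_bot] at h1
      have h3 : k * v = (k * v * k⁻¹ * v⁻¹) * (v * k) := by group
      rw [h3, h1, one_mul]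
    rw [eq_bot_iff, ← hVY]
    exact le_inf (hKc.trans hcent) hKY
  set f₀ := MulAction.toPermHom X (X ⧸ Y) with hf₀
  have hf₀inj : Function.Injective f₀ := by
    rw [← MonoidHom.ker_eq_bot_iff, hf₀, ← Subgroup.normalCore_eq_ker, hcore]
  haveI : Fintype (X ⧸ Y) := Fintype.ofFinite _
  have hidx : Fintype.card (X ⧸ Y) ≤ Fintype.card (Fin 4) := by
    rw [Fintype.card_fin, ← Nat.card_eq_fintype_card, ← Subgroup.index_eq_card,
      hY.index_eq_card]
    exact hcard
  obtain ⟨ι⟩ := Function.Embedding.nonempty_of_card_le hidx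
  exact ⟨(Equiv.Perm.viaEmbeddingHom ι).comp f₀,
    (Equiv.Perm.viaEmbeddingHom_injective ι).comp hf₀inj⟩

end Cfsg.Agent.Helper1.ZFC
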