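import Mathlib
import Cfsg.Agent.Helper1.ZFCc
import Cfsg.Agent.Helper1.ZFCd
import Cfsg.Agent.Helper1.PGroup
import Cfsg.Agent.Helper1.FrattiniAct
import Cfsg.Agent.Helper4.HallHigman
import Cfsg.Agent.Helper4.SolvPSolv

set_option autoImplicit false

/-!
# The normal subgroup `G₀` of a solvable Frobenius complement
-/

namespace Cfsg.Agent.Helper1.ZFC

universe u

variable {X : Type u} [Group X]

/-- The Frattini subgroup of a `2`-group with a cyclic subgroup of index at most two: all its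
subgroups are cyclic. -/
theorem isCyclic_of_le_frattini [Finite X] (T : Subgroup X) (hT : TwoCyc T)
    (Q : Subgroup X) (hQ : Q ≤ (frattini ↥T).map T.subtype) : IsCyclic Q := by
  obtain ⟨C, hC, hTC⟩ := hT
  have hΦT : (frattini ↥T).map T.subtype ≤ T := Subgroup.map_subtype_le _
  by_cases hle : T ≤ C
  · exact Subgroup.isCyclic_of_le (hQ.trans (hΦT.trans hle))
  · obtain ⟨k, hkT, hkC⟩ := SetLike.not_le_iff_exists.1 hle
    have hco : IsCoatom (C.subgroupOf T) := by
      refine ⟨?_, ?_⟩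
      · rw [Ne, Subgroup.subgroupOf_eq_top]; exact hle
      · intro K hK
        obtain ⟨k', hk'K, hk'C⟩ := SetLike.exists_of_lt hK
        have hk'C' : (k' : X) ∉ C := fun h => hk'C (Subgroup.mem_subgroupOf.2 h)
        rw [eq_top_iff]
        intro t _
        by_cases htC : (t : X) ∈ C
        · exact hK.le (Subgroup.mem_subgroupOf.2 htC)
        · rcases hTC k' k'.2 t t.2 with h | h | h
          · exact absurd h hk'C'
          · exact absurd h htC
          · have h1 : k'⁻¹ * t ∈ K := hK.le (Subgroup.mem_subgroupOf.2 (by simpa using h))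
            have h2 : t = k' * (k'⁻¹ * t) := by group
            rw [h2]; exact K.mul_mem hk'K h1
    have hΦC : (frattini ↥T).map T.subtype ≤ C := by
      rintro _ ⟨t, ht, rfl⟩
      exact Subgroup.mem_subgroupOf.1 (mem_frattini_iff.1 ht _ hco)
    exact Subgroup.isCyclic_of_le (hQ.trans hΦC)

/-- The Frattini quotient of such a `2`-group has at most four elements, witnessed by explicit
coset representatives. -/
theorem exists_frattini_reps [Finite X] (T : Subgroup X) (hT2 : IsPGroup 2 T) (hT : TwoCyc T) :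
    ∃ d k : X, ∀ t ∈ T, t ∈ (frattini ↥T).map T.subtype ∨ d⁻¹ * t ∈ (frattini ↥T).map T.subtype ∨
      k⁻¹ * t ∈ (frattini ↥T).map T.subtype ∨ (k * d)⁻¹ * t ∈ (frattini ↥T).map T.subtype := by
  haveI : Fact (Nat.Prime 2) := ⟨Nat.prime_two⟩
  obtain ⟨C, hC, hTC⟩ := hT
  set Φ := (frattini ↥T).map T.subtype with hΦ
  haveI hDc : IsCyclic ↥(C ⊓ T) := Subgroup.isCyclic_of_le (inf_le_left : C ⊓ T ≤ C)
  obtain ⟨d, hd⟩ := IsCyclic.exists_generator (α := ↥(C ⊓ T))
  have hdT : (d : X) ∈ T := (Subgroup.mem_inf.1 d.2).2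
  have hd2 : (d : X) ^ 2 ∈ Φ := by
    refine ⟨(⟨(d : X), hdT⟩ : T) ^ 2, IsPGroup.pow_mem_frattini hT2 _, ?_⟩
    simp
  have hΦsub : ∀ a b : X, a ∈ Φ → b ∈ Φ → a * b ∈ Φ := fun a b ha hb => Φ.mul_mem ha hb
  -- elements of `C ⊓ T`
  have hD : ∀ t ∈ C ⊓ T, t ∈ Φ ∨ (d : X)⁻¹ * t ∈ Φ := by
    intro t ht
    obtain ⟨i, hi⟩ := Subgroup.mem_zpowers_iff.1 (hd ⟨t, ht⟩)
    have hi' : (d : X) ^ i = t := by
      have := congrArg Subtype.val hi
      simpa using this
    rcases Int.even_or_odd' i with ⟨j, rfl | rfl⟩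
    · left
      rw [← hi', zpow_mul, zpow_ofNat]
      exact Φ.zpow_mem hd2 j
    · right
      rw [← hi', zpow_add, zpow_one, zpow_mul, zpow_ofNat]
      have h1 : (d : X)⁻¹ * (((d : X) ^ 2) ^ j * (d : X)) = ((d : X) ^ 2) ^ j := by
        have hc : Commute ((d : X) ^ 2) (d : X) := (Commute.refl (d : X)).pow_left 2
        have hc' : Commute (((d : X) ^ 2) ^ j) (d : X) := hc.zpow_left j
        rw [hc'.eq, inv_mul_cancel_left]
      rw [h1]
      exact Φ.zpow_mem hd2 j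
  by_cases hle : T ≤ C
  · refine ⟨(d : X), 1, ?_⟩
    intro t ht
    rcases hD t (Subgroup.mem_inf.2 ⟨hle ht, ht⟩) with h | h
    · exact Or.inl h
    · exact Or.inr (Or.inl h)
  · obtain ⟨k, hkT, hkC⟩ := SetLike.not_le_iff_exists.1 hle
    refine ⟨(d : X), k, ?_⟩
    intro t ht
    by_cases htC : t ∈ C
    · rcases hD t (Subgroup.mem_inf.2 ⟨htC, ht⟩) with h | h
      · exact Or.inl h
      · exact Or.inr (Or.inl h)
    · rcases hTC k hkT t ht with h | h | h
      · exact absurd h hkC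
      · exact absurd h htC
      · rcases hD (k⁻¹ * t) (Subgroup.mem_inf.2 ⟨h, T.mul_mem (T.inv_mem hkT) ht⟩) with h' | h'
        · exact Or.inr (Or.inr (Or.inl h'))
        · refine Or.inr (Or.inr (Or.inr ?_))
          rw [mul_inv_rev, mul_assoc]; exact h'

/-- **The subgroup `G₀`.**  A finite solvable group whose Sylow subgroups are cyclic or
generalized quaternion has a normal subgroup `G₀`, the kernel of a homomorphism to `S₄`, all of
whose `2`-subgroups are cyclic. -/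
theorem exists_G0 {G : Type u} [Group G] [Finite G] (hsol : Group.IsSolvable G)
    (hsyl : SylCQ G) :
    ∃ G₀ : Subgroup G, G₀.Normal ∧ (∃ f : G →* Equiv.Perm (Fin 4), f.ker = G₀) ∧
      ∀ Q : Subgroup G, Q ≤ G₀ → IsPGroup 2 Q → IsCyclic Q := by
  classical
  haveI : Fact (Nat.Prime 2) := ⟨Nat.prime_two⟩
  set N := Cfsg.pPrimeCore 2 G with hN
  set π := QuotientGroup.mk' N with hπ
  have hπs : Function.Surjective π := QuotientGroup.mk'_surjective N
  set T := Cfsg.pCore 2 (G ⧸ N) with hT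
  have hT2 : IsPGroup 2 T := Cfsg.Agent.Helper5.isPGroup_pCore 2
  haveI hTn : T.Normal := inferInstance
  set Φ := (frattini ↥T).map T.subtype with hΦ
  have hΦT : Φ ≤ T := Subgroup.map_subtype_le _
  haveI hΦn : Φ.Normal := by
    have h1 := Cfsg.Agent.Helper1.le_normalizer_map_of_characteristic T (frattini ↥T)
    rw [Subgroup.normalizer_eq_top_iff.mpr hTn] at h1
    exact Subgroup.normalizer_eq_top_iff.mp (top_le_iff.mp h1)
  set G₀ := Φ.comap π with hG₀
  set W := T.comap π with hW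
  haveI hG₀n : G₀.Normal := hΦn.comap π
  haveI hWn : W.Normal := hTn.comap π
  -- `T` has a cyclic subgroup of index at most two
  have hTwo : TwoCyc T := by
    obtain ⟨Q', hTQ'⟩ := hT2.exists_le_sylow
    obtain ⟨S, hS⟩ := Sylow.mapSurjective_surjective hπs 2 Q'
    have h1 : (Q' : Subgroup (G ⧸ N)) = (S : Subgroup G).map π := by
      rw [← hS, Sylow.coe_mapSurjective]
    have h2 : TwoCyc ((S : Subgroup G).map π) := (hsyl.twoCyc (S : Subgroup G) S.2).map π
    rw [← h1] at h2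
    exact h2.mono hTQ'
  -- `2`-subgroups of `G₀` are cyclic
  have hcyc : ∀ Q : Subgroup G, Q ≤ G₀ → IsPGroup 2 Q → IsCyclic Q := by
    intro Q hQG hQ2
    have hQΦ : Q.map π ≤ Φ := by
      rintro _ ⟨q, hq, rfl⟩
      exact hQG hq
    haveI hc : IsCyclic ↥(Q.map π) := isCyclic_of_le_frattini T hTwo (Q.map π) hQΦ
    apply isCyclic_of_injective (π.subgroupMap Q)
    rw [← MonoidHom.ker_eq_bot_iff, Subgroup.ker_subgroupMap, Subgroup.subgroupOf_eq_bot,
      hπ, QuotientGroup.ker_mk']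
    have hNc : (Nat.card N).Coprime 2 := Cfsg.Agent.Helper5.coprime_card_pPrimeCore 2
    obtain ⟨k, hk⟩ := IsPGroup.iff_card.1 hQ2
    exact Subgroup.disjoint_of_coprime_natCard (by rw [hk]; exact Nat.Coprime.pow_right k hNc)
  refine ⟨G₀, hG₀n, ?_, hcyc⟩
  -- the quotient `G ⧸ G₀`
  set π₀ := QuotientGroup.mk' G₀ with hπ₀
  have hπ₀s : Function.Surjective π₀ := QuotientGroup.mk'_surjective G₀
  set V := W.map π₀ with hV
  haveI hVn : V.Normal := hWn.map π₀ hπ₀s
  have hmemG₀ : ∀ g : G, g ∈ G₀ ↔ π g ∈ Φ := fun g => Iff.rfl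
  have hmemW : ∀ g : G, g ∈ W ↔ π g ∈ T := fun g => Iff.rfl
  have hπ₀1 : ∀ g : G, π₀ g = 1 ↔ g ∈ G₀ := fun g => QuotientGroup.eq_one_iff g
  have hexp : ∀ v ∈ V, v ^ 2 = 1 := by
    rintro _ ⟨w, hw, rfl⟩
    rw [← map_pow, hπ₀1, hmemG₀, map_pow]
    refine ⟨(⟨π w, hw⟩ : T) ^ 2, IsPGroup.pow_mem_frattini hT2 _, ?_⟩
    simp
  have hcard : Nat.card V ≤ 4 := by
    obtain ⟨d, k, hdk⟩ := exists_frattini_reps T hT2 hTwo
    obtain ⟨d₀, rfl⟩ := hπs d
    obtain ⟨k₀, rfl⟩ := hπs k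
    have hsub : (V : Set (G ⧸ G₀)) ⊆
        ↑({1, π₀ d₀, π₀ k₀, π₀ (k₀ * d₀)} : Finset (G ⧸ G₀)) := by
      rintro _ ⟨w, hw, rfl⟩
      have hcase : ∀ a : G, (π a)⁻¹ * π w ∈ Φ → π₀ w = π₀ a := by
        intro a ha
        have h1 : a⁻¹ * w ∈ G₀ := by
          rw [hmemG₀, map_mul, map_inv]; exact ha
        have h2 : π₀ (a⁻¹ * w) = 1 := (hπ₀1 _).2 h1
        rw [map_mul, map_inv, inv_mul_eq_one] at h2
        exact h2.symm
      simp only [Finset.coe_insert, Finset.coe_singleton, Set.mem_insert_iff,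
        Set.mem_singleton_iff]
      rcases hdk (π w) hw with h | h | h | h
      · left; exact (hπ₀1 w).2 h
      · right; left; exact hcase d₀ h
      · right; right; left; exact hcase k₀ h
      · right; right; right
        apply hcase (k₀ * d₀)
        rw [map_mul]; exact h
    calc Nat.card V = (V : Set (G ⧸ G₀)).ncard := (Nat.card_coe_set_eq _)
      _ ≤ (↑({1, π₀ d₀, π₀ k₀, π₀ (k₀ * d₀)} : Finset (G ⧸ G₀)) : Set (G ⧸ G₀)).ncard :=
          Set.ncard_le_ncard hsub (Finset.finite_toSet _)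
      _ = ({1, π₀ d₀, π₀ k₀, π₀ (k₀ * d₀)} : Finset (G ⧸ G₀)).card := Set.ncard_coe_finset _
      _ ≤ 4 := Finset.card_le_four
  have hps : Cfsg.IsPSolvable 2 (G ⧸ N) :=
    Cfsg.Agent.Helper4.SolvPSolv.isPSolvable_of_isSolvable 2 inferInstance
  have hO : Cfsg.pPrimeCore 2 (G ⧸ N) = ⊥ := Cfsg.Agent.Helper4.pPrimeCore_quotient_eq_bot 2
  have hcent : Subgroup.centralizer (V : Set (G ⧸ G₀)) ≤ V := by
    intro x hx
    obtain ⟨g, rfl⟩ := hπ₀s x
    have hgT : π g ∈ T := by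
      apply Cfsg.Agent.Helper4.mem_pCore_of_commutator_mem_frattini hps hO (π g)
      intro k hk
      obtain ⟨w, rfl⟩ := hπs k
      have hwV : π₀ w ∈ V := ⟨w, hk, rfl⟩
      have h1 := Subgroup.mem_centralizer_iff.1 hx (π₀ w) hwV
      have h2 : π₀ (g * w * g⁻¹ * w⁻¹) = 1 := by
        simp only [map_mul, map_inv]
        rw [← h1]; group
      have h3 := (hπ₀1 _).1 h2
      rw [hmemG₀] at h3
      simpa only [map_mul, map_inv] using h3
    exact ⟨g, hgT, rfl⟩
  obtain ⟨f', hf'⟩ := exists_injective_perm_four V hcard hexp hcent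
  refine ⟨f'.comp π₀, ?_⟩
  rw [← MonoidHom.comap_ker, (MonoidHom.ker_eq_bot_iff f').2 hf', MonoidHom.comap_bot, hπ₀,
    QuotientGroup.ker_mk']

end Cfsg.Agent.Helper1.ZFC
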