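import Mathlib
import Cfsg.Agent.Helper1.ZFCb
import Cfsg.Agent.Helper1.ZFCe

set_option autoImplicit false

/-!
# Structure of solvable groups with cyclic / quaternion Sylow subgroups and cyclic `pq`-subgroups
-/

namespace Cfsg.Agent.Helper1.ZFC

universe u v

theorem sylCQ_of_mulEquiv {G : Type u} {H : Type v} [Group G] [Group H] [Finite G]
    (e : G ≃* H) (h : SylCQ H) : SylCQ G := by
  intro p hp P
  haveI : Finite H := Finite.of_equiv G e.toEquiv
  have hcard : Nat.card ((P : Subgroup G).map e.toMonoidHom) = p ^ (Nat.card H).factorization p := by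
    rw [Subgroup.card_map_of_injective e.injective, ← Nat.card_congr e.toEquiv]
    exact P.card_eq_multiplicity
  set Q : Sylow p H := Sylow.ofCard ((P : Subgroup G).map e.toMonoidHom) hcard with hQ
  have f : ↥(P : Subgroup G) ≃* ↥(Q : Subgroup H) :=
    Subgroup.equivMapOfInjective (P : Subgroup G) e.toMonoidHom e.injective
  rcases h p Q with hc | ⟨n, ⟨g⟩⟩
  · left
    exact isCyclic_of_injective f.toMonoidHom f.injective
  · right
    exact ⟨n, ⟨f.trans g⟩⟩

/-- the main structure theorem in abstract form -/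
theorem main_structure {G : Type u} [Group G] [Finite G] (hsol : Group.IsSolvable G)
    (hsyl : SylCQ G)
    (hpq : ∀ D : Subgroup G, ∀ p q : ℕ, p.Prime → q.Prime → Nat.card D = p * q → IsCyclic D) :
    ∃ G₀ : Subgroup G, G₀.Normal ∧ (∃ f : G →* Equiv.Perm (Fin 4), f.ker = G₀) ∧
      (∀ (p : ℕ) [Fact p.Prime] (P : Sylow p G₀), IsCyclic P) ∧
      ∃ n m r : ℕ, 0 < n ∧ 0 < m ∧ Nat.Coprime (r - 1) m ∧ Nat.Coprime n m ∧ 1 ≤ r ∧
        r ^ (n / ∏ p ∈ n.primeFactors, p) % m = 1 % m ∧
        Nonempty (G₀ ≃* PresentedGroup (rels n m r)) := by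
  obtain ⟨G₀, hG₀n, hf, hcyc2⟩ := exists_G0 hsol hsyl
  have hcycP : ∀ (p : ℕ) [Fact p.Prime] (P : Sylow p G₀), IsCyclic P := by
    intro p hp P
    set P' := (P : Subgroup G₀).map G₀.subtype with hP'
    have hP'p : IsPGroup p P' := P.2.map _
    have hP'c : IsCyclic P' := by
      by_cases hp2 : p = 2
      · subst hp2
        exact hcyc2 P' (Subgroup.map_subtype_le _) hP'p
      · exact hsyl.isCyclic_of_odd hp.out hp2 P' hP'p
    exact isCyclic_of_injective (G₀.subtype.subgroupMap (P : Subgroup G₀))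
      (by
        rw [← MonoidHom.ker_eq_bot_iff, Subgroup.ker_subgroupMap, Subgroup.ker_subtype,
          Subgroup.bot_subgroupOf])
  refine ⟨G₀, hG₀n, hf, hcycP, ?_⟩
  haveI : IsZGroup G₀ := ⟨fun p hp P => by haveI := Fact.mk hp; exact hcycP p P⟩
  apply zgroup_presentation (G := G₀)
  intro D p q hp hq hcard
  have hcard' : Nat.card (D.map G₀.subtype) = p * q := by
    rw [Subgroup.card_map_of_injective G₀.subtype_injective]; exact hcard
  haveI := hpq (D.map G₀.subtype) p q hp hq hcard'
  exact isCyclic_of_injective (G₀.subtype.subgroupMap D)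
    (by
      rw [← MonoidHom.ker_eq_bot_iff, Subgroup.ker_subgroupMap, Subgroup.ker_subtype,
        Subgroup.bot_subgroupOf])

end Cfsg.Agent.Helper1.ZFC
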