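import Mathlib
import Cfsg.Agent.Helper1.ZJFusQdA
import Cfsg.Agent.Helper1.QdNotStableA
import Cfsg.Agent.Lead.QdStruct6
import Cfsg.Agent.Lead.QdSylow2
import Cfsg.Agent.Lead.QdTwo

set_option autoImplicit false

/-!
In `Qd(p)`, `Z(J(S))` does not control strong fusion.
-/

namespace Cfsg.Agent.Helper1
namespace ZJFus

open Cfsg.Agent.Lead.Qd ThompsonRed

variable (p : ℕ) [hp : Fact p.Prime]

theorem card_V : Nat.card (V p) = p ^ 2 := by
  have h1 := Subgroup.card_eq_card_quotient_mul_card_subgroup (V p)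
  have h2 : Nat.card (↥(Cfsg.qd p) ⧸ V p) = Nat.card (SL2 p) :=
    Nat.card_congr (QuotientGroup.quotientKerEquivOfSurjective (proj p) (proj_surjective p)).toEquiv
  rw [h2, card_qd] at h1
  have hpos : 0 < Nat.card (SL2 p) := Nat.card_pos
  exact (Nat.eq_of_mul_eq_mul_left hpos h1).symm

theorem V_comm : ∀ x ∈ V p, ∀ y ∈ V p, x * y = y * x := by
  intro x hx y hy
  obtain ⟨v, rfl⟩ := (mem_V p x).1 hx
  obtain ⟨w, rfl⟩ := (mem_V p y).1 hy
  rw [mkq_mul, mkq_mul]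
  congr 1
  simp only [Matrix.SpecialLinearGroup.coe_one, Matrix.one_mulVec]
  abel

theorem sylow_card (S : Sylow p ↥(Cfsg.qd p)) : Nat.card S = p ^ 3 := by
  have := Nat.card_congr (sylEquiv p S).toEquiv
  rw [card_U] at this
  exact this

theorem sylow_not_comm (S : Sylow p ↥(Cfsg.qd p)) : ∃ a b : ↥S, a * b ≠ b * a := by
  obtain ⟨x, y, hxy⟩ := not_comm p
  refine ⟨(sylEquiv p S).symm x, (sylEquiv p S).symm y, ?_⟩
  intro h
  apply hxy
  rw [← map_mul, ← map_mul] at h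
  exact (sylEquiv p S).symm.injective h

theorem abelian_card_le (S : Sylow p ↥(Cfsg.qd p)) (B : Subgroup ↥S) (hB : IsMulCommutative B) :
    Nat.card B ≤ p ^ 2 := by
  have hdvd : Nat.card B ∣ p ^ 3 := by
    rw [← sylow_card p S]
    exact Subgroup.card_subgroup_dvd_card B
  obtain ⟨k, hk3, hk⟩ := (Nat.dvd_prime_pow hp.out).1 hdvd
  rcases Nat.lt_or_ge k 3 with hlt | hge
  · rw [hk]
    exact Nat.pow_le_pow_right hp.out.pos (by omega)
  · exfalso
    have hk3' : k = 3 := le_antisymm hk3 hge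
    have htop : B = ⊤ := by
      apply Subgroup.eq_top_of_card_eq
      rw [hk, hk3', ← sylow_card p S]
      rfl
    obtain ⟨a, b, hab⟩ := sylow_not_comm p S
    apply hab
    have ha : a ∈ B := by rw [htop]; exact Subgroup.mem_top a
    have hb : b ∈ B := by rw [htop]; exact Subgroup.mem_top b
    have := hB.is_comm.comm ⟨a, ha⟩ ⟨b, hb⟩
    exact congrArg Subtype.val this

theorem V_le_sylow (S : Sylow p ↥(Cfsg.qd p)) : V p ≤ (S : Subgroup ↥(Cfsg.qd p)) :=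
  (good_sylow p S).V_le

theorem V_sub_mem_maxAb (S : Sylow p ↥(Cfsg.qd p)) :
    (V p).subgroupOf (S : Subgroup ↥(Cfsg.qd p)) ∈
      Cfsg.maxAbelianSubgroups ↥(S : Subgroup ↥(Cfsg.qd p)) := by
  refine ⟨⟨⟨fun x y => ?_⟩⟩, fun B hB => ?_⟩
  · apply Subtype.ext
    apply Subtype.ext
    have := V_comm p (x : ↥(S : Subgroup ↥(Cfsg.qd p))) x.2 (y : ↥(S : Subgroup ↥(Cfsg.qd p))) y.2
    exact this
  · have h1 : Nat.card ((V p).subgroupOf (S : Subgroup ↥(Cfsg.qd p))) = p ^ 2 := by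
      rw [Nat.card_congr (Subgroup.subgroupOfEquivOfLe (V_le_sylow p S)).toEquiv, card_V]
    rw [h1]
    exact abelian_card_le p S B hB

theorem zj_le_V (S : Sylow p ↥(Cfsg.qd p)) :
    Cfsg.centerThompsonAOf (S : Subgroup ↥(Cfsg.qd p)) ≤ V p := by
  have hVJ : V p ≤ Cfsg.thompsonSubgroupAOf (S : Subgroup ↥(Cfsg.qd p)) := by
    intro x hx
    have hxS := V_le_sylow p S hx
    refine ⟨⟨x, hxS⟩, ?_, rfl⟩
    have hle : (V p).subgroupOf (S : Subgroup ↥(Cfsg.qd p)) ≤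
        Cfsg.thompsonSubgroupA ↥(S : Subgroup ↥(Cfsg.qd p)) := le_sSup (V_sub_mem_maxAb p S)
    exact hle (Subgroup.mem_subgroupOf.2 hx)
  intro z hz
  apply QdNS.centralizer_V_le p
  have hzc := (Subgroup.mem_inf.1 hz).2
  exact Subgroup.centralizer_le hVJ hzc

theorem zj_ne_bot (S : Sylow p ↥(Cfsg.qd p)) :
    Cfsg.centerThompsonAOf (S : Subgroup ↥(Cfsg.qd p)) ≠ ⊥ := by
  rw [← zjFunctor_of]
  intro h
  have hnt : Nontrivial ↥(S : Subgroup ↥(Cfsg.qd p)) := by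
    obtain ⟨a, b, hab⟩ := sylow_not_comm p S
    refine ⟨⟨a, b, ?_⟩⟩
    rintro rfl
    exact hab rfl
  have h1 := zjFunctor_ne_bot (p := p) ↥(S : Subgroup ↥(Cfsg.qd p)) S.2 hnt
  apply h1
  unfold CharFunctor.of at h
  rwa [Subgroup.map_eq_bot_iff_of_injective _ (Subgroup.subtype_injective _)] at h

theorem zj_ne_V (S : Sylow p ↥(Cfsg.qd p)) :
    Cfsg.centerThompsonAOf (S : Subgroup ↥(Cfsg.qd p)) ≠ V p := by
  rw [← zjFunctor_of]
  intro h
  obtain ⟨ψ, x, hx, hψx⟩ := (good_sylow p S).aut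
  apply hψx
  rw [← h] at hx ⊢
  obtain ⟨y, hy, hyx⟩ := hx
  have hyx' : y = x := Subtype.ext hyx
  rw [hyx'] at hy
  refine ⟨ψ x, ?_, rfl⟩
  have := zjFunctor.map_equiv ψ
  rw [← this]
  exact ⟨x, hy, rfl⟩

end ZJFus
end Cfsg.Agent.Helper1
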