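import Mathlib
import Cfsg.Agent.Helper1.ZJFusQdB
import Cfsg.Agent.Helper1.ZJFusMap

set_option autoImplicit false

/-!
`Qd(p)` is not involved iff `Z(J(S))` controls strong fusion in every section (`S2794`).
-/

namespace Cfsg.Agent.Helper1
namespace ZJFus

open Cfsg.Agent.Lead.Qd ThompsonRed

universe u

variable (p : ℕ) [hp : Fact p.Prime]

/-- a fusion witness in `Qd(p)` -/
theorem witness (S : Sylow p ↥(Cfsg.qd p)) :
    ∃ a g : ↥(Cfsg.qd p), a ∈ V p ∧ a ∉ Cfsg.centerThompsonAOf (S : Subgroup ↥(Cfsg.qd p)) ∧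
      g * a * g⁻¹ ∈ Cfsg.centerThompsonAOf (S : Subgroup ↥(Cfsg.qd p)) := by
  obtain ⟨Z₀, hZ₀⟩ : ∃ Z₀, Z₀ = Cfsg.centerThompsonAOf (S : Subgroup ↥(Cfsg.qd p)) := ⟨_, rfl⟩
  rw [← hZ₀]
  have hle : Z₀ ≤ V p := hZ₀ ▸ zj_le_V p S
  have hne : Z₀ ≠ V p := hZ₀ ▸ zj_ne_V p S
  have hbot : Z₀ ≠ ⊥ := hZ₀ ▸ zj_ne_bot p S
  obtain ⟨⟨z, hz⟩, hz1⟩ := (Subgroup.ne_bot_iff_exists_ne_one).1 hbot
  have hz1' : z ≠ 1 := fun h => hz1 (Subtype.ext h)
  have hnot : ¬ V p ≤ Z₀ := fun h => hne (le_antisymm hle h)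
  obtain ⟨a, haV, haZ⟩ := SetLike.not_le_iff_exists.1 hnot
  obtain ⟨w, rfl⟩ := (mem_V p z).1 (hle hz)
  obtain ⟨v, rfl⟩ := (mem_V p a).1 haV
  have hw0 : w ≠ 0 := by
    rintro rfl
    exact hz1' (mkq_one p)
  have hv0 : v ≠ 0 := by
    rintro rfl
    apply haZ
    rw [mkq_one]
    exact Z₀.one_mem
  obtain ⟨B, hB⟩ := exists_sl2_mulVec p v hv0
  obtain ⟨B', hB'⟩ := exists_sl2_mulVec p w hw0
  refine ⟨mkq p 1 v, mkq p (B' * B⁻¹) 0, haV, haZ, ?_⟩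
  rw [conj_mkq_one]
  have h1 : (B' * B⁻¹).1.mulVec v = w := by
    rw [← hB, Matrix.SpecialLinearGroup.coe_mul, Matrix.mulVec_mulVec, mul_assoc,
      ← Matrix.SpecialLinearGroup.coe_mul, inv_mul_cancel, Matrix.SpecialLinearGroup.coe_one,
      mul_one]
    exact hB'
  rw [h1]
  exact hz

variable {p}

theorem qd_of_controls {G : Type u} [Group G] [Finite G]
    (h : ∀ (K R : Subgroup G) [(R.subgroupOf K).Normal], ∀ T : Sylow p (K ⧸ R.subgroupOf K),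
      Cfsg.ControlsStrongFusion p (Cfsg.centerThompsonAOf (T : Subgroup (K ⧸ R.subgroupOf K)))) :
    ¬ Cfsg.Involves ↥(Cfsg.qd p) G := by
  rintro ⟨K, R, hR, ⟨e⟩⟩
  haveI := hR
  have T₀ : Sylow p (K ⧸ R.subgroupOf K) := default
  obtain ⟨T, hZT, hctl⟩ := h K R T₀
  have hsurj : Function.Surjective e.toMonoidHom := e.surjective
  have hinj : Function.Injective e.toMonoidHom := e.injective
  set S : Sylow p ↥(Cfsg.qd p) := T₀.mapSurjective hsurj with hS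
  set T' : Sylow p ↥(Cfsg.qd p) := T.mapSurjective hsurj with hT'
  have hSc : (S : Subgroup ↥(Cfsg.qd p)) = (T₀ : Subgroup (K ⧸ R.subgroupOf K)).map e.toMonoidHom :=
    Sylow.coe_mapSurjective hsurj T₀
  have hT'c : (T' : Subgroup ↥(Cfsg.qd p)) = (T : Subgroup (K ⧸ R.subgroupOf K)).map e.toMonoidHom :=
    Sylow.coe_mapSurjective hsurj T
  have hZS : Cfsg.centerThompsonAOf (S : Subgroup ↥(Cfsg.qd p)) =
      (Cfsg.centerThompsonAOf (T₀ : Subgroup (K ⧸ R.subgroupOf K))).map e.toMonoidHom := by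
    rw [hSc]
    exact centerThompsonAOf_map' e _
  obtain ⟨a, g, haV, haZ, hgZ⟩ := witness p S
  have haT' : a ∈ (T' : Subgroup ↥(Cfsg.qd p)) := V_le_sylow p T' haV
  rw [hT'c] at haT'
  obtain ⟨a', ha'T, rfl⟩ := haT'
  obtain ⟨g', rfl⟩ := hsurj g
  rw [hZS] at haZ hgZ
  obtain ⟨y, hy, hye⟩ := hgZ
  have hy' : y = g' * a' * g'⁻¹ := by
    apply hinj
    rw [hye, map_mul, map_mul, map_inv]
  have hA : ({a'} : Set (K ⧸ R.subgroupOf K)) ⊆ (T : Subgroup (K ⧸ R.subgroupOf K)) := by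
    rintro _ rfl
    exact ha'T
  obtain ⟨-, hc⟩ := hctl {a'} hA
  have himg : (fun b => g' * b * g'⁻¹) '' ({a'} : Set (K ⧸ R.subgroupOf K)) ⊆
      (T : Subgroup (K ⧸ R.subgroupOf K)) := by
    rintro _ ⟨b, rfl, rfl⟩
    show g' * b * g'⁻¹ ∈ (T : Subgroup (K ⧸ R.subgroupOf K))
    rw [← hy']
    exact hZT hy
  obtain ⟨x, hx, hxa⟩ := hc g' himg
  have h1 := hxa a' rfl
  apply haZ
  refine ⟨a', ?_, rfl⟩
  rw [Subgroup.mem_normalizer_iff] at hx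
  rw [SetLike.mem_coe, hx a', ← h1, ← hy']
  exact hy

end ZJFus
end Cfsg.Agent.Helper1
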