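import Mathlib
import Cfsg.Prelude.Def_PLocal
import Cfsg.Prelude.Def_Local
import Cfsg.Agent.Helper1.GlaubermanZJFact
import Cfsg.Agent.Helper1.Brodkey
import Cfsg.Agent.Helper1.CoreFree
import Cfsg.Agent.Helper2.BaerSuzuki

set_option autoImplicit false

/-!
In a group of characteristic `p` type whose `p`-locals are `p`-stable, `N_G(Z(J(P)))` contains
the normalizer of every nontrivial subgroup of the Sylow `p`-subgroup `P`.
-/

namespace Cfsg.Agent.Helper1
namespace ZJLocal

universe u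
open scoped Pointwise
open ThompsonRed

variable {G : Type u} [Group G]

/-- `ZJ` of a Sylow subgroup of a local subgroup `N(Q)` with the `ZJ`-theorem available is
normalized by `N(Q)`. -/
theorem normalizer_le_normalizer_zj_sylow [Finite G] {p : ℕ} [hpf : Fact p.Prime] (hp : p ≠ 2)
    (Q : Subgroup G)
    (hK : Cfsg.pPrimeCore p ↥(Subgroup.normalizer (Q : Set G)) = ⊥)
    (hc : Cfsg.IsPConstrained p ↥(Subgroup.normalizer (Q : Set G)))
    (hs : Cfsg.IsPStable p ↥(Subgroup.normalizer (Q : Set G)))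
    (P' : Sylow p ↥(Subgroup.normalizer (Q : Set G))) :
    Subgroup.normalizer (Q : Set G) ≤ Subgroup.normalizer
      (Cfsg.centerThompsonAOf ((P' : Subgroup ↥(Subgroup.normalizer (Q : Set G))).map
        (Subgroup.normalizer (Q : Set G)).subtype) : Set G) := by
  have hn := (ZJFact.zj_factorization hp hc hs P').2 hK
  rw [← zjFunctor_of, zjFunctor.of_map_of_injective _ (Subgroup.subtype_injective _), zjFunctor_of]
  have key : ∀ g ∈ Subgroup.normalizer (Q : Set G), ∀ x ∈ (Cfsg.centerThompsonAOf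
      (P' : Subgroup ↥(Subgroup.normalizer (Q : Set G)))).map
        (Subgroup.normalizer (Q : Set G)).subtype, g * x * g⁻¹ ∈ (Cfsg.centerThompsonAOf
      (P' : Subgroup ↥(Subgroup.normalizer (Q : Set G)))).map
        (Subgroup.normalizer (Q : Set G)).subtype := by
    rintro g hg _ ⟨y, hy, rfl⟩
    exact ⟨⟨g, hg⟩ * y * ⟨g, hg⟩⁻¹, hn.conj_mem y hy ⟨g, hg⟩, rfl⟩
  intro g hg
  rw [Subgroup.mem_normalizer_iff]
  intro x
  refine ⟨key g hg x, fun h => ?_⟩
  have := key g⁻¹ (inv_mem hg) _ h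
  simpa [mul_assoc] using this

theorem normalizer_le_normalizer_zj [Finite G] {p : ℕ} [hpf : Fact p.Prime] (hp : p ≠ 2)
    (hloc : ∀ Q : Subgroup G, IsPGroup p Q → Q ≠ ⊥ →
      Cfsg.pPrimeCore p ↥(Subgroup.normalizer (Q : Set G)) = ⊥ ∧
      Cfsg.IsPConstrained p ↥(Subgroup.normalizer (Q : Set G)) ∧
      Cfsg.IsPStable p ↥(Subgroup.normalizer (Q : Set G))) (P : Sylow p G) :
    ∀ (k : ℕ) (Q : Subgroup G), Q ≤ (P : Subgroup G) → Q ≠ ⊥ →
      Nat.card (P : Subgroup G) - Nat.card ↥((P : Subgroup G) ⊓ Subgroup.normalizer (Q : Set G)) = k →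
      Subgroup.normalizer (Q : Set G) ≤
        Subgroup.normalizer (Cfsg.centerThompsonAOf ((P : Subgroup G)) : Set G) := by
  intro k
  induction k using Nat.strong_induction_on with
  | _ k ih =>
  intro Q hQP hQ1 hk
  have hQp : IsPGroup p Q := P.2.to_le hQP
  obtain ⟨hK, hc, hs⟩ := hloc Q hQp hQ1
  obtain ⟨R, hR⟩ : ∃ R : Subgroup G, R = (P : Subgroup G) ⊓ Subgroup.normalizer (Q : Set G) :=
    ⟨_, rfl⟩
  rw [← hR] at hk
  have hRP : R ≤ (P : Subgroup G) := hR ▸ inf_le_left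
  have hRN : R ≤ Subgroup.normalizer (Q : Set G) := hR ▸ inf_le_right
  have hQR : Q ≤ R := hR ▸ le_inf hQP Subgroup.le_normalizer
  have hRp : IsPGroup p R := P.2.to_le hRP
  have hR1 : R ≠ ⊥ := fun h => hQ1 (le_bot_iff.1 (h ▸ hQR))
  -- a Sylow subgroup of `N(Q)` containing `R`
  obtain ⟨P', hP'⟩ := (hRp.comap_subtype (K := Subgroup.normalizer (Q : Set G))).exists_le_sylow
  obtain ⟨Rs, hRs⟩ : ∃ Rs : Subgroup G, Rs = (P' : Subgroup ↥(Subgroup.normalizer (Q : Set G))).map
      (Subgroup.normalizer (Q : Set G)).subtype := ⟨_, rfl⟩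
  have hRRs : R ≤ Rs := by
    intro x hx
    rw [hRs]
    exact ⟨⟨x, hRN hx⟩, hP' (Subgroup.mem_subgroupOf.2 hx), rfl⟩
  have hRsN : Rs ≤ Subgroup.normalizer (Q : Set G) := hRs ▸ Subgroup.map_subtype_le _
  have hRsp : IsPGroup p Rs := hRs ▸ P'.2.map _
  have hF4 : Subgroup.normalizer (Q : Set G) ≤
      Subgroup.normalizer (Cfsg.centerThompsonAOf Rs : Set G) :=
    hRs ▸ normalizer_le_normalizer_zj_sylow hp Q hK hc hs P'
  -- the measure for a subgroup whose normalizer in `P` properly contains `R`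
  have hmeasure' : ∀ Q₁ : Subgroup G, Q₁ ≤ (P : Subgroup G) → Q₁ ≠ ⊥ →
      Nat.card R < Nat.card ↥((P : Subgroup G) ⊓ Subgroup.normalizer (Q₁ : Set G)) →
      Subgroup.normalizer (Q₁ : Set G) ≤
        Subgroup.normalizer (Cfsg.centerThompsonAOf ((P : Subgroup G)) : Set G) := by
    intro Q₁ hQ₁P hQ₁1 h1
    have h2 : Nat.card ↥((P : Subgroup G) ⊓ Subgroup.normalizer (Q₁ : Set G)) ≤
        Nat.card (P : Subgroup G) := Subgroup.card_le_of_le inf_le_left
    refine ih _ ?_ Q₁ hQ₁P hQ₁1 rfl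
    rw [← hk]
    omega
  have hmeasure : ∀ Q₁ : Subgroup G, Q₁ ≤ (P : Subgroup G) → Q₁ ≠ ⊥ →
      R < (P : Subgroup G) ⊓ Subgroup.normalizer (Q₁ : Set G) →
      Subgroup.normalizer (Q₁ : Set G) ≤
        Subgroup.normalizer (Cfsg.centerThompsonAOf ((P : Subgroup G)) : Set G) :=
    fun Q₁ hQ₁P hQ₁1 hlt => hmeasure' Q₁ hQ₁P hQ₁1 (card_lt_card_of_lt hlt)
  by_cases hcase : Rs ≤ (P : Subgroup G)
  · -- `R` is a Sylow subgroup of `N(Q)`
    have hRsR : Rs = R := le_antisymm (hR ▸ le_inf hcase hRsN) hRRs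
    rw [hRsR] at hF4
    by_cases hRP' : R = (P : Subgroup G)
    · rw [hRP'] at hF4; exact hF4
    · have hlt : R < (P : Subgroup G) := lt_of_le_of_ne hRP hRP'
      obtain ⟨r, hrP, hrR, hrN⟩ := Cfsg.Agent.Helper2.exists_mem_normalizer_notMem_of_lt P.2 hlt
      have hne : Cfsg.centerThompsonAOf R ≠ ⊥ := by
        rw [← zjFunctor_of]
        exact of_ne_bot zjFunctor (fun S _ _ hS hnt => zjFunctor_ne_bot S hS hnt) hRp hR1
      have hle : Cfsg.centerThompsonAOf R ≤ R := by
        rw [← zjFunctor_of]; exact zjFunctor.of_le R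
      have hNR : Subgroup.normalizer (R : Set G) ≤
          Subgroup.normalizer (Cfsg.centerThompsonAOf R : Set G) := by
        rw [← zjFunctor_of]; exact zjFunctor.normalizer_le R
      refine hF4.trans (hmeasure _ (hle.trans hRP) hne ?_)
      refine lt_of_le_of_ne (le_inf hRP (Subgroup.le_normalizer.trans hNR)) ?_
      intro heq
      apply hrR
      rw [heq]
      exact ⟨hrP, hNR hrN⟩
  · -- `R` is not a Sylow subgroup of `N(Q)`
    have hRlt : R < Rs := lt_of_le_of_ne hRRs (fun h => hcase (h ▸ hRP))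
    have hRP' : R ≠ (P : Subgroup G) := by
      intro h
      apply hcase
      have := P.is_maximal' hRsp (h ▸ hRRs)
      rw [this]
    have hlt : R < (P : Subgroup G) := lt_of_le_of_ne hRP hRP'
    obtain ⟨r, hrP, hrR, hrN⟩ := Cfsg.Agent.Helper2.exists_mem_normalizer_notMem_of_lt P.2 hlt
    -- `N(R) ≤ M`
    have hNRM : Subgroup.normalizer (R : Set G) ≤
        Subgroup.normalizer (Cfsg.centerThompsonAOf ((P : Subgroup G)) : Set G) := by
      apply hmeasure R hRP hR1
      refine lt_of_le_of_ne (le_inf hRP Subgroup.le_normalizer) ?_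
      intro heq
      apply hrR
      rw [heq]
      exact ⟨hrP, hrN⟩
    obtain ⟨s, hsRs, hsR, hsN⟩ := Cfsg.Agent.Helper2.exists_mem_normalizer_notMem_of_lt hRsp hRlt
    obtain ⟨R₂, hR₂⟩ : ∃ R₂ : Subgroup G, R₂ = Rs ⊓ Subgroup.normalizer (R : Set G) := ⟨_, rfl⟩
    have hR₂p : IsPGroup p R₂ := hRsp.to_le (hR₂ ▸ inf_le_left)
    have hRR₂ : R < R₂ := by
      refine lt_of_le_of_ne (hR₂ ▸ le_inf hRRs Subgroup.le_normalizer) ?_
      intro heq
      apply hsR
      rw [heq, hR₂]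
      exact ⟨hsRs, hsN⟩
    have hPM : (P : Subgroup G) ≤
        Subgroup.normalizer (Cfsg.centerThompsonAOf ((P : Subgroup G)) : Set G) := by
      refine Subgroup.le_normalizer.trans ?_
      rw [← zjFunctor_of]; exact zjFunctor.normalizer_le _
    obtain ⟨n, hnM, hn⟩ := exists_conj_le_sylow_of_le _ P hPM R₂ hR₂p
      ((hR₂ ▸ inf_le_right : R₂ ≤ Subgroup.normalizer (R : Set G)).trans hNRM)
    -- the conjugate `Q' = n Q n⁻¹`
    have hQ'P : MulAut.conj n • Q ≤ (P : Subgroup G) := by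
      refine le_trans ?_ hn
      intro x hx
      rw [mem_conj_smul] at hx ⊢
      exact hRR₂.le (hQR hx)
    have hQ'1 : MulAut.conj n • Q ≠ ⊥ := by
      intro h
      apply hQ1
      have := card_conj_smul n Q
      rw [h, Subgroup.card_bot] at this
      exact Subgroup.card_eq_one.1 this.symm
    have hN' := hmeasure' (MulAut.conj n • Q) hQ'P hQ'1 (by
      have h1 : MulAut.conj n • R₂ ≤
          (P : Subgroup G) ⊓ Subgroup.normalizer ((MulAut.conj n • Q : Subgroup G) : Set G) := by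
        refine le_inf hn ?_
        rw [normalizer_conj_smul]
        intro x hx
        rw [mem_conj_smul] at hx ⊢
        exact hRsN ((hR₂ ▸ inf_le_left : R₂ ≤ Rs) hx)
      have h2 : Nat.card R < Nat.card ↥(MulAut.conj n • R₂) := by
        rw [card_conj_smul]; exact card_lt_card_of_lt hRR₂
      exact h2.trans_le (Subgroup.card_le_of_le h1))
    rw [normalizer_conj_smul] at hN'
    intro g hg
    have h1 : n * g * n⁻¹ ∈ MulAut.conj n • Subgroup.normalizer (Q : Set G) :=
      conj_mem_conj_smul hg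
    have h2 := hN' h1
    have h3 := Subgroup.mul_mem _ (Subgroup.mul_mem _ (Subgroup.inv_mem _ hnM) h2) hnM
    have h4 : n⁻¹ * (n * g * n⁻¹) * n = g := by group
    rwa [h4] at h3

end ZJLocal
end Cfsg.Agent.Helper1
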