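import Mathlib
import Cfsg.Agent.S0016
import Cfsg.Agent.Helper1.AbelianSylow2
import Cfsg.Agent.Helper1.FrattiniAct

set_option autoImplicit false

/-!
# A normal quaternion subgroup of order 8

In a finite solvable group all of whose abelian subgroups are cyclic, if the centralizer of a
maximal normal abelian subgroup `A` is non-abelian, then it contains a normal subgroup of the
whole group isomorphic to the quaternion group of order 8.
-/

namespace Cfsg.Agent.Helper1.ZNF

universe u

variable {G : Type u} [Group G]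

/-- the sup of two abelian subgroups centralizing one another is abelian -/
theorem isMulCommutative_sup {A B : Subgroup G} (hA : IsMulCommutative A) (hB : IsMulCommutative B)
    (hAB : B ≤ Subgroup.centralizer (A : Set G)) : IsMulCommutative ↥(A ⊔ B) := by
  rw [Subgroup.sup_eq_closure]
  apply Subgroup.isMulCommutative_closure
  rintro x (hx | hx) y (hy | hy)
  · exact congrArg Subtype.val (hA.is_comm.comm ⟨x, hx⟩ ⟨y, hy⟩)
  · exact (Subgroup.mem_centralizer_iff.1 (hAB hy) x hx)
  · exact (Subgroup.mem_centralizer_iff.1 (hAB hx) y hy).symm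
  · exact congrArg Subtype.val (hB.is_comm.comm ⟨x, hx⟩ ⟨y, hy⟩)

theorem not_isMulCommutative_iff {N : Subgroup G} :
    ¬ IsMulCommutative N ↔ ∃ x ∈ N, ∃ y ∈ N, x * y ≠ y * x := by
  constructor
  · intro h
    by_contra hcon
    push Not at hcon
    exact h ⟨⟨fun a b => Subtype.ext (hcon a a.2 b b.2)⟩⟩
  · rintro ⟨x, hx, y, hy, hxy⟩ h
    exact hxy (congrArg Subtype.val (h.is_comm.comm ⟨x, hx⟩ ⟨y, hy⟩))

/-- The class-two condition forces a generalized quaternion group to have order 8. -/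
theorem quaternion_class_two {n : ℕ} [NeZero n]
    (h : ∀ x y : QuaternionGroup n, ∃ c : QuaternionGroup n, (∀ w, c * w = w * c) ∧
      x * y = c * (y * x)) : n ∣ 2 := by
  obtain ⟨c, hc, hxy⟩ := h (QuaternionGroup.xa 0) (QuaternionGroup.a 1)
  rw [QuaternionGroup.xa_mul_a, QuaternionGroup.a_mul_xa] at hxy
  rcases c with t | t
  · rw [QuaternionGroup.a_mul_xa] at hxy
    have h1 : (0 : ZMod (2 * n)) + 1 = 0 - 1 - t := by
      injection hxy
    have h2 := hc (QuaternionGroup.xa 0)
    rw [QuaternionGroup.a_mul_xa, QuaternionGroup.xa_mul_a] at h2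
    have h3 : (0 : ZMod (2 * n)) - t = 0 + t := by injection h2
    have h4 : ((4 : ℕ) : ZMod (2 * n)) = 0 := by
      have ht : t = -2 := by linear_combination h1
      rw [ht] at h3
      push_cast
      linear_combination h3
    have h5 : 2 * n ∣ 4 := (ZMod.natCast_eq_zero_iff 4 (2 * n)).1 h4
    exact (Nat.mul_dvd_mul_iff_left (by norm_num : 0 < 2)).1 (by simpa using h5)
  · rw [QuaternionGroup.xa_mul_xa] at hxy
    cases hxy

/-- two distinct subgroups of prime order meet trivially -/
theorem inf_eq_bot_of_prime_card [Finite G] {r : ℕ} (hr : r.Prime) {X Y : Subgroup G}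
    (hX : Nat.card X = r) (hY : Nat.card Y = r) (hne : X ≠ Y) : X ⊓ Y = ⊥ := by
  have h1 : Nat.card ↥(X ⊓ Y) ∣ r := hX ▸ Subgroup.card_dvd_of_le inf_le_left
  rcases (Nat.dvd_prime hr).1 h1 with h | h
  · exact Subgroup.card_eq_one.1 h
  · exfalso
    apply hne
    have h2 : X ⊓ Y = X := Subgroup.eq_of_le_of_card_ge inf_le_left (by rw [h, hX])
    have h3 : X ⊓ Y = Y := Subgroup.eq_of_le_of_card_ge inf_le_right (by rw [h, hY])
    rw [← h2, h3]

/-- **A normal `Q₈`.** -/
theorem exists_normal_q8 [Finite G] (hsol : Group.IsSolvable G)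
    (hab : ∀ B : Subgroup G, IsMulCommutative B → IsCyclic B)
    (A : Subgroup G) (hAn : A.Normal) (hAc : IsMulCommutative A)
    (hAmax : ∀ B : Subgroup G, B.Normal → IsMulCommutative B → A ≤ B → B = A)
    (hC : ¬ IsMulCommutative (Subgroup.centralizer (A : Set G))) :
    ∃ N : Subgroup G, N.Normal ∧ N ≤ Subgroup.centralizer (A : Set G) ∧
      Nonempty (N ≃* QuaternionGroup 2) := by
  classical
  set C := Subgroup.centralizer (A : Set G) with hCdef
  haveI hCn : C.Normal := Subgroup.normal_centralizer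
  let 𝒩 : Set (Subgroup G) := {M | M.Normal ∧ M ≤ C ∧ ¬ IsMulCommutative M}
  have hne : 𝒩.Nonempty := ⟨C, hCn, le_rfl, hC⟩
  obtain ⟨N, hN𝒩, hmin⟩ := Set.exists_min_image 𝒩 (fun M => Nat.card M) (Set.toFinite _) hne
  obtain ⟨hNn, hNC, hNna⟩ := hN𝒩
  haveI := hNn
  have hNbot : N ≠ ⊥ := by
    rintro rfl
    apply hNna
    exact ⟨⟨fun a b => Subsingleton.elim _ _⟩⟩
  -- the derived subgroup of `N` lies in `A`
  have hN'lt : ⁅N, N⁆ < N := Group.IsSolvable.commutator_lt_of_ne_bot hNbot
  have hN'n : (⁅N, N⁆ : Subgroup G).Normal := inferInstance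
  have hN'c : IsMulCommutative ↥(⁅N, N⁆ : Subgroup G) := by
    by_contra hcon
    have h1 : ⁅N, N⁆ ∈ 𝒩 := ⟨hN'n, hN'lt.le.trans hNC, hcon⟩
    have h2 := hmin _ h1
    have h3 : ⁅N, N⁆ = N := Subgroup.eq_of_le_of_card_ge hN'lt.le h2
    exact hN'lt.ne h3
  have hN'A : ⁅N, N⁆ ≤ A := by
    have h1 : IsMulCommutative ↥(A ⊔ ⁅N, N⁆) :=
      isMulCommutative_sup hAc hN'c (hN'lt.le.trans hNC)
    have h2 := hAmax (A ⊔ ⁅N, N⁆) inferInstance h1 le_sup_left
    rw [← h2]; exact le_sup_right
  have hcent : ∀ c ∈ (⁅N, N⁆ : Subgroup G), ∀ x ∈ N, c * x = x * c := by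
    intro c hc x hx
    exact Subgroup.mem_centralizer_iff.1 (hNC hx) c (hN'A hc)
  -- `N` is nilpotent
  haveI hnil : Group.IsNilpotent ↥N := by
    rw [Subgroup.isNilpotent_iff_lowerCentralSeries]
    refine ⟨2, ?_⟩
    rw [Subgroup.lowerCentralSeries_succ, Subgroup.lowerCentralSeries_succ,
      Subgroup.lowerCentralSeries_zero, Subgroup.commutator_eq_bot_iff_le_centralizer]
    intro c hc
    rw [Subgroup.mem_centralizer_iff]
    intro x hx
    exact (hcent c hc x hx).symm
  -- a non-abelian Sylow subgroup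
  have hex : ∃ (r : ℕ) (_ : Fact r.Prime) (R : Sylow r ↥N), ¬ IsMulCommutative ↥(R : Subgroup ↥N) := by
    by_contra hcon
    push Not at hcon
    haveI : IsZGroup ↥N := by
      refine ⟨fun r hr R => ?_⟩
      haveI := Fact.mk hr
      have h1 : IsMulCommutative ↥(R : Subgroup ↥N) := hcon r ⟨hr⟩ R
      have h2 : IsMulCommutative ↥((R : Subgroup ↥N).map N.subtype) := by
        refine ⟨⟨?_⟩⟩
        rintro ⟨_, a, ha, rfl⟩ ⟨_, b, hb, rfl⟩
        apply Subtype.ext
        have := h1.is_comm.comm ⟨a, ha⟩ ⟨b, hb⟩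
        have h3 := congrArg (fun t : ↥(R : Subgroup ↥N) => ((t : ↥N) : G)) this
        simpa using h3
      haveI := hab _ h2
      exact isCyclic_of_injective (N.subtype.subgroupMap (R : Subgroup ↥N))
        (by
          rw [← MonoidHom.ker_eq_bot_iff, Subgroup.ker_subgroupMap, Subgroup.ker_subtype,
            Subgroup.bot_subgroupOf])
    haveI : IsCyclic ↥N := inferInstance
    apply hNna
    exact ⟨⟨fun a b => IsCyclic.commGroup.mul_comm a b⟩⟩
  obtain ⟨r, hrF, R, hRna⟩ := hex
  have hr : r.Prime := hrF.out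
  -- `R = N`
  have hRtop : (R : Subgroup ↥N) = ⊤ := by
    haveI hRn : (R : Subgroup ↥N).Normal := inferInstance
    haveI hRchar : (R : Subgroup ↥N).Characteristic := Sylow.characteristic_of_normal R hRn
    set R' := (R : Subgroup ↥N).map N.subtype with hR'
    have hR'N : R' ≤ N := Subgroup.map_subtype_le _
    have hR'n : R'.Normal := by
      have h1 := Cfsg.Agent.Helper1.le_normalizer_map_of_characteristic N (R : Subgroup ↥N)
      rw [Subgroup.normalizer_eq_top_iff.mpr hNn] at h1
      exact Subgroup.normalizer_eq_top_iff.mp (top_le_iff.mp h1)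
    have hR'na : ¬ IsMulCommutative R' := by
      intro h
      apply hRna
      refine ⟨⟨fun a b => ?_⟩⟩
      have := h.is_comm.comm ⟨(a : G), Subgroup.mem_map_of_mem _ a.2⟩
        ⟨(b : G), Subgroup.mem_map_of_mem _ b.2⟩
      have h3 : ((a : ↥N) : G) * ((b : ↥N) : G) = ((b : ↥N) : G) * ((a : ↥N) : G) :=
        congrArg Subtype.val this
      apply Subtype.ext; apply Subtype.ext
      simpa using h3
    have h1 : R' ∈ 𝒩 := ⟨hR'n, hR'N.trans hNC, hR'na⟩
    have h2 := hmin _ h1
    have h3 : R' = N := Subgroup.eq_of_le_of_card_ge hR'N h2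
    rw [eq_top_iff]
    intro x _
    have hx : (x : G) ∈ R' := by rw [h3]; exact x.2
    obtain ⟨y, hy, hyx⟩ := hx
    have : y = x := Subtype.ext hyx
    rw [← this]; exact hy
  have hNp : IsPGroup r ↥N := by
    have := R.2
    rw [hRtop] at this
    exact IsPGroup.of_equiv this Subgroup.topEquiv
  -- unique subgroup of order `r`
  have huniq : ∀ H₁ H₂ : Subgroup ↥N, Nat.card H₁ = r → Nat.card H₂ = r → H₁ = H₂ := by
    haveI : Nontrivial ↥N := (Subgroup.nontrivial_iff_ne_bot N).2 hNbot
    have hcen : Nontrivial (Subgroup.center ↥N) := hNp.center_nontrivial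
    obtain ⟨k, hk0, hk⟩ := (hNp.to_subgroup (Subgroup.center ↥N)).nontrivial_iff_card.1 hcen
    have hrd : r ∣ Nat.card (Subgroup.center ↥N) := by rw [hk]; exact dvd_pow_self r hk0.ne'
    obtain ⟨z, hz⟩ := exists_prime_orderOf_dvd_card' r hrd
    set Z₀ : Subgroup ↥N := Subgroup.zpowers (z : ↥N) with hZ₀
    have hZ₀c : Nat.card Z₀ = r := by
      rw [Nat.card_zpowers, Subgroup.orderOf_coe]; exact hz
    have key : ∀ H₁ : Subgroup ↥N, Nat.card H₁ = r → H₁ = Z₀ := by
      intro H₁ hH₁
      by_contra hne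
      have hdisj := inf_eq_bot_of_prime_card hr hH₁ hZ₀c hne
      -- `Z₀ ⊔ H₁` is abelian
      haveI hH₁c : IsMulCommutative H₁ := by
        haveI : Fact (Nat.card H₁).Prime := ⟨by rw [hH₁]; exact hr⟩
        haveI := isCyclic_of_prime_card (α := H₁) rfl
        exact ⟨⟨fun a b => IsCyclic.commGroup.mul_comm a b⟩⟩
      haveI hZ₀comm : IsMulCommutative Z₀ :=
        ⟨⟨fun a b => IsCyclic.commGroup.mul_comm a b⟩⟩
      have hH₁cent : H₁ ≤ Subgroup.centralizer (Z₀ : Set ↥N) := by
        intro x _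
        rw [Subgroup.mem_centralizer_iff]
        intro w hw
        obtain ⟨j, rfl⟩ := Subgroup.mem_zpowers_iff.1 hw
        have hzc : ∀ g : ↥N, g * (z : ↥N) = (z : ↥N) * g := fun g =>
          (Subgroup.mem_center_iff.1 z.2 g)
        have hc : Commute (z : ↥N) x := (hzc x).symm
        exact (hc.zpow_left j).eq
      have hBc : IsMulCommutative ↥(Z₀ ⊔ H₁) := isMulCommutative_sup hZ₀comm hH₁c hH₁cent
      set B := (Z₀ ⊔ H₁).map N.subtype with hB
      have hBcomm : IsMulCommutative B := by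
        refine ⟨⟨?_⟩⟩
        rintro ⟨_, a, ha, rfl⟩ ⟨_, b, hb, rfl⟩
        apply Subtype.ext
        have := hBc.is_comm.comm ⟨a, ha⟩ ⟨b, hb⟩
        have h3 := congrArg (fun t : ↥(Z₀ ⊔ H₁) => ((t : ↥N) : G)) this
        simpa using h3
      have hBcyc := hab B hBcomm
      have hBp : IsPGroup r B := (hNp.to_subgroup (Z₀ ⊔ H₁)).map _
      have hX : Z₀.map N.subtype ≤ B := Subgroup.map_mono le_sup_left
      have hY : H₁.map N.subtype ≤ B := Subgroup.map_mono le_sup_right
      have hXY : Z₀.map N.subtype ⊓ H₁.map N.subtype = ⊥ := by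
        rw [← Subgroup.map_inf _ _ _ N.subtype_injective, inf_comm, hdisj, Subgroup.map_bot]
      rcases eq_bot_or_eq_bot_of_le_cyclic_pgroup B _ _ hBcyc hBp hX hY hXY with h | h
      · have h1 : Nat.card ↥(Z₀.map N.subtype) = r := by
          rw [Subgroup.card_map_of_injective N.subtype_injective]; exact hZ₀c
        rw [h, Subgroup.card_bot] at h1
        exact hr.one_lt.ne h1
      · have h1 : Nat.card ↥(H₁.map N.subtype) = r := by
          rw [Subgroup.card_map_of_injective N.subtype_injective]; exact hH₁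
        rw [h, Subgroup.card_bot] at h1
        exact hr.one_lt.ne h1
    intro H₁ H₂ h1 h2
    rw [key H₁ h1, key H₂ h2]
  -- `N` is generalized quaternion
  rcases Cfsg.Agent.S0016.result r hNp huniq with hcyc | ⟨-, n, ⟨e⟩⟩
  · exfalso
    apply hNna
    exact ⟨⟨fun a b => IsCyclic.commGroup.mul_comm a b⟩⟩
  · haveI : NeZero (2 ^ n) := ⟨by positivity⟩
    have hdvd : 2 ^ n ∣ 2 := by
      apply quaternion_class_two
      intro x y
      obtain ⟨x₀, rfl⟩ := e.surjective x
      obtain ⟨y₀, rfl⟩ := e.surjective y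
      set c₀ : ↥N := x₀ * y₀ * x₀⁻¹ * y₀⁻¹ with hc₀
      have hc₀mem : (c₀ : G) ∈ (⁅N, N⁆ : Subgroup G) := by
        have : (c₀ : G) = (x₀ : G) * (y₀ : G) * (x₀ : G)⁻¹ * (y₀ : G)⁻¹ := by
          simp [hc₀]
        rw [this]
        exact Subgroup.commutator_mem_commutator x₀.2 y₀.2
      refine ⟨e c₀, ?_, ?_⟩
      · intro w
        obtain ⟨w₀, rfl⟩ := e.surjective w
        rw [← map_mul, ← map_mul]
        congr 1
        apply Subtype.ext
        exact hcent _ hc₀mem _ w₀.2
      · rw [← map_mul, ← map_mul, ← map_mul]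
        congr 1
        rw [hc₀]; group
    have hn : n = 0 ∨ n = 1 := by
      have h1 : 2 ^ n ≤ 2 := Nat.le_of_dvd (by norm_num) hdvd
      rcases n with _ | _ | n
      · left; rfl
      · right; rfl
      · exfalso
        have : 2 ^ (n + 2) ≥ 4 := by
          have := Nat.one_le_two_pow (n := n)
          rw [pow_add]; omega
        omega
    rcases hn with rfl | rfl
    · exfalso
      apply hNna
      haveI : Fact (Nat.Prime 2) := ⟨Nat.prime_two⟩
      have hcard : Nat.card ↥N = 2 ^ 2 := by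
        rw [Nat.card_congr e.toEquiv, Nat.card_eq_fintype_card, QuaternionGroup.card]
        norm_num
      exact IsPGroup.isMulCommutative_of_card_eq_prime_sq hcard
    · exact ⟨N, hNn, hNC, ⟨e⟩⟩

end Cfsg.Agent.Helper1.ZNF
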