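import Mathlib
import Cfsg.Agent.Helper1.ZNFe

/-!
# A non-abelian normal subgroup of a linear group that is regular on the non-zero vectors
is irreducible (spread argument + Schur + Wedderburn).
-/

namespace Cfsg.Agent.Helper1.ZNF

variable {p : ℕ} [hp : Fact p.Prime]

/-- A linear map from a functional, linear relation. -/
theorem exists_linearMap_of_rel {U : Type*} [AddCommGroup U] [Module (ZMod p) U]
    (R : U → U → Prop) (hex : ∀ a, ∃ a', R a a')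
    (huniq : ∀ a a' a'', R a a' → R a a'' → a' = a'')
    (hadd : ∀ a a' c c', R a a' → R c c' → R (a + c) (a' + c'))
    (hsmul : ∀ (k : ZMod p) a a', R a a' → R (k • a) (k • a')) :
    ∃ γ : U →ₗ[ZMod p] U, ∀ a, R a (γ a) := by
  classical
  choose f hf using hex
  refine ⟨{ toFun := f, map_add' := ?_, map_smul' := ?_ }, hf⟩
  · intro a c
    exact huniq _ _ _ (hf (a + c)) (hadd _ _ _ _ (hf a) (hf c))
  · intro k a
    exact huniq _ _ _ (hf (k • a)) (hsmul k _ _ (hf a))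

variable {V : Type*} [AddCommGroup V] [Module (ZMod p) V] [Finite V]

/-- `N`-invariance of a subspace. -/
def InvSub (N : Subgroup (V ≃ₗ[ZMod p] V)) (W : Submodule (ZMod p) V) : Prop :=
  ∀ n ∈ N, ∀ v ∈ W, n v ∈ W

/-- Minimal non-zero invariant subspace. -/
def IsMinInv (N : Subgroup (V ≃ₗ[ZMod p] V)) (U : Submodule (ZMod p) V) : Prop :=
  InvSub N U ∧ U ≠ ⊥ ∧ ∀ W : Submodule (ZMod p) V, InvSub N W → W ≠ ⊥ → W ≤ U → W = U

theorem invSub_inf {N : Subgroup (V ≃ₗ[ZMod p] V)} {W W' : Submodule (ZMod p) V}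
    (h : InvSub N W) (h' : InvSub N W') : InvSub N (W ⊓ W') := by
  intro n hn v hv
  exact ⟨h n hn v hv.1, h' n hn v hv.2⟩

theorem invSub_sup {N : Subgroup (V ≃ₗ[ZMod p] V)} {W W' : Submodule (ZMod p) V}
    (h : InvSub N W) (h' : InvSub N W') : InvSub N (W ⊔ W') := by
  intro n hn v hv
  obtain ⟨a, ha, b, hb, rfl⟩ := Submodule.mem_sup.1 hv
  rw [map_add]
  exact Submodule.add_mem_sup (h n hn a ha) (h' n hn b hb)

theorem invSub_map {H N : Subgroup (V ≃ₗ[ZMod p] V)}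
    (hnorm : ∀ h ∈ H, ∀ n ∈ N, h * n * h⁻¹ ∈ N) {W : Submodule (ZMod p) V} (hW : InvSub N W)
    (h : V ≃ₗ[ZMod p] V) (hh : h ∈ H) :
    InvSub N (W.map (h : V →ₗ[ZMod p] V)) := by
  intro n hn x hx
  rw [Submodule.mem_map_equiv] at hx ⊢
  have h1 : h⁻¹ * n * h⁻¹⁻¹ ∈ N := hnorm h⁻¹ (H.inv_mem hh) n hn
  have h2 := hW _ h1 _ hx
  have h3 : (h⁻¹ * n * h⁻¹⁻¹) (h.symm x) = h.symm (n x) := by
    rw [inv_inv]
    simp [LinearEquiv.mul_apply]
  rw [← h3]; exact h2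

theorem isMinInv_map {H N : Subgroup (V ≃ₗ[ZMod p] V)}
    (hnorm : ∀ h ∈ H, ∀ n ∈ N, h * n * h⁻¹ ∈ N) {U : Submodule (ZMod p) V} (hU : IsMinInv N U)
    (h : V ≃ₗ[ZMod p] V) (hh : h ∈ H) :
    IsMinInv N (U.map (h : V →ₗ[ZMod p] V)) := by
  refine ⟨invSub_map hnorm hU.1 h hh, ?_, ?_⟩
  · intro h0
    apply hU.2.1
    rw [Submodule.eq_bot_iff] at h0 ⊢
    intro x hx
    have := h0 (h x) (Submodule.mem_map_of_mem hx)
    simpa using this
  · intro W hW hW0 hWle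
    have hW' : InvSub N (W.map ((h⁻¹ : V ≃ₗ[ZMod p] V) : V →ₗ[ZMod p] V)) :=
      invSub_map hnorm hW h⁻¹ (H.inv_mem hh)
    have hW'0 : W.map ((h⁻¹ : V ≃ₗ[ZMod p] V) : V →ₗ[ZMod p] V) ≠ ⊥ := by
      intro h0
      apply hW0
      rw [Submodule.eq_bot_iff] at h0 ⊢
      intro x hx
      have := h0 (h⁻¹ x) (Submodule.mem_map_of_mem hx)
      simpa using this
    have hW'le : W.map ((h⁻¹ : V ≃ₗ[ZMod p] V) : V →ₗ[ZMod p] V) ≤ U := by
      intro x hx
      rw [Submodule.mem_map_equiv] at hx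
      have h1 := hWle hx
      rw [Submodule.mem_map_equiv] at h1
      have h2 : h.symm ((h⁻¹ : V ≃ₗ[ZMod p] V).symm x) = x := by
        show h.symm (h.symm.symm x) = x
        simp
      rwa [h2] at h1
    have heq := hU.2.2 _ hW' hW'0 hW'le
    apply le_antisymm hWle
    intro x hx
    rw [Submodule.mem_map_equiv] at hx
    rw [← heq, Submodule.mem_map_equiv] at hx
    have h2 : (h⁻¹ : V ≃ₗ[ZMod p] V).symm (h.symm x) = x := by
      show h.symm.symm (h.symm x) = x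
      simp
    rwa [h2] at hx

theorem exists_isMinInv [Nontrivial V] (N : Subgroup (V ≃ₗ[ZMod p] V)) :
    ∃ U : Submodule (ZMod p) V, IsMinInv N U := by
  classical
  let 𝒮 : Set (Submodule (ZMod p) V) := {W | InvSub N W ∧ W ≠ ⊥}
  have hne : 𝒮.Nonempty := ⟨⊤, fun _ _ _ _ => trivial, top_ne_bot⟩
  obtain ⟨U, hU𝒮, hUmin⟩ := Set.exists_min_image 𝒮 (fun W : Submodule (ZMod p) V => Nat.card W)
    (Set.toFinite 𝒮) hne
  refine ⟨U, hU𝒮.1, hU𝒮.2, ?_⟩
  intro W hW hW0 hWle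
  have h1 := hUmin W ⟨hW, hW0⟩
  apply SetLike.coe_injective
  apply Set.eq_of_subset_of_ncard_le hWle _ (Set.toFinite _)
  rw [← Nat.card_coe_set_eq, ← Nat.card_coe_set_eq]
  exact h1

theorem eq_of_inf_ne_bot {N : Subgroup (V ≃ₗ[ZMod p] V)} {M M' : Submodule (ZMod p) V}
    (hM : IsMinInv N M) (hM' : IsMinInv N M') (h : M ⊓ M' ≠ ⊥) : M = M' := by
  have h1 := hM.2.2 _ (invSub_inf hM.1 hM'.1) h inf_le_left
  have h2 := hM'.2.2 _ (invSub_inf hM.1 hM'.1) h inf_le_right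
  rw [← h1]; exact h2

end Cfsg.Agent.Helper1.ZNF
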