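import Mathlib
import Cfsg.Agent.Helper1.ZNFf

/-!
# Irreducibility of non-abelian normal subgroups of regular linear groups
-/

namespace Cfsg.Agent.Helper1.ZNF

variable {p : ℕ} [hp : Fact p.Prime]
variable {V : Type*} [AddCommGroup V] [Module (ZMod p) V] [Finite V]

theorem irreducible_of_noncomm (H N : Subgroup (V ≃ₗ[ZMod p] V)) (hNH : N ≤ H)
    (hnorm : ∀ h ∈ H, ∀ n ∈ N, h * n * h⁻¹ ∈ N)
    (htr : ∀ v w : V, v ≠ 0 → w ≠ 0 → ∃ h ∈ H, h v = w)
    (hfree : ∀ h ∈ H, ∀ v : V, v ≠ 0 → h v = v → h = 1)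
    (hna : ∃ n ∈ N, ∃ m ∈ N, n * m ≠ m * n) :
    ∀ W : Submodule (ZMod p) V, InvSub N W → W = ⊥ ∨ W = ⊤ := by
  classical
  intro W hW
  by_cases hV : Nontrivial V
  swap
  · left
    rw [not_nontrivial_iff_subsingleton] at hV
    rw [Submodule.eq_bot_iff]
    intro x _
    exact Subsingleton.elim _ _
  obtain ⟨U, hU⟩ := exists_isMinInv (p := p) N
  by_cases hUtop : U = ⊤
  · by_cases hW0 : W = ⊥
    · left; exact hW0
    · right
      have := hU.2.2 W hW hW0 (by rw [hUtop]; exact le_top)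
      rw [this, hUtop]
  exfalso
  obtain ⟨u₀, hu₀U, hu₀⟩ := Submodule.exists_mem_ne_zero_of_ne_bot hU.2.1
  have hcover : ∀ v : V, v ≠ 0 → ∃ M, IsMinInv N M ∧ v ∈ M := by
    intro v hv
    obtain ⟨h, hh, hhv⟩ := htr u₀ v hu₀ hv
    refine ⟨U.map (h : V →ₗ[ZMod p] V), isMinInv_map hnorm hU h hh, ?_⟩
    rw [← hhv]
    exact Submodule.mem_map_of_mem hu₀U
  obtain ⟨w, hwU⟩ : ∃ w, w ∉ U := by
    by_contra hcon
    apply hUtop
    rw [eq_top_iff]
    intro x _
    by_contra hx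
    exact hcon ⟨x, hx⟩
  have hw0 : w ≠ 0 := fun h => hwU (h ▸ U.zero_mem)
  obtain ⟨M₂, hM₂, hwM₂⟩ := hcover w hw0
  have hUM₂ : U ⊓ M₂ = ⊥ := by
    by_contra h
    have := eq_of_inf_ne_bot hU hM₂ h
    exact hwU (this ▸ hwM₂)
  have hgraph : ∀ u ∈ U, u ≠ 0 → ∃ M, IsMinInv N M ∧ u + w ∈ M ∧ M ⊓ U = ⊥ ∧ M ⊓ M₂ = ⊥ ∧
      U ≤ M ⊔ M₂ ∧ M₂ ≤ M ⊔ U := by
    intro u hu hu0
    have huw : u + w ≠ 0 := by
      intro h
      apply hwU
      have : w = -u := by rw [eq_neg_iff_add_eq_zero, add_comm]; exact h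
      rw [this]; exact U.neg_mem hu
    obtain ⟨M, hM, huwM⟩ := hcover (u + w) huw
    have h1 : M ⊓ U = ⊥ := by
      by_contra h
      have := eq_of_inf_ne_bot hM hU h
      apply hwU
      rw [this] at huwM
      have := U.sub_mem huwM hu
      simpa using this
    have h2 : M ⊓ M₂ = ⊥ := by
      by_contra h
      have := eq_of_inf_ne_bot hM hM₂ h
      rw [this] at huwM
      have huM₂ : u ∈ M₂ := by
        have := M₂.sub_mem huwM hwM₂
        simpa using this
      have : u ∈ U ⊓ M₂ := ⟨hu, huM₂⟩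
      rw [hUM₂] at this
      exact hu0 (by simpa using this)
    refine ⟨M, hM, huwM, h1, h2, ?_, ?_⟩
    · have hinv : InvSub N (U ⊓ (M ⊔ M₂)) := invSub_inf hU.1 (invSub_sup hM.1 hM₂.1)
      have hne : U ⊓ (M ⊔ M₂) ≠ ⊥ := by
        intro h
        have hmem : u ∈ U ⊓ (M ⊔ M₂) := by
          refine ⟨hu, ?_⟩
          have : u = (u + w) + (-w) := by abel
          rw [this]
          exact Submodule.add_mem_sup huwM (M₂.neg_mem hwM₂)
        rw [h] at hmem
        exact hu0 (by simpa using hmem)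
      have := hU.2.2 _ hinv hne inf_le_left
      intro x hx
      rw [← this] at hx
      exact hx.2
    · have hinv : InvSub N (M₂ ⊓ (M ⊔ U)) := invSub_inf hM₂.1 (invSub_sup hM.1 hU.1)
      have hne : M₂ ⊓ (M ⊔ U) ≠ ⊥ := by
        intro h
        have hmem : w ∈ M₂ ⊓ (M ⊔ U) := by
          refine ⟨hwM₂, ?_⟩
          have : w = (u + w) + (-u) := by abel
          rw [this]
          exact Submodule.add_mem_sup huwM (U.neg_mem hu)
        rw [h] at hmem
        exact hw0 (by simpa using hmem)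
      have := hM₂.2.2 _ hinv hne inf_le_left
      intro x hx
      rw [← this] at hx
      exact hx.2
  -- the operators on `U`
  let S : Set (Module.End (ZMod p) U) :=
    {s | ∃ (n : V ≃ₗ[ZMod p] V) (hn : n ∈ N), s = (n : V →ₗ[ZMod p] V).restrict (hU.1 n hn)}
  have hSapp : ∀ (n : V ≃ₗ[ZMod p] V) (hn : n ∈ N) (a : U),
      (((n : V →ₗ[ZMod p] V).restrict (hU.1 n hn)) a : V) = n (a : V) := by
    intro n hn a; rfl
  have hirr : ∀ W' : Submodule (ZMod p) U, (∀ s ∈ S, ∀ x ∈ W', s x ∈ W') → W' = ⊥ ∨ W' = ⊤ := by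
    intro W' hW'
    have hinv : InvSub N (W'.map U.subtype) := by
      intro n hn v hv
      obtain ⟨a, ha, rfl⟩ := Submodule.mem_map.1 hv
      have := hW' _ ⟨n, hn, rfl⟩ a ha
      exact Submodule.mem_map.2 ⟨_, this, rfl⟩
    by_cases h0 : W'.map U.subtype = ⊥
    · left
      apply Submodule.map_injective_of_injective U.injective_subtype
      rw [h0, Submodule.map_bot]
    · right
      have := hU.2.2 _ hinv h0 (Submodule.map_subtype_le U W')
      apply Submodule.map_injective_of_injective U.injective_subtype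
      rw [this, Submodule.map_subtype_top]
  have hinj : ∀ s ∈ S, ∀ a : U, s a = 0 → a = 0 := by
    rintro s ⟨n, hn, rfl⟩ a ha
    have h1 : n (a : V) = 0 := by
      have := congrArg Subtype.val ha
      simpa using this
    apply Subtype.ext
    simpa using h1
  have htrans : ∀ a a' : U, a ≠ 0 → a' ≠ 0 →
      ∃ γ : Module.End (ZMod p) U, (∀ s ∈ S, s * γ = γ * s) ∧ γ a = a' := by
    intro a a' ha ha'
    have ha0 : (a : V) ≠ 0 := fun h => ha (Subtype.ext h)
    have ha'0 : (a' : V) ≠ 0 := fun h => ha' (Subtype.ext h)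
    obtain ⟨M, hM, haM, hMU, hMM₂, hUle, hM₂le⟩ := hgraph a a.2 ha0
    obtain ⟨M', hM', haM', hMU', hMM₂', hUle', hM₂le'⟩ := hgraph a' a'.2 ha'0
    let R : U → U → Prop := fun c c' => ∃ b ∈ M₂, (c : V) + b ∈ M ∧ (c' : V) + b ∈ M'
    have hex : ∀ c, ∃ c', R c c' := by
      intro c
      obtain ⟨x, hx, b₀, hb₀, hxb⟩ := Submodule.mem_sup.1 (hUle c.2)
      have hb : -b₀ ∈ M₂ := M₂.neg_mem hb₀
      obtain ⟨x', hx', c₀, hc₀, hxc⟩ := Submodule.mem_sup.1 (hM₂le' hb)
      refine ⟨⟨-c₀, U.neg_mem hc₀⟩, -b₀, hb, ?_, ?_⟩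
      · have : (c : V) + -b₀ = x := by rw [← hxb]; abel
        rw [this]; exact hx
      · have : ((⟨-c₀, U.neg_mem hc₀⟩ : U) : V) + -b₀ = x' := by
          show -c₀ + -b₀ = x'
          rw [← hxc]; abel
        rw [this]; exact hx'
    have huniq : ∀ c c' c'', R c c' → R c c'' → c' = c'' := by
      rintro c c' c'' ⟨b, hb, h1, h2⟩ ⟨b', hb', h1', h2'⟩
      have hbb : b = b' := by
        have hm : b - b' ∈ M ⊓ M₂ := by
          refine ⟨?_, M₂.sub_mem hb hb'⟩
          have := M.sub_mem h1 h1'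
          have e : (c : V) + b - ((c : V) + b') = b - b' := by abel
          rwa [e] at this
        rw [hMM₂] at hm
        have : b - b' = 0 := by simpa using hm
        exact sub_eq_zero.1 this
      subst hbb
      have hm : (c' : V) - (c'' : V) ∈ M' ⊓ U := by
        refine ⟨?_, U.sub_mem c'.2 c''.2⟩
        have := M'.sub_mem h2 h2'
        have e : (c' : V) + b - ((c'' : V) + b) = (c' : V) - (c'' : V) := by abel
        rwa [e] at this
      rw [hMU'] at hm
      have : (c' : V) - (c'' : V) = 0 := by simpa using hm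
      exact Subtype.ext (sub_eq_zero.1 this)
    have hadd : ∀ c c' d d', R c c' → R d d' → R (c + d) (c' + d') := by
      rintro c c' d d' ⟨b, hb, h1, h2⟩ ⟨b', hb', h1', h2'⟩
      refine ⟨b + b', M₂.add_mem hb hb', ?_, ?_⟩
      · have e : ((c + d : U) : V) + (b + b') = ((c : V) + b) + ((d : V) + b') := by
          push_cast; abel
        rw [e]; exact M.add_mem h1 h1'
      · have e : ((c' + d' : U) : V) + (b + b') = ((c' : V) + b) + ((d' : V) + b') := by
          push_cast; abel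
        rw [e]; exact M'.add_mem h2 h2'
    have hsmul : ∀ (k : ZMod p) c c', R c c' → R (k • c) (k • c') := by
      rintro k c c' ⟨b, hb, h1, h2⟩
      refine ⟨k • b, M₂.smul_mem k hb, ?_, ?_⟩
      · have e : ((k • c : U) : V) + k • b = k • ((c : V) + b) := by
          push_cast; rw [smul_add]
        rw [e]; exact M.smul_mem k h1
      · have e : ((k • c' : U) : V) + k • b = k • ((c' : V) + b) := by
          push_cast; rw [smul_add]
        rw [e]; exact M'.smul_mem k h2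
    obtain ⟨γ, hγ⟩ := exists_linearMap_of_rel (p := p) R hex huniq hadd hsmul
    refine ⟨γ, ?_, ?_⟩
    · rintro s ⟨n, hn, rfl⟩
      ext c
      rw [Module.End.mul_apply, Module.End.mul_apply]
      have hR1 : R (((n : V →ₗ[ZMod p] V).restrict (hU.1 n hn)) c)
          (((n : V →ₗ[ZMod p] V).restrict (hU.1 n hn)) (γ c)) := by
        obtain ⟨b, hb, h1, h2⟩ := hγ c
        refine ⟨n b, hM₂.1 n hn b hb, ?_, ?_⟩
        · rw [hSapp n hn, ← map_add]; exact hM.1 n hn _ h1
        · rw [hSapp n hn, ← map_add]; exact hM'.1 n hn _ h2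
      have hR2 := hγ (((n : V →ₗ[ZMod p] V).restrict (hU.1 n hn)) c)
      exact congrArg Subtype.val (huniq _ _ _ hR1 hR2)
    · have hR1 : R a a' := ⟨w, hwM₂, haM, haM'⟩
      exact huniq _ _ _ (hγ a) hR1
  have hcomm := comm_of_transitive_centralizer (p := p) S hirr htrans hinj
  obtain ⟨n, hn, m, hm, hnm⟩ := hna
  apply hnm
  have h1 := hcomm _ ⟨n, hn, rfl⟩ _ ⟨m, hm, rfl⟩ ⟨u₀, hu₀U⟩
  have h2 : n (m u₀) = m (n u₀) := by
    have := congrArg Subtype.val h1
    simpa [hSapp] using this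
  have h3 : ((m * n)⁻¹ * (n * m)) u₀ = u₀ := by
    rw [LinearEquiv.mul_apply, LinearEquiv.mul_apply, h2, ← LinearEquiv.mul_apply m n u₀,
      ← LinearEquiv.mul_apply]
    simp
  have h4 : (m * n)⁻¹ * (n * m) ∈ H :=
    H.mul_mem (H.inv_mem (H.mul_mem (hNH hm) (hNH hn))) (H.mul_mem (hNH hn) (hNH hm))
  have h5 := hfree _ h4 u₀ hu₀ h3
  have h6 : n * m = (m * n) * ((m * n)⁻¹ * (n * m)) := by group
  rw [h6, h5, mul_one]

end Cfsg.Agent.Helper1.ZNF
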