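import Mathlib
import Cfsg.Agent.Helper1.ZNFg
import Cfsg.Agent.Helper1.ZNFa
import Cfsg.Agent.Helper2.NearFieldB

/-!
# S0687: a non-abelian normal subgroup centralising a maximal normal abelian subgroup is
irreducible and its centraliser is that abelian subgroup.
-/

namespace Cfsg.Agent.Helper1.ZNF

variable {p : ℕ} [hp : Fact p.Prime]
variable {V : Type*} [AddCommGroup V] [Module (ZMod p) V] [Finite V]

theorem irreducible_and_centralizer (H : Subgroup (V ≃ₗ[ZMod p] V))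
    (hreg : ∀ v w : V, v ≠ 0 → w ≠ 0 → ∃! h : H, (h : V ≃ₗ[ZMod p] V) v = w)
    (A : Subgroup H) (hAmax : ∀ B : Subgroup H, B.Normal → IsMulCommutative B → A ≤ B → B = A)
    (N : Subgroup H) (hNn : N.Normal) (hNle : N ≤ Subgroup.centralizer (A : Set H))
    (hNna : ¬ IsMulCommutative N) :
    (∀ W : Submodule (ZMod p) V,
      (∀ n ∈ N, ∀ v ∈ W, ((n : H) : V ≃ₗ[ZMod p] V) v ∈ W) → W = ⊥ ∨ W = ⊤) ∧
    Subgroup.centralizer (N : Set H) = A := by
  classical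
  have hfree : ∀ (h : H) (v : V), v ≠ 0 → (h : V ≃ₗ[ZMod p] V) v = v → h = 1 :=
    fun h v hv hfix => Cfsg.Agent.Helper2.NearField.free_of_reg H hreg h v hv hfix
  set N' : Subgroup (V ≃ₗ[ZMod p] V) := N.map H.subtype with hN'
  have hmemN' : ∀ n : H, n ∈ N → (n : V ≃ₗ[ZMod p] V) ∈ N' := fun n hn =>
    Subgroup.mem_map.2 ⟨n, hn, rfl⟩
  have hN'H : N' ≤ H := by
    rintro x ⟨n, _, rfl⟩
    exact n.2
  have hnorm : ∀ h ∈ H, ∀ n ∈ N', h * n * h⁻¹ ∈ N' := by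
    rintro h hh x ⟨n, hn, rfl⟩
    have := hNn.conj_mem n hn ⟨h, hh⟩
    exact Subgroup.mem_map.2 ⟨_, this, rfl⟩
  have htr : ∀ v w : V, v ≠ 0 → w ≠ 0 → ∃ h ∈ H, h v = w := by
    intro v w hv hw
    obtain ⟨h, hh, _⟩ := hreg v w hv hw
    exact ⟨h, h.2, hh⟩
  have hfree' : ∀ h ∈ H, ∀ v : V, v ≠ 0 → h v = v → h = 1 := by
    intro h hh v hv hfix
    have := hfree ⟨h, hh⟩ v hv hfix
    exact congrArg Subtype.val this
  have hna : ∃ n ∈ N', ∃ m ∈ N', n * m ≠ m * n := by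
    obtain ⟨x, hx, y, hy, hxy⟩ := not_isMulCommutative_iff.1 hNna
    refine ⟨x, hmemN' x hx, y, hmemN' y hy, ?_⟩
    intro h
    apply hxy
    exact Subtype.ext h
  have hirr := irreducible_of_noncomm (p := p) H N' hN'H hnorm htr hfree' hna
  have hirr' : ∀ W : Submodule (ZMod p) V,
      (∀ n ∈ N, ∀ v ∈ W, ((n : H) : V ≃ₗ[ZMod p] V) v ∈ W) → W = ⊥ ∨ W = ⊤ := by
    intro W hW
    apply hirr W
    rintro x ⟨n, hn, rfl⟩ v hv
    exact hW n hn v hv
  refine ⟨hirr', ?_⟩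
  -- the centraliser of `N` is abelian
  set B := Subgroup.centralizer (N : Set H) with hB
  haveI : N.Normal := hNn
  have hBn : B.Normal := Subgroup.normal_centralizer
  let S : Set (Module.End (ZMod p) V) :=
    {s | ∃ n : H, n ∈ N ∧ s = ((n : V ≃ₗ[ZMod p] V) : V →ₗ[ZMod p] V)}
  have hSirr : ∀ W : Submodule (ZMod p) V, (∀ s ∈ S, ∀ w ∈ W, s w ∈ W) → W = ⊥ ∨ W = ⊤ := by
    intro W hW
    apply hirr' W
    intro n hn v hv
    exact hW _ ⟨n, hn, rfl⟩ v hv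
  have hBS : ∀ b : H, b ∈ B → ∀ s ∈ S,
      s * ((b : V ≃ₗ[ZMod p] V) : V →ₗ[ZMod p] V) = ((b : V ≃ₗ[ZMod p] V) : V →ₗ[ZMod p] V) * s := by
    rintro b hb s ⟨n, hn, rfl⟩
    have h1 : n * b = b * n := (Subgroup.mem_centralizer_iff.1 hb n hn)
    ext v
    rw [Module.End.mul_apply, Module.End.mul_apply]
    have h2 := congrArg (fun z : H => (z : V ≃ₗ[ZMod p] V) v) h1
    simpa using h2
  have hBc : IsMulCommutative B := by
    refine ⟨⟨fun b c => ?_⟩⟩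
    apply Subtype.ext
    apply Subtype.ext
    have h := comm_centralizer_of_irreducible (p := p) S hSirr
      (((b : H) : V ≃ₗ[ZMod p] V) : V →ₗ[ZMod p] V) (((c : H) : V ≃ₗ[ZMod p] V) : V →ₗ[ZMod p] V)
      (hBS b b.2) (hBS c c.2)
    apply LinearEquiv.toLinearMap_injective
    ext v
    have h2 := congrArg (fun f : Module.End (ZMod p) V => f v) h
    simpa using h2
  have hAB : A ≤ B := Subgroup.le_centralizer_iff.1 hNle
  exact hAmax B hBn hBc hAB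

end Cfsg.Agent.Helper1.ZNF
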