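import Mathlib
import Cfsg.Agent.Helper6.ZasDefs
import Cfsg.Agent.Helper6.ZasGDefs
import Cfsg.Agent.Helper1.ZasG3A
import Cfsg.Agent.Helper3.ZasRepC
import Cfsg.Agent.Helper8.ZasLJ

/-!
Zassenhaus project (helper6), G-side, piece G7a (helper1): `ZData` for a linear group over the prime field which is
regular on the non-zero vectors and has even order; `ZData` transports along injective homomorphisms.
-/

set_option autoImplicit false
set_option linter.style.haveILetI false

namespace Cfsg.Agent.Helper1.ZasG

open Cfsg.Agent.Helper6.Zas Cfsg.Agent.Helper6.ZasG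

/-- `ZData` transports along injective homomorphisms -/
theorem zdata_of_injective {H G : Type*} [Group H] [Group G] (φ : H →* G)
    (hinj : Function.Injective φ) (hZ : ZData G) : ZData H := by
  have hord : ∀ x : H, orderOf (φ x) = orderOf x := fun x => orderOf_injective φ hinj x
  have hcl2 : ∀ a b : H, (Subgroup.closure {a, b}).map φ = Subgroup.closure {φ a, φ b} :=
    fun a b => map_closure_pair φ a b
  have hcov2 : ∀ (a b : H) (X : Type) [Group X],
      Cover (Subgroup.closure {φ a, φ b}) X → Cover (Subgroup.closure {a, b}) X := by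
    intro a b X _ h
    rw [← hcl2 a b] at h
    exact (cover_map_iff φ hinj _).mp h
  have hcomm : ∀ a b : H, Commute (φ a) (φ b) → Commute a b := by
    intro a b h
    apply hinj
    rw [map_mul, map_mul]; exact h
  refine ⟨?_, ?_, ?_, ?_, ?_, ?_⟩
  · intro A hA
    have h1 : IsCyclic ↥(A.map φ) := by
      apply hZ.comm_cyclic
      rintro _ ⟨x, hx, rfl⟩ _ ⟨y, hy, rfl⟩
      rw [← map_mul, ← map_mul, hA x hx y hy]
    exact isCyclic_of_surjective (A.equivMapOfInjective φ hinj).symm
      (A.equivMapOfInjective φ hinj).symm.surjective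
  · intro A p q hp hq hA
    have h1 : IsCyclic ↥(A.map φ) := by
      apply hZ.pq_cyclic _ p q hp hq
      rw [Subgroup.card_map_of_injective hinj]; exact hA
    exact isCyclic_of_surjective (A.equivMapOfInjective φ hinj).symm
      (A.equivMapOfInjective φ hinj).symm.surjective
  · intro s t hs ht
    apply hinj
    exact hZ.invol _ _ (by rw [hord]; exact hs) (by rw [hord]; exact ht)
  · intro a b ha hb
    rcases hZ.f1 (φ a) (φ b) (by rw [hord]; exact ha) (by rw [hord]; exact hb) with h | h | h
    · left; exact hcomm a b h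
    · right; left; exact hcov2 a b _ h
    · right; right; exact hcov2 a b _ h
  · intro x a hx ha
    rcases hZ.f2 (φ x) (φ a) (by rw [hord]; exact hx) (by rw [hord]; exact ha) with
      h | h | h | h | h
    · left; exact hcomm x a h
    · right; left; exact hcov2 x a _ h
    · right; right; left; exact hcov2 x a _ h
    · right; right; right; left; exact hcov2 x a _ h
    · right; right; right; right; exact hcov2 x a _ h
  · intro x₁ a₁ x₂ a₂ r a hx₁ ha₁ hx₂ ha₂ hr hr1 hr2 haL ha
    have hmem : ∀ (s : Set H) (y : H), y ∈ Subgroup.closure s →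
        φ y ∈ Subgroup.closure (φ '' s) := by
      intro s y hy
      rw [← MonoidHom.map_closure]
      exact ⟨y, hy, rfl⟩
    have h1 := hmem _ _ hr1
    have h2 := hmem _ _ hr2
    have h3 := hmem _ _ haL
    rw [Set.image_pair] at h1 h2
    have e4 : φ '' {x₁, a₁, x₂, a₂} = {φ x₁, φ a₁, φ x₂, φ a₂} := by
      rw [Set.image_insert_eq, Set.image_insert_eq, Set.image_pair]
    rw [e4] at h3
    rcases hZ.dk (φ x₁) (φ a₁) (φ x₂) (φ a₂) (φ r) (φ a) (by rw [hord]; exact hx₁)
      (by rw [hord]; exact ha₁) (by rw [hord]; exact hx₂) (by rw [hord]; exact ha₂)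
      (by rw [hord]; exact hr) h1 h2 h3 (by rw [hord]; exact ha) with h | h
    · left; exact hcomm r a h
    · right; exact hcov2 r a _ h

/-- a linear automorphism as an automorphism of the multiplicative group -/
def toMulAut {R : Type*} [Semiring R] {V : Type*} [AddCommGroup V] [Module R V] :
    (V ≃ₗ[R] V) →* MulAut (Multiplicative V) where
  toFun f := AddEquiv.toMultiplicative f.toAddEquiv
  map_one' := rfl
  map_mul' _ _ := rfl

theorem toMulAut_apply {R : Type*} [Semiring R] {V : Type*} [AddCommGroup V] [Module R V]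
    (f : V ≃ₗ[R] V) (k : Multiplicative V) :
    toMulAut f k = Multiplicative.ofAdd (f (Multiplicative.toAdd k)) := rfl

theorem toMulAut_injective {R : Type*} [Semiring R] {V : Type*} [AddCommGroup V] [Module R V] :
    Function.Injective (toMulAut (R := R) (V := V)) := by
  intro f g h
  ext v
  have := congrArg (fun φ : MulAut (Multiplicative V) => Multiplicative.toAdd (φ (Multiplicative.ofAdd v))) h
  exact this

/-- PIECE G7a: `ZData` for a linear group regular on the non-zero vectors. -/
theorem zdata_of_regular {p : ℕ} [Fact p.Prime] {V : Type*} [AddCommGroup V] [Module (ZMod p) V]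
    [Finite V] (H : Subgroup (V ≃ₗ[ZMod p] V))
    (hreg : ∀ v w : V, v ≠ 0 → w ≠ 0 → ∃! h : H, (h : V ≃ₗ[ZMod p] V) v = w)
    (h2 : 2 ∣ Nat.card H) : ZData H := by
  haveI : Finite (V ≃ₗ[ZMod p] V) :=
    Finite.of_injective (fun f : V ≃ₗ[ZMod p] V => (f : V → V)) DFunLike.coe_injective
  have hinj : Function.Injective (toMulAut (R := ZMod p) (V := V)) := toMulAut_injective
  have hfpf : ∀ φ ∈ H.map (toMulAut (R := ZMod p) (V := V)), φ ≠ 1 →
      ∀ k : Multiplicative V, φ k = k → k = 1 := by
    rintro _ ⟨h, hh, rfl⟩ hne k hk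
    by_contra hk1
    apply hne
    have hv : Multiplicative.toAdd k ≠ 0 := fun h0 => hk1 (by
      have : k = Multiplicative.ofAdd (Multiplicative.toAdd k) := rfl
      rw [this, h0]; rfl)
    obtain ⟨u, -, huniq⟩ := hreg _ _ hv hv
    have e1 : (⟨h, hh⟩ : ↥H) = u := huniq ⟨h, hh⟩ (by
      have := congrArg Multiplicative.toAdd hk
      exact this)
    have e2 : (1 : ↥H) = u := huniq 1 rfl
    have e3 : (⟨h, hh⟩ : ↥H) = 1 := e1.trans e2.symm
    have : h = 1 := congrArg Subtype.val e3
    rw [this, map_one]
  have h2' : 2 ∣ Nat.card ↥(H.map (toMulAut (R := ZMod p) (V := V))) := by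
    rw [Subgroup.card_map_of_injective hinj]; exact h2
  haveI : Finite ↥(H.map (toMulAut (R := ZMod p) (V := V))) :=
    Finite.of_equiv _ (H.equivMapOfInjective _ hinj).toEquiv
  obtain ⟨E, _, _, V', _, _, _, _, ρ, hF, hE⟩ :=
    Cfsg.Agent.Helper3.ZasRep.exists_fpf_rep (H.map (toMulAut (R := ZMod p) (V := V))) hfpf h2'
  have hZ := Cfsg.Agent.Helper8.ZasL.zdata_of_fpf ρ hF hE
  exact zdata_of_injective (H.equivMapOfInjective _ hinj).toMonoidHom
    (H.equivMapOfInjective _ hinj).injective hZ

end Cfsg.Agent.Helper1.ZasG
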