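import Mathlib

/-!
Zassenhaus project (helper6), G-side, piece G7b (helper1), part B: general lemmas (Mathlib only): perfect groups are
not solvable, nilpotent groups with abelian Sylow subgroups are abelian, normal Sylow subgroups of a normal subgroup are
normal, elements of large order in generalized quaternion groups.
-/

set_option autoImplicit false
set_option linter.style.haveILetI false

namespace Cfsg.Agent.Helper1.ZasG

/-- a nontrivial perfect group is not solvable -/
theorem not_isSolvable_of_perfect {G : Type*} [Group G] [Nontrivial G] (h : commutator G = ⊤) :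
    ¬ Group.IsSolvable G := by
  intro hs
  obtain ⟨n, hn⟩ := hs.solvable
  have key : ∀ k : ℕ, derivedSeries G k = ⊤ := by
    intro k
    induction k with
    | zero => rfl
    | succ k ih =>
      rw [derivedSeries_succ, ih]
      exact h
  rw [key n] at hn
  exact top_ne_bot hn

/-- `⁅N, N⁆ = N` in the ambient group means that `N` is perfect as a group -/
theorem commutator_eq_top_of_commutator_eq {H : Type*} [Group H] {N : Subgroup H}
    (h : ⁅N, N⁆ = N) : commutator ↥N = ⊤ := by
  apply Subgroup.map_injective N.subtype_injective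
  rw [Subgroup.map_subtype_commutator, h, ← MonoidHom.range_eq_map, Subgroup.range_subtype]

/-- a finite nilpotent group whose Sylow subgroups are abelian is abelian -/
theorem comm_of_sylow_comm {G : Type*} [Group G] [Finite G] (hn : Group.IsNilpotent G)
    (hs : ∀ (p : ℕ) [Fact p.Prime] (P : Sylow p G), ∀ x ∈ P, ∀ y ∈ P, x * y = y * x) :
    ∀ x y : G, x * y = y * x := by
  obtain ⟨e⟩ := (Group.isNilpotent_of_finite_tfae (G := G)).out 0 4 rfl rfl |>.mp hn
  intro x y
  apply e.symm.injective
  rw [map_mul, map_mul]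
  funext p P
  haveI : Fact (Nat.Prime ↑p) := Fact.mk <| Nat.prime_of_mem_primeFactors p.2
  show (e.symm x p P) * (e.symm y p P) = (e.symm y p P) * (e.symm x p P)
  apply Subtype.ext
  exact hs p P _ (e.symm x p P).2 _ (e.symm y p P).2

/-- a normal Sylow subgroup of a normal subgroup is normal -/
theorem sylow_map_normal {H : Type*} [Group H] [Finite H] {N : Subgroup H} (hN : N.Normal) {p : ℕ}
    [Fact p.Prime] (P : Sylow p ↥N) (hP : (P : Subgroup ↥N).Normal) :
    ((P : Subgroup ↥N).map N.subtype).Normal := by
  constructor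
  rintro _ ⟨x, hx, rfl⟩ h
  -- the conjugate Sylow subgroup
  let c : ↥N ≃* ↥N := (MulAut.conjNormal (H := N) h)
  have hc : ∀ y : ↥N, ((c y : ↥N) : H) = h * y * h⁻¹ := fun y => by
    simp [c]
  have hQ : IsPGroup p ↥((P : Subgroup ↥N).map c.toMonoidHom) := P.2.map _
  obtain ⟨P₂, hP₂⟩ := hQ.exists_le_sylow
  haveI := Sylow.unique_of_normal P hP
  have hPP : P₂ = P := Subsingleton.elim _ _
  rw [hPP] at hP₂
  have : c x ∈ (P : Subgroup ↥N) := hP₂ ⟨x, hx, rfl⟩
  exact ⟨c x, this, hc x⟩

section quaternion

open QuaternionGroup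

/-- in a generalized quaternion group of order at least 16 an element of order `2 n` is a power of `a 1` -/
theorem exists_a_of_orderOf {n : ℕ} [NeZero n] (hn : 3 ≤ n) (g : QuaternionGroup n)
    (hg : orderOf g = 2 * n) : ∃ i, g = a i := by
  rcases g with i | i
  · exact ⟨i, rfl⟩
  · exfalso
    rw [orderOf_xa] at hg
    omega

theorem a_one_not_comm {n : ℕ} (hn : 2 ≤ n) :
    (a 1 : QuaternionGroup n) * xa 0 ≠ xa 0 * a 1 := by
  rw [a_mul_xa, xa_mul_a]
  intro h
  have h1 : (0 : ZMod (2 * n)) - 1 = 0 + 1 := by
    injection h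
  have h2 : ((2 : ℕ) : ZMod (2 * n)) = 0 := by
    have : (2 : ZMod (2 * n)) = 0 := by
      have e : (2 : ZMod (2 * n)) = (0 + 1) - (0 - 1) := by ring
      rw [e, h1]; ring
    exact_mod_cast this
  rw [ZMod.natCast_eq_zero_iff] at h2
  have := Nat.le_of_dvd (by norm_num) h2
  omega

end quaternion

end Cfsg.Agent.Helper1.ZasG
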