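import Mathlib
import Cfsg.Agent.Helper6.ZasDefs
import Cfsg.Agent.Helper6.ZasGDefs
import Cfsg.Agent.Helper1.ZasG3B
import Cfsg.Agent.Helper1.ZasG7B
import Cfsg.Agent.S0016
import Cfsg.Agent.S3378

/-!
Zassenhaus project (helper6), G-side, piece G7b (helper1), part C: the core of S0686 — a minimal non-abelian normal
subgroup `N` centralizing a maximal abelian normal subgroup `A` is `Q₈` or `SL(2,5)` — from `ZData`, the property (Z)
for `N`, and the quaternion Sylow 2-subgroups of perfect subgroups of order 120 (piece G4a, here a hypothesis).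
-/

set_option autoImplicit false
set_option linter.style.haveILetI false

namespace Cfsg.Agent.Helper1.ZasG

open Cfsg.Agent.Helper6.Zas Cfsg.Agent.Helper6.ZasG

theorem isMulCommutative_iff {H : Type*} [Group H] (C : Subgroup H) :
    IsMulCommutative ↥C ↔ ∀ x ∈ C, ∀ y ∈ C, x * y = y * x := by
  constructor
  · intro h x hx y hy
    exact congrArg Subtype.val (h.is_comm.comm ⟨x, hx⟩ ⟨y, hy⟩)
  · intro h
    exact ⟨⟨fun a b => Subtype.ext (h a a.2 b b.2)⟩⟩

/-- the core of S0686 -/
theorem s0686_core {H : Type*} [Group H] [Finite H] (A : Subgroup H) (hAn : A.Normal) (hAc : IsMulCommutative A)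
    (hAmax : ∀ B : Subgroup H, B.Normal → IsMulCommutative B → A ≤ B → B = A) (N : Subgroup H)
    (hNn : N.Normal) (hNle : N ≤ Subgroup.centralizer (A : Set H)) (hNna : ¬ IsMulCommutative N)
    (hNmin : ∀ M : Subgroup H, M.Normal → M ≤ N → ¬ IsMulCommutative M → M = N)
    (huniq : ∀ (q : ℕ) [Fact q.Prime], IsPGroup q ↥N → ∀ K₁ K₂ : Subgroup ↥N,
      Nat.card K₁ = q → Nat.card K₂ = q → K₁ = K₂)
    (hperfect : ⁅N, N⁆ = N → Nonempty (N ≃* Matrix.SpecialLinearGroup (Fin 2) (ZMod 5))) :
    Nonempty (N ≃* QuaternionGroup 2) ∨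
      Nonempty (N ≃* Matrix.SpecialLinearGroup (Fin 2) (ZMod 5)) := by
  have hAc' := (isMulCommutative_iff A).mp hAc
  -- normal abelian subgroups of `H` inside `N` are central in `N`
  have hcent : ∀ C : Subgroup H, C.Normal → C ≤ N → (∀ x ∈ C, ∀ y ∈ C, x * y = y * x) →
      ∀ c ∈ C, ∀ n ∈ N, c * n = n * c := by
    intro C hCn hCN hCc c hc n hn
    have hBn : (A ⊔ C).Normal := Subgroup.sup_normal A C
    have hBc : IsMulCommutative ↥(A ⊔ C) := by
      rw [Subgroup.sup_eq_closure]
      apply Subgroup.isMulCommutative_closure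
      rintro x (hx | hx) y (hy | hy)
      · exact hAc' x hx y hy
      · have := hNle (hCN hy)
        rw [Subgroup.mem_centralizer_iff] at this
        exact this x hx
      · have := hNle (hCN hx)
        rw [Subgroup.mem_centralizer_iff] at this
        exact (this y hy).symm
      · exact hCc x hx y hy
    have hB := hAmax (A ⊔ C) hBn hBc le_sup_left
    have hcA : c ∈ A := by rw [← hB]; exact Subgroup.mem_sup_right hc
    have := hNle hn
    rw [Subgroup.mem_centralizer_iff] at this
    exact this c hcA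
  have hN'n : (⁅N, N⁆ : Subgroup H).Normal := Subgroup.commutator_normal N N
  have hN'le : ⁅N, N⁆ ≤ N := Subgroup.commutator_le_right N N
  by_cases hN' : ∀ x ∈ ⁅N, N⁆, ∀ y ∈ ⁅N, N⁆, x * y = y * x
  · -- `N` is nilpotent of class 2
    left
    have hN'c := hcent _ hN'n hN'le hN'
    have hnil : Group.IsNilpotent ↥N := by
      rw [Subgroup.isNilpotent_iff_lowerCentralSeries]
      refine ⟨2, ?_⟩
      rw [Subgroup.lowerCentralSeries_succ, Subgroup.lowerCentralSeries_succ,
        Subgroup.lowerCentralSeries_zero, Subgroup.commutator_eq_bot_iff_le_centralizer]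
      intro c hc
      rw [Subgroup.mem_centralizer_iff]
      intro n hn
      exact (hN'c c hc n hn).symm
    -- some Sylow subgroup of `N` is not abelian
    have hex : ∃ (p : ℕ) (_ : Fact p.Prime) (P : Sylow p ↥N),
        ¬ ∀ x ∈ P, ∀ y ∈ P, x * y = y * x := by
      by_contra hcon
      push Not at hcon
      apply hNna
      rw [isMulCommutative_iff]
      intro x hx y hy
      have := comm_of_sylow_comm hnil (fun p inst P => hcon p inst P) ⟨x, hx⟩ ⟨y, hy⟩
      exact congrArg Subtype.val this
    obtain ⟨p, hp, P, hPnc⟩ := hex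
    have hPn : (P : Subgroup ↥N).Normal :=
      (Group.isNilpotent_of_finite_tfae (G := ↥N)).out 0 3 rfl rfl |>.mp hnil p hp P
    have hPHn := sylow_map_normal hNn P hPn
    have hPle : (P : Subgroup ↥N).map N.subtype ≤ N := Subgroup.map_subtype_le _
    have hPeq : (P : Subgroup ↥N).map N.subtype = N := by
      apply hNmin _ hPHn hPle
      rw [isMulCommutative_iff]
      intro hc
      apply hPnc
      intro x hx y hy
      apply Subtype.ext
      exact hc x ⟨x, hx, rfl⟩ y ⟨y, hy, rfl⟩
    -- so `N` is a `p`-group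
    have hNp : IsPGroup p ↥N := by
      have h1 : IsPGroup p ↥((P : Subgroup ↥N).map N.subtype) := P.2.map _
      rw [hPeq] at h1
      exact h1
    have hNnc : ¬ ∀ x ∈ N, ∀ y ∈ N, x * y = y * x := fun h => hNna ((isMulCommutative_iff N).mpr h)
    rcases Cfsg.Agent.S0016.result p hNp (huniq p hNp) with hcyc | ⟨-, n, ⟨e⟩⟩
    · exfalso
      apply hNnc
      intro x hx y hy
      obtain ⟨g, hg⟩ := hcyc.exists_generator
      obtain ⟨i, hi⟩ := Subgroup.mem_zpowers_iff.mp (hg ⟨x, hx⟩)
      obtain ⟨j, hj⟩ := Subgroup.mem_zpowers_iff.mp (hg ⟨y, hy⟩)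
      have : (⟨x, hx⟩ : ↥N) * ⟨y, hy⟩ = ⟨y, hy⟩ * ⟨x, hx⟩ := by
        rw [← hi, ← hj, ← zpow_add, ← zpow_add, add_comm]
      exact congrArg Subtype.val this
    · -- `N ≃* QuaternionGroup (2 ^ n)`
      rcases Nat.lt_or_ge n 2 with hn | hn
      · interval_cases n
        · exfalso
          apply hNnc
          haveI := QuaternionGroup.quaternionGroup_one_isCyclic
          have hc : ∀ a b : QuaternionGroup (2 ^ 0), a * b = b * a := by
            intro a b
            obtain ⟨g, hg⟩ := (QuaternionGroup.quaternionGroup_one_isCyclic).exists_generator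
            obtain ⟨i, hi⟩ := Subgroup.mem_zpowers_iff.mp (hg a)
            obtain ⟨j, hj⟩ := Subgroup.mem_zpowers_iff.mp (hg b)
            rw [← hi, ← hj, ← zpow_add, ← zpow_add, add_comm]
          intro x hx y hy
          have := hc (e ⟨x, hx⟩) (e ⟨y, hy⟩)
          rw [← map_mul, ← map_mul] at this
          exact congrArg Subtype.val (e.injective this)
        · exact ⟨e⟩
      · exfalso
        -- the subgroup generated by the elements of order `2 * 2 ^ n`
        have hm : 3 ≤ 2 ^ n := by
          calc 3 ≤ 2 ^ 2 := by norm_num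
            _ ≤ 2 ^ n := Nat.pow_le_pow_right (by norm_num) hn
        haveI : NeZero (2 ^ n) := ⟨by positivity⟩
        let C : Subgroup H := Subgroup.closure {g : H | g ∈ N ∧ orderOf g = 2 * 2 ^ n}
        have hCN : C ≤ N := by
          rw [Subgroup.closure_le]
          intro g hg; exact hg.1
        have hCn : C.Normal := by
          constructor
          intro x hx g
          induction hx using Subgroup.closure_induction with
          | mem y hy =>
            apply Subgroup.subset_closure
            refine ⟨hNn.conj_mem y hy.1 g, ?_⟩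
            rw [← hy.2]
            exact (SemiconjBy.orderOf_eq g (x := y) (y := g * y * g⁻¹)
              (by unfold SemiconjBy; group)).symm
          | one => simp
          | mul y z _ _ ihy ihz =>
            have : g * (y * z) * g⁻¹ = (g * y * g⁻¹) * (g * z * g⁻¹) := by group
            rw [this]; exact C.mul_mem ihy ihz
          | inv y _ ihy =>
            have : g * y⁻¹ * g⁻¹ = (g * y * g⁻¹)⁻¹ := by group
            rw [this]; exact C.inv_mem ihy
        have hgen : ∀ g : H, ∀ hg : g ∈ N, orderOf g = 2 * 2 ^ n →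
            ∃ i, e ⟨g, hg⟩ = QuaternionGroup.a i := by
          intro g hg ho
          apply exists_a_of_orderOf hm
          rw [MulEquiv.orderOf_eq, Subgroup.orderOf_mk, ho]
        have hCc : ∀ x ∈ C, ∀ y ∈ C, x * y = y * x := by
          have := Subgroup.isMulCommutative_closure
            (k := {g : H | g ∈ N ∧ orderOf g = 2 * 2 ^ n}) (by
            rintro x ⟨hxN, hxo⟩ y ⟨hyN, hyo⟩
            obtain ⟨i, hi⟩ := hgen x hxN hxo
            obtain ⟨j, hj⟩ := hgen y hyN hyo
            have h1 : e (⟨x, hxN⟩ * ⟨y, hyN⟩) = e (⟨y, hyN⟩ * ⟨x, hxN⟩) := by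
              rw [map_mul, map_mul, hi, hj, QuaternionGroup.a_mul_a, QuaternionGroup.a_mul_a,
                add_comm]
            exact congrArg Subtype.val (e.injective h1))
          exact (isMulCommutative_iff C).mp this
        have hCcent := hcent C hCn hCN hCc
        have hαN : ((e.symm (QuaternionGroup.a 1) : ↥N) : H) ∈ N := (e.symm (QuaternionGroup.a 1)).2
        have hαC : ((e.symm (QuaternionGroup.a 1) : ↥N) : H) ∈ C := by
          apply Subgroup.subset_closure
          refine ⟨hαN, ?_⟩
          rw [Subgroup.orderOf_coe, MulEquiv.orderOf_eq, QuaternionGroup.orderOf_a_one]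
        have hβN : ((e.symm (QuaternionGroup.xa 0) : ↥N) : H) ∈ N := (e.symm (QuaternionGroup.xa 0)).2
        have h1 := hCcent _ hαC _ hβN
        have h2 : e.symm (QuaternionGroup.a 1) * e.symm (QuaternionGroup.xa 0) =
            e.symm (QuaternionGroup.xa 0) * e.symm (QuaternionGroup.a 1) := Subtype.ext h1
        rw [← map_mul, ← map_mul] at h2
        exact a_one_not_comm (by omega) (e.symm.injective h2)
  · -- `N` is perfect
    right
    exact hperfect (hNmin _ hN'n hN'le (fun h => hN' ((isMulCommutative_iff _).mp h)))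

/-- the perfect case: a perfect subgroup of order 120 with quaternion Sylow 2-subgroups is `SL(2,5)` -/
theorem sl25_of_perfect {H : Type*} [Group H] [Finite H] (N : Subgroup H) (hNna : ¬ IsMulCommutative N)
    (hZP : ZProp N)
    (hQ : ⁅N, N⁆ = N → Nat.card N = 120 → ∀ P : Sylow 2 N,
      Nonempty ((P : Subgroup N) ≃* QuaternionGroup 2))
    (hperf : ⁅N, N⁆ = N) : Nonempty (N ≃* Matrix.SpecialLinearGroup (Fin 2) (ZMod 5)) := by
  have hNnc : ¬ ∀ x ∈ N, ∀ y ∈ N, x * y = y * x := fun h => hNna ((isMulCommutative_iff N).mpr h)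
  rcases hZP hperf with h1 | h120
  · exfalso
    apply hNnc
    intro x hx y hy
    have hsub : Subsingleton ↥N := (Nat.card_eq_one_iff_unique.mp h1).1
    have : (⟨x, hx⟩ : ↥N) = ⟨y, hy⟩ := Subsingleton.elim _ _
    have hxy : x = y := congrArg Subtype.val this
    rw [hxy]
  · have hperf' : commutator ↥N = ⊤ := commutator_eq_top_of_commutator_eq hperf
    haveI : Nontrivial ↥N := by
      rw [← Finite.one_lt_card_iff_nontrivial, h120]; norm_num
    have hns : ¬ Group.IsSolvable ↥N := not_isSolvable_of_perfect hperf'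
    exact (Cfsg.Agent.S3378.result).1 ↥N h120 hns (hQ hperf h120)

/-- PIECE G7b with piece G4a as a hypothesis -/
theorem s0686_of_zdata_aux {H : Type*} [Group H] [Finite H] (hZ : ZData H)
    (hmain : ∀ K : Subgroup H, MProp K ∧ ZProp K)
    (hQ : ∀ G : Subgroup H, ⁅G, G⁆ = G → Nat.card G = 120 → ∀ P : Sylow 2 G,
      Nonempty ((P : Subgroup G) ≃* QuaternionGroup 2))
    (A : Subgroup H) (hAn : A.Normal) (hAc : IsMulCommutative A)
    (hAmax : ∀ B : Subgroup H, B.Normal → IsMulCommutative B → A ≤ B → B = A) (N : Subgroup H)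
    (hNn : N.Normal) (hNle : N ≤ Subgroup.centralizer (A : Set H)) (hNna : ¬ IsMulCommutative N)
    (hNmin : ∀ M : Subgroup H, M.Normal → M ≤ N → ¬ IsMulCommutative M → M = N) :
    Nonempty (N ≃* QuaternionGroup 2) ∨
      Nonempty (N ≃* Matrix.SpecialLinearGroup (Fin 2) (ZMod 5)) :=
  s0686_core A hAn hAc hAmax N hNn hNle hNna hNmin
    (fun _ _ hNq => unique_order_p hZ N hNq)
    (sl25_of_perfect N hNna (hmain N).2 (hQ N))

end Cfsg.Agent.Helper1.ZasG
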