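import Cfsg.Agent.Helper1.ZasG7C
import Cfsg.Agent.Helper5.ZasG4A

/-!
# Zassenhaus project, piece G7b (helper1): `s0686_of_zdata`

Exact stub of `notes/helper6_zassenhaus_gside_stubs.lean.txt`: `s0686_of_zdata_aux` (ZasG7C) with the
Sylow-2 hypothesis discharged by helper5's G4a `Cfsg.Agent.Helper5.ZasG4.sylow_two_quaternion`.
-/

open Cfsg.Agent.Helper6.Zas Cfsg.Agent.Helper6.ZasG

namespace Cfsg.Agent.Helper1.ZasG

/-- PIECE G7b: S0686 from the main induction: a normal subgroup `N` that is minimal among the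
non-abelian normal subgroups (centralizing a maximal abelian normal subgroup) is `Q₈` or
`SL(2,5)`. -/
theorem s0686_of_zdata {H : Type*} [Group H] [Finite H] (hZ : ZData H)
    (hmain : ∀ K : Subgroup H, MProp K ∧ ZProp K)
    (A : Subgroup H) (hAn : A.Normal) (hAc : IsMulCommutative A)
    (hAmax : ∀ B : Subgroup H, B.Normal → IsMulCommutative B → A ≤ B → B = A) (N : Subgroup H)
    (hNn : N.Normal) (hNle : N ≤ Subgroup.centralizer (A : Set H)) (hNna : ¬ IsMulCommutative N)
    (hNmin : ∀ M : Subgroup H, M.Normal → M ≤ N → ¬ IsMulCommutative M → M = N) :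
    Nonempty (N ≃* QuaternionGroup 2) ∨
      Nonempty (N ≃* Matrix.SpecialLinearGroup (Fin 2) (ZMod 5)) :=
  s0686_of_zdata_aux hZ hmain
    (fun G hp hc P => Cfsg.Agent.Helper5.ZasG4.sylow_two_quaternion hZ G hp hc P)
    A hAn hAc hAmax N hNn hNle hNna hNmin

end Cfsg.Agent.Helper1.ZasG
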