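import Mathlib
import Cfsg.Agent.S0040
import Cfsg.Agent.Helper1.ZasG7A
import Cfsg.Agent.Helper1.ZasG7D

/-!
Zassenhaus project (helper6), G-side, S0686 branch (helper1), part E: the odd-order case.

A group of fixed-point-free automorphisms of a finite group has cyclic or generalized quaternion Sylow
subgroups (S0040 on `K ⋊ G`; the construction is the one of helper3's G8a
`Cfsg.Agent.Helper3.ZasG.even_card_of_perfect_fpf`, Helper3/ZasG8.lean, with the perfectness hypothesis removed);
so if its order is odd it is a Z-group.  A regular linear group of odd order is a Z-group, and S0686 holds for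
Z-groups (vacuously: a minimal non-abelian normal subgroup centralizing a maximal abelian normal subgroup
would be a cyclic `q`-group).
-/

set_option autoImplicit false
set_option linter.style.haveILetI false

namespace Cfsg.Agent.Helper1.ZasG

open Cfsg.Agent.Helper6.Zas Cfsg.Agent.Helper6.ZasG SemidirectProduct

/-- Sylow subgroups of a group of fixed-point-free automorphisms of a non-trivial finite group are
cyclic or generalized quaternion (S0040 on `K ⋊ G`). -/
theorem sylow_of_fpf {K : Type*} [Group K] [Finite K] [hKnt : Nontrivial K] (G : Subgroup (MulAut K))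
    (hfpf : ∀ φ ∈ G, φ ≠ 1 → ∀ k : K, φ k = k → k = 1) (p : ℕ) [Fact p.Prime] (P : Sylow p G) :
    IsCyclic P ∨ ∃ n : ℕ, Nonempty (P ≃* QuaternionGroup (2 ^ n)) := by
  -- the semidirect product
  obtain ⟨φ, hφ⟩ : ∃ φ : ↥G →* MulAut K, φ = G.subtype := ⟨_, rfl⟩
  have hφa : ∀ (g : ↥G) (k : K), φ g k = (g : MulAut K) k := by
    intro g k; rw [hφ]; rfl
  haveI : Finite (MulAut K) :=
    Finite.of_injective (fun f : MulAut K => (f : K → K)) DFunLike.coe_injective
  haveI : Finite (K ⋊[φ] ↥G) := Finite.of_equiv _ (equivProd (φ := φ)).symm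
  obtain ⟨N, hN⟩ : ∃ N : Subgroup (K ⋊[φ] ↥G), N = (inl : K →* K ⋊[φ] ↥G).range := ⟨_, rfl⟩
  obtain ⟨H, hH⟩ : ∃ H : Subgroup (K ⋊[φ] ↥G), H = (inr : ↥G →* K ⋊[φ] ↥G).range := ⟨_, rfl⟩
  haveI hNn : N.Normal := by
    rw [hN, range_inl_eq_ker_rightHom]
    infer_instance
  have hdisj : Disjoint N H := by
    rw [Subgroup.disjoint_def]
    intro x hxN hxH
    rw [hN] at hxN
    rw [hH] at hxH
    obtain ⟨k, rfl⟩ := hxN
    obtain ⟨g, hg⟩ := hxH
    have h1 : g = 1 := by
      have := congrArg SemidirectProduct.right hg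
      simpa using this
    rw [← hg, h1, map_one]
  have hcardN : Nat.card ↥N = Nat.card K := by
    rw [hN]
    exact Nat.card_congr (MonoidHom.ofInjective inl_injective).toEquiv.symm
  have hcardH : Nat.card ↥H = Nat.card ↥G := by
    rw [hH]
    exact Nat.card_congr (MonoidHom.ofInjective inr_injective).toEquiv.symm
  have hc : Subgroup.IsComplement' N H := by
    apply Subgroup.isComplement'_of_card_mul_and_disjoint _ hdisj
    rw [hcardN, hcardH, SemidirectProduct.card]
  have hNne : N ≠ ⊥ := by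
    intro h
    have h1 : Nat.card ↥N = 1 := by rw [h]; exact Subgroup.card_bot
    rw [hcardN] at h1
    have := Finite.one_lt_card_iff_nontrivial.2 hKnt
    omega
  have hfpf' : ∀ h ∈ H, h ≠ 1 → N ⊓ Subgroup.centralizer {h} = ⊥ := by
    intro h hhH hh1
    rw [hH] at hhH
    obtain ⟨g, rfl⟩ := hhH
    have hg1 : (g : MulAut K) ≠ 1 := by
      intro h1
      apply hh1
      have : g = 1 := Subtype.ext h1
      rw [this, map_one]
    rw [eq_bot_iff]
    intro x hx
    obtain ⟨hxN, hxC⟩ := Subgroup.mem_inf.mp hx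
    rw [hN] at hxN
    obtain ⟨k, rfl⟩ := hxN
    rw [Subgroup.mem_centralizer_iff] at hxC
    have h2 := hxC (inr g) (Set.mem_singleton _)
    have h3 : (inl (φ g k) : K ⋊[φ] ↥G) = inl k := by
      rw [inl_aut, h2, mul_assoc, ← map_mul, mul_inv_cancel, map_one, mul_one]
    have h4 : φ g k = k := inl_injective h3
    rw [hφa] at h4
    have h5 := hfpf g g.2 hg1 k h4
    rw [Subgroup.mem_bot, h5, map_one]
  -- transport the Sylow subgroup
  obtain ⟨e, he⟩ : ∃ e : ↥G ≃* ↥H, ∀ g, ((e g : ↥H) : K ⋊[φ] ↥G) = inr g := by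
    subst hH
    exact ⟨MonoidHom.ofInjective inr_injective, fun g => rfl⟩
  obtain ⟨P', hP'⟩ : ∃ P' : Sylow p ↥H, (P' : Subgroup ↥H) = (P : Subgroup ↥G).map e.toMonoidHom :=
    ⟨P.mapSurjective (f := e.toMonoidHom) e.surjective, Sylow.coe_mapSurjective _ P⟩
  have eP : ↥(P : Subgroup ↥G) ≃* ↥(P' : Subgroup ↥H) :=
    (e.subgroupMap (P : Subgroup ↥G)).trans (MulEquiv.subgroupCongr hP'.symm)
  rcases Cfsg.Agent.S0040.result N H hc hNne hfpf' p P' with hcyc | ⟨n, ⟨f⟩⟩
  · left
    haveI := hcyc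
    exact isCyclic_of_surjective eP.symm eP.symm.surjective
  · right
    exact ⟨n, ⟨eP.trans f⟩⟩

/-- A group of odd order of fixed-point-free automorphisms of a finite group is a Z-group. -/
theorem isZGroup_of_fpf_odd {K : Type*} [Group K] [Finite K] (G : Subgroup (MulAut K))
    (hfpf : ∀ φ ∈ G, φ ≠ 1 → ∀ k : K, φ k = k → k = 1) (hodd : ¬ 2 ∣ Nat.card G) :
    IsZGroup ↥G := by
  haveI : Finite (MulAut K) :=
    Finite.of_injective (fun f : MulAut K => (f : K → K)) DFunLike.coe_injective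
  refine ⟨fun p hp P => ?_⟩
  haveI : Fact p.Prime := ⟨hp⟩
  by_cases hK : Nontrivial K
  · rcases sylow_of_fpf G hfpf p P with h | ⟨n, ⟨f⟩⟩
    · exact h
    · exfalso
      apply hodd
      have h1 : Nat.card ↥(P : Subgroup ↥G) = 4 * 2 ^ n := by
        rw [Nat.card_congr f.toEquiv, Nat.card_eq_fintype_card, QuaternionGroup.card]
      have h2 : Nat.card ↥(P : Subgroup ↥G) ∣ Nat.card ↥G := Subgroup.card_subgroup_dvd_card _
      rw [h1] at h2
      exact Dvd.dvd.trans ⟨2 * 2 ^ n, by ring⟩ h2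
  · rw [not_nontrivial_iff_subsingleton] at hK
    haveI : Subsingleton (MulAut K) := ⟨fun a b => by ext k; exact Subsingleton.elim _ _⟩
    haveI : Subsingleton ↥(P : Subgroup ↥G) := ⟨fun a b => Subtype.ext (Subtype.ext (Subsingleton.elim _ _))⟩
    exact isCyclic_of_subsingleton

/-- A linear group of odd order over the prime field, regular on the non-zero vectors, is a Z-group. -/
theorem isZGroup_of_regular_odd {p : ℕ} [Fact p.Prime] {V : Type*} [AddCommGroup V]
    [Module (ZMod p) V] [Finite V] (H : Subgroup (V ≃ₗ[ZMod p] V))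
    (hreg : ∀ v w : V, v ≠ 0 → w ≠ 0 → ∃! h : H, (h : V ≃ₗ[ZMod p] V) v = w)
    (hodd : ¬ 2 ∣ Nat.card H) : IsZGroup ↥H := by
  haveI : Finite (V ≃ₗ[ZMod p] V) :=
    Finite.of_injective (fun f : V ≃ₗ[ZMod p] V => (f : V → V)) DFunLike.coe_injective
  have hinj : Function.Injective (toMulAut (R := ZMod p) (V := V)) := toMulAut_injective
  have hfpf : ∀ φ ∈ H.map (toMulAut (R := ZMod p) (V := V)), φ ≠ 1 →
      ∀ k : Multiplicative V, φ k = k → k = 1 := by
    rintro _ ⟨h, hh, rfl⟩ hne k hk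
    by_contra hk1
    apply hne
    have hv : Multiplicative.toAdd k ≠ 0 := fun h0 => hk1 (by
      have : k = Multiplicative.ofAdd (Multiplicative.toAdd k) := rfl
      rw [this, h0]; rfl)
    obtain ⟨u, -, huniq⟩ := hreg _ _ hv hv
    have e1 : (⟨h, hh⟩ : ↥H) = u := huniq ⟨h, hh⟩ (by
      have := congrArg Multiplicative.toAdd hk
      exact this)
    have e2 : (1 : ↥H) = u := huniq 1 rfl
    have e3 : (⟨h, hh⟩ : ↥H) = 1 := e1.trans e2.symm
    have : h = 1 := congrArg Subtype.val e3
    rw [this, map_one]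
  have hodd' : ¬ 2 ∣ Nat.card ↥(H.map (toMulAut (R := ZMod p) (V := V))) := by
    rw [Subgroup.card_map_of_injective hinj]; exact hodd
  haveI : Finite (Multiplicative V) := inferInstanceAs (Finite V)
  haveI := isZGroup_of_fpf_odd (H.map (toMulAut (R := ZMod p) (V := V))) hfpf hodd'
  exact IsZGroup.of_injective (f := (H.equivMapOfInjective _ hinj).toMonoidHom)
    (H.equivMapOfInjective _ hinj).injective

/-- S0686 for Z-groups (vacuous: `N` would be a cyclic `q`-group). -/
theorem s0686_of_isZGroup {H : Type*} [Group H] [Finite H] [IsZGroup H]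
    (A : Subgroup H) (hAn : A.Normal) (hAc : IsMulCommutative A)
    (hAmax : ∀ B : Subgroup H, B.Normal → IsMulCommutative B → A ≤ B → B = A) (N : Subgroup H)
    (hNn : N.Normal) (hNle : N ≤ Subgroup.centralizer (A : Set H)) (hNna : ¬ IsMulCommutative N)
    (hNmin : ∀ M : Subgroup H, M.Normal → M ≤ N → ¬ IsMulCommutative M → M = N) :
    Nonempty (N ≃* QuaternionGroup 2) ∨
      Nonempty (N ≃* Matrix.SpecialLinearGroup (Fin 2) (ZMod 5)) := by
  refine s0686_core A hAn hAc hAmax N hNn hNle hNna hNmin ?_ ?_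
  · intro q _ hNq
    exfalso
    apply hNna
    haveI : Group.IsNilpotent ↥N := hNq.isNilpotent
    haveI : IsCyclic ↥N := inferInstance
    exact ⟨⟨fun a b => (IsCyclic.commGroup (α := ↥N)).mul_comm a b⟩⟩
  · intro hperf
    exfalso
    haveI : Nontrivial ↥N := by
      by_contra h
      rw [not_nontrivial_iff_subsingleton] at h
      exact hNna ⟨⟨fun a b => Subsingleton.elim _ _⟩⟩
    have h1 := IsZGroup.commutator_lt (G := ↥N)
    rw [commutator_eq_top_of_commutator_eq hperf] at h1
    exact lt_irrefl _ h1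

/-- S0686, assuming the main induction of the Zassenhaus project (as a hypothesis). -/
theorem s0686_of_main {p : ℕ} [Fact p.Prime] {V : Type*} [AddCommGroup V] [Module (ZMod p) V]
    [Finite V] (H : Subgroup (V ≃ₗ[ZMod p] V))
    (hreg : ∀ v w : V, v ≠ 0 → w ≠ 0 → ∃! h : H, (h : V ≃ₗ[ZMod p] V) v = w)
    (hmain : ZData H → ∀ K : Subgroup H, MProp K ∧ ZProp K)
    (A : Subgroup H) (hAn : A.Normal) (hAc : IsMulCommutative A)
    (hAmax : ∀ B : Subgroup H, B.Normal → IsMulCommutative B → A ≤ B → B = A) (N : Subgroup H)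
    (hNn : N.Normal) (hNle : N ≤ Subgroup.centralizer (A : Set H)) (hNna : ¬ IsMulCommutative N)
    (hNmin : ∀ M : Subgroup H, M.Normal → M ≤ N → ¬ IsMulCommutative M → M = N) :
    Nonempty (N ≃* QuaternionGroup 2) ∨
      Nonempty (N ≃* Matrix.SpecialLinearGroup (Fin 2) (ZMod 5)) := by
  haveI : Finite (V ≃ₗ[ZMod p] V) :=
    Finite.of_injective (fun f : V ≃ₗ[ZMod p] V => (f : V → V)) DFunLike.coe_injective
  by_cases h2 : 2 ∣ Nat.card H
  · have hZ := zdata_of_regular H hreg h2
    exact s0686_of_zdata hZ (hmain hZ) A hAn hAc hAmax N hNn hNle hNna hNmin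
  · haveI := isZGroup_of_regular_odd H hreg h2
    exact s0686_of_isZGroup A hAn hAc hAmax N hNn hNle hNna hNmin

end Cfsg.Agent.Helper1.ZasG
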